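import Groth.Statements.S0500
import Groth.Agent.Lib.Helper1.HenselRoot

set_option autoImplicit false
universe u
open Hensel

namespace Groth.Agent.S0500

/-- If every algebra over a local ring that is finitely generated as a module is ring-isomorphic to a
finite product of local rings, then the local ring is henselian. -/
theorem result (R : Type u) [CommRing R] [IsLocalRing R]
    (h : ∀ (S : Type u) [CommRing S] [Algebra R S], Module.Finite R S →
      ∃ (ι : Type u) (_ : Fintype ι) (A : ι → Type u) (_ : ∀ i, CommRing (A i)),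
        (∀ i, IsLocalRing (A i)) ∧ Nonempty (S ≃+* (∀ i, A i))) :
    HenselianLocalRing R := by
  open Polynomial IsLocalRing Groth.Agent.Helper1 in
  classical
  refine ((HenselianLocalRing.TFAE R).out 1 0).mp ?_
  intro f hf a₀ h₁ h₂
  have hroot : (f.map (residue R)).IsRoot a₀ := by rw [IsRoot.def, eval_map]; exact h₁
  have hder : (derivative (f.map (residue R))).eval a₀ ≠ 0 := by
    rw [derivative_map, eval_map]; exact h₂
  obtain ⟨h₀, hh₀⟩ := dvd_iff_isRoot.mpr hroot
  have hh₀a : h₀.eval a₀ ≠ 0 := by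
    have : (derivative (f.map (residue R))).eval a₀ = h₀.eval a₀ := by
      rw [hh₀]; simp
    rwa [← this]
  obtain ⟨H, hH⟩ := Polynomial.map_surjective (residue R) Ideal.Quotient.mk_surjective h₀
  obtain ⟨a, rfl⟩ := IsLocalRing.residue_surjective a₀
  change aeval (residue R a) f = 0 at h₁
  let χ : AdjoinRoot f →ₐ[R] ResidueField R :=
    AdjoinRoot.liftAlgHom f (Algebra.ofId R _) (residue R a) h₁
  have hχmk : ∀ p : R[X], χ (AdjoinRoot.mk f p) = (p.map (residue R)).eval (residue R a) := by
    intro p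
    rw [eval_map]; rfl
  have hJ : ∀ p : R[X], p.map (residue R) = 0 →
      AdjoinRoot.mk f p ∈ (maximalIdeal R).map (algebraMap R (AdjoinRoot f)) :=
    mk_mem_map_maximalIdeal_of_map_eq_zero f
  have hfin : Module.Finite R (AdjoinRoot f) := hf.finite_adjoinRoot
  obtain ⟨ι, _, A, _, hloc, ⟨φ⟩⟩ := h (AdjoinRoot f) hfin
  let E : ι → AdjoinRoot f := fun i ↦ φ.symm (Pi.single i 1)
  have hsum : ∑ i, E i = 1 := by
    simp only [E, ← map_sum, Finset.univ_sum_single]
    exact map_one φ.symm
  have hmulsingle : ∀ (i : ι) (c : AdjoinRoot f) (x : A i),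
      c * φ.symm (Pi.single i x) = φ.symm (Pi.single i ((φ c) i * x)) := by
    intro i c x
    apply φ.injective
    rw [map_mul, RingEquiv.apply_symm_apply, RingEquiv.apply_symm_apply]
    funext j
    by_cases hj : j = i
    · subst hj; simp
    · simp [hj]
  obtain ⟨i₀, hi₀⟩ : ∃ i, χ (E i) ≠ 0 := by
    by_contra hcon
    push Not at hcon
    have := congr(χ $hsum)
    rw [map_sum, map_one, Finset.sum_eq_zero (fun i _ ↦ hcon i)] at this
    exact zero_ne_one this
  have hEidem : IsIdempotentElem (E i₀) := by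
    change E i₀ * E i₀ = E i₀
    simp only [E]
    rw [hmulsingle, RingEquiv.apply_symm_apply]; simp
  have hχE : χ (E i₀) = 1 := by
    have := hEidem.map χ
    rcases (IsIdempotentElem.iff_eq_zero_or_one.mp this) with h0 | h1
    · exact absurd h0 hi₀
    · exact h1
  have hχH : χ (AdjoinRoot.mk f H) = h₀.eval (residue R a) := by rw [hχmk, hH]
  -- the image of `H` in the local factor is a unit
  have hunit : IsUnit ((φ (AdjoinRoot.mk f H)) i₀) := by
    by_contra hnu
    obtain ⟨z, hz⟩ := IsLocalRing.residue_surjective (h₀.eval (residue R a))⁻¹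
    have hnu' : (φ (algebraMap R _ z * AdjoinRoot.mk f H)) i₀ ∈ nonunits (A i₀) := by
      rw [map_mul, Pi.mul_apply, mem_nonunits_iff]
      exact fun hu ↦ hnu (isUnit_of_mul_isUnit_right hu)
    have := hloc i₀
    obtain ⟨y', hy'⟩ := (IsLocalRing.isUnit_one_sub_self_of_mem_nonunits _ hnu').exists_right_inv
    have h5 := hmulsingle i₀ (1 - algebraMap R _ z * AdjoinRoot.mk f H) y'
    have h6 : (φ (1 - algebraMap R _ z * AdjoinRoot.mk f H)) i₀ * y' = 1 := by
      rw [map_sub, map_one, Pi.sub_apply, Pi.one_apply]; exact hy'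
    rw [h6] at h5
    have h7 := congr(χ $h5)
    rw [map_mul, map_sub, map_one, map_mul, AlgHom.commutes, hχH] at h7
    change (1 - residue R z * _) * _ = χ (E i₀) at h7
    rw [hz, inv_mul_cancel₀ hh₀a, sub_self, zero_mul, hχE] at h7
    exact zero_ne_one h7
  obtain ⟨d', hd'⟩ := hunit.exists_right_inv
  have hw : AdjoinRoot.mk f H * φ.symm (Pi.single i₀ d') = E i₀ := by
    rw [hmulsingle, hd']
  have hTH : (AdjoinRoot.root f - algebraMap R _ a) * AdjoinRoot.mk f H ∈
      (maximalIdeal R).map (algebraMap R (AdjoinRoot f)) := by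
    have h0 : ((X - C a) * H - f).map (residue R) = 0 := by
      rw [Polynomial.map_sub, Polynomial.map_mul, hH, hh₀]; simp
    have h3 := hJ _ h0
    rw [map_sub, AdjoinRoot.mk_self, sub_zero, map_mul] at h3
    simpa [AdjoinRoot.algebraMap_eq] using h3
  have hJe : (AdjoinRoot.root f - algebraMap R _ a) * E i₀ ∈
      (maximalIdeal R).map (algebraMap R (AdjoinRoot f)) := by
    rw [← hw, ← mul_assoc]
    exact Ideal.mul_mem_right _ _ hTH
  exact exists_root_of_idempotent f hf a χ (AdjoinRoot.liftAlgHom_root ..) _ hEidem hχE hJe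

end Groth.Agent.S0500
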