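import Groth.Statements.S0505
import Groth.Agent.Lib.Helper1.HenselFinite
import Groth.Agent.S0500

set_option autoImplicit false
universe u
open Hensel

namespace Groth.Agent.S0505

/-- A local ring which is finitely generated as a module over a henselian local ring is itself
henselian. -/
theorem result (R : Type u) [CommRing R] [HenselianLocalRing R]
    (S : Type u) [CommRing S] [IsLocalRing S] [Algebra R S] [Module.Finite R S] :
    HenselianLocalRing S := by
  refine Groth.Agent.S0500.result S fun T _ _ hT ↦ ?_
  let _ : Algebra R T := ((algebraMap S T).comp (algebraMap R S)).toAlgebra
  have : IsScalarTower R S T := IsScalarTower.of_algebraMap_eq fun _ ↦ rfl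
  have : Module.Finite R T := Module.Finite.trans S T
  exact Groth.Agent.Helper1.exists_ringEquiv_pi_isLocalRing R T

end Groth.Agent.S0505
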