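import Groth.Statements.S0427
import Mathlib
import Groth.Agent.Lib.Helper2.Oli3
import Groth.Agent.Lib.Helper3.WEField
-- import your own Groth.Agent.* helpers here

set_option autoImplicit false
universe u
open FlatMor

namespace Groth.Agent.S0427

section
open CategoryTheory CategoryTheory.Limits AlgebraicGeometry Opposite Topology
open TensorProduct IsLocalRing Groth.Agent.Helper2.Oli

variable {A B : Type u} [CommRing A] [CommRing B] [HenselianLocalRing A] [IsLocalRing B]
  [IsSepClosed (IsLocalRing.ResidueField A)] [Algebra A B] [IsLocalHom (algebraMap A B)]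
  [Algebra.WeaklyEtale A B]

/-- Two ring maps from `B` to a field agreeing on `A` are equal. -/
theorem ringHom_eq_of_comp_eq {Ω : Type u} [Field Ω] (g₁ g₂ : B →+* Ω)
    (h : g₁.comp (algebraMap A B) = g₂.comp (algebraMap A B)) : g₁ = g₂ := by
  letI : Algebra A Ω := (g₁.comp (algebraMap A B)).toAlgebra
  let p : Ideal A := RingHom.ker (algebraMap A Ω)
  haveI : p.IsPrime := RingHom.ker_isPrime _
  let K := p.ResidueField
  let σ : K →ₐ[A] Ω := Ideal.ResidueField.liftₐ p (Algebra.ofId A Ω) le_rfl (by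
    intro a ha
    rw [Submonoid.mem_comap]
    change IsUnit _
    rw [isUnit_iff_ne_zero]
    exact fun h0 => ha h0)
  let G₁ : B →ₐ[A] Ω := ⟨g₁, fun a => rfl⟩
  let G₂ : B →ₐ[A] Ω := ⟨g₂, fun a => (RingHom.congr_fun h a).symm⟩
  let h₁ : K ⊗[A] B →ₐ[A] Ω := Algebra.TensorProduct.productMap σ G₁
  let h₂ : K ⊗[A] B →ₐ[A] Ω := Algebra.TensorProduct.productMap σ G₂
  ext b
  obtain ⟨c, hc⟩ := exists_one_tmul_eq_algebraMap p b
  have e₁ : h₁ ((1 : K) ⊗ₜ[A] b) = g₁ b := by
    change Algebra.TensorProduct.productMap σ G₁ _ = _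
    rw [Algebra.TensorProduct.productMap_apply_tmul, map_one, one_mul]; rfl
  have e₂ : h₂ ((1 : K) ⊗ₜ[A] b) = g₂ b := by
    change Algebra.TensorProduct.productMap σ G₂ _ = _
    rw [Algebra.TensorProduct.productMap_apply_tmul, map_one, one_mul]; rfl
  have e₃ : h₁ (algebraMap K (K ⊗[A] B) c) = σ c := by
    rw [Algebra.TensorProduct.algebraMap_apply]
    change Algebra.TensorProduct.productMap σ G₁ _ = _
    rw [Algebra.TensorProduct.productMap_apply_tmul, map_one, mul_one]; rfl
  have e₄ : h₂ (algebraMap K (K ⊗[A] B) c) = σ c := by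
    rw [Algebra.TensorProduct.algebraMap_apply]
    change Algebra.TensorProduct.productMap σ G₂ _ = _
    rw [Algebra.TensorProduct.productMap_apply_tmul, map_one, mul_one]; rfl
  rw [← e₁, ← e₂, hc, e₃, e₄]

theorem sub_mem_of_isPrime (Q : Ideal (B ⊗[A] B)) [Q.IsPrime] (b : B) :
    b ⊗ₜ[A] (1 : B) - (1 : B) ⊗ₜ[A] b ∈ Q := by
  let Ω := FractionRing ((B ⊗[A] B) ⧸ Q)
  let ψ : B ⊗[A] B →+* Ω := (algebraMap ((B ⊗[A] B) ⧸ Q) Ω).comp (Ideal.Quotient.mk Q)
  let g₁ : B →+* Ω := ψ.comp (Algebra.TensorProduct.includeLeft : B →ₐ[A] B ⊗[A] B).toRingHom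
  let g₂ : B →+* Ω := ψ.comp (Algebra.TensorProduct.includeRight : B →ₐ[A] B ⊗[A] B).toRingHom
  have h : g₁.comp (algebraMap A B) = g₂.comp (algebraMap A B) := by
    ext a
    change ψ (Algebra.TensorProduct.includeLeft (algebraMap A B a)) =
      ψ (Algebra.TensorProduct.includeRight (algebraMap A B a))
    rw [AlgHom.commutes, AlgHom.commutes]
  have h' := RingHom.congr_fun (ringHom_eq_of_comp_eq g₁ g₂ h) b
  have h2 : ψ (b ⊗ₜ[A] (1 : B) - (1 : B) ⊗ₜ[A] b) = 0 := by
    rw [map_sub, sub_eq_zero]; exact h'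
  have h3 : Ideal.Quotient.mk Q (b ⊗ₜ[A] (1 : B) - (1 : B) ⊗ₜ[A] b) = 0 :=
    IsFractionRing.injective ((B ⊗[A] B) ⧸ Q) Ω (by rw [map_zero]; exact h2)
  exact Ideal.Quotient.eq_zero_iff_mem.mp h3

theorem ker_lmul'_eq_bot : KaehlerDifferential.ideal A B = ⊥ := by
  have hle : KaehlerDifferential.ideal A B ≤ nilradical (B ⊗[A] B) := by
    rw [← KaehlerDifferential.span_range_eq_ideal, Ideal.span_le]
    rintro _ ⟨b, rfl⟩
    change _ ∈ nilradical _
    rw [nilradical_eq_sInf, Ideal.mem_sInf]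
    intro Q hQ
    haveI : Q.IsPrime := hQ
    have h1 := sub_mem_of_isPrime Q b
    rw [← Ideal.neg_mem_iff] at h1
    rwa [neg_sub] at h1
  have hflat := Algebra.WeaklyEtale.flat_lmul' A B
  have hsurj : Function.Surjective (Algebra.TensorProduct.lmul' A (S := B)).toRingHom :=
    fun y => ⟨y ⊗ₜ 1, by simp⟩
  haveI hp : (KaehlerDifferential.ideal A B).Pure :=
    (Groth.Agent.Helper3.WEField.flat_iff_pure_ker _ hsurj).mp hflat
  rw [eq_bot_iff]
  intro z hz
  obtain ⟨y, hy, hzy⟩ := Ideal.exists_eq_mul_of_pure hz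
  obtain ⟨n, hn⟩ := mem_nilradical.mp (hle hy)
  have key : ∀ m, z = z * y ^ m := by
    intro m
    induction m with
    | zero => simp
    | succ m ih => rw [pow_succ, ← mul_assoc, ← ih, ← hzy]
  rw [Submodule.mem_bot, key n, hn, mul_zero]

theorem tmul_one_eq_one_tmul (b : B) : b ⊗ₜ[A] (1 : B) = (1 : B) ⊗ₜ[A] b := by
  have h : b ⊗ₜ[A] (1 : B) - (1 : B) ⊗ₜ[A] b ∈ KaehlerDifferential.ideal A B := by
    simp [RingHom.mem_ker]
  rw [ker_lmul'_eq_bot, Submodule.mem_bot] at h
  exact sub_eq_zero.mp h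

theorem main : Function.Bijective (algebraMap A B) := by
  haveI : Module.FaithfullyFlat A B := Module.FaithfullyFlat.of_flat_of_isLocalHom
  refine ⟨FaithfulSMul.algebraMap_injective A B, ?_⟩
  let N := B ⧸ LinearMap.range (Algebra.linearMap A B)
  let π : B →ₗ[A] N := Submodule.mkQ _
  have hπ1 : π 1 = 0 := by
    rw [Submodule.mkQ_apply, Submodule.Quotient.mk_eq_zero]
    exact ⟨1, by simp⟩
  haveI : Subsingleton (N ⊗[A] B) := by
    have hs : Function.Surjective (LinearMap.rTensor B π) :=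
      LinearMap.rTensor_surjective B (Submodule.mkQ_surjective _)
    refine ⟨fun u v => ?_⟩
    have : ∀ w : N ⊗[A] B, w = 0 := by
      intro w
      obtain ⟨t, rfl⟩ := hs w
      induction t using TensorProduct.induction_on with
      | zero => simp
      | tmul b b' =>
        have e : b ⊗ₜ[A] b' = (1 : B) ⊗ₜ[A] (b * b') := by
          have : b ⊗ₜ[A] b' = (b ⊗ₜ[A] (1 : B)) * ((1 : B) ⊗ₜ[A] b') := by
            rw [Algebra.TensorProduct.tmul_mul_tmul, mul_one, one_mul]
          rw [this, tmul_one_eq_one_tmul, Algebra.TensorProduct.tmul_mul_tmul, mul_one]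
        rw [e, LinearMap.rTensor_tmul, hπ1, TensorProduct.zero_tmul]
      | add x y hx hy => rw [map_add, hx, hy, add_zero]
    rw [this u, this v]
  haveI : Subsingleton N := Module.FaithfullyFlat.rTensor_reflects_triviality A B N
  intro b
  have : π b = 0 := Subsingleton.elim _ _
  rw [Submodule.mkQ_apply, Submodule.Quotient.mk_eq_zero] at this
  obtain ⟨a, ha⟩ := this
  exact ⟨a, ha⟩

end

/-- A result of Olivier: a local homomorphism from a strictly henselian local ring (henselian with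
separably closed residue field) to a local ring that is weakly étale is an isomorphism. -/
theorem result {A B : Type u} [CommRing A] [CommRing B] [HenselianLocalRing A] [IsLocalRing B]
    [IsSepClosed (IsLocalRing.ResidueField A)] [Algebra A B] [IsLocalHom (algebraMap A B)] [Algebra.WeaklyEtale A B] :
    Function.Bijective (algebraMap A B) := by
  exact Groth.Agent.S0427.main

end Groth.Agent.S0427
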