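import Groth.Statements.S0343
import Groth.Agent.Lib.Helper8.Gor7

set_option autoImplicit false
universe u v
open Goren

namespace Groth.Agent.S0343
open IsLocalRing Groth.Agent.Helper8 Groth.Agent.Helper8.LC Groth.Agent.Helper8.Gor
open scoped Pointwise

/-- For a Noetherian local ring A and a non-zero-divisor f in the maximal ideal, A is Gorenstein exactly
when A/(f) is. -/
theorem result (A : Type u) [CommRing A] [IsLocalRing A] [IsNoetherianRing A] (f : A) (hf : f ∈ IsLocalRing.maximalIdeal A) (hreg : IsSMulRegular A f) : LocCoh.IsGorensteinLocalRing A ↔ LocCoh.IsGorensteinLocalRing (A ⧸ Ideal.span {f}) := by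
  have hne : Ideal.span {f} ≠ ⊤ := by
    intro h
    have h1 : (1 : A) ∈ maximalIdeal A := by
      have h2 : Ideal.span {f} ≤ maximalIdeal A := (Ideal.span_singleton_le_iff_mem _).mpr hf
      exact h2 (h ▸ Submodule.mem_top)
    exact (Ideal.ne_top_iff_one _).mp (maximalIdeal.isMaximal A).ne_top h1
  haveI : Nontrivial (A ⧸ Ideal.span {f}) := Ideal.Quotient.nontrivial_iff.mpr hne
  haveI : IsLocalRing (A ⧸ Ideal.span {f}) :=
    IsLocalRing.of_surjective' (Ideal.Quotient.mk (Ideal.span {f})) Ideal.Quotient.mk_surjective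
  have hsurj : Function.Surjective (algebraMap A (A ⧸ Ideal.span {f})) :=
    Ideal.Quotient.mk_surjective
  have hmap : (maximalIdeal A).map (algebraMap A (A ⧸ Ideal.span {f})) =
      maximalIdeal (A ⧸ Ideal.span {f}) :=
    IsLocalRing.map_maximalIdeal_of_surjective _ hsurj
  rw [gorenstein_iff_socle A, gorenstein_iff_socle (A ⧸ Ideal.span {f}),
    socle_cond_iff_quot hf hreg, ← hmap]
  let X : BMod A (A ⧸ Ideal.span {f}) := { carrier := A ⧸ Ideal.span {f} }
  let eq : (A ⧸ f • (⊤ : Submodule A A)) ≃ₗ[A] (A ⧸ Ideal.span {f}) :=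
    (Groth.Agent.Lead.Depth.quotSpanSelfEquiv f).symm
  have hsub : ∀ i : ℕ, Subsingleton (H (maximalIdeal A) i (A ⧸ f • (⊤ : Submodule A A))) ↔
      Subsingleton (H ((maximalIdeal A).map (algebraMap A (A ⧸ Ideal.span {f}))) i
        (A ⧸ Ideal.span {f})) := by
    intro i
    rw [subsingleton_H_map_iff (maximalIdeal A) X i]
    exact (Hcongr (maximalIdeal A) i eq).toEquiv.subsingleton_congr
  have hsim : ∀ d : ℕ, IsSimpleModule A (Submodule.torsionBySet A
        (H (maximalIdeal A) d (A ⧸ f • (⊤ : Submodule A A))) (maximalIdeal A : Set A)) ↔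
      IsSimpleModule (A ⧸ Ideal.span {f}) (Submodule.torsionBySet (A ⧸ Ideal.span {f})
        (H ((maximalIdeal A).map (algebraMap A (A ⧸ Ideal.span {f}))) d (A ⧸ Ideal.span {f}))
        (((maximalIdeal A).map (algebraMap A (A ⧸ Ideal.span {f})) : Ideal _) : Set _)) := by
    intro d
    rw [isSimpleModule_socle_map_iff (maximalIdeal A) X hsurj d]
    have e' := Groth.Agent.Helper8.Uniq.torsionBySetCongr (Hcongr (maximalIdeal A) d eq)
      (maximalIdeal A : Set A)
    exact ⟨fun h => IsSimpleModule.congr e'.symm, fun h => IsSimpleModule.congr e'⟩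
  constructor
  · rintro ⟨d, h1, h2⟩
    exact ⟨d, fun i hi => (hsub i).mp (h1 i hi), (hsim d).mp h2⟩
  · rintro ⟨d, h1, h2⟩
    exact ⟨d, fun i hi => (hsub i).mpr (h1 i hi), (hsim d).mpr h2⟩

end Groth.Agent.S0343
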