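import Groth.Statements.S5754
import Mathlib

set_option autoImplicit false
universe u
open EGA41

namespace Groth.Agent.S5754

/-- Let A be a Noetherian ring, M a finitely generated A-module and t an element of A which is
M-regular. For every associated prime p of M, every prime ideal minimal among those containing p +
tA is an associated prime of M/tM. -/
theorem result (A : Type u) [CommRing A]
    [IsNoetherianRing A] (M : Type u) [AddCommGroup M] [Module A M] [Module.Finite A M] (t : A)
    (ht : IsSMulRegular M t) (p : Ideal A) (hp : p ∈ associatedPrimes A M) (q : Ideal A)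
    (hq : q ∈ (p ⊔ Ideal.span {t}).minimalPrimes) : q ∈ associatedPrimes A (QuotSMulTop t M) := by
  classical
  obtain ⟨hpp, x, hx⟩ := isAssociatedPrime_iff.mp (AssociatedPrimes.mem_iff.mp hp)
  -- N = (0 :_M p)
  let N : Submodule A M :=
    { carrier := {y | ∀ a ∈ p, a • y = 0}
      add_mem' := fun {y z} hy hz a ha => by rw [smul_add, hy a ha, hz a ha, add_zero]
      zero_mem' := fun a _ => smul_zero a
      smul_mem' := fun c y hy a ha => by rw [smul_comm, hy a ha, smul_zero] }
  have hxN : x ∈ N := fun a ha => by
    rw [hx, Submodule.mem_colon_singleton] at ha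
    simpa using ha
  haveI : IsNoetherian A M := isNoetherian_of_isNoetherianRing_of_finite A M
  haveI : Module.Finite A N := Module.Finite.of_injective N.subtype N.injective_subtype
  -- annihilator of N is ≤ p
  have hann : Module.annihilator A N ≤ p := by
    intro a ha
    rw [hx, Submodule.mem_colon_singleton]
    have := Module.mem_annihilator.mp ha ⟨x, hxN⟩
    simpa using congrArg Subtype.val this
  -- the injection N/tN → M/tM
  have hinj : Function.Injective (QuotSMulTop.map t N.subtype) := by
    rw [injective_iff_map_eq_zero]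
    intro y hy
    obtain ⟨y, rfl⟩ := Submodule.Quotient.mk_surjective _ y
    rw [QuotSMulTop.map_apply_mk, Submodule.Quotient.mk_eq_zero] at hy
    obtain ⟨z, -, hz⟩ := (Submodule.mem_smul_pointwise_iff_exists _ _ _).mp hy
    have hzN : z ∈ N := by
      intro a ha
      apply ht
      change t • a • z = t • (0 : M)
      rw [smul_zero, smul_comm, hz]
      exact y.2 a ha
    rw [Submodule.Quotient.mk_eq_zero]
    refine (Submodule.mem_smul_pointwise_iff_exists _ _ _).mpr ⟨⟨z, hzN⟩, Submodule.mem_top, ?_⟩
    exact Subtype.ext hz
  apply associatedPrimes.subset_of_injective hinj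
  apply Module.associatedPrimes.minimalPrimes_annihilator_subset_associatedPrimes
  have hq' := hq
  rw [Ideal.minimalPrimes, Set.mem_setOf_eq] at hq'
  haveI := hq'.prop.1
  have hle : Module.annihilator A (QuotSMulTop t N) ≤ q := by
    rw [← Module.mem_support_iff_of_finite (p := ⟨q, inferInstance⟩), Module.support_quotSMulTop]
    refine ⟨?_, ?_⟩
    · rw [Module.mem_support_iff_of_finite]
      exact hann.trans (le_sup_left.trans hq'.prop.2)
    · rw [PrimeSpectrum.mem_zeroLocus, Set.singleton_subset_iff]
      exact hq'.prop.2 (Ideal.mem_sup_right (Ideal.mem_span_singleton_self t))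
  have hge : p ⊔ Ideal.span {t} ≤ Module.annihilator A (QuotSMulTop t N) := by
    rw [sup_le_iff, Ideal.span_singleton_le_iff_mem]
    refine ⟨fun a ha => ?_, ?_⟩
    · rw [Module.mem_annihilator]
      intro y
      obtain ⟨y, rfl⟩ := Submodule.Quotient.mk_surjective _ y
      rw [← Submodule.Quotient.mk_smul]
      have : a • y = 0 := Subtype.ext (y.2 a ha)
      rw [this, Submodule.Quotient.mk_zero]
    · rw [Module.mem_annihilator]
      intro y
      obtain ⟨y, rfl⟩ := Submodule.Quotient.mk_surjective _ y
      rw [← Submodule.Quotient.mk_smul, Submodule.Quotient.mk_eq_zero]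
      exact Submodule.smul_mem_pointwise_smul _ _ _ Submodule.mem_top
  rw [Ideal.minimalPrimes, Set.mem_setOf_eq]
  refine ⟨⟨hq'.prop.1, hle⟩, fun q' hq'' hq'q => ?_⟩
  exact hq'.le_of_le ⟨hq''.1, hge.trans hq''.2⟩ hq'q

end Groth.Agent.S5754
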