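import Mathlib
import Groth.Statements.S6773

set_option autoImplicit false
open CategoryTheory
universe v u v' u'
open DeltaF

namespace Groth.Agent.S6773

open CategoryTheory.Limits DeltaF.CohDeltaFunctor

section
variable {A : Type u} [Category.{v} A] [Abelian A] {B : Type u'} [Category.{v'} B] [Abelian B]
  (T T' : DeltaF.CohDeltaFunctor A B ℕ) (n : ℕ) (τ : T.F n ⟶ T'.F n)

/-- the short exact sequence attached to a monomorphism -/
noncomputable abbrev seqOf {X W : A} (v : X ⟶ W) : ShortComplex A :=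
  ShortComplex.mk v (cokernel.π v) (cokernel.condition v)

theorem seqOf_shortExact {X W : A} (v : X ⟶ W) [Mono v] : (seqOf v).ShortExact :=
  ShortComplex.ShortExact.mk' (ShortComplex.exact_of_g_is_cokernel _ (cokernelIsCokernel v))
    (show Mono v from inferInstance) (show Epi (cokernel.π v) from inferInstance)

/-- morphism from the sequence of a mono to a short complex -/
noncomputable def seqOfHom {X W : A} (v : X ⟶ W) (S' : ShortComplex A) (φ₁ : X ⟶ S'.X₁)
    (φ₂ : W ⟶ S'.X₂) (h : v ≫ φ₂ = φ₁ ≫ S'.f) : seqOf v ⟶ S' where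
  τ₁ := φ₁
  τ₂ := φ₂
  τ₃ := cokernel.desc v (φ₂ ≫ S'.g) (by rw [reassoc_of% h, S'.zero, comp_zero])
  comm₁₂ := h.symm
  comm₂₃ := by simp [seqOf]

/-- compatibility of a candidate component with the connecting morphisms of `S` -/
def Compat (S : ShortComplex A) (hS : S.ShortExact)
    (b : (T.F (n + 1)).obj S.X₁ ⟶ (T'.F (n + 1)).obj S.X₁) : Prop :=
  T.δ S hS n (n + 1) rfl ≫ b = τ.app S.X₃ ≫ T'.δ S hS n (n + 1) rfl

theorem epi_δ (S : ShortComplex A) (hS : S.ShortExact) (h0 : (T.F (n + 1)).map S.f = 0) :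
    Epi (T.δ S hS n (n + 1) rfl) :=
  (T.exact₁ S hS n (n + 1) rfl).epi_f h0

theorem exists_compat (S : ShortComplex A) (hS : S.ShortExact) (h0 : (T.F (n + 1)).map S.f = 0) :
    ∃ b, Compat T T' n τ S hS b := by
  have hex := T.exact₃ S hS n (n + 1) rfl
  have : Epi (ShortComplex.mk _ _ (T.comp_δ S hS n (n + 1) rfl)).g := epi_δ T n S hS h0
  refine ⟨hex.desc (τ.app S.X₃ ≫ T'.δ S hS n (n + 1) rfl) ?_, ?_⟩
  · show (T.F n).map S.g ≫ τ.app S.X₃ ≫ T'.δ S hS n (n + 1) rfl = 0
    rw [τ.naturality_assoc, T'.comp_δ, comp_zero]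
  · exact hex.g_desc _ _

theorem lemmaA {S S' : ShortComplex A} (hS : S.ShortExact) (hS' : S'.ShortExact) (φ : S ⟶ S')
    (h0 : (T.F (n + 1)).map S.f = 0) (b : (T.F (n + 1)).obj S.X₁ ⟶ (T'.F (n + 1)).obj S.X₁)
    (b' : (T.F (n + 1)).obj S'.X₁ ⟶ (T'.F (n + 1)).obj S'.X₁)
    (hb : Compat T T' n τ S hS b) (hb' : Compat T T' n τ S' hS' b') :
    b ≫ (T'.F (n + 1)).map φ.τ₁ = (T.F (n + 1)).map φ.τ₁ ≫ b' := by
  have := epi_δ T n S hS h0
  rw [← cancel_epi (T.δ S hS n (n + 1) rfl)]
  unfold Compat at hb hb'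
  have e1 := T.δ_natural hS hS' φ n (n + 1) rfl
  rw [reassoc_of% hb, ← T'.δ_natural hS hS' φ n (n + 1) rfl, ← τ.naturality_assoc, ← hb',
    reassoc_of% e1]

end


section
variable {A : Type u} [Category.{v} A] [Abelian A] {B : Type u'} [Category.{v'} B] [Abelian B]
  (T T' : DeltaF.CohDeltaFunctor A B ℕ) (hT : T.IsEffaceable) (n : ℕ) (τ : T.F n ⟶ T'.F n)

/-- chosen effacing object -/
noncomputable def effY (X : A) : A := (hT n X).choose

/-- chosen effacing monomorphism -/
noncomputable def effU (X : A) : X ⟶ effY T hT n X := (hT n X).choose_spec.choose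

instance effU_mono (X : A) : Mono (effU T hT n X) := (hT n X).choose_spec.choose_spec.1

theorem effU_zero (X : A) : (T.F (n + 1)).map (effU T hT n X) = 0 :=
  (hT n X).choose_spec.choose_spec.2

/-- the component of the next natural transformation -/
noncomputable def tauObj (X : A) : (T.F (n + 1)).obj X ⟶ (T'.F (n + 1)).obj X :=
  (exists_compat T T' n τ (seqOf (effU T hT n X)) (seqOf_shortExact _) (effU_zero T hT n X)).choose

theorem tauObj_compat (X : A) : Compat T T' n τ (seqOf (effU T hT n X)) (seqOf_shortExact _)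
    (tauObj T T' hT n τ X) :=
  (exists_compat T T' n τ (seqOf (effU T hT n X)) (seqOf_shortExact _) (effU_zero T hT n X)).choose_spec

theorem map_lift_zero {X Y Y' : A} (a : X ⟶ Y) (b : X ⟶ Y') (ha : (T.F (n + 1)).map a = 0)
    (hb : (T.F (n + 1)).map b = 0) : (T.F (n + 1)).map (biprod.lift a b) = 0 := by
  have : biprod.lift a b = a ≫ biprod.inl + b ≫ biprod.inr := by
    ext <;> simp
  rw [this, Functor.map_add, Functor.map_comp, Functor.map_comp, ha, hb, zero_comp, zero_comp,
    add_zero]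

theorem lemmaB (S : ShortComplex A) (hS : S.ShortExact) (h0 : (T.F (n + 1)).map S.f = 0) :
    Compat T T' n τ S hS (tauObj T T' hT n τ S.X₁) := by
  have := hS.mono_f
  have hmono : Mono (biprod.lift S.f (effU T hT n S.X₁)) :=
    mono_of_mono_fac (biprod.lift_fst S.f (effU T hT n S.X₁))
  have hv0 := map_lift_zero T n S.f (effU T hT n S.X₁) h0 (effU_zero T hT n S.X₁)
  obtain ⟨bv, hbv⟩ := exists_compat T T' n τ (seqOf (biprod.lift S.f (effU T hT n S.X₁)))
    (seqOf_shortExact _) hv0
  obtain ⟨bS, hbS⟩ := exists_compat T T' n τ S hS h0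
  have h1 := lemmaA T T' n τ (seqOf_shortExact _) (seqOf_shortExact _)
    (seqOfHom (biprod.lift S.f (effU T hT n S.X₁)) (seqOf (effU T hT n S.X₁)) (𝟙 _) biprod.snd
      (by simp [seqOf])) hv0 bv (tauObj T T' hT n τ S.X₁) hbv (tauObj_compat T T' hT n τ S.X₁)
  have h2 := lemmaA T T' n τ (seqOf_shortExact _) hS
    (seqOfHom (biprod.lift S.f (effU T hT n S.X₁)) S (𝟙 _) biprod.fst (by simp)) hv0 bv bS hbv hbS
  simp only [seqOfHom, CategoryTheory.Functor.map_id, Category.comp_id, Category.id_comp] at h1 h2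
  have h3 : bS = tauObj T T' hT n τ S.X₁ := h2.symm.trans h1
  rw [← h3]
  exact hbS

theorem lemmaC (S : ShortComplex A) (hS : S.ShortExact) :
    Compat T T' n τ S hS (tauObj T T' hT n τ S.X₁) := by
  have := hS.mono_f
  have := hS.epi_g
  have hmono : Mono (S.f ≫ effU T hT n S.X₂) := mono_comp _ _
  have hv0 : (T.F (n + 1)).map (S.f ≫ effU T hT n S.X₂) = 0 := by
    rw [Functor.map_comp, effU_zero, comp_zero]
  have hB := lemmaB T T' hT n τ (seqOf (S.f ≫ effU T hT n S.X₂)) (seqOf_shortExact _) hv0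
  let φ : S ⟶ seqOf (S.f ≫ effU T hT n S.X₂) :=
    { τ₁ := 𝟙 _
      τ₂ := effU T hT n S.X₂
      τ₃ := hS.exact.desc (effU T hT n S.X₂ ≫ cokernel.π (S.f ≫ effU T hT n S.X₂)) (by
        rw [← Category.assoc, cokernel.condition])
      comm₁₂ := by simp [seqOf]
      comm₂₃ := by simp [seqOf] }
  have e1 := T.δ_natural hS (seqOf_shortExact (S.f ≫ effU T hT n S.X₂)) φ n (n + 1) rfl
  have e2 := T'.δ_natural hS (seqOf_shortExact (S.f ≫ effU T hT n S.X₂)) φ n (n + 1) rfl
  unfold Compat at hB ⊢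
  have hφ₁ : φ.τ₁ = 𝟙 _ := rfl
  rw [hφ₁, CategoryTheory.Functor.map_id, Category.comp_id] at e1 e2
  change T.δ S hS n (n + 1) rfl ≫ tauObj T T' hT n τ S.X₁ = _
  rw [← e1, Category.assoc]
  erw [hB]
  rw [τ.naturality_assoc, e2]

theorem lemmaD {X X' : A} (f : X ⟶ X') :
    (T.F (n + 1)).map f ≫ tauObj T T' hT n τ X' = tauObj T T' hT n τ X ≫ (T'.F (n + 1)).map f := by
  have hmono : Mono (biprod.lift (effU T hT n X) (f ≫ effU T hT n X')) :=
    mono_of_mono_fac (biprod.lift_fst _ _)
  have hv0 := map_lift_zero T n (effU T hT n X) (f ≫ effU T hT n X') (effU_zero T hT n X)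
    (by rw [Functor.map_comp, effU_zero, comp_zero])
  have hB := lemmaB T T' hT n τ (seqOf (biprod.lift (effU T hT n X) (f ≫ effU T hT n X')))
    (seqOf_shortExact _) hv0
  have h1 := lemmaA T T' n τ (seqOf_shortExact _) (seqOf_shortExact _)
    (seqOfHom (biprod.lift (effU T hT n X) (f ≫ effU T hT n X')) (seqOf (effU T hT n X')) f
      biprod.snd (by simp [seqOf])) hv0 _ (tauObj T T' hT n τ X') hB (tauObj_compat T T' hT n τ X')
  exact h1.symm

/-- the next natural transformation -/
noncomputable def step : T.F (n + 1) ⟶ T'.F (n + 1) where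
  app := tauObj T T' hT n τ
  naturality _ _ f := lemmaD T T' hT n τ f

end


section
variable {A : Type u} [Category.{v} A] [Abelian A] {B : Type u'} [Category.{v'} B] [Abelian B]
  (T T' : DeltaF.CohDeltaFunctor A B ℕ) (hT : T.IsEffaceable)

/-- the family of natural transformations extending `t` -/
noncomputable def tauSeq (t : T.F 0 ⟶ T'.F 0) : ∀ n, T.F n ⟶ T'.F n
  | 0 => t
  | n + 1 => step T T' hT n (tauSeq t n)

end

/-- An effaceable cohomological delta-functor (for every degree `n + 1 ≥ 1` and every object `X` there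
is a monomorphism out of `X` killed by the functor in that degree) is universal. Delta-functors here
are indexed by `ℕ` and are not required to be left exact in degree `0`; universality is tested
against all such delta-functors. -/
theorem result {A : Type u} [Category.{v} A] [Abelian A] {B : Type u'} [Category.{v'} B] [Abelian B] (T : DeltaF.CohDeltaFunctor A B ℕ) (hT : T.IsEffaceable) : T.IsUniversal := by
  intro T' t
  refine ⟨⟨tauSeq T T' hT t, ?_⟩, rfl, ?_⟩
  · intro S hS n₀ n₁ h
    subst h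
    exact lemmaC T T' hT n₀ (tauSeq T T' hT t n₀) S hS
  · intro σ hσ
    apply DeltaF.CohDeltaFunctor.hom_ext
    intro n
    induction n with
    | zero => exact hσ
    | succ n ih =>
      ext X
      have := epi_δ T n (seqOf (effU T hT n X)) (seqOf_shortExact _) (effU_zero T hT n X)
      rw [← cancel_epi (T.δ (seqOf (effU T hT n X)) (seqOf_shortExact _) n (n + 1) rfl)]
      have h1 := σ.comm (seqOf (effU T hT n X)) (seqOf_shortExact _) n (n + 1) rfl
      have h2 := lemmaC T T' hT n (tauSeq T T' hT t n) (seqOf (effU T hT n X)) (seqOf_shortExact _)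
      unfold Compat at h2
      rw [ih] at h1
      exact h1.trans h2.symm

end Groth.Agent.S6773
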