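import Groth.Statements.S0793
import Groth.Agent.Lib.Helper2.ProperOver
-- import your own Groth.Agent.* helpers here

set_option autoImplicit false
universe u
open Coherent

namespace Groth.Agent.S0793

open CategoryTheory AlgebraicGeometry Limits in
theorem aux {X S X' S' : Scheme.{u}} (f : X ⟶ S) [LocallyOfFiniteType f]
    (g : S' ⟶ S) (g' : X' ⟶ X) (f' : X' ⟶ S') (sq : IsPullback g' f' f g)
    (Z : Set X) (hZ : ClSub.IsProperOver f Z) : ClSub.IsProperOver f' (⇑g' ⁻¹' Z) := by
  obtain ⟨h, hp⟩ := hZ
  have : LocallyOfFiniteType f' := MorphismProperty.of_isPullback sq inferInstance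
  let ι := (Scheme.IdealSheafData.vanishingIdeal ⟨Z, h⟩).subschemeι
  have hr : Set.range (pullback.fst g' ι) = ⇑g' ⁻¹' Z := by
    rw [Scheme.Pullback.range_fst, Groth.Agent.Helper2.range_red]
  rw [Groth.Agent.Helper2.isProperOver_iff_of_closedImmersion f' (pullback.fst g' ι) _ hr]
  have big : IsPullback (pullback.snd g' ι) (pullback.fst g' ι ≫ f') (ι ≫ f) g :=
    (IsPullback.of_hasPullback g' ι).flip.paste_vert sq
  exact MorphismProperty.of_isPullback big hp

open CategoryTheory AlgebraicGeometry in
/-- Consider a cartesian square with X' = X ×_S S', projections g' : X' → X and f' : X' → S', where f :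
X → S is locally of finite type. If Z ⊆ X is closed and proper over S, then its preimage under g' is
closed in X' and proper over S'. -/
theorem result {X S X' S' : Scheme.{u}} (f : X ⟶ S) [LocallyOfFiniteType f]
    (g : S' ⟶ S) (g' : X' ⟶ X) (f' : X' ⟶ S') (sq : IsPullback g' f' f g)
    (Z : Set X) (hZ : ClSub.IsProperOver f Z) : ClSub.IsProperOver f' (⇑g' ⁻¹' Z) := by
  exact aux f g g' f' sq Z hZ

end Groth.Agent.S0793
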