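import Groth.Statements.S0788
import Groth.Agent.Lib.Helper2.ProperOver
-- import your own Groth.Agent.* helpers here

set_option autoImplicit false
universe u
open Coherent

namespace Groth.Agent.S0788

open CategoryTheory AlgebraicGeometry in
theorem aux {X Y S : Scheme.{u}} (p : X ⟶ S) (q : Y ⟶ S)
    [LocallyOfFiniteType p] [LocallyOfFiniteType q] [IsSeparated q] (f : X ⟶ Y) (w : f ≫ q = p)
    (Z : Set X) (hZ : ClSub.IsProperOver p Z) : ClSub.IsProperOver q (⇑f '' Z) := by
  refine Groth.Agent.Helper2.isProperOver_image p q f w Z hZ (fun h => ?_)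
  obtain ⟨h', hp⟩ := hZ
  have : IsProper (((Scheme.IdealSheafData.vanishingIdeal ⟨Z, h⟩).subschemeι ≫ f) ≫ q) := by
    rw [Category.assoc, w]; exact hp
  have : IsProper ((Scheme.IdealSheafData.vanishingIdeal ⟨Z, h⟩).subschemeι ≫ f) :=
    IsProper.of_comp _ q
  infer_instance

open CategoryTheory AlgebraicGeometry in
/-- Let X and Y be schemes locally of finite type over S, with Y separated over S, and f : X → Y a
morphism over S. If Z ⊆ X is closed and proper over S (reduced induced structure), its image f(Z) is
again closed in Y and proper over S. -/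
theorem result {X Y S : Scheme.{u}} (p : X ⟶ S) (q : Y ⟶ S)
    [LocallyOfFiniteType p] [LocallyOfFiniteType q] [IsSeparated q] (f : X ⟶ Y) (w : f ≫ q = p)
    (Z : Set X) (hZ : ClSub.IsProperOver p Z) : ClSub.IsProperOver q (⇑f '' Z) := by
  exact aux p q f w Z hZ

end Groth.Agent.S0788
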