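import Groth.Statements.S16020
import Mathlib
import Groth.Prelude.Def_CechEdge
import Groth.Agent.Lib.Helper24.CechEdgeLib

set_option autoImplicit false
universe u
open CategoryTheory CategoryTheory.Limits Opposite
open CechEdge

namespace Groth.Agent.S16020


open Groth.Agent.Helper24.CechEv Groth.Agent.Helper24.CechDelta Groth.Agent.Helper24.CechEff
  Groth.Agent.Helper24.CechH Groth.Agent.Helper24.CechEdgeLib

section
variable {C : Type u} [SmallCategory C] [HasPullbacks C]
    (J : GrothendieckTopology C) {U : C} {ι : Type u} (Y : ι → Over U)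

/-- the morphism of δ-functors attached to an edge family -/
noncomputable def homOfEdge
    (e : ∀ (P : Cᵒᵖ ⥤ AddCommGrpCat.{u}) (p : ℕ), CohCx.cechH P Y p →+ CohSite.HU (CechEdge.shf J P) p U)
    (he : CechEdge.IsEdge J Y e) : TC Y ⟶ TH J U where
  app n :=
    { app := fun P => AddCommGrpCat.ofHom (e P n)
      naturality := fun P Q φ => by
        ext x
        exact he.natural P Q φ n x }
  comm S hS n₀ n₁ h := by
    subst h
    ext x
    exact he.delta S hS (shortExact_map Y S hS) n₀ x

lemma homOfEdge_app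
    (e : ∀ (P : Cᵒᵖ ⥤ AddCommGrpCat.{u}) (p : ℕ), CohCx.cechH P Y p →+ CohSite.HU (CechEdge.shf J P) p U)
    (he : CechEdge.IsEdge J Y e) (P : Cᵒᵖ ⥤ AddCommGrpCat.{u}) (p : ℕ) :
    (((homOfEdge J Y e he).app p).app P).hom = e P p := rfl

omit [HasPullbacks C] in
lemma isIso_shfMap_toSheafify (P : Cᵒᵖ ⥤ AddCommGrpCat.{u}) :
    IsIso (CechEdge.shfMap J (toSheafify J P)) := by
  have h := (sheafificationAdjunction J AddCommGrpCat.{u}).left_triangle_components P
  have : CechEdge.shfMap J (toSheafify J P) =
      inv ((sheafificationAdjunction J AddCommGrpCat.{u}).counit.app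
        ((presheafToSheaf J AddCommGrpCat.{u}).obj P)) := by
    rw [← cancel_mono ((sheafificationAdjunction J AddCommGrpCat.{u}).counit.app
        ((presheafToSheaf J AddCommGrpCat.{u}).obj P)), IsIso.inv_hom_id]
    exact h
  rw [this]
  infer_instance

omit [HasPullbacks C] in
lemma HUmap_injective_of_isIso {F G : Sheaf J AddCommGrpCat.{u}} (ψ : F ⟶ G) [IsIso ψ] (p : ℕ) (U : C) :
    Function.Injective (CechEdge.HUmap ψ p U) := by
  have : IsIso ((Abelian.extFunctorObj (CohCx.freeSheaf J U) p).map ψ) := inferInstance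
  exact ((ConcreteCategory.bijective_of_isIso
    ((Abelian.extFunctorObj (CohCx.freeSheaf J U) p).map ψ))).1

lemma edge_zero_eq
    (e e' : ∀ (P : Cᵒᵖ ⥤ AddCommGrpCat.{u}) (p : ℕ), CohCx.cechH P Y p →+ CohSite.HU (CechEdge.shf J P) p U)
    (he : CechEdge.IsEdge J Y e) (he' : CechEdge.IsEdge J Y e') (P : Cᵒᵖ ⥤ AddCommGrpCat.{u})
    (x : CohCx.cechH P Y 0) : e P 0 x = e' P 0 x := by
  have := isIso_shfMap_toSheafify J P
  apply HUmap_injective_of_isIso J (CechEdge.shfMap J (toSheafify J P)) 0 U
  rw [← he.natural, ← he'.natural]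
  obtain ⟨s, hs⟩ := (toCech_bijective Y (CechEdge.shf J P).obj J (CechEdge.shf J P).property he.cover).2
    (CechEdge.cechHMap Y (toSheafify J P) 0 x)
  rw [← hs, he.zero, he'.zero]

end

/-- On a small site with fibre products, two edge families for the same family of objects over U
coincide; the degree-0 condition, naturality in the presheaf and compatibility with connecting
homomorphisms determine the comparison maps in every degree. -/
theorem result {C : Type u} [SmallCategory C] [HasPullbacks C]
    (J : GrothendieckTopology C) {U : C} {ι : Type u} (Y : ι → Over U)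
    (e e' : ∀ (P : Cᵒᵖ ⥤ AddCommGrpCat.{u}) (p : ℕ), CohCx.cechH P Y p →+ CohSite.HU (CechEdge.shf J P) p U)
    (he : CechEdge.IsEdge J Y e) (he' : CechEdge.IsEdge J Y e') : e = e' := by
  have h0 : (homOfEdge J Y e he).app 0 = (homOfEdge J Y e' he').app 0 := by
    ext P x
    exact edge_zero_eq J Y e e' he he' P x
  have huniq := (isUniversal Y (TH J U) ((homOfEdge J Y e' he').app 0)).unique h0 rfl
  funext P p
  rw [← homOfEdge_app J Y e he, ← homOfEdge_app J Y e' he', huniq]

end Groth.Agent.S16020
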