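import Groth.Statements.S16022
import Mathlib
import Groth.Prelude.Def_CechEdge
import Groth.Agent.Lib.Helper24.CechInj

set_option autoImplicit false
universe u
open CategoryTheory CategoryTheory.Limits Opposite
open CechEdge

namespace Groth.Agent.S16022


open Groth.Agent.Helper24.CechEv Groth.Agent.Helper24.CechDelta Groth.Agent.Helper24.CechEff
  Groth.Agent.Helper24.CechH Groth.Agent.Helper24.CechEdgeLib Groth.Agent.Helper24.CechInj

section
variable {C : Type u} [SmallCategory C] (J : GrothendieckTopology C)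

lemma subsingleton_HU_of_iso {F F' : Sheaf J AddCommGrpCat.{u}} (α : F ≅ F') (n : ℕ) (W : C)
    (h : Subsingleton (CohSite.HU F n W)) : Subsingleton (CohSite.HU F' n W) :=
  (Groth.Agent.S16020.HUmap_injective_of_isIso J α.inv n W).subsingleton

/-- the counit isomorphism `(F.obj)^# ≅ F` -/
noncomputable def counitIso (F : Sheaf J AddCommGrpCat.{u}) : CechEdge.shf J F.obj ≅ F :=
  asIso ((sheafificationAdjunction J AddCommGrpCat.{u}).counit.app F)

lemma subsingleton_HU_shf_injective (I : Sheaf J AddCommGrpCat.{u}) [Injective I] (n : ℕ) (W : C) :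
    Subsingleton (CohSite.HU (CechEdge.shf J I.obj) (n+1) W) := by
  have : Injective (CechEdge.shf J I.obj) := Injective.of_iso (counitIso J I).symm inferInstance
  exact Abelian.Ext.subsingleton_of_injective _ _ n

variable {F I : Sheaf J AddCommGrpCat.{u}} (i : F ⟶ I) [Mono i]

/-- the sheafified short exact sequence -/
lemma shf_shortExact : ((sesP i).map (presheafToSheaf J AddCommGrpCat.{u})).ShortExact :=
  (sesP_shortExact i).map_of_exact (presheafToSheaf J AddCommGrpCat.{u})

lemma subsingleton_HU_shf_coker [Injective I] (W : C) (q : ℕ)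
    (h : Subsingleton (CohSite.HU F (q+2) W)) :
    Subsingleton (CohSite.HU (CechEdge.shf J (sesP i).X₃) (q+1) W) := by
  have h1 : Subsingleton (CohSite.HU (CechEdge.shf J F.obj) (q+2) W) :=
    subsingleton_HU_of_iso J (counitIso J F).symm _ _ h
  have h2 : Subsingleton (CohSite.HU (CechEdge.shf J I.obj) (q+1) W) :=
    subsingleton_HU_shf_injective J I q W
  have ex := (ShortComplex.ab_exact_iff _).1
    ((extDelta (CohCx.freeSheaf J W)).exact₃ _ (shf_shortExact J i) (q+1) (q+2) rfl)
  refine subsingleton_of_forall_eq 0 fun x => ?_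
  obtain ⟨w, hw⟩ := ex x (Subsingleton.elim (α := CohSite.HU (CechEdge.shf J F.obj) (q+2) W) _ _)
  rw [← hw, Subsingleton.elim (α := CohSite.HU (CechEdge.shf J I.obj) (q+1) W) w 0]
  exact map_zero _

lemma toSheafify_coker_surjective (W : C) (h : Subsingleton (CohSite.HU F 1 W)) :
    Function.Surjective ((toSheafify J (sesP i).X₃).app (op W)).hom := by
  intro t
  have h1 : Subsingleton (CohSite.HU (CechEdge.shf J F.obj) 1 W) :=
    subsingleton_HU_of_iso J (counitIso J F).symm _ _ h
  have ex := (ShortComplex.ab_exact_iff _).1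
    ((extDelta (CohCx.freeSheaf J W)).exact₃ _ (shf_shortExact J i) 0 1 rfl)
  obtain ⟨w, hw⟩ := ex (CechEdge.sectH0 J W (CechEdge.shf J (sesP i).X₃) t)
    (Subsingleton.elim (α := CohSite.HU (CechEdge.shf J F.obj) 1 W) _ _)
  obtain ⟨s', rfl⟩ := (CechEdge.sectH0 J W (CechEdge.shf J I.obj)).surjective w
  have hw2 := (sectH0_naturality J (CechEdge.shfMap J (sesP i).g) W s').symm.trans hw
  have ht := (CechEdge.sectH0 J W (CechEdge.shf J (sesP i).X₃)).injective hw2
  have hiso : IsIso (toSheafify J I.obj) := isIso_toSheafify J I.property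
  have hb : Function.Bijective ((toSheafify J I.obj).app (op W)).hom :=
    ConcreteCategory.bijective_of_isIso ((toSheafify J I.obj).app (op W))
  obtain ⟨s, rfl⟩ := hb.2 s'
  refine ⟨((sesP i).g.app (op W)).hom s, ?_⟩
  rw [← ht]
  have hn := toSheafify_naturality J (sesP i).g
  exact congrArg (fun m => (m.app (op W)).hom s) hn

end

section
variable {C : Type u} [SmallCategory C] [HasPullbacks C] (J : GrothendieckTopology C) {U : C}
  {ι : Type u} (Y : ι → Over U)

lemma isIso_cxFunctor_map {P Q : Cᵒᵖ ⥤ AddCommGrpCat.{u}} (φ : P ⟶ Q)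
    (h : ∀ (n : ℕ) (a : Fin (n+1) → ι), IsIso (φ.app (op (∏ᶜ (Y ∘ a)).left))) :
    IsIso ((CechEdge.cxFunctor Y).map φ) := by
  have : ∀ n, IsIso (((CechEdge.cxFunctor Y).map φ).f n) := fun n => by
    rw [cxFunctor_map_f]
    have inst : ∀ a : Fin (n+1) → ι, IsIso (φ.app (op (∏ᶜ (Y ∘ a)).left)) := h n
    exact Limits.Pi.map_isIso (f := fun a : Fin (n+1) → ι => P.obj (op (∏ᶜ (Y ∘ a)).left))
      (g := fun a : Fin (n+1) → ι => Q.obj (op (∏ᶜ (Y ∘ a)).left))
      (fun a => φ.app (op (∏ᶜ (Y ∘ a)).left))
  exact HomologicalComplex.Hom.isIso_of_components _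

lemma cechHMap_bijective {P Q : Cᵒᵖ ⥤ AddCommGrpCat.{u}} (φ : P ⟶ Q)
    (h : ∀ (n : ℕ) (a : Fin (n+1) → ι), Function.Bijective (φ.app (op (∏ᶜ (Y ∘ a)).left)).hom) (p : ℕ) :
    Function.Bijective (CechEdge.cechHMap Y φ p) := by
  have h' : ∀ (n : ℕ) (a : Fin (n+1) → ι), IsIso (φ.app (op (∏ᶜ (Y ∘ a)).left)) := fun n a =>
    (ConcreteCategory.isIso_iff_bijective _).2 (h n a)
  have := isIso_cxFunctor_map Y φ h'
  have h2 : IsIso (HomologicalComplex.homologyMap ((CechEdge.cxFunctor Y).map φ) p) :=
    inferInstanceAs (IsIso ((HomologicalComplex.homologyFunctor _ _ p).map ((CechEdge.cxFunctor Y).map φ)))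
  exact ConcreteCategory.bijective_of_isIso _

/-- the acyclicity hypothesis -/
def Good (F : Sheaf J AddCommGrpCat.{u}) : Prop :=
  ∀ (p : ℕ) (a : Fin (p + 1) → ι) (q : ℕ), Subsingleton (CohSite.HU F (q + 1) (∏ᶜ (Y ∘ a)).left)

lemma good_shf_coker {F : Sheaf J AddCommGrpCat.{u}} (hF : Good J Y F) :
    Good J Y (CechEdge.shf J (sesP (Injective.ι F)).X₃) := fun p a q =>
  subsingleton_HU_shf_coker J (Injective.ι F) _ q (hF p a (q+1))

variable (e : ∀ (P : Cᵒᵖ ⥤ AddCommGrpCat.{u}) (p : ℕ),
      CohCx.cechH P Y p →+ CohSite.HU (CechEdge.shf J P) p U)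
  (he : CechEdge.IsEdge J Y e)

include he in
theorem edge_bijective : ∀ (p : ℕ) (F : Sheaf J AddCommGrpCat.{u}), Good J Y F →
    Function.Bijective (e F.obj p)
  | 0, F, _ => edge_zero_bijective J Y e he F
  | p+1, F, hF => by
    have IH := edge_bijective p (CechEdge.shf J (sesP (Injective.ι F)).X₃) (good_shf_coker J Y hF)
    have hφ : ∀ (n : ℕ) (a : Fin (n+1) → ι), Function.Bijective
        ((toSheafify J (sesP (Injective.ι F)).X₃).app (op (∏ᶜ (Y ∘ a)).left)).hom := fun n a =>
      ⟨toSheafify_app_injective (Injective.ι F) _,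
        toSheafify_coker_surjective J (Injective.ι F) _ (hF n a 0)⟩
    have hb1 := cechHMap_bijective Y (toSheafify J (sesP (Injective.ι F)).X₃) hφ p
    have := Groth.Agent.S16020.isIso_shfMap_toSheafify J (sesP (Injective.ι F)).X₃
    have hb2 : Function.Bijective
        (CechEdge.HUmap (CechEdge.shfMap J (toSheafify J (sesP (Injective.ι F)).X₃)) p U) :=
      ConcreteCategory.bijective_of_isIso ((Abelian.extFunctorObj (CohCx.freeSheaf J U) p).map
        (CechEdge.shfMap J (toSheafify J (sesP (Injective.ι F)).X₃)))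
    have h1 : (e (CechEdge.shf J (sesP (Injective.ι F)).X₃).obj p) ∘
        (CechEdge.cechHMap Y (toSheafify J (sesP (Injective.ι F)).X₃) p) =
        (CechEdge.HUmap (CechEdge.shfMap J (toSheafify J (sesP (Injective.ι F)).X₃)) p U) ∘
          (e (sesP (Injective.ι F)).X₃ p) :=
      funext (he.natural _ _ (toSheafify J (sesP (Injective.ι F)).X₃) p)
    have hG : Function.Bijective (e (sesP (Injective.ι F)).X₃ p) :=
      (Function.Bijective.of_comp_iff' hb2 _).1 (h1 ▸ IH.comp hb1)
    have hI : Function.Surjective (e (Injective.under F).obj p) := by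
      cases p with
      | zero => exact (edge_zero_bijective J Y e he (Injective.under F)).2
      | succ p =>
        have := subsingleton_HU_shf_injective J (Injective.under F) p U
        exact fun z => ⟨0, Subsingleton.elim _ _⟩
    constructor
    · exact Groth.Agent.Helper24.DeltaChase.injective_succ (Groth.Agent.S16020.homOfEdge J Y e he)
        (sesP (Injective.ι F)) (sesP_shortExact (Injective.ι F)) p
        (isZero_cech_of_injective Y (Injective.under F).obj p) hI hG.1
    · have hz : IsZero (((TH J U).F (p+1)).obj (sesP (Injective.ι F)).X₂) := by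
        have : Subsingleton ↑(((TH J U).F (p+1)).obj (sesP (Injective.ι F)).X₂) :=
          subsingleton_HU_shf_injective J (Injective.under F) p U
        exact AddCommGrpCat.isZero_of_subsingleton _
      exact Groth.Agent.Helper24.DeltaChase.surjective_succ (Groth.Agent.S16020.homOfEdge J Y e he)
        (sesP (Injective.ι F)) (sesP_shortExact (Injective.ι F)) p hz hG.2

end

/-- On a small site with fibre products, let a family of objects over U carry an edge family (in
particular it covers U) and let F be an abelian sheaf whose cohomology in every positive degree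
vanishes on every finite iterated fibre product over U of members of the family. Then for every p
the comparison map from the p-th Cech cohomology of F with respect to the family to H^p(U, F) is
bijective. -/
theorem result {C : Type u} [SmallCategory C] [HasPullbacks C]
    (J : GrothendieckTopology C) {U : C} {ι : Type u} (Y : ι → Over U)
    (e : ∀ (P : Cᵒᵖ ⥤ AddCommGrpCat.{u}) (p : ℕ), CohCx.cechH P Y p →+ CohSite.HU (CechEdge.shf J P) p U)
    (he : CechEdge.IsEdge J Y e) (F : Sheaf J AddCommGrpCat.{u})
    (h : ∀ (p : ℕ) (a : Fin (p + 1) → ι) (q : ℕ),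
      Subsingleton (CohSite.HU F (q + 1) (∏ᶜ fun k => Y (a k)).left))
    (p : ℕ) : Function.Bijective (CechEdge.edgeSh e F p) := by
  unfold CechEdge.edgeSh
  have hb2 : Function.Bijective
      (CechEdge.HUmap ((sheafificationAdjunction J AddCommGrpCat.{u}).counit.app F) p U) :=
    ConcreteCategory.bijective_of_isIso ((Abelian.extFunctorObj (CohCx.freeSheaf J U) p).map
      ((sheafificationAdjunction J AddCommGrpCat.{u}).counit.app F))
  exact hb2.comp (edge_bijective J Y e he p F h)

end Groth.Agent.S16022
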