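import Groth.Statements.S0464
import Mathlib
import Groth.Prelude.Def_CohTop
import Groth.Agent.Lib.Helper24.CechTop
import Groth.Agent.S0941

set_option autoImplicit false
universe u
open CategoryTheory
open CohTop

namespace Groth.Agent.S0464


open TopologicalSpace in

open TopologicalSpace in
/-- Let U_i be a family of opens with union U. If H^(q+1)(U_{i_0} ∩ … ∩ U_{i_p}, F) = 0 for all q and
all finite tuples of indices, then the p-th Cech cohomology of F for this family is isomorphic to
H^p(U, F). -/
theorem result {X : TopCat.{u}} (F : CohTop.Ab X) {ι : Type u}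
    (U : ι → Opens X)
    (h : ∀ (p : ℕ) (a : Fin (p + 1) → ι) (q : ℕ), Subsingleton (CohTop.HU F (q + 1) (iInf fun k => U (a k))))
    (p : ℕ) : Nonempty (CohTop.cechH F.obj U p ≃+ CohTop.HU F p (iSup U)) := by
  have hY := Groth.Agent.Helper24.CechTop.cover_of_iSup_eq (CechEdge.opensFam U) rfl
  have h' : ∀ (p : ℕ) (a : Fin (p + 1) → ι) (q : ℕ),
      Subsingleton (CohSite.HU F (q + 1) (Limits.piObj fun k => CechEdge.opensFam U (a k)).left) := by
    intro p a q
    rw [Groth.Agent.Helper24.CechTop.left_prod_eq (CechEdge.opensFam U) a]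
    exact h p a q
  obtain ⟨e⟩ := Groth.Agent.S0941.result (Opens.grothendieckTopology X) F (CechEdge.opensFam U) hY h' p
  exact ⟨(Groth.Agent.Helper24.CechTop.cechHIso (CechEdge.opensFam U) F.obj p).addCommGroupIsoToAddEquiv.trans e⟩

end Groth.Agent.S0464
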