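import Groth.Statements.S14451
import Mathlib
import Groth.Agent.Lib.Helper10.ExtAdj
import Groth.Agent.Lib.Helper10.ExtLeray

set_option autoImplicit false
universe u
open CategoryTheory CategoryTheory.Limits AlgebraicGeometry
open EtCore

namespace Groth.Agent.S14451

/-- Let f : X ⟶ Y be a morphism of schemes and F an abelian sheaf on the small étale site of X whose
higher direct images R^q f_* F vanish for all q > 0. Then for every p the canonical map H^p(Y, f_*
F) → H^p(X, F) (pull back along f, then apply the counit f⁻¹ f_* F ⟶ F) is bijective. (Exactness of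
f⁻¹, which always holds, is carried as an instance hypothesis.) -/
theorem result {X Y : Scheme.{u}} (f : X ⟶ Y)
    [PreservesFiniteLimits (EtCoh.pull f)] (F : EtCoh.Ab X)
    (hR : ∀ q : ℕ, 0 < q → IsZero ((EtCoh.Rpush f q).obj F)) (p : ℕ) :
    Function.Bijective (EtLim.HofPush f F p) := by
  obtain ⟨Δ⟩ := Groth.Agent.S16463.result (EtCoh.push f)
  have h2 : PreservesFiniteColimits (EtCoh.pull f) := by
    have : PreservesColimitsOfSize.{0, 0} (EtCoh.pull f) :=
      (EtCoh.pullPushAdj f).leftAdjoint_preservesColimits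
    exact PreservesColimitsOfSize.preservesFiniteColimits _
  have h3 : PreservesFiniteLimits (EtCoh.push f) := by
    have : PreservesLimitsOfSize.{0, 0} (EtCoh.push f) :=
      (EtCoh.pullPushAdj f).rightAdjoint_preservesLimits
    exact PreservesLimitsOfSize.preservesFiniteLimits _
  have hbij := Groth.Agent.Helper10.ExtLeray.counitMap_bijective.{u + 1, u + 1}
    (EtCoh.pullPushAdj f) Δ (EtCoh.const Y ℤ) p F (fun q => hR (q + 1) (Nat.succ_pos q))
  have heq : ⇑(EtLim.HofPush f F p) =
      ⇑(Groth.Agent.Helper10.ExtAdj.extCongrLeft (EtCore.pullConst f ℤ).symm F p) ∘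
        ⇑(Groth.Agent.Helper10.ExtLeray.counitMap.{u + 1, u + 1} (EtCoh.pullPushAdj f)
          (EtCoh.const Y ℤ) F p) := by
    funext x
    show ((Abelian.Ext.mk₀ (EtCore.pullConst f ℤ).inv).comp
        ((EtCoh.pull f).mapExtAddHom _ _ p x) (zero_add p)).comp
        (Abelian.Ext.mk₀ ((EtCoh.pullPushAdj f).counit.app F)) (add_zero p) = _
    rw [Abelian.Ext.comp_assoc_of_third_deg_zero]
    rfl
  rw [heq]
  exact (AddEquiv.bijective _).comp hbij

end Groth.Agent.S14451
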