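import Groth.Statements.S0861
import Mathlib
import Groth.Prelude.Def_CohCx
import Groth.Agent.Lib.Helper24.CechSurj
import Groth.Agent.S0859
import Groth.Agent.S16022

set_option autoImplicit false
universe u
open CategoryTheory
open CohSite

namespace Groth.Agent.S0861


open CategoryTheory.Limits Opposite
open Groth.Agent.Helper24.CechEv Groth.Agent.Helper24.CechDelta Groth.Agent.Helper24.CechEff
  Groth.Agent.Helper24.CechH Groth.Agent.Helper24.CechEdgeLib Groth.Agent.Helper24.CechInj

section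
variable {C : Type u} [SmallCategory C] [HasPullbacks C]
    (J : GrothendieckTopology C) (B : Set C) (Cov : ∀ (U : C) (ι : Type u), (ι → Over U) → Prop)
    (h1 : ∀ (U : C) (ι : Type u) (Y : ι → Over U), Cov U ι Y → U ∈ B ∧
      Sieve.ofArrows (fun i => (Y i).left) (fun i => (Y i).hom) ∈ J U ∧
      ∀ (p : ℕ) (a : Fin (p + 1) → ι), (∏ᶜ fun k => Y (a k)).left ∈ B)
    (h2 : ∀ U ∈ B, ∀ T ∈ J U, ∃ (ι : Type u) (Y : ι → Over U), Cov U ι Y ∧ ∀ i, T.arrows (Y i).hom)

/-- Čech-acyclicity for all families in `Cov` -/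
def Acyc (F : Sheaf J AddCommGrpCat.{u}) : Prop :=
  ∀ (U : C) (ι : Type u) (Y : ι → Over U), Cov U ι Y → ∀ p : ℕ, IsZero (CohCx.cechH F.obj Y (p + 1))

include h1 h2 in
lemma surj_of_acyc {F I : Sheaf J AddCommGrpCat.{u}} (i : F ⟶ I) [Mono i] (hF : Acyc J Cov F)
    (U : C) (hU : U ∈ B) : Function.Surjective ((cokernel.π i).hom.app (op U)).hom := by
  have := Groth.Agent.S0859.result (sesS i) (sesS_shortExact i) U (fun T hT => by
    obtain ⟨ι, Y, hc, hYT⟩ := h2 U hU T hT
    exact ⟨ι, Y, hYT, (h1 U ι Y hc).2.1, hF U ι Y hc 0⟩)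
  exact this

include h1 h2 in
lemma H1_zero {F : Sheaf J AddCommGrpCat.{u}} (hF : Acyc J Cov F) (U : C) (hU : U ∈ B) :
    Subsingleton (CohSite.HU F 1 U) := by
  have hsurj := surj_of_acyc J B Cov h1 h2 (Injective.ι F) hF U hU
  have T := extDelta (CohCx.freeSheaf J U)
  have ex := (ShortComplex.ab_exact_iff _).1
    ((extDelta (CohCx.freeSheaf J U)).exact₁ _ (sesS_shortExact (Injective.ι F)) 0 1 rfl)
  have hI : Subsingleton (CohSite.HU (Injective.under F) 1 U) :=
    Abelian.Ext.subsingleton_of_injective _ _ 0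
  refine subsingleton_of_forall_eq 0 fun x => ?_
  obtain ⟨v, hv⟩ := ex x (Subsingleton.elim (α := CohSite.HU (Injective.under F) 1 U) _ _)
  obtain ⟨q, rfl⟩ := (CechEdge.sectH0 J U (cokernel (Injective.ι F))).surjective v
  obtain ⟨s, rfl⟩ := hsurj q
  rw [← sectH0_naturality] at hv
  rw [← hv]
  have := congrArg (fun m => m.hom (CechEdge.sectH0 J U (Injective.under F) s))
    ((extDelta (CohCx.freeSheaf J U)).comp_δ _ (sesS_shortExact (Injective.ι F)) 0 1 rfl)
  exact this

include h1 h2 in
lemma acyc_coker {F : Sheaf J AddCommGrpCat.{u}} (hF : Acyc J Cov F) :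
    Acyc J Cov (cokernel (Injective.ι F)) := by
  intro U ι Y hc p
  -- γ is bijective on all the fibre products
  have hγ : ∀ (n : ℕ) (a : Fin (n+1) → ι), Function.Bijective
      ((γ (Injective.ι F)).app (op (∏ᶜ (Y ∘ a)).left)).hom := fun n a => by
    refine ⟨γ_app_injective (Injective.ι F) _, fun q => ?_⟩
    obtain ⟨s, rfl⟩ := surj_of_acyc J B Cov h1 h2 (Injective.ι F) hF _ ((h1 U ι Y hc).2.2 n a) q
    refine ⟨((cokernel.π (Injective.ι F).hom).app _).hom s, ?_⟩
    have := cokernel.π_desc (Injective.ι F).hom (cokernel.π (Injective.ι F)).hom (by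
      show ((Injective.ι F) ≫ cokernel.π (Injective.ι F)).hom = 0
      rw [cokernel.condition]
      rfl)
    exact congrArg (fun m => (m.app (op (∏ᶜ (Y ∘ a)).left)).hom s) this
  have hb := Groth.Agent.S16022.cechHMap_bijective Y (γ (Injective.ι F)) hγ (p+1)
  -- the Čech cohomology of the presheaf cokernel vanishes
  have ex := (ShortComplex.ab_exact_iff _).1
    ((TC Y).exact₃ (sesP (Injective.ι F)) (sesP_shortExact (Injective.ι F)) (p+1) (p+2) rfl)
  have hz1 : Subsingleton (CohCx.cechH F.obj Y (p+2)) :=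
    AddCommGrpCat.subsingleton_of_isZero (hF U ι Y hc (p+1))
  have hz2 : Subsingleton (CohCx.cechH (Injective.under F).obj Y (p+1)) :=
    AddCommGrpCat.subsingleton_of_isZero (isZero_cech_of_injective Y (Injective.under F).obj p)
  have hz3 : Subsingleton (CohCx.cechH (sesP (Injective.ι F)).X₃ Y (p+1)) := by
    refine subsingleton_of_forall_eq 0 fun x => ?_
    obtain ⟨w, hw⟩ := ex x (Subsingleton.elim (α := CohCx.cechH F.obj Y (p+2)) _ _)
    rw [← hw, Subsingleton.elim (α := CohCx.cechH (Injective.under F).obj Y (p+1)) w 0]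
    exact map_zero _
  have : Subsingleton (CohCx.cechH (cokernel (Injective.ι F)).obj Y (p+1)) :=
    hb.2.subsingleton
  exact AddCommGrpCat.isZero_of_subsingleton _

include h1 h2 in
theorem main : ∀ (p : ℕ) (F : Sheaf J AddCommGrpCat.{u}), Acyc J Cov F → ∀ U ∈ B,
    Subsingleton (CohSite.HU F (p + 1) U)
  | 0, F, hF, U, hU => H1_zero J B Cov h1 h2 hF U hU
  | p+1, F, hF, U, hU => by
    have IH := main p (cokernel (Injective.ι F)) (acyc_coker J B Cov h1 h2 hF) U hU
    have ex := (ShortComplex.ab_exact_iff _).1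
      ((extDelta (CohCx.freeSheaf J U)).exact₁ _ (sesS_shortExact (Injective.ι F)) (p+1) (p+2) rfl)
    have hI : Subsingleton (CohSite.HU (Injective.under F) (p+2) U) :=
      Abelian.Ext.subsingleton_of_injective _ _ (p+1)
    refine subsingleton_of_forall_eq 0 fun x => ?_
    obtain ⟨v, hv⟩ := ex x (Subsingleton.elim (α := CohSite.HU (Injective.under F) (p+2) U) _ _)
    rw [← hv, Subsingleton.elim (α := CohSite.HU (cokernel (Injective.ι F)) (p+1) U) v 0]
    exact map_zero _

end

open CategoryTheory.Limits in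
/-- Let C be a site with fibre products, B a class of objects and Cov a class of covering families
(indexed families of objects over a member of B). Assume: (1) for a family in Cov over U, U and all
iterated fibre products U_{i_0} x_U ... x_U U_{i_p} lie in B; (2) every covering sieve of a member
of B contains a family from Cov; (3) the abelian sheaf F has vanishing Cech cohomology in positive
degrees for every family in Cov. Then H^p(U, F) = 0 for all p > 0 and U in B. -/
theorem result {C : Type u} [SmallCategory C] [HasPullbacks C]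
    (J : GrothendieckTopology C) (B : Set C) (Cov : ∀ (U : C) (ι : Type u), (ι → Over U) → Prop)
    (h1 : ∀ (U : C) (ι : Type u) (Y : ι → Over U), Cov U ι Y → U ∈ B ∧
      Sieve.ofArrows (fun i => (Y i).left) (fun i => (Y i).hom) ∈ J U ∧
      ∀ (p : ℕ) (a : Fin (p + 1) → ι), (∏ᶜ fun k => Y (a k)).left ∈ B)
    (h2 : ∀ U ∈ B, ∀ T ∈ J U, ∃ (ι : Type u) (Y : ι → Over U), Cov U ι Y ∧ ∀ i, T.arrows (Y i).hom)
    (F : Sheaf J AddCommGrpCat.{u})
    (h3 : ∀ (U : C) (ι : Type u) (Y : ι → Over U), Cov U ι Y → ∀ p : ℕ, IsZero (CohCx.cechH F.obj Y (p + 1)))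
    (U : C) (hU : U ∈ B) (p : ℕ) : Subsingleton (CohSite.HU F (p + 1) U) := by
  exact main J B Cov h1 h2 p F h3 U hU

end Groth.Agent.S0861
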