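import Groth.Statements.S0099
import Mathlib
import Groth.Agent.S0862
import Groth.Agent.Lib.Helper10.SmallEt

set_option autoImplicit false
open CategoryTheory CategoryTheory.Limits AlgebraicGeometry Opposite
universe u
open EtBase

namespace Groth.Agent.S0099

section helpers

attribute [-instance] Groth.Agent.Helper13.DeltaFColim.forgetPres

open Groth.Agent.Helper10.SmallEt

/-- The covering families used: finite jointly surjective families of quasi-compact quasi-separated
objects over a quasi-compact quasi-separated object. -/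
def Cov (X : Scheme.{u}) (U : Cs X) (ι : Type (u+1)) (Y : ι → Over U) : Prop :=
  Finite ι ∧ U ∈ Bs X ∧ (∀ i, (Y i).left ∈ Bs X) ∧
    ∀ x : ((toSch X).obj U : Scheme.{u}), ∃ (i : ι) (y : ((toSch X).obj (Y i).left : Scheme.{u})),
      ((toSch X).map (Y i).hom).base y = x

theorem main (X : Scheme.{u}) [CompactSpace X] [QuasiSeparatedSpace X] (n : ℕ)
    (J : Type u) [SmallCategory J] [IsFiltered J] :
    PreservesColimitsOfShape J (EtCoh.HF X n) := by
  let eI : J ≌ AsSmall.{u+1} J := AsSmall.equiv
  have hI : IsFiltered (AsSmall.{u+1} J) := IsFiltered.of_equivalence eI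
  suffices h : PreservesColimitsOfShape (AsSmall.{u+1} J) (EtCoh.HF X n) from
    preservesColimitsOfShape_of_equiv eI.symm _
  have hTs : Ts X ∈ Bs X :=
    ⟨(inferInstance : CompactSpace X), (inferInstance : QuasiSeparatedSpace X)⟩
  have h0 : PreservesColimitsOfShape (AsSmall.{u+1} J)
      ((Sheaf.cohomologyPresheafFunctor.{u+1} (Ks X) n).flip.obj (op (Ts X))) :=
    ⟨fun {F} => Groth.Agent.S0862.result.{u+1} (Ks X) (Bs X) (Cov X)
      (fun U ι Y hc => by
        obtain ⟨h1, h2, h3, h4⟩ := hc
        exact ⟨h1, h2, ofArrows_mem Y h4, fun p a => prod_mem U h2 _ (fun k => h3 (a k))⟩)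
      (fun U hU T hT => by
        obtain ⟨ι, Y, h1, h2, h3, h4⟩ := exists_finite_refinement hU T hT
        exact ⟨ι, Y, ⟨h1, hU, h2, h3⟩, h4⟩)
      (Ts X) hTs n (AsSmall.{u+1} J) F⟩
  have h1 : PreservesColimitsOfShape (AsSmall.{u+1} J)
      ((Phi X).functor ⋙ (Sheaf.cohomologyPresheafFunctor.{u+1} (Ks X) n).flip.obj (op (Ts X))) :=
    inferInstance
  exact preservesColimitsOfShape_of_natIso (hfIso X n).symm

end helpers

/-- On a quasi-compact quasi-separated scheme, étale cohomology in each degree commutes with filtered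
colimits of abelian sheaves (stated for small filtered index categories). -/
theorem result (X : Scheme.{u}) [CompactSpace X] [QuasiSeparatedSpace X] (n : ℕ)
    (J : Type u) [SmallCategory J] [IsFiltered J] :
    PreservesColimitsOfShape J (EtCoh.HF X n) := by
  exact main X n J

end Groth.Agent.S0099
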