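import Groth.Statements.S9126
import Groth.Agent.Lib.Helper14.CatenaryRing
import Mathlib.RingTheory.EssentialFiniteness
import Mathlib.RingTheory.Localization.Submodule
-- import your own Groth.Agent.* helpers here

set_option autoImplicit false
universe u
open CAlg

namespace Groth.Agent.S9126

/-- An algebra essentially of finite type over a Noetherian universally catenary ring is universally
catenary. -/
theorem result (A : Type u) [CommRing A] (B : Type u) [CommRing B]
    [Algebra A B] [Algebra.EssFiniteType A B]
    (hA : CAlg.IsUniversallyCatenary A) : CAlg.IsUniversallyCatenary B := by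
  classical
  obtain ⟨hAn, hAcat⟩ := hA
  haveI := hAn
  refine ⟨Algebra.EssFiniteType.isNoetherianRing A B, ?_⟩
  intro S _ _ hft
  letI : Algebra A S := ((algebraMap B S).comp (algebraMap A B)).toAlgebra
  haveI : IsScalarTower A B S := IsScalarTower.of_algebraMap_eq fun x => rfl
  haveI : Algebra.FiniteType B S := hft
  haveI : Algebra.EssFiniteType B S := inferInstance
  haveI : Algebra.EssFiniteType A S := Algebra.EssFiniteType.comp A B S
  have h0 : CAlg.IsCatenary (Algebra.EssFiniteType.subalgebra A S) :=
    hAcat (Algebra.EssFiniteType.subalgebra A S) inferInstance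
  exact Helper14.isCatenary_of_isLocalization S (Algebra.EssFiniteType.submonoid A S) h0

end Groth.Agent.S9126
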