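import Groth.Statements.S9496
import Groth.Agent.Lib.Helper14.TildeExact
-- import your own Groth.Agent.* helpers here

set_option autoImplicit false
universe u
open AffSch

namespace Groth.Agent.S9496

open AlgebraicGeometry in
open CategoryTheory Limits in
/-- Let X = Spec A be an affine scheme and φ : M → N a morphism of quasi-coherent O_X-modules. Then the
kernel and the cokernel of φ, computed in the category of all O_X-modules, are quasi-coherent. -/
theorem result
    (A : Type u) [CommRing A] {M N : (Spec (CommRingCat.of A)).Modules}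
    [Coh.IsQCoh M] [Coh.IsQCoh N] (φ : M ⟶ N) :
    Coh.IsQCoh (kernel φ) ∧ Coh.IsQCoh (cokernel φ) := by
  haveI hM : IsIso (Scheme.Modules.fromTildeΓ (R := CommRingCat.of A) M) :=
    Scheme.Modules.isIso_fromTildeΓ_of_isQuasicoherent (R := CommRingCat.of A) M
  haveI hN : IsIso (Scheme.Modules.fromTildeΓ (R := CommRingCat.of A) N) :=
    Scheme.Modules.isIso_fromTildeΓ_of_isQuasicoherent (R := CommRingCat.of A) N
  let ψ := (moduleSpecΓFunctor (R := CommRingCat.of A)).map φ
  have nat : (tilde.functor (CommRingCat.of A)).map ψ ≫ Scheme.Modules.fromTildeΓ (R := CommRingCat.of A) N =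
      Scheme.Modules.fromTildeΓ (R := CommRingCat.of A) M ≫ φ :=
    (Scheme.Modules.fromTildeΓNatTrans (R := CommRingCat.of A)).naturality φ
  haveI := Helper14.tilde_preservesFiniteLimits (R := CommRingCat.of A)
  haveI := Helper14.tilde_preservesFiniteColimits (R := CommRingCat.of A)
  let ek : kernel ((tilde.functor (CommRingCat.of A)).map ψ) ≅ kernel φ :=
    kernel.mapIso _ _ (@asIso _ _ _ _ _ hM)
      (@asIso _ _ _ _ _ hN) nat
  let ek' : (tilde.functor (CommRingCat.of A)).obj (kernel ψ) ≅ kernel ((tilde.functor (CommRingCat.of A)).map ψ) :=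
    PreservesKernel.iso _ _
  let ec : cokernel ((tilde.functor (CommRingCat.of A)).map ψ) ≅ cokernel φ :=
    cokernel.mapIso _ _ (@asIso _ _ _ _ _ hM)
      (@asIso _ _ _ _ _ hN) nat
  let ec' : (tilde.functor (CommRingCat.of A)).obj (cokernel ψ) ≅ cokernel ((tilde.functor (CommRingCat.of A)).map ψ) :=
    PreservesCokernel.iso _ _
  constructor
  · exact (SheafOfModules.isQuasicoherent (Spec (CommRingCat.of A)).ringCatSheaf).prop_of_iso (ek' ≪≫ ek)
      (by
        show SheafOfModules.IsQuasicoherent (tilde (R := CommRingCat.of A) (kernel ψ))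
        infer_instance)
  · exact (SheafOfModules.isQuasicoherent (Spec (CommRingCat.of A)).ringCatSheaf).prop_of_iso (ec' ≪≫ ec)
      (by
        show SheafOfModules.IsQuasicoherent (tilde (R := CommRingCat.of A) (cokernel ψ))
        infer_instance)

end Groth.Agent.S9496
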