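import Groth.Statements.S0493
import Mathlib
import Groth.Prelude.Def_CohTop
import Groth.Agent.Lib.Helper24.CechTop
import Groth.Agent.S0861

set_option autoImplicit false
universe u
open CohTop

namespace Groth.Agent.S0493


open CategoryTheory

open TopologicalSpace CategoryTheory.Limits in

open TopologicalSpace CategoryTheory.Limits in
/-- Let B be a basis of opens of X and Cov a class of families of opens such that (1) every family in
Cov has its union, its members and all finite intersections of members in B, (2) for U in B every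
open covering of U is refined by a family in Cov with union U, and (3) the Cech cohomology of F in
positive degrees vanishes for every family in Cov. Then H^(p+1)(U, F) = 0 for every U in B. -/
theorem result {X : TopCat.{u}} (F : CohTop.Ab X)
    (B : Set (Opens X)) (hB : Opens.IsBasis B) (Cov : ∀ (ι : Type u), (ι → Opens X) → Prop)
    (h1 : ∀ (ι : Type u) (V : ι → Opens X), Cov ι V →
      iSup V ∈ B ∧ ∀ (p : ℕ) (a : Fin (p + 1) → ι), (iInf fun k => V (a k)) ∈ B)
    (h2 : ∀ U ∈ B, ∀ (κ : Type u) (W : κ → Opens X), iSup W = U →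
      ∃ (ι : Type u) (V : ι → Opens X), Cov ι V ∧ iSup V = U ∧ ∀ i, ∃ k, V i ≤ W k)
    (h3 : ∀ (ι : Type u) (V : ι → Opens X), Cov ι V → ∀ p : ℕ, IsZero (CohTop.cechH F.obj V (p + 1)))
    (U : Opens X) (hU : U ∈ B) (p : ℕ) : Subsingleton (CohTop.HU F (p + 1) U) := by
  refine Groth.Agent.S0861.result (Opens.grothendieckTopology X) B
    (fun U' ι Y => Cov ι (fun i => (Y i).left) ∧ iSup (fun i => (Y i).left) = U')
    ?_ ?_ F ?_ U hU p
  · intro U' ι Y hc
    refine ⟨hc.2 ▸ (h1 ι _ hc.1).1, Groth.Agent.Helper24.CechTop.cover_of_iSup_eq Y hc.2, ?_⟩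
    intro p a
    rw [Groth.Agent.Helper24.CechTop.left_prod_eq Y a]
    exact (h1 ι _ hc.1).2 p a
  · intro U' hU' T hT
    obtain ⟨ι, V, hc, hV, hle⟩ := h2 U' hU' _ (fun f : T.arrows.category => f.obj.left)
      (Groth.Agent.Helper24.CechTop.iSup_eq_of_cover (Groth.Agent.Helper24.CechTop.famOfSieve T)
        (Groth.Agent.Helper24.CechTop.famOfSieve_cover T hT))
    refine ⟨ι, fun i => Over.mk (homOfLE (hV ▸ le_iSup V i) : V i ⟶ U'), ⟨hc, hV⟩, ?_⟩
    intro i
    obtain ⟨k, hk⟩ := hle i
    exact Groth.Agent.Helper24.CechTop.mem_of_le T k.obj.hom k.property hk _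
  · intro U' ι Y hc p
    exact (Groth.Agent.Helper24.CechTop.isZero_iff Y F.obj (p+1)).1 (h3 ι _ hc.1 p)

end Groth.Agent.S0493
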