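import Groth.Statements.S0013
import Mathlib
import Groth.Agent.Lib.Helper13.AffineVanish
import Groth.Agent.Lib.Helper13.HUTop
import Groth.Agent.S0464

set_option autoImplicit false
universe u
open Coherent

namespace Groth.Agent.S0013

open AlgebraicGeometry CategoryTheory Opposite TopologicalSpace

open AlgebraicGeometry in
/-- Let X be a scheme with an open covering all of whose nonempty finite intersections are affine. For a
quasi-coherent module M and every degree p, Čech cohomology with respect to this covering is
isomorphic to sheaf cohomology; only the existence of an isomorphism of additive groups is asserted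
(the published statement gives an isomorphism of modules over the global sections). -/
theorem result (X : Scheme.{u}) {ι : Type u}
    (U : ι → X.Opens) (hcov : ⨆ i, U i = ⊤)
    (hU : ∀ s : Finset ι, s.Nonempty → IsAffineOpen (⨅ i ∈ s, U i))
    (M : X.Modules) [Coh.IsQCoh M] (p : ℕ) :
    Nonempty (↑(CohB1.cechH U M p) ≃+ Coh.HH X M p) := by
  classical
  have h : ∀ (p : ℕ) (a : Fin (p + 1) → ι) (q : ℕ),
      Subsingleton (CohTop.HU (X := X.toTopCat) (Coh.toAb M) (q + 1) (iInf fun k => U (a k))) := by
    intro p a q
    apply Groth.Agent.Helper13.AffineVanish.HU_subsingleton_of_isAffineOpen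
    have h1 := hU (Finset.univ.image a) (Finset.image_nonempty.2 Finset.univ_nonempty)
    have h2 : (⨅ i ∈ Finset.univ.image a, U i) = iInf fun k => U (a k) := by
      rw [Finset.iInf_finset_image]
      simp
    rw [← h2]
    exact h1
  obtain ⟨e⟩ := Groth.Agent.S0464.result (X := X.toTopCat) (Coh.toAb M) U h p
  have h3 : iSup U = (⊤ : Opens X.toTopCat) := hcov
  rw [h3] at e
  exact ⟨e.trans (Groth.Agent.Helper13.HUTop.HUtopEquiv (X := X.toTopCat) (Coh.toAb M) p)⟩

end Groth.Agent.S0013
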