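import Groth.Statements.S0028
import Mathlib
import Groth.Prelude.Def_Coh
import Groth.Prelude.Def_CohB1
import Groth.Agent.Lib.Helper13.RpushShf
import Groth.Agent.Lib.Helper13.ShfZero
import Groth.Agent.Lib.Helper13.AffineVanish

set_option autoImplicit false
universe u
open Coherent

namespace Groth.Agent.S0028

open AlgebraicGeometry CategoryTheory

open AlgebraicGeometry CategoryTheory in

open AlgebraicGeometry CategoryTheory in
/-- If f : X → S is an affine morphism and F is a quasi-coherent O_X-module, then R^i f_* F = 0 for all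
i > 0 (higher direct images of the underlying abelian sheaf). -/
theorem result {X S : Scheme.{u}} (f : X ⟶ S) [IsAffineHom f]
    (M : X.Modules) [Coh.IsQCoh M] (i : ℕ) (hi : 0 < i) :
    Limits.IsZero ((Coh.RpushAb f i).obj (Coh.toAb M)) := by
  obtain ⟨e⟩ := Groth.Agent.Helper13.RpushShf.main (Opens.grothendieckTopology X)
    (Opens.grothendieckTopology S) (TopologicalSpace.Opens.map f.base) (Coh.toAb M) i
  refine Limits.IsZero.of_iso ?_ e
  obtain ⟨p, rfl⟩ : ∃ p, i = p + 1 := ⟨i - 1, by omega⟩
  refine Groth.Agent.Helper13.ShfZero.isZero_presheafToSheaf_of_basis (Y := S.toTopCat) _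
    {U | IsAffineOpen U} S.isBasis_affineOpens ?_
  intro W hW
  exact Groth.Agent.Helper13.AffineVanish.HU_subsingleton_of_isAffineOpen M (f ⁻¹ᵁ W)
    (hW.preimage f) p

end Groth.Agent.S0028
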