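import Groth.Statements.S6624
import Mathlib

set_option autoImplicit false
universe w w' v v' u u'
open CategoryTheory CategoryTheory.Limits
open CohDer

namespace Groth.Agent.S6624
section helpers
open Opposite
set_option linter.unusedSectionVars false
open CategoryTheory CategoryTheory.Limits
variable {A : Type u} [Category.{v} A] [Abelian A] [HasDerivedCategory.{w} A] [EnoughInjectives A]
    {B : Type u'} [Category.{v'} B] [Abelian B] [HasDerivedCategory.{w'} B]
    (F : A ⥤ B) [F.Additive] (X : A)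

noncomputable def KK (R : InjectiveResolution X) : HomotopyCategory.Plus A :=
  (HomotopyCategory.Plus.quotient A).obj ⟨R.cochainComplex, 0, inferInstance⟩

noncomputable def ss (R : InjectiveResolution X) :
    (HomotopyCategory.Plus.singleFunctor A 0).obj X ⟶ KK X R :=
  ObjectProperty.homMk ((HomotopyCategory.quotient A (.up ℤ)).map R.ι')

instance (R : InjectiveResolution X) (n : ℤ) : Injective ((KK X R).obj.as.X n) :=
  inferInstanceAs (Injective (R.cochainComplex.X n))

lemma isIso_unit_KK (R : InjectiveResolution X) :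
    IsIso (F.rightDerivedFunctorPlusUnit.app (KK X R)) := inferInstance

lemma ss_quasiIso (R : InjectiveResolution X) :
    HomotopyCategory.Plus.quasiIso A (ss X R) := by
  rw [HomotopyCategory.Plus.quasiIso_iff]
  exact (HomotopyCategory.quotient_map_mem_quasiIso_iff (C := A) (c := .up ℤ) R.ι').2
    ((HomologicalComplex.mem_quasiIso_iff _).2 inferInstance)

lemma step1 (R : InjectiveResolution X) :
    IsIso (F.rightDerivedFunctorPlusUnit.app ((HomotopyCategory.Plus.singleFunctor A 0).obj X)) ↔
      IsIso (DerivedCategory.Plus.Qh.map (F.mapHomotopyCategoryPlus.map (ss X R))) := by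
  have h1 : IsIso (DerivedCategory.Plus.Qh.map (ss X R)) :=
    Localization.inverts DerivedCategory.Plus.Qh (HomotopyCategory.Plus.quasiIso A) _ (ss_quasiIso X R)
  have h2 := isIso_unit_KK F X R
  have nat := F.rightDerivedFunctorPlusUnit.naturality (ss X R)
  dsimp at nat
  constructor
  · intro h
    have : IsIso (DerivedCategory.Plus.Qh.map (F.mapHomotopyCategoryPlus.map (ss X R)) ≫
        F.rightDerivedFunctorPlusUnit.app (KK X R)) := by
      rw [nat]; infer_instance
    exact IsIso.of_isIso_comp_right _ (F.rightDerivedFunctorPlusUnit.app (KK X R))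
  · intro h
    have : IsIso (F.rightDerivedFunctorPlusUnit.app ((HomotopyCategory.Plus.singleFunctor A 0).obj X) ≫
        F.rightDerivedFunctorPlus.map (DerivedCategory.Plus.Qh.map (ss X R))) := by
      rw [← nat]; infer_instance
    exact IsIso.of_isIso_comp_right _ (F.rightDerivedFunctorPlus.map (DerivedCategory.Plus.Qh.map (ss X R)))


lemma step2 (R : InjectiveResolution X) :
    IsIso (DerivedCategory.Plus.Qh.map (F.mapHomotopyCategoryPlus.map (ss X R))) ↔
      QuasiIso ((F.mapHomologicalComplex (.up ℤ)).map R.ι') := by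
  rw [← isIso_iff_of_reflects_iso _ DerivedCategory.Plus.ι]
  change IsIso (DerivedCategory.Qh.map ((HomotopyCategory.quotient B (.up ℤ)).map
        ((F.mapHomologicalComplex (.up ℤ)).map R.ι'))) ↔ _
  rw [DerivedCategory.isIso_Qh_map_iff, HomotopyCategory.quotient_map_mem_quasiIso_iff,
    HomologicalComplex.mem_quasiIso_iff]


section step3
variable (R : InjectiveResolution X)

omit [HasDerivedCategory.{w} A] [EnoughInjectives A] [HasDerivedCategory.{w'} B] in
lemma src_exactAt (n : ℤ) (hn : n ≠ 0) :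
    ((F.mapHomologicalComplex (.up ℤ)).obj ((CochainComplex.singleFunctor A 0).obj X)).ExactAt n := by
  apply ShortComplex.exact_of_isZero_X₂
  exact F.map_isZero (HomologicalComplex.isZero_single_obj_X (.up ℤ) 0 X n hn)

omit [HasDerivedCategory.{w} A] [EnoughInjectives A] [HasDerivedCategory.{w'} B] in
lemma tgt_exactAt_neg (n : ℤ) (hn : n < 0) :
    ((F.mapHomologicalComplex (.up ℤ)).obj R.cochainComplex).ExactAt n := by
  apply ShortComplex.exact_of_isZero_X₂
  exact F.map_isZero (CochainComplex.isZero_of_isStrictlyGE _ 0 _ hn)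

omit [HasDerivedCategory.{w} A] [EnoughInjectives A] [HasDerivedCategory.{w'} B] in
lemma tgt_exactAt_pos (k : ℕ) :
    ((F.mapHomologicalComplex (.up ℤ)).obj R.cochainComplex).ExactAt ((k + 1 : ℕ) : ℤ) ↔
    ((F.mapHomologicalComplex (.up ℕ)).obj R.cocomplex).ExactAt (k + 1) := by
  rw [HomologicalComplex.exactAt_iff' _ ((k : ℕ) : ℤ) ((k + 1 : ℕ) : ℤ) ((k + 2 : ℕ) : ℤ)
    (by simp) (by simp; ring),
    HomologicalComplex.exactAt_iff' _ k (k + 1) (k + 2) (by simp) (by simp)]
  apply ShortComplex.exact_iff_of_iso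
  refine ShortComplex.isoMk (F.mapIso (R.cochainComplexXIso _ k rfl))
    (F.mapIso (R.cochainComplexXIso _ (k + 1) rfl)) (F.mapIso (R.cochainComplexXIso _ (k + 2) rfl)) ?_ ?_
  · change F.map _ ≫ F.map (R.cocomplex.d k (k + 1)) = F.map (R.cochainComplex.d _ _) ≫ F.map _
    rw [← F.map_comp, ← F.map_comp, R.cochainComplex_d _ _ k (k + 1) rfl rfl]
    simp
  · change F.map _ ≫ F.map (R.cocomplex.d (k + 1) (k + 2)) =
      F.map (R.cochainComplex.d _ _) ≫ F.map _
    rw [← F.map_comp, ← F.map_comp, R.cochainComplex_d _ _ (k + 1) (k + 2) rfl rfl]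
    simp


omit [HasDerivedCategory.{w} A] [EnoughInjectives A] in
lemma aux_cancel {P Q R' S : A} (a : P ⟶ Q) (b : Q ⟶ R') (c : S ≅ R') :
    a ≫ b = (a ≫ b ≫ c.inv) ≫ c.hom := by simp

omit [HasDerivedCategory.{w} A] [EnoughInjectives A] [HasDerivedCategory.{w'} B] in
lemma deg_zero :
    QuasiIsoAt ((F.mapHomologicalComplex (.up ℤ)).map R.ι') 0 ↔
      IsIso (R.toRightDerivedZero' F) := by
  rw [quasiIsoAt_iff' _ (-1) 0 1 (by simp) (by simp),
    ShortComplex.quasiIso_iff_of_zeros]
  rotate_left
  · change F.map (((CochainComplex.singleFunctor A 0).obj X).d (-1) 0) = 0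
    have : ((CochainComplex.singleFunctor A 0).obj X).d (-1) 0 = 0 :=
      (HomologicalComplex.isZero_single_obj_X (.up ℤ) 0 X (-1) (by simp)).eq_of_src _ _
    rw [this, F.map_zero]
  · change F.map (((CochainComplex.singleFunctor A 0).obj X).d 0 1) = 0
    have : ((CochainComplex.singleFunctor A 0).obj X).d 0 1 = 0 :=
      (HomologicalComplex.isZero_single_obj_X (.up ℤ) 0 X 1 (by simp)).eq_of_tgt _ _
    rw [this, F.map_zero]
  · change F.map (R.cochainComplex.d (-1) 0) = 0
    have : R.cochainComplex.d (-1) 0 = 0 :=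
      (CochainComplex.isZero_of_isStrictlyGE _ 0 _ (by simp)).eq_of_src _ _
    rw [this, F.map_zero]
  dsimp only [InjectiveResolution.toRightDerivedZero']
  rw [CochainComplex.isIso_liftCycles_iff]
  apply ShortComplex.exact_and_mono_f_iff_of_iso
  refine ShortComplex.isoMk (F.mapIso (HomologicalComplex.singleObjXSelf (.up ℤ) 0 X))
    (F.mapIso (R.cochainComplexXIso 0 0 rfl)) (F.mapIso (R.cochainComplexXIso 1 1 rfl)) ?_ ?_
  · change F.map _ ≫ F.map (R.ι.f 0) = F.map (R.ι'.f 0) ≫ F.map _
    rw [← F.map_comp, ← F.map_comp, R.ι'_f_zero]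
    congr 1
    exact aux_cancel _ _ _
  · change F.map _ ≫ F.map (R.cocomplex.d 0 1) = F.map (R.cochainComplex.d 0 1) ≫ F.map _
    rw [← F.map_comp, ← F.map_comp, R.cochainComplex_d 0 1 0 1 rfl rfl]
    simp


omit [HasDerivedCategory.{w} A] [EnoughInjectives A] [HasDerivedCategory.{w'} B] in
lemma step3 :
    QuasiIso ((F.mapHomologicalComplex (.up ℤ)).map R.ι') ↔
      (IsIso (R.toRightDerivedZero' F) ∧
        ∀ k : ℕ, ((F.mapHomologicalComplex (.up ℕ)).obj R.cocomplex).ExactAt (k + 1)) := by
  rw [quasiIso_iff]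
  constructor
  · intro h
    refine ⟨(deg_zero F X R).1 (h 0), fun k => ?_⟩
    rw [← tgt_exactAt_pos]
    rw [← quasiIsoAt_iff_exactAt _ _ (src_exactAt F X _ (by simp; omega))]
    exact h _
  · rintro ⟨h0, hk⟩ n
    obtain hn | rfl | hn := lt_trichotomy n 0
    · rw [quasiIsoAt_iff_exactAt _ _ (src_exactAt F X _ hn.ne)]
      exact tgt_exactAt_neg F X R n hn
    · exact (deg_zero F X R).2 h0
    · obtain ⟨k, rfl⟩ : ∃ k : ℕ, n = ((k + 1 : ℕ) : ℤ) := ⟨(n - 1).toNat, by omega⟩
      rw [quasiIsoAt_iff_exactAt _ _ (src_exactAt F X _ hn.ne'), tgt_exactAt_pos]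
      exact hk k

end step3

omit [HasDerivedCategory.{w} A] [HasDerivedCategory.{w'} B] in
lemma step4 (R : InjectiveResolution X) :
    (IsIso (R.toRightDerivedZero' F) ∧
        ∀ k : ℕ, ((F.mapHomologicalComplex (.up ℕ)).obj R.cocomplex).ExactAt (k + 1)) ↔
    (IsIso (F.toRightDerivedZero.app X) ∧ ∀ i : ℕ, 0 < i → IsZero ((F.rightDerived i).obj X)) := by
  have e1 : IsIso (F.toRightDerivedZero.app X) ↔ IsIso (R.toRightDerivedZero' F) := by
    rw [R.toRightDerivedZero_eq F]
    constructor
    · intro h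
      exact IsIso.of_isIso_comp_right _
        ((CochainComplex.isoHomologyπ₀ _).hom ≫ (R.isoRightDerivedObj F 0).inv)
    · intro h
      infer_instance
  have e2 (i : ℕ) : IsZero ((F.rightDerived i).obj X) ↔
      ((F.mapHomologicalComplex (.up ℕ)).obj R.cocomplex).ExactAt i := by
    rw [HomologicalComplex.exactAt_iff_isZero_homology]
    exact (R.isoRightDerivedObj F i).isZero_iff
  rw [e1]
  refine and_congr Iff.rfl ⟨fun h i hi => ?_, fun h k => ?_⟩
  · obtain ⟨k, rfl⟩ : ∃ k, i = k + 1 := ⟨i - 1, by omega⟩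
    rw [e2]; exact h k
  · rw [← e2]; exact h _ (by omega)

theorem main6624 :
    IsIso (F.rightDerivedFunctorPlusUnit.app ((HomotopyCategory.Plus.singleFunctor A 0).obj X)) ↔
      (IsIso (F.toRightDerivedZero.app X) ∧ ∀ i : ℕ, 0 < i → IsZero ((F.rightDerived i).obj X)) := by
  let R := injectiveResolution X
  rw [step1 F X R, step2 F X R, step3 F X R, step4 F X R]


end helpers

/-- Part (1): in the case where A has enough injectives: let F : A ⥤ B be an additive functor between
abelian categories, A with enough injectives, and X an object of A. Then X is right acyclic for F,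
i.e. the canonical map F(X)[0] ⟶ RF(X[0]) is an isomorphism in D⁺(B), if and only if F(X) ⟶ R⁰F(X)
is an isomorphism and RⁱF(X) = 0 for all i > 0. -/
theorem result {A : Type u} [Category.{v} A] [Abelian A] [HasDerivedCategory.{w} A] [EnoughInjectives A]
    {B : Type u'} [Category.{v'} B] [Abelian B] [HasDerivedCategory.{w'} B]
    (F : A ⥤ B) [F.Additive] (X : A) :
    IsIso (F.rightDerivedFunctorPlusUnit.app ((HomotopyCategory.Plus.singleFunctor A 0).obj X)) ↔
      (IsIso (F.toRightDerivedZero.app X) ∧ ∀ i : ℕ, 0 < i → IsZero ((F.rightDerived i).obj X)) := by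
  exact main6624 F X

end Groth.Agent.S6624
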