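import Groth.Statements.S6625
import Mathlib
import Groth.Prelude.Def_RDerDelta
import Groth.Agent.Lib.Helper24.Horseshoe3
import Groth.Agent.S6624

set_option autoImplicit false
universe w w' v v' u u'
open CategoryTheory CategoryTheory.Limits
open CohDer

namespace Groth.Agent.S6625
section helpers
open Opposite
set_option linter.unusedSectionVars false
open CategoryTheory CategoryTheory.Limits
variable {A : Type u} [Category.{v} A] [Abelian A] [EnoughInjectives A]
    {B : Type u'} [Category.{v'} B] [Abelian B]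
    (F : A ⥤ B) [F.Additive]

omit [EnoughInjectives A] in
lemma mono_H0 {K L : CochainComplex B ℕ} (φ : K ⟶ L) [Mono (φ.f 0)] :
    Mono (HomologicalComplex.homologyMap φ 0) := by
  have h1 : Mono (HomologicalComplex.cyclesMap φ 0) := by
    have : Mono (HomologicalComplex.cyclesMap φ 0 ≫ L.iCycles 0) := by
      rw [HomologicalComplex.cyclesMap_i]; infer_instance
    exact mono_of_mono _ (L.iCycles 0)
  have h2 : HomologicalComplex.homologyMap φ 0 =
      K.isoHomologyπ₀.inv ≫ HomologicalComplex.cyclesMap φ 0 ≫ L.isoHomologyπ₀.hom := by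
    rw [← CochainComplex.isoHomologyπ₀_inv_naturality_assoc, Iso.inv_hom_id, Category.comp_id]
  rw [h2]
  infer_instance

lemma mono_R0 (S : ShortComplex A) (hS : S.ShortExact) : Mono ((F.rightDerived 0).map S.f) := by
  obtain ⟨T⟩ := Groth.Agent.Helper24.Horseshoe.horseshoe S hS
  have hm : Mono (((F.mapHomologicalComplex (ComplexShape.up ℕ)).map T.f).f 0) :=
    (((T.splitting 0).map F).shortExact).mono_f
  have hm2 : Mono (HomologicalComplex.homologyMap
      (T.cx.map (F.mapHomologicalComplex (ComplexShape.up ℕ))).f 0) :=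
    mono_H0 ((F.mapHomologicalComplex (ComplexShape.up ℕ)).map T.f)
  have e := Groth.Agent.Helper24.Horseshoe.map_f_iso F T 0
  have : Mono ((F.rightDerived 0).map S.f ≫ (Groth.Agent.Helper24.Horseshoe.iso₂ F T 0).hom) := by
    rw [e]; exact mono_comp _ _
  exact mono_of_mono _ (Groth.Agent.Helper24.Horseshoe.iso₂ F T 0).hom


section main
variable (I : ObjectProperty A)
    (h1 : ∀ X : A, ∃ (Y : A) (ι : X ⟶ Y), I Y ∧ Mono ι)
    (h2 : ∀ S : ShortComplex A, S.ShortExact → I S.X₁ → I S.X₂ → I S.X₃ ∧ (S.map F).ShortExact)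

include h1 in
lemma exists_emb (X : A) : ∃ (J Y : A) (j : X ⟶ J) (k : J ⟶ Y),
    Injective J ∧ I Y ∧ Mono j ∧ Mono k := by
  obtain ⟨Y, k, hY, hk⟩ := h1 (Injective.under X)
  exact ⟨Injective.under X, Y, Injective.ι X, k, inferInstance, hY, inferInstance, hk⟩

/-- the short exact sequence `0 → X → Y → Y/X → 0`. -/
noncomputable def sesOf {X Y : A} (f : X ⟶ Y) : ShortComplex A :=
  ShortComplex.mk f (cokernel.π f) (cokernel.condition f)

omit [EnoughInjectives A] in
lemma sesOf_shortExact {X Y : A} (f : X ⟶ Y) [Mono f] : (sesOf f).ShortExact where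
  exact := ShortComplex.exact_cokernel f
  mono_f := inferInstanceAs (Mono f)
  epi_g := inferInstanceAs (Epi (cokernel.π f))

include h1 h2 in
lemma claim1 (X : A) (hX : I X) : Mono (F.toRightDerivedZero.app X) := by
  obtain ⟨J, Y, j, k, hJ, hY, hj, hk⟩ := exists_emb I h1 X
  have hS := sesOf_shortExact (j ≫ k)
  obtain ⟨hZ, hFS⟩ := h2 (sesOf (j ≫ k)) hS hX hY
  have m1 : Mono (F.map (j ≫ k)) := hFS.mono_f
  rw [F.map_comp] at m1
  have m2 : Mono (F.map j) := mono_of_mono _ (F.map k)
  have nat := F.toRightDerivedZero.naturality j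
  have : Mono (F.toRightDerivedZero.app X ≫ (F.rightDerived 0).map j) := by
    rw [← nat]; infer_instance
  exact mono_of_mono _ ((F.rightDerived 0).map j)

include h1 h2 in
lemma claim2 (X : A) (hX : I X) : IsIso (F.toRightDerivedZero.app X) := by
  obtain ⟨J, Y, j, k, hJ, hY, hj, hk⟩ := exists_emb I h1 X
  have hS := sesOf_shortExact (j ≫ k)
  obtain ⟨hZ, hFS⟩ := h2 (sesOf (j ≫ k)) hS hX hY
  have mX := claim1 F I h1 h2 X hX
  have mZ : Mono (F.toRightDerivedZero.app (cokernel (j ≫ k))) := claim1 F I h1 h2 _ hZ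
  have mR : Mono ((F.rightDerived 0).map (j ≫ k)) := mono_R0 F _ hS
  set η := F.toRightDerivedZero with hη
  let t : (F.rightDerived 0).obj X ⟶ F.obj Y := (F.rightDerived 0).map j ≫ inv (η.app J) ≫ F.map k
  have ht : t ≫ η.app Y = (F.rightDerived 0).map (j ≫ k) := by
    dsimp only [t]
    rw [Category.assoc, Category.assoc, η.naturality k, IsIso.inv_hom_id_assoc,
      ← Functor.map_comp]
  have ht0 : t ≫ F.map (cokernel.π (j ≫ k)) = 0 := by
    rw [← cancel_mono (η.app (cokernel (j ≫ k))), Category.assoc, η.naturality, reassoc_of% ht,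
      ← Functor.map_comp, cokernel.condition, Functor.map_zero, zero_comp]
  have hex : (sesOf (j ≫ k)).map F |>.Exact := hFS.exact
  have : Mono ((sesOf (j ≫ k)).map F).f := hFS.mono_f
  let u : (F.rightDerived 0).obj X ⟶ F.obj X := hex.lift t ht0
  have hu : u ≫ F.map (j ≫ k) = t := hex.lift_f t ht0
  have hu2 : u ≫ η.app X = 𝟙 _ := by
    rw [← cancel_mono ((F.rightDerived 0).map (j ≫ k)), Category.assoc, ← η.naturality,
      reassoc_of% hu, ht, Category.id_comp]
  have : IsSplitEpi (η.app X) := ⟨⟨u, hu2⟩⟩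
  exact isIso_of_mono_of_isSplitEpi _


include h1 h2 in
lemma claim3 : ∀ (i : ℕ) (X : A), I X → IsZero ((F.rightDerived (i + 1)).obj X) := by
  intro i
  induction i with
  | zero =>
    intro X hX
    obtain ⟨J, Y, j, k, hJ, hY, hj, hk⟩ := exists_emb I h1 X
    have hS := sesOf_shortExact (j ≫ k)
    obtain ⟨hZ, hFS⟩ := h2 (sesOf (j ≫ k)) hS hX hY
    let Δ := Groth.Agent.Helper24.Horseshoe.derivedLES F
    -- R¹F(f) = 0
    have hf0 : (F.rightDerived 1).map (sesOf (j ≫ k)).f = 0 := by
      change (F.rightDerived 1).map (j ≫ k) = 0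
      rw [Functor.map_comp]
      have : IsZero ((F.rightDerived (0 + 1)).obj J) :=
        F.isZero_rightDerived_obj_injective_succ 0 J
      rw [this.eq_of_tgt ((F.rightDerived 1).map j) 0, zero_comp]
    have ex1 := Δ.exact₁ _ hS 0 1 rfl
    have epiδ : Epi (Δ.δ _ hS 0 1 rfl) := by
      have := ex1.epi_f hf0
      exact this
    -- R⁰F(g) is epi
    have iY := claim2 F I h1 h2 Y hY
    have iZ : IsIso (F.toRightDerivedZero.app (cokernel (j ≫ k))) := claim2 F I h1 h2 _ hZ
    have epig : Epi ((F.rightDerived 0).map (sesOf (j ≫ k)).g) := by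
      have e1 : Epi (F.map (sesOf (j ≫ k)).g) := hFS.epi_g
      have nat := F.toRightDerivedZero.naturality (sesOf (j ≫ k)).g
      have : Epi (F.toRightDerivedZero.app (sesOf (j ≫ k)).X₂ ≫
          (F.rightDerived 0).map (sesOf (j ≫ k)).g) := by
        rw [← nat]
        exact epi_comp' e1 (inferInstanceAs (Epi (F.toRightDerivedZero.app (cokernel (j ≫ k)))))
      exact epi_of_epi (F.toRightDerivedZero.app (sesOf (j ≫ k)).X₂) _
    have hδ0 : Δ.δ _ hS 0 1 rfl = 0 := by
      rw [← cancel_epi ((F.rightDerived 0).map (sesOf (j ≫ k)).g), Δ.comp_δ, comp_zero]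
    have : 𝟙 ((F.rightDerived 1).obj (sesOf (j ≫ k)).X₁) = 0 := by
      rw [← cancel_epi (Δ.δ _ hS 0 1 rfl), hδ0, zero_comp, zero_comp]
    exact (IsZero.iff_id_eq_zero _).2 this
  | succ i ih =>
    intro X hX
    obtain ⟨J, Y, j, k, hJ, hY, hj, hk⟩ := exists_emb I h1 X
    have hS := sesOf_shortExact (j ≫ k)
    obtain ⟨hZ, hFS⟩ := h2 (sesOf (j ≫ k)) hS hX hY
    let Δ := Groth.Agent.Helper24.Horseshoe.derivedLES F
    have hf0 : (F.rightDerived (i + 1 + 1)).map (sesOf (j ≫ k)).f = 0 := by
      change (F.rightDerived (i + 1 + 1)).map (j ≫ k) = 0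
      rw [Functor.map_comp]
      have : IsZero ((F.rightDerived (i + 1 + 1)).obj J) :=
        F.isZero_rightDerived_obj_injective_succ (i + 1) J
      rw [this.eq_of_tgt ((F.rightDerived (i + 1 + 1)).map j) 0, zero_comp]
    have ex1 := Δ.exact₁ _ hS (i + 1) (i + 1 + 1) rfl
    have epiδ : Epi (Δ.δ _ hS (i + 1) (i + 1 + 1) rfl) := ex1.epi_f hf0
    have hZ0 : IsZero ((F.rightDerived (i + 1)).obj (sesOf (j ≫ k)).X₃) := ih _ hZ
    have : 𝟙 ((F.rightDerived (i + 1 + 1)).obj (sesOf (j ≫ k)).X₁) = 0 := by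
      rw [← cancel_epi (Δ.δ _ hS (i + 1) (i + 1 + 1) rfl),
        hZ0.eq_of_src (Δ.δ _ hS (i + 1) (i + 1 + 1) rfl) 0, zero_comp, zero_comp]
    exact (IsZero.iff_id_eq_zero _).2 this

end main

theorem main6625 {A : Type u} [Category.{v} A] [Abelian A] [HasDerivedCategory.{w} A] [EnoughInjectives A]
    {B : Type u'} [Category.{v'} B] [Abelian B] [HasDerivedCategory.{w'} B]
    (F : A ⥤ B) [F.Additive] (I : ObjectProperty A)
    (h1 : ∀ X : A, ∃ (Y : A) (ι : X ⟶ Y), I Y ∧ Mono ι)
    (h2 : ∀ S : ShortComplex A, S.ShortExact → I S.X₁ → I S.X₂ → I S.X₃ ∧ (S.map F).ShortExact)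
    (X : A) (hX : I X) :
    IsIso (F.rightDerivedFunctorPlusUnit.app ((HomotopyCategory.Plus.singleFunctor A 0).obj X)) := by
  rw [Groth.Agent.S6624.result]
  refine ⟨claim2 F I h1 h2 X hX, fun i hi => ?_⟩
  obtain ⟨k, rfl⟩ : ∃ k, i = k + 1 := ⟨i - 1, by omega⟩
  exact claim3 F I h1 h2 k X hX


end helpers

/-- In the case where A has enough injectives: let F : A ⥤ B be an additive functor between abelian
categories, A with enough injectives, and I a class of objects of A such that (1) each object of A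
embeds by a monomorphism into some object of I, and (2) whenever 0 → P → Q → R → 0 is a short exact
sequence whose terms P and Q lie in I, the third term R also lies in I, and applying F to the
sequence yields a short exact sequence in B. Under these assumptions, each X belonging to I is right
acyclic for F, meaning the map F(X)[0] ⟶ RF(X[0]) is an isomorphism. -/
theorem result {A : Type u} [Category.{v} A] [Abelian A] [HasDerivedCategory.{w} A] [EnoughInjectives A]
    {B : Type u'} [Category.{v'} B] [Abelian B] [HasDerivedCategory.{w'} B]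
    (F : A ⥤ B) [F.Additive] (I : ObjectProperty A)
    (h1 : ∀ X : A, ∃ (Y : A) (ι : X ⟶ Y), I Y ∧ Mono ι)
    (h2 : ∀ S : ShortComplex A, S.ShortExact → I S.X₁ → I S.X₂ → I S.X₃ ∧ (S.map F).ShortExact)
    (X : A) (hX : I X) :
    IsIso (F.rightDerivedFunctorPlusUnit.app ((HomotopyCategory.Plus.singleFunctor A 0).obj X)) := by
  exact main6625 F I h1 h2 X hX

end Groth.Agent.S6625
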