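import Groth.Statements.S6023
import Mathlib
import Groth.Agent.Lib.Helper9.OpenRes2
import Groth.Agent.S6624
import Groth.Agent.S6625

set_option autoImplicit false
universe u
open CategoryTheory CategoryTheory.Limits TopologicalSpace
open LocCohZ

namespace Groth.Agent.S6023

/-- Let F be a flasque abelian sheaf on a topological space X. Then H^i_Z(V, F) = 0 for every locally
closed subset Z = V − W (W ⊆ V opens of X) and every i > 0, and ℋ^i_Z(F) = 0 for every closed subset
Z = X − U and every i > 0. (The sheaf assertion is stated for closed Z only.) -/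
theorem result {X : TopCat.{u}} (F : CohTop.Ab X) [TopCat.Sheaf.IsFlasque F] :
    (∀ (W V : Opens X) (h : W ≤ V) (i : ℕ), 0 < i → Subsingleton (LocCohZ.HZ F i h)) ∧
      ∀ (U : Opens X) (i : ℕ), 0 < i → IsZero ((LocCohZ.HZsh U i).obj F) := by
  refine ⟨fun W V h i hi => ?_, fun U i hi => ?_⟩
  · obtain ⟨n, rfl⟩ : ∃ n, i = n + 1 := ⟨i - 1, by omega⟩
    refine subsingleton_of_forall_eq 0 fun x => ?_
    have hS := LocCohZ.zqSeq_shortExact h
    haveI : Subsingleton (CohTop.HU F (n + 1) V) :=
      Groth.Agent.Helper24.Flasque.HU_succ_subsingleton n F inferInstance V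
    have h3 : (Abelian.Ext.mk₀ (LocCohZ.zqSeq h).g).comp x (zero_add (n + 1)) = 0 :=
      Subsingleton.elim (α := CohTop.HU F (n + 1) V) _ _
    obtain ⟨x₁, hx₁⟩ := Abelian.Ext.contravariant_sequence_exact₃ hS F x h3
      (show 1 + n = n + 1 by omega)
    rw [← hx₁]
    cases n with
    | zero =>
      obtain ⟨t, ht⟩ := (AddCommGrpCat.epi_iff_surjective _).1
        (TopCat.Presheaf.IsFlasque.epi (F := F.obj) (homOfLE h).op)
        (CohFree.evalGen (Opens.grothendieckTopology X) W F (Abelian.Ext.addEquiv₀ x₁))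
      let ψ : (LocCohZ.zqSeq h).X₂ ⟶ F := CohFree.ofSect (Opens.grothendieckTopology X) V F t
      have e1 : CohFree.evalGen (Opens.grothendieckTopology X) W F ((LocCohZ.zqSeq h).f ≫ ψ) =
          CohFree.evalGen (Opens.grothendieckTopology X) W F (Abelian.Ext.addEquiv₀ x₁) := by
        refine (CohFree.evalGen_freeSheafMap_comp (Opens.grothendieckTopology X)
          (homOfLE h) F ψ).trans ?_
        rw [CohFree.evalGen_ofSect]
        exact ht
      have hψ : (LocCohZ.zqSeq h).f ≫ ψ = Abelian.Ext.addEquiv₀ x₁ :=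
        (CohFree.ofSect_evalGen (Opens.grothendieckTopology X) W F
          ((LocCohZ.zqSeq h).f ≫ ψ)).symm.trans
          ((congrArg (CohFree.ofSect (Opens.grothendieckTopology X) W F) e1).trans
            (CohFree.ofSect_evalGen (Opens.grothendieckTopology X) W F _))
      have e2 : x₁ = (Abelian.Ext.mk₀ (LocCohZ.zqSeq h).f).comp (Abelian.Ext.mk₀ ψ) (zero_add 0) := by
        rw [Abelian.Ext.mk₀_comp_mk₀, hψ, Abelian.Ext.mk₀_addEquiv₀_apply]
      rw [e2]
      exact hS.extClass_comp_assoc _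
    | succ m =>
      haveI : Subsingleton (CohTop.HU F (m + 1) W) :=
        Groth.Agent.Helper24.Flasque.HU_succ_subsingleton m F inferInstance W
      have hx0 : x₁ = (0 : Abelian.Ext (LocCohZ.zqSeq h).X₁ F (m + 1)) :=
        Subsingleton.elim (α := CohTop.HU F (m + 1) W) _ _
      rw [hx0, Abelian.Ext.comp_zero]
      rfl
  · letI := HasDerivedCategory.standard (CohTop.Ab X)
    have h1 : ∀ Y : CohTop.Ab X, ∃ (Y' : CohTop.Ab X) (ι : Y ⟶ Y'),
        (fun G : CohTop.Ab X => TopCat.Sheaf.IsFlasque G) Y' ∧ Mono ι := fun Y =>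
      ⟨Injective.under Y, Injective.ι Y,
        @Groth.Agent.Helper24.Flasque.isFlasque_of_injective _ _ (Injective.injective_under Y),
        inferInstance⟩
    have h2 : ∀ S : ShortComplex (CohTop.Ab X), S.ShortExact →
        (fun G : CohTop.Ab X => TopCat.Sheaf.IsFlasque G) S.X₁ →
        (fun G : CohTop.Ab X => TopCat.Sheaf.IsFlasque G) S.X₂ →
        (fun G : CohTop.Ab X => TopCat.Sheaf.IsFlasque G) S.X₃ ∧
          (S.map (LocCohZ.sectSuppF U)).ShortExact := fun S hS hF1 hF2 =>
      ⟨@TopCat.Sheaf.IsFlasque.of_shortExact_of_isFlasque₁₂ _ S hS hF1 hF2,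
        @Groth.Agent.Helper9.OpenRes.sectSuppF_map_shortExact _ U S hS hF1⟩
    have h5 := Groth.Agent.S6625.result (LocCohZ.sectSuppF U)
      (fun G : CohTop.Ab X => TopCat.Sheaf.IsFlasque G) h1 h2 F inferInstance
    exact ((Groth.Agent.S6624.result (LocCohZ.sectSuppF U) F).1 h5).2 i hi

end Groth.Agent.S6023
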