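import Groth.Statements.S0016
import Mathlib
import Groth.Agent.Lib.Helper13.VanishBound

set_option autoImplicit false
universe u
open Coherent

namespace Groth.Agent.S0016

open AlgebraicGeometry CategoryTheory CategoryTheory.Limits Opposite TopologicalSpace
open Groth.Agent.Helper13.AffineVanish Groth.Agent.Helper13.MVLemma Groth.Agent.Helper13.VanishBound

open AlgebraicGeometry in
/-- For a quasi-compact quasi-separated scheme X there is a natural number d such that H^p(X, F) = 0 for
every quasi-coherent F and every p ≥ d; vanishing is stated as Subsingleton of the cohomology group.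
(The published statement gives an explicit d in terms of a covering by quasi-compact separated
opens; here only existence of some d is asserted.) -/
theorem result (X : Scheme.{u}) [CompactSpace X]
    [QuasiSeparatedSpace X] :
    ∃ d : ℕ, ∀ (M : X.Modules), Coh.IsQCoh M → ∀ p : ℕ, d ≤ p → Subsingleton (Coh.HH X M p) := by
  have key : ∀ S : X.Opens, IsCompact (S : Set X) → ∃ d : ℕ, ∀ (M : X.Modules), Coh.IsQCoh M →
      ∀ p, d ≤ p → Subsingleton (CohTop.HU (X := X.toTopCat) (Coh.toAb M) p S) := by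
    intro S hS
    refine compact_open_induction_on (P := fun S => ∃ d : ℕ, ∀ (M : X.Modules), Coh.IsQCoh M →
      ∀ p, d ≤ p → Subsingleton (CohTop.HU (X := X.toTopCat) (Coh.toAb M) p S)) S hS ?_ ?_
    · refine ⟨1, fun M hM p hp => ?_⟩
      obtain ⟨m, rfl⟩ : ∃ m, p = m + 1 := ⟨p - 1, by omega⟩
      haveI : M.IsQuasicoherent := hM
      exact HU_subsingleton_of_isAffineOpen M ⊥ (isAffineOpen_bot X) m
    · rintro S hS U ⟨dS, hdS⟩
      have hSU : IsCompact ((S ⊓ U.1 : X.Opens) : Set X) :=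
        QuasiSeparatedSpace.inter_isCompact (α := X) _ _ S.isOpen hS U.1.isOpen U.2.isCompact
      have hx : ∀ x : (S ⊓ U.1 : X.Opens), ∃ f : Γ(X, U.1),
          X.basicOpen f ≤ S ⊓ U.1 ∧ x.1 ∈ X.basicOpen f :=
        fun x => U.2.exists_basicOpen_le ⟨x.1, x.2⟩ x.2.2
      choose fx hfx1 hfx2 using hx
      obtain ⟨t, ht⟩ := hSU.elim_finite_subcover
        (fun x : (S ⊓ U.1 : X.Opens) => (X.basicOpen (fx x) : Set X))
        (fun x => (X.basicOpen (fx x)).isOpen)
        (fun x hx => Set.mem_iUnion.2 ⟨⟨x, hx⟩, hfx2 ⟨x, hx⟩⟩)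
      let V : Option {x // x ∈ t} → X.Opens := fun o => o.elim ⊥ (fun x => X.basicOpen (fx x.1))
      have hV : ⨆ o, V o = S ⊓ U.1 := by
        apply le_antisymm
        · refine iSup_le fun o => ?_
          cases o with
          | none => exact bot_le
          | some x => exact hfx1 x.1
        · intro x hx
          obtain ⟨y, hy⟩ := Set.mem_iUnion.1 (ht hx)
          obtain ⟨hyt, hy'⟩ := Set.mem_iUnion.1 hy
          exact Opens.mem_iSup.2 ⟨some ⟨y, hyt⟩, hy'⟩
      let 𝒜 : Set X.Opens := {W | ∃ f : Γ(X, U.1), W = X.basicOpen f}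
      have h𝒜 : ∀ W ∈ 𝒜, IsAffineOpen W := by
        rintro _ ⟨f, rfl⟩
        exact U.2.basicOpen f
      have hinf : ∀ W ∈ 𝒜, ∀ W' ∈ 𝒜, W ⊓ W' ∈ 𝒜 := by
        rintro _ ⟨f, rfl⟩ _ ⟨g, rfl⟩
        exact ⟨f * g, (Scheme.basicOpen_mul X f g).symm⟩
      have hVmem : ∀ o, V o ∈ 𝒜 := by
        intro o
        cases o with
        | none => exact ⟨0, (Scheme.basicOpen_zero X U.1).symm⟩
        | some x => exact ⟨fx x.1, rfl⟩
      refine ⟨max (max dS (Nat.card (Option {x // x ∈ t}) + 1)) 1, fun M hM p hp => ?_⟩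
      haveI : M.IsQuasicoherent := hM
      obtain ⟨m, rfl⟩ : ∃ m, p = m + 1 := ⟨p - 1, by omega⟩
      apply HU_sup_subsingleton (X := X.toTopCat) (Coh.toAb M)
      · have h1 := HU_iSup_subsingleton M 𝒜 h𝒜 hinf V hVmem m (by omega)
        rw [hV] at h1
        exact h1
      · exact hdS M hM (m + 1) (by omega)
      · exact HU_subsingleton_of_isAffineOpen M U.1 U.2 m
  obtain ⟨d, hd⟩ := key ⊤ isCompact_univ
  refine ⟨d, fun M hM p hp => ?_⟩
  haveI := hd M hM p hp
  exact (Groth.Agent.Helper13.HUTop.HUtopEquiv (X := X.toTopCat) (Coh.toAb M) p).symm.injective.subsingleton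

end Groth.Agent.S0016
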