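import Groth.Statements.S4270
import Groth.Agent.Lib.Helper13.AmpleFam

set_option autoImplicit false
universe u
open CategoryTheory CategoryTheory.Limits AlgebraicGeometry
attribute [local instance] HasDerivedCategory.standard
open KSix

namespace Groth.Agent.S4270

/-- A scheme admitting an ample family of invertible modules has the resolution property: every
quasi-coherent module of finite type is a quotient of a finite locally free module. -/
theorem result (X : Scheme.{u}) (hX : MoreMor.HasAmpleFamily X) :
    PerfAux.HasResolutionProperty X := by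
  obtain ⟨hc, hcov⟩ := hX
  haveI := hc
  choose L n s hinv hn hx hs using hcov
  haveI : QuasiSeparatedSpace X :=
    QuasiSeparatedSpace.of_isOpenCover (U := fun x => CohB1.genLocus _ (s x))
      (eq_top_iff.mpr fun x _ => TopologicalSpace.Opens.mem_iSup.mpr ⟨x, hx x⟩)
      (fun x => Groth.Agent.Helper13.Ample.isRetrocompact_genLocus _
        (Groth.Agent.Helper13.Inv.isInvertible_tensorPow (L x) (hinv x) _) (s x))
      (fun x => (hs x).isQuasiSeparated)
  intro M hM hM'
  haveI : M.IsQuasicoherent := hM
  haveI : SheafOfModules.IsFiniteType (R := X.ringCatSheaf) M := hM'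
  obtain ⟨k, i, N, hN, π, hπ⟩ := Groth.Agent.Helper13.AmpleFam.exists_epi_of_family L hinv
    (fun x => ⟨x, n x, hn x, s x, hx x, hs x⟩) M
  exact ⟨_, π, Groth.Agent.Helper13.AmpleFam.isFinLocFree_biproduct_of_isInvertible _
    (fun j => Groth.Agent.Helper13.InvDual.isInvertible_dual _
      (Groth.Agent.Helper13.Inv.isInvertible_tensorPow _ (hinv _) _)), hπ⟩

end Groth.Agent.S4270
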