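import Groth.Statements.S8914
import Mathlib
import Groth.Agent.Lib.Helper13.EffCartier

set_option autoImplicit false
universe u
open CategoryTheory CategoryTheory.Limits AlgebraicGeometry TopologicalSpace
open SDiv

namespace Groth.Agent.S8914

open CategoryTheory CategoryTheory.Limits AlgebraicGeometry Opposite TopologicalSpace
open Groth.Agent.Helper13.EffCartier Groth.Agent.Helper13.Inv

/-- Let S be a scheme and D ⊆ S a closed subscheme with quasi-coherent ideal sheaf 𝓘. Then the ideal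
sheaf of D is an invertible O_S-module (that is, D is an effective Cartier divisor) if and only if
every point has an affine open neighbourhood Spec A in S with D ∩ Spec A = Spec A/(f) for a
nonzerodivisor f ∈ A. -/
theorem result {S : Scheme.{u}} (𝓘 : S.IdealSheafData) :
    PicF.IsInvertible (ClSub.idealMod 𝓘) ↔ BlowUp.IsEffCartierIdeal 𝓘 := by
  constructor
  · intro hinv x
    have hK : PicF.IsInvertible (K 𝓘) := isInvertible_of_iso (idealModIso 𝓘) hinv
    obtain ⟨U₀, hxU₀, e, he⟩ := (isInvertible_iff_exists_isGen (K 𝓘)).1 hK x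
    obtain ⟨U, hU, hxU, hUU₀⟩ := exists_isAffineOpen_mem_and_subset (x := x) (U := U₀) hxU₀
    let e' : Γ(K 𝓘, U) := (K 𝓘).presheaf.map (homOfLE hUU₀).op e
    have he' : ∀ (y : S) (hy : y ∈ U), IsGen (K 𝓘) e' y hy := fun y hy =>
      (isGen_res (K 𝓘) (homOfLE hUU₀) e y hy).2 (he y (hUU₀ hy))
    obtain ⟨h1, h2⟩ := span_singleton_of_isGen 𝓘 ⟨U, hU⟩ e' he'
    exact ⟨⟨U, hU⟩, hxU, fn 𝓘 e', h1, h2⟩
  · intro h
    refine isInvertible_of_iso (idealModIso 𝓘).symm ?_
    rw [isInvertible_iff_exists_isGen]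
    intro x
    obtain ⟨U, hxU, f, hf, hI⟩ := h x
    obtain ⟨e, he⟩ := (mem_ideal_iff 𝓘 U f).1 (by rw [hI]; exact Ideal.mem_span_singleton_self f)
    exact ⟨U.1, hxU, e, fun y hy => isGen_of_span_singleton 𝓘 U f hf hI e he y hy⟩

end Groth.Agent.S8914
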