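import Groth.Statements.S0022
import Mathlib
import Groth.Prelude.Def_Coh
import Groth.Prelude.Def_CohB1
import Groth.Agent.Lib.Helper13.VanishBound
import Groth.Agent.Lib.Helper13.HUTop

set_option autoImplicit false
universe u
open Coherent

namespace Groth.Agent.S0022

open AlgebraicGeometry CategoryTheory TopologicalSpace

lemma irrelevant_le (n : ℕ) (R : Type u) [CommRing R] :
    (HomogeneousIdeal.irrelevant (CohB1.polyGrading n R)).toIdeal ≤
      Ideal.span (Set.range (MvPolynomial.X : Fin (n + 1) → MvPolynomial (Fin (n + 1)) R)) := by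
  intro p hp
  have h0 : GradedRing.proj (CohB1.polyGrading n R) 0 p = 0 :=
    (HomogeneousIdeal.mem_irrelevant_iff _ _).mp hp
  have h1 : MvPolynomial.homogeneousComponent 0 p = 0 := by
    rw [← h0, GradedRing.proj_apply]
    exact (MvPolynomial.decomposition.decompose'_apply p 0).symm
  have h2 : p ∈ MvPolynomial.idealOfVars (Fin (n + 1)) R ^ 1 := by
    rw [MvPolynomial.mem_pow_idealOfVars_iff']
    intro x hx
    have hx0 : x = 0 := by
      have : x.degree = 0 := by omega
      exact (Finsupp.degree_eq_zero_iff x).1 this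
    subst hx0
    have := congrArg (MvPolynomial.coeff 0) h1
    simpa [MvPolynomial.coeff_homogeneousComponent] using this
  simpa using h2

open AlgebraicGeometry in
/-- For any ring R, any quasi-coherent module F on projective space ℙ^n_R and any i > n, H^i(ℙ^n_R, F) =
0. (The published statement is for coherent modules over a Noetherian ring; it is stated here for
quasi-coherent modules over any ring.) -/
theorem result (n : ℕ) (R : Type u) [CommRing R]
    (M : (CohB1.ProjSpace n R).Modules) [Coh.IsQCoh M] (i : ℕ) (hi : n < i) :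
    Subsingleton (Coh.HH (CohB1.ProjSpace n R) M i) := by
  let X := CohB1.ProjSpace n R
  let 𝒜 : Set X.Opens := {W | ∃ (f : MvPolynomial (Fin (n + 1)) R) (m : ℕ)
    (_ : f ∈ CohB1.polyGrading n R m) (_ : 0 < m), W = Proj.basicOpen (CohB1.polyGrading n R) f}
  have h𝒜 : ∀ W ∈ 𝒜, IsAffineOpen W := by
    rintro _ ⟨f, m, hf, hm, rfl⟩
    exact Proj.isAffineOpen_basicOpen _ f hf hm
  have hinf : ∀ W ∈ 𝒜, ∀ W' ∈ 𝒜, W ⊓ W' ∈ 𝒜 := by
    rintro _ ⟨f, m, hf, hm, rfl⟩ _ ⟨g, m', hg, hm', rfl⟩
    exact ⟨f * g, m + m', SetLike.mul_mem_graded hf hg, by omega, (Proj.basicOpen_mul _ f g).symm⟩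
  let U : Fin (n + 1) → X.Opens := fun k =>
    Proj.basicOpen (CohB1.polyGrading n R) (MvPolynomial.X k)
  have hU : ∀ k, U k ∈ 𝒜 := fun k =>
    ⟨MvPolynomial.X k, 1, MvPolynomial.isHomogeneous_X R k, Nat.one_pos, rfl⟩
  have hcov : ⨆ k, U k = ⊤ := Proj.iSup_basicOpen_eq_top _ _ (irrelevant_le n R)
  have h1 := Groth.Agent.Helper13.VanishBound.HU_iSup_subsingleton M 𝒜 h𝒜 hinf U hU i
    (by simp; omega)
  rw [hcov] at h1
  exact (Groth.Agent.Helper13.HUTop.HUtopEquiv (X := X.toTopCat) (Coh.toAb M) i).symm.injective.subsingleton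

end Groth.Agent.S0022
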