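import Groth.Statements.S2331
import Mathlib
import Groth.Prelude.Def_Coh
import Groth.Prelude.Def_Pic
import Groth.Prelude.Def_CohB1
import Groth.Prelude.Def_Curv2
import Groth.Prelude.Def_LCI2
import Groth.Agent.Lib.Helper13.RelAmpleComp2

set_option autoImplicit false
universe u
open CategoryTheory CategoryTheory.Limits AlgebraicGeometry
open EGA2

namespace Groth.Agent.S2331

open CategoryTheory CategoryTheory.Limits AlgebraicGeometry Opposite TopologicalSpace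
open Groth.Agent.Helper13.Ample Groth.Agent.Helper13.RelAmpleComp

/-- Let Z be quasi-compact, f : X → Y and g : Y → Z quasi-compact morphisms, L an O_X-module ample
relative to f and K an O_Y-module ample relative to g. Then there is n₀ > 0 such that L ⊗
f^*(K^{⊗n}) is ample relative to g ∘ f for every n ≥ n₀. -/
theorem result {X Y Z : Scheme.{u}} [CompactSpace Z] (f : X ⟶ Y) (g : Y ⟶ Z)
    [QuasiCompact f] [QuasiCompact g] (L : X.Modules) (K : Y.Modules)
    (hL : RelAmple.IsRelAmple f L) (hK : RelAmple.IsRelAmple g K) :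
    ∃ n₀ : ℕ, 0 < n₀ ∧ ∀ n, n₀ ≤ n →
      RelAmple.IsRelAmple (f ≫ g) (CohB1.tensorMod L ((Scheme.Modules.pullback f).obj (CohB1.tensorPow K n))) := by
  classical
  have key : ∀ W : Z.affineOpens, ∃ n₀ : ℕ, ∀ n, n₀ ≤ n → CohB1.IsAmple
      ((CohB1.tensorMod L ((Scheme.Modules.pullback f).obj (CohB1.tensorPow K n))).restrict
        (f ⁻¹ᵁ (g ⁻¹ᵁ W.1)).ι) := by
    intro W
    obtain ⟨n₀, h⟩ := exists_isAmple_tensor_pullback_pow (f ∣_ (g ⁻¹ᵁ W.1))
      (L.restrict (f ⁻¹ᵁ (g ⁻¹ᵁ W.1)).ι) (K.restrict (g ⁻¹ᵁ W.1).ι)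
      (isRelAmple_morphismRestrict f L hL _) (hK.2 W)
    exact ⟨n₀, fun n hn => isAmple_of_iso (restrictTensorPullbackPowIso f L K n _).symm (h n hn)⟩
  choose n₀ hn₀ using key
  obtain ⟨T, hT⟩ := isCompact_univ.elim_finite_subcover
    (fun V : Z.affineOpens => ((V.1 : Z.Opens) : Set Z)) (fun V => V.1.2)
    (fun y _ => by
      obtain ⟨V, hV, hyV, -⟩ := exists_isAffineOpen_mem_and_subset (x := y) (U := ⊤) trivial
      exact Set.mem_iUnion.2 ⟨⟨V, hV⟩, hyV⟩)
  refine ⟨T.sup n₀ + 1, Nat.succ_pos _, fun n hn => ⟨inferInstance, fun W => ?_⟩⟩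
  apply isAmple_restrict_preimage_of_local (f ≫ g) _ W.1 W.2
  intro z _
  obtain ⟨W', hW'T, hzW'⟩ : ∃ W' ∈ T, z ∈ W'.1 := by
    have := hT (Set.mem_univ z)
    simpa using this
  exact ⟨f ⁻¹ᵁ (g ⁻¹ᵁ W'.1), W'.1, hzW', le_rfl,
    hn₀ W' n ((Finset.le_sup hW'T).trans ((Nat.le_succ _).trans hn))⟩

end Groth.Agent.S2331
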