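import Groth.Statements.S2359
import Groth.Agent.Lib.Helper13.PbAmple
import Groth.Agent.Lib.Helper13.PullbackLocal
import Groth.Agent.Lib.Helper13.AmpleRestrict

set_option autoImplicit false
universe u
open CategoryTheory CategoryTheory.Limits AlgebraicGeometry
open EGA2

namespace Groth.Agent.S2359

/-- Let f : X → Y be quasi-compact, j : X' → X a quasi-compact morphism whose underlying map is a
homeomorphism onto a subspace of X, and L an O_X-module ample relative to f. Then j^* L is ample
relative to j ≫ f. -/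
theorem result {X X' Y : Scheme.{u}} (f : X ⟶ Y) [QuasiCompact f] (j : X' ⟶ X) [QuasiCompact j]
    (hj : Topology.IsEmbedding j.base) (L : X.Modules) (hL : RelAmple.IsRelAmple f L) :
    RelAmple.IsRelAmple (j ≫ f) ((Scheme.Modules.pullback j).obj L) := by
  refine ⟨inferInstance, fun V => ?_⟩
  let U : X.Opens := f ⁻¹ᵁ V.1
  have hamp : CohB1.IsAmple (L.restrict U.ι) := hL.2 V
  haveI : CompactSpace ((j ⁻¹ᵁ U : X'.Opens) : Scheme.{u}) :=
    Groth.Agent.Helper13.Ample.compactSpace_preimage (j ≫ f) V.1 V.2.isCompact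
  have hemb : Topology.IsEmbedding (j ∣_ U) := by
    rw [morphismRestrict_base]
    exact hj.restrictPreimage _
  have h1 := Groth.Agent.Helper13.PbAmple.isAmple_pullback_of_isEmbedding (j ∣_ U)
    (L.restrict U.ι) hemb hamp
  have e := (Groth.Agent.Helper13.Pullback.pullbackRestrictIso j (j ⁻¹ᵁ U).ι U.ι (j ∣_ U)
    (morphismRestrict_ι j U).symm).app L
  exact Groth.Agent.Helper13.Ample.isAmple_of_iso e.symm h1

end Groth.Agent.S2359
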