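import Groth.Statements.S4380
import Groth.Agent.Lib.Helper13.AmpleRel

set_option autoImplicit false
universe u
open CategoryTheory CategoryTheory.Limits AlgebraicGeometry
open EGA2

namespace Groth.Agent.S4380

open Groth.Agent.Helper13.Ample in

/-- Let f : X → Y be a quasi-compact morphism, L an O_X-module and (U_i) a cover of Y by open subsets.
Then L is ample relative to f if and only if, for every i, the restriction of L to f⁻¹(U_i) is ample
relative to the restriction f⁻¹(U_i) → U_i of f. -/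
theorem result {X Y : Scheme.{u}} (f : X ⟶ Y) [QuasiCompact f] (L : X.Modules)
    {ι : Type u} (U : ι → Y.Opens) (hU : ⨆ i, U i = ⊤) :
    RelAmple.IsRelAmple f L ↔ ∀ i, RelAmple.IsRelAmple (f ∣_ (U i)) (L.restrict (f ⁻¹ᵁ (U i)).ι) := by
  have hrange : ∀ (i : ι) (V'' : ((U i : Y.Opens) : Scheme.{u}).Opens),
      Set.range (((f ∣_ (U i)) ⁻¹ᵁ V'').ι ≫ (f ⁻¹ᵁ (U i)).ι) =
        ((f ⁻¹ᵁ ((U i).ι ''ᵁ V'') : X.Opens) : Set X) := by
    intro i V''
    rw [← image_morphismRestrict_preimage]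
    ext x
    constructor
    · rintro ⟨p, rfl⟩
      exact ⟨p.1, p.2, rfl⟩
    · rintro ⟨p, hp, rfl⟩
      exact ⟨⟨p, hp⟩, rfl⟩
  constructor
  · rintro ⟨-, h2⟩ i
    refine ⟨inferInstance, fun V'' => ?_⟩
    have hV' : IsAffineOpen ((U i).ι ''ᵁ V''.1) := V''.2.image_of_isOpenImmersion (U i).ι
    haveI : CompactSpace (((f ∣_ (U i)) ⁻¹ᵁ V''.1 : ((f ⁻¹ᵁ (U i) : X.Opens) : Scheme.{u}).Opens) :
        Scheme.{u}) := compactSpace_preimage (f ∣_ (U i)) V''.1 V''.2.isCompact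
    have hr : Set.range (((f ∣_ (U i)) ⁻¹ᵁ V''.1).ι ≫ (f ⁻¹ᵁ (U i)).ι) ⊆
        Set.range (f ⁻¹ᵁ ((U i).ι ''ᵁ V''.1)).ι := by
      rw [hrange, Scheme.Opens.range_ι]
    have := isAmple_restrict_of_factor (f ⁻¹ᵁ ((U i).ι ''ᵁ V''.1)).ι _ hr L (h2 ⟨_, hV'⟩)
    exact isAmple_of_iso (restrictRestrictIso _ _ _ rfl L).symm this
  · intro h
    refine ⟨inferInstance, fun V => ?_⟩
    apply isAmple_restrict_preimage_of_local f L V.1 V.2
    intro y _
    obtain ⟨i, hyi⟩ : ∃ i, y ∈ U i := by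
      have : y ∈ (⨆ i, U i : Y.Opens) := hU ▸ trivial
      exact TopologicalSpace.Opens.mem_iSup.1 this
    obtain ⟨V', hV', hyV', hV'U⟩ := exists_isAffineOpen_mem_and_subset hyi
    have hV'U' : V' ≤ U i := hV'U
    have hV'' : IsAffineOpen ((U i).ι ⁻¹ᵁ V') :=
      hV'.preimage_of_isOpenImmersion (U i).ι (by rw [Scheme.Opens.opensRange_ι]; exact hV'U')
    have himg : (U i).ι ''ᵁ ((U i).ι ⁻¹ᵁ V') = V' := by
      rw [Scheme.Hom.image_preimage_eq_opensRange_inf, Scheme.Opens.opensRange_ι,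
        inf_eq_right.2 hV'U']
    refine ⟨f ⁻¹ᵁ V', V', hyV', le_rfl, ?_⟩
    have h1 := (h i).2 ⟨_, hV''⟩
    have h2 := isAmple_of_iso (restrictRestrictIso _ _ _ rfl L) h1
    haveI : CompactSpace ((f ⁻¹ᵁ V' : X.Opens) : Scheme.{u}) :=
      compactSpace_preimage f V' hV'.isCompact
    refine isAmple_restrict_of_factor _ (f ⁻¹ᵁ V').ι ?_ L h2
    rw [hrange, himg, Scheme.Opens.range_ι]

end Groth.Agent.S4380
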