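import Groth.Statements.S4381
import Groth.Agent.Lib.Helper13.AmpleRestrict

set_option autoImplicit false
universe u
open CategoryTheory CategoryTheory.Limits AlgebraicGeometry
open EGA2

namespace Groth.Agent.S4381

/-- Let Y be an affine scheme, f : X → Y a quasi-compact morphism and L an O_X-module. Then L is ample
relative to f if and only if L is an ample O_X-module. -/
theorem result {X Y : Scheme.{u}} [IsAffine Y] (f : X ⟶ Y) [QuasiCompact f] (L : X.Modules) :
    RelAmple.IsRelAmple f L ↔ CohB1.IsAmple L := by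
  constructor
  · rintro ⟨-, h2⟩
    have h := h2 ⟨⊤, isAffineOpen_top Y⟩
    haveI : IsIso (f ⁻¹ᵁ (⊤ : Y.Opens)).ι := by
      change IsIso (X.topIso).hom
      infer_instance
    have hsurj : Function.Surjective (f ⁻¹ᵁ (⊤ : Y.Opens)).ι := fun x => ⟨⟨x, trivial⟩, rfl⟩
    have hinv : PicF.IsInvertible L :=
      Groth.Agent.Helper13.Inv.isInvertible_of_isInvertible_restrict _ hsurj L h.1
    exact Groth.Agent.Helper13.Ample.isAmple_of_isAmple_restrict_of_isIso _ L hinv h
  · intro h
    refine ⟨inferInstance, fun V => ?_⟩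
    haveI : IsAffine (V.1 : Scheme.{u}) := V.2
    haveI : IsAffineHom (f ⁻¹ᵁ V.1).ι := Groth.Agent.Helper13.Ample.isAffineHom_preimage_ι f V.1
    haveI : CompactSpace ((f ⁻¹ᵁ V.1 : X.Opens) : Scheme.{u}) :=
      Groth.Agent.Helper13.Ample.compactSpace_preimage f V.1 V.2.isCompact
    exact Groth.Agent.Helper13.Ample.isAmple_restrict_of_isAffineHom _ L h

end Groth.Agent.S4381
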