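import Groth.Statements.S4387
import Groth.Agent.Lib.Helper13.AmpleRestrict

set_option autoImplicit false
universe u
open CategoryTheory CategoryTheory.Limits AlgebraicGeometry
open EGA2

namespace Groth.Agent.S4387

/-- Let f : X → Y be a quasi-compact morphism, L an invertible O_X-module and n > 0 an integer. Then L
is ample relative to f if and only if L^{⊗n} is ample relative to f. -/
theorem result {X Y : Scheme.{u}} (f : X ⟶ Y) [QuasiCompact f] (L : X.Modules)
    (hL : PicF.IsInvertible L) (n : ℕ) (hn : 0 < n) :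
    RelAmple.IsRelAmple f L ↔ RelAmple.IsRelAmple f (CohB1.tensorPow L n) := by
  constructor
  · rintro ⟨h1, h2⟩
    refine ⟨h1, fun V => ?_⟩
    exact Groth.Agent.Helper13.Ample.isAmple_of_iso
      (Groth.Agent.Helper13.Tensor.powRestrict (f ⁻¹ᵁ V.1).ι L n).symm
      (Groth.Agent.Helper13.Ample.isAmple_tensorPow _ (h2 V) n hn)
  · rintro ⟨h1, h2⟩
    refine ⟨h1, fun V => ?_⟩
    exact Groth.Agent.Helper13.Ample.isAmple_of_isAmple_tensorPow _
      (Groth.Agent.Helper13.Inv.isInvertible_restrict _ L hL) n hn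
      (Groth.Agent.Helper13.Ample.isAmple_of_iso
        (Groth.Agent.Helper13.Tensor.powRestrict (f ⁻¹ᵁ V.1).ι L n) (h2 V))

end Groth.Agent.S4387
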