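import Groth.Statements.S2333
import Groth.Agent.Lib.Helper13.AmpleRel

set_option autoImplicit false
universe u
open CategoryTheory CategoryTheory.Limits AlgebraicGeometry
open EGA2

namespace Groth.Agent.S2333

/-- Let f : X → Y and g : Y → Z be morphisms of schemes with f quasi-compact, and L an O_X-module which
is ample relative to the composite g ∘ f. Then L is ample relative to f. (No separatedness
hypothesis on g is imposed.) -/
theorem result {X Y Z : Scheme.{u}} (f : X ⟶ Y) (g : Y ⟶ Z) [QuasiCompact f]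
    (L : X.Modules) (hL : RelAmple.IsRelAmple (f ≫ g) L) : RelAmple.IsRelAmple f L := by
  refine ⟨inferInstance, fun V => ?_⟩
  apply Groth.Agent.Helper13.Ample.isAmple_restrict_preimage_of_local f L V.1 V.2
  intro y _
  obtain ⟨W, hW, hyW, -⟩ := exists_isAffineOpen_mem_and_subset
    (show g y ∈ (⊤ : Z.Opens) from trivial)
  exact ⟨(f ≫ g) ⁻¹ᵁ W, g ⁻¹ᵁ W, hyW, le_rfl, hL.2 ⟨W, hW⟩⟩

end Groth.Agent.S2333
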