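import Groth.Statements.S0844
import Groth.Agent.Lib.Helper26.PnCoh2
import Groth.Agent.S0022

set_option autoImplicit false
universe u
open Coherent

namespace Groth.Agent.S0844

open CategoryTheory AlgebraicGeometry in
/-- For a ring R, n ≥ 0, d ∈ ℤ and q ≥ 0, the group H^q(P^n_R, O(d)) is zero unless q = 0 and d ≥ 0, or
q = n and d ≤ -n-1. -/
theorem result (R : Type u) [CommRing R] (n : ℕ) (d : ℤ) (q : ℕ)
    (h₀ : ¬ (q = 0 ∧ 0 ≤ d)) (hn : ¬ (q = n ∧ d ≤ -((n : ℤ) + 1))) :
    Subsingleton (Coh.HH (CohB1.ProjSpace n R) (Twist.twistProjSpace n R d) q) := by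
  by_cases hq : n < q
  · exact Groth.Agent.S0022.result n R _ q hq
  · apply Groth.Agent.Helper26.PnCoh.HH_subsingleton_of_isZero_cechH
    rcases q with _ | q
    · have hd : d < 0 := by
        by_contra hc
        exact h₀ ⟨rfl, by omega⟩
      have hn1 : 1 ≤ n := by
        by_contra hc
        have hn0 : n = 0 := by omega
        subst hn0
        exact hn ⟨rfl, by push_cast; omega⟩
      exact Groth.Agent.Helper26.PnCoh.isZero_cechH_twist_zero n R d hn1 hd
    · apply Groth.Agent.Helper26.PnCoh.isZero_cechH_twist_succ n R d q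
      by_cases hqn : q + 1 < n
      · exact Or.inl hqn
      · right
        have hqe : q + 1 = n := by omega
        by_contra hc
        exact hn ⟨hqe, by omega⟩

end Groth.Agent.S0844
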