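import Groth.Statements.S0038
import Groth.Agent.S0843
import Groth.Agent.S0844
import Groth.Agent.S0845
import Groth.Agent.Lib.Helper13.PnFin2

set_option autoImplicit false
universe u
open Coherent

namespace Groth.Agent.S0038

open AlgebraicGeometry in
/-- For a Noetherian ring R and a coherent module F on P^n_R, every H^i(P^n_R, F) is a finitely
generated R-module. -/
theorem result (n : ℕ) (R : Type u) [CommRing R] [IsNoetherianRing R]
    (M : (CohB1.ProjSpace n R).Modules) (hM : Coh.IsCoh M) (i : ℕ) :
    Module.Finite R (Coh.HH (CohB1.ProjSpace n R) M i) := by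
  exact Groth.Agent.Helper13.PnFin.finite_HH_of_twist n R
    (Groth.Agent.Helper13.PnFin.finite_HH_twist n R
      (fun d => Groth.Agent.S0843.result R n d)
      (fun d q h₀ hn => Groth.Agent.S0844.result R n d q h₀ hn)
      (fun k => Groth.Agent.S0845.result R n k)) M hM i

end Groth.Agent.S0038
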