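import Groth.Statements.S0602
import Groth.Agent.Lib.Helper9.Depth
import Mathlib

set_option autoImplicit false
universe u
open CAlg

namespace Groth.Agent.S0602

/-- A Noetherian ring is reduced exactly when it satisfies the conditions R₀ and S₁. -/
theorem result (R : Type u) [CommRing R] [IsNoetherianRing R] :
    IsReduced R ↔ (LocCoh.HasRk 0 R ∧ LocCoh.HasSk 1 R R) := by
  classical
  constructor
  · intro hred
    refine ⟨?_, ?_⟩
    · -- R₀
      intro p hp hht
      have hmin : p ∈ minimalPrimes R := by
        rw [← Ideal.height_eq_zero_iff]
        exact le_antisymm (by simpa using hht) bot_le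
      have : Ring.KrullDimLE 0 (Localization.AtPrime p) :=
        Ring.KrullDimLE.of_isLocalization p hmin _
      have hf : IsField (Localization.AtPrime p) := Ring.KrullDimLE.isField_of_isReduced
      let _ := hf.toField
      infer_instance
    · -- S₁
      intro p hp
      change min ((1 : ℕ) : WithBot ℕ∞)
        (Module.supportDim (Localization.AtPrime p) (Localization.AtPrime p)) ≤
          ((LocCoh.depth (Localization.AtPrime p) (Localization.AtPrime p) : ℕ∞) : WithBot ℕ∞)
      by_cases hd : LocCoh.depth (Localization.AtPrime p) (Localization.AtPrime p) = 0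
      · -- then the maximal ideal is an associated prime, hence zero
        rw [Groth.Agent.Helper9.Depth.depth_eq_zero_iff_mem_associatedPrimes] at hd
        have hd' := hd
        obtain ⟨hprime, y, hy⟩ := isAssociatedPrime_iff.mp hd
        have hy0 : y ≠ 0 := by
          rintro rfl
          apply hprime.ne_top
          rw [hy]
          simp
        -- a prime not containing y
        have hnil : y ∉ nilradical (Localization.AtPrime p) := by
          rw [nilradical_eq_zero]
          exact hy0
        rw [nilradical_eq_sInf, Ideal.mem_sInf] at hnil
        push Not at hnil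
        obtain ⟨q, hq, hyq⟩ := hnil
        have hq' : q.IsPrime := hq
        have hle : IsLocalRing.maximalIdeal (Localization.AtPrime p) ≤ q := by
          intro a ha
          rw [hy, Submodule.mem_colon_singleton] at ha
          have : a * y ∈ q := by
            rw [← smul_eq_mul, (Submodule.mem_bot _).mp ha]
            exact q.zero_mem
          exact (hq'.mem_or_mem this).resolve_right hyq
        have hqm : q = IsLocalRing.maximalIdeal (Localization.AtPrime p) :=
          ((IsLocalRing.maximalIdeal.isMaximal _).eq_of_le hq'.ne_top hle).symm
        have hyu : IsUnit y := by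
          by_contra hnu
          exact hyq (hqm ▸ (IsLocalRing.mem_maximalIdeal y).mpr hnu)
        have hbot : IsLocalRing.maximalIdeal (Localization.AtPrime p) = ⊥ := by
          rw [eq_bot_iff]
          intro a ha
          rw [hy, Submodule.mem_colon_singleton] at ha
          have h1 : a * y = 0 := by
            rw [← smul_eq_mul]
            exact (Submodule.mem_bot _).mp ha
          rw [Submodule.mem_bot]
          exact (hyu.mul_left_eq_zero).mp h1
        have hfield : IsField (Localization.AtPrime p) :=
          IsLocalRing.isField_iff_maximalIdeal_eq.mpr hbot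
        have hdim : ringKrullDim (Localization.AtPrime p) = 0 := by
          let _ := hfield.toField
          exact ringKrullDim_eq_zero_of_field _
        rw [Module.supportDim_self_eq_ringKrullDim, hdim]
        have hd0 : LocCoh.depth (Localization.AtPrime p) (Localization.AtPrime p) = 0 := by
          rw [Groth.Agent.Helper9.Depth.depth_eq_zero_iff_mem_associatedPrimes]
          exact hd'
        rw [hd0]
        simp
      · have h1 : (1 : ℕ∞) ≤ LocCoh.depth (Localization.AtPrime p) (Localization.AtPrime p) :=
          Order.one_le_iff_pos.mpr (pos_iff_ne_zero.mpr hd)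
        refine le_trans (min_le_left _ _) ?_
        exact_mod_cast h1
  · rintro ⟨hR0, hS1⟩
    refine ⟨fun x hx => ?_⟩
    by_contra hx0
    obtain ⟨p, hp, hle⟩ := exists_le_isAssociatedPrime_of_isNoetherianRing R x hx0
    have hpprime : p.IsPrime := hp.isPrime
    obtain ⟨_, y, hy⟩ := isAssociatedPrime_iff.mp hp
    have hy0 : y ≠ 0 := by
      rintro rfl
      apply hpprime.ne_top
      rw [hy]
      simp
    -- `y/1` is nonzero in the localization and killed by the maximal ideal
    have hy1 : algebraMap R (Localization.AtPrime p) y ≠ 0 := by
      intro h0
      rw [IsLocalization.map_eq_zero_iff p.primeCompl] at h0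
      obtain ⟨s, hs⟩ := h0
      apply s.2
      apply (le_of_eq hy.symm)
      rw [Submodule.mem_colon_singleton, smul_eq_mul, Submodule.mem_bot]
      exact hs
    have hx1 : algebraMap R (Localization.AtPrime p) x ≠ 0 := by
      intro h0
      rw [IsLocalization.map_eq_zero_iff p.primeCompl] at h0
      obtain ⟨s, hs⟩ := h0
      apply s.2
      apply hle
      rw [Submodule.mem_colon_singleton, smul_eq_mul, Submodule.mem_bot]
      exact hs
    have hkill : ∀ a ∈ IsLocalRing.maximalIdeal (Localization.AtPrime p),
        a * algebraMap R (Localization.AtPrime p) y = 0 := by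
      intro a ha
      rw [← Localization.AtPrime.map_eq_maximalIdeal] at ha
      refine Submodule.span_induction (p := fun a _ => a * algebraMap R (Localization.AtPrime p) y = 0)
        ?_ ?_ ?_ ?_ ha
      · rintro _ ⟨r, hr, rfl⟩
        rw [← map_mul]
        have : r * y = 0 := by
          have := (le_of_eq hy) hr
          rw [Submodule.mem_colon_singleton, smul_eq_mul, Submodule.mem_bot] at this
          exact this
        rw [this, map_zero]
      · simp
      · intro a b _ _ h1 h2
        rw [add_mul, h1, h2, add_zero]
      · intro c a _ h1
        rw [smul_eq_mul, mul_assoc, h1, mul_zero]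
    have hdepth : LocCoh.depth (Localization.AtPrime p) (Localization.AtPrime p) = 0 := by
      rw [Groth.Agent.Helper9.Depth.depth_eq_zero_iff_forall_not_regular]
      intro a ha hreg
      have h1 := hkill a ha
      have h2 : a • algebraMap R (Localization.AtPrime p) y = a • (0 : Localization.AtPrime p) := by
        rw [smul_eq_mul, h1, smul_zero]
      exact hy1 (hreg h2)
    have hS := hS1 p
    change min ((1 : ℕ) : WithBot ℕ∞)
        (Module.supportDim (Localization.AtPrime p) (Localization.AtPrime p)) ≤
          ((LocCoh.depth (Localization.AtPrime p) (Localization.AtPrime p) : ℕ∞) : WithBot ℕ∞) at hS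
    rw [hdepth, Module.supportDim_self_eq_ringKrullDim,
      IsLocalization.AtPrime.ringKrullDim_eq_height p (Localization.AtPrime p)] at hS
    have hht : p.height ≤ 0 := by
      by_contra hpos
      have h1 : (1 : ℕ∞) ≤ p.height := Order.one_le_iff_pos.mpr (pos_iff_ne_zero.mpr (by simpa using hpos))
      have h2 : ((1 : ℕ) : WithBot ℕ∞) ≤ ((p.height : ℕ∞) : WithBot ℕ∞) := by exact_mod_cast h1
      rw [min_eq_left h2] at hS
      have : ((1 : ℕ∞) : WithBot ℕ∞) ≤ ((0 : ℕ∞) : WithBot ℕ∞) := by exact_mod_cast hS
      rw [WithBot.coe_le_coe] at this
      simp at this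
    have hreg : IsRegularLocalRing (Localization.AtPrime p) := hR0 p (by exact_mod_cast hht)
    have hdim : ringKrullDim (Localization.AtPrime p) = 0 := by
      rw [IsLocalization.AtPrime.ringKrullDim_eq_height p (Localization.AtPrime p)]
      have : p.height = 0 := le_antisymm hht bot_le
      rw [this]
      rfl
    have hspan := hreg.spanFinrank_maximalIdeal
    rw [hdim] at hspan
    have hspan0 : (IsLocalRing.maximalIdeal (Localization.AtPrime p)).spanFinrank = 0 := by
      exact_mod_cast hspan
    have hbot : IsLocalRing.maximalIdeal (Localization.AtPrime p) = ⊥ :=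
      (Submodule.spanFinrank_eq_zero_iff_eq_bot (IsNoetherian.noetherian _)).mp hspan0
    have hfield : IsField (Localization.AtPrime p) :=
      IsLocalRing.isField_iff_maximalIdeal_eq.mpr hbot
    let _ := hfield.toField
    have hxnil : IsNilpotent (algebraMap R (Localization.AtPrime p) x) := hx.map _
    exact hx1 hxnil.eq_zero

end Groth.Agent.S0602
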