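import Groth.Statements.S14359
import Mathlib.RingTheory.Ideal.KrullsHeightTheorem
-- import your own Groth.Agent.* helpers here

set_option autoImplicit false
universe u
open CAlg

namespace Groth.Agent.S14359

/-- Let A be a Noetherian integrally closed integral domain and b a nonzero element of A. Then every
associated prime of the A-module A/(b) has height one, so that A/(b) has no embedded associated
primes. -/
theorem result
    (A : Type u) [CommRing A] [IsDomain A] [IsNoetherianRing A] [IsIntegrallyClosed A]
    (b : A) (hb : b ≠ 0) (p : Ideal A) (hp : p ∈ associatedPrimes A (A ⧸ Ideal.span {b})) :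
    p.height = 1 := by
  obtain ⟨hprime, xq, hxq⟩ := isAssociatedPrime_iff.mp hp
  obtain ⟨a, rfl⟩ := Ideal.Quotient.mk_surjective xq
  have hmem : ∀ x, x ∈ p ↔ b ∣ x * a := by
    intro x
    rw [hxq, Submodule.mem_colon_singleton, Submodule.mem_bot, ← Ideal.mem_span_singleton,
      ← Ideal.Quotient.eq_zero_iff_mem, map_mul]
    rfl
  have hane : ¬ b ∣ a := by
    intro h
    apply hprime.ne_top
    rw [Ideal.eq_top_iff_one, hmem]
    simpa using h
  have hbp : b ∈ p := (hmem b).mpr (dvd_mul_right b a)
  have ha0 : a ≠ 0 := by
    rintro rfl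
    exact hane (dvd_zero b)
  have key : ∃ x ∈ p, ∃ s, s ∉ p ∧ x * a = b * s := by
    by_contra hcon
    push Not at hcon
    have hb' : algebraMap A (FractionRing A) b ≠ 0 := by simpa using hb
    have hint : IsIntegral A
        (algebraMap A (FractionRing A) a / algebraMap A (FractionRing A) b) := by
      refine isIntegral_of_smul_mem_submodule (M := FractionRing A)
        (Submodule.map (Algebra.linearMap A (FractionRing A)) p) ?_ ?_ _ ?_
      · intro h
        have : algebraMap A (FractionRing A) b ∈
            Submodule.map (Algebra.linearMap A (FractionRing A)) p := ⟨b, hbp, rfl⟩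
        rw [h, Submodule.mem_bot] at this
        exact hb' this
      · exact (IsNoetherian.noetherian p).map _
      · rintro _ ⟨x, hx, rfl⟩
        obtain ⟨s, hs⟩ := (hmem x).mp hx
        have hsp : s ∈ p := by
          by_contra h
          exact hcon x hx s h hs
        refine ⟨s, hsp, ?_⟩
        simp only [Algebra.linearMap_apply, smul_eq_mul]
        rw [div_mul_eq_mul_div, eq_div_iff hb', ← map_mul, ← map_mul]
        congr 1
        rw [mul_comm s b, ← hs, mul_comm]
    obtain ⟨c, hc⟩ := IsIntegrallyClosed.isIntegral_iff.mp hint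
    apply hane
    refine ⟨c, ?_⟩
    apply IsFractionRing.injective A (FractionRing A)
    rw [map_mul, hc, mul_div_cancel₀ _ hb']
  obtain ⟨x, hxp, s, hsp, hxs⟩ := key
  have hmin : p ∈ (Ideal.span {x}).minimalPrimes := by
    refine ⟨⟨hprime, (Ideal.span_singleton_le_iff_mem _).mpr hxp⟩, ?_⟩
    rintro q ⟨hq, hxq'⟩ hqp
    intro y hy
    obtain ⟨t, ht⟩ := (hmem y).mp hy
    have hsy : s * y = x * t := by
      apply mul_left_cancel₀ ha0
      calc a * (s * y) = s * (y * a) := by ring
        _ = s * (b * t) := by rw [ht]
        _ = (b * s) * t := by ring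
        _ = (x * a) * t := by rw [hxs]
        _ = a * (x * t) := by ring
    have hsyq : s * y ∈ q := by
      rw [hsy]
      exact q.mul_mem_right t ((Ideal.span_singleton_le_iff_mem _).mp hxq')
    rcases hq.mem_or_mem hsyq with h | h
    · exact absurd (hqp h) hsp
    · exact h
  have h1 : p.height ≤ 1 :=
    Ideal.height_le_one_of_isPrincipal_of_mem_minimalPrimes (Ideal.span {x}) p hmin
  have h2 : p.height ≠ 0 := by
    rw [Ne, Ideal.height_eq_zero_iff_eq_bot]
    rintro rfl
    exact hb (by simpa using hbp)
  exact le_antisymm h1 (Order.one_le_iff_ne_zero.mpr h2)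

end Groth.Agent.S14359
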