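import Groth.Statements.S0904
import Mathlib.CategoryTheory.Preadditive.Injective.Basic
import Mathlib.CategoryTheory.Sites.Pullback
import Mathlib.CategoryTheory.Functor.Flat
import Mathlib.Topology.Sheaves.SheafCondition.Sites
-- import your own Groth.Agent.* helpers here

set_option autoImplicit false
universe u
open CategoryTheory
open CohTop

namespace Groth.Agent.S0904

open TopologicalSpace in
theorem aux {X Y : TopCat.{u}} (f : X ⟶ Y) (I : CohTop.Ab X) [Injective I] :
    Injective ((CohTop.push f).obj I) := by
  have h0 : RepresentablyFlat (Opens.map f) := inferInstance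
  have hc : Functor.IsContinuous.{u} (Opens.map f) (Opens.grothendieckTopology Y) (Opens.grothendieckTopology X) := inferInstance
  have := @Functor.SmallCategories.instPreservesFiniteLimitsSheafSheafPullbackOfRepresentablyFlat _ _ _ _ (Opens.map f) AddCommGrpCat.{u} _ (Opens.grothendieckTopology Y) (Opens.grothendieckTopology X) _ _ _ _ _ _ _ _ _ hc h0
  have hpl : Limits.PreservesFiniteLimits (TopCat.Sheaf.pullback AddCommGrpCat.{u} f) := this
  have : (TopCat.Sheaf.pullback AddCommGrpCat.{u} f).PreservesMonomorphisms := inferInstance
  have hI : Injective I := inferInstance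
  exact @Injective.injective_of_adjoint _ _ _ _ _ _ this (TopCat.Sheaf.pullbackPushforwardAdjunction AddCommGrpCat.{u} f) I hI

/-- Abelian sheaves, for which every continuous map is flat: for a continuous map f : X -> Y and an
injective abelian sheaf I on X, the direct image f_* I is an injective abelian sheaf on Y. -/
theorem result {X Y : TopCat.{u}} (f : X ⟶ Y) (I : CohTop.Ab X) [Injective I] :
    Injective ((CohTop.push f).obj I) := by
  exact aux f I

end Groth.Agent.S0904
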