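import Groth.Statements.S0046
import Groth.Agent.Lib.Helper13.FinAffine2

set_option autoImplicit false
universe u
open Coherent

namespace Groth.Agent.S0046

open AlgebraicGeometry CategoryTheory in

open AlgebraicGeometry CategoryTheory in
/-- On a locally Noetherian scheme, a quasi-coherent submodule of a coherent module is coherent. (The
statement about quotients is omitted.) -/
theorem result (X : Scheme.{u}) [IsLocallyNoetherian X]
    (M N : X.Modules) (i : N ⟶ M) [Mono i] (hM : Coh.IsCoh M) (hN : Coh.IsQCoh N) : Coh.IsCoh N := by
  have hMq : M.IsQuasicoherent := hM.1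
  have hMf : SheafOfModules.IsFiniteType (R := X.ringCatSheaf) M := hM.2
  have hNq : N.IsQuasicoherent := hN
  refine ⟨hN, ?_⟩
  rw [Groth.Agent.Helper13.FinType.isFiniteType_iff_finite_sections]
  intro U hU
  have hfin : Module.Finite Γ(X, U) Γ(M, U) :=
    Groth.Agent.Helper13.FinType.finite_sections_of_isFiniteType M hU
  have hnoeth : IsNoetherianRing Γ(X, U) := IsLocallyNoetherian.component_noetherian ⟨U, hU⟩
  have hinj : Function.Injective (i.app U) :=
    (Groth.Agent.Helper13.QCoh.mono_iff_app_injective i).1 inferInstance U
  let l : Γ(N, U) →ₗ[Γ(X, U)] Γ(M, U) :=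
    { toFun := i.app U
      map_add' := fun a b => map_add _ a b
      map_smul' := fun r a => Scheme.Modules.Hom.app_smul i r a }
  exact Module.Finite.of_injective l hinj

end Groth.Agent.S0046
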