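import Groth.Statements.S9514
import Groth.Agent.Lib.Helper13.FinTypeEpi
import Groth.Agent.Lib.Helper13.QCohKer
import Groth.Agent.S0046

set_option autoImplicit false
universe u
open Coherent

namespace Groth.Agent.S9514

open CategoryTheory CategoryTheory.Limits AlgebraicGeometry in

open CategoryTheory CategoryTheory.Limits AlgebraicGeometry in
/-- Let X be a locally Noetherian scheme and φ : F → G a morphism of O_X-modules with F and G coherent.
Then the kernel and the cokernel of φ, taken in the category of O_X-modules, are coherent. -/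
theorem result (X : Scheme.{u}) [IsLocallyNoetherian X] {F G : X.Modules}
    (hF : Coh.IsCoh F) (hG : Coh.IsCoh G) (φ : F ⟶ G) :
    Coh.IsCoh (kernel φ) ∧ Coh.IsCoh (cokernel φ) := by
  have hFq : F.IsQuasicoherent := hF.1
  have hGq : G.IsQuasicoherent := hG.1
  have hGf : SheafOfModules.IsFiniteType (R := X.ringCatSheaf) G := hG.2
  have hk : (kernel φ).IsQuasicoherent := Groth.Agent.Helper13.QCohLocal.isQuasicoherent_kernel φ
  have hc : (cokernel φ).IsQuasicoherent := Groth.Agent.Helper13.QCohLocal.isQuasicoherent_cokernel φ
  constructor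
  · exact Groth.Agent.S0046.result X F (kernel φ) (kernel.ι φ) hF hk
  · exact ⟨hc, Groth.Agent.Helper13.FinType.isFiniteType_of_epi (cokernel.π φ)⟩

end Groth.Agent.S9514
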