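import Groth.Statements.S0020
import Groth.Agent.Lib.Helper13.FinType

set_option autoImplicit false
universe u
open Coherent

namespace Groth.Agent.S0020

open AlgebraicGeometry in

open AlgebraicGeometry in
/-- On a scheme X, the set of points at which the stalk of a finite type 𝒪_X-module M is nonzero (the
support of M) is closed. -/
theorem result (X : Scheme.{u}) (M : X.Modules) (hM : CohB1.IsFT M) :
    IsClosed (CohB1.support M) := by
  classical
  have hM' : SheafOfModules.IsFiniteType (R := X.ringCatSheaf) M := hM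
  rw [← isOpen_compl_iff, isOpen_iff_forall_mem_open]
  intro x hx
  have hx' : Subsingleton (M.presheaf.stalk x) := by
    simpa [CohB1.support] using hx
  obtain ⟨U, hxU, I, hI, s, hs⟩ := Groth.Agent.Helper13.FinType.exists_genOn_of_isFiniteType M x
  have key : ∀ i : I, ∃ (W : X.Opens), x ∈ W ∧ W ≤ U ∧
      ∀ (h : W ≤ U), M.presheaf.map (CategoryTheory.homOfLE h).op (s i) = 0 := by
    intro i
    have h0 : M.presheaf.germ U x hxU (s i) = M.presheaf.germ U x hxU 0 := Subsingleton.elim _ _
    obtain ⟨W, hxW, iU, iV, hW⟩ := TopCat.Presheaf.germ_eq M.presheaf x hxU hxU _ _ h0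
    refine ⟨W, hxW, iU.le, fun h => ?_⟩
    have : CategoryTheory.homOfLE h = iU := Subsingleton.elim _ _
    rw [this, hW, map_zero]
  choose W hxW hWU hW0 using key
  have := Fintype.ofFinite I
  let W' : X.Opens := Finset.univ.inf W ⊓ U
  have hW'open : IsOpen (W' : Set X) := W'.2
  refine ⟨W', ?_, hW'open, ?_⟩
  · intro y hy
    have hyU : y ∈ U := hy.2
    have hyW : ∀ i, y ∈ W i := by
      intro i
      have h1 : W' ≤ W i := inf_le_left.trans (Finset.inf_le (Finset.mem_univ i))
      exact h1 hy
    show y ∈ (CohB1.support M)ᶜ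
    simp only [CohB1.support, Set.mem_compl_iff, Set.mem_ofPred_eq, not_not]
    have hgen := hs y hyU
    have hzero : ∀ i, M.presheaf.germ U y hyU (s i) = 0 := by
      intro i
      rw [← TopCat.Presheaf.germ_res_apply M.presheaf (CategoryTheory.homOfLE (hWU i)) y (hyW i),
        hW0 i (hWU i), map_zero]
    have hbot : (⊤ : Submodule (X.presheaf.stalk y) (M.presheaf.stalk y)) = ⊥ := by
      rw [← hgen, Submodule.span_eq_bot]
      rintro _ ⟨i, rfl⟩
      exact hzero i
    refine ⟨fun a b => ?_⟩
    have ha : a ∈ (⊤ : Submodule (X.presheaf.stalk y) (M.presheaf.stalk y)) := trivial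
    have hb : b ∈ (⊤ : Submodule (X.presheaf.stalk y) (M.presheaf.stalk y)) := trivial
    rw [hbot, Submodule.mem_bot] at ha hb
    rw [ha, hb]
  · refine ⟨?_, hxU⟩
    have : ∀ (t : Finset I), x ∈ t.inf W := by
      intro t
      induction t using Finset.induction_on with
      | empty => simp
      | insert a t _ ih => rw [Finset.inf_insert]; exact ⟨hxW a, ih⟩
    exact this _

end Groth.Agent.S0020
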