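import Groth.Statements.S1526
import Groth.Agent.Lib.Helper13.DiscSupp

set_option autoImplicit false
universe u
open CategoryTheory CategoryTheory.Limits AlgebraicGeometry
open Variety

namespace Groth.Agent.S1526

open CategoryTheory CategoryTheory.Limits AlgebraicGeometry
open Variety

open TopologicalSpace in
lemma isClosed_singleton_of_dim_le_zero {Y : Type*} [TopologicalSpace Y] [T0Space Y]
    (h : topologicalKrullDim Y ≤ 0) (y : Y) : IsClosed ({y} : Set Y) := by
  have hmin := (Order.krullDim_nonpos_iff_forall_isMin (α := IrreducibleCloseds Y)).1 h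
  have hcl : closure ({y} : Set Y) = {y} := by
    apply Set.Subset.antisymm _ subset_closure
    intro z hz
    let a : IrreducibleCloseds Y := ⟨closure {z}, isIrreducible_singleton.closure, isClosed_closure⟩
    let b : IrreducibleCloseds Y := ⟨closure {y}, isIrreducible_singleton.closure, isClosed_closure⟩
    have hab : a ≤ b := by
      show closure {z} ⊆ closure {y}
      exact closure_minimal (Set.singleton_subset_iff.2 hz) isClosed_closure
    have hba : b ≤ a := hmin b hab
    have hy : y ∈ closure ({z} : Set Y) := hba (subset_closure (Set.mem_singleton y))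
    have h1 : z ⤳ y := specializes_iff_mem_closure.2 hy
    have h2 : y ⤳ z := specializes_iff_mem_closure.2 hz
    exact (h2.antisymm h1).eq.symm
  rw [← hcl]
  exact isClosed_closure

/-- On a proper scheme over a field, a coherent module whose support has dimension at most zero has
vanishing cohomology in all positive degrees. -/
theorem result (k : Type u) [Field k] (X : Scheme.{u}) [X.Over (Spec (CommRingCat.of k))] [IsProper (X ↘ (Spec (CommRingCat.of k)))]
    (F : X.Modules) (hF : Coh.IsCoh F) (hsupp : topologicalKrullDim (CohB1.support F) ≤ 0)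
    (i : ℕ) (hi : 1 ≤ i) : Subsingleton (Coh.HH X F i) := by
  haveI : IsLocallyNoetherian X :=
    LocallyOfFiniteType.isLocallyNoetherian (X ↘ (Spec (CommRingCat.of k)))
  have hT : IsClosed (CohB1.support F) := Groth.Agent.S0020.result X F hF.2
  have h0 : ∀ x ∈ CohB1.support F, IsClosed ({x} : Set X) := by
    intro x hx
    have h1 := isClosed_singleton_of_dim_le_zero hsupp ⟨x, hx⟩
    have h2 := hT.isClosedEmbedding_subtypeVal.isClosedMap _ h1
    simpa using h2
  obtain ⟨n, rfl⟩ : ∃ n, i = n + 1 := ⟨i - 1, by omega⟩
  exact Groth.Agent.Helper24.Flasque.H_succ_subsingleton (X := X.toTopCat) n (Coh.toAb F)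
    (Groth.Agent.Helper13.DiscSupp.isFlasque_of_discrete_support F hF.2 h0)

end Groth.Agent.S1526
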