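import Groth.Statements.S9153
import Mathlib
import Groth.Agent.Lib.Helper14.CMCatenary
-- import your own Groth.Agent.* helpers here

set_option autoImplicit false
universe u
open CAlg

namespace Groth.Agent.S9153

/-- In a polynomial ring in finitely many variables over a field, every saturated chain of primes
between two primes p ⊆ q has length equal to the difference of their heights (stated additively:
length + height p = height q). -/
theorem result (k : Type u) [Field k] (n : ℕ)
    (s : LTSeries (PrimeSpectrum (MvPolynomial (Fin n) k)))
    (hsat : ∀ i : Fin s.length, s (Fin.castSucc i) ⋖ s (Fin.succ i)) :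
    (s.length : ℕ∞) + s.head.asIdeal.height = s.last.asIdeal.height := by
  have hCM : ∀ (q : Ideal (MvPolynomial (Fin n) k)) [q.IsPrime],
      LocCoh.IsCohenMacaulayLocalRing (Localization.AtPrime q) := by
    intro q _
    haveI : IsRegularLocalRing (Localization.AtPrime q) :=
      IsRegularRing.isRegularLocalRing_localization q
    exact Groth.Agent.Lead.Depth.isCohenMacaulayLocalRing_of_isRegularLocalRing
  have key : ∀ i : Fin (s.length + 1),
      ((i : ℕ) : ℕ∞) + (s 0).asIdeal.height = (s i).asIdeal.height := by
    intro i
    induction i using Fin.induction with
    | zero => simp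
    | succ i ih =>
      have h1 := Groth.Agent.Helper14.CMCatenary.height_eq_of_covBy _ hCM _ _ (hsat i)
      rw [h1, ← ih]
      simp only [Fin.val_succ, Fin.val_castSucc, Nat.cast_add, Nat.cast_one]
      ring
  have := key (Fin.last s.length)
  simpa [RelSeries.head, RelSeries.last] using this

end Groth.Agent.S9153
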