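import Groth.Statements.S0402
import Mathlib
import Groth.Agent.Lib.Helper14.FibreChart
import Groth.Agent.Lib.Helper14.Chevalley
import Groth.Agent.Lib.Helper14.LocalDimSch
-- import your own Groth.Agent.* helpers here

set_option autoImplicit false
universe u
open FlatMor

namespace Groth.Agent.S0402

open AlgebraicGeometry CategoryTheory Limits in
/-- For a morphism locally of finite type and an integer n, the points of the source at which the fibre
through them has local dimension at most n form an open set (upper semicontinuity of fibre dimension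
on the source). -/
theorem result {X S : Scheme.{u}} (f : X ⟶ S) [LocallyOfFiniteType f] (n : ℕ) :
    IsOpen {x : X | FlatMor.fibreDimAt f x ≤ n} := by
  rw [isOpen_iff_forall_mem_open]
  intro x hx
  obtain ⟨V, hV, hyV, -⟩ := exists_isAffineOpen_mem_and_subset (x := f.base x)
    (U := (⊤ : S.Opens)) trivial
  obtain ⟨U, hU, hxU, e⟩ := exists_isAffineOpen_mem_and_subset (x := x)
    (U := f ⁻¹ᵁ V) hyV
  letI alg : Algebra Γ(S, V) Γ(X, U) := (f.appLE V U e).hom.toAlgebra
  have halg : algebraMap Γ(S, V) Γ(X, U) = (f.appLE V U e).hom := rfl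
  haveI : Algebra.FiniteType Γ(S, V) Γ(X, U) := f.finiteType_appLE hV hU e
  have hx' : FlatMor.fibreDimAt f x ≤ n := hx
  rw [Groth.Agent.Helper14.FibreChart.fibreDimAt_eq f hU hV e halg x hxU] at hx'
  haveI := (hV.primeIdealOf ⟨f.base x, e hxU⟩).isPrime
  obtain ⟨g, hgQ, hg⟩ := Groth.Agent.Helper14.Chevalley.alg_chevalley Γ(S, V) Γ(X, U)
    (hV.primeIdealOf ⟨f.base x, e hxU⟩).asIdeal
    (Groth.Agent.Helper14.FibreChart.fibPrime f hU hV e halg x hxU) n hx'
  refine ⟨X.basicOpen g, ?_, (X.basicOpen g).isOpen, ?_⟩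
  · intro z hz
    have hzU : z ∈ U := X.basicOpen_le g hz
    show FlatMor.fibreDimAt f z ≤ n
    rw [Groth.Agent.Helper14.FibreChart.fibreDimAt_eq f hU hV e halg z hzU]
    haveI := (hV.primeIdealOf ⟨f.base z, e hzU⟩).isPrime
    apply hg
    intro hmem
    have : g ∈ (hU.primeIdealOf ⟨z, hzU⟩).asIdeal := by
      rw [← Groth.Agent.Helper14.FibreChart.comap_fibPrime f hU hV e halg z hzU]
      exact hmem
    exact (Groth.Agent.Helper14.LocalDimSch.mem_basicOpen_iff hU g z hzU).mp hz this
  · show x ∈ X.basicOpen g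
    rw [Groth.Agent.Helper14.LocalDimSch.mem_basicOpen_iff hU g x hxU,
      ← Groth.Agent.Helper14.FibreChart.comap_fibPrime f hU hV e halg x hxU]
    exact hgQ

end Groth.Agent.S0402
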