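import Groth.Statements.S5924
import Mathlib
import Groth.Agent.Lib.Helper14.ResFieldBridge
import Groth.Agent.Lib.Helper14.FibreChart
-- import your own Groth.Agent.* helpers here

set_option autoImplicit false
open CategoryTheory AlgebraicGeometry
universe u
open EGA43

namespace Groth.Agent.S5924

/-- Let Y be an irreducible locally Noetherian scheme, f : X ⟶ Y a morphism locally of finite type which
is equidimensional at the point x, and suppose that x is not a maximal point of its fibre f⁻¹(f x),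
i.e. some point of the fibre other than x specializes to x. Then there exist an affine open
neighbourhood U of x and a section g of O_X over U such that g vanishes at x (x is not in the basic
open set of g) while every maximal point of f⁻¹(f x) lying in U is in the basic open set of g. -/
theorem result {X Y : Scheme.{u}} [IrreducibleSpace Y]
    [IsLocallyNoetherian Y] (f : X ⟶ Y) [LocallyOfFiniteType f] (x : X) (hf : EGA43.IsEquidimAt f x)
    (hx : ∃ x' : X, f.base x' = f.base x ∧ x' ≠ x ∧ x ∈ closure ({x'} : Set X)) :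
    ∃ U : X.Opens, IsAffineOpen U ∧ x ∈ U ∧ ∃ g : Γ(X, U), x ∉ X.basicOpen g ∧
      ∀ z : X, f.base z = f.base x → (∀ z' : X, f.base z' = f.base x → z ∈ closure ({z'} : Set X) → z' = z) →
        z ∈ U → z ∈ X.basicOpen g := by
  open Groth.Agent.Helper14 in
  classical
  obtain ⟨V, hV, hyV, -⟩ := exists_isAffineOpen_mem_and_subset (x := f.base x)
    (U := (⊤ : Y.Opens)) trivial
  obtain ⟨U, hU, hxU, e⟩ := exists_isAffineOpen_mem_and_subset (x := x)
    (U := f ⁻¹ᵁ V) hyV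
  letI alg : Algebra Γ(Y, V) Γ(X, U) := (f.appLE V U e).hom.toAlgebra
  have halg : algebraMap Γ(Y, V) Γ(X, U) = (f.appLE V U e).hom := rfl
  haveI : Algebra.FiniteType Γ(Y, V) Γ(X, U) := f.finiteType_appLE hV hU e
  haveI : IsNoetherianRing Γ(Y, V) := IsLocallyNoetherian.component_noetherian ⟨V, hV⟩
  haveI : IsNoetherianRing Γ(X, U) := Algebra.FiniteType.isNoetherianRing Γ(Y, V) Γ(X, U)
  set p : Ideal Γ(Y, V) := (hV.primeIdealOf ⟨f.base x, e hxU⟩).asIdeal with hp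
  set I : Ideal Γ(X, U) := p.map (algebraMap Γ(Y, V) Γ(X, U)) with hI
  -- primes of points of the fibre contain `I`
  have hIle : ∀ (z : X) (hzU : z ∈ U), f.base z = f.base x →
      I ≤ (hU.primeIdealOf ⟨z, hzU⟩).asIdeal := by
    intro z hzU hfz
    rw [hI, Ideal.map_le_iff_le_comap]
    have h1 := ResFieldBridge.under_primeIdealOf f hU hV e z hzU halg
    rw [Ideal.under_def] at h1
    rw [h1, hp]
    have : (⟨f.base z, e hzU⟩ : V) = ⟨f.base x, e hxU⟩ := Subtype.ext hfz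
    rw [this]
  -- a prime containing `I` inside the prime of a point of the fibre is a point of the fibre
  have hfib : ∀ (z : X) (hzU : z ∈ U), f.base z = f.base x → ∀ 𝔮' : PrimeSpectrum Γ(X, U),
      I ≤ 𝔮'.asIdeal → 𝔮' ≤ hU.primeIdealOf ⟨z, hzU⟩ →
      f.base (hU.fromSpec 𝔮') = f.base x ∧ hU.fromSpec 𝔮' ⤳ z := by
    intro z hzU hfz 𝔮' hI𝔮' hle
    have hsp : hU.fromSpec 𝔮' ⤳ z := by
      have e1 : hU.fromSpec (hU.primeIdealOf ⟨z, hzU⟩) = z := hU.fromSpec_primeIdealOf ⟨z, hzU⟩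
      rw [← e1, ResFieldBridge.specializes_fromSpec_iff]
      exact hle
    refine ⟨?_, hsp⟩
    rw [FibreChart.map_fromSpec f hU hV e halg 𝔮']
    have h2 : PrimeSpectrum.comap (algebraMap Γ(Y, V) Γ(X, U)) 𝔮' =
        hV.primeIdealOf ⟨f.base x, e hxU⟩ := by
      apply le_antisymm
      · have h3 : PrimeSpectrum.comap (algebraMap Γ(Y, V) Γ(X, U)) 𝔮' ≤
            PrimeSpectrum.comap (algebraMap Γ(Y, V) Γ(X, U)) (hU.primeIdealOf ⟨z, hzU⟩) :=
          Ideal.comap_mono hle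
        refine h3.trans (le_of_eq ?_)
        apply PrimeSpectrum.ext
        have h1 := ResFieldBridge.under_primeIdealOf f hU hV e z hzU halg
        rw [Ideal.under_def] at h1
        change Ideal.comap _ _ = _
        rw [h1]
        have : (⟨f.base z, e hzU⟩ : V) = ⟨f.base x, e hxU⟩ := Subtype.ext hfz
        rw [this]
      · change p ≤ Ideal.comap _ 𝔮'.asIdeal
        rw [← Ideal.map_le_iff_le_comap]
        exact hI𝔮'
    rw [h2]
    exact hV.fromSpec_primeIdealOf ⟨f.base x, e hxU⟩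
  have hfin : I.minimalPrimes.Finite := Ideal.finite_minimalPrimes_of_isNoetherianRing _ I
  -- the prime of `x` is not contained in any minimal prime over `I`
  have hnot : ∀ 𝔮 ∈ I.minimalPrimes, ¬ (hU.primeIdealOf ⟨x, hxU⟩).asIdeal ≤ 𝔮 := by
    intro 𝔮 h𝔮 hle
    have hge : 𝔮 ≤ (hU.primeIdealOf ⟨x, hxU⟩).asIdeal :=
      h𝔮.2 ⟨(hU.primeIdealOf ⟨x, hxU⟩).isPrime, hIle x hxU rfl⟩ hle
    obtain ⟨x', hfx', hne, hx'⟩ := hx
    have hsp : x' ⤳ x := specializes_iff_mem_closure.mpr hx'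
    have hx'U : x' ∈ U := hsp.mem_open U.isOpen hxU
    have hle' : hU.primeIdealOf ⟨x', hx'U⟩ ≤ hU.primeIdealOf ⟨x, hxU⟩ := by
      rw [← ResFieldBridge.specializes_fromSpec_iff hU, hU.fromSpec_primeIdealOf ⟨x', hx'U⟩,
        hU.fromSpec_primeIdealOf ⟨x, hxU⟩]
      exact hsp
    have hle'' : (hU.primeIdealOf ⟨x', hx'U⟩).asIdeal ≤ (hU.primeIdealOf ⟨x, hxU⟩).asIdeal := hle'
    have h4 : 𝔮 ≤ (hU.primeIdealOf ⟨x', hx'U⟩).asIdeal :=
      h𝔮.2 ⟨(hU.primeIdealOf ⟨x', hx'U⟩).isPrime, hIle x' hx'U hfx'⟩ (hle''.trans hle)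
    have h5 : hU.primeIdealOf ⟨x, hxU⟩ ≤ hU.primeIdealOf ⟨x', hx'U⟩ :=
      (show (hU.primeIdealOf ⟨x, hxU⟩).asIdeal ≤ (hU.primeIdealOf ⟨x', hx'U⟩).asIdeal from hle.trans h4)
    have h6 : hU.primeIdealOf ⟨x', hx'U⟩ = hU.primeIdealOf ⟨x, hxU⟩ := le_antisymm hle' h5
    apply hne
    have := congrArg hU.fromSpec h6
    rw [hU.fromSpec_primeIdealOf ⟨x', hx'U⟩, hU.fromSpec_primeIdealOf ⟨x, hxU⟩] at this
    exact this
  have havoid : ¬ (((hU.primeIdealOf ⟨x, hxU⟩).asIdeal : Set Γ(X, U)) ⊆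
      ⋃ 𝔮 ∈ (hfin.toFinset : Set (Ideal Γ(X, U))), (𝔮 : Set Γ(X, U))) := by
    intro hsub
    have := (Ideal.subset_union_prime (s := hfin.toFinset) (f := fun 𝔮 => 𝔮) ⊥ ⊥
      (fun 𝔮 h𝔮 _ _ => (hfin.mem_toFinset.mp h𝔮).1.1)
      (I := (hU.primeIdealOf ⟨x, hxU⟩).asIdeal)).mp hsub
    obtain ⟨𝔮, h𝔮, hle⟩ := this
    exact hnot 𝔮 (hfin.mem_toFinset.mp h𝔮) hle
  rw [Set.not_subset] at havoid
  obtain ⟨g, hgx, hg⟩ := havoid
  have hgS : ∀ 𝔮 ∈ I.minimalPrimes, g ∉ 𝔮 := by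
    intro 𝔮 h𝔮 hg𝔮
    apply hg
    simp only [Set.mem_iUnion]
    exact ⟨𝔮, by simpa using h𝔮, hg𝔮⟩
  refine ⟨U, hU, hxU, g, ?_, ?_⟩
  · rw [← X.evaluation_eq_zero_iff_notMem_basicOpen x hxU g, ← RingHom.mem_ker,
      ResFieldBridge.ker_evaluation hU x hxU]
    exact hgx
  · intro z hfz hzmax hzU
    rw [← X.evaluation_ne_zero_iff_mem_basicOpen z hzU g, Ne, ← RingHom.mem_ker,
      ResFieldBridge.ker_evaluation hU z hzU]
    apply hgS
    refine ⟨⟨(hU.primeIdealOf ⟨z, hzU⟩).isPrime, hIle z hzU hfz⟩, ?_⟩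
    intro 𝔮' h𝔮' hle
    haveI := h𝔮'.1
    obtain ⟨hf', hsp'⟩ := hfib z hzU hfz ⟨𝔮', h𝔮'.1⟩ h𝔮'.2 hle
    have h7 := hzmax _ hf' (specializes_iff_mem_closure.mp hsp')
    have h8 : hU.primeIdealOf ⟨z, hzU⟩ = ⟨𝔮', h𝔮'.1⟩ := by
      have h9 := ResFieldBridge.primeIdealOf_fromSpec hU ⟨𝔮', h𝔮'.1⟩
      rw [← h9]
      congr 1
      exact Subtype.ext h7.symm
    rw [h8]

end Groth.Agent.S5924
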