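import Groth.Statements.S5925
import Mathlib
import Groth.Agent.Lib.Helper14.FibreChain
import Groth.Agent.Lib.Helper14.CompEquidim
import Groth.Agent.Lib.Helper14.ZeroLocusPIT
-- import your own Groth.Agent.* helpers here

set_option autoImplicit false
open CategoryTheory AlgebraicGeometry
universe u
open EGA43

namespace Groth.Agent.S5925

/-- Let Y be an irreducible locally Noetherian scheme, f : X ⟶ Y a morphism locally of finite type which
is equidimensional at the point x, y = f x and e = dim_x(f⁻¹(y)). Let g be a global section of O_X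
vanishing at x whose zero set X' contains no maximal point of f⁻¹(y). Then X', with its reduced
closed subscheme structure, is equidimensional over Y at x; dim_x(X' ∩ f⁻¹(y)) = e − 1; and every
irreducible component of X' containing x has codimension 1 in X, i.e. the local ring of X at its
generic point has Krull dimension 1. (Stated for a global section; the published statement takes g
on an affine open neighbourhood of x, to which this applies after restriction, and its codimension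
assertion codim(X', X) = 1 is read for the components of X' through x: a component of the zero set
not passing through x can be a whole irreducible component of X disjoint from the fibre, of
codimension 0.) -/
theorem result {X Y : Scheme.{u}} [IrreducibleSpace Y]
    [IsLocallyNoetherian Y] (f : X ⟶ Y) [LocallyOfFiniteType f] (x : X) (hf : EGA43.IsEquidimAt f x)
    (g : Γ(X, ⊤)) (hgx : x ∈ X.zeroLocus ({g} : Set Γ(X, ⊤)))
    (hmax : ∀ z : X, f.base z = f.base x → (∀ z' : X, f.base z' = f.base x → z ∈ closure ({z'} : Set X) → z' = z) →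
      z ∉ X.zeroLocus ({g} : Set Γ(X, ⊤))) :
    (∀ w : ↥(Scheme.IdealSheafData.vanishingIdeal ⟨X.zeroLocus ({g} : Set Γ(X, ⊤)), X.zeroLocus_isClosed _⟩).subscheme,
        (Scheme.IdealSheafData.vanishingIdeal ⟨X.zeroLocus ({g} : Set Γ(X, ⊤)), X.zeroLocus_isClosed _⟩).subschemeι.base w = x →
        EGA43.IsEquidimAt ((Scheme.IdealSheafData.vanishingIdeal ⟨X.zeroLocus ({g} : Set Γ(X, ⊤)), X.zeroLocus_isClosed _⟩).subschemeι ≫ f) w) ∧
      FlatMor.localDim ↥(X.zeroLocus ({g} : Set Γ(X, ⊤)) ∩ f.base ⁻¹' {f.base x}) ⟨x, ⟨hgx, rfl⟩⟩ + 1 = FlatMor.fibreDimAt f x ∧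
      ∀ Z ∈ irreducibleComponents ↥(X.zeroLocus ({g} : Set Γ(X, ⊤))), (⟨x, hgx⟩ : ↥(X.zeroLocus ({g} : Set Γ(X, ⊤)))) ∈ Z →
        ∀ ξ : ↥(X.zeroLocus ({g} : Set Γ(X, ⊤))), closure ({ξ} : Set ↥(X.zeroLocus ({g} : Set Γ(X, ⊤)))) = Z →
          ringKrullDim (X.presheaf.stalk (ξ : X)) = 1 := by
  open Groth.Agent.Helper14 in
  haveI : IsLocallyNoetherian X := LocallyOfFiniteType.isLocallyNoetherian f
  obtain ⟨e, U, hxU, hp1, hp2, hp3⟩ := EquidimAt.spec f hf
  set T : TopologicalSpace.Closeds X :=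
    ⟨X.zeroLocus ({g} : Set Γ(X, ⊤)), X.zeroLocus_isClosed _⟩ with hT
  have hTmem : ∀ z : X, z ∈ (T : Set X) ↔ z ∈ X.zeroLocus ({g} : Set Γ(X, ⊤)) := fun z => Iff.rfl
  -- (0) no point of `T` over `y` generizing `x` has transcendence degree `e`
  have hlt : ∀ z : X, z ∈ X.zeroLocus ({g} : Set Γ(X, ⊤)) → z ⤳ x → f.base z = f.base x →
      ∀ k : ℕ, @Algebra.trdeg (Y.residueField (f.base z)) (X.residueField z) _ _
        (f.residueFieldMap z).hom.toAlgebra = k → k + 1 ≤ e := by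
    intro z hzT hzx hfz k hk
    have hnotmax : ¬ (∀ z' : X, f.base z' = f.base x → z ∈ closure ({z'} : Set X) → z' = z) :=
      fun hh => hmax z hfz hh hzT
    push Not at hnotmax
    obtain ⟨z', hfz', hz'z, hne⟩ := hnotmax
    have hz'z' : z' ⤳ z := specializes_iff_mem_closure.mpr hz'z
    obtain ⟨k', hk'⟩ := ResFieldBridge.exists_nat_trdeg_residueField f z'
    have hFL := FibreChain.trdeg_eq_add_locQuot f z z' hz'z' (hfz'.trans hfz.symm) k' k hk' hk
    have h1 := OpenGenericLift.one_le_dim_locQuot z z' hz'z' hne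
    obtain ⟨d, hd, -⟩ := FibreDimIneq.exists_nat_dim_locQuot z z' hz'z'
    rw [hd] at hFL h1
    have h2 := EquidimAt.trdeg_le_fibreDimAt f x z' (hz'z'.trans hzx) k' hk'
    rw [hp3 x hxU] at h2
    have e1 : d + k = k' := by exact_mod_cast hFL
    have e2 : 1 ≤ d := by exact_mod_cast h1
    have e3 : k' ≤ e := by exact_mod_cast h2
    omega
  -- (1) the local dimension of `T ∩ f⁻¹(y)` at `x` is `e - 1`
  obtain ⟨z₁, n'', hz₁T, hz₁x, hfz₁, -, hn'', hld⟩ :=
    ClosedFibreDim.exists_maximal_trdeg_eq_localDim f T x ⟨hgx, rfl⟩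
  have hupper := hlt z₁ hz₁T hz₁x hfz₁ n'' hn''
  obtain ⟨z₀, e₀, hz₀x, hfz₀, hz₀max, he₀, hfd₀⟩ := EquidimAt.exists_maximal_trdeg_eq_fibreDimAt f x
  rw [hp3 x hxU] at hfd₀
  have ee₀ : e = e₀ := by exact_mod_cast hfd₀
  subst ee₀
  have hz₀T : z₀ ∉ X.zeroLocus ({g} : Set Γ(X, ⊤)) := by
    apply hmax z₀ hfz₀
    intro z' hfz' hz'
    exact hz₀max z' (hfz'.trans hfz₀.symm) (specializes_iff_mem_closure.mpr hz')
  obtain ⟨z, hz₀z, hzx, hzT, hdimz⟩ := ZeroLocusPIT.exists_between g x z₀ hz₀x hgx hz₀T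
  have hfz : f.base z = f.base x := by
    have h1 : f.base z₀ ⤳ f.base z := hz₀z.map f.continuous
    have h2 : f.base z ⤳ f.base x := hzx.map f.continuous
    rw [hfz₀] at h1
    exact (h2.antisymm h1).eq
  obtain ⟨k, hk⟩ := ResFieldBridge.exists_nat_trdeg_residueField f z
  have hFLz := FibreChain.trdeg_eq_add_locQuot f z z₀ hz₀z (hfz₀.trans hfz.symm) e k he₀ hk
  rw [hdimz] at hFLz
  have ek : 1 + k = e := by exact_mod_cast hFLz
  have hlower := ClosedFibreDim.trdeg_le_localDim f T x ⟨hgx, rfl⟩ z hzT hzx k hk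
  rw [hld] at hlower
  have ek' : k ≤ n'' := by exact_mod_cast hlower
  have en'' : n'' + 1 = e := by omega
  -- (2) maximal points of `T` generizing `x`
  have hTmax : ∀ ξ : X, ξ ∈ X.zeroLocus ({g} : Set Γ(X, ⊤)) → ξ ⤳ x →
      (∀ z' : X, z' ∈ X.zeroLocus ({g} : Set Γ(X, ⊤)) → z' ⤳ ξ → z' = ξ) →
      ringKrullDim (X.presheaf.stalk ξ) = 1 ∧ (∀ η' : Y, η' ⤳ f.base ξ → η' = f.base ξ) ∧
      @Algebra.trdeg (Y.residueField (f.base ξ)) (X.residueField ξ) _ _
        (f.residueFieldMap ξ).hom.toAlgebra = (n'' : Cardinal) := by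
    intro ξ hξT hξx hξmax
    have hξU : ξ ∈ U := hξx.mem_open U.isOpen hxU
    have hle1 := ZeroLocusPIT.ringKrullDim_stalk_le_one g ξ hξT hξmax
    obtain ⟨z', E, hz'ξ, hfz', hz'max, hE, hfd⟩ := EquidimAt.exists_maximal_trdeg_eq_fibreDimAt f ξ
    rw [hp3 ξ hξU] at hfd
    have eE : e = E := by exact_mod_cast hfd
    subst eE
    obtain ⟨m, hm⟩ := ResFieldBridge.exists_nat_trdeg_residueField f ξ
    have hz'T : z' ∉ X.zeroLocus ({g} : Set Γ(X, ⊤)) := by
      intro hz'T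
      have hz'eq := hξmax z' hz'T hz'ξ
      subst hz'eq
      obtain ⟨x₁, hξx₁, hx₁x, hfx₁, n₁, hn₁, hle⟩ := RestrictedChevalley.rc f x z' hξx e hE
      have hx₁T : x₁ ∈ X.zeroLocus ({g} : Set Γ(X, ⊤)) :=
        T.isClosed.closure_subset_iff.mpr (Set.singleton_subset_iff.mpr hξT)
          (specializes_iff_mem_closure.mp hξx₁)
      have := hlt x₁ hx₁T hx₁x hfx₁ n₁ hn₁
      omega
    obtain ⟨z'', hz'z'', hz''ξ, hz''T, hdim''⟩ := ZeroLocusPIT.exists_between g ξ z' hz'ξ hξT hz'T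
    have hz''eq := hξmax z'' hz''T hz''ξ
    subst hz''eq
    have hFL := FibreChain.trdeg_eq_add_locQuot f z'' z' hz'z'' hfz' e m hE hm
    rw [hdim''] at hFL
    have em : 1 + m = e := by exact_mod_cast hFL
    have hge1 : (1 : WithBot ℕ∞) ≤ ringKrullDim (X.presheaf.stalk z'') := by
      obtain ⟨d, hd, hdle⟩ := FibreDimIneq.exists_nat_dim_locQuot z'' z' hz'z''
      rw [hdim''] at hd
      rw [hd]
      exact hdle
    have hdim1 : ringKrullDim (X.presheaf.stalk z'') = 1 := le_antisymm hle1 hge1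
    refine ⟨hdim1, ?_, ?_⟩
    · have hz'maxX : ∀ ξ' : X, ξ' ⤳ z' → ξ' = z' := by
        apply FibreClosure.maximal_of_locQuot_eq z'' z' hz'z''
        rw [hdim'', hdim1]
      have hz'U : z' ∈ U := hz'z''.mem_open U.isOpen hξU
      obtain ⟨hfz'max, -⟩ := hp1 z' hz'U hz'maxX
      rw [← hfz']
      exact hfz'max
    · rw [hm]
      have : m = n'' := by omega
      rw [this]
  refine ⟨?_, ?_, ?_⟩
  · -- equidimensionality of the zero locus
    intro w hw
    subst hw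
    set ι := (Scheme.IdealSheafData.vanishingIdeal T).subschemeι with hι
    have hrange := ClosedFibreDim.range_subschemeι_vanishingIdeal T
    have hind := ι.isEmbedding.isInducing
    haveI : IsLocallyNoetherian (Scheme.IdealSheafData.vanishingIdeal T).subscheme :=
      LocallyOfFiniteType.isLocallyNoetherian (ι ≫ f)
    obtain ⟨U₀, hwU₀, hU₀⟩ := EquidimAt.exists_nhd_maximal_specializes w
    let U₁ : (Scheme.IdealSheafData.vanishingIdeal T).subscheme.Opens :=
      ⟨{w' | FlatMor.fibreDimAt (ι ≫ f) w' ≤ (n'' : WithBot ℕ∞)},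
        Groth.Agent.S0402.result (ι ≫ f) n''⟩
    have hwU₁ : w ∈ U₁ := by
      change FlatMor.fibreDimAt (ι ≫ f) w ≤ (n'' : WithBot ℕ∞)
      rw [← ClosedFibreDim.localDim_inter_fibre_eq f T w _ ⟨hgx, rfl⟩, hld]
    -- maximal points of the subscheme near `w`
    have key : ∀ ξ₀ : ↥(Scheme.IdealSheafData.vanishingIdeal T).subscheme, ξ₀ ⤳ w →
        (∀ ξ' : ↥(Scheme.IdealSheafData.vanishingIdeal T).subscheme, ξ' ⤳ ξ₀ → ξ' = ξ₀) →
        (∀ η' : Y, η' ⤳ f.base (ι.base ξ₀) → η' = f.base (ι.base ξ₀)) ∧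
        @Algebra.trdeg (Y.residueField (f.base (ι.base ξ₀))) (X.residueField (ι.base ξ₀)) _ _
          (f.residueFieldMap (ι.base ξ₀)).hom.toAlgebra = (n'' : Cardinal) := by
      intro ξ₀ hξ₀w hξ₀max
      have hξT : ι.base ξ₀ ∈ X.zeroLocus ({g} : Set Γ(X, ⊤)) := by
        rw [← hTmem, ← hrange]; exact ⟨ξ₀, rfl⟩
      have hξx : ι.base ξ₀ ⤳ ι.base w := hξ₀w.map ι.continuous
      have hξmax : ∀ z' : X, z' ∈ X.zeroLocus ({g} : Set Γ(X, ⊤)) → z' ⤳ ι.base ξ₀ →
          z' = ι.base ξ₀ := by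
        intro z' hz'T hz'
        rw [← hTmem, ← hrange] at hz'T
        obtain ⟨z₀', rfl⟩ := hz'T
        rw [hξ₀max z₀' (hind.specializes_iff.mp hz')]
      exact (hTmax _ hξT hξx hξmax).2
    apply EquidimAt.of_spec (ι ≫ f) w n'' (U₀ ⊓ U₁) ⟨hwU₀, hwU₁⟩
    · intro ξ₀ hξ₀U hξ₀max
      have hξ₀w := hU₀ ξ₀ hξ₀U.1 hξ₀max
      exact ⟨(key ξ₀ hξ₀w hξ₀max).1, hξ₀w.map (ι ≫ f).continuous⟩
    · intro z' hz'U hz'max
      obtain ⟨m, hm⟩ := ResFieldBridge.exists_nat_trdeg_residueField (ι ≫ f) z'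
      have h1 : (m : WithBot ℕ∞) ≤ (n'' : WithBot ℕ∞) := by
        rw [← FibreMax.fibreDimAt_eq_of_maximal (ι ≫ f) z' hz'max m hm]
        exact hz'U.2
      obtain ⟨ξ₀, hξ₀max, hξ₀z', -⟩ := LocQuotLemmas.exists_maximal_locQuot_eq z'
      have hξ₀U₀ : ξ₀ ∈ U₀ := hξ₀z'.mem_open U₀.isOpen hz'U.1
      have hξ₀w := hU₀ ξ₀ hξ₀U₀ hξ₀max
      have htr := (key ξ₀ hξ₀w hξ₀max).2
      rw [← ClosedFibreDim.trdeg_subschemeι f _ ξ₀] at htr
      obtain ⟨x₁, -, hx₁z, hfx₁, n₁, hn₁, hle⟩ :=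
        RestrictedChevalley.rc (ι ≫ f) z' ξ₀ hξ₀z' n'' htr
      have hx₁ := hz'max x₁ hfx₁ hx₁z
      subst hx₁
      have e3 : n₁ = m := by
        have := hn₁.symm.trans hm
        exact_mod_cast this
      have e4 : m ≤ n'' := by exact_mod_cast h1
      have e5 : m = n'' := by omega
      rw [hm, e5]
  · change FlatMor.localDim ↥((T : Set X) ∩ f.base ⁻¹' {f.base x}) ⟨x, _⟩ + 1 = _
    rw [hld, hp3 x hxU]
    exact_mod_cast en''
  · intro Z hZ hxZ ξ hξZ
    have hξx : (ξ : X) ⤳ x := by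
      have : ξ ⤳ (⟨x, hgx⟩ : ↥(X.zeroLocus ({g} : Set Γ(X, ⊤)))) := by
        rw [specializes_iff_mem_closure, hξZ]; exact hxZ
      exact (subtype_specializes_iff _ _).mp this
    have hξmax : ∀ z' : X, z' ∈ X.zeroLocus ({g} : Set Γ(X, ⊤)) → z' ⤳ (ξ : X) → z' = ξ := by
      intro z' hz'T hz'
      have h1 : (⟨z', hz'T⟩ : ↥(X.zeroLocus ({g} : Set Γ(X, ⊤)))) ⤳ ξ :=
        (subtype_specializes_iff _ _).mpr hz'
      have hsub : Z ⊆ closure {(⟨z', hz'T⟩ : ↥(X.zeroLocus ({g} : Set Γ(X, ⊤))))} := by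
        rw [← hξZ]; exact specializes_iff_closure_subset.mp h1
      have h3 := hZ.2 isIrreducible_singleton.closure hsub
      have h4 : ξ ⤳ (⟨z', hz'T⟩ : ↥(X.zeroLocus ({g} : Set Γ(X, ⊤)))) := by
        rw [specializes_iff_mem_closure, hξZ]; exact h3 (subset_closure rfl)
      exact congrArg Subtype.val (h1.antisymm h4).eq
    exact (hTmax ξ ξ.2 hξx hξmax).1

end Groth.Agent.S5925
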