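import Groth.Statements.S9709
import Mathlib.RingTheory.Ideal.GoingUp
-- import your own Groth.Agent.* helpers here

set_option autoImplicit false
universe u
open CategoryTheory CategoryTheory.Limits AlgebraicGeometry
open Mor

namespace Groth.Agent.S9709

section
open AlgebraicGeometry CategoryTheory

/-- incomparability for integral ring maps -/
lemma eq_of_le_of_comap_eq {A B : Type u} [CommRing A] [CommRing B] (φ : A →+* B)
    (hφ : φ.IsIntegral) (p p' : PrimeSpectrum B) (hle : p ≤ p')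
    (h : PrimeSpectrum.comap φ p = PrimeSpectrum.comap φ p') : p = p' := by
  algebraize [φ]
  haveI : Algebra.IsIntegral A B := ⟨hφ⟩
  by_contra hne
  have hlt : p.asIdeal < p'.asIdeal := lt_of_le_of_ne hle (fun h' => hne (PrimeSpectrum.ext h'))
  have := Ideal.IsIntegral.comap_lt_comap (R := A) hlt
  have h2 : p.asIdeal.comap (algebraMap A B) = p'.asIdeal.comap (algebraMap A B) :=
    congrArg PrimeSpectrum.asIdeal h
  rw [h2] at this
  exact lt_irrefl _ this

/-- no nontrivial specializations in the fibres of an integral morphism -/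
theorem eq_of_specializes {X S : Scheme.{u}} (f : X ⟶ S) [IsIntegralHom f] (x x' : X)
    (hs : x ⤳ x') (hf : f.base x' = f.base x) : x' = x := by
  obtain ⟨V, hV, hxV⟩ : ∃ V : S.Opens, IsAffineOpen V ∧ f.base x ∈ V := by
    obtain ⟨_, ⟨V, hV, rfl⟩, hxV, -⟩ :=
      S.isBasis_affineOpens.exists_subset_of_mem_open (Set.mem_univ (f.base x)) isOpen_univ
    exact ⟨V, hV, hxV⟩
  have hU : IsAffineOpen (f ⁻¹ᵁ V) := hV.preimage f
  have hxU : x ∈ f ⁻¹ᵁ V := hxV
  have hx'U : x' ∈ f ⁻¹ᵁ V := by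
    show f.base x' ∈ V
    rw [hf]; exact hxV
  set p := hU.primeIdealOf ⟨x, hxU⟩ with hp
  set p' := hU.primeIdealOf ⟨x', hx'U⟩ with hp'
  have e1 : hU.fromSpec p = x := hU.fromSpec_primeIdealOf ⟨x, hxU⟩
  have e2 : hU.fromSpec p' = x' := hU.fromSpec_primeIdealOf ⟨x', hx'U⟩
  have hind : Topology.IsInducing hU.fromSpec :=
    hU.fromSpec.isOpenEmbedding.isInducing
  have hsp : p ⤳ p' := by
    have h0 : hU.fromSpec p ⤳ hU.fromSpec p' := by rw [e1, e2]; exact hs
    exact hind.specializes_iff.1 h0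
  have hle : p ≤ p' := (PrimeSpectrum.le_iff_specializes p p').2 hsp
  have hcomm : Spec.map (f.appLE V (f ⁻¹ᵁ V) le_rfl) ≫ hV.fromSpec = hU.fromSpec ≫ f :=
    IsAffineOpen.SpecMap_appLE_fromSpec f hV hU le_rfl
  have hinj : Function.Injective hV.fromSpec :=
    hV.fromSpec.isOpenEmbedding.injective
  have hc : (Spec.map (f.appLE V (f ⁻¹ᵁ V) le_rfl)) p = (Spec.map (f.appLE V (f ⁻¹ᵁ V) le_rfl)) p' := by
    apply hinj
    have h1 : ∀ q, hV.fromSpec ((Spec.map (f.appLE V (f ⁻¹ᵁ V) le_rfl)) q) = f (hU.fromSpec q) := by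
      intro q
      rw [← Scheme.Hom.comp_apply, hcomm, Scheme.Hom.comp_apply]
    rw [h1, h1, e1, e2]
    exact hf.symm
  have hint : (f.appLE V (f ⁻¹ᵁ V) le_rfl).hom.IsIntegral := by
    have := IsIntegralHom.isIntegral_app f V hV
    rwa [Scheme.Hom.app_eq_appLE] at this
  have : p = p' := eq_of_le_of_comap_eq _ hint p p' hle hc
  rw [← e1, ← e2, this]

theorem aux {X S : Scheme.{u}} (f : X ⟶ S) [IsIntegralHom f] (x : X) :
    closure {x} ∩ f.base ⁻¹' {f.base x} = {x} := by
  ext x'
  constructor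
  · rintro ⟨h1, h2⟩
    have hs : x ⤳ x' := specializes_iff_mem_closure.2 h1
    exact eq_of_specializes f x x' hs h2
  · rintro rfl
    exact ⟨subset_closure rfl, rfl⟩
end

/-- Let f : X ⟶ S be an integral morphism. Then every point x of X is closed in its fibre: a point of
f⁻¹(f x) specialising from x equals x. -/
theorem result {X S : Scheme.{u}} (f : X ⟶ S) [IsIntegralHom f] (x : X) :
    closure {x} ∩ f.base ⁻¹' {f.base x} = {x} := by
  exact aux f x

end Groth.Agent.S9709
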