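import Groth.Statements.S9683
import Groth.Agent.S9709
import Groth.Agent.Lib.Helper7.TopDim
import Groth.Agent.Lib.Helper11.DimLift
-- import your own Groth.Agent.* helpers here

set_option autoImplicit false
universe u
open CategoryTheory CategoryTheory.Limits AlgebraicGeometry
open Mor

namespace Groth.Agent.S9683

section
open AlgebraicGeometry CategoryTheory

theorem aux {X Y : Scheme.{u}} (f : X ⟶ Y) [IsIntegralHom f] :
    topologicalKrullDim ↥X ≤ topologicalKrullDim ↥Y ∧
      (Surjective f → topologicalKrullDim ↥X = topologicalKrullDim ↥Y) := by
  have h1 : topologicalKrullDim ↥X ≤ topologicalKrullDim ↥Y := by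
    apply Groth.Agent.Helper7.TopDim.topologicalKrullDim_le_of_fiber_antisymm (f := f.base)
      f.continuous
    intro x x' hs hf
    exact Groth.Agent.S9709.eq_of_specializes f x' x hs hf
  refine ⟨h1, fun hsurj => le_antisymm h1 ?_⟩
  apply Groth.Agent.Helper11.topologicalKrullDim_le_of_surjective_of_lift (f := f.base)
    f.continuous hsurj.surj
  left
  exact f.isClosedMap.specializingMap
end

/-- For any integral morphism of schemes f : X ⟶ Y, the dimension of X is at most that of Y, and if f is
surjective then dim X = dim Y (dimensions of the underlying topological spaces). -/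
theorem result {X Y : Scheme.{u}} (f : X ⟶ Y) [IsIntegralHom f] :
    topologicalKrullDim ↥X ≤ topologicalKrullDim ↥Y ∧
      (Surjective f → topologicalKrullDim ↥X = topologicalKrullDim ↥Y) := by
  exact aux f

end Groth.Agent.S9683
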