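import Groth.Statements.S9318
import Mathlib
import Groth.Agent.Lib.Helper14.AdicComplQuot
-- import your own Groth.Agent.* helpers here

set_option autoImplicit false
universe u
open CAlg

namespace Groth.Agent.S9318

/-- Let `R → S` be a ring map and `𝔫 ⊆ S` a finitely generated ideal, and let `S^` be the `𝔫`-adic
completion of `S`. Then `R → S` is formally smooth for the `𝔫`-adic topology if and only if `R → S^`
is formally smooth for the adic topology of the extension of `𝔫` to `S^`. No Noetherian hypothesis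
is made on `S`. -/
theorem result {R S : Type u} [CommRing R] [CommRing S]
    [Algebra R S] (𝔫 : Ideal S) (h𝔫 : 𝔫.FG) :
    CAlgX.IsAdicFormallySmooth R S 𝔫 ↔
      CAlgX.IsAdicFormallySmooth R (AdicCompletion 𝔫 S) (𝔫.map (algebraMap S (AdicCompletion 𝔫 S))) := by
  have htower : IsScalarTower R S (AdicCompletion 𝔫 S) :=
    IsScalarTower.of_algebraMap_eq fun r => rfl
  constructor
  · -- S formally smooth ⇒ completion formally smooth
    intro hS A _ _ J hJ ψ hψ
    obtain ⟨k, hk⟩ := hψ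
    let ι : S →ₐ[R] AdicCompletion 𝔫 S := IsScalarTower.toAlgHom R S (AdicCompletion 𝔫 S)
    have hk' : ∀ x ∈ 𝔫 ^ k, (ψ.comp ι) x = 0 := by
      intro x hx
      apply hk
      rw [← Ideal.map_pow]
      exact Ideal.mem_map_of_mem _ hx
    obtain ⟨χ₀, hχ₀⟩ := hS A J hJ (ψ.comp ι) ⟨k, hk'⟩
    have hχ₀J : ∀ x ∈ 𝔫 ^ k, χ₀ x ∈ J := by
      intro x hx
      rw [← Ideal.Quotient.eq_zero_iff_mem]
      have := DFunLike.congr_fun hχ₀ x
      rw [hk' x hx] at this
      exact this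
    have hχ₀0 : ∀ x ∈ 𝔫 ^ (k + k), χ₀ x = 0 := by
      intro x hx
      rw [pow_add] at hx
      have h1 : χ₀ x ∈ J * J := by
        refine Submodule.mul_induction_on hx ?_ ?_
        · intro a ha b hb
          rw [map_mul]
          exact Ideal.mul_mem_mul (hχ₀J a ha) (hχ₀J b hb)
        · intro a b ha hb
          rw [map_add]
          exact Ideal.add_mem _ ha hb
      rw [← pow_two, hJ] at h1
      exact h1
    let χ : AdicCompletion 𝔫 S →ₐ[R] A :=
      (Ideal.Quotient.liftₐ (𝔫 ^ (k + k)) χ₀ hχ₀0).comp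
        ((AdicCompletion.evalₐ 𝔫 (k + k)).restrictScalars R)
    refine ⟨χ, ?_⟩
    apply AlgHom.ext
    intro x
    obtain ⟨s, hs⟩ := Ideal.Quotient.mk_surjective (AdicCompletion.evalₐ 𝔫 (k + k) x)
    have hmem := Groth.Agent.Helper14.AdicComplQuot.algebraMap_sub_mem 𝔫 h𝔫 (k + k) x s hs
    have hmem' : x - algebraMap S (AdicCompletion 𝔫 S) s ∈
        (𝔫.map (algebraMap S (AdicCompletion 𝔫 S))) ^ k :=
      Ideal.pow_le_pow_right (Nat.le_add_right k k) hmem
    have h1 : ψ x = ψ (ι s) := by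
      have := hk _ hmem'
      rw [map_sub, sub_eq_zero] at this
      exact this
    have h2 : χ x = χ₀ s := by
      change (Ideal.Quotient.liftₐ (𝔫 ^ (k + k)) χ₀ hχ₀0) (AdicCompletion.evalₐ 𝔫 (k + k) x) = _
      rw [← hs]
      rfl
    rw [AlgHom.comp_apply, h2, h1]
    exact DFunLike.congr_fun hχ₀ s
  · -- completion formally smooth ⇒ S formally smooth
    intro hS A _ _ J hJ ψ hψ
    obtain ⟨k, hk⟩ := hψ
    let ι : S →ₐ[R] AdicCompletion 𝔫 S := IsScalarTower.toAlgHom R S (AdicCompletion 𝔫 S)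
    let ψ' : AdicCompletion 𝔫 S →ₐ[R] A ⧸ J :=
      (Ideal.Quotient.liftₐ (𝔫 ^ k) ψ hk).comp ((AdicCompletion.evalₐ 𝔫 k).restrictScalars R)
    have hψ' : ∀ x ∈ (𝔫.map (algebraMap S (AdicCompletion 𝔫 S))) ^ k, ψ' x = 0 := by
      intro x hx
      rw [← Groth.Agent.Helper14.AdicComplQuot.evalₐ_eq_zero_iff 𝔫 h𝔫] at hx
      change (Ideal.Quotient.liftₐ (𝔫 ^ k) ψ hk) (AdicCompletion.evalₐ 𝔫 k x) = 0
      rw [hx, map_zero]
    obtain ⟨χ', hχ'⟩ := hS A J hJ ψ' ⟨k, hψ'⟩
    refine ⟨χ'.comp ι, ?_⟩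
    apply AlgHom.ext
    intro s
    have := DFunLike.congr_fun hχ' (ι s)
    rw [AlgHom.comp_apply] at this
    rw [AlgHom.comp_apply, AlgHom.comp_apply, this]
    change (Ideal.Quotient.liftₐ (𝔫 ^ k) ψ hk) (AdicCompletion.evalₐ 𝔫 k (ι s)) = ψ s
    have h3 : AdicCompletion.evalₐ 𝔫 k (ι s) = Ideal.Quotient.mk (𝔫 ^ k) s := by
      change AdicCompletion.evalₐ 𝔫 k (AdicCompletion.of 𝔫 S s) = _
      exact AdicCompletion.evalₐ_of 𝔫 k s
    rw [h3]
    rfl

end Groth.Agent.S9318
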