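import Groth.Statements.S9444
import Mathlib
import Groth.Agent.S0579
import Groth.Agent.S9443
import Groth.Agent.Lib.Helper14.PerfectSmooth
-- import your own Groth.Agent.* helpers here

set_option autoImplicit false
universe u
open CAlg

namespace Groth.Agent.S9444

open IsLocalRing in
/-- existence of a coefficient field for an equicharacteristic complete local ring. -/
theorem exists_section (R : Type u) [CommRing R] [IsLocalRing R]
    [IsAdicComplete (maximalIdeal R) R] (k₀ : Type u) [Field k₀] [Algebra k₀ R] :
    ∃ s : ResidueField R →+* R, (residue R).comp s = RingHom.id _ := by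
  obtain ⟨p, hpK⟩ := CharP.exists (ResidueField R)
  rcases CharP.char_is_prime_or_zero (ResidueField R) p with hp | hp
  · -- characteristic p
    haveI := Fact.mk hp
    have hinj : Function.Injective (algebraMap k₀ R) := (algebraMap k₀ R).injective
    haveI : CharP k₀ p :=
      (RingHom.charP_iff ((residue R).comp (algebraMap k₀ R))
        ((residue R).comp (algebraMap k₀ R)).injective p).mpr hpK
    haveI : CharP R p := (RingHom.charP_iff (algebraMap k₀ R) hinj p).mp inferInstance
    letI : Algebra (ZMod p) R := ZMod.algebra R p
    haveI : Algebra.FormallySmooth (ZMod p) (ResidueField R) :=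
      Groth.Agent.Helper14.PerfectSmooth.formallySmooth_zmod p (ResidueField R)
    let f : ResidueField R →ₐ[ZMod p] R ⧸ maximalIdeal R :=
      { RingHom.id (R ⧸ maximalIdeal R) with
        commutes' := fun r => DFunLike.congr_fun (Subsingleton.elim
          ((RingHom.id (R ⧸ maximalIdeal R)).comp (algebraMap (ZMod p) (ResidueField R)))
          (algebraMap (ZMod p) (R ⧸ maximalIdeal R))) r }
    obtain ⟨g, hg⟩ := Algebra.FormallySmooth.exists_mkₐ_comp_eq_of_isAdicComplete f
    refine ⟨g.toRingHom, ?_⟩
    ext x
    exact DFunLike.congr_fun hg x
  · subst hp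
    haveI : CharZero (ResidueField R) := CharP.charP_to_charZero _
    exact Groth.Agent.S0579.result R

/-- A complete regular local ring containing a field (that is, containing the prime field F_p or ℚ) is
isomorphic to a power series ring in finitely many variables over its residue field (existence of an
isomorphism only). -/
theorem result (R : Type u)
    [CommRing R] [IsRegularLocalRing R] [IsAdicComplete (IsLocalRing.maximalIdeal R) R]
    (k₀ : Type u) [Field k₀] [Algebra k₀ R] :
    ∃ d : ℕ, Nonempty (R ≃+* MvPowerSeries (Fin d) (IsLocalRing.ResidueField R)) := by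
  obtain ⟨s, hs⟩ := exists_section R k₀
  letI : Algebra (IsLocalRing.ResidueField R) R := s.toAlgebra
  have key : ∃ d : ℕ, Nonempty (R ≃ₐ[IsLocalRing.ResidueField R]
      MvPowerSeries (Fin d) (IsLocalRing.ResidueField R)) := by
    refine Groth.Agent.S9443.result R (IsLocalRing.ResidueField R) ?_
    change Function.Bijective ((IsLocalRing.residue R).comp s)
    rw [hs]
    exact Function.bijective_id
  obtain ⟨d, ⟨e⟩⟩ := key
  exact ⟨d, ⟨e.toRingEquiv⟩⟩

end Groth.Agent.S9444
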