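import Groth.Statements.S4533
import Mathlib
import Groth.Agent.Lib.Helper14.PowerSeriesAdic
-- import your own Groth.Agent.* helpers here

set_option autoImplicit false
universe u
open EGA41

namespace Groth.Agent.S4533

/-- Let A carry the 𝔞-adic topology and let B = A[[T_1, …, T_n]] carry the product topology, i.e. the
adic topology of the ideal 𝔞B + (T_1, …, T_n) (the kernel of the constant-coefficient map added to
the extension of 𝔞). Then B is a formally smooth A-algebra for these topologies. (The published
statement allows any linearly topologized base ring and any set of indeterminates with the product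
topology; this row takes an adic base and finitely many indeterminates, where the product topology
is adic.) -/
theorem result (A : Type u) [CommRing A] (𝔞 : Ideal A) (n : ℕ) :
    EGA41.IsFormallySmoothAdic A 𝔞 (MvPowerSeries (Fin n) A)
      (𝔞.map (MvPowerSeries.C : A →+* MvPowerSeries (Fin n) A) ⊔
        RingHom.ker (MvPowerSeries.constantCoeff : MvPowerSeries (Fin n) A →+* A)) := by
  intro C _ _ J hJ hC u hu
  have hnil : ∀ i, IsNilpotent (u (MvPowerSeries.X i)) := by
    obtain ⟨m, hm⟩ := hu
    intro i
    refine ⟨m, ?_⟩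
    rw [← map_pow]
    apply hm
    apply Ideal.pow_mem_pow
    exact Groth.Agent.Helper14.PowerSeriesAdic.span_X_le_defIdeal 𝔞
      (Ideal.subset_span ⟨i, rfl⟩)
  choose c hc using fun i => Ideal.Quotient.mk_surjective (u (MvPowerSeries.X i))
  have hcnil : ∀ i, IsNilpotent (c i) := by
    intro i
    obtain ⟨N, hN⟩ := hnil i
    rw [← hc i, ← map_pow, Ideal.Quotient.eq_zero_iff_mem] at hN
    obtain ⟨r, hr⟩ := hJ
    refine ⟨N * r, ?_⟩
    rw [pow_mul]
    have := Ideal.pow_mem_pow hN r
    rw [hr] at this
    simpa using this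
  obtain ⟨v, hv, hvX, -⟩ :=
    Groth.Agent.Helper14.PowerSeriesAdic.exists_algHom_adic (σ := Fin n) 𝔞 C hC c hcnil
  refine ⟨v, ?_⟩
  apply Groth.Agent.Helper14.PowerSeriesAdic.algHom_ext_adic 𝔞 (C ⧸ J) _ _ ?_ hu ?_
  · obtain ⟨m, hm⟩ := hv
    exact ⟨m, fun x hx => by simp [hm x hx]⟩
  · intro i
    simp [hvX, hc]

end Groth.Agent.S4533
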