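import Groth.Statements.S4534
import Mathlib

set_option autoImplicit false
universe u
open EGA41

namespace Groth.Agent.S4534

/-- Let A → B → C be continuous homomorphisms of adic rings (A with the 𝔞-adic, B the 𝔟-adic, C the
𝔠-adic topology; continuity: a power of 𝔞 maps into 𝔟 and a power of 𝔟 into 𝔠). If B is formally
smooth over A and C formally smooth over B, then C is formally smooth over A. -/
theorem result {A B C : Type u} [CommRing A] [CommRing B] [CommRing C] [Algebra A B] [Algebra B C]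
    [Algebra A C] [IsScalarTower A B C] (𝔞 : Ideal A) (𝔟 : Ideal B) (𝔠 : Ideal C)
    (hAB : ∃ k : ℕ, (𝔞 ^ k).map (algebraMap A B) ≤ 𝔟) (hBC : ∃ k : ℕ, (𝔟 ^ k).map (algebraMap B C) ≤ 𝔠)
    (hB : EGA41.IsFormallySmoothAdic A 𝔞 B 𝔟) (hC : EGA41.IsFormallySmoothAdic B 𝔟 C 𝔠) :
    EGA41.IsFormallySmoothAdic A 𝔞 C 𝔠 := by
  intro D _ _ J hJ hA u hu
  obtain ⟨k', hk'⟩ := hBC
  obtain ⟨m, hm⟩ := hu
  let uB : B →ₐ[A] D ⧸ J := u.comp (IsScalarTower.toAlgHom A B C)
  have huB : ∃ k : ℕ, ∀ x ∈ 𝔟 ^ k, uB x = 0 := by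
    refine ⟨k' * m, fun x hx => ?_⟩
    apply hm
    rw [pow_mul] at hx
    have h2 : algebraMap B C x ∈ ((𝔟 ^ k') ^ m).map (algebraMap B C) := Ideal.mem_map_of_mem _ hx
    rw [Ideal.map_pow] at h2
    exact Ideal.pow_right_mono hk' m h2
  obtain ⟨vB, hvB⟩ := hB D J hJ hA uB huB
  letI algBD : Algebra B D := vB.toRingHom.toAlgebra
  haveI : IsScalarTower A B D := IsScalarTower.of_algebraMap_eq (fun a => (vB.commutes a).symm)
  have hcondB : ∃ k : ℕ, (𝔟 ^ k).map (algebraMap B D) = ⊥ := by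
    obtain ⟨n, hn⟩ := hJ
    obtain ⟨k₁, hk₁⟩ := huB
    refine ⟨k₁ * n, ?_⟩
    have h1 : (𝔟 ^ k₁).map (algebraMap B D) ≤ J := by
      rw [Ideal.map_le_iff_le_comap]
      intro x hx
      rw [Ideal.mem_comap]
      have : Ideal.Quotient.mk J (vB x) = uB x := AlgHom.congr_fun hvB x
      rw [hk₁ x hx] at this
      exact Ideal.Quotient.eq_zero_iff_mem.mp this
    rw [pow_mul, Ideal.map_pow, eq_bot_iff]
    calc ((𝔟 ^ k₁).map (algebraMap B D)) ^ n ≤ J ^ n := Ideal.pow_right_mono h1 n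
      _ = ⊥ := hn
  have hcomm : ∀ b : B, u.toRingHom (algebraMap B C b) = algebraMap B (D ⧸ J) b := by
    intro b
    change u (algebraMap B C b) = Ideal.Quotient.mk J (vB b)
    exact (AlgHom.congr_fun hvB b).symm
  let u' : C →ₐ[B] D ⧸ J := { u.toRingHom with commutes' := hcomm }
  obtain ⟨w, hw⟩ := hC D J hJ hcondB u' ⟨m, hm⟩
  refine ⟨w.restrictScalars A, ?_⟩
  ext c
  exact AlgHom.congr_fun hw c

end Groth.Agent.S4534
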