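import Groth.Statements.S4537
import Mathlib

set_option autoImplicit false
universe u
open EGA41

namespace Groth.Agent.S4537

/-- For a discrete base and an adic algebra: let A be a discrete ring and B an A-algebra with the 𝔫-adic
topology. If every continuous A-algebra map from B to a quotient C/J with J² = 0 lifts to C, then
the same holds for every nilpotent J; hence the square-zero and the nilpotent forms of adic formal
smoothness agree. -/
theorem result {A B : Type u} [CommRing A] [CommRing B] [Algebra A B]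
    (𝔫 : Ideal B) :
    CAlgX.IsAdicFormallySmooth A B 𝔫 ↔ EGA41.IsFormallySmoothAdic A ⊥ B 𝔫 := by
  constructor
  · intro h C _ algC J hJ _ u hu
    have key : IsNilpotent J → ∀ [Algebra A C] (u : B →ₐ[A] C ⧸ J),
        (∃ k : ℕ, ∀ x ∈ 𝔫 ^ k, u x = 0) →
        ∃ v : B →ₐ[A] C, (Ideal.Quotient.mkₐ A J).comp v = u := by
      apply Ideal.IsNilpotent.induction_on (S := C) J hJ
        (P := fun S _ I => IsNilpotent I → ∀ [Algebra A S] (u : B →ₐ[A] S ⧸ I),
          (∃ k : ℕ, ∀ x ∈ 𝔫 ^ k, u x = 0) →
          ∃ v : B →ₐ[A] S, (Ideal.Quotient.mkₐ A I).comp v = u)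
      · intro S _ I hI _ _ u hu
        exact h S I hI u hu
      · intro S _ I J' hIJ h₁ h₂ hJ' _ u hu
        let e : ((S ⧸ I) ⧸ J'.map (Ideal.Quotient.mk I)) ≃ₐ[A] S ⧸ J' :=
          { (DoubleQuot.quotQuotEquivQuotSup I J').trans
              (Ideal.quotEquivOfEq (sup_eq_right.mpr hIJ)) with
            commutes' := fun x => rfl }
        have he : ∀ s : S, e (Ideal.Quotient.mk _ (Ideal.Quotient.mk I s)) =
            Ideal.Quotient.mk J' s := fun s => rfl
        obtain ⟨k, hk⟩ := hu
        have hJ'map : IsNilpotent (J'.map (Ideal.Quotient.mk I)) := by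
          obtain ⟨n, hn⟩ := hJ'
          refine ⟨n, ?_⟩
          rw [← Ideal.map_pow, hn]
          simp
        have hInil : IsNilpotent I := by
          obtain ⟨n, hn⟩ := hJ'
          refine ⟨n, ?_⟩
          rw [Ideal.zero_eq_bot, eq_bot_iff]
          calc I ^ n ≤ J' ^ n := Ideal.pow_right_mono hIJ n
            _ = ⊥ := hn
        obtain ⟨v', hv'⟩ := h₂ hJ'map (e.symm.toAlgHom.comp u) ⟨k, fun x hx => by
          change e.symm (u x) = 0
          rw [hk x hx, map_zero]⟩
        have hv'x : ∀ x, Ideal.Quotient.mk _ (v' x) = e.symm (u x) := fun x =>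
          AlgHom.congr_fun hv' x
        -- `v'` kills a power of `𝔫`
        obtain ⟨n, hn⟩ := hJ'map
        have hv'kill : ∃ k' : ℕ, ∀ x ∈ 𝔫 ^ k', v' x = 0 := by
          refine ⟨k * n, fun x hx => ?_⟩
          have h1 : (𝔫 ^ k).map v'.toRingHom ≤ J'.map (Ideal.Quotient.mk I) := by
            rw [Ideal.map_le_iff_le_comap]
            intro y hy
            rw [Ideal.mem_comap]
            have := hv'x y
            rw [hk y hy, map_zero] at this
            exact Ideal.Quotient.eq_zero_iff_mem.mp this
          have h2 : v' x ∈ ((𝔫 ^ k) ^ n).map v'.toRingHom := by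
            rw [← pow_mul]
            exact Ideal.mem_map_of_mem v'.toRingHom hx
          rw [Ideal.map_pow] at h2
          have h3 := Ideal.pow_right_mono h1 n h2
          rw [hn] at h3
          exact h3
        obtain ⟨v, hv⟩ := h₁ hInil v' hv'kill
        refine ⟨v, ?_⟩
        ext x
        have h1 : Ideal.Quotient.mk I (v x) = v' x := AlgHom.congr_fun hv x
        change Ideal.Quotient.mk J' (v x) = u x
        rw [← he, h1, hv'x, AlgEquiv.apply_symm_apply]
    exact key hJ u hu
  · intro h C _ _ J hJ ψ hψ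
    exact h C J ⟨2, hJ⟩ ⟨1, by simp⟩ ψ hψ

end Groth.Agent.S4537
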