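import Groth.Statements.S2035
import Mathlib
import Groth.Agent.S9443
import Groth.Agent.Lib.Helper14.AdicFSRegular2
import Groth.Agent.Lib.Helper14.AdicFSTransfer
import Groth.Agent.Lib.Helper14.PowerSeriesSmooth
-- import your own Groth.Agent.* helpers here

set_option autoImplicit false
universe u
open CAlg

namespace Groth.Agent.S2035

open IsLocalRing in
theorem complete_fwd {k R : Type u} [Field k] [CharZero k]
    [CommRing R] [IsRegularLocalRing R] [IsAdicComplete (maximalIdeal R) R] [Algebra k R] :
    CAlgX.IsAdicFormallySmooth k R (maximalIdeal R) := by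
  haveI : Algebra.FormallySmooth k (ResidueField R) :=
    Groth.Agent.Helper14.PerfectSmooth.formallySmooth_of_charZero k (ResidueField R)
  let f : ResidueField R →ₐ[k] R ⧸ maximalIdeal R := AlgHom.id k (ResidueField R)
  obtain ⟨g, hg⟩ := Algebra.FormallySmooth.exists_mkₐ_comp_eq_of_isAdicComplete f
  letI : Algebra (ResidueField R) R := g.toRingHom.toAlgebra
  haveI : IsScalarTower k (ResidueField R) R :=
    IsScalarTower.of_algebraMap_eq fun x => (g.commutes x).symm
  have key : ∃ d : ℕ, Nonempty (R ≃ₐ[ResidueField R]
      MvPowerSeries (Fin d) (ResidueField R)) := by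
    refine Groth.Agent.S9443.result R (ResidueField R) ?_
    change Function.Bijective ((residue R).comp g.toRingHom)
    have : (residue R).comp g.toRingHom = RingHom.id _ := by
      ext x
      exact DFunLike.congr_fun hg x
    rw [this]
    exact Function.bijective_id
  obtain ⟨d, ⟨e⟩⟩ := key
  have h1 := Groth.Agent.Helper14.PowerSeriesSmooth.isAdicFormallySmooth_mvPowerSeries k
    (ResidueField R) d
  exact Groth.Agent.Helper14.AdicFSTransfer.of_algEquiv_local (e.restrictScalars k) h1

open IsLocalRing in
theorem fwd {k A : Type u} [Field k] [CharZero k]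
    [CommRing A] [IsLocalRing A] [IsNoetherianRing A] [Algebra k A] (hreg : IsRegularLocalRing A) :
    CAlgX.IsAdicFormallySmooth k A (maximalIdeal A) := by
  haveI hN : IsNoetherianRing (AdicCompletion (maximalIdeal A) A) :=
    Groth.Agent.S0543.result A (maximalIdeal A)
  haveI hreg' : IsRegularLocalRing (AdicCompletion (maximalIdeal A) A) :=
    (Groth.Agent.Helper1.isRegularLocalRing_adicCompletion_iff A).mp hreg
  rw [Groth.Agent.S9318.result (R := k) (maximalIdeal A) (maximalIdeal A).fg_of_isNoetherianRing,
    ← AdicCompletion.maximalIdeal_eq_map]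
  exact complete_fwd

/-- Let `k` be a field of characteristic zero and `A` a Noetherian local `k`-algebra. Then `A` is a
regular local ring if and only if `k → A` is formally smooth for the adic topology of the maximal
ideal. -/
theorem result {k A : Type u} [Field k] [CharZero k]
    [CommRing A] [IsLocalRing A] [IsNoetherianRing A] [Algebra k A] :
    IsRegularLocalRing A ↔ CAlgX.IsAdicFormallySmooth k A (IsLocalRing.maximalIdeal A) := by
  constructor
  · intro h
    exact fwd h
  · intro h
    exact (Groth.Agent.Helper14.AdicFSRegular.general k A h).1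

end Groth.Agent.S2035
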