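import Groth.Statements.S2471
import Mathlib
import Groth.Agent.Lib.Helper14.AdicFSPrime
import Groth.Agent.Lib.Helper14.AdicFSKaehler
-- import your own Groth.Agent.* helpers here

set_option autoImplicit false
universe u
open EGA41

namespace Groth.Agent.S2471

open IsLocalRing in
/-- Let k be a field and A a Noetherian local k-algebra with maximal ideal 𝔪 and residue field K. Then A
is formally smooth over k for the 𝔪-adic topology if and only if A is regular and the canonical map
Ω_{k/ℤ} ⊗_k K → Ω_{A/ℤ} ⊗_A K is injective. (The published criterion has a first condition that, for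
Noetherian A, amounts to regularity of A; it is stated here for Noetherian A only.) -/
theorem result {k A : Type u} [Field k] [CommRing A] [IsLocalRing A] [IsNoetherianRing A] [Algebra k A] :
    CAlgX.IsAdicFormallySmooth k A (maximalIdeal A) ↔
      (IsRegularLocalRing A ∧ Function.Injective ((KaehlerDifferential.mapBaseChange ℤ k A).lTensor (ResidueField A))) := by
  constructor
  · intro h
    exact ⟨(Groth.Agent.Helper14.AdicFSRegular.general k A h).1,
      Groth.Agent.Helper14.AdicFSKaehler.injective_of_adicFS h⟩
  · rintro ⟨hreg, hφ⟩
    obtain ⟨F, _, _, hF, hFs⟩ := Groth.Agent.Helper14.AdicFSPrime.exists_primeField k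
    letI : Algebra F A := ((algebraMap k A).comp (algebraMap F k)).toAlgebra
    haveI : IsScalarTower F k A := IsScalarTower.of_algebraMap_eq fun x => rfl
    have h1 := Groth.Agent.Helper14.AdicFSPrime.adicFS_of_regular (F := F) (A := A) hF hFs hreg
    exact Groth.Agent.Helper14.AdicFSDer.of_tower (maximalIdeal A) h1
      (fun V _ _ hV δ hδ =>
        Groth.Agent.Helper14.AdicFSKaehler.exists_derivation_of_injective hφ V hV δ hδ)

end Groth.Agent.S2471
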