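import Groth.Statements.S4573
import Mathlib
import Groth.Agent.Lib.Helper14.AdicFSInsep
import Groth.Agent.Lib.Helper14.AdicFSGeomReg
import Groth.Agent.Lib.Helper14.AdicFSSepResidue
import Groth.Agent.S2471
-- import your own Groth.Agent.* helpers here

set_option autoImplicit false
universe u
open TensorProduct IsLocalRing
open EGA41

namespace Groth.Agent.S4573

open IsLocalRing TensorProduct in
theorem regular_of_tensor_self {k A : Type u} [Field k] [CommRing A] [IsLocalRing A]
    [Algebra k A] (h : IsRegularRing (k ⊗[k] A)) : IsRegularLocalRing A := by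
  let e : k ⊗[k] A ≃ₐ[k] A := Algebra.TensorProduct.lid k A
  haveI : IsLocalRing (k ⊗[k] A) := e.symm.toRingEquiv.isLocalRing
  haveI : IsRegularLocalRing (k ⊗[k] A) := IsRegularLocalRing.of_isRegularRing_of_isLocalRing _
  exact IsRegularLocalRing.of_ringEquiv e.toRingEquiv

/-- Let k be a field of characteristic exponent p and A a Noetherian local k-algebra. Then A is formally
smooth over k for the adic topology of its maximal ideal if and only if, for every finite extension
k' of k with k'^p ⊆ k, the ring k' ⊗_k A is regular. -/
theorem result {k A : Type u} [Field k] (p : ℕ)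
    [ExpChar k p] [CommRing A] [IsLocalRing A] [IsNoetherianRing A] [Algebra k A] :
    CAlgX.IsAdicFormallySmooth k A (maximalIdeal A) ↔
      ∀ (k' : Type u) [Field k'] [Algebra k k'], Module.Finite k k' →
        (∀ x : k', x ^ p ∈ (algebraMap k k').range) → IsRegularRing (k' ⊗[k] A) := by
  constructor
  · intro h k' _ _ hfin _
    haveI := hfin
    exact Groth.Agent.Helper14.AdicFSGeomReg.isRegularRing_tensor h k'
  · intro H
    have hp : ExpChar k p := inferInstance
    cases hp with
    | zero =>
      have hregA : IsRegularLocalRing A :=
        regular_of_tensor_self (H k inferInstance (fun x => ⟨x ^ 1, rfl⟩))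
      haveI : Algebra.FormallySmooth k (ResidueField A) :=
        Groth.Agent.Helper14.PerfectSmooth.formallySmooth_of_charZero k (ResidueField A)
      haveI : Algebra.IsGeometricallyReduced k (ResidueField A) :=
        Groth.Agent.Helper9.SepFS.formallySmooth_iff_isGeometricallyReduced.mp inferInstance
      obtain ⟨n, e, he⟩ := Groth.Agent.Helper14.AdicFSSepResidue.general_b k A hregA
      exact Groth.Agent.Helper14.AdicFSSepResidue.of_b k A n e he
    | prime hprime =>
      haveI := Fact.mk hprime
      have hregA : IsRegularLocalRing A :=
        regular_of_tensor_self (H k inferInstance (fun x => ⟨x ^ p, rfl⟩))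
      exact (Groth.Agent.S2471.result).mpr
        ⟨hregA, Groth.Agent.Helper14.AdicFSInsep.injective_of_regular p H⟩

end Groth.Agent.S4573
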