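import Groth.Statements.S4754
import Groth.Agent.Lib.Helper7.GeomRed3

set_option autoImplicit false
universe u
open EGA4

namespace Groth.Agent.S4754

/-- For the property 'geometrically normal', case of a local ring: if the formal fibres of a Noetherian
local ring A are geometrically normal, then so are the formal fibres of A/I for every proper ideal I
of A. -/
theorem result (A : Type u) [CommRing A] [IsNoetherianRing A] [IsLocalRing A]
    (hA : EGA4.HasGeomNormalFormalFibres A) (I : Ideal A) [Nontrivial (A ⧸ I)] :
    EGA4.HasGeomNormalFormalFibres (A ⧸ I) := by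
  intro p' _ k' _ _ hfin
  exact Groth.Agent.Helper7.GeomRed.formalFibre_transfer_quotient A I
    (fun k k' _ _ _ => Module.Finite k k')
    (fun k₁ k₂ k' _ _ _ _ _ _ _ hb h =>
      Groth.Agent.Helper7.GeomRed.finite_of_bijective k₁ k₂ k' hb h)
    (fun R _ => EGA4.IsNormalRing R)
    (fun R R' _ _ e hR => Groth.Agent.Helper7.GeomRed.isNormalRing_of_ringEquiv R R' e hR)
    (fun p _ k' _ _ hk => hA p k' hk)
    p' k' hfin

end Groth.Agent.S4754
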