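import Groth.Statements.S9455
import Mathlib
import Groth.Agent.Lib.Helper14.PerfectSmooth
-- import your own Groth.Agent.* helpers here

set_option autoImplicit false
universe u
open CAlg

namespace Groth.Agent.S9455

open Groth.Agent.Helper14 in
theorem base_aux (Λ : Type u) [CommRing Λ] [IsLocalRing Λ] (p : ℕ) (hp : p.Prime) (m : ℕ)
    (hm : m = p) (I : Ideal Λ) (hI : I = IsLocalRing.maximalIdeal Λ) (f : ZMod m →+* Λ ⧸ I) :
    f.FormallySmooth := by
  subst hm hI
  haveI := Fact.mk hp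
  letI : Field (Λ ⧸ IsLocalRing.maximalIdeal Λ) := Ideal.Quotient.field _
  algebraize [f]
  exact PerfectSmooth.formallySmooth_zmod m _

theorem flat_aux (Λ : Type u) [CommRing Λ] [Module.Flat ℤ Λ] (m : ℕ) (x : Λ) (hx : x = (m : Λ))
    (f : ZMod m →+* Λ ⧸ Ideal.span {x}) : f.Flat := by
  set I : Ideal ℤ := Ideal.span {(m : ℤ)} with hI
  have h1 : Module.Flat (ℤ ⧸ I) (Λ ⧸ I.map (algebraMap ℤ Λ)) :=
    Module.Flat.of_linearEquiv (Algebra.TensorProduct.quotIdealMapEquivQuotTensor Λ I).toLinearEquiv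
  have h2 : I.map (algebraMap ℤ Λ) = Ideal.span {x} := by
    rw [hI, Ideal.map_span, Set.image_singleton, hx]
    simp
  have h1' : (algebraMap (ℤ ⧸ I) (Λ ⧸ I.map (algebraMap ℤ Λ))).Flat :=
    RingHom.flat_algebraMap_iff.mpr h1
  let e : ZMod m ≃+* ℤ ⧸ I := (Int.quotientSpanNatEquivZMod m).symm
  have hf : f = ((Ideal.quotEquivOfEq h2).toRingHom.comp
      (algebraMap (ℤ ⧸ I) (Λ ⧸ I.map (algebraMap ℤ Λ)))).comp e.toRingHom :=
    Subsingleton.elim _ _
  rw [hf]
  exact ((RingHom.Flat.of_bijective (f := e.toRingHom) e.bijective).comp h1').comp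
    (RingHom.Flat.of_bijective (f := (Ideal.quotEquivOfEq h2).toRingHom)
      (Ideal.quotEquivOfEq h2).bijective)

theorem ker_cast (p n : ℕ) (hp : p.Prime) :
    RingHom.ker (ZMod.castHom (pow_dvd_pow p (Nat.le_succ n)) (ZMod (p ^ n))) =
      Ideal.span {((p ^ n : ℕ) : ZMod (p ^ (n + 1)))} := by
  haveI : NeZero (p ^ (n + 1)) := ⟨pow_ne_zero _ hp.ne_zero⟩
  apply le_antisymm
  · intro x hx
    rw [RingHom.mem_ker] at hx
    rw [← ZMod.natCast_zmod_val x, map_natCast, ZMod.natCast_eq_zero_iff] at hx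
    obtain ⟨c, hc⟩ := hx
    rw [← ZMod.natCast_zmod_val x, hc, Nat.cast_mul]
    exact Ideal.mul_mem_right _ _ (Ideal.subset_span rfl)
  · rw [Ideal.span_le, Set.singleton_subset_iff, SetLike.mem_coe, RingHom.mem_ker, map_natCast]
    exact ZMod.natCast_self _

theorem step_aux (Λ : Type u) [CommRing Λ] [Module.Flat ℤ Λ] (p n : ℕ) (hp : p.Prime)
    (ih : ∀ g : ZMod (p ^ n) →+* Λ ⧸ Ideal.span {(p : Λ) ^ n}, g.FormallySmooth)
    (f : ZMod (p ^ (n + 1)) →+* Λ ⧸ Ideal.span {(p : Λ) ^ (n + 1)}) (hn : 1 ≤ n) :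
    f.FormallySmooth := by
  have hdvd : p ^ n ∣ p ^ (n + 1) := pow_dvd_pow p (Nat.le_succ n)
  let qR : ZMod (p ^ (n + 1)) →+* ZMod (p ^ n) := ZMod.castHom hdvd (ZMod (p ^ n))
  have hle : Ideal.span {(p : Λ) ^ (n + 1)} ≤ Ideal.span {(p : Λ) ^ n} := by
    rw [Ideal.span_singleton_le_span_singleton]
    exact pow_dvd_pow _ (Nat.le_succ n)
  let qS : Λ ⧸ Ideal.span {(p : Λ) ^ (n + 1)} →+* Λ ⧸ Ideal.span {(p : Λ) ^ n} :=
    Ideal.Quotient.factor hle
  have hg0 : ∀ a ∈ Ideal.span {((p ^ n : ℕ) : ℤ)},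
      (Int.castRingHom (Λ ⧸ Ideal.span {(p : Λ) ^ n})) a = 0 := by
    intro a ha
    rw [Ideal.mem_span_singleton] at ha
    obtain ⟨b, rfl⟩ := ha
    rw [map_mul]
    have : (Int.castRingHom (Λ ⧸ Ideal.span {(p : Λ) ^ n})) ((p ^ n : ℕ) : ℤ) = 0 := by
      simp only [Nat.cast_pow, map_pow, map_natCast]
      rw [← map_natCast (Ideal.Quotient.mk (Ideal.span {(p : Λ) ^ n})), ← map_pow]
      exact Ideal.Quotient.eq_zero_iff_mem.mpr (Ideal.subset_span rfl)
    rw [this, zero_mul]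
  let g : ZMod (p ^ n) →+* Λ ⧸ Ideal.span {(p : Λ) ^ n} :=
    (Ideal.Quotient.lift _ (Int.castRingHom _) hg0).comp
      (Int.quotientSpanNatEquivZMod (p ^ n)).symm.toRingHom
  have hcomm : qS.comp f = g.comp qR := Subsingleton.elim _ _
  have hflat : f.Flat := flat_aux Λ (p ^ (n + 1)) _ (by simp) f
  have hker : RingHom.ker qR = Ideal.span {((p ^ n : ℕ) : ZMod (p ^ (n + 1)))} := ker_cast p n hp
  have hsq : RingHom.ker qR ^ 2 = ⊥ := by
    rw [hker, Ideal.span_singleton_pow, ← Nat.cast_pow, Ideal.span_singleton_eq_bot,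
      ZMod.natCast_eq_zero_iff, ← pow_mul]
    exact pow_dvd_pow _ (by omega)
  have heq : RingHom.ker qS = (RingHom.ker qR).map f := by
    rw [hker, Ideal.map_span, Set.image_singleton, map_natCast]
    change RingHom.ker (Ideal.Quotient.factor hle) = _
    rw [Ideal.Quotient.factor_ker, Ideal.map_span, Set.image_singleton, map_pow, map_natCast,
      Nat.cast_pow]
  exact RingHom.FormallySmooth.of_flat_of_ker_eq_map_of_square_zero f hflat qR qS g
    (ZMod.castHom_surjective hdvd) (Ideal.Quotient.factor_surjective hle) hcomm hsq heq (ih g)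

theorem charZero_aux (Λ : Type u) [CommRing Λ] [IsDomain Λ]
    [IsDiscreteValuationRing Λ] (p : ℕ) (hp : p.Prime)
    (hm : IsLocalRing.maximalIdeal Λ = Ideal.span {(p : Λ)}) : CharZero Λ := by
  obtain ⟨q, hq⟩ := CharP.exists Λ
  rcases CharP.char_is_prime_or_zero Λ q with hq' | hq'
  · exfalso
    have hq0 : (q : Λ) = 0 := CharP.cast_eq_zero Λ q
    by_cases hpq : p = q
    · subst hpq
      rw [hq0] at hm
      refine IsDiscreteValuationRing.not_a_field' (R := Λ) ?_
      rw [hm]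
      simp
    · have hcop : Nat.Coprime p q := (Nat.coprime_primes hp hq').mpr hpq
      have hmem : (p : Λ) ∈ IsLocalRing.maximalIdeal Λ := by
        rw [hm]; exact Ideal.subset_span rfl
      have hunit : IsUnit (p : Λ) := by
        have h1 : IsCoprime (p : ℤ) (q : ℤ) := Nat.isCoprime_iff_coprime.mpr hcop
        obtain ⟨a, b, hab⟩ := h1
        have h2 : ((a * p + b * q : ℤ) : Λ) = 1 := by rw [hab]; simp
        push_cast at h2
        rw [hq0, mul_zero, add_zero] at h2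
        exact IsUnit.of_mul_eq_one _ (by rw [mul_comm]; exact h2)
      exact (IsLocalRing.mem_maximalIdeal _).mp hmem hunit
  · subst hq'
    exact CharP.charP_to_charZero Λ

theorem main_aux (Λ : Type u) [CommRing Λ] [IsDomain Λ]
    [IsDiscreteValuationRing Λ] (p : ℕ)
    (hp : p.Prime) (hm : IsLocalRing.maximalIdeal Λ = Ideal.span {(p : Λ)}) (n : ℕ) (hn : 1 ≤ n) :
    ∀ f : ZMod (p ^ n) →+* Λ ⧸ Ideal.span {((p : Λ) ^ n)}, f.FormallySmooth := by
  haveI : CharZero Λ := charZero_aux Λ p hp hm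
  induction n, hn using Nat.le_induction with
  | base =>
    intro f
    exact base_aux Λ p hp (p ^ 1) (pow_one p) _ (by rw [pow_one, hm]) f
  | succ n hn ih =>
    intro f
    exact step_aux Λ p n hp ih f hn

/-- If Λ is a Cohen ring (a complete discrete valuation ring with maximal ideal generated by a prime
number p) then Λ/p^nΛ is formally smooth over ℤ/p^nℤ for every n ≥ 1; the ℤ/p^nℤ-algebra structure
on Λ/p^nΛ is the unique one and is taken as a hypothesis. -/
theorem result (Λ : Type u) [CommRing Λ] [IsDomain Λ]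
    [IsDiscreteValuationRing Λ] [IsAdicComplete (IsLocalRing.maximalIdeal Λ) Λ] (p : ℕ)
    (hp : p.Prime) (hm : IsLocalRing.maximalIdeal Λ = Ideal.span {(p : Λ)}) (n : ℕ) (hn : 1 ≤ n)
    [Algebra (ZMod (p ^ n)) (Λ ⧸ Ideal.span {((p : Λ) ^ n)})] :
    Algebra.FormallySmooth (ZMod (p ^ n)) (Λ ⧸ Ideal.span {((p : Λ) ^ n)}) := by
  rw [← RingHom.formallySmooth_algebraMap]
  exact main_aux Λ p hp hm n hn _

end Groth.Agent.S9455
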