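import Groth.Statements.S6299
import Mathlib
-- import your own Groth.Agent.* helpers here

set_option autoImplicit false
universe u
open CAlg

namespace Groth.Agent.S6299

section
open PowerSeries nonZeroDivisors

variable {R S : Type*} [CommRing R] [CommRing S] [IsDomain R] [IsDomain S] [Algebra R S]
  [FaithfulSMul R S]

theorem map_injective' : Function.Injective (algebraMap R⟦X⟧ S⟦X⟧) := by
  intro a b hab
  ext n
  have := congrArg (coeff n) hab
  rw [algebraMap_apply'', algebraMap_apply'', coeff_map, coeff_map] at this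
  exact FaithfulSMul.algebraMap_injective R S this

/-- cancelling a power of `X` -/
theorem cancel_X_pow (a : ℕ) (u : S⟦X⟧) (c : R⟦X⟧)
    (h : (X : S⟦X⟧) ^ a * u = algebraMap R⟦X⟧ S⟦X⟧ c) :
    ∃ c' : R⟦X⟧, c = X ^ a * c' ∧ u = algebraMap R⟦X⟧ S⟦X⟧ c' := by
  have hdvd : (X : R⟦X⟧) ^ a ∣ c := by
    rw [X_pow_dvd_iff]
    intro m hm
    have h1 : coeff m (algebraMap R⟦X⟧ S⟦X⟧ c) = 0 := by
      rw [← h]
      exact (X_pow_dvd_iff.mp (Dvd.intro _ rfl)) m hm
    rw [algebraMap_apply'', coeff_map] at h1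
    exact FaithfulSMul.algebraMap_injective R S (by rw [h1, map_zero])
  obtain ⟨c', rfl⟩ := hdvd
  refine ⟨c', rfl, ?_⟩
  rw [map_mul, map_pow] at h
  have hX : algebraMap R⟦X⟧ S⟦X⟧ X = X := by
    rw [algebraMap_apply'', map_X]
  rw [hX] at h
  exact mul_left_cancel₀ (pow_ne_zero a X_ne_zero) h

/-- the constant coefficient of an almost integral power series is almost integral -/
theorem constantCoeff_almostIntegral {g : S⟦X⟧} (hg : IsAlmostIntegral R⟦X⟧ g) :
    IsAlmostIntegral R (constantCoeff g) := by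
  obtain ⟨r, hr, hr'⟩ := hg
  have hr0 : r ≠ 0 := nonZeroDivisors.ne_zero hr
  have hc0 : constantCoeff (divXPowOrder r) ≠ 0 := by
    rw [Ne, constantCoeff_divXPowOrder_eq_zero_iff]; exact hr0
  refine ⟨constantCoeff (divXPowOrder r), mem_nonZeroDivisors_of_ne_zero hc0, fun n => ?_⟩
  obtain ⟨c, hc⟩ := hr' n
  rw [Algebra.smul_def, ← X_pow_order_mul_divXPowOrder (f := r), map_mul, map_pow, mul_assoc] at hc
  have hX : algebraMap R⟦X⟧ S⟦X⟧ X = X := by
    rw [algebraMap_apply'', map_X]
  rw [hX] at hc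
  obtain ⟨c', -, hc'⟩ := cancel_X_pow _ _ c hc.symm
  refine ⟨constantCoeff c', ?_⟩
  have := congrArg constantCoeff hc'
  rw [map_mul, map_pow, algebraMap_apply'', algebraMap_apply'', ← coeff_zero_eq_constantCoeff_apply,
    ← coeff_zero_eq_constantCoeff_apply, ← coeff_zero_eq_constantCoeff_apply, coeff_map,
    coeff_map] at this
  rw [Algebra.smul_def, ← coeff_zero_eq_constantCoeff_apply, ← coeff_zero_eq_constantCoeff_apply,
    ← coeff_zero_eq_constantCoeff_apply]
  exact this.symm

theorem C_almostIntegral {s : S} (hs : IsAlmostIntegral R s) :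
    IsAlmostIntegral R⟦X⟧ (C s : S⟦X⟧) := by
  obtain ⟨r, hr, hr'⟩ := hs
  have hr0 : r ≠ 0 := nonZeroDivisors.ne_zero hr
  refine ⟨C r, mem_nonZeroDivisors_of_ne_zero ?_, fun n => ?_⟩
  · intro h
    have := congrArg constantCoeff h
    rw [constantCoeff_C, map_zero] at this
    exact hr0 this
  · obtain ⟨t, ht⟩ := hr' n
    refine ⟨C t, ?_⟩
    rw [Algebra.smul_def] at ht ⊢
    rw [algebraMap_apply'', algebraMap_apply'', map_C, map_C, ht, map_mul, map_pow]

theorem coeff_almostIntegral (i : ℕ) : ∀ {g : S⟦X⟧}, IsAlmostIntegral R⟦X⟧ g →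
    IsAlmostIntegral R (coeff i g) := by
  induction i with
  | zero =>
    intro g hg
    rw [coeff_zero_eq_constantCoeff_apply]
    exact constantCoeff_almostIntegral hg
  | succ i ih =>
    intro g hg
    have h0 := constantCoeff_almostIntegral (R := R) hg
    have h1 : IsAlmostIntegral R⟦X⟧ (g - C (constantCoeff g)) :=
      (completeIntegralClosure R⟦X⟧ S⟦X⟧).sub_mem hg (C_almostIntegral h0)
    rw [sub_const_eq_X_mul_shift] at h1
    set h : S⟦X⟧ := mk fun p => coeff (p + 1) g with hh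
    have h2 : IsAlmostIntegral R⟦X⟧ h := by
      obtain ⟨r, hr, hr'⟩ := h1
      refine ⟨r, hr, fun n => ?_⟩
      obtain ⟨c, hc⟩ := hr' n
      rw [Algebra.smul_def, mul_pow, mul_left_comm] at hc
      obtain ⟨c', -, hc'⟩ := cancel_X_pow _ _ c hc.symm
      exact ⟨c', by rw [Algebra.smul_def]; exact hc'.symm⟩
    have h3 := ih h2
    rwa [hh, coeff_mk] at h3

theorem isIntegrallyClosed (R : Type u) [CommRing R] [IsDomain R] [IsNoetherianRing R]
    [IsIntegrallyClosed R] : IsIntegrallyClosed (PowerSeries R) := by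
  let K := FractionRing R
  let L := FractionRing R⟦X⟧
  let L' := FractionRing K⟦X⟧
  -- the map L → L'
  have hinj : Function.Injective ((algebraMap K⟦X⟧ L').comp (algebraMap R⟦X⟧ K⟦X⟧)) :=
    (IsFractionRing.injective K⟦X⟧ L').comp map_injective'
  let φ : L →+* L' := IsFractionRing.lift hinj
  have hφ : ∀ a : R⟦X⟧, φ (algebraMap R⟦X⟧ L a) = algebraMap K⟦X⟧ L' (algebraMap R⟦X⟧ K⟦X⟧ a) :=
    fun a => IsFractionRing.lift_algebraMap hinj a
  have hφinj : Function.Injective φ := φ.injective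
  refine (isIntegrallyClosed_iff L).mpr ?_
  intro y hy
  -- almost integral
  obtain ⟨r, hr, hr'⟩ := hy.isAlmostIntegral
  -- φ y is integral over K⟦X⟧
  have hy' : IsIntegral K⟦X⟧ (φ y) := by
    obtain ⟨p, hp, hpy⟩ := hy
    refine ⟨p.map (algebraMap R⟦X⟧ K⟦X⟧), hp.map _, ?_⟩
    rw [Polynomial.eval₂_map]
    have : (algebraMap K⟦X⟧ L').comp (algebraMap R⟦X⟧ K⟦X⟧) = φ.comp (algebraMap R⟦X⟧ L) := by
      ext a : 1
      exact (hφ a).symm
    rw [this, ← Polynomial.hom_eval₂, hpy, map_zero]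
  obtain ⟨g, hg⟩ := (isIntegrallyClosed_iff L').mp inferInstance hy'
  -- g is almost integral over R⟦X⟧
  have hgai : IsAlmostIntegral R⟦X⟧ g := by
    refine ⟨r, hr, fun n => ?_⟩
    obtain ⟨c, hc⟩ := hr' n
    refine ⟨c, ?_⟩
    apply IsFractionRing.injective K⟦X⟧ L'
    rw [Algebra.smul_def, map_mul, map_pow, hg, ← hφ, ← hφ, hc, Algebra.smul_def, map_mul, map_pow]
  -- coefficients in R
  have hcoef : ∀ i, ∃ a : R, algebraMap R K a = coeff i g := by
    intro i
    have h1 : IsAlmostIntegral R (coeff i g) := coeff_almostIntegral i hgai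
    have h2 : IsIntegral R (coeff i g) := h1.isIntegral
    exact IsIntegrallyClosed.isIntegral_iff.mp h2
  choose a ha using hcoef
  refine ⟨mk a, ?_⟩
  apply hφinj
  rw [hφ, ← hg]
  congr 1
  ext i
  rw [algebraMap_apply'', coeff_map, coeff_mk, ha]

theorem main (R : Type u) [CommRing R] [IsDomain R] [IsNoetherianRing R] [IsIntegrallyClosed R] : IsIntegrallyClosed (PowerSeries R) ∧ IsNoetherianRing (PowerSeries R) :=
  ⟨isIntegrallyClosed R, inferInstance⟩

end

/-- Let R be a Noetherian normal domain. Then the power series ring R[[x]] is a Noetherian normal domain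
(here: it is an integrally closed domain and a Noetherian ring). -/
theorem result (R : Type u) [CommRing R] [IsDomain R] [IsNoetherianRing R] [IsIntegrallyClosed R] : IsIntegrallyClosed (PowerSeries R) ∧ IsNoetherianRing (PowerSeries R) := by
  exact Groth.Agent.S6299.main R

end Groth.Agent.S6299
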