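import Groth.Statements.S17614
import Mathlib
import Groth.Agent.S0101
import Groth.Agent.Lib.Helper10.LanExactW
import Groth.Agent.Lib.Helper10.EtLoc
import Groth.Prelude.Def_EtCore

set_option autoImplicit false
open CategoryTheory CategoryTheory.Limits AlgebraicGeometry Opposite
universe u
open EtZar

namespace Groth.Agent.S17614

section helpers
open Groth.Agent.Helper10

/-- morphisms in `S.Etale` into an open subscheme are unique -/
lemma zarToEt_hom_ext {S : Scheme.{u}} (U : S.Opens) {T : S.Etale}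
    (f g : T ⟶ (EtZar.zarToEt S).obj U) : f = g := by
  apply MorphismProperty.Over.Hom.ext
  have hf : (show T.left ⟶ (U : Scheme.{u}) from f.left) ≫ U.ι = T.hom :=
    MorphismProperty.Over.w f
  have hg : (show T.left ⟶ (U : Scheme.{u}) from g.left) ≫ U.ι = T.hom :=
    MorphismProperty.Over.w g
  exact (cancel_mono U.ι).1 (hf.trans hg.symm)

/-- a morphism into an open subscheme exists iff the range is contained -/
noncomputable def zarToEtLift {S : Scheme.{u}} (U : S.Opens) (T : S.Etale)
    (h : Set.range T.hom ⊆ (U : Set S)) : T ⟶ (EtZar.zarToEt S).obj U :=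
  let l : T.left ⟶ (U : Scheme.{u}) :=
    IsOpenImmersion.lift U.ι T.hom (by rw [Scheme.Opens.range_ι]; exact h)
  have hl : l ≫ U.ι = T.hom := IsOpenImmersion.lift_fac _ _ _
  MorphismProperty.Over.homMk (A := T) (B := (EtZar.zarToEt S).obj U) l hl

lemma range_subset_of_hom {S : Scheme.{u}} (U : S.Opens) {T : S.Etale}
    (f : T ⟶ (EtZar.zarToEt S).obj U) : Set.range T.hom ⊆ (U : Set S) := by
  rintro _ ⟨x, rfl⟩
  have hf : (show T.left ⟶ (U : Scheme.{u}) from f.left) ≫ U.ι = T.hom :=
    MorphismProperty.Over.w f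
  rw [← hf, Scheme.Hom.comp_apply]
  exact ((show T.left ⟶ (U : Scheme.{u}) from f.left) x).2

lemma compFilt_zar (S : Scheme.{u}) (X : (S.Etale)ᵒᵖ) :
    LanExact.CompFilt (CostructuredArrow (EtZar.zarToEt S).op X) where
  span := by
    intro i j j' a b
    have hj := range_subset_of_hom j.left.unop j.hom.unop
    have hj' := range_subset_of_hom j'.left.unop j'.hom.unop
    let k : CostructuredArrow (EtZar.zarToEt S).op X :=
      CostructuredArrow.mk (Y := op (j.left.unop ⊓ j'.left.unop))
        (zarToEtLift (j.left.unop ⊓ j'.left.unop) X.unop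
          (fun x hx => ⟨hj hx, hj' hx⟩)).op
    refine ⟨k, CostructuredArrow.homMk (homOfLE inf_le_left).op ?_,
      CostructuredArrow.homMk (homOfLE inf_le_right).op ?_, ?_⟩
    · apply Quiver.Hom.unop_inj
      exact zarToEt_hom_ext _ _ _
    · apply Quiver.Hom.unop_inj
      exact zarToEt_hom_ext _ _ _
    · ext
      apply Quiver.Hom.unop_inj
      exact Subsingleton.elim _ _
  coeq := by
    intro j j' f g
    refine ⟨j', 𝟙 _, ?_⟩
    have : f = g := by
      ext
      apply Quiver.Hom.unop_inj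
      exact Subsingleton.elim _ _
    rw [this]

/-- `π⁻¹` from Zariski to étale sheaves. -/
noncomputable abbrev piPull (S : Scheme.{u}) [EtZar.ZarCont S] : EtZar.Ab S ⥤ EtCoh.Ab S :=
  (EtZar.zarToEt S).sheafPullback AddCommGrpCat.{u + 1} (Opens.grothendieckTopology S)
    S.smallEtaleTopology

noncomputable abbrev piAdj (S : Scheme.{u}) [EtZar.ZarCont S] : piPull S ⊣ EtZar.resZar S :=
  (EtZar.zarToEt S).sheafAdjunctionContinuous AddCommGrpCat.{u + 1}
    (Opens.grothendieckTopology S) S.smallEtaleTopology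

theorem piPull_exact (S : Scheme.{u}) [EtZar.ZarCont S] :
    PreservesFiniteLimits (piPull S) :=
  LanExactW.preservesFiniteLimits_sheafPullback_ab_of_compFilt.{u + 1} (EtZar.zarToEt S) _ _
    (compFilt_zar S)

theorem injective_resZar (S : Scheme.{u}) [EtZar.ZarCont S] (I : EtCoh.Ab S) [Injective I] :
    Injective ((EtZar.resZar S).obj I) := by
  have := piPull_exact S
  exact Injective.injective_of_adjoint (piAdj S) I

variable {S : Scheme.{u}}

/-- the hypothesis for `j : V ⟶ S` -/
def HypJ {V : Scheme.{u}} (j : V ⟶ S) (F : EtCoh.Ab S) : Prop :=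
  ∀ i : ℕ, 1 ≤ i → Subsingleton (EtCoh.H V ((EtCoh.pull j).obj F) i)

open CategoryTheory.Abelian in
lemma shift_et {V : Scheme.{u}} (j : V ⟶ S) [Etale j] (Sx : ShortComplex (EtCoh.Ab S))
    (hS : Sx.ShortExact) [Injective Sx.X₂] (h1 : HypJ j Sx.X₁) :
    HypJ j Sx.X₃ ∧ Function.Surjective (Sheaf.H.map ((EtCoh.pull j).map Sx.g) 0) := by
  have hlim : PreservesFiniteLimits (EtCoh.pull j) := Groth.Agent.S0101.result j
  have hcolim : PreservesFiniteColimits (EtCoh.pull j) := by
    have : PreservesColimitsOfSize.{0, 0} (EtCoh.pull j) :=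
      (EtCoh.pullPushAdj j).leftAdjoint_preservesColimits
    exact PreservesColimitsOfSize.preservesFiniteColimits _
  have hadd : (EtCoh.pull j).Additive := (EtCoh.pullPushAdj j).left_adjoint_additive
  have hz : @Functor.PreservesZeroMorphisms _ _ _ _ (by infer_instance) (by infer_instance)
      (EtCoh.pull j) := (inferInstance : (EtCoh.pull j).PreservesZeroMorphisms)
  have hS' : (Sx.map (EtCoh.pull j)).ShortExact := hS.map_of_exact _
  have hinj : Injective (Sx.map (EtCoh.pull j)).X₂ := EtLoc.injective_pull j Sx.X₂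
  let Z := (constantSheaf V.smallEtaleTopology AddCommGrpCat.{u + 1}).obj
    (AddCommGrpCat.of (ULift ℤ))
  have hex : ∀ n : ℕ, Function.Exact
      ((Ext.mk₀ (Sx.map (EtCoh.pull j)).g).postcomp Z (add_zero n))
      (hS'.extClass.postcomp Z (rfl : n + 1 = n + 1)) := fun n =>
    (ShortComplex.ab_exact_iff_function_exact _).mp
      (Ext.covariant_sequence_exact₃' Z hS' n (n + 1) rfl)
  refine ⟨?_, ?_⟩
  · intro i hi
    obtain ⟨n, rfl⟩ : ∃ n, i = n + 1 := ⟨i - 1, by omega⟩
    have hsub : Subsingleton (Ext.{u + 1} Z (Sx.map (EtCoh.pull j)).X₁ (n + 1 + 1)) :=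
      h1 (n + 1 + 1) (by omega)
    refine subsingleton_of_forall_eq 0 fun x => ?_
    obtain ⟨y, rfl⟩ := ((hex (n + 1)) x).1 (Subsingleton.elim _ _)
    have : y = 0 := Ext.eq_zero_of_injective y
    rw [this, map_zero]
    rfl
  · intro x
    have hsub : Subsingleton (Ext.{u + 1} Z (Sx.map (EtCoh.pull j)).X₁ (0 + 1)) :=
      h1 (0 + 1) (by omega)
    obtain ⟨y, hy⟩ := ((hex 0) x).1 (Subsingleton.elim _ _)
    exact ⟨y, hy⟩

lemma surj_transfer {A B A' B' : Type*} (f : A → B) (f' : A' → B') (a : A → A') (b : B → B')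
    (hb : Function.Surjective b) (hc : ∀ x, b (f x) = f' (a x)) (hf : Function.Surjective f) :
    Function.Surjective f' := by
  intro y'
  obtain ⟨y, rfl⟩ := hb y'
  obtain ⟨x, rfl⟩ := hf y
  exact ⟨a x, (hc x).symm⟩

lemma surj_of_iso {V : Scheme.{u}} {A B : EtCoh.Ab V} (e : A ≅ B) (U : (V.Etale)ᵒᵖ) :
    Function.Surjective (e.hom.hom.app U) := fun y =>
  ⟨e.inv.hom.app U y, by
    have h2 : e.inv.hom.app U ≫ e.hom.hom.app U = 𝟙 _ := by
      rw [← NatTrans.comp_app, ← ObjectProperty.FullSubcategory.comp_hom, e.inv_hom_id]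
      rfl
    have := ConcreteCategory.congr_hom h2 y
    rwa [ConcreteCategory.comp_apply, ConcreteCategory.id_apply] at this⟩

lemma surj_sections {V : Scheme.{u}} (j : V ⟶ S) [Etale j] {I Q : EtCoh.Ab S} (g : I ⟶ Q)
    (h : Function.Surjective (Sheaf.H.map ((EtCoh.pull j).map g) 0)) :
    Function.Surjective (g.hom.app (op (Scheme.Etale.mk j))) := by
  have s1 : Function.Surjective (((EtCoh.pull j).map g).hom.app (op (EtCoh.top V))) :=
    surj_transfer _ _ (Sheaf.H.equiv₀ _ (EtCore.topIsTerminal V))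
      (Sheaf.H.equiv₀ _ (EtCore.topIsTerminal V)) (AddEquiv.surjective _)
      (fun x => (Sheaf.H.equiv₀_naturality _ _ x).symm) h
  have s2 : Function.Surjective (((EtLoc.res j).map g).hom.app (op (EtCoh.top V))) := by
    refine surj_transfer _ _ (((EtLoc.pullIsoRes j).hom.app I).hom.app (op (EtCoh.top V)))
      (((EtLoc.pullIsoRes j).hom.app Q).hom.app (op (EtCoh.top V)))
      (surj_of_iso ((EtLoc.pullIsoRes j).app Q) _) (fun x => ?_) s1
    have h2 : ((EtCoh.pull j).map g).hom.app (op (EtCoh.top V)) ≫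
        ((EtLoc.pullIsoRes j).hom.app Q).hom.app (op (EtCoh.top V)) =
        ((EtLoc.pullIsoRes j).hom.app I).hom.app (op (EtCoh.top V)) ≫
          ((EtLoc.res j).map g).hom.app (op (EtCoh.top V)) := by
      rw [← NatTrans.comp_app, ← ObjectProperty.FullSubcategory.comp_hom, (EtLoc.pullIsoRes j).hom.naturality g]
      rfl
    have := ConcreteCategory.congr_hom h2 x
    rwa [ConcreteCategory.comp_apply, ConcreteCategory.comp_apply] at this
  have s3 : Function.Surjective (g.hom.app (op ((EtLoc.phi j).obj (EtCoh.top V)))) := s2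
  let ε : Scheme.Etale.mk j ⟶ (EtLoc.phi j).obj (EtCoh.top V) :=
    MorphismProperty.Over.homMk (𝟙 V) (by
      change 𝟙 V ≫ (𝟙 V ≫ j) = j
      simp)
  let ε' : (EtLoc.phi j).obj (EtCoh.top V) ⟶ Scheme.Etale.mk j :=
    MorphismProperty.Over.homMk (𝟙 V) (by
      change 𝟙 V ≫ j = 𝟙 V ≫ j
      rfl)
  have hεε' : ε ≫ ε' = 𝟙 _ := by
    apply MorphismProperty.Over.Hom.ext
    change 𝟙 V ≫ 𝟙 V = 𝟙 V
    simp
  refine surj_transfer _ _ (I.obj.map ε.op) (Q.obj.map ε.op) (fun y => ⟨Q.obj.map ε'.op y, ?_⟩)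
    (fun x => ?_) s3
  · have : Q.obj.map ε'.op ≫ Q.obj.map ε.op = 𝟙 _ := by
      rw [← Q.obj.map_comp, ← op_comp, hεε', op_id, Q.obj.map_id]
    have := ConcreteCategory.congr_hom this y
    rwa [ConcreteCategory.comp_apply, ConcreteCategory.id_apply] at this
  · have := ConcreteCategory.congr_hom (g.hom.naturality ε.op) x
    rw [ConcreteCategory.comp_apply, ConcreteCategory.comp_apply] at this
    exact this.symm

instance resZar_additive [EtZar.ZarCont S] : (EtZar.resZar S).Additive where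

lemma resZar_shortExact [EtZar.ZarCont S] (Sx : ShortComplex (EtCoh.Ab S)) (hS : Sx.ShortExact)
    (hsurj : ∀ (U : S.Opens), IsAffineOpen U →
      Function.Surjective (Sx.g.hom.app (op ((EtZar.zarToEt S).obj U)))) :
    (Sx.map (EtZar.resZar S)).ShortExact := by
  have hlim : PreservesFiniteLimits (EtZar.resZar S) := by
    have : PreservesLimitsOfSize.{0, 0} (EtZar.resZar S) :=
      (piAdj S).rightAdjoint_preservesLimits
    exact PreservesLimitsOfSize.preservesFiniteLimits _
  have h0 := (Functor.preservesFiniteLimits_iff_forall_exact_map_and_mono (EtZar.resZar S)).1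
    hlim Sx hS
  have hepi : Epi ((EtZar.resZar S).map Sx.g) := by
    apply Preadditive.epi_of_cancel_zero
    intro C π hπ
    apply Sheaf.hom_ext
    ext U s
    have h2 : Presieve.IsSheaf (Opens.grothendieckTopology S)
        (C.obj ⋙ forget AddCommGrpCat.{u + 1}) :=
      Presieve.isSheaf_iso _ (Functor.isoWhiskerLeft C.obj AddCommGrpCat.coyonedaObjIsoForget)
        (C.property (AddCommGrpCat.of (ULift ℤ)))
    have hcov : Presheaf.equalizerSieve (F := C.obj) (π.hom.app U s) 0 ∈
        Opens.grothendieckTopology S U.unop := by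
      rw [Opens.mem_grothendieckTopology]
      intro x hx
      obtain ⟨_, ⟨V, hV, rfl⟩, hxV, hVU⟩ :=
        S.isBasis_affineOpens.exists_subset_of_mem_open hx U.unop.isOpen
      refine ⟨V, homOfLE hVU, ?_, hxV⟩
      obtain ⟨t, ht⟩ := hsurj V hV (((EtZar.resZar S).obj Sx.X₃).obj.map (homOfLE hVU).op s)
      change C.obj.map (homOfLE hVU).op (π.hom.app U s) = C.obj.map (homOfLE hVU).op 0
      rw [map_zero]
      have hnat := ConcreteCategory.congr_hom (π.hom.naturality (homOfLE hVU).op) s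
      rw [ConcreteCategory.comp_apply, ConcreteCategory.comp_apply] at hnat
      rw [← hnat, ← ht]
      have h3 := congrArg (fun φ => φ.hom.app (op V)) hπ
      have h4 := ConcreteCategory.congr_hom h3 t
      exact h4
    exact (h2 _ hcov).isSeparatedFor.ext (fun V f hf => hf)
  exact { exact := h0.1, mono_f := h0.2, epi_g := hepi }

/-- the hypothesis of the statement -/
def Hyp (G : EtCoh.Ab S) : Prop :=
  ∀ (T : S.Etale), IsAffine T.left → ∀ i : ℕ, 1 ≤ i →
    Subsingleton (EtCoh.H T.left ((EtCoh.pull T.hom).obj G) i)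

open CategoryTheory.Abelian in
lemma step [IsAffine S] [EtZar.ZarCont S] (G : EtCoh.Ab S) (hG : Hyp G) :
    ∃ Q : EtCoh.Ab S, Hyp Q ∧
      (∀ n : ℕ, Subsingleton (EtZar.H ((EtZar.resZar S).obj Q) (n + 1)) →
        Subsingleton (EtZar.H ((EtZar.resZar S).obj G) (n + 1 + 1))) ∧
      Subsingleton (EtZar.H ((EtZar.resZar S).obj G) (0 + 1)) := by
  let I : InjectivePresentation G := Classical.arbitrary _
  have := I.mono
  have := I.injective
  let Sx : ShortComplex (EtCoh.Ab S) := ShortComplex.mk I.f (cokernel.π I.f) (cokernel.condition _)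
  have hS : Sx.ShortExact := { exact := ShortComplex.exact_cokernel I.f }
  have hinjI : Injective Sx.X₂ := I.injective
  have key : ∀ {V : Scheme.{u}} (j : V ⟶ S) [Etale j], IsAffine V →
      HypJ j Sx.X₃ ∧ Function.Surjective (Sx.g.hom.app (op (Scheme.Etale.mk j))) := by
    intro V j _ hV
    have h1 : HypJ j Sx.X₁ := fun i hi => hG (Scheme.Etale.mk j) hV i hi
    obtain ⟨h2, h3⟩ := shift_et j Sx hS h1
    exact ⟨h2, surj_sections j Sx.g h3⟩
  have hQ : Hyp Sx.X₃ := fun T hT i hi => (key T.hom hT).1 i hi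
  have hsurj : ∀ (U : S.Opens), IsAffineOpen U →
      Function.Surjective (Sx.g.hom.app (op ((EtZar.zarToEt S).obj U))) :=
    fun U hU => (key U.ι hU).2
  have hSs : (Sx.map (EtZar.resZar S)).ShortExact := resZar_shortExact Sx hS hsurj
  have hinj : Injective (Sx.map (EtZar.resZar S)).X₂ := injective_resZar S Sx.X₂
  let Z := (constantSheaf (Opens.grothendieckTopology S) AddCommGrpCat.{u + 1}).obj
    (AddCommGrpCat.of (ULift ℤ))
  have hex3 : ∀ n : ℕ, Function.Exact
      ((Ext.mk₀ (Sx.map (EtZar.resZar S)).g).postcomp Z (add_zero n))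
      (hSs.extClass.postcomp Z (rfl : n + 1 = n + 1)) := fun n =>
    (ShortComplex.ab_exact_iff_function_exact _).mp
      (Ext.covariant_sequence_exact₃' Z hSs n (n + 1) rfl)
  have hex1 : ∀ n : ℕ, Function.Exact
      (hSs.extClass.postcomp Z (rfl : n + 1 = n + 1))
      ((Ext.mk₀ (Sx.map (EtZar.resZar S)).f).postcomp Z (add_zero (n + 1))) := fun n =>
    (ShortComplex.ab_exact_iff_function_exact _).mp
      (Ext.covariant_sequence_exact₁' Z hSs n (n + 1) rfl)
  have hdelta : ∀ (n : ℕ) (x : Ext.{u + 1} Z (Sx.map (EtZar.resZar S)).X₁ (n + 1)),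
      ∃ y, hSs.extClass.postcomp Z (rfl : n + 1 = n + 1) y = x := by
    intro n x
    exact ((hex1 n) x).1 (Ext.eq_zero_of_injective _)
  refine ⟨Sx.X₃, hQ, ?_, ?_⟩
  · intro n hn
    refine subsingleton_of_forall_eq 0 fun x => ?_
    obtain ⟨y, rfl⟩ := hdelta (n + 1) x
    have hy : y = 0 := @Subsingleton.elim _ hn _ _
    rw [hy, map_zero]
    rfl
  · refine subsingleton_of_forall_eq 0 fun x => ?_
    obtain ⟨y, rfl⟩ := hdelta 0 x
    have hs0 : Function.Surjective (Sheaf.H.map (Sx.map (EtZar.resZar S)).g 0) :=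
      surj_transfer _ _ (Sheaf.H.equiv₀ _ (isTerminalTop (α := S.Opens))).symm
        (Sheaf.H.equiv₀ _ (isTerminalTop (α := S.Opens))).symm (AddEquiv.surjective _)
        (fun x => (Sheaf.H.equiv₀_symm_naturality _ _ x).symm)
        (hsurj ⊤ (isAffineOpen_top S))
    obtain ⟨y', rfl⟩ := hs0 y
    exact ((hex3 0) _).2 ⟨y', rfl⟩

open CategoryTheory.Abelian in
theorem zar_vanish [IsAffine S] [EtZar.ZarCont S] (n : ℕ) :
    ∀ G : EtCoh.Ab S, Hyp G → Subsingleton (EtZar.H ((EtZar.resZar S).obj G) (n + 1)) := by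
  induction n with
  | zero =>
    intro G hG
    obtain ⟨Q, -, -, h⟩ := step G hG
    exact h
  | succ n ih =>
    intro G hG
    obtain ⟨Q, hQ, h, -⟩ := step G hG
    exact h n (ih Q hQ)

theorem main (S : Scheme.{u}) [IsAffine S]
    [EtZar.ZarCont S] (G : EtCoh.Ab S)
    (hG : ∀ (T : S.Etale), IsAffine T.left → ∀ i : ℕ, 1 ≤ i →
      Subsingleton (EtCoh.H T.left ((EtCoh.pull T.hom).obj G) i))
    (i : ℕ) (hi : 1 ≤ i) :
    Subsingleton (EtZar.H ((EtZar.resZar S).obj G) i) := by
  obtain ⟨n, rfl⟩ : ∃ n, i = n + 1 := ⟨i - 1, by omega⟩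
  exact zar_vanish n G hG

end helpers

/-- Suppose S is an affine scheme, and G denotes a sheaf of abelian groups on the small étale site of S.
If for every affine scheme T étale over S and every i ≥ 1 the étale cohomology group H^i(T, G|_T)
vanishes, then the Zariski cohomology groups H^i(S, G|_{S_Zar}) of the restriction of G to the site
of opens of S vanish for every i ≥ 1. (Continuity of the opens-to-étale-schemes functor is carried
as an instance binder.) -/
theorem result (S : Scheme.{u}) [IsAffine S]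
    [EtZar.ZarCont S] (G : EtCoh.Ab S)
    (hG : ∀ (T : S.Etale), IsAffine T.left → ∀ i : ℕ, 1 ≤ i →
      Subsingleton (EtCoh.H T.left ((EtCoh.pull T.hom).obj G) i))
    (i : ℕ) (hi : 1 ≤ i) :
    Subsingleton (EtZar.H ((EtZar.resZar S).obj G) i) := by
  exact main S G hG i hi

end Groth.Agent.S17614
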