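import Groth.Statements.S9392
import Groth.Agent.Lib.Helper14.IntClosure
-- import your own Groth.Agent.* helpers here

set_option autoImplicit false
universe u
open CAlg

namespace Groth.Agent.S9392

/-- A localization of an N-2 (Japanese) domain which is again a domain is N-2. -/
theorem result (R : Type u) [CommRing R] [IsDomain R] (M : Submonoid R)
    (S : Type u) [CommRing S] [IsDomain S] [Algebra R S] [IsLocalization M S]
    (h : CAlg.IsN2 R) : CAlg.IsN2 S := by
  classical
  unfold CAlg.IsN2 at h ⊢
  intro L _ _ _ _ hfd
  set K := FractionRing R with hK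
  have hM : M ≤ nonZeroDivisors R := by
    intro x hx
    rw [mem_nonZeroDivisors_iff_ne_zero]
    rintro rfl
    have h1 : IsUnit (algebraMap R S 0) := IsLocalization.map_units S ⟨0, hx⟩
    rw [map_zero] at h1
    exact not_isUnit_zero h1
  have hunits : ∀ y : M, IsUnit (algebraMap R K y) := fun y =>
    IsLocalization.map_units K (⟨y, hM y.2⟩ : nonZeroDivisors R)
  letI : Algebra S K := (IsLocalization.lift (M := M) (g := algebraMap R K) hunits).toAlgebra
  haveI : IsScalarTower R S K := IsScalarTower.of_algebraMap_eq fun x =>
    (IsLocalization.lift_eq (M := M) hunits x).symm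
  haveI : IsFractionRing S K := IsFractionRing.isFractionRing_of_isDomain_of_isLocalization M S K
  let e : FractionRing S ≃ₐ[S] K := FractionRing.algEquiv S K
  letI : Algebra R L := ((algebraMap S L).comp (algebraMap R S)).toAlgebra
  haveI : IsScalarTower R S L := IsScalarTower.of_algebraMap_eq fun x => rfl
  letI : Algebra K L := ((algebraMap (FractionRing S) L).comp (e.symm : K →+* FractionRing S)).toAlgebra
  haveI : IsScalarTower R K L := IsScalarTower.of_algebraMap_eq fun x => by
    show algebraMap S L (algebraMap R S x) = algebraMap (FractionRing S) L (e.symm (algebraMap R K x))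
    rw [IsScalarTower.algebraMap_apply R S K, AlgEquiv.commutes, ← IsScalarTower.algebraMap_apply S (FractionRing S) L]
  haveI : FiniteDimensional K L := by
    refine Module.Finite.of_equiv_equiv (A₁ := FractionRing S) (B₁ := L) (A₂ := K) (B₂ := L)
      e.toRingEquiv (RingEquiv.refl L) ?_
    ext x
    show algebraMap (FractionRing S) L (e.symm (e x)) = algebraMap (FractionRing S) L x
    rw [AlgEquiv.symm_apply_apply]
  have hR : Module.Finite R (integralClosure R L) := h L inferInstance
  exact Helper14.finite_integralClosure_of_isLocalization M S L hR

end Groth.Agent.S9392
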