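import Groth.Statements.S0574
import Mathlib

set_option autoImplicit false
universe u
open CAlg

namespace Groth.Agent.S0574

/-- For Noetherian domains of characteristic zero the conditions N-1 and N-2 coincide. -/
theorem result (R : Type u) [CommRing R] [IsDomain R] [IsNoetherianRing R]
    [CharZero R] : CAlg.IsN1 R ↔ CAlg.IsN2 R := by
  constructor
  · -- N-1 ⇒ N-2
    intro hN1 L _ _ _ _ hfd
    have hN1' : Module.Finite R (integralClosure R (FractionRing R)) := hN1
    -- the normalization R'
    have hfr : IsFractionRing (integralClosure R (FractionRing R)) (FractionRing R) :=
      integralClosure.isFractionRing_of_finite_extension (FractionRing R) (FractionRing R)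
    have hic : IsIntegrallyClosed (integralClosure R (FractionRing R)) :=
      integralClosure.isIntegrallyClosedOfFiniteExtension (FractionRing R)
    have hnoeth : IsNoetherianRing (integralClosure R (FractionRing R)) :=
      isNoetherianRing_iff.mpr (isNoetherian_of_tower R
        (isNoetherian_of_isNoetherianRing_of_finite R (integralClosure R (FractionRing R))))
    have hst1 : IsScalarTower (integralClosure R (FractionRing R)) (FractionRing R) L :=
      inferInstance
    have hst2 : IsScalarTower R (integralClosure R (FractionRing R)) L :=
      IsScalarTower.of_algebraMap_eq (fun x => by
        rw [IsScalarTower.algebraMap_apply R (FractionRing R) L]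
        rfl)
    have hsep : Algebra.IsSeparable (FractionRing R) L :=
      Algebra.IsAlgebraic.isSeparable_of_perfectField
    have hfinC : Module.Finite (integralClosure R (FractionRing R))
        (integralClosure (integralClosure R (FractionRing R)) L) :=
      IsIntegralClosure.finite (integralClosure R (FractionRing R)) (FractionRing R) L
        (integralClosure (integralClosure R (FractionRing R)) L)
    have hfinR : Module.Finite R (integralClosure (integralClosure R (FractionRing R)) L) :=
      Module.Finite.trans (integralClosure R (FractionRing R)) _
    have hint : Algebra.IsIntegral R (integralClosure R (FractionRing R)) := inferInstance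
    have hEq : (integralClosure (integralClosure R (FractionRing R)) L).restrictScalars R =
        integralClosure R L := by
      ext x
      rw [Subalgebra.mem_restrictScalars, mem_integralClosure_iff, mem_integralClosure_iff]
      constructor
      · intro hx
        exact isIntegral_trans x hx
      · intro hx
        exact hx.tower_top
    rw [← hEq]
    exact hfinR
  · -- N-2 ⇒ N-1
    intro hN2
    exact hN2 (FractionRing R) inferInstance

end Groth.Agent.S0574
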