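import Groth.Statements.S0117
import Groth.Agent.Lib.Helper16.Sch.NilLift2

set_option autoImplicit false
open CategoryTheory CategoryTheory.Limits AlgebraicGeometry Opposite
universe u
open EtBase

namespace Groth.Agent.S0117

/-- Topological invariance of étale morphisms, first-order form — for X étale over S and any S-scheme Y,
base change to a closed subscheme S₀ with the same underlying space gives a bijection between
S-morphisms Y → X and S₀-morphisms of the base changes. -/
theorem result {S S₀ : Scheme.{u}} (i : S₀ ⟶ S) [IsClosedImmersion i] [Surjective i]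
    (X Y : Over S) [AlgebraicGeometry.Etale X.hom] :
    Function.Bijective (fun φ : Y ⟶ X => (Over.pullback i).map φ) := by
  have hfst : ∀ φ : Y ⟶ X, ((Over.pullback i).map φ).left ≫ pullback.fst X.hom i =
      pullback.fst Y.hom i ≫ φ.left := by
    intro φ
    simp only [Over.pullback, Over.homMk_left]
    exact pullback.lift_fst _ _ _
  have hcl : IsClosedImmersion (pullback.fst Y.hom i) := inferInstance
  have hsj : Surjective (pullback.fst Y.hom i) := inferInstance
  constructor
  · intro φ φ' h
    have h' : (Over.pullback i).map φ = (Over.pullback i).map φ' := h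
    ext1
    refine Groth.Agent.Helper16.NilLift.hom_ext_of_surjective (pullback.fst Y.hom i) X.hom _ _ ?_ ?_
    · rw [← hfst, ← hfst, h']
    · rw [Over.w φ, Over.w φ']
  · intro ψ
    have hψ : ψ.left ≫ pullback.snd X.hom i = pullback.snd Y.hom i := Over.w ψ
    have hw : pullback.fst Y.hom i ≫ Y.hom = (ψ.left ≫ pullback.fst X.hom i) ≫ X.hom := by
      rw [Category.assoc, pullback.condition (f := X.hom), ← Category.assoc, hψ,
        pullback.condition]
    obtain ⟨f, ⟨h1, h2⟩, -⟩ := Groth.Agent.Helper16.NilLift.exists_unique_lift_nil X.hom
      (pullback.fst Y.hom i) (ψ.left ≫ pullback.fst X.hom i) Y.hom hw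
    refine ⟨Over.homMk f h2, ?_⟩
    ext1
    apply pullback.hom_ext
    · have := hfst (Over.homMk f h2)
      simp only [Over.homMk_left] at this
      rw [this, h1]
    · have := Over.w ((Over.pullback i).map (Over.homMk f h2))
      exact this.trans hψ.symm

end Groth.Agent.S0117
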