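import Groth.Statements.S0580
import Mathlib
import Groth.Agent.Lib.Helper14.CohenCoeff
import Groth.Agent.Lib.Helper14.PowerSeriesComplete
-- import your own Groth.Agent.* helpers here

set_option autoImplicit false
universe u
open CAlg

namespace Groth.Agent.S0580

/-- A local ring complete with respect to a finitely generated maximal ideal is a quotient of a power
series ring in finitely many variables over a ring which is either a field or a Cohen ring. -/
theorem result (R : Type u) [CommRing R]
    [IsLocalRing R] [IsAdicComplete (IsLocalRing.maximalIdeal R) R]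
    (hfg : (IsLocalRing.maximalIdeal R).FG) :
    ∃ (Λ : Type u) (_ : CommRing Λ) (n : ℕ) (f : MvPowerSeries (Fin n) Λ →+* R),
      (IsField Λ ∨ CAlg.IsCohenRing Λ) ∧ Function.Surjective f := by
  obtain ⟨Λ, _, _, c, hcloc, hsurj, hΛ⟩ :=
    Groth.Agent.Helper14.CohenCoeff.exists_coefficient_ring R
  obtain ⟨n, g, hg⟩ := Submodule.fg_iff_exists_fin_generating_family.mp hfg
  letI : Algebra Λ R := c.toAlgebra
  have hgm : ∀ i, g i ∈ IsLocalRing.maximalIdeal R := fun i => by
    rw [← hg]
    exact Submodule.subset_span ⟨i, rfl⟩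
  obtain ⟨f, hf⟩ := Groth.Agent.Helper14.PowerSeriesComplete.exists_algHom_complete (Λ := Λ)
    (IsLocalRing.maximalIdeal R) g hgm
  refine ⟨Λ, inferInstance, n, (f : MvPowerSeries (Fin n) Λ →+* R), ?_, ?_⟩
  · rcases hΛ with ⟨-, h⟩ | ⟨-, h⟩
    · exact Or.inl h
    · exact Or.inr h
  · exact Groth.Agent.Helper14.PowerSeriesComplete.surjective_of_residue g hg hsurj f hf

end Groth.Agent.S0580
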