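import Groth.Statements.S6527
import Mathlib

set_option autoImplicit false
universe u
open CategoryTheory
attribute [local instance] HasDerivedCategory.standard
open DCoh

namespace Groth.Agent.S6527

section helpers

open CategoryTheory.Limits

universe w₁ w₂ v₁ v₂ u₁ u₂

variable {C₁ : Type u₁} [Category.{v₁} C₁] [Abelian C₁]
  {C₂ : Type u₂} [Category.{v₂} C₂] [Abelian C₂]
  {F : C₁ ⥤ C₂} {G : C₂ ⥤ C₁} [F.Additive] [G.Additive] (adj : F ⊣ G)

/-- An adjunction between additive functors induces an adjunction on complexes. -/
noncomputable def mapHCAdj {ι : Type*} (c : ComplexShape ι) :
    F.mapHomologicalComplex c ⊣ G.mapHomologicalComplex c :=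
  Adjunction.mkOfUnitCounit
    { unit :=
        { app := fun K =>
            { f := fun i => adj.unit.app (K.X i)
              comm' := fun i j _ => by
                simp only [Functor.id_obj, Functor.comp_obj, Functor.mapHomologicalComplex_obj_d]
                exact (adj.unit.naturality (K.d i j)).symm }
          naturality := fun K L φ => by
            ext i
            simp only [Functor.id_obj, Functor.comp_obj, Functor.id_map, HomologicalComplex.comp_f,
              Functor.comp_map, Functor.mapHomologicalComplex_map_f]
            exact adj.unit.naturality (φ.f i) }
      counit :=
        { app := fun K =>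
            { f := fun i => adj.counit.app (K.X i)
              comm' := fun i j _ => by
                simp only [Functor.id_obj, Functor.comp_obj, Functor.mapHomologicalComplex_obj_d]
                exact (adj.counit.naturality (K.d i j)).symm }
          naturality := fun K L φ => by
            ext i
            simp only [Functor.id_obj, Functor.comp_obj, Functor.id_map, HomologicalComplex.comp_f,
              Functor.comp_map, Functor.mapHomologicalComplex_map_f]
            exact adj.counit.naturality (φ.f i) }
      left_triangle := by
        ext K i
        simp
        exact adj.left_triangle_components (K.X i)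
      right_triangle := by
        ext K i
        simp
        exact adj.right_triangle_components (K.X i) }

variable [HasDerivedCategory.{w₁} C₁] [HasDerivedCategory.{w₂} C₂]
  [PreservesFiniteLimits F] [PreservesFiniteColimits F]
  [PreservesFiniteLimits G] [PreservesFiniteColimits G]

/-- The induced adjunction on derived categories. -/
noncomputable def derivedAdj : F.mapDerivedCategory ⊣ G.mapDerivedCategory := by
  letI : CatCommSq (F.mapHomologicalComplex (ComplexShape.up ℤ)) DerivedCategory.Q
      DerivedCategory.Q F.mapDerivedCategory := ⟨F.mapDerivedCategoryFactors.symm⟩
  letI : CatCommSq (G.mapHomologicalComplex (ComplexShape.up ℤ)) DerivedCategory.Q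
      DerivedCategory.Q G.mapDerivedCategory := ⟨G.mapDerivedCategoryFactors.symm⟩
  exact (mapHCAdj adj (ComplexShape.up ℤ)).localization DerivedCategory.Q
    (HomologicalComplex.quasiIso C₁ (ComplexShape.up ℤ)) DerivedCategory.Q
    (HomologicalComplex.quasiIso C₂ (ComplexShape.up ℤ)) F.mapDerivedCategory G.mapDerivedCategory

end helpers

open AlgebraicGeometry CategoryTheory.Limits in
/-- For an open subscheme j : U → X, the extension by zero functor j_! : D(O_U) → D(O_X) is left adjoint
to the restriction functor D(O_X) → D(O_U). Both functors are the ones induced on derived categories
by the exact functors j_! and j^*; the assertion is the existence of an adjunction. (The published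
statement is for ringed spaces; this row is for schemes.) -/
theorem result {X : Scheme.{u}} (U : X.Opens)
    [PreservesFiniteLimits (CxOX.extZero U.ι)] :
    Nonempty (CxOX.extZeroD U.ι ⊣ DCoh.restrictD U.ι) := by
  exact ⟨derivedAdj (CxOX.extZeroAdj U.ι)⟩

end Groth.Agent.S6527
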