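import Groth.Statements.S13791

set_option autoImplicit false
set_option linter.unusedSectionVars false
set_option linter.unusedVariables false
universe u
open CategoryTheory
open CohSite

namespace Groth.Agent.S13791

open Opposite Limits

variable {C : Type u} [SmallCategory C] (J : GrothendieckTopology C)

/-- forget -/
abbrev U : AddCommGrpCat.{u} ⥤ Type u := forget AddCommGrpCat.{u}

/-- the comparison iso -/
noncomputable abbrev Φ :
    (Functor.whiskeringRight Cᵒᵖ AddCommGrpCat.{u} (Type u)).obj U ⋙ presheafToSheaf J (Type u) ≅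
      presheafToSheaf J AddCommGrpCat.{u} ⋙ sheafCompose J U :=
  sheafComposeNatIso J U (sheafificationAdjunction J AddCommGrpCat.{u})
    (sheafificationAdjunction J (Type u))

variable {B' C' : AddCommGrpCat.{u}} (π : B' ⟶ C') (s : U.obj C' ⟶ U.obj B')
  (hs : s ≫ U.map π = 𝟙 _)

/-- the presheaf-level section -/
def σ : (Functor.const Cᵒᵖ).obj C' ⋙ U ⟶ (Functor.const Cᵒᵖ).obj B' ⋙ U where
  app _ := s
  naturality _ _ _ := by
    ext x
    rfl

include hs in
lemma σ_comp : σ (C := C) s ≫ Functor.whiskerRight ((Functor.const Cᵒᵖ).map π) U = 𝟙 _ := by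
  ext X : 2
  exact hs

/-- the sheaf-level section -/
noncomputable def sSh : (sheafCompose J U).obj ((constantSheaf J AddCommGrpCat.{u}).obj C') ⟶
    (sheafCompose J U).obj ((constantSheaf J AddCommGrpCat.{u}).obj B') :=
  (Φ J).inv.app ((Functor.const Cᵒᵖ).obj C') ≫ (presheafToSheaf J (Type u)).map (σ s) ≫
    (Φ J).hom.app ((Functor.const Cᵒᵖ).obj B')

include hs in
lemma sSh_comp : sSh J s ≫ (sheafCompose J U).map ((constantSheaf J AddCommGrpCat.{u}).map π) = 𝟙 _ := by
  have nat := (Φ J).hom.naturality ((Functor.const Cᵒᵖ).map π)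
  dsimp only [Functor.comp_map] at nat
  dsimp only [sSh, constantSheaf, Functor.comp_map, Functor.comp_obj]
  rw [Category.assoc, Category.assoc, ← nat]
  rw [← Functor.map_comp_assoc]
  have : σ (C := C) s ≫ ((Functor.whiskeringRight Cᵒᵖ AddCommGrpCat (Type u)).obj U).map
      ((Functor.const Cᵒᵖ).map π) = 𝟙 _ := σ_comp (C := C) π s hs
  rw [this]
  erw [CategoryTheory.Functor.map_id, Category.id_comp]
  exact (Φ J).inv_hom_id_app _


section Elems

/-- Z -/
abbrev Zc : AddCommGrpCat.{u} := AddCommGrpCat.of (ULift.{u} ℤ)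

/-- constant sheaf Z -/
noncomputable abbrev Zsh : Sheaf J AddCommGrpCat.{u} := (constantSheaf J AddCommGrpCat.{u}).obj Zc

lemma hom_ext_ulift {G : Type u} [AddCommGroup G] (f g : ULift.{u} ℤ →+ G)
    (h : f (ULift.up 1) = g (ULift.up 1)) : f = g := by
  have : f.comp AddEquiv.ulift.symm.toAddMonoidHom = g.comp AddEquiv.ulift.symm.toAddMonoidHom :=
    AddMonoidHom.ext_int h
  ext ⟨n⟩
  exact DFunLike.congr_fun this n

variable {F G : Sheaf J AddCommGrpCat.{u}}

/-- the presheaf map attached to a map from the constant sheaf -/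
noncomputable def toPre (x : Zsh J ⟶ F) : (Functor.const Cᵒᵖ).obj Zc ⟶ F.obj :=
  toSheafify J ((Functor.const Cᵒᵖ).obj Zc) ≫ x.hom

/-- the elements -/
noncomputable def elems (x : Zsh J ⟶ F) (X : C) : F.obj.obj (op X) :=
  ((toPre J x).app (op X)).hom (ULift.up 1)

lemma elems_injective (x y : Zsh J ⟶ F) (h : ∀ X, elems J x X = elems J y X) : x = y := by
  apply Sheaf.hom_ext
  refine sheafify_hom_ext J _ _ F.property ?_
  ext X : 3
  exact hom_ext_ulift _ _ (h X.unop)

lemma elems_comp (x : Zsh J ⟶ F) (g : F ⟶ G) (X : C) :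
    elems J (x ≫ g) X = (g.hom.app (op X)).hom (elems J x X) := by
  simp [elems, toPre]
  rfl

lemma elems_map (x : Zsh J ⟶ F) {X Y : C} (f : X ⟶ Y) :
    (F.obj.map f.op).hom (elems J x Y) = elems J x X := by
  have := (toPre J x).naturality f.op
  dsimp only [elems]
  have h2 := ConcreteCategory.congr_hom this (ULift.up 1)
  simpa using h2.symm

lemma exists_of_elems (t : ∀ X : C, F.obj.obj (op X))
    (ht : ∀ {X Y : C} (f : X ⟶ Y), (F.obj.map f.op).hom (t Y) = t X) :
    ∃ y : Zsh J ⟶ F, ∀ X, elems J y X = t X := by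
  let φ : (Functor.const Cᵒᵖ).obj Zc ⟶ F.obj :=
    { app := fun X => AddCommGrpCat.ofHom
        ((zmultiplesHom _ (t X.unop)).comp AddEquiv.ulift.toAddMonoidHom)
      naturality := fun X Y f => by
        apply AddCommGrpCat.hom_ext
        apply hom_ext_ulift
        show (zmultiplesHom _ (t Y.unop)) (1 : ℤ) =
          (F.obj.map f).hom ((zmultiplesHom _ (t X.unop)) (1 : ℤ))
        rw [zmultiplesHom_apply, zmultiplesHom_apply, one_smul, one_smul]
        exact (ht f.unop).symm }
  refine ⟨⟨sheafifyLift J φ F.property⟩, fun X => ?_⟩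
  simp only [elems, toPre, toSheafify_sheafifyLift]
  show (zmultiplesHom _ (t X)) (1 : ℤ) = t X
  rw [zmultiplesHom_apply, one_smul]

end Elems


section Lift

variable {B' C' : AddCommGrpCat.{u}} (π : B' ⟶ C')

lemma exists_lift (hπ : Function.Surjective π.hom)
    (x : Zsh J ⟶ (constantSheaf J AddCommGrpCat.{u}).obj C') :
    ∃ y : Zsh J ⟶ (constantSheaf J AddCommGrpCat.{u}).obj B',
      y ≫ (constantSheaf J AddCommGrpCat.{u}).map π = x := by
  let s : U.obj C' ⟶ U.obj B' := TypeCat.ofHom (Function.surjInv hπ)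
  have hs : s ≫ U.map π = 𝟙 _ := by
    ext c
    exact Function.surjInv_eq hπ c
  have h1 := sSh_comp J π s hs
  let b : ∀ X : C, ((constantSheaf J AddCommGrpCat.{u}).obj B').obj.obj (op X) :=
    fun X => ((sSh J s).hom.app (op X)) (elems J x X)
  have hb : ∀ {X Y : C} (f : X ⟶ Y),
      (((constantSheaf J AddCommGrpCat.{u}).obj B').obj.map f.op).hom (b Y) = b X := by
    intro X Y f
    have nat := ConcreteCategory.congr_hom ((sSh J s).hom.naturality f.op) (elems J x Y)
    dsimp only [b]
    rw [← elems_map J x f]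
    exact nat.symm
  obtain ⟨y, hy⟩ := exists_of_elems J b hb
  refine ⟨y, elems_injective J _ _ (fun X => ?_)⟩
  rw [elems_comp, hy]
  have h2 := congrArg (fun (m : (sheafCompose J U).obj ((constantSheaf J AddCommGrpCat.{u}).obj C') ⟶ _) =>
    (m.hom.app (op X)) (elems J x X)) h1
  exact h2

end Lift


instance : PreservesFiniteLimits (constantSheaf J AddCommGrpCat.{u}) := by
  unfold constantSheaf
  infer_instance

instance : PreservesFiniteColimits (constantSheaf J AddCommGrpCat.{u}) := by
  unfold constantSheaf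
  infer_instance

instance : (constantSheaf J AddCommGrpCat.{u}).Additive := by
  unfold constantSheaf
  infer_instance

/-- On a site, for a short exact sequence 0 → A → B → C → 0 of abelian groups the map H¹(A) → H¹(B) on
the first cohomology of the associated constant sheaves is injective. Stated for an injective
homomorphism f : A → B (C being its cokernel), with H¹ the Ext-based sheaf cohomology of the site. -/
theorem result {C : Type u} [SmallCategory C] (J : GrothendieckTopology C)
    {A B : Type u} [AddCommGroup A] [AddCommGroup B] (f : A →+ B) (hf : Function.Injective f) :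
    Function.Injective
      (Sheaf.H.map ((constantSheaf J AddCommGrpCat.{u}).map (AddCommGrpCat.ofHom f)) 1) := by
  let f' : AddCommGrpCat.of A ⟶ AddCommGrpCat.of B := AddCommGrpCat.ofHom f
  have hm : Mono f' := (AddCommGrpCat.mono_iff_injective f').2 hf
  let S : ShortComplex AddCommGrpCat.{u} :=
    ShortComplex.mk f' (cokernel.π f') (cokernel.condition f')
  have hS : S.ShortExact :=
    { exact := S.exact_of_g_is_cokernel (cokernelIsCokernel f')
      mono_f := hm
      epi_g := inferInstanceAs (Epi (cokernel.π f')) }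
  have hS' : (S.map (constantSheaf J AddCommGrpCat.{u})).ShortExact := hS.map_of_exact _
  have hsurj : Function.Surjective (cokernel.π f').hom :=
    (AddCommGrpCat.epi_iff_surjective _).1 inferInstance
  rw [injective_iff_map_eq_zero]
  intro x₁ hx₁
  rw [Sheaf.H.map_apply] at hx₁
  obtain ⟨x₃, hx₃⟩ := Abelian.Ext.covariant_sequence_exact₁ _ hS' x₁ hx₁ (zero_add 1)
  obtain ⟨φ, rfl⟩ := (Abelian.Ext.mk₀_bijective _ _).2 x₃
  obtain ⟨ψ, hψ⟩ := exists_lift J (cokernel.π f') hsurj φ
  rw [← hx₃, ← hψ]
  have := Abelian.Ext.mk₀_comp_mk₀_assoc ψ ((constantSheaf J AddCommGrpCat.{u}).map (cokernel.π f'))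
    hS'.extClass
  erw [← this, hS'.comp_extClass, Abelian.Ext.comp_zero]
  rfl

end Groth.Agent.S13791
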