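import Groth.Statements.S13799
import Groth.Agent.S13791
import Mathlib

set_option autoImplicit false
set_option linter.unusedSectionVars false
set_option linter.unusedVariables false
universe u
open CategoryTheory Opposite
open CohSite

namespace Groth.Agent.S13799

open Limits
open Groth.Agent.S13791 (Zc Zsh elems elems_injective elems_comp elems_map exists_of_elems)

variable {C : Type u} [SmallCategory C] (J : GrothendieckTopology C)

section General

variable (F : Sheaf J AddCommGrpCat.{u})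

lemma typeSheaf : Presieve.IsSheaf J (F.obj ⋙ forget AddCommGrpCat.{u}) :=
  (isSheaf_iff_isSheaf_of_type J _).1
    ((Presheaf.isSheaf_iff_isSheaf_forget J F.obj (forget AddCommGrpCat.{u})).1 F.property)

lemma sep {X : C} (S : Sieve X) (hS : S ∈ J X) (y y' : F.obj.obj (op X))
    (h : ∀ ⦃V : C⦄ (f : V ⟶ X), S f → (F.obj.map f.op).hom y = (F.obj.map f.op).hom y') :
    y = y' :=
  ((typeSheaf J F) S hS).isSeparatedFor.ext (fun V f hf => h f hf)

lemma glue {X : C} (S : Sieve X) (hS : S ∈ J X)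
    (x : ∀ ⦃V : C⦄ (f : V ⟶ X), S f → F.obj.obj (op V))
    (hx : ∀ ⦃V₁ V₂ Y : C⦄ (f₁ : V₁ ⟶ X) (f₂ : V₂ ⟶ X) (h₁ : S f₁) (h₂ : S f₂)
        (g₁ : Y ⟶ V₁) (g₂ : Y ⟶ V₂), g₁ ≫ f₁ = g₂ ≫ f₂ →
        (F.obj.map g₁.op).hom (x f₁ h₁) = (F.obj.map g₂.op).hom (x f₂ h₂)) :
    ∃ y : F.obj.obj (op X), ∀ ⦃V : C⦄ (f : V ⟶ X) (hf : S f), (F.obj.map f.op).hom y = x f hf := by
  let x' : Presieve.FamilyOfElements (F.obj ⋙ forget AddCommGrpCat.{u}) S.arrows :=
    fun V f hf => x f hf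
  have hx' : x'.Compatible := by
    intro Y₁ Y₂ Z g₁ g₂ f₁ f₂ h₁ h₂ e
    exact hx f₁ f₂ h₁ h₂ g₁ g₂ e
  refine ⟨((typeSheaf J F) S hS).amalgamate x' hx', fun V f hf => ?_⟩
  exact ((typeSheaf J F) S hS).valid_glue hx' f hf

lemma res_comp {X Y Z : C} (f : X ⟶ Y) (g : Y ⟶ Z) (y : F.obj.obj (op Z)) :
    (F.obj.map (f ≫ g).op).hom y = (F.obj.map f.op).hom ((F.obj.map g.op).hom y) := by
  rw [op_comp, Functor.map_comp]
  rfl

lemma subsingleton_of_bot {X : C} (h : (⊥ : Sieve X) ∈ J X) (y y' : F.obj.obj (op X)) : y = y' :=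
  sep J F ⊥ h y y' (fun V f hf => hf.elim)

end General

section One

/-- the canonical section -/
noncomputable def one (W : C) : (Zsh J).obj.obj (op W) := elems J (𝟙 (Zsh J)) W

lemma elems_eq {F : Sheaf J AddCommGrpCat.{u}} (x : Zsh J ⟶ F) (W : C) :
    elems J x W = (x.hom.app (op W)).hom (one J W) := by
  have := elems_comp J (𝟙 (Zsh J)) x W
  rwa [Category.id_comp] at this

lemma one_map {X Y : C} (f : X ⟶ Y) : ((Zsh J).obj.map f.op).hom (one J Y) = one J X :=
  elems_map J _ f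

lemma one_eq (W : C) : one J W =
    ((toSheafify J ((Functor.const Cᵒᵖ).obj Zc)).app (op W)).hom (ULift.up 1) := by
  simp [one, elems, Groth.Agent.S13791.toPre]
  rfl

lemma bot_mem_of_one_eq_zero (W : C) (h : one J W = 0) : (⊥ : Sieve W) ∈ J W := by
  rw [one_eq] at h
  have h2 : (toSheafify J ((Functor.const Cᵒᵖ).obj Zc)).app (op W) (ULift.up 1 : ULift.{u} ℤ) =
      (toSheafify J ((Functor.const Cᵒᵖ).obj Zc)).app (op W) (0 : ULift.{u} ℤ) := by
    refine h.trans ?_
    exact (map_zero ((toSheafify J ((Functor.const Cᵒᵖ).obj Zc)).app (op W)).hom).symm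
  have := Presheaf.equalizerSieve_mem J (toSheafify J ((Functor.const Cᵒᵖ).obj Zc))
    (X := op W) (ULift.up 1 : ULift.{u} ℤ) (0 : ULift.{u} ℤ) h2
  refine J.superset_covering ?_ this
  intro V f hf
  exfalso
  have h3 : (ULift.up 1 : ULift.{u} ℤ) = 0 := hf
  have := congrArg ULift.down h3
  simp at this

end One

section Core

variable {J}

lemma nat_apply {F G : Sheaf J AddCommGrpCat.{u}} (π : F ⟶ G) {V W : C} (g : V ⟶ W)
    (y : F.obj.obj (op W)) :
    (π.hom.app (op V)).hom ((F.obj.map g.op).hom y) =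
      (G.obj.map g.op).hom ((π.hom.app (op W)).hom y) := by
  have := ConcreteCategory.congr_hom (π.hom.naturality g.op) y
  simpa using this

variable {F I B : Sheaf J AddCommGrpCat.{u}} (ι : F ⟶ I) (π : I ⟶ B)
  (hzero : ∀ (W : C) (d : F.obj.obj (op W)),
    (π.hom.app (op W)).hom ((ι.hom.app (op W)).hom d) = 0)
  (hι : ∀ W : C, Function.Injective (ι.hom.app (op W)).hom)
  (hex : ∀ (W : C) (y : I.obj.obj (op W)), (π.hom.app (op W)).hom y = 0 →
    ∃ d, (ι.hom.app (op W)).hom d = y)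
  (hπ : ∀ (W : C) (b : B.obj.obj (op W)), ∃ R ∈ J W, ∀ ⦃V : C⦄ (g : V ⟶ W), R g →
    ∃ y : I.obj.obj (op V), (π.hom.app (op V)).hom y = (B.obj.map g.op).hom b)
  (hdiv : ∀ (W : C) (n : ℤ), n ≠ 0 → ∀ d : F.obj.obj (op W), ∃ d' : F.obj.obj (op W), n • d' = d)
  (htf : ∀ (W : C) (n : ℤ), n ≠ 0 → ∀ d : F.obj.obj (op W), n • d = 0 → d = 0)
  (hZtf : ∀ (W : C) (n : ℤ), n ≠ 0 → ∀ d : (Zsh J).obj.obj (op W), n • d = 0 → d = 0)
  (φ : Zsh J ⟶ Zsh J) (b₀ : Zsh J ⟶ B) (t₀ : Zsh J ⟶ I) (ht : t₀ ≫ π = φ ≫ b₀)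
  {ιi : Type u} (U : ιi → C) (n : ιi → ℤ) (hn : ∀ i, n i ≠ 0)
  (hφ : ∀ (i : ιi) (V : C) (_ : V ⟶ U i), φ.hom.app (op V) = n i • 𝟙 _)
  (hcov : ∀ V : C, ∃ R ∈ J V, ∀ ⦃W : C⦄ (g : W ⟶ V), R g → ∃ i, Nonempty (W ⟶ U i))

/-- good elements -/
def Good (W : C) (y : I.obj.obj (op W)) : Prop :=
  (π.hom.app (op W)).hom y = elems J b₀ W ∧ ∃ m : ℤ, m ≠ 0 ∧
    (φ.hom.app (op W)).hom (one J W) = m • one J W ∧ m • y = elems J t₀ W

lemma good_res {W V : C} (g : V ⟶ W) {y : I.obj.obj (op W)} (hy : Good π φ b₀ t₀ W y) :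
    Good π φ b₀ t₀ V ((I.obj.map g.op).hom y) := by
  obtain ⟨h1, m, hm, h2, h3⟩ := hy
  refine ⟨?_, m, hm, ?_, ?_⟩
  · rw [nat_apply, h1, elems_map]
  · rw [← one_map J g, nat_apply, h2, map_zsmul]
  · rw [← map_zsmul, h3, elems_map]

include hzero hι hex htf hZtf in
lemma good_unique {W : C} {y y' : I.obj.obj (op W)} (hy : Good π φ b₀ t₀ W y)
    (hy' : Good π φ b₀ t₀ W y') : y = y' := by
  obtain ⟨h1, m, hm, h2, h3⟩ := hy
  obtain ⟨h1', m', hm', h2', h3'⟩ := hy'
  by_cases hmm : m = m'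
  · subst hmm
    obtain ⟨d, hd⟩ := hex W (y - y') (by rw [map_sub, h1, h1', sub_self])
    have hd0 : d = 0 := by
      apply htf W m hm
      apply hι W
      rw [map_zsmul, hd, smul_sub, h3, h3', sub_self, map_zero]
    rw [hd0, map_zero] at hd
    exact (sub_eq_zero.mp hd.symm)
  · have h0 : (m - m') • one J W = 0 := by
      rw [sub_smul, ← h2, ← h2', sub_self]
    have h1 : one J W = 0 := hZtf W (m - m') (sub_ne_zero.mpr hmm) _ h0
    exact subsingleton_of_bot J I (bot_mem_of_one_eq_zero J W h1) y y'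

include ht in
lemma key (W : C) : (π.hom.app (op W)).hom (elems J t₀ W) =
    (b₀.hom.app (op W)).hom ((φ.hom.app (op W)).hom (one J W)) := by
  rw [← elems_comp, ht, elems_comp, elems_eq J φ]

include hzero hex hdiv ht hn hφ in
lemma good_exists {W : C} (i : ιi) (f : W ⟶ U i) (y₀ : I.obj.obj (op W))
    (hy₀ : (π.hom.app (op W)).hom y₀ = elems J b₀ W) : ∃ y, Good π φ b₀ t₀ W y := by
  have hφ1 : (φ.hom.app (op W)).hom (one J W) = n i • one J W := by
    rw [hφ i W f]
    rfl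
  have hk : (π.hom.app (op W)).hom (n i • y₀ - elems J t₀ W) = 0 := by
    rw [map_sub, map_zsmul, hy₀, key π φ b₀ t₀ ht, hφ1, map_zsmul, ← elems_eq, sub_self]
  obtain ⟨d, hd⟩ := hex W _ hk
  obtain ⟨d', hd'⟩ := hdiv W (n i) (hn i) d
  refine ⟨y₀ - (ι.hom.app (op W)).hom d', ?_, n i, hn i, hφ1, ?_⟩
  · rw [map_sub, hzero, sub_zero, hy₀]
  · rw [smul_sub, ← map_zsmul, hd', hd]
    abel

/-- the sieve of arrows over which a good element exists -/
def goodSieve (W : C) : Sieve W where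
  arrows V f := ∃ y : I.obj.obj (op V), Good π φ b₀ t₀ V y
  downward_closed := by
    rintro V V' f ⟨y, hy⟩ g
    exact ⟨_, good_res π φ b₀ t₀ g hy⟩

include hzero hex hdiv ht hn hφ hcov hπ in
lemma goodSieve_mem (W : C) : goodSieve π φ b₀ t₀ W ∈ J W := by
  obtain ⟨R₁, hR₁, h1⟩ := hcov W
  refine J.transitive hR₁ _ (fun W' g hg => ?_)
  obtain ⟨i, ⟨f'⟩⟩ := h1 g hg
  obtain ⟨R₂, hR₂, h2⟩ := hπ W' (elems J b₀ W')
  refine J.superset_covering ?_ hR₂
  intro W'' h hh
  obtain ⟨y₀, hy₀⟩ := h2 h hh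
  rw [elems_map] at hy₀
  exact good_exists ι π hzero hex hdiv φ b₀ t₀ ht U n hn hφ i (h ≫ f') y₀ hy₀

/-- the sieve of arrows along which `y` restricts to a good element -/
def goodAt (X : C) (y : I.obj.obj (op X)) : Sieve X where
  arrows V f := Good π φ b₀ t₀ V ((I.obj.map f.op).hom y)
  downward_closed := by
    intro V V' f hf g
    rw [res_comp]
    exact good_res π φ b₀ t₀ g hf

include hzero hι hex htf hZtf hdiv ht hn hφ hcov hπ in
lemma locgood_exists (X : C) : ∃ y, goodAt π φ b₀ t₀ X y ∈ J X := by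
  have hS := goodSieve_mem ι π hzero hex hπ hdiv φ b₀ t₀ ht U n hn hφ hcov X
  obtain ⟨y, hy⟩ := glue J I (goodSieve π φ b₀ t₀ X) hS (fun V f hf => hf.choose) (by
    intro V₁ V₂ Y f₁ f₂ h₁ h₂ g₁ g₂ e
    exact good_unique ι π hzero hι hex htf hZtf φ b₀ t₀
      (good_res π φ b₀ t₀ g₁ h₁.choose_spec) (good_res π φ b₀ t₀ g₂ h₂.choose_spec))
  refine ⟨y, J.superset_covering ?_ hS⟩
  intro V f hf
  show Good π φ b₀ t₀ V ((I.obj.map f.op).hom y)
  rw [hy f hf]
  exact hf.choose_spec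

include hzero hι hex htf hZtf in
lemma locgood_unique {X : C} {y y' : I.obj.obj (op X)} (h : goodAt π φ b₀ t₀ X y ∈ J X)
    (h' : goodAt π φ b₀ t₀ X y' ∈ J X) : y = y' := by
  refine sep J I _ (J.intersection_covering h h') y y' ?_
  rintro V f ⟨hf, hf'⟩
  exact good_unique ι π hzero hι hex htf hZtf φ b₀ t₀ hf hf'

lemma locgood_res {X X' : C} (g : X' ⟶ X) {y : I.obj.obj (op X)}
    (h : goodAt π φ b₀ t₀ X y ∈ J X) :
    goodAt π φ b₀ t₀ X' ((I.obj.map g.op).hom y) ∈ J X' := by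
  refine J.superset_covering ?_ (J.pullback_stable g h)
  intro V f hf
  show Good π φ b₀ t₀ V _
  rw [← res_comp]
  exact hf

lemma locgood_pi {X : C} {y : I.obj.obj (op X)} (h : goodAt π φ b₀ t₀ X y ∈ J X) :
    (π.hom.app (op X)).hom y = elems J b₀ X := by
  refine sep J B _ h _ _ ?_
  intro V f hf
  rw [← nat_apply, hf.1, elems_map]

include hzero hι hex htf hZtf hdiv ht hn hφ hcov hπ in
theorem core : ∃ s₀ : Zsh J ⟶ I, s₀ ≫ π = b₀ := by
  choose y hy using locgood_exists ι π hzero hι hex hπ hdiv htf hZtf φ b₀ t₀ ht U n hn hφ hcov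
  obtain ⟨s₀, hs₀⟩ := exists_of_elems J y (fun {X Y} f =>
    locgood_unique ι π hzero hι hex htf hZtf φ b₀ t₀ (locgood_res π φ b₀ t₀ f (hy Y)) (hy X))
  refine ⟨s₀, elems_injective J _ _ (fun X => ?_)⟩
  rw [elems_comp, hs₀, locgood_pi π φ b₀ t₀ (hy X)]

end Core

section Sections

variable {J}

lemma zsmul_app (G : Sheaf J AddCommGrpCat.{u}) (n : ℤ) (W : C) (d : G.obj.obj (op W)) :
    ((n • 𝟙 G : G ⟶ G).hom.app (op W)).hom d = n • d := by
  have h1 : (n • 𝟙 G : G ⟶ G).hom = n • (𝟙 G : G ⟶ G).hom := rfl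
  rw [h1, NatTrans.app_zsmul, AddCommGrpCat.hom_zsmul]
  rfl

lemma injective_of_mono {F G : Sheaf J AddCommGrpCat.{u}} (f : F ⟶ G) [Mono f] (W : C) :
    Function.Injective (f.hom.app (op W)).hom := by
  have h1 : Mono f.hom := (Sheaf.Hom.mono_iff_presheaf_mono _ _ f).1 inferInstance
  have h2 : Mono (f.hom.app (op W)) := (NatTrans.mono_iff_mono_app f.hom).1 h1 (op W)
  exact (AddCommGrpCat.mono_iff_injective _).1 h2

lemma tf_of_mono (G : Sheaf J AddCommGrpCat.{u}) (n : ℤ) [Mono (n • 𝟙 G : G ⟶ G)] (W : C)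
    (d : G.obj.obj (op W)) (h : n • d = 0) : d = 0 := by
  apply injective_of_mono (n • 𝟙 G : G ⟶ G) W
  rw [zsmul_app, h, map_zero]

lemma div_of_isIso (G : Sheaf J AddCommGrpCat.{u}) (n : ℤ) [IsIso (n • 𝟙 G : G ⟶ G)] (W : C)
    (d : G.obj.obj (op W)) : ∃ d' : G.obj.obj (op W), n • d' = d := by
  refine ⟨((inv (n • 𝟙 G : G ⟶ G)).hom.app (op W)).hom d, ?_⟩
  rw [← zsmul_app]
  have : inv (n • 𝟙 G : G ⟶ G) ≫ (n • 𝟙 G : G ⟶ G) = 𝟙 _ := IsIso.inv_hom_id _
  have h2 := congrArg (fun (m : G ⟶ G) => (m.hom.app (op W)).hom d) this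
  simpa using h2

/-- evaluation of sheaves at an object -/
noncomputable def evAb (W : C) : Sheaf J AddCommGrpCat.{u} ⥤ AddCommGrpCat.{u} :=
  sheafToPresheaf J AddCommGrpCat.{u} ⋙ (evaluation Cᵒᵖ AddCommGrpCat.{u}).obj (op W)

instance (W : C) : PreservesFiniteLimits (evAb (J := J) W) := by
  unfold evAb
  infer_instance

instance (W : C) : (evAb (J := J) W).Additive := Functor.additive_of_preserves_binary_products _

lemma exact_sections (S : ShortComplex (Sheaf J AddCommGrpCat.{u})) (hS : S.ShortExact) (W : C)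
    (m : S.X₂.obj.obj (op W)) (hm : (S.g.hom.app (op W)).hom m = 0) :
    ∃ n : S.X₁.obj.obj (op W), (S.f.hom.app (op W)).hom n = m := by
  have := hS.mono_f
  have hex : (S.map (evAb W)).Exact :=
    hS.exact.map_of_mono_of_preservesKernel _ inferInstance inferInstance
  exact (ShortComplex.ab_exact_iff _).mp hex m hm

lemma locally_surj {F G : Sheaf J AddCommGrpCat.{u}} (π : F ⟶ G) [Epi π] (W : C)
    (b : G.obj.obj (op W)) : ∃ R ∈ J W, ∀ ⦃V : C⦄ (g : V ⟶ W), R g →
      ∃ y : F.obj.obj (op V), (π.hom.app (op V)).hom y = (G.obj.map g.op).hom b := by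
  have h : Sheaf.IsLocallySurjective π := (Sheaf.isLocallySurjective_iff_epi' AddCommGrpCat.{u} π).2 inferInstance
  refine ⟨Presheaf.imageSieve π.hom b, Presheaf.imageSieve_mem J π.hom b, ?_⟩
  rintro V g ⟨y, hy⟩
  exact ⟨y, hy⟩

end Sections

section Alg

variable {A : Type u} [AddCommGroup A]

/-- the localization -/
abbrev DD (A : Type u) [AddCommGroup A] : Type u := LocalizedModule (nonZeroDivisors ℤ) A

/-- the map -/
noncomputable def toD : A →+ DD A := (LocalizedModule.mkLinearMap (nonZeroDivisors ℤ) A).toAddMonoidHom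

lemma toD_injective (hA : ∀ (m : ℤ) (a : A), m ≠ 0 → m • a = 0 → a = 0) :
    Function.Injective (toD (A := A)) := by
  intro a a' h
  have h' : LocalizedModule.mk a (1 : nonZeroDivisors ℤ) = LocalizedModule.mk a' 1 := h
  rw [LocalizedModule.mk_eq] at h'
  obtain ⟨s, hs⟩ := h'
  simp only [one_smul] at hs
  have h0 : (s : ℤ) • (a - a') = 0 := by
    rw [smul_sub, sub_eq_zero]
    exact hs
  exact sub_eq_zero.mp (hA _ _ (nonZeroDivisors.coe_ne_zero s) h0)

lemma smul_eq (n : ℤ) (x : DD A) :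
    (OreLocalization.instModuleOfIsScalarTower :
      Module ℤ (LocalizedModule (nonZeroDivisors ℤ) A)).smul n x = n • x :=
  @int_smul_eq_zsmul (DD A) _ (OreLocalization.instModuleOfIsScalarTower) n x

lemma smul_bijective (n : ℤ) (hn : n ≠ 0) : Function.Bijective (fun x : DD A => n • x) := by
  have hmem : n ∈ nonZeroDivisors ℤ := mem_nonZeroDivisors_of_ne_zero hn
  rw [Function.bijective_iff_has_inverse]
  refine ⟨fun x => LocalizedModule.divBy (⟨n, hmem⟩ : nonZeroDivisors ℤ) x, fun x => ?_, fun x => ?_⟩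
  · have := LocalizedModule.divBy_mul_by (⟨n, hmem⟩ : nonZeroDivisors ℤ) x
    rw [Module.algebraMap_end_apply] at this
    refine Eq.trans ?_ this
    show LocalizedModule.divBy ⟨n, hmem⟩ (n • x) = _
    rw [← smul_eq n x]
    rfl
  · have := LocalizedModule.mul_by_divBy (⟨n, hmem⟩ : nonZeroDivisors ℤ) x
    rw [Module.algebraMap_end_apply] at this
    refine Eq.trans ?_ this
    show n • (LocalizedModule.divBy ⟨n, hmem⟩ x) = _
    rw [← smul_eq n]
    rfl

lemma isIso_zsmul (n : ℤ) (hn : n ≠ 0) :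
    IsIso (n • 𝟙 (AddCommGrpCat.of (DD A)) : AddCommGrpCat.of (DD A) ⟶ AddCommGrpCat.of (DD A)) := by
  rw [ConcreteCategory.isIso_iff_bijective]
  exact smul_bijective n hn

lemma mono_zsmul_Z (n : ℤ) (hn : n ≠ 0) :
    Mono (n • 𝟙 (AddCommGrpCat.of (ULift.{u} ℤ)) :
      AddCommGrpCat.of (ULift.{u} ℤ) ⟶ AddCommGrpCat.of (ULift.{u} ℤ)) := by
  rw [AddCommGrpCat.mono_iff_injective]
  intro x y h
  have h' : n • x = n • y := h
  have h2 := congrArg ULift.down h'
  simp only [ULift.smul_down, smul_eq_mul] at h2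
  exact ULift.down_injective (mul_left_cancel₀ hn h2)

end Alg

/-- On a site, take a torsion-free abelian group A, and let φ be a locally nonzero global section of the
constant sheaf ℤ, viewed as an endomorphism of the constant abelian sheaf ℤ: there are objects U_i
which cover every object of the site locally and nonzero integers n_i such that φ is multiplication
by n_i on every object over U_i. Then the first cohomology H¹(A) of the constant sheaf on A (the
Ext-based sheaf cohomology of the site) has no φ-torsion: a class x with φ · x = 0 is zero, where φ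
acts on H¹(A) = Ext¹(ℤ, A) by precomposition. (The published statement takes the section in the
constant sheaf of A itself, with a module structure over its global sections that is defined for A =
ℤ; this row lets a locally nonzero section of the constant sheaf ℤ act on H¹(A), which is the
published statement when A = ℤ and is what the published proof establishes for any torsion-free A.
The published definition of a locally nonzero section also asks the covering family to be nonempty;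
when it is empty every sheaf is terminal and the conclusion holds trivially, so that condition is
omitted.) -/
theorem result {C : Type u} [SmallCategory C] (J : GrothendieckTopology C)
    {A : Type u} [AddCommGroup A] (hA : ∀ (m : ℤ) (a : A), m ≠ 0 → m • a = 0 → a = 0)
    (φ : (constantSheaf J AddCommGrpCat.{u}).obj (AddCommGrpCat.of (ULift.{u} ℤ)) ⟶
      (constantSheaf J AddCommGrpCat.{u}).obj (AddCommGrpCat.of (ULift.{u} ℤ)))
    {ι : Type u} (U : ι → C) (n : ι → ℤ) (hn : ∀ i, n i ≠ 0)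
    (hφ : ∀ (i : ι) (V : C) (_ : V ⟶ U i), φ.hom.app (op V) = n i • 𝟙 _)
    (hcov : ∀ V : C, ∃ R ∈ J V, ∀ ⦃W : C⦄ (g : W ⟶ V), R g → ∃ i, Nonempty (W ⟶ U i))
    (x : Sheaf.H ((constantSheaf J AddCommGrpCat.{u}).obj (AddCommGrpCat.of A)) 1)
    (hx : (Abelian.Ext.mk₀ φ).comp x (zero_add 1) = 0) :
    x = 0 := by
  classical
  let ιA : AddCommGrpCat.of A ⟶ AddCommGrpCat.of (DD A) := AddCommGrpCat.ofHom toD
  have hinj := Groth.Agent.S13791.result J (toD (A := A)) (toD_injective hA)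
  apply hinj
  rw [map_zero, Sheaf.H.map_apply]
  -- the class with coefficients in the divisible hull
  set F : Sheaf J AddCommGrpCat.{u} :=
    (constantSheaf J AddCommGrpCat.{u}).obj (AddCommGrpCat.of (DD A)) with hF
  set x' : Abelian.Ext (Zsh J) F 1 :=
    x.comp (Abelian.Ext.mk₀ ((constantSheaf J AddCommGrpCat.{u}).map ιA)) (add_zero 1) with hx'
  have hφx' : (Abelian.Ext.mk₀ φ).comp x' (zero_add 1) = 0 := by
    rw [hx', ← Abelian.Ext.comp_assoc (Abelian.Ext.mk₀ φ) x _ (zero_add 1) (add_zero 1) (by omega),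
      hx, Abelian.Ext.zero_comp]
  -- the injective embedding
  let S : ShortComplex (Sheaf J AddCommGrpCat.{u}) :=
    ShortComplex.mk (Injective.ι F) (cokernel.π (Injective.ι F)) (cokernel.condition _)
  have hS : S.ShortExact :=
    { exact := S.exact_of_g_is_cokernel (cokernelIsCokernel _)
      mono_f := inferInstanceAs (Mono (Injective.ι F))
      epi_g := inferInstanceAs (Epi (cokernel.π (Injective.ι F))) }
  have h0 : x'.comp (Abelian.Ext.mk₀ S.f) (add_zero 1) = 0 :=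
    Abelian.Ext.eq_zero_of_injective _
  obtain ⟨x₃, hx₃⟩ := Abelian.Ext.covariant_sequence_exact₁ _ hS x' h0 (zero_add 1)
  obtain ⟨b₀, rfl⟩ := (Abelian.Ext.mk₀_bijective _ _).2 x₃
  have h1 : (Abelian.Ext.mk₀ (φ ≫ b₀)).comp hS.extClass (zero_add 1) = 0 := by
    rw [← Abelian.Ext.mk₀_comp_mk₀_assoc φ b₀ hS.extClass, hx₃]
    exact hφx'
  obtain ⟨t, ht⟩ := Abelian.Ext.covariant_sequence_exact₃ _ hS _ (zero_add 1) h1
  obtain ⟨t₀, rfl⟩ := (Abelian.Ext.mk₀_bijective _ _).2 t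
  rw [Abelian.Ext.mk₀_comp_mk₀] at ht
  have ht' : t₀ ≫ S.g = φ ≫ b₀ := (Abelian.Ext.mk₀_bijective _ _).1 ht
  -- apply the core
  have hisoD : ∀ m : ℤ, m ≠ 0 → IsIso (m • 𝟙 F : F ⟶ F) := by
    intro m hm
    have := isIso_zsmul (A := A) m hm
    have e : (constantSheaf J AddCommGrpCat.{u}).map
        (m • 𝟙 (AddCommGrpCat.of (DD A)) : AddCommGrpCat.of (DD A) ⟶ AddCommGrpCat.of (DD A)) =
          (m • 𝟙 F : F ⟶ F) := by
      rw [Functor.map_zsmul, CategoryTheory.Functor.map_id]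
    rw [← e]
    infer_instance
  have hmonoZ : ∀ m : ℤ, m ≠ 0 → Mono (m • 𝟙 (Zsh J) : Zsh J ⟶ Zsh J) := by
    intro m hm
    have := mono_zsmul_Z.{u} m hm
    have e : (constantSheaf J AddCommGrpCat.{u}).map
        (m • 𝟙 Zc : Zc ⟶ Zc) = (m • 𝟙 (Zsh J) : Zsh J ⟶ Zsh J) := by
      rw [Functor.map_zsmul, CategoryTheory.Functor.map_id]
    rw [← e]
    infer_instance
  obtain ⟨s₀, hs₀⟩ := core (J := J) S.f S.g
    (fun W d => by
      have h := congrArg (fun (m : S.X₁ ⟶ S.X₃) => (m.hom.app (op W)).hom d) S.zero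
      exact h)
    (fun W => haveI := hS.mono_f; injective_of_mono S.f W)
    (fun W y hy => exact_sections S hS W y hy)
    (fun W b => haveI := hS.epi_g; locally_surj S.g W b)
    (fun W m hm d => haveI := hisoD m hm; div_of_isIso F m W d)
    (fun W m hm d hd => haveI := hisoD m hm; tf_of_mono F m W d hd)
    (fun W m hm d hd => haveI := hmonoZ m hm; tf_of_mono (Zsh J) m W d hd)
    φ b₀ t₀ ht' U n hn hφ hcov
  rw [← hx₃, ← hs₀, ← Abelian.Ext.mk₀_comp_mk₀_assoc s₀ S.g hS.extClass, hS.comp_extClass,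
    Abelian.Ext.comp_zero]


end Groth.Agent.S13799
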