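import Groth.Statements.S6848
import Groth.Agent.Lib.Helper10.PresLocal
import Groth.Agent.Lib.Helper10.GermSp
import Groth.Agent.S13799

set_option autoImplicit false
set_option linter.unusedSectionVars false
set_option linter.unusedVariables false
universe u
open CategoryTheory CategoryTheory.Limits TopologicalSpace
open ModSite

namespace Groth.Agent.S6848

open Opposite
open Groth.Agent.Helper17.MT Groth.Agent.Helper17.GN Groth.Agent.Helper17.FS
open Groth.Agent.Helper10.PresRel Groth.Agent.Helper10.PresLocal Groth.Agent.Helper10.GermSp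

section Space

variable {X : TopCat.{u}} (O : TopCat.Sheaf CommRingCat.{u} X)

theorem eq_zero_of_locally (M : ModSite.Mod O) (W : Opens X) (m : ModSite.sect M W)
    (h : ∀ y ∈ W, ∃ (W' : Opens X) (g : W' ⟶ W), y ∈ W' ∧ res M g m = 0) : m = 0 := by
  let S : Sieve W :=
    { arrows := fun V g => res M g m = 0
      downward_closed := by
        intro V V' g hg g'
        show res M (g' ≫ g) m = 0
        rw [res_comp, hg]
        exact res_zero M g' }
  refine Groth.Agent.S13799.sep (Opens.grothendieckTopology X) (ModSite.toAb M) S ?_ m 0 ?_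
  · intro y hy
    obtain ⟨W', g, hyW', hg⟩ := h y hy
    exact ⟨W', g, hg, hyW'⟩
  · intro V g hg
    exact hg.trans (res_zero M g).symm

theorem ring_eq_zero_of_locally (W : Opens X) (a : O.obj.obj (op W))
    (h : ∀ y ∈ W, ∃ (W' : Opens X) (g : W' ⟶ W), y ∈ W' ∧ rres g a = 0) : a = 0 :=
  eq_zero_of_locally O (ModSite.unit O) W a h

theorem core (F : ModSite.Mod O) (V : Opens X) {Kg Kr Ib : Type u}
    [Fintype Kg] [DecidableEq Kg] [Fintype Kr] [DecidableEq Kr] [Fintype Ib] [DecidableEq Ib]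
    (f : Kg → ModSite.sect F V) (rr : Kr → Kg → O.obj.obj (op V)) (b : Ib → ModSite.sect F V)
    (A : Kg → Ib → O.obj.obj (op V)) (B : Ib → Kg → O.obj.obj (op V))
    (hgen : ∀ (W : Opens X) (a : W ⟶ V) (m : ModSite.sect F W) (y : X), y ∈ W →
      ∃ (W' : Opens X) (h : W' ⟶ W), y ∈ W' ∧ ∃ c : Kg → O.obj.obj (op W'),
        res F h m = ∑ k, c k • res F (h ≫ a) (f k))
    (hrelgen : ∀ (W : Opens X) (a : W ⟶ V) (v : Kg → O.obj.obj (op W)) (y : X), y ∈ W →
      ∑ k, v k • res F a (f k) = 0 →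
      ∃ (W' : Opens X) (h : W' ⟶ W), y ∈ W' ∧ ∃ d : Kr → O.obj.obj (op W'),
        ∀ k, rres h (v k) = ∑ e, d e * rres (h ≫ a) (rr e k))
    (E1 : ∀ k, f k = ∑ i, A k i • b i)
    (E2 : ∀ i, b i = ∑ k, B i k • f k)
    (Ea : ∀ e i, ∑ k, rr e k * A k i = 0)
    (Eb : ∀ i j, ∑ k, B i k * A k j = if i = j then 1 else 0) :
    Nonempty ((ModSite.restr O V).obj F ≅ SheafOfModules.free Ib) := by
  -- generation by the `b i`
  have gen' : ∀ (W : Opens X) (a : W ⟶ V) (m : ModSite.sect F W) (y : X), y ∈ W →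
      ∃ (W' : Opens X) (h : W' ⟶ W), y ∈ W' ∧ ∃ c : Ib → O.obj.obj (op W'),
        res F h m = ∑ i, c i • res F (h ≫ a) (b i) := by
    intro W a m y hy
    obtain ⟨W', h, hyW', c, hc⟩ := hgen W a m y hy
    refine ⟨W', h, hyW', fun i => ∑ k, c k * rres (h ≫ a) (A k i), ?_⟩
    rw [hc]
    have e1 : ∀ k, c k • res F (h ≫ a) (f k) =
        ∑ i, (c k * rres (h ≫ a) (A k i)) • res F (h ≫ a) (b i) := by
      intro k
      rw [E1 k, res_sum, Finset.smul_sum]
      refine Finset.sum_congr rfl (fun i _ => ?_)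
      rw [res_smul, smul_smul]
    rw [Finset.sum_congr rfl (fun k _ => e1 k), Finset.sum_comm]
    refine Finset.sum_congr rfl (fun i _ => ?_)
    rw [Finset.sum_smul]
  -- independence of the `b i`
  have ind : ∀ (W : Opens X) (a : W ⟶ V) (c : Ib → O.obj.obj (op W)),
      ∑ i, c i • res F a (b i) = 0 → ∀ j, c j = 0 := by
    intro W a c hc j
    have hv : ∑ k, (∑ i, c i * rres a (B i k)) • res F a (f k) = 0 := by
      refine Eq.trans ?_ hc
      have e1 : ∀ i, c i • res F a (b i) = ∑ k, (c i * rres a (B i k)) • res F a (f k) := by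
        intro i
        rw [E2 i, res_sum, Finset.smul_sum]
        refine Finset.sum_congr rfl (fun k _ => ?_)
        rw [res_smul, smul_smul]
      rw [Finset.sum_congr rfl (fun i _ => e1 i), Finset.sum_comm]
      refine Finset.sum_congr rfl (fun k _ => ?_)
      rw [Finset.sum_smul]
    apply ring_eq_zero_of_locally O W (c j)
    intro y hy
    obtain ⟨W', h, hyW', d, hd⟩ := hrelgen W a (fun k => ∑ i, c i * rres a (B i k)) y hy hv
    refine ⟨W', h, hyW', ?_⟩
    -- compute `rres h (c j)`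
    have key : rres h (c j) = ∑ k, rres h (∑ i, c i * rres a (B i k)) * rres (h ≫ a) (A k j) := by
      have e2 : ∀ k, rres h (∑ i, c i * rres a (B i k)) * rres (h ≫ a) (A k j) =
          ∑ i, rres h (c i) * (rres (h ≫ a) (B i k) * rres (h ≫ a) (A k j)) := by
        intro k
        rw [rres_sum, Finset.sum_mul]
        refine Finset.sum_congr rfl (fun i _ => ?_)
        rw [rres_mul, ← rres_comp, mul_assoc]
      rw [Finset.sum_congr rfl (fun k _ => e2 k), Finset.sum_comm]
      have e3 : ∀ i, ∑ k, rres h (c i) * (rres (h ≫ a) (B i k) * rres (h ≫ a) (A k j)) =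
          rres h (c i) * (if i = j then 1 else 0) := by
        intro i
        rw [← Finset.mul_sum]
        congr 1
        have e4 := congrArg (rres (h ≫ a)) (Eb i j)
        rw [rres_sum] at e4
        refine Eq.trans (Finset.sum_congr rfl (fun k _ => ?_)) (e4.trans ?_)
        · rw [rres_mul]
        · split_ifs
          · exact map_one (O.obj.map (h ≫ a).op).hom
          · exact rres_zero _
      rw [Finset.sum_congr rfl (fun i _ => e3 i)]
      simp
    rw [key]
    have e5 : ∀ k, rres h (∑ i, c i * rres a (B i k)) * rres (h ≫ a) (A k j) =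
        ∑ e, d e * (rres (h ≫ a) (rr e k) * rres (h ≫ a) (A k j)) := by
      intro k
      rw [hd k, Finset.sum_mul]
      refine Finset.sum_congr rfl (fun e _ => ?_)
      rw [mul_assoc]
    rw [Finset.sum_congr rfl (fun k _ => e5 k), Finset.sum_comm]
    refine Finset.sum_eq_zero (fun e _ => ?_)
    rw [← Finset.mul_sum]
    have e6 := congrArg (rres (h ≫ a)) (Ea e j)
    rw [rres_sum, rres_zero] at e6
    have e7 : ∑ k, rres (h ≫ a) (rr e k) * rres (h ≫ a) (A k j) = 0 := by
      refine Eq.trans (Finset.sum_congr rfl (fun k _ => ?_)) e6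
      rw [rres_mul]
    rw [e7, mul_zero]
  let F' : ModSite.Mod (O.over V) := (ModSite.restr O V).obj F
  let s : Ib → F'.sections := fun i => secOf O V F (b i)
  have hepi : Epi (πS (O.over V) F' s) := epi_πS_of_pointwise O F V b gen'
  have hmono : Mono (πS (O.over V) F' s) := by
    apply (SheafOfModules.forget _).mono_of_mono_map
    apply PresheafOfModules.mono_of_injective
    intro Y
    rw [injective_iff_map_eq_zero]
    intro w hw
    let c : Ib → O.obj.obj (op Y.unop.left) := fun i => cc (O.over V) i w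
    have hw' : ∑ i, c i • res F Y.unop.hom (b i) = 0 := by
      have e0 : ((πS (O.over V) F' s).val.app (op Y.unop)).hom w = 0 := hw
      rw [eq_sum_cB (O.over V) w, map_sum] at e0
      refine Eq.trans (Finset.sum_congr rfl (fun i _ => ?_)) e0
      refine Eq.trans ?_ (((πS (O.over V) F' s).val.app (op Y.unop)).hom.map_smul _ _).symm
      congr 1
      exact ((πS_eB (O.over V) F' s i Y.unop).trans (secAt_secOf O V F (b i) Y.unop)).symm
    have hc := ind Y.unop.left Y.unop.hom c hw'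
    rw [eq_sum_cB (O.over V) w]
    refine Finset.sum_eq_zero (fun i _ => ?_)
    have e1 : cB (O.over V) i w = 0 := hc i
    rw [e1, zero_smul]
    rfl
  have hiso : IsIso (πS (O.over V) F' s) := isIso_of_mono_of_epi _
  exact ⟨(asIso (πS (O.over V) F' s)).symm⟩

theorem gm_sub (x : X) (F : ModSite.Mod O) {U : Opens X} (hx : x ∈ U) (s t : ModSite.sect F U) :
    gm x F hx (s - t) = gm x F hx s - gm x F hx t :=
  map_sub ((pt x).toPresheafFiber U (fibElt x U hx) (ModSite.toAb F).obj).hom s t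

theorem gm_eq (x : X) (F : ModSite.Mod O) {U : Opens X} (hx : x ∈ U) (s t : ModSite.sect F U)
    (h : gm x F hx s = gm x F hx t) :
    ∃ (V : Opens X) (g : V ⟶ U), x ∈ V ∧ res F g s = res F g t := by
  have h0 : gm x F hx (s - t) = 0 := by rw [gm_sub, h, sub_self]
  obtain ⟨V, g, hxV, hg⟩ := gm_eq_zero x F hx (s - t) h0
  refine ⟨V, g, hxV, ?_⟩
  rw [res_sub] at hg
  exact sub_eq_zero.mp hg

section Stalk

variable (x : X) (F : ModSite.Mod O) {Ib : Type u} [Fintype Ib] [DecidableEq Ib]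
  (e : ModSite.stalkMod (pt x) F ≃ₗ[ModSite.stalkRing (pt x) O] (Ib → ModSite.stalkRing (pt x) O))

/-- the basis of the stalk -/
noncomputable def β (i : Ib) : ModSite.stalkMod (pt x) F := e.symm (Pi.single i 1)

theorem e_comb (γ : Ib → ModSite.stalkRing (pt x) O) :
    e (∑ i, γ i • β O x F e i) = γ := by
  rw [map_sum]
  simp_rw [map_smul]
  unfold β
  simp_rw [LinearEquiv.apply_symm_apply]
  funext j
  rw [Finset.sum_apply]
  simp [Pi.single_apply]

theorem eq_comb (v : ModSite.stalkMod (pt x) F) : v = ∑ i, e v i • β O x F e i := by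
  apply e.injective
  rw [e_comb]

theorem comb_inj (γ γ' : Ib → ModSite.stalkRing (pt x) O)
    (h : ∑ i, γ i • β O x F e i = ∑ i, γ' i • β O x F e i) : γ = γ' := by
  have := congrArg e h
  rwa [e_comb, e_comb] at this

end Stalk

theorem main (x : X) (F : ModSite.Mod O)
    [SheafOfModules.IsFinitePresentation (R := ModSite.ringSh O) F]
    {Ib : Type u} [Fintype Ib] [DecidableEq Ib]
    (e : ModSite.stalkMod (pt x) F ≃ₗ[ModSite.stalkRing (pt x) O]
      (Ib → ModSite.stalkRing (pt x) O)) :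
    ∃ U : Opens X, x ∈ U ∧
      Nonempty ((ModSite.restr O U).obj F ≅ SheafOfModules.free Ib) := by
  classical
  obtain ⟨UF, hxF, Kg, Kr, _, _, _, _, f₀, rr₀, hgen, hrel, hrelgen⟩ :=
    exists_presentation_near O F x
  obtain ⟨U₁, _, hxU₁, b₁, hb₁⟩ := gm_surj_finite x F (β O x F e) ⊤ trivial
  obtain ⟨U₃, _, hxU₃, A₃, hA₃⟩ := gr_surj_finite (O := O) x
    (fun ki : Kg × Ib => e (gm x F hxF (f₀ ki.1)) ki.2) ⊤ trivial
  -- first common neighbourhood
  let V₀ : Opens X := U₁ ⊓ (UF ⊓ U₃)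
  have hxV₀ : x ∈ V₀ := ⟨hxU₁, hxF, hxU₃⟩
  let a₁ : V₀ ⟶ U₁ := homOfLE inf_le_left
  let aF : V₀ ⟶ UF := homOfLE (inf_le_right.trans inf_le_left)
  let a₃ : V₀ ⟶ U₃ := homOfLE (inf_le_right.trans inf_le_right)
  -- the matrix `B` near `x`
  obtain ⟨V₁, hxV₁, hV₁⟩ := exists_common_open x
    (fun (i : Ib) (V : Opens X) => ∃ (h : V ⟶ V₀) (B : Kg → O.obj.obj (op V)),
      res F (h ≫ a₁) (b₁ i) = ∑ k, B k • res F (h ≫ aF) (f₀ k))
    (by
      rintro i V V' hle ⟨h, B, hB⟩
      refine ⟨homOfLE hle ≫ h, fun k => rres (homOfLE hle) (B k), ?_⟩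
      have e0 := congrArg (res F (homOfLE hle)) hB
      rw [res_sum] at e0
      refine Eq.trans ?_ (e0.trans (Finset.sum_congr rfl (fun k _ => ?_)))
      · exact (res_res O F _ _ _ _).symm
      · rw [res_smul]
        congr 1
        exact res_res O F _ _ _ _)
    (by
      intro i
      obtain ⟨W', h, hxW', c, hc⟩ := hgen V₀ aF (res F a₁ (b₁ i)) x hxV₀
      refine ⟨W', hxW', h, c, ?_⟩
      rw [res_comp]
      exact hc)
  choose h₁ B₁ hB₁ using hV₁
  let V₂ : Opens X := V₁ ⊓ V₀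
  have hx₂ : x ∈ V₂ := ⟨hxV₁, hxV₀⟩
  let c₁ : V₂ ⟶ V₁ := homOfLE inf_le_left
  let c₀ : V₂ ⟶ V₀ := homOfLE inf_le_right
  let f : Kg → ModSite.sect F V₂ := fun k => res F (c₀ ≫ aF) (f₀ k)
  let b : Ib → ModSite.sect F V₂ := fun i => res F (c₀ ≫ a₁) (b₁ i)
  let A : Kg → Ib → O.obj.obj (op V₂) := fun k i => rres (c₀ ≫ a₃) (A₃ (k, i))
  let B : Ib → Kg → O.obj.obj (op V₂) := fun i k => rres c₁ (B₁ i k)
  let rr : Kr → Kg → O.obj.obj (op V₂) := fun e₀ k => rres (c₀ ≫ aF) (rr₀ e₀ k)
  have E2 : ∀ i, b i = ∑ k, B i k • f k := by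
    intro i
    have e0 := congrArg (res F c₁) (hB₁ i)
    rw [res_sum] at e0
    refine Eq.trans ?_ (e0.trans (Finset.sum_congr rfl (fun k _ => ?_)))
    · exact (res_res O F _ _ _ _).symm
    · rw [res_smul]
      congr 1
      exact res_res O F _ _ _ _
  have hrel' : ∀ e₀, ∑ k, rr e₀ k • f k = 0 := by
    intro e₀
    have e0 := congrArg (res F (c₀ ≫ aF)) (hrel e₀)
    rw [res_sum, res_zero] at e0
    refine Eq.trans (Finset.sum_congr rfl (fun k _ => ?_)) e0
    rw [res_smul]
  -- germs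
  have gb : ∀ i, gm x F hx₂ (b i) = β O x F e i := fun i =>
    (gm_res x F (c₀ ≫ a₁) hx₂ hxU₁ (b₁ i)).trans (hb₁ i)
  have gA : ∀ k i, gr x hx₂ (A k i) = e (gm x F hx₂ (f k)) i := by
    intro k i
    refine (gr_res x (c₀ ≫ a₃) hx₂ hxU₃ (A₃ (k, i))).trans ((hA₃ (k, i)).trans ?_)
    change e (gm x F hxF (f₀ k)) i = _
    rw [gm_res x F (c₀ ≫ aF) hx₂ hxF (f₀ k)]
  have gf : ∀ k, gm x F hx₂ (f k) = ∑ i, gr x hx₂ (A k i) • β O x F e i := by
    intro k
    refine (eq_comb O x F e (gm x F hx₂ (f k))).trans (Finset.sum_congr rfl (fun i _ => ?_))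
    rw [gA]
  have G1 : ∀ k, gm x F hx₂ (f k) = gm x F hx₂ (∑ i, A k i • b i) := by
    intro k
    rw [gf k, gm_sum]
    refine Finset.sum_congr rfl (fun i _ => ?_)
    rw [gm_smul, gb]
  have Ga : ∀ (e₀ : Kr) (i : Ib), gr x hx₂ (∑ k, rr e₀ k * A k i) = gr x hx₂ 0 := by
    intro e₀ i
    have e0 := congrArg (gm x F hx₂) (hrel' e₀)
    rw [gm_sum, gm_zero] at e0
    have e1 : ∀ k, gm x F hx₂ (rr e₀ k • f k) =
        ∑ i, (gr x hx₂ (rr e₀ k) * gr x hx₂ (A k i)) • β O x F e i := by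
      intro k
      rw [gm_smul, gf k, Finset.smul_sum]
      refine Finset.sum_congr rfl (fun i _ => ?_)
      rw [smul_smul]
    rw [Finset.sum_congr rfl (fun k _ => e1 k), Finset.sum_comm] at e0
    have e2 : ∑ i, (∑ k, gr x hx₂ (rr e₀ k) * gr x hx₂ (A k i)) • β O x F e i =
        ∑ i, (0 : ModSite.stalkRing (pt x) O) • β O x F e i := by
      refine Eq.trans (Finset.sum_congr rfl (fun i _ => ?_)) (e0.trans ?_)
      · rw [Finset.sum_smul]
      · simp
    have e3 := congrFun (comb_inj O x F e _ _ e2) i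
    rw [gr_sum, gr_zero]
    refine Eq.trans (Finset.sum_congr rfl (fun k _ => ?_)) e3
    rw [gr_mul]
  have Gb : ∀ (i j : Ib), gr x hx₂ (∑ k, B i k * A k j) =
      gr x hx₂ (if i = j then 1 else 0) := by
    intro i j
    have e0 := congrArg (gm x F hx₂) (E2 i)
    rw [gb, gm_sum] at e0
    have e1 : ∀ k, gm x F hx₂ (B i k • f k) =
        ∑ j, (gr x hx₂ (B i k) * gr x hx₂ (A k j)) • β O x F e j := by
      intro k
      rw [gm_smul, gf k, Finset.smul_sum]
      refine Finset.sum_congr rfl (fun j _ => ?_)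
      rw [smul_smul]
    rw [Finset.sum_congr rfl (fun k _ => e1 k), Finset.sum_comm] at e0
    have e2 : ∑ j, (∑ k, gr x hx₂ (B i k) * gr x hx₂ (A k j)) • β O x F e j =
        ∑ j, (if i = j then (1 : ModSite.stalkRing (pt x) O) else 0) • β O x F e j := by
      refine Eq.trans (Finset.sum_congr rfl (fun j _ => ?_)) (e0.symm.trans ?_)
      · rw [Finset.sum_smul]
      · simp
    have e3 := congrFun (comb_inj O x F e _ _ e2) j
    rw [gr_sum]
    refine Eq.trans (Finset.sum_congr rfl (fun k _ => ?_)) (e3.trans ?_)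
    · rw [gr_mul]
    · split_ifs
      · exact (gr_one x hx₂).symm
      · exact (gr_zero x hx₂).symm
  -- neighbourhoods on which the equations hold
  obtain ⟨W1, hxW1, hW1⟩ := exists_common_open x
    (fun (k : Kg) (V : Opens X) => ∃ h : V ⟶ V₂,
      res F h (f k) = res F h (∑ i, A k i • b i))
    (by
      rintro k V V' hle ⟨h, hh⟩
      refine ⟨homOfLE hle ≫ h, ?_⟩
      rw [res_comp, res_comp, hh])
    (by
      intro k
      obtain ⟨V, g, hxV, hg⟩ := gm_eq O x F hx₂ _ _ (G1 k)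
      exact ⟨V, hxV, g, hg⟩)
  obtain ⟨Wa, hxWa, hWa⟩ := exists_common_open x
    (fun (ei : Kr × Ib) (V : Opens X) => ∃ h : V ⟶ V₂,
      rres h (∑ k, rr ei.1 k * A k ei.2) = rres h 0)
    (by
      rintro ei V V' hle ⟨h, hh⟩
      refine ⟨homOfLE hle ≫ h, ?_⟩
      rw [rres_comp, rres_comp, hh])
    (by
      intro ei
      obtain ⟨V, g, hxV, hg⟩ := gr_eq x hx₂ _ _ (Ga ei.1 ei.2)
      exact ⟨V, hxV, g, hg⟩)
  obtain ⟨Wb, hxWb, hWb⟩ := exists_common_open x
    (fun (ij : Ib × Ib) (V : Opens X) => ∃ h : V ⟶ V₂,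
      rres h (∑ k, B ij.1 k * A k ij.2) = rres h (if ij.1 = ij.2 then 1 else 0))
    (by
      rintro ij V V' hle ⟨h, hh⟩
      refine ⟨homOfLE hle ≫ h, ?_⟩
      rw [rres_comp, rres_comp, hh])
    (by
      intro ij
      obtain ⟨V, g, hxV, hg⟩ := gr_eq x hx₂ _ _ (Gb ij.1 ij.2)
      exact ⟨V, hxV, g, hg⟩)
  choose g1 hg1 using hW1
  choose ga hga using hWa
  choose gb' hgb using hWb
  let V : Opens X := W1 ⊓ (Wa ⊓ (Wb ⊓ V₂))
  have hxV : x ∈ V := ⟨hxW1, hxWa, hxWb, hx₂⟩
  let g : V ⟶ V₂ := homOfLE (inf_le_right.trans (inf_le_right.trans inf_le_right))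
  let t1 : V ⟶ W1 := homOfLE inf_le_left
  let ta : V ⟶ Wa := homOfLE (inf_le_right.trans inf_le_left)
  let tb : V ⟶ Wb := homOfLE (inf_le_right.trans (inf_le_right.trans inf_le_left))
  have E1' : ∀ k, res F g (f k) = res F g (∑ i, A k i • b i) := by
    intro k
    have hg : g = t1 ≫ g1 k := Subsingleton.elim _ _
    rw [hg, res_comp, res_comp, hg1 k]
  have Ea' : ∀ e₀ i, rres g (∑ k, rr e₀ k * A k i) = 0 := by
    intro e₀ i
    have hg : g = ta ≫ ga (e₀, i) := Subsingleton.elim _ _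
    rw [hg, rres_comp, hga (e₀, i), rres_zero, rres_zero]
  have Eb' : ∀ i j, rres g (∑ k, B i k * A k j) = rres g (if i = j then 1 else 0) := by
    intro i j
    have hg : g = tb ≫ gb' (i, j) := Subsingleton.elim _ _
    rw [hg, rres_comp, hgb (i, j), ← rres_comp]
  let gF : V ⟶ UF := g ≫ c₀ ≫ aF
  refine ⟨V, hxV, ?_⟩
  refine core O F V (fun k => res F g (f k)) (fun e₀ k => rres g (rr e₀ k))
    (fun i => res F g (b i)) (fun k i => rres g (A k i)) (fun i k => rres g (B i k))
    ?_ ?_ ?_ ?_ ?_ ?_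
  · intro W a m y hy
    obtain ⟨W', h, hyW', c, hc⟩ := hgen W (a ≫ gF) m y hy
    refine ⟨W', h, hyW', c, hc.trans (Finset.sum_congr rfl (fun k _ => ?_))⟩
    congr 1
    change _ = res F (h ≫ a) (res F g (res F (c₀ ≫ aF) (f₀ k)))
    rw [res_res O F g (c₀ ≫ aF) gF (f₀ k)]
    exact (res_res O F _ _ _ _).symm
  · intro W a v y hy hv
    have hv' : ∑ k, v k • res F (a ≫ gF) (f₀ k) = 0 := by
      refine Eq.trans (Finset.sum_congr rfl (fun k _ => ?_)) hv
      congr 1
      change _ = res F a (res F g (res F (c₀ ≫ aF) (f₀ k)))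
      rw [res_res O F g (c₀ ≫ aF) gF (f₀ k)]
      exact (res_res O F _ _ _ _).symm
    obtain ⟨W', h, hyW', d, hd⟩ := hrelgen W (a ≫ gF) v y hy hv'
    refine ⟨W', h, hyW', d, fun k => (hd k).trans (Finset.sum_congr rfl (fun e₀ _ => ?_))⟩
    congr 1
    change _ = rres (h ≫ a) (rres g (rres (c₀ ≫ aF) (rr₀ e₀ k)))
    rw [← rres_comp, ← rres_comp]
    congr 1
  · intro k
    rw [E1' k, res_sum]
    refine Finset.sum_congr rfl (fun i _ => ?_)
    rw [res_smul]
  · intro i
    have e0 := congrArg (res F g) (E2 i)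
    rw [res_sum] at e0
    refine e0.trans (Finset.sum_congr rfl (fun k _ => ?_))
    rw [res_smul]
  · intro e₀ i
    have e0 := Ea' e₀ i
    rw [rres_sum] at e0
    refine Eq.trans (Finset.sum_congr rfl (fun k _ => ?_)) e0
    rw [rres_mul]
  · intro i j
    have e0 := Eb' i j
    rw [rres_sum] at e0
    refine Eq.trans (Finset.sum_congr rfl (fun k _ => ?_)) (e0.trans ?_)
    · rw [rres_mul]
    · split_ifs
      · exact map_one (O.obj.map g.op).hom
      · exact rres_zero _

end Space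

/-- On a ringed space (X, O), let F be an O-module of finite presentation and x a point with F_x ≅
O_{X,x}^r as O_{X,x}-modules (stalks are taken at the point of the site of opens of X given by x).
Then there is an open neighbourhood U of x with F|_U ≅ O_U^r, the free O_U-module on r generators. -/
theorem result {X : TopCat.{u}} (O : TopCat.Sheaf CommRingCat.{u} X)
    (F : ModSite.Mod O) [SheafOfModules.IsFinitePresentation (R := ModSite.ringSh O) F] (x : X) (r : ℕ)
    (hx : Nonempty (ModSite.stalkMod (Opens.pointGrothendieckTopology x) F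
      ≃ₗ[ModSite.stalkRing (Opens.pointGrothendieckTopology x) O]
        (Fin r → ModSite.stalkRing (Opens.pointGrothendieckTopology x) O))) :
    ∃ U : Opens X, x ∈ U ∧ Nonempty ((ModSite.restr O U).obj F ≅ SheafOfModules.free (ULift.{u} (Fin r))) := by
  obtain ⟨e⟩ := hx
  exact main O x F (e.trans (LinearEquiv.funCongrLeft _ _ Equiv.ulift))

end Groth.Agent.S6848
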