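import Groth.Statements.S6846
import Groth.Agent.S6848

set_option autoImplicit false
set_option linter.unusedSectionVars false
set_option linter.unusedVariables false
universe u
open CategoryTheory CategoryTheory.Limits TopologicalSpace
open ModSite

namespace Groth.Agent.S6846

open Opposite
open Groth.Agent.Helper17.MT Groth.Agent.Helper17.GN Groth.Agent.Helper17.FS
open Groth.Agent.Helper10.PresRel Groth.Agent.Helper10.PresLocal Groth.Agent.Helper10.GermSp

section PGsec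

variable {X : TopCat.{u}} (O : TopCat.Sheaf CommRingCat.{u} X)

/-- pointwise generation by finitely many sections -/
def PG (M : ModSite.Mod O) (U : Opens X) {K : Type u} [Fintype K] (σ : K → ModSite.sect M U) :
    Prop :=
  ∀ (W : Opens X) (a : W ⟶ U) (m : ModSite.sect M W) (y : X), y ∈ W →
    ∃ (W' : Opens X) (h : W' ⟶ W), y ∈ W' ∧ ∃ c : K → O.obj.obj (op W'),
      res M h m = ∑ k, c k • res M (h ≫ a) (σ k)

theorem exists_PG (M : ModSite.Mod O) [SheafOfModules.IsFiniteType (R := ModSite.ringSh O) M]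
    (x : X) : ∃ (U : Opens X) (_ : x ∈ U) (K : Type u) (_ : Fintype K) (_ : DecidableEq K)
      (σ : K → ModSite.sect M U), PG O M U σ := by
  obtain ⟨U₀, hx, K, hK, hK', s, hs⟩ := exists_generators_near O M x
  exact ⟨U₀, hx, K, hK, hK', _, loc_comb_space O M U₀ s⟩

theorem isFiniteType_of_PG (M : ModSite.Mod O)
    (h : ∀ x : X, ∃ (U : Opens X) (_ : x ∈ U) (K : Type u) (_ : Fintype K) (_ : DecidableEq K)
      (σ : K → ModSite.sect M U), PG O M U σ) :
    SheafOfModules.IsFiniteType (R := ModSite.ringSh O) M := by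
  apply isFiniteType_of_local O M
  intro x
  obtain ⟨U, hx, K, hK, hK', σ, hσ⟩ := h x
  exact ⟨U, hx, K, hK, hK', _, epi_πS_of_pointwise O M U σ hσ⟩

end PGsec

section Push

variable {Z X : TopCat.{u}} (i : Z ⟶ X)
    (O_Z : TopCat.Sheaf CommRingCat.{u} Z) (O_X : TopCat.Sheaf CommRingCat.{u} X)
    (c : O_X ⟶ ((TopologicalSpace.Opens.map i).sheafPushforwardContinuous CommRingCat.{u}
      (Opens.grothendieckTopology X) (Opens.grothendieckTopology Z)).obj O_Z)
    (F : ModSite.Mod O_Z)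

/-- the pushforward module -/
noncomputable abbrev N : ModSite.Mod O_X :=
  (ModSite.RMor.ofFlat (TopologicalSpace.Opens.map i) c).push.obj F

/-- the comorphism on sections -/
noncomputable def cc' (V : Opens X) (b : O_X.obj.obj (op V)) :
    O_Z.obj.obj (op ((Opens.map i).obj V)) :=
  (c.hom.app (op V)).hom b

example (V : Opens X) : ModSite.sect (N i O_Z O_X c F) V = ModSite.sect F ((Opens.map i).obj V) := rfl

theorem res_N {V V' : Opens X} (g : V' ⟶ V) (n : ModSite.sect (N i O_Z O_X c F) V) :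
    res (N i O_Z O_X c F) g n = res F ((Opens.map i).map g) (show ModSite.sect F ((Opens.map i).obj V) from n) := rfl

theorem smul_N (V : Opens X) (b : O_X.obj.obj (op V)) (n : ModSite.sect (N i O_Z O_X c F) V) :
    b • n = (cc' i O_Z O_X c V b) • (show ModSite.sect F ((Opens.map i).obj V) from n) := rfl

theorem lift_c (hc : Sheaf.IsLocallySurjective c) (V : Opens X)
    (a : O_Z.obj.obj (op ((Opens.map i).obj V))) (y : X) (hy : y ∈ V) :
    ∃ (V' : Opens X) (g : V' ⟶ V), y ∈ V' ∧ ∃ b : O_X.obj.obj (op V'),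
      cc' i O_Z O_X c V' b = rres ((Opens.map i).map g) a := by
  have hmem := Presheaf.imageSieve_mem (Opens.grothendieckTopology X) c.hom (U := op V) a
  obtain ⟨V', g, ⟨b, hb⟩, hyV'⟩ := hmem y hy
  exact ⟨V', g, hyV', b, hb⟩

theorem cc'_res {V V' : Opens X} (g : V' ⟶ V) (b : O_X.obj.obj (op V)) :
    cc' i O_Z O_X c V' (rres g b) = rres ((Opens.map i).map g) (cc' i O_Z O_X c V b) := by
  have := NatTrans.naturality_apply c.hom g.op b
  exact this

theorem lift_c_fin (hc : Sheaf.IsLocallySurjective c) {K : Type u} [Fintype K] (V : Opens X)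
    (a : K → O_Z.obj.obj (op ((Opens.map i).obj V))) (y : X) (hy : y ∈ V) :
    ∃ (V' : Opens X) (g : V' ⟶ V), y ∈ V' ∧ ∃ b : K → O_X.obj.obj (op V'),
      ∀ k, cc' i O_Z O_X c V' (b k) = rres ((Opens.map i).map g) (a k) := by
  obtain ⟨W, hyW, hW⟩ := exists_common_open y
    (fun (k : K) (W : Opens X) => ∃ (g : W ⟶ V) (b : O_X.obj.obj (op W)),
      cc' i O_Z O_X c W b = rres ((Opens.map i).map g) (a k))
    (by
      rintro k W W' hle ⟨g, b, hb⟩
      refine ⟨homOfLE hle ≫ g, rres (homOfLE hle) b, ?_⟩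
      rw [cc'_res, hb, ← rres_comp]
      congr 1)
    (by
      intro k
      obtain ⟨V', g, hyV', b, hb⟩ := lift_c i O_Z O_X c hc V (a k) y hy
      exact ⟨V', hyV', g, b, hb⟩)
  choose g b hb using hW
  rcases isEmpty_or_nonempty K with hK | ⟨⟨k₀⟩⟩
  · have hWV : W ⊓ V ≤ V := inf_le_right
    exact ⟨W ⊓ V, homOfLE hWV, ⟨hyW, hy⟩, fun k => isEmptyElim k, fun k => isEmptyElim k⟩
  · refine ⟨W, g k₀, hyW, b, fun k => ?_⟩
    rw [hb k]
    congr 1

theorem exists_open_preimage_le (hi : Topology.IsClosedEmbedding i) (W : Opens Z) (z : Z)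
    (hz : z ∈ W) : ∃ V : Opens X, i z ∈ V ∧ (Opens.map i).obj V ≤ W := by
  obtain ⟨T, hT, hTW⟩ := hi.isEmbedding.isInducing.isOpen_iff.mp W.isOpen
  refine ⟨⟨T, hT⟩, ?_, ?_⟩
  · show i z ∈ T
    have : z ∈ i ⁻¹' T := by
      rw [hTW]
      exact hz
    exact this
  · intro w hw
    show w ∈ (W : Set Z)
    rw [← hTW]
    exact hw

theorem F_of_N (hi : Topology.IsClosedEmbedding i)
    [SheafOfModules.IsFiniteType (R := ModSite.ringSh O_X) (N i O_Z O_X c F)] :
    SheafOfModules.IsFiniteType (R := ModSite.ringSh O_Z) F := by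
  apply isFiniteType_of_PG O_Z F
  intro z
  obtain ⟨V₀, hxV₀, K, hK, hK', τ, hτ⟩ := exists_PG O_X (N i O_Z O_X c F) (i z)
  refine ⟨(Opens.map i).obj V₀, hxV₀, K, hK, hK', τ, ?_⟩
  intro W a m z' hz'
  obtain ⟨W₂, hW₂, hle⟩ := exists_open_preimage_le i hi W z' hz'
  let W₃ : Opens X := W₂ ⊓ V₀
  have hz'V₀ : i z' ∈ V₀ := leOfHom a hz'
  have hW₃ : i z' ∈ W₃ := ⟨hW₂, hz'V₀⟩
  let a₃ : W₃ ⟶ V₀ := homOfLE inf_le_right
  let e₃ : (Opens.map i).obj W₃ ⟶ W := homOfLE (fun w hw => hle hw.1)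
  let m' : ModSite.sect (N i O_Z O_X c F) W₃ := res F e₃ m
  obtain ⟨W', h, hyW', b, hb⟩ := hτ W₃ a₃ m' (i z') hW₃
  refine ⟨(Opens.map i).obj W', (Opens.map i).map h ≫ e₃, hyW',
    fun k => cc' i O_Z O_X c W' (b k), ?_⟩
  rw [res_comp]
  refine hb.trans ?_
  refine Finset.sum_congr rfl fun k _ => ?_
  show cc' i O_Z O_X c W' (b k) • res F ((Opens.map i).map (h ≫ a₃)) (τ k) = _
  congr 1

theorem N_of_F (hi : Topology.IsClosedEmbedding i) (hc : Sheaf.IsLocallySurjective c)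
    [SheafOfModules.IsFiniteType (R := ModSite.ringSh O_Z) F] :
    SheafOfModules.IsFiniteType (R := ModSite.ringSh O_X) (N i O_Z O_X c F) := by
  apply isFiniteType_of_PG O_X (N i O_Z O_X c F)
  intro x
  let Vc : Opens X := ⟨(Set.range i)ᶜ, hi.isClosed_range.isOpen_compl⟩
  by_cases hx : x ∈ Set.range i
  · obtain ⟨z, rfl⟩ := hx
    obtain ⟨U₀, hzU₀, K, hK, hK', σ, hσ⟩ := exists_PG O_Z F z
    obtain ⟨V₀, hV₀, hle⟩ := exists_open_preimage_le i hi U₀ z hzU₀
    let e₀ : (Opens.map i).obj V₀ ⟶ U₀ := homOfLE hle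
    refine ⟨V₀, hV₀, K, hK, hK', fun k => res F e₀ (σ k), ?_⟩
    intro W a m y hy
    by_cases hy' : y ∈ Set.range i
    · obtain ⟨z', rfl⟩ := hy'
      obtain ⟨W₁, h₁, hz'W₁, c₁, hc₁⟩ :=
        hσ ((Opens.map i).obj W) ((Opens.map i).map a ≫ e₀) m z' hy
      obtain ⟨W₂, hW₂, hle₂⟩ := exists_open_preimage_le i hi W₁ z' hz'W₁
      let W₃ : Opens X := W₂ ⊓ W
      have hW₃ : i z' ∈ W₃ := ⟨hW₂, hy⟩
      let a₃ : W₃ ⟶ W := homOfLE inf_le_right
      let e₃ : (Opens.map i).obj W₃ ⟶ W₁ := homOfLE (fun w hw => hle₂ hw.1)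
      obtain ⟨W', g, hyW', b, hb⟩ :=
        lift_c_fin i O_Z O_X c hc W₃ (fun k => rres e₃ (c₁ k)) (i z') hW₃
      refine ⟨W', g ≫ a₃, hyW', b, ?_⟩
      have e1 := congrArg (res F ((Opens.map i).map g ≫ e₃)) hc₁
      rw [res_sum] at e1
      refine Eq.trans ?_ (e1.trans (Finset.sum_congr rfl fun k _ => ?_))
      · show res F ((Opens.map i).map (g ≫ a₃)) m = _
        rw [← res_comp]
        congr 1
      · rw [res_smul]
        show _ = cc' i O_Z O_X c W' (b k) •
          res F ((Opens.map i).map ((g ≫ a₃) ≫ a)) (res F e₀ (σ k))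
        rw [hb k, ← rres_comp, ← res_comp, ← res_comp]
        congr 1
    · let W₃ : Opens X := W ⊓ Vc
      refine ⟨W₃, homOfLE inf_le_left, ⟨hy, hy'⟩, fun _ => 0, ?_⟩
      have hz : ∀ (n : ModSite.sect F ((Opens.map i).obj W₃)), n = 0 := fun n =>
        Groth.Agent.S6848.eq_zero_of_locally O_Z F _ n (fun w hw => absurd ⟨w, rfl⟩ hw.2)
      refine (hz _).trans ?_
      simp
      rfl
  · refine ⟨Vc, hx, PEmpty, inferInstance, inferInstance, fun k => k.elim, ?_⟩
    intro W a m y hy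
    refine ⟨W, 𝟙 W, hy, fun k => k.elim, ?_⟩
    have hm : ∀ (n : ModSite.sect F ((Opens.map i).obj W)), n = 0 := fun n =>
      Groth.Agent.S6848.eq_zero_of_locally O_Z F _ n
        (fun w hw => absurd ⟨w, rfl⟩ (leOfHom a hw))
    refine (hm _).trans ?_
    simp
    rfl

end Push

theorem result {Z X : TopCat.{u}} (i : Z ⟶ X)
    (O_Z : TopCat.Sheaf CommRingCat.{u} Z) (O_X : TopCat.Sheaf CommRingCat.{u} X)
    (c : O_X ⟶ ((TopologicalSpace.Opens.map i).sheafPushforwardContinuous CommRingCat.{u}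
      (Opens.grothendieckTopology X) (Opens.grothendieckTopology Z)).obj O_Z)
    (hi : Topology.IsClosedEmbedding i) (hc : Sheaf.IsLocallySurjective c) (F : ModSite.Mod O_Z) :
    SheafOfModules.IsFiniteType (R := ModSite.ringSh O_X)
        ((ModSite.RMor.ofFlat (TopologicalSpace.Opens.map i) c).push.obj F) ↔
      SheafOfModules.IsFiniteType (R := ModSite.ringSh O_Z) F := by
  constructor
  · intro h
    exact F_of_N i O_Z O_X c F hi
  · intro h
    exact N_of_F i O_Z O_X c F hi hc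

end Groth.Agent.S6846
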