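import Groth.Statements.S6638
import Mathlib
import Groth.Agent.Lib.Helper10.LanExact

set_option autoImplicit false
open CategoryTheory CategoryTheory.Limits AlgebraicGeometry Opposite
universe u
open BigSite

namespace Groth.Agent.S6638

section helpers

instance overMap_preservesPullbacks {C : Type*} [Category C] {X Y : C} (f : X ⟶ Y) :
    PreservesLimitsOfShape WalkingCospan (Over.map f) := by
  have : PreservesLimitsOfShape WalkingCospan (Over.map f ⋙ Over.forget Y) :=
    preservesLimitsOfShape_of_natIso (Over.mapForget f).symm
  exact preservesLimitsOfShape_of_reflects_of_preserves (Over.map f) (Over.forget Y)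

instance overMap_preservesEqualizers {C : Type*} [Category C] {X Y : C} (f : X ⟶ Y) :
    PreservesLimitsOfShape WalkingParallelPair (Over.map f) := by
  have : PreservesLimitsOfShape WalkingParallelPair (Over.map f ⋙ Over.forget Y) :=
    preservesLimitsOfShape_of_natIso (Over.mapForget f).symm
  exact preservesLimitsOfShape_of_reflects_of_preserves (Over.map f) (Over.forget Y)

end helpers

/-- Part (1): for the Zariski, etale, smooth and fppf topologies: for a morphism of schemes f : X ⟶ Y
the left adjoint f_big! of f_big⁻¹ on abelian sheaves of the big sites preserves finite limits,
hence is exact. (The left adjoint is the library's chosen one. The published statement also treats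
sheaves of modules and the syntomic topology; this row treats abelian sheaves for the Zariski,
etale, smooth and fppf topologies.) -/
theorem result {X Y : Scheme.{u}} (f : X ⟶ Y)
    (K : Precoverage Scheme.{u}) (hK : K = Scheme.zariskiPrecoverage ∨ K = Scheme.etalePrecoverage ∨
      K = Scheme.precoverage @Smooth ∨ K = Scheme.fppfPrecoverage) :
    PreservesFiniteLimits (BigSite.shriekAb K f) := by
  have : HasEqualizers (Over X) := inferInstance
  exact Groth.Agent.Helper10.LanExact.preservesFiniteLimits_sheafPullback_ab (Over.map f) _ _

end Groth.Agent.S6638
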