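import Groth.Statements.S0648
import Mathlib
import Groth.Agent.Lib.Helper10.LanExact
import Groth.Agent.S6638

set_option autoImplicit false
open CategoryTheory CategoryTheory.Limits AlgebraicGeometry Opposite
universe u
open EtCore

namespace Groth.Agent.S0648

section helpers

/-- `compEtale j` followed by the forgetful functor is the forgetful functor followed by
composition with `j`. -/
noncomputable def compEtaleForgetIso {U X : Scheme.{u}} (j : U ⟶ X) [AlgebraicGeometry.Etale j] :
    EtShriek.compEtale j ⋙ Scheme.Etale.forget X ≅ Scheme.Etale.forget U ⋙ Over.map j :=
  NatIso.ofComponents (fun V => Iso.refl _) (fun {V W} g => by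
    ext
    simp
    rfl)

theorem compEtale_preserves {U X : Scheme.{u}} (j : U ⟶ X) [AlgebraicGeometry.Etale j]
    (K : Type) [SmallCategory K] [FinCategory K] [PreservesLimitsOfShape K (Over.map j)] :
    PreservesLimitsOfShape K (EtShriek.compEtale j) := by
  have h1 : PreservesLimitsOfShape K (Scheme.Etale.forget U ⋙ Over.map j) := inferInstance
  have h2 : PreservesLimitsOfShape K (EtShriek.compEtale j ⋙ Scheme.Etale.forget X) :=
    preservesLimitsOfShape_of_natIso (compEtaleForgetIso j).symm
  exact preservesLimitsOfShape_of_reflects_of_preserves (EtShriek.compEtale j)
    (Scheme.Etale.forget X)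

end helpers

/-- For an etale morphism j : U -> X the extension by zero functor j_! on abelian sheaves preserves
finite limits (it is a left adjoint, so it is then exact). (Continuity of the composition functor of
etale sites, which always holds, is carried as an instance hypothesis.) -/
theorem result {U X : Scheme.{u}} (j : U ⟶ X) [AlgebraicGeometry.Etale j] [EtShriek.JCont j] :
    PreservesFiniteLimits (EtShriek.extZero j) := by
  have h1 := compEtale_preserves j WalkingCospan
  have h2 := compEtale_preserves j WalkingParallelPair
  exact Groth.Agent.Helper10.LanExact.preservesFiniteLimits_sheafPullback_ab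
    (EtShriek.compEtale j) _ _

end Groth.Agent.S0648
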