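import Groth.Statements.S5176
import Mathlib
import Groth.Agent.S0101
import Groth.Agent.S16463

set_option autoImplicit false
universe u
open CategoryTheory CategoryTheory.Limits AlgebraicGeometry Opposite
open EtDepth

namespace Groth.Agent.S5176

section helpers

section general

universe v₁ u₁ v₂ u₂

variable {C : Type u₁} [Category.{v₁} C] [Abelian C] [EnoughInjectives C]
  {D : Type u₂} [Category.{v₂} D] [Abelian D] (G : C ⥤ D) [G.Additive]

lemma isZero_shift (Δ : RDer.DerivedLES G) (S : ShortComplex C) (hS : S.ShortExact)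
    (h2 : ∀ p, IsZero ((G.rightDerived p).obj S.X₂)) (p : ℕ) :
    IsZero ((G.rightDerived (p + 1)).obj S.X₁) ↔ IsZero ((G.rightDerived p).obj S.X₃) := by
  constructor
  · intro h1
    have hex := Δ.exact₃ S hS p (p + 1) rfl
    exact hex.isZero_X₂ ((h2 p).eq_of_src _ _) (h1.eq_of_tgt _ _)
  · intro h3
    have hex := Δ.exact₁ S hS p (p + 1) rfl
    exact hex.isZero_X₂ (h3.eq_of_src _ _) ((h2 (p + 1)).eq_of_tgt _ _)

end general

variable {X U : Scheme.{u}} (j : U ⟶ X) [IsOpenImmersion j] [EtCoh.BCCont j]

lemma secSupp_map_ι {A B : EtCoh.Ab X} (f : A ⟶ B) :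
    (EtDual.secSupp j).map f ≫ kernel.ι (EtDual.unitApp j B) =
      kernel.ι (EtDual.unitApp j A) ≫ f := by
  simp

lemma mono_pushPull_map {A B : EtCoh.Ab X} (i : A ⟶ B) [Mono i] :
    Mono ((EtCoh.push j).map ((EtCoh.pull j).map i)) := by
  have hpull : PreservesFiniteLimits (EtCoh.pull j) := Groth.Agent.S0101.result j
  have : PreservesLimitsOfSize.{0, 0} (EtCoh.push j) :=
      (EtCoh.pullPushAdj j).rightAdjoint_preservesLimits
  have hpush : PreservesFiniteLimits (EtCoh.push j) :=
    PreservesLimitsOfSize.preservesFiniteLimits _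
  have h1 : (EtCoh.pull j).PreservesMonomorphisms := inferInstance
  have h2 : (EtCoh.push j).PreservesMonomorphisms := inferInstance
  have h3 : Mono ((EtCoh.pull j).map i) := (EtCoh.pull j).map_mono i
  exact (EtCoh.push j).map_mono _

noncomputable def secSupp_lift (S : ShortComplex (EtCoh.Ab X)) (hS : S.ShortExact) {W : EtCoh.Ab X}
    (t : W ⟶ kernel (EtDual.unitApp j S.X₂))
    (ht : t ≫ kernel.map (EtDual.unitApp j S.X₂) (EtDual.unitApp j S.X₃) S.g
      ((EtCoh.push j).map ((EtCoh.pull j).map S.g))
      ((EtCoh.pullPushAdj j).unit.naturality S.g).symm = 0) :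
    { l : W ⟶ kernel (EtDual.unitApp j S.X₁) //
      l ≫ kernel.map (EtDual.unitApp j S.X₁) (EtDual.unitApp j S.X₂) S.f
      ((EtCoh.push j).map ((EtCoh.pull j).map S.f))
      ((EtCoh.pullPushAdj j).unit.naturality S.f).symm = t } := by
  have := hS.mono_f
  have h1 : (t ≫ kernel.ι (EtDual.unitApp j S.X₂)) ≫ S.g = 0 := by
    have e := secSupp_map_ι j S.g
    rw [Category.assoc]
    erw [← e]
    rw [← Category.assoc]
    erw [ht]
    rw [zero_comp]
  let s : W ⟶ S.X₁ := hS.fIsKernel.lift (KernelFork.ofι _ h1)
  have hs : s ≫ S.f = t ≫ kernel.ι (EtDual.unitApp j S.X₂) :=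
    hS.fIsKernel.fac (KernelFork.ofι _ h1) WalkingParallelPair.zero
  have hTm := mono_pushPull_map j S.f
  have h2 : s ≫ EtDual.unitApp j S.X₁ = 0 := by
    rw [← cancel_mono ((EtCoh.push j).map ((EtCoh.pull j).map S.f)), zero_comp, Category.assoc]
    have nat := (EtCoh.pullPushAdj j).unit.naturality S.f
    simp only [Functor.id_obj, Functor.comp_obj, Functor.id_map, Functor.comp_map] at nat
    erw [← nat]
    rw [← Category.assoc, hs, Category.assoc]
    erw [kernel.condition]
    rw [comp_zero]
  refine ⟨kernel.lift _ s h2, ?_⟩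
  rw [← cancel_mono (kernel.ι (EtDual.unitApp j S.X₂))]
  have e := secSupp_map_ι j S.f
  rw [Category.assoc]
  erw [e]
  rw [← Category.assoc, kernel.lift_ι, hs]

lemma secSupp_left_exact : PreservesFiniteLimits (EtDual.secSupp j) := by
  rw [Functor.preservesFiniteLimits_iff_forall_exact_map_and_mono]
  intro S hS
  have := hS.mono_f
  refine (ShortComplex.exact_and_mono_f_iff_f_is_kernel (S.map (EtDual.secSupp j))).2 ?_
  have hmono : Mono ((EtDual.secSupp j).map S.f) := by
    have : Mono ((EtDual.secSupp j).map S.f ≫ kernel.ι (EtDual.unitApp j S.X₂)) := by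
      rw [secSupp_map_ι]
      infer_instance
    exact mono_of_mono _ (kernel.ι (EtDual.unitApp j S.X₂))
  refine ⟨KernelFork.IsLimit.ofι' (hi := hmono) _ _ ?_⟩
  intro W t ht
  exact secSupp_lift j S hS t ht

lemma exists_embedding (F : EtCoh.Ab X) (h : IsZero (kernel (EtDual.unitApp j F))) :
    ∃ (I : EtCoh.Ab X) (_ : Injective I) (a : F ⟶ I) (_ : Mono a),
      IsZero (kernel (EtDual.unitApp j I)) := by
  have hpull : PreservesFiniteLimits (EtCoh.pull j) := Groth.Agent.S0101.result j
  have hpm : (EtCoh.pull j).PreservesMonomorphisms := inferInstance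
  have : PreservesLimitsOfSize.{0, 0} (EtCoh.push j) :=
      (EtCoh.pullPushAdj j).rightAdjoint_preservesLimits
  have hpush : PreservesFiniteLimits (EtCoh.push j) :=
    PreservesLimitsOfSize.preservesFiniteLimits _
  have hqm : (EtCoh.push j).PreservesMonomorphisms := inferInstance
  let G := (EtCoh.pull j).obj F
  let J := Injective.under G
  have hI : Injective ((EtCoh.push j).obj J) :=
    Injective.injective_of_adjoint (EtCoh.pullPushAdj j) J
  have hu : Mono (EtDual.unitApp j F) := Preadditive.mono_of_isZero_kernel _ h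
  have hm2 : Mono ((EtCoh.push j).map (Injective.ι G)) := (EtCoh.push j).map_mono _
  refine ⟨(EtCoh.push j).obj J, hI, EtDual.unitApp j F ≫ (EtCoh.push j).map (Injective.ι G),
    mono_comp _ _, ?_⟩
  have tri := (EtCoh.pullPushAdj j).right_triangle_components J
  have hm : Mono (EtDual.unitApp j ((EtCoh.push j).obj J)) := mono_of_mono_fac tri
  exact isZero_kernel_of_mono _

variable {V : Scheme.{u}} (k : V ⟶ X) [IsOpenImmersion k] [EtCoh.BCCont k]

lemma pull_map_eq_zero (hUV : Set.range j.base ⊆ Set.range k.base) {A B : EtCoh.Ab X} (a : A ⟶ B)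
    (h : (EtCoh.pull k).map a = 0) : (EtCoh.pull j).map a = 0 := by
  let j' : U ⟶ V := IsOpenImmersion.lift k j hUV
  have hj : j' ≫ k = j := IsOpenImmersion.lift_fac k j hUV
  let e : EtCoh.pull j ≅ EtCoh.pull k ⋙ EtCoh.pull j' :=
    (EtCore.pullCongr hj.symm) ≪≫ EtCore.pullComp j' k
  have nat := e.hom.naturality a
  rw [← cancel_mono (e.hom.app B), nat, Functor.comp_map, h, Functor.map_zero, comp_zero, zero_comp]

lemma isZero_secSupp_of_subset (hUV : Set.range j.base ⊆ Set.range k.base) (F : EtCoh.Ab X)
    (h : IsZero (kernel (EtDual.unitApp j F))) : IsZero (kernel (EtDual.unitApp k F)) := by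
  have h1 : (EtCoh.pull k).map (kernel.ι (EtDual.unitApp k F)) = 0 := by
    have tri := (EtCoh.pullPushAdj k).left_triangle_components F
    have hm : Mono ((EtCoh.pull k).map (EtDual.unitApp k F)) := mono_of_mono_fac tri
    rw [← cancel_mono ((EtCoh.pull k).map (EtDual.unitApp k F)), zero_comp, ← Functor.map_comp,
      kernel.condition, Functor.map_zero]
  have h2 : (EtCoh.pull j).map (kernel.ι (EtDual.unitApp k F)) = 0 :=
    pull_map_eq_zero j k hUV _ h1
  have h3 : kernel.ι (EtDual.unitApp k F) ≫ EtDual.unitApp j F = 0 := by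
    have nat := (EtCoh.pullPushAdj j).unit.naturality (kernel.ι (EtDual.unitApp k F))
    simp only [Functor.id_obj, Functor.comp_obj, Functor.id_map, Functor.comp_map] at nat
    erw [nat]
    rw [h2, Functor.map_zero, comp_zero]
  have h4 : kernel.ι (EtDual.unitApp k F) = 0 := by
    have e : kernel.ι (EtDual.unitApp k F) = kernel.lift _ _ h3 ≫ kernel.ι _ :=
      (kernel.lift_ι _ _ _).symm
    rw [e, h.eq_of_tgt (kernel.lift _ _ h3) 0, zero_comp]
  exact IsZero.of_mono_eq_zero _ h4

theorem main (hUV : Set.range j.base ⊆ Set.range k.base) :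
    ∀ (n : ℕ) (F : EtCoh.Ab X), EtDepth.DepthGE j F n → EtDepth.DepthGE k F n := by
  obtain ⟨Δj⟩ := Groth.Agent.S16463.result (EtDual.secSupp j)
  obtain ⟨Δk⟩ := Groth.Agent.S16463.result (EtDual.secSupp k)
  have lej := secSupp_left_exact j
  have lek := secSupp_left_exact k
  intro n
  induction n with
  | zero =>
    intro F _ p hp
    omega
  | succ n ih =>
    intro F h
    have h0 : IsZero (kernel (EtDual.unitApp j F)) :=
      (h 0 (Nat.succ_pos n)).of_iso ((EtDual.secSupp j).rightDerivedZeroIsoSelf.app F).symm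
    obtain ⟨I, hI, a, ha, hIj⟩ := exists_embedding j F h0
    have hIk : IsZero (kernel (EtDual.unitApp k I)) := isZero_secSupp_of_subset j k hUV I hIj
    have h0k := isZero_secSupp_of_subset j k hUV F h0
    let S : ShortComplex (EtCoh.Ab X) := ShortComplex.mk a (cokernel.π a) (cokernel.condition a)
    have hS : S.ShortExact :=
      { exact := ShortComplex.exact_cokernel a
        mono_f := ha
        epi_g := inferInstanceAs (Epi (cokernel.π a)) }
    have allj : ∀ p, IsZero (((EtDual.secSupp j).rightDerived p).obj I) := by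
      intro p
      cases p with
      | zero => exact hIj.of_iso ((EtDual.secSupp j).rightDerivedZeroIsoSelf.app I)
      | succ p => exact Functor.isZero_rightDerived_obj_injective_succ _ p I
    have allk : ∀ p, IsZero (((EtDual.secSupp k).rightDerived p).obj I) := by
      intro p
      cases p with
      | zero => exact hIk.of_iso ((EtDual.secSupp k).rightDerivedZeroIsoSelf.app I)
      | succ p => exact Functor.isZero_rightDerived_obj_injective_succ _ p I
    have hQ : EtDepth.DepthGE j (cokernel a) n := by
      intro p hp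
      exact (isZero_shift (EtDual.secSupp j) Δj S hS allj p).1 (h (p + 1) (by omega))
    have hQk := ih _ hQ
    intro p hp
    cases p with
    | zero => exact h0k.of_iso ((EtDual.secSupp k).rightDerivedZeroIsoSelf.app F)
    | succ p => exact (isZero_shift (EtDual.secSupp k) Δk S hS allk p).2 (hQk p (by omega))

end helpers

/-- For an abelian sheaf. Let X be a scheme, j : U → X and k : V → X open immersions with U ⊆ V, so that
the closed complement Z of V is contained in the closed complement Y of U, F an abelian sheaf on the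
small étale site of X and n ≥ 0. If the Y-étale depth of F is ≥ n (the local cohomology sheaves
H^p_Y(F) vanish for p < n), then the Z-étale depth of F is ≥ n. -/
theorem result {X U V : Scheme.{u}} (j : U ⟶ X) [IsOpenImmersion j] [EtCoh.BCCont j] (k : V ⟶ X) [IsOpenImmersion k] [EtCoh.BCCont k] (hUV : Set.range j.base ⊆ Set.range k.base) (F : EtCoh.Ab X) (n : ℕ) (h : EtDepth.DepthGE j F n) : EtDepth.DepthGE k F n := by
  exact main j k hUV n F h

end Groth.Agent.S5176
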