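import Groth.Statements.S6658
import Mathlib
import Groth.Agent.S0101
import Groth.Agent.Lib.Helper10.KerLES
import Groth.Agent.Lib.Helper10.EtLoc
import Groth.Agent.Lib.Helper10.Flasque
import Groth.Agent.Lib.Helper10.RDerComm

set_option autoImplicit false
universe u
open CategoryTheory CategoryTheory.Limits AlgebraicGeometry Opposite
open EtDual

namespace Groth.Agent.S6658

section helpers

open Groth.Agent.Helper10 CategoryTheory CategoryTheory.Limits AlgebraicGeometry Opposite

variable {X U : Scheme.{u}} (j : U ⟶ X) [IsOpenImmersion j]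

lemma mono_of_mono_left {A B : X.Etale} (g : A ⟶ B) (h : Mono g.left) : Mono g := by
  constructor
  intro Z a b hab
  apply MorphismProperty.Over.Hom.ext
  have := congrArg (fun t => t.left) hab
  exact (cancel_mono g.left).1 this

lemma mono_counit (W : X.Etale) : Mono ((EtLoc.phiAdj j).counit.app W) := by
  apply mono_of_mono_left
  show Mono (pullback.fst W.hom j)
  infer_instance

lemma unit_app_app (I : EtCoh.Ab X) (W : X.Etale) :
    ((EtLoc.resPushAdj j).unit.app I).hom.app (op W) =
      I.obj.map ((EtLoc.phiAdj j).counit.app W).op := by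
  have h := Adjunction.map_restrictFullyFaithful_unit_app
    (adj := Adjunction.whiskerLeft AddCommGrpCat.{u + 1} (EtLoc.phiAdj j).op)
    (fullyFaithfulSheafToPresheaf X.smallEtaleTopology AddCommGrpCat.{u + 1})
    (fullyFaithfulSheafToPresheaf U.smallEtaleTopology AddCommGrpCat.{u + 1})
    ((EtLoc.phi j).sheafPushforwardContinuousCompSheafToPresheafIso AddCommGrpCat.{u + 1}
      U.smallEtaleTopology X.smallEtaleTopology).symm
    ((EtCoh.bc j).sheafPushforwardContinuousCompSheafToPresheafIso AddCommGrpCat.{u + 1}
      X.smallEtaleTopology U.smallEtaleTopology).symm I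
  have h' := congrArg (fun t => t.app (op W)) h
  simp at h'
  refine h'.trans ?_
  erw [Category.id_comp]
  exact Category.comp_id _

lemma epi_resUnit (I : EtCoh.Ab X) [Injective I] : Epi ((EtLoc.resPushAdj j).unit.app I) := by
  have : Epi ((EtLoc.resPushAdj j).unit.app I).hom := by
    have : ∀ W, Epi (((EtLoc.resPushAdj j).unit.app I).hom.app W) := by
      intro W
      obtain ⟨W⟩ := W
      rw [unit_app_app]
      rw [AddCommGrpCat.epi_iff_surjective]
      have := mono_counit j W
      exact Flasque.surjective_map_of_mono.{u+1} X.smallEtaleTopology I _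
    exact NatTrans.epi_of_epi_app _
  exact (sheafToPresheaf X.smallEtaleTopology AddCommGrpCat.{u+1}).epi_of_epi_map this

lemma epi_unitApp (I : EtCoh.Ab X) [Injective I] : Epi (EtDual.unitApp j I) := by
  have h := Adjunction.unit_leftAdjointUniq_hom_app (EtCoh.pullPushAdj j) (EtLoc.resPushAdj j) I
  have hepi := epi_resUnit j I
  have e : EtDual.unitApp j I = (EtLoc.resPushAdj j).unit.app I ≫
      (EtCoh.push j).map ((Adjunction.leftAdjointUniq (EtCoh.pullPushAdj j)
        (EtLoc.resPushAdj j)).inv.app I) := by
    rw [← h, Category.assoc, ← Functor.map_comp, Iso.hom_inv_id_app, CategoryTheory.Functor.map_id]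
    exact (Category.comp_id _).symm
  rw [e]
  infer_instance

/-- The inclusion `secSupp j ⟶ 𝟭`. -/
noncomputable def kι : EtDual.secSupp j ⟶ 𝟭 (EtCoh.Ab X) where
  app F := kernel.ι (EtDual.unitApp j F)
  naturality := by
    intro F G f
    simp

theorem main (F : EtCoh.Ab X) :
    Nonempty (cokernel (EtDual.unitApp j F) ≅ (EtDual.locCoh j 1).obj F) ∧
      ∀ p : ℕ, 1 ≤ p →
        Nonempty ((EtCoh.Rpush j p).obj ((EtCoh.pull j).obj F) ≅
          (EtDual.locCoh j (p + 1)).obj F) := by
  have hpull : PreservesFiniteLimits (EtCoh.pull j) := Groth.Agent.S0101.result j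
  have hpullc : PreservesFiniteColimits (EtCoh.pull j) := by
    have : PreservesColimitsOfSize.{0, 0} (EtCoh.pull j) :=
      (EtCoh.pullPushAdj j).leftAdjoint_preservesColimits
    exact PreservesColimitsOfSize.preservesFiniteColimits _
  have hpush : PreservesFiniteLimits (EtCoh.push j) := by
    have : PreservesLimitsOfSize.{0, 0} (EtCoh.push j) :=
      (EtCoh.pullPushAdj j).rightAdjoint_preservesLimits
    exact PreservesLimitsOfSize.preservesFiniteLimits _
  have hadd : (EtCoh.pull j).Additive := (EtCoh.pullPushAdj j).left_adjoint_additive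
  have w : kι j ≫ (EtCoh.pullPushAdj j).unit = 0 := by
    ext F : 2
    exact kernel.condition (EtDual.unitApp j F)
  have hinj : ∀ I : EtCoh.Ab X, Injective I →
      (KerLES.sc₀ (EtDual.secSupp j) (𝟭 _) (EtCoh.pull j ⋙ EtCoh.push j) (kι j)
        (EtCoh.pullPushAdj j).unit w I).ShortExact := by
    intro I hI
    have hepi := epi_unitApp j I
    have hmono : Mono (kernel.ι (EtDual.unitApp j I)) := inferInstance
    exact { exact := ShortComplex.exact_kernel (EtDual.unitApp j I)
            mono_f := hmono
            epi_g := hepi }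
  obtain ⟨h1, h2⟩ := KerLES.main (EtDual.secSupp j) (𝟭 _) (EtCoh.pull j ⋙ EtCoh.push j) (kι j)
    (EtCoh.pullPushAdj j).unit w hinj F
  refine ⟨h1, ?_⟩
  intro p hp
  obtain ⟨e⟩ := h2 p hp
  obtain ⟨e'⟩ := RDerComm.rightDerived_comm (EtCoh.pull j ⋙ EtCoh.push j) (EtCoh.push j)
    (𝟭 _) (EtCoh.pull j) (fun I hI => EtLoc.injective_pull j I) (Iso.refl _) F p
  exact ⟨e'.symm ≪≫ e⟩

end helpers

/-- The exact sequence and the isomorphisms: let j : U → X be an open immersion of schemes with closed
complement Z and F an abelian sheaf on the small etale site of X. Write H^q_Z(F) for the q-th local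
cohomology sheaf of F with support in Z, kept as a sheaf on X (the q-th right derived functor of G ↦
ker(G → j_* j⁻¹ G)). Then the cokernel of the unit F → j_* j⁻¹ F is isomorphic to H^1_Z(F), and for
every p ≥ 1 the higher direct image R^p j_* (j⁻¹ F) is isomorphic to H^{p+1}_Z(F). (The published
statement also gives the distinguished triangle behind these isomorphisms and identifies them with
its connecting maps; this row asserts only that isomorphisms exist.) -/
theorem result {X U : Scheme.{u}} (j : U ⟶ X) [IsOpenImmersion j]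
    (F : EtCoh.Ab X) :
    Nonempty (cokernel (EtDual.unitApp j F) ≅ (EtDual.locCoh j 1).obj F) ∧
      ∀ p : ℕ, 1 ≤ p →
        Nonempty ((EtCoh.Rpush j p).obj ((EtCoh.pull j).obj F) ≅ (EtDual.locCoh j (p + 1)).obj F) := by
  exact main j F

end Groth.Agent.S6658
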