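import Groth.Statements.S6642
import Groth.Agent.Lib.Helper10.LcPull

set_option autoImplicit false
open CategoryTheory CategoryTheory.Limits AlgebraicGeometry Opposite
universe u
open EtCore

namespace Groth.Agent.S6642

section helpers
open Groth.Agent.Helper10.LcSite Groth.Agent.Helper10.LcPull

variable {X Y : Scheme.{u}} (f : X ⟶ Y)

instance post_bc_continuous (V : Y.Etale) :
    (Over.post (EtCoh.bc f) (X := V)).IsContinuous (Y.smallEtaleTopology.over V)
      (X.smallEtaleTopology.over ((EtCoh.bc f).obj V)) :=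
  haveI : PreservesFiniteLimits (Over.post (EtCoh.bc f) (X := V)) := inferInstance
  haveI : RepresentablyFlat (Over.post (EtCoh.bc f) (X := V)) := flat_of_preservesFiniteLimits _
  Functor.isContinuous_of_coverPreserving (compatiblePreservingOfFlat _ _)
    ((EtCoh.coverPreserving_bc f).overPost V)

lemma covers_bc {ι : Type u} (V : ι → Y.Etale) (hV : EtCoh.Covers V) :
    EtCoh.Covers (fun i => (EtCoh.bc f).obj (V i)) := by
  intro x
  obtain ⟨i, y, hy⟩ := hV (f x)
  obtain ⟨z, hz1, hz2⟩ := Scheme.Pullback.exists_preimage_pullback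
    (f := (V i).hom) (g := f) y x hy
  exact ⟨i, z, hz2⟩

theorem main {X Y : Scheme.{u}} (f : X ⟶ Y) :
    (∀ G : EtCoh.Ab Y, EtRest.IsLocallyConstant G → EtRest.IsLocallyConstant ((EtCoh.pull f).obj G)) ∧
    (∀ G : EtCoh.Ab Y, EtCoh.IsFiniteLocallyConstant G → EtCoh.IsFiniteLocallyConstant ((EtCoh.pull f).obj G)) ∧
    (∀ (Λ : Type (u + 1)) [CommRing Λ] (G : EtModW.Mod Λ Y),
      EtModW.IsFTLocConst Λ G → EtModW.IsFTLocConst Λ ((EtModW.pull Λ f).obj G)) := by
  refine ⟨?_, ?_, ?_⟩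
  · rintro G ⟨ι, V, hV, H⟩
    refine ⟨ι, fun i => (EtCoh.bc f).obj (V i), covers_bc f V hV, fun i => ?_⟩
    obtain ⟨M, iM, ⟨α⟩⟩ := H i
    exact ⟨M, iM, ⟨pullTriv Y.smallEtaleTopology X.smallEtaleTopology (EtCoh.bc f)
      AddCommGrpCat.{u + 1} (V i) α⟩⟩
  · rintro G ⟨ι, V, hV, H⟩
    refine ⟨ι, fun i => (EtCoh.bc f).obj (V i), covers_bc f V hV, fun i => ?_⟩
    obtain ⟨M, iM, fM, ⟨α⟩⟩ := H i
    exact ⟨M, iM, fM, ⟨pullTriv Y.smallEtaleTopology X.smallEtaleTopology (EtCoh.bc f)
      AddCommGrpCat.{u + 1} (V i) α⟩⟩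
  · rintro Λ _ G ⟨ι, V, hV, H⟩
    refine ⟨ι, fun i => (EtCoh.bc f).obj (V i), covers_bc f V hV, fun i => ?_⟩
    obtain ⟨M, iM, mM, fM, ⟨α⟩⟩ := H i
    exact ⟨M, iM, mM, fM, ⟨pullTriv Y.smallEtaleTopology X.smallEtaleTopology (EtCoh.bc f)
      (ModuleCat.{u + 1} Λ) (V i) α⟩⟩

end helpers

/-- Abelian sheaves and sheaves of modules: for a morphism of schemes f : X ⟶ Y, inverse image along f
on the small etale sites preserves locally constant abelian sheaves, finite locally constant abelian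
sheaves, and finite type locally constant sheaves of Λ-modules. (The published statement also covers
sheaves of sets and all locally constant sheaves of modules; this row treats the abelian and
finite-type module cases.) -/
theorem result {X Y : Scheme.{u}} (f : X ⟶ Y) :
    (∀ G : EtCoh.Ab Y, EtRest.IsLocallyConstant G → EtRest.IsLocallyConstant ((EtCoh.pull f).obj G)) ∧
    (∀ G : EtCoh.Ab Y, EtCoh.IsFiniteLocallyConstant G → EtCoh.IsFiniteLocallyConstant ((EtCoh.pull f).obj G)) ∧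
    (∀ (Λ : Type (u + 1)) [CommRing Λ] (G : EtModW.Mod Λ Y),
      EtModW.IsFTLocConst Λ G → EtModW.IsFTLocConst Λ ((EtModW.pull Λ f).obj G)) := by
  exact main f

end Groth.Agent.S6642
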