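import Groth.Statements.S6645
import Groth.Agent.Lib.Helper10.LcEtExt
import Groth.Agent.Lib.Helper10.LcLift

set_option autoImplicit false
open CategoryTheory CategoryTheory.Limits AlgebraicGeometry Opposite
universe u
open EtCore

namespace Groth.Agent.S6645

section helpers
open Groth.Agent.Helper10.LcSite Groth.Agent.Helper10.LcEt Groth.Agent.Helper10.LcExact
  Groth.Agent.Helper10.LcEtExt Groth.Agent.Helper10.LcLift

lemma finite_kernel {M N : AddCommGrpCat.{u + 1}} (h : M ⟶ N) [Finite M] :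
    Finite ↑(kernel h) := by
  have hinj : Function.Injective (kernel.ι h).hom :=
    (AddCommGrpCat.mono_iff_injective (kernel.ι h)).1 inferInstance
  exact Finite.of_injective _ hinj

lemma finite_cokernel {M N : AddCommGrpCat.{u + 1}} (h : M ⟶ N) [Finite N] :
    Finite ↑(cokernel h) := by
  have hsurj : Function.Surjective (cokernel.π h).hom :=
    (AddCommGrpCat.epi_iff_surjective (cokernel.π h)).1 inferInstance
  exact Finite.of_surjective _ hsurj

/-- a finite abelian group in a big universe has a model in `Type`. -/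
lemma exists_small_model (K : AddCommGrpCat.{u + 1}) [Finite K] :
    ∃ (M₀ : Type) (_ : AddCommGroup M₀) (_ : Finite M₀),
      Nonempty (K ≅ AddCommGrpCat.of (ULift.{u + 1} M₀)) := by
  have : Small.{0} K := Countable.toSmall K
  refine ⟨Shrink.{0} K, inferInstance, Finite.of_equiv K (equivShrink K), ⟨?_⟩⟩
  exact ((Shrink.addEquiv (α := K)).symm.trans AddEquiv.ulift.symm).toAddCommGrpIso

theorem part1 {X : Scheme.{u}} (F G : EtCoh.Ab X) (φ : F ⟶ G)
    (hF : EtCoh.IsFiniteLocallyConstant F) (hG : EtCoh.IsFiniteLocallyConstant G) :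
    EtCoh.IsFiniteLocallyConstant (kernel φ) ∧ EtCoh.IsFiniteLocallyConstant (cokernel φ) := by
  obtain ⟨ι, U, hU, hFU⟩ := hF
  obtain ⟨ι', U', hU', hGU⟩ := hG
  choose M iM fM αM using hFU
  choose N iN fN βN using hGU
  obtain ⟨κ, V, a, b, hV, H⟩ := exists_covers_map_eq_const (A := AddCommGrpCat.{u + 1}) φ U hU
    (fun i => AddCommGrpCat.of (ULift.{u + 1} (M i)))
    (fun i W => by
      have : Finite (M i) := fM i
      have : AddGroup.FG (AddCommGrpCat.of (ULift.{u + 1} (M i))) :=
        inferInstanceAs (AddGroup.FG (ULift.{u + 1} (M i)))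
      exact locFactor_addCommGrpCat _ _)
    (fun i => (αM i).some) U' hU' (fun j => AddCommGrpCat.of (ULift.{u + 1} (N j)))
    (fun j => (βN j).some)
  have H' : ∀ k, ∃ (K Q : AddCommGrpCat.{u + 1}) (_ : Finite K) (_ : Finite Q),
      Nonempty ((kernel φ).over (V k) ≅
        (constantSheaf (X.smallEtaleTopology.over (V k)) AddCommGrpCat.{u + 1}).obj K) ∧
      Nonempty ((cokernel φ).over (V k) ≅
        (constantSheaf (X.smallEtaleTopology.over (V k)) AddCommGrpCat.{u + 1}).obj Q) := by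
    intro k
    obtain ⟨h, α', β', hh⟩ := H k
    have : Finite (M (a k)) := fM _
    have : Finite (N (b k)) := fN _
    have : Finite (AddCommGrpCat.of (ULift.{u + 1} (M (a k)))) :=
      inferInstanceAs (Finite (ULift.{u + 1} (M (a k))))
    have : Finite (AddCommGrpCat.of (ULift.{u + 1} (N (b k)))) :=
      inferInstanceAs (Finite (ULift.{u + 1} (N (b k))))
    exact ⟨kernel h, cokernel h, finite_kernel h, finite_cokernel h,
      kernel_cokernel_triv φ h α' β' hh⟩
  constructor
  · refine ⟨κ, V, hV, fun k => ?_⟩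
    obtain ⟨K, Q, fK, fQ, ⟨e1⟩, ⟨e2⟩⟩ := H' k
    obtain ⟨M₀, i₀, f₀, ⟨e₀⟩⟩ := exists_small_model K
    exact ⟨M₀, i₀, f₀, ⟨e1 ≪≫ (constantSheaf _ _).mapIso e₀⟩⟩
  · refine ⟨κ, V, hV, fun k => ?_⟩
    obtain ⟨K, Q, fK, fQ, ⟨e1⟩, ⟨e2⟩⟩ := H' k
    obtain ⟨M₀, i₀, f₀, ⟨e₀⟩⟩ := exists_small_model Q
    exact ⟨M₀, i₀, f₀, ⟨e2 ≪≫ (constantSheaf _ _).mapIso e₀⟩⟩

/-- the free abelian group on a finite type is a finitely generated `ℤ`-module. -/
lemma finite_int_free (α : Type (u + 1)) [Finite α] : Module.Finite ℤ (FreeAbelianGroup α) :=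
  Module.Finite.equiv (FreeAbelianGroup.equivFinsupp α).toIntLinearEquiv.symm

lemma fg_kernel_of_free (α : Type (u + 1)) [Finite α] {M : AddCommGrpCat.{u + 1}}
    (π : AddCommGrpCat.of (FreeAbelianGroup α) ⟶ M) : AddGroup.FG ↑(kernel π) := by
  have := finite_int_free α
  have hinj : Function.Injective (kernel.ι π).hom :=
    (AddCommGrpCat.mono_iff_injective (kernel.ι π)).1 inferInstance
  have : Module.Finite ℤ ↑(kernel π) :=
    Module.Finite.of_injective (kernel.ι π).hom.toIntLinearMap hinj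
  exact Module.Finite.iff_addGroup_fg.1 this

lemma fg_cokernel {M N : AddCommGrpCat.{u + 1}} (h : M ⟶ N) [AddGroup.FG N] :
    AddGroup.FG ↑(cokernel h) := by
  have hsurj : Function.Surjective (cokernel.π h).hom :=
    (AddCommGrpCat.epi_iff_surjective (cokernel.π h)).1 inferInstance
  have : Module.Finite ℤ N := Module.Finite.iff_addGroup_fg.2 inferInstance
  have : Module.Finite ℤ ↑(cokernel h) :=
    Module.Finite.of_surjective (cokernel.π h).hom.toIntLinearMap hsurj
  exact Module.Finite.iff_addGroup_fg.1 this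

lemma fg_biprod (M N : AddCommGrpCat.{u + 1}) [AddGroup.FG M] [AddGroup.FG N] :
    AddGroup.FG ↑(M ⊞ N) := by
  have : Module.Finite ℤ M := Module.Finite.iff_addGroup_fg.2 inferInstance
  have : Module.Finite ℤ N := Module.Finite.iff_addGroup_fg.2 inferInstance
  have e : ↑(M ⊞ N) ≃+ M × N := (AddCommGrpCat.biprodIsoProd M N).addCommGroupIsoToAddEquiv
  have : Module.Finite ℤ ↑(M ⊞ N) := Module.Finite.equiv e.toIntLinearEquiv.symm
  exact Module.Finite.iff_addGroup_fg.1 this

lemma card_nsmul_id (M : AddCommGrpCat.{u + 1}) [Finite M] : Nat.card M • 𝟙 M = 0 := by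
  ext x
  simp [card_nsmul_eq_zero']

lemma finite_of_nsmul_id {Q : AddCommGrpCat.{u + 1}} [AddGroup.FG Q] {n : ℕ} (hn : 0 < n)
    (h : n • 𝟙 Q = 0) : Finite Q := by
  apply AddCommGroup.finite_of_fg_isAddTorsion
  intro x
  rw [isOfFinAddOrder_iff_nsmul_eq_zero]
  refine ⟨n, hn, ?_⟩
  have := congrArg (fun f : Q ⟶ Q => f.hom x) h
  simpa using this

theorem part2 {X : Scheme.{u}} :
    ObjectProperty.IsClosedUnderExtensions
      (fun F : EtCoh.Ab X => EtCoh.IsFiniteLocallyConstant F) := by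
  constructor
  intro S hS h1 h3
  obtain ⟨ι, U, hU, hFU⟩ := h1
  obtain ⟨ι', U', hU', hGU⟩ := h3
  choose M' iM fM αM using hFU
  choose M'' iN fN βN using hGU
  have fM' : ∀ i, Finite (AddCommGrpCat.of (ULift.{u + 1} (M' i))) := fun i => by
    have := fM i
    exact inferInstanceAs (Finite (ULift.{u + 1} (M' i)))
  have fM'' : ∀ j, Finite (ULift.{u + 1} (M'' j)) := fun j => by
    have := fN j
    infer_instance
  let π : ∀ j, AddCommGrpCat.of (FreeAbelianGroup (ULift.{u + 1} (M'' j))) ⟶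
      AddCommGrpCat.of (ULift.{u + 1} (M'' j)) :=
    fun j => AddCommGrpCat.ofHom (FreeAbelianGroup.lift id)
  have hπ : ∀ j, Epi (π j) := fun j => by
    rw [AddCommGrpCat.epi_iff_surjective]
    intro m
    exact ⟨FreeAbelianGroup.of m, by simp [π]⟩
  obtain ⟨κ, V, a, b, hV, H⟩ := exists_covers_ext_triv (A := AddCommGrpCat.{u + 1}) hS U hU
    (fun i => AddCommGrpCat.of (ULift.{u + 1} (M' i))) (fun i => (αM i).some) U' hU'
    (fun j => AddCommGrpCat.of (ULift.{u + 1} (M'' j))) (fun j => (βN j).some)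
    (fun j => AddCommGrpCat.of (FreeAbelianGroup (ULift.{u + 1} (M'' j)))) π
    (fun j => by
      have := fM'' j
      exact @locLift_addCommGrpCat _ _ X.smallEtaleTopology _ _ _ (ULift.{u + 1} (M'' j)) _)
    (fun j W => by
      have := fM'' j
      have : AddGroup.FG ↑(kernel (π j)) := fg_kernel_of_free _ (π j)
      exact locFactor_addCommGrpCat _ _)
  refine ⟨κ, V, hV, fun k => ?_⟩
  obtain ⟨h, β', β'', ⟨e⟩⟩ := H k
  by_cases hbot : ⊥ ∈ X.smallEtaleTopology (V k)
  · exact ⟨PUnit, inferInstance, inferInstance, ⟨isoOfBotMem hbot _ _⟩⟩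
  · have := fM' (a k)
    have := fM'' (b k)
    have : Finite (AddCommGrpCat.of (ULift.{u + 1} (M'' (b k)))) := fM'' (b k)
    have h' := card_nsmul_id (AddCommGrpCat.of (ULift.{u + 1} (M' (a k))))
    have h'' := card_nsmul_id (AddCommGrpCat.of (ULift.{u + 1} (M'' (b k))))
    have htor := torsion_of_triv hS hbot β' β'' e h' h''
    have : AddGroup.FG (AddCommGrpCat.of (ULift.{u + 1} (M' (a k)))) :=
      inferInstanceAs (AddGroup.FG (ULift.{u + 1} (M' (a k))))
    have : Module.Finite ℤ (FreeAbelianGroup (ULift.{u + 1} (M'' (b k)))) := finite_int_free _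
    have : AddGroup.FG (AddCommGrpCat.of (FreeAbelianGroup (ULift.{u + 1} (M'' (b k))))) :=
      Module.Finite.iff_addGroup_fg.1 this
    have := fg_biprod (AddCommGrpCat.of (ULift.{u + 1} (M' (a k))))
      (AddCommGrpCat.of (FreeAbelianGroup (ULift.{u + 1} (M'' (b k)))))
    have := fg_cokernel h
    have hfin : Finite ↑(cokernel h) :=
      finite_of_nsmul_id (Nat.mul_pos Nat.card_pos Nat.card_pos) htor
    obtain ⟨M₀, i₀, f₀, ⟨e₀⟩⟩ := exists_small_model (cokernel h)
    exact ⟨M₀, i₀, f₀, ⟨e ≪≫ (constantSheaf _ _).mapIso e₀⟩⟩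

theorem main (X : Scheme.{u}) :
    (∀ (F G : EtCoh.Ab X) (φ : F ⟶ G), EtCoh.IsFiniteLocallyConstant F → EtCoh.IsFiniteLocallyConstant G →
      EtCoh.IsFiniteLocallyConstant (kernel φ) ∧ EtCoh.IsFiniteLocallyConstant (cokernel φ)) ∧
    ObjectProperty.IsClosedUnderExtensions (fun F : EtCoh.Ab X => EtCoh.IsFiniteLocallyConstant F) :=
  ⟨fun F G φ hF hG => part1 F G φ hF hG, part2⟩

end helpers

/-- On the small etale site of a scheme, kernels and cokernels of maps between finite locally constant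
abelian sheaves are finite locally constant, and the property of being finite locally constant is
closed under extensions (a weak Serre subcategory). -/
theorem result (X : Scheme.{u}) :
    (∀ (F G : EtCoh.Ab X) (φ : F ⟶ G), EtCoh.IsFiniteLocallyConstant F → EtCoh.IsFiniteLocallyConstant G →
      EtCoh.IsFiniteLocallyConstant (kernel φ) ∧ EtCoh.IsFiniteLocallyConstant (cokernel φ)) ∧
    ObjectProperty.IsClosedUnderExtensions (fun F : EtCoh.Ab X => EtCoh.IsFiniteLocallyConstant F) := by
  exact main X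

end Groth.Agent.S6645
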