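import Groth.Statements.S14452
import Mathlib
import Groth.Prelude.Def_EtCore
import Groth.Prelude.Def_EtShriek2
import Groth.Agent.S0101
import Groth.Agent.Lib.Helper10.EtLoc
import Groth.Agent.Lib.Helper10.DoubleGlue
import Groth.Agent.Lib.Helper24.EtOpen5

set_option autoImplicit false
universe u
open CategoryTheory CategoryTheory.Limits AlgebraicGeometry Opposite
open EtCore

namespace Groth.Agent.S14452

section helpers

open Groth.Agent.Helper10 Groth.Agent.Helper24.EtOpen

variable {X : Scheme.{u}} {U V : X.Etale} (g : V ⟶ U) [IsOpenImmersion g.left]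

instance : Etale U.hom := U.prop

/-- the doubled scheme -/
noncomputable abbrev W₀ : Scheme.{u} := pushout g.left g.left

noncomputable abbrev wmap : W₀ g ⟶ X := pushout.desc U.hom U.hom rfl

instance : Etale (wmap g) := DoubleGlue.etale_desc g.left U.hom

instance : EtShriek.JCont (wmap g) := EtLoc.phi_cont (wmap g)

instance : PreservesFiniteLimits (EtCoh.pull (wmap g)) := Groth.Agent.S0101.result (wmap g)

noncomputable abbrev W : X.Etale := objOf (wmap g)

noncomputable def a₁ : U ⟶ W g :=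
  MorphismProperty.Over.homMk (pushout.inl g.left g.left) (by
    show pushout.inl g.left g.left ≫ (𝟙 _ ≫ wmap g) = U.hom
    rw [Category.id_comp, pushout.inl_desc]) trivial

noncomputable def a₂ : U ⟶ W g :=
  MorphismProperty.Over.homMk (pushout.inr g.left g.left) (by
    show pushout.inr g.left g.left ≫ (𝟙 _ ≫ wmap g) = U.hom
    rw [Category.id_comp, pushout.inr_desc]) trivial

lemma a₁_left : (a₁ g).left = pushout.inl g.left g.left := rfl
lemma a₂_left : (a₂ g).left = pushout.inr g.left g.left := rfl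

lemma g_a : g ≫ a₁ g = g ≫ a₂ g := by
  apply MorphismProperty.Over.Hom.ext
  show g.left ≫ pushout.inl g.left g.left = g.left ≫ pushout.inr g.left g.left
  exact pushout.condition


lemma cover_two : Sieve.ofArrows (fun _ : Bool => U) (fun b => cond b (a₁ g) (a₂ g)) ∈
    X.smallEtaleTopology (W g) := by
  apply Groth.Agent.Helper1.SHC.mem_of_pointwise
  intro x
  rcases DoubleGlue.inl_or_inr g.left x with ⟨y, hy⟩ | ⟨y, hy⟩
  · exact ⟨U, a₁ g, y, Sieve.ofArrows_mk _ (fun b => cond b (a₁ g) (a₂ g)) true, hy⟩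
  · exact ⟨U, a₂ g, y, Sieve.ofArrows_mk _ (fun b => cond b (a₁ g) (a₂ g)) false, hy⟩

lemma glue_unique (G : EtCoh.Ab X) {E : AddCommGrpCat.{u+1}} (s s' : E ⟶ G.obj.obj (op (W g)))
    (h1 : s ≫ G.obj.map (a₁ g).op = s' ≫ G.obj.map (a₁ g).op)
    (h2 : s ≫ G.obj.map (a₂ g).op = s' ≫ G.obj.map (a₂ g).op) : s = s' := by
  refine G.property.hom_ext_ofArrows (fun b => cond b (a₁ g) (a₂ g)) (cover_two g) ?_
  rintro (_ | _)
  · exact h2
  · exact h1

instance mono_a₁ : Mono (a₁ g) := by
  constructor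
  intro T p q h
  apply MorphismProperty.Over.Hom.ext
  have h' := congrArg (fun m => m.left) h
  have h'' : p.left ≫ pushout.inl g.left g.left = q.left ≫ pushout.inl g.left g.left := h'
  exact (cancel_mono _).1 h''

instance mono_a₂ : Mono (a₂ g) := by
  constructor
  intro T p q h
  apply MorphismProperty.Over.Hom.ext
  have h' := congrArg (fun m => m.left) h
  have h'' : p.left ≫ pushout.inr g.left g.left = q.left ≫ pushout.inr g.left g.left := h'
  exact (cancel_mono _).1 h''

instance mono_g : Mono g := by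
  constructor
  intro T p q h
  apply MorphismProperty.Over.Hom.ext
  have h' := congrArg (fun m => m.left) h
  have h'' : p.left ≫ g.left = q.left ≫ g.left := h'
  exact (cancel_mono _).1 h''

lemma exists_lift_V {T : X.Etale} (p q : T ⟶ U) (h : p ≫ a₁ g = q ≫ a₂ g) :
    ∃ ℓ : T ⟶ V, ℓ ≫ g = p ∧ ℓ ≫ g = q := by
  have h' := congrArg (fun m => m.left) h
  have h'' : p.left ≫ pushout.inl g.left g.left = q.left ≫ pushout.inr g.left g.left := h'
  obtain ⟨s, hs₁, hs₂⟩ := DoubleGlue.exists_lift g.left p.left q.left h''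
  have hw : s ≫ V.hom = T.hom := by
    have e1 : g.left ≫ U.hom = V.hom := MorphismProperty.Over.w g
    have e2 : p.left ≫ U.hom = T.hom := MorphismProperty.Over.w p
    rw [← e1, ← Category.assoc, hs₁, e2]
  refine ⟨MorphismProperty.Over.homMk s hw trivial, ?_, ?_⟩
  · apply MorphismProperty.Over.Hom.ext
    exact hs₁
  · apply MorphismProperty.Over.Hom.ext
    exact hs₂

lemma glue_exists (G : EtCoh.Ab X) {E : AddCommGrpCat.{u+1}} (x₁ x₂ : E ⟶ G.obj.obj (op U))
    (h : x₁ ≫ G.obj.map g.op = x₂ ≫ G.obj.map g.op) :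
    ∃ s : E ⟶ G.obj.obj (op (W g)), s ≫ G.obj.map (a₁ g).op = x₁ ∧
      s ≫ G.obj.map (a₂ g).op = x₂ := by
  have key : ∀ {T : X.Etale} (p q : T ⟶ U), p ≫ a₁ g = q ≫ a₂ g →
      x₁ ≫ G.obj.map p.op = x₂ ≫ G.obj.map q.op := by
    intro T p q hpq
    obtain ⟨ℓ, h1, h2⟩ := exists_lift_V g p q hpq
    rw [← h1, ← h2, op_comp, Functor.map_comp, reassoc_of% h]
  let x : ∀ b : Bool, E ⟶ G.obj.obj (op ((fun _ : Bool => U) b)) := fun b => cond b x₁ x₂
  have hx : ∀ ⦃T : X.Etale⦄ ⦃i j : Bool⦄ (p : T ⟶ (fun _ : Bool => U) i)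
      (q : T ⟶ (fun _ : Bool => U) j),
      p ≫ (fun b => cond b (a₁ g) (a₂ g)) i = q ≫ (fun b => cond b (a₁ g) (a₂ g)) j →
      x i ≫ G.obj.map p.op = x j ≫ G.obj.map q.op := by
    rintro T (_ | _) (_ | _) p q hpq
    · have : p = q := (cancel_mono (a₂ g)).1 hpq
      rw [this]
    · exact (key q p hpq.symm).symm
    · exact key p q hpq
    · have : p = q := (cancel_mono (a₁ g)).1 hpq
      rw [this]
  refine ⟨G.property.amalgamateOfArrows (fun b => cond b (a₁ g) (a₂ g)) (cover_two g) x hx, ?_, ?_⟩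
  · exact G.property.amalgamateOfArrows_map (fun b => cond b (a₁ g) (a₂ g)) (cover_two g) x hx true
  · exact G.property.amalgamateOfArrows_map (fun b => cond b (a₁ g) (a₂ g)) (cover_two g) x hx false


/-- section functor -/
noncomputable abbrev secFun (T : X.Etale) : EtCoh.Ab X ⥤ AddCommGrpCat.{u+1} :=
  sheafToPresheaf _ _ ⋙ (evaluation _ _).obj (op T)

lemma sec_mono {S : ShortComplex (EtCoh.Ab X)} (hS : S.ShortExact) (T : X.Etale) :
    Mono (S.f.hom.app (op T)) := by
  have := hS.mono_f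
  show Mono ((secFun T).map S.f)
  infer_instance

lemma sec_lift {S : ShortComplex (EtCoh.Ab X)} (hS : S.ShortExact) (T : X.Etale)
    {E : AddCommGrpCat.{u+1}}
    (r : E ⟶ S.X₂.obj.obj (op T)) (hr : r ≫ S.g.hom.app (op T) = 0) :
    ∃ r' : E ⟶ S.X₁.obj.obj (op T), r' ≫ S.f.hom.app (op T) = r := by
  have := hS.mono_f
  have hex : (S.map (secFun T)).Exact :=
    hS.exact.map_of_mono_of_preservesKernel (secFun T) hS.mono_f inferInstance
  have : Mono (S.map (secFun T)).f := sec_mono hS T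
  exact hex.lift' r hr

lemma ext_lift {S : ShortComplex (EtCoh.Ab X)} (hS : S.ShortExact) (P : EtCoh.Ab X)
    [Subsingleton (Abelian.Ext P S.X₁ 1)] (φ : P ⟶ S.X₃) : ∃ ψ : P ⟶ S.X₂, ψ ≫ S.g = φ := by
  obtain ⟨x₂, hx₂⟩ := Abelian.Ext.covariant_sequence_exact₃ P hS (Abelian.Ext.mk₀ φ)
    (zero_add 1) (Subsingleton.elim _ _)
  obtain ⟨ψ, rfl⟩ := (Abelian.Ext.mk₀_bijective P S.X₂).2 x₂
  refine ⟨ψ, ?_⟩
  apply (Abelian.Ext.mk₀_bijective P S.X₃).1
  rw [← hx₂, Abelian.Ext.mk₀_comp_mk₀]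

theorem main (F : EtCoh.Ab X)
    (hF : ∀ (W : X.Etale) (q : ℕ), 0 < q →
      Subsingleton (EtCoh.H W.left ((EtCoh.pull W.hom).obj F) q)) :
    Function.Surjective (F.obj.map g.op).hom := by
  intro s
  let c : MZ.{u} ⟶ F.obj.obj (op V) := pick s
  let S : ShortComplex (EtCoh.Ab X) :=
    ShortComplex.mk (Injective.ι F) (cokernel.π (Injective.ι F)) (cokernel.condition _)
  have hS : S.ShortExact :=
    { exact := ShortComplex.exact_cokernel (Injective.ι F)
      mono_f := inferInstanceAs (Mono (Injective.ι F))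
      epi_g := inferInstanceAs (Epi (cokernel.π (Injective.ι F))) }
  have hsub : Subsingleton (Abelian.Ext (PP (wmap g)) S.X₁ 1) := by
    have h1 : Subsingleton (EtCoh.H (W₀ g) ((EtCoh.pull (wmap g)).obj F) 1) :=
      hF (Scheme.Etale.mk (wmap g)) 1 Nat.one_pos
    exact @Equiv.subsingleton _ _ (Phi (wmap g) F 1).toEquiv h1
  have hmonoV := sec_mono hS V
  -- step 1
  obtain ⟨t, ht⟩ := sheaf_flasque (Injective.under F) g (c ≫ S.f.hom.app (op V))
  -- step 2
  have hπ : ∀ {T T' : X.Etale} (m : T' ⟶ T),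
      S.X₂.obj.map m.op ≫ S.g.hom.app (op T') = S.g.hom.app (op T) ≫ S.X₃.obj.map m.op :=
    fun m => S.g.hom.naturality m.op
  have hι : ∀ {T T' : X.Etale} (m : T' ⟶ T),
      S.X₁.obj.map m.op ≫ S.f.hom.app (op T') = S.f.hom.app (op T) ≫ S.X₂.obj.map m.op :=
    fun m => S.f.hom.naturality m.op
  have hz : ∀ (T : X.Etale), S.f.hom.app (op T) ≫ S.g.hom.app (op T) = 0 := by
    intro T
    have := congrArg (fun k => k.hom.app (op T)) S.zero
    exact this
  have hq : (t ≫ S.g.hom.app (op U)) ≫ S.X₃.obj.map g.op = 0 := by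
    rw [Category.assoc, ← hπ g, reassoc_of% ht, hz, comp_zero]
  -- step 3
  obtain ⟨q', hq1, hq2⟩ := glue_exists g S.X₃ (t ≫ S.g.hom.app (op U)) 0 (by rw [hq, zero_comp])
  -- step 4
  obtain ⟨ψ, hψ⟩ := ext_lift hS (PP (wmap g)) ((secJ (wmap g) S.X₃).symm q')
  have ht' : secJ (wmap g) S.X₂ ψ ≫ S.g.hom.app (op (W g)) = q' := by
    rw [← secJ_comp, hψ, Equiv.apply_symm_apply]
  -- step 5, 6
  obtain ⟨r', hr'⟩ := sec_lift hS U
    (t - secJ (wmap g) S.X₂ ψ ≫ S.X₂.obj.map (a₁ g).op +
      secJ (wmap g) S.X₂ ψ ≫ S.X₂.obj.map (a₂ g).op) (by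
    rw [Preadditive.add_comp, Preadditive.sub_comp, Category.assoc, Category.assoc, hπ, hπ,
      reassoc_of% ht', reassoc_of% ht', hq1, hq2, sub_self, zero_add])
  have hfin : r' ≫ F.obj.map g.op = c := by
    rw [← cancel_mono (S.f.hom.app (op V)), Category.assoc]
    have e1 : F.obj.map g.op ≫ S.f.hom.app (op V) = S.f.hom.app (op U) ≫ S.X₂.obj.map g.op :=
      hι g
    rw [e1, reassoc_of% hr', Preadditive.add_comp, Preadditive.sub_comp, Category.assoc,
      Category.assoc, ← Functor.map_comp, ← Functor.map_comp, ← op_comp, ← op_comp, g_a,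
      sub_add_cancel, ht]
  refine ⟨r'.hom (ULift.up 1), ?_⟩
  have := congrArg (fun k => k.hom (ULift.up 1)) hfin
  exact this.trans (pick_apply s)

end helpers

/-- Let X be a scheme and F an abelian sheaf on the small étale site of X such that H^q(W, F|_W) = 0 for
every étale X-scheme W and every q > 0 (F|_W the pullback of F along the structure morphism of W).
Then for every morphism g : V ⟶ U of étale X-schemes which is an open immersion, the restriction map
F(U) → F(V) is surjective. -/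
theorem result {X : Scheme.{u}}
    (F : EtCoh.Ab X)
    (hF : ∀ (W : X.Etale) (q : ℕ), 0 < q → Subsingleton (EtCoh.H W.left ((EtCoh.pull W.hom).obj F) q))
    {U V : X.Etale} (g : V ⟶ U) [IsOpenImmersion g.left] :
    Function.Surjective (F.obj.map g.op).hom := by
  exact main g F hF

end Groth.Agent.S14452
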