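import Groth.Statements.S19626
import Mathlib
import Groth.Prelude.Def_EtCore
import Groth.Prelude.Def_EtShriek2
import Groth.Agent.S0101
import Groth.Agent.S14452
import Groth.Agent.Lib.Helper10.EtLoc
import Groth.Agent.Lib.Helper24.EtOpen5

set_option autoImplicit false
universe u
open CategoryTheory CategoryTheory.Limits AlgebraicGeometry Opposite
open EtCore

namespace Groth.Agent.S19626

section helpers

open Groth.Agent.Helper10 Groth.Agent.Helper24.EtOpen

variable {X Y : Scheme.{u}}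

instance jcont_of_etale {U : Scheme.{u}} (j : U ⟶ X) [Etale j] : EtShriek.JCont j :=
  EtLoc.phi_cont j

instance pfl_pull (f : X ⟶ Y) : PreservesFiniteLimits (EtCoh.pull f) := Groth.Agent.S0101.result f

/-- flasque, in terms of `Ext` from the sheaves `j_! ℤ` -/
def Fl (F : EtCoh.Ab X) : Prop :=
  ∀ (U : Scheme.{u}) (j : U ⟶ X) [Etale j] (q : ℕ), 0 < q → Subsingleton (Abelian.Ext (PP j) F q)

lemma fl_of (F : EtCoh.Ab X)
    (hF : ∀ (W : X.Etale) (q : ℕ), 0 < q →
      Subsingleton (EtCoh.H W.left ((EtCoh.pull W.hom).obj F) q)) : Fl F := by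
  intro U j _ q hq
  have h1 : Subsingleton (EtCoh.H U ((EtCoh.pull j).obj F) q) := hF (Scheme.Etale.mk j) q hq
  exact @Equiv.subsingleton _ _ (Phi j F q).toEquiv h1

lemma of_fl (F : EtCoh.Ab X) (hF : Fl F) {U : Scheme.{u}} (j : U ⟶ X) [Etale j] (q : ℕ)
    (hq : 0 < q) : Subsingleton (EtCoh.H U ((EtCoh.pull j).obj F) q) := by
  have h1 := hF U j q hq
  exact @Equiv.subsingleton _ _ (Phi j F q).symm.toEquiv h1

/-- the standard short exact sequence `0 → F → I → I/F → 0` with `I` injective -/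
noncomputable def SS (F : EtCoh.Ab X) : ShortComplex (EtCoh.Ab X) :=
  ShortComplex.mk (Injective.ι F) (cokernel.π (Injective.ι F)) (cokernel.condition _)

lemma SS_shortExact (F : EtCoh.Ab X) : (SS F).ShortExact :=
  { exact := ShortComplex.exact_cokernel (Injective.ι F)
    mono_f := inferInstanceAs (Mono (Injective.ι F))
    epi_g := inferInstanceAs (Epi (cokernel.π (Injective.ι F))) }

instance injective_SS (F : EtCoh.Ab X) : Injective (SS F).X₂ :=
  inferInstanceAs (Injective (Injective.under F))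

lemma fl_X₃ (F : EtCoh.Ab X) (hF : Fl F) : Fl (SS F).X₃ := by
  intro U j _ q hq
  have key : ∀ x : Abelian.Ext (PP j) (SS F).X₃ q, x = 0 := by
    intro x
    have h1 : x.comp (SS_shortExact F).extClass rfl = 0 :=
      (hF U j (q + 1) (Nat.succ_pos _)).elim _ _
    obtain ⟨x₂, hx₂⟩ := Abelian.Ext.covariant_sequence_exact₃ _ (SS_shortExact F) x rfl h1
    have h2 : x₂ = 0 := by
      obtain ⟨q', rfl⟩ := Nat.exists_eq_succ_of_ne_zero hq.ne'
      exact Abelian.Ext.eq_zero_of_injective x₂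
    rw [← hx₂, h2, Abelian.Ext.zero_comp]
  exact ⟨fun a b => (key a).trans (key b).symm⟩

/-- the comparison maps between `W` and `[W.left → X]` -/
noncomputable def toW (W : X.Etale) (j : (W.left : Scheme.{u}) ⟶ X) (hj : j = W.hom) [Etale j] :
    objOf j ⟶ W :=
  MorphismProperty.Over.homMk (𝟙 W.left) (by
    subst hj
    show 𝟙 W.left ≫ W.hom = 𝟙 _ ≫ W.hom
    rfl) trivial

noncomputable def ofW (W : X.Etale) (j : (W.left : Scheme.{u}) ⟶ X) (hj : j = W.hom) [Etale j] :
    W ⟶ objOf j :=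
  MorphismProperty.Over.homMk (𝟙 W.left) (by
    subst hj
    show 𝟙 W.left ≫ (𝟙 _ ≫ W.hom) = W.hom
    rw [Category.id_comp, Category.id_comp]) trivial

lemma ofW_toW (W : X.Etale) (j : (W.left : Scheme.{u}) ⟶ X) (hj : j = W.hom) [Etale j] :
    ofW W j hj ≫ toW W j hj = 𝟙 W := by
  apply MorphismProperty.Over.Hom.ext
  show 𝟙 W.left ≫ 𝟙 W.left = 𝟙 W.left
  exact Category.id_comp _

lemma sec_surj (F : EtCoh.Ab X) (hF : Fl F) (W : X.Etale) :
    Function.Surjective ((SS F).g.hom.app (op W)) := by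
  intro t
  let j : (W.left : Scheme.{u}) ⟶ X := W.hom
  have : Etale j := W.prop
  have hsub : Subsingleton (Abelian.Ext (PP j) (SS F).X₁ 1) := hF _ j 1 Nat.one_pos
  let t' : (SS F).X₃.obj.obj (op (objOf j)) := (SS F).X₃.obj.map (toW W j rfl).op t
  let φ₀ : PP j ⟶ (SS F).X₃ := (secJ j (SS F).X₃).symm (pick t')
  obtain ⟨ψ, hψ⟩ := Groth.Agent.S14452.ext_lift (SS_shortExact F) (PP j) φ₀
  have h1 : secJ j (SS F).X₂ ψ ≫ (SS F).g.hom.app (op (objOf j)) = pick t' := by
    rw [← secJ_comp, hψ, Equiv.apply_symm_apply]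
  let s' : (SS F).X₂.obj.obj (op (objOf j)) := (secJ j (SS F).X₂ ψ).hom (ULift.up 1)
  have h2 : (SS F).g.hom.app (op (objOf j)) s' = t' := by
    have := congrArg (fun k => k.hom (ULift.up 1)) h1
    exact this.trans (pick_apply t')
  refine ⟨(SS F).X₂.obj.map (ofW W j rfl).op s', ?_⟩
  have hnat := ConcreteCategory.congr_hom ((SS F).g.hom.naturality (ofW W j rfl).op) s'
  rw [ConcreteCategory.comp_apply, ConcreteCategory.comp_apply] at hnat
  rw [hnat, h2]
  show (SS F).X₃.obj.map (ofW W j rfl).op ((SS F).X₃.obj.map (toW W j rfl).op t) = t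
  rw [← ConcreteCategory.comp_apply, ← Functor.map_comp, ← op_comp, ofW_toW, op_id,
    CategoryTheory.Functor.map_id]
  rfl

lemma push_shortExact (f : X ⟶ Y) (F : EtCoh.Ab X) (hF : Fl F) :
    ((SS F).map (EtCoh.push f)).ShortExact := by
  have hS := SS_shortExact F
  have hpl : PreservesLimitsOfSize.{0, 0} (EtCoh.push f) :=
    (EtCoh.pullPushAdj f).rightAdjoint_preservesLimits
  have hex : ((SS F).map (EtCoh.push f)).Exact :=
    hS.exact.map_of_mono_of_preservesKernel (EtCoh.push f) hS.mono_f inferInstance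
  have hmono : Mono ((SS F).map (EtCoh.push f)).f := by
    have := hS.mono_f
    show Mono ((EtCoh.push f).map (SS F).f)
    infer_instance
  have hepi : Epi ((SS F).map (EtCoh.push f)).g := by
    show Epi ((EtCoh.push f).map (SS F).g)
    rw [← Sheaf.isLocallySurjective_iff_epi']
    apply Presheaf.isLocallySurjective_of_surjective
    intro V
    exact sec_surj F hF ((EtCoh.bc f).obj V.unop)
  exact ShortComplex.ShortExact.mk hex

instance injective_push (f : X ⟶ Y) (I : EtCoh.Ab X) [Injective I] :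
    Injective ((EtCoh.push f).obj I) :=
  Injective.injective_of_adjoint (EtCoh.pullPushAdj f) I

lemma comp_g_extClass {C : Type*} [Category C] [Abelian C] [HasExt C] {S : ShortComplex C}
    (hS : S.ShortExact) {P : C} (ψ : P ⟶ S.X₂) :
    (Abelian.Ext.mk₀ (ψ ≫ S.g)).comp hS.extClass (zero_add 1) = 0 := by
  rw [← Abelian.Ext.mk₀_comp_mk₀, Abelian.Ext.comp_assoc_of_second_deg_zero, hS.comp_extClass,
    Abelian.Ext.comp_zero]

lemma eq_zero_of_comp_extClass {C : Type*} [Category C] [Abelian C] [HasExt C]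
    {S : ShortComplex C} (hS : S.ShortExact) {P : C} {n m : ℕ} (h : n + 1 = m)
    (x : Abelian.Ext P S.X₁ m) (x₃ : Abelian.Ext P S.X₃ n) (hx : x₃.comp hS.extClass h = x)
    (h3 : x₃ = 0) : x = 0 := by
  subst h3
  rw [← hx, Abelian.Ext.zero_comp]

lemma eq_zero_of_lift {C : Type*} [Category C] [Abelian C] [HasExt C]
    {S : ShortComplex C} (hS : S.ShortExact) {P : C} (x : Abelian.Ext P S.X₁ 1)
    (φ : P ⟶ S.X₃) (hx : (Abelian.Ext.mk₀ φ).comp hS.extClass (zero_add 1) = x)
    (ψ : P ⟶ S.X₂) (hψ : ψ ≫ S.g = φ) : x = 0 := by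
  subst hψ
  rw [← hx]
  exact comp_g_extClass hS ψ

theorem key (f : X ⟶ Y) : ∀ (n : ℕ) (F : EtCoh.Ab X), Fl F → ∀ (U : Scheme.{u}) (j : U ⟶ Y)
    [Etale j] (x : Abelian.Ext (PP j) ((EtCoh.push f).obj F) (n + 1)), x = 0 := by
  intro n
  induction n with
  | zero =>
    intro F hF U j _ x
    have hS' := push_shortExact f F hF
    have h1 : x.comp (Abelian.Ext.mk₀ ((SS F).map (EtCoh.push f)).f) (add_zero 1) = 0 :=
      Abelian.Ext.eq_zero_of_injective (I := (EtCoh.push f).obj (SS F).X₂) _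
    obtain ⟨x₃, hx₃⟩ := Abelian.Ext.covariant_sequence_exact₁ _ hS' x h1 (rfl : 0 + 1 = 1)
    obtain ⟨φ, rfl⟩ := (Abelian.Ext.mk₀_bijective _ _).2 x₃
    have hlift : ∃ ψ : PP j ⟶ (EtCoh.push f).obj (SS F).X₂,
        ψ ≫ (EtCoh.push f).map (SS F).g = φ := by
      let c := secJ j ((EtCoh.push f).obj (SS F).X₃) φ
      obtain ⟨s, hs⟩ := sec_surj F hF ((EtCoh.bc f).obj (objOf j)) (c.hom (ULift.up 1))
      refine ⟨(secJ j ((EtCoh.push f).obj (SS F).X₂)).symm (pick s), ?_⟩
      apply (secJ j ((EtCoh.push f).obj (SS F).X₃)).injective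
      rw [secJ_comp, Equiv.apply_symm_apply]
      apply MZ_hom_ext
      show ((EtCoh.push f).map (SS F).g).hom.app (op (objOf j)) ((pick s).hom (ULift.up 1)) = _
      rw [pick_apply]
      exact hs
    obtain ⟨ψ, hψ⟩ := hlift
    exact eq_zero_of_lift hS' x φ hx₃ ψ hψ
  | succ n ih =>
    intro F hF U j _ x
    have hS' := push_shortExact f F hF
    have h1 : x.comp (Abelian.Ext.mk₀ ((SS F).map (EtCoh.push f)).f) (add_zero (n + 1 + 1)) = 0 :=
      Abelian.Ext.eq_zero_of_injective (I := (EtCoh.push f).obj (SS F).X₂) _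
    obtain ⟨x₃, hx₃⟩ := Abelian.Ext.covariant_sequence_exact₁ _ hS' x h1
      (rfl : (n + 1) + 1 = n + 1 + 1)
    have h3 : x₃ = 0 := ih (SS F).X₃ (fl_X₃ F hF) U j x₃
    exact eq_zero_of_comp_extClass hS' rfl x x₃ hx₃ h3

theorem main {X Y : Scheme.{u}} (f : X ⟶ Y)
    (F : EtCoh.Ab X)
    (hF : ∀ (W : X.Etale) (q : ℕ), 0 < q → Subsingleton (EtCoh.H W.left ((EtCoh.pull W.hom).obj F) q))
    (W' : Y.Etale) (q : ℕ) (hq : 0 < q) :
    Subsingleton (EtCoh.H W'.left ((EtCoh.pull W'.hom).obj ((EtCoh.push f).obj F)) q) := by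
  let j : (W'.left : Scheme.{u}) ⟶ Y := W'.hom
  have hj : Etale j := W'.prop
  obtain ⟨n, rfl⟩ := Nat.exists_eq_succ_of_ne_zero hq.ne'
  have h1 : Subsingleton (Abelian.Ext (PP j) ((EtCoh.push f).obj F) (n + 1)) :=
    ⟨fun a b => (key f n F (fl_of F hF) _ j a).trans (key f n F (fl_of F hF) _ j b).symm⟩
  exact @Equiv.subsingleton _ _ (Phi j ((EtCoh.push f).obj F) (n + 1)).symm.toEquiv h1

end helpers

/-- Let f : X → Y be a morphism of schemes and F an abelian sheaf on the small étale site of X which is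
flasque in the sense of étale cohomology: H^q(W, F|_W) = 0 for every étale X-scheme W and every q >
0, where F|_W is the pullback of F along the structure morphism of W. Then the direct image f_*F is
flasque on Y in the same sense: H^q(W', (f_*F)|_{W'}) = 0 for every étale Y-scheme W' and every q >
0. -/
theorem result {X Y : Scheme.{u}} (f : X ⟶ Y)
    (F : EtCoh.Ab X)
    (hF : ∀ (W : X.Etale) (q : ℕ), 0 < q → Subsingleton (EtCoh.H W.left ((EtCoh.pull W.hom).obj F) q))
    (W' : Y.Etale) (q : ℕ) (hq : 0 < q) :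
    Subsingleton (EtCoh.H W'.left ((EtCoh.pull W'.hom).obj ((EtCoh.push f).obj F)) q) := by
  exact main f F hF W' q hq

end Groth.Agent.S19626
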