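import Groth.Statements.S6643
import Groth.Agent.Lib.Helper10.LcEt

set_option autoImplicit false
open CategoryTheory CategoryTheory.Limits AlgebraicGeometry Opposite
universe u
open EtModW

namespace Groth.Agent.S6643

section helpers
open Groth.Agent.Helper10.LcSite Groth.Agent.Helper10.LcEt MonoidalCategory

variable (Λ : Type (u + 1)) [CommRing Λ] {X : Scheme.{u}}

/-- restriction of presheaves to `Over V`. -/
abbrev resP (V : X.Etale) (P : X.Etaleᵒᵖ ⥤ ModuleCat.{u + 1} Λ) :
    (Over V)ᵒᵖ ⥤ ModuleCat.{u + 1} Λ := (Over.forget V).op ⋙ P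

/-- restriction commutes with the pointwise tensor product. -/
noncomputable def resTensorIso (V : X.Etale) (P Q : X.Etaleᵒᵖ ⥤ ModuleCat.{u + 1} Λ) :
    resP Λ V (P ⊗ Q) ≅ resP Λ V P ⊗ resP Λ V Q :=
  NatIso.ofComponents (fun _ => Iso.refl _) (by
    intro A B f
    simp)

/-- tensor product of constant presheaves -/
noncomputable def constTensorIso (V : X.Etale) (M N : ModuleCat.{u + 1} Λ) :
    (Functor.const (Over V)ᵒᵖ).obj M ⊗ (Functor.const (Over V)ᵒᵖ).obj N ≅
      (Functor.const (Over V)ᵒᵖ).obj (M ⊗ N) :=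
  NatIso.ofComponents (fun _ => Iso.refl _) (by
    intro A B f
    simp)

theorem tensor_triv (V : X.Etale) (F G : EtModW.Mod Λ X) {M N : ModuleCat.{u + 1} Λ}
    (α : F.over V ≅ (constantSheaf (X.smallEtaleTopology.over V) (ModuleCat.{u + 1} Λ)).obj M)
    (β : G.over V ≅ (constantSheaf (X.smallEtaleTopology.over V) (ModuleCat.{u + 1} Λ)).obj N) :
    Nonempty ((((EtModD.tensorBi Λ X).obj F).obj G).over V ≅
      (constantSheaf (X.smallEtaleTopology.over V) (ModuleCat.{u + 1} Λ)).obj (M ⊗ N)) := by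
  let K := X.smallEtaleTopology.over V
  let A := ModuleCat.{u + 1} Λ
  let e1 := ((Over.forget V).pushforwardContinuousSheafificationCompatibility A K
    X.smallEtaleTopology).symm.app (F.obj ⊗ G.obj)
  let e2 := (presheafToSheaf K A).mapIso (resTensorIso Λ V F.obj G.obj)
  let a : (Functor.const (Over V)ᵒᵖ).obj M ⟶ (F.over V).obj :=
    toSheafify K _ ≫ α.inv.hom
  let b : (Functor.const (Over V)ᵒᵖ).obj N ⟶ (G.over V).obj :=
    toSheafify K _ ≫ β.inv.hom
  have ha : K.W a := (K.W (A := A)).comp_mem _ _ (K.W_toSheafify _)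
    ((K.W_sheafToPresheaf_map_iff_isIso α.inv).2 inferInstance)
  have hb : K.W b := (K.W (A := A)).comp_mem _ _ (K.W_toSheafify _)
    ((K.W_sheafToPresheaf_map_iff_isIso β.inv).2 inferInstance)
  have hab : K.W (a ⊗ₘ b) := by
    rw [MonoidalCategory.tensorHom_def]
    exact (K.W (A := A)).comp_mem _ _ (ha.whiskerRight _) (hb.whiskerLeft _)
  have : IsIso ((presheafToSheaf K A).map (a ⊗ₘ b)) := (K.W_iff _).1 hab
  let e3 := asIso ((presheafToSheaf K A).map (a ⊗ₘ b))
  let e4 := (presheafToSheaf K A).mapIso (constTensorIso Λ V M N)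
  exact ⟨e1 ≪≫ e2 ≪≫ e3.symm ≪≫ e4⟩

theorem main (Λ : Type (u + 1)) [CommRing Λ] {X : Scheme.{u}} (F G : EtModW.Mod Λ X)
    (hF : EtModW.IsFTLocConst Λ F) (hG : EtModW.IsFTLocConst Λ G) :
    EtModW.IsFTLocConst Λ (((EtModD.tensorBi Λ X).obj F).obj G) := by
  obtain ⟨ι, U, hU, hFU⟩ := hF
  obtain ⟨ι', U', hU', hGU⟩ := hG
  choose M iM mM fM αM using hFU
  choose N iN mN fN βN using hGU
  obtain ⟨κ, V, a, b, p, q, hV⟩ := covers_common U U' hU hU'
  refine ⟨κ, V, hV, fun k => ?_⟩
  obtain ⟨e⟩ := tensor_triv Λ (V k) F G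
    (trivRes X.smallEtaleTopology (αM (a k)).some (p k))
    (trivRes X.smallEtaleTopology (βN (b k)).some (q k))
  have := fM (a k)
  have := fN (b k)
  exact ⟨TensorProduct Λ (M (a k)) (N (b k)), inferInstance, inferInstance, inferInstance, ⟨e⟩⟩

end helpers

/-- On the small etale site of a scheme X, the tensor product over Λ of two finite type locally constant
sheaves of Λ-modules is finite type locally constant. (The published statement covers all locally
constant sheaves of Λ-modules; this row treats the finite type ones.) -/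
theorem result (Λ : Type (u + 1)) [CommRing Λ] {X : Scheme.{u}} (F G : EtModW.Mod Λ X)
    (hF : EtModW.IsFTLocConst Λ F) (hG : EtModW.IsFTLocConst Λ G) :
    EtModW.IsFTLocConst Λ (((EtModD.tensorBi Λ X).obj F).obj G) := by
  exact main Λ F G hF hG

end Groth.Agent.S6643
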