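import Groth.Statements.S0124
import Mathlib
import Groth.Agent.S0099
import Groth.Agent.Lib.Helper10.EtLoc

set_option autoImplicit false
universe u
open CategoryTheory CategoryTheory.Limits AlgebraicGeometry Opposite
open EtPBC

namespace Groth.Agent.S0124

section helpers

attribute [-instance] Groth.Agent.Helper13.DeltaFColim.forgetPres

variable {X : Scheme.{u}}

/-- The diagram `F --1--> F --2--> F --3--> ⋯`. -/
noncomputable def D (F : EtCoh.Ab X) : ℕ ⥤ EtCoh.Ab X :=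
  Functor.ofSequence (X := fun _ => F) (fun k => ((k + 1 : ℕ) • 𝟙 F))

lemma D_map_zero (F : EtCoh.Ab X) (k : ℕ) (f : (0 : ℕ) ⟶ k) :
    ∃ N : ℕ, 0 < N ∧ (D F).map f = N • 𝟙 F := by
  induction k with
  | zero =>
    refine ⟨1, Nat.one_pos, ?_⟩
    have : f = 𝟙 _ := Subsingleton.elim _ _
    rw [this]
    exact ((D F).map_id 0).trans (one_nsmul (𝟙 F)).symm
  | succ k ih =>
    obtain ⟨N, hN, h⟩ := ih (homOfLE (Nat.zero_le k))
    refine ⟨N * (k + 1), Nat.mul_pos hN (Nat.succ_pos k), ?_⟩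
    have : f = homOfLE (Nat.zero_le k) ≫ homOfLE (Nat.le_add_right k 1) := Subsingleton.elim _ _
    rw [this, Functor.map_comp, h]
    have h2 : (D F).map (homOfLE (Nat.le_add_right k 1)) = ((k + 1 : ℕ) • 𝟙 F) :=
      Functor.ofSequence_map_homOfLE_succ _ k
    rw [h2]
    change (N • 𝟙 F) ≫ ((k + 1) • 𝟙 F) = (N * (k + 1)) • 𝟙 F
    rw [Preadditive.nsmul_comp, Preadditive.comp_nsmul, Category.id_comp, mul_comm, mul_nsmul]

/-- Every leg of a cocone factors through multiplication by a multiple of any later index. -/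
lemma cocone_factor (F : EtCoh.Ab X) (c : Cocone (D F)) (k m : ℕ) (h : k < m) :
    ∃ N : ℕ, m ∣ N ∧ c.ι.app k = (N • 𝟙 F) ≫ c.ι.app m := by
  induction m with
  | zero => exact absurd h (Nat.not_lt_zero k)
  | succ m ih =>
    have h2 : (D F).map (homOfLE (Nat.le_add_right m 1)) = ((m + 1 : ℕ) • 𝟙 F) :=
      Functor.ofSequence_map_homOfLE_succ _ m
    have hw := c.w (homOfLE (Nat.le_add_right m 1))
    rw [h2] at hw
    rcases Nat.lt_succ_iff_lt_or_eq.1 h with h' | rfl
    · obtain ⟨N, -, hN⟩ := ih h'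
      refine ⟨N * (m + 1), Dvd.intro_left N rfl, ?_⟩
      rw [hN, ← hw]
      change (N • 𝟙 F) ≫ ((m + 1) • 𝟙 F) ≫ c.ι.app (m + 1) = ((N * (m + 1)) • 𝟙 F) ≫ c.ι.app (m + 1)
      rw [← Category.assoc, Preadditive.nsmul_comp, Preadditive.comp_nsmul, Category.id_comp,
        mul_comm, mul_nsmul]
    · exact ⟨k + 1, dvd_rfl, hw.symm⟩

lemma hom_eq_zero_of_locally {F P : EtCoh.Ab X} (φ : F ⟶ P)
    (h : ∀ (U : X.Etale) (s : F.obj.obj (op U)) (x : U.left), ∃ (V : X.Etale) (g : V ⟶ U),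
      (∃ v : V.left, g.left.base v = x) ∧ φ.hom.app (op V) (F.obj.map g.op s) = 0) : φ = 0 := by
  apply Sheaf.hom_ext
  ext U s
  have h2 : Presieve.IsSheaf X.smallEtaleTopology (P.obj ⋙ forget AddCommGrpCat.{u + 1}) :=
    Presieve.isSheaf_iso _ (Functor.isoWhiskerLeft P.obj AddCommGrpCat.coyonedaObjIsoForget)
      (P.property (AddCommGrpCat.of (ULift ℤ)))
  have hcov : Presheaf.equalizerSieve (F := P.obj) (φ.hom.app U s) 0 ∈
      X.smallEtaleTopology U.unop := by
    rw [Groth.Agent.Helper10.EtLoc.mem_iff]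
    intro x
    obtain ⟨V, g, ⟨v, hv⟩, hz⟩ := h U.unop s x
    refine ⟨V, g, v, ?_, hv⟩
    change P.obj.map g.op (φ.hom.app U s) = P.obj.map g.op 0
    rw [map_zero]
    have hnat := ConcreteCategory.congr_hom (φ.hom.naturality g.op) s
    rw [ConcreteCategory.comp_apply, ConcreteCategory.comp_apply] at hnat
    rw [← hnat]
    exact hz
  exact (h2 _ hcov).isSeparatedFor.ext (fun V f hf => hf)

lemma app_nsmul_comp {F P : EtCoh.Ab X} (N : ℕ) (ψ : F ⟶ P) (V : X.Etale)
    (x : F.obj.obj (op V)) :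
    ((N • 𝟙 F) ≫ ψ).hom.app (op V) x = ψ.hom.app (op V) (N • x) := by
  rw [Preadditive.nsmul_comp, Category.id_comp]
  let ev : (F ⟶ P) →+ P.obj.obj (op V) :=
    AddMonoidHom.mk' (fun φ => φ.hom.app (op V) x) (fun a b => rfl)
  have h1 : (N • ψ).hom.app (op V) x = N • ψ.hom.app (op V) x := map_nsmul ev N ψ
  rw [h1, map_nsmul]

lemma isZero_colimit (F : EtCoh.Ab X) (hF : EtCoh.IsTorsion F) : IsZero (colimit (D F)) := by
  rw [IsZero.iff_id_eq_zero]
  apply colimit.hom_ext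
  intro k
  rw [Category.comp_id, comp_zero]
  apply hom_eq_zero_of_locally
  intro U s x
  obtain ⟨V, g, hv, hs⟩ := hF U s x
  refine ⟨V, g, hv, ?_⟩
  obtain ⟨d, hd, hds⟩ := isOfFinAddOrder_iff_nsmul_eq_zero.1 hs
  obtain ⟨N, hN, hc⟩ := cocone_factor F (colimit.cocone (D F)) k (d * (k + 1))
    (lt_of_lt_of_le (Nat.lt_succ_self k) (Nat.le_mul_of_pos_left _ hd))
  have hdN : d ∣ N := Dvd.dvd.trans (Dvd.intro _ rfl) hN
  obtain ⟨e, rfl⟩ := hdN
  change (colimit.cocone (D F)).ι.app k = _ at hc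
  change ((colimit.cocone (D F)).ι.app k).hom.app (op V) (F.obj.map g.op s) = 0
  rw [hc]
  have key := app_nsmul_comp (d * e)
    (show F ⟶ colimit (D F) from (colimit.cocone (D F)).ι.app (d * (k + 1))) V (F.obj.map g.op s)
  refine key.trans ?_
  rw [mul_nsmul, hds, nsmul_zero, map_zero]

instance (n : ℕ) : (EtCoh.HF X n).Additive := by
  unfold EtCoh.HF
  infer_instance

theorem main (X : Scheme.{u}) [CompactSpace X] [QuasiSeparatedSpace X]
    (F : EtCoh.Ab X) (hF : EtCoh.IsTorsion F) (n : ℕ) :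
    IsAddTorsion (EtCoh.H X F n) := by
  intro ξ
  have hpres : PreservesColimitsOfShape ℕ (EtCoh.HF X n) := by
    have hI : IsFiltered (AsSmall.{u} ℕ) := IsFiltered.of_equivalence (AsSmall.equiv (C := ℕ))
    have := Groth.Agent.S0099.result X n (AsSmall.{u} ℕ)
    exact preservesColimitsOfShape_of_equiv (AsSmall.equiv (C := ℕ)).symm _
  let c := (EtCoh.HF X n).mapCocone (colimit.cocone (D F))
  have hc : IsColimit c := isColimitOfPreserves _ (colimit.isColimit _)
  have hz : c.ι.app 0 ξ = 0 := by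
    have : IsZero c.pt := (EtCoh.HF X n).map_isZero (isZero_colimit F hF)
    exact (AddCommGrpCat.subsingleton_of_isZero this).elim _ _
  obtain ⟨k, f, hk⟩ :=
    Groth.Agent.Helper13.DeltaFColim.eq_zero_of_rep (D F ⋙ EtCoh.HF X n) hc ξ hz
  obtain ⟨N, hN, hD⟩ := D_map_zero F k f
  rw [isOfFinAddOrder_iff_nsmul_eq_zero]
  refine ⟨N, hN, ?_⟩
  have h0 : (EtCoh.HF X n).map (N • 𝟙 F) = N • 𝟙 ((EtCoh.HF X n).obj F) := by
    rw [Functor.map_nsmul, CategoryTheory.Functor.map_id]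
  have h1 : (EtCoh.HF X n).map ((D F).map f) = N • 𝟙 ((EtCoh.HF X n).obj F) :=
    (congrArg (fun φ => (EtCoh.HF X n).map φ) hD).trans h0
  have h2 := ConcreteCategory.congr_hom h1 ξ
  exact h2.symm.trans hk

end helpers

/-- Part (1): if X is quasi-compact and quasi-separated and F is a torsion abelian sheaf on X_et, then
H^n(X_et, F) is a torsion abelian group for every n. -/
theorem result (X : Scheme.{u}) [CompactSpace X] [QuasiSeparatedSpace X]
    (F : EtCoh.Ab X) (hF : EtCoh.IsTorsion F) (n : ℕ) :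
    IsAddTorsion (EtCoh.H X F n) := by
  exact main X F hF n

end Groth.Agent.S0124
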