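import Groth.Statements.S0125
import Mathlib
import Groth.Agent.Lib.Helper10.SmallEtTors
import Groth.Agent.Lib.Helper10.SmallEtRel

set_option autoImplicit false
universe u
open CategoryTheory CategoryTheory.Limits AlgebraicGeometry Opposite
open EtPBC

namespace Groth.Agent.S0125

section helpers

attribute [-instance] Groth.Agent.Helper13.DeltaFColim.forgetPres

open Groth.Agent.Helper10.SmallEt Groth.Agent.Helper10.SmallEtRel Groth.Agent.Helper10.SmallEtTors

variable {X Y : Scheme.{u}}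

/-- every point of an object of the small model has an affine étale neighbourhood -/
lemma exists_affine_nbhd (W : Cs Y) (y : ((toSch Y).obj W : Scheme.{u})) :
    ∃ (W' : Cs Y) (h : W' ⟶ W), W' ∈ Bs Y ∧ y ∈ Set.range ((toSch Y).map h).base := by
  obtain ⟨O, hO, hyO, -⟩ := TopologicalSpace.Opens.isBasis_iff_nbhd.mp
    (Scheme.isBasis_affineOpens ((toSch Y).obj W)) (TopologicalSpace.Opens.mem_top y)
  let V₀ : Y.Etale := (eqv Y).inverse.obj W
  let O' : (V₀.left : Scheme.{u}).Opens := O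
  let Z : Y.Etale := Scheme.Etale.mk (O'.ι ≫ V₀.hom)
  let k : Z ⟶ V₀ := MorphismProperty.Over.homMk O'.ι rfl trivial
  have hA : IsAffine ((toSch Y).obj ⟨Z⟩) := hO
  refine ⟨⟨Z⟩, ⟨k⟩, ⟨inferInstance, inferInstance⟩, ⟨⟨y, hyO⟩, rfl⟩⟩

/-- the sieve of maps along which a section has finite order -/
def finOrderSieve (Q : (Cs Y)ᵒᵖ ⥤ AddCommGrpCat.{u+1}) {V₀ : Cs Y} (t : Q.obj (op V₀)) :
    Sieve V₀ where
  arrows W g := IsOfFinAddOrder (Q.map g.op t)
  downward_closed := by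
    intro W W' g hg h
    have : Q.map (h ≫ g).op t = Q.map h.op (Q.map g.op t) := by
      rw [op_comp, Q.map_comp]
      rfl
    rw [this]
    exact AddMonoidHom.isOfFinAddOrder (Q.map h.op).hom hg

lemma finOrderSieve_mem (P : (Cs Y)ᵒᵖ ⥤ AddCommGrpCat.{u+1})
    (hP : ∀ V ∈ Bs Y, ∀ ξ : P.obj (op V), IsOfFinAddOrder ξ) (V₀ : Cs Y)
    (t : (sheafify (Ks Y) P).obj (op V₀)) :
    finOrderSieve (sheafify (Ks Y) P) t ∈ Ks Y V₀ := by
  have himg := Presheaf.imageSieve_mem (Ks Y) (toSheafify (Ks Y) P) t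
  refine (Ks Y).transitive himg _ (fun W g hg => ?_)
  obtain ⟨p, hp⟩ := hg
  rw [mem_Ks_iff]
  intro y
  obtain ⟨W', h, hW', y', hy'⟩ := exists_affine_nbhd W y
  refine ⟨W', h, y', ?_, hy'⟩
  change IsOfFinAddOrder ((sheafify (Ks Y) P).map (h ≫ g).op t)
  have e1 : (sheafify (Ks Y) P).map (h ≫ g).op t =
      (sheafify (Ks Y) P).map h.op ((sheafify (Ks Y) P).map g.op t) := by
    rw [op_comp, (sheafify (Ks Y) P).map_comp]
    rfl
  have e2 := ConcreteCategory.congr_hom ((toSheafify (Ks Y) P).naturality h.op) p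
  rw [ConcreteCategory.comp_apply, ConcreteCategory.comp_apply] at e2
  rw [e1, ← hp, ← e2]
  exact AddMonoidHom.isOfFinAddOrder ((toSheafify (Ks Y) P).app (op W')).hom (hP W' hW' _)

theorem main (f : X ⟶ Y) [QuasiCompact f] [QuasiSeparated f]
    (F : EtCoh.Ab X) (hF : EtCoh.IsTorsion F) (n : ℕ) :
    EtCoh.IsTorsion ((EtCoh.Rpush f n).obj F) := by
  obtain ⟨φ⟩ := rpushIso f F n
  intro U s x
  let P : (Cs Y)ᵒᵖ ⥤ AddCommGrpCat.{u+1} :=
    (us f).op ⋙ Sheaf.cohomologyPresheaf.{u+1} ((Phi X).functor.obj F) n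
  have hP : ∀ V ∈ Bs Y, ∀ ξ : P.obj (op V), IsOfFinAddOrder ξ := fun V hV ξ =>
    isOfFinAddOrder_HW ((us f).obj V) (us_mem_Bs f V hV) n F hF ξ
  let V₀ : Cs Y := (eqv Y).functor.obj U
  let t : (sheafify (Ks Y) P).obj (op V₀) := φ.hom.hom.app (op V₀) s
  have hmem := finOrderSieve_mem P hP V₀ t
  rw [mem_Ks_iff] at hmem
  obtain ⟨V, g, y, hg, hy⟩ := hmem x
  refine ⟨(eqv Y).inverse.obj V, (eqv Y).inverse.map g, ⟨y, hy⟩, ?_⟩
  have hnat := ConcreteCategory.congr_hom (φ.hom.hom.naturality g.op) s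
  rw [ConcreteCategory.comp_apply, ConcreteCategory.comp_apply] at hnat
  change IsOfFinAddOrder ((sheafify (Ks Y) P).map g.op t) at hg
  rw [← hnat] at hg
  obtain ⟨N, hN, hNs⟩ := isOfFinAddOrder_iff_nsmul_eq_zero.1 hg
  rw [isOfFinAddOrder_iff_nsmul_eq_zero]
  refine ⟨N, hN, ?_⟩
  rw [← map_nsmul] at hNs
  have hinj : Function.Injective (φ.hom.hom.app (op V)) := by
    have : IsIso (φ.hom.hom.app (op V)) :=
      inferInstanceAs (IsIso (((sheafToPresheaf _ _).map φ.hom).app (op V)))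
    exact ((ConcreteCategory.isIso_iff_bijective _).1 this).1
  exact hinj (hNs.trans (map_zero _).symm)

end helpers

/-- Part (1): for f : X -> Y quasi-compact and quasi-separated and F a torsion abelian sheaf on X_et,
each R^n f_* F is a torsion abelian sheaf on Y_et. -/
theorem result {X Y : Scheme.{u}} (f : X ⟶ Y) [QuasiCompact f] [QuasiSeparated f]
    [EtCoh.BCCont f] (F : EtCoh.Ab X) (hF : EtCoh.IsTorsion F) (n : ℕ) :
    EtCoh.IsTorsion ((EtCoh.Rpush f n).obj F) := by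
  exact main f F hF n

end Groth.Agent.S0125
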