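import Groth.Statements.S0942
import Mathlib
import Groth.Agent.Lib.Helper10.LanExact
import Groth.Agent.Lib.Helper10.AdjKInj

set_option autoImplicit false
universe u
open CategoryTheory
open CohSite

namespace Groth.Agent.S0942

section helpers

open CategoryTheory.Limits Opposite Groth.Agent.Helper10.LanExact

universe v₁ u₁

variable {C : Type u₁} [Category.{v₁} C] (U : C)

/-- The "terminal" object of the component attached to `φ : X' ⟶ U`. -/
def tObj (X : Cᵒᵖ) (φ : X.unop ⟶ U) : CostructuredArrow (Over.forget U).op X :=
  CostructuredArrow.mk (Y := op (Over.mk φ)) (𝟙 X)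

/-- The canonical map to the terminal object of the component. -/
def toT (X : Cᵒᵖ) (j : CostructuredArrow (Over.forget U).op X) (φ : X.unop ⟶ U)
    (h : j.hom.unop ≫ j.left.unop.hom = φ) : j ⟶ tObj U X φ :=
  CostructuredArrow.homMk (Over.homMk (U := Over.mk φ) (V := j.left.unop) j.hom.unop h).op (by
    apply Quiver.Hom.unop_inj
    simp [tObj])

lemma toT_unique (X : Cᵒᵖ) (j : CostructuredArrow (Over.forget U).op X) (φ : X.unop ⟶ U)
    (f g : j ⟶ tObj U X φ) : f = g := by
  have hf : 𝟙 _ ≫ f.left.unop.left = j.hom.unop :=
    congrArg Quiver.Hom.unop (CostructuredArrow.w f)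
  have hg : 𝟙 _ ≫ g.left.unop.left = j.hom.unop :=
    congrArg Quiver.Hom.unop (CostructuredArrow.w g)
  ext
  apply Quiver.Hom.unop_inj
  ext
  exact ((Category.id_comp _).symm.trans hf).trans ((Category.id_comp _).symm.trans hg).symm

theorem compFilt_overForget (X : Cᵒᵖ) : CompFilt (CostructuredArrow (Over.forget U).op X) where
  span := by
    intro i j j' a b
    have ha : j.hom.unop ≫ a.left.unop.left = i.hom.unop :=
      congrArg Quiver.Hom.unop (CostructuredArrow.w a)
    have hb : j'.hom.unop ≫ b.left.unop.left = i.hom.unop :=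
      congrArg Quiver.Hom.unop (CostructuredArrow.w b)
    have ha' : j.hom.unop ≫ j.left.unop.hom = i.hom.unop ≫ i.left.unop.hom :=
      (congrArg (fun t => j.hom.unop ≫ t) (Over.w a.left.unop)).symm.trans
        ((Category.assoc _ _ _).symm.trans (congrArg (fun t => t ≫ i.left.unop.hom) ha))
    have hb' : j'.hom.unop ≫ j'.left.unop.hom = i.hom.unop ≫ i.left.unop.hom :=
      (congrArg (fun t => j'.hom.unop ≫ t) (Over.w b.left.unop)).symm.trans
        ((Category.assoc _ _ _).symm.trans (congrArg (fun t => t ≫ i.left.unop.hom) hb))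
    exact ⟨tObj U X (i.hom.unop ≫ i.left.unop.hom), toT U X j _ ha', toT U X j' _ hb',
      toT_unique U X _ _ _ _⟩
  coeq := by
    intro j j' f g
    exact ⟨tObj U X (j'.hom.unop ≫ j'.left.unop.hom), toT U X j' _ rfl, toT_unique U X _ _ _ _⟩

end helpers

/-- Let U be an object of a site and I a K-injective complex of abelian sheaves. Then the restriction of
I to the site of objects over U (precomposition with the forgetful functor from the over category)
is a K-injective complex. -/
theorem result {C : Type u} [SmallCategory C] (J : GrothendieckTopology C) (U : C)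
    (I : CochainComplex (Sheaf J AddCommGrpCat.{u}) ℤ) (hI : I.IsKInjective) :
    CochainComplex.IsKInjective ((((Over.forget U).sheafPushforwardContinuous AddCommGrpCat.{u} (J.over U) J).mapHomologicalComplex
      (ComplexShape.up ℤ)).obj I) := by
  have h1 : Limits.PreservesFiniteLimits ((Over.forget U).sheafPullback AddCommGrpCat.{u} (J.over U) J) :=
    Groth.Agent.Helper10.LanExact.preservesFiniteLimits_sheafPullback_ab_of_compFilt
      (Over.forget U) _ _ (compFilt_overForget U)
  have adj := (Over.forget U).sheafAdjunctionContinuous AddCommGrpCat.{u} (J.over U) J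
  have : ((Over.forget U).sheafPullback AddCommGrpCat.{u} (J.over U) J).IsLeftAdjoint :=
    adj.isLeftAdjoint
  have : ((Over.forget U).sheafPushforwardContinuous AddCommGrpCat.{u} (J.over U) J).Additive :=
    ⟨fun {_ _ _ _} => rfl⟩
  have : ((Over.forget U).sheafPullback AddCommGrpCat.{u} (J.over U) J).Additive :=
    adj.left_adjoint_additive
  exact Groth.Agent.Helper10.AdjKInj.isKInjective_map adj I

end Groth.Agent.S0942
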