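import Groth.Statements.S0316
import Groth.Agent.Lib.Helper8.Matlis4

set_option autoImplicit false
universe u v
open Matlis

namespace Groth.Agent.S0316

/-- Over a complete Noetherian local ring with E an injective hull of the residue field, the E-dual of a
finite module is Artinian and the evaluation map into the double E-dual is bijective. -/
theorem result (R : Type u) [CommRing R] [IsLocalRing R] [IsNoetherianRing R] [IsAdicComplete (IsLocalRing.maximalIdeal R) R] (E : Type u) [AddCommGroup E] [Module R E] (f : IsLocalRing.ResidueField R →ₗ[R] E) (hf : InjHull.IsInjectiveHull f) (M : Type u) [AddCommGroup M] [Module R M] [Module.Finite R M] : IsArtinian R (M →ₗ[R] E) ∧ Function.Bijective (LinearMap.applyₗ : M →ₗ[R] (M →ₗ[R] E) →ₗ[R] E) := by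
  classical
  have hinjE : Module.Injective R E := hf.isInjective
  have hArt := Groth.Agent.Helper8.Matlis.isArtinian_dual_of_finite hf M
  refine ⟨hArt, Groth.Agent.Helper8.Matlis.applyₗ_injective hf M, ?_⟩
  have hEnd : ∀ ψ : E →ₗ[R] E, ∃ r : R, ∀ x, ψ x = r • x := by
    intro ψ
    obtain ⟨â, hâ⟩ := Groth.Agent.Helper8.Matlis.Φ_surjective hf ψ
    let r : R := (AdicCompletion.ofAlgEquiv (IsLocalRing.maximalIdeal R)).symm â
    have hr : AdicCompletion.of (IsLocalRing.maximalIdeal R) R r = â :=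
      AdicCompletion.of_ofAlgEquiv_symm _ â
    refine ⟨r, fun x => ?_⟩
    rw [← hâ, ← hr]
    have h1 : AdicCompletion.of (IsLocalRing.maximalIdeal R) R r =
        algebraMap R (AdicCompletion (IsLocalRing.maximalIdeal R) R) r := by
      rw [AdicCompletion.algebraMap_apply]
      rfl
    rw [h1, AlgHom.commutes, Module.algebraMap_end_apply]
  intro Θ
  obtain ⟨n, π, hπ⟩ := Module.Finite.exists_fin' R M
  let πd : (M →ₗ[R] E) →ₗ[R] ((Fin n → R) →ₗ[R] E) := LinearMap.lcomp R E π
  have hπd : Function.Injective πd := by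
    intro g g' h
    ext x
    obtain ⟨y, rfl⟩ := hπ x
    exact LinearMap.congr_fun h y
  obtain ⟨Θ', hΘ'⟩ := Module.Injective.extension_property R E _ _ πd hπd Θ
  have hθ : ∀ i : Fin n, ∃ r : R, ∀ x : E,
      Θ' (LinearMap.smulRightₗ (LinearMap.proj i : (Fin n → R) →ₗ[R] R) x) = r • x := by
    intro i
    exact hEnd (Θ' ∘ₗ LinearMap.smulRightₗ (LinearMap.proj i : (Fin n → R) →ₗ[R] R))
  choose v hv using hθ
  refine ⟨π v, ?_⟩
  ext φ
  rw [LinearMap.applyₗ_apply_apply]
  have h1 : Θ φ = Θ' (πd φ) := (LinearMap.congr_fun hΘ' φ).symm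
  rw [h1]
  have h2 : πd φ = ∑ i, LinearMap.smulRightₗ (LinearMap.proj i : (Fin n → R) →ₗ[R] R)
      ((πd φ) (fun j => if i = j then 1 else 0)) := by
    refine LinearMap.ext fun w => ?_
    rw [LinearMap.sum_apply, LinearMap.pi_apply_eq_sum_univ (πd φ) w]
    rfl
  rw [h2, map_sum]
  simp_rw [hv]
  rw [← LinearMap.pi_apply_eq_sum_univ (πd φ) v]
  rfl

end Groth.Agent.S0316
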