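import Groth.Statements.S0310
import Groth.Agent.Lib.Helper8.Matlis2

set_option autoImplicit false
universe u v
open Matlis

namespace Groth.Agent.S0310

open IsLocalRing Groth.Agent.Helper8.Matlis


/-- Over a local ring, a module killed elementwise by powers of the maximal ideal and whose socle has
finite dimension n over the residue field embeds into the n-fold sum of an injective hull of the
residue field. -/
theorem result (R : Type u) [CommRing R] [IsLocalRing R] (E : Type u) [AddCommGroup E] [Module R E] (f : IsLocalRing.ResidueField R →ₗ[R] E) (hf : InjHull.IsInjectiveHull f) (M : Type u) [AddCommGroup M] [Module R M] (hM : LocCoh.IsPowerTorsion (IsLocalRing.maximalIdeal R) M) (n : ℕ) [Module.Finite (R ⧸ IsLocalRing.maximalIdeal R) ↥(LocCoh.torsionBy (IsLocalRing.maximalIdeal R) M)] (hn : Module.finrank (R ⧸ IsLocalRing.maximalIdeal R) ↥(LocCoh.torsionBy (IsLocalRing.maximalIdeal R) M) = n) : ∃ g : M →ₗ[R] (Fin n → E), Function.Injective g := by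
  have hinjE := hf.isInjective
  let Soc : Submodule R M := LocCoh.torsionBy (IsLocalRing.maximalIdeal R) M
  let _ : Field (R ⧸ maximalIdeal R) := Ideal.Quotient.field _
  let b : Module.Basis (Fin n) (R ⧸ maximalIdeal R) Soc := Module.finBasisOfFinrankEq _ _ hn
  -- coordinates, as R-linear maps to the residue field
  let coord : Fin n → (Soc →ₗ[R] ResidueField R) := fun i =>
    ((b.coord i).restrictScalars R)
  have hcoord : ∀ x : Soc, (∀ i, coord i x = 0) → x = 0 := by
    intro x hx
    apply b.ext_elem
    intro i
    rw [map_zero, Finsupp.zero_apply]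
    exact hx i
  -- extend each coordinate composed with `f`
  have hext : ∀ i, ∃ gi : M →ₗ[R] E, ∀ x : Soc, gi x = f (coord i x) := by
    intro i
    obtain ⟨h, hh⟩ := Module.Injective.out (R := R) (Q := E) Soc.subtype Soc.injective_subtype
      (f ∘ₗ coord i)
    exact ⟨h, hh⟩
  choose g hg using hext
  refine ⟨LinearMap.pi g, ?_⟩
  rw [← LinearMap.ker_eq_bot]
  by_contra hker
  obtain ⟨e', he'ker, he'0, he'⟩ := exists_socle_mem hM _ hker
  have hmem : e' ∈ Soc := by
    rw [Submodule.mem_torsionBySet_iff]
    rintro ⟨a, ha⟩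
    exact he' a ha
  have h1 : ∀ i, coord i ⟨e', hmem⟩ = 0 := by
    intro i
    have h2 : LinearMap.pi g e' = 0 := he'ker
    have h3 := congrFun h2 i
    rw [LinearMap.pi_apply, Pi.zero_apply] at h3
    have h4 := hg i ⟨e', hmem⟩
    rw [h3] at h4
    exact ((injective_iff_map_eq_zero f).1 hf.injective _ h4.symm)
  have := hcoord ⟨e', hmem⟩ h1
  exact he'0 (congrArg Subtype.val this)

end Groth.Agent.S0310
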