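import Groth.Statements.S0315
import Groth.Agent.S0310
import Groth.Agent.S0299
import Groth.Agent.Lib.Helper8.Matlis4

set_option autoImplicit false
universe u v
open Matlis

namespace Groth.Agent.S0315

open IsLocalRing

theorem powerTorsion_of_isArtinian (R : Type u) [CommRing R] [IsLocalRing R] [IsNoetherianRing R]
    (M : Type u) [AddCommGroup M] [Module R M] [IsArtinian R M] :
    LocCoh.IsPowerTorsion (maximalIdeal R) M := by
  intro x
  let N : Submodule R M := Submodule.span R {x}
  let c : ℕ →o (Submodule R M)ᵒᵈ :=
    { toFun := fun n => OrderDual.toDual ((maximalIdeal R) ^ n • N)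
      monotone' := by
        intro a b hab
        change (maximalIdeal R) ^ b • N ≤ (maximalIdeal R) ^ a • N
        exact Submodule.smul_mono_left (Ideal.pow_le_pow_right hab) }
  obtain ⟨n, hn⟩ := IsArtinian.monotone_stabilizes c
  have h1 : (maximalIdeal R) ^ n • N = (maximalIdeal R) ^ (n + 1) • N := by
    have := hn (n + 1) (Nat.le_succ n)
    exact congrArg OrderDual.ofDual this
  have hfg : ((maximalIdeal R) ^ n • N).FG := by
    apply Submodule.FG.smul
    · exact IsNoetherian.noetherian _
    · exact Submodule.fg_span_singleton x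
  have h2 : (maximalIdeal R) ^ n • N = ⊥ := by
    apply Submodule.eq_bot_of_le_smul_of_le_jacobson_bot (maximalIdeal R) _ hfg
    · rw [← smul_assoc, smul_eq_mul, ← pow_succ', ← h1]
    · exact (IsLocalRing.maximalIdeal_le_jacobson _)
  refine ⟨n, fun a ha => ?_⟩
  have : a • x ∈ (maximalIdeal R) ^ n • N :=
    Submodule.smul_mem_smul ha (Submodule.mem_span_singleton_self x)
  rw [h2] at this
  exact (Submodule.mem_bot R).1 this


/-- Over a Noetherian local ring a module has the descending chain condition exactly when it is killed
elementwise by powers of the maximal ideal and its socle is finite-dimensional over the residue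
field. -/
theorem result (R : Type u) [CommRing R] [IsLocalRing R] [IsNoetherianRing R] (M : Type u) [AddCommGroup M] [Module R M] : IsArtinian R M ↔ (LocCoh.IsPowerTorsion (IsLocalRing.maximalIdeal R) M ∧ Module.Finite (R ⧸ IsLocalRing.maximalIdeal R) ↥(LocCoh.torsionBy (IsLocalRing.maximalIdeal R) M)) := by
  constructor
  · intro hA
    refine ⟨powerTorsion_of_isArtinian R M, ?_⟩
    let _ : Field (R ⧸ maximalIdeal R) := Ideal.Quotient.field _
    have h1 : IsArtinian R ↥(LocCoh.torsionBy (maximalIdeal R) M) := inferInstance
    have h2 : IsArtinian (R ⧸ maximalIdeal R) ↥(LocCoh.torsionBy (maximalIdeal R) M) :=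
      isArtinian_of_tower R h1
    exact ((IsSemisimpleModule.finite_tfae (R := R ⧸ maximalIdeal R)
      (M := ↥(LocCoh.torsionBy (maximalIdeal R) M))).out 2 0).1 h2
  · rintro ⟨hM, hfin⟩
    obtain ⟨E, _, _, f, hf⟩ := Groth.Agent.S0299.result R (ResidueField R)
    obtain ⟨g, hg⟩ := Groth.Agent.S0310.result R E f hf M hM _ rfl
    have : IsArtinian R E := Groth.Agent.Helper8.Matlis.isArtinian hf
    exact isArtinian_of_injective g hg

end Groth.Agent.S0315
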