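import Groth.Statements.S4544
import Mathlib
import Groth.Agent.Lib.Helper9.FSAdic

set_option autoImplicit false
universe u
open EGA41

namespace Groth.Agent.S4544

open TensorProduct in
/-- Let B (𝔟-adic) be a formally smooth topological A-algebra over A (𝔞-adic), the structure map being
continuous (a power of 𝔞 maps into 𝔟); squares of open ideals of B are then open. For every open
ideal 𝔄 of B (an ideal containing a power of 𝔟), Ω_{B/A} ⊗_B (B/𝔄) = Ω_{B/A}/𝔄Ω_{B/A} is a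
projective (B/𝔄)-module. -/
theorem result {A B : Type u} [CommRing A] [CommRing B] [Algebra A B]
    (𝔞 : Ideal A) (𝔟 : Ideal B) (hAB : ∃ k : ℕ, (𝔞 ^ k).map (algebraMap A B) ≤ 𝔟)
    (h : EGA41.IsFormallySmoothAdic A 𝔞 B 𝔟) (𝔄 : Ideal B) (h𝔄 : ∃ n : ℕ, 𝔟 ^ n ≤ 𝔄) :
    Module.Projective (B ⧸ 𝔄) ((B ⧸ 𝔄) ⊗[B] Ω[B⁄A]) := by
  apply Module.Projective.of_lifting_property
  intro P Q _ _ _ _ f g hf
  letI : Module B P := Module.compHom P (Ideal.Quotient.mk 𝔄)
  letI : Module B Q := Module.compHom Q (Ideal.Quotient.mk 𝔄)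
  haveI : IsScalarTower B (B ⧸ 𝔄) P := ⟨fun b c p => by
    change (b • c) • p = Ideal.Quotient.mk 𝔄 b • (c • p)
    rw [Algebra.smul_def, mul_smul]; rfl⟩
  haveI : IsScalarTower B (B ⧸ 𝔄) Q := ⟨fun b c p => by
    change (b • c) • p = Ideal.Quotient.mk 𝔄 b • (c • p)
    rw [Algebra.smul_def, mul_smul]; rfl⟩
  letI : Module A P := Module.compHom P (algebraMap A B)
  letI : Module A Q := Module.compHom Q (algebraMap A B)
  haveI : IsScalarTower A B P := ⟨fun a b p => by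
    change (a • b) • p = algebraMap A B a • (b • p)
    rw [Algebra.smul_def, mul_smul]⟩
  haveI : IsScalarTower A B Q := ⟨fun a b p => by
    change (a • b) • p = algebraMap A B a • (b • p)
    rw [Algebra.smul_def, mul_smul]⟩
  let gB : Ω[B⁄A] →ₗ[B] Q := (g.restrictScalars B) ∘ₗ (TensorProduct.mk B (B ⧸ 𝔄) Ω[B⁄A] 1)
  have hgB : ∀ ω, gB ω = g ((1 : B ⧸ 𝔄) ⊗ₜ[B] ω) := fun ω => rfl
  let D : Derivation A B Q := gB.compDer (KaehlerDifferential.D A B)
  obtain ⟨D', hD'⟩ := Groth.Agent.Helper9.FSAdic.exists_der_lift 𝔞 𝔟 hAB h 𝔄 h𝔄 f hf D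
  have key : (f.restrictScalars B ∘ₗ D'.liftKaehlerDifferential) = gB := by
    apply Derivation.liftKaehlerDifferential_unique
    ext b
    change f (D'.liftKaehlerDifferential (KaehlerDifferential.D A B b)) = D b
    rw [Derivation.liftKaehlerDifferential_comp_D, hD' b]
  refine ⟨LinearMap.liftBaseChange (B ⧸ 𝔄) D'.liftKaehlerDifferential, ?_⟩
  apply TensorProduct.AlgebraTensorModule.ext
  intro c ω
  have h1 : c ⊗ₜ[B] ω = c • ((1 : B ⧸ 𝔄) ⊗ₜ[B] ω) := by
    rw [TensorProduct.smul_tmul', smul_eq_mul, mul_one]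
  rw [LinearMap.comp_apply, LinearMap.liftBaseChange_tmul, map_smul, h1, map_smul, ← hgB, ← key]
  rfl

end Groth.Agent.S4544
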