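import Groth.Statements.S4540
import Mathlib
import Groth.Agent.S4544
import Groth.Agent.Lib.Helper21.NilProj

set_option autoImplicit false
universe u
open EGA41

namespace Groth.Agent.S4540

open IsLocalRing TensorProduct in
/-- Let A, B be Noetherian local rings and A → B a local homomorphism making B a formally smooth
A-algebra for the adic topologies of the maximal ideals. Then for every ideal of definition 𝔟 of B,
the (B/𝔟)-module Ω_{B/A} ⊗_B (B/𝔟) is free. -/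
theorem result {A B : Type u} [CommRing A] [IsLocalRing A]
    [IsNoetherianRing A] [CommRing B] [IsLocalRing B] [IsNoetherianRing B] [Algebra A B] [IsLocalHom (algebraMap A B)]
    (h : EGA41.IsFormallySmoothAdic A (maximalIdeal A) B (maximalIdeal B))
    (𝔟 : Ideal B) (hle : 𝔟 ≤ maximalIdeal B) (hpow : ∃ k : ℕ, maximalIdeal B ^ k ≤ 𝔟) :
    Module.Free (B ⧸ 𝔟) ((B ⧸ 𝔟) ⊗[B] Ω[B⁄A]) := by
  have hAB : ∃ k : ℕ, (maximalIdeal A ^ k).map (algebraMap A B) ≤ maximalIdeal B := ⟨1, by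
    rw [pow_one, Ideal.map_le_iff_le_comap]
    intro a ha
    exact map_nonunit (algebraMap A B) a ha⟩
  have hproj : Module.Projective (B ⧸ 𝔟) ((B ⧸ 𝔟) ⊗[B] Ω[B⁄A]) :=
    Groth.Agent.S4544.result (maximalIdeal A) (maximalIdeal B) hAB h 𝔟 hpow
  have h𝔟 : 𝔟 ≠ ⊤ := fun h => (IsLocalRing.maximalIdeal.isMaximal B).ne_top (top_le_iff.mp (h ▸ hle))
  haveI : Nontrivial (B ⧸ 𝔟) := Ideal.Quotient.nontrivial_iff.mpr h𝔟
  haveI : IsLocalRing (B ⧸ 𝔟) :=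
    IsLocalRing.of_surjective' (Ideal.Quotient.mk 𝔟) Ideal.Quotient.mk_surjective
  have hnil : IsNilpotent (maximalIdeal (B ⧸ 𝔟)) := by
    obtain ⟨k, hk⟩ := hpow
    refine ⟨k, ?_⟩
    have h1 : maximalIdeal (B ⧸ 𝔟) = (maximalIdeal B).map (Ideal.Quotient.mk 𝔟) := by
      haveI := IsLocalHom.of_surjective (Ideal.Quotient.mk 𝔟) Ideal.Quotient.mk_surjective
      symm
      ext x
      obtain ⟨x, rfl⟩ := Ideal.Quotient.mk_surjective x
      simp [sup_eq_left.mpr (le_maximalIdeal h𝔟)]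
    rw [h1, ← Ideal.map_pow, Ideal.zero_eq_bot]
    exact Ideal.map_mk_eq_bot_of_le hk
  haveI : Module.Flat (B ⧸ 𝔟) ((B ⧸ 𝔟) ⊗[B] Ω[B⁄A]) := Module.Flat.of_projective
  letI : Field ((B ⧸ 𝔟) ⧸ maximalIdeal (B ⧸ 𝔟)) := Ideal.Quotient.field _
  haveI : Module.Free ((B ⧸ 𝔟) ⧸ maximalIdeal (B ⧸ 𝔟))
      (((B ⧸ 𝔟) ⧸ maximalIdeal (B ⧸ 𝔟)) ⊗[B ⧸ 𝔟] ((B ⧸ 𝔟) ⊗[B] Ω[B⁄A])) := Module.Free.of_divisionRing _ _
  exact Groth.Agent.Helper21.NP.free_of_flat_of_free_quot (maximalIdeal (B ⧸ 𝔟)) hnil _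

end Groth.Agent.S4540
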