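import Groth.Statements.S0306
import Groth.Agent.Lib.Helper1.InjHullIndec

set_option autoImplicit false
universe u v
open InjHull

namespace Groth.Agent.S0306

/-- Over a Noetherian ring every indecomposable injective module is an injective hull of the residue
field of some prime. -/
theorem result (R : Type u) [CommRing R] [IsNoetherianRing R] (E : Type u) [AddCommGroup E] [Module R E] (hE : InjHull.IsIndecomposable R E) (hinj : Module.Injective R E) : ∃ (p : Ideal R) (_ : p.IsPrime) (g : p.ResidueField →ₗ[R] E), InjHull.IsInjectiveHull g := by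
  have := hE.1
  obtain ⟨x, hx⟩ := exists_ne (0 : E)
  obtain ⟨P, hP, -⟩ := exists_le_isAssociatedPrime_of_isNoetherianRing R x hx
  obtain ⟨hPprime, y, hy⟩ := isAssociatedPrime_iff.mp hP
  have hyann : ∀ r : R, r • y = 0 ↔ r ∈ P := by
    intro r
    rw [hy, Submodule.mem_colon_singleton, Submodule.mem_bot]
  have hy0 : y ≠ 0 := by
    intro h
    have h1 : (1 : R) ∈ P := (hyann 1).mp (by rw [h, smul_zero])
    exact hPprime.ne_top ((Ideal.eq_top_iff_one _).mpr h1)
  have hN : Submodule.span R {y} ≠ ⊥ := by
    rw [Ne, Submodule.span_singleton_eq_bot]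
    exact hy0
  have hess := Groth.Agent.Helper1.essIn_top_of_indecomposable hE hinj _ hN
  obtain ⟨f, hf, -⟩ := Groth.Agent.Helper1.isInjectiveHull_of_cyclic hinj P y hyann (by
    intro z hz
    obtain ⟨r, hr, hr0⟩ := hess z Submodule.mem_top hz
    obtain ⟨a, ha⟩ := Submodule.mem_span_singleton.mp hr
    refine ⟨r, a, ha.symm, fun haP => hr0 ?_⟩
    rw [← ha]
    exact (hyann a).mpr haP)
  obtain ⟨g, hg⟩ := Groth.Agent.Helper1.exists_hull_residueField P f hf
  exact ⟨P, hPprime, g, hg⟩

end Groth.Agent.S0306
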