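import Groth.Statements.S6960
import Groth.Agent.Lib.Helper11.MPC8
open CategoryTheory Groth.Agent.Helper11.MPC Groth.Agent.Helper11.DC Groth.Agent.Helper11.GenRes Groth.Agent.Helper11.TA

set_option autoImplicit false
universe u
open CategoryTheory CategoryTheory.Limits
attribute [local instance] HasDerivedCategory.standard
open DRing

namespace Groth.Agent.S6960

/-- Let R be a commutative ring, f_1, ..., f_r elements generating the unit ideal and K a cochain
complex of R-modules. If for every i the termwise localization K ⊗_R R_(f_i) is a perfect object of
D(R_(f_i)), then K is a perfect object of D(R). -/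
theorem result {R : Type u} [CommRing R] {r : ℕ} (f : Fin r → R)
    (hf : Ideal.span (Set.range f) = ⊤) (K : DRing.Cx R)
    (hK : ∀ i, DRing.IsPerfect (Localization.Away (f i))
      (DRing.toD (((ModuleCat.extendScalars (algebraMap R (Localization.Away (f i)))).mapHomologicalComplex
        (ComplexShape.up ℤ)).obj K))) :
    DRing.IsPerfect R (DRing.toD K) := by
  have hpc : DRing.IsPseudoCoherent' R (DRing.toD K) :=
    pc'_of_forall_mpc (fun m' => mpc_descent_away f hf m' K
      (fun i => mpc_of_pc' (pc_of_perfect (hK i)) m'))
  choose a b hv using fun i => torVan_of_perfect (hK i)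
  obtain ⟨A, hA⟩ := Finite.exists_le (fun i => - a i)
  obtain ⟨B, hB⟩ := Finite.exists_le b
  have hv' : TorVan (-A) B (DerivedCategory.Q.obj K) :=
    torVan_descent (fun i => Localization.Away (f i))
      (fun i => algebraMap R (Localization.Away (f i)))
      (fun _ => (RingHom.flat_algebraMap_iff).mpr inferInstance)
      (fun H hH => isZero_of_es_away f hf H hH) K (-A) B
      (fun i => TorVan.mono (by have := hA i; omega) (hB i) (hv i))
  exact isPerfect_of_pc_of_torVan hpc hv'

end Groth.Agent.S6960
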