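import Groth.Statements.S2171
import Groth.Agent.Lib.Helper4.SymMat
set_option autoImplicit false
open Finset
open Models
namespace Groth.Agent.S2171
open Groth.Agent.Helper4
/-- Let A be a symmetric real n by n matrix with non-negative off-diagonal entries, m a vector with
positive entries such that A m = 0, and assume no proper non-empty index set I has A i j = 0 for all
i in I and j outside I. Then x^t A x is at most 0 for every real vector x, with equality exactly
when x is a real multiple of m. -/
theorem result {n : ℕ} (A : Matrix (Fin n) (Fin n) ℝ)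
    (m : Fin n → ℝ) (hsymm : A.IsSymm) (hA : ∀ i j, i ≠ j → 0 ≤ A i j) (hm : ∀ i, 0 < m i)
    (hAm : A.mulVec m = 0)
    (hconn : ∀ I : Finset (Fin n), I.Nonempty → I ≠ univ → ∃ i ∈ I, ∃ j ∉ I, A i j ≠ 0)
    (x : Fin n → ℝ) :
    dotProduct x (A.mulVec x) ≤ 0 ∧ (dotProduct x (A.mulVec x) = 0 ↔ ∃ q : ℝ, x = q • m) := by
  set y : Fin n → ℝ := fun i => x i / m i with hy
  have hx : x = fun i => m i * y i := by
    funext i
    simp only [hy]
    field_simp [(hm i).ne']
  have hrow : ∀ i, ∑ j, A i j * m j = 0 := fun i => by
    have := congrFun hAm i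
    simpa [Matrix.mulVec, dotProduct] using this
  have hid := quad_identity A m y hsymm
  rw [← hx] at hid
  simp only [hrow, zero_mul, Finset.sum_const_zero, zero_sub] at hid
  have hterm := term_nonneg A m y hA hm
  have hT2 : 0 ≤ ∑ i, ∑ j, A i j * m i * m j * (y i - y j) ^ 2 :=
    Finset.sum_nonneg fun i _ => Finset.sum_nonneg fun j _ => hterm i j
  refine ⟨by rw [hid]; linarith, ?_⟩
  constructor
  · intro h0
    have hT2z : ∑ i, ∑ j, A i j * m i * m j * (y i - y j) ^ 2 = 0 := by
      rw [hid] at h0; linarith
    have hall : ∀ i j, A i j * m i * m j * (y i - y j) ^ 2 = 0 := by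
      intro i j
      have h1 := (Finset.sum_eq_zero_iff_of_nonneg
        (fun i _ => Finset.sum_nonneg fun j _ => hterm i j)).mp hT2z i (mem_univ i)
      exact (Finset.sum_eq_zero_iff_of_nonneg (fun j _ => hterm i j)).mp h1 j (mem_univ j)
    have heq : ∀ i j, A i j ≠ 0 → y i = y j := fun i j hij =>
      eq_of_term_zero A m y hm i j (hall i j) hij
    rcases Nat.eq_zero_or_pos n with hn | hn
    · subst hn
      exact ⟨0, funext fun i => i.elim0⟩
    · let i₀ : Fin n := ⟨0, hn⟩
      refine ⟨y i₀, ?_⟩
      have hconst : ∀ i, y i = y i₀ := by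
        by_contra hne
        simp only [not_forall] at hne
        set I := univ.filter (fun i => y i = y i₀) with hI
        have hIne : I.Nonempty := ⟨i₀, by simp [hI]⟩
        have hIu : I ≠ univ := by
          obtain ⟨k, hk⟩ := hne
          intro h
          have : k ∈ I := h ▸ mem_univ k
          simp only [hI, mem_filter, mem_univ, true_and] at this
          exact hk this
        obtain ⟨i, hi, j, hj, hAij⟩ := hconn I hIne hIu
        have h3 := heq i j hAij
        simp only [hI, mem_filter, mem_univ, true_and] at hi hj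
        exact hj (h3 ▸ hi)
      rw [hx]
      funext i
      simp only [Pi.smul_apply, smul_eq_mul, hconst i, mul_comm]
  · rintro ⟨q, rfl⟩
    rw [Matrix.mulVec_smul, hAm, smul_zero, dotProduct_zero]
end Groth.Agent.S2171
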