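import Groth.Statements.S15821
import Mathlib
import Groth.Agent.Lib.Helper21.KoszFun

set_option autoImplicit false
universe u
open CategoryTheory
open Koszul

namespace Groth.Agent.S15821

set_option linter.style.haveILetI false
set_option linter.unusedVariables false
set_option linter.unusedSectionVars false
open RingTheory.Sequence Groth.Agent.Helper21.KF

variable {A : Type u} [CommRing A]

theorem koszul_eq (l : List A) : Koszul.koszul A l = CohIII.koszulCx (ModuleCat.of A A) l := by
  induction l with
  | nil => rfl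
  | cons f l ih =>
    change CochainComplex.mappingCone (f • 𝟙 (Koszul.koszul A l)) =
      CochainComplex.mappingCone (f • 𝟙 (CohIII.koszulCx (ModuleCat.of A A) l))
    rw [ih]

theorem h0 : ∀ (xs : List A) (M : Type u) [AddCommGroup M] [Module A M], IsWeaklyRegular M xs →
    Nonempty ((CohIII.koszulCx (ModuleCat.of A M) xs).homology 0 ≅
      ModuleCat.of A (M ⧸ (Ideal.ofList xs • ⊤ : Submodule A M))) := by
  intro xs
  induction xs with
  | nil =>
    intro M _ _ _
    have e1 : (CohIII.koszulCx (ModuleCat.of A M) []).homology 0 ≅ ModuleCat.of A M :=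
      HomologicalComplex.singleObjHomologySelfIso (ComplexShape.up ℤ) 0 (ModuleCat.of A M)
    have hbot : (Ideal.ofList ([] : List A) • ⊤ : Submodule A M) = ⊥ := by
      rw [Ideal.ofList_nil, Submodule.bot_smul]
    have e2 : M ≃ₗ[A] (M ⧸ (Ideal.ofList ([] : List A) • ⊤ : Submodule A M)) :=
      (Submodule.quotEquivOfEqBot _ hbot).symm
    exact ⟨e1 ≪≫ e2.toModuleIso⟩
  | cons f fs ih =>
    intro M _ _ h
    obtain ⟨h1, h2⟩ := (isWeaklyRegular_cons_iff M f fs).mp h
    obtain ⟨e1⟩ := homology_cone_iso M f h1 fs 0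
    obtain ⟨e2⟩ := ih (QuotSMulTop f M) h2
    have e3 := (Submodule.quotOfListConsSMulTopEquivQuotSMulTopInner M f fs).symm
    exact ⟨e1 ≪≫ e2 ≪≫ e3.toModuleIso⟩

theorem transfer {K K' : CochainComplex (ModuleCat.{u} A) ℤ} (h : K = K')
    (P : CochainComplex (ModuleCat.{u} A) ℤ → Prop) (hP : P K') : P K := by
  subst h; exact hP

theorem main (l : List A) (hl : IsWeaklyRegular A l) :
    LCI.IsKoszulRegularSeq A l ∧
      Nonempty ((Koszul.koszul A l).homology 0 ≅ ModuleCat.of A (A ⧸ Ideal.ofList l)) := by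
  rw [LCI.IsKoszulRegularSeq]
  refine transfer (koszul_eq l) (fun K => (∀ i : ℤ, i ≠ 0 → Limits.IsZero (K.homology i)) ∧
    Nonempty (K.homology 0 ≅ ModuleCat.of A (A ⧸ Ideal.ofList l))) ?_
  refine ⟨fun i hi => homology_isZero_of_weaklyRegular l A hl i hi, ?_⟩
  obtain ⟨e⟩ := h0 l A hl
  have heq : (Ideal.ofList l • ⊤ : Submodule A A) = Ideal.ofList l := by
    rw [smul_eq_mul, Ideal.mul_top]
  have e2 : (A ⧸ (Ideal.ofList l • ⊤ : Submodule A A)) ≃ₗ[A] (A ⧸ Ideal.ofList l) :=
    Submodule.quotEquivOfEq _ _ heq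
  exact ⟨e ≪≫ e2.toModuleIso⟩

/-- Let A be a commutative ring and f = (f_1, …, f_r) a sequence in A which is regular in the weak sense
(f_1 is a non-zero-divisor of A and each f_i is a non-zero-divisor of A/(f_1, …, f_{i-1}); no
condition A/(f) ≠ 0). Then the Koszul complex K(f) (iterated mapping-cone model, degrees -r, …, 0)
has vanishing cohomology in all nonzero degrees, i.e. f is Koszul-regular, and its cohomology in
degree 0 is isomorphic as an A-module to A/(f_1, …, f_r) (existence of an A-linear isomorphism):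
K(f) is a free resolution of A/(f). -/
theorem result (A : Type u) [CommRing A] (l : List A)
    (hl : RingTheory.Sequence.IsWeaklyRegular A l) :
    LCI.IsKoszulRegularSeq A l ∧
      Nonempty ((Koszul.koszul A l).homology 0 ≅ ModuleCat.of A (A ⧸ Ideal.ofList l)) := by
  exact main l hl

end Groth.Agent.S15821
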