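import Groth.Statements.S0301
import Mathlib

set_option autoImplicit false
universe u v
open InjHull

namespace Groth.Agent.S0301

/-- Over a Noetherian ring, the submodule of an injective module consisting of the elements killed by
some power of a given ideal is again injective. -/
theorem result (R : Type u) [CommRing R] [IsNoetherianRing R] (I : Type u) [AddCommGroup I] [Module R I] (hI : Module.Injective R I) (J : Ideal R) : Module.Injective R ↥(⨆ n : ℕ, Submodule.torsionBySet R I ((J ^ n : Ideal R) : Set R)) := by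
  classical
  apply Module.Baer.injective
  generalize hT : (⨆ n : ℕ, Submodule.torsionBySet R I ((J ^ n : Ideal R) : Set R)) = T
  intro 𝔞 g
  -- the torsion submodules form a chain
  let c : ℕ →o Submodule R I :=
    { toFun := fun n => Submodule.torsionBySet R I ((J ^ n : Ideal R) : Set R)
      monotone' := by
        intro n m hnm x hx
        rw [Submodule.mem_torsionBySet_iff] at hx ⊢
        intro a
        exact hx ⟨a.1, Ideal.pow_le_pow_right hnm a.2⟩ }
  have hmemT : ∀ x : I, x ∈ T ↔ ∃ n, x ∈ Submodule.torsionBySet R I ((J ^ n : Ideal R) : Set R) := by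
    intro x
    rw [← hT]
    exact Submodule.mem_iSup_of_chain c x
  let gI : 𝔞 →ₗ[R] I := T.subtype ∘ₗ g
  -- uniform exponent
  let d : ℕ →o Submodule R 𝔞 :=
    { toFun := fun n => Submodule.comap gI (c n)
      monotone' := fun n m hnm => Submodule.comap_mono (c.monotone hnm) }
  obtain ⟨n, hn⟩ := monotone_stabilizes_iff_noetherian.mpr (inferInstance : IsNoetherian R 𝔞) d
  have hn' : ∀ a : 𝔞, gI a ∈ Submodule.torsionBySet R I ((J ^ n : Ideal R) : Set R) := by
    intro a
    obtain ⟨n', hn'⟩ := (hmemT (gI a)).mp (g a).2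
    have h1 : a ∈ d n' := hn'
    have h2 : a ∈ d (max n n') := d.monotone (le_max_right n n') h1
    rw [← hn (max n n') (le_max_left n n')] at h2
    exact h2
  -- Artin–Rees
  obtain ⟨k, hk⟩ := Ideal.exists_pow_inf_eq_pow_smul J (𝔞 : Submodule R R)
  have hkey : ∀ x : R, x ∈ J ^ (n + k) • (⊤ : Submodule R R) ⊓ 𝔞 →
      x ∈ 𝔞 ∧ ∀ hx : x ∈ 𝔞, gI ⟨x, hx⟩ = 0 := by
    intro x hx
    rw [hk (n + k) (Nat.le_add_left k n), Nat.add_sub_cancel] at hx
    refine Submodule.smul_induction_on hx ?_ ?_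
    · intro j hj b hb
      have hb' : b ∈ 𝔞 := hb.2
      refine ⟨Submodule.smul_mem _ j hb', fun hx => ?_⟩
      have : (⟨j • b, hx⟩ : 𝔞) = j • ⟨b, hb'⟩ := rfl
      rw [this, map_smul]
      have h3 := hn' ⟨b, hb'⟩
      rw [Submodule.mem_torsionBySet_iff] at h3
      exact h3 ⟨j, hj⟩
    · intro x y hx hy
      refine ⟨Submodule.add_mem _ hx.1 hy.1, fun hxy => ?_⟩
      have : (⟨x + y, hxy⟩ : 𝔞) = ⟨x, hx.1⟩ + ⟨y, hy.1⟩ := rfl
      rw [this, map_add, hx.2, hy.2, add_zero]
  -- the map `𝔞 → R ⧸ J ^ (n + k)`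
  let f : 𝔞 →ₗ[R] (R ⧸ J ^ (n + k)) := (J ^ (n + k)).mkQ ∘ₗ 𝔞.subtype
  have hker : LinearMap.ker f ≤ LinearMap.ker gI := by
    intro a ha
    rw [LinearMap.mem_ker] at ha ⊢
    have h1 : (a : R) ∈ J ^ (n + k) := by
      have : (J ^ (n + k)).mkQ (a : R) = 0 := ha
      rwa [Submodule.mkQ_apply, Submodule.Quotient.mk_eq_zero] at this
    have h2 : (a : R) ∈ J ^ (n + k) • (⊤ : Submodule R R) ⊓ 𝔞 := by
      refine ⟨?_, a.2⟩
      rw [smul_eq_mul, Ideal.mul_top]
      exact h1
    exact (hkey a h2).2 a.2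
  let gbar : LinearMap.range f →ₗ[R] I :=
    (Submodule.liftQ (LinearMap.ker f) gI hker) ∘ₗ (LinearMap.quotKerEquivRange f).symm.toLinearMap
  obtain ⟨hbar, hhbar⟩ := Module.Injective.extension_property R I _ _ (LinearMap.range f).subtype
    (Submodule.injective_subtype _) gbar
  let h : R →ₗ[R] I := hbar ∘ₗ (J ^ (n + k)).mkQ
  have hhT : ∀ r, h r ∈ T := by
    intro r
    rw [hmemT]
    refine ⟨n + k, ?_⟩
    rw [Submodule.mem_torsionBySet_iff]
    intro j
    change (j : R) • hbar ((J ^ (n + k)).mkQ r) = 0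
    rw [← map_smul, ← map_smul, smul_eq_mul]
    have : (J ^ (n + k)).mkQ ((j : R) * r) = 0 := by
      rw [Submodule.mkQ_apply, Submodule.Quotient.mk_eq_zero]
      exact Ideal.mul_mem_right _ _ j.2
    rw [this, map_zero]
  refine ⟨LinearMap.codRestrict T h hhT, fun x hx => ?_⟩
  apply Subtype.ext
  rw [LinearMap.codRestrict_apply]
  change hbar ((J ^ (n + k)).mkQ x) = gI ⟨x, hx⟩
  have h1 : (J ^ (n + k)).mkQ x = (LinearMap.range f).subtype ⟨f ⟨x, hx⟩, LinearMap.mem_range_self f _⟩ := rfl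
  rw [h1, ← LinearMap.comp_apply, hhbar]
  change Submodule.liftQ (LinearMap.ker f) gI hker
    ((LinearMap.quotKerEquivRange f).symm ⟨f ⟨x, hx⟩, LinearMap.mem_range_self f _⟩) = _
  rw [LinearMap.quotKerEquivRange_symm_apply_image]
  rfl

end Groth.Agent.S0301
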