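import Groth.Statements.S0890
import Groth.Agent.Lib.Helper5.PCH1

set_option autoImplicit false
universe u
open CategoryTheory
attribute [local instance] HasDerivedCategory.standard
open DCoh

namespace Groth.Agent.S0890

open AlgebraicGeometry CategoryTheory.Limits in
/-- For an m-pseudo-coherent object K of D(O_X): (1) vanishing of the cohomology sheaves above degree m
makes H^m(K) an O_X-module of finite type; (2) vanishing above degree m + 1 makes H^{m+1}(K) an
O_X-module of finite presentation. -/
theorem result {X : Scheme.{u}} (m : ℤ) (K : DCoh.D X)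
    (hK : DCoh.IsPseudoCoherentD m K) :
    ((∀ i : ℤ, m < i → IsZero (DCoh.HD K i)) → CohB1.IsFT (DCoh.HD K m)) ∧
    ((∀ i : ℤ, m + 1 < i → IsZero (DCoh.HD K i)) → CohB1.IsFP (DCoh.HD K (m + 1))) := by
  have e : DCoh.toD X (DerivedCategory.Q.objPreimage K) ≅ K :=
    DerivedCategory.Q.objObjPreimageIso K
  have eH : ∀ i : ℤ, DCoh.HD K i ≅ (DerivedCategory.Q.objPreimage K).homology i := fun i =>
    (DerivedCategory.homologyFunctor X.Modules i).mapIso e.symm ≪≫
      Groth.Agent.Helper5.LDer.HDQIso _ i
  constructor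
  · intro hz
    have : CohB1.IsFT ((DerivedCategory.Q.objPreimage K).homology m) := by
      apply Groth.Agent.Helper5.LOC.isFiniteType_of_local
      intro x
      obtain ⟨V, hxV, hV⟩ := hK x
      obtain ⟨P, α, hP, hiso, hepi⟩ := hV _ ⟨e⟩
      refine ⟨V, hxV, ?_⟩
      have := Groth.Agent.Helper5.PCH.isFiniteType_homology_of_conn P _ hP α m ⟨hiso, hepi⟩
        (fun i hi => IsZero.of_iso ((Scheme.Modules.restrictFunctor V.ι).map_isZero
          (IsZero.of_iso (hz i hi) (eH i).symm))
          (Groth.Agent.Helper5.LOC.restrictHomologyIso V.ι _ i))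
      exact Groth.Agent.Helper13.FinType.isFiniteType_of_iso
        (Groth.Agent.Helper5.LOC.restrictHomologyIso V.ι _ m)
    exact Groth.Agent.Helper13.FinType.isFiniteType_of_iso (eH m).symm
  · intro hz
    have h1 : CohB1.IsFP ((DerivedCategory.Q.objPreimage K).homology (m + 1)) := by
      apply Groth.Agent.Helper5.LOC.isFinitePresentation_of_local
      intro x
      obtain ⟨V, hxV, hV⟩ := hK x
      obtain ⟨P, α, hP, hiso, hepi⟩ := hV _ ⟨e⟩
      refine ⟨V, hxV, ?_⟩
      have h2 := Groth.Agent.Helper5.PCH.isFinitePresentation_homology_of_conn P _ hP α m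
        ⟨hiso, hepi⟩
        (fun i hi => IsZero.of_iso ((Scheme.Modules.restrictFunctor V.ι).map_isZero
          (IsZero.of_iso (hz i hi) (eH i).symm))
          (Groth.Agent.Helper5.LOC.restrictHomologyIso V.ι _ i))
      exact Groth.Agent.Helper5.PCH.isFinitePresentation_of_iso
        (Groth.Agent.Helper5.LOC.restrictHomologyIso V.ι _ (m + 1)) h2
    exact Groth.Agent.Helper5.PCH.isFinitePresentation_of_iso (eH (m + 1)).symm h1

end Groth.Agent.S0890
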