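import Groth.Statements.S6518
import Groth.Agent.Lib.Helper5.PCM3
import Groth.Agent.S0890

set_option autoImplicit false
universe u
open CategoryTheory
attribute [local instance] HasDerivedCategory.standard
open DCoh

namespace Groth.Agent.S6518

open AlgebraicGeometry in
/-- Let X be a scheme and F an O_X-module, viewed as an object of D(O_X) placed in degree 0. Then (1)
finite type of the O_X-module F is equivalent to F being 0-pseudo-coherent, and (2) F admits a
finite presentation as an O_X-module exactly when it is (−1)-pseudo-coherent. (The published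
statement is for ringed spaces; this row is for schemes.) -/
theorem result {X : Scheme.{u}} (F : X.Modules) :
    (DCoh.IsPseudoCoherentD 0 (DCoh.inD X F) ↔ CohB1.IsFT F) ∧
    (DCoh.IsPseudoCoherentD (-1) (DCoh.inD X F) ↔ CohB1.IsFP F) := by
  have hz : ∀ i : ℤ, i ≠ 0 → CategoryTheory.Limits.IsZero (DCoh.HD (DCoh.inD X F) i) := fun i hi =>
    CategoryTheory.Limits.IsZero.of_iso (Groth.Agent.Helper5.LDer.isZero_HD_Q_of_isZero_X _ i
      (HomologicalComplex.isZero_single_obj_X (ComplexShape.up ℤ) 0 F i hi))
      ((DerivedCategory.homologyFunctor X.Modules i).mapIso (Groth.Agent.Helper5.LDer.inDIso F))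
  have e0 : DCoh.HD (DCoh.inD X F) 0 ≅ F :=
    (DerivedCategory.homologyFunctor X.Modules 0).mapIso (Groth.Agent.Helper5.LDer.inDIso F) ≪≫
      Groth.Agent.Helper5.LDer.HDQIso _ 0 ≪≫
      HomologicalComplex.singleObjHomologySelfIso (ComplexShape.up ℤ) 0 F
  refine ⟨⟨fun h => ?_, fun h => ?_⟩, ⟨fun h => ?_, fun h => ?_⟩⟩
  · have h1 : CohB1.IsFT (DCoh.HD (DCoh.inD X F) 0) :=
      (Groth.Agent.S0890.result 0 _ h).1 (fun i hi => hz i (by omega))
    exact Groth.Agent.Helper13.FinType.isFiniteType_of_iso e0
  · have : CohB1.IsFT F := h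
    exact Groth.Agent.Helper5.PCM.isPseudoCoherentD_zero_of_isFiniteType F
  · have h1 := (Groth.Agent.S0890.result (-1) _ h).2 (fun i hi => hz i (by omega))
    have h2 : ((-1 : ℤ) + 1) = 0 := by norm_num
    rw [h2] at h1
    exact Groth.Agent.Helper5.PCH.isFinitePresentation_of_iso e0 h1
  · have : CohB1.IsFP F := h
    exact Groth.Agent.Helper5.PCM.isPseudoCoherentD_neg_one_of_isFinitePresentation F

end Groth.Agent.S6518
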