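import Groth.Statements.S7240
import Mathlib
import Groth.Agent.Lib.Helper5.COHP5
import Groth.Agent.Lib.Helper5.FLF4

set_option autoImplicit false
universe u
open CategoryTheory CategoryTheory.Limits AlgebraicGeometry
attribute [local instance] HasDerivedCategory.standard
open Perf

namespace Groth.Agent.S7240

/-- Let X be a scheme, m an integer and E an m-pseudo-coherent object of D(O_X). Then the cohomology
sheaf Hⁱ(E) is quasi-coherent for every i > m, and Hᵐ(E) is, locally on X, a quotient of a
quasi-coherent module: every point of X has an open neighbourhood V and a quasi-coherent O_V-module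
mapping onto Hᵐ(E)|_V. (The published statement says that Hᵐ(E) is a quotient of a quasi-coherent
O_X-module; its proof gives this only locally on X, which is what this row states, and the global
form fails: on the affine plane over ℚ, the direct image of an invertible module over the inverse
image of O_X on a triangle of three lines, twisted by the constant 2 around the cycle, is an
O_X-module of finite type with no nonzero global section, so it is not a quotient of any
quasi-coherent module.) -/
theorem result {X : Scheme.{u}} (m : ℤ) (E : DCoh.D X)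
    (hE : DCoh.IsPseudoCoherentD m E) :
    (∀ i : ℤ, m < i → Coh.IsQCoh (DCoh.HD E i)) ∧
      ∀ x : X, ∃ (V : X.Opens) (Q : (V : Scheme.{u}).Modules)
        (π : Q ⟶ (Scheme.Modules.restrictFunctor V.ι).obj (DCoh.HD E m)), x ∈ V ∧ Coh.IsQCoh Q ∧ Epi π := by
  have hloc : ∀ (x : X) (i : ℤ), m ≤ i → ∃ (V : X.Opens) (Q : (V : Scheme.{u}).Modules)
      (π : Q ⟶ (Scheme.Modules.restrictFunctor V.ι).obj (DCoh.HD E i)), x ∈ V ∧ Coh.IsQCoh Q ∧ Epi π ∧
        (m < i → IsIso π) := by
    intro x i hi
    obtain ⟨V, P, hxV, hP, h⟩ := Groth.Agent.Helper5.COHP.exists_local_model_pc E m x (hE x)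
    obtain ⟨φ, hφ1, hφ2⟩ := h i hi
    have hq : ∀ j : ℤ, (P.X j).IsQuasicoherent := fun j =>
      Groth.Agent.Helper5.FPC.isQuasicoherent_of_isFinLocFree _ (hP.2 j)
    exact ⟨V, P.homology i, φ, hxV, Groth.Agent.Helper5.FLF.isQuasicoherent_homology P hq i, hφ1, hφ2⟩
  refine ⟨fun i hi => ?_, fun x => ?_⟩
  · apply Groth.Agent.Helper13.Ext.isQuasicoherent_of_forall_exists_restrict
    intro x
    obtain ⟨V, Q, π, hxV, hQ, -, hπ⟩ := hloc x i hi.le
    haveI := hπ hi
    haveI : Q.IsQuasicoherent := hQ
    exact ⟨V, hxV, Groth.Agent.Helper13.QCohLocal.isQuasicoherent_of_iso (asIso π)⟩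
  · obtain ⟨V, Q, π, hxV, hQ, hπ, -⟩ := hloc x m le_rfl
    exact ⟨V, Q, π, hxV, hQ, hπ⟩

end Groth.Agent.S7240
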