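import Groth.Statements.S7021
import Groth.Agent.Lib.Helper11.MPC12
open CategoryTheory Limits DerivedCategory Groth.Agent.Helper11.MPC Groth.Agent.Helper11.DC Groth.Agent.Helper11.GenRes Groth.Agent.Helper11.TA

set_option autoImplicit false
universe u
open CategoryTheory CategoryTheory.Limits
attribute [local instance] HasDerivedCategory.standard
open DerCA

namespace Groth.Agent.S7021

/-- Let R → A be a finite type homomorphism of commutative rings, α : R[x_1, ..., x_n] → A a surjective
R-algebra homomorphism and M an A-module. Then relative 0-pseudo-coherence of M over R amounts to M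
being a finitely generated A-module, and relative (-1)-pseudo-coherence of M over R amounts to M
being finitely presented as an R[x_1, ..., x_n]-module through α. -/
theorem result {R A : Type u} [CommRing R] [CommRing A]
    [Algebra R A] [Algebra.FiniteType R A] {n : ℕ} (α : MvPolynomial (Fin n) R →ₐ[R] A)
    (hα : Function.Surjective α) (M : Type u) [AddCommGroup M] [Module A M] :
    (DerCA.IsRelPseudoCoherentModule R A 0 M ↔ Module.Finite A M) ∧
      (DerCA.IsRelPseudoCoherentModule R A (-1) M ↔
        @Module.FinitePresentation (MvPolynomial (Fin n) R) M _ _ (Module.compHom M α.toRingHom)) := by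
  let φ : MvPolynomial (Fin n) R →+* A := (α : MvPolynomial (Fin n) R →+* A)
  let N : ModuleCat.{u} A := ModuleCat.of A M
  have hj : ∀ j : ℤ, DerCA.IsRelPseudoCoherentModule R A j M ↔
      DRing.IsPseudoCoherent (MvPolynomial (Fin n) R) j
        ((singleFunctor (ModuleCat.{u} (MvPolynomial (Fin n) R)) 0).obj
          ((ModuleCat.restrictScalars.{u} φ).obj N)) := fun j =>
    (rel_iff_via α hα j _).trans (mpc_restrict_single_iff φ N j)
  constructor
  · rw [hj 0]
    constructor
    · intro h
      have h1 : Module.Finite (MvPolynomial (Fin n) R) ((ModuleCat.restrictScalars.{u} φ).obj N) :=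
        finite_of_pc0 ((ModuleCat.restrictScalars.{u} φ).obj N) h
      exact (finite_restrict_iff φ hα N).mp h1
    · intro h
      have h1 : Module.Finite (MvPolynomial (Fin n) R) ((ModuleCat.restrictScalars.{u} φ).obj N) :=
        (finite_restrict_iff φ hα N).mpr h
      exact @pc0_of_finite _ _ ((ModuleCat.restrictScalars.{u} φ).obj N) _ _ h1
  · rw [hj (-1)]
    constructor
    · intro h
      have h1 : Module.FinitePresentation (MvPolynomial (Fin n) R)
          ((ModuleCat.restrictScalars.{u} φ).obj N) := fp_of_pcNeg1 ((ModuleCat.restrictScalars.{u} φ).obj N) h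
      exact h1
    · intro h
      have h1 : Module.FinitePresentation (MvPolynomial (Fin n) R)
          ((ModuleCat.restrictScalars.{u} φ).obj N) := h
      exact @pcNeg1_of_fp _ _ ((ModuleCat.restrictScalars.{u} φ).obj N) _ _ h1

end Groth.Agent.S7021
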