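import Groth.Statements.S5000
import Groth.Agent.Lib.Helper12.DerReg2
import Groth.Agent.Lib.Helper14.RegSmooth
import Groth.Agent.Lib.Helper9.SepFS

set_option autoImplicit false
universe u
open Unram17

namespace Groth.Agent.S5000

/-- Let k be a field of characteristic zero, A a k-algebra of finite type and q a prime of A. Then A is
smooth over k at q if and only if the module of differentials of the local ring A_q over k is free. -/
theorem result (k A : Type u) [Field k] [CharZero k] [CommRing A]
    [Algebra k A] [Algebra.FiniteType k A] (q : Ideal A) [q.IsPrime] :
    Algebra.IsSmoothAt k q ↔
      Module.Free (Localization.AtPrime q) (KaehlerDifferential k (Localization.AtPrime q)) := by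
  haveI : PerfectField k := PerfectField.ofCharZero
  haveI : Algebra.EssFiniteType k (Localization.AtPrime q) :=
    Algebra.EssFiniteType.comp k A (Localization.AtPrime q)
  constructor
  · intro h
    haveI : Algebra.FormallySmooth k (Localization.AtPrime q) := h
    haveI : Module.Projective (Localization.AtPrime q) Ω[Localization.AtPrime q⁄k] :=
      inferInstance
    haveI : Module.Finite (Localization.AtPrime q) Ω[Localization.AtPrime q⁄k] := inferInstance
    exact Module.free_of_flat_of_isLocalRing
  · intro h
    haveI : Algebra.EssFiniteType k q.ResidueField :=
      Algebra.EssFiniteType.comp k (Localization.AtPrime q) q.ResidueField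
    haveI : Algebra.IsGeometricallyReduced k q.ResidueField :=
      Groth.Agent.Helper9.SepFS.isGeometricallyReduced_of_perfectField
    haveI : Algebra.FormallySmooth k (IsLocalRing.ResidueField (Localization.AtPrime q)) :=
      Groth.Agent.Helper14.formallySmooth_of_isGeometricallyReduced_of_essFiniteType k
        q.ResidueField
    haveI : IsNoetherianRing A := Algebra.FiniteType.isNoetherianRing k A
    haveI : IsNoetherianRing (Localization.AtPrime q) :=
      IsLocalization.isNoetherianRing q.primeCompl _ inferInstance
    haveI : IsRegularLocalRing (Localization.AtPrime q) :=
      Groth.Agent.Helper12.DerReg.isRegularLocalRing_of_projective_kaehler k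
        (Localization.AtPrime q)
    exact Groth.Agent.Helper14.RegSmooth.isSmoothAt_of_regular k A q

end Groth.Agent.S5000
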