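import Groth.Statements.S0389
import Mathlib
import Groth.Agent.Lib.Helper2.GenericFreeFP
-- import your own Groth.Agent.* helpers here

set_option autoImplicit false
universe u
open FlatMor

namespace Groth.Agent.S0389

section
open TensorProduct Groth.Agent.Helper2.GenericFree

theorem free_tensor {R M : Type u} [CommRing R] [AddCommGroup M] [Module R M] {f : R}
    (h : GFree f M) : Module.Free (Localization.Away f) (Localization.Away f ⊗[R] M) := by
  haveI := h.free_localizedModule
  exact Module.Free.of_equiv (IsLocalizedModule.isBaseChange (Submonoid.powers f)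
    (Localization.Away f) (LocalizedModule.mkLinearMap (Submonoid.powers f) M)).equiv.symm

theorem main {R S M : Type u} [CommRing R] [IsDomain R] [CommRing S] [Algebra R S] [Algebra.FiniteType R S] [AddCommGroup M] [Module S M] [Module R M] [IsScalarTower R S M] [Module.Finite S M] :
    ∃ f : R, f ≠ 0 ∧ Module.Free (Localization.Away f) (Localization.Away f ⊗[R] M) ∧
      Module.Free (Localization.Away f) (Localization.Away f ⊗[R] S) ∧
      Algebra.FinitePresentation (Localization.Away f) (Localization.Away f ⊗[R] S) ∧
      Module.FinitePresentation (Localization.Away (algebraMap R S f)) (LocalizedModule (Submonoid.powers (algebraMap R S f)) M) := by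
  obtain ⟨f₁, h10, h1⟩ := exists_gfree (R := R) S M
  obtain ⟨f₂, h20, h2⟩ := exists_gfree (R := R) S S
  obtain ⟨f₃, h30, h3⟩ := exists_fp_alg (R := R) S
  obtain ⟨f₄, h40, h4⟩ := exists_fp_mod (R := R) S M
  have h120 : f₁ * f₂ ≠ 0 := mul_ne_zero h10 h20
  refine ⟨f₃ * (f₄ * (f₁ * f₂)), mul_ne_zero h30 (mul_ne_zero h40 h120), ?_, ?_, ?_, ?_⟩
  · exact free_tensor (((h1.mul h20).mul' h40).mul' h30)
  · exact free_tensor (((h2.mul' h10).mul' h40).mul' h30)
  · set f := f₃ * (f₄ * (f₁ * f₂)) with hf
    letI : Algebra S (Localization.Away f ⊗[R] S) := Algebra.TensorProduct.rightAlgebra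
    haveI : IsLocalization.Away (algebraMap R S f) (Localization.Away f ⊗[R] S) := by
      have := IsLocalization.tensorRight (S := S) (Localization.Away f) (Submonoid.powers f)
      rwa [Algebra.algebraMapSubmonoid, Submonoid.map_powers] at this
    haveI : Algebra.FinitePresentation R (Localization.Away f ⊗[R] S) :=
      h3 (f₄ * (f₁ * f₂)) (mul_ne_zero h40 h120) _
    exact Algebra.FinitePresentation.of_restrict_scalars_finitePresentation R
      (Localization.Away f) _
  · rw [mul_left_comm f₃ f₄]
    exact h4 (f₃ * (f₁ * f₂)) (mul_ne_zero h30 h120)

end

open TensorProduct in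
/-- Generic freeness: over a domain, for a finite type algebra and a finite module over it, after
inverting one nonzero element of the base the algebra and the module become free over the base, the
algebra becomes finitely presented over the base and the module finitely presented over the algebra. -/
theorem result {R S M : Type u} [CommRing R] [IsDomain R] [CommRing S] [Algebra R S] [Algebra.FiniteType R S] [AddCommGroup M] [Module S M] [Module R M] [IsScalarTower R S M] [Module.Finite S M] :
    ∃ f : R, f ≠ 0 ∧ Module.Free (Localization.Away f) (Localization.Away f ⊗[R] M) ∧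
      Module.Free (Localization.Away f) (Localization.Away f ⊗[R] S) ∧
      Algebra.FinitePresentation (Localization.Away f) (Localization.Away f ⊗[R] S) ∧
      Module.FinitePresentation (Localization.Away (algebraMap R S f)) (LocalizedModule (Submonoid.powers (algebraMap R S f)) M) := by
  exact Groth.Agent.S0389.main

end Groth.Agent.S0389
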