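import Groth.Statements.S2143
import Mathlib
import Groth.Agent.Lib.Helper14.LocalDimSpec
-- import your own Groth.Agent.* helpers here

set_option autoImplicit false
universe u
open CAlg

namespace Groth.Agent.S2143

/-- (1) = (3): let `S` be of finite type over a field `k` and `𝔭` a prime of `S`. The local dimension of
`Spec S` at `𝔭` is the infimum of `dim S_𝔪` over the maximal ideals `𝔪 ⊇ 𝔭`. -/
theorem result {k S : Type u} [Field k] [CommRing S] [Algebra k S] [Algebra.FiniteType k S]
    (p : Ideal S) [p.IsPrime] :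
    FlatMor.localDim (PrimeSpectrum S) ⟨p, inferInstance⟩ =
      ⨅ m : {m : Ideal S // m.IsMaximal ∧ p ≤ m}, ringKrullDim (Localization.AtPrime (hp := m.2.1.isPrime') m.1) := by
  have hfin : Algebra.trdeg k (S ⧸ p) < Cardinal.aleph0 := trdeg_lt_aleph0_of_finiteType
  obtain ⟨r, hr⟩ := Cardinal.lt_aleph0.mp hfin
  haveI : IsNoetherianRing S := Algebra.FiniteType.isNoetherianRing k S
  haveI : IsJacobsonRing S := isJacobsonRing_of_finiteType (A := k)
  rw [Groth.Agent.Helper14.LocalDimSpec.localDim_eq k S p r hr]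
  apply le_antisymm
  · refine le_iInf ?_
    rintro ⟨m, hm, hpm⟩
    haveI := hm
    rw [IsLocalization.AtPrime.ringKrullDim_eq_height m (Localization.AtPrime m)]
    have := Groth.Agent.Helper14.LocalDimAlg.height_add_trdeg_le_height_maximal k S p m hpm
    rw [hr] at this
    exact Groth.Agent.Helper14.LocalDimSch.cast_le' this
  · obtain ⟨g, hgp, hg⟩ := Groth.Agent.Helper14.LocalDimAlg.exists_avoid p
    obtain ⟨m, hm, hpm, hgm⟩ := Groth.Agent.Helper14.LocalDimSpec.exists_maximal_not_mem p g hgp
    haveI := hm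
    refine (iInf_le _ (⟨m, hm, hpm⟩ : {m : Ideal S // m.IsMaximal ∧ p ≤ m})).trans ?_
    rw [IsLocalization.AtPrime.ringKrullDim_eq_height m (Localization.AtPrime m)]
    have := Groth.Agent.Helper14.LocalDimAlg.height_le_of_avoid k S p g hg m hgm
    rw [hr] at this
    exact Groth.Agent.Helper14.LocalDimSch.cast_le this

end Groth.Agent.S2143
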