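import Groth.Statements.S4818
import Groth.Agent.Lib.Helper7.LimCons4
import Groth.Agent.Lib.Helper7.PbSnd

set_option autoImplicit false
universe u
open CategoryTheory AlgebraicGeometry
open Lim8

namespace Groth.Agent.S4818

open CategoryTheory.Limits in
/-- Let S = lim S_i be a cofiltered limit of schemes with affine transition maps and S_{i₀} a
quasi-compact stage; let ι₀ : Z₀ ⟶ S_{i₀} be a subscheme of finite presentation (an immersion which
is locally of finite presentation and quasi-compact). Then the base change Z₀ ×_{S_{i₀}} S ⟶ S of ι₀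
is a closed immersion if and only if, for some index j over i₀, the base change Z₀ ×_{S_{i₀}} S_j ⟶
S_j is a closed immersion. This is the case of closed subschemes. -/
theorem result {I : Type u} [SmallCategory I] [IsCofiltered I]
    (D : I ⥤ Scheme.{u}) (c : Limits.Cone D) (hc : Limits.IsLimit c)
    [∀ (i j : I) (f : i ⟶ j), IsAffineHom (D.map f)] (i₀ : I) [CompactSpace (D.obj i₀)]
    {Z₀ : Scheme.{u}} (ι₀ : Z₀ ⟶ D.obj i₀) [IsImmersion ι₀] [LocallyOfFinitePresentation ι₀] [QuasiCompact ι₀] :
    IsClosedImmersion (pullback.snd ι₀ (c.π.app i₀)) ↔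
      ∃ (j : I) (φ : j ⟶ i₀), IsClosedImmersion (pullback.snd ι₀ (D.map φ)) := by
  have : ∀ {i j : I} (f : i ⟶ j), IsAffineHom (D.map f) := fun f => inferInstance
  constructor
  · intro h
    have hR : Topology.IsLocallyConstructible (Set.range ι₀) := by
      rw [← Set.image_univ]
      exact ι₀.isLocallyConstructible_image Topology.IsLocallyConstructible.univ
    have hcl : IsClosed (c.π.app i₀ ⁻¹' Set.range ι₀) := by
      rw [← Scheme.Pullback.range_snd]
      exact (pullback.snd ι₀ (c.π.app i₀)).isClosedEmbedding.isClosed_range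
    obtain ⟨j, φ, hj⟩ := Groth.Agent.Helper7.LimBC.exists_isOpen_preimage_of_isLocallyConstructible
      D c hc i₀ (Set.range ι₀)ᶜ (Groth.Agent.Helper7.LimBC.isLocallyConstructible_compl hR) (by rw [Set.preimage_compl]; exact hcl.isOpen_compl)
    refine ⟨j, φ, ?_⟩
    apply IsClosedImmersion.of_isPreimmersion
    rw [Scheme.Pullback.range_snd, ← isOpen_compl_iff, ← Set.preimage_compl]
    exact hj
  · rintro ⟨j, φ, hj⟩
    exact MorphismProperty.of_isPullback (P := @IsClosedImmersion)
      (Groth.Agent.Helper7.PbSnd.isPullback_snd_snd ι₀ (c.π.app i₀) (D.map φ) (c.π.app j)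
        (Limits.Cone.w c φ)) hj

end Groth.Agent.S4818
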