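import Groth.Statements.S6918
import Mathlib

set_option autoImplicit false
universe u
open FlatMor

namespace Groth.Agent.S6918

open TensorProduct

section helpers

section LF
variable {A B : Type*} [CommRing A] [CommRing B] [Algebra A B] (T : Submonoid B)
  (N : Type*) [AddCommGroup N] [Module B N] [Module A N] [IsScalarTower A B N]

lemma mk_add_same (m m' : N) (t : T) :
    LocalizedModule.mk m t + LocalizedModule.mk m' t = LocalizedModule.mk (m + m') t := by
  rw [LocalizedModule.mk_add_mk, ← smul_add, LocalizedModule.mk_cancel_common_left]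

lemma mk_sum_smul {ι : Type*} (s : Finset ι) (a : ι → A) (y : ι → N) (t : T) :
    LocalizedModule.mk (∑ j ∈ s, a j • y j) t = ∑ j ∈ s, a j • LocalizedModule.mk (y j) t := by
  classical
  induction s using Finset.induction_on with
  | empty => simp
  | insert j s hj ih =>
    rw [Finset.sum_insert hj, Finset.sum_insert hj, ← mk_add_same, ih, LocalizedModule.smul'_mk]

lemma exists_common_denom {l : ℕ} (x : Fin l → LocalizedModule T N) :
    ∃ (n : Fin l → N) (t : T), ∀ i, x i = LocalizedModule.mk (n i) t := by
  classical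
  have h : ∀ i, ∃ (m : N) (s : T), x i = LocalizedModule.mk m s := by
    intro i
    induction x i using LocalizedModule.induction_on with
    | h m s => exact ⟨m, s, rfl⟩
  choose m s hms using h
  refine ⟨fun i => (∏ j ∈ Finset.univ.erase i, s j) • m i, ∏ j, s j, fun i => ?_⟩
  rw [hms i, ← Finset.mul_prod_erase Finset.univ s (Finset.mem_univ i), mul_comm,
    LocalizedModule.mk_cancel_common_left]

/-- localizing a module over `B` that is flat over `A` at a submonoid of `B` keeps it flat over `A`. -/
theorem flat_localizedModule [Module.Flat A N] : Module.Flat A (LocalizedModule T N) := by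
  rw [Module.Flat.iff_forall_isTrivialRelation]
  intro l f x hx
  obtain ⟨n, t, hn⟩ := exists_common_denom T N x
  have h1 : LocalizedModule.mk (∑ i, f i • n i) t = 0 := by
    rw [mk_sum_smul, ← hx]
    exact Finset.sum_congr rfl (fun i _ => by rw [hn i])
  rw [← LocalizedModule.zero_mk t, LocalizedModule.mk_eq] at h1
  obtain ⟨u, hu⟩ := h1
  simp only [smul_zero] at hu
  set v : T := u * t with hv
  have h2 : ∑ i, f i • ((v : B) • n i) = 0 := by
    have h3 : (u : B) • (t : B) • ∑ i, f i • n i = 0 := hu
    rw [smul_smul, Finset.smul_sum] at h3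
    rw [← h3]
    refine Finset.sum_congr rfl (fun i _ => ?_)
    rw [smul_comm]
    rfl
  obtain ⟨k, a, y, hxy, hfa⟩ := Module.Flat.isTrivialRelation_of_sum_smul_eq_zero h2
  refine ⟨k, a, fun j => LocalizedModule.mk (y j) (v * t), fun i => ?_, hfa⟩
  rw [hn i, ← mk_sum_smul, ← hxy i]
  exact (LocalizedModule.mk_cancel_common_left v t (n i)).symm

end LF

section Main
variable {R S R' S' : Type u} [CommRing R] [CommRing S] [CommRing R'] [CommRing S']
    [Algebra R S] [Algebra R R'] [Algebra S S'] [Algebra R' S'] [Algebra R S'] [IsScalarTower R S S']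
    [IsScalarTower R R' S']
   {M M' : Type u} [AddCommGroup M] [Module S M] [Module R M] [IsScalarTower R S M]
    [AddCommGroup M'] [Module S' M'] [Module R' M'] [IsScalarTower R' S' M'] [Module S M'] [IsScalarTower S S' M']
    (f : M →ₗ[S] M') (hf : IsBaseChange S' f)
    (T : Submonoid S) (T' : Submonoid S') (hT : ∀ t ∈ T, algebraMap S S' t ∈ T')

include hT in
lemma units_aux (t : T) : IsUnit ((algebraMap S (Module.End S (LocalizedModule T' M'))) t) := by
  have h1 := IsLocalizedModule.map_units (LocalizedModule.mkLinearMap T' M') ⟨algebraMap S S' t, hT t t.2⟩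
  rw [Module.End.isUnit_iff] at h1 ⊢
  convert h1 using 1
  ext x
  simp only [Module.algebraMap_end_apply]
  rw [algebraMap_smul]

/-- the canonical map `M_T → M'_{T'}`. -/
noncomputable def theta : LocalizedModule T M →ₗ[S] LocalizedModule T' M' :=
  LocalizedModule.lift T ((LocalizedModule.mkLinearMap T' M').restrictScalars S ∘ₗ f)
    (fun t => units_aux T T' hT t)

lemma theta_mk_one (m : M) : theta f T T' hT (LocalizedModule.mk m 1) = LocalizedModule.mk (f m) 1 := by
  have := LocalizedModule.lift_mk T ((LocalizedModule.mkLinearMap T' M').restrictScalars S ∘ₗ f)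
    (fun t => units_aux T T' hT t) m 1
  unfold theta
  rw [this]
  simp

/-- the canonical map `S' ⊗ M_T → M'_{T'}`. -/
noncomputable def gamma : S' ⊗[S] LocalizedModule T M →ₗ[S'] LocalizedModule T' M' :=
  (TensorProduct.isBaseChange S (LocalizedModule T M) S').lift (theta f T T' hT)

lemma gamma_tmul (s' : S') (x : LocalizedModule T M) :
    gamma f T T' hT (s' ⊗ₜ x) = s' • theta f T T' hT x := by
  unfold gamma
  have : s' ⊗ₜ[S] x = s' • (TensorProduct.mk S S' (LocalizedModule T M) 1 x) := by
    simp [TensorProduct.smul_tmul']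
  rw [this, map_smul, IsBaseChange.lift_eq]

/-- the canonical map `M' → S' ⊗ M_T`. -/
noncomputable def delta : M' →ₗ[S'] S' ⊗[S] LocalizedModule T M :=
  hf.lift ((TensorProduct.mk S S' (LocalizedModule T M) 1) ∘ₗ LocalizedModule.mkLinearMap T M)

lemma delta_f (m : M) : delta f hf T (f m) = 1 ⊗ₜ LocalizedModule.mk m 1 := by
  unfold delta
  rw [IsBaseChange.lift_eq]
  rfl

lemma gamma_delta (m' : M') : gamma f T T' hT (delta f hf T m') = LocalizedModule.mk m' 1 := by
  have : (gamma f T T' hT) ∘ₗ (delta f hf T) = LocalizedModule.mkLinearMap T' M' := by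
    apply hf.algHom_ext
    intro m
    simp only [LinearMap.comp_apply]
    rw [delta_f, gamma_tmul, one_smul, theta_mk_one]
    rfl
  exact DFunLike.congr_fun this m'


lemma exists_delta (n : S' ⊗[S] LocalizedModule T M) :
    ∃ (t : T) (m' : M'), algebraMap S S' t • n = delta f hf T m' := by
  induction n using TensorProduct.induction_on with
  | zero => exact ⟨1, 0, by simp⟩
  | tmul s' x =>
    induction x using LocalizedModule.induction_on with
    | h m t =>
      refine ⟨t, s' • f m, ?_⟩
      have h1 : algebraMap S S' t * s' = (t : S) • s' := by rw [Algebra.smul_def]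
      rw [map_smul, delta_f, TensorProduct.smul_tmul', smul_eq_mul, TensorProduct.smul_tmul',
        smul_eq_mul, mul_one, h1, TensorProduct.smul_tmul]
      congr 1
      rw [LocalizedModule.smul'_mk]
      exact LocalizedModule.mk_cancel t m
  | add n₁ n₂ h₁ h₂ =>
    obtain ⟨t₁, m₁, e₁⟩ := h₁
    obtain ⟨t₂, m₂, e₂⟩ := h₂
    refine ⟨t₁ * t₂, algebraMap S S' t₂ • m₁ + algebraMap S S' t₁ • m₂, ?_⟩
    rw [map_add, map_smul, map_smul, ← e₁, ← e₂, smul_add, smul_smul, smul_smul]
    simp only [Submonoid.coe_mul, map_mul]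
    rw [mul_comm]

include hf hT in
lemma isLocalizedModule_gamma : IsLocalizedModule T' (gamma f T T' hT) where
  map_units t := IsLocalizedModule.map_units (LocalizedModule.mkLinearMap T' M') t
  surj y := by
    induction y using LocalizedModule.induction_on with
    | h m' t =>
      refine ⟨(delta f hf T m', t), ?_⟩
      rw [gamma_delta]
      show (t : S') • LocalizedModule.mk m' t = _
      rw [LocalizedModule.smul'_mk]
      exact LocalizedModule.mk_cancel t m'
  exists_of_eq := by
    intro x₁ x₂ h12
    obtain ⟨t, m', e⟩ := exists_delta f hf T (x₁ - x₂)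
    have h0 : gamma f T T' hT (x₁ - x₂) = 0 := by rw [map_sub, h12, sub_self]
    have h1 : LocalizedModule.mk m' (1 : T') = 0 := by
      rw [← gamma_delta f hf T T' hT, ← e, map_smul, h0, smul_zero]
    rw [← LocalizedModule.zero_mk (1 : T'), LocalizedModule.mk_eq] at h1
    obtain ⟨c, hc⟩ := h1
    simp only [smul_zero, one_smul] at hc
    refine ⟨c * ⟨algebraMap S S' t, hT t t.2⟩, ?_⟩
    show ((c : S') * algebraMap S S' t) • x₁ = ((c : S') * algebraMap S S' t) • x₂
    have key : ((c : S') * algebraMap S S' t) • (x₁ - x₂) = 0 := by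
      rw [mul_smul, e, ← map_smul]
      rw [show (c : S') • m' = 0 from hc, map_zero]
    have h3 := smul_sub ((c : S') * algebraMap S S' t) x₁ x₂
    rw [h3] at key
    exact sub_eq_zero.mp key

end Main

theorem main6918 {R S R' S' : Type u} [CommRing R] [CommRing S] [CommRing R'] [CommRing S']
    [Algebra R S] [Algebra R R'] [Algebra S S'] [Algebra R' S'] [Algebra R S'] [IsScalarTower R S S']
    [IsScalarTower R R' S'] [Algebra.IsPushout R S R' S']
    (I : Ideal R) (I' : Ideal R') (hII' : I.map (algebraMap R R') ≤ I')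
    {M M' : Type u} [AddCommGroup M] [Module S M] [Module R M] [IsScalarTower R S M]
    [AddCommGroup M'] [Module S' M'] [Module R' M'] [IsScalarTower R' S' M'] [Module S M'] [IsScalarTower S S' M']
    (f : M →ₗ[S] M') (hf : IsBaseChange S' f) (J : Ideal S)
    (h : (∀ (q : Ideal S) [q.IsPrime], I.map (algebraMap R S) ⊔ J ≤ q → FlatCA.FlatAt R q M)) :
    (∀ (q : Ideal S') [q.IsPrime], I'.map (algebraMap R' S') ⊔ J.map (algebraMap S S') ≤ q → FlatCA.FlatAt R' q M') := by
  intro q' _ hq'
  let q : Ideal S := q'.comap (algebraMap S S')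
  have hqle : I.map (algebraMap R S) ⊔ J ≤ q := by
    refine sup_le ?_ ?_
    · rw [Ideal.map_le_iff_le_comap]
      intro x hx
      show algebraMap S S' (algebraMap R S x) ∈ q'
      rw [← IsScalarTower.algebraMap_apply, IsScalarTower.algebraMap_apply R R' S']
      apply hq'
      apply Ideal.mem_sup_left
      apply Ideal.mem_map_of_mem
      apply hII'
      exact Ideal.mem_map_of_mem _ hx
    · rw [← Ideal.map_le_iff_le_comap]
      exact le_trans le_sup_right hq'
  have hflat : Module.Flat R (LocalizedModule q.primeCompl M) := h q hqle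
  have hT : ∀ t ∈ q.primeCompl, algebraMap S S' t ∈ q'.primeCompl := fun t ht => ht
  have hloc := isLocalizedModule_gamma f hf q.primeCompl q'.primeCompl hT
  have hpo : Algebra.IsPushout R R' S S' := Algebra.IsPushout.symm inferInstance
  have hN : Module.Flat R' (S' ⊗[S] LocalizedModule q.primeCompl M) :=
    Module.Flat.of_linearEquiv
      (Algebra.IsPushout.cancelBaseChange R R' S S' (LocalizedModule q.primeCompl M))
  have hLN : Module.Flat R'
      (LocalizedModule q'.primeCompl (S' ⊗[S] LocalizedModule q.primeCompl M)) :=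
    flat_localizedModule q'.primeCompl _
  unfold FlatCA.FlatAt
  exact Module.Flat.of_linearEquiv
    ((IsLocalizedModule.iso q'.primeCompl
      (gamma f q.primeCompl q'.primeCompl hT)).symm.restrictScalars R')


end helpers

/-- Let `R → S` be a ring map, `J ⊆ S` an ideal, `M` an `S`-module, `I ⊆ R` an ideal, `R → R'` a ring
map and `I' ⊇ IR'`; put `S' = S ⊗_R R'`, `M' = M ⊗_R R'`. If `M_𝔮` is flat over `R` for all primes
`𝔮 ⊇ IS + J` of `S`, then `M'_{𝔮'}` is flat over `R'` for all primes `𝔮' ⊇ I'S' + JS'` of `S'`. (The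
published statement passes from an arbitrary pair `(R', I')` over `R` to a further pair `(R'',
I'')`; this row takes the first pair to be `(R, I)`.) -/
theorem result {R S R' S' : Type u} [CommRing R] [CommRing S] [CommRing R'] [CommRing S']
    [Algebra R S] [Algebra R R'] [Algebra S S'] [Algebra R' S'] [Algebra R S'] [IsScalarTower R S S']
    [IsScalarTower R R' S'] [Algebra.IsPushout R S R' S']
    (I : Ideal R) (I' : Ideal R') (hII' : I.map (algebraMap R R') ≤ I')
    {M M' : Type u} [AddCommGroup M] [Module S M] [Module R M] [IsScalarTower R S M]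
    [AddCommGroup M'] [Module S' M'] [Module R' M'] [IsScalarTower R' S' M'] [Module S M'] [IsScalarTower S S' M']
    (f : M →ₗ[S] M') (hf : IsBaseChange S' f) (J : Ideal S)
    (h : (∀ (q : Ideal S) [q.IsPrime], I.map (algebraMap R S) ⊔ J ≤ q → FlatCA.FlatAt R q M)) :
    (∀ (q : Ideal S') [q.IsPrime], I'.map (algebraMap R' S') ⊔ J.map (algebraMap S S') ≤ q → FlatCA.FlatAt R' q M') := by
  exact main6918 I I' hII' f hf J h

end Groth.Agent.S6918
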