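import Groth.Statements.S14929
import Mathlib
import Groth.Agent.Lib.Helper11.UnivHomeo

set_option autoImplicit false
universe u
open CategoryTheory CategoryTheory.Limits AlgebraicGeometry
open Variety

namespace Groth.Agent.S14929

open FrobSch in
theorem frob_stalkMap_apply (p : ℕ) [Fact p.Prime] (X : Scheme.{u}) [FrobSch.IsCharP X p] (x : X)
    (t : X.presheaf.stalk x) :
    ((FrobSch.frob X p).stalkMap x).hom t = t ^ p := by
  obtain ⟨U, hxU, s, rfl⟩ := X.presheaf.exists_germ_eq (x := x) t
  have h := Scheme.Hom.germ_stalkMap_apply (FrobSch.frob X p) U x hxU s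
  refine h.trans ?_
  change X.presheaf.germ U x hxU (s ^ p) = _
  rw [map_pow]

theorem frob_residueFieldMap_apply (p : ℕ) [Fact p.Prime] (X : Scheme.{u}) [FrobSch.IsCharP X p]
    (x : X) (a : X.residueField x) :
    ((FrobSch.frob X p).residueFieldMap x).hom a = a ^ p := by
  obtain ⟨t, rfl⟩ := X.residue_surjective x a
  have h := congrArg (fun φ => φ.hom t)
    (Scheme.residue_residueFieldMap (FrobSch.frob X p) x)
  simp only [CommRingCat.hom_comp, RingHom.comp_apply] at h
  refine h.trans ?_
  rw [frob_stalkMap_apply, map_pow]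

theorem natCast_residueField_eq_zero (p : ℕ) (X : Scheme.{u}) [FrobSch.IsCharP X p] (x : X) :
    (p : X.residueField x) = 0 := by
  have h0 : (p : Γ(X, ⊤)) = 0 := FrobSch.IsCharP.natCast_eq_zero
  have h := congrArg (fun s => (X.residue x).hom ((X.presheaf.germ ⊤ x trivial).hom s)) h0
  simpa using h

theorem frob_residueFieldMap_purelyInseparable (p : ℕ) [Fact p.Prime] (X : Scheme.{u})
    [FrobSch.IsCharP X p] (x : X) :
    ((FrobSch.frob X p).residueFieldMap x).hom.IsPurelyInseparable := by
  haveI : CharP (X.residueField x) p :=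
    (CharP.charP_iff_prime_eq_zero Fact.out).2 (natCast_residueField_eq_zero p X x)
  haveI : ExpChar (X.residueField x) p := ExpChar.prime Fact.out
  letI : Algebra (X.residueField x) (X.residueField x) :=
    ((FrobSch.frob X p).residueFieldMap x).hom.toAlgebra
  show IsPurelyInseparable (X.residueField x) (X.residueField x)
  rw [isPurelyInseparable_iff_pow_mem (X.residueField x) p]
  intro a
  refine ⟨1, a, ?_⟩
  rw [pow_one]
  exact frob_residueFieldMap_apply p X x a

theorem frob_isIntegralHom (p : ℕ) [Fact p.Prime] (X : Scheme.{u}) [FrobSch.IsCharP X p] :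
    IsIntegralHom (FrobSch.frob X p) := by
  haveI : IsAffineHom (FrobSch.frob X p) := ⟨fun U hU => hU⟩
  refine ⟨fun U hU s => ?_⟩
  let s' : Γ(X, U) := s
  refine ⟨Polynomial.X ^ p - Polynomial.C s',
    Polynomial.monic_X_pow_sub_C s' (Fact.out : p.Prime).ne_zero, ?_⟩
  rw [Polynomial.eval₂_sub, Polynomial.eval₂_pow, Polynomial.eval₂_X, Polynomial.eval₂_C]
  exact sub_self (s ^ p)

theorem frob_universallyInjective (p : ℕ) [Fact p.Prime] (X : Scheme.{u}) [FrobSch.IsCharP X p] :
    UniversallyInjective (FrobSch.frob X p) := by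
  have h := (tfae_universallyInjective (FrobSch.frob X p)).out 0 2
  exact h.mpr ⟨fun a b h => h, frob_residueFieldMap_purelyInseparable p X⟩

theorem frob_isUnivHomeo (p : ℕ) [Fact p.Prime] (X : Scheme.{u}) [FrobSch.IsCharP X p] :
    FlatMor.IsUnivHomeo (FrobSch.frob X p) := by
  rw [Groth.Agent.Helper11.UH.isUnivHomeo_iff]
  haveI := frob_isIntegralHom p X
  exact ⟨inferInstance, frob_universallyInjective p X, ⟨fun x => ⟨x, rfl⟩⟩⟩


/-- Let p be a prime and X a scheme of characteristic p (p is zero in the structure sheaf). Then the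
absolute Frobenius F_X : X → X, the identity on the underlying space with g ↦ g^p on sections, is a
universal homeomorphism (every base change of it is a homeomorphism), is integral, and induces a
purely inseparable extension of residue fields κ(x) → κ(x) at every point x of X. -/
theorem result (p : ℕ) [Fact p.Prime]
    (X : Scheme.{u}) [FrobSch.IsCharP X p] :
    FlatMor.IsUnivHomeo (FrobSch.frob X p) ∧ IsIntegralHom (FrobSch.frob X p) ∧
      ∀ x : X, ((FrobSch.frob X p).residueFieldMap x).hom.IsPurelyInseparable := by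
  exact ⟨frob_isUnivHomeo p X, frob_isIntegralHom p X, frob_residueFieldMap_purelyInseparable p X⟩

end Groth.Agent.S14929
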