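import Groth.Statements.S14930
import Mathlib
import Groth.Agent.Lib.Helper11.UnivHomeo
import Groth.Agent.S14929

set_option autoImplicit false
universe u
open CategoryTheory CategoryTheory.Limits AlgebraicGeometry
open Variety

namespace Groth.Agent.S14930

/-- Let p be a prime, S a scheme of characteristic p (p is zero in the structure sheaf) and f : X → S a
morphism of schemes. Then the relative Frobenius F_{X/S} : X → X^(p), where X^(p) = X ×_{S,F_S} S is
the base change of X along the absolute Frobenius of S and F_{X/S} is the morphism over S whose
composite with the projection X^(p) → X is the absolute Frobenius of X, is a universal homeomorphism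
(every base change of it is a homeomorphism), is integral, and induces a purely inseparable
extension of residue fields at every point of X. -/
theorem result (p : ℕ) [Fact p.Prime]
    {X S : Scheme.{u}} [FrobSch.IsCharP S p] (f : X ⟶ S) :
    FlatMor.IsUnivHomeo (FrobSch.relFrob f p) ∧ IsIntegralHom (FrobSch.relFrob f p) ∧
      ∀ x : X, ((FrobSch.relFrob f p).residueFieldMap x).hom.IsPurelyInseparable := by
  haveI : FrobSch.IsCharP X p := FrobSch.IsCharP.of_hom f p
  set R := FrobSch.relFrob f p with hR
  set q := pullback.fst f (FrobSch.frob S p) with hq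
  have hRq : R ≫ q = FrobSch.frob X p := FrobSch.relFrob_fst f p
  haveI hS_int : IsIntegralHom (FrobSch.frob S p) := Groth.Agent.S14929.frob_isIntegralHom p S
  haveI hS_inj : UniversallyInjective (FrobSch.frob S p) :=
    Groth.Agent.S14929.frob_universallyInjective p S
  haveI hq_int : IsIntegralHom q := inferInstance
  haveI hq_inj : UniversallyInjective q :=
    MorphismProperty.pullback_fst f (FrobSch.frob S p) hS_inj
  haveI hq_sep : IsSeparated q := IsSeparated.of_isAffineHom q
  haveI hRq_int : IsIntegralHom (R ≫ q) := by
    rw [hRq]; exact Groth.Agent.S14929.frob_isIntegralHom p X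
  have hR_int : IsIntegralHom R := IsIntegralHom.of_comp R q
  have hR_inj : UniversallyInjective R := by
    have h := (tfae_universallyInjective R).out 0 1
    rw [h]
    intro K _ g₁ g₂ hg
    have hg' : g₁ ≫ R = g₂ ≫ R := hg
    have hX := ((tfae_universallyInjective (FrobSch.frob X p)).out 0 1).mp
      (Groth.Agent.S14929.frob_universallyInjective p X)
    apply hX K
    show g₁ ≫ FrobSch.frob X p = g₂ ≫ FrobSch.frob X p
    rw [← hRq, ← Category.assoc, ← Category.assoc, hg']
  have hR_surj : Surjective R := by
    refine ⟨fun z => ⟨q z, ?_⟩⟩
    apply q.injective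
    rw [← Scheme.Hom.comp_apply, hRq]
    rfl
  refine ⟨?_, hR_int, ?_⟩
  · rw [Groth.Agent.Helper11.UH.isUnivHomeo_iff]
    exact ⟨inferInstance, hR_inj, hR_surj⟩
  · have h2 := (tfae_universallyInjective R).out 0 2
    exact (h2.mp hR_inj).2

end Groth.Agent.S14930
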