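import Groth.Statements.S0079
import Mathlib.AlgebraicGeometry.Morphisms.FlatDescent

set_option autoImplicit false
open CategoryTheory CategoryTheory.Limits AlgebraicGeometry Opposite
universe u
open EtBase

namespace Groth.Agent.S0079

/-- Quasi-compactness of a morphism descends along a quasi-compact flat surjective base change: if the
base change of a morphism g along a quasi-compact, flat, surjective morphism to its target is
quasi-compact, then g is quasi-compact. (Stated for a single quasi-compact faithfully flat cover;
combined with Zariski-locality on the target this gives the fpqc-local form.) -/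
theorem result :
    MorphismProperty.DescendsAlong @QuasiCompact (@Surjective ⊓ @Flat ⊓ @QuasiCompact : MorphismProperty Scheme.{u}) := by
  refine IsZariskiLocalAtTarget.descendsAlong_inf_quasiCompact _ _ ?_ ?_
  · rw [inf_comm]
    exact inf_le_inf le_rfl (IsLocalIso.le_of_isZariskiLocalAtSource _)
  intro R S Y φ g ⟨hsurj, hflat⟩ hfst
  have hcomp : CompactSpace ↥(pullback (Spec.map φ) g) :=
    (HasAffineProperty.iff_of_isAffine (P := @QuasiCompact)).mp hfst
  have hs : Surjective (pullback.snd (Spec.map φ) g) :=
    MorphismProperty.pullback_snd (P := @Surjective) _ _ hsurj
  rw [HasAffineProperty.iff_of_isAffine (P := @QuasiCompact)]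
  refine ⟨?_⟩
  have := isCompact_range (pullback.snd (Spec.map φ) g).continuous
  rwa [hs.surj.range_eq] at this

end Groth.Agent.S0079
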