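import Groth.Statements.S19144
import Groth.Agent.Lib.Helper12.TwEtA

set_option autoImplicit false
set_option linter.style.haveILetI false
open CategoryTheory MonoidalCategory CartesianMonoidalCategory MonObj GrpObj AlgebraicGeometry
universe u
open TwC

namespace Groth.Agent.S19144

/-- A quasi-isotrivial twisted constant S-scheme X (etale-locally on S isomorphic to a constant scheme)
is separated and etale over S, and its structure morphism satisfies the valuative criterion of
properness (every valuative square has exactly one lift; X ⟶ S need not be quasi-compact). -/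
theorem result {S : Scheme.{u}} (X : Over S)
    (hX : TwC.IsTwConst TwC.Topology.etale X) :
    IsSeparated X.hom ∧ Etale X.hom ∧ ValuativeCriterion X.hom := by
  have key : ∀ s : S, ∃ (S' : Scheme.{u}) (f : S' ⟶ S), Etale f ∧ s ∈ Set.range f.base ∧
      ∃ I : Type u, Nonempty (Red.bc f X ≅ TwC.const S' I) := hX
  have hloc : ∀ (P : MorphismProperty Scheme.{u}) [P.RespectsIso],
      (∀ (U : Scheme.{u}) (I : Type u), P (Groth.Agent.Helper12.ConstSch.sg U I)) →
      ∀ s : S, ∃ (S' : Scheme.{u}) (f : S' ⟶ S), Flat f ∧ LocallyOfFinitePresentation f ∧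
        s ∈ Set.range f.base ∧ P (Limits.pullback.snd X.hom f) := by
    intro P _ hP s
    obtain ⟨S', f, hf, hs, I, ⟨φ⟩⟩ := key s
    refine ⟨S', f, inferInstance, inferInstance, hs, ?_⟩
    have h1 : φ.hom.left ≫ (TwC.const S' I).hom = (Red.bc f X).hom := Over.w φ.hom
    have h2 : (Red.bc f X).hom = Limits.pullback.snd X.hom f := rfl
    rw [← h2, ← h1]
    exact (MorphismProperty.cancel_left_of_respectsIso P _ _).2 (hP S' I)
  haveI : MorphismProperty.DescendsAlong @IsSeparated
      (@Surjective ⊓ @Flat ⊓ @QuasiCompact : MorphismProperty Scheme.{u}) :=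
    Groth.Agent.S0081.result
  have hsep : IsSeparated X.hom :=
    Groth.Agent.Helper12.TwEt.descends_pointwise @IsSeparated X.hom
      (hloc @IsSeparated fun U I => inferInstance)
  have het : Etale X.hom :=
    Groth.Agent.Helper12.TwEt.descends_pointwise @Etale X.hom
      (hloc @Etale fun U I => inferInstance)
  refine ⟨hsep, het, ValuativeCriterion.iff.2 ⟨?_, IsSeparated.valuativeCriterion X.hom⟩⟩
  refine Groth.Agent.Helper12.TwEt.existence_pointwise X.hom fun s => ?_
  obtain ⟨S', f, hfl, _, hs, hE⟩ := hloc ValuativeCriterion.Existence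
    (fun U I => Groth.Agent.Helper12.ConstSch.existence_sg U I) s
  exact ⟨S', f, hfl, hs, hE⟩

end Groth.Agent.S19144
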