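import Groth.Statements.S14271
import Mathlib
-- import your own Groth.Agent.* helpers here

set_option autoImplicit false
universe u
open FlatPur

namespace Groth.Agent.S14271


section Alg
variable {A S : Type*} [CommRing A] [CommRing S] [Algebra A S]

lemma exists_minPrime (a : A) (ha : a ≠ 0) :
    ∃ 𝔭 : Ideal A, 𝔭 ∈ (Ideal.torsionOf A A a).minimalPrimes := by
  have hne : Ideal.torsionOf A A a ≠ ⊤ := by
    intro h
    have : (1 : A) ∈ Ideal.torsionOf A A a := h ▸ Submodule.mem_top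
    rw [Ideal.mem_torsionOf_iff] at this
    exact ha (by simpa using this)
  obtain ⟨⟨p, hp⟩⟩ := Ideal.nonempty_minimalPrimes hne
  exact ⟨p, hp⟩

lemma map_ne_zero' (𝔭 : Ideal A) [𝔭.IsPrime] [IsLocalization.AtPrime S 𝔭] (a : A)
    (h𝔭 : 𝔭 ∈ (Ideal.torsionOf A A a).minimalPrimes) : algebraMap A S a ≠ 0 := by
  intro h
  rw [IsLocalization.map_eq_zero_iff 𝔭.primeCompl] at h
  obtain ⟨s, hs⟩ := h
  apply s.2
  apply h𝔭.1.2
  rw [Ideal.mem_torsionOf_iff]
  simpa using hs

lemma no_regular (𝔭 : Ideal A) [𝔭.IsPrime] [IsLocalization.AtPrime S 𝔭] [IsLocalRing S] (a : A)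
    (h𝔭 : 𝔭 ∈ (Ideal.torsionOf A A a).minimalPrimes) (t : S)
    (ht : t ∈ IsLocalRing.maximalIdeal S) (hreg : IsSMulRegular S t) : False := by
  set b := algebraMap A S a with hb
  have hb0 : b ≠ 0 := map_ne_zero' 𝔭 a h𝔭
  let M' : Submodule S S := Submodule.span S {b}
  have hreg' : IsSMulRegular M' t := hreg.submodule M' t
  have hbM : b ∈ M' := Submodule.subset_span rfl
  have hJ : ∀ x : S, x ∈ Module.annihilator S M' ↔ x * b = 0 := by
    intro x
    rw [Module.mem_annihilator]
    constructor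
    · intro h
      have := h ⟨b, hbM⟩
      simpa using congrArg Subtype.val this
    · rintro h ⟨m, hm⟩
      obtain ⟨c, rfl⟩ := Submodule.mem_span_singleton.mp hm
      ext
      simp only [SetLike.mk_smul_mk, smul_eq_mul, ZeroMemClass.coe_zero]
      rw [mul_left_comm, h, mul_zero]
  have hmin : IsLocalRing.maximalIdeal S ∈ (Module.annihilator S M').minimalPrimes := by
    refine ⟨⟨inferInstance, IsLocalRing.le_maximalIdeal ?_⟩, ?_⟩
    · intro h
      have : (1 : S) ∈ Module.annihilator S M' := h ▸ Submodule.mem_top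
      rw [hJ, one_mul] at this
      exact hb0 this
    · rintro q ⟨hq, hJq⟩ -
      have hq1 : (q.under A) ≤ 𝔭 := by
        rw [← IsLocalization.AtPrime.under_maximalIdeal S 𝔭]
        exact Ideal.comap_mono (IsLocalRing.le_maximalIdeal hq.ne_top)
      have hq2 : Ideal.torsionOf A A a ≤ q.under A := by
        intro i hi
        rw [Ideal.mem_torsionOf_iff] at hi
        change algebraMap A S i ∈ q
        apply hJq
        rw [hJ, hb, ← map_mul]
        have : i * a = 0 := by simpa using hi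
        rw [this, map_zero]
      have h3 : 𝔭 ≤ q.under A := h𝔭.2 ⟨inferInstance, hq2⟩ hq1
      calc IsLocalRing.maximalIdeal S
          = Ideal.map (algebraMap A S) ((IsLocalRing.maximalIdeal S).under A) :=
            (IsLocalization.map_under 𝔭.primeCompl S _).symm
        _ = Ideal.map (algebraMap A S) 𝔭 := by
            rw [IsLocalization.AtPrime.under_maximalIdeal S 𝔭]
        _ ≤ Ideal.map (algebraMap A S) (q.under A) := Ideal.map_mono h3
        _ = q := IsLocalization.map_under 𝔭.primeCompl S _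
  exact hreg'.notMem_of_mem_minimalPrimes hmin ht

end Alg

open AlgebraicGeometry CategoryTheory CategoryTheory.Limits in
lemma ker_eq_bot (X : Scheme.{u}) (U : X.Opens) [QuasiCompact U.ι]
    (hZ : ∀ z : X, z ∉ U → ∃ a ∈ IsLocalRing.maximalIdeal (X.presheaf.stalk z),
      IsSMulRegular (X.presheaf.stalk z) a) : U.ι.ker = ⊥ := by
  refine Scheme.IdealSheafData.ext ?_
  funext V
  rw [Scheme.Hom.ker_apply]
  simp only [Scheme.IdealSheafData.ideal_bot, Pi.bot_apply]
  rw [← RingHom.injective_iff_ker_eq_bot, injective_iff_map_eq_zero]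
  intro a ha
  by_contra ha0
  obtain ⟨𝔭, h𝔭⟩ := exists_minPrime a ha0
  have hp : 𝔭.IsPrime := h𝔭.1.1
  let y : PrimeSpectrum Γ(X, V.1) := ⟨𝔭, hp⟩
  have hz : V.2.fromSpec y ∈ V.1 := (V.2.isoSpec.inv _).2
  have hloc := V.2.isLocalization_stalk' y hz
  let _ := TopCat.Presheaf.algebra_section_stalk X.presheaf ⟨V.2.fromSpec y, hz⟩
  have hloc' : IsLocalization.AtPrime (X.presheaf.stalk (V.2.fromSpec y)) 𝔭 := hloc
  have hb0 : algebraMap Γ(X, V.1) (X.presheaf.stalk (V.2.fromSpec y)) a ≠ 0 :=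
    map_ne_zero' 𝔭 a h𝔭
  by_cases hzU : V.2.fromSpec y ∈ U
  · apply hb0
    change (X.presheaf.germ V.1 (V.2.fromSpec y) hz).hom a = 0
    have hle : U.ι ''ᵁ (U.ι ⁻¹ᵁ V.1) ≤ V.1 := by
      rintro _ ⟨w, hw, rfl⟩
      exact hw
    have hmem : V.2.fromSpec y ∈ U.ι ''ᵁ (U.ι ⁻¹ᵁ V.1) := ⟨⟨_, hzU⟩, hz, rfl⟩
    have := TopCat.Presheaf.germ_res_apply X.presheaf (homOfLE hle) _ hmem a
    rw [← this]
    have h2 : (X.presheaf.map (homOfLE hle).op).hom a = 0 := by
      rw [Scheme.Opens.ι_app] at ha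
      exact ha
    rw [h2, map_zero]
  · obtain ⟨t, ht, hreg⟩ := hZ _ hzU
    exact no_regular 𝔭 a h𝔭 t ht hreg

open AlgebraicGeometry CategoryTheory CategoryTheory.Limits in
/-- Let X be a scheme and U an open subscheme whose inclusion is quasi-compact, such that for every
point z of X outside U the maximal ideal of O_{X,z} contains an element that is regular (a
nonzerodivisor) on that local ring. Then for every separated X-scheme Y the restriction map from
X-sections of Y to U-sections of Y is injective: two sections of Y -> X that agree on U are equal. -/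
theorem result (X : Scheme.{u}) (U : X.Opens) [QuasiCompact U.ι]
    (hZ : ∀ z : X, z ∉ U → ∃ a ∈ IsLocalRing.maximalIdeal (X.presheaf.stalk z), IsSMulRegular (X.presheaf.stalk z) a)
    (Y : Scheme.{u}) (f : Y ⟶ X) [IsSeparated f] (s₁ s₂ : X ⟶ Y) (h₁ : s₁ ≫ f = 𝟙 X) (h₂ : s₂ ≫ f = 𝟙 X)
    (hU : U.ι ≫ s₁ = U.ι ≫ s₂) : s₁ = s₂ := by
  have hker : U.ι.ker = ⊥ := ker_eq_bot X U hZ
  let X' : Over X := Over.mk (s₁ ≫ f)
  let Y' : Over X := Over.mk f
  let U' : Over X := Over.mk (U.ι ≫ s₁ ≫ f)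
  let f' : X' ⟶ Y' := Over.homMk s₁
  let g' : X' ⟶ Y' := Over.homMk s₂ (by simp [X', Y', h₁, h₂])
  let ι' : U' ⟶ X' := Over.homMk U.ι
  have : IsSeparated Y'.hom := ‹_›
  have hcond : ι' ≫ f' = ι' ≫ g' := by ext1; exact hU
  have hlift : (equalizer.lift ι' hcond).left ≫ (equalizer.ι f' g').left = U.ι := by
    rw [← Over.comp_left, equalizer.lift_ι]; rfl
  have : IsIso (equalizer.ι f' g').left := by
    rw [IsClosedImmersion.isIso_iff_ker_eq_bot, eq_bot_iff, ← hker, ← hlift]
    exact Scheme.Hom.le_ker_comp _ _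
  rw [← cancel_epi (equalizer.ι f' g').left]
  exact congr($(equalizer.condition f' g').left)

end Groth.Agent.S14271
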