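import Groth.Statements.S1576
import Groth.Agent.Lib.Helper13.FinAffine2
import Groth.Agent.Lib.Helper13.QCohAss

set_option autoImplicit false
universe u
open CategoryTheory CategoryTheory.Limits AlgebraicGeometry
open Divisors

namespace Groth.Agent.S1576

open Groth.Agent.Helper13.QCoh in
/-- the prime of an associated point in an affine open is an associated prime of the sections -/
lemma isAssociatedPrime_primeIdealOf (X : Scheme.{u}) [IsLocallyNoetherian X]
    (F : X.Modules) [F.IsQuasicoherent] {V : X.Opens} (hV : IsAffineOpen V) (x : X) (hx : x ∈ V)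
    (hass : Curv2.IsAssPoint F x) :
    IsAssociatedPrime (hV.primeIdealOf ⟨x, hx⟩).asIdeal Γ(F, V) := by
  have hN : IsNoetherianRing Γ(X, V) := IsLocallyNoetherian.component_noetherian ⟨V, hV⟩
  rw [isAssociatedPrime_iff]
  refine ⟨(hV.primeIdealOf ⟨x, hx⟩).2, ?_⟩
  obtain ⟨t, ht0, ht⟩ := exists_section_smul_eq_zero_of_isWeakAssPoint F hV x hx
    ((isAssPoint_iff_isWeakAssPoint F x).1 hass)
  refine ⟨t, ?_⟩
  ext a
  rw [Submodule.mem_colon_singleton, Submodule.mem_bot]
  constructor
  · exact ht a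
  · intro hat
    by_contra hna
    have hxa : x ∈ X.basicOpen a := (mem_basicOpen_iff_notMem_primeIdealOf hV x hx a).2 hna
    apply ht0
    apply eq_zero_of_germ_smul_eq_zero F x hx a hxa
    rw [← germ_smul, hat, map_zero]

lemma finite_ass_affine (X : Scheme.{u}) [IsLocallyNoetherian X]
    (F : X.Modules) (hF : Coh.IsCoh F) {V : X.Opens} (hV : IsAffineOpen V) :
    {x : X | x ∈ V ∧ Curv2.IsAssPoint F x}.Finite := by
  have hq : F.IsQuasicoherent := hF.1
  have hft : SheafOfModules.IsFiniteType (R := X.ringCatSheaf) F := hF.2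
  have hN : IsNoetherianRing Γ(X, V) := IsLocallyNoetherian.component_noetherian ⟨V, hV⟩
  have hfin : Module.Finite Γ(X, V) Γ(F, V) :=
    Groth.Agent.Helper13.FinType.finite_sections_of_isFiniteType F hV
  have hA : (associatedPrimes Γ(X, V) Γ(F, V)).Finite := associatedPrimes.finite _ _
  have := hA.to_subtype
  let g : associatedPrimes Γ(X, V) Γ(F, V) → X := fun p => hV.fromSpec ⟨p.1, p.2.isPrime⟩
  refine (Set.finite_range g).subset ?_
  rintro x ⟨hx, hass⟩
  refine ⟨⟨_, isAssociatedPrime_primeIdealOf X F hV x hx hass⟩, ?_⟩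
  exact hV.fromSpec_primeIdealOf ⟨x, hx⟩

/-- Let X be locally Noetherian and F coherent. Then the associated points of F lying in any
quasi-compact open subset form a finite set. -/
theorem result (X : Scheme.{u}) [IsLocallyNoetherian X]
    (F : X.Modules) (hF : Coh.IsCoh F) (U : X.Opens) (hU : IsCompact (U : Set X)) :
    {x : X | x ∈ U ∧ Curv2.IsAssPoint F x}.Finite := by
  have hcov : (U : Set X) ⊆ ⋃ V : X.affineOpens, ((V : X.Opens) : Set X) := by
    intro x _
    obtain ⟨_, ⟨V, hV, rfl⟩, hxV, -⟩ := X.isBasis_affineOpens.exists_subset_of_mem_open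
      (Set.mem_univ x) isOpen_univ
    exact Set.mem_iUnion.2 ⟨⟨V, hV⟩, hxV⟩
  obtain ⟨T, hT⟩ := hU.elim_finite_subcover (fun V : X.affineOpens => ((V : X.Opens) : Set X))
    (fun V => (V : X.Opens).2) hcov
  have hfin : (⋃ V ∈ T, {x : X | x ∈ (V : X.Opens) ∧ Curv2.IsAssPoint F x}).Finite :=
    Set.Finite.biUnion T.finite_toSet (fun V _ => finite_ass_affine X F hF V.2)
  refine hfin.subset ?_
  rintro x ⟨hxU, hass⟩
  obtain ⟨V, hV⟩ := Set.mem_iUnion.1 (hT hxU)
  obtain ⟨hVT, hxV⟩ := Set.mem_iUnion.1 hV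
  exact Set.mem_iUnion.2 ⟨V, Set.mem_iUnion.2 ⟨hVT, ⟨hxV, hass⟩⟩⟩

end Groth.Agent.S1576
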