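import Groth.Statements.S3395
import Mathlib
import Groth.Agent.Lib.Helper14.AffSpFibre2
import Groth.Agent.Lib.Helper16.Sch.QFBaseChange
-- import your own Groth.Agent.* helpers here

set_option autoImplicit false
open CategoryTheory AlgebraicGeometry
universe u
open EGA43

namespace Groth.Agent.S3395

open CategoryTheory.Limits in
/-- Let X and Y be affine schemes, f : X ⟶ Y of finite type, y a point of f(X), e the dimension of the
fibre over y, and g a Y-morphism from X to the affine space of dimension e over Y whose base change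
to the fibre of the affine space over y is finite. Then that base change is surjective, and g is
locally quasi-finite on some open U ⊆ X that contains the fibre f⁻¹(y). -/
theorem result {X Y : Scheme.{u}} [IsAffine X] [IsAffine Y]
    (f : X ⟶ Y) [LocallyOfFiniteType f] (y : Y) (hy : y ∈ Set.range f.base) (e : ℕ)
    (he : topologicalKrullDim ↥(f.fiber y) = e) (g : X ⟶ 𝔸(ULift.{u} (Fin e); Y)) (hg : g ≫ (𝔸(ULift.{u} (Fin e); Y) ↘ Y) = f)
    (hfin : IsFinite (pullback.snd g ((𝔸(ULift.{u} (Fin e); Y) ↘ Y).fiberι y))) :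
    Function.Surjective (pullback.snd g ((𝔸(ULift.{u} (Fin e); Y) ↘ Y).fiberι y)).base ∧
      ∃ U : X.Opens, f.base ⁻¹' {y} ⊆ (U : Set X) ∧ LocallyQuasiFinite (U.ι ≫ g) := by
  open Groth.Agent.Helper14 in
  refine ⟨AffSpFibre.surjective_snd f y e he g hg hfin, ?_⟩
  haveI : LocallyOfFiniteType (g ≫ (𝔸(ULift.{u} (Fin e); Y) ↘ Y)) := by rw [hg]; infer_instance
  haveI : LocallyOfFiniteType g := locallyOfFiniteType_of_comp g (𝔸(ULift.{u} (Fin e); Y) ↘ Y)
  refine ⟨g.quasiFiniteLocus, ?_, ?_⟩
  · intro x hx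
    rw [Set.mem_preimage, Set.mem_singleton_iff] at hx
    change g.QuasiFiniteAt x
    have HW := IsPullback.of_hasPullback g ((𝔸(ULift.{u} (Fin e); Y) ↘ Y).fiberι y)
    have hxr : x ∈ Set.range (pullback.fst g ((𝔸(ULift.{u} (Fin e); Y) ↘ Y).fiberι y)).base := by
      rw [Scheme.Pullback.range_fst, Scheme.Hom.range_fiberι]
      rw [Set.mem_preimage, Set.mem_preimage, Set.mem_singleton_iff, ← Scheme.Hom.comp_apply, hg]
      exact hx
    obtain ⟨w, rfl⟩ := hxr
    refine Groth.Agent.Helper16.QFBC.qf_of_qf_pullback g _ _ _ HW w ?_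
    exact Scheme.Hom.quasiFiniteAt _ w
  · rw [← Scheme.Hom.quasiFiniteLocus_eq_top_iff, Scheme.Hom.quasiFiniteLocus_comp]
    ext z
    constructor
    · intro _
      trivial
    · intro _
      exact z.2

end Groth.Agent.S3395
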