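import Groth.Statements.S0009
import Mathlib
import Groth.Agent.Lib.Helper13.SerreCrit4

set_option autoImplicit false
universe u
open Coherent

namespace Groth.Agent.S0009

open AlgebraicGeometry CategoryTheory CategoryTheory.Limits Opposite TopologicalSpace
open Groth.Agent.Helper13.QCoh Groth.Agent.Helper13.FinType Groth.Agent.Helper13.VanishIdeal
open Groth.Agent.Helper13.LocFree Groth.Agent.Helper13.SerreCrit Groth.Agent.Helper13.ToAbExact

open AlgebraicGeometry CategoryTheory in
/-- If X is quasi-compact and H^1 vanishes for every quasi-coherent submodule of the structure sheaf,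
then X is affine. A quasi-coherent sheaf of ideals is modelled as a quasi-coherent module with a
monomorphism into the structure sheaf. -/
theorem result (X : Scheme.{u}) [CompactSpace X]
    (h : ∀ (I : X.Modules) (i : I ⟶ Coh.structureModule X), Mono i →
      Coh.IsQCoh I → Subsingleton (Coh.HH X I 1)) : IsAffine X := by
  haveI : (Coh.structureModule X).IsQuasicoherent := isQuasicoherent_unit _
  apply isAffine_of_surjective
  · intro Z x hx hxZ
    haveI := isClosedImmersion_fromSpecResidueField x hx
    let i := (Scheme.IdealSheafData.vanishingIdeal Z).subschemeι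
    let j := X.fromSpecResidueField x
    have hri : Set.range i = (Z : Set X) := by
      rw [Scheme.IdealSheafData.range_subschemeι, Scheme.IdealSheafData.coe_support_vanishingIdeal]
    have hcl : IsClosed (Set.range i) := hri ▸ Z.isClosed
    have hdisj : Disjoint (Set.range i) (Set.range j) := by
      rw [hri, Scheme.range_fromSpecResidueField]
      exact Set.disjoint_singleton_right.2 hxZ
    haveI : (Coh.structureModule (Spec (X.residueField x))).IsQuasicoherent :=
      isQuasicoherent_unit _
    haveI : (idealMod i).IsQuasicoherent := isQuasicoherent_idealMod i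
    haveI : ((Scheme.Modules.pushforward j).obj
        (Coh.structureModule (Spec (X.residueField x)))).IsQuasicoherent :=
      Groth.Agent.Helper13.Qcqs.isQuasicoherent_pushforward_of_qcqs j _
    haveI : Epi (idealι i ≫ sharp j) := epi_ev i hcl j hdisj
    haveI hk : Mono (kernel.ι (idealι i ≫ sharp j)) := equalizer.ι_mono
    have hm : Mono (kernel.ι (idealι i ≫ sharp j) ≫ idealι i) := mono_comp _ _
    have h1 : Subsingleton (Coh.HH X (kernel (idealι i ≫ sharp j)) 1) :=
      h _ (kernel.ι (idealι i ≫ sharp j) ≫ idealι i) hm
        (Groth.Agent.Helper13.QCohLocal.isQuasicoherent_kernel (idealι i ≫ sharp j))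
    exact app_top_surjective_of_H1 (kerSC (idealι i ≫ sharp j)) (kerSC_shortExact _) h1
  · intro n f hcov _
    apply span_eq_top_of_surjective
    haveI := epi_descSec_of_cover f hcov
    obtain ⟨p, hp⟩ : ∃ p : FlatMod.freeMod X n ⟶ Coh.structureModule X,
        p = descSec (Coh.structureModule X) (fun k => toO ⊤ (f k)) := ⟨_, rfl⟩
    haveI : Epi p := by rw [hp]; infer_instance
    have h1 : Subsingleton (Coh.HH X (kernel p) 1) :=
      H1_subsingleton_of_mono_freeMod h n (kernel p) (kernel.ι p) equalizer.ι_mono
        (Groth.Agent.Helper13.QCohLocal.isQuasicoherent_kernel p)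
    have hs := app_top_surjective_of_H1 (kerSC p) (kerSC_shortExact p) h1
    subst hp
    exact hs

end Groth.Agent.S0009
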