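import Groth.Statements.S15815
import Mathlib
import Groth.Agent.Lib.Helper12.KoszEuler20

set_option autoImplicit false
universe u
open CategoryTheory
open Koszul

namespace Groth.Agent.S15815

set_option linter.style.haveILetI false
set_option linter.unusedVariables false
set_option linter.unusedSectionVars false
open Groth.Agent.Helper21.KF Groth.Agent.Helper12.KoszEuler CategoryTheory.Limits CochainComplex HomologicalComplex

variable {A : Type u} [CommRing A]

section Cone
variable {F G : CochainComplex (ModuleCat.{u} A) ℤ} (φ : F ⟶ G)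

theorem coneXEquiv_d (i : ℤ) (z : (mappingCone φ).X i) :
    coneXEquiv φ (i + 1) (((mappingCone φ).d i (i + 1)).hom z) =
      (-((F.d (i + 1) (i + 1 + 1)).hom (coneXEquiv φ i z).1),
        (φ.f (i + 1)).hom (coneXEquiv φ i z).1 + (G.d i (i + 1)).hom (coneXEquiv φ i z).2) := by
  refine Prod.ext ?_ ?_
  · show ((mappingCone.fst φ).1.v (i + 1) (i + 1 + 1) rfl).hom
      (((mappingCone φ).d i (i + 1)).hom z) = _
    rw [comp_hom_apply (mappingCone.d_fst_v φ i (i + 1) (i + 1 + 1) rfl rfl) z]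
    rfl
  · show ((mappingCone.snd φ).v (i + 1) (i + 1) (add_zero _)).hom
      (((mappingCone φ).d i (i + 1)).hom z) = _
    rw [comp_hom_apply (mappingCone.d_snd_v φ i (i + 1) rfl) z]
    rfl

end Cone

/-- comparison data between `K(x f)` and `K(f)`. -/
structure XData (l : List A) (x : A) where
  e : ∀ n : ℤ, (Koszul.koszul A (l.map (fun f => x * f))).X n ≃ₗ[A] (Koszul.koszul A l).X n
  comm : ∀ (n : ℤ) (a : (Koszul.koszul A (l.map (fun f => x * f))).X n),
    e (n + 1) (((Koszul.koszul A (l.map (fun f => x * f))).d n (n + 1)).hom a) =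
      x • ((Koszul.koszul A l).d n (n + 1)).hom (e n a)

theorem single_d_apply (M : ModuleCat.{u} A) (i j : ℤ)
    (a : ((CochainComplex.singleFunctor (ModuleCat.{u} A) 0).obj M).X i) :
    (((CochainComplex.singleFunctor (ModuleCat.{u} A) 0).obj M).d i j).hom a = 0 := by
  have : ((HomologicalComplex.single (ModuleCat.{u} A) (ComplexShape.up ℤ) 0).obj M).d i j = 0 :=
    HomologicalComplex.single_obj_d _ _ _ _ _
  show (((HomologicalComplex.single (ModuleCat.{u} A) (ComplexShape.up ℤ) 0).obj M).d i j).hom a = 0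
  rw [this]; rfl

theorem exists_xdata (x : A) : ∀ l : List A, Nonempty (XData l x) := by
  intro l
  induction l with
  | nil =>
    refine ⟨⟨fun n => LinearEquiv.refl A _, fun n a => ?_⟩⟩
    show (((CochainComplex.singleFunctor (ModuleCat.{u} A) 0).obj (ModuleCat.of A A)).d n (n + 1)).hom
      a = x • (((CochainComplex.singleFunctor (ModuleCat.{u} A) 0).obj (ModuleCat.of A A)).d n
        (n + 1)).hom a
    rw [single_d_apply, smul_zero]
  | cons f l ih =>
    obtain ⟨D⟩ := ih
    let K' := Koszul.koszul A (l.map (fun f => x * f))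
    let K := Koszul.koszul A l
    let e : ∀ n : ℤ, (mappingCone ((x * f) • 𝟙 K')).X n ≃ₗ[A] (mappingCone (f • 𝟙 K)).X n :=
      fun n => (coneXEquiv ((x * f) • 𝟙 K') n) ≪≫ₗ
        (LinearEquiv.prodCongr (D.e (n + 1)) (D.e n)) ≪≫ₗ (coneXEquiv (f • 𝟙 K) n).symm
    refine ⟨⟨e, fun n a => ?_⟩⟩
    apply (coneXEquiv (f • 𝟙 K) (n + 1)).injective
    show coneXEquiv (f • 𝟙 K) (n + 1) ((coneXEquiv (f • 𝟙 K) (n + 1)).symm
      (LinearEquiv.prodCongr (D.e (n + 1 + 1)) (D.e (n + 1))
        (coneXEquiv ((x * f) • 𝟙 K') (n + 1) (((mappingCone ((x * f) • 𝟙 K')).d n (n + 1)).hom a)))) =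
      coneXEquiv (f • 𝟙 K) (n + 1) (x • ((mappingCone (f • 𝟙 K)).d n (n + 1)).hom
        ((coneXEquiv (f • 𝟙 K) n).symm (LinearEquiv.prodCongr (D.e (n + 1)) (D.e n)
          (coneXEquiv ((x * f) • 𝟙 K') n a))))
    rw [LinearEquiv.apply_symm_apply, _root_.map_smul, coneXEquiv_d, coneXEquiv_d,
      LinearEquiv.apply_symm_apply]
    set p := coneXEquiv ((x * f) • 𝟙 K') n a with hp
    refine Prod.ext ?_ ?_
    · show D.e (n + 1 + 1) (-((K'.d (n + 1) (n + 1 + 1)).hom p.1)) =
        x • -((K.d (n + 1) (n + 1 + 1)).hom (D.e (n + 1) p.1))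
      rw [map_neg, D.comm, smul_neg]
    · show D.e (n + 1) ((((x * f) • 𝟙 K').f (n + 1)).hom p.1 + (K'.d n (n + 1)).hom p.2) =
        x • (((f • 𝟙 K).f (n + 1)).hom (D.e (n + 1) p.1) + (K.d n (n + 1)).hom (D.e n p.2))
      rw [map_add, D.comm, smul_add]
      congr 1
      show D.e (n + 1) ((x * f) • p.1) = x • (f • D.e (n + 1) p.1)
      rw [_root_.map_smul, mul_smul]

theorem isSMulRegular_of_equiv {M N : Type*} [AddCommGroup M] [Module A M] [AddCommGroup N]
    [Module A N] (e : M ≃ₗ[A] N) (x : A) (h : IsSMulRegular N x) : IsSMulRegular M x := by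
  intro a b hab
  apply e.injective
  apply h
  show x • e a = x • e b
  rw [← _root_.map_smul, ← _root_.map_smul]
  exact congrArg e hab

theorem isSMulRegular_X (x : A) (hx : x ∈ nonZeroDivisors A) :
    ∀ (l : List A) (n : ℤ), IsSMulRegular ((Koszul.koszul A l).X n) x := by
  intro l
  induction l with
  | nil =>
    intro n
    by_cases hn : n = 0
    · subst hn
      let e : ((HomologicalComplex.single (ModuleCat.{u} A) (ComplexShape.up ℤ) 0).obj
          (ModuleCat.of A A)).X 0 ≃ₗ[A] A :=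
        (HomologicalComplex.singleObjXSelf (ComplexShape.up ℤ) 0 (ModuleCat.of A A)).toLinearEquiv
      refine isSMulRegular_of_equiv e x ?_
      intro a b hab
      exact (mul_cancel_left_mem_nonZeroDivisors hx).mp hab
    · have hz : IsZero (((HomologicalComplex.single (ModuleCat.{u} A) (ComplexShape.up ℤ) 0).obj
          (ModuleCat.of A A)).X n) := HomologicalComplex.isZero_single_obj_X _ _ _ _ hn
      have : Subsingleton (((HomologicalComplex.single (ModuleCat.{u} A) (ComplexShape.up ℤ) 0).obj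
          (ModuleCat.of A A)).X n) := ModuleCat.subsingleton_of_isZero hz
      intro a b _
      exact Subsingleton.elim (α := ((HomologicalComplex.single (ModuleCat.{u} A)
        (ComplexShape.up ℤ) 0).obj (ModuleCat.of A A)).X n) a b
  | cons f l ih =>
    intro n
    refine isSMulRegular_of_equiv (coneXEquiv (f • 𝟙 (Koszul.koszul A l)) n) x ?_
    intro a b hab
    exact Prod.ext (ih (n + 1) (congrArg Prod.fst hab)) (ih n (congrArg Prod.snd hab))


theorem range_toCycles (S : ShortComplex (ModuleCat.{u} A)) :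
    LinearMap.range S.moduleCatToCycles =
      Submodule.comap (LinearMap.ker S.g.hom).subtype (LinearMap.range S.f.hom) := by
  ext ⟨y, hy⟩
  simp only [LinearMap.mem_range, Submodule.mem_comap, Submodule.subtype_apply]
  constructor
  · rintro ⟨a, ha⟩
    exact ⟨a, congrArg Subtype.val ha⟩
  · rintro ⟨a, ha⟩
    exact ⟨a, Subtype.ext ha⟩

theorem homology_iso_kerQuot (K : CochainComplex (ModuleCat.{u} A) ℤ) (q : ℤ) :
    Nonempty (K.homology q ≅ ModuleCat.of A (↥(LinearMap.ker (K.d q (q + 1)).hom) ⧸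
      Submodule.comap (LinearMap.ker (K.d q (q + 1)).hom).subtype
        (LinearMap.range (K.d (q - 1) q).hom))) := by
  have e1 : K.homology q ≅ (K.sc' (q - 1) q (q + 1)).homology :=
    ShortComplex.homologyMapIso (K.isoSc' (q - 1) q (q + 1) (by simp) (by simp))
  have e2 := (K.sc' (q - 1) q (q + 1)).moduleCatHomologyIso
  have e3 : (↥(LinearMap.ker (K.sc' (q - 1) q (q + 1)).g.hom) ⧸
      LinearMap.range (K.sc' (q - 1) q (q + 1)).moduleCatToCycles) ≃ₗ[A]
      (↥(LinearMap.ker (K.d q (q + 1)).hom) ⧸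
      Submodule.comap (LinearMap.ker (K.d q (q + 1)).hom).subtype
        (LinearMap.range (K.d (q - 1) q).hom)) :=
    Submodule.quotEquivOfEq _ _ (range_toCycles _)
  exact ⟨e1 ≪≫ e2 ≪≫ e3.toModuleIso⟩

section LinAlg

variable {X₁ X₂ X₃ Y₁ Y₂ Y₃ : Type u} [AddCommGroup X₁] [Module A X₁] [AddCommGroup X₂]
  [Module A X₂] [AddCommGroup X₃] [Module A X₃] [AddCommGroup Y₁] [Module A Y₁] [AddCommGroup Y₂]
  [Module A Y₂] [AddCommGroup Y₃] [Module A Y₃]

/-- the main linear algebra statement -/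
theorem nonempty_quot_equiv (x : A) (d₁' : X₁ →ₗ[A] X₂) (d₂' : X₂ →ₗ[A] X₃) (d₁ : Y₁ →ₗ[A] Y₂)
    (d₂ : Y₂ →ₗ[A] Y₃) (e₁ : X₁ ≃ₗ[A] Y₁) (e₂ : X₂ ≃ₗ[A] Y₂) (e₃ : X₃ ≃ₗ[A] Y₃)
    (h₁ : ∀ a, e₂ (d₁' a) = x • d₁ (e₁ a)) (h₂ : ∀ a, e₃ (d₂' a) = x • d₂ (e₂ a))
    (hreg : IsSMulRegular Y₃ x) :
    Nonempty ((↥(LinearMap.ker d₂') ⧸ Submodule.comap (LinearMap.ker d₂').subtype
      (LinearMap.range d₁')) ≃ₗ[A]
      (↥(LinearMap.ker d₂) ⧸ Submodule.comap (LinearMap.ker d₂).subtype
        (Ideal.span {x} • LinearMap.range d₁))) := by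
  have hker : (LinearMap.ker d₂').map e₂.toLinearMap = LinearMap.ker d₂ := by
    ext y
    simp only [Submodule.mem_map, LinearMap.mem_ker]
    constructor
    · rintro ⟨a, ha, rfl⟩
      have := h₂ a
      rw [ha, map_zero] at this
      apply hreg
      show x • d₂ (e₂ a) = x • 0
      rw [smul_zero, ← this]
    · intro hy
      refine ⟨e₂.symm y, ?_, e₂.apply_symm_apply y⟩
      apply e₃.injective
      rw [h₂, e₂.apply_symm_apply, hy, smul_zero, map_zero]
  let E : ↥(LinearMap.ker d₂') ≃ₗ[A] ↥(LinearMap.ker d₂) := e₂.ofSubmodules _ _ hker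
  refine ⟨Submodule.Quotient.equiv _ _ E ?_⟩
  ext ⟨y, hy⟩
  simp only [Submodule.mem_map, Submodule.mem_comap, Submodule.subtype_apply,
    Submodule.ideal_span_singleton_smul, LinearMap.mem_range]
  constructor
  · rintro ⟨⟨a, ha⟩, ⟨b, hb⟩, hE⟩
    have hay : e₂ a = y := congrArg Subtype.val hE
    rw [Submodule.mem_smul_pointwise_iff_exists]
    refine ⟨d₁ (e₁ b), ⟨_, rfl⟩, ?_⟩
    rw [← h₁, hb, hay]
  · intro hy'
    rw [Submodule.mem_smul_pointwise_iff_exists] at hy'
    obtain ⟨_, ⟨c, rfl⟩, hc⟩ := hy'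
    have hmem : d₁' (e₁.symm c) ∈ LinearMap.ker d₂' := by
      rw [LinearMap.mem_ker]
      apply e₃.injective
      rw [h₂, h₁, e₁.apply_symm_apply, hc, hy, smul_zero, map_zero]
    refine ⟨⟨d₁' (e₁.symm c), hmem⟩, ⟨e₁.symm c, rfl⟩, ?_⟩
    apply Subtype.ext
    show e₂ (d₁' (e₁.symm c)) = y
    rw [h₁, e₁.apply_symm_apply, hc]

end LinAlg

theorem main (l : List A) (x : A) (hx : x ∈ nonZeroDivisors A) (q : ℤ) :
    Nonempty ((Koszul.koszul A (l.map (fun f => x * f))).homology q ≅
      ModuleCat.of A (↥(LinearMap.ker ((Koszul.koszul A l).d q (q + 1)).hom) ⧸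
        Submodule.comap (LinearMap.ker ((Koszul.koszul A l).d q (q + 1)).hom).subtype
          (Ideal.span {x} • LinearMap.range ((Koszul.koszul A l).d (q - 1) q).hom))) := by
  obtain ⟨D⟩ := exists_xdata x l
  obtain ⟨e1⟩ := homology_iso_kerQuot (Koszul.koszul A (l.map (fun f => x * f))) q
  have h₁ : ∀ a, D.e q (((Koszul.koszul A (l.map (fun f => x * f))).d (q - 1) q).hom a) =
      x • ((Koszul.koszul A l).d (q - 1) q).hom (D.e (q - 1) a) := by
    obtain ⟨p, rfl⟩ : ∃ p, q = p + 1 := ⟨q - 1, by ring⟩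
    have hp : p + 1 - 1 = p := by ring
    rw [hp]
    exact D.comm p
  obtain ⟨e2⟩ := nonempty_quot_equiv x
    ((Koszul.koszul A (l.map (fun f => x * f))).d (q - 1) q).hom
    ((Koszul.koszul A (l.map (fun f => x * f))).d q (q + 1)).hom
    ((Koszul.koszul A l).d (q - 1) q).hom ((Koszul.koszul A l).d q (q + 1)).hom
    (D.e (q - 1)) (D.e q) (D.e (q + 1)) h₁ (D.comm q) (isSMulRegular_X x hx l (q + 1))
  exact ⟨e1 ≪≫ e2.toModuleIso⟩

/-- Let A be a commutative ring, f = (f_1, …, f_n) a finite sequence in A with Koszul complex K(f)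
(cohomological, in degrees -n, …, 0) and differentials ∂^q : K(f)^q → K(f)^{q+1}, and let x be a
non-zero-divisor of A. Then for every integer q the q-th cohomology module of the Koszul complex of
the sequence (x f_1, …, x f_n) is isomorphic as an A-module to Ker(∂^q) / (x · Im(∂^{q-1})), the
q-cocycles of K(f) modulo x times the q-coboundaries (existence of an A-linear isomorphism; the
Koszul complex is the iterated mapping-cone model). -/
theorem result (A : Type u) [CommRing A] (l : List A) (x : A)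
    (hx : x ∈ nonZeroDivisors A) (q : ℤ) :
    Nonempty ((Koszul.koszul A (l.map (fun f => x * f))).homology q ≅
      ModuleCat.of A (↥(LinearMap.ker ((Koszul.koszul A l).d q (q + 1)).hom) ⧸
        Submodule.comap (LinearMap.ker ((Koszul.koszul A l).d q (q + 1)).hom).subtype
          (Ideal.span {x} • LinearMap.range ((Koszul.koszul A l).d (q - 1) q).hom))) := by
  exact main l x hx q

end Groth.Agent.S15815
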