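import Groth.Statements.S15822
import Mathlib
import Groth.Agent.S15815
import Groth.Agent.Lib.Helper12.KoszEuler8

set_option autoImplicit false
universe u
open CategoryTheory
open Koszul

namespace Groth.Agent.S15822

set_option linter.style.haveILetI false
set_option linter.unusedVariables false
set_option linter.unusedSectionVars false
open CategoryTheory.Limits CochainComplex HomologicalComplex CategoryTheory.Pretriangulated Groth.Agent.Helper12.KoszEuler Groth.Agent.S15815

variable {A : Type u} [CommRing A]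


theorem homology_cone_of_homotopy {K L : CochainComplex (ModuleCat.{u} A) ℤ} (φ : K ⟶ L)
    (h : Homotopy φ 0) (m : ℤ) :
    Nonempty ((mappingCone φ).homology m ≅
      ModuleCat.of A (L.homology m × K.homology (m + 1))) := by
  let Q := HomotopyCategory.quotient (ModuleCat.{u} A) (ComplexShape.up ℤ)
  have hT := HomotopyCategory.mappingCone_triangleh_distinguished φ
  have hT' := rot_of_distTriang _ hT
  have hzero : (mappingCone.triangleh φ).rotate.mor₃ = 0 := by
    have h0 : Q.map φ = 0 := by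
      rw [HomotopyCategory.eq_of_homotopy _ _ h]
      exact Q.map_zero _ _
    show -((CategoryTheory.shiftFunctor (HomotopyCategory (ModuleCat.{u} A) (ComplexShape.up ℤ)) (1 : ℤ)).map
      (Q.map φ)) = 0
    rw [h0, Functor.map_zero, neg_zero]
  obtain ⟨e, -, -⟩ := exists_iso_binaryBiproduct_of_distTriang _ hT' hzero
  let H := HomotopyCategory.homologyFunctor (ModuleCat.{u} A) (ComplexShape.up ℤ) m
  haveI : H.Additive := inferInstanceAs
    (HomotopyCategory.homologyFunctor (ModuleCat.{u} A) (ComplexShape.up ℤ) m).Additive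
  haveI : PreservesBinaryBiproducts H := preservesBinaryBiproducts_of_preservesBiproducts H
  have e1 : (mappingCone φ).homology m ≅ H.obj (Q.obj (mappingCone φ)) :=
    ((HomotopyCategory.homologyFunctorFactors (ModuleCat.{u} A) (ComplexShape.up ℤ) m).app
      (mappingCone φ)).symm
  have e2 : H.obj (Q.obj (mappingCone φ)) ≅ H.obj (Q.obj L ⊞ (Q.obj K)⟦(1 : ℤ)⟧) := H.mapIso e
  have e3 : H.obj (Q.obj L ⊞ (Q.obj K)⟦(1 : ℤ)⟧) ≅ H.obj (Q.obj L) ⊞ H.obj ((Q.obj K)⟦(1 : ℤ)⟧) :=
    H.mapBiprod _ _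
  have e4 : H.obj (Q.obj L) ≅ L.homology m :=
    (HomotopyCategory.homologyFunctorFactors (ModuleCat.{u} A) (ComplexShape.up ℤ) m).app L
  have e5 : H.obj ((Q.obj K)⟦(1 : ℤ)⟧) ≅ K.homology (m + 1) :=
    ((HomotopyCategory.homologyFunctor (ModuleCat.{u} A) (ComplexShape.up ℤ) 0).shiftIso 1 m (m + 1)
      (by ring)).app (Q.obj K) ≪≫
    (HomotopyCategory.homologyFunctorFactors (ModuleCat.{u} A) (ComplexShape.up ℤ) (m + 1)).app K
  have e6 : H.obj (Q.obj L) ⊞ H.obj ((Q.obj K)⟦(1 : ℤ)⟧) ≅ L.homology m ⊞ K.homology (m + 1) :=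
    biprod.mapIso e4 e5
  have e7 := ModuleCat.biprodIsoProd (L.homology m) (K.homology (m + 1))
  exact ⟨e1 ≪≫ e2 ≪≫ e3 ≪≫ e6 ≪≫ e7⟩



section Swap
variable (K : CochainComplex (ModuleCat.{u} A) ℤ) (x y : A)

/-- the double cone `cone(x on cone(y on K))` -/
noncomputable abbrev C2 : CochainComplex (ModuleCat.{u} A) ℤ :=
  mappingCone (x • 𝟙 (mappingCone (y • 𝟙 K)))

noncomputable def Phi (n : ℤ) : (C2 K x y).X n ≃ₗ[A]
    (K.X (n + 1 + 1) × K.X (n + 1)) × (K.X (n + 1) × K.X n) :=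
  (coneXEquiv (x • 𝟙 (mappingCone (y • 𝟙 K))) n) ≪≫ₗ
    LinearEquiv.prodCongr (coneXEquiv (y • 𝟙 K) (n + 1)) (coneXEquiv (y • 𝟙 K) n)

theorem Phi_d (n : ℤ) (z : (C2 K x y).X n) :
    Phi K x y (n + 1) (((C2 K x y).d n (n + 1)).hom z) =
      (((K.d (n + 1 + 1) (n + 1 + 1 + 1)).hom (Phi K x y n z).1.1,
        -(y • (Phi K x y n z).1.1 + (K.d (n + 1) (n + 1 + 1)).hom (Phi K x y n z).1.2)),
       (x • (Phi K x y n z).1.1 - (K.d (n + 1) (n + 1 + 1)).hom (Phi K x y n z).2.1,
        x • (Phi K x y n z).1.2 + (y • (Phi K x y n z).2.1 +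
          (K.d n (n + 1)).hom (Phi K x y n z).2.2))) := by
  unfold Phi
  simp only [LinearEquiv.trans_apply, LinearEquiv.prodCongr_apply]
  rw [coneXEquiv_d]
  set p := coneXEquiv (x • 𝟙 (mappingCone (y • 𝟙 K))) n z with hp
  refine Prod.ext ?_ ?_
  · show coneXEquiv (y • 𝟙 K) (n + 1 + 1)
      (-(((mappingCone (y • 𝟙 K)).d (n + 1) (n + 1 + 1)).hom p.1)) = _
    rw [map_neg, coneXEquiv_d]
    refine Prod.ext ?_ ?_
    · show - -((K.d (n + 1 + 1) (n + 1 + 1 + 1)).hom (coneXEquiv (y • 𝟙 K) (n + 1) p.1).1) = _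
      rw [neg_neg]
    · rfl
  · show coneXEquiv (y • 𝟙 K) (n + 1)
      (((x • 𝟙 (mappingCone (y • 𝟙 K))).f (n + 1)).hom p.1 +
        ((mappingCone (y • 𝟙 K)).d n (n + 1)).hom p.2) = _
    rw [map_add, coneXEquiv_d]
    have h1 : ((x • 𝟙 (mappingCone (y • 𝟙 K))).f (n + 1)).hom p.1 = x • p.1 := rfl
    rw [h1, _root_.map_smul]
    refine Prod.ext ?_ ?_
    · show x • (coneXEquiv (y • 𝟙 K) (n + 1) p.1).1 +
        -((K.d (n + 1) (n + 1 + 1)).hom (coneXEquiv (y • 𝟙 K) n p.2).1) = _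
      rw [← sub_eq_add_neg]
    · rfl

/-- the sign swap on components -/
noncomputable def sigma (n : ℤ) :
    ((K.X (n + 1 + 1) × K.X (n + 1)) × (K.X (n + 1) × K.X n)) ≃ₗ[A]
      ((K.X (n + 1 + 1) × K.X (n + 1)) × (K.X (n + 1) × K.X n)) :=
  LinearEquiv.ofLinearMap
    (LinearMap.prod
      (LinearMap.prod (-(LinearMap.fst A _ _ ∘ₗ LinearMap.fst A _ _))
        (LinearMap.fst A _ _ ∘ₗ LinearMap.snd A _ _))
      (LinearMap.prod (LinearMap.snd A _ _ ∘ₗ LinearMap.fst A _ _)
        (LinearMap.snd A _ _ ∘ₗ LinearMap.snd A _ _)))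
    (LinearMap.prod
      (LinearMap.prod (-(LinearMap.fst A _ _ ∘ₗ LinearMap.fst A _ _))
        (LinearMap.fst A _ _ ∘ₗ LinearMap.snd A _ _))
      (LinearMap.prod (LinearMap.snd A _ _ ∘ₗ LinearMap.fst A _ _)
        (LinearMap.snd A _ _ ∘ₗ LinearMap.snd A _ _)))
    (by ext p <;> simp) (by ext p <;> simp)

theorem sigma_apply (n : ℤ) (p : (K.X (n + 1 + 1) × K.X (n + 1)) × (K.X (n + 1) × K.X n)) :
    sigma K n p = ((-p.1.1, p.2.1), (p.1.2, p.2.2)) := rfl

noncomputable def swapX (n : ℤ) : (C2 K x y).X n ≃ₗ[A] (C2 K y x).X n :=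
  Phi K x y n ≪≫ₗ sigma K n ≪≫ₗ (Phi K y x n).symm

theorem swapX_d (n : ℤ) (z : (C2 K x y).X n) :
    swapX K x y (n + 1) (((C2 K x y).d n (n + 1)).hom z) =
      ((C2 K y x).d n (n + 1)).hom (swapX K x y n z) := by
  apply (Phi K y x (n + 1)).injective
  rw [Phi_d]
  unfold swapX
  simp only [LinearEquiv.trans_apply, LinearEquiv.apply_symm_apply, Phi_d, sigma_apply]
  refine Prod.ext (Prod.ext ?_ ?_) (Prod.ext ?_ ?_)
  · simp
  · simp only [smul_neg]
    abel
  · simp only [smul_neg]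
    abel
  · simp only
    abel

noncomputable def swapIso : C2 K x y ≅ C2 K y x :=
  HomologicalComplex.Hom.isoOfComponents (fun n => (swapX K x y n).toModuleIso) (by
    intro i j hij
    have hij' : i + 1 = j := hij
    subst hij'
    ext z
    exact (swapX_d K x y i z).symm)

end Swap



section Comb

variable (G G' : ℤ → Type u) [∀ k, AddCommGroup (G k)] [∀ k, Module A (G k)]
  [∀ k, AddCommGroup (G' k)] [∀ k, Module A (G' k)]

/-- multiplicity function -/
def cmul (r : ℕ) (m k : ℤ) : ℕ := if 0 ≤ k - m then Nat.choose r (k - m).toNat else 0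

theorem cmul_succ (r : ℕ) (m k : ℤ) : cmul (r + 1) m k = cmul r m k + cmul r (m + 1) k := by
  unfold cmul
  by_cases h : 0 ≤ k - m
  · rw [if_pos h, if_pos h]
    obtain ⟨t, ht⟩ := Int.eq_ofNat_of_zero_le h
    rw [ht, Int.toNat_natCast]
    cases t with
    | zero =>
      have : ¬ (0 ≤ k - (m + 1)) := by omega
      rw [if_neg this]
      simp
    | succ s =>
      have h1 : 0 ≤ k - (m + 1) := by omega
      have h2 : (k - (m + 1)).toNat = s := by omega
      rw [if_pos h1, h2, Nat.choose_succ_succ, add_comm]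
  · have : ¬ (0 ≤ k - (m + 1)) := by omega
    rw [if_neg h, if_neg h, if_neg this]

theorem cmul_add (r : ℕ) (m : ℤ) (j : ℕ) : cmul r m (m + j) = Nat.choose r j := by
  unfold cmul
  have h : 0 ≤ m + (j : ℤ) - m := by omega
  rw [if_pos h]
  congr 1
  omega

theorem cmul_zero_self (m : ℤ) : cmul 0 m m = 1 := by
  have := cmul_add 0 m 0
  simpa using this

theorem cmul_zero_ne (m k : ℤ) (h : k ≠ m) : cmul 0 m k = 0 := by
  unfold cmul
  split_ifs with h1
  · obtain ⟨t, ht⟩ := Int.eq_ofNat_of_zero_le h1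
    rw [ht, Int.toNat_natCast]
    cases t with
    | zero => omega
    | succ s => simp
  · rfl

theorem exists_of_cmul_pos (r : ℕ) (m k : ℤ) (h : 0 < cmul r m k) :
    ∃ j : Fin (r + 1), k = m + ((j : ℕ) : ℤ) := by
  unfold cmul at h
  split_ifs at h with h1
  · obtain ⟨t, ht⟩ := Int.eq_ofNat_of_zero_le h1
    rw [ht, Int.toNat_natCast] at h
    have : t ≤ r := by
      by_contra hc
      rw [Nat.choose_eq_zero_of_lt (by omega)] at h
      omega
    exact ⟨⟨t, by omega⟩, by simp only; omega⟩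
  · omega

/-- product of two multiplicity-products -/
noncomputable def prodPiEquiv (c₁ c₂ : ℤ → ℕ) :
    ((∀ k, Fin (c₁ k) → G k) × (∀ k, Fin (c₂ k) → G k)) ≃ₗ[A] (∀ k, Fin (c₁ k + c₂ k) → G k) where
  toFun F := fun k => Fin.append (F.1 k) (F.2 k)
  invFun F := (fun k i => F k (Fin.castAdd _ i), fun k i => F k (Fin.natAdd _ i))
  map_add' F F' := by
    funext k i
    refine Fin.addCases (fun i => ?_) (fun i => ?_) i
    · simp [Fin.append_left]
    · simp [Fin.append_right]
  map_smul' a F := by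
    funext k i
    refine Fin.addCases (fun i => ?_) (fun i => ?_) i
    · simp [Fin.append_left]
    · simp [Fin.append_right]
  left_inv F := by
    refine Prod.ext ?_ ?_
    · funext k i; simp [Fin.append_left]
    · funext k i; simp [Fin.append_right]
  right_inv F := by
    funext k i
    refine Fin.addCases (fun i => ?_) (fun i => ?_) i
    · simp [Fin.append_left]
    · simp [Fin.append_right]

theorem nonempty_prodPi (c₁ c₂ c₃ : ℤ → ℕ) (h : ∀ k, c₃ k = c₁ k + c₂ k) :
    Nonempty (((∀ k, Fin (c₁ k) → G k) × (∀ k, Fin (c₂ k) → G k)) ≃ₗ[A]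
      (∀ k, Fin (c₃ k) → G k)) := by
  obtain rfl : c₃ = fun k => c₁ k + c₂ k := funext h
  exact ⟨prodPiEquiv G c₁ c₂⟩

/-- base case -/
theorem nonempty_base (m : ℤ) : Nonempty (G m ≃ₗ[A] (∀ k, Fin (cmul 0 m k) → G k)) := by
  have h1 : 0 < cmul 0 m m := by rw [cmul_zero_self]; exact Nat.one_pos
  let p : (∀ k, Fin (cmul 0 m k) → G k) →ₗ[A] G m :=
    { toFun := fun F => F m ⟨0, h1⟩
      map_add' := fun _ _ => rfl
      map_smul' := fun _ _ => rfl }
  have hinj : Function.Injective p := by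
    intro F F' hF
    funext k i
    by_cases hk : k = m
    · subst hk
      have hi : i = ⟨0, h1⟩ := by
        apply Fin.ext
        have h2 : (i : ℕ) < cmul 0 k k := i.2
        have h3 := cmul_zero_self k
        simp only
        omega
      rw [hi]
      exact hF
    · have h2 : (i : ℕ) < cmul 0 m k := i.2
      have h3 := cmul_zero_ne m k hk
      omega
  have hsurj : Function.Surjective p := by
    intro g
    refine ⟨fun k i => if hk : k = m then hk ▸ g else 0, ?_⟩
    show (if hk : m = m then hk ▸ g else 0) = g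
    rw [dif_pos rfl]
  exact ⟨(LinearEquiv.ofBijective p ⟨hinj, hsurj⟩).symm⟩

/-- final conversion -/
theorem nonempty_final (eG : ∀ k, G k ≃ₗ[A] G' k) (r : ℕ) (m : ℤ) :
    Nonempty ((∀ k, Fin (cmul r m k) → G k) ≃ₗ[A]
      ((j : Fin (r + 1)) → Fin (r.choose j) → G' (m + j))) := by
  let Ψ : (∀ k, Fin (cmul r m k) → G k) →ₗ[A]
      ((j : Fin (r + 1)) → Fin (r.choose j) → G' (m + j)) :=
    { toFun := fun F j i => eG (m + j) (F (m + j) (Fin.cast (cmul_add r m j).symm i))
      map_add' := fun F F' => by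
        funext j i
        simp
      map_smul' := fun a F => by
        funext j i
        simp }
  have hinj : Function.Injective Ψ := by
    intro F F' hF
    funext k i
    have hpos : 0 < cmul r m k := lt_of_le_of_lt (Nat.zero_le _) i.2
    obtain ⟨j, rfl⟩ := exists_of_cmul_pos r m k hpos
    have h1 := congrFun (congrFun hF j) (Fin.cast (cmul_add r m j) i)
    have h2 : eG (m + j) (F (m + j) (Fin.cast (cmul_add r m j).symm (Fin.cast (cmul_add r m j) i))) =
      eG (m + j) (F' (m + j) (Fin.cast (cmul_add r m j).symm (Fin.cast (cmul_add r m j) i))) := h1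
    have h3 : Fin.cast (cmul_add r m j).symm (Fin.cast (cmul_add r m j) i) = i := by
      apply Fin.ext; rfl
    rw [h3] at h2
    exact (eG (m + j)).injective h2
  have hsurj : Function.Surjective Ψ := by
    intro F'
    classical
    let F : ∀ k, Fin (cmul r m k) → G k := fun k i =>
      if h : ∃ j : Fin (r + 1), k = m + ((j : ℕ) : ℤ) then
        (eG k).symm (h.choose_spec ▸ F' h.choose (Fin.cast
          ((congrArg (cmul r m) h.choose_spec).trans (cmul_add r m _)) i))
      else 0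
    refine ⟨F, ?_⟩
    funext j i
    show eG (m + j) (F (m + j) (Fin.cast (cmul_add r m j).symm i)) = F' j i
    have hex : ∃ j' : Fin (r + 1), m + ((j : ℕ) : ℤ) = m + ((j' : ℕ) : ℤ) := ⟨j, rfl⟩
    have key : ∀ (j' : Fin (r + 1)) (hj' : m + ((j : ℕ) : ℤ) = m + ((j' : ℕ) : ℤ))
        (i' : Fin (r.choose j')) (hi' : (i' : ℕ) = (i : ℕ)),
        (hj' ▸ F' j' i' : G' (m + j)) = F' j i := by
      intro j' hj' i' hi'
      obtain rfl : j' = j := by
        apply Fin.ext; omega
      obtain rfl : i' = i := Fin.ext hi'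
      rfl
    show eG (m + j) (if h : ∃ j' : Fin (r + 1), m + ((j : ℕ) : ℤ) = m + ((j' : ℕ) : ℤ) then
        (eG (m + j)).symm (h.choose_spec ▸ F' h.choose (Fin.cast _ (Fin.cast _ i)))
      else 0) = F' j i
    rw [dif_pos hex, LinearEquiv.apply_symm_apply]
    exact key hex.choose hex.choose_spec _ rfl
  exact ⟨LinearEquiv.ofBijective Ψ ⟨hinj, hsurj⟩⟩

end Comb


section KzSec

/-- iterated cones on an arbitrary base complex -/
noncomputable def Kz (C : CochainComplex (ModuleCat.{u} A) ℤ) :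
    List A → CochainComplex (ModuleCat.{u} A) ℤ
  | [] => C
  | f :: l => mappingCone (f • 𝟙 (Kz C l))

theorem koszulCx_eq_Kz (M : ModuleCat.{u} A) (l : List A) :
    CohIII.koszulCx M l =
      Kz ((HomologicalComplex.single (ModuleCat.{u} A) (ComplexShape.up ℤ) 0).obj M) l := by
  induction l with
  | nil => rfl
  | cons f l ih =>
    change mappingCone (f • 𝟙 (CohIII.koszulCx M l)) = mappingCone (f • 𝟙 (Kz _ l))
    rw [ih]

theorem Kz_append (C : CochainComplex (ModuleCat.{u} A) ℤ) (l₁ l₂ : List A) :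
    Kz C (l₁ ++ l₂) = Kz (Kz C l₂) l₁ := by
  induction l₁ with
  | nil => rfl
  | cons f l ih =>
    change mappingCone (f • 𝟙 (Kz C (l ++ l₂))) = mappingCone (f • 𝟙 (Kz (Kz C l₂) l))
    rw [ih]

theorem Kz_cone_iso (C : CochainComplex (ModuleCat.{u} A) ℤ) (y : A) : ∀ xs : List A,
    Nonempty (Kz (mappingCone (y • 𝟙 C)) xs ≅ mappingCone (y • 𝟙 (Kz C xs)))
  | [] => ⟨Iso.refl _⟩
  | x :: xs => by
    obtain ⟨e⟩ := Kz_cone_iso C y xs
    have e1 : mappingCone (x • 𝟙 (Kz (mappingCone (y • 𝟙 C)) xs)) ≅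
        mappingCone (x • 𝟙 (mappingCone (y • 𝟙 (Kz C xs)))) :=
      coneIso _ _ e (by rw [Linear.smul_comp, Linear.comp_smul, Category.id_comp, Category.comp_id])
    exact ⟨e1 ≪≫ swapIso (Kz C xs) x y⟩

theorem Kz_homotopy (C : CochainComplex (ModuleCat.{u} A) ℤ) : ∀ (xs : List A) (a : A),
    a ∈ Ideal.span {x | x ∈ xs} → Nonempty (Homotopy (a • 𝟙 (Kz C xs)) 0) := by
  intro xs
  induction xs with
  | nil =>
    intro a ha
    have h0 : a = 0 := by simpa using ha
    subst h0
    exact ⟨Homotopy.ofEq (zero_smul A _)⟩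
  | cons f fs ih =>
    intro a ha
    show Nonempty (Homotopy (a • 𝟙 (mappingCone (f • 𝟙 (Kz C fs)))) 0)
    induction ha using Submodule.span_induction with
    | mem x hx =>
      rcases List.mem_cons.mp hx with rfl | hx'
      · exact Groth.Agent.Helper21.KH.coneSelf _ _
      · exact Groth.Agent.Helper21.KH.coneOf _ _ _ (ih x (Ideal.subset_span hx'))
    | zero => exact ⟨Homotopy.ofEq (zero_smul A _)⟩
    | add x y _ _ hx hy => exact Groth.Agent.Helper21.KH.nonempty_homotopy_add _ x y hx hy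
    | smul r x _ hx => exact Groth.Agent.Helper21.KH.nonempty_homotopy_smul _ r x hx

theorem main_Kz (C : CochainComplex (ModuleCat.{u} A) ℤ) (xs : List A) : ∀ (ys : List A),
    (∀ y ∈ ys, y ∈ Ideal.span {a | a ∈ xs}) → ∀ m : ℤ,
    Nonempty ((Kz C (xs ++ ys)).homology m ≅
      ModuleCat.of A (∀ k : ℤ, Fin (cmul ys.length m k) → (Kz C xs).homology k)) := by
  intro ys
  induction ys with
  | nil =>
    intro _ m
    have e0 : Kz C (xs ++ []) ≅ Kz C xs := eqToIso (by rw [List.append_nil])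
    have e1 := (HomologicalComplex.homologyFunctor (ModuleCat.{u} A) (ComplexShape.up ℤ) m).mapIso e0
    obtain ⟨e2⟩ := nonempty_base (A := A) (fun k => (Kz C xs).homology k) m
    exact ⟨e1 ≪≫ e2.toModuleIso⟩
  | cons y ys ih =>
    intro hy m
    have hy' : ∀ y ∈ ys, y ∈ Ideal.span {a | a ∈ xs} := fun z hz => hy z (List.mem_cons_of_mem _ hz)
    have e0 : Kz C (xs ++ y :: ys) ≅ Kz (mappingCone (y • 𝟙 (Kz C ys))) xs :=
      eqToIso (Kz_append C xs (y :: ys))
    obtain ⟨e1⟩ := Kz_cone_iso (Kz C ys) y xs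
    have e2 : mappingCone (y • 𝟙 (Kz (Kz C ys) xs)) ≅ mappingCone (y • 𝟙 (Kz C (xs ++ ys))) :=
      eqToIso (by rw [Kz_append])
    have hmem : y ∈ Ideal.span {a | a ∈ xs ++ ys} := by
      refine Ideal.span_mono ?_ (hy y List.mem_cons_self)
      intro a ha
      exact List.mem_append_left _ ha
    obtain ⟨hh⟩ := Kz_homotopy C (xs ++ ys) y hmem
    obtain ⟨e3⟩ := homology_cone_of_homotopy (y • 𝟙 (Kz C (xs ++ ys))) hh m
    have e4 := (HomologicalComplex.homologyFunctor (ModuleCat.{u} A) (ComplexShape.up ℤ) m).mapIso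
      (e0 ≪≫ e1 ≪≫ e2)
    obtain ⟨i1⟩ := ih hy' m
    obtain ⟨i2⟩ := ih hy' (m + 1)
    obtain ⟨e5⟩ := nonempty_prodPi (A := A) (fun k => (Kz C xs).homology k)
      (cmul ys.length m) (cmul ys.length (m + 1)) (cmul (y :: ys).length m)
      (fun k => by rw [List.length_cons, cmul_succ])
    have e6 : ((Kz C (xs ++ ys)).homology m × (Kz C (xs ++ ys)).homology (m + 1)) ≃ₗ[A]
        ((∀ k : ℤ, Fin (cmul ys.length m k) → (Kz C xs).homology k) ×
          (∀ k : ℤ, Fin (cmul ys.length (m + 1) k) → (Kz C xs).homology k)) :=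
      LinearEquiv.prodCongr i1.toLinearEquiv i2.toLinearEquiv
    exact ⟨e4 ≪≫ e3 ≪≫ (e6 ≪≫ₗ e5).toModuleIso⟩

theorem main (M : ModuleCat.{u} A) (xs ys : List A)
    (hy : ∀ y ∈ ys, y ∈ Ideal.span {a | a ∈ xs}) (m : ℤ) :
    Nonempty ((DRing.tensorCx (Koszul.koszul A (xs ++ ys)) M).homology m ≅
      ModuleCat.of A ((j : Fin (ys.length + 1)) → Fin (ys.length.choose j) →
        (DRing.tensorCx (Koszul.koszul A xs) M).homology (m + j))) := by
  let C := (HomologicalComplex.single (ModuleCat.{u} A) (ComplexShape.up ℤ) 0).obj M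
  obtain ⟨t1⟩ := nonempty_tensorCx_iso M (xs ++ ys)
  obtain ⟨t2⟩ := nonempty_tensorCx_iso M xs
  have t1' : DRing.tensorCx (Koszul.koszul A (xs ++ ys)) M ≅ Kz C (xs ++ ys) :=
    t1 ≪≫ eqToIso (koszulCx_eq_Kz M _)
  have t2' : DRing.tensorCx (Koszul.koszul A xs) M ≅ Kz C xs :=
    t2 ≪≫ eqToIso (koszulCx_eq_Kz M _)
  have e1 := (HomologicalComplex.homologyFunctor (ModuleCat.{u} A) (ComplexShape.up ℤ) m).mapIso t1'
  obtain ⟨e2⟩ := main_Kz C xs ys hy m
  obtain ⟨e3⟩ := nonempty_final (A := A) (fun k => (Kz C xs).homology k)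
    (fun k => (DRing.tensorCx (Koszul.koszul A xs) M).homology k)
    (fun k => ((HomologicalComplex.homologyFunctor (ModuleCat.{u} A) (ComplexShape.up ℤ) k).mapIso
      t2').symm.toLinearEquiv) ys.length m
  exact ⟨e1 ≪≫ e2 ≪≫ e3.toModuleIso⟩

end KzSec

/-- Let A be a commutative ring, M an A-module, x = (x_1, …, x_s) a sequence in A and y_1, …, y_r
elements of the ideal (x_1, …, x_s). Then for every integer m, the m-th cohomology module of the
complex K(x_1, …, x_s, y_1, …, y_r) ⊗_A M (Koszul complex of the concatenated sequence in the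
iterated mapping-cone model, tensored termwise with M) is isomorphic as an A-module to the direct
sum over j = 0, …, r of (r choose j) copies of the (m + j)-th cohomology module of K(x_1, …, x_s)
⊗_A M (existence of an A-linear isomorphism). In the published indexing: H^{-q}(K(x, y) ⊗ M) ≅
⊕_{i+j=q} H^{-i}(K(x) ⊗ M) ⊗ ∧^j A^r. -/
theorem result (A : Type u) [CommRing A] (M : ModuleCat.{u} A)
    (xs ys : List A) (hy : ∀ y ∈ ys, y ∈ Ideal.span {a | a ∈ xs}) (m : ℤ) :
    Nonempty ((DRing.tensorCx (Koszul.koszul A (xs ++ ys)) M).homology m ≅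
      ModuleCat.of A ((j : Fin (ys.length + 1)) → Fin (ys.length.choose j) →
        (DRing.tensorCx (Koszul.koszul A xs) M).homology (m + j))) := by
  exact main M xs ys hy m

end Groth.Agent.S15822
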