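import Groth.Statements.S18939
import Groth.Agent.Lib.Helper5.KosReg1

set_option autoImplicit false
universe u
open LCI

namespace Groth.Agent.S18939

/-- Let R be a commutative ring, I a proper ideal of R and f_1, …, f_r a Koszul-regular sequence of
elements of I generating I. Then I/I² is a free R/I-module of rank r, with basis the classes of f_1,
…, f_r. -/
theorem result {R : Type u} [CommRing R] {I : Ideal R} (hI : I ≠ ⊤)
    (r : ℕ) (f : Fin r → I) (hf : LCI.IsKoszulRegularSeq R (List.ofFn (fun i => (f i : R))))
    (hfI : Ideal.span (Set.range (fun i => (f i : R))) = I) :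
    ∃ b : Module.Basis (Fin r) (R ⧸ I) I.Cotangent, ∀ i, b i = I.toCotangent (f i) := by

  classical
  set g : Fin r → R := fun i => (f i : R) with hg
  have hH : CategoryTheory.Limits.IsZero ((Koszul.koszul R (List.ofFn g)).homology (-1)) :=
    hf (-1) (by lia)
  have key : ∀ c : Fin r → R, ∑ i, c i * g i ∈ I ^ 2 → ∀ i, c i ∈ I := by
    intro c hc i
    have h2 : I ^ 2 = I • Submodule.span R (Set.range g) := by
      rw [pow_two]
      change I * I = I * Ideal.span (Set.range g)
      rw [hfI]
    rw [h2] at hc
    obtain ⟨a, ha, hsum⟩ := (Submodule.mem_ideal_smul_span_iff_exists_sum I g _).mp hc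
    rw [Finsupp.sum_fintype _ _ (by intro j; simp)] at hsum
    have hrel : ∑ j, (c j - a j) * g j = 0 := by
      simp only [sub_mul, Finset.sum_sub_distrib]
      rw [sub_eq_zero]
      simpa [smul_eq_mul] using hsum.symm
    have hmem := Groth.Agent.Helper5.KR.coeff_mem_of_relation_ofFn g hH (fun j => c j - a j) hrel i
    rw [hfI] at hmem
    have : c i = (c i - a i) + a i := by ring
    rw [this]
    exact add_mem hmem (ha i)
  have htc : ∀ (c : Fin r → R), ∑ i, (Ideal.Quotient.mk I (c i)) • I.toCotangent (f i) =
      I.toCotangent ⟨∑ i, c i * g i, by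
        refine sum_mem (fun i _ => I.mul_mem_left _ (f i).2)⟩ := by
    intro c
    have : (⟨∑ i, c i * g i, by
        refine sum_mem (fun i _ => I.mul_mem_left _ (f i).2)⟩ : I) = ∑ i, c i • f i := by
      apply Subtype.ext
      simp [hg]
    rw [this, map_sum]
    refine Finset.sum_congr rfl (fun i _ => ?_)
    rw [map_smul]
    rfl
  have hli : LinearIndependent (R ⧸ I) (fun i => I.toCotangent (f i)) := by
    rw [Fintype.linearIndependent_iff]
    intro γ hγ i
    choose c hc using fun j => Ideal.Quotient.mk_surjective (γ j)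
    have h1 : ∑ j, (Ideal.Quotient.mk I (c j)) • I.toCotangent (f j) = 0 := by
      simpa [hc] using hγ
    rw [htc c, Ideal.toCotangent_eq_zero] at h1
    have := key c h1 i
    rw [← hc i]
    exact Ideal.Quotient.eq_zero_iff_mem.mpr this
  have hsp : ⊤ ≤ Submodule.span (R ⧸ I) (Set.range (fun i => I.toCotangent (f i))) := by
    intro x _
    obtain ⟨y, rfl⟩ := Ideal.toCotangent_surjective I x
    have hy : (y : R) ∈ Ideal.span (Set.range g) := by rw [hfI]; exact y.2
    obtain ⟨c, hc⟩ := (Ideal.mem_span_range_iff_exists_fun).mp hy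
    have : y = ⟨∑ i, c i * g i, by
        refine sum_mem (fun i _ => I.mul_mem_left _ (f i).2)⟩ := Subtype.ext hc.symm
    rw [this, ← htc c]
    refine sum_mem (fun i _ => Submodule.smul_mem _ _ (Submodule.subset_span ⟨i, rfl⟩))
  refine ⟨Module.Basis.mk hli hsp, fun i => ?_⟩
  simp

end Groth.Agent.S18939
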