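import Groth.Statements.S18935
import Mathlib
import Groth.Agent.S15822
import Groth.Agent.S18939
import Groth.Agent.Lib.Helper21.KL5
-- import your own Groth.Agent.* helpers here

set_option autoImplicit false
universe u
open LCI

namespace Groth.Agent.S18935

section
open CategoryTheory CategoryTheory.Limits CochainComplex HomologicalComplex
open Groth.Agent.S15822 Groth.Agent.Helper21.KL Groth.Agent.Helper21.KF

variable {A : Type u} [CommRing A]

theorem step (C : CochainComplex (ModuleCat.{u} A) ℤ) (L : List A) (x : A)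
    (hx : x ∈ Ideal.span {a | a ∈ L}) (m : ℤ) :
    Nonempty ((Kz C (x :: L)).homology m ≃ₗ[A]
      ((Kz C L).homology m × (Kz C L).homology (m + 1))) := by
  obtain ⟨hh⟩ := Kz_homotopy C L x hx
  obtain ⟨e⟩ := homology_cone_of_homotopy (x • 𝟙 (Kz C L)) hh m
  exact ⟨e.toLinearEquiv⟩

theorem stepS (C : CochainComplex (ModuleCat.{u} A) ℤ) (L : List A) (x : A)
    (hx : x ∈ Ideal.span {a | a ∈ L}) (j : ℕ) :
    Nonempty ((Kz C (x :: L)).homology (-((j + 1 : ℕ) : ℤ)) ≃ₗ[A]
      ((Kz C L).homology (-((j + 1 : ℕ) : ℤ)) × (Kz C L).homology (-(j : ℤ)))) := by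
  obtain ⟨e⟩ := step C L x hx (-((j + 1 : ℕ) : ℤ))
  have h : (-((j + 1 : ℕ) : ℤ)) + 1 = -(j : ℤ) := by push_cast; ring
  rw [h] at e
  exact ⟨e⟩

theorem finSum (Q : Type u) [AddCommGroup Q] [Module A Q] (a b c : ℕ) (h : a + b = c) :
    Nonempty (((Fin a → Q) × (Fin b → Q)) ≃ₗ[A] (Fin c → Q)) := by
  subst h
  exact ⟨(LinearEquiv.sumArrowLequivProdArrow (Fin a) (Fin b) A Q).symm ≪≫ₗ
    LinearEquiv.funCongrLeft A Q finSumFinEquiv.symm⟩

theorem subsingleton_of_prod_equiv {P N : Type u} [AddCommGroup P] [Module A P]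
    [AddCommGroup N] [Module A N] [Module.Finite A N] (e : (P × N) ≃ₗ[A] N) : Subsingleton P := by
  let f : N →ₗ[A] N := (LinearMap.snd A P N) ∘ₗ e.symm.toLinearMap
  have hf : Function.Surjective f := (LinearMap.snd_surjective (R := A) (M := P) (M₂ := N)).comp e.symm.surjective
  have hinj : Function.Injective f := OrzechProperty.injective_of_surjective_endomorphism f hf
  refine ⟨fun p p' => ?_⟩
  have key : ∀ p : P, p = 0 := by
    intro p
    have h1 : f (e (p, 0)) = f 0 := by
      show (e.symm (e (p, 0))).2 = f 0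
      rw [LinearEquiv.symm_apply_apply, map_zero]
    have h2 : e (p, 0) = 0 := hinj h1
    have h3 : (p, (0 : N)) = 0 := e.injective (h2.trans (map_zero e).symm)
    exact congrArg Prod.fst h3
  rw [key p, key p']

theorem front (C : CochainComplex (ModuleCat.{u} A) ℤ) (L : List A) (q : ℕ)
    (hpos : ∀ k : ℤ, 0 < k → Subsingleton ((Kz C L).homology k))
    (hmid : ∀ i : ℕ, 0 < i → i < q + 1 → Subsingleton ((Kz C L).homology (-(i : ℤ)))) :
    ∀ xs : List A, (∀ x ∈ xs, x ∈ Ideal.span {a | a ∈ L}) →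
      (∀ k : ℤ, 0 < k → Subsingleton ((Kz C (xs ++ L)).homology k)) ∧
      (∀ i : ℕ, i < q + 1 → Nonempty ((Kz C (xs ++ L)).homology (-(i : ℤ)) ≃ₗ[A]
          (Fin (xs.length.choose i) → (Kz C L).homology (-((0 : ℕ) : ℤ))))) ∧
      Nonempty ((Kz C (xs ++ L)).homology (-((q + 1 : ℕ) : ℤ)) ≃ₗ[A]
        ((Kz C L).homology (-((q + 1 : ℕ) : ℤ)) ×
          (Fin (xs.length.choose (q + 1)) → (Kz C L).homology (-((0 : ℕ) : ℤ)))))
  | [] => by
    intro _
    refine ⟨hpos, ?_, ?_⟩
    · intro i hi
      cases i with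
      | zero =>
        exact ⟨(LinearEquiv.funUnique (Fin 1) A ((Kz C L).homology (-((0 : ℕ) : ℤ)))).symm⟩
      | succ i =>
        haveI : Subsingleton ((Kz C ([] ++ L)).homology (-((i + 1 : ℕ) : ℤ))) :=
          hmid (i + 1) (Nat.succ_pos i) hi
        haveI : IsEmpty (Fin (([] : List A).length.choose (i + 1))) := by
          show IsEmpty (Fin (Nat.choose 0 (i + 1)))
          rw [Nat.choose_zero_succ]
          infer_instance
        exact ⟨LinearEquiv.ofSubsingleton _ _⟩
    · haveI : IsEmpty (Fin (([] : List A).length.choose (q + 1))) := by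
        show IsEmpty (Fin (Nat.choose 0 (q + 1)))
        rw [Nat.choose_zero_succ]
        infer_instance
      exact ⟨(LinearEquiv.prodUnique (R := A) (M := (Kz C L).homology (-((q + 1 : ℕ) : ℤ)))
        (M₂ := (Fin (([] : List A).length.choose (q + 1)) →
          (Kz C L).homology (-((0 : ℕ) : ℤ))))).symm⟩
  | x :: xs => by
    intro hx
    have hxs : ∀ y ∈ xs, y ∈ Ideal.span {a | a ∈ L} := fun y hy =>
      hx y (List.mem_cons_of_mem _ hy)
    obtain ⟨h1, h2, ⟨e3⟩⟩ := front C L q hpos hmid xs hxs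
    have hxT : x ∈ Ideal.span {a | a ∈ xs ++ L} := by
      refine Ideal.span_mono ?_ (hx x List.mem_cons_self)
      intro a ha
      exact List.mem_append_right _ ha
    refine ⟨?_, ?_, ?_⟩
    · intro k hk
      obtain ⟨e⟩ := step C (xs ++ L) x hxT k
      haveI := h1 k hk
      haveI := h1 (k + 1) (by omega)
      exact e.toEquiv.subsingleton
    · intro i hi
      cases i with
      | zero =>
        obtain ⟨e⟩ := step C (xs ++ L) x hxT (-((0 : ℕ) : ℤ))
        haveI : Subsingleton ((Kz C (xs ++ L)).homology (-((0 : ℕ) : ℤ) + 1)) :=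
          h1 _ (by norm_num)
        haveI : Unique ((Kz C (xs ++ L)).homology (-((0 : ℕ) : ℤ) + 1)) :=
          uniqueOfSubsingleton 0
        obtain ⟨e0⟩ := h2 0 hi
        have hc : xs.length.choose 0 = (x :: xs).length.choose 0 := by
          rw [Nat.choose_zero_right, Nat.choose_zero_right]
        exact ⟨e ≪≫ₗ LinearEquiv.prodUnique ≪≫ₗ e0 ≪≫ₗ
          LinearEquiv.funCongrLeft A _ (finCongr hc.symm)⟩
      | succ i =>
        obtain ⟨e⟩ := stepS C (xs ++ L) x hxT i
        obtain ⟨ea⟩ := h2 (i + 1) hi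
        obtain ⟨eb⟩ := h2 i (by omega)
        obtain ⟨ec⟩ := finSum (A := A) ((Kz C L).homology (-((0 : ℕ) : ℤ)))
          (xs.length.choose (i + 1)) (xs.length.choose i) ((x :: xs).length.choose (i + 1))
          (by rw [List.length_cons, Nat.choose_succ_succ, add_comm])
        exact ⟨e ≪≫ₗ LinearEquiv.prodCongr ea eb ≪≫ₗ ec⟩
    · obtain ⟨e⟩ := stepS C (xs ++ L) x hxT q
      obtain ⟨eb⟩ := h2 q (by omega)
      obtain ⟨ec⟩ := finSum (A := A) ((Kz C L).homology (-((0 : ℕ) : ℤ)))
        (xs.length.choose (q + 1)) (xs.length.choose q) ((x :: xs).length.choose (q + 1))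
        (by rw [List.length_cons, Nat.choose_succ_succ, add_comm])
      exact ⟨e ≪≫ₗ LinearEquiv.prodCongr e3 eb ≪≫ₗ LinearEquiv.prodAssoc A _ _ _ ≪≫ₗ
        LinearEquiv.prodCongr (LinearEquiv.refl A _) ec⟩

theorem piZeroEquiv (G : ℤ → Type u) [∀ k, AddCommGroup (G k)] [∀ k, Module A (G k)]
    (c : ℤ → ℕ) (hG : ∀ k : ℤ, k ≠ 0 → Subsingleton (G k)) :
    Nonempty ((∀ k, Fin (c k) → G k) ≃ₗ[A] (Fin (c 0) → G 0)) := by
  classical
  let p : (∀ k, Fin (c k) → G k) →ₗ[A] (Fin (c 0) → G 0) := LinearMap.proj 0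
  have hinj : Function.Injective p := by
    intro F F' hF
    funext k i
    by_cases hk : k = 0
    · subst hk
      exact congrFun hF i
    · haveI := hG k hk
      exact Subsingleton.elim _ _
  have hsurj : Function.Surjective p := by
    intro ψ
    refine ⟨Function.update (0 : ∀ k, Fin (c k) → G k) 0 ψ, ?_⟩
    show Function.update (0 : ∀ k, Fin (c k) → G k) 0 ψ 0 = ψ
    exact Function.update_self _ _ _
  exact ⟨LinearEquiv.ofBijective p ⟨hinj, hsurj⟩⟩

/-- `H⁰` of a Koszul complex is a finitely generated module (a quotient of `M`). -/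
theorem finite_h0 (M : Type u) [AddCommGroup M] [Module A M] [Module.Finite A M] (xs : List A) :
    Module.Finite A ((CohIII.koszulCx (ModuleCat.of A M) xs).homology 0) := by
  set K := CohIII.koszulCx (ModuleCat.of A M) xs with hK
  obtain ⟨e⟩ := Groth.Agent.S15815.homology_iso_kerQuot K 0
  have hz : IsZero (K.X (0 + 1)) := isZero_X_of_pos (ModuleCat.of A M) xs (0 + 1) (by norm_num)
  haveI : Subsingleton (K.X (0 + 1)) := ModuleCat.subsingleton_of_isZero hz
  let t : M →ₗ[A] ↥(LinearMap.ker (K.d 0 (0 + 1)).hom) :=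
    LinearMap.codRestrict _ (topEquiv (ModuleCat.of A M) xs).toLinearMap
      (fun m => Subsingleton.elim _ _)
  have ht : Function.Surjective t := by
    rintro ⟨z, hz⟩
    obtain ⟨m, rfl⟩ := (topEquiv (ModuleCat.of A M) xs).surjective z
    exact ⟨m, rfl⟩
  let s := e.symm.toLinearEquiv.toLinearMap ∘ₗ (Submodule.mkQ _) ∘ₗ t
  have hs : Function.Surjective s :=
    e.symm.toLinearEquiv.surjective.comp ((Submodule.mkQ_surjective _).comp ht)
  exact Module.Finite.of_surjective s hs

theorem transfer {K K' : CochainComplex (ModuleCat.{u} A) ℤ} (h : K = K') (i : ℤ) :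
    IsZero (K.homology i) ↔ IsZero (K'.homology i) := by
  subst h
  rfl

theorem transferFin {K K' : CochainComplex (ModuleCat.{u} A) ℤ} (h : K = K') (i : ℤ) :
    Module.Finite A (K.homology i) → Module.Finite A (K'.homology i) := by
  subst h
  exact id

theorem lemmaK (xs ys : List A) (hlen : xs.length = ys.length)
    (hxy : ∀ x ∈ xs, x ∈ Ideal.span {a | a ∈ ys}) (hyx : ∀ y ∈ ys, y ∈ Ideal.span {a | a ∈ xs})
    (hx : ∀ i : ℤ, i ≠ 0 → AcycAt xs A i) : ∀ i : ℤ, i ≠ 0 → AcycAt ys A i := by
  set C := (HomologicalComplex.single (ModuleCat.{u} A) (ComplexShape.up ℤ) 0).obj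
    (ModuleCat.of A A) with hC
  have hKz : ∀ l : List A, CohIII.koszulCx (ModuleCat.of A A) l = Kz C l :=
    fun l => koszulCx_eq_Kz _ l
  have hx' : ∀ i : ℤ, i ≠ 0 → Subsingleton ((Kz C xs).homology i) := by
    intro i hi
    have := hx i hi
    unfold AcycAt at this
    exact ModuleCat.subsingleton_of_isZero ((transfer (hKz xs) i).mp this)
  have hposy : ∀ k : ℤ, 0 < k → Subsingleton ((Kz C ys).homology k) := by
    intro k hk
    have := AcycAt.of_pos ys A k hk
    unfold AcycAt at this
    exact ModuleCat.subsingleton_of_isZero ((transfer (hKz ys) k).mp this)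
  haveI hfin : Module.Finite A ((Kz C xs).homology 0) := by
    exact transferFin (hKz xs) 0 (finite_h0 A xs)
  have E1 : ∀ i : ℕ, Nonempty ((Kz C (xs ++ ys)).homology (-(i : ℤ)) ≃ₗ[A]
      (Fin (ys.length.choose i) → (Kz C xs).homology 0)) := by
    intro i
    obtain ⟨e⟩ := main_Kz C xs ys hyx (-(i : ℤ))
    obtain ⟨e'⟩ := piZeroEquiv (A := A) (fun k => (Kz C xs).homology k)
      (cmul ys.length (-(i : ℤ))) hx'
    have hc : cmul ys.length (-(i : ℤ)) 0 = ys.length.choose i := by
      have := cmul_add ys.length (-(i : ℤ)) i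
      rwa [neg_add_cancel] at this
    exact ⟨e.toLinearEquiv ≪≫ₗ e' ≪≫ₗ LinearEquiv.funCongrLeft A _ (finCongr hc.symm)⟩
  have claim : ∀ q : ℕ, Subsingleton ((Kz C ys).homology (-((q + 1 : ℕ) : ℤ))) := by
    intro q
    induction q using Nat.strong_induction_on with
    | _ q ih =>
      have hmid : ∀ i : ℕ, 0 < i → i < q + 1 →
          Subsingleton ((Kz C ys).homology (-(i : ℤ))) := by
        intro i hi hi'
        obtain ⟨j, rfl⟩ : ∃ j, i = j + 1 := ⟨i - 1, by omega⟩
        exact ih j (by omega)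
      obtain ⟨-, h2, ⟨e3⟩⟩ := front C ys q hposy hmid xs hxy
      obtain ⟨e0⟩ := h2 0 (Nat.succ_pos q)
      obtain ⟨f0⟩ := E1 0
      obtain ⟨f3⟩ := E1 (q + 1)
      have eQ : (Kz C ys).homology (-((0 : ℕ) : ℤ)) ≃ₗ[A] (Kz C xs).homology 0 :=
        (LinearEquiv.funUnique (Fin 1) A _).symm ≪≫ₗ
          (LinearEquiv.funCongrLeft A _ (finCongr (by simp : xs.length.choose 0 = 1))) ≪≫ₗ
          e0.symm ≪≫ₗ f0 ≪≫ₗ
          LinearEquiv.funCongrLeft A _ (finCongr (by simp : 1 = ys.length.choose 0)) ≪≫ₗ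
          LinearEquiv.funUnique (Fin 1) A _
      have eN : (Fin (xs.length.choose (q + 1)) → (Kz C ys).homology (-((0 : ℕ) : ℤ))) ≃ₗ[A]
          (Fin (ys.length.choose (q + 1)) → (Kz C xs).homology 0) :=
        LinearEquiv.piCongrRight (fun _ => eQ) ≪≫ₗ
          LinearEquiv.funCongrLeft A _ (finCongr (by rw [hlen]))
      have e : ((Kz C ys).homology (-((q + 1 : ℕ) : ℤ)) ×
          (Fin (ys.length.choose (q + 1)) → (Kz C xs).homology 0)) ≃ₗ[A]
          (Fin (ys.length.choose (q + 1)) → (Kz C xs).homology 0) :=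
        (LinearEquiv.prodCongr (LinearEquiv.refl A _) eN).symm ≪≫ₗ e3.symm ≪≫ₗ f3
      exact subsingleton_of_prod_equiv e
  intro i hi
  rcases lt_or_gt_of_ne hi with h | h
  · have hs := claim (-i - 1).toNat
    have e : -(((-i - 1).toNat + 1 : ℕ) : ℤ) = i := by
      push_cast
      rw [Int.toNat_of_nonneg (by omega)]
      ring
    rw [e] at hs
    unfold AcycAt
    exact (transfer (hKz ys) i).mpr (ModuleCat.isZero_of_subsingleton _)
  · exact AcycAt.of_pos ys A i h

theorem length_le {R : Type u} [CommRing R] {I : Ideal R} (hI : I ≠ ⊤)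
    (g : List R) (hg : LCI.IsKoszulRegularSeq R g) (hgI : Ideal.ofList g = I)
    (h : List R) (hh : Ideal.ofList h = I) : g.length ≤ h.length := by
  classical
  haveI : Nontrivial (R ⧸ I) := Ideal.Quotient.nontrivial_iff.mpr hI
  have hmemg : ∀ i : Fin g.length, g.get i ∈ I := fun i =>
    hgI ▸ Ideal.subset_span (List.get_mem _ _)
  obtain ⟨b, -⟩ := Groth.Agent.S18939.result hI g.length (fun i => ⟨g.get i, hmemg i⟩)
    (by
      rw [show (List.ofFn fun i => ((⟨g.get i, hmemg i⟩ : I) : R)) = g from List.ofFn_get g]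
      exact hg)
    (by
      show Ideal.span (Set.range fun i => g.get i) = I
      rw [← hgI]
      unfold Ideal.ofList
      congr 1
      exact Set.range_list_get g)
  have hle : ∀ x, x ∈ Ideal.span {a | a ∈ h} → x ∈ I := fun x hx => hh ▸ hx
  let G : Fin h.length → I.Cotangent := fun j =>
    I.toCotangent ⟨h.get j, hle _ (Ideal.subset_span (List.get_mem _ _))⟩
  have hspan : Submodule.span (R ⧸ I) (Set.range G) = ⊤ := by
    rw [eq_top_iff]
    rintro c -
    obtain ⟨⟨x, hx⟩, rfl⟩ := Ideal.toCotangent_surjective I c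
    have hx' : x ∈ Ideal.span {a | a ∈ h} := by
      have : x ∈ Ideal.ofList h := hh ▸ hx
      exact this
    have key : ∀ x (hx : x ∈ Ideal.span {a | a ∈ h}),
        I.toCotangent ⟨x, hle x hx⟩ ∈ Submodule.span (R ⧸ I) (Set.range G) := by
      intro x hx
      refine Submodule.span_induction
        (p := fun x hx => I.toCotangent ⟨x, hle x hx⟩ ∈ Submodule.span (R ⧸ I) (Set.range G))
        ?_ ?_ ?_ ?_ hx
      · intro y hy
        obtain ⟨j, rfl⟩ := List.mem_iff_get.mp hy
        exact Submodule.subset_span ⟨j, rfl⟩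
      · have : (⟨0, hle 0 (Submodule.zero_mem _)⟩ : I) = 0 := rfl
        rw [this, map_zero]
        exact Submodule.zero_mem _
      · intro y z hy hz ihy ihz
        have : (⟨y + z, hle _ (Submodule.add_mem _ hy hz)⟩ : I) =
            ⟨y, hle y hy⟩ + ⟨z, hle z hz⟩ := rfl
        rw [this, map_add]
        exact Submodule.add_mem _ ihy ihz
      · intro a y hy ihy
        have : (⟨a • y, hle _ (Submodule.smul_mem _ a hy)⟩ : I) = a • ⟨y, hle y hy⟩ := rfl
        rw [this, _root_.map_smul, ← algebraMap_smul (R ⧸ I) a]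
        exact Submodule.smul_mem _ _ ihy
    exact key x hx'
  have hcard := Basis.le_span'' b hspan
  calc g.length = Fintype.card (Fin g.length) := (Fintype.card_fin _).symm
    _ ≤ Fintype.card (Set.range G) := hcard
    _ ≤ Fintype.card (Fin h.length) := Fintype.card_range_le G
    _ = h.length := Fintype.card_fin _

theorem main {R : Type u} [CommRing R] {I : Ideal R} (hI : I ≠ ⊤)
    (g : List R) (hg : LCI.IsKoszulRegularSeq R g) (hgI : Ideal.ofList g = I)
    (f : List R) (hfI : Ideal.ofList f = I) :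
    LCI.IsKoszulRegularSeq R f ↔ ∀ h : List R, Ideal.ofList h = I → f.length ≤ h.length := by
  constructor
  · intro hf h hh
    exact length_le hI f hf hfI h hh
  · intro hmin
    have h1 : f.length ≤ g.length := hmin g hgI
    have h2 : g.length ≤ f.length := length_le hI g hg hgI f hfI
    have hlen : g.length = f.length := le_antisymm h2 h1
    rw [isKoszulRegularSeq_iff] at hg ⊢
    refine lemmaK g f hlen ?_ ?_ hg
    · intro x hx
      have : x ∈ Ideal.ofList g := Ideal.subset_span hx
      rw [hgI, ← hfI] at this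
      exact this
    · intro x hx
      have : x ∈ Ideal.ofList f := Ideal.subset_span hx
      rw [hfI, ← hgI] at this
      exact this

end

/-- Let R be a commutative ring and I a proper ideal of R which is generated by some Koszul-regular
sequence. A finite sequence f of generators of I is Koszul-regular if and only if f has the smallest
possible length among all finite generating sequences of I. (Properness of I is needed: the
sequences (1) and (1, 1) are both Koszul-regular and generate the unit ideal.) -/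
theorem result {R : Type u} [CommRing R] {I : Ideal R} (hI : I ≠ ⊤)
    (g : List R) (hg : LCI.IsKoszulRegularSeq R g) (hgI : Ideal.ofList g = I)
    (f : List R) (hfI : Ideal.ofList f = I) :
    LCI.IsKoszulRegularSeq R f ↔ ∀ h : List R, Ideal.ofList h = I → f.length ≤ h.length := by
  exact Groth.Agent.S18935.main hI g hg hgI f hfI

end Groth.Agent.S18935
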