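import Groth.Statements.S9252
import Mathlib
import Groth.Agent.Lib.Helper2.QRDescent2
-- import your own Groth.Agent.* helpers here

set_option autoImplicit false
universe u
attribute [local instance] HasDerivedCategory.standard
open CategoryTheory
open PP16

namespace Groth.Agent.S9252

section

open TensorProduct
open Groth.Agent.Helper2.KosIdeal Groth.Agent.Helper2.KosDescent Groth.Agent.Helper2.QRDescent

attribute [local instance] Algebra.TensorProduct.rightAlgebra

variable {A B : Type u} [CommRing A] [CommRing B] [Algebra A B] [Module.FaithfullyFlat A B]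

theorem fg_map (I : Ideal A) (h : PP16.IsLocallyQuasiRegular B (I.map (algebraMap A B))) :
    (I.map (algebraMap A B)).FG := by
  apply fg_of_local
  intro P hP
  by_cases hle : I.map (algebraMap A B) ≤ P
  · obtain ⟨g, hg, r, fc, hq, hsp⟩ := @h P hP hle
    refine ⟨g, hg, ?_⟩
    rw [← hsp]
    exact Submodule.fg_span (Set.finite_range fc)
  · obtain ⟨x, hx, hxP⟩ := Set.not_subset.mp hle
    refine ⟨x, hxP, ?_⟩
    have htop : (I.map (algebraMap A B)).map (algebraMap B (Localization.Away x)) = ⊤ :=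
      Ideal.eq_top_of_isUnit_mem _ (Ideal.mem_map_of_mem _ hx)
        (IsLocalization.Away.algebraMap_isUnit x)
    rw [htop]
    exact ⟨{1}, by simp⟩

/-- the localized base -/
abbrev Ap (a' : A) : Type u := Localization.Away a'

theorem stage3 (I : Ideal A) (h : PP16.IsLocallyQuasiRegular B (I.map (algebraMap A B)))
    (𝔭 : Ideal A) [h𝔭 : 𝔭.IsPrime] (𝔮 : Ideal B) [h𝔮 : 𝔮.IsPrime]
    (hcomap : 𝔮.comap (algebraMap A B) = 𝔭) (hI𝔮 : I.map (algebraMap A B) ≤ 𝔮)
    (g : B) (hg : g ∉ 𝔮) {r : ℕ} (fc : Fin r → Localization.Away g)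
    (hq : CAlgX.IsQuasiRegular fc)
    (hsp : Ideal.span (Set.range fc) =
      (I.map (algebraMap A B)).map (algebraMap B (Localization.Away g)))
    (F' : Fin r → A) (hF' : ∀ i, F' i ∈ I) (a' : A) (ha' : algebraMap A B a' ∉ 𝔮)
    (haI : ∀ x ∈ I, a' * x ∈ Ideal.span (Set.range F')) :
    ∃ G : A, G ∉ 𝔭 ∧ ∃ (r : ℕ) (f : Fin r → Localization.Away G),
      CAlgX.IsQuasiRegular f ∧
      Ideal.span (Set.range f) = I.map (algebraMap A (Localization.Away G)) := by
  have hu : IsUnit (algebraMap A (Ap a') a') := IsLocalization.Away.algebraMap_isUnit a'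
  have hI' : I.map (algebraMap A (Ap a')) =
      Ideal.span (Set.range (fun k => algebraMap A (Ap a') (F' k))) := by
    apply le_antisymm
    · rw [Ideal.map_le_iff_le_comap]
      intro x hx
      rw [Ideal.mem_comap]
      have h3 : algebraMap A (Ap a') x = ↑hu.unit⁻¹ * algebraMap A (Ap a') (a' * x) := by
        rw [map_mul, ← mul_assoc, IsUnit.val_inv_mul, one_mul]
      rw [h3]
      refine Ideal.mul_mem_left _ _ ?_
      have h4 := Ideal.mem_map_of_mem (algebraMap A (Ap a')) (haI x hx)
      rwa [Ideal.map_span, ← Set.range_comp] at h4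
    · rw [Ideal.span_le]
      rintro _ ⟨k, rfl⟩
      exact Ideal.mem_map_of_mem _ (hF' k)
  haveI hloc : IsLocalization.Away (algebraMap A B a') (Bs B a') := isLocalization_Bs a'
  haveI : Module.Flat B (Bs B a') :=
    IsLocalization.flat (Bs B a') (Submonoid.powers (algebraMap A B a'))
  have hmapI : (Ideal.span (Set.range (fun k => algebraMap A (Ap a') (F' k)))).map
      (algebraMap (Ap a') (Bs B a')) =
      (I.map (algebraMap A B)).map (algebraMap B (Bs B a')) := by
    rw [← hI', Ideal.map_map, Ideal.map_map, ← IsScalarTower.algebraMap_eq,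
      ← IsScalarTower.algebraMap_eq]
  have hLQR' : PP16.IsLocallyQuasiRegular (Bs B a')
      ((Ideal.span (Set.range (fun k => algebraMap A (Ap a') (F' k)))).map
        (algebraMap (Ap a') (Bs B a'))) := by
    rw [hmapI]
    exact lqr_map_away (algebraMap A B a') _ h
  have hdesc := local_desc_qr (B := Bs B a') (fun k => algebraMap A (Ap a') (F' k)) hLQR'
  have hdisj : Disjoint (Submonoid.powers (algebraMap A B a') : Set B) (𝔮 : Set B) := by
    rw [Set.disjoint_left]
    rintro x ⟨n, rfl⟩ hx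
    exact ha' (h𝔮.mem_of_pow_mem n hx)
  haveI hprime : (𝔮.map (algebraMap B (Bs B a'))).IsPrime :=
    IsLocalization.isPrime_of_isPrime_disjoint (Submonoid.powers (algebraMap A B a')) _ _ h𝔮 hdisj
  have hcomap'' : (𝔮.map (algebraMap B (Bs B a'))).comap (algebraMap B (Bs B a')) = 𝔮 :=
    IsLocalization.under_map_of_isPrime_disjoint (Submonoid.powers (algebraMap A B a')) _ h𝔮 hdisj
  have hg'' : algebraMap B (Bs B a') g ∉ 𝔮.map (algebraMap B (Bs B a')) := by
    intro hmem
    apply hg
    rw [← hcomap'']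
    exact hmem
  obtain ⟨fc'', hq'', hsp''⟩ := chart_map_qr (B'' := Bs B a') (algebraMap A B a')
    (I.map (algebraMap A B)) g fc hq hsp
  have hI𝔮'' : (Ideal.span (Set.range (fun k => algebraMap A (Ap a') (F' k)))).map
      (algebraMap (Ap a') (Bs B a')) ≤ 𝔮.map (algebraMap B (Bs B a')) := by
    rw [hmapI]
    exact Ideal.map_mono hI𝔮
  have hrel : (Rel (fun k => algebraMap A (Ap a') (F' k))).map
      (algebraMap (Ap a') (Localization.Away (algebraMap B (Bs B a') g))) ≤
      (Ideal.span (Set.range (fun k => algebraMap A (Ap a') (F' k)))).map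
        (algebraMap (Ap a') (Localization.Away (algebraMap B (Bs B a') g))) := by
    rcases chart_type_qr (fun k => algebraMap A (Ap a') (F' k))
      (𝔮.map (algebraMap B (Bs B a'))) hI𝔮'' (algebraMap B (Bs B a') g) hg'' fc'' hq''
      (by rw [hmapI]; exact hsp'') with ⟨_, _, h2⟩ | ⟨hlt, _⟩
    · exact h2
    · omega
  obtain ⟨s', hs', hcharts⟩ := stage2' (fun k => algebraMap A (Ap a') (F' k)) _ hdesc
    (𝔮.map (algebraMap B (Bs B a'))) hI𝔮'' (algebraMap B (Bs B a') g) hg'' hrel
  have hQR := final_descent_qr (B := Bs B a') (fun k => algebraMap A (Ap a') (F' k)) s' hcharts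
  have hs'p : s' ∉ 𝔭.map (algebraMap A (Ap a')) := by
    intro hmem
    apply hs'
    have h1 := Ideal.mem_map_of_mem (algebraMap (Ap a') (Bs B a')) hmem
    rw [Ideal.map_map, ← IsScalarTower.algebraMap_eq,
      IsScalarTower.algebraMap_eq A B (Bs B a'), ← Ideal.map_map] at h1
    refine Ideal.map_mono ?_ h1
    rw [Ideal.map_le_iff_le_comap, hcomap]
  have ha'p : a' ∉ 𝔭 := by
    intro hmem
    apply ha'
    rw [← hcomap] at hmem
    exact hmem
  refine lqr_at_of_away' I a' 𝔭 ha'p s' hs'p _ hQR ?_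
  rw [hI', Ideal.map_span, ← Set.range_comp]
  rfl

theorem main (A B : Type u) [CommRing A] [CommRing B]
    [Algebra A B] [Module.FaithfullyFlat A B] (I : Ideal A)
    (h : PP16.IsLocallyQuasiRegular B (Ideal.map (algebraMap A B) I)) :
    PP16.IsLocallyQuasiRegular A I := by
  intro 𝔭 h𝔭 hI
  have hfg : I.FG := Ideal.FG.of_FG_map_of_faithfullyFlat (S := B) (fg_map I h)
  obtain ⟨s, F, hF⟩ := Submodule.fg_iff_exists_fin_generating_family.mp hfg
  obtain ⟨𝔮, h𝔮, hover⟩ := Ideal.exists_isPrime_liesOver_of_faithfullyFlat (B := B) 𝔭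
  have hcomap : 𝔮.comap (algebraMap A B) = 𝔭 := hover.over.symm
  have hI𝔮 : I.map (algebraMap A B) ≤ 𝔮 := by
    rw [Ideal.map_le_iff_le_comap, hcomap]
    exact hI
  obtain ⟨g, hg, r, fc, hq, hsp⟩ := @h 𝔮 h𝔮 hI𝔮
  have hF0 : ∀ i, F i ∈ I := fun i => by
    rw [← hF]
    exact Ideal.subset_span ⟨i, rfl⟩
  obtain ⟨F', hF', a', ha', haI⟩ := exists_drop' I 𝔮 g hg fc hsp.symm (rel_le_of_qr fc hq) hI𝔮
    s F hF0 1
    (by
      rw [map_one]
      exact fun h1 => h𝔮.ne_top ((Ideal.eq_top_iff_one _).mpr h1))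
    (fun x hx => by
      rw [one_mul]
      show x ∈ Submodule.span A (Set.range F)
      rw [hF]
      exact hx)
  exact stage3 I h 𝔭 𝔮 hcomap hI𝔮 g hg fc hq hsp F' hF' a' ha' haI

end

/-- Let A → B be faithfully flat and I an ideal of A. If IB is a quasi-regular ideal of B then I is a
quasi-regular ideal of A. -/
theorem result (A B : Type u) [CommRing A] [CommRing B]
    [Algebra A B] [Module.FaithfullyFlat A B] (I : Ideal A)
    (h : PP16.IsLocallyQuasiRegular B (Ideal.map (algebraMap A B) I)) :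
    PP16.IsLocallyQuasiRegular A I := by
  exact Groth.Agent.S9252.main A B I h

end Groth.Agent.S9252
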