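import Groth.Statements.S9269
import Mathlib
import Groth.Agent.Lib.Helper2.KosIdeal
-- import your own Groth.Agent.* helpers here

set_option autoImplicit false
universe u
attribute [local instance] HasDerivedCategory.standard
open CategoryTheory
open LCI

namespace Groth.Agent.S9269

section
open Groth.Agent.Helper2.KosIdeal

theorem map_eq_ker_of_comp {D D' B : Type u} [CommRing D] [CommRing D'] [CommRing B]
    (δ : D →+* B) (δ' : D' →+* B) (f : D →+* D') (hf : Function.Surjective f)
    (h : δ = δ'.comp f) : (RingHom.ker δ).map f = RingHom.ker δ' := by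
  rw [h, ← RingHom.comap_ker, Ideal.map_comap_of_surjective f hf]

/-- Adjoining finitely many polynomial variables to a presentation does not affect
Koszul-regularity of the kernel. -/
theorem ext_iff (C B : Type u) [CommRing C] [CommRing B] (γ : C →+* B)
    (hγ : Function.Surjective γ) : ∀ (m : ℕ) (δ : MvPolynomial (Fin m) C →+* B),
    δ.comp MvPolynomial.C = γ →
    (LCI.IsKoszulRegularIdeal (RingHom.ker γ) ↔ LCI.IsKoszulRegularIdeal (RingHom.ker δ))
  | 0, δ, hδ => by
    let e₀ : MvPolynomial (Fin 0) C ≃ₐ[C] C := MvPolynomial.isEmptyAlgEquiv C (Fin 0)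
    have h1 : δ = γ.comp (e₀.toRingEquiv : MvPolynomial (Fin 0) C →+* C) := by
      apply MvPolynomial.ringHom_ext
      · intro c
        have h2 : e₀ (MvPolynomial.C c) = c := by
          have := e₀.commutes c
          exact this
        show δ (MvPolynomial.C c) = γ (e₀ (MvPolynomial.C c))
        rw [h2, ← hδ]
        rfl
      · intro i
        exact i.elim0
    have h3 := map_eq_ker_of_comp δ γ _ e₀.toRingEquiv.surjective h1
    rw [← h3]
    exact kr_ringEquiv_iff e₀.toRingEquiv _
  | m + 1, δ, hδ => by
    let e : MvPolynomial (Fin (m + 1)) C ≃ₐ[C] Polynomial (MvPolynomial (Fin m) C) :=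
      MvPolynomial.finSuccEquiv C m
    let δ' : Polynomial (MvPolynomial (Fin m) C) →+* B :=
      δ.comp (e.symm.toRingEquiv : Polynomial (MvPolynomial (Fin m) C) →+* _)
    let δm : MvPolynomial (Fin m) C →+* B := δ'.comp Polynomial.C
    have hδm : δm.comp MvPolynomial.C = γ := by
      ext c
      show δ (e.symm (Polynomial.C (MvPolynomial.C c))) = γ c
      have h2 : e.symm (Polynomial.C (MvPolynomial.C c)) = MvPolynomial.C c := by
        have := e.symm.commutes c
        exact this
      rw [h2, ← hδ]
      rfl
    have hδm_surj : Function.Surjective δm := by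
      intro b
      obtain ⟨c, rfl⟩ := hγ b
      exact ⟨MvPolynomial.C c, by rw [← hδm]; rfl⟩
    have IH := ext_iff C B γ hγ m δm hδm
    obtain ⟨d, hd⟩ := hδm_surj (δ' Polynomial.X)
    have hfac : δ' = δm.comp (Polynomial.evalRingHom d) := by
      apply Polynomial.ringHom_ext
      · intro a
        show δ' (Polynomial.C a) = δm (Polynomial.eval d (Polynomial.C a))
        rw [Polynomial.eval_C]
        rfl
      · show δ' Polynomial.X = δm (Polynomial.eval d Polynomial.X)
        rw [Polynomial.eval_X, hd]
    have hsurj : Function.Surjective (Polynomial.evalRingHom d) := by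
      intro r
      exact ⟨Polynomial.C r, by simp⟩
    have h4 := map_eq_ker_of_comp δ' δm _ hsurj hfac
    have hmem : Polynomial.X - Polynomial.C d ∈ RingHom.ker δ' := by
      rw [RingHom.mem_ker, map_sub, ← hd]
      exact sub_self _
    have h5 := kr_eval_iff d (RingHom.ker δ') hmem
    rw [h4] at h5
    have h6 : δ = δ'.comp (e.toRingEquiv : MvPolynomial (Fin (m + 1)) C →+* _) := by
      ext x
      · show δ (MvPolynomial.C x) = δ (e.symm (e (MvPolynomial.C x)))
        rw [e.symm_apply_apply]
      · show δ (MvPolynomial.X _) = δ (e.symm (e (MvPolynomial.X _)))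
        rw [e.symm_apply_apply]
    have h7 := map_eq_ker_of_comp δ δ' _ e.toRingEquiv.surjective h6
    rw [IH, ← h5, ← h7]
    exact kr_ringEquiv_iff e.toRingEquiv _

theorem main (A B : Type u) [CommRing A] [CommRing B]
    [Algebra A B] (n m : ℕ) (α : MvPolynomial (Fin n) A →ₐ[A] B) (hα : Function.Surjective α)
    (β : MvPolynomial (Fin m) A →ₐ[A] B) (hβ : Function.Surjective β)
    (h : LCI.IsKoszulRegularIdeal (RingHom.ker α.toRingHom)) :
    LCI.IsKoszulRegularIdeal (RingHom.ker β.toRingHom) := by
  let δ₁ : MvPolynomial (Fin m) (MvPolynomial (Fin n) A) →+* B :=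
    MvPolynomial.eval₂Hom α.toRingHom (fun j => β (MvPolynomial.X j))
  let δ₂ : MvPolynomial (Fin n) (MvPolynomial (Fin m) A) →+* B :=
    MvPolynomial.eval₂Hom β.toRingHom (fun i => α (MvPolynomial.X i))
  have h1 : δ₁.comp MvPolynomial.C = α.toRingHom := by
    ext x
    · simp [δ₁]
    · simp [δ₁]
  have h2 : δ₂.comp MvPolynomial.C = β.toRingHom := by
    ext x
    · simp [δ₂]
    · simp [δ₂]
  have e1 := ext_iff _ B α.toRingHom hα m δ₁ h1
  have e2 := ext_iff _ B β.toRingHom hβ n δ₂ h2
  let comm := MvPolynomial.commAlgEquiv A (Fin m) (Fin n)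
  have hcomm : δ₁ = δ₂.comp (comm.toRingEquiv : _ →+* _) := by
    apply MvPolynomial.ringHom_ext
    · intro p
      show δ₁ (MvPolynomial.C p) = δ₂ (comm (MvPolynomial.C p))
      rw [MvPolynomial.commAlgEquiv_C]
      have h3 : δ₂.comp (MvPolynomial.map MvPolynomial.C) = α.toRingHom := by
        apply MvPolynomial.ringHom_ext
        · intro a
          show δ₂ (MvPolynomial.map MvPolynomial.C (MvPolynomial.C a)) = α (MvPolynomial.C a)
          rw [MvPolynomial.map_C]
          have h4 : δ₂ (MvPolynomial.C (MvPolynomial.C a)) = β (MvPolynomial.C a) := by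
            simp [δ₂]
          have hb : β (MvPolynomial.C a) = algebraMap A B a := by
            rw [← MvPolynomial.algebraMap_eq]
            exact β.commutes a
          have ha : α (MvPolynomial.C a) = algebraMap A B a := by
            rw [← MvPolynomial.algebraMap_eq]
            exact α.commutes a
          rw [h4, hb, ha]
        · intro i
          show δ₂ (MvPolynomial.map MvPolynomial.C (MvPolynomial.X i)) = α (MvPolynomial.X i)
          rw [MvPolynomial.map_X]
          simp [δ₂]
      have h5 : δ₁ (MvPolynomial.C p) = α p := by simp [δ₁]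
      rw [h5]
      exact (RingHom.congr_fun h3 p).symm
    · intro j
      show δ₁ (MvPolynomial.X j) = δ₂ (comm (MvPolynomial.X j))
      rw [MvPolynomial.commAlgEquiv_X]
      simp [δ₁, δ₂]
  have h3 := map_eq_ker_of_comp δ₁ δ₂ _ comm.toRingEquiv.surjective hcomm
  rw [e2, ← h3]
  exact kr_ringEquiv comm.toRingEquiv _ (e1.mp h)

end

/-- Let B be an A-algebra of finite type. If the kernel of one presentation A[x_1, ..., x_n] → B is a
Koszul-regular ideal, then the kernel of any other presentation A[y_1, ..., y_m] → B is a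
Koszul-regular ideal. -/
theorem result (A B : Type u) [CommRing A] [CommRing B]
    [Algebra A B] (n m : ℕ) (α : MvPolynomial (Fin n) A →ₐ[A] B) (hα : Function.Surjective α)
    (β : MvPolynomial (Fin m) A →ₐ[A] B) (hβ : Function.Surjective β)
    (h : LCI.IsKoszulRegularIdeal (RingHom.ker α.toRingHom)) :
    LCI.IsKoszulRegularIdeal (RingHom.ker β.toRingHom) := by
  exact Groth.Agent.S9269.main A B n m α hα β hβ h

end Groth.Agent.S9269
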