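import Groth.Statements.S8653
import Mathlib
import Groth.Agent.Lib.Helper2.KRProd
import Groth.Agent.Lib.Helper28.RegBC7
import Groth.Agent.Lib.Helper18.SymAlg9
-- import your own Groth.Agent.* helpers here

set_option autoImplicit false
universe u
open CategoryTheory CategoryTheory.Limits AlgebraicGeometry
open RegImm

namespace Groth.Agent.S8653

section

open CategoryTheory CategoryTheory.Limits AlgebraicGeometry TopologicalSpace
open Groth.Agent.Helper28 Groth.Agent.Helper28.RegBC Groth.Agent.Helper2.KosIdeal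
  Groth.Agent.Helper2.KosReg

/-- the point of an affine open attached to a prime, and its prime -/
theorem primeIdealOf_fromSpec {X : Scheme.{u}} {U : X.Opens} (hU : IsAffineOpen U)
    (p : PrimeSpectrum Γ(X, U)) (h : hU.fromSpec p ∈ U) :
    hU.primeIdealOf ⟨hU.fromSpec p, h⟩ = p := by
  haveI := hU.isOpenImmersion_fromSpec
  have hinj : Function.Injective hU.fromSpec := hU.fromSpec.isOpenEmbedding.injective
  apply hinj
  exact hU.fromSpec_primeIdealOf ⟨hU.fromSpec p, h⟩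

theorem fromSpec_mem {X : Scheme.{u}} {U : X.Opens} (hU : IsAffineOpen U)
    (p : PrimeSpectrum Γ(X, U)) : hU.fromSpec p ∈ U := by
  have h1 : hU.fromSpec p ∈ hU.fromSpec.opensRange := ⟨p, rfl⟩
  have h2 : ∀ W : X.Opens, W = U → hU.fromSpec p ∈ W → hU.fromSpec p ∈ U := by
    rintro W rfl h
    exact h
  exact h2 _ hU.opensRange_fromSpec h1

theorem mem_basicOpen_iff {X : Scheme.{u}} {U : X.Opens} (hU : IsAffineOpen U)
    (p : PrimeSpectrum Γ(X, U)) (f : Γ(X, U)) :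
    hU.fromSpec p ∈ X.basicOpen f ↔ f ∉ p.asIdeal := by
  have h1 := hU.fromSpec_preimage_basicOpen f
  have h2 : hU.fromSpec p ∈ X.basicOpen f ↔ p ∈ hU.fromSpec ⁻¹ᵁ X.basicOpen f := Iff.rfl
  rw [h2, h1]
  exact PrimeSpectrum.mem_basicOpen f p

/-- on an affine open over which a Koszul-regular immersion is closed, the kernel is a
Koszul-regular ideal -/
theorem kr_ker {X' Y' : Scheme.{u}} (i' : Y' ⟶ X')
    (hi' : RegImm.IsRegularImmersion .koszul i') (V : X'.Opens) (hV : IsAffineOpen V)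
    [IsClosedImmersion (i' ∣_ V)] :
    LCI.IsKoszulRegularIdeal (RingHom.ker (i'.app V).hom) := by
  intro 𝔮 hle
  have hVY : IsAffineOpen (i' ⁻¹ᵁ V) := RegImmStalk.isAffineOpen_preimage i' V hV
  have hsurj := RegImmStalk.app_surjective i' V hV
  haveI hprime : (𝔮.asIdeal.map (i'.app V).hom).IsPrime :=
    Ideal.map_isPrime_of_surjective hsurj hle
  have hcomap : (𝔮.asIdeal.map (i'.app V).hom).comap (i'.app V).hom = 𝔮.asIdeal := by
    rw [Ideal.comap_map_of_surjective _ hsurj, sup_eq_left, ← RingHom.ker_eq_comap_bot]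
    exact hle
  -- the point of `Y'`
  have hy'V := fromSpec_mem hVY ⟨_, hprime⟩
  have hpt : i' (hVY.fromSpec ⟨_, hprime⟩) = hV.fromSpec 𝔮 := by
    have h1 := IsAffineOpen.SpecMap_appLE_fromSpec i' hV hVY (le_refl _)
    have h2 := congrArg (fun k => k ⟨_, hprime⟩) h1
    simp only [Scheme.Hom.comp_apply] at h2
    rw [← h2]
    congr 1
    apply PrimeSpectrum.ext
    show Ideal.comap (i'.appLE V (i' ⁻¹ᵁ V) (le_refl _)).hom (𝔮.asIdeal.map (i'.app V).hom) =
      𝔮.asIdeal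
    rw [← Scheme.Hom.app_eq_appLE]
    exact hcomap
  obtain ⟨⟨U'', hU''⟩, hyU'', hcl'', rs, hrs, hker''⟩ := hi'.2 (hVY.fromSpec ⟨_, hprime⟩)
  have hyV : i' (hVY.fromSpec ⟨_, hprime⟩) ∈ V := hy'V
  obtain ⟨f, f'', hff'', hyf⟩ := exists_basicOpen_le_affine_inter hV hU''
    (i' (hVY.fromSpec ⟨_, hprime⟩)) ⟨hyV, hyU''⟩
  have hW : IsAffineOpen (X'.basicOpen f) := hV.basicOpen f
  have hleU'' : X'.basicOpen f ≤ U'' := hff'' ▸ X'.basicOpen_le f''
  obtain ⟨hclW, rs', hrs', hkerW⟩ := restrict_data i' .koszul (hVY.fromSpec ⟨_, hprime⟩) U'' hU''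
    hcl'' rs hrs hker'' (X'.basicOpen f) hW hyf hleU''
  have hle' : X'.basicOpen f ≤ (𝟙 X') ⁻¹ᵁ V := X'.basicOpen_le f
  obtain ⟨-, hkerWV⟩ := ker_of_isPullback i' (𝟙 X') i' (𝟙 Y') (IsPullback.id_horiz i') V hV
    (X'.basicOpen f) hW hle'
  refine ⟨f, ?_, ?_⟩
  · rw [hpt] at hyf
    exact (mem_basicOpen_iff hV 𝔮 f).mp hyf
  · haveI := hV.isLocalization_basicOpen f
    refine exists_list_of_isLocalization _ f Γ(X', X'.basicOpen f) rs' hrs' ?_
    have h3 : algebraMap Γ(X', V) Γ(X', X'.basicOpen f) =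
        ((𝟙 X' : X' ⟶ X').appLE V (X'.basicOpen f) hle').hom := by
      rw [RingHom.algebraMap_toAlgebra]
      simp only [Scheme.Hom.appLE, Scheme.Hom.id_app, CommRingCat.hom_comp]
      rfl
    rw [h3, ← hkerWV, hkerW]

/-- descent of the Koszul-regularity of the kernel ideal on an affine open of the base -/
theorem kr_ker_descent {X Y X' Y' : Scheme.{u}} (i : Y ⟶ X)
    (g : X' ⟶ X) [Flat g] [Surjective g] [QuasiCompact g]
    (i' : Y' ⟶ X') (g' : Y' ⟶ Y) (hsq : IsPullback g' i' i g)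
    (hi' : RegImm.IsRegularImmersion .koszul i') (U : X.Opens) (hU : IsAffineOpen U)
    [IsClosedImmersion (i ∣_ U)] :
    LCI.IsKoszulRegularIdeal (RingHom.ker (i.app U).hom) := by
  classical
  obtain ⟨s, hsfin, hs⟩ := isCompact_iff_finite_and_eq_biUnion_affineOpens.mp
    (g.isCompact_preimage hU.isCompact)
  haveI : Fintype ↥s := hsfin.fintype
  have hle : ∀ j : ↥s, j.1.1 ≤ g ⁻¹ᵁ U := fun j => by
    rw [hs]
    exact le_iSup₂ (f := fun (i : X'.affineOpens) (_ : i ∈ s) => (i : X'.Opens)) j.1 j.2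
  letI : ∀ j : ↥s, Algebra Γ(X, U) Γ(X', j.1.1) :=
    fun j => (g.appLE U j.1.1 (hle j)).hom.toAlgebra
  haveI : ∀ j : ↥s, Module.Flat Γ(X, U) Γ(X', j.1.1) :=
    fun j => g.flat_appLE hU j.1.2 (hle j)
  refine Groth.Agent.Helper2.KRProd.kr_of_family (fun j : ↥s => Γ(X', j.1.1)) ?_ _ ?_
  · intro 𝔭 h𝔭
    obtain ⟨x', hx'⟩ := g.surjective (hU.fromSpec ⟨𝔭, h𝔭⟩)
    have hx'U : x' ∈ g ⁻¹ᵁ U := by
      show g x' ∈ U
      rw [hx']
      exact fromSpec_mem hU _
    rw [hs] at hx'U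
    obtain ⟨V, hx'V⟩ := Opens.mem_iSup.mp hx'U
    obtain ⟨hVs, hx'V⟩ := Opens.mem_iSup.mp hx'V
    refine ⟨⟨V, hVs⟩, (V.2.primeIdealOf ⟨x', hx'V⟩).asIdeal, inferInstance, ?_⟩
    have h1 := IsAffineOpen.comap_primeIdealOf_appLE (f := g) (x := x') U hU V.1 V.2
      (hle ⟨V, hVs⟩) hx'V
    have h2 : hU.primeIdealOf ⟨g x', (hle ⟨V, hVs⟩) hx'V⟩ = ⟨𝔭, h𝔭⟩ := by
      have h3 := primeIdealOf_fromSpec hU ⟨𝔭, h𝔭⟩ (fromSpec_mem hU _)
      rw [← h3]
      congr 1
      exact Subtype.ext hx'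
    rw [h2] at h1
    exact congrArg PrimeSpectrum.asIdeal h1
  · intro j
    obtain ⟨hcl, hker⟩ := ker_of_isPullback i g i' g' hsq U hU j.1.1 j.1.2 (hle j)
    haveI := hcl
    have h1 := kr_ker i' hi' j.1.1 j.1.2
    rw [hker] at h1
    exact h1

theorem main {X Y X' Y' : Scheme.{u}} (i : Y ⟶ X) [IsImmersion i]
    (g : X' ⟶ X) [Flat g] [Surjective g] [QuasiCompact g]
    (i' : Y' ⟶ X') (g' : Y' ⟶ Y) (hsq : IsPullback g' i' i g)
    (hi' : RegImm.IsRegularImmersion .koszul i') : RegImm.IsRegularImmersion .koszul i := by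
  refine ⟨inferInstance, fun y => ?_⟩
  -- an affine open around `i y` over which `i` is a closed immersion
  have hycob : i y ∈ i.coborderRange := subset_coborder (Set.mem_range_self y)
  obtain ⟨_, ⟨U, hU, rfl⟩, hyU, hUle⟩ :=
    (X.isBasis_affineOpens).exists_subset_of_mem_open hycob i.coborderRange.isOpen
  haveI hcl : IsClosedImmersion (i ∣_ U) :=
    Groth.Agent.Helper18.SymAlg.isClosedImmersion_restrict_of_le_coborderRange i U hUle
  have hKR := kr_ker_descent i g i' g' hsq hi' U hU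
  have hVY : IsAffineOpen (i ⁻¹ᵁ U) := RegImmStalk.isAffineOpen_preimage i U hU
  -- the prime of `i y`
  have hIle : RingHom.ker (i.app U).hom ≤ (hU.primeIdealOf ⟨i y, hyU⟩).asIdeal := by
    have h1 := IsAffineOpen.comap_primeIdealOf_appLE (f := i) (x := y) U hU (i ⁻¹ᵁ U) hVY
      (le_refl _) hyU
    rw [← h1]
    intro a ha
    show (i.appLE U (i ⁻¹ᵁ U) (le_refl _)).hom a ∈ (hVY.primeIdealOf ⟨y, hyU⟩).asIdeal
    rw [← Scheme.Hom.app_eq_appLE, (RingHom.mem_ker).mp ha]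
    exact Ideal.zero_mem _
  obtain ⟨G, hG, l, hl, hIl⟩ := hKR (hU.primeIdealOf ⟨i y, hyU⟩) hIle
  have hW : IsAffineOpen (X.basicOpen G) := hU.basicOpen G
  have hyW : i y ∈ X.basicOpen G := by
    have h1 := (mem_basicOpen_iff hU (hU.primeIdealOf ⟨i y, hyU⟩) G).mpr hG
    rwa [hU.fromSpec_primeIdealOf ⟨i y, hyU⟩] at h1
  have hle' : X.basicOpen G ≤ (𝟙 X) ⁻¹ᵁ U := X.basicOpen_le G
  obtain ⟨hclW, hkerW⟩ := ker_of_isPullback i (𝟙 X) i (𝟙 Y) (IsPullback.id_horiz i) U hU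
    (X.basicOpen G) hW hle'
  haveI := hU.isLocalization_basicOpen G
  let e : Localization.Away G ≃ₐ[Γ(X, U)] Γ(X, X.basicOpen G) :=
    IsLocalization.algEquiv (Submonoid.powers G) (Localization.Away G) Γ(X, X.basicOpen G)
  refine ⟨⟨X.basicOpen G, hW⟩, hyW, hclW, l.map e,
    isKoszulRegularSeq_ringEquiv e.toRingEquiv l hl, ?_⟩
  have h3 : algebraMap Γ(X, U) Γ(X, X.basicOpen G) =
      ((𝟙 X : X ⟶ X).appLE U (X.basicOpen G) hle').hom := by
    rw [RingHom.algebraMap_toAlgebra]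
    simp only [Scheme.Hom.appLE, Scheme.Hom.id_app, CommRingCat.hom_comp]
    rfl
  have h4 : algebraMap Γ(X, U) Γ(X, X.basicOpen G) =
      (e : Localization.Away G →+* Γ(X, X.basicOpen G)).comp
        (algebraMap Γ(X, U) (Localization.Away G)) := by
    ext r
    exact (e.commutes r).symm
  show RingHom.ker (i.app (X.basicOpen G)).hom = Ideal.ofList (l.map e)
  rw [hkerW, ← h3, h4, ← Ideal.map_map, hIl, Ideal.map_span]
  congr 1
  ext z
  simp only [Set.mem_image, Set.mem_ofPred_eq, List.mem_map]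
  rfl

end

/-- Being a Koszul-regular immersion is local for the faithfully flat quasi-compact topology. Let i : Y
⟶ X be an immersion, g : X' ⟶ X flat, surjective and quasi-compact, and i' : Y' ⟶ X' the base change
of i along g (a cartesian square). If i' is a Koszul-regular immersion, then so is i. -/
theorem result {X Y X' Y' : Scheme.{u}} (i : Y ⟶ X) [IsImmersion i]
    (g : X' ⟶ X) [Flat g] [Surjective g] [QuasiCompact g]
    (i' : Y' ⟶ X') (g' : Y' ⟶ Y) (hsq : IsPullback g' i' i g)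
    (hi' : RegImm.IsRegularImmersion .koszul i') : RegImm.IsRegularImmersion .koszul i := by
  exact Groth.Agent.S8653.main i g i' g' hsq hi'

end Groth.Agent.S8653
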