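import Groth.Statements.S8657
import Mathlib
import Groth.Agent.Lib.Helper2.KRSch1
-- import your own Groth.Agent.* helpers here

set_option autoImplicit false
universe u
open CategoryTheory CategoryTheory.Limits AlgebraicGeometry
open Synt

namespace Groth.Agent.S8657

section

open CategoryTheory CategoryTheory.Limits AlgebraicGeometry TopologicalSpace
open Groth.Agent.Helper2.KRSch Groth.Agent.S8653

theorem main' {X V V' : Scheme.{u}} (j : X ⟶ V') [IsImmersion j] (p : V' ⟶ V) [Smooth p]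
    [IsImmersion (j ≫ p)] :
    RegImm.IsRegularImmersion .koszul (j ≫ p) ↔ RegImm.IsRegularImmersion .koszul j := by
  constructor
  · intro hi
    refine ⟨inferInstance, fun x => ?_⟩
    obtain ⟨V₂, V'₂, hV₂, hV'₂, hx₂, hx'₂, hcl₂, hcl'₂, hiff⟩ := pair_at j p x
    haveI := hcl₂
    haveI := hcl'₂
    exact regAt_of_kr j V'₂ hV'₂ (hiff.mp (kr_ker (j ≫ p) hi V₂ hV₂)) x hx'₂
  · intro hj
    refine ⟨inferInstance, fun x => ?_⟩
    obtain ⟨V₂, V'₂, hV₂, hV'₂, hx₂, hx'₂, hcl₂, hcl'₂, hiff⟩ := pair_at j p x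
    haveI := hcl₂
    haveI := hcl'₂
    exact regAt_of_kr (j ≫ p) V₂ hV₂ (hiff.mpr (kr_ker j hj V'₂ hV'₂)) x hx₂

theorem main {X V V' : Scheme.{u}} (i : X ⟶ V) [IsImmersion i] (j : X ⟶ V') [IsImmersion j]
    (p : V' ⟶ V) [Smooth p] (h : j ≫ p = i) :
    RegImm.IsRegularImmersion .koszul i ↔ RegImm.IsRegularImmersion .koszul j := by
  subst h
  exact main' j p

end

/-- Let i : X ⟶ V and j : X ⟶ V' be immersions and p : V' ⟶ V a smooth morphism with j ≫ p = i. Then i
is a Koszul-regular immersion if and only if j is. -/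
theorem result {X V V' : Scheme.{u}} (i : X ⟶ V) [IsImmersion i] (j : X ⟶ V') [IsImmersion j]
    (p : V' ⟶ V) [Smooth p] (h : j ≫ p = i) :
    RegImm.IsRegularImmersion .koszul i ↔ RegImm.IsRegularImmersion .koszul j := by
  exact Groth.Agent.S8657.main i j p h

end Groth.Agent.S8657
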