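import Groth.Statements.S8656
import Mathlib
import Groth.Agent.Lib.Helper2.KRSch2
import Groth.Agent.S8657
-- import your own Groth.Agent.* helpers here

set_option autoImplicit false
universe u
open CategoryTheory CategoryTheory.Limits AlgebraicGeometry
open Synt

namespace Groth.Agent.S8656

section

open CategoryTheory CategoryTheory.Limits AlgebraicGeometry TopologicalSpace
open Groth.Agent.Helper2.KRSch

/-- local form: a Koszul factorisation on `U` gives Koszul-regularity of `U.ι ≫ i` -/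
theorem kr_of_factor {X Y Z P : Scheme.{u}} (f : X ⟶ Y) (p : Z ⟶ Y) [Smooth p] (i : X ⟶ Z)
    [IsImmersion i] (h : i ≫ p = f) (U : X.Opens) (i₀ : (U : Scheme.{u}) ⟶ P) (π : P ⟶ Y)
    [Smooth π] (hi₀ : RegImm.IsRegularImmersion .koszul i₀) (hcomp : i₀ ≫ π = U.ι ≫ f) :
    RegImm.IsRegularImmersion .koszul (U.ι ≫ i) := by
  haveI : IsImmersion i₀ := hi₀.1
  have hc : i₀ ≫ π = (U.ι ≫ i) ≫ p := by rw [hcomp, Category.assoc, h]
  haveI : IsImmersion (pullback.lift i₀ (U.ι ≫ i) hc) := by
    haveI : IsImmersion (pullback.lift i₀ (U.ι ≫ i) hc ≫ pullback.fst π p) := by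
      rw [pullback.lift_fst]; infer_instance
    exact IsImmersion.of_comp (pullback.lift i₀ (U.ι ≫ i) hc) (pullback.fst π p)
  have hk : RegImm.IsRegularImmersion .koszul (pullback.lift i₀ (U.ι ≫ i) hc) :=
    (Groth.Agent.S8657.main i₀ (pullback.lift i₀ (U.ι ≫ i) hc) (pullback.fst π p)
      (pullback.lift_fst _ _ _)).mp hi₀
  exact (Groth.Agent.S8657.main (U.ι ≫ i) (pullback.lift i₀ (U.ι ≫ i) hc) (pullback.snd π p)
      (pullback.lift_snd _ _ _)).mpr hk

theorem main {X Y Z : Scheme.{u}} (f : X ⟶ Y) (hf : ∀ x : X, Synt.IsKoszulAt f x)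
    (p : Z ⟶ Y) [Smooth p] (i : X ⟶ Z) [IsImmersion i] (h : i ≫ p = f) :
    RegImm.IsRegularImmersion .koszul i := by
  refine ⟨inferInstance, fun x => ?_⟩
  obtain ⟨U, P, i₀, π, hxU, -, hi₀, hπ, hcomp⟩ := hf x
  haveI := hπ
  exact kr_at_of_open i U (kr_of_factor f p i h U i₀ π hi₀ hcomp) x hxU

end

/-- Let f : X ⟶ Y be a local complete intersection morphism in the factorisation sense: every point of X
has an open neighbourhood on which f is locally of finite type and factors as a Koszul-regular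
immersion followed by a smooth morphism. Let p : Z ⟶ Y be smooth and i : X ⟶ Z an immersion with i ≫
p = f. Then i is a Koszul-regular immersion. -/
theorem result {X Y Z : Scheme.{u}} (f : X ⟶ Y) (hf : ∀ x : X, Synt.IsKoszulAt f x)
    (p : Z ⟶ Y) [Smooth p] (i : X ⟶ Z) [IsImmersion i] (h : i ≫ p = f) :
    RegImm.IsRegularImmersion .koszul i := by
  exact Groth.Agent.S8656.main f hf p i h

end Groth.Agent.S8656
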