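import Groth.Statements.S1492
import Mathlib
import Groth.Agent.Lib.Helper2.LCIDesc2
import Groth.Agent.S8653
-- import your own Groth.Agent.* helpers here

set_option autoImplicit false
universe u
attribute [local instance] HasDerivedCategory.standard
open FlatMor

namespace Groth.Agent.S1492

section

open CategoryTheory CategoryTheory.Limits AlgebraicGeometry TopologicalSpace TensorProduct
open Groth.Agent.Helper2.LCIDesc Groth.Agent.S8653

/-- a pushout square of commutative rings identifies the corner with the tensor product -/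
theorem algEquiv_of_isPushout {R B T C : Type u} [CommRing R] [CommRing B] [CommRing T] [CommRing C]
    [Algebra R B] [Algebra R T] [Algebra T C] (inl : B →+* C)
    (hP : IsPushout (CommRingCat.ofHom (algebraMap R B)) (CommRingCat.ofHom (algebraMap R T))
      (CommRingCat.ofHom inl) (CommRingCat.ofHom (algebraMap T C))) :
    Nonempty (C ≃ₐ[T] T ⊗[R] B) := by
  have hT := CommRingCat.isPushout_tensorProduct R T B
  let e : T ⊗[R] B ≃+* C := (hT.isoIsPushout _ _ hP.flip).commRingCatIsoToRingEquiv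
  have he : ∀ t : T, e (algebraMap T (T ⊗[R] B) t) = algebraMap T C t := by
    intro t
    have h := hT.inl_isoIsPushout_hom _ _ hP.flip
    have h2 : (CommRingCat.ofHom (S := T ⊗[R] B)
        (Algebra.TensorProduct.includeLeftRingHom (R := R) (A := T) (B := B)) ≫
        (hT.isoIsPushout _ _ hP.flip).hom).hom t = algebraMap T C t := by
      rw [h]; rfl
    exact h2
  exact ⟨(AlgEquiv.ofRingEquiv (f := e) he).symm⟩

theorem lci_chart {X S X' S' : Scheme.{u}} (f : X ⟶ S) (f' : X' ⟶ S') (g' : X' ⟶ X) (g : S' ⟶ S)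
    (hc : IsPullback g' f' f g)
    (hf' : ∀ (U : X'.Opens) (V : S'.Opens) (hU : IsAffineOpen U) (hV : IsAffineOpen V)
        (hUV : U ≤ f' ⁻¹ᵁ V),
        letI := (f'.appLE V U hUV).hom.toAlgebra
        LCI.IsLCI Γ(S', V) Γ(X', U))
    (U : X.Opens) (V : S.Opens) (hU : IsAffineOpen U) (hV : IsAffineOpen V) (hUV : U ≤ f ⁻¹ᵁ V)
    (V' : S'.Opens) (hV' : IsAffineOpen V') (hV'V : V' ≤ g ⁻¹ᵁ V) :
    letI := (f.appLE V U hUV).hom.toAlgebra
    letI := (g.appLE V V' hV'V).hom.toAlgebra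
    LCI.IsLCI Γ(S', V') (Γ(S', V') ⊗[Γ(S, V)] Γ(X, U)) := by
  letI := (f.appLE V U hUV).hom.toAlgebra
  letI := (g.appLE V V' hV'V).hom.toAlgebra
  have hWaff : IsAffineOpen (g' ⁻¹ᵁ U ⊓ f' ⁻¹ᵁ V') := by
    haveI : IsAffine (V : Scheme) := hV
    haveI : IsAffine (V' : Scheme) := hV'
    haveI : IsAffine (U : Scheme) := hU
    exact .of_isIso (Scheme.Hom.isPullback_resLE hc hV'V hUV rfl).isoPullback.hom
  have hWV' : g' ⁻¹ᵁ U ⊓ f' ⁻¹ᵁ V' ≤ f' ⁻¹ᵁ V' := inf_le_right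
  letI := (f'.appLE V' (g' ⁻¹ᵁ U ⊓ f' ⁻¹ᵁ V') hWV').hom.toAlgebra
  have hiso := isIso_pushoutSection_of_isAffineOpen hc hV'V hUV rfl hV hV' hU
  have hpo := (isIso_pushoutSection_iff hc hV'V hUV rfl).mp hiso
  obtain ⟨e⟩ := algEquiv_of_isPushout (R := Γ(S, V)) (B := Γ(X, U)) (T := Γ(S', V'))
    (C := Γ(X', g' ⁻¹ᵁ U ⊓ f' ⁻¹ᵁ V')) (g'.appLE U (g' ⁻¹ᵁ U ⊓ f' ⁻¹ᵁ V') inf_le_left).hom hpo
  exact isLCI_of_algEquiv e (hf' _ V' hWaff hV' hWV')

theorem main {X S X' S' : Scheme.{u}} (f : X ⟶ S) (f' : X' ⟶ S') (g' : X' ⟶ X) (g : S' ⟶ S)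
    [Flat g] [Surjective g] [QuasiCompact g] (hc : IsPullback g' f' f g)
    (hf' : (∀ (U : X'.Opens) (V : S'.Opens) (hU : IsAffineOpen U) (hV : IsAffineOpen V)
        (hUV : U ≤ f' ⁻¹ᵁ V),
        letI := (f'.appLE V U hUV).hom.toAlgebra
        LCI.IsLCI Γ(S', V) Γ(X', U))) :
    (∀ (U : X.Opens) (V : S.Opens) (hU : IsAffineOpen U) (hV : IsAffineOpen V) (hUV : U ≤ f ⁻¹ᵁ V),
        letI := (f.appLE V U hUV).hom.toAlgebra
        LCI.IsLCI Γ(S, V) Γ(X, U)) := by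
  classical
  intro U V hU hV hUV
  letI := (f.appLE V U hUV).hom.toAlgebra
  -- finite type
  have hft' : LocallyOfFiniteType f' := ⟨fun {V'} hV' {U'} hU' e => (hf' U' V' hU' hV' e).1⟩
  have hQ : (@Surjective ⊓ @Flat ⊓ @QuasiCompact : MorphismProperty Scheme.{u}) g :=
    ⟨⟨inferInstance, inferInstance⟩, inferInstance⟩
  have hft : LocallyOfFiniteType f :=
    MorphismProperty.of_isPullback_of_descendsAlong (P := @LocallyOfFiniteType)
      (Q := @Surjective ⊓ @Flat ⊓ @QuasiCompact) hc.flip hQ hft'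
  have hftR : Algebra.FiniteType Γ(S, V) Γ(X, U) := hft.finiteType_appLE hV hU hUV
  obtain ⟨s, hsfin, hs⟩ := isCompact_iff_finite_and_eq_biUnion_affineOpens.mp
    (g.isCompact_preimage hV.isCompact)
  haveI : Fintype ↥s := hsfin.fintype
  have hle : ∀ j : ↥s, j.1.1 ≤ g ⁻¹ᵁ V := fun j => by
    rw [hs]
    exact le_iSup₂ (f := fun (i : S'.affineOpens) (_ : i ∈ s) => (i : S'.Opens)) j.1 j.2
  letI : ∀ j : ↥s, Algebra Γ(S, V) Γ(S', j.1.1) :=
    fun j => (g.appLE V j.1.1 (hle j)).hom.toAlgebra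
  haveI : ∀ j : ↥s, Module.Flat Γ(S, V) Γ(S', j.1.1) :=
    fun j => g.flat_appLE hV j.1.2 (hle j)
  refine isLCI_of_family (fun j : ↥s => Γ(S', j.1.1)) ?_ hftR ?_
  · intro 𝔭 h𝔭
    obtain ⟨x', hx'⟩ := g.surjective (hV.fromSpec ⟨𝔭, h𝔭⟩)
    have hx'U : x' ∈ g ⁻¹ᵁ V := by
      show g x' ∈ V
      rw [hx']
      exact fromSpec_mem hV _
    rw [hs] at hx'U
    obtain ⟨V', hx'V⟩ := Opens.mem_iSup.mp hx'U
    obtain ⟨hVs, hx'V⟩ := Opens.mem_iSup.mp hx'V
    refine ⟨⟨V', hVs⟩, (V'.2.primeIdealOf ⟨x', hx'V⟩).asIdeal, inferInstance, ?_⟩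
    have h1 := IsAffineOpen.comap_primeIdealOf_appLE (f := g) (x := x') V hV V'.1 V'.2
      (hle ⟨V', hVs⟩) hx'V
    have h2 : hV.primeIdealOf ⟨g x', (hle ⟨V', hVs⟩) hx'V⟩ = ⟨𝔭, h𝔭⟩ := by
      have h3 := primeIdealOf_fromSpec hV ⟨𝔭, h𝔭⟩ (fromSpec_mem hV _)
      rw [← h3]
      congr 1
      exact Subtype.ext hx'
    rw [h2] at h1
    exact congrArg PrimeSpectrum.asIdeal h1
  · intro j
    exact lci_chart f f' g' g hc hf' U V hU hV hUV j.1.1 j.1.2 (hle j)

end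

open AlgebraicGeometry CategoryTheory Limits in
/-- Let S' → S be flat, surjective and quasi-compact and f' : X' → S' the base change of f : X → S. If
f' is a local complete intersection morphism (affine-locally: local complete intersection ring maps)
then so is f. -/
theorem result {X S X' S' : Scheme.{u}} (f : X ⟶ S) (f' : X' ⟶ S') (g' : X' ⟶ X) (g : S' ⟶ S)
    [Flat g] [Surjective g] [QuasiCompact g] (hc : IsPullback g' f' f g)
    (hf' : (∀ (U : X'.Opens) (V : S'.Opens) (hU : IsAffineOpen U) (hV : IsAffineOpen V) (hUV : U ≤ f' ⁻¹ᵁ V),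
        letI := (f'.appLE V U hUV).hom.toAlgebra
        LCI.IsLCI Γ(S', V) Γ(X', U))) :
    (∀ (U : X.Opens) (V : S.Opens) (hU : IsAffineOpen U) (hV : IsAffineOpen V) (hUV : U ≤ f ⁻¹ᵁ V),
        letI := (f.appLE V U hUV).hom.toAlgebra
        LCI.IsLCI Γ(S, V) Γ(X, U)) := by
  exact Groth.Agent.S1492.main f f' g' g hc hf'

end Groth.Agent.S1492
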