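import Groth.Statements.S12288
import Groth.Agent.Lib.Helper18.CotT.T2Indep
import Groth.Agent.Lib.Helper18.CotT.GenLift
import Groth.Agent.Lib.Helper18.CotT.Regular

set_option autoImplicit false
universe u w m
open scoped TensorProduct
open DefT

namespace Groth.Agent.S12288

/-- Let A be a local ring and A → B a surjective ring homomorphism whose kernel is generated by a
regular sequence a_1, …, a_r on A (each a_i is a non-zero-divisor on A/(a_1, …, a_{i-1}) and the
ideal is proper). Then T^2(B/A, M) = 0 for every B-module M, the module being computed from the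
choice-free presentation of B over A. -/
theorem result
    (A B : Type u) [CommRing A] [IsLocalRing A] [CommRing B] [Algebra A B]
    (hs : Function.Surjective (algebraMap A B)) (rs : List A) (hreg : RingTheory.Sequence.IsRegular A rs)
    (hI : RingHom.ker (algebraMap A B) = Ideal.ofList rs) (M : Type u) [AddCommGroup M] [Module B M] :
    Subsingleton (CotT.T2 (CotT.canon A B) M) := by
  classical
  -- a presentation with no variables and all kernel elements as relations
  let G : Algebra.Generators A B PEmpty.{1} := Algebra.Generators.ofSurjectiveAlgebraMap hs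
  let P₀ : Algebra.Presentation A B PEmpty.{1} G.ker :=
    { toGenerators := G
      relation := Subtype.val
      span_range_relation_eq_ker := by
        rw [Subtype.range_val]
        exact Ideal.span_eq _ }
  obtain ⟨e₁⟩ := Helper18.GenT.nonempty_T2_equiv (CotT.canon A B) P₀ M
  -- pass to the ring `A` itself with relations `rs`
  let e : P₀.toExtension.Ring ≃+* A := MvPolynomial.isEmptyRingEquiv A PEmpty.{1}
  have he : ∀ p, algebraMap A B (e p) = algebraMap P₀.toExtension.Ring B p := by
    intro p
    obtain ⟨r, rfl⟩ := e.symm.surjective p
    rw [RingEquiv.apply_symm_apply]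
    have h1 : e.symm r = MvPolynomial.C r := MvPolynomial.isEmptyRingEquiv_symm_apply _ _ r
    rw [h1]
    exact (Helper18.GenT.presentation_algebraMap_C P₀ r).symm
  have hker' : Ideal.span (Set.range rs.get) = RingHom.ker (algebraMap A B) := by
    rw [hI, Set.range_list_get]
  have hrel₀ : ∀ s, algebraMap A B (rs.get s) = 0 := by
    intro s
    have : rs.get s ∈ RingHom.ker (algebraMap A B) := by
      rw [← hker']
      exact Ideal.subset_span ⟨s, rfl⟩
    exact this
  obtain ⟨e₂⟩ := Helper18.GenT.nonempty_T2equiv_of_ringEquiv (CotT.algebraMap_rel P₀) hrel₀ M e he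
    P₀.span_range_relation_eq_ker hker'
  have hreg' : RingTheory.Sequence.IsWeaklyRegular A (List.ofFn rs.get) := by
    rw [List.ofFn_get]
    exact hreg.toIsWeaklyRegular
  have hsub : Subsingleton (Helper18.GenT.gT2 rs.get hrel₀ M) :=
    Helper18.GenT.subsingleton_gT2_of_gQ_le_gF0 rs.get hrel₀ M
      (Helper18.GenT.gQ_le_gF0_of_isWeaklyRegular rs.get hreg')
  exact (e₁.trans e₂).toEquiv.subsingleton


end Groth.Agent.S12288
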