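import Groth.Statements.S5803
import Groth.Agent.Lib.Helper6.QReg
import Groth.Agent.Lib.Lead.Depth17

set_option autoImplicit false
universe u
open EGA41

namespace Groth.Agent.S5803

open MvPolynomial RingTheory.Sequence Groth.Agent.Helper6.QReg

section
variable {A : Type u} [CommRing A]

/-- coefficients of `G` from those of `X i * G`. -/
theorem mem_map_of_X_mul {c : ℕ} (J : Ideal A) (G : MvPolynomial (Fin (c + 1)) A)
    (i : Fin (c + 1)) (h : ∀ d, coeff d (X i * G) ∈ J) : G ∈ Ideal.map C J := by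
  rw [mem_map_C_iff]
  intro d
  have := h (Finsupp.single i 1 + d)
  rwa [coeff_X_mul] at this

/-- `(J^ν : f 0) ⊆ J^(ν-1)` for a quasi-regular sequence. -/
theorem mem_pow_of_mul_mem {c : ℕ} (f : Fin (c + 1) → A) (hq : CAlgX.IsQuasiRegular f) (ν : ℕ)
    (ω : A) (h : f 0 * ω ∈ Ideal.span (Set.range f) ^ ν) :
    ∀ i, i + 1 ≤ ν → ω ∈ Ideal.span (Set.range f) ^ i := by
  intro i
  induction i with
  | zero => intro _; rw [pow_zero, Ideal.one_eq_top]; trivial
  | succ i ih =>
    intro hi
    have h1 := ih (by omega)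
    obtain ⟨G, hG, hGe⟩ := (Ideal.mem_span_pow_iff_exists_isHomogeneous f ω).1 h1
    have hP : (X 0 * G).IsHomogeneous (i + 1) := by
      have := (isHomogeneous_X A (0 : Fin (c + 1))).mul hG
      rwa [Nat.add_comm 1 i] at this
    have hev : eval f (X 0 * G) ∈ Ideal.span (Set.range f) ^ (i + 1 + 1) := by
      rw [map_mul, eval_X, hGe]
      exact Ideal.pow_le_pow_right hi h
    have hco := hq (i + 1) (X 0 * G) hP hev
    rw [← hGe]
    exact eval_mem_pow_succ f i G hG (mem_map_of_X_mul _ G 0 hco)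

theorem isSMulRegular_head {c : ℕ} (f : Fin (c + 1) → A) (hq : CAlgX.IsQuasiRegular f)
    (hsep : (⨅ i : ℕ, Ideal.span (Set.range f) ^ i) = ⊥) : IsSMulRegular A (f 0) := by
  rw [isSMulRegular_iff_right_eq_zero_of_smul]
  intro ω hω
  rw [smul_eq_mul] at hω
  have h1 : ω ∈ (⨅ i : ℕ, Ideal.span (Set.range f) ^ i) := by
    rw [Submodule.mem_iInf]
    intro i
    refine mem_pow_of_mul_mem f hq (i + 1) ω ?_ i le_rfl
    rw [hω]
    exact Ideal.zero_mem _
  rw [hsep] at h1
  exact (Submodule.mem_bot A).1 h1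

theorem isQuasiRegular_tail {c : ℕ} (f : Fin (c + 1) → A) (hq : CAlgX.IsQuasiRegular f) :
    CAlgX.IsQuasiRegular
      (fun i : Fin c => Ideal.Quotient.mk (Ideal.span {f 0}) (f i.succ)) := by
  classical
  obtain ⟨mk, hmk⟩ : ∃ mk : A →+* A ⧸ Ideal.span {f 0},
    mk = Ideal.Quotient.mk (Ideal.span {f 0}) := ⟨_, rfl⟩
  have hsurj : Function.Surjective mk := by rw [hmk]; exact Ideal.Quotient.mk_surjective
  obtain ⟨J, hJ⟩ : ∃ J, J = Ideal.span (Set.range f) := ⟨_, rfl⟩
  obtain ⟨f', hf'⟩ : ∃ f' : Fin c → A, f' = fun i => f i.succ := ⟨_, rfl⟩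
  obtain ⟨J', hJ'⟩ : ∃ J', J' = Ideal.span (Set.range f') := ⟨_, rfl⟩
  have hf's : ∀ i, f' i = f i.succ := fun i => by rw [hf']
  have hJ'J : J' ≤ J := by
    rw [hJ', hJ]
    apply Ideal.span_mono
    rintro _ ⟨i, rfl⟩
    exact ⟨i.succ, (hf's i).symm⟩
  obtain ⟨g, hg⟩ : ∃ g : Fin c → A ⧸ Ideal.span {f 0}, g = fun i => mk (f' i) := ⟨_, rfl⟩
  have hgs : ∀ i, g i = mk (f' i) := fun i => by rw [hg]
  have hJg : ∀ x ∈ J, mk x ∈ Ideal.span (Set.range g) := by
    intro x hx
    have hle : J ≤ Ideal.comap mk (Ideal.span (Set.range g)) := by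
      rw [hJ, Ideal.span_le]
      rintro _ ⟨i, rfl⟩
      rw [SetLike.mem_coe, Ideal.mem_comap]
      refine Fin.cases ?_ (fun j => ?_) i
      · have h0 : mk (f 0) = 0 := by
          rw [hmk]
          exact Ideal.Quotient.eq_zero_iff_mem.2 (Ideal.mem_span_singleton_self _)
        rw [h0]
        exact Ideal.zero_mem _
      · exact Ideal.subset_span ⟨j, by rw [hgs, hf's]⟩
    exact hle hx
  have hgJ' : Ideal.span (Set.range g) = Ideal.map mk J' := by
    rw [hJ', Ideal.map_span]
    congr 1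
    ext x
    constructor
    · rintro ⟨i, rfl⟩
      exact ⟨f' i, ⟨i, rfl⟩, (hgs i).symm⟩
    · rintro ⟨_, ⟨i, rfl⟩, rfl⟩
      exact ⟨i, hgs i⟩
  have hgoal : (fun i : Fin c => Ideal.Quotient.mk (Ideal.span {f 0}) (f i.succ)) = g := by
    rw [hg, hf', hmk]
  rw [hgoal]
  intro n P hP hev d
  obtain ⟨s, hs⟩ : ∃ s : (A ⧸ Ideal.span {f 0}) → A, ∀ b, mk (s b) = b :=
    ⟨Function.surjInv hsurj, Function.surjInv_eq hsurj⟩
  obtain ⟨Pt, hPt⟩ : ∃ Pt : MvPolynomial (Fin c) A,
    Pt = ∑ e ∈ P.support, monomial e (s (coeff e P)) := ⟨_, rfl⟩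
  have hPt_hom : Pt.IsHomogeneous n := by
    rw [hPt]
    exact IsHomogeneous.sum _ _ _
      (fun e he => isHomogeneous_monomial _ (degree_of_mem_support hP he))
  have hPt_map : map mk Pt = P := by
    rw [hPt, map_sum]
    conv_rhs => rw [← P.support_sum_monomial_coeff]
    refine Finset.sum_congr rfl (fun e _ => ?_)
    rw [map_monomial, hs]
  have hev1 : eval g P = mk (eval f' Pt) := by
    rw [← hPt_map, eval_map]
    have h1 := eval₂_comp_left mk (RingHom.id A) f' Pt
    rw [RingHom.comp_id, eval₂_id] at h1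
    rw [h1, hg]
    rfl
  have hev2 : mk (eval f' Pt) ∈ Ideal.map mk (J' ^ (n + 1)) := by
    rw [Ideal.map_pow, ← hgJ', ← hev1]
    exact hev
  obtain ⟨y, hy, hye⟩ := (Ideal.mem_map_iff_of_surjective mk hsurj).1 hev2
  have hdiff : eval f' Pt - y ∈ Ideal.span {f 0} := by
    have h0 : mk (eval f' Pt - y) = 0 := by rw [map_sub, hye, sub_self]
    rw [hmk] at h0
    exact Ideal.Quotient.eq_zero_iff_mem.1 h0
  obtain ⟨ω, hω⟩ := Ideal.mem_span_singleton'.1 hdiff
  have hyJ : y ∈ J ^ (n + 1) := Ideal.pow_right_mono hJ'J (n + 1) hy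
  have hPtJ : eval f' Pt ∈ J ^ n := by
    have h0 := eval_mem_pow f' n Pt hPt_hom
    rw [← hJ'] at h0
    exact Ideal.pow_right_mono hJ'J n h0
  have hmul : f 0 * ω ∈ J ^ n := by
    rw [mul_comm, hω]
    exact Ideal.sub_mem _ hPtJ (Ideal.pow_le_pow_right (Nat.le_succ n) hyJ)
  have hf0J : f 0 ∈ J := by rw [hJ]; exact Ideal.subset_span ⟨0, rfl⟩
  have key : coeff d Pt ∈ J := by
    cases n with
    | zero =>
      have htd : Pt.totalDegree = 0 := Nat.le_zero.1 hPt_hom.totalDegree_le
      have hC := totalDegree_eq_zero_iff_eq_C.1 htd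
      by_cases hd : d = 0
      · have he : eval f' Pt = coeff 0 Pt := by
          conv_lhs => rw [hC]
          rw [eval_C]
        rw [hd, ← he]
        have h2 : eval f' Pt = y + ω * f 0 := by rw [hω]; ring
        rw [h2]
        refine Ideal.add_mem _ ?_ (Ideal.mul_mem_left _ _ hf0J)
        have h3 := hyJ
        rw [zero_add, pow_one] at h3
        exact h3
      · rw [hC, coeff_C, if_neg (Ne.symm hd)]
        exact Ideal.zero_mem _
    | succ m =>
      have hωm : ω ∈ Ideal.span (Set.range f) ^ m := by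
        rw [hJ] at hmul
        exact mem_pow_of_mul_mem f hq (m + 1) ω hmul m le_rfl
      obtain ⟨G, hG, hGe⟩ := (Ideal.mem_span_pow_iff_exists_isHomogeneous f ω).1 hωm
      obtain ⟨H, hH⟩ : ∃ H : MvPolynomial (Fin (c + 1)) A,
        H = rename Fin.succ Pt - X 0 * G := ⟨_, rfl⟩
      have hHhom : H.IsHomogeneous (m + 1) := by
        rw [hH]
        refine (hPt_hom.rename_isHomogeneous).sub ?_
        have h0 := (isHomogeneous_X A (0 : Fin (c + 1))).mul hG
        rwa [Nat.add_comm 1 m] at h0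
      have hHev : eval f H ∈ Ideal.span (Set.range f) ^ (m + 1 + 1) := by
        have h0 : eval f H = y := by
          rw [hH, map_sub, eval_rename, map_mul, eval_X, hGe]
          have h1 : f ∘ Fin.succ = f' := by rw [hf']; rfl
          rw [h1, mul_comm, hω]
          ring
        rw [h0, ← hJ]
        exact hyJ
      have hco := hq (m + 1) H hHhom hHev (Finsupp.mapDomain Fin.succ d)
      rw [hH, coeff_sub, coeff_rename_mapDomain _ (Fin.succ_injective _), coeff_X_mul', if_neg,
        sub_zero] at hco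
      · rw [hJ]
        exact hco
      · rw [Finsupp.mem_support_iff, not_not]
        exact Finsupp.mapDomain_of_notMem_range _ _
          (by rintro ⟨j, hj⟩; exact Fin.succ_ne_zero j hj)
  have hfin : coeff d P = mk (coeff d Pt) := by rw [← hPt_map, coeff_map]
  rw [hfin]
  exact hJg _ key

end

theorem main : ∀ (c : ℕ) (A : Type u) [CommRing A] [IsNoetherianRing A] (f : Fin c → A),
    (∀ i, f i ∈ Ring.jacobson A) → CAlgX.IsQuasiRegular f →
    IsWeaklyRegular A (List.ofFn f) := by
  intro c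
  induction c with
  | zero =>
    intro A _ _ f _ _
    rw [List.ofFn_zero]
    exact IsWeaklyRegular.nil A A
  | succ c ih =>
    intro A _ _ f hf hq
    rw [List.ofFn_succ, isWeaklyRegular_cons_iff]
    have hJle : Ideal.span (Set.range f) ≤ Ideal.jacobson ⊥ := by
      rw [Ideal.jacobson_bot, Ideal.span_le]
      rintro _ ⟨i, rfl⟩
      exact hf i
    have hsep : (⨅ i : ℕ, Ideal.span (Set.range f) ^ i) = ⊥ := by
      have h0 := Ideal.iInf_pow_smul_eq_bot_of_le_jacobson (M := A)
        (Ideal.span (Set.range f)) hJle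
      rw [eq_bot_iff] at h0 ⊢
      intro x hx
      apply h0
      rw [Submodule.mem_iInf] at hx ⊢
      intro i
      have h1 := hx i
      rw [smul_eq_mul, Ideal.mul_top]
      exact h1
    refine ⟨isSMulRegular_head f hq hsep, ?_⟩
    have hq' := isQuasiRegular_tail f hq
    have hjac : ∀ i : Fin c, Ideal.Quotient.mk (Ideal.span {f 0}) (f i.succ) ∈
        Ring.jacobson (A ⧸ Ideal.span {f 0}) := by
      intro i
      rw [← Ideal.jacobson_bot, Ideal.mem_jacobson_bot]
      intro y
      obtain ⟨y', rfl⟩ := Ideal.Quotient.mk_surjective y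
      have h1 : f i.succ ∈ Ideal.jacobson (⊥ : Ideal A) := by
        rw [Ideal.jacobson_bot]
        exact hf _
      have h2 := (Ideal.mem_jacobson_bot.1 h1) y'
      have h3 := h2.map (Ideal.Quotient.mk (Ideal.span {f 0}))
      rw [map_add, map_mul, map_one] at h3
      exact h3
    have h3 := ih (A ⧸ Ideal.span {f 0}) _ hjac hq'
    have h4 : (List.ofFn fun i : Fin c => Ideal.Quotient.mk (Ideal.span {f 0}) (f i.succ)) =
        (List.ofFn fun i : Fin c => f i.succ).map (algebraMap A (A ⧸ Ideal.span {f 0})) := by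
      rw [List.map_ofFn]
      rfl
    rw [h4, isWeaklyRegular_map_algebraMap_iff] at h3
    exact ((Groth.Agent.Lead.Depth.quotSpanSelfEquiv (f 0)).isWeaklyRegular_congr _).1 h3

end Groth.Agent.S5803


namespace Groth.Agent.S5803

/-- Case M = A: let A be a Noetherian ring and (f_i)_{1 ≤ i ≤ c} a finite sequence of elements of the
Jacobson radical of A. Then (f_i) is a regular sequence if it is quasi-regular (and conversely every
regular sequence is quasi-regular). -/
theorem result (A : Type u) [CommRing A] [IsNoetherianRing A]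
    (c : ℕ) (f : Fin c → A) (hf : ∀ i, f i ∈ Ring.jacobson A) (hq : CAlgX.IsQuasiRegular f) :
    RingTheory.Sequence.IsWeaklyRegular A (List.ofFn f) := by
  exact main c A f hf hq

end Groth.Agent.S5803
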