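import Groth.Statements.S12287
import Groth.Agent.S12283

set_option autoImplicit false
universe u w m
open scoped TensorProduct
open DefT

namespace Groth.Agent.S12287

/-- Let B be an A-algebra that is isomorphic over A to a polynomial ring A[x_j] in some set of
variables. Then for every B-module M the modules T^1(B/A, M) and T^2(B/A, M), computed from the
choice-free presentation of B over A (every element of B a variable, every element of the kernel a
relation), are zero. -/
theorem result
    (A B : Type u) [CommRing A] [CommRing B] [Algebra A B] (κ : Type u) (e : MvPolynomial κ A ≃ₐ[A] B)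
    (M : Type u) [AddCommGroup M] [Module B M] :
    Subsingleton (CotT.T1 (CotT.canon A B) M) ∧ Subsingleton (CotT.T2 (CotT.canon A B) M) := by
  classical
  -- the presentation with generators `κ` and no relations
  have hsurj : Function.Surjective (MvPolynomial.aeval (R := A) (fun k : κ => e (MvPolynomial.X k))) := by
    intro b
    refine ⟨e.symm b, ?_⟩
    have : MvPolynomial.aeval (R := A) (fun k : κ => e (MvPolynomial.X k)) = (e : MvPolynomial κ A →ₐ[A] B) := by
      apply MvPolynomial.algHom_ext
      intro k
      simp
    rw [this]
    simp
  let G : Algebra.Generators A B κ := Algebra.Generators.ofSurjective _ hsurj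
  let P' : Algebra.Presentation A B κ PEmpty.{u + 1} :=
    { toGenerators := G
      relation := PEmpty.elim
      span_range_relation_eq_ker := by
        have hr : Set.range (PEmpty.elim : PEmpty.{u + 1} → G.Ring) = ∅ := Set.range_eq_empty _
        rw [hr, Ideal.span_empty, G.ker_eq_ker_aeval_val]
        symm
        rw [RingHom.ker_eq_bot_iff_eq_zero]
        intro x hx
        have h2 : MvPolynomial.aeval (R := A) G.val = (e : MvPolynomial κ A →ₐ[A] B) := by
          apply MvPolynomial.algHom_ext
          intro k
          simp [G, Algebra.Generators.ofSurjective]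
        rw [h2] at hx
        exact (map_eq_zero_iff _ e.injective).1 hx }
  obtain ⟨_, ⟨e1⟩, ⟨e2⟩⟩ := Groth.Agent.S12283.result A B B (CotT.CanonRels A B) κ PEmpty.{u + 1}
    (CotT.canon A B) P' M
  haveI hF : Subsingleton (CotT.relMod P') := by
    unfold CotT.relMod
    infer_instance
  haveI hL1 : Subsingleton (CotT.L1 P') := by
    unfold CotT.L1
    infer_instance
  haveI hQ : Subsingleton (CotT.relKer P') := inferInstance
  haveI hBQ : Subsingleton (TensorProduct P'.toExtension.Ring B (CotT.relKer P')) := inferInstance
  haveI hL2 : Subsingleton (CotT.L2 P') := by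
    unfold CotT.L2
    infer_instance
  haveI h1 : Subsingleton (CotT.T1 P' M) := by
    unfold CotT.T1
    infer_instance
  haveI h2 : Subsingleton (CotT.T2 P' M) := by
    unfold CotT.T2
    infer_instance
  exact ⟨e1.toEquiv.subsingleton, e2.toEquiv.subsingleton⟩


end Groth.Agent.S12287
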