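import Groth.Statements.S12289

set_option autoImplicit false
universe u w m
open scoped TensorProduct
open DefT

namespace Groth.Agent.S12289

/-- Let k be a commutative ring and B a k-algebra presented as R/I with R = k[x_i] a polynomial ring
(any set of variables) and chosen generators of I, and let M be a B-module; T^0(B/k, M) and T^1(B/k,
M) are computed from this presentation. Then the sequence 0 → T^0(B/k, M) → Hom_B(Ω_{R/k} ⊗_R B, M)
→ Hom_B(I/I², M) → T^1(B/k, M) → 0 is exact, where the middle map is composition with the conormal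
map d : I/I² → Ω_{R/k} ⊗_R B and the last map sends φ to the class of φ ∘ (F/IF → I/I²): the
submodule T^0(B/k, M) of Hom_B(Ω_{R/k} ⊗ B, M) is the kernel of composition with d, the kernel of
Hom_B(I/I², M) → T^1(B/k, M) is the image of composition with d, and Hom_B(I/I², M) → T^1(B/k, M) is
surjective. (The published statement takes finitely many variables over a field and adds that the
same holds over any base ring; this row allows any base ring and any set of variables.) -/
theorem result
    (k B : Type u) [CommRing k] [CommRing B] [Algebra k B] (ι σ : Type w) (P : Algebra.Presentation k B ι σ)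
    (M : Type m) [AddCommGroup M] [Module B M] :
    LinearMap.ker (CotT.d1Star P M) = LinearMap.ker (LinearMap.lcomp B M P.toExtension.cotangentComplex) ∧
    LinearMap.ker (CotT.homToT1 P M) = LinearMap.range (LinearMap.lcomp B M P.toExtension.cotangentComplex) ∧
    Function.Surjective (CotT.homToT1 P M) := by
  -- toCot is surjective
  have htoCot : Function.Surjective (CotT.toCot P) := by
    intro x
    obtain ⟨⟨r, hr⟩, rfl⟩ := Algebra.Extension.Cotangent.mk_surjective x
    have hr' : r ∈ LinearMap.range (CotT.jmap P) := by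
      rw [CotT.range_jmap]; exact hr
    obtain ⟨f, rfl⟩ := hr'
    refine ⟨(1 : B) ⊗ₜ f, ?_⟩
    rw [CotT.toCot_tmul, one_smul]
    rfl
  -- every element of L1 is 1 ⊗ f
  have hone : ∀ y : CotT.L1 P, ∃ f : CotT.relMod P, y = (1 : B) ⊗ₜ f := by
    intro y
    induction y using TensorProduct.induction_on with
    | zero => exact ⟨0, by simp⟩
    | tmul b f =>
      obtain ⟨r, rfl⟩ := P.toExtension.algebraMap_surjective b
      refine ⟨r • f, ?_⟩
      rw [TensorProduct.tmul_smul, TensorProduct.smul_tmul', Algebra.smul_def, mul_one]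
    | add y z hy hz =>
      obtain ⟨f, rfl⟩ := hy
      obtain ⟨g, rfl⟩ := hz
      exact ⟨f + g, by rw [TensorProduct.tmul_add]⟩
  -- elements of I^2 are j of something dying in L1
  have hsq : ∀ x : P.toExtension.Ring, x ∈ P.toExtension.ker ^ 2 →
      ∃ g : CotT.relMod P, CotT.jmap P g = x ∧ ((1 : B) ⊗ₜ[P.toExtension.Ring] g : CotT.L1 P) = 0 := by
    intro x hx
    rw [pow_two] at hx
    refine Submodule.mul_induction_on hx ?_ ?_
    · intro a ha b hb
      have hb' : b ∈ LinearMap.range (CotT.jmap P) := by
        rw [CotT.range_jmap]; exact hb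
      obtain ⟨f, rfl⟩ := hb'
      refine ⟨a • f, by rw [map_smul, smul_eq_mul], ?_⟩
      rw [TensorProduct.tmul_smul, TensorProduct.smul_tmul', Algebra.smul_def, mul_one]
      have : algebraMap P.toExtension.Ring B a = 0 := ha
      rw [this, TensorProduct.zero_tmul]
    · rintro x y ⟨g, hg, hg0⟩ ⟨g', hg', hg0'⟩
      exact ⟨g + g', by rw [map_add, hg, hg'], by rw [TensorProduct.tmul_add, hg0, hg0', add_zero]⟩
  -- kernel of toCot is contained in range of d2
  have hkerle : LinearMap.ker (CotT.toCot P) ≤ LinearMap.range (CotT.d2 P) := by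
    intro y hy
    obtain ⟨f, rfl⟩ := hone y
    rw [LinearMap.mem_ker, CotT.toCot_tmul, one_smul, Algebra.Extension.Cotangent.mk_eq_zero_iff] at hy
    obtain ⟨g, hg, hg0⟩ := hsq _ hy
    have hq : f - g ∈ CotT.relKer P := by
      show CotT.jmap P (f - g) = 0
      rw [map_sub, hg]
      exact sub_self _
    refine ⟨Submodule.Quotient.mk ((1 : B) ⊗ₜ (⟨f - g, hq⟩ : CotT.relKer P)), ?_⟩
    rw [CotT.d2_mk_tmul]
    show (1 : B) ⊗ₜ[P.toExtension.Ring] (f - g) = (1 : B) ⊗ₜ[P.toExtension.Ring] f
    rw [TensorProduct.tmul_sub, hg0, sub_zero]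
  refine ⟨?_, ?_, ?_⟩
  · ext φ
    simp only [LinearMap.mem_ker, CotT.d1Star_apply, LinearMap.lcomp_apply']
    constructor
    · intro h
      ext x
      obtain ⟨y, rfl⟩ := htoCot x
      have := congrArg (fun ψ => ψ y) h
      simpa [CotT.d1] using this
    · intro h
      rw [CotT.d1, ← LinearMap.comp_assoc, h, LinearMap.zero_comp]
  · ext φ
    constructor
    · intro h
      rw [LinearMap.mem_ker, CotT.homToT1, LinearMap.comp_apply, Submodule.mkQ_apply,
        Submodule.Quotient.mk_eq_zero] at h
      obtain ⟨ψ, hψ⟩ := h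
      refine ⟨ψ, ?_⟩
      ext x
      obtain ⟨y, rfl⟩ := htoCot x
      have := congrArg (fun χ : CotT.L1 P →ₗ[B] M => χ y) hψ
      simpa [CotT.d1] using this
    · rintro ⟨ψ, rfl⟩
      rw [LinearMap.mem_ker, CotT.homToT1, LinearMap.comp_apply, Submodule.mkQ_apply,
        Submodule.Quotient.mk_eq_zero]
      refine ⟨ψ, ?_⟩
      ext y
      simp [CotT.d1]
  · intro c
    obtain ⟨⟨c, hc⟩, rfl⟩ := Submodule.Quotient.mk_surjective _ c
    rw [LinearMap.mem_ker, CotT.d2Star_apply] at hc
    -- c vanishes on ker toCot
    have hcker : LinearMap.ker (CotT.toCot P) ≤ LinearMap.ker c := by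
      intro y hy
      obtain ⟨z, rfl⟩ := hkerle hy
      rw [LinearMap.mem_ker]
      exact congrArg (fun χ => χ z) hc
    let φ : P.toExtension.Cotangent →ₗ[B] M :=
      ((LinearMap.ker (CotT.toCot P)).liftQ c hcker) ∘ₗ
        ((CotT.toCot P).quotKerEquivOfSurjective htoCot).symm.toLinearMap
    have hφ : ∀ y, φ (CotT.toCot P y) = c y := by
      intro y
      simp only [φ, LinearMap.comp_apply, LinearEquiv.coe_coe]
      have : ((CotT.toCot P).quotKerEquivOfSurjective htoCot).symm (CotT.toCot P y) =
          Submodule.Quotient.mk y := by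
        rw [LinearEquiv.symm_apply_eq]
        rfl
      rw [this, Submodule.liftQ_apply]
    refine ⟨φ, ?_⟩
    rw [CotT.homToT1, LinearMap.comp_apply, Submodule.mkQ_apply]
    congr 1
    apply Subtype.ext
    ext y
    exact hφ y


end Groth.Agent.S12289
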