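import Groth.Statements.S9141
import Mathlib
import Groth.Agent.Lib.Helper2.CMGlue
import Groth.Agent.Lib.Helper26.GCI5
-- import your own Groth.Agent.* helpers here

set_option autoImplicit false
universe u
open Synt

namespace Groth.Agent.S9141

section

open MvPolynomial Groth.Agent.Helper26.GCI

variable {k : Type u} [Field k]

theorem ringKrullDim_mvPolynomial (N : ℕ) :
    ringKrullDim (MvPolynomial (Fin N) k) = ((N : ℕ) : WithBot ℕ∞) := by
  rw [MvPolynomial.ringKrullDim_of_isNoetherianRing, ringKrullDim_eq_zero_of_field, zero_add,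
    Nat.card_fin]

/-- lower bound for the dimension of a quotient of a polynomial ring by `C` elements -/
theorem le_dim_quot (N C : ℕ) (I : Ideal (MvPolynomial (Fin N) k)) (r : Fin C → MvPolynomial (Fin N) k)
    (hI : I = Ideal.span (Set.range r)) (hne : I ≠ ⊤) :
    ((N - C : ℕ) : WithBot ℕ∞) ≤ ringKrullDim (MvPolynomial (Fin N) k ⧸ I) := by
  classical
  obtain ⟨Q, hQ⟩ := Ideal.nonempty_minimalPrimes hne
  haveI : Q.IsPrime := hQ.1.1
  have h1 : Q.height ≤ (C : ℕ∞) := by
    have hs : I = Ideal.span ((Finset.univ.image r : Finset _) : Set _) := by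
      rw [hI, Finset.coe_image, Finset.coe_univ, Set.image_univ]
    have hQ' := hQ
    rw [hs] at hQ'
    refine (Ideal.height_le_card_of_mem_minimalPrimes_span_finset hQ').trans ?_
    exact_mod_cast (Finset.card_image_le.trans (by simp))
  obtain ⟨c, hc⟩ := Groth.Agent.Lib.Helper2.CMGlue.exists_dim_nat k
    (MvPolynomial (Fin N) k) Q
  have h2 := Groth.Agent.Lib.Helper2.CMGlue.affine_height k
    (MvPolynomial (Fin N) k) Q N c (ringKrullDim_mvPolynomial N) hc
  have hfin : Q.height ≠ ⊤ := by
    intro htop
    rw [htop, top_add] at h2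
    exact ENat.top_ne_natCast N h2
  obtain ⟨e', he'⟩ := ENat.ne_top_iff_exists.mp hfin
  rw [← he'] at h1 h2
  have h3 : e' ≤ C := by exact_mod_cast h1
  have h4 : e' + c = N := by exact_mod_cast h2
  have h5 : ringKrullDim (MvPolynomial (Fin N) k ⧸ Q) ≤
      ringKrullDim (MvPolynomial (Fin N) k ⧸ I) :=
    ringKrullDim_le_of_surjective (Ideal.Quotient.factor hQ.1.2)
      (Ideal.Quotient.factor_surjective _)
  rw [hc] at h5
  refine le_trans ?_ h5
  exact_mod_cast (by omega : N - C ≤ c)

/-- lower bound for the dimension of a nontrivial algebra with a finite presentation -/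
theorem le_dim_of_presentation {T : Type u} [CommRing T] [Algebra k T] [Nontrivial T] (N C : ℕ)
    (P : Algebra.Presentation k T (Fin N) (Fin C)) :
    ((N - C : ℕ) : WithBot ℕ∞) ≤ ringKrullDim T := by
  have hsurj : Function.Surjective (aeval P.val : MvPolynomial (Fin N) k →ₐ[k] T) :=
    P.aeval_val_surjective
  have hker : RingHom.ker (aeval P.val : MvPolynomial (Fin N) k →ₐ[k] T).toRingHom =
      Ideal.span (Set.range P.relation) := by
    rw [P.span_range_relation_eq_ker, Algebra.Generators.ker_eq_ker_aeval_val]
    rfl
  have hne : RingHom.ker (aeval P.val : MvPolynomial (Fin N) k →ₐ[k] T).toRingHom ≠ ⊤ :=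
    RingHom.ker_ne_top _
  have h1 := le_dim_quot N C _ P.relation hker hne
  rwa [ringKrullDim_eq_of_ringEquiv (RingHom.quotientKerEquivOfSurjective hsurj)] at h1

/-- localization away from an element preserves `GoodAlg` (if nontrivial) -/
theorem goodAlg_away {S : Type u} [CommRing S] [Algebra k S] (h : GoodAlg k S) (g : S)
    [Nontrivial (Localization.Away g)] : GoodAlg k (Localization.Away g) := by
  obtain ⟨n, c, ⟨P⟩, hcn, hd⟩ := h
  let Q := Algebra.Presentation.localizationAway (Localization.Away g) g
  have e1 : Fintype.card (Unit ⊕ Fin n) = 1 + n := by simp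
  have e2 : Fintype.card (Unit ⊕ Fin c) = 1 + c := by simp
  let P' : Algebra.Presentation k (Localization.Away g) (Fin (1 + n)) (Fin (1 + c)) :=
    (Q.comp P).reindex (Fintype.equivFinOfCardEq e1).symm (Fintype.equivFinOfCardEq e2).symm
  refine ⟨1 + n, 1 + c, ⟨P'⟩, by omega, ?_⟩
  apply le_antisymm
  · refine (ringKrullDim_le_of_isLocalization (Submonoid.powers g) (Localization.Away g)).trans ?_
    rw [hd]
    exact_mod_cast (by omega : n - c ≤ 1 + n - (1 + c))
  · exact le_dim_of_presentation (1 + n) (1 + c) P'

/-- a global complete intersection presentation gives `GoodAlg` -/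
theorem goodAlg_of_presentation {S : Type u} [CommRing S] [Algebra k S] (n c : ℕ) (hcn : c ≤ n)
    (φ : MvPolynomial (Fin n) k →ₐ[k] S) (r : Fin c → MvPolynomial (Fin n) k)
    (hφ : Function.Surjective φ) (hker : RingHom.ker φ.toRingHom = Ideal.span (Set.range r))
    (hdim : ringKrullDim S = ((n - c : ℕ) : WithBot ℕ∞)) : GoodAlg k S := by
  have hφ' : φ = aeval (fun i => φ (X i)) := by
    apply MvPolynomial.algHom_ext
    intro i
    rw [aeval_X]
  have hs : Function.Surjective (aeval (fun i => φ (X i)) : MvPolynomial (Fin n) k →ₐ[k] S) := by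
    rw [← hφ']; exact hφ
  let G : Algebra.Generators k S (Fin n) := Algebra.Generators.ofSurjective (fun i => φ (X i)) hs
  refine ⟨n, c, ⟨{ toGenerators := G, relation := r, span_range_relation_eq_ker := ?_ }⟩, hcn, hdim⟩
  rw [Algebra.Generators.ker_eq_ker_aeval_val, ← hker]
  show RingHom.ker φ.toRingHom = RingHom.ker (aeval (fun i => φ (X i)) : MvPolynomial (Fin n) k →ₐ[k] S)
  rw [← hφ']
  rfl

/-- part 1 -/
theorem globalCI_away {S : Type u} [CommRing S] [Algebra k S] (g : S)
    (h : Synt.IsGlobalCI k S) : Synt.IsGlobalCI k (Localization.Away g) := by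
  by_cases hsub : Subsingleton (Localization.Away g)
  · exact Or.inl hsub
  · haveI : Nontrivial (Localization.Away g) := not_subsingleton_iff_nontrivial.mp hsub
    rcases h with h | ⟨n, c, hcn, φ, r, hφ, hker, hdim⟩
    · exfalso
      haveI := h
      apply hsub
      exact (algebraMap S (Localization.Away g)).codomain_trivial
    · have hG := goodAlg_of_presentation n c hcn φ r hφ hker hdim
      exact isGlobalCI_of_goodAlg AlgEquiv.refl (goodAlg_away hG g)


/-- global complete intersections are invariant under algebra isomorphisms -/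
theorem globalCI_of_algEquiv {T T' : Type u} [CommRing T] [Algebra k T] [CommRing T'] [Algebra k T']
    (e : T ≃ₐ[k] T') (h : Synt.IsGlobalCI k T) : Synt.IsGlobalCI k T' := by
  rcases h with h | ⟨n, c, hcn, φ, r, hφ, hker, hdim⟩
  · left
    haveI := h
    exact e.symm.injective.subsingleton
  · right
    refine ⟨n, c, hcn, e.toAlgHom.comp φ, r, e.surjective.comp hφ, ?_, ?_⟩
    · rw [← hker]
      ext x
      simp only [RingHom.mem_ker]
      change e (φ x) = 0 ↔ φ x = 0
      rw [map_eq_zero_iff e e.injective]
    · rw [← hdim]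
      exact (ringKrullDim_eq_of_ringEquiv e.toRingEquiv).symm

/-- part 2 -/
theorem lciOver_away {S : Type u} [CommRing S] [Algebra k S] (g : S)
    (h : Synt.IsLCIOver k S) : Synt.IsLCIOver k (Localization.Away g) := by
  obtain ⟨hft, hloc⟩ := h
  refine ⟨?_, ?_⟩
  · haveI := hft
    exact Algebra.FiniteType.trans (S := S) (A := Localization.Away g) hft inferInstance
  · intro 𝔮
    obtain ⟨g', hg', hci⟩ := hloc ⟨𝔮.asIdeal.comap (algebraMap S (Localization.Away g)), inferInstance⟩
    refine ⟨algebraMap S (Localization.Away g) g', hg', ?_⟩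
    have h1 := globalCI_away (algebraMap S (Localization.Away g') g) hci
    haveI i1 : IsLocalization.Away (g * g')
        (Localization.Away (algebraMap S (Localization.Away g) g')) :=
      IsLocalization.Away.mul' (Localization.Away g) _ g g'
    haveI i2 : IsLocalization.Away (g * g')
        (Localization.Away (algebraMap S (Localization.Away g') g)) :=
      IsLocalization.Away.mul (Localization.Away g') _ g' g
    let e : Localization.Away (algebraMap S (Localization.Away g') g) ≃ₐ[S]
        Localization.Away (algebraMap S (Localization.Away g) g') :=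
      IsLocalization.algEquiv (Submonoid.powers (g * g')) _ _
    exact globalCI_of_algEquiv (e.restrictScalars k) h1

theorem main (k S : Type u) [Field k] [CommRing S] [Algebra k S]
    [Algebra.FiniteType k S] (g : S) :
    (Synt.IsGlobalCI k S → Synt.IsGlobalCI k (Localization.Away g)) ∧
      (Synt.IsLCIOver k S → Synt.IsLCIOver k (Localization.Away g)) :=
  ⟨globalCI_away g, lciOver_away g⟩

end

/-- For a finite type algebra S over a field k and g ∈ S, the localization S_g is a global (resp. local)
complete intersection over k whenever S is. -/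
theorem result (k S : Type u) [Field k] [CommRing S] [Algebra k S]
    [Algebra.FiniteType k S] (g : S) :
    (Synt.IsGlobalCI k S → Synt.IsGlobalCI k (Localization.Away g)) ∧
      (Synt.IsLCIOver k S → Synt.IsLCIOver k (Localization.Away g)) := by
  exact Groth.Agent.S9141.main k S g

end Groth.Agent.S9141
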