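import Groth.Statements.S12082
import Mathlib
import Groth.Prelude.Def_CAlg
import Groth.Agent.Lib.Helper9.Depth4
import Groth.Agent.Lib.Helper20.Link9
import Groth.Agent.Lib.Helper7.CplLocal2
-- import your own Groth.Agent.* helpers here

set_option autoImplicit false
universe u
open Synt

namespace Groth.Agent.S12082

section

open IsLocalRing

/-- regular sequence from a dimension drop in a CM local ring -/
theorem reg_of_dim {L : Type u} [CommRing L] [hL : LocCoh.IsCohenMacaulayLocalRing L]
    (xs : List L) (hmem : ∀ x ∈ xs, x ∈ maximalIdeal L)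
    (hdim : ringKrullDim (L ⧸ Ideal.ofList xs) + (xs.length : WithBot ℕ∞) = ringKrullDim L) :
    RingTheory.Sequence.IsRegular L xs := by
  have hIm : Ideal.ofList xs ≤ maximalIdeal L :=
    Groth.Agent.Helper9.Depth.ofList_le_maximalIdeal xs hmem
  have hM : LocCoh.IsCohenMacaulayModule L L := hL.supportDim_eq_depth
  let e : (L ⧸ (Ideal.ofList xs • (⊤ : Submodule L L))) ≃ₗ[L] (L ⧸ Ideal.ofList xs) :=
    Submodule.quotEquivOfEq _ _ (by rw [Ideal.smul_eq_mul, Ideal.mul_top])
  obtain ⟨hc1, -⟩ := Groth.Agent.Helper9.Depth.cm_list xs L hM hmem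
  refine ⟨hc1 (by
    rw [Module.supportDim_self_eq_ringKrullDim, Module.supportDim_eq_of_equiv e,
      Module.supportDim_quotient_eq_ringKrullDim]
    exact hdim), ?_⟩
  rw [Ideal.smul_eq_mul, Ideal.mul_top]
  intro htop
  rw [← htop] at hIm
  exact (maximalIdeal.isMaximal _).ne_top (top_le_iff.mp hIm)

theorem main (k : Type u) [Field k] (n : ℕ)
    (I : Ideal (MvPolynomial (Fin n) k)) (q : Ideal (MvPolynomial (Fin n) k ⧸ I)) [q.IsPrime] (c : ℕ)
    (hc : (c : ℕ∞) + q.height = (q.comap (Ideal.Quotient.mk I)).height)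
    (f : Fin c → Localization.AtPrime (q.comap (Ideal.Quotient.mk I)))
    (hf : ∀ i, f i ∈ I.map (algebraMap _ (Localization.AtPrime (q.comap (Ideal.Quotient.mk I)))))
    (hgen : Ideal.span (Set.range f) ⊔
        IsLocalRing.maximalIdeal (Localization.AtPrime (q.comap (Ideal.Quotient.mk I))) *
          I.map (algebraMap _ (Localization.AtPrime (q.comap (Ideal.Quotient.mk I)))) =
      I.map (algebraMap _ (Localization.AtPrime (q.comap (Ideal.Quotient.mk I))))) :
    RingTheory.Sequence.IsRegular (Localization.AtPrime (q.comap (Ideal.Quotient.mk I))) (List.ofFn f) := by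
  have hIq' : I ≤ q.comap (Ideal.Quotient.mk I) := by
    intro x hx
    rw [Ideal.mem_comap, Ideal.Quotient.eq_zero_iff_mem.mpr hx]
    exact q.zero_mem
  haveI hL : LocCoh.IsCohenMacaulayLocalRing
      (Localization.AtPrime (q.comap (Ideal.Quotient.mk I))) :=
    (Groth.Agent.Helper7.CplFlat.isCohenMacaulayRing_of_isRegularRing
      (MvPolynomial (Fin n) k)).isCohenMacaulayLocalRing_localization
        (q.comap (Ideal.Quotient.mk I))
  -- Nakayama
  have hspan : Ideal.span (Set.range f) = I.map (algebraMap (MvPolynomial (Fin n) k)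
      (Localization.AtPrime (q.comap (Ideal.Quotient.mk I)))) := by
    apply le_antisymm
    · rw [Ideal.span_le]
      rintro _ ⟨i, rfl⟩
      exact hf i
    · apply Submodule.le_of_le_smul_of_le_jacobson_bot
        (I := maximalIdeal (Localization.AtPrime (q.comap (Ideal.Quotient.mk I))))
        (IsNoetherian.noetherian _)
      · rw [IsLocalRing.jacobson_eq_maximalIdeal ⊥ bot_ne_top]
      · rw [Ideal.smul_eq_mul]
        exact hgen.ge
  have hofList : Ideal.ofList (List.ofFn f) = I.map (algebraMap (MvPolynomial (Fin n) k)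
      (Localization.AtPrime (q.comap (Ideal.Quotient.mk I)))) := by
    have h0 : Ideal.span (Set.range f) = Ideal.ofList (List.ofFn f) := by
      congr 1; ext x; simp [List.mem_ofFn]
    rw [← h0, hspan]
  apply reg_of_dim
  · intro x hx
    rw [List.mem_ofFn] at hx
    obtain ⟨i, rfl⟩ := hx
    have h1 : I.map (algebraMap (MvPolynomial (Fin n) k)
        (Localization.AtPrime (q.comap (Ideal.Quotient.mk I)))) ≤
        maximalIdeal (Localization.AtPrime (q.comap (Ideal.Quotient.mk I))) := by
      rw [Ideal.map_le_iff_le_comap]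
      intro x hx
      rw [Ideal.mem_comap, IsLocalization.AtPrime.to_map_mem_maximal_iff
        (Localization.AtPrime (q.comap (Ideal.Quotient.mk I))) (q.comap (Ideal.Quotient.mk I))]
      exact hIq' hx
    exact h1 (hf i)
  · rw [hofList, List.length_ofFn, IsLocalization.AtPrime.ringKrullDim_eq_height
        (q.comap (Ideal.Quotient.mk I)) (Localization.AtPrime (q.comap (Ideal.Quotient.mk I))),
      ← Groth.Agent.Helper20.Link.height_map_mk_eq_ringKrullDim I
        (q.comap (Ideal.Quotient.mk I)) hIq']
    have h2 : (q.comap (Ideal.Quotient.mk I)).map (Ideal.Quotient.mk I) = q :=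
      Ideal.map_comap_of_surjective _ Ideal.Quotient.mk_surjective q
    rw [h2, ← hc, add_comm]
    push_cast
    rfl

end

/-- Let `S = k[x_1, …, x_n]/I` over a field `k`, `q` a prime of `S` with preimage `q'` in the polynomial
ring, `c` the natural number with `c + ht(q) = ht(q')`, and `J` the extension of `I` to the local
ring `R = k[x_1, …, x_n]_{q'}`. Any `c` elements of `J` whose images generate `J / q' J` form a
regular sequence in `R`. -/
theorem result (k : Type u) [Field k] (n : ℕ)
    (I : Ideal (MvPolynomial (Fin n) k)) (q : Ideal (MvPolynomial (Fin n) k ⧸ I)) [q.IsPrime] (c : ℕ)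
    (hc : (c : ℕ∞) + q.height = (q.comap (Ideal.Quotient.mk I)).height)
    (f : Fin c → Localization.AtPrime (q.comap (Ideal.Quotient.mk I)))
    (hf : ∀ i, f i ∈ I.map (algebraMap _ (Localization.AtPrime (q.comap (Ideal.Quotient.mk I)))))
    (hgen : Ideal.span (Set.range f) ⊔
        IsLocalRing.maximalIdeal (Localization.AtPrime (q.comap (Ideal.Quotient.mk I))) *
          I.map (algebraMap _ (Localization.AtPrime (q.comap (Ideal.Quotient.mk I)))) =
      I.map (algebraMap _ (Localization.AtPrime (q.comap (Ideal.Quotient.mk I))))) :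
    RingTheory.Sequence.IsRegular (Localization.AtPrime (q.comap (Ideal.Quotient.mk I))) (List.ofFn f) := by
  exact Groth.Agent.S12082.main k n I q c hc f hf hgen

end Groth.Agent.S12082
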