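import Groth.Statements.S10918
import Mathlib
import Groth.Prelude.Def_CAlg
import Groth.Agent.Lib.Helper2.CMGlue
import Groth.Agent.Lib.Helper20.Link3
import Groth.Agent.Lib.Helper9.Depth4
import Groth.Agent.Lib.Helper7.FieldCM
import Groth.Agent.Lib.Helper7.CplLocal2
import Groth.Agent.Lib.Helper1.SerreNormal
import Groth.Agent.Lib.Lead.RLR7
import Groth.Agent.Lib.Lead.Depth21
-- import your own Groth.Agent.* helpers here

set_option autoImplicit false
universe u
open CInt

namespace Groth.Agent.S10918

section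

open IsLocalRing

/-- quotient of a CM local ring by `len` elements generating an ideal of height `≥ len` is CM -/
theorem cm_quot_of_height {L : Type u} [CommRing L] [hL : LocCoh.IsCohenMacaulayLocalRing L]
    (xs : List L) (hmem : ∀ x ∈ xs, x ∈ maximalIdeal L)
    (hht : (xs.length : ℕ∞) ≤ (Ideal.ofList xs).height) :
    LocCoh.IsCohenMacaulayLocalRing (L ⧸ Ideal.ofList xs) := by
  set I := Ideal.ofList xs with hI
  have hIm : I ≤ maximalIdeal L := Groth.Agent.Helper9.Depth.ofList_le_maximalIdeal xs hmem
  have hIne : I ≠ ⊤ := fun h => (maximalIdeal.isMaximal L).ne_top (top_le_iff.mp (h ▸ hIm))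
  haveI : Nontrivial (L ⧸ I) := Ideal.Quotient.nontrivial_iff.mpr hIne
  haveI : IsLocalRing (L ⧸ I) :=
    IsLocalRing.of_surjective' (Ideal.Quotient.mk I) Ideal.Quotient.mk_surjective
  have hM : LocCoh.IsCohenMacaulayModule L L := hL.supportDim_eq_depth
  obtain ⟨h, hh⟩ := Groth.Agent.Helper9.Depth.exists_supportDim_eq_nat (A := L) L
  rw [Module.supportDim_self_eq_ringKrullDim] at hh
  obtain ⟨a, ha⟩ := Groth.Agent.Helper9.Depth.exists_supportDim_eq_nat (A := L) (L ⧸ I)
  rw [Module.supportDim_quotient_eq_ringKrullDim] at ha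
  -- upper bound on each minimal prime
  have hq : ∀ q ∈ I.minimalPrimes, xs.length ≤ h ∧
      ringKrullDim (L ⧸ q) ≤ ((h - xs.length : ℕ) : WithBot ℕ∞) := by
    intro q hq
    haveI : q.IsPrime := hq.1.1
    obtain ⟨c, hc⟩ := Groth.Agent.Helper9.Depth.exists_supportDim_eq_nat (A := L) (L ⧸ q)
    rw [Module.supportDim_quotient_eq_ringKrullDim] at hc
    have h1 := Groth.Agent.Lead.RLR.height_add_ringKrullDim_quotient_le q
    rw [hc, hh] at h1
    have h2 : (xs.length : ℕ∞) ≤ q.height := hht.trans (Ideal.height_mono hq.1.2)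
    have h3 : ((xs.length : ℕ∞) : WithBot ℕ∞) + (c : WithBot ℕ∞) ≤ (h : WithBot ℕ∞) :=
      le_trans (add_le_add (WithBot.coe_le_coe.mpr h2) le_rfl) h1
    have h4 : xs.length + c ≤ h := by exact_mod_cast h3
    refine ⟨by omega, ?_⟩
    rw [hc]
    exact_mod_cast (by omega : c ≤ h - xs.length)
  obtain ⟨q0, hq0⟩ := Ideal.nonempty_minimalPrimes hIne
  have hlen : xs.length ≤ h := (hq q0 hq0).1
  have hub : ringKrullDim (L ⧸ I) ≤ ((h - xs.length : ℕ) : WithBot ℕ∞) :=
    Groth.Agent.Lib.Helper2.CMGlue.ringKrullDim_quotient_le_of_minimalPrimes I _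
      (fun q hq' => (hq q hq').2)
  let e : (L ⧸ (I • (⊤ : Submodule L L))) ≃ₗ[L] (L ⧸ I) :=
    Submodule.quotEquivOfEq _ _ (by rw [Ideal.smul_eq_mul, Ideal.mul_top])
  have hlb := Groth.Agent.Helper9.Depth.supportDim_le_quotient_add_length xs L hmem
  rw [Module.supportDim_self_eq_ringKrullDim, Module.supportDim_eq_of_equiv e,
    Module.supportDim_quotient_eq_ringKrullDim, hh, ha] at hlb
  rw [ha] at hub
  have hub' : a ≤ h - xs.length := by exact_mod_cast hub
  have hlb' : h ≤ a + xs.length := by exact_mod_cast hlb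
  have hdim : a + xs.length = h := by omega
  obtain ⟨hc1, hc2⟩ := Groth.Agent.Helper9.Depth.cm_list xs L hM hmem
  have hreg := hc1 (by
    rw [Module.supportDim_self_eq_ringKrullDim, Module.supportDim_eq_of_equiv e,
      Module.supportDim_quotient_eq_ringKrullDim, hh, ha]
    exact_mod_cast hdim)
  have hcm : LocCoh.IsCohenMacaulayModule L (L ⧸ I) :=
    Groth.Agent.Helper9.Depth.isCM_congr e (hc2 hreg)
  rw [Groth.Agent.Helper20.RE.isCohenMacaulayLocalRing_iff]
  unfold LocCoh.IsCohenMacaulayModule at hcm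
  rw [Module.supportDim_quotient_eq_ringKrullDim] at hcm
  rw [hcm, Groth.Agent.Lead.Depth.depth_eq_of_surjective (R₁ := L) (R₂ := L ⧸ I)
    Ideal.Quotient.mk_surjective (L ⧸ I)]

/-- the quotient of a polynomial ring by `r` elements generating an ideal of height `r` is CM -/
theorem cm_quot (k : Type u) [Field k] (n r : ℕ) (f : Fin r → MvPolynomial (Fin (n + 1)) k)
    (hJ : (Ideal.span (Set.range f)).height = r) :
    LocCoh.IsCohenMacaulayRing (MvPolynomial (Fin (n + 1)) k ⧸ Ideal.span (Set.range f)) := by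
  rw [Groth.Agent.Helper20.Link.isCohenMacaulayRing_quotient_iff (Ideal.span (Set.range f))]
  intro P hP hJP
  have hofList : Ideal.span (Set.range f) = Ideal.ofList (List.ofFn f) := by
    congr 1; ext x; simp [List.mem_ofFn]
  haveI hL : LocCoh.IsCohenMacaulayLocalRing (Localization.AtPrime P) :=
    (Groth.Agent.Helper7.CplFlat.isCohenMacaulayRing_of_isRegularRing
      (MvPolynomial (Fin (n + 1)) k)).isCohenMacaulayLocalRing_localization P
  have hmap : (Ideal.span (Set.range f)).map
        (algebraMap (MvPolynomial (Fin (n + 1)) k) (Localization.AtPrime P)) =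
      Ideal.ofList ((List.ofFn f).map
        (algebraMap (MvPolynomial (Fin (n + 1)) k) (Localization.AtPrime P))) := by
    rw [hofList, Ideal.map_ofList]
  rw [hmap]
  apply cm_quot_of_height
  · intro x hx
    rw [List.mem_map] at hx
    obtain ⟨y, hy, rfl⟩ := hx
    rw [IsLocalization.AtPrime.to_map_mem_maximal_iff (Localization.AtPrime P) P]
    apply hJP
    rw [List.mem_ofFn] at hy
    obtain ⟨i, rfl⟩ := hy
    exact Ideal.subset_span ⟨i, rfl⟩
  · rw [List.length_map, List.length_ofFn, ← hmap, ← hJ]
    have h1 := IsLocalization.height_under P.primeCompl (A := Localization.AtPrime P)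
      ((Ideal.span (Set.range f)).map
        (algebraMap (MvPolynomial (Fin (n + 1)) k) (Localization.AtPrime P)))
    rw [← h1]
    exact Ideal.height_mono Ideal.le_comap_map

attribute [local instance] MvPolynomial.gradedAlgebra

open MvPolynomial in
/-- no torsion at the vertex for a homogeneous ideal -/
theorem mem_of_mul_mem {σ : Type*} {k : Type*} [Field k] (J : Ideal (MvPolynomial σ k))
    (hJ : J.IsHomogeneous (homogeneousSubmodule σ k)) (a b : MvPolynomial σ k)
    (hb : constantCoeff b ≠ 0) (hab : b * a ∈ J) : a ∈ J := by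
  classical
  rw [mem_iff_homogeneousComponent_mem hJ]
  intro m
  induction m using Nat.strong_induction_on with
  | _ m ih =>
    have h1 : homogeneousComponent m (b * a) ∈ J := homogeneousComponent_mem_of_mem hJ hab m
    have h2 : homogeneousComponent m (b * a) = ∑ ij ∈ Finset.HasAntidiagonal.antidiagonal m,
        homogeneousComponent ij.1 b * homogeneousComponent ij.2 a := by
      simp_rw [← decomposition.decompose'_apply]
      have := DirectSum.coe_mul_apply_eq_sum_antidiagonal (A := homogeneousSubmodule σ k)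
        (DirectSum.decompose _ b) (DirectSum.decompose _ a) m
      rw [← DirectSum.decompose_mul] at this
      exact this
    have h0 : ((0, m) : ℕ × ℕ) ∈ Finset.HasAntidiagonal.antidiagonal m := by simp
    rw [h2, ← Finset.add_sum_erase _ _ h0] at h1
    have h3 : ∑ ij ∈ (Finset.HasAntidiagonal.antidiagonal m).erase (0, m),
        homogeneousComponent ij.1 b * homogeneousComponent ij.2 a ∈ J := by
      apply Ideal.sum_mem
      intro ij hij
      rw [Finset.mem_erase, Finset.HasAntidiagonal.mem_antidiagonal] at hij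
      apply Ideal.mul_mem_left
      apply ih
      by_contra hcon
      apply hij.1
      have : ij.2 = m := by omega
      ext
      · simp only; omega
      · simp only; omega
    have h4 := (Ideal.add_mem_iff_left J h3).mp h1
    simp only at h4
    rw [homogeneousComponent_zero, ← constantCoeff_eq] at h4
    have h5 : homogeneousComponent m a =
        C (constantCoeff b)⁻¹ * (C (constantCoeff b) * homogeneousComponent m a) := by
      rw [← mul_assoc, ← C_mul, inv_mul_cancel₀ hb, C_1, one_mul]
    rw [h5]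
    exact Ideal.mul_mem_left _ _ h4

open MvPolynomial in
theorem ker_le_of_X_mem {σ : Type*} {k : Type*} [Field k] (Q : Ideal (MvPolynomial σ k))
    (hQ : ∀ i, (X i : MvPolynomial σ k) ∈ Q) :
    RingHom.ker (constantCoeff : MvPolynomial σ k →+* k) ≤ Q := by
  intro p hp
  rw [RingHom.mem_ker] at hp
  rw [p.as_sum]
  apply Ideal.sum_mem
  intro d hd
  have hd0 : d ≠ 0 := by
    rintro rfl
    rw [mem_support_iff, ← constantCoeff_eq] at hd
    exact hd hp
  obtain ⟨i, hi⟩ := DFunLike.ne_iff.mp hd0
  obtain ⟨c, hc⟩ := (X_dvd_monomial (i := i) (j := d) (r := coeff d p)).mpr (Or.inr hi)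
  rw [hc]
  exact Ideal.mul_mem_right _ _ (hQ i)

open MvPolynomial in
theorem ker_isMaximal {σ : Type*} {k : Type*} [Field k] :
    (RingHom.ker (constantCoeff : MvPolynomial σ k →+* k)).IsMaximal :=
  RingHom.ker_isMaximal_of_surjective _ (fun c => ⟨C c, constantCoeff_C _ c⟩)

open MvPolynomial in
theorem span_le_ker (k : Type u) [Field k] (n r : ℕ) (f : Fin r → MvPolynomial (Fin (n + 1)) k)
    (d : Fin r → ℕ) (hf : ∀ i, (f i).IsHomogeneous (d i)) (hd : ∀ i, 0 < d i) :
    Ideal.span (Set.range f) ≤
      RingHom.ker (constantCoeff : MvPolynomial (Fin (n + 1)) k →+* k) := by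
  rw [Ideal.span_le]
  rintro _ ⟨i, rfl⟩
  rw [SetLike.mem_coe, RingHom.mem_ker, constantCoeff_eq]
  apply (hf i).coeff_eq_zero
  rw [map_zero]
  exact (hd i).ne

open MvPolynomial in
/-- the vertex of the cone has height `n + 1 - r` -/
theorem height_vertex (k : Type u) [Field k] (n r : ℕ) (hr : r < n)
    (f : Fin r → MvPolynomial (Fin (n + 1)) k)
    (d : Fin r → ℕ) (hf : ∀ i, (f i).IsHomogeneous (d i)) (hd : ∀ i, 0 < d i)
    (hJ : (Ideal.span (Set.range f)).height = r)
    [hqX : ((RingHom.ker (constantCoeff : MvPolynomial (Fin (n + 1)) k →+* k)).map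
      (Ideal.Quotient.mk (Ideal.span (Set.range f)))).IsPrime] :
    ((RingHom.ker (constantCoeff : MvPolynomial (Fin (n + 1)) k →+* k)).map
      (Ideal.Quotient.mk (Ideal.span (Set.range f)))).height = ((n + 1 - r : ℕ) : ℕ∞) := by
  classical
  haveI hmax : (RingHom.ker (constantCoeff : MvPolynomial (Fin (n + 1)) k →+* k)).IsMaximal :=
    ker_isMaximal
  have hdimS : ringKrullDim (MvPolynomial (Fin (n + 1)) k) = ((n + 1 : ℕ) : WithBot ℕ∞) := by
    rw [MvPolynomial.ringKrullDim_of_isNoetherianRing, ringKrullDim_eq_zero_of_field, zero_add,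
      Nat.card_fin]
  have hX : ∀ Q ∈ (Ideal.span (Set.range f)).minimalPrimes,
      ringKrullDim (MvPolynomial (Fin (n + 1)) k ⧸ Q) = ((n + 1 - r : ℕ) : WithBot ℕ∞) := by
    intro Q hQ
    haveI : Q.IsPrime := hQ.1.1
    have h1 : Q.height ≤ (r : ℕ∞) := by
      have hs : (Ideal.span (Set.range f)) = Ideal.span ((Finset.univ.image f : Finset _) : Set _) := by
        rw [Finset.coe_image, Finset.coe_univ, Set.image_univ]
      rw [hs] at hQ
      refine (Ideal.height_le_card_of_mem_minimalPrimes_span_finset hQ).trans ?_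
      exact_mod_cast (Finset.card_image_le.trans (by simp))
    have h2 : (r : ℕ∞) ≤ Q.height := hJ ▸ Ideal.height_mono hQ.1.2
    have h3 : Q.height = (r : ℕ∞) := le_antisymm h1 h2
    obtain ⟨c, hc⟩ := Groth.Agent.Lib.Helper2.CMGlue.exists_dim_nat k
      (MvPolynomial (Fin (n + 1)) k) Q
    have h4 := Groth.Agent.Lib.Helper2.CMGlue.affine_height k
      (MvPolynomial (Fin (n + 1)) k) Q (n + 1) c hdimS hc
    rw [h3] at h4
    have h5 : r + c = n + 1 := by exact_mod_cast h4
    rw [hc]
    exact_mod_cast (by omega : c = n + 1 - r)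
  have hc : ringKrullDim (MvPolynomial (Fin (n + 1)) k ⧸
      RingHom.ker (constantCoeff : MvPolynomial (Fin (n + 1)) k →+* k)) = ((0 : ℕ) : WithBot ℕ∞) := by
    rw [Nat.cast_zero]
    exact ringKrullDim_eq_zero_of_isField
      ((Ideal.Quotient.maximal_ideal_iff_isField_quotient _).mp hmax)
  have h := Groth.Agent.Lib.Helper2.CMGlue.local_height k (MvPolynomial (Fin (n + 1)) k)
    (Ideal.span (Set.range f))
    (RingHom.ker (constantCoeff : MvPolynomial (Fin (n + 1)) k →+* k))
    (span_le_ker k n r f d hf hd) (n + 1 - r) 0 hX hc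
  simpa using h

open MvPolynomial in
theorem main
    (k : Type u) [Field k] (n r : ℕ) (hr : r < n) (f : Fin r → MvPolynomial (Fin (n + 1)) k) (d : Fin r → ℕ)
    (hf : ∀ i, (f i).IsHomogeneous (d i)) (hd : ∀ i, 0 < d i)
    (hJ : (Ideal.span (Set.range f)).height = r)
    (hnorm : ∀ (Q : Ideal (MvPolynomial (Fin (n + 1)) k ⧸ Ideal.span (Set.range f))) [Q.IsPrime],
      (∃ i, Ideal.Quotient.mk (Ideal.span (Set.range f)) (MvPolynomial.X i) ∉ Q) →
        IsDomain (Localization.AtPrime Q) ∧ IsIntegrallyClosed (Localization.AtPrime Q)) :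
    IsDomain (MvPolynomial (Fin (n + 1)) k ⧸ Ideal.span (Set.range f)) ∧
      IsIntegrallyClosed (MvPolynomial (Fin (n + 1)) k ⧸ Ideal.span (Set.range f)) := by
  classical
  haveI hCM := cm_quot k n r f hJ
  have hJm := span_le_ker k n r f d hf hd
  haveI hmax : (RingHom.ker (constantCoeff : MvPolynomial (Fin (n + 1)) k →+* k)).IsMaximal :=
    ker_isMaximal
  haveI hqX : ((RingHom.ker (constantCoeff : MvPolynomial (Fin (n + 1)) k →+* k)).map
      (Ideal.Quotient.mk (Ideal.span (Set.range f)))).IsPrime :=
    Ideal.map_isPrime_of_surjective Ideal.Quotient.mk_surjective (by rw [Ideal.mk_ker]; exact hJm)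
  have hvert := height_vertex k n r hr f d hf hd hJ
  have hS2 : LocCoh.HasSk 2 (MvPolynomial (Fin (n + 1)) k ⧸ Ideal.span (Set.range f))
      (MvPolynomial (Fin (n + 1)) k ⧸ Ideal.span (Set.range f)) :=
    Groth.Agent.Helper7.FieldCM.hasSk_of_isCohenMacaulayRing _ 2
  have hR1 : LocCoh.HasRk 1 (MvPolynomial (Fin (n + 1)) k ⧸ Ideal.span (Set.range f)) := by
    intro p hp hht
    have hex : ∃ i, Ideal.Quotient.mk (Ideal.span (Set.range f)) (MvPolynomial.X i) ∉ p := by
      by_contra hcon
      push Not at hcon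
      have h1 : RingHom.ker (constantCoeff : MvPolynomial (Fin (n + 1)) k →+* k) ≤
          p.comap (Ideal.Quotient.mk (Ideal.span (Set.range f))) :=
        ker_le_of_X_mem _ (fun i => hcon i)
      have h2 := hmax.eq_of_le (Ideal.comap_ne_top _ hp.ne_top) h1
      have h3 : p = (RingHom.ker (constantCoeff : MvPolynomial (Fin (n + 1)) k →+* k)).map
          (Ideal.Quotient.mk (Ideal.span (Set.range f))) := by
        rw [h2, Ideal.map_comap_of_surjective _ Ideal.Quotient.mk_surjective]
      rw [h3, hvert] at hht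
      have : n + 1 - r ≤ 1 := by exact_mod_cast hht
      omega
    obtain ⟨hdom, hic⟩ := hnorm p hex
    apply Groth.Agent.Helper1.SerreNormal.isRegularLocalRing_of_normal_of_dim_le_one
    rw [IsLocalization.AtPrime.ringKrullDim_eq_height p]
    exact_mod_cast hht
  have hall := (Groth.Agent.Helper1.SerreNormal.serre_criterion
    (MvPolynomial (Fin (n + 1)) k ⧸ Ideal.span (Set.range f))).mpr ⟨hR1, hS2⟩
  have hhom : (Ideal.span (Set.range f)).IsHomogeneous (homogeneousSubmodule (Fin (n + 1)) k) := by
    apply Ideal.homogeneous_span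
    rintro _ ⟨i, rfl⟩
    exact ⟨d i, (mem_homogeneousSubmodule _ _).mpr (hf i)⟩
  have hdom : IsDomain (MvPolynomial (Fin (n + 1)) k ⧸ Ideal.span (Set.range f)) := by
    haveI := (hall ((RingHom.ker (constantCoeff : MvPolynomial (Fin (n + 1)) k →+* k)).map
      (Ideal.Quotient.mk (Ideal.span (Set.range f))))).1
    have hinj : Function.Injective (algebraMap
        (MvPolynomial (Fin (n + 1)) k ⧸ Ideal.span (Set.range f))
        (Localization.AtPrime ((RingHom.ker
          (constantCoeff : MvPolynomial (Fin (n + 1)) k →+* k)).map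
          (Ideal.Quotient.mk (Ideal.span (Set.range f)))))) := by
      refine IsLocalization.injective (Localization.AtPrime ((RingHom.ker
          (constantCoeff : MvPolynomial (Fin (n + 1)) k →+* k)).map
          (Ideal.Quotient.mk (Ideal.span (Set.range f))))) (M := ((RingHom.ker
          (constantCoeff : MvPolynomial (Fin (n + 1)) k →+* k)).map
          (Ideal.Quotient.mk (Ideal.span (Set.range f)))).primeCompl) ?_
      intro t ht
      rw [mem_nonZeroDivisors_iff_left]
      intro s hts
      obtain ⟨b, rfl⟩ := Ideal.Quotient.mk_surjective t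
      obtain ⟨a, rfl⟩ := Ideal.Quotient.mk_surjective s
      rw [← map_mul, Ideal.Quotient.eq_zero_iff_mem] at hts
      rw [Ideal.Quotient.eq_zero_iff_mem]
      apply mem_of_mul_mem _ hhom a b _ hts
      intro hb
      apply ht
      exact Ideal.mem_map_of_mem _ ((RingHom.mem_ker).mpr hb)
    exact hinj.isDomain
  refine ⟨hdom, ?_⟩
  haveI := hdom
  exact IsIntegrallyClosed.of_localization_maximal (fun p _ _ => (hall p).2)

end

/-- Let k be a field, S = k[x_0, …, x_n], and f_1, …, f_r with r < n homogeneous polynomials of positive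
degrees whose ideal J has height r, so that Y = V_+(J) ⊆ P^n_k is a global complete intersection of
dimension n − r ≥ 1 with homogeneous coordinate ring S' = S/J. Suppose Y is normal, expressed on the
affine cone: for every prime ideal Q of S' not containing all the classes of the x_i (every point of
the cone Spec S' other than the vertex), the localization S'_Q is an integrally closed domain. Then
S' is an integrally closed domain, i.e. Y is projectively normal. -/
theorem result
    (k : Type u) [Field k] (n r : ℕ) (hr : r < n) (f : Fin r → MvPolynomial (Fin (n + 1)) k) (d : Fin r → ℕ)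
    (hf : ∀ i, (f i).IsHomogeneous (d i)) (hd : ∀ i, 0 < d i)
    (hJ : (Ideal.span (Set.range f)).height = r)
    (hnorm : ∀ (Q : Ideal (MvPolynomial (Fin (n + 1)) k ⧸ Ideal.span (Set.range f))) [Q.IsPrime],
      (∃ i, Ideal.Quotient.mk (Ideal.span (Set.range f)) (MvPolynomial.X i) ∉ Q) →
        IsDomain (Localization.AtPrime Q) ∧ IsIntegrallyClosed (Localization.AtPrime Q)) :
    IsDomain (MvPolynomial (Fin (n + 1)) k ⧸ Ideal.span (Set.range f)) ∧
      IsIntegrallyClosed (MvPolynomial (Fin (n + 1)) k ⧸ Ideal.span (Set.range f)) := by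
  exact Groth.Agent.S10918.main k n r hr f d hf hd hJ hnorm

end Groth.Agent.S10918
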