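import Groth.Statements.S9142
import Mathlib
import Groth.Agent.S10918
import Groth.Agent.Lib.Helper28.BlowCM
-- import your own Groth.Agent.* helpers here

set_option autoImplicit false
universe u
open Synt

namespace Groth.Agent.S9142

section

open IsLocalRing Groth.Agent.Lib.Helper2.CMGlue

/-- quotient of a CM ring by `c` elements generating an ideal of height `≥ c` is CM -/
theorem cm_quot_gen {R : Type u} [CommRing R] [hR : LocCoh.IsCohenMacaulayRing R] (c : ℕ)
    (f : Fin c → R) (hJ : (c : ℕ∞) ≤ (Ideal.span (Set.range f)).height) :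
    LocCoh.IsCohenMacaulayRing (R ⧸ Ideal.span (Set.range f)) := by
  rw [Groth.Agent.Helper20.Link.isCohenMacaulayRing_quotient_iff (Ideal.span (Set.range f))]
  intro P hP hJP
  have hofList : Ideal.span (Set.range f) = Ideal.ofList (List.ofFn f) := by
    congr 1; ext x; simp [List.mem_ofFn]
  haveI hL : LocCoh.IsCohenMacaulayLocalRing (Localization.AtPrime P) :=
    hR.isCohenMacaulayLocalRing_localization P
  have hmap : (Ideal.span (Set.range f)).map (algebraMap R (Localization.AtPrime P)) =
      Ideal.ofList ((List.ofFn f).map (algebraMap R (Localization.AtPrime P))) := by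
    rw [hofList, Ideal.map_ofList]
  rw [hmap]
  apply Groth.Agent.S10918.cm_quot_of_height
  · intro x hx
    rw [List.mem_map] at hx
    obtain ⟨y, hy, rfl⟩ := hx
    rw [IsLocalization.AtPrime.to_map_mem_maximal_iff (Localization.AtPrime P) P]
    apply hJP
    rw [List.mem_ofFn] at hy
    obtain ⟨i, rfl⟩ := hy
    exact Ideal.subset_span ⟨i, rfl⟩
  · rw [List.length_map, List.length_ofFn, ← hmap]
    have h1 := IsLocalization.height_under P.primeCompl (A := Localization.AtPrime P)
      ((Ideal.span (Set.range f)).map (algebraMap R (Localization.AtPrime P)))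
    rw [← h1]
    exact hJ.trans (Ideal.height_mono Ideal.le_comap_map)

/-- a global complete intersection over a field is CM -/
theorem cm_of_globalCI (k T : Type u) [Field k] [CommRing T] [Algebra k T]
    (h : Synt.IsGlobalCI k T) : LocCoh.IsCohenMacaulayRing T := by
  rcases h with h | ⟨n, c, hcn, φ, r, hφ, hker, hdim⟩
  · haveI := h
    exact { isCohenMacaulayLocalRing_localization := fun p hp =>
      absurd (Subsingleton.elim (0 : T) 1) (by
        intro h01
        exact hp.ne_top ((Ideal.eq_top_iff_one p).mpr (h01 ▸ p.zero_mem))) }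
  · let e : (MvPolynomial (Fin n) k ⧸ Ideal.span (Set.range r)) ≃+* T :=
      (Ideal.quotEquivOfEq hker.symm).trans (RingHom.quotientKerEquivOfSurjective hφ)
    have hdimP : ringKrullDim (MvPolynomial (Fin n) k) = ((n : ℕ) : WithBot ℕ∞) := by
      rw [MvPolynomial.ringKrullDim_of_isNoetherianRing, ringKrullDim_eq_zero_of_field, zero_add,
        Nat.card_fin]
    have hdimJ : ringKrullDim (MvPolynomial (Fin n) k ⧸ Ideal.span (Set.range r)) =
        ((n - c : ℕ) : WithBot ℕ∞) := by
      rw [ringKrullDim_eq_of_ringEquiv e]; exact hdim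
    have hht : (c : ℕ∞) ≤ (Ideal.span (Set.range r)).height := by
      rw [Ideal.height_eq_inf_minimalPrimes]
      refine le_iInf₂ fun Q hQ => ?_
      haveI : Q.IsPrime := hQ.1.1
      obtain ⟨c', hc'⟩ := exists_dim_nat k (MvPolynomial (Fin n) k) Q
      have h1 := affine_height k (MvPolynomial (Fin n) k) Q n c' hdimP hc'
      have h2 : ringKrullDim (MvPolynomial (Fin n) k ⧸ Q) ≤
          ringKrullDim (MvPolynomial (Fin n) k ⧸ Ideal.span (Set.range r)) :=
        ringKrullDim_le_of_surjective (Ideal.Quotient.factor hQ.1.2)
          (Ideal.Quotient.factor_surjective _)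
      rw [hc', hdimJ] at h2
      have h3 : c' ≤ n - c := by exact_mod_cast h2
      have hfin : Q.height ≠ ⊤ := by
        intro htop
        rw [htop, top_add] at h1
        exact ENat.top_ne_natCast n h1
      obtain ⟨e', he'⟩ := ENat.ne_top_iff_exists.mp hfin
      rw [← he'] at h1 ⊢
      have h4 : e' + c' = n := by exact_mod_cast h1
      exact_mod_cast (by omega : c ≤ e')
    haveI : LocCoh.IsCohenMacaulayRing (MvPolynomial (Fin n) k) :=
      Groth.Agent.Helper7.CplFlat.isCohenMacaulayRing_of_isRegularRing _
    exact Groth.Agent.Helper28.BlowCM.isCohenMacaulayRing_of_ringEquiv e (cm_quot_gen c r hht)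

/-- transfer from a basic open neighbourhood to the local ring -/
theorem cm_atPrime_of_away {S : Type u} [CommRing S] (g : S) (p : Ideal S) [hp : p.IsPrime]
    (hg : g ∉ p) (hT : LocCoh.IsCohenMacaulayRing (Localization.Away g)) :
    LocCoh.IsCohenMacaulayLocalRing (Localization.AtPrime p) := by
  have hdisj : Disjoint (Submonoid.powers g : Set S) (p : Set S) := by
    rw [Set.disjoint_left]
    rintro x ⟨n, rfl⟩ hx
    exact hg (hp.mem_of_pow_mem n hx)
  haveI hP : (p.map (algebraMap S (Localization.Away g))).IsPrime :=
    IsLocalization.isPrime_of_isPrime_disjoint (Submonoid.powers g) _ p hp hdisj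
  haveI := hT.isCohenMacaulayLocalRing_localization (p.map (algebraMap S (Localization.Away g)))
  have h1 := IsLocalization.isLocalization_isLocalization_atPrime_isLocalization
    (M := Submonoid.powers g)
    (Localization.AtPrime (p.map (algebraMap S (Localization.Away g))))
    (p.map (algebraMap S (Localization.Away g)))
  have h2 : Ideal.comap (algebraMap S (Localization.Away g))
      (Ideal.map (algebraMap S (Localization.Away g)) p) = p :=
    IsLocalization.under_map_of_isPrime_disjoint (Submonoid.powers g) _ hp hdisj
  simp_rw [h2] at h1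
  exact Groth.Agent.Helper20.RE.isCohenMacaulayLocalRing_of_ringEquiv
    (IsLocalization.algEquiv p.primeCompl
      (Localization.AtPrime (p.map (algebraMap S (Localization.Away g))))
      (Localization.AtPrime p)).toRingEquiv

theorem main (k S : Type u) [Field k] [CommRing S] [Algebra k S]
    (h : Synt.IsLCIOver k S) : LocCoh.IsCohenMacaulayRing S := by
  obtain ⟨hft, hloc⟩ := h
  haveI : IsNoetherianRing S := Algebra.FiniteType.isNoetherianRing k S
  refine { isCohenMacaulayLocalRing_localization := fun p hp => ?_ }
  obtain ⟨g, hg, hci⟩ := hloc ⟨p, hp⟩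
  exact cm_atPrime_of_away g p hg (cm_of_globalCI k _ hci)

end

/-- A local complete intersection over a field is a Cohen–Macaulay ring. -/
theorem result (k S : Type u) [Field k] [CommRing S] [Algebra k S]
    (h : Synt.IsLCIOver k S) : LocCoh.IsCohenMacaulayRing S := by
  exact Groth.Agent.S9142.main k S h

end Groth.Agent.S9142
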