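import Groth.Statements.S9171
import Mathlib
import Groth.Agent.Lib.Helper2.GCILocE3
import Groth.Agent.Lib.Helper2.GCILocD2
import Groth.Agent.Lib.Lead.Depth20
import Groth.Agent.S12082
import Groth.Agent.S9142
-- import your own Groth.Agent.* helpers here

set_option autoImplicit false
universe u
open Synt

namespace Groth.Agent.S9171

section

open MvPolynomial Groth.Agent.Helper2.GCILoc IsLocalRing

variable (k : Type u) [Field k] (n : ℕ) (I : Ideal (MvPolynomial (Fin n) k))
  (q : Ideal (MvPolynomial (Fin n) k ⧸ I)) [hq : q.IsPrime]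

/-- `dim L/IL = ht q` -/
theorem dim_quot :
    ringKrullDim (Localization.AtPrime (q.comap (Ideal.Quotient.mk I)) ⧸
      I.map (algebraMap _ (Localization.AtPrime (q.comap (Ideal.Quotient.mk I))))) =
      ((q.height : ℕ∞) : WithBot ℕ∞) := by
  set q' := q.comap (Ideal.Quotient.mk I) with hq'
  haveI hq'p : q'.IsPrime := Ideal.comap_isPrime _ _
  have hIq' : I ≤ q' := by
    intro x hx
    rw [hq', Ideal.mem_comap, Ideal.Quotient.eq_zero_iff_mem.mpr hx]
    exact q.zero_mem
  have hmap : q'.map (Ideal.Quotient.mk I) = q :=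
    Ideal.map_comap_of_surjective _ Ideal.Quotient.mk_surjective q
  haveI : (q'.map (Ideal.Quotient.mk I)).IsPrime := by rw [hmap]; exact hq
  have h1 : IsLocalization (Algebra.algebraMapSubmonoid (MvPolynomial (Fin n) k ⧸ I) q'.primeCompl)
      (Localization.AtPrime q' ⧸ I.map (algebraMap _ (Localization.AtPrime q'))) := inferInstance
  rw [Groth.Agent.Lead.Depth.algebraMapSubmonoid_quotient_primeCompl I q' hIq'] at h1
  haveI : IsLocalization.AtPrime
      (Localization.AtPrime q' ⧸ I.map (algebraMap _ (Localization.AtPrime q')))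
      (q'.map (Ideal.Quotient.mk I)) := h1
  have h2 := IsLocalization.AtPrime.ringKrullDim_eq_height (q'.map (Ideal.Quotient.mk I))
    (Localization.AtPrime q' ⧸ I.map (algebraMap _ (Localization.AtPrime q')))
  have h3 : q.height = (q'.map (Ideal.Quotient.mk I)).height := by rw [hmap]
  rw [h3]
  exact h2

/-- the dimension equation for `L` -/
theorem dim_eq (c : ℕ) (hc : (c : ℕ∞) + q.height = (q.comap (Ideal.Quotient.mk I)).height) :
    ringKrullDim (Localization.AtPrime (q.comap (Ideal.Quotient.mk I)) ⧸
      I.map (algebraMap _ (Localization.AtPrime (q.comap (Ideal.Quotient.mk I))))) +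
      (c : WithBot ℕ∞) = ringKrullDim (Localization.AtPrime (q.comap (Ideal.Quotient.mk I))) := by
  haveI hq'p : (q.comap (Ideal.Quotient.mk I)).IsPrime := Ideal.comap_isPrime _ _
  rw [dim_quot, IsLocalization.AtPrime.ringKrullDim_eq_height (q.comap (Ideal.Quotient.mk I)) _,
    ← hc, add_comm]
  rfl

include k in
theorem height_finite (c : ℕ)
    (hc : (c : ℕ∞) + q.height = (q.comap (Ideal.Quotient.mk I)).height) :
    ∃ η : ℕ, q.height = (η : ℕ∞) := by
  obtain ⟨δ, -, hq'δ, -⟩ := exists_delta k n I q
  rw [← hc] at hq'δ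
  have hfin : q.height ≠ ⊤ := by
    intro htop
    rw [htop, add_top, top_add] at hq'δ
    exact absurd hq'δ (by simp)
  obtain ⟨η, hη⟩ := ENat.ne_top_iff_exists.mp hfin
  exact ⟨η, hη.symm⟩

theorem main (c : ℕ)
    (hc : (c : ℕ∞) + q.height = (q.comap (Ideal.Quotient.mk I)).height) :
    ((∃ g : MvPolynomial (Fin n) k ⧸ I, g ∉ q ∧ Synt.IsGlobalCI k (Localization.Away g)) ↔
        ∃ s : Finset (Localization.AtPrime (q.comap (Ideal.Quotient.mk I))), s.card = c ∧
          Ideal.span (s : Set _) =
            I.map (algebraMap _ (Localization.AtPrime (q.comap (Ideal.Quotient.mk I))))) ∧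
      ((∃ g : MvPolynomial (Fin n) k ⧸ I, g ∉ q ∧ Synt.IsGlobalCI k (Localization.Away g)) ↔
        ∃ rs : List (Localization.AtPrime (q.comap (Ideal.Quotient.mk I))),
          RingTheory.Sequence.IsRegular (Localization.AtPrime (q.comap (Ideal.Quotient.mk I))) rs ∧
          Ideal.ofList rs =
            I.map (algebraMap _ (Localization.AtPrime (q.comap (Ideal.Quotient.mk I))))) := by
  classical
  haveI hq'p : (q.comap (Ideal.Quotient.mk I)).IsPrime := Ideal.comap_isPrime _ _
  haveI hCMP : LocCoh.IsCohenMacaulayRing (MvPolynomial (Fin n) k) :=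
    Groth.Agent.Helper7.CplFlat.isCohenMacaulayRing_of_isRegularRing _
  haveI hCM : LocCoh.IsCohenMacaulayLocalRing
      (Localization.AtPrime (q.comap (Ideal.Quotient.mk I))) :=
    hCMP.isCohenMacaulayLocalRing_localization _
  have hG : (∃ g : MvPolynomial (Fin n) k ⧸ I, g ∉ q ∧ Synt.IsGlobalCI k (Localization.Away g)) ↔
      ∃ f : Fin c → Localization.AtPrime (q.comap (Ideal.Quotient.mk I)),
        Ideal.span (Set.range f) =
          I.map (algebraMap _ (Localization.AtPrime (q.comap (Ideal.Quotient.mk I)))) := by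
    constructor
    · rintro ⟨g, hg, hT⟩
      obtain ⟨gt, rfl⟩ := Ideal.Quotient.mk_surjective g
      exact gens_of_globalCI k n I q c hc gt hg hT
    · rintro ⟨f, hf⟩
      exact globalCI_of_gens k n I q c hc f hf
  have hdim := dim_eq k n I q c hc
  have hdq := dim_quot k n I q
  obtain ⟨η, hη⟩ := height_finite k n I q c hc
  rw [hη] at hdq
  have hIq' : I ≤ q.comap (Ideal.Quotient.mk I) := by
    intro x hx
    rw [Ideal.mem_comap, Ideal.Quotient.eq_zero_iff_mem.mpr hx]
    exact q.zero_mem
  have hIm : I.map (algebraMap _ (Localization.AtPrime (q.comap (Ideal.Quotient.mk I)))) ≤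
      maximalIdeal (Localization.AtPrime (q.comap (Ideal.Quotient.mk I))) := by
    rw [← IsLocalization.AtPrime.map_eq_maximalIdeal (q.comap (Ideal.Quotient.mk I))
      (Localization.AtPrime (q.comap (Ideal.Quotient.mk I)))]
    exact Ideal.map_mono hIq'
  rw [hG]
  refine ⟨⟨?_, ?_⟩, ⟨?_, ?_⟩⟩
  · rintro ⟨f, hf⟩
    have hcoe : ((Finset.univ.image f : Finset _) : Set
        (Localization.AtPrime (q.comap (Ideal.Quotient.mk I)))) = Set.range f := by
      rw [Finset.coe_image, Finset.coe_univ, Set.image_univ]
    refine ⟨Finset.univ.image f, ?_, ?_⟩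
    · apply le_antisymm
      · exact (Finset.card_image_le).trans (by simp)
      · have h1 := ringKrullDim_le_ringKrullDim_quotient_add_card
          (R := Localization.AtPrime (q.comap (Ideal.Quotient.mk I)))
          (Finset.univ.image f) (by
            rw [hcoe, IsLocalRing.ringJacobson_eq_maximalIdeal]
            rintro _ ⟨i, rfl⟩
            exact hIm (hf ▸ Ideal.subset_span ⟨i, rfl⟩))
        rw [hcoe, hf, ← hdim, hdq] at h1
        have h2 : η + c ≤ η + (Finset.univ.image f).card := by exact_mod_cast h1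
        omega
    · rw [hcoe]; exact hf
  · rintro ⟨s, hs, hspan⟩
    refine ⟨fun i => ((s.equivFinOfCardEq hs).symm i : Localization.AtPrime _), ?_⟩
    rw [← hspan]
    congr 1
    ext x
    simp only [Set.mem_range, Finset.mem_coe]
    constructor
    · rintro ⟨i, rfl⟩
      exact ((s.equivFinOfCardEq hs).symm i).2
    · intro hx
      exact ⟨s.equivFinOfCardEq hs ⟨x, hx⟩, by simp⟩
  · rintro ⟨f, hf⟩
    have hofl : Ideal.ofList (List.ofFn f) = Ideal.span (Set.range f) := by
      unfold Ideal.ofList
      congr 1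
      ext r
      simp [List.mem_ofFn]
    refine ⟨List.ofFn f, ?_, hofl.trans hf⟩
    apply Groth.Agent.S12082.reg_of_dim
    · intro x hx
      rw [List.mem_ofFn] at hx
      obtain ⟨i, rfl⟩ := hx
      exact hIm (hf ▸ Ideal.subset_span ⟨i, rfl⟩)
    · rw [hofl, hf, List.length_ofFn]
      exact hdim
  · rintro ⟨rs, hreg, hrs⟩
    have hlen : rs.length = c := by
      have h1 := ringKrullDim_add_length_eq_ringKrullDim_of_isRegular rs hreg
      rw [hrs, ← hdim, hdq] at h1
      have h2 : η + rs.length = η + c := by exact_mod_cast h1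
      omega
    refine ⟨fun i => rs.get (i.cast hlen.symm), ?_⟩
    rw [← hrs]
    unfold Ideal.ofList
    congr 1
    ext x
    simp only [Set.mem_range, Set.mem_ofPred_eq]
    constructor
    · rintro ⟨i, rfl⟩
      exact List.get_mem _ _
    · intro hx
      obtain ⟨i, rfl⟩ := List.get_of_mem hx
      exact ⟨i.cast hlen, by simp⟩

end

/-- Let S = k[x_1, …, x_n]/I over a field k, q a prime of S, q' the corresponding prime of the
polynomial ring and c the integer with c + ht(q) = ht(q'). Equivalent: (1) S_g is a global complete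
intersection over k for some g ∉ q; (2) the extension of I to the local ring k[x]_{q'} is generated
by c elements; (5) that extension is generated by a regular sequence. Stated as (1) ↔ (2) and (1) ↔
(5). -/
theorem result (k : Type u) [Field k] (n : ℕ)
    (I : Ideal (MvPolynomial (Fin n) k)) (q : Ideal (MvPolynomial (Fin n) k ⧸ I)) [q.IsPrime] (c : ℕ)
    (hc : (c : ℕ∞) + q.height = (q.comap (Ideal.Quotient.mk I)).height) :
    ((∃ g : MvPolynomial (Fin n) k ⧸ I, g ∉ q ∧ Synt.IsGlobalCI k (Localization.Away g)) ↔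
        ∃ s : Finset (Localization.AtPrime (q.comap (Ideal.Quotient.mk I))), s.card = c ∧
          Ideal.span (s : Set _) =
            I.map (algebraMap _ (Localization.AtPrime (q.comap (Ideal.Quotient.mk I))))) ∧
      ((∃ g : MvPolynomial (Fin n) k ⧸ I, g ∉ q ∧ Synt.IsGlobalCI k (Localization.Away g)) ↔
        ∃ rs : List (Localization.AtPrime (q.comap (Ideal.Quotient.mk I))),
          RingTheory.Sequence.IsRegular (Localization.AtPrime (q.comap (Ideal.Quotient.mk I))) rs ∧
          Ideal.ofList rs =
            I.map (algebraMap _ (Localization.AtPrime (q.comap (Ideal.Quotient.mk I))))) := by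
  exact Groth.Agent.S9171.main k n I q c hc

end Groth.Agent.S9171
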