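import Groth.Statements.S9143
import Mathlib
import Groth.Agent.Lib.Helper2.CIField3
-- import your own Groth.Agent.* helpers here

set_option autoImplicit false
universe u
open Synt

namespace Groth.Agent.S9143

section
open Groth.Agent.Helper2.CIField IsLocalRing RingTheory.Sequence

variable (k S : Type u) [Field k] [CommRing S] [IsLocalRing S] [Algebra k S]
  [Algebra.EssFiniteType k S]

/-- some regular local ring essentially of finite type surjects onto `S` -/
theorem exists_regular_surjection :
    ∃ (R : Type u) (_ : CommRing R) (_ : IsRegularLocalRing R) (_ : Algebra k R),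
      Algebra.EssFiniteType k R ∧ ∃ π : R →ₐ[k] S, Function.Surjective π := by
  obtain ⟨S₀, _, _, hft, q, hq, ⟨E⟩⟩ := exists_finiteType_atPrime k S
  obtain ⟨n, φ, hφ⟩ := Algebra.FiniteType.iff_quotient_mvPolynomial''.mp hft
  haveI : (q.comap φ).IsPrime := Ideal.comap_isPrime _ _
  refine ⟨Localization.AtPrime (q.comap φ), inferInstance, inferInstance, inferInstance,
    inferInstance, E.symm.toAlgHom.comp (Localization.localAlgHom (q.comap φ) q φ rfl), ?_⟩
  exact E.symm.surjective.comp (localAlgHom_surjective n φ hφ q (q.comap φ) rfl)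

theorem part2 : Synt.IsCIOver k S ↔
    ∀ (R : Type u) [CommRing R] [IsRegularLocalRing R] [Algebra k R], Algebra.EssFiniteType k R →
      ∀ π : R →ₐ[k] S, Function.Surjective π →
        ∃ rs : List R, RingTheory.Sequence.IsRegular R rs ∧ RingHom.ker π.toRingHom = Ideal.ofList rs := by
  constructor
  · intro h R _ _ _ hR π hπ
    exact (isCIOver_iff_of_surjective R hR π hπ).mp h
  · intro h
    obtain ⟨R, _, _, _, hR, π, hπ⟩ := exists_regular_surjection k S
    exact (isCIOver_iff_of_surjective R hR π hπ).mpr (h R hR π hπ)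

theorem part3 : Synt.IsCIOver k S ↔
    ∃ (R : Type u) (_ : CommRing R) (_ : IsRegularLocalRing R) (_ : Algebra k R),
      Algebra.EssFiniteType k R ∧ ∃ π : R →ₐ[k] S, Function.Surjective π ∧
        ∃ rs : List R, RingHom.ker π.toRingHom = Ideal.ofList rs ∧
          ringKrullDim R = ringKrullDim S + (rs.length : WithBot ℕ∞) := by
  constructor
  · rintro ⟨R, i1, i2, i3, hess, rs, hmem, hreg, ⟨ψ⟩⟩
    refine ⟨R, i1, i2, i3, hess, ψ.symm.toAlgHom.comp (Ideal.Quotient.mkₐ k (Ideal.ofList rs)),
      ψ.symm.surjective.comp (Ideal.Quotient.mkₐ_surjective k _), rs, ?_, ?_⟩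
    · ext x
      rw [RingHom.mem_ker]
      show ψ.symm (Ideal.Quotient.mk _ x) = 0 ↔ _
      rw [map_eq_zero_iff _ ψ.symm.injective, Ideal.Quotient.eq_zero_iff_mem]
    · rw [ringKrullDim_eq_of_ringEquiv ψ.toRingEquiv]
      exact (ringKrullDim_add_length_eq_ringKrullDim_of_isRegular rs hreg).symm
  · rintro ⟨R, i1, i2, i3, hess, π, hπ, rs, hker, hdim⟩
    refine (isCIOver_iff_of_surjective R hess π hπ).mpr ⟨rs, ?_, hker⟩
    refine Groth.Agent.Helper3.CT6.isRegular_of_dim R _ (RingHom.ker_ne_top π.toRingHom) rs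
      hker.symm ?_
    have e := (RingHom.quotientKerEquivOfSurjective (f := π.toRingHom) hπ)
    rw [ringKrullDim_eq_of_ringEquiv e, hdim, add_comm]

theorem part4 : Synt.IsCIOver k S ↔
    ∃ (A : Type u) (_ : CommRing A) (_ : Algebra k A) (a : Ideal A) (_ : a.IsPrime),
      Algebra.FiniteType k A ∧ Synt.IsGlobalCI k A ∧ Nonempty (S ≃ₐ[k] Localization.AtPrime a) := by
  constructor
  · intro h
    obtain ⟨S₀, _, _, hft, q, hq, ⟨E⟩⟩ := exists_finiteType_atPrime k S
    have h1 := isCIOver_of_algEquiv E h
    obtain ⟨g, hg, hG⟩ := (isCIOver_atPrime_iff_globalCI k S₀ q).mp h1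
    obtain ⟨a, ha, ⟨E'⟩⟩ := exists_atPrime_away_equiv k S₀ q g hg
    exact ⟨Localization.Away g, inferInstance, inferInstance, a, ha, inferInstance, hG,
      ⟨E.trans E'⟩⟩
  · rintro ⟨A, _, _, a, ha, hft, hG, ⟨E⟩⟩
    exact isCIOver_of_algEquiv E.symm
      (isCIOver_atPrime_of_lciOver k A (lciOver_of_globalCI k A hG) a)

theorem part5 : Synt.IsCIOver k S ↔
    ∃ (A : Type u) (_ : CommRing A) (_ : Algebra k A) (a : Ideal A) (_ : a.IsPrime),
      Synt.IsLCIOver k A ∧ Nonempty (S ≃ₐ[k] Localization.AtPrime a) := by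
  constructor
  · intro h
    obtain ⟨A, i1, i2, a, ha, hft, hG, hE⟩ := (part4 k S).mp h
    exact ⟨A, i1, i2, a, ha, lciOver_of_globalCI k A hG, hE⟩
  · rintro ⟨A, _, _, a, ha, hL, ⟨E⟩⟩
    haveI := hL.1
    exact isCIOver_of_algEquiv E.symm (isCIOver_atPrime_of_lciOver k A hL a)

end

theorem main (k S : Type u) [Field k] [CommRing S]
    [IsLocalRing S] [Algebra k S] [Algebra.EssFiniteType k S] :
    (Synt.IsCIOver k S ↔
        ∀ (R : Type u) [CommRing R] [IsRegularLocalRing R] [Algebra k R], Algebra.EssFiniteType k R →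
          ∀ π : R →ₐ[k] S, Function.Surjective π →
            ∃ rs : List R, RingTheory.Sequence.IsRegular R rs ∧ RingHom.ker π.toRingHom = Ideal.ofList rs) ∧
      (Synt.IsCIOver k S ↔
        ∃ (R : Type u) (_ : CommRing R) (_ : IsRegularLocalRing R) (_ : Algebra k R),
          Algebra.EssFiniteType k R ∧ ∃ π : R →ₐ[k] S, Function.Surjective π ∧
            ∃ rs : List R, RingHom.ker π.toRingHom = Ideal.ofList rs ∧
              ringKrullDim R = ringKrullDim S + (rs.length : WithBot ℕ∞)) ∧
      (Synt.IsCIOver k S ↔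
        ∃ (A : Type u) (_ : CommRing A) (_ : Algebra k A) (a : Ideal A) (_ : a.IsPrime),
          Algebra.FiniteType k A ∧ Synt.IsGlobalCI k A ∧ Nonempty (S ≃ₐ[k] Localization.AtPrime a)) ∧
      (Synt.IsCIOver k S ↔
        ∃ (A : Type u) (_ : CommRing A) (_ : Algebra k A) (a : Ideal A) (_ : a.IsPrime),
          Synt.IsLCIOver k A ∧ Nonempty (S ≃ₐ[k] Localization.AtPrime a)) :=
  ⟨part2 k S, part3 k S, part4 k S, part5 k S⟩

/-- For a local k-algebra S which is essentially of finite type over a field k, being a complete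
intersection over k is equivalent to each of: (2) whenever a regular local ring R, essentially of
finite type over k, maps onto S by a surjective k-algebra map, the kernel is generated by a regular
sequence; (3) some regular local ring R, essentially of finite type over k, maps onto S by a
surjective k-algebra map whose kernel is generated by a list of dim R − dim S elements (stated as
dim R = dim S + the length of the list); (4) S is isomorphic over k to a localization at a prime of
a global complete intersection over k; (5) the same with a local complete intersection over k. -/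
theorem result (k S : Type u) [Field k] [CommRing S]
    [IsLocalRing S] [Algebra k S] [Algebra.EssFiniteType k S] :
    (Synt.IsCIOver k S ↔
        ∀ (R : Type u) [CommRing R] [IsRegularLocalRing R] [Algebra k R], Algebra.EssFiniteType k R →
          ∀ π : R →ₐ[k] S, Function.Surjective π →
            ∃ rs : List R, RingTheory.Sequence.IsRegular R rs ∧ RingHom.ker π.toRingHom = Ideal.ofList rs) ∧
      (Synt.IsCIOver k S ↔
        ∃ (R : Type u) (_ : CommRing R) (_ : IsRegularLocalRing R) (_ : Algebra k R),
          Algebra.EssFiniteType k R ∧ ∃ π : R →ₐ[k] S, Function.Surjective π ∧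
            ∃ rs : List R, RingHom.ker π.toRingHom = Ideal.ofList rs ∧
              ringKrullDim R = ringKrullDim S + (rs.length : WithBot ℕ∞)) ∧
      (Synt.IsCIOver k S ↔
        ∃ (A : Type u) (_ : CommRing A) (_ : Algebra k A) (a : Ideal A) (_ : a.IsPrime),
          Algebra.FiniteType k A ∧ Synt.IsGlobalCI k A ∧ Nonempty (S ≃ₐ[k] Localization.AtPrime a)) ∧
      (Synt.IsCIOver k S ↔
        ∃ (A : Type u) (_ : CommRing A) (_ : Algebra k A) (a : Ideal A) (_ : a.IsPrime),
          Synt.IsLCIOver k A ∧ Nonempty (S ≃ₐ[k] Localization.AtPrime a)) := by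
  exact Groth.Agent.S9143.main k S

end Groth.Agent.S9143
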