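import Groth.Statements.S5068
import Mathlib
import Groth.Agent.Lib.Lead.Flat7
import Groth.Agent.Lib.Helper2.CIPi1
import Groth.Agent.S2166
-- import your own Groth.Agent.* helpers here

set_option autoImplicit false
universe u
open CInt

namespace Groth.Agent.S5068

section

open TensorProduct RingTheory.Sequence Pointwise IsLocalRing Groth.Agent.Lead.FlatDepth

section General

variable {R S : Type u} [CommRing R] [CommRing S] [Algebra R S]

/-- `N ⧸ (ofList [] ) N ≃ N`. -/
theorem flat_quot_nil (N : Type u) [AddCommGroup N] [Module S N] [Module R N] [IsScalarTower R S N]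
    [Module.Flat R N] :
    Module.Flat R (N ⧸ (Ideal.ofList ([] : List S) • ⊤ : Submodule S N)) := by
  have h0 : (Ideal.ofList ([] : List S) • ⊤ : Submodule S N) = ⊥ := by
    rw [Ideal.ofList_nil, Submodule.bot_smul]
  exact Module.Flat.of_linearEquiv ((Submodule.quotEquivOfEqBot _ h0).restrictScalars R)

theorem flat_quotSMulTop_of_singleton (N : Type u) [AddCommGroup N] [Module S N] [Module R N]
    [IsScalarTower R S N] (y : S)
    (h : Module.Flat R (N ⧸ (Ideal.ofList [y] • ⊤ : Submodule S N))) :
    Module.Flat R (QuotSMulTop y N) := by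
  have h0 : (Ideal.ofList [y] • ⊤ : Submodule S N) = y • ⊤ := by
    rw [Ideal.ofList_singleton, Submodule.ideal_span_singleton_smul]
  exact Module.Flat.of_linearEquiv ((Submodule.quotEquivOfEq _ _ h0).symm.restrictScalars R)

/-- Transversally regular ⇒ weakly regular on every base change. -/
theorem isWeaklyRegular_tensor_of_trans (M : Type u) [AddCommGroup M] [Module R M] (rs : List S) :
    ∀ (N : Type u) [AddCommGroup N] [Module S N] [Module R N] [IsScalarTower R S N],
    IsWeaklyRegular N rs →
    (∀ j : ℕ, j ≤ rs.length → Module.Flat R (N ⧸ (Ideal.ofList (rs.take j) • ⊤ : Submodule S N))) →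
    IsWeaklyRegular (N ⊗[R] M) rs := by
  induction rs with
  | nil => intro N _ _ _ _ _ _; exact IsWeaklyRegular.nil S _
  | cons y rs ih =>
    intro N _ _ _ _ h hfl
    rw [isWeaklyRegular_cons_iff] at h ⊢
    haveI hflat : Module.Flat R (QuotSMulTop y N) :=
      flat_quotSMulTop_of_singleton N y (hfl 1 (by simp))
    refine ⟨isSMulRegular_tensor_of_left N M y h.1, ?_⟩
    refine ((quotSMulTopTensorLeft N M y).isWeaklyRegular_congr rs).mpr ?_
    refine ih (QuotSMulTop y N) h.2 (fun j hj => ?_)
    have h1 := hfl (j + 1) (by simpa using hj)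
    rw [List.take_succ_cons] at h1
    exact Module.Flat.of_linearEquiv
      ((Submodule.quotOfListConsSMulTopEquivQuotSMulTopInner N y (rs.take j)).symm.restrictScalars R)

end General

section Local

variable {R S : Type u} [CommRing R] [CommRing S] [IsLocalRing R] [IsLocalRing S]
  [IsNoetherianRing R] [IsNoetherianRing S] [Algebra R S] [IsLocalHom (algebraMap R S)]

/-- Regular on the closed fibre ⇒ all partial quotients flat. -/
theorem flat_take_of_fibre (rs : List S) : ∀ (N : Type u) [AddCommGroup N] [Module S N]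
    [Module R N] [IsScalarTower R S N] [Module.Finite S N] [Module.Flat R N],
    IsWeaklyRegular (N ⊗[R] (R ⧸ maximalIdeal R)) rs → ∀ j : ℕ,
    Module.Flat R (N ⧸ (Ideal.ofList (rs.take j) • ⊤ : Submodule S N)) := by
  induction rs with
  | nil => intro N _ _ _ _ _ _ _ j; rw [List.take_nil]; exact flat_quot_nil N
  | cons y rs ih =>
    intro N _ _ _ _ _ _ h j
    rw [isWeaklyRegular_cons_iff] at h
    obtain ⟨hy, hflat⟩ := isSMulRegular_and_flat_of_fibre N y h.1
    haveI := hflat
    cases j with
    | zero => rw [List.take_zero]; exact flat_quot_nil N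
    | succ j =>
      rw [List.take_succ_cons]
      have h2 := ih (QuotSMulTop y N)
        (((quotSMulTopTensorLeft N (R ⧸ maximalIdeal R) y).isWeaklyRegular_congr rs).mp h.2) j
      exact Module.Flat.of_linearEquiv
        ((Submodule.quotOfListConsSMulTopEquivQuotSMulTopInner N y (rs.take j)).restrictScalars R)

end Local

section Ring

variable {A C : Type u} [CommRing A] [CommRing C] [Algebra A C]

/-- For a flat quotient `C ⧸ J`, `J ∩ I C ⊆ (I C) J`. -/
theorem inf_le_mul_of_flat (J : Ideal C) [Module.Flat A (C ⧸ J)] (I : Ideal A) :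
    J ⊓ I.map (algebraMap A C) ≤ I.map (algebraMap A C) * J := by
  intro z hz
  let ι : J →ₗ[A] C := J.subtype.restrictScalars A
  let π : C →ₗ[A] C ⧸ J := (Ideal.Quotient.mkₐ A J).toLinearMap
  have hπ : Function.Surjective π := Ideal.Quotient.mk_surjective
  have hex : Function.Exact ι π := by
    intro c
    change Ideal.Quotient.mk J c = 0 ↔ _
    rw [Ideal.Quotient.eq_zero_iff_mem]
    constructor
    · intro hc; exact ⟨⟨c, hc⟩, rfl⟩
    · rintro ⟨j, rfl⟩; exact j.2
  have hinj := LinearMap.lTensor_injective_of_exact_of_flat π hπ ι Subtype.val_injective hex (A ⧸ I)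
  let zJ : J := ⟨z, hz.1⟩
  have h2 : (1 : A ⧸ I) ⊗ₜ[A] z = 0 := by
    apply (TensorProduct.quotTensorEquivQuotSMul C I).injective
    rw [TensorProduct.quotTensorEquivQuotSMul_mk_one_tmul, map_zero, Submodule.Quotient.mk_eq_zero,
      Ideal.smul_top_eq_map]
    exact hz.2
  have h3 : (1 : A ⧸ I) ⊗ₜ[A] zJ = 0 := by
    apply hinj
    rw [map_zero, LinearMap.lTensor_tmul]
    exact h2
  have h4 : zJ ∈ I • (⊤ : Submodule A J) := by
    have := congrArg (TensorProduct.quotTensorEquivQuotSMul J I) h3
    rwa [TensorProduct.quotTensorEquivQuotSMul_mk_one_tmul, map_zero,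
      Submodule.Quotient.mk_eq_zero] at this
  have h5 : z ∈ Submodule.map ι (I • (⊤ : Submodule A J)) := ⟨zJ, h4, rfl⟩
  rw [Submodule.map_smul''] at h5
  have h6 : I • Submodule.map ι ⊤ ≤ (I.map (algebraMap A C) * J).restrictScalars A := by
    refine Submodule.smul_le.mpr fun a ha n hn => ?_
    obtain ⟨j, -, rfl⟩ := hn
    change a • (j : C) ∈ I.map (algebraMap A C) * J
    rw [Algebra.smul_def]
    exact Ideal.mul_mem_mul (Ideal.mem_map_of_mem _ ha) j.2
  exact h6 h5

end Ring

section Main

variable (A C B : Type u) [CommRing A] [IsLocalRing A] [CommRing C] [IsLocalRing C]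
  [Algebra A C] [IsLocalHom (algebraMap A C)]
  [CommRing B] [IsLocalRing B] [Algebra C B] [Algebra A B] [IsScalarTower A C B]
  [IsLocalHom (algebraMap A B)]

/-- The ideal of the closed fibre of `B` in the closed fibre of `C`. -/
noncomputable abbrev J0 : Ideal (EGA4.FibRing A C) :=
  (RingHom.ker (algebraMap C B)).map (Ideal.Quotient.mk (EGA4.mB A C))

theorem mB_le_comap : EGA4.mB A C ≤ (EGA4.mB A B).comap (algebraMap C B) := by
  rw [← Ideal.map_le_iff_le_comap, Ideal.map_map, ← IsScalarTower.algebraMap_eq]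

theorem nonempty_fib_equiv (hsurj : Function.Surjective (algebraMap C B)) :
    Nonempty ((EGA4.FibRing A C ⧸ J0 A C B) ≃+* EGA4.FibRing A B) := by
  let ψ : EGA4.FibRing A C →+* EGA4.FibRing A B :=
    Ideal.quotientMap (EGA4.mB A B) (algebraMap C B) (mB_le_comap A C B)
  have hψ : Function.Surjective ψ := Ideal.quotientMap_surjective hsurj
  have hker : RingHom.ker ψ = J0 A C B := by
    apply Ideal.comap_injective_of_surjective (Ideal.Quotient.mk (EGA4.mB A C))
      Ideal.Quotient.mk_surjective
    rw [J0, Ideal.comap_map_of_surjective _ Ideal.Quotient.mk_surjective, ← RingHom.ker_eq_comap_bot,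
      Ideal.mk_ker, RingHom.comap_ker]
    have h1 : ψ.comp (Ideal.Quotient.mk (EGA4.mB A C)) =
        (Ideal.Quotient.mk (EGA4.mB A B)).comp (algebraMap C B) := by
      ext c; rfl
    rw [h1, ← RingHom.comap_ker, Ideal.mk_ker]
    have h2 : EGA4.mB A B = (EGA4.mB A C).map (algebraMap C B) := by
      rw [EGA4.mB, EGA4.mB, Ideal.map_map, ← IsScalarTower.algebraMap_eq]
    rw [h2, Ideal.comap_map_of_surjective _ hsurj, ← RingHom.ker_eq_comap_bot, sup_comm]
  exact ⟨(Ideal.quotEquivOfEq hker.symm).trans (RingHom.quotientKerEquivOfSurjective hψ)⟩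

theorem J0_ne_top (hsurj : Function.Surjective (algebraMap C B)) : J0 A C B ≠ ⊤ := by
  intro h
  obtain ⟨e⟩ := nonempty_fib_equiv A C B hsurj
  haveI : Subsingleton (EGA4.FibRing A C ⧸ J0 A C B) := Ideal.Quotient.subsingleton_iff.mpr h
  exact not_subsingleton (EGA4.FibRing A B) e.symm.toEquiv.subsingleton

/-- weak regularity on the closed fibre: module form vs ring form. -/
theorem isWeaklyRegular_fib_iff (rs : List C) :
    IsWeaklyRegular (C ⊗[A] (A ⧸ maximalIdeal A)) rs ↔
      IsWeaklyRegular (EGA4.FibRing A C) (rs.map (Ideal.Quotient.mk (EGA4.mB A C))) := by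
  have h0 : (EGA4.mB A C • ⊤ : Submodule C C) = EGA4.mB A C := by
    rw [smul_eq_mul, Ideal.mul_top]
  rw [← ((fibreEquiv (S := C) (maximalIdeal A) C).isWeaklyRegular_congr rs),
    (Submodule.quotEquivOfEq _ _ h0).isWeaklyRegular_congr rs]
  exact (isWeaklyRegular_map_algebraMap_iff (EGA4.FibRing A C) (EGA4.FibRing A C) rs).symm

theorem flat_quot_iff (I : Ideal C) :
    Module.Flat A (C ⧸ (I • ⊤ : Submodule C C)) ↔ Module.Flat A (C ⧸ I) := by
  have h0 : (I • ⊤ : Submodule C C) = I := by
    rw [smul_eq_mul, Ideal.mul_top]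
  exact Module.Flat.equiv_iff ((Submodule.quotEquivOfEq _ _ h0).restrictScalars A)

theorem exists_lift (J : Ideal C) (I : Ideal C) (gs : List (C ⧸ I))
    (h : ∀ g ∈ gs, g ∈ J.map (Ideal.Quotient.mk I)) :
    ∃ rs : List C, rs.map (Ideal.Quotient.mk I) = gs ∧ ∀ c ∈ rs, c ∈ J := by
  induction gs with
  | nil => exact ⟨[], rfl, by simp⟩
  | cons g gs ih =>
    obtain ⟨rs, hrs, hmem⟩ := ih (fun x hx => h x (List.mem_cons_of_mem _ hx))
    obtain ⟨c, hc, hcg⟩ := (Ideal.mem_map_iff_of_surjective _ Ideal.Quotient.mk_surjective).mp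
      (h g (List.mem_cons_self))
    refine ⟨c :: rs, by rw [List.map_cons, hcg, hrs], ?_⟩
    intro x hx
    rcases List.mem_cons.mp hx with rfl | hx
    · exact hc
    · exact hmem x hx

end Main

section Final

theorem main (A C B : Type u) [CommRing A] [IsLocalRing A]
    [IsNoetherianRing A] [CommRing C] [IsLocalRing C] [IsNoetherianRing C] [Algebra A C] [IsLocalHom (algebraMap A C)]
    [Module.Flat A C] (hreg : IsRegularLocalRing (EGA4.FibRing A C))
    [CommRing B] [IsLocalRing B] [Algebra C B] [Algebra A B] [IsScalarTower A C B] [IsLocalHom (algebraMap A B)]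
    (hsurj : Function.Surjective (algebraMap C B)) :
    (∃ rs : List C, Ideal.ofList rs = RingHom.ker (algebraMap C B) ∧ RegImm.IsTransRegularSeq A C rs) ↔
      (Module.Flat A B ∧ Pi1.IsCompleteIntersection (EGA4.FibRing A B)) := by
  haveI := hreg
  obtain ⟨e⟩ := nonempty_fib_equiv A C B hsurj
  have hJ0 := J0_ne_top A C B hsurj
  haveI : Nontrivial (EGA4.FibRing A C ⧸ J0 A C B) := Ideal.Quotient.nontrivial_iff.mpr hJ0
  haveI : IsLocalRing (EGA4.FibRing A C ⧸ J0 A C B) :=
    IsLocalRing.of_surjective' (Ideal.Quotient.mk (J0 A C B)) Ideal.Quotient.mk_surjective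
  have hS := Groth.Agent.S2166.result (R := EGA4.FibRing A C) (J0 A C B) hJ0
  let eB : (C ⧸ RingHom.ker (algebraMap C B)) ≃ₐ[A] B :=
    Ideal.quotientKerAlgEquivOfSurjective (f := IsScalarTower.toAlgHom A C B) hsurj
  constructor
  · rintro ⟨rs, hker, hwr, hfl⟩
    constructor
    · have h1 := hfl rs.length le_rfl
      rw [List.take_length, hker] at h1
      exact Module.Flat.of_linearEquiv eB.symm.toLinearEquiv
    · refine Groth.Agent.Helper2.CIPi1.isCI_of_ringEquiv e (hS.mpr ?_)
      refine ⟨rs.map (Ideal.Quotient.mk (EGA4.mB A C)), ?_, ?_⟩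
      · rw [← Ideal.map_ofList, hker]
      · have h1 : IsWeaklyRegular (C ⊗[A] (A ⧸ maximalIdeal A)) rs :=
          isWeaklyRegular_tensor_of_trans (A ⧸ maximalIdeal A) rs C hwr
            (fun j hj => (flat_quot_iff A C _).mpr (hfl j hj))
        refine ⟨(isWeaklyRegular_fib_iff A C rs).mp h1, ?_⟩
        rw [smul_eq_mul, Ideal.mul_top, ← Ideal.map_ofList, hker]
        exact hJ0.symm
  · rintro ⟨hflatB, hCI⟩
    have hCI' := Groth.Agent.Helper2.CIPi1.isCI_of_ringEquiv e.symm hCI
    obtain ⟨gs, hgs, hgreg⟩ := hS.mp hCI'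
    obtain ⟨rs, hmap, hmem⟩ := exists_lift C (RingHom.ker (algebraMap C B)) (EGA4.mB A C) gs
      (fun g hg => by
        have : g ∈ Ideal.ofList gs := Ideal.subset_span hg
        rwa [hgs] at this)
    have hfib : IsWeaklyRegular (C ⊗[A] (A ⧸ maximalIdeal A)) rs :=
      (isWeaklyRegular_fib_iff A C rs).mpr (hmap ▸ hgreg.toIsWeaklyRegular)
    have hwr : IsWeaklyRegular C rs := isWeaklyRegular_of_fibre rs C hfib
    have hfl : ∀ j : ℕ, Module.Flat A (C ⧸ Ideal.ofList (rs.take j)) := fun j =>
      (flat_quot_iff A C _).mp (flat_take_of_fibre rs C hfib j)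
    refine ⟨rs, ?_, hwr, fun j _ => hfl j⟩
    have hle : Ideal.ofList rs ≤ RingHom.ker (algebraMap C B) := Ideal.span_le.mpr hmem
    refine le_antisymm hle ?_
    haveI : Module.Flat A (C ⧸ RingHom.ker (algebraMap C B)) :=
      Module.Flat.of_linearEquiv eB.toLinearEquiv
    have hinf := inf_le_mul_of_flat (A := A) (RingHom.ker (algebraMap C B)) (maximalIdeal A)
    have hmC : EGA4.mB A C ≤ Ideal.jacobson ⊥ := by
      rw [IsLocalRing.jacobson_eq_maximalIdeal ⊥ bot_ne_top]
      exact IsLocalRing.map_maximalIdeal_le (algebraMap A C)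
    refine Submodule.le_of_le_smul_of_le_jacobson_bot (I := EGA4.mB A C)
      (IsNoetherian.noetherian _) hmC ?_
    intro x hx
    have h1 : Ideal.Quotient.mk (EGA4.mB A C) x ∈ (Ideal.ofList rs).map
        (Ideal.Quotient.mk (EGA4.mB A C)) := by
      rw [Ideal.map_ofList, hmap, hgs]
      exact Ideal.mem_map_of_mem _ hx
    obtain ⟨y, hy, hyx⟩ := (Ideal.mem_map_iff_of_surjective _ Ideal.Quotient.mk_surjective).mp h1
    have h2 : x - y ∈ EGA4.mB A C := by
      rw [← Ideal.Quotient.eq, hyx]
    have h3 : x - y ∈ RingHom.ker (algebraMap C B) := Ideal.sub_mem _ hx (hle hy)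
    have h4 := hinf ⟨h3, h2⟩
    have : x = y + (x - y) := by ring
    rw [this]
    exact Submodule.add_mem_sup hy h4

end Final

end

/-- Suppose A and C are Noetherian local rings joined by a flat local homomorphism A → C whose closed
fibre C/m_A C is a regular local ring, and consider a local ring B obtained as a quotient of C by an
ideal J (encoded as a surjective C-algebra B, with J taken to be the kernel). The ideal J admits a
generating sequence that is transversally regular relative to A (each term a non-zero-divisor modulo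
the previous ones, and every partial quotient C/(f_1, …, f_j) A-flat) exactly when two things hold:
B is A-flat, and B/m_A B is a complete intersection (meaning its completion is a regular local ring
divided by a regular sequence). -/
theorem result (A C B : Type u) [CommRing A] [IsLocalRing A]
    [IsNoetherianRing A] [CommRing C] [IsLocalRing C] [IsNoetherianRing C] [Algebra A C] [IsLocalHom (algebraMap A C)]
    [Module.Flat A C] (hreg : IsRegularLocalRing (EGA4.FibRing A C))
    [CommRing B] [IsLocalRing B] [Algebra C B] [Algebra A B] [IsScalarTower A C B] [IsLocalHom (algebraMap A B)]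
    (hsurj : Function.Surjective (algebraMap C B)) :
    (∃ rs : List C, Ideal.ofList rs = RingHom.ker (algebraMap C B) ∧ RegImm.IsTransRegularSeq A C rs) ↔
      (Module.Flat A B ∧ Pi1.IsCompleteIntersection (EGA4.FibRing A B)) := by
  exact Groth.Agent.S5068.main A C B hreg hsurj

end Groth.Agent.S5068
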