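import Groth.Statements.S4961
import Groth.Agent.Lib.Helper16.Sch.CMSch2
import Groth.Agent.Lib.Helper16.Sch.CMSch3

set_option autoImplicit false
open CategoryTheory AlgebraicGeometry
universe u v w
open EGA43

namespace Groth.Agent.S4961

/-- Let f : X ⟶ Y be a morphism locally of finite presentation. The set of points x of X at which f is
Cohen–Macaulay (f flat at x and the local ring at x of the fibre through x Cohen–Macaulay) is open
in X. -/
theorem result {X Y : Scheme.{u}} (f : X ⟶ Y)
    [LocallyOfFinitePresentation f] : IsOpen {x : X | MoreMor.IsCMAt f x} := by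
  rw [isOpen_iff_forall_mem_open]
  intro x hx
  obtain ⟨n, U, hxU, g, hcomm, hqf, hfl⟩ :=
    Groth.Agent.Helper16.CMSch.exists_qf_flat_to_affineSpace f x hx
  haveI := hqf
  haveI := hfl
  refine ⟨U, ?_, U.2, hxU⟩
  intro x' hx'
  exact Groth.Agent.Helper16.CMSch.isCMAt_of_qf_flat_to_affineSpace f x' n U hx' g hcomm
    (AlgebraicGeometry.Flat.stalkMap g ⟨x', hx'⟩)

end Groth.Agent.S4961
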