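import Groth.Statements.S9831
import Groth.Agent.Lib.Helper13.ExtMain3

set_option autoImplicit false
universe u
open CategoryTheory CategoryTheory.Limits AlgebraicGeometry TopologicalSpace Opposite
open Props

namespace Groth.Agent.S9831

/-- On a quasi-compact quasi-separated scheme, a quasi-coherent module of finite type on a quasi-compact
open U is the restriction of a quasi-coherent module of finite type on the whole scheme. -/
theorem result {X : Scheme.{u}} [CompactSpace X]
    [QuasiSeparatedSpace X] (U : X.Opens) (hU : IsCompact (U : Set X)) (G : (U : Scheme.{u}).Modules)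
    [Coh.IsQCoh G] (hG : CohB1.IsFT G) :
    ∃ G' : X.Modules, Coh.IsQCoh G' ∧ CohB1.IsFT G' ∧ Nonempty (G'.restrict U.ι ≅ G) := by
  haveI : SheafOfModules.IsFiniteType (R := (U : Scheme.{u}).ringCatSheaf) G := hG
  obtain ⟨n, V, hV, hUV⟩ := Groth.Agent.Helper13.Ext.exists_goodCover_of_qcqs (X := X)
  haveI : QuasiCompact U.ι := Groth.Agent.Helper13.Ext.quasiCompact_ι_of_forall U (fun W hW => by
    rw [TopologicalSpace.Opens.coe_inf]
    exact QuasiSeparatedSpace.inter_isCompact (α := X) (U : Set X) (W : Set X) U.2 hU W.2
      hW.isCompact)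
  exact Groth.Agent.Helper13.Ext.exists_extension_of_module V hV U (hUV U hU) G

end Groth.Agent.S9831
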