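import Groth.Statements.S2454
import Mathlib
import Groth.Agent.Lib.Helper14.FlatNilSmooth
import Groth.Agent.Lib.Helper9.SepFS
-- import your own Groth.Agent.* helpers here

set_option autoImplicit false
universe u
open EGA41

namespace Groth.Agent.S2454

open IsLocalRing in
/-- Let A → B be a local homomorphism of Noetherian local rings making B a Cohen A-algebra. Then B, with
its adic topology, is formally smooth over A with its adic topology. -/
theorem result {A B : Type u} [CommRing A] [IsLocalRing A] [CommRing B] [IsLocalRing B]
    [Algebra A B] [IsLocalHom (algebraMap A B)] (h : EGA41.IsCohenAlgebra A B) :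
    EGA41.IsFormallySmoothAdic A (maximalIdeal A) B (maximalIdeal B) := by
  obtain ⟨hA, hB, hcomp, hflat, hm, hsep⟩ := h
  apply Groth.Agent.Helper14.FlatNilSmooth.isFormallySmoothAdic_of_flat
  have hfs : Algebra.FormallySmooth (ResidueField A) (ResidueField B) :=
    Groth.Agent.Helper9.SepFS.formallySmooth_iff_isGeometricallyReduced.mpr hsep
  have h1 : (algebraMap (ResidueField A) (ResidueField B)).FormallySmooth :=
    RingHom.formallySmooth_algebraMap.mpr hfs
  have h2 : Groth.Agent.Helper14.FlatNilSmooth.qmap (B := B) (maximalIdeal A) =
      ((Ideal.quotEquivOfEq hm.symm : B ⧸ maximalIdeal B ≃+* _) : B ⧸ maximalIdeal B →+* _).comp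
        (algebraMap (ResidueField A) (ResidueField B)) := by
    ext x
    rfl
  rw [h2]
  exact RingHom.FormallySmooth.comp h1
    (RingHom.FormallySmooth.of_bijective (Ideal.quotEquivOfEq hm.symm).bijective)

end Groth.Agent.S2454
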