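import Groth.Statements.S4515
import Mathlib

set_option autoImplicit false
universe u
open EGA41

namespace Groth.Agent.S4515

/-- Let A be a ring, J an ideal of A, and M, N two A-modules which are Hausdorff for the J-adic
topology; suppose moreover that N is J-adically complete and M is flat. Let u : N → M be A-linear.
If the induced map N/JN → M/JM is bijective (surjectivity and injectivity written out below), then u
is bijective. -/
theorem result {A : Type u} [CommRing A] (J : Ideal A)
    {M N : Type u} [AddCommGroup M] [Module A M] [AddCommGroup N] [Module A N]
    [IsHausdorff J M] [IsAdicComplete J N] [Module.Flat A M] (u : N →ₗ[A] M)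
    (hsurj : ∀ m : M, ∃ n : N, m - u n ∈ (J • ⊤ : Submodule A M))
    (hinj : ∀ n : N, u n ∈ (J • ⊤ : Submodule A M) → n ∈ (J • ⊤ : Submodule A N)) :
    Function.Bijective u := by
  constructor
  · rw [injective_iff_map_eq_zero]
    intro n hn
    have key : ∀ k : ℕ, ∀ n : N, u n = 0 → n ∈ (J ^ k • ⊤ : Submodule A N) := by
      intro k
      induction k with
      | zero => intro n _; simp
      | succ k ih =>
        intro n hn
        have hk := ih n hn
        have hk' : n ∈ (J ^ k) • Submodule.span A (Set.range (id : N → N)) := by
          rw [Set.range_id, Submodule.span_univ]; exact hk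
        obtain ⟨a, ha, hsum⟩ := (Submodule.mem_ideal_smul_span_iff_exists_sum (J ^ k) (id : N → N) n).mp hk'
        have hsum' : ∑ i : a.support, a i • (i : N) = n := by
          rw [← hsum, Finsupp.sum]
          exact Finset.sum_coe_sort a.support (fun i => a i • id i)
        have hrel : ∑ i : a.support, a i • u i = 0 := by
          rw [← hn, ← hsum', map_sum]
          simp
        obtain ⟨κ, b, y, hxy, hab⟩ := Module.Flat.isTrivialRelation_of_sum_smul_eq_zero hrel
        choose n' hn' using hsurj
        have he : ∀ i : a.support, (i : N) - ∑ j, b i j • n' (y j) ∈ (J • ⊤ : Submodule A N) := by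
          intro i
          apply hinj
          have hxy' : u (i : N) = ∑ j, b i j • y j := hxy i
          rw [map_sub, map_sum, hxy', ← Finset.sum_sub_distrib]
          apply Submodule.sum_mem
          intro j _
          rw [map_smul, ← smul_sub]
          exact Submodule.smul_mem _ _ (hn' (y j))
        have hn_eq : n = ∑ i : a.support, a i • ((i : N) - ∑ j, b i j • n' (y j)) := by
          simp only [smul_sub, Finset.sum_sub_distrib, Finset.smul_sum, smul_smul]
          rw [Finset.sum_comm]
          have : ∀ j, ∑ i : a.support, (a i * b i j) • n' (y j) = 0 := by
            intro j; rw [← Finset.sum_smul, hab j, zero_smul]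
          simp only [this, Finset.sum_const_zero, sub_zero]
          exact hsum'.symm
        rw [hn_eq, pow_succ, mul_smul]
        apply Submodule.sum_mem
        intro i _
        exact Submodule.smul_mem_smul (ha i) (he i)
    apply IsHausdorff.haus (I := J) inferInstance
    intro k
    rw [SModEq.zero]
    exact key k n hn
  · apply surjective_of_mkQ_comp_surjective (I := J)
    intro q
    obtain ⟨m, rfl⟩ := Submodule.mkQ_surjective _ q
    obtain ⟨n, hn⟩ := hsurj m
    refine ⟨n, ?_⟩
    simp only [LinearMap.coe_comp, Function.comp_apply, Submodule.mkQ_apply]
    rw [eq_comm, Submodule.Quotient.eq]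
    exact hn

end Groth.Agent.S4515
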