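import Groth.Statements.S4543
import Mathlib
import Groth.Agent.S4515
-- import your own Groth.Agent.* helpers here

set_option autoImplicit false
universe u
open EGA41

namespace Groth.Agent.S4543

/-- one lifting step -/
theorem lift_step {A B B' : Type u} [CommRing A] (J : Ideal A)
    [CommRing B] [Algebra A B] [CommRing B'] [Algebra A B']
    (hfs : EGA41.IsFormallySmoothAdic A J B (J.map (algebraMap A B))) (n : ℕ) (hn : 1 ≤ n)
    (v : B →ₐ[A] B' ⧸ (J.map (algebraMap A B')) ^ n) :
    ∃ w : B →ₐ[A] B' ⧸ (J.map (algebraMap A B')) ^ (n + 1),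
      (Ideal.Quotient.factorₐ A (Ideal.pow_le_pow_right (Nat.le_succ n))).comp w = v := by
  generalize hI' : J.map (algebraMap A B') = I' at v ⊢
  have hle : I' ^ (n + 1) ≤ I' ^ n := Ideal.pow_le_pow_right (Nat.le_succ n)
  have hnil : IsNilpotent ((I' ^ n).map (Ideal.Quotient.mkₐ A (I' ^ (n + 1)))) := by
    refine ⟨2, ?_⟩
    rw [← Ideal.map_pow, ← pow_mul, Ideal.zero_eq_bot, eq_bot_iff]
    rw [Ideal.map_le_iff_le_comap]
    intro x hx
    rw [Ideal.mem_comap, Ideal.mem_bot]
    exact Ideal.Quotient.eq_zero_iff_mem.mpr (Ideal.pow_le_pow_right (by omega) hx)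
  have hkill : ∃ k : ℕ, (J ^ k).map (algebraMap A (B' ⧸ I' ^ (n + 1))) = ⊥ := by
    refine ⟨n + 1, ?_⟩
    have h1 : algebraMap A (B' ⧸ I' ^ (n + 1)) =
        (Ideal.Quotient.mk (I' ^ (n + 1))).comp (algebraMap A B') := rfl
    rw [h1, ← Ideal.map_map, Ideal.map_pow, hI', Ideal.map_quotient_self]
  let e := DoubleQuot.quotQuotEquivQuotOfLEₐ A hle
  have hv : ∀ x ∈ (J.map (algebraMap A B)) ^ n, v x = 0 := by
    intro x hx
    have h1 : Ideal.map v.toRingHom ((J.map (algebraMap A B)) ^ n) = ⊥ := by
      rw [← Ideal.map_pow, Ideal.map_map]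
      have h2 : v.toRingHom.comp (algebraMap A B) = algebraMap A (B' ⧸ I' ^ n) := by
        ext a
        exact v.commutes a
      rw [h2]
      have h3 : algebraMap A (B' ⧸ I' ^ n) =
          (Ideal.Quotient.mk (I' ^ n)).comp (algebraMap A B') := rfl
      rw [h3, ← Ideal.map_map, Ideal.map_pow, hI', Ideal.map_quotient_self]
    have h4 := Ideal.mem_map_of_mem v.toRingHom hx
    rw [h1] at h4
    exact h4
  obtain ⟨w, hw⟩ := hfs (B' ⧸ I' ^ (n + 1)) _ hnil hkill ((e.symm : _ →ₐ[A] _).comp v)
    ⟨n, fun x hx => by rw [AlgHom.comp_apply, hv x hx, map_zero]⟩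
  refine ⟨w, ?_⟩
  ext b
  have h1 := DFunLike.congr_fun hw b
  simp only [AlgHom.comp_apply] at h1
  have h2 := congrArg e h1
  have h3 : e ((e.symm : _ →ₐ[A] _) (v b)) = v b := e.apply_symm_apply (v b)
  rw [h3] at h2
  rw [AlgHom.comp_apply, ← h2]
  obtain ⟨c, hc⟩ := Ideal.Quotient.mk_surjective (w b)
  rw [← hc]
  rfl

/-- lift all the way to the complete ring -/
theorem exists_lift {A B B' : Type u} [CommRing A] (J : Ideal A)
    [CommRing B] [Algebra A B] [CommRing B'] [Algebra A B']
    [IsAdicComplete (J.map (algebraMap A B')) B']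
    (hfs : EGA41.IsFormallySmoothAdic A J B (J.map (algebraMap A B)))
    (v₁ : B →ₐ[A] B' ⧸ (J.map (algebraMap A B')) ^ 1) :
    ∃ u : B →ₐ[A] B', (Ideal.Quotient.mkₐ A ((J.map (algebraMap A B')) ^ 1)).comp u = v₁ := by
  classical
  -- the sequence of successive lifts, `G k : B → B' ⧸ I' ^ (k + 1)`
  let G : (k : ℕ) → B →ₐ[A] B' ⧸ (J.map (algebraMap A B')) ^ (k + 1) := fun k =>
    Nat.rec (motive := fun k => B →ₐ[A] B' ⧸ (J.map (algebraMap A B')) ^ (k + 1)) v₁
      (fun k vk => Classical.choose (lift_step J hfs (k + 1) (Nat.le_add_left 1 k) vk)) k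
  have hG0 : G 0 = v₁ := rfl
  have hGs : ∀ k, (Ideal.Quotient.factorₐ A (Ideal.pow_le_pow_right (Nat.le_succ (k + 1)))).comp
      (G (k + 1)) = G k := fun k =>
    Classical.choose_spec (lift_step J hfs (k + 1) (Nat.le_add_left 1 k) (G k))
  have hGle : ∀ m n (hmn : m ≤ n),
      (Ideal.Quotient.factorₐ A (Ideal.pow_le_pow_right (Nat.succ_le_succ hmn))).comp (G n) =
        G m := by
    intro m n hmn
    induction n, hmn using Nat.le_induction with
    | base =>
      ext b
      obtain ⟨c, hc⟩ := Ideal.Quotient.mk_surjective (G m b)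
      rw [AlgHom.comp_apply, ← hc]
      rfl
    | succ n hmn ih =>
      rw [← ih, ← hGs n, ← AlgHom.comp_assoc]
      congr 1
      ext b
      obtain ⟨c, hc⟩ := Ideal.Quotient.mk_surjective b
      rw [← hc]
      rfl
  let f : (n : ℕ) → B →ₐ[A] B' ⧸ (J.map (algebraMap A B')) ^ n := fun n =>
    (Ideal.Quotient.factorₐ A (Ideal.pow_le_pow_right (Nat.le_succ n))).comp (G n)
  have hf : ∀ {m n : ℕ} (hle : m ≤ n),
      (Ideal.Quotient.factorₐ A (Ideal.pow_le_pow_right hle)).comp (f n) = f m := by
    intro m n hle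
    change (Ideal.Quotient.factorₐ A _).comp ((Ideal.Quotient.factorₐ A _).comp (G n)) =
      (Ideal.Quotient.factorₐ A _).comp (G m)
    rw [← hGle m n hle, ← AlgHom.comp_assoc, ← AlgHom.comp_assoc]
    congr 1
    ext b
    obtain ⟨c, hc⟩ := Ideal.Quotient.mk_surjective b
    rw [← hc]
    rfl
  refine ⟨IsAdicComplete.liftAlgHom (J.map (algebraMap A B')) f hf, ?_⟩
  rw [IsAdicComplete.mkₐ_comp_liftAlgHom]
  change (Ideal.Quotient.factorₐ A _).comp (G 1) = v₁
  rw [← hG0]
  exact hGs 0

open IsLocalRing in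
/-- Let A be a Noetherian ring, J an ideal of A, B and B' two A-algebras which are Noetherian local
rings, the structure maps being continuous for the J-adic topology on A (JB and JB' lie in the
maximal ideals); suppose B and B' are complete for the J-adic topologies, B is a formally smooth
A-algebra for the J-adic topology on A and the JB-adic topology on B (nilpotent test ideals, test
algebras killed by a power of J, test maps killing a power of JB), and B' is a flat A-module. Then
every (A/J)-algebra isomorphism u₀ : B/JB ≅ B'/JB' comes from an A-algebra isomorphism u : B ≅ B' by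
passing to quotients. (B is taken formally smooth for the JB-adic topology, the topology along which
the argument lifts B → B'/JB' to B'; read with the convention that a local ring carries the adic
topology of its maximal ideal, the published hypothesis would be formal smoothness for the
maximal-ideal topology on B, a weaker condition when JB is strictly smaller than the maximal ideal,
and that reading is not what the argument establishes.) -/
theorem result {A B B' : Type u} [CommRing A] [IsNoetherianRing A] (J : Ideal A)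
    [CommRing B] [IsLocalRing B] [IsNoetherianRing B] [Algebra A B]
    [CommRing B'] [IsLocalRing B'] [IsNoetherianRing B'] [Algebra A B']
    (hB : J.map (algebraMap A B) ≤ maximalIdeal B) (hB' : J.map (algebraMap A B') ≤ maximalIdeal B')
    [IsAdicComplete (J.map (algebraMap A B)) B] [IsAdicComplete (J.map (algebraMap A B')) B']
    (hfs : EGA41.IsFormallySmoothAdic A J B (J.map (algebraMap A B))) [Module.Flat A B']
    (u₀ : (B ⧸ J.map (algebraMap A B)) ≃ₐ[A ⧸ J] (B' ⧸ J.map (algebraMap A B'))) :
    ∃ u : B ≃ₐ[A] B', ∀ b : B,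
      Ideal.Quotient.mk (J.map (algebraMap A B')) (u b) = u₀ (Ideal.Quotient.mk (J.map (algebraMap A B)) b) := by
  classical
  let ePow : (B' ⧸ J.map (algebraMap A B')) ≃ₐ[A] B' ⧸ (J.map (algebraMap A B')) ^ 1 :=
    Ideal.quotientEquivAlgOfEq A (pow_one _).symm
  let u₀A : (B ⧸ J.map (algebraMap A B)) →ₐ[A] (B' ⧸ J.map (algebraMap A B')) :=
    u₀.toAlgHom.restrictScalars A
  have hu₀A : ∀ q, u₀A q = u₀ q := fun q => rfl
  obtain ⟨u, hu⟩ := exists_lift (B' := B') J hfs
    (ePow.toAlgHom.comp (u₀A.comp (Ideal.Quotient.mkₐ A (J.map (algebraMap A B)))))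
  have hu' : ∀ b, Ideal.Quotient.mk (J.map (algebraMap A B')) (u b) =
      u₀ (Ideal.Quotient.mk _ b) := by
    intro b
    have h1 := DFunLike.congr_fun hu b
    have h1' : Ideal.Quotient.mk (J.map (algebraMap A B') ^ 1) (u b) =
        ePow (u₀A (Ideal.Quotient.mk (J.map (algebraMap A B)) b)) := h1
    have h2 := congrArg ePow.symm h1'
    rw [AlgEquiv.symm_apply_apply, hu₀A] at h2
    rw [← h2]
    rfl
  haveI : IsAdicComplete J B :=
    (IsAdicComplete.map_algebraMap_iff (R := A) (S := B) (M := B) (I := J)).mp inferInstance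
  haveI : IsAdicComplete J B' :=
    (IsAdicComplete.map_algebraMap_iff (R := A) (S := B') (M := B') (I := J)).mp inferInstance
  have hmem : ∀ (x : B'), x ∈ (J • ⊤ : Submodule A B') ↔ x ∈ J.map (algebraMap A B') := by
    intro x
    rw [Ideal.smul_top_eq_map]
    rfl
  have hmemB : ∀ (x : B), x ∈ (J • ⊤ : Submodule A B) ↔ x ∈ J.map (algebraMap A B) := by
    intro x
    rw [Ideal.smul_top_eq_map]
    rfl
  have hbij : Function.Bijective u.toLinearMap := by
    apply Groth.Agent.S4515.result J u.toLinearMap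
    · intro m
      obtain ⟨q, hq⟩ := u₀.surjective (Ideal.Quotient.mk _ m)
      obtain ⟨b, rfl⟩ := Ideal.Quotient.mk_surjective q
      refine ⟨b, ?_⟩
      rw [hmem, ← Ideal.Quotient.eq_zero_iff_mem, map_sub]
      change _ - Ideal.Quotient.mk _ (u b) = 0
      rw [hu', hq, sub_self]
    · intro n hn
      rw [hmem] at hn
      change u n ∈ _ at hn
      rw [← Ideal.Quotient.eq_zero_iff_mem, hu'] at hn
      rw [hmemB, ← Ideal.Quotient.eq_zero_iff_mem]
      exact u₀.injective (hn.trans (map_zero u₀).symm)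
  exact ⟨AlgEquiv.ofBijective u hbij, hu'⟩

end Groth.Agent.S4543
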