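import Groth.Statements.S3866
import Mathlib.RingTheory.AdicCompletion.AsTensorProduct

set_option autoImplicit false
universe u
open AdicRing

namespace Groth.Agent.S3866

/-- Let A be a Noetherian ring that is complete and separated for the J-adic topology, where J is an
ideal of A. Then every finite A-module M is itself complete and separated for the J-adic topology.
(This is the algebraic fact behind the statement that the global sections of the sheaf M^Δ on the
formal spectrum of A recover M.) -/
theorem result (A : Type u) [CommRing A] [IsNoetherianRing A]
    (J : Ideal A) [IsAdicComplete J A] (M : Type u) [AddCommGroup M] [Module A M] [Module.Finite A M] :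
    IsAdicComplete J M := by
  rw [← AdicCompletion.of_bijective_iff]
  have h1 := AdicCompletion.ofTensorProduct_bijective_of_finite_of_isNoetherian J M
  let e : M ≃ₗ[A] TensorProduct A (AdicCompletion J A) M :=
    (TensorProduct.lid A M).symm ≪≫ₗ
      (TensorProduct.congr (AdicCompletion.ofLinearEquiv J A) (LinearEquiv.refl A M))
  have h3 : AdicCompletion.of J A 1 = 1 := by
    have := AdicCompletion.algebraMap_apply (S := A) J (R := A) 1
    simpa using this.symm
  have h2 : (AdicCompletion.of J M : M → AdicCompletion J M) =
      (AdicCompletion.ofTensorProduct J M) ∘ e := by
    funext x
    simp [e, h3]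
  rw [h2]
  exact h1.comp e.bijective

end Groth.Agent.S3866
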