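import Groth.Statements.S4793
import Mathlib
import Groth.Agent.Lib.Helper13.PullbackEpi
import Groth.Agent.Lib.Helper28.SuppProper
-- import your own Groth.Agent.* helpers here

set_option autoImplicit false
universe u
open CategoryTheory AlgebraicGeometry
open Lim8

namespace Groth.Agent.S4793

/-- Let S = lim S_i be a cofiltered limit of schemes with affine transition maps and S_{i₀} a
quasi-compact stage; let F₀ be a quasi-coherent O-module and G₀ a quasi-coherent O-module of finite
type on S_{i₀}, and f₀ : F₀ ⟶ G₀ a homomorphism. Then the pullback of f₀ along S ⟶ S_{i₀} is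
surjective (an epimorphism of O_S-modules) if and only if, for some index j over i₀, the pullback of
f₀ along S_j ⟶ S_{i₀} is surjective. -/
theorem result {I : Type u} [SmallCategory I] [IsCofiltered I]
    (D : I ⥤ Scheme.{u}) (c : Limits.Cone D) (hc : Limits.IsLimit c)
    [∀ (i j : I) (f : i ⟶ j), IsAffineHom (D.map f)] (i₀ : I) [CompactSpace (D.obj i₀)]
    {F₀ G₀ : (D.obj i₀).Modules} [Coh.IsQCoh F₀]
    [Coh.IsQCoh G₀] (hG₀ft : CohB1.IsFT G₀) (f₀ : F₀ ⟶ G₀) :
    Epi ((Scheme.Modules.pullback (c.π.app i₀)).map f₀) ↔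
      ∃ (j : I) (φ : j ⟶ i₀), Epi ((Scheme.Modules.pullback (D.map φ)).map f₀) := by
  classical
  haveI : SheafOfModules.IsFiniteType (R := (D.obj i₀).ringCatSheaf) G₀ := hG₀ft
  haveI : ∀ {i j : I} (f : i ⟶ j), IsAffineHom (D.map f) := fun f => inferInstance
  haveI hqc : SheafOfModules.IsQuasicoherent (R := (D.obj i₀).ringCatSheaf)
      (Limits.cokernel f₀ : (D.obj i₀).Modules) :=
    Groth.Agent.Helper13.QCohLocal.isQuasicoherent_cokernel f₀
  haveI hepi : Epi (Limits.cokernel.π f₀) := Limits.coequalizer.π_epi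
  haveI hft : SheafOfModules.IsFiniteType (R := (D.obj i₀).ringCatSheaf)
      (Limits.cokernel f₀ : (D.obj i₀).Modules) :=
    @Groth.Agent.Helper13.FinType.isFiniteType_of_epi _ _ _ (Limits.cokernel.π f₀) hepi _
  have hZ : IsClosed (CohB1.support (Limits.cokernel f₀ : (D.obj i₀).Modules)) :=
    Groth.Agent.Helper28.SuppProper.isClosed_support _
  set Z₀ := CohB1.support (Limits.cokernel f₀ : (D.obj i₀).Modules) with hZ₀
  constructor
  · intro h
    rw [Groth.Agent.Helper13.Pullback.epi_pullback_map_iff] at h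
    by_contra hcon
    push Not at hcon
    have hne : ∀ (i : I) (hij : i ⟶ i₀), ((D.map hij).base ⁻¹' Z₀).Nonempty := by
      intro i hij
      have h1 := hcon i hij
      rw [Groth.Agent.Helper13.Pullback.epi_pullback_map_iff, Set.not_disjoint_iff] at h1
      obtain ⟨_, ⟨y, rfl⟩, hy⟩ := h1
      exact ⟨y, hy⟩
    have hcpt : ∀ (i : I) (hij : i ⟶ i₀), CompactSpace (D.obj i) := fun i hij =>
      QuasiCompact.compactSpace_of_compactSpace (D.map hij)
    obtain ⟨s, hs⟩ := exists_mem_of_isClosed_of_nonempty' D c hc (j := i₀)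
      (fun i hij => (D.map hij).base ⁻¹' Z₀)
      (fun i hij => hZ.preimage (D.map hij).continuous)
      hne
      (fun i hij => by
        haveI := hcpt i hij
        exact (hZ.preimage (D.map hij).continuous).isCompact)
      (fun i i' hi'i hij x hx => by
        simp only [Set.mem_preimage] at hx ⊢
        rw [D.map_comp] at hx
        exact hx)
    have h2 := hs i₀ (𝟙 i₀)
    simp only [Set.mem_preimage, D.map_id] at h2
    exact Set.disjoint_iff.mp h ⟨⟨s, rfl⟩, h2⟩
  · rintro ⟨j, φ, h⟩
    rw [Groth.Agent.Helper13.Pullback.epi_pullback_map_iff] at h ⊢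
    refine h.mono_left ?_
    rintro _ ⟨s, rfl⟩
    refine ⟨c.π.app j s, ?_⟩
    rw [← c.w φ]
    rfl

end Groth.Agent.S4793
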