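import Groth.Statements.S9687
import Groth.Agent.Lib.Helper14.ResFieldBridge
import Groth.Agent.Lib.Helper14.DimIneqGen
-- import your own Groth.Agent.* helpers here

set_option autoImplicit false
universe u
open CategoryTheory CategoryTheory.Limits AlgebraicGeometry
open Mor

namespace Groth.Agent.S9687

/-- Let S be locally Noetherian, f : X ⟶ S locally of finite type and x a point of X with image s. Let n
be the transcendence degree of κ(x) over κ(s) and let E bound the transcendence degree of κ(ξ) over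
κ(f ξ) for every generic point ξ of an irreducible component of X passing through x. Then dim
O_{X,x} + n ≤ dim O_{S,s} + E. (The published statement takes E to be the maximum of these
transcendence degrees; the statement with any upper bound E is equivalent.) -/
theorem result {X S : Scheme.{u}} [IsLocallyNoetherian S]
    (f : X ⟶ S) [LocallyOfFiniteType f] (x : X) (n E : ℕ)
    (hn : letI := (f.residueFieldMap x).hom.toAlgebra
      Algebra.trdeg (S.residueField (f.base x)) (X.residueField x) = n)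
    (hE : ∀ ξ : X, closure {ξ} ∈ irreducibleComponents ↥X → ξ ⤳ x →
      letI := (f.residueFieldMap ξ).hom.toAlgebra
      Algebra.trdeg (S.residueField (f.base ξ)) (X.residueField ξ) ≤ E) :
    ringKrullDim (X.presheaf.stalk x) + n ≤ ringKrullDim (S.presheaf.stalk (f.base x)) + E := by
  classical
  obtain ⟨V, hV, hxV, -⟩ :=
    exists_isAffineOpen_mem_and_subset (X := S) (x := f x) (U := ⊤) trivial
  obtain ⟨U, hU, hxU, hUV⟩ :=
    exists_isAffineOpen_mem_and_subset (X := X) (x := x) (U := f ⁻¹ᵁ V) hxV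
  letI alg : Algebra Γ(S, V) Γ(X, U) := (f.appLE V U hUV).hom.toAlgebra
  have halg : algebraMap Γ(S, V) Γ(X, U) = (f.appLE V U hUV).hom := rfl
  haveI : IsNoetherianRing Γ(S, V) := IsLocallyNoetherian.component_noetherian ⟨V, hV⟩
  haveI : Algebra.FiniteType Γ(S, V) Γ(X, U) :=
    Scheme.Hom.finiteType_appLE f hV hU hUV
  let q : Ideal Γ(X, U) := (hU.primeIdealOf ⟨x, hxU⟩).asIdeal
  haveI : q.IsPrime := (hU.primeIdealOf ⟨x, hxU⟩).isPrime
  let p : Ideal Γ(S, V) := q.under Γ(S, V)
  haveI : p.IsPrime := inferInstance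
  haveI : q.LiesOver p := inferInstance
  have hp : p = (hV.primeIdealOf ⟨f x, hUV hxU⟩).asIdeal :=
    Groth.Agent.Helper14.ResFieldBridge.under_primeIdealOf f hU hV hUV x hxU halg
  have hdx : ringKrullDim (X.presheaf.stalk x) = q.height :=
    Groth.Agent.Helper14.ResFieldBridge.ringKrullDim_stalk hU x hxU
  have hds : ringKrullDim (S.presheaf.stalk (f x)) = p.height := by
    rw [hp]; exact Groth.Agent.Helper14.ResFieldBridge.ringKrullDim_stalk hV (f x) (hUV hxU)
  have hnx : Algebra.trdeg (Γ(S, V) ⧸ p) (Γ(X, U) ⧸ q) = n := by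
    rw [← Groth.Agent.Helper14.ResFieldBridge.trdeg_residueField_eq f hU hV hUV x hxU halg p q rfl]
    exact hn
  have hE' : ∀ (Q : Ideal Γ(X, U)) [Q.IsPrime], Q ∈ minimalPrimes Γ(X, U) → Q ≤ q →
      Algebra.trdeg (Γ(S, V) ⧸ Q.under Γ(S, V)) (Γ(X, U) ⧸ Q) ≤ (E : Cardinal.{u}) := by
    intro Q hQp hQmin hQq
    let y : PrimeSpectrum Γ(X, U) := ⟨Q, hQp⟩
    let ξ : X := hU.fromSpec y
    have hξU : ξ ∈ U := Groth.Agent.Helper14.ResFieldBridge.fromSpec_mem hU y
    have hξy : hU.primeIdealOf ⟨ξ, hξU⟩ = y :=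
      Groth.Agent.Helper14.ResFieldBridge.primeIdealOf_fromSpec hU y
    have hcomp : closure {ξ} ∈ irreducibleComponents ↥X :=
      Groth.Agent.Helper14.ResFieldBridge.closure_mem_irreducibleComponents hU y hQmin
    have hsp : ξ ⤳ x := by
      have hx' : hU.fromSpec (hU.primeIdealOf ⟨x, hxU⟩) = x := hU.fromSpec_primeIdealOf ⟨x, hxU⟩
      rw [← hx']
      exact (Groth.Agent.Helper14.ResFieldBridge.specializes_fromSpec_iff hU _ _).mpr hQq
    have h1 := hE ξ hcomp hsp
    rw [← Groth.Agent.Helper14.ResFieldBridge.trdeg_residueField_eq f hU hV hUV ξ hξU halg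
      (Q.under Γ(S, V)) Q (by rw [hξy])]
    exact h1
  have key := Groth.Agent.Helper14.DimIneqGen.height_add_trdeg_le Γ(S, V) Γ(X, U) q p
    (E : Cardinal.{u}) hE'
  rw [hnx] at key
  have key2 : q.height + (n : ℕ∞) ≤ p.height + (E : ℕ∞) := by
    have : ((q.height + (n : ℕ∞) : ℕ∞) : Cardinal.{u}) ≤ ((p.height + (E : ℕ∞) : ℕ∞) : Cardinal.{u}) := by
      push_cast
      exact key
    exact_mod_cast this
  change ringKrullDim (X.presheaf.stalk x) + n ≤ ringKrullDim (S.presheaf.stalk (f x)) + E
  rw [hdx, hds]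
  exact_mod_cast key2

end Groth.Agent.S9687
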