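import Groth.Statements.S2073
import Mathlib

set_option autoImplicit false
universe u
open CAlg

namespace Groth.Agent.S2073

section Aux
open TensorProduct MvPolynomial
variable {R S : Type u} [CommRing R] [IsDomain R] [CommRing S] [Algebra R S]

omit [IsDomain R] in
lemma isLocalizedModule_includeRight :
    IsLocalizedModule (nonZeroDivisors R)
      (Algebra.TensorProduct.includeRight : S →ₐ[R] (FractionRing R) ⊗[R] S).toLinearMap := by
  have h := (isLocalizedModule_iff_isBaseChange (nonZeroDivisors R) (FractionRing R)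
    (TensorProduct.mk R (FractionRing R) S 1)).mpr (TensorProduct.isBaseChange R S (FractionRing R))
  exact h

attribute [local instance] MvPolynomial.algebraMvPolynomial in
/-- integrality descends up to a scalar and torsion -/
lemma exists_smul_integral (hinj : Function.Injective (algebraMap R S)) {d : ℕ} (y : Fin d → S)
    (h : MvPolynomial (Fin d) (FractionRing R) →ₐ[FractionRing R] (FractionRing R) ⊗[R] S)
    (hX : ∀ i, h (X i) = 1 ⊗ₜ y i) (hint : h.IsIntegral) (s : S) :
    ∃ a : R, a ≠ 0 ∧ IsIntegral (Algebra.adjoin R (Set.range y)) (a • s) := by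
  classical
  let T := (FractionRing R) ⊗[R] S
  let ι : S →ₐ[R] T := Algebra.TensorProduct.includeRight
  have hloc : IsLocalizedModule (nonZeroDivisors R) ι.toLinearMap := isLocalizedModule_includeRight
  let P := MvPolynomial (Fin d) R
  let PK := MvPolynomial (Fin d) (FractionRing R)
  let φ : P →ₐ[R] S := aeval y
  have hcomp : ι.toRingHom.comp φ.toRingHom =
      h.toRingHom.comp (MvPolynomial.map (algebraMap R (FractionRing R))) := by
    apply MvPolynomial.ringHom_ext
    · intro r
      show ι (φ (C r)) = h (MvPolynomial.map _ (C r))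
      rw [map_C, ← MvPolynomial.algebraMap_eq, AlgHom.commutes, ← MvPolynomial.algebraMap_eq,
        AlgHom.commutes, AlgHom.commutes, ← IsScalarTower.algebraMap_apply]
    · intro i
      show ι (φ (X i)) = h (MvPolynomial.map _ (X i))
      rw [map_X, hX, aeval_X]
      rfl
  let _ : Algebra PK T := h.toRingHom.toAlgebra
  let _ : Algebra P T := (h.toRingHom.comp (MvPolynomial.map (algebraMap R (FractionRing R)))).toAlgebra
  have : IsScalarTower P PK T := IsScalarTower.of_algebraMap_eq (fun x => rfl)
  have hintel : IsIntegral PK (ι s) := hint (ι s)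
  obtain ⟨⟨_, r, hr, rfl⟩, hm⟩ := IsIntegral.exists_multiple_integral_of_isLocalization
    ((nonZeroDivisors R).map (C (σ := Fin d))) (ι s) hintel
  have halg : ∀ p : P, algebraMap P T p = ι (φ p) := fun p =>
    (RingHom.congr_fun hcomp p).symm
  have hms : ((⟨C r, Submonoid.mem_map_of_mem C hr⟩ :
      (nonZeroDivisors R).map (C (σ := Fin d))) • ι s) = ι (r • s) := by
    rw [Submonoid.smul_def, Algebra.smul_def, halg]
    show ι (φ (C r)) * ι s = ι (r • s)
    rw [← map_mul, Algebra.smul_def]
    congr 2
    exact aeval_C _ _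
  rw [hms] at hm
  obtain ⟨q, hq, hq0⟩ := hm
  have hq1 : ι (Polynomial.eval₂ φ.toRingHom (r • s) q) = 0 := by
    have := Polynomial.hom_eval₂ q φ.toRingHom ι.toRingHom (r • s)
    rw [hcomp] at this
    exact this.trans hq0
  obtain ⟨c, hc⟩ := IsLocalizedModule.exists_of_eq (S := nonZeroDivisors R) (f := ι.toLinearMap)
    (x₁ := Polynomial.eval₂ φ.toRingHom (r • s) q) (x₂ := 0) (by simpa using hq1)
  rw [smul_zero] at hc
  have hcne : (c : R) ≠ 0 := nonZeroDivisors.ne_zero c.2
  have hrne : r ≠ 0 := nonZeroDivisors.ne_zero hr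
  refine ⟨c * r, mul_ne_zero hcne hrne, ?_⟩
  -- scale roots
  have hdeg : q.natDegree ≠ 0 := by
    intro h0
    have : q = 1 := by
      rw [Polynomial.eq_C_of_natDegree_eq_zero h0]
      have := hq.coeff_natDegree
      rw [h0] at this
      rw [this, map_one]
    rw [this, Polynomial.eval₂_one, Submonoid.smul_def, Algebra.smul_def, mul_one] at hc
    exact hcne (hinj (by rw [hc, map_zero]))
  have hz : Polynomial.eval₂ φ.toRingHom (φ (C (c : R)) * (r • s))
      (Polynomial.scaleRoots q (C (c : R))) = 0 := by
    have h1 := Polynomial.scaleRoots_eval₂_mul (p := q) φ.toRingHom (r • s) (C (c : R))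
    have h2 : φ.toRingHom (C (c : R)) = algebraMap R S c := aeval_C _ _
    rw [show φ (C (c : R)) = φ.toRingHom (C (c : R)) from rfl, h1, h2]
    obtain ⟨k, hk⟩ := Nat.exists_eq_succ_of_ne_zero hdeg
    rw [hk, pow_succ, mul_assoc, ← Algebra.smul_def, ← Submonoid.smul_def, hc, mul_zero]
  have hz' : φ (C (c : R)) * (r • s) = (c * r) • s := by
    have h2 : φ (C (c : R)) = algebraMap R S c := aeval_C _ _
    rw [h2, ← Algebra.smul_def, smul_smul]
  rw [hz'] at hz
  have hmonic : (Polynomial.scaleRoots q (C (c : R))).Monic :=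
    (Polynomial.monic_scaleRoots_iff _).mpr hq
  have key : IsIntegral φ.range ((c * r) • s) := by
    refine ⟨(Polynomial.scaleRoots q (C (c : R))).map φ.rangeRestrict.toRingHom,
      hmonic.map _, ?_⟩
    rw [Polynomial.eval₂_map]
    exact hz
  have hB : Algebra.adjoin R (Set.range y) = φ.range := Algebra.adjoin_range_eq_range_aeval R y
  rw [hB]
  exact key

theorem main [Algebra.FiniteType R S] (hinj : Function.Injective (algebraMap R S)) :
    ∃ (d : ℕ) (y : Fin d → S) (S' : Subalgebra R S), AlgebraicIndependent R y ∧ (∀ i, y i ∈ S') ∧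
      S'.FG ∧ (∀ s ∈ S', IsIntegral (Algebra.adjoin R (Set.range y)) s) ∧
      ∃ f : R, f ≠ 0 ∧ ∀ s : S, ∃ n : ℕ, (f ^ n) • s ∈ S' := by
  classical
  let T := (FractionRing R) ⊗[R] S
  let ι : S →ₐ[R] T := Algebra.TensorProduct.includeRight
  have hloc : IsLocalizedModule (nonZeroDivisors R) ι.toLinearMap := isLocalizedModule_includeRight
  have hinjL : Function.Injective
      (Algebra.TensorProduct.includeLeft : FractionRing R →ₐ[FractionRing R] T) :=
    Algebra.TensorProduct.includeLeft_injective hinj
  have : Nontrivial T := hinjL.nontrivial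
  obtain ⟨d, g, ginj, gint⟩ := exists_integral_inj_algHom_of_fg (FractionRing R) T
  have hA : ∀ i : Fin d, ∃ (y : S) (r : R), r ≠ 0 ∧ ι y = r • g (X i) := by
    intro i
    obtain ⟨⟨y, r⟩, h⟩ := IsLocalizedModule.surj (nonZeroDivisors R) ι.toLinearMap (g (X i))
    exact ⟨y, r, nonZeroDivisors.ne_zero r.2, h.symm⟩
  choose y r hr hy using hA
  let u : Fin d → FractionRing R := fun i => algebraMap R (FractionRing R) (r i)
  have hu : ∀ i, u i ≠ 0 := fun i =>
    (map_ne_zero_iff _ (IsFractionRing.injective R (FractionRing R))).mpr (hr i)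
  let σ : MvPolynomial (Fin d) (FractionRing R) →ₐ[FractionRing R]
      MvPolynomial (Fin d) (FractionRing R) := aeval (fun i => C (u i) * X i)
  let τ : MvPolynomial (Fin d) (FractionRing R) →ₐ[FractionRing R]
      MvPolynomial (Fin d) (FractionRing R) := aeval (fun i => C (u i)⁻¹ * X i)
  have hστ : σ.comp τ = AlgHom.id _ _ := by
    apply MvPolynomial.algHom_ext
    intro i
    simp only [AlgHom.coe_comp, Function.comp_apply, aeval_X, map_mul, AlgHom.coe_id, id, σ, τ,
      algHom_C, algebraMap_eq]
    rw [← mul_assoc, ← C_mul, inv_mul_cancel₀ (hu i), C_1, one_mul]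
  have hτσ : τ.comp σ = AlgHom.id _ _ := by
    apply MvPolynomial.algHom_ext
    intro i
    simp only [AlgHom.coe_comp, Function.comp_apply, aeval_X, map_mul, AlgHom.coe_id, id, σ, τ,
      algHom_C, algebraMap_eq]
    rw [← mul_assoc, ← C_mul, mul_inv_cancel₀ (hu i), C_1, one_mul]
  have σinj : Function.Injective σ := by
    intro a b hab
    have := congrArg τ hab
    rwa [← AlgHom.comp_apply, ← AlgHom.comp_apply, hτσ] at this
  have σsurj : Function.Surjective σ := fun a => ⟨τ a, by
    rw [← AlgHom.comp_apply, hστ]; rfl⟩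
  let h := g.comp σ
  have hX : ∀ i, h (X i) = 1 ⊗ₜ y i := by
    intro i
    have h1 : h (X i) = u i • g (X i) := by
      simp only [h, σ, AlgHom.coe_comp, Function.comp_apply, aeval_X, map_mul, algHom_C]
      exact (Algebra.smul_def _ _).symm
    have h2 : u i • g (X i) = r i • g (X i) := by
      simp only [u]
      rw [algebraMap_smul]
    rw [h1, h2, ← hy]
    rfl
  have hinj_h : Function.Injective h := ginj.comp σinj
  have hint : h.IsIntegral :=
    RingHom.IsIntegral.trans _ _ (RingHom.isIntegral_of_surjective _ σsurj) gint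
  -- algebraic independence
  have hindep : AlgebraicIndependent R y := by
    rw [algebraicIndependent_iff_injective_aeval]
    have hcomp : ι.toRingHom.comp (aeval y : MvPolynomial (Fin d) R →ₐ[R] S).toRingHom =
        h.toRingHom.comp (MvPolynomial.map (algebraMap R (FractionRing R))) := by
      apply MvPolynomial.ringHom_ext
      · intro r
        show ι (aeval y (C r)) = h (MvPolynomial.map _ (C r))
        rw [map_C, ← MvPolynomial.algebraMap_eq, AlgHom.commutes, ← MvPolynomial.algebraMap_eq,
          AlgHom.commutes, AlgHom.commutes, ← IsScalarTower.algebraMap_apply]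
      · intro i
        show ι (aeval y (X i)) = h (MvPolynomial.map _ (X i))
        rw [map_X, hX, aeval_X]
        rfl
    have : Function.Injective (ι.toRingHom.comp
        (aeval y : MvPolynomial (Fin d) R →ₐ[R] S).toRingHom) := by
      rw [hcomp]
      exact hinj_h.comp (MvPolynomial.map_injective _ (IsFractionRing.injective R (FractionRing R)))
    exact fun p q hpq => this (show ι (aeval y p) = ι (aeval y q) by rw [hpq])
  -- generators
  obtain ⟨t, ht⟩ := (Algebra.FiniteType.out : (⊤ : Subalgebra R S).FG)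
  have hB : ∀ x : S, ∃ a : R, a ≠ 0 ∧ IsIntegral (Algebra.adjoin R (Set.range y)) (a • x) :=
    fun x => exists_smul_integral hinj y h hX hint x
  choose a ha hax using hB
  let f : R := ∏ x ∈ t, a x
  have hf : f ≠ 0 := Finset.prod_ne_zero_iff.mpr fun x _ => ha x
  have hfx : ∀ x ∈ t, IsIntegral (Algebra.adjoin R (Set.range y)) (f • x) := by
    intro x hx
    have : f = (∏ x' ∈ t.erase x, a x') * a x := (Finset.prod_erase_mul t a hx).symm
    rw [this, mul_smul]
    exact (hax x).smul _
  let gens : Set S := Set.range y ∪ (fun x => f • x) '' (t : Set S)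
  let S' : Subalgebra R S := Algebra.adjoin R gens
  refine ⟨d, y, S', hindep, fun i => Algebra.subset_adjoin (Or.inl ⟨i, rfl⟩), ?_, ?_, f, hf, ?_⟩
  · refine ⟨Finset.univ.image y ∪ t.image (fun x => f • x), ?_⟩
    simp [S', gens]
  · intro s hs
    have hle : S' ≤ (integralClosure (Algebra.adjoin R (Set.range y)) S).restrictScalars R := by
      apply Algebra.adjoin_le
      rintro x (⟨i, rfl⟩ | ⟨x, hx, rfl⟩)
      · exact isIntegral_algebraMap (x := (⟨y i, Algebra.subset_adjoin ⟨i, rfl⟩⟩ :
          Algebra.adjoin R (Set.range y)))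
      · exact hfx x hx
    exact hle hs
  · intro s
    have hs : s ∈ Algebra.adjoin R (t : Set S) := by rw [ht]; trivial
    induction hs using Algebra.adjoin_induction with
    | mem x hx => exact ⟨1, by rw [pow_one]; exact Algebra.subset_adjoin (Or.inr ⟨x, hx, rfl⟩)⟩
    | algebraMap r => exact ⟨0, by rw [pow_zero, one_smul]; exact S'.algebraMap_mem r⟩
    | add x1 x2 _ _ h1 h2 =>
      obtain ⟨n1, h1⟩ := h1
      obtain ⟨n2, h2⟩ := h2
      refine ⟨n1 + n2, ?_⟩
      have : f ^ (n1 + n2) • (x1 + x2) = f ^ n2 • (f ^ n1 • x1) + f ^ n1 • (f ^ n2 • x2) := by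
        rw [smul_add, smul_smul, smul_smul, ← pow_add, ← pow_add, add_comm n2 n1]
      rw [this]
      exact S'.add_mem (S'.smul_mem h1 _) (S'.smul_mem h2 _)
    | mul x1 x2 _ _ h1 h2 =>
      obtain ⟨n1, h1⟩ := h1
      obtain ⟨n2, h2⟩ := h2
      refine ⟨n1 + n2, ?_⟩
      have : f ^ (n1 + n2) • (x1 * x2) = (f ^ n1 • x1) * (f ^ n2 • x2) := by
        rw [smul_mul_smul_comm, pow_add]
      rw [this]
      exact S'.mul_mem h1 h2


end Aux

/-- Let `R` be a domain and `R → S` an injective ring map of finite type. Then there are elements `y_1,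
…, y_d` of `S` algebraically independent over `R`, a finitely generated `R`-subalgebra `S'` of `S`
containing them and integral over `R[y_1, …, y_d]`, and a nonzero `f ∈ R` such that every element of
`S` lands in `S'` after multiplication by a power of `f`. -/
theorem result {R S : Type u} [CommRing R] [IsDomain R] [CommRing S] [Algebra R S]
    [Algebra.FiniteType R S] (hinj : Function.Injective (algebraMap R S)) :
    ∃ (d : ℕ) (y : Fin d → S) (S' : Subalgebra R S), AlgebraicIndependent R y ∧ (∀ i, y i ∈ S') ∧ S'.FG ∧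
      (∀ s ∈ S', IsIntegral (Algebra.adjoin R (Set.range y)) s) ∧
      ∃ f : R, f ≠ 0 ∧ ∀ s : S, ∃ n : ℕ, (f ^ n) • s ∈ S' := by
  exact main hinj

end Groth.Agent.S2073
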