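import Groth.Statements.S9651
import Mathlib
import Groth.Agent.Lib.Helper14.ImageOpen
-- import your own Groth.Agent.* helpers here

set_option autoImplicit false
universe u
open CAlg

namespace Groth.Agent.S9651

/-- Let R → S be a ring map of finite type, f : Spec(S) → Spec(R) the induced map and E ⊆ Spec(S) a
constructible subset. If ξ ∈ f(E) then f(E) ∩ cl{ξ} contains an open dense subset of the closure
cl{ξ}: some open U of Spec(R) has U ∩ cl{ξ} dense in cl{ξ} and contained in f(E). -/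
theorem result {R S : Type u} [CommRing R] [CommRing S] [Algebra R S] [Algebra.FiniteType R S]
    (E : Set (PrimeSpectrum S)) (hE : Topology.IsConstructible E) (ξ : PrimeSpectrum R) (hξ : ξ ∈ PrimeSpectrum.comap (algebraMap R S) '' E) :
    ∃ U : Set (PrimeSpectrum R), IsOpen U ∧ closure ({ξ} : Set (PrimeSpectrum R)) ⊆ closure (U ∩ closure {ξ}) ∧ U ∩ closure {ξ} ⊆ PrimeSpectrum.comap (algebraMap R S) '' E := by
  classical
  obtain ⟨η, hηE, rfl⟩ := hξ
  obtain ⟨D, rfl⟩ := PrimeSpectrum.exists_constructibleSetData_iff.mpr hE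
  simp only [PrimeSpectrum.ConstructibleSetData.toSet, Set.mem_iUnion, exists_prop] at hηE
  obtain ⟨C, hCD, hηC⟩ := hηE
  obtain ⟨hηg, hηf⟩ := hηC
  have hgP : Set.range C.g ⊆ η.asIdeal := hηg
  have hfP : C.f ∉ η.asIdeal := by
    intro h
    apply hηf
    rw [PrimeSpectrum.mem_zeroLocus]
    intro z hz
    rw [Set.mem_singleton_iff.mp hz]
    exact h
  obtain ⟨f, hfp, hf⟩ := Groth.Agent.Helper14.ImageOpen.exists_notMem_forall_prime_over
    (R := R) η.asIdeal C.f hfP
  refine ⟨PrimeSpectrum.basicOpen f, (PrimeSpectrum.basicOpen f).isOpen, ?_, ?_⟩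
  · apply closure_mono
    rw [Set.singleton_subset_iff]
    exact ⟨hfp, subset_closure rfl⟩
  · rintro x ⟨hxf, hxcl⟩
    rw [PrimeSpectrum.closure_singleton, PrimeSpectrum.mem_zeroLocus] at hxcl
    obtain ⟨Q, hQ, hPQ, hfQ, hQx⟩ := hf x.asIdeal x.2 hxcl hxf
    refine ⟨⟨Q, hQ⟩, ?_, PrimeSpectrum.ext hQx⟩
    simp only [PrimeSpectrum.ConstructibleSetData.toSet, Set.mem_iUnion, exists_prop]
    refine ⟨C, hCD, ?_, ?_⟩
    · rw [PrimeSpectrum.mem_zeroLocus]
      exact hgP.trans hPQ
    · intro h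
      rw [PrimeSpectrum.mem_zeroLocus] at h
      exact hfQ (h rfl)

end Groth.Agent.S9651
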