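import Groth.Statements.S3864
import Mathlib
import Groth.Agent.Lib.Helper14.FComplD
import Groth.Agent.Lib.Helper28.CohOpen
-- import your own Groth.Agent.* helpers here

set_option autoImplicit false
universe u
open FCompl

namespace Groth.Agent.S3864

set_option linter.style.haveILetI false
set_option linter.unusedVariables false

open CategoryTheory AlgebraicGeometry Groth.Agent.Helper14.FCompl CategoryTheory.Limits

theorem isIso_app (A : Type u) [CommRing A] (J : Ideal A)
    (𝔐 : FSch.ModSys (FSch.completionAlong (Spec (CommRingCat.of A)) (FSch.idealSpec A J)))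
    (h𝔐 : 𝔐.IsCoh) (M : ModuleCat.{u} A) [Module.Finite A M]
    (v : ∀ n, M ⟶ (ΓA A).obj (pushF (FSch.idealSpec A J) 𝔐 n))
    (hv2 : ∀ n, Function.Surjective (v n).hom)
    (hv3 : ∀ n, LinearMap.ker (v n).hom = J ^ (n + 1) • ⊤)
    (α : FSch.complMod (FSch.idealSpec A J) ((tilde.functor (CommRingCat.of A)).obj M) ⟶ 𝔐)
    (hα : ∀ n, (tilde.adjunction (R := CommRingCat.of A)).homEquiv M _ (famOf α n) = v n)
    (n : ℕ) : IsIso (α.app n) := by
  haveI hq : ((tilde.functor (CommRingCat.of A)).obj M).IsQuasicoherent :=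
    inferInstanceAs (tilde (R := CommRingCat.of A) M).IsQuasicoherent
  haveI hft : SheafOfModules.IsFiniteType (R := (SpA A).ringCatSheaf)
      ((tilde.functor (CommRingCat.of A)).obj M) :=
    Groth.Agent.Helper28.CohOpen.isFiniteType_tilde (R := CommRingCat.of A) M
  haveI hν : IsIso ((tilde.adjunction (R := CommRingCat.of A)).unit.app M) := by
    change IsIso ((tilde.toTildeΓNatIso (R := CommRingCat.of A)).hom.app _)
    infer_instance
  -- `a n = unit ≫ pushMap (α.app n)`
  have e1 : famOf α n = unitP (FSch.idealSpec A J) ((tilde.functor (CommRingCat.of A)).obj M) n ≫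
      pushMap n (α.app n) := hE_eq 𝔐 n (α.app n)
  have e2 : (ΓA A).map (unitP (FSch.idealSpec A J) ((tilde.functor (CommRingCat.of A)).obj M) n) ≫
      (ΓA A).map (pushMap n (α.app n)) = (ΓA A).map (famOf α n) :=
    ((Functor.map_comp _ _ _).symm).trans (congrArg (ΓA A).map e1.symm)
  have e3 : (tilde.adjunction (R := CommRingCat.of A)).unit.app M ≫ (ΓA A).map (famOf α n) = v n :=
    ((Adjunction.homEquiv_unit _ _ _ _).symm).trans (hα n)
  obtain ⟨h4, h5⟩ := transport_iso _ _ _ e3 (J ^ (n + 1)) (hv2 n) (hv3 n)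
  have hbij := bijective_of_same_ker _ _ _ e2 (Γ_unit_surjective J n _) h4
    ((Γ_unit_ker J n _).trans h5.symm)
  haveI h6 : IsIso ((ΓA A).map (pushMap n (α.app n))) := isIso_of_bijective _ hbij
  haveI hq1 : (pushF (FSch.idealSpec A J) 𝔐 n).IsQuasicoherent := isQuasicoherent_pushF J 𝔐 h𝔐 n
  haveI hq2 : (pushF (FSch.idealSpec A J)
      (FSch.complMod (FSch.idealSpec A J) ((tilde.functor (CommRingCat.of A)).obj M)) n).IsQuasicoherent := by
    haveI : ((Scheme.Modules.pullback (FSch.completionToX (SpA A) (FSch.idealSpec A J) n)).obj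
        ((tilde.functor (CommRingCat.of A)).obj M)).IsQuasicoherent :=
      Groth.Agent.Helper13.Pullback.isQuasicoherent_pullback _ _
    exact Groth.Agent.Helper13.QCohPush.isQuasicoherent_pushforward
      (FSch.completionToX (SpA A) (FSch.idealSpec A J) n)
      ((Scheme.Modules.pullback (FSch.completionToX (SpA A) (FSch.idealSpec A J) n)).obj
        ((tilde.functor (CommRingCat.of A)).obj M))
  have h7 : IsIso (pushMap n (α.app n)) := isIso_of_isIso_Γ _ h6
  -- the pushforward along a closed immersion is fully faithful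
  haveI : ∀ N, IsIso ((Scheme.Modules.pullbackPushforwardAdjunction
      (FSch.completionToX (SpA A) (FSch.idealSpec A J) n)).counit.app N) :=
    Groth.Agent.Helper5.CI.isIso_counit _
  haveI : IsIso (Scheme.Modules.pullbackPushforwardAdjunction
      (FSch.completionToX (SpA A) (FSch.idealSpec A J) n)).counit := NatIso.isIso_of_isIso_app _
  have hff := (Scheme.Modules.pullbackPushforwardAdjunction
      (FSch.completionToX (SpA A) (FSch.idealSpec A J) n)).fullyFaithfulROfIsIsoCounit
  haveI h8 : IsIso ((Scheme.Modules.pushforward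
      (FSch.completionToX (SpA A) (FSch.idealSpec A J) n)).map (α.app n)) := h7
  exact hff.isIso_of_isIso_map (α.app n)

open AlgebraicGeometry in
open CategoryTheory in
/-- b) ⟺ c), in the strong form that keeps the transition isomorphisms (the formal spectrum of A
presented as the system of closed subschemes of Spec A cut out by the powers of J). Let A be
Noetherian, complete and separated for the J-adic topology. Every system of coherent modules F_n on
these subschemes, given with isomorphisms identifying the restriction of F_(n+1) with F_n, is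
isomorphic as a system to M^Δ for some finite A-module M. -/
theorem result (A : Type u) [CommRing A] [IsNoetherianRing A]
    (J : Ideal A) [IsAdicComplete J A]
    (𝔐 : FSch.ModSys (FSch.completionAlong (Spec (CommRingCat.of A)) (FSch.idealSpec A J)))
    (h𝔐 : 𝔐.IsCoh) :
    ∃ M : ModuleCat.{u} A, Module.Finite A M ∧
      Nonempty (𝔐 ≅ FSch.complMod (FSch.idealSpec A J) (tilde M)) := by
  haveI : Module.Finite A ((ΓA A).obj (pushF (FSch.idealSpec A J) 𝔐 0)) :=
    finite_Γ_pushF J 𝔐 h𝔐 0
  obtain ⟨M, hfin, v, hv1, hv2, hv3⟩ :=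
    Groth.Agent.Helper14.CohFormal.exists_finite_limit_cat A J
      (fun n => (ΓA A).obj (pushF (FSch.idealSpec A J) 𝔐 n))
      (fun n => (ΓA A).map (pushTrans (FSch.idealSpec A J) 𝔐 n))
      (fun n => (Γ_pushTrans_props J 𝔐 h𝔐 n).1) (fun n => (Γ_pushTrans_props J 𝔐 h𝔐 n).2)
      (fun n a ha x => Γ_pushF_smul_eq_zero J 𝔐 h𝔐 n a ha x)
  refine ⟨M, hfin, ?_⟩
  let a : ∀ n, (tilde.functor (CommRingCat.of A)).obj M ⟶ pushF (FSch.idealSpec A J) 𝔐 n :=
    fun n => ((tilde.adjunction (R := CommRingCat.of A)).homEquiv M _).symm (v n)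
  have ha : ∀ n, a (n + 1) ≫ pushTrans (FSch.idealSpec A J) 𝔐 n = a n := fun n =>
    ((Adjunction.homEquiv_naturality_right_symm _ _ _).symm).trans (congrArg _ (hv1 n))
  have hα : ∀ n, (tilde.adjunction (R := CommRingCat.of A)).homEquiv M _
      (famOf (ofFam a ha) n) = v n := fun n =>
    (congrArg _ (famOf_ofFam a ha n)).trans (Equiv.apply_symm_apply _ _)
  have hiso := isIso_app A J 𝔐 h𝔐 M v hv2 hv3 (ofFam a ha) hα
  exact ⟨(isoOfApp (ofFam a ha) hiso).symm⟩

end Groth.Agent.S3864
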