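import Groth.Statements.S9868
import Groth.Agent.Lib.Helper15.FppfBridge4
import Groth.Agent.Lib.Helper15.QuotShBridge

set_option autoImplicit false
universe u
open CategoryTheory CategoryTheory.Limits AlgebraicGeometry
open AlgSp

namespace Groth.Agent.S9868

/-- Let `s, t : R ⟶ U` be an etale equivalence relation on a scheme `U` over `S` (for every scheme `T`
over `S` the map from `T`-points of `R` to pairs of `T`-points of `U` is injective with image an
equivalence relation, and `s`, `t` are etale). Then the quotient sheaf `U/R` (the coequalizer of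
`h_s, h_t` in fppf sheaves of sets over `S`) is an algebraic space over `S`. -/
theorem result (S : Scheme.{u}) {R U : Over S} (s t : R ⟶ U)
    (h : AlgSp.IsEtaleEqvRel s t) :
    AlgSp.IsAlgSpace (QuotSh.quot Scheme.fppfPrecoverage s t) := by
  have hpb := Groth.Agent.Helper15.isPullback_quotShπ s t h.toIsEqvRel
  have het : Etale s.left := h.etale_left
  have e : (prod.lift t s).left ≫ (prod.snd : U ⨯ U ⟶ U).left = s.left := by
    rw [← Over.comp_left, prod.lift_snd]
  haveI : LocallyOfFiniteType ((prod.lift t s).left ≫ (prod.snd : U ⨯ U ⟶ U).left) := by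
    rw [e]; infer_instance
  have hlft : LocallyOfFiniteType (prod.lift t s).left :=
    locallyOfFiniteType_of_comp _ (prod.snd : U ⨯ U ⟶ U).left
  have hdiag : Representable (Limits.diag (QuotSh.quot Scheme.fppfPrecoverage s t)) :=
    Groth.Agent.Helper15.Bridge.representable_diag_of_chart (Groth.Agent.Helper15.quotShπ s t)
      t s hpb hlft
  have hrep : Representable (Groth.Agent.Helper15.quotShπ s t) :=
    Functor.relativelyRepresentable.of_diag hdiag _
  haveI : Sheaf.IsLocallySurjective (Groth.Agent.Helper15.quotShπ s t) :=
    (Sheaf.isLocallySurjective_iff_epi _).2 inferInstance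
  refine ⟨hdiag, U, Groth.Agent.Helper15.quotShπ s t, ?_, ?_⟩
  · exact Groth.Agent.Helper15.repWith_of_isLocallySurjective_base
      (Groth.Agent.Helper15.quotShπ s t) hrep (Groth.Agent.Helper15.quotShπ s t) _ _ hpb @Etale
      ((repWith_yon_map_iff _ _).2 h.etale_left)
  · exact Groth.Agent.Helper15.repWith_surjective_of_isSurjectiveMor _ hrep
      (Groth.Agent.Helper15.isSurjectiveMor_of_epi _)

end Groth.Agent.S9868
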