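import Groth.Statements.S10386
import Groth.Agent.Lib.Helper15.DecentZar

set_option autoImplicit false
universe u
open CategoryTheory CategoryTheory.Limits AlgebraicGeometry Topology TopologicalSpace
open AlgSp

namespace Groth.Agent.S10386
open Groth.Agent.Helper15 Groth.Agent.Helper15.Decent

/-- (3) ⇒ (1): let S be a scheme, X and Y algebraic spaces over S, and f : X ⟶ Y a morphism such that Z
×_Y X is decent for every affine scheme Z and every Z ⟶ Y. Then f is decent, i.e. T ×_Y X is decent
for every scheme T over Y. -/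
theorem result {S : Scheme.{u}} {X Y : AlgSp.Space S} (f : X ⟶ Y)
    (h : ∀ (Z : Over S) (g : (AlgSp.yon S).obj Z ⟶ Y.obj) (P : AlgSp.Sp S) (fst : P ⟶ X.obj)
      (snd : P ⟶ (AlgSp.yon S).obj Z), IsAffine Z.left → IsPullback fst snd f.hom g → AlgSp.IsDecent P) :
    AlgSp.IsDecentMor f.hom := by
  intro T F' g fst snd sq
  have hF' : IsAlgSpace F' := isAlgSpace_of_isPullback Y.2.diag X.2 (IsAlgSpace.yon_obj _) sq
  let 𝒰 := T.left.affineCover
  let Ti : 𝒰.I₀ → Over S := fun i => Over.mk (𝒰.f i ≫ T.hom)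
  let gi : ∀ i, Ti i ⟶ T := fun i => Over.homMk (𝒰.f i) rfl
  have sqi : ∀ i, IsPullback (pullback.fst snd ((yon S).map (gi i)))
      (pullback.snd snd ((yon S).map (gi i))) snd ((yon S).map (gi i)) :=
    fun i => IsPullback.of_hasPullback _ _
  refine isDecent_of_isZarCover hF' (fun i => pullback snd ((yon S).map (gi i)))
    (fun i => pullback.fst snd ((yon S).map (gi i))) ⟨fun i => ?_, fun x => ?_⟩ (fun i => ?_)
  · have h1 : RepWith @IsOpenImmersion ((yon S).map (gi i)) :=
      (repWith_yon_map_iff _ (gi i)).2 (inferInstance : IsOpenImmersion (𝒰.f i))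
    exact (RepWith @IsOpenImmersion).of_isPullback (sqi i).flip h1
  · obtain ⟨t, ht⟩ := (Points.schemeEquiv T).surjective (Points.map snd x)
    obtain ⟨i, y, hy⟩ := 𝒰.exists_eq t
    have h2 : Points.map snd x = Points.map ((yon S).map (gi i)) (Points.ofScheme (Ti i) y) := by
      rw [← Points.ofPt_eq_map_ofScheme, ofPt_yon_map, ← ht]
      change _ = Points.ofScheme T ((𝒰.f i) y)
      rw [hy]; rfl
    obtain ⟨p, hp, -⟩ := exists_point_of_isPullback (sqi i) x _ h2
    exact ⟨i, p, hp⟩
  · haveI : IsAffine (Ti i).left := (inferInstance : IsAffine (𝒰.X i))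
    exact h (Ti i) ((yon S).map (gi i) ≫ g) _ (pullback.fst snd ((yon S).map (gi i)) ≫ fst)
      (pullback.snd snd ((yon S).map (gi i))) inferInstance ((sqi i).paste_horiz sq)


end Groth.Agent.S10386
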