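import Groth.Statements.S10423
import Groth.Agent.S10386
import Groth.Agent.Lib.Helper15.QsDecent
import Groth.Agent.Lib.Helper15.AlgSpDecent

set_option autoImplicit false
universe u
open CategoryTheory CategoryTheory.Limits AlgebraicGeometry Topology TopologicalSpace
open AlgSp

namespace Groth.Agent.S10423
open Groth.Agent.Helper15 Groth.Agent.Helper15.QsDecent

/-- A morphism of algebraic spaces over a scheme S which is representable, or which is quasi-separated,
is decent (all its base changes to schemes are decent algebraic spaces). The implications through
reasonable and very reasonable morphisms are not part of this row. -/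
theorem result {S : Scheme.{u}} {X Y : AlgSp.Space S} (f : X ⟶ Y) :
    (AlgSp.Representable f.hom → AlgSp.IsDecentMor f.hom) ∧
      (AlgSp.IsQuasiSeparatedMor f.hom → AlgSp.IsDecentMor f.hom) := by
  refine ⟨fun hf => isDecentMor_of_representable f.hom hf, fun hqs => ?_⟩
  refine Groth.Agent.S10386.result f (fun Z g P fst snd hZ sq => ?_)
  haveI := hZ
  exact isDecent_of_isQuasiSeparatedMor_affine
    (isAlgSpace_of_isPullback Y.2.diag X.2 (IsAlgSpace.yon_obj _) sq) snd
    (MorphismProperty.of_isPullback (P := (RepWith @QuasiCompact).diagonal) sq hqs)


end Groth.Agent.S10423
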