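import Mathlib
import Groth.Statements.S10496
import Groth.Agent.Lib.Helper15.AlgSpCD2
import Groth.Agent.Lib.Helper15.AlgSpOpen
import Groth.Agent.Lib.Helper15.AlgSpDecent
import Groth.Agent.Lib.Helper15.AlgSpLocP

set_option autoImplicit false
universe u
open CategoryTheory CategoryTheory.Limits AlgebraicGeometry Topology TopologicalSpace
open AlgSp

namespace Groth.Agent.S10496

/-- Let X be a decent algebraic space over a scheme S. For every irreducible closed subset T of |X|
there is an integral closed subspace Z of X with |Z| = T. -/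
theorem result {S : Scheme.{u}} (X : AlgSp.Space S)
    (hX : AlgSp.IsDecent X.obj) (T : Set (AlgSp.Points X.obj)) (hT : IsClosed T) (hTi : IsIrreducible T) :
    ∃ (Z : AlgSp.Space S) (i : Z ⟶ X), AlgSp.RepWith @IsClosedImmersion i.hom ∧ AlgSp.IsIntegralSp Z.obj ∧
      Set.range (AlgSp.Points.map i.hom) = T := by
  obtain ⟨Z, i, hZ, hi, hrange, hred⟩ :=
    Groth.Agent.Helper15.exists_isRedInduced X.property T hT
  have hemb := (Groth.Agent.Helper15.isEmbedding_points_of_immersion X.property i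
    (Groth.Agent.Helper15.repWith_mono Groth.Agent.Helper15.isClosedImmersion_le_isImmersion hi)).1
  refine ⟨⟨Z, hZ⟩, ObjectProperty.homMk i, hi, ⟨hred, ?_, ?_⟩, hrange⟩
  · exact Groth.Agent.Helper15.isDecent_of_representable i hi.rep hX
  · have hirr : IsIrreducible (Set.range (AlgSp.Points.map i)) := by rw [hrange]; exact hTi
    have h1 : IsIrreducible (Set.univ : Set (AlgSp.Points Z)) := by
      refine ⟨?_, ?_⟩
      · obtain ⟨y, z, rfl⟩ := hirr.1
        exact ⟨z, trivial⟩
      · intro u v hu hv hun hvn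
        obtain ⟨u', hu', rfl⟩ := hemb.isInducing.isOpen_iff.1 hu
        obtain ⟨v', hv', rfl⟩ := hemb.isInducing.isOpen_iff.1 hv
        obtain ⟨a, -, ha⟩ := hun
        obtain ⟨b, -, hb⟩ := hvn
        obtain ⟨y, ⟨z, rfl⟩, hy1, hy2⟩ := hirr.2 u' v' hu' hv' ⟨_, ⟨a, rfl⟩, ha⟩ ⟨_, ⟨b, rfl⟩, hb⟩
        exact ⟨z, trivial, hy1, hy2⟩
    exact (irreducibleSpace_def _).2 h1

end Groth.Agent.S10496
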