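import Mathlib
import Groth.Statements.S10500
import Groth.Agent.Lib.Helper19.GenFib.Finite
import Groth.Agent.S10650
import Groth.Agent.Lib.Helper16.AlgSp.LargestOpen

set_option autoImplicit false
universe u
open CategoryTheory CategoryTheory.Limits AlgebraicGeometry Topology TopologicalSpace
open AlgSp

namespace Groth.Agent.S10500

/-- Let X and Y be integral algebraic spaces over a scheme S with generic points x and y, and f : X ⟶ Y
a morphism which is proper and dominant. Then f is an alteration (finite over some nonempty open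
subspace of Y) if and only if x is the only point of X mapping to y. -/
theorem result {S : Scheme.{u}} {X Y : AlgSp.Space S}
    (hXi : AlgSp.IsIntegralSp X.obj) (hYi : AlgSp.IsIntegralSp Y.obj) (f : X ⟶ Y) (hp : AlgSp.IsProperMor f.hom)
    (hd : AlgSp.IsDominantMor f.hom)
    (x : AlgSp.Points X.obj) (hx : IsGenericPoint x (Set.univ : Set (AlgSp.Points X.obj)))
    (y : AlgSp.Points Y.obj) (hy : IsGenericPoint y (Set.univ : Set (AlgSp.Points Y.obj))) :
    (∃ (V : AlgSp.Space S) (j : V ⟶ Y), AlgSp.RepWith @IsOpenImmersion j.hom ∧ Nonempty (AlgSp.Points V.obj) ∧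
      ∀ (P : AlgSp.Space S) (fst : P ⟶ V) (snd : P ⟶ X), IsPullback fst.hom snd.hom j.hom f.hom →
        AlgSp.IsFiniteMor fst.hom) ↔ (∀ x' : AlgSp.Points X.obj, AlgSp.Points.map f.hom x' = y → x' = x) := by
  have hXa := X.property
  have hYa := Y.property
  have hXd : AlgSp.IsDecent X.obj := hXi.2.1
  have hYd : AlgSp.IsDecent Y.obj := hYi.2.1
  have hft : AlgSp.LocP @LocallyOfFiniteType f.hom := hp.2.1.1
  have hfx : AlgSp.Points.map f.hom x = y :=
    Groth.Agent.Helper19.GenFib.map_generic_eq hYa hYd f.hom hd x hx y hy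
  constructor
  · rintro ⟨V, j, hj, ⟨v⟩, hfin⟩ x' hx'
    have hopen := Groth.Agent.Helper15.Norm.isOpen_range_of_isOpenImmersion hYa j.hom hj
    have hyV : y ∈ Set.range (AlgSp.Points.map j.hom) := by
      rw [hy.mem_open_set_iff hopen]
      exact ⟨_, Set.mem_univ _, v, rfl⟩
    obtain ⟨v', hv'⟩ := hyV
    let P : AlgSp.Space S := ⟨pullback j.hom f.hom,
      Groth.Agent.Helper16.AS.isAlgSpace_pullback V.property hYa hXa j.hom f.hom⟩
    let fst : P ⟶ V := ObjectProperty.homMk (pullback.fst j.hom f.hom)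
    let snd : P ⟶ X := ObjectProperty.homMk (pullback.snd j.hom f.hom)
    have sq : IsPullback fst.hom snd.hom j.hom f.hom := IsPullback.of_hasPullback _ _
    have hF := hfin P fst snd sq
    obtain ⟨p, hp1, hp2⟩ := Groth.Agent.Helper15.exists_point_of_isPullback sq v' x
      (hv'.trans hfx.symm)
    have h0 := Groth.Agent.Helper19.GenFib.hasAtMor_trdeg_zero_of_isFiniteMor V.property fst.hom hF p
    have h0' := Groth.Agent.Helper19.GenFib.hasAtMor_of_openImmersion_baseChange _ fst.hom snd.hom
      j.hom f.hom sq hj p h0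
    rw [hp2] at h0'
    exact Groth.Agent.Helper19.GenFib.unique_of_trdeg_zero hXa hYa hXd hYd f.hom hft x
      (fun x' => hx.specializes (Set.mem_univ _)) h0' x' (hx'.trans hfx.symm)
  · intro huniq
    have h0 := Groth.Agent.Helper19.GenFib.trdeg_zero_of_unique hXa hYa hXd f.hom hft x
      (fun x' hx' => huniq x' (hx'.trans hfx))
    have hq := Groth.Agent.Helper19.GenFib.qfAt_of_trdeg_zero_of_maximal hXd f.hom hft x
      (Groth.Agent.Helper19.GenFib.eq_of_specializes_generic hXa hXd x hx) h0
    obtain ⟨V, j, hj, hyV, hfin⟩ := Groth.Agent.S10650.result f y hp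
      (fun x' hx' => by rw [huniq x' hx']; exact hq)
    obtain ⟨v, -⟩ := hyV
    exact ⟨V, j, hj, ⟨v⟩, fun P fst snd sq => hfin P snd fst sq.flip⟩

end Groth.Agent.S10500
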