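import Groth.Statements.S13709
import Mathlib

set_option autoImplicit false
universe u
open CategoryTheory CategoryTheory.Limits AlgebraicGeometry
open ZeroCyc

namespace Groth.Agent.S13709


theorem result {X Y Y' : Scheme.{u}} (f : X ⟶ Y) (g : Y' ⟶ Y)
    [Flat g] [Surjective g] [QuasiCompact f] (h : IsHomeomorph (pullback.snd f g).base) :
    IsHomeomorph f.base := by
  rw [isHomeomorph_iff_continuous_isClosedMap_bijective]
  have hcond : pullback.fst f g ≫ f = pullback.snd f g ≫ g := pullback.condition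
  have hc : ∀ z, f ((pullback.fst f g) z) = g ((pullback.snd f g) z) := fun z => by
    have := congrArg (fun φ : pullback f g ⟶ Y => φ z) hcond
    simpa using this
  refine ⟨f.continuous, ?_, ?_, ?_⟩
  · show IsClosedMap f
    rw [isClosedMap_iff_specializingMap]
    intro x y₁ hxy
    obtain ⟨y₁', rfl⟩ := g.surjective y₁
    obtain ⟨y', hy', hgy'⟩ := Flat.generalizingMap g hxy
    obtain ⟨x', hx'1, hx'2⟩ := Scheme.Pullback.exists_preimage_pullback (f := f) (g := g) x y' hgy'.symm
    have hsp : SpecializingMap (pullback.snd f g) := h.isClosedMap.specializingMap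
    obtain ⟨x₁', hx₁', hfx₁'⟩ := hsp (a := x') (b := y₁') (by rw [hx'2]; exact hy')
    refine ⟨(pullback.fst f g) x₁', ?_, ?_⟩
    · rw [← hx'1]; exact Specializes.map hx₁' (pullback.fst f g).continuous
    · rw [hc, hfx₁']
  · intro x₁ x₂ hx
    obtain ⟨y', hy'⟩ := g.surjective (f x₁)
    obtain ⟨z₁, hz₁, hz₁'⟩ := Scheme.Pullback.exists_preimage_pullback (f := f) (g := g) x₁ y' hy'.symm
    obtain ⟨z₂, hz₂, hz₂'⟩ := Scheme.Pullback.exists_preimage_pullback (f := f) (g := g) x₂ y'
      (by rw [hy']; exact hx.symm)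
    have : z₁ = z₂ := h.injective (hz₁'.trans hz₂'.symm)
    rw [← hz₁, ← hz₂, this]
  · intro y
    obtain ⟨y', rfl⟩ := g.surjective y
    obtain ⟨x', rfl⟩ := h.surjective y'
    exact ⟨(pullback.fst f g) x', hc x'⟩

end Groth.Agent.S13709
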