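import Groth.Statements.S13710
import Mathlib
import Groth.Agent.S13709
import Groth.Agent.Lib.Helper20.FlatCover

set_option autoImplicit false
universe u
open CategoryTheory CategoryTheory.Limits AlgebraicGeometry
open ZeroCyc

namespace Groth.Agent.S13710

open TopologicalSpace in
theorem isIso_of_flat_cover {X Y Z : Scheme.{u}} (f : X ⟶ Z) (g : Y ⟶ Z) [Flat f] [Surjective f]
    [QuasiCompact g] [IsIso (pullback.fst f g)] : IsIso g := by
  have hsnd : IsIso (pullback.snd g f) := by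
    rw [← pullbackSymmetry_hom_comp_fst]; infer_instance
  have hhomeo : IsHomeomorph g.base :=
    Groth.Agent.S13709.result g f (pullback.snd g f).homeomorph.isHomeomorph
  have haff : IsAffineHom g := isAffineHom_of_isInducing g hhomeo.isInducing (by
    have : Set.range g = Set.univ := hhomeo.surjective.range_eq
    rw [this]; exact isClosed_univ)
  change MorphismProperty.isomorphisms Scheme g
  rw [IsZariskiLocalAtTarget.iff_of_iSup_eq_top (P := MorphismProperty.isomorphisms Scheme)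
    (fun W : Z.affineOpens => W.1) (iSup_affineOpens_eq_top Z)]
  intro W
  change IsIso (g ∣_ W.1)
  rw [isIso_morphismRestrict_iff_isIso_app g W.2]
  let ι := {U : X.affineOpens // U.1 ≤ f ⁻¹ᵁ W.1}
  apply Groth.Agent.Helper20.FlatCover.isIso_of_forall_isIso_pushout_inr (g.app W.1)
    (fun U : ι => Γ(X, U.1.1)) (fun U : ι => f.appLE W.1 U.1.1 U.2)
  · intro U
    exact f.flat_appLE W.2 U.1.2 U.2
  · intro I hI
    have h1 : ¬ (W.1 ≤ ⨆ a : (I : Set Γ(Z, W.1)), Z.basicOpen a.1) := by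
      rw [W.2.self_le_iSup_basicOpen_iff, Ideal.span_eq]
      exact hI
    rw [SetLike.not_le_iff_exists] at h1
    obtain ⟨z, hzW, hz⟩ := h1
    have hz' : ∀ a ∈ I, z ∉ Z.basicOpen a := by
      intro a ha hza
      apply hz
      rw [Opens.mem_iSup]
      exact ⟨⟨a, ha⟩, hza⟩
    obtain ⟨x, rfl⟩ := f.surjective z
    obtain ⟨_, ⟨U, hU, rfl⟩, hxU, hUW⟩ :=
      X.isBasis_affineOpens.exists_subset_of_mem_open (show x ∈ (f ⁻¹ᵁ W.1 : Set X) from hzW)
        (f ⁻¹ᵁ W.1).isOpen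
    refine ⟨⟨⟨U, hU⟩, hUW⟩, ?_⟩
    intro htop
    let J : Ideal Γ(X, U) :=
      (IsLocalRing.maximalIdeal (X.presheaf.stalk x)).comap (X.presheaf.germ U x hxU).hom
    have hJ : I.map (f.appLE W.1 U hUW).hom ≤ J := by
      rw [Ideal.map_le_iff_le_comap]
      intro a ha
      rw [Ideal.mem_comap, Ideal.mem_comap, IsLocalRing.mem_maximalIdeal, mem_nonunits_iff,
        ← Scheme.mem_basicOpen _ _ x hxU]
      show x ∉ X.basicOpen ((f.appLE W.1 U hUW) a)
      rw [Scheme.basicOpen_appLE]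
      rintro ⟨_, hx2⟩
      exact hz' a ha hx2
    rw [htop, top_le_iff] at hJ
    have h1 : (1 : Γ(X, U)) ∈ J := hJ ▸ Submodule.mem_top
    rw [Ideal.mem_comap, map_one] at h1
    exact (IsLocalRing.maximalIdeal (X.presheaf.stalk x)).ne_top_iff_one.mp
      (IsLocalRing.maximalIdeal.isMaximal _).ne_top h1
  · intro U
    have H : IsPullback (pullback.snd f g) (pullback.fst f g) g f :=
      (IsPullback.of_hasPullback f g).flip
    have hUY : (pullback.fst f g) ⁻¹ᵁ U.1.1 =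
        (pullback.snd f g) ⁻¹ᵁ (g ⁻¹ᵁ W.1) ⊓ (pullback.fst f g) ⁻¹ᵁ U.1.1 := by
      refine le_antisymm (le_inf ?_ le_rfl) inf_le_right
      refine (Scheme.Hom.preimage_mono _ U.2).trans ?_
      rw [← Scheme.Hom.comp_preimage, ← Scheme.Hom.comp_preimage, pullback.condition]
    have h1 := isIso_pushoutSection_of_isAffineOpen H U.2 (le_refl (g ⁻¹ᵁ W.1)) hUY W.2 U.1.2
      (W.2.preimage g)
    have h2 : pushout.inr (g.appLE W.1 (g ⁻¹ᵁ W.1) le_rfl) (f.appLE W.1 U.1.1 U.2) ≫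
        pushoutSection H U.2 (le_refl (g ⁻¹ᵁ W.1)) hUY =
        (pullback.fst f g).appLE U.1.1 ((pullback.fst f g) ⁻¹ᵁ U.1.1) le_rfl :=
      pushout.inr_desc _ _ _
    have h3 : IsIso ((pullback.fst f g).appLE U.1.1 ((pullback.fst f g) ⁻¹ᵁ U.1.1) le_rfl) := by
      rw [Scheme.Hom.appLE_eq_app]; infer_instance
    have h4 : IsIso (pushout.inr (g.appLE W.1 (g ⁻¹ᵁ W.1) le_rfl) (f.appLE W.1 U.1.1 U.2)) := by
      have : IsIso (pushout.inr (g.appLE W.1 (g ⁻¹ᵁ W.1) le_rfl) (f.appLE W.1 U.1.1 U.2) ≫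
          pushoutSection H U.2 (le_refl (g ⁻¹ᵁ W.1)) hUY) := by rw [h2]; exact h3
      exact IsIso.of_isIso_comp_right _ (pushoutSection H U.2 (le_refl (g ⁻¹ᵁ W.1)) hUY)
    have h5 : g.appLE W.1 (g ⁻¹ᵁ W.1) le_rfl = g.app W.1 := Scheme.Hom.appLE_eq_app g
    rw [h5] at h4
    exact h4

theorem result {X Y Y' : Scheme.{u}} (f : X ⟶ Y) (g : Y' ⟶ Y)
    [Flat g] [Surjective g] :
    IsIso f ↔ QuasiCompact f ∧ IsIso (pullback.snd f g) := by
  constructor
  · intro h
    exact ⟨inferInstance, inferInstance⟩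
  · rintro ⟨h1, h2⟩
    have : IsIso (pullback.fst g f) := by
      rw [← pullbackSymmetry_hom_comp_snd]; infer_instance
    exact isIso_of_flat_cover g f

end Groth.Agent.S13710
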