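import Groth.Statements.S13711
import Mathlib
import Groth.Agent.S13710

set_option autoImplicit false
universe u
open CategoryTheory CategoryTheory.Limits AlgebraicGeometry
open ZeroCyc

namespace Groth.Agent.S13711

theorem isPullback_aux {C : Type*} [Category C] [HasPullbacks C] {X Y Y' U : C}
    (f : X ⟶ Y) (g : Y' ⟶ Y) (u : U ⟶ Y) :
    ∃ t : pullback (pullback.snd f u) (pullback.snd g u) ⟶ pullback f g,
      IsPullback t (pullback.snd (pullback.snd f u) (pullback.snd g u)) (pullback.snd f g)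
        (pullback.fst g u) := by
  have hw : (pullback.fst (pullback.snd f u) (pullback.snd g u) ≫ pullback.fst f u) ≫ f =
      (pullback.snd (pullback.snd f u) (pullback.snd g u) ≫ pullback.fst g u) ≫ g := by
    rw [Category.assoc, pullback.condition, ← Category.assoc, pullback.condition, Category.assoc,
      Category.assoc, pullback.condition]
  refine ⟨pullback.lift _ _ hw, ?_⟩
  have h1 := IsPullback.of_hasPullback (pullback.snd f u) (pullback.snd g u)
  have h2 := IsPullback.of_hasPullback f u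
  have h12 := h1.paste_horiz h2
  have h3 := IsPullback.of_hasPullback f g
  refine IsPullback.of_right (h₁₂ := pullback.fst f g) (h₂₂ := g) ?_ ?_ h3
  · rw [pullback.lift_fst, pullback.condition (f := g) (g := u)]
    exact h12
  · rw [pullback.lift_snd]

theorem appLE_congr' {X Y : Scheme.{u}} {f f' : X ⟶ Y} (h : f = f') (U : Y.Opens) (V : X.Opens)
    (e : V ≤ f ⁻¹ᵁ U) : f.appLE U V e = f'.appLE U V (h ▸ e) := by
  subst h; rfl

theorem affine_of_flat_cover {X Y Y' : Scheme.{u}} (f : X ⟶ Y) (g : Y' ⟶ Y) [IsAffine Y]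
    [QuasiCompact f] [QuasiSeparated f] [Flat g] [Surjective g]
    [IsAffineHom (pullback.snd f g)] : IsAffine X := by
  have hXc : CompactSpace X := QuasiCompact.compactSpace_of_compactSpace f
  have hXqs : QuasiSeparatedSpace X := quasiSeparatedSpace_of_quasiSeparated f
  let j := X.toSpecΓ
  let q : Spec Γ(X, ⊤) ⟶ Y := Spec.map f.appTop ≫ Y.isoSpec.inv
  have hjq : j ≫ q = f := by
    simp only [j, q]
    rw [← Category.assoc, ← Scheme.toSpecΓ_naturality, Category.assoc,
      Scheme.toSpecΓ_isoSpec_inv, Category.comp_id]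
  let θ : pullback f g ⟶ pullback q g :=
    pullback.map f g q g j (𝟙 _) (𝟙 _) (by rw [Category.comp_id, hjq]) (by simp)
  have hθ1 : θ ≫ pullback.fst q g = pullback.fst f g ≫ j := pullback.lift_fst _ _ _
  have hθ2 : θ ≫ pullback.snd q g = pullback.snd f g :=
    (pullback.lift_snd _ _ _).trans (Category.comp_id _)
  have Hθ : IsPullback θ (pullback.fst f g) (pullback.fst q g) j := by
    refine IsPullback.of_right (h₁₂ := pullback.snd q g) (h₂₂ := q) ?_ hθ1
      (IsPullback.of_hasPullback q g).flip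
    rw [hθ2, hjq]
    exact (IsPullback.of_hasPullback f g).flip
  have hs : IsAffineHom (pullback.snd q g) :=
    MorphismProperty.pullback_snd (P := @IsAffineHom) q g inferInstance
  have hθaff : IsAffineHom θ := by
    have : IsAffineHom (θ ≫ pullback.snd q g) := by rw [hθ2]; infer_instance
    exact IsAffineHom.of_comp θ (pullback.snd q g)
  have hθiso : IsIso θ := by
    change MorphismProperty.isomorphisms Scheme θ
    rw [IsZariskiLocalAtTarget.iff_of_iSup_eq_top (P := MorphismProperty.isomorphisms Scheme)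
      (fun U' : Y'.affineOpens => (pullback.snd q g) ⁻¹ᵁ U'.1)
      (by rw [← Scheme.Hom.preimage_iSup, iSup_affineOpens_eq_top]; rfl)]
    intro U'
    change IsIso (θ ∣_ _)
    have hU2 : IsAffineOpen ((pullback.snd q g) ⁻¹ᵁ U'.1) := U'.2.preimage (pullback.snd q g)
    rw [isIso_morphismRestrict_iff_isIso_app θ hU2]
    have H1 := IsPullback.of_hasPullback f g
    have H2 := IsPullback.of_hasPullback q g
    have hUST : U'.1 ≤ g ⁻¹ᵁ ⊤ := fun _ _ => trivial
    have hUSX1 : (⊤ : X.Opens) ≤ f ⁻¹ᵁ ⊤ := fun _ _ => trivial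
    have hUSX2 : (⊤ : (Spec Γ(X, ⊤)).Opens) ≤ q ⁻¹ᵁ ⊤ := fun _ _ => trivial
    have hUY2 : (pullback.snd q g) ⁻¹ᵁ U'.1 =
        (pullback.fst q g) ⁻¹ᵁ ⊤ ⊓ (pullback.snd q g) ⁻¹ᵁ U'.1 := by simp
    have hUY1 : θ ⁻¹ᵁ ((pullback.snd q g) ⁻¹ᵁ U'.1) =
        (pullback.fst f g) ⁻¹ᵁ ⊤ ⊓ (pullback.snd f g) ⁻¹ᵁ U'.1 := by
      rw [← Scheme.Hom.comp_preimage, hθ2]; simp
    have I1 := isIso_pushoutSection_of_isQuasiSeparated_of_flat_right H1 hUST hUSX1 hUY1
      (isAffineOpen_top Y) U'.2 isCompact_univ isQuasiSeparated_univ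
    have I2 := isIso_pushoutSection_of_isAffineOpen H2 hUST hUSX2 hUY2
      (isAffineOpen_top Y) U'.2 (isAffineOpen_top _)
    have P1 := (isIso_pushoutSection_iff H1 hUST hUSX1 hUY1).mp I1
    have P2 := (isIso_pushoutSection_iff H2 hUST hUSX2 hUY2).mp I2
    have hjj : IsIso (j.appLE ⊤ ⊤ (fun _ _ => trivial)) := by
      have h0 : IsIso (j.appLE ⊤ (j ⁻¹ᵁ ⊤) le_rfl) := by
        rw [Scheme.Hom.appLE_eq_app]
        change IsIso j.appTop
        rw [Scheme.toSpecΓ_appTop]; infer_instance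
      exact (Scheme.Hom.appLE_congr (f := j) le_rfl rfl (by simp : j ⁻¹ᵁ ⊤ = ⊤)
        (fun f => IsIso f)).mp h0
    have P1' := P1.of_iso (f' := q.appLE ⊤ ⊤ hUSX2) (g' := g.appLE ⊤ U'.1 hUST)
      (inl' := j.appLE ⊤ ⊤ (fun _ _ => trivial) ≫
        (pullback.fst f g).appLE ⊤ (θ ⁻¹ᵁ ((pullback.snd q g) ⁻¹ᵁ U'.1)) (by simp [hUY1]))
      (inr' := (pullback.snd f g).appLE U'.1 (θ ⁻¹ᵁ ((pullback.snd q g) ⁻¹ᵁ U'.1)) (by simp [hUY1]))
      (Iso.refl _) (asIso (j.appLE ⊤ ⊤ (fun _ _ => trivial))).symm (Iso.refl _) (Iso.refl _)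
      (by
        simp only [Iso.symm_hom, asIso_inv, Iso.refl_hom, Category.id_comp]
        rw [IsIso.comp_inv_eq, Scheme.Hom.appLE_comp_appLE]
        exact (appLE_congr' hjq _ _ _).symm)
      (by simp) (by simp) (by simp)
    have key : θ.appLE ((pullback.snd q g) ⁻¹ᵁ U'.1) (θ ⁻¹ᵁ ((pullback.snd q g) ⁻¹ᵁ U'.1)) le_rfl =
        (P2.isoIsPushout _ _ P1').hom := by
      apply P2.hom_ext
      · rw [IsPushout.inl_isoIsPushout_hom, Scheme.Hom.appLE_comp_appLE,
          Scheme.Hom.appLE_comp_appLE]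
        exact appLE_congr' hθ1 _ _ _
      · rw [IsPushout.inr_isoIsPushout_hom, Scheme.Hom.appLE_comp_appLE]
        exact appLE_congr' hθ2 _ _ _
    rw [Scheme.Hom.app_eq_appLE, key]; infer_instance
  have hfst : IsIso (pullback.fst (pullback.fst q g) j) := by
    rw [← Hθ.isoPullback_inv_fst]; infer_instance
  have : IsIso j := Groth.Agent.S13710.isIso_of_flat_cover (pullback.fst q g) j
  exact ⟨this⟩

theorem result {X Y Y' : Scheme.{u}} (f : X ⟶ Y) (g : Y' ⟶ Y)
    [Flat g] [Surjective g] :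
    IsAffineHom f ↔ QuasiCompact f ∧ QuasiSeparated f ∧ IsAffineHom (pullback.snd f g) := by
  constructor
  · intro h
    exact ⟨inferInstance, inferInstance, MorphismProperty.pullback_snd (P := @IsAffineHom) f g h⟩
  · rintro ⟨h1, h2, h3⟩
    rw [IsZariskiLocalAtTarget.iff_of_openCover (P := @IsAffineHom) Y.affineCover]
    intro i
    change IsAffineHom (pullback.snd f (Y.affineCover.f i))
    obtain ⟨t, ht⟩ := isPullback_aux f g (Y.affineCover.f i)
    have h4 : IsAffineHom (pullback.snd (pullback.snd f (Y.affineCover.f i))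
        (pullback.snd g (Y.affineCover.f i))) :=
      MorphismProperty.of_isPullback (P := @IsAffineHom) ht h3
    have : IsAffine (pullback f (Y.affineCover.f i)) :=
      affine_of_flat_cover (pullback.snd f (Y.affineCover.f i)) (pullback.snd g (Y.affineCover.f i))
    infer_instance

end Groth.Agent.S13711
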