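import Groth.Statements.S9964
import Groth.Agent.Lib.Helper15.AlgSpInter

set_option autoImplicit false
universe u
open CategoryTheory CategoryTheory.Limits AlgebraicGeometry
open AlgSp

namespace Groth.Agent.S9964

/-- Every morphism of algebraic spaces has a scheme theoretic image, a smallest closed subspace of the
target through which it factors. -/
theorem result {S : Scheme.{u}} {X Y : AlgSp.Space S} (f : X ⟶ Y) :
    ∃ (Z : AlgSp.Space S) (i : Z ⟶ Y), AlgSp.IsSchImage f.hom i.hom := by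
  classical
  let ι := {p : Σ Z' : Sp S, Z' ⟶ Y.obj // IsAlgSpace p.1 ∧ RepWith @IsClosedImmersion p.2 ∧
    ∃ f'' : X.obj ⟶ p.1, f'' ≫ p.2 = f.hom}
  let Z' : ι → Sp S := fun k => k.1.1
  let i' : ∀ k, Z' k ⟶ Y.obj := fun k => k.1.2
  have hcl : ∀ k, RepWith @IsClosedImmersion (i' k) := fun k => k.2.2.1
  haveI : ∀ k, Mono (i' k) := fun k =>
    Groth.Agent.Helper15.mono_of_repWith (P := @IsClosedImmersion)
      (fun _ _ g hg => by haveI := hg; exact (inferInstance : Mono g)) (i' k) (hcl k)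
  have hrep := Groth.Agent.Helper15.repWith_isClosedImmersion_interSubι Z' i' hcl
  refine ⟨⟨Groth.Agent.Helper15.interSub Z' i',
    Groth.Agent.Helper15.isAlgSpace_of_representable _ hrep.rep Y.property⟩,
    ⟨Groth.Agent.Helper15.interSubι Z' i'⟩, hrep, ?_, ?_⟩
  · exact (Groth.Agent.Helper15.factors_interSub_iff Z' i' f.hom).2 fun k => k.2.2.2
  · intro Z'' i'' hZ'' hi'' hf''
    exact Groth.Agent.Helper15.exists_interSub_to Z' i' ⟨⟨Z'', i''⟩, hZ'', hi'', hf''⟩

end Groth.Agent.S9964
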