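import Groth.Statements.S9965
import Groth.Agent.Lib.Helper15.AlgSpSI4

set_option autoImplicit false
universe u
open CategoryTheory CategoryTheory.Limits AlgebraicGeometry
open AlgSp Groth.Agent.Helper15

namespace Groth.Agent.S9965

/-- For a quasi-compact morphism of algebraic spaces, forming the scheme theoretic image commutes with
etale base change, and the image of the morphism is dense in the scheme theoretic image. -/
theorem result {S : Scheme.{u}} {X Y Z : AlgSp.Space S} (f : X ⟶ Y) (i : Z ⟶ Y)
    (hq : AlgSp.IsQuasiCompactMor f.hom) (hZ : AlgSp.IsSchImage f.hom i.hom) :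
    (∀ (V XV ZV : AlgSp.Space S) (b : V ⟶ Y), AlgSp.IsEtaleMor b.hom →
      ∀ (f₁ : XV ⟶ X) (fV : XV ⟶ V) (i₁ : ZV ⟶ Z) (iV : ZV ⟶ V),
        IsPullback f₁.hom fV.hom f.hom b.hom → IsPullback i₁.hom iV.hom i.hom b.hom →
        AlgSp.IsSchImage fV.hom iV.hom) ∧
    Set.range (AlgSp.Points.map i.hom) ⊆ closure (Set.range (AlgSp.Points.map f.hom)) := by
  classical
  refine ⟨?_, ?_⟩
  · intro V XV ZV b hb f₁ fV i₁ iV sqX sqZ
    have hbf : AlgSp.LocP @Flat b.hom :=
      locP_mono etale_le_flat (locP_etale_of_isEtaleMor Y.property b.hom hb)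
    exact isSchImage_flat_base_change V.property Y.property b.hom hbf f.hom hq i.hom hZ f₁.hom
      fV.hom sqX i₁.hom iV.hom sqZ
  · rintro _ ⟨z, rfl⟩
    obtain ⟨B, U, p, hUaff, hpe, hpcov⟩ := exists_affine_charts Y.property
    haveI := hUaff
    obtain ⟨b, u, hu⟩ := hpcov (AlgSp.Points.map i.hom z)
    have D : CoverDatum f.hom (p b) := (nonempty_coverDatum f.hom hq (p b)).some
    obtain ⟨qb, sqb⟩ := isPullback_imageOver_of_isSchImage Y.property f.hom hq i.hom hZ (p b)
      (hpe b) D
    rw [AlgSp.Points.ofPt_eq_map_ofScheme] at hu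
    obtain ⟨pt, -, hp2⟩ := exists_point_of_isPullback sqb z _ hu.symm
    obtain ⟨ζ, rfl⟩ := (AlgSp.Points.schemeEquiv _).surjective pt
    change AlgSp.Points.map _ (AlgSp.Points.ofScheme _ ζ) = _ at hp2
    rw [← AlgSp.Points.ofPt_eq_map_ofScheme, ofPt_yon_map] at hp2
    have hζ : (imageOverι D.g).left ζ = u := (AlgSp.Points.schemeEquiv (U b)).injective hp2
    haveI := D.compact
    haveI hqc : QuasiCompact D.g.left :=
      (HasAffineProperty.iff_of_isAffine (P := @QuasiCompact)).2
        (inferInstance : CompactSpace D.W.left)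
    have hr : Set.range D.g.left.imageι = closure (Set.range D.g.left) := by
      rw [show D.g.left.imageι = D.g.left.ker.subschemeι from rfl,
        Scheme.IdealSheafData.range_subschemeι, Scheme.Hom.support_ker]
    have hu' : u ∈ closure (Set.range D.g.left) := by
      rw [← hr, ← hζ]
      exact ⟨ζ, rfl⟩
    have hcl : IsClosed (AlgSp.Points.ofPt (p b) ⁻¹'
        closure (Set.range (AlgSp.Points.map f.hom))) :=
      isClosed_closure.preimage (AlgSp.Points.continuous_ofPt (p b))
    have hsub : Set.range D.g.left ⊆ AlgSp.Points.ofPt (p b) ⁻¹'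
        closure (Set.range (AlgSp.Points.map f.hom)) := by
      rintro _ ⟨w, rfl⟩
      apply subset_closure
      refine ⟨AlgSp.Points.ofPt (D.w ≫ pullback.fst f.hom (p b)) w, ?_⟩
      rw [AlgSp.Points.map_ofPt, Category.assoc, pullback.condition, ← Category.assoc, ← D.hg,
        ofPt_comp_yon_map]
    have h3 : AlgSp.Points.ofPt (p b) u ∈ closure (Set.range (AlgSp.Points.map f.hom)) :=
      closure_minimal hsub hcl hu'
    rw [AlgSp.Points.ofPt_eq_map_ofScheme, hu] at h3
    exact h3

end Groth.Agent.S9965
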