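import Groth.Statements.S6340
import Mathlib

set_option autoImplicit false
universe u
open CAlg

namespace Groth.Agent.S6340

open scoped TensorProduct

/-- Naturality of `piRightHom` in the left factor. -/
theorem piRightHom_natural {R : Type u} [CommRing R] {A B : Type u} [AddCommGroup A] [Module R A]
    [AddCommGroup B] [Module R B] (φ : A →ₗ[R] B) {ι : Type u} (Q : ι → Type u)
    [∀ i, AddCommGroup (Q i)] [∀ i, Module R (Q i)] (y : A ⊗[R] (∀ i, Q i)) (i : ι) :
    TensorProduct.piRightHom R R B Q (φ.rTensor _ y) i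
      = φ.rTensor (Q i) (TensorProduct.piRightHom R R A Q y i) := by
  induction y using TensorProduct.induction_on with
  | zero => simp
  | tmul a q => simp [TensorProduct.piRightHom_tmul]
  | add y₁ y₂ h₁ h₂ => simp only [map_add, Pi.add_apply, h₁, h₂]

theorem rep_of_span {R : Type u} [CommRing R] {N P : Type u} [AddCommGroup N] [Module R N]
    [AddCommGroup P] [Module R P] {n : ℕ} (s : Fin n → N)
    (hs : Submodule.span R (Set.range s) = ⊤) (t : N ⊗[R] P) :
    ∃ q : Fin n → P, t = ∑ j, s j ⊗ₜ[R] q j := by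
  induction t using TensorProduct.induction_on with
  | zero => exact ⟨0, by simp⟩
  | tmul x p =>
    have hx : x ∈ Submodule.span R (Set.range s) := by rw [hs]; trivial
    obtain ⟨c, rfl⟩ := (Submodule.mem_span_range_iff_exists_fun R).mp hx
    refine ⟨fun j => c j • p, ?_⟩
    rw [TensorProduct.sum_tmul]
    refine Finset.sum_congr rfl fun j _ => ?_
    rw [TensorProduct.smul_tmul]
  | add y₁ y₂ h₁ h₂ =>
    obtain ⟨q₁, rfl⟩ := h₁
    obtain ⟨q₂, rfl⟩ := h₂
    refine ⟨q₁ + q₂, ?_⟩
    simp [TensorProduct.tmul_add, Finset.sum_add_distrib]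

theorem piRightHom_surjective_of_finite {R : Type u} [CommRing R] {N : Type u} [AddCommGroup N]
    [Module R N] [Module.Finite R N] {ι : Type u} (Q : ι → Type u)
    [∀ i, AddCommGroup (Q i)] [∀ i, Module R (Q i)] :
    Function.Surjective (TensorProduct.piRightHom R R N Q) := by
  obtain ⟨n, s, hs⟩ := Module.Finite.exists_fin (R := R) (M := N)
  intro w
  choose q hq using fun i => rep_of_span s hs (w i)
  refine ⟨∑ j, s j ⊗ₜ[R] (fun i => q i j), ?_⟩
  funext i
  rw [map_sum, Finset.sum_apply, hq i]
  refine Finset.sum_congr rfl fun j _ => ?_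
  rw [TensorProduct.piRightHom_tmul]

/-- Let M₁ → M₂ → M₃ → 0 be exact with M₁ finitely generated; if M₂ is Mittag-Leffler then so is M₃.
Equivalently, as stated here: the quotient of a Mittag-Leffler module by a finitely generated
submodule is Mittag-Leffler. -/
theorem result (R : Type u) [CommRing R] {M : Type u} [AddCommGroup M] [Module R M]
    (N : Submodule R M) (hN : N.FG) (hM : CAlg.IsMittagLeffler R M) :
    CAlg.IsMittagLeffler R (M ⧸ N) := by
  intro ι Q _ _
  rw [injective_iff_map_eq_zero]
  intro z hz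
  have : Module.Finite R N := Module.Finite.iff_fg.mpr hN
  obtain ⟨y, rfl⟩ := LinearMap.rTensor_surjective (∀ i, Q i) N.mkQ_surjective z
  have hex : ∀ i, Function.Exact (N.subtype.rTensor (Q i)) (N.mkQ.rTensor (Q i)) := fun i =>
    rTensor_exact (Q i) (LinearMap.exact_subtype_mkQ N) N.mkQ_surjective
  have h1 : ∀ i, ∃ w : N ⊗[R] Q i,
      N.subtype.rTensor (Q i) w = TensorProduct.piRightHom R R M Q y i := by
    intro i
    apply (hex i _).mp
    rw [← piRightHom_natural, hz]
    rfl
  choose w hw using h1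
  obtain ⟨v, hv⟩ := piRightHom_surjective_of_finite (R := R) (N := N) Q w
  have h2 : N.subtype.rTensor (∀ i, Q i) v = y := by
    apply hM ι Q
    funext i
    rw [piRightHom_natural, hv, hw]
  rw [← h2, ← LinearMap.comp_apply, ← LinearMap.rTensor_comp]
  have : N.mkQ ∘ₗ N.subtype = 0 := by
    ext x; simp
  rw [this, LinearMap.rTensor_zero, LinearMap.zero_apply]

end Groth.Agent.S6340
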