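import Groth.Statements.S6344
import Groth.Agent.S6340

set_option autoImplicit false
universe u
open CAlg

namespace Groth.Agent.S6344

open scoped TensorProduct

theorem ml_of_equiv {R : Type u} [CommRing R] {A B : Type u} [AddCommGroup A] [Module R A]
    [AddCommGroup B] [Module R B] (e : A ≃ₗ[R] B) (hA : CAlg.IsMittagLeffler R A) :
    CAlg.IsMittagLeffler R B := by
  intro ι Q _ _
  rw [injective_iff_map_eq_zero]
  intro x hx
  have h1 : TensorProduct.piRightHom R R A Q (e.symm.toLinearMap.rTensor _ x) = 0 := by
    funext i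
    rw [Groth.Agent.S6340.piRightHom_natural, hx]; simp
  have h2 := hA ι Q (h1.trans (map_zero _).symm)
  have h3 : x = e.toLinearMap.rTensor _ (e.symm.toLinearMap.rTensor _ x) := by
    rw [← LinearMap.comp_apply, ← LinearMap.rTensor_comp]; simp
  rw [h3, h2, map_zero]

theorem ml_fin (R : Type u) [CommRing R] (n : ℕ) : CAlg.IsMittagLeffler R (Fin n → R) := by
  classical
  intro ι Q _ _
  rw [injective_iff_map_eq_zero]
  intro x hx
  have hspan : Submodule.span R (Set.range fun j : Fin n => (Pi.single j (1:R) : Fin n → R)) = ⊤ := by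
    have h1 : (Set.range fun j : Fin n => (Pi.single j (1:R) : Fin n → R))
        = Set.range (Pi.basisFun R (Fin n)) := by
      congr 1
      ext j
      simp [Pi.basisFun_apply]
    rw [h1, (Pi.basisFun R (Fin n)).span_eq]
  obtain ⟨q, rfl⟩ := Groth.Agent.S6340.rep_of_span
    (fun j => (Pi.single j (1:R) : Fin n → R)) hspan x
  have hq : ∀ j, q j = 0 := by
    intro j
    funext i
    have h := congrFun hx i
    rw [map_sum, Finset.sum_apply] at h
    simp only [TensorProduct.piRightHom_tmul] at h
    have h' := congrArg (fun t => TensorProduct.lid R (Q i)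
      ((LinearMap.proj (R := R) (φ := fun _ : Fin n => R) j).rTensor (Q i) t)) h
    simpa [map_sum, Pi.single_apply] using h'
  simp [hq]

theorem ml_of_fp (R : Type u) [CommRing R] (S : Type u) [AddCommGroup S] [Module R S]
    [Module.FinitePresentation R S] : CAlg.IsMittagLeffler R S := by
  obtain ⟨n, K, φ, hK⟩ := Module.FinitePresentation.exists_fin R S
  exact ml_of_equiv φ.symm (Groth.Agent.S6340.result R K hK (ml_fin R n))

/-- Descent of Mittag-Leffler along a module-finitely-presented algebra. -/
theorem core (R S : Type u) [CommRing R] [CommRing S] [Algebra R S]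
    [Module.FinitePresentation R S]
    (M : Type u) [AddCommGroup M] [Module S M] [Module R M] [IsScalarTower R S M]
    (hM : CAlg.IsMittagLeffler S M) : CAlg.IsMittagLeffler R M := by
  have hS := ml_of_fp R S
  intro ι Q _ _
  rw [injective_iff_map_eq_zero]
  intro x hx
  let P : ι → Type u := fun i => S ⊗[R] Q i
  let e₁ := (TensorProduct.AlgebraTensorModule.cancelBaseChange R S S M (∀ i, Q i)).symm
  let φ : (S ⊗[R] (∀ i, Q i)) →ₗ[S] (∀ i, S ⊗[R] Q i) := TensorProduct.piRightHom R S S Q
  have hφ : Function.Bijective φ := by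
    constructor
    · have := hS ι Q
      intro a b hab
      apply this
      exact hab
    · intro w
      obtain ⟨v, hv⟩ := Groth.Agent.S6340.piRightHom_surjective_of_finite (R := R) (N := S) Q w
      exact ⟨v, hv⟩
  let φe : (S ⊗[R] (∀ i, Q i)) ≃ₗ[S] (∀ i, S ⊗[R] Q i) := LinearEquiv.ofBijective φ hφ
  let ψ : M ⊗[S] (S ⊗[R] (∀ i, Q i)) →ₗ[S] M ⊗[S] (∀ i, S ⊗[R] Q i) := φ.lTensor M
  have hψ : Function.Injective ψ := by
    apply Function.LeftInverse.injective (g := (φe.symm.toLinearMap).lTensor M)
    intro t
    simp only [ψ]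
    rw [← LinearMap.comp_apply, ← LinearMap.lTensor_comp]
    have : φe.symm.toLinearMap ∘ₗ φ = LinearMap.id := LinearMap.ext fun t => φe.symm_apply_apply t
    rw [this, LinearMap.lTensor_id]; rfl
  let χ : M ⊗[S] (∀ i, P i) →ₗ[S] (∀ i, M ⊗[S] P i) := TensorProduct.piRightHom S S M P
  have hχ : Function.Injective χ := hM ι P
  let e₂ := fun i => TensorProduct.AlgebraTensorModule.cancelBaseChange R S S M (Q i)
  have key : ∀ x i, e₂ i (χ (ψ (e₁ x)) i) = TensorProduct.piRightHom R R M Q x i := by
    intro x i
    induction x using TensorProduct.induction_on with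
    | zero => simp
    | tmul m q =>
      simp [e₁, ψ, φ, χ, e₂, P, TensorProduct.piRightHom_tmul]
    | add a b ha hb => simp only [map_add, Pi.add_apply, ha, hb]
  have h0 : χ (ψ (e₁ x)) = 0 := by
    funext i
    apply (e₂ i).injective
    rw [key, hx]; simp
  have h1 := hχ (h0.trans (map_zero χ).symm)
  have h2 := hψ (h1.trans (map_zero ψ).symm)
  exact e₁.injective (h2.trans (map_zero e₁).symm)

/-- Let R → S be a finite and finitely presented ring map and M an S-module. If M is Mittag-Leffler over
S then M is Mittag-Leffler over R. -/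
theorem result (R S : Type u) [CommRing R] [CommRing S]
    [Algebra R S] [Module.Finite R S] [Algebra.FinitePresentation R S]
    (M : Type u) [AddCommGroup M] [Module S M] [Module R M] [IsScalarTower R S M]
    (hM : CAlg.IsMittagLeffler S M) : CAlg.IsMittagLeffler R M := by
  have hfp : Module.FinitePresentation R S :=
    Module.FinitePresentation.of_finite_of_finitePresentation R S
  exact core R S M hM

end Groth.Agent.S6344
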