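import Groth.Statements.S6360
import Mathlib

set_option autoImplicit false
universe u
open CAlg

namespace Groth.Agent.S6360

open TensorProduct

/-- Approximation lemma: a tensor `x ∈ Q ⊗ M` killed by `Q ⊗ f` comes from a tensor `x' ∈ Q' ⊗ M`
killed by `Q' ⊗ f`, with `Q'` finitely presented. -/
theorem approx {R : Type u} [CommRing R] {M N : Type u} [AddCommGroup M] [Module R M]
    [AddCommGroup N] [Module R N] (f : M →ₗ[R] N) (Q : Type u) [AddCommGroup Q] [Module R Q]
    (x : Q ⊗[R] M) (hx : f.lTensor Q x = 0) :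
    ∃ (Q' : Type u) (_ : AddCommGroup Q') (_ : Module R Q') (_ : Module.FinitePresentation R Q')
      (h : Q' →ₗ[R] Q) (x' : Q' ⊗[R] M), h.rTensor M x' = x ∧ f.lTensor Q' x' = 0 := by
  -- Step 1: reduce to a finitely generated submodule
  obtain ⟨J, hJ, y, rfl⟩ := Submodule.exists_fg_le_eq_rTensor_subtype x
  have h1 : J.subtype.rTensor N (f.lTensor J y) = J.subtype.rTensor N 0 := by
    rw [map_zero, ← hx]
    rw [← LinearMap.comp_apply, ← LinearMap.comp_apply, LinearMap.rTensor_comp_lTensor,
      LinearMap.lTensor_comp_rTensor]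
  obtain ⟨J', hJ', hle, h2⟩ := hJ.exists_rTensor_fg_inclusion_eq h1
  rw [map_zero] at h2
  -- Step 2: present `J'`
  have : Module.Finite R J' := Module.Finite.iff_fg.mpr hJ'
  obtain ⟨n, π, hπ⟩ := Module.Finite.exists_fin' R J'
  let y' : J' ⊗[R] M := (J.inclusion hle).rTensor M y
  obtain ⟨yt, hyt⟩ := LinearMap.rTensor_surjective M hπ y'
  let K := LinearMap.ker π
  have hex : Function.Exact K.subtype π := by
    intro a
    constructor
    · intro ha; exact ⟨⟨a, ha⟩, rfl⟩
    · rintro ⟨b, rfl⟩; exact b.2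
  have hz : π.rTensor N (f.lTensor (Fin n → R) yt) = 0 := by
    rw [← LinearMap.comp_apply, LinearMap.rTensor_comp_lTensor, ← LinearMap.lTensor_comp_rTensor,
      LinearMap.comp_apply, hyt]
    change f.lTensor J' ((J.inclusion hle).rTensor M y) = 0
    rw [← LinearMap.comp_apply, LinearMap.lTensor_comp_rTensor, ← LinearMap.rTensor_comp_lTensor,
      LinearMap.comp_apply, h2]
  obtain ⟨w, hw⟩ := (rTensor_exact N hex hπ _).mp hz
  obtain ⟨J₀, hJ₀, hle₀, w', rfl⟩ := Submodule.exists_fg_le_eq_rTensor_inclusion w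
  have : Module.FinitePresentation R ((Fin n → R) ⧸ J₀) :=
    Module.finitePresentation_of_free_of_surjective J₀.mkQ J₀.mkQ_surjective
      (by rw [Submodule.ker_mkQ]; exact hJ₀)
  have hle₁ : J₀ ≤ LinearMap.ker π := hle₀
  refine ⟨(Fin n → R) ⧸ J₀, inferInstance, inferInstance, inferInstance,
    J'.subtype ∘ₗ J₀.liftQ π hle₁, J₀.mkQ.rTensor M yt, ?_, ?_⟩
  · rw [← LinearMap.comp_apply, ← LinearMap.rTensor_comp]
    have : (J'.subtype ∘ₗ J₀.liftQ π hle₁) ∘ₗ J₀.mkQ = J'.subtype ∘ₗ π := by
      rw [LinearMap.comp_assoc, Submodule.liftQ_mkQ]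
    rw [this, LinearMap.rTensor_comp, LinearMap.comp_apply, hyt]
    change J'.subtype.rTensor M ((J.inclusion hle).rTensor M y) = _
    rw [← LinearMap.comp_apply, ← LinearMap.rTensor_comp]
    rfl
  · rw [← LinearMap.comp_apply, LinearMap.lTensor_comp_rTensor, ← LinearMap.rTensor_comp_lTensor,
      LinearMap.comp_apply, ← hw, ← LinearMap.comp_apply, ← LinearMap.comp_apply,
      ← LinearMap.rTensor_comp, ← LinearMap.rTensor_comp]
    have : (J₀.mkQ ∘ₗ K.subtype) ∘ₗ J₀.inclusion hle₀ = 0 := by
      ext a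
      simp only [LinearMap.coe_comp, Function.comp_apply, LinearMap.zero_apply]
      exact (Submodule.Quotient.mk_eq_zero J₀).mpr a.2
    rw [this, LinearMap.rTensor_zero, LinearMap.zero_apply]

/-- For maps of R-modules f : M → N and g : M → M', g dominates f (the kernel of f ⊗ id_Q is contained
in that of g ⊗ id_Q for every module Q) if and only if this containment holds for every finitely
presented module Q. -/
theorem result (R : Type u) [CommRing R] {M N M' : Type u}
    [AddCommGroup M] [Module R M] [AddCommGroup N] [Module R N] [AddCommGroup M'] [Module R M']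
    (f : M →ₗ[R] N) (g : M →ₗ[R] M') :
    (∀ (Q : Type u) [AddCommGroup Q] [Module R Q], LinearMap.ker (f.rTensor Q) ≤ LinearMap.ker (g.rTensor Q)) ↔
      ∀ (Q : Type u) [AddCommGroup Q] [Module R Q], Module.FinitePresentation R Q →
        LinearMap.ker (f.rTensor Q) ≤ LinearMap.ker (g.rTensor Q) := by
  constructor
  · intro h Q _ _ _
    exact h Q
  · intro h Q _ _ x hx
    rw [LinearMap.mem_ker] at hx ⊢
    have hx' : f.lTensor Q (TensorProduct.comm R M Q x) = 0 := by
      rw [LinearMap.lTensor_comm, hx, map_zero]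
    obtain ⟨Q', _, _, hQ', k, x', hk, hx''⟩ := approx f Q _ hx'
    have h3 : f.rTensor Q' (TensorProduct.comm R Q' M x') = 0 := by
      rw [LinearMap.rTensor_comm, hx'', map_zero]
    have h4 : g.rTensor Q' (TensorProduct.comm R Q' M x') = 0 := h Q' hQ' h3
    have h5 : x = k.lTensor M (TensorProduct.comm R Q' M x') := by
      rw [LinearMap.lTensor_comm, hk]
      exact ((TensorProduct.comm R M Q).symm_apply_apply x).symm
    rw [h5, ← LinearMap.comp_apply, LinearMap.rTensor_comp_lTensor,
      ← LinearMap.lTensor_comp_rTensor, LinearMap.comp_apply, h4, map_zero]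

end Groth.Agent.S6360
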