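import Groth.Statements.S6356
import Groth.Agent.S6360
import Groth.Agent.S6344

set_option autoImplicit false
universe u
open scoped TensorProduct
open CAlg

namespace Groth.Agent.S6356

open TensorProduct

section comp

variable {R : Type u} [CommRing R] {n : ℕ}

/-- The `i`-th component of a tensor in `Rⁿ ⊗ X`. -/
noncomputable def comp (X : Type u) [AddCommGroup X] [Module R X] (i : Fin n) :
    (Fin n → R) ⊗[R] X →ₗ[R] X :=
  (TensorProduct.lid R X).toLinearMap ∘ₗ
    (LinearMap.proj i : (Fin n → R) →ₗ[R] R).rTensor X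

theorem comp_tmul {X : Type u} [AddCommGroup X] [Module R X] (i : Fin n) (r : Fin n → R) (x : X) :
    comp X i (r ⊗ₜ[R] x) = r i • x := by
  simp [comp]

theorem comp_natural {X Y : Type u} [AddCommGroup X] [Module R X] [AddCommGroup Y] [Module R Y]
    (φ : X →ₗ[R] Y) (i : Fin n) (t : (Fin n → R) ⊗[R] X) :
    comp Y i (φ.lTensor _ t) = φ (comp X i t) := by
  induction t using TensorProduct.induction_on with
  | zero => simp
  | tmul r x => simp [comp_tmul]
  | add a b ha hb => simp only [map_add, ha, hb]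

theorem eq_sum {X : Type u} [AddCommGroup X] [Module R X] (t : (Fin n → R) ⊗[R] X) :
    t = ∑ i, (Pi.single i (1 : R) : Fin n → R) ⊗ₜ[R] comp X i t := by
  classical
  induction t using TensorProduct.induction_on with
  | zero => simp
  | tmul r x =>
    simp only [comp_tmul]
    conv_lhs => rw [pi_eq_sum_univ' r, TensorProduct.sum_tmul]
    refine Finset.sum_congr rfl (fun i _ => ?_)
    rw [TensorProduct.smul_tmul]
  | add a b ha hb =>
    conv_lhs => rw [ha, hb]
    simp only [map_add, TensorProduct.tmul_add, Finset.sum_add_distrib]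

end comp

/-- Lemma L: a tensor `y ∈ N ⊗ P` killed by `N ⊗ f`, `f : P → M` with `P` finitely presented, is
already killed by `N ⊗ g` for a factorization `P →g Q →h M` of `f` with `Q` finitely presented. -/
theorem lemmaL {R : Type u} [CommRing R] {P M : Type u} [AddCommGroup P] [Module R P]
    [Module.FinitePresentation R P] [AddCommGroup M] [Module R M] (f : P →ₗ[R] M)
    (N : Type u) [AddCommGroup N] [Module R N] (y : N ⊗[R] P) (hy : f.lTensor N y = 0) :
    ∃ (Q : Type u) (_ : AddCommGroup Q) (_ : Module R Q) (_ : Module.FinitePresentation R Q)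
      (g : P →ₗ[R] Q) (h : Q →ₗ[R] M), h ∘ₗ g = f ∧ g.lTensor N y = 0 := by
  classical
  obtain ⟨N', _, _, hN', k, y', hk, hy'⟩ := Groth.Agent.S6360.approx f N y hy
  suffices H : ∃ (Q : Type u) (_ : AddCommGroup Q) (_ : Module R Q)
      (_ : Module.FinitePresentation R Q) (g : P →ₗ[R] Q) (h : Q →ₗ[R] M),
      h ∘ₗ g = f ∧ g.lTensor N' y' = 0 by
    obtain ⟨Q, _, _, hQ, g, h, hgh, hg⟩ := H
    refine ⟨Q, _, _, hQ, g, h, hgh, ?_⟩
    rw [← hk, ← LinearMap.comp_apply, LinearMap.lTensor_comp_rTensor,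
      ← LinearMap.rTensor_comp_lTensor, LinearMap.comp_apply, hg, map_zero]
  obtain ⟨n, π, hπ⟩ := Module.Finite.exists_fin' R N'
  let K := LinearMap.ker π
  have hex : Function.Exact K.subtype π := by
    intro a
    constructor
    · intro ha; exact ⟨⟨a, ha⟩, rfl⟩
    · rintro ⟨b, rfl⟩; exact b.2
  obtain ⟨yt, hyt⟩ := LinearMap.rTensor_surjective P hπ y'
  have hz : π.rTensor M (f.lTensor (Fin n → R) yt) = 0 := by
    rw [← LinearMap.comp_apply, LinearMap.rTensor_comp_lTensor, ← LinearMap.lTensor_comp_rTensor,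
      LinearMap.comp_apply, hyt, hy']
  obtain ⟨w, hw⟩ := (rTensor_exact M hex hπ _).mp hz
  obtain ⟨S, hS⟩ := TensorProduct.exists_finset w
  let f₁ : P × (↥S → R) →ₗ[R] M :=
    f.coprod (Fintype.linearCombination R (fun i : ↥S => (i.1.2 : M)))
  let yt₁ : (Fin n → R) ⊗[R] (P × (↥S → R)) :=
    (LinearMap.inl R P (↥S → R)).lTensor _ yt -
      ∑ i : ↥S, ((i.1.1 : K) : Fin n → R) ⊗ₜ[R] (LinearMap.inr R P (↥S → R) (Pi.single i 1))
  have h1 : f₁.lTensor _ yt₁ = 0 := by
    simp only [yt₁, map_sub, map_sum, LinearMap.lTensor_tmul]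
    rw [← LinearMap.comp_apply, ← LinearMap.lTensor_comp]
    have : f₁ ∘ₗ LinearMap.inl R P (↥S → R) = f := LinearMap.coprod_inl _ _
    rw [this, ← hw, hS, map_sum, sub_eq_zero, ← Finset.sum_coe_sort S]
    refine Finset.sum_congr rfl (fun i _ => ?_)
    simp [f₁]
  -- the components
  let c : Fin n → P × (↥S → R) := fun i => comp _ i yt₁
  let T : Submodule R (P × (↥S → R)) := Submodule.span R (Set.range c)
  have hT : T.FG := Submodule.fg_span (Set.finite_range c)
  have hle : T ≤ LinearMap.ker f₁ := by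
    rw [Submodule.span_le]
    rintro _ ⟨i, rfl⟩
    rw [SetLike.mem_coe, LinearMap.mem_ker]
    change f₁ (comp _ i yt₁) = 0
    rw [← comp_natural, h1, map_zero]
  have hQ : Module.FinitePresentation R ((P × (↥S → R)) ⧸ T) :=
    Module.finitePresentation_of_surjective T.mkQ T.mkQ_surjective
      (by rw [Submodule.ker_mkQ]; exact hT)
  have h2 : T.mkQ.lTensor _ yt₁ = 0 := by
    rw [eq_sum (T.mkQ.lTensor _ yt₁)]
    refine Finset.sum_eq_zero (fun i _ => ?_)
    rw [comp_natural]
    have : T.mkQ (comp _ i yt₁) = 0 :=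
      (Submodule.Quotient.mk_eq_zero T).mpr (Submodule.subset_span ⟨i, rfl⟩)
    rw [this, TensorProduct.tmul_zero]
  refine ⟨_ ⧸ T, inferInstance, inferInstance, hQ, T.mkQ ∘ₗ LinearMap.inl R P (↥S → R),
    T.liftQ f₁ hle, ?_, ?_⟩
  · rw [← LinearMap.comp_assoc, Submodule.liftQ_mkQ]
    exact LinearMap.coprod_inl _ _
  · rw [← hyt, ← LinearMap.comp_apply, LinearMap.lTensor_comp_rTensor,
      ← LinearMap.rTensor_comp_lTensor, LinearMap.comp_apply, LinearMap.lTensor_comp,
      LinearMap.comp_apply]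
    have h3 : (LinearMap.inl R P (↥S → R)).lTensor _ yt = yt₁ +
        ∑ i : ↥S, ((i.1.1 : K) : Fin n → R) ⊗ₜ[R]
          (LinearMap.inr R P (↥S → R) (Pi.single i 1)) := by
      simp [yt₁]
    rw [h3, map_add, h2, zero_add, map_sum, map_sum]
    refine Finset.sum_eq_zero (fun i _ => ?_)
    rw [LinearMap.lTensor_tmul, LinearMap.rTensor_tmul]
    have : π ((i.1.1 : K) : Fin n → R) = 0 := (i.1.1 : K).2
    rw [this, TensorProduct.zero_tmul]

/-- Right-handed version of Lemma L. -/
theorem lemmaL_r {R : Type u} [CommRing R] {P M : Type u} [AddCommGroup P] [Module R P]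
    [Module.FinitePresentation R P] [AddCommGroup M] [Module R M] (f : P →ₗ[R] M)
    (N : Type u) [AddCommGroup N] [Module R N] (y : P ⊗[R] N) (hy : f.rTensor N y = 0) :
    ∃ (Q : Type u) (_ : AddCommGroup Q) (_ : Module R Q) (_ : Module.FinitePresentation R Q)
      (g : P →ₗ[R] Q) (h : Q →ₗ[R] M), h ∘ₗ g = f ∧ g.rTensor N y = 0 := by
  have hy' : f.lTensor N (TensorProduct.comm R P N y) = 0 := by
    rw [LinearMap.lTensor_comm, hy, map_zero]
  obtain ⟨Q, _, _, hQ, g, h, hgh, hg⟩ := lemmaL f N _ hy'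
  refine ⟨Q, _, _, hQ, g, h, hgh, ?_⟩
  rw [LinearMap.lTensor_comm] at hg
  exact (TensorProduct.comm R Q N).map_eq_zero_iff.mp hg

/-- Dominated implies Mittag-Leffler. -/
theorem ml_of_dominated {R : Type u} [CommRing R] (M : Type u) [AddCommGroup M] [Module R M]
    (H : ∀ (P : Type u) [AddCommGroup P] [Module R P] [Module.FinitePresentation R P]
      (f : P →ₗ[R] M),
      ∃ (Q : Type u) (_ : AddCommGroup Q) (_ : Module R Q) (_ : Module.FinitePresentation R Q)
        (g : P →ₗ[R] Q),
        ∀ (N : Type u) [AddCommGroup N] [Module R N],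
          LinearMap.ker (f.rTensor N) = LinearMap.ker (g.rTensor N)) :
    CAlg.IsMittagLeffler R M := by
  intro ι Qf _ _
  rw [injective_iff_map_eq_zero]
  intro x hx
  obtain ⟨P, _, _, hP, fP, xP, hxP, -⟩ :=
    Groth.Agent.S6360.approx (0 : (∀ i, Qf i) →ₗ[R] (∀ i, Qf i)) M x (by simp)
  obtain ⟨Q, _, _, hQ, g, hker⟩ := H P fP
  have h1 : ∀ i, TensorProduct.piRightHom R R P Qf xP i ∈ LinearMap.ker (g.rTensor (Qf i)) := by
    intro i
    rw [← hker (Qf i), LinearMap.mem_ker, ← Groth.Agent.S6340.piRightHom_natural, hxP, hx]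
    rfl
  have h2 : g.rTensor _ xP = 0 := by
    apply Groth.Agent.S6344.ml_of_fp R Q ι Qf
    rw [map_zero]
    funext i
    rw [Groth.Agent.S6340.piRightHom_natural]
    exact h1 i
  have h3 : xP ∈ LinearMap.ker (fP.rTensor (∀ i, Qf i)) := by
    rw [hker]; exact h2
  rw [← hxP]
  exact h3

/-- A factorization of `f : P → M` through a finitely presented module `Rⁿ ⧸ K`. -/
structure Fact {R : Type u} [CommRing R] {P M : Type u} [AddCommGroup P] [Module R P]
    [AddCommGroup M] [Module R M] (f : P →ₗ[R] M) : Type u where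
  n : ℕ
  K : Submodule R (Fin n → R)
  hK : K.FG
  g : P →ₗ[R] ((Fin n → R) ⧸ K)
  h : ((Fin n → R) ⧸ K) →ₗ[R] M
  comm : h ∘ₗ g = f

/-- Mittag-Leffler implies dominated. -/
theorem dominated_of_ml {R : Type u} [CommRing R] (M : Type u) [AddCommGroup M] [Module R M]
    (hML : CAlg.IsMittagLeffler R M) (P : Type u) [AddCommGroup P] [Module R P]
    [Module.FinitePresentation R P] (f : P →ₗ[R] M) :
    ∃ j : Fact f, ∀ (N : Type u) [AddCommGroup N] [Module R N],
      LinearMap.ker (f.rTensor N) ≤ LinearMap.ker (j.g.rTensor N) := by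
  by_contra hcon
  push Not at hcon
  have hcon' : ∀ j : Fact f, ∃ (N : ModuleCat.{u} R) (y : P ⊗[R] N),
      f.rTensor N y = 0 ∧ j.g.rTensor N y ≠ 0 := by
    intro j
    obtain ⟨N, iN1, iN2, hN⟩ := hcon j
    rw [SetLike.not_le_iff_exists] at hN
    obtain ⟨y, hy1, hy2⟩ := hN
    exact ⟨ModuleCat.of R N, y, hy1, hy2⟩
  choose N y hy1 hy2 using hcon'
  obtain ⟨yy, hyy⟩ := Groth.Agent.S6340.piRightHom_surjective_of_finite (R := R) (N := P)
    (fun j => N j) y
  have h1 : f.rTensor _ yy = 0 := by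
    apply hML (Fact f) (fun j => N j)
    rw [map_zero]
    funext j
    rw [Groth.Agent.S6340.piRightHom_natural, hyy]
    exact hy1 j
  obtain ⟨Q, _, _, hQ, g, h, hgh, hg⟩ := lemmaL_r f _ yy h1
  obtain ⟨n, K, φ, hK⟩ := Module.FinitePresentation.exists_fin R Q
  let j₀ : Fact f := ⟨n, K, hK, φ.toLinearMap ∘ₗ g, h ∘ₗ φ.symm.toLinearMap, by
    rw [← hgh]; ext a; simp⟩
  apply hy2 j₀
  have h2 : j₀.g.rTensor _ yy = 0 := by
    change (φ.toLinearMap ∘ₗ g).rTensor _ yy = 0
    rw [LinearMap.rTensor_comp, LinearMap.comp_apply, hg, map_zero]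
  have h3 := Groth.Agent.S6340.piRightHom_natural j₀.g (fun j => N j) yy j₀
  rw [h2, map_zero, hyy] at h3
  exact h3.symm

/-- An R-module M is Mittag-Leffler if and only if for every finitely presented module P and every
linear map f : P → M there exist a finitely presented module Q and a linear map g : P → Q such that
f and g dominate each other, i.e. for every module N the maps f ⊗ id_N and g ⊗ id_N have the same
kernel. -/
theorem result (R : Type u) [CommRing R] (M : Type u)
    [AddCommGroup M] [Module R M] :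
    CAlg.IsMittagLeffler R M ↔
      ∀ (P : Type u) [AddCommGroup P] [Module R P] [Module.FinitePresentation R P] (f : P →ₗ[R] M),
        ∃ (Q : Type u) (_ : AddCommGroup Q) (_ : Module R Q) (_ : Module.FinitePresentation R Q) (g : P →ₗ[R] Q),
          ∀ (N : Type u) [AddCommGroup N] [Module R N],
            LinearMap.ker (f.rTensor N) = LinearMap.ker (g.rTensor N) := by
  constructor
  · intro hML P _ _ _ f
    obtain ⟨j, hj⟩ := dominated_of_ml M hML P f
    have hQ : Module.FinitePresentation R ((Fin j.n → R) ⧸ j.K) :=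
      Module.finitePresentation_of_free_of_surjective j.K.mkQ j.K.mkQ_surjective
        (by rw [Submodule.ker_mkQ]; exact j.hK)
    refine ⟨(Fin j.n → R) ⧸ j.K, inferInstance, inferInstance, hQ, j.g, ?_⟩
    intro N _ _
    refine le_antisymm (hj N) ?_
    intro y hy
    rw [LinearMap.mem_ker] at hy ⊢
    rw [← j.comm, LinearMap.rTensor_comp, LinearMap.comp_apply, hy, map_zero]
  · intro H
    exact ml_of_dominated M H

end Groth.Agent.S6356
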