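import Groth.Statements.S6302
import Mathlib

set_option autoImplicit false
universe u
open CAlg
open scoped TensorProduct

namespace Groth.Agent.S6302

/-- Let 0 → M₁ → M₂ → M₃ → 0 be a short exact sequence of R-modules with M₃ of finite presentation. If
the sequence is universally exact (its first map is universally injective) then it is split: M₂ → M₃
admits a section. (The converse, split implies universally exact, is elementary and not stated.) -/
theorem result {R : Type u} [CommRing R] {M₁ M₂ M₃ : Type u} [AddCommGroup M₁] [Module R M₁] [AddCommGroup M₂] [Module R M₂] [AddCommGroup M₃] [Module R M₃] [Module.FinitePresentation R M₃] (f : M₁ →ₗ[R] M₂) (g : M₂ →ₗ[R] M₃) (hexact : Function.Exact f g) (hg : Function.Surjective g) (hf : CAlgX.UniversallyInjective R f) : ∃ s : M₃ →ₗ[R] M₂, g.comp s = LinearMap.id := by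
  classical
  obtain ⟨n, K, φ, hK⟩ := Module.FinitePresentation.exists_fin R M₃
  obtain ⟨m, k, hk⟩ := Submodule.fg_iff_exists_fin_generating_family.mp hK
  let π : (Fin n → R) →ₗ[R] M₃ := φ.symm.toLinearMap ∘ₗ K.mkQ
  have hπk : ∀ i, π (k i) = 0 := by
    intro i
    have : k i ∈ K := hk ▸ Submodule.subset_span ⟨i, rfl⟩
    simp [π, (Submodule.Quotient.mk_eq_zero K).mpr this]
  choose x hx using fun j : Fin n => hg (π (Pi.single j 1))
  have hgx : ∀ v : Fin n → R, g (Fintype.linearCombination R x v) = π v := by
    intro v
    have : g ∘ₗ Fintype.linearCombination R x = π := by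
      apply LinearMap.pi_ext'
      intro j
      ext
      simp [Fintype.linearCombination_apply, hx]
    exact LinearMap.congr_fun this v
  have hy : ∀ i : Fin m, ∃ y : M₁, f y = ∑ j, k i j • x j := by
    intro i
    have : g (∑ j, k i j • x j) = 0 := by
      have := hgx (k i); rw [Fintype.linearCombination_apply] at this; rw [this, hπk]
    exact (hexact _).mp this
  choose y hy using hy
  obtain ⟨z, hz⟩ : ∃ z : Fin n → M₁, ∀ i, y i = ∑ j, k i j • z j := by
    let c : Fin n → (Fin m → R) := fun j i => k i j
    let L : Submodule R (Fin m → R) := Submodule.span R (Set.range c)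
    let q : Fin m → ((Fin m → R) ⧸ L) := fun i => L.mkQ (Pi.single i 1)
    have hq : Submodule.span R (Set.range q) = ⊤ := by
      have h1 : Set.range q = L.mkQ '' (Set.range (Pi.basisFun R (Fin m))) := by
        rw [← Set.range_comp]
        congr 1
        ext i
        simp [q, Pi.basisFun_apply]
      rw [h1, ← Submodule.map_span, (Pi.basisFun R (Fin m)).span_eq, Submodule.map_top,
        Submodule.range_mkQ]
    have ht : ∑ i, y i ⊗ₜ[R] q i = (0 : M₁ ⊗[R] ((Fin m → R) ⧸ L)) := by
      apply hf ((Fin m → R) ⧸ L)
      rw [map_zero, map_sum]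
      simp only [LinearMap.rTensor_tmul, hy]
      simp only [TensorProduct.sum_tmul, TensorProduct.smul_tmul]
      rw [Finset.sum_comm]
      simp only [← TensorProduct.tmul_sum]
      have : ∀ j, ∑ i, k i j • q i = 0 := by
        intro j
        simp only [q, ← map_smul, ← map_sum]
        have : ∑ i, k i j • (Pi.single i (1:R) : Fin m → R) = c j := by
          ext i'; simp [c, Finset.sum_apply, Pi.single_apply]
        rw [this, Submodule.mkQ_apply, Submodule.Quotient.mk_eq_zero]
        exact Submodule.subset_span ⟨j, rfl⟩
      simp [this]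
    have ht' : ∑ i, q i ⊗ₜ[R] y i = (0 : ((Fin m → R) ⧸ L) ⊗[R] M₁) := by
      have := congrArg (TensorProduct.comm R _ _) ht
      simpa using this
    obtain ⟨κ, a, w, hyw, haq⟩ := TensorProduct.vanishesTrivially_of_sum_tmul_eq_zero R hq ht'
    have hd : ∀ l : Fin κ, ∃ d : Fin n → R, ∑ j, d j • c j = fun i => a i l := by
      intro l
      have : (fun i => a i l) ∈ L := by
        rw [← Submodule.Quotient.mk_eq_zero, ← Submodule.mkQ_apply]
        have := haq l
        simp only [q, ← map_smul, ← map_sum] at this
        convert this using 2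
        ext i'; simp [Finset.sum_apply, Pi.single_apply]
      exact (Submodule.mem_span_range_iff_exists_fun R).mp this
    choose d hd using hd
    refine ⟨fun j => ∑ l, d l j • w l, fun i => ?_⟩
    rw [hyw i]
    simp only [Finset.smul_sum, smul_smul]
    rw [Finset.sum_comm]
    refine Finset.sum_congr rfl fun l _ => ?_
    rw [← Finset.sum_smul]
    congr 1
    have := congrFun (hd l) i
    simp only [Finset.sum_apply, Pi.smul_apply, smul_eq_mul, c] at this
    rw [← this]
    exact Finset.sum_congr rfl fun j _ => mul_comm _ _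
  let x' : Fin n → M₂ := fun j => x j - f (z j)
  let σ : (Fin n → R) →ₗ[R] M₂ := Fintype.linearCombination R x'
  have hσK : K ≤ LinearMap.ker σ := by
    rw [← hk, Submodule.span_le]
    rintro _ ⟨i, rfl⟩
    simp only [SetLike.mem_coe, LinearMap.mem_ker, σ, Fintype.linearCombination_apply, x', smul_sub,
      Finset.sum_sub_distrib]
    rw [← hy i, hz i, map_sum]
    simp [map_smul]
  have hgσ : ∀ v, g (σ v) = π v := by
    intro v
    have : σ v = Fintype.linearCombination R x v - f (Fintype.linearCombination R z v) := by
      simp [σ, x', Fintype.linearCombination_apply, smul_sub, Finset.sum_sub_distrib, map_sum]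
    rw [this, map_sub, hgx, hexact.apply_apply_eq_zero, sub_zero]
  refine ⟨K.liftQ σ hσK ∘ₗ φ.toLinearMap, ?_⟩
  ext m₃
  simp only [LinearMap.comp_apply, LinearEquiv.coe_coe, LinearMap.id_apply]
  obtain ⟨v, hv⟩ := K.mkQ_surjective (φ m₃)
  rw [← hv, Submodule.mkQ_apply, Submodule.liftQ_apply, hgσ]
  simp [π, hv]

end Groth.Agent.S6302
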