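import Groth.Statements.S6359
import Groth.Agent.S6302

set_option autoImplicit false
universe u
open CAlg

namespace Groth.Agent.S6359

/-- Let f : M → N and g : M → M' be maps of R-modules such that the cokernel of f is finitely presented.
Then g dominates f (for every module Q the kernel of f ⊗ id_Q is contained in the kernel of g ⊗
id_Q) if and only if g factors through f. -/
theorem result (R : Type u) [CommRing R] {M N M' : Type u}
    [AddCommGroup M] [Module R M] [AddCommGroup N] [Module R N] [AddCommGroup M'] [Module R M']
    (f : M →ₗ[R] N) (g : M →ₗ[R] M') [Module.FinitePresentation R (N ⧸ LinearMap.range f)] :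
    (∀ (Q : Type u) [AddCommGroup Q] [Module R Q], LinearMap.ker (f.rTensor Q) ≤ LinearMap.ker (g.rTensor Q)) ↔
      ∃ h : N →ₗ[R] M', g = h ∘ₗ f := by
  constructor
  · intro hdom
    let ι : M →ₗ[R] N × M' := f.prod (-g)
    let f' : M' →ₗ[R] (N × M') ⧸ LinearMap.range ι := (LinearMap.range ι).mkQ ∘ₗ LinearMap.inr R N M'
    let g' : N →ₗ[R] (N × M') ⧸ LinearMap.range ι := (LinearMap.range ι).mkQ ∘ₗ LinearMap.inl R N M'
    have hcomm : ∀ m, g' (f m) = f' (g m) := by
      intro m
      simp only [f', g', LinearMap.comp_apply, LinearMap.inl_apply, LinearMap.inr_apply,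
        Submodule.mkQ_apply]
      rw [Submodule.Quotient.eq]
      exact ⟨m, by simp [ι]⟩
    let p : ((N × M') ⧸ LinearMap.range ι) →ₗ[R] (N ⧸ LinearMap.range f) :=
      (LinearMap.range ι).liftQ ((LinearMap.range f).mkQ ∘ₗ LinearMap.fst R N M') (by
        rintro _ ⟨m, rfl⟩
        simp [ι])
    have hp : Function.Surjective p := by
      intro c
      obtain ⟨n, rfl⟩ := (LinearMap.range f).mkQ_surjective c
      exact ⟨g' n, by simp [p, g']⟩
    have hexact : Function.Exact f' p := by
      intro n'
      constructor
      · intro h
        obtain ⟨⟨n, m'⟩, rfl⟩ := (LinearMap.range ι).mkQ_surjective n'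
        simp only [p, Submodule.mkQ_apply, Submodule.liftQ_apply, LinearMap.comp_apply,
          LinearMap.fst_apply, Submodule.Quotient.mk_eq_zero] at h
        obtain ⟨m, rfl⟩ := h
        refine ⟨m' + g m, ?_⟩
        simp only [f', LinearMap.comp_apply, LinearMap.inr_apply, Submodule.mkQ_apply]
        rw [Submodule.Quotient.eq]
        refine ⟨-m, ?_⟩
        simp [ι]
      · rintro ⟨m', rfl⟩
        simp [p, f']
    have huniv : CAlgX.UniversallyInjective R f' := by
      intro Q _ _
      rw [injective_iff_map_eq_zero]
      intro x hx
      have hex := rTensor_exact Q (f := ι) (g := (LinearMap.range ι).mkQ)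
        (LinearMap.exact_map_mkQ_range ι) (Submodule.mkQ_surjective _)
      have hx' : ((LinearMap.range ι).mkQ.rTensor Q) ((LinearMap.inr R N M').rTensor Q x) = 0 := by
        rw [← LinearMap.comp_apply, ← LinearMap.rTensor_comp]; exact hx
      obtain ⟨y, hy⟩ := (hex _).mp hx'
      have h1 : f.rTensor Q y = 0 := by
        have := congrArg ((LinearMap.fst R N M').rTensor Q) hy
        rw [← LinearMap.comp_apply, ← LinearMap.rTensor_comp, ← LinearMap.comp_apply,
          ← LinearMap.rTensor_comp] at this
        have e1 : (LinearMap.fst R N M') ∘ₗ ι = f := by ext; simp [ι]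
        have e2 : (LinearMap.fst R N M') ∘ₗ (LinearMap.inr R N M') = 0 := by ext; simp
        rw [e1, e2, LinearMap.rTensor_zero] at this
        simpa using this
      have h2 : (-g).rTensor Q y = x := by
        have := congrArg ((LinearMap.snd R N M').rTensor Q) hy
        rw [← LinearMap.comp_apply, ← LinearMap.rTensor_comp, ← LinearMap.comp_apply,
          ← LinearMap.rTensor_comp] at this
        have e1 : (LinearMap.snd R N M') ∘ₗ ι = -g := by ext; simp [ι]
        have e2 : (LinearMap.snd R N M') ∘ₗ (LinearMap.inr R N M') = LinearMap.id := by ext; simp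
        rw [e1, e2, LinearMap.rTensor_id] at this
        simpa using this
      have h3 : g.rTensor Q y = 0 := hdom Q h1
      rw [← h2, LinearMap.rTensor_neg, LinearMap.neg_apply, h3, neg_zero]
    obtain ⟨s, hs⟩ := Groth.Agent.S6302.result f' p hexact hp huniv
    have hinj : Function.Injective f' := by
      have h0 := huniv R
      have e : (TensorProduct.rid R _).toLinearMap ∘ₗ f'.rTensor R
          = f' ∘ₗ (TensorProduct.rid R M').toLinearMap := by
        apply TensorProduct.ext'
        intro a b
        simp
      intro a b hab
      have : f'.rTensor R ((TensorProduct.rid R M').symm a)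
          = f'.rTensor R ((TensorProduct.rid R M').symm b) := by
        apply (TensorProduct.rid R _).injective
        have ha := LinearMap.congr_fun e ((TensorProduct.rid R M').symm a)
        have hb := LinearMap.congr_fun e ((TensorProduct.rid R M').symm b)
        simp only [LinearMap.comp_apply, LinearEquiv.coe_coe, LinearEquiv.apply_symm_apply] at ha hb
        rw [ha, hb, hab]
      exact (TensorProduct.rid R M').symm.injective (h0 this)
    let t : ((N × M') ⧸ LinearMap.range ι) →ₗ[R] ((N × M') ⧸ LinearMap.range ι) :=
      LinearMap.id - s ∘ₗ p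
    have hmem : ∀ n', t n' ∈ LinearMap.range f' := by
      intro n'
      rw [LinearMap.mem_range]
      apply (hexact _).mp
      have := LinearMap.congr_fun hs (p n')
      simp only [LinearMap.comp_apply, LinearMap.id_apply] at this
      simp [t, this]
    let r : ((N × M') ⧸ LinearMap.range ι) →ₗ[R] M' :=
      (LinearEquiv.ofInjective f' hinj).symm.toLinearMap ∘ₗ
        LinearMap.codRestrict (LinearMap.range f') t hmem
    have hr : ∀ n', f' (r n') = n' - s (p n') := by
      intro n'
      have := (LinearEquiv.ofInjective f' hinj).apply_symm_apply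
        (LinearMap.codRestrict (LinearMap.range f') t hmem n')
      have h2 := congrArg Subtype.val this
      simpa [r, t] using h2
    refine ⟨r ∘ₗ g', ?_⟩
    ext m
    apply hinj
    simp only [LinearMap.comp_apply]
    rw [hr, hcomm, hexact.apply_apply_eq_zero, map_zero, sub_zero]
  · rintro ⟨h, rfl⟩ Q _ _ x hx
    rw [LinearMap.mem_ker] at hx ⊢
    rw [LinearMap.rTensor_comp, LinearMap.comp_apply, hx, map_zero]

end Groth.Agent.S6359
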