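import Groth.Statements.S6361
import Groth.Agent.Lib.Helper6.MLEndo

set_option autoImplicit false
universe u
open CAlg

namespace Groth.Agent.S6361

/-- Let M be a Mittag-Leffler, countably generated module over a commutative ring R, and f : P → M a
linear map with P finitely generated. Then there is an endomorphism a of M which factors through
some finitely presented module and satisfies a ∘ f = f. -/
theorem result (R : Type u)
    [CommRing R] (M : Type u) [AddCommGroup M] [Module R M] (hML : CAlg.IsMittagLeffler R M)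
    (hc : CAlg.IsCountablyGenerated R M) {P : Type u} [AddCommGroup P] [Module R P] [Module.Finite R P]
    (f : P →ₗ[R] M) :
    ∃ (Q : Type u) (_ : AddCommGroup Q) (_ : Module R Q) (_ : Module.FinitePresentation R Q)
      (b : M →ₗ[R] Q) (c : Q →ₗ[R] M), (c ∘ₗ b) ∘ₗ f = f := by
  classical
  obtain ⟨s, hs, hspan⟩ := hc
  obtain ⟨x, hx⟩ := (hs.insert 0).exists_eq_range ⟨0, Set.mem_insert _ _⟩
  obtain ⟨a, z, hz⟩ := Module.Finite.exists_fin (R := R) (M := P)
  obtain ⟨y, hydef⟩ : ∃ y : ℕ → M, y = fun i => if h : i < a then f (z ⟨i, h⟩) else x (i - a) :=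
    ⟨_, rfl⟩
  have hy : Submodule.span R (Set.range y) = ⊤ := by
    rw [eq_top_iff, ← hspan, ← Submodule.span_insert_zero (s := s), hx]
    apply Submodule.span_mono
    rintro _ ⟨k, rfl⟩
    refine ⟨a + k, ?_⟩
    rw [hydef]
    simp only
    rw [dif_neg (by omega), Nat.add_sub_cancel_left]
  obtain ⟨Q, iA, iM, iF, b, c, h⟩ := Groth.Agent.Helper6.MLEndo.core hML y hy a
  refine ⟨Q, iA, iM, iF, b, c, ?_⟩
  apply LinearMap.ext_on hz
  rintro _ ⟨i, rfl⟩
  have h1 := h i i.2
  have h2 : y i = f (z i) := by
    rw [hydef]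
    simp only
    rw [dif_pos i.2]
  rw [h2] at h1
  exact h1

end Groth.Agent.S6361
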