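import Groth.Statements.S0583
import Mathlib
import Groth.Agent.Lib.Helper22.Kaplansky2

set_option autoImplicit false
universe u
open scoped Classical
open CAlg

namespace Groth.Agent.S0583

/-- If a module is an internal direct sum of countably generated submodules, then any direct summand of
it is again an internal direct sum of countably generated submodules. -/
theorem result (R : Type u) [CommRing R] (M : Type u)
    [AddCommGroup M] [Module R M] (ι : Type u) (N : ι → Submodule R M) (hN : DirectSum.IsInternal N)
    (hc : ∀ i, CAlg.IsCountablyGenerated R (N i)) (P Q : Submodule R M) (hPQ : IsCompl P Q) :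
    ∃ (κ : Type u) (L : κ → Submodule R P), DirectSum.IsInternal L ∧
      ∀ k, CAlg.IsCountablyGenerated R (L k) := by
  have hcg : ∀ i, Groth.Agent.Helper22.Kap.CG (N i) := fun i => by
    obtain ⟨s, hs, hspan⟩ := hc i
    exact Groth.Agent.Helper22.Kap.CG_of_span_top s hs hspan
  obtain ⟨𝒦, hind, hsup, hK⟩ := Groth.Agent.Helper22.Kap.summand_decomp
    hN.submodule_iSupIndep hN.submodule_iSup_eq_top hcg hPQ
  obtain ⟨h1, h2⟩ := Groth.Agent.Helper22.Kap.transfer P 𝒦 hind hsup
  refine ⟨𝒦, fun K => (K : Submodule R M).comap P.subtype,
    DirectSum.isInternal_submodule_of_iSupIndep_of_iSup_eq_top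
      (dec_ι := fun a b => Classical.propDecidable (a = b)) h1 h2, fun K => ?_⟩
  have hle : (K : Submodule R M) ≤ P := hsup ▸ le_sSup K.2
  refine Groth.Agent.Helper22.Kap.span_top_of_CG
    (P.subtype ∘ₗ (Submodule.comap P.subtype (K : Submodule R M)).subtype)
    ((Submodule.injective_subtype P).comp (Submodule.injective_subtype _)) (hK K K.2) ?_
  rw [LinearMap.range_comp, Submodule.range_subtype, Submodule.map_comap_subtype,
    inf_eq_right.mpr hle]

end Groth.Agent.S0583
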