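import Groth.Statements.S6337
import Groth.Agent.S6338

set_option autoImplicit false
universe u
open CAlg

namespace Groth.Agent.S6337

open TensorProduct DirectSum in
theorem comp_eq (R : Type u) [CommRing R] {ι : Type u} [DecidableEq ι] (M : ι → Type u)
    [∀ i, AddCommGroup (M i)] [∀ i, Module R (M i)] (P : Type u) [AddCommGroup P] [Module R P]
    (x : (⨁ i, M i) ⊗[R] P) (i : ι) :
    TensorProduct.directSumLeft R R M P x i = (DirectSum.component R ι M i).rTensor P x := by
  induction x using TensorProduct.induction_on with
  | zero => simp
  | tmul m p => rw [TensorProduct.directSumLeft_tmul]; rfl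
  | add a b ha hb => rw [map_add, map_add, DirectSum.add_apply, ha, hb]

open TensorProduct DirectSum in
theorem eq_zero_of_components (R : Type u) [CommRing R] {ι : Type u} (M : ι → Type u)
    [∀ i, AddCommGroup (M i)] [∀ i, Module R (M i)] (P : Type u) [AddCommGroup P] [Module R P]
    (x : (⨁ i, M i) ⊗[R] P) (h : ∀ i, (DirectSum.component R ι M i).rTensor P x = 0) : x = 0 := by
  classical
  apply (TensorProduct.directSumLeft R R M P).injective
  rw [map_zero]
  ext i
  rw [comp_eq, h]
  simp

open TensorProduct DirectSum in
theorem sq (R : Type u) [CommRing R] {M N : Type u}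
    [AddCommGroup M] [Module R M] [AddCommGroup N] [Module R N] (f : M →ₗ[R] N)
    {κ : Type u} (Q : κ → Type u) [∀ i, AddCommGroup (Q i)] [∀ i, Module R (Q i)]
    (y : M ⊗[R] (∀ i, Q i)) (j : κ) :
      TensorProduct.piRightHom R R N Q (f.rTensor (∀ i, Q i) y) j =
      f.rTensor (Q j) (TensorProduct.piRightHom R R M Q y j) := by
  induction y using TensorProduct.induction_on with
  | zero => simp
  | tmul a b => simp
  | add a b ha hb => simp only [map_add, Pi.add_apply, ha, hb]

/-- A direct sum of modules is Mittag-Leffler if and only if each summand is Mittag-Leffler. -/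
theorem result (R : Type u) [CommRing R] {ι : Type u} (M : ι → Type u)
    [∀ i, AddCommGroup (M i)] [∀ i, Module R (M i)] :
    CAlg.IsMittagLeffler R (DirectSum ι M) ↔ ∀ i, CAlg.IsMittagLeffler R (M i) := by
  classical
  constructor
  · intro h i
    apply Groth.Agent.S6338.result R (DirectSum.lof R ι M i) ?_ h
    intro Q _ _
    have : (DirectSum.component R ι M i).rTensor Q ∘ₗ (DirectSum.lof R ι M i).rTensor Q =
        LinearMap.id := by
      rw [← LinearMap.rTensor_comp]
      have : DirectSum.component R ι M i ∘ₗ DirectSum.lof R ι M i = LinearMap.id := by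
        ext x
        simp
      rw [this, LinearMap.rTensor_id]
    exact Function.LeftInverse.injective (g := (DirectSum.component R ι M i).rTensor Q)
      (fun x => by rw [← LinearMap.comp_apply, this]; rfl)
  · intro h κ Q _ _
    rw [injective_iff_map_eq_zero]
    intro x hx
    apply eq_zero_of_components
    intro i
    apply h i κ Q
    rw [map_zero]
    ext j
    rw [sq, hx]
    simp

end Groth.Agent.S6337
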