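import Groth.Statements.S10630
import Groth.Agent.Lib.Helper16.AlgSp.FormalSp9

set_option autoImplicit false
universe u
open CategoryTheory CategoryTheory.Limits AlgebraicGeometry
open AlgSp

namespace Groth.Agent.S10630

/-- (1) ⇔ (3): let h : Z ⟶ X be a morphism of algebraic spaces over S and let i : Z ⟶ Z', h' : Z' ⟶ X be
a first order thickening of Z over X (i ≫ h' = h). Then (i, h') is a universal first order
thickening of Z over X if and only if for every first order thickening j : T ⟶ T' of schemes over S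
with T' affine, every a : T ⟶ Z and b : T' ⟶ X with j ≫ b = a ≫ h, there is exactly one a' : T' ⟶ Z'
with j ≫ a' = a ≫ i and a' ≫ h' = b. -/
theorem result {S : Scheme.{u}} {Z Z' X : AlgSp.Space S} (h : Z ⟶ X) (i : Z ⟶ Z')
    (h' : Z' ⟶ X) (hi : AlgSp.IsFOThickMor i.hom) (w : i ≫ h' = h) :
    AlgSp.IsUnivFOThick h.hom i.hom h'.hom ↔
      ∀ (T T' : Over S) (j : T ⟶ T'), IsAffine T'.left → AlgSp.IsFOThickMor ((AlgSp.yon S).map j) →
        ∀ (a : (AlgSp.yon S).obj T ⟶ Z.obj) (b : (AlgSp.yon S).obj T' ⟶ X.obj),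
          (AlgSp.yon S).map j ≫ b = a ≫ h.hom →
          ∃! a' : (AlgSp.yon S).obj T' ⟶ Z'.obj, (AlgSp.yon S).map j ≫ a' = a ≫ i.hom ∧ a' ≫ h'.hom = b := by
  have w' : i.hom ≫ h'.hom = h.hom := congrArg (fun t => t.hom) w
  constructor
  · intro HU T T' j _ hj a b hab
    exact HU.2.2 (IsAlgSpace.yon_obj T) (IsAlgSpace.yon_obj T') _ a b hj hab
  · intro H
    refine ⟨hi, w', ?_⟩
    intro T T' hT hT' j a b hj hab
    have hrep := hj.1.1
    -- the affine test on a chart
    have hchart : ∀ (A : CommRingCat.{u}) (str : Spec A ⟶ S)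
        (c : (AlgSp.yon S).obj (Over.mk str) ⟶ T'), AlgSp.RepWith @Etale c →
        ∃! m : (AlgSp.yon S).obj (Over.mk str) ⟶ Z'.obj,
          (AlgSp.yon S).map (hrep.snd c) ≫ m = (hrep.fst c ≫ a) ≫ i.hom ∧ m ≫ h'.hom = c ≫ b := by
      intro A str c hc
      have pb := hrep.isPullback c
      have hce : AlgSp.IsEtaleMor c := fun U φ hφ => (AlgSp.RepWith @Etale).comp_mem _ _ hφ hc
      have hsnd : AlgSp.IsFOThickMor ((AlgSp.yon S).map (hrep.snd c)) :=
        Groth.Agent.Helper16.AS.isFOThickMor_of_isPullback pb hce hj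
      refine H _ _ (hrep.snd c) (by change IsAffine (Spec A); infer_instance) hsnd
        (hrep.fst c ≫ a) (c ≫ b) ?_
      rw [← Category.assoc, ← pb.w, Category.assoc, Category.assoc, hab]
    refine Groth.Agent.Helper16.AS.existsUnique_lift' (f := h'.hom) (a := a ≫ i.hom) (b := b)
      hT' hrep ?_ ?_
    · intro A str c hc m m' hm hm'
      have pb := hrep.isPullback c
      obtain ⟨m₀, -, hu⟩ := hchart A str c hc
      have e1 := hu m ⟨by rw [hm.1 _ _ pb, Category.assoc], hm.2⟩
      have e2 := hu m' ⟨by rw [hm'.1 _ _ pb, Category.assoc], hm'.2⟩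
      rw [e1, e2]
    · intro A str c hc
      have pb := hrep.isPullback c
      obtain ⟨m, ⟨hm1, hm2⟩, -⟩ := hchart A str c hc
      refine ⟨m, fun W fst snd pb' => ?_, hm2⟩
      have e1 : (pb'.isoIsPullback _ _ pb).hom ≫ hrep.fst c = fst :=
        pb'.isoIsPullback_hom_fst _ _ pb
      have e2 : (pb'.isoIsPullback _ _ pb).hom ≫ (AlgSp.yon S).map (hrep.snd c) =
          (AlgSp.yon S).map snd := pb'.isoIsPullback_hom_snd _ _ pb
      rw [← e2, Category.assoc, hm1]
      simp only [← Category.assoc]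
      rw [e1]

end Groth.Agent.S10630
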