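import Groth.Statements.S10633
import Groth.Agent.Lib.Helper15.UThick2
import Groth.Agent.S10630

set_option autoImplicit false
universe u
open CategoryTheory CategoryTheory.Limits AlgebraicGeometry
open AlgSp

namespace Groth.Agent.S10633

open Groth.Agent.Helper15 Groth.Agent.Helper15.UThick Groth.Agent.Helper16.AS

theorem result {S : Scheme.{u}} {Z Y Z' Y' X : AlgSp.Space S} (e : Z ⟶ Y)
    (he : AlgSp.IsEtaleMor e.hom) (hes : AlgSp.IsSurjectiveMor e.hom) (hY : Y ⟶ X)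
    (iZ : Z ⟶ Z') (iY : Y ⟶ Y') (hiZ : AlgSp.IsFOThickMor iZ.hom) (hiY : AlgSp.IsFOThickMor iY.hom)
    (f' : Z' ⟶ Y') (hf' : AlgSp.IsEtaleMor f'.hom) (w : iZ ≫ f' = e ≫ iY) (hY' : Y' ⟶ X) (w' : iY ≫ hY' = hY)
    (HU : AlgSp.IsUnivFOThick (e ≫ hY).hom iZ.hom (f' ≫ hY').hom) :
    AlgSp.IsUnivFOThick hY.hom iY.hom hY'.hom := by
  classical
  have hw : iZ.hom ≫ f'.hom = e.hom ≫ iY.hom := congrArg (fun k => k.hom) w
  have hw' : iY.hom ≫ hY'.hom = hY.hom := congrArg (fun k => k.hom) w'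
  obtain ⟨-, hwZ, hunivZ⟩ := HU
  change iZ.hom ≫ f'.hom ≫ hY'.hom = e.hom ≫ hY.hom at hwZ
  have hfe : IsFormallyEtaleMor f'.hom := isFormallyEtaleMor_of_isEtaleMor Z'.property hf'
  -- common construction
  have hcons : ∀ (T T' : Over S) (j : T ⟶ T'), IsFOThickMor ((yon S).map j) →
      ∀ (a : (yon S).obj T ⟶ Y.obj),
      ∃ (W W' : Over S) (y : W ⟶ T) (y' : W' ⟶ T') (jW : W ⟶ W') (z : (yon S).obj W ⟶ Z.obj),
        Etale y.left ∧ Surjective y.left ∧ Etale y'.left ∧ Surjective y'.left ∧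
        IsPullback jW y y' j ∧ z ≫ e.hom = (yon S).map y ≫ a ∧
        IsFOThickMor ((yon S).map jW) := by
    intro T T' j hj a
    obtain ⟨W, y, z, hye, hys, hz⟩ := exists_etale_cover_lift Z.property e.hom he hes a
    have hjt : thick j.left := (isThickMor_yon_map_iff j).1 hj.1
    obtain ⟨W', y', jW, hy'e, hy's, pb⟩ := exists_etale_lift_over j hjt y hye hys
    have pbY := pb.map (yon S)
    have hjW : IsFOThickMor ((yon S).map jW) :=
      isFOThickMor_of_isPullback pbY.flip ((isEtaleMor_yon_map_iff y').2 hy'e) hj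
    exact ⟨W, W', y, y', jW, z, hye, hys, hy'e, hy's, pb, hz, hjW⟩
  -- uniqueness for scheme tests
  have huniq : ∀ (T T' : Over S) (j : T ⟶ T'), IsFOThickMor ((yon S).map j) →
      ∀ (a : (yon S).obj T ⟶ Y.obj) (a' a'' : (yon S).obj T' ⟶ Y'.obj),
        (yon S).map j ≫ a' = a ≫ iY.hom → (yon S).map j ≫ a'' = a ≫ iY.hom →
        a' ≫ hY'.hom = a'' ≫ hY'.hom → a' = a'' := by
    intro T T' j hj a a' a'' h1 h2 h3
    obtain ⟨W, W', y, y', jW, z, hye, hys, hy'e, hy's, pb, hz, hjW⟩ := hcons T T' j hj a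
    have hpbw : (yon S).map jW ≫ (yon S).map y' = (yon S).map y ≫ (yon S).map j := by
      rw [← Functor.map_comp, ← Functor.map_comp, pb.w]
    have w1 : (z ≫ iZ.hom) ≫ f'.hom = (yon S).map jW ≫ ((yon S).map y' ≫ a') := by
      rw [Category.assoc, hw, ← Category.assoc, hz, Category.assoc, ← h1, ← Category.assoc,
        ← Category.assoc, hpbw]
    have w2 : (z ≫ iZ.hom) ≫ f'.hom = (yon S).map jW ≫ ((yon S).map y' ≫ a'') := by
      rw [Category.assoc, hw, ← Category.assoc, hz, Category.assoc, ← h2, ← Category.assoc,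
        ← Category.assoc, hpbw]
    obtain ⟨g', ⟨hg'1, hg'2⟩, -⟩ :=
      existsUnique_lift_of_foThick (IsAlgSpace.yon_obj W') hjW hfe w1
    obtain ⟨g'', ⟨hg''1, hg''2⟩, -⟩ :=
      existsUnique_lift_of_foThick (IsAlgSpace.yon_obj W') hjW hfe w2
    have hb : (yon S).map jW ≫ ((yon S).map y' ≫ a' ≫ hY'.hom) = z ≫ e.hom ≫ hY.hom := by
      calc (yon S).map jW ≫ ((yon S).map y' ≫ a' ≫ hY'.hom)
          = ((yon S).map jW ≫ ((yon S).map y' ≫ a')) ≫ hY'.hom := by simp only [Category.assoc]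
        _ = ((z ≫ iZ.hom) ≫ f'.hom) ≫ hY'.hom := by rw [w1]
        _ = z ≫ iZ.hom ≫ f'.hom ≫ hY'.hom := by simp only [Category.assoc]
        _ = z ≫ e.hom ≫ hY.hom := by rw [hwZ]
    obtain ⟨g₀, -, hg₀⟩ := hunivZ (IsAlgSpace.yon_obj W) (IsAlgSpace.yon_obj W')
      ((yon S).map jW) z ((yon S).map y' ≫ a' ≫ hY'.hom) hjW hb
    have e1 := hg₀ g' ⟨hg'1, by
      show g' ≫ f'.hom ≫ hY'.hom = _
      rw [← Category.assoc, hg'2, Category.assoc]⟩
    have e2 := hg₀ g'' ⟨hg''1, by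
      show g'' ≫ f'.hom ≫ hY'.hom = _
      rw [← Category.assoc, hg''2, Category.assoc, h3]⟩
    have e3 : (yon S).map y' ≫ a' = (yon S).map y' ≫ a'' := by
      rw [← hg'2, ← hg''2, e1, e2]
    haveI := isLocallySurjective_yon_map y' hy'e hy's
    exact (cancel_epi ((yon S).map y')).1 e3
  refine (Groth.Agent.S10630.result hY iY hY' hiY w').2 ?_
  intro T T' j hT' hj a b hab
  obtain ⟨W, W', y, y', jW, z, hye, hys, hy'e, hy's, pb, hz, hjW⟩ := hcons T T' j hj a
  have hpbw : (yon S).map jW ≫ (yon S).map y' = (yon S).map y ≫ (yon S).map j := by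
    rw [← Functor.map_comp, ← Functor.map_comp, pb.w]
  have hb : (yon S).map jW ≫ ((yon S).map y' ≫ b) = z ≫ e.hom ≫ hY.hom := by
    rw [← Category.assoc, hpbw, Category.assoc, hab, ← Category.assoc, ← hz, Category.assoc]
  obtain ⟨g, ⟨hg1, hg2⟩, -⟩ := hunivZ (IsAlgSpace.yon_obj W) (IsAlgSpace.yon_obj W')
    ((yon S).map jW) z ((yon S).map y' ≫ b) hjW hb
  change g ≫ f'.hom ≫ hY'.hom = (yon S).map y' ≫ b at hg2
  haveI := isLocallySurjective_yon_map y' hy'e hy's
  haveI := isLocallySurjective_yon_map y hye hys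
  obtain ⟨a', ha'⟩ := exists_desc_of_isLocallySurjective ((yon S).map y') (g ≫ f'.hom) (by
    intro R s s' hss
    obtain ⟨σ, rfl⟩ := (yon S).map_surjective s
    obtain ⟨σ', rfl⟩ := (yon S).map_surjective s'
    have hσ : σ ≫ y' = σ' ≫ y' := (yon S).map_injective (by
      rw [Functor.map_comp, Functor.map_comp, hss])
    -- the thickening of `R`
    have sqR : IsPullback (pullback.fst (σ ≫ y') j) (pullback.snd (σ ≫ y') j) (σ ≫ y') j :=
      IsPullback.of_hasPullback _ _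
    set R₀ := pullback (σ ≫ y') j with hR₀
    set jR := pullback.fst (σ ≫ y') j with hjR
    set rT := pullback.snd (σ ≫ y') j with hrT
    have hjRFO : IsFOThickMor ((yon S).map jR) :=
      Groth.Agent.Helper15.Thick.isFOThickMor_of_isPullback (IsAlgSpace.yon_obj T')
        (sqR.map (yon S)).flip hj
    -- both restrict into `W`
    have hρw : (jR ≫ σ) ≫ y' = rT ≫ j := by rw [Category.assoc]; exact sqR.w
    have hρw' : (jR ≫ σ') ≫ y' = rT ≫ j := by rw [Category.assoc, ← hσ]; exact sqR.w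
    have hρ1 : pb.lift (jR ≫ σ) rT hρw ≫ jW = jR ≫ σ := pb.lift_fst _ _ _
    have hρ2 : pb.lift (jR ≫ σ) rT hρw ≫ y = rT := pb.lift_snd _ _ _
    have hρ1' : pb.lift (jR ≫ σ') rT hρw' ≫ jW = jR ≫ σ' := pb.lift_fst _ _ _
    have hρ2' : pb.lift (jR ≫ σ') rT hρw' ≫ y = rT := pb.lift_snd _ _ _
    have key : ∀ (τ : R ⟶ W') (ρ : R₀ ⟶ W), ρ ≫ jW = jR ≫ τ → ρ ≫ y = rT →
        (yon S).map jR ≫ ((yon S).map τ ≫ g ≫ f'.hom) = ((yon S).map rT ≫ a) ≫ iY.hom := by
      intro τ ρ h1 h2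
      rw [← Category.assoc, ← Functor.map_comp, ← h1, Functor.map_comp, Category.assoc,
        ← Category.assoc _ g, hg1, Category.assoc, Category.assoc, hw, ← Category.assoc z, hz,
        ← h2, Functor.map_comp]
      simp only [Category.assoc]
    refine huniq R₀ R jR hjRFO ((yon S).map rT ≫ a) _ _ (key σ _ hρ1 hρ2) (key σ' _ hρ1' hρ2') ?_
    rw [Category.assoc, Category.assoc, Category.assoc, Category.assoc, hg2,
      ← Category.assoc, ← Category.assoc, hss])
  refine ⟨a', ⟨?_, ?_⟩, ?_⟩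
  · rw [← cancel_epi ((yon S).map y), ← Category.assoc, ← hpbw, Category.assoc, ha',
      ← Category.assoc, hg1, Category.assoc, hw, ← Category.assoc, hz, Category.assoc]
  · rw [← cancel_epi ((yon S).map y'), ← Category.assoc, ha', Category.assoc, hg2]
  · intro a'' ⟨h1, h2⟩
    refine huniq T T' j hj a a'' a' h1 ?_ ?_
    · rw [← cancel_epi ((yon S).map y), ← Category.assoc, ← hpbw, Category.assoc, ha',
        ← Category.assoc, hg1, Category.assoc, hw, ← Category.assoc, hz, Category.assoc]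
    · rw [h2, ← cancel_epi ((yon S).map y'), ← Category.assoc, ha', Category.assoc, hg2]

end Groth.Agent.S10633
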