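import Groth.Statements.S10298
import Groth.Agent.Lib.Helper15.NormExist3

set_option autoImplicit false
universe u
open CategoryTheory CategoryTheory.Limits AlgebraicGeometry
open AlgSp

namespace Groth.Agent.S10298

/-- For a quasi-compact quasi-separated morphism of schemes, the relative normalization of schemes is
the normalization in the sense of algebraic spaces. -/
theorem result {S : Scheme.{u}} {V U N : Over S} (g : V ⟶ U)
    [QuasiCompact g.left] [QuasiSeparated g.left] (f' : V ⟶ N) (ν : N ⟶ U)
    (e : N.left ≅ g.left.normalization) (he1 : f'.left ≫ e.hom = g.left.toNormalization)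
    (he2 : e.hom ≫ g.left.fromNormalization = ν.left) :
    AlgSp.IsRelNormalization ((AlgSp.yon S).map g) ((AlgSp.yon S).map ν) ((AlgSp.yon S).map f') := by
  have hfacL : f'.left ≫ ν.left = g.left := by
    rw [← he2, ← Category.assoc, he1, Scheme.Hom.toNormalization_fromNormalization]
  have hfac : f' ≫ ν = g := Over.OverMorphism.ext hfacL
  have hνint : IsIntegralHom ν.left := by rw [← he2]; infer_instance
  refine ⟨by rw [← Functor.map_comp, hfac], ?_, ?_⟩
  · rw [Groth.Agent.Helper15.isIntegralMor_iff_affRep]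
    apply Groth.Agent.Helper15.affRep_of_repWith
    rw [repWith_yon_map_iff]
    exact hνint
  · intro Z hZ π g' hπ hg'
    rw [Groth.Agent.Helper15.isIntegralMor_iff_affRep] at hπ
    have hrw : RepWith @IsIntegralHom π := Groth.Agent.Helper15.repWith_of_affRep _ hπ
    have hrep := hrw.rep
    have sq := hrep.isPullback (𝟙 ((yon S).obj U))
    haveI : IsIso (hrep.fst (𝟙 ((yon S).obj U))) := sq.isIso_fst_of_isIso
    obtain ⟨Z₀, π₀, fst, hfst, hπ₀, hfπ⟩ : ∃ (Z₀ : Over S) (π₀ : Z₀ ⟶ U)
        (fst : (yon S).obj Z₀ ⟶ Z), IsIso fst ∧ IsIntegralHom π₀.left ∧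
          fst ≫ π = (yon S).map π₀ :=
      ⟨_, hrep.snd (𝟙 _), hrep.fst (𝟙 _), inferInstance, hrw.property_snd _, by
        rw [sq.w, Category.comp_id]⟩
    haveI := hfst
    haveI := hπ₀
    obtain ⟨γ, hγ⟩ := (yon S).map_surjective (g' ≫ inv fst)
    have hγπ : γ ≫ π₀ = g := by
      apply (yon S).map_injective
      rw [Functor.map_comp, hγ, Category.assoc, ← hfπ, IsIso.inv_hom_id_assoc, hg']
    have hγπL : g.left = γ.left ≫ π₀.left := by rw [← Over.comp_left, hγπ]
    obtain ⟨d, hd1, hd2⟩ : ∃ d : g.left.normalization ⟶ Z₀.left,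
        g.left.toNormalization ≫ d = γ.left ∧ d ≫ π₀.left = g.left.fromNormalization :=
      ⟨g.left.normalizationDesc γ.left π₀.left hγπL,
        g.left.toNormalization_normalizationDesc _ _ _, g.left.normalizationDesc_comp _ _ _⟩
    let h₀ : N ⟶ Z₀ := Over.homMk (e.hom ≫ d) (by
      rw [← Over.w π₀, Category.assoc, ← Category.assoc d, hd2, ← Category.assoc, he2, Over.w ν])
    have hh₀1 : f' ≫ h₀ = γ := by
      apply Over.OverMorphism.ext
      change f'.left ≫ e.hom ≫ d = γ.left
      rw [← Category.assoc, he1, hd1]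
    have hh₀2 : h₀ ≫ π₀ = ν := by
      apply Over.OverMorphism.ext
      change (e.hom ≫ d) ≫ π₀.left = ν.left
      rw [Category.assoc, hd2, he2]
    refine ⟨(yon S).map h₀ ≫ fst, ⟨?_, ?_⟩, ?_⟩
    · rw [← Category.assoc, ← Functor.map_comp, hh₀1, hγ, Category.assoc, IsIso.inv_hom_id,
        Category.comp_id]
    · rw [Category.assoc, hfπ, ← Functor.map_comp, hh₀2]
    · rintro h' ⟨a1, a2⟩
      obtain ⟨h'₀, hh'₀⟩ := (yon S).map_surjective (h' ≫ inv fst)
      have b1 : f' ≫ h'₀ = γ := by
        apply (yon S).map_injective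
        rw [Functor.map_comp, hh'₀, ← Category.assoc, a1, hγ]
      have b2 : h'₀ ≫ π₀ = ν := by
        apply (yon S).map_injective
        rw [Functor.map_comp, hh'₀, Category.assoc, ← hfπ, IsIso.inv_hom_id_assoc, a2]
      have key : e.inv ≫ h'₀.left = d := by
        haveI : IsAffineHom π₀.left := inferInstance
        refine Scheme.Hom.normalization.hom_ext g.left _ _ π₀.left ?_ ?_ hd2
        · rw [hd1, ← he1, Category.assoc, Iso.hom_inv_id_assoc, ← Over.comp_left, b1]
        · rw [Category.assoc, ← Over.comp_left, b2, ← he2, Iso.inv_hom_id_assoc]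
      have : h'₀ = h₀ := by
        apply Over.OverMorphism.ext
        change h'₀.left = e.hom ≫ d
        rw [← key, Iso.hom_inv_id_assoc]
      rw [← this, hh'₀, Category.assoc, IsIso.inv_hom_id, Category.comp_id]

end Groth.Agent.S10298
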