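import Groth.Statements.S12711
import Groth.Agent.Lib.Helper18.ArtFunFibre

set_option autoImplicit false
universe u v
open CategoryTheory
open ArtFun ArtFun.Art

namespace Groth.Agent.S12711

/-- If B together with p₁ : B → A₁ and p₂ : B → A₂ is the fibre product A₁ ×_A A₂ in the category of
Artinian local Λ-algebras with residue field k, and f₂ : A₂ → A is a small extension, then the
projection p₁ : B → A₁ is a small extension. -/
theorem result {Λ : Type u} {k : Type u} [CommRing Λ] [Field k] [Algebra Λ k]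
    [IsNoetherianRing Λ] [Module.Finite Λ k]
    {B A A₁ A₂ : ArtFun.Art Λ k} {p₁ : B ⟶ A₁} {p₂ : B ⟶ A₂} {f₁ : A₁ ⟶ A} {f₂ : A₂ ⟶ A}
    (h : ArtFun.Art.IsFibreProd p₁ p₂ f₁ f₂) (hf₂ : ArtFun.Art.IsSmallExt f₂) :
    ArtFun.Art.IsSmallExt p₁ := by
  obtain ⟨hsurj, hne, hprin, hm⟩ := hf₂
  obtain ⟨⟨t, ht⟩⟩ := hprin
  have ht' : RingHom.ker f₂.toAlgHom = Ideal.span {t} := ht
  have htker : f₂ t = 0 := by
    have : t ∈ RingHom.ker f₂.toAlgHom := by rw [ht']; exact Ideal.subset_span rfl
    exact this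
  have ht0 : t ≠ 0 := by
    intro h0
    apply hne
    rw [ht', h0, Ideal.span_singleton_eq_bot]
  have hmt : ∀ x ∈ IsLocalRing.maximalIdeal (A₂ : Type u), x * t = 0 := by
    intro x hx
    have : x * t ∈ IsLocalRing.maximalIdeal (A₂ : Type u) * RingHom.ker f₂.toAlgHom :=
      Ideal.mul_mem_mul hx (by rw [ht']; exact Ideal.subset_span rfl)
    rw [hm] at this
    exact this
  obtain ⟨b₀, hb₀1, hb₀2⟩ := h.surj 0 t (by rw [map_zero]; exact htker.symm)
  have hker : RingHom.ker p₁.toAlgHom = Ideal.span {b₀} := by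
    apply le_antisymm
    · intro b hb
      rw [RingHom.mem_ker] at hb
      have hb' : p₁ b = 0 := hb
      have h2 : p₂ b ∈ RingHom.ker f₂.toAlgHom := by
        rw [RingHom.mem_ker]
        change f₂ (p₂ b) = 0
        rw [← h.w_apply, hb', map_zero]
      rw [ht'] at h2
      obtain ⟨c, hc⟩ := Ideal.mem_span_singleton'.1 h2
      obtain ⟨c', hc'⟩ := B.res_surjective (A₂.res c)
      have h3 : p₂ c' - c ∈ IsLocalRing.maximalIdeal (A₂ : Type u) := by
        rw [ArtFun.Art.mem_maximalIdeal_iff, map_sub, ArtFun.Art.res_app, hc', sub_self]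
      have h4 : p₂ c' * t = c * t := by
        have := hmt _ h3
        rw [sub_mul, sub_eq_zero] at this
        exact this
      have h5 : b = c' * b₀ := by
        apply h.inj
        · rw [map_mul, hb₀1, mul_zero, hb']
        · rw [map_mul, hb₀2, h4, hc]
      rw [h5]
      exact Ideal.mul_mem_left _ _ (Ideal.subset_span rfl)
    · rw [Ideal.span_singleton_le_iff_mem, RingHom.mem_ker]
      exact hb₀1
  refine ⟨Groth.Agent.Helper18.surjective_fst_of_isFibreProd h hsurj, ?_, ?_, ?_⟩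
  · rw [hker]
    intro h0
    rw [Ideal.span_singleton_eq_bot] at h0
    apply ht0
    rw [← hb₀2, h0, map_zero]
  · rw [hker]
    exact ⟨⟨_, rfl⟩⟩
  · rw [hker, eq_bot_iff, Ideal.mul_le]
    intro x hx y hy
    obtain ⟨c, rfl⟩ := Ideal.mem_span_singleton'.1 hy
    rw [Ideal.mem_bot]
    have hx2 : p₂ x ∈ IsLocalRing.maximalIdeal (A₂ : Type u) := by
      rw [ArtFun.Art.mem_maximalIdeal_iff] at hx ⊢
      rw [ArtFun.Art.res_app]
      exact hx
    apply h.inj
    · rw [map_mul, map_mul, hb₀1, mul_zero, mul_zero, map_zero]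
    · rw [map_mul, map_mul, hb₀2, map_zero, mul_left_comm, hmt _ hx2, mul_zero]

end Groth.Agent.S12711
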