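import Groth.Statements.S6393
import Mathlib

set_option autoImplicit false
open CategoryTheory
universe v₂ u₂ v u
open FibCat

namespace Groth.Agent.S6393

theorem sc_of_lift {C : Type u} [Category.{v} C] {S : Type u₂} [Category.{v₂} S] (p : S ⥤ C)
    {a b : S} {R T : C} (f : R ⟶ T) (φ : a ⟶ b) (h : p.IsHomLift f φ)
    (hs : p.IsStronglyCartesian (p.map φ) φ) : p.IsStronglyCartesian f φ := by
  obtain ⟨⟩ := h
  exact hs

/-- Given `p : S ⥤ C`, saying that p is fibred in groupoids is equivalent to saying that p is a fibred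
functor whose fibre category over every object of C is a groupoid. -/
theorem result {C : Type u} [Category.{v} C] {S : Type u₂} [Category.{v₂} S] (p : S ⥤ C) :
    FibCat.IsFibGrpd p ↔ (p.IsFibered ∧ ∀ U : C, IsGroupoid (p.Fiber U)) := by
  constructor
  · intro h
    refine ⟨?_, ?_⟩
    · apply Functor.IsFibered.of_exists_isStronglyCartesian
      intro a R f
      obtain ⟨b, φ, hφ⟩ := h.exists_lift f
      exact ⟨b, φ, sc_of_lift p f φ hφ (h.isStronglyCartesian φ)⟩
    · intro U
      refine ⟨fun {a b} φ => ?_⟩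
      have h1 : p.IsStronglyCartesian (𝟙 U) φ.1 :=
        sc_of_lift p (𝟙 U) φ.1 φ.2 (h.isStronglyCartesian φ.1)
      have h2 : IsIso φ.1 := Functor.IsStronglyCartesian.isIso_of_base_isIso p (𝟙 U) φ.1
      have h3 : p.IsHomLift (𝟙 U) (inv φ.1) := by
        haveI := φ.2
        exact inferInstance
      refine ⟨⟨⟨inv φ.1, h3⟩, ?_, ?_⟩⟩
      · apply Functor.Fiber.hom_ext
        exact IsIso.hom_inv_id φ.1
      · apply Functor.Fiber.hom_ext
        exact IsIso.inv_hom_id φ.1
  · rintro ⟨hfib, hgrp⟩
    refine { exists_lift := ?_, isStronglyCartesian := ?_ }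
    · intro x V f
      obtain ⟨y, φ, hφ⟩ := IsPreFibered.exists_isCartesian p rfl f
      exact ⟨y, φ, inferInstance⟩
    · intro y x φ
      obtain ⟨y', ψ, hψ⟩ := IsPreFibered.exists_isCartesian p rfl (p.map φ)
      have hsc : p.IsStronglyCartesian (p.map φ) ψ := inferInstance
      let χ := Functor.IsStronglyCartesian.map p (p.map φ) ψ (g := 𝟙 (p.obj y))
        (Category.id_comp _).symm φ
      have hχ : χ ≫ ψ = φ := Functor.IsStronglyCartesian.fac _ _ _ _ _
      have hχl : p.IsHomLift (𝟙 (p.obj y)) χ := inferInstance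
      have hiso : IsIso χ := by
        have := (hgrp (p.obj y)).all_isIso (Functor.Fiber.homMk p (p.obj y) χ)
        have h3 := Functor.map_isIso (Functor.Fiber.fiberInclusion)
          (Functor.Fiber.homMk p (p.obj y) χ)
        simpa using h3
      have h4 : p.IsStronglyCartesian (𝟙 (p.obj y)) χ := inferInstance
      have h5 : p.IsStronglyCartesian (𝟙 (p.obj y) ≫ p.map φ) (χ ≫ ψ) := inferInstance
      rw [Category.id_comp, hχ] at h5
      exact h5

end Groth.Agent.S6393
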