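import Groth.Statements.S6407
import Groth.Agent.S6393

set_option autoImplicit false
open CategoryTheory
universe v u
open FibCat

namespace Groth.Agent.S6407

open Functor

/-- In a category fibred in setoids, two morphisms with the same source and target lying over the
same morphism of the base are equal. -/
theorem uniq_lift {C : Type u} [Category.{v} C] {𝒴 : BasedCategory.{v, max u v} C}
    (h𝒴 : FibCat.IsFibSetoid 𝒴.p) {a b : 𝒴.obj} {R S : C} (u : R ⟶ S) (m m' : a ⟶ b)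
    (hm : 𝒴.p.IsHomLift u m) (hm' : 𝒴.p.IsHomLift u m') : m = m' := by
  haveI : 𝒴.p.IsStronglyCartesian u m' :=
    Groth.Agent.S6393.sc_of_lift 𝒴.p u m' hm' (h𝒴.1.isStronglyCartesian m')
  have hu : u = 𝟙 R ≫ u := (Category.id_comp u).symm
  let χ := IsStronglyCartesian.map 𝒴.p u m' hu m
  have hχ : 𝒴.p.IsHomLift (𝟙 R) χ := IsStronglyCartesian.map_isHomLift 𝒴.p u m' hu m
  have hfac : χ ≫ m' = m := IsStronglyCartesian.fac 𝒴.p u m' hu m
  have ha : 𝒴.p.obj a = R := IsHomLift.domain_eq 𝒴.p u m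
  let A : 𝒴.p.Fiber R := ⟨a, ha⟩
  let χ' : A ⟶ A := ⟨χ, hχ⟩
  haveI := h𝒴.2 R
  have : χ' = 𝟙 A := Subsingleton.elim _ _
  have hχ1 : χ = 𝟙 a := congrArg Subtype.val this
  rw [← hfac, hχ1, Category.id_comp]


/-- For categories `𝒳, 𝒴` fibred in setoids over `C` and functors `f, g : 𝒳 ⟶ 𝒴` over `C` that agree on
isomorphism classes of objects of each fibre category, there is a unique 2-isomorphism `f ≅ g` over
`C`. -/
theorem result {C : Type u} [Category.{v} C] {𝒳 𝒴 : BasedCategory.{v, max u v} C} (h𝒳 : FibCat.IsFibSetoid 𝒳.p) (h𝒴 : FibCat.IsFibSetoid 𝒴.p) (f g : 𝒳 ⥤ᵇ 𝒴)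
    (hfg : ∀ (U : C) (x : 𝒳.p.Fiber U), Nonempty ((FibCat.fiberFunctor f U).obj x ≅ (FibCat.fiberFunctor g U).obj x)) :
    Nonempty (Unique (f ≅ g)) := by
  classical
  let e : ∀ x : 𝒳.obj, (FibCat.fiberFunctor f (𝒳.p.obj x)).obj ⟨x, rfl⟩ ≅
      (FibCat.fiberFunctor g (𝒳.p.obj x)).obj ⟨x, rfl⟩ :=
    fun x => (hfg (𝒳.p.obj x) ⟨x, rfl⟩).some
  let ι : ∀ x : 𝒳.obj, f.obj x ≅ g.obj x := fun x => Functor.Fiber.fiberInclusion.mapIso (e x)
  have hι : ∀ x : 𝒳.obj, 𝒴.p.IsHomLift (𝟙 (𝒳.p.obj x)) (ι x).hom := by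
    intro x
    show 𝒴.p.IsHomLift (𝟙 (𝒳.p.obj x)) (Functor.Fiber.fiberInclusion.map (e x).hom)
    infer_instance
  let natIso : f.toFunctor ≅ g.toFunctor := NatIso.ofComponents ι (by
    intro x y φ
    have h1 := hι y
    have h2 := hι x
    have hl : 𝒴.p.IsHomLift (𝒳.p.map φ) (f.toFunctor.map φ ≫ (ι y).hom) := inferInstance
    have hr : 𝒴.p.IsHomLift (𝒳.p.map φ) ((ι x).hom ≫ g.toFunctor.map φ) := inferInstance
    exact uniq_lift h𝒴 (𝒳.p.map φ) _ _ hl hr)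
  let β₀ : f ≅ g := BasedNatIso.mkNatIso natIso (fun x => hι x)
  refine ⟨{ default := β₀, uniq := fun β => ?_ }⟩
  apply Iso.ext
  apply BasedNatTrans.ext
  ext x
  exact uniq_lift h𝒴 (𝟙 (𝒳.p.obj x)) _ _ (β.hom.isHomLift' x) (β₀.hom.isHomLift' x)

end Groth.Agent.S6407
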