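import Groth.Statements.S6406
import Groth.Agent.S6407
import Groth.Agent.S6393
import Groth.Agent.Lib.Helper10.EquivOver

set_option autoImplicit false
open CategoryTheory
universe v u
open FibCat

namespace Groth.Agent.S6406

open Functor

section
variable {C : Type u} [Category.{v} C] (𝒳 : BasedCategory.{v, max u v} C)

/-- Two objects are related when they are isomorphic over an identity. -/
def Rel (x y : 𝒳.obj) : Prop := ∃ e : x ≅ y, 𝒳.p.IsHomLift (𝟙 (𝒳.p.obj x)) e.hom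

variable {𝒳}

lemma Rel.base_eq {x y : 𝒳.obj} (h : Rel 𝒳 x y) : 𝒳.p.obj x = 𝒳.p.obj y := by
  obtain ⟨e, he⟩ := h
  exact (IsHomLift.codomain_eq 𝒳.p (𝟙 (𝒳.p.obj x)) e.hom).symm

lemma Rel.refl (x : 𝒳.obj) : Rel 𝒳 x x := ⟨Iso.refl x, IsHomLift.id rfl⟩

lemma Rel.symm {x y : 𝒳.obj} (h : Rel 𝒳 x y) : Rel 𝒳 y x := by
  have hb := h.base_eq
  obtain ⟨e, he⟩ := h
  refine ⟨e.symm, ?_⟩
  rw [← hb]
  show 𝒳.p.IsHomLift (𝟙 (𝒳.p.obj x)) e.inv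
  infer_instance

lemma Rel.trans {x y z : 𝒳.obj} (h : Rel 𝒳 x y) (h' : Rel 𝒳 y z) : Rel 𝒳 x z := by
  have hb := h.base_eq
  obtain ⟨e, he⟩ := h
  obtain ⟨e', he'⟩ := h'
  rw [← hb] at he'
  refine ⟨e ≪≫ e', ?_⟩
  show 𝒳.p.IsHomLift (𝟙 (𝒳.p.obj x)) (e.hom ≫ e'.hom)
  have : 𝒳.p.IsHomLift (𝟙 (𝒳.p.obj x) ≫ 𝟙 (𝒳.p.obj x)) (e.hom ≫ e'.hom) := inferInstance
  rwa [Category.comp_id] at this

variable (𝒳) in
/-- The setoid of objects up to isomorphism over identities. -/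
def setoid : Setoid 𝒳.obj := ⟨Rel 𝒳, ⟨Rel.refl, Rel.symm, Rel.trans⟩⟩

variable (𝒳) in
/-- The objects of the quotient category. -/
def Q : Type (max u v) := Quotient (setoid 𝒳)

/-- The class of an object. -/
def cls (x : 𝒳.obj) : Q 𝒳 := Quotient.mk (setoid 𝒳) x

lemma cls_eq_iff {x y : 𝒳.obj} : cls x = cls y ↔ Rel 𝒳 x y :=
  ⟨fun h => Quotient.exact h, fun h => Quotient.sound h⟩

lemma exists_cls (a : Q 𝒳) : ∃ x : 𝒳.obj, cls x = a := Quotient.exists_rep a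

/-- The base object of a class. -/
def Q.base (a : Q 𝒳) : C :=
  Quotient.lift (s := setoid 𝒳) (fun x => 𝒳.p.obj x) (fun _ _ h => Rel.base_eq h) a

@[simp] lemma Q.base_cls (x : 𝒳.obj) : Q.base (cls x) = 𝒳.p.obj x := rfl

/-- Adjusting the source and target of a lift by isomorphisms over identities. -/
lemma lift_adjust {y y' x' x : 𝒳.obj} {R S : C} (f : R ⟶ S) (φ' : y' ⟶ x')
    (hφ' : 𝒳.p.IsHomLift f φ') (h1 : Rel 𝒳 y y') (h2 : Rel 𝒳 x' x) :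
    ∃ φ : y ⟶ x, 𝒳.p.IsHomLift f φ := by
  have hb1 := h1.base_eq
  obtain ⟨e₁, he₁⟩ := h1
  obtain ⟨e₂, he₂⟩ := h2
  have hR : 𝒳.p.obj y' = R := IsHomLift.domain_eq 𝒳.p f φ'
  have hS : 𝒳.p.obj x' = S := IsHomLift.codomain_eq 𝒳.p f φ'
  subst hR hS
  rw [hb1] at he₁
  refine ⟨e₁.hom ≫ φ' ≫ e₂.hom, ?_⟩
  infer_instance

/-- Morphisms of the quotient category. -/
@[ext]
structure QHom (a b : Q 𝒳) where
  /-- the underlying morphism of the base -/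
  base : Q.base a ⟶ Q.base b
  real : ∃ (x y : 𝒳.obj) (φ : x ⟶ y), cls x = a ∧ cls y = b ∧ 𝒳.p.IsHomLift base φ

/-- A morphism between classes of given objects is realised by a morphism of these objects. -/
lemma QHom.exists_real {y x : 𝒳.obj} (g : QHom (cls y) (cls x)) :
    ∃ φ : y ⟶ x, 𝒳.p.IsHomLift g.base φ := by
  obtain ⟨y', x', φ', hy, hx, hφ'⟩ := g.real
  exact lift_adjust g.base φ' hφ' (cls_eq_iff.mp hy.symm) (cls_eq_iff.mp hx)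

lemma real_comp {x y y' z : 𝒳.obj} {R S T : C} (f : R ⟶ S) (g : S ⟶ T) (φ : x ⟶ y)
    (ψ : y' ⟶ z) (hφ : 𝒳.p.IsHomLift f φ) (hψ : 𝒳.p.IsHomLift g ψ) (h : Rel 𝒳 y y') :
    ∃ χ : x ⟶ z, 𝒳.p.IsHomLift (f ≫ g) χ := by
  obtain ⟨ψ', hψ'⟩ := lift_adjust g ψ hψ h (Rel.refl z)
  exact ⟨φ ≫ ψ', inferInstance⟩

instance : Category (Q 𝒳) where
  Hom := QHom
  id a := ⟨𝟙 _, by
    obtain ⟨x, rfl⟩ := exists_cls a
    exact ⟨x, x, 𝟙 x, rfl, rfl, IsHomLift.id rfl⟩⟩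
  comp {a b c} f g := ⟨f.base ≫ g.base, by
    obtain ⟨x, y, φ, hx, hy, hφ⟩ := f.real
    obtain ⟨y', z, ψ, hy', hz, hψ⟩ := g.real
    obtain ⟨χ, hχ⟩ := real_comp f.base g.base φ ψ hφ hψ (cls_eq_iff.mp (hy.trans hy'.symm))
    exact ⟨x, z, χ, hx, hz, hχ⟩⟩
  id_comp f := QHom.ext (Category.id_comp _)
  comp_id f := QHom.ext (Category.comp_id _)
  assoc f g h := QHom.ext (Category.assoc _ _ _)

@[simp] lemma comp_base {a b c : Q 𝒳} (f : a ⟶ b) (g : b ⟶ c) : (f ≫ g).base = f.base ≫ g.base :=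
  rfl

@[simp] lemma id_base (a : Q 𝒳) : (𝟙 a : a ⟶ a).base = 𝟙 _ := rfl

lemma hom_ext' {a b : Q 𝒳} {f g : a ⟶ b} (h : f.base = g.base) : f = g := QHom.ext h

variable (𝒳) in
/-- The structure functor of the quotient. -/
abbrev P : Q 𝒳 ⥤ C where
  obj := Q.base
  map f := f.base

variable (𝒳) in
/-- The quotient category as a category over `C`. -/
abbrev 𝒴 : BasedCategory.{v, max u v} C := .ofFunctor (P 𝒳)

variable (𝒳) in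
/-- The quotient functor. -/
def F : 𝒳 ⥤ᵇ 𝒴 𝒳 where
  toFunctor :=
    { obj := fun x => cls x
      map := fun {x y} φ => ⟨𝒳.p.map φ, x, y, φ, rfl, rfl,
        (inferInstance : 𝒳.p.IsHomLift (𝒳.p.map φ) φ)⟩
      map_id := fun x => hom_ext' (𝒳.p.map_id x)
      map_comp := fun φ ψ => hom_ext' (𝒳.p.map_comp φ ψ) }
  w := rfl

end


section
variable {C : Type u} [Category.{v} C] {𝒳 : BasedCategory.{v, max u v} C}

lemma base_eq_of_isHomLift {a b : Q 𝒳} (f : Q.base a ⟶ Q.base b) (ψ : a ⟶ b)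
    (h : (P 𝒳).IsHomLift f ψ) : ψ.base = f :=
  (IsHomLift.eq_of_isHomLift (P 𝒳) f ψ).symm

/-- The base of a morphism between classes, with a clean type. -/
def QHom.base' {y x : 𝒳.obj} (g : QHom (cls y) (cls x)) : 𝒳.p.obj y ⟶ 𝒳.p.obj x := g.base

lemma QHom.exists_real' {y x : 𝒳.obj} (g : QHom (cls y) (cls x)) :
    ∃ φ : y ⟶ x, 𝒳.p.IsHomLift g.base' φ :=
  QHom.exists_real g

/-- Constructor with clean types. -/
def QHom.mk' {y x : 𝒳.obj} (f : 𝒳.p.obj y ⟶ 𝒳.p.obj x) (φ : y ⟶ x) (h : 𝒳.p.IsHomLift f φ) :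
    QHom (cls y) (cls x) := ⟨f, y, x, φ, rfl, rfl, h⟩

lemma QHom.ext' {y x : 𝒳.obj} {g g' : QHom (cls y) (cls x)} (h : g.base' = g'.base') : g = g' :=
  QHom.ext h

lemma F_full_faithful (h𝒳 : IsFibSetoid 𝒳.p) :
    (F 𝒳).toFunctor.Full ∧ (F 𝒳).toFunctor.Faithful := by
  refine ⟨⟨fun {x y} g => ?_⟩, ⟨fun {x y} φ ψ h => ?_⟩⟩
  · obtain ⟨g', hg'⟩ : ∃ g' : QHom (cls x) (cls y), g' = g := ⟨g, rfl⟩
    obtain ⟨φ, hφ⟩ := QHom.exists_real' g'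
    refine ⟨φ, ?_⟩
    rw [← hg']
    apply QHom.ext'
    exact (IsHomLift.eq_of_isHomLift 𝒳.p g'.base' φ).symm
  · have h1 : 𝒳.p.map φ = 𝒳.p.map ψ := congrArg QHom.base h
    have h2 : 𝒳.p.IsHomLift (𝒳.p.map φ) ψ := by rw [h1]; infer_instance
    exact Groth.Agent.S6407.uniq_lift h𝒳 (𝒳.p.map φ) φ ψ inferInstance h2

lemma F_ess (a : (𝒴 𝒳).obj) : ∃ (x : 𝒳.obj) (e : (F 𝒳).obj x ≅ a),
    (𝒴 𝒳).p.IsHomLift (𝟙 ((𝒴 𝒳).p.obj a)) e.hom := by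
  obtain ⟨x, rfl⟩ := exists_cls a
  exact ⟨x, Iso.refl _, IsHomLift.id rfl⟩

lemma sc_cls (h𝒳 : IsFibSetoid 𝒳.p) {y x : 𝒳.obj} (g : QHom (cls y) (cls x)) :
    (P 𝒳).IsStronglyCartesian ((P 𝒳).map g) g := by
  obtain ⟨φ, hφ⟩ := QHom.exists_real' g
  have hsc : 𝒳.p.IsStronglyCartesian g.base' φ :=
    Groth.Agent.S6393.sc_of_lift 𝒳.p g.base' φ hφ (h𝒳.1.isStronglyCartesian φ)
  refine { toIsHomLift := IsHomLift.map (P 𝒳) g, universal_property' := ?_ }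
  intro c h ψ hψ
  obtain ⟨z, rfl⟩ := exists_cls c
  obtain ⟨h', hh'⟩ : ∃ h' : 𝒳.p.obj z ⟶ 𝒳.p.obj y, h' = h := ⟨h, rfl⟩
  obtain ⟨ψ', hψ'⟩ : ∃ ψ' : QHom (cls z) (cls x), ψ' = ψ := ⟨ψ, rfl⟩
  have hψb : ψ'.base' = h' ≫ g.base' := by
    rw [hψ', hh']
    exact base_eq_of_isHomLift _ ψ hψ
  obtain ⟨ψ₀, hψ₀⟩ := QHom.exists_real' ψ'
  rw [hψb] at hψ₀
  let χ₀ := IsStronglyCartesian.map 𝒳.p g.base' φ (rfl : h' ≫ g.base' = h' ≫ g.base') ψ₀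
  have hχ₀ : 𝒳.p.IsHomLift h' χ₀ := inferInstance
  let χ : QHom (cls z) (cls y) := QHom.mk' h' χ₀ hχ₀
  refine ⟨χ, ⟨?_, ?_⟩, ?_⟩
  · have : (P 𝒳).IsHomLift ((P 𝒳).map χ) χ := IsHomLift.map (P 𝒳) χ
    rw [← hh']
    exact this
  · rw [← hψ']
    apply QHom.ext'
    exact hψb.symm
  · rintro χ' ⟨h1, h2⟩
    apply QHom.ext'
    rw [← hh'] at h1
    exact base_eq_of_isHomLift h' χ' h1

lemma 𝒴_fibGrpd (h𝒳 : IsFibSetoid 𝒳.p) : IsFibGrpd (𝒴 𝒳).p := by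
  refine ⟨?_, ?_⟩
  · intro a V f
    obtain ⟨x, rfl⟩ := exists_cls a
    obtain ⟨f', hf'⟩ : ∃ f' : V ⟶ 𝒳.p.obj x, f' = f := ⟨f, rfl⟩
    obtain ⟨y, φ, hφ⟩ := h𝒳.1.exists_lift (x := x) f'
    refine ⟨cls y, (F 𝒳).map φ, ?_⟩
    rw [← hf']
    exact BasedFunctor.preserves_isHomLift (F 𝒳) f' φ
  · intro b a g
    obtain ⟨x, rfl⟩ := exists_cls a
    obtain ⟨y, rfl⟩ := exists_cls b
    exact sc_cls h𝒳 g

lemma 𝒴_discrete (h𝒳 : IsFibSetoid 𝒳.p) (U : C) : IsDiscrete ((𝒴 𝒳).p.Fiber U) := by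
  refine { subsingleton := ?_, eq_of_hom := ?_ }
  · intro A B
    refine ⟨fun g g' => ?_⟩
    apply Functor.Fiber.hom_ext
    apply hom_ext'
    have h1 : (P 𝒳).IsHomLift (𝟙 U) g.1 := g.2
    have h2 : (P 𝒳).IsHomLift (𝟙 U) g'.1 := g'.2
    exact (IsHomLift.fac' (P 𝒳) (𝟙 U) g.1).trans (IsHomLift.fac' (P 𝒳) (𝟙 U) g'.1).symm
  · intro A B g
    obtain ⟨a, ha⟩ := A
    obtain ⟨b, hb⟩ := B
    obtain ⟨x, rfl⟩ := exists_cls a
    obtain ⟨y, rfl⟩ := exists_cls b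
    obtain ⟨g', hg', hg'2⟩ : ∃ g' : QHom (cls x) (cls y), g' = g.1 ∧ (P 𝒳).IsHomLift (𝟙 U) g' :=
      ⟨g.1, rfl, g.2⟩
    obtain ⟨φ, hφ⟩ := QHom.exists_real' g'
    have hx : 𝒳.p.obj x = U := ha
    have hy : 𝒳.p.obj y = U := hb
    have hb' : g'.base' = eqToHom hx ≫ 𝟙 U ≫ eqToHom hy.symm :=
      IsHomLift.fac' (P 𝒳) (𝟙 U) g'
    have hφ1 : 𝒳.p.IsHomLift (𝟙 U) φ := by
      apply IsHomLift.of_fac' 𝒳.p (𝟙 U) φ hx hy
      rw [← hb']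
      exact (IsHomLift.eq_of_isHomLift 𝒳.p g'.base' φ).symm
    have hsc : 𝒳.p.IsStronglyCartesian (𝟙 U) φ :=
      Groth.Agent.S6393.sc_of_lift 𝒳.p (𝟙 U) φ hφ1 (h𝒳.1.isStronglyCartesian φ)
    have hiso : IsIso φ := IsStronglyCartesian.isIso_of_base_isIso 𝒳.p (𝟙 U) φ
    have hrel : Rel 𝒳 x y := by
      refine ⟨asIso φ, ?_⟩
      rw [hx]
      exact hφ1
    have hcls : cls x = cls y := cls_eq_iff.mpr hrel
    exact Subtype.ext hcls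

end

/-- A category fibred in setoids over `C` admits an equivalence over `C` to a category fibred in sets
over `C`. (The target is taken in the same universes as the slices `C/U`; its morphism sets are
essentially as small as those of `C`.) -/
theorem result {C : Type u} [Category.{v} C] {𝒳 : BasedCategory.{v, max u v} C} (h𝒳 : FibCat.IsFibSetoid 𝒳.p) :
    ∃ (𝒴 : BasedCategory.{v, max u v} C) (F : 𝒳 ⥤ᵇ 𝒴), FibCat.IsFibSet 𝒴.p ∧ FibCat.IsEquivOver F := by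
  obtain ⟨hfull, hfaith⟩ := F_full_faithful h𝒳
  exact ⟨𝒴 𝒳, F 𝒳, ⟨𝒴_fibGrpd h𝒳, 𝒴_discrete h𝒳⟩,
    Groth.Agent.Helper10.isEquivOver_of_ff_ess (F 𝒳) F_ess⟩

end Groth.Agent.S6406
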