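import Groth.Statements.S6410
import Mathlib

set_option autoImplicit false
open CategoryTheory
universe v u
open FibCat

namespace Groth.Agent.S6410

open Functor

section
variable {C : Type u} [Category.{v} C]

/-- Every morphism of a slice category is strongly cartesian for the forgetful functor. -/
theorem over_sc_aux {U : C} {A B : Over U} (g : A ⟶ B) :
    (Over.forget U).IsStronglyCartesian ((Over.forget U).map g) g := by
  refine { toIsHomLift := IsHomLift.map (Over.forget U) g, universal_property' := ?_ }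
  intro A' h ψ hψ
  have e := IsHomLift.eq_of_isHomLift (Over.forget U) (h ≫ (Over.forget U).map g) ψ
  obtain ⟨h', rfl⟩ : ∃ h' : A'.left ⟶ A.left, h' = h := ⟨h, rfl⟩
  have e' : h' ≫ g.left = ψ.left := e
  have hw : h' ≫ A.hom = A'.hom := by
    have h1 := Over.w g
    have h2 := Over.w ψ
    rw [← h1, ← Category.assoc, e', h2]
  refine ⟨Over.homMk h' hw, ⟨?_, ?_⟩, ?_⟩
  · exact IsHomLift.map (Over.forget U) (Over.homMk h' hw)
  · ext
    simpa using e'
  · rintro χ ⟨hχ1, hχ2⟩
    ext
    have := @IsHomLift.eq_of_isHomLift _ _ _ _ (Over.forget U) A' A h' χ hχ1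
    simpa using this.symm

theorem over_sc {U : C} {A B : (overCat U).obj} (g : A ⟶ B) :
    (overCat U).p.IsStronglyCartesian ((overCat U).p.map g) g :=
  over_sc_aux g

/-- The terminal object of `C/U`. -/
abbrev T (U : C) : (overCat U).obj := Over.mk (𝟙 U)

/-- The canonical morphism to the terminal object of `C/U`. -/
def toId {U : C} (A : (overCat U).obj) : A ⟶ T U :=
  (Over.homMk (U := (A : Over U)) (V := Over.mk (𝟙 U)) (A : Over U).hom (by simp) :
    (A : Over U) ⟶ Over.mk (𝟙 U))

lemma comp_toId {U : C} {A B : (overCat U).obj} (g : A ⟶ B) : g ≫ toId B = toId A := by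
  have : ∀ {A B : Over U} (g : A ⟶ B),
      g ≫ (Over.homMk B.hom (by simp) : B ⟶ Over.mk (𝟙 U)) =
        (Over.homMk A.hom (by simp) : A ⟶ Over.mk (𝟙 U)) := by
    intro A B g; ext; simp
  exact this g

lemma toId_id {U : C} : toId (T U) = 𝟙 (T U) := by
  have : (Over.homMk (Over.mk (𝟙 U)).hom (by simp) : Over.mk (𝟙 U) ⟶ Over.mk (𝟙 U)) = 𝟙 _ := by
    ext; simp
  exact this

variable {𝒳 : BasedCategory.{v, max u v} C}

theorem sc_map_toId {U : C} (H : overCat U ⥤ᵇ 𝒳) (hH : PreservesStronglyCartesian H)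
    (A : (overCat U).obj) :
    𝒳.p.IsStronglyCartesian ((overCat U).p.map (toId A)) (H.map (toId A)) :=
  hH ((overCat U).p.map (toId A)) (toId A) (over_sc (toId A))

theorem faithful (U : C) :
    ((ObjectProperty.ι (FibCat.PreservesStronglyCartesian (𝒳 := FibCat.overCat U) (𝒴 := 𝒳))) ⋙
      FibCat.evalAtId 𝒳 U).Faithful := by
  constructor
  intro H K α β hαβ
  have h1 : α.hom.toNatTrans.app (T U) = β.hom.toNatTrans.app (T U) :=
    congrArg Subtype.val hαβ
  apply ObjectProperty.hom_ext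
  apply BasedNatTrans.ext
  ext A
  haveI := sc_map_toId K.obj K.property A
  apply IsStronglyCartesian.ext 𝒳.p ((overCat U).p.map (toId A)) (K.obj.map (toId A))
    (𝟙 ((overCat U).p.obj A))
  have n1 := α.hom.toNatTrans.naturality (toId A)
  have n2 := β.hom.toNatTrans.naturality (toId A)
  rw [← n1, ← n2, h1]

theorem full (U : C) :
    ((ObjectProperty.ι (FibCat.PreservesStronglyCartesian (𝒳 := FibCat.overCat U) (𝒴 := 𝒳))) ⋙
      FibCat.evalAtId 𝒳 U).Full := by
  constructor
  intro H K θ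
  obtain ⟨θ', hθ, hθ'⟩ : ∃ θ' : H.obj.obj (T U) ⟶ K.obj.obj (T U),
      𝒳.p.IsHomLift (𝟙 ((overCat U).p.obj (T U))) θ' ∧ θ' = θ.1 := ⟨θ.1, θ.2, rfl⟩
  have hsc : ∀ A : (overCat U).obj,
      𝒳.p.IsStronglyCartesian ((overCat U).p.map (toId A)) (K.obj.map (toId A)) :=
    sc_map_toId K.obj K.property
  have hH : ∀ A : (overCat U).obj,
      𝒳.p.IsHomLift ((overCat U).p.map (toId A)) (H.obj.map (toId A) ≫ θ') := by
    intro A
    infer_instance
  let app : ∀ A : (overCat U).obj, H.obj.obj A ⟶ K.obj.obj A := fun A =>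
    haveI := hsc A
    haveI := hH A
    IsStronglyCartesian.map 𝒳.p ((overCat U).p.map (toId A)) (K.obj.map (toId A))
      (Category.id_comp _).symm (H.obj.map (toId A) ≫ θ')
  have happ_lift : ∀ A : (overCat U).obj, 𝒳.p.IsHomLift (𝟙 ((overCat U).p.obj A)) (app A) := by
    intro A
    haveI := hsc A
    haveI := hH A
    exact IsStronglyCartesian.map_isHomLift 𝒳.p ((overCat U).p.map (toId A))
      (K.obj.map (toId A)) (Category.id_comp _).symm (H.obj.map (toId A) ≫ θ')
  have happ_fac : ∀ A : (overCat U).obj,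
      app A ≫ K.obj.map (toId A) = H.obj.map (toId A) ≫ θ' := by
    intro A
    haveI := hsc A
    haveI := hH A
    exact IsStronglyCartesian.fac 𝒳.p ((overCat U).p.map (toId A)) (K.obj.map (toId A))
      (Category.id_comp _).symm (H.obj.map (toId A) ≫ θ')
  have hnat : ∀ {A B : (overCat U).obj} (g : A ⟶ B),
      H.obj.map g ≫ app B = app A ≫ K.obj.map g := by
    intro A B g
    haveI := hsc B
    have hB := happ_lift B
    have hA := happ_lift A
    have hl : 𝒳.p.IsHomLift ((overCat U).p.map g) (H.obj.map g ≫ app B) := inferInstance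
    have hr : 𝒳.p.IsHomLift ((overCat U).p.map g) (app A ≫ K.obj.map g) := inferInstance
    apply IsStronglyCartesian.ext 𝒳.p ((overCat U).p.map (toId B)) (K.obj.map (toId B))
      ((overCat U).p.map g)
    rw [Category.assoc, happ_fac B, ← Category.assoc, ← H.obj.map_comp, comp_toId,
      Category.assoc, ← K.obj.map_comp, comp_toId, happ_fac A]
  let α : H.obj ⟶ K.obj :=
    { toNatTrans := { app := app, naturality := fun A B g => hnat g }
      isHomLift' := fun A => happ_lift A }
  refine ⟨ObjectProperty.homMk α, ?_⟩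
  apply Functor.Fiber.hom_ext
  show app (T U) = θ.1
  have := happ_fac (T U)
  rw [toId_id, CategoryTheory.Functor.map_id, CategoryTheory.Functor.map_id, Category.comp_id,
    Category.id_comp] at this
  rw [this, hθ']

section EssSurj

variable [𝒳.p.IsFibered] {U : C} (x : 𝒳.p.Fiber U)

lemma hx2 : 𝒳.p.obj x.1 = (overCat U).p.obj (T U) := x.2

/-- chosen pullback objects -/
noncomputable def pbObj (A : (overCat U).obj) : 𝒳.obj :=
  IsPreFibered.pullbackObj (p := 𝒳.p) (hx2 x) ((overCat U).p.map (toId A))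

/-- chosen cartesian maps -/
noncomputable def pbMap (A : (overCat U).obj) : pbObj x A ⟶ x.1 :=
  IsPreFibered.pullbackMap (p := 𝒳.p) (hx2 x) ((overCat U).p.map (toId A))

instance pbMap_sc (A : (overCat U).obj) :
    𝒳.p.IsStronglyCartesian ((overCat U).p.map (toId A)) (pbMap x A) := by
  show 𝒳.p.IsStronglyCartesian ((overCat U).p.map (toId A))
    (IsPreFibered.pullbackMap (p := 𝒳.p) (hx2 x) ((overCat U).p.map (toId A)))
  infer_instance

lemma pbObj_proj (A : (overCat U).obj) : 𝒳.p.obj (pbObj x A) = (overCat U).p.obj A :=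
  IsPreFibered.pullbackObj_proj (hx2 x) ((overCat U).p.map (toId A))

lemma map_toId_eq {A B : (overCat U).obj} (g : A ⟶ B) :
    (overCat U).p.map (toId A) = (overCat U).p.map g ≫ (overCat U).p.map (toId B) := by
  rw [← CategoryTheory.Functor.map_comp, comp_toId]

/-- transition maps -/
noncomputable def pbTrans {A B : (overCat U).obj} (g : A ⟶ B) : pbObj x A ⟶ pbObj x B :=
  IsStronglyCartesian.map 𝒳.p ((overCat U).p.map (toId B)) (pbMap x B) (map_toId_eq g) (pbMap x A)

instance pbTrans_lift {A B : (overCat U).obj} (g : A ⟶ B) :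
    𝒳.p.IsHomLift ((overCat U).p.map g) (pbTrans x g) := by
  unfold pbTrans; infer_instance

lemma pbTrans_fac {A B : (overCat U).obj} (g : A ⟶ B) : pbTrans x g ≫ pbMap x B = pbMap x A :=
  IsStronglyCartesian.fac 𝒳.p ((overCat U).p.map (toId B)) (pbMap x B) (map_toId_eq g) (pbMap x A)

lemma pbTrans_id (A : (overCat U).obj) : pbTrans x (𝟙 A) = 𝟙 (pbObj x A) := by
  symm
  haveI : 𝒳.p.IsHomLift ((overCat U).p.map (𝟙 A)) (𝟙 (pbObj x A)) := by
    rw [CategoryTheory.Functor.map_id]
    exact IsHomLift.id (pbObj_proj x A)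
  exact IsStronglyCartesian.map_uniq 𝒳.p ((overCat U).p.map (toId A)) (pbMap x A)
    (map_toId_eq (𝟙 A)) (pbMap x A) (𝟙 (pbObj x A)) (Category.id_comp _)

lemma pbTrans_comp {A B D : (overCat U).obj} (g : A ⟶ B) (g' : B ⟶ D) :
    pbTrans x (g ≫ g') = pbTrans x g ≫ pbTrans x g' := by
  symm
  haveI : 𝒳.p.IsHomLift ((overCat U).p.map (g ≫ g')) (pbTrans x g ≫ pbTrans x g') := by
    rw [CategoryTheory.Functor.map_comp]
    infer_instance
  exact IsStronglyCartesian.map_uniq 𝒳.p ((overCat U).p.map (toId D)) (pbMap x D)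
    (map_toId_eq (g ≫ g')) (pbMap x A)
    (pbTrans x g ≫ pbTrans x g') (by rw [Category.assoc, pbTrans_fac, pbTrans_fac])

/-- The functor over `C` from `C/U` associated to an object of the fibre. -/
noncomputable def Hx : overCat U ⥤ᵇ 𝒳 where
  toFunctor :=
    { obj := pbObj x
      map := fun g => pbTrans x g
      map_id := fun A => pbTrans_id x A
      map_comp := fun g g' => pbTrans_comp x g g' }
  w := CategoryTheory.Functor.ext (fun A => pbObj_proj x A)
    (fun A B g => IsHomLift.fac' 𝒳.p ((overCat U).p.map g) (pbTrans x g))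

theorem Hx_preserves : PreservesStronglyCartesian (Hx x) := by
  intro R S f A B g hg
  have hlift : (overCat U).p.IsHomLift f g := hg.toIsHomLift
  obtain ⟨⟩ := hlift
  show 𝒳.p.IsStronglyCartesian ((overCat U).p.map g) (pbTrans x g)
  haveI : 𝒳.p.IsStronglyCartesian ((overCat U).p.map g ≫ (overCat U).p.map (toId B))
      (pbTrans x g ≫ pbMap x B) := by
    rw [pbTrans_fac, ← map_toId_eq]; infer_instance
  exact IsStronglyCartesian.of_comp 𝒳.p (f := (overCat U).p.map g)
    (g := (overCat U).p.map (toId B)) (φ := pbTrans x g) (ψ := pbMap x B)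

end EssSurj

theorem essSurj [𝒳.p.IsFibered] (U : C) :
    ((ObjectProperty.ι (FibCat.PreservesStronglyCartesian (𝒳 := FibCat.overCat U) (𝒴 := 𝒳))) ⋙
      FibCat.evalAtId 𝒳 U).EssSurj := by
  constructor
  intro x
  refine ⟨⟨Hx x, Hx_preserves x⟩, ?_⟩
  have hsc0 : 𝒳.p.IsStronglyCartesian ((overCat U).p.map (toId (T U))) (pbMap x (T U)) :=
    pbMap_sc x (T U)
  rw [toId_id, CategoryTheory.Functor.map_id] at hsc0
  have hsc : 𝒳.p.IsStronglyCartesian (𝟙 U) (pbMap x (T U)) := hsc0
  haveI : IsIso (pbMap x (T U)) :=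
    IsStronglyCartesian.isIso_of_base_isIso 𝒳.p (𝟙 U) _
  have h1 : 𝒳.p.IsHomLift (𝟙 U) (pbMap x (T U)) := inferInstance
  obtain ⟨i, hi1, hi2⟩ : ∃ i : x.1 ⟶ pbObj x (T U),
      pbMap x (T U) ≫ i = 𝟙 _ ∧ i ≫ pbMap x (T U) = 𝟙 _ :=
    ⟨CategoryTheory.inv (pbMap x (T U)), IsIso.hom_inv_id _, IsIso.inv_hom_id _⟩
  have h2 : 𝒳.p.IsHomLift (𝟙 U) i := by
    have : i = CategoryTheory.inv (pbMap x (T U)) := by
      rw [← cancel_mono (pbMap x (T U)), hi2, IsIso.inv_hom_id]
    rw [this]; infer_instance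
  exact ⟨
    { hom := ⟨pbMap x (T U), h1⟩
      inv := ⟨i, h2⟩
      hom_inv_id := Functor.Fiber.hom_ext hi1
      inv_hom_id := Functor.Fiber.hom_ext hi2 }⟩

end

/-- For `𝒳` fibred over `C`, evaluation at `𝟙_U` restricted to the functors `C/U ⟶ 𝒳` over `C` that
preserve strongly cartesian morphisms is an equivalence of categories onto the fibre category `𝒳_U`. -/
theorem result {C : Type u} [Category.{v} C] {𝒳 : BasedCategory.{v, max u v} C} [𝒳.p.IsFibered] (U : C) :
    ((ObjectProperty.ι (FibCat.PreservesStronglyCartesian (𝒳 := FibCat.overCat U) (𝒴 := 𝒳))) ⋙ FibCat.evalAtId 𝒳 U).IsEquivalence := by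
  exact { faithful := faithful U, full := full U, essSurj := essSurj U }

end Groth.Agent.S6410
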