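import Groth.Statements.S6409
import Groth.Agent.S6410
import Groth.Agent.S6393

set_option autoImplicit false
open CategoryTheory
universe v u
open FibCat

namespace Groth.Agent.S6409

/-- For `𝒳` fibred in groupoids over `C`, evaluation at `𝟙_U` is an equivalence of categories from the
category of functors `C/U ⟶ 𝒳` over `C` to the fibre category `𝒳_U`. -/
theorem result {C : Type u} [Category.{v} C] {𝒳 : BasedCategory.{v, max u v} C} (h𝒳 : FibCat.IsFibGrpd 𝒳.p) (U : C) :
    (FibCat.evalAtId 𝒳 U).IsEquivalence := by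
  haveI : 𝒳.p.IsFibered := ((Groth.Agent.S6393.result 𝒳.p).mp h𝒳).1
  have hP : ∀ H : overCat U ⥤ᵇ 𝒳,
      FibCat.PreservesStronglyCartesian (𝒳 := FibCat.overCat U) (𝒴 := 𝒳) H := by
    intro H R S f a b φ hφ
    have : 𝒳.p.IsHomLift f (H.map φ) := inferInstance
    exact Groth.Agent.S6393.sc_of_lift 𝒳.p f (H.map φ) this (h𝒳.isStronglyCartesian (H.map φ))
  haveI hess : (ObjectProperty.ι
      (FibCat.PreservesStronglyCartesian (𝒳 := FibCat.overCat U) (𝒴 := 𝒳))).EssSurj :=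
    ⟨fun H => ⟨⟨H, hP H⟩, ⟨Iso.refl _⟩⟩⟩
  haveI : (ObjectProperty.ι
      (FibCat.PreservesStronglyCartesian (𝒳 := FibCat.overCat U) (𝒴 := 𝒳))).IsEquivalence :=
    { }
  haveI := Groth.Agent.S6410.result (𝒳 := 𝒳) U
  exact Functor.isEquivalence_of_comp_left (ObjectProperty.ι
      (FibCat.PreservesStronglyCartesian (𝒳 := FibCat.overCat U) (𝒴 := 𝒳))) (FibCat.evalAtId 𝒳 U)

end Groth.Agent.S6409
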