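import Mathlib
import Groth.Statements.S12776
import Groth.Agent.Lib.Helper19.StLib2
import Groth.Agent.Lib.Helper19.YonLib
-- import your own Groth.Agent.* helpers here

set_option autoImplicit false
open CategoryTheory AlgebraicGeometry
universe u
open AlgSt

namespace Groth.Agent.S12776

open FibCat Groth.Agent.Helper19.FibLib Groth.Agent.Helper19.YonLib Groth.Agent.Helper19.PshLib


/-- For categories `𝒳`, `𝒴` fibred in groupoids over `(Sch/S)`, any 1-morphism `f : 𝒳 ⟶ 𝒴` that is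
representable by algebraic spaces is faithful on fibre categories; for categories fibred in
groupoids this is the same as `f` being faithful, which is how it is stated here. -/
theorem result {S : Scheme.{u}} {𝒳 𝒴 : AlgSt.Cat S}
    (h𝒳 : FibCat.IsFibGrpd 𝒳.p) (h𝒴 : FibCat.IsFibGrpd 𝒴.p) (f : 𝒳 ⥤ᵇ 𝒴) (hf : AlgSt.RepByAlgSp1 f) :
    f.toFunctor.Faithful := by
  have key : ∀ (a : 𝒳.obj) (χ : a ⟶ a), 𝒳.p.IsHomLift (𝟙 (𝒳.p.obj a)) χ → f.map χ = 𝟙 _ → χ = 𝟙 a := by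
    intro a χ hχ hfχ
    obtain ⟨y, θ, hθ⟩ := exists_chart_of_obj h𝒴 (f.obj a) (f.w_obj a)
    obtain ⟨F, e, he⟩ := hf (𝒳.p.obj a) y
    obtain ⟨G, hG, -, -⟩ := IsEquivOver.exists_inv he
    have hGe : G.toFunctor.IsEquivalence := IsEquivOver.isEquivalence hG
    let z : (fp y f).obj := fpMk y f (Over.mk (𝟙 (𝒳.p.obj a))) a θ hθ
    let m : z ⟶ z := fpHomMk (𝟙 _) χ (by
      show y.map (𝟙 _) ≫ θ.hom = θ.hom ≫ f.map χ
      rw [hfχ]; simp)
    have hm : (fp y f).p.IsHomLift (𝟙 (𝒳.p.obj a)) m := by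
      rw [fp_isHomLift_iff]
      exact IsHomLift.id rfl
    have h1 : (fp y f).p.IsHomLift (𝟙 (𝒳.p.obj a)) (𝟙 z) := IsHomLift.id rfl
    have : m = 𝟙 z := hom_eq_of_faithful_to_ofPsh G (𝟙 (𝒳.p.obj a)) m (𝟙 z)
    have := congrArg (fun t => t.hom.snd) this
    exact this
  constructor
  intro a b φ ψ h
  have hpe : 𝒳.p.map φ = 𝒳.p.map ψ := by
    have h1 := Functor.congr_hom f.w φ
    have h2 := Functor.congr_hom f.w ψ
    simp only [Functor.comp_map] at h1 h2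
    rw [h] at h1
    rw [h1] at h2
    simpa only [cancel_epi, cancel_mono] using h2
  obtain ⟨χ, ⟨hχ1, hχ2⟩, -⟩ := existsUnique_fac h𝒳 (𝒳.p.map ψ) ψ (𝟙 _) (𝒳.p.map φ)
    (by rw [hpe, Category.id_comp]) φ
  have hfχ : f.map χ = 𝟙 _ := by
    have i1 : 𝒴.p.IsHomLift (𝒳.p.map ψ) (f.map ψ) := BasedFunctor.preserves_isHomLift f _ ψ
    have i2 : 𝒴.p.IsHomLift (𝟙 (𝒳.p.obj a)) (f.map χ) := BasedFunctor.preserves_isHomLift f _ χ
    have i3 : 𝒴.p.IsHomLift (𝟙 (𝒳.p.obj a)) (𝟙 (f.obj a)) := IsHomLift.id (f.w_obj a)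
    apply hom_ext_of_comp_eq h𝒴 (𝒳.p.map ψ) (f.map ψ) (𝟙 (𝒳.p.obj a))
    rw [← f.map_comp, hχ2, Category.id_comp]
    exact h
  rw [← hχ2, key a χ hχ1 hfχ, Category.id_comp]

end Groth.Agent.S12776
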