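import Mathlib
import Groth.Statements.S12787
import Groth.Agent.Lib.Helper19.FibLib
-- import your own Groth.Agent.* helpers here

set_option autoImplicit false
open CategoryTheory AlgebraicGeometry
universe u
open AlgSt

namespace Groth.Agent.S12787

open Groth.Agent.Helper19.FibLib Functor FibCat in

/-- A category fibred in groupoids over `(Sch/S)` which is representable by an algebraic space is fibred
in setoids. -/
theorem result {S : Scheme.{u}} {𝒳 : AlgSt.Cat S}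
    (h𝒳 : FibCat.IsFibGrpd 𝒳.p) (hr : AlgSt.RepByAlgSp 𝒳) :
    FibCat.IsFibSetoid 𝒳.p := by
  obtain ⟨F, e, he⟩ := hr
  obtain ⟨G, hG, -, -⟩ := IsEquivOver.exists_inv he
  have hGe : G.toFunctor.IsEquivalence := IsEquivOver.isEquivalence hG
  refine ⟨h𝒳, ?_⟩
  intro U a b
  constructor
  intro φ ψ
  apply Fiber.hom_ext
  apply G.toFunctor.map_injective
  have hφ : 𝒳.p.IsHomLift (𝟙 U) φ.1 := φ.2
  have hψ : 𝒳.p.IsHomLift (𝟙 U) ψ.1 := ψ.2
  apply Stk.EltObj.hom_ext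
  have h1' : (AlgSt.ofSp F.obj).p.IsHomLift (𝟙 U) (G.map φ.1) :=
    BasedFunctor.preserves_isHomLift G (𝟙 U) φ.1
  have h2' : (AlgSt.ofSp F.obj).p.IsHomLift (𝟙 U) (G.map ψ.1) :=
    BasedFunctor.preserves_isHomLift G (𝟙 U) ψ.1
  have h1 := IsHomLift.fac' (AlgSt.ofSp F.obj).p (𝟙 U) (G.map φ.1)
  have h2 := IsHomLift.fac' (AlgSt.ofSp F.obj).p (𝟙 U) (G.map ψ.1)
  exact h1.trans h2.symm

end Groth.Agent.S12787
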