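import Groth.Statements.S6401
import Groth.Agent.S6400

set_option autoImplicit false
open CategoryTheory
universe v u
open FibCat

namespace Groth.Agent.S6401

/-- For categories `𝒳, 𝒴, 𝒮` fibred in groupoids over `C` and functors `F : 𝒳 ⟶ 𝒮`, `G : 𝒴 ⟶ 𝒮` over
`C`, the 2-fibre product `𝒳 ×_𝒮 𝒴` over `C` is fibred in groupoids over `C`. -/
theorem result {C : Type u} [Category.{v} C] {𝒳 𝒴 𝒮 : BasedCategory.{v, max u v} C} (F : 𝒳 ⥤ᵇ 𝒮) (G : 𝒴 ⥤ᵇ 𝒮) (h𝒳 : FibCat.IsFibGrpd 𝒳.p) (h𝒴 : FibCat.IsFibGrpd 𝒴.p) (h𝒮 : FibCat.IsFibGrpd 𝒮.p) :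
    FibCat.IsFibGrpd (FibCat.fp F G).p := by
  haveI : 𝒳.p.IsFibered := ((Groth.Agent.S6393.result 𝒳.p).mp h𝒳).1
  haveI : 𝒴.p.IsFibered := ((Groth.Agent.S6393.result 𝒴.p).mp h𝒴).1
  have hF : ∀ {R S : C} (f : R ⟶ S) {a b : 𝒳.obj} (φ : a ⟶ b),
      𝒳.p.IsStronglyCartesian f φ → 𝒮.p.IsStronglyCartesian f (F.map φ) := by
    intro R S f a b φ hφ
    exact Groth.Agent.S6393.sc_of_lift 𝒮.p f (F.map φ) inferInstance
      (h𝒮.isStronglyCartesian (F.map φ))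
  have hG : ∀ {R S : C} (f : R ⟶ S) {a b : 𝒴.obj} (φ : a ⟶ b),
      𝒴.p.IsStronglyCartesian f φ → 𝒮.p.IsStronglyCartesian f (G.map φ) := by
    intro R S f a b φ hφ
    exact Groth.Agent.S6393.sc_of_lift 𝒮.p f (G.map φ) inferInstance
      (h𝒮.isStronglyCartesian (G.map φ))
  refine ⟨?_, ?_⟩
  · intro x V f
    obtain ⟨y, φ, h0, -⟩ := Groth.Agent.S6400.exists_lift_sc F G hF hG x f
    exact ⟨y, φ, h0⟩
  · intro y x φ
    have h1 : 𝒳.p.IsHomLift ((fp F G).p.map φ) φ.hom.fst :=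
      Groth.Agent.S6400.isHomLift_fst F G φ _
    have h2 : 𝒴.p.IsHomLift ((fp F G).p.map φ) φ.hom.snd :=
      Groth.Agent.S6400.isHomLift_snd F G φ _
    have h3 : 𝒮.p.IsHomLift ((fp F G).p.map φ) (G.map φ.hom.snd) := inferInstance
    exact Groth.Agent.S6400.sc_of_components F G φ _
      (Groth.Agent.S6393.sc_of_lift 𝒳.p _ _ h1 (h𝒳.isStronglyCartesian _))
      (Groth.Agent.S6393.sc_of_lift 𝒴.p _ _ h2 (h𝒴.isStronglyCartesian _))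
      (Groth.Agent.S6393.sc_of_lift 𝒮.p _ _ h3 (h𝒮.isStronglyCartesian _))

end Groth.Agent.S6401
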