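import Mathlib
import Groth.Statements.S12800
import Groth.Agent.Lib.Helper19.FibLib2
import Groth.Agent.S6401
-- import your own Groth.Agent.* helpers here

set_option autoImplicit false
open CategoryTheory
universe v u
open FibCat

namespace Groth.Agent.S12800

open FibCat Groth.Agent.Helper19.FibLib


/-- For categories `𝒮`, `𝒯` fibred in groupoids over `C`, a category `ℛ` fibred in setoids over `C`, a
functor `f : 𝒯 ⟶ 𝒮` over `C` with faithful underlying functor and a functor `g : ℛ ⟶ 𝒮` over `C`,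
the 2-fibre product `𝒯 ×_𝒮 ℛ` over `C` is fibred in setoids. (The published statement takes stacks
in groupoids over a site and concludes a stack in setoids; the stack property of the 2-fibre product
is the separate result on 2-fibre products of stacks in groupoids, and the setoid property stated
here needs no topology.) -/
theorem result {C : Type u} [Category.{v} C] {𝒮 𝒯 ℛ : BasedCategory.{v, max u v} C}
    (h𝒮 : FibCat.IsFibGrpd 𝒮.p) (h𝒯 : FibCat.IsFibGrpd 𝒯.p) (hℛ : FibCat.IsFibSetoid ℛ.p) (f : 𝒯 ⥤ᵇ 𝒮) [f.toFunctor.Faithful] (g : ℛ ⥤ᵇ 𝒮) :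
    FibCat.IsFibSetoid (FibCat.fp f g).p := by
  refine ⟨Groth.Agent.S6401.result f g h𝒯 hℛ.1 h𝒮, ?_⟩
  intro U a b
  constructor
  intro φ ψ
  apply Functor.Fiber.hom_ext
  have hφ : (fp f g).p.IsHomLift (𝟙 U) φ.1 := φ.2
  have hψ : (fp f g).p.IsHomLift (𝟙 U) ψ.1 := ψ.2
  have h1 : ℛ.p.IsHomLift (𝟙 U) φ.1.hom.snd := fp_isHomLift_snd' (𝟙 U) φ.1
  have h2 : ℛ.p.IsHomLift (𝟙 U) ψ.1.hom.snd := fp_isHomLift_snd' (𝟙 U) ψ.1
  have ha : ℛ.p.obj a.1.obj.snd = U := IsHomLift.domain_eq ℛ.p (𝟙 U) φ.1.hom.snd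
  have hb : ℛ.p.obj b.1.obj.snd = U := IsHomLift.codomain_eq ℛ.p (𝟙 U) φ.1.hom.snd
  have hsnd : φ.1.hom.snd = ψ.1.hom.snd := by
    have := (hℛ.2 U (⟨a.1.obj.snd, ha⟩ : ℛ.p.Fiber U) ⟨b.1.obj.snd, hb⟩).elim
      ⟨φ.1.hom.snd, h1⟩ ⟨ψ.1.hom.snd, h2⟩
    exact congrArg Subtype.val this
  apply fp_hom_ext _ hsnd
  apply f.toFunctor.map_injective
  have w1 := fp_w φ.1
  have w2 := fp_w ψ.1
  rw [hsnd] at w1
  have : f.map φ.1.hom.fst ≫ b.1.obj.iso.hom = f.map ψ.1.hom.fst ≫ b.1.obj.iso.hom := w1.trans w2.symm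
  exact (cancel_mono _).1 this

end Groth.Agent.S12800
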