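import Groth.Statements.S6439
import Mathlib

set_option autoImplicit false
open CategoryTheory
universe v u
open FibCat

namespace Groth.Agent.S6439

section
universe w v' u'
variable {B : Type u'} [Bicategory.{w, v'} B] {a b : B}

open Bicategory

/-- Precomposition with an equivalence in a bicategory is an equivalence of hom-categories. -/
theorem precomp_isEquivalence (c : B) (f : a ⟶ b) (g : b ⟶ a) (hη : f ≫ g ≅ 𝟙 a) (hε : g ≫ f ≅ 𝟙 b) :
    (Bicategory.precomp c f).IsEquivalence := by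
  let e1 : Bicategory.precomp c f ⋙ Bicategory.precomp c g ≅ 𝟭 (b ⟶ c) :=
    (associatorNatIsoRight g f c).symm ≪≫ (precomposing b b c).mapIso hε ≪≫ leftUnitorNatIso b c
  let e2 : Bicategory.precomp c g ⋙ Bicategory.precomp c f ≅ 𝟭 (a ⟶ c) :=
    (associatorNatIsoRight f g c).symm ≪≫ (precomposing a a c).mapIso hη ≪≫ leftUnitorNatIso a c
  exact (CategoryTheory.Equivalence.mk (Bicategory.precomp c f) (Bicategory.precomp c g)
    e1.symm e2).isEquivalence_functor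

/-- Postcomposition with an equivalence in a bicategory is an equivalence of hom-categories. -/
theorem postcomp_isEquivalence (c : B) (f : a ⟶ b) (g : b ⟶ a) (hη : f ≫ g ≅ 𝟙 a) (hε : g ≫ f ≅ 𝟙 b) :
    (Bicategory.postcomp c f).IsEquivalence := by
  let e1 : Bicategory.postcomp c f ⋙ Bicategory.postcomp c g ≅ 𝟭 (c ⟶ a) :=
    associatorNatIsoLeft c f g ≪≫ (postcomposing c a a).mapIso hη ≪≫ rightUnitorNatIso c a
  let e2 : Bicategory.postcomp c g ⋙ Bicategory.postcomp c f ≅ 𝟭 (c ⟶ b) :=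
    associatorNatIsoLeft c g f ≪≫ (postcomposing c b b).mapIso hε ≪≫ rightUnitorNatIso c b
  exact (CategoryTheory.Equivalence.mk (Bicategory.postcomp c f) (Bicategory.postcomp c g)
    e1.symm e2).isEquivalence_functor

end


/-- For categories fibred in groupoids over `C` and equivalences `φ : 𝒮₁ ⟶ 𝒮₂`, `ψ : 𝒮₃ ⟶ 𝒮₄` over `C`,
the functor `α ↦ ψ ∘ α ∘ φ` between the categories of functors over `C` is an equivalence of
categories. -/
theorem result {C : Type u} [Category.{v} C] {𝒮₁ 𝒮₂ 𝒮₃ 𝒮₄ : BasedCategory.{v, max u v} C}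
    (h₁ : FibCat.IsFibGrpd 𝒮₁.p) (h₂ : FibCat.IsFibGrpd 𝒮₂.p) (h₃ : FibCat.IsFibGrpd 𝒮₃.p) (h₄ : FibCat.IsFibGrpd 𝒮₄.p)
    (φ : 𝒮₁ ⟶ 𝒮₂) (ψ : 𝒮₃ ⟶ 𝒮₄) (hφ : FibCat.IsEquivOver φ) (hψ : FibCat.IsEquivOver ψ) :
    (Bicategory.precomp 𝒮₃ φ ⋙ Bicategory.postcomp 𝒮₁ ψ).IsEquivalence := by
  obtain ⟨G, ⟨hη⟩, ⟨hε⟩⟩ := hφ
  obtain ⟨G', ⟨hη'⟩, ⟨hε'⟩⟩ := hψ
  have h1 : (Bicategory.precomp 𝒮₃ φ).IsEquivalence := precomp_isEquivalence 𝒮₃ φ G hη hε
  have h2 : (Bicategory.postcomp 𝒮₁ ψ).IsEquivalence := postcomp_isEquivalence 𝒮₁ ψ G' hη' hε'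
  infer_instance

end Groth.Agent.S6439
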