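import Mathlib
import Groth.Statements.S2063
import Groth.Agent.Lib.Helper19.Jac.Global

set_option autoImplicit false
universe u
open CAlg

namespace Groth.Agent.S2063

open TensorProduct in
/-- Let `S` be of finite type over a field `k` and `𝔮` a prime of `S`. Smoothness of `S` over `k` at `𝔮`
holds exactly when the `κ(𝔮)`-dimension of `Ω_{S/k} ⊗ κ(𝔮)` is at most the local dimension of `Spec
S` at `𝔮`. -/
theorem result {k S : Type u} [Field k] [CommRing S] [Algebra k S]
    [Algebra.FiniteType k S] (q : Ideal S) [q.IsPrime] :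
    Algebra.IsSmoothAt k q ↔
      ((Module.finrank q.ResidueField (q.ResidueField ⊗[S] Ω[S⁄k]) : ℕ∞) : WithBot ℕ∞) ≤
        FlatMor.localDim (PrimeSpectrum S) ⟨q, inferInstance⟩ := by
  haveI : IsDomain (S ⧸ q) := Ideal.Quotient.isDomain q
  have hlt : Algebra.trdeg k (S ⧸ q) < Cardinal.aleph0 := trdeg_lt_aleph0_of_finiteType
  obtain ⟨r, hr⟩ : ∃ r : ℕ, Algebra.trdeg k (S ⧸ q) = r :=
    ⟨_, (Cardinal.cast_toNat_of_lt_aleph0 hlt).symm⟩
  rw [Groth.Agent.Helper14.LocalDimSpec.localDim_eq k S q r hr,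
    Groth.Agent.Helper19.Jac.isSmoothAt_iff_le k S q r hr,
    IsLocalization.AtPrime.ringKrullDim_eq_height q (Localization.AtPrime q)]
  norm_cast

end Groth.Agent.S2063
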