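import Groth.Statements.S6894
import Mathlib
import Groth.Agent.Lib.Helper10.FittingE

set_option autoImplicit false
universe u
open TensorProduct
open Fitt

namespace Groth.Agent.S6894

section helpers
open Groth.Agent.Lib.Helper10.Fitting
open Matrix Finset TensorProduct

variable {R : Type*} [CommRing R] {M : Type*} [AddCommGroup M] [Module R M]

/-- general criterion -/
lemma not_le_iff_map_eq_top (A : Type*) [CommRing A] [Algebra R A] (I p : Ideal R)
    (hunit : ∀ d : R, d ∉ p → IsUnit (algebraMap R A d))
    (hp : p.map (algebraMap R A) ≠ ⊤) :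
    ¬ I ≤ p ↔ I.map (algebraMap R A) = ⊤ := by
  constructor
  · intro h
    obtain ⟨d, hd, hdp⟩ := SetLike.not_le_iff_exists.1 h
    exact Ideal.eq_top_of_isUnit_mem _ (Ideal.mem_map_of_mem _ hd) (hunit d hdp)
  · intro h hle
    apply hp
    rw [eq_top_iff, ← h]
    exact Ideal.map_mono hle

lemma part1 [Module.Finite R M] (k : ℕ) (p : Ideal R) [p.IsPrime] :
    (¬ Fitt.ideal R M k ≤ p ↔ Module.finrank p.ResidueField (p.ResidueField ⊗[R] M) ≤ k) := by
  rw [not_le_iff_map_eq_top p.ResidueField (Fitt.ideal R M k) p, ← fitt_baseChange]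
  · constructor
    · intro h
      obtain ⟨g, hg⟩ := exists_span_of_fitt_eq_top k h
      have := finrank_range_le_card (R := p.ResidueField) g
      rw [Set.finrank, hg, finrank_top, Fintype.card_fin] at this
      exact this
    · intro h
      exact fitt_eq_top_of_span (Module.finBasis p.ResidueField (p.ResidueField ⊗[R] M))
        (Module.Basis.span_eq _) k h
  · intro d hd
    rw [isUnit_iff_ne_zero, ne_eq, Ideal.algebraMap_residueField_eq_zero]
    exact hd
  · intro h
    have : p.map (algebraMap R p.ResidueField) ≤ ⊥ := by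
      rw [Ideal.map_le_iff_le_comap]
      intro d hd
      rw [Ideal.mem_comap, Ideal.mem_bot, Ideal.algebraMap_residueField_eq_zero]
      exact hd
    rw [h] at this
    exact top_ne_bot (le_bot_iff.1 this)

lemma part2 [Module.Finite R M] (k : ℕ) (p : Ideal R) [p.IsPrime] :
    (¬ Fitt.ideal R M k ≤ p ↔
      ∃ g : Fin k → LocalizedModule p.primeCompl M,
        Submodule.span (Localization.AtPrime p) (Set.range g) = ⊤) := by
  rw [not_le_iff_map_eq_top (Localization.AtPrime p) (Fitt.ideal R M k) p,
    ← fitt_isBaseChange (Localization.AtPrime p) (LocalizedModule.mkLinearMap p.primeCompl M)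
      (IsLocalizedModule.isBaseChange p.primeCompl _ _)]
  · constructor
    · intro h
      exact exists_span_of_fitt_eq_top k h
    · rintro ⟨g, hg⟩
      exact fitt_eq_top_of_span g hg k le_rfl
  · intro d hd
    exact IsLocalization.map_units (Localization.AtPrime p) (⟨d, hd⟩ : p.primeCompl)
  · rw [Localization.AtPrime.map_eq_maximalIdeal]
    exact (IsLocalRing.maximalIdeal.isMaximal _).ne_top

lemma part3 [Module.Finite R M] (k : ℕ) (p : Ideal R) [p.IsPrime] :
    (¬ Fitt.ideal R M k ≤ p ↔ ∃ f : R, f ∉ p ∧
      ∃ g : Fin k → LocalizedModule (Submonoid.powers f) M,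
        Submodule.span (Localization.Away f) (Set.range g) = ⊤) := by
  constructor
  · intro h
    obtain ⟨n, x, hx⟩ := Module.Finite.exists_fin (R := R) (M := M)
    obtain ⟨a, hrel, hdet⟩ := exists_det_notMem x hx k p h
    refine ⟨a.det, hdet, ?_⟩
    have hbc := IsLocalizedModule.isBaseChange (Submonoid.powers a.det) (Localization.Away a.det)
      (LocalizedModule.mkLinearMap (Submonoid.powers a.det) M)
    refine exists_span_of_isUnit_det k (LocalizedModule.mkLinearMap (Submonoid.powers a.det) M ∘ x)
      (span_comp_of_isBaseChange _ _ hbc x hx)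
      ((algebraMap R (Localization.Away a.det)).mapMatrix a) ?_ ?_
    · intro i hi
      exact isRel_comp_of_isRel (Localization.Away a.det) _ x (a i) (hrel i hi)
    · rw [← RingHom.map_det]
      exact IsLocalization.Away.algebraMap_isUnit a.det
  · rintro ⟨f, hf, g, hg⟩ hle
    have h1 := fitt_eq_top_of_span g hg k le_rfl
    rw [fitt_isBaseChange (Localization.Away f) (LocalizedModule.mkLinearMap (Submonoid.powers f) M)
      (IsLocalizedModule.isBaseChange (Submonoid.powers f) _ _)] at h1
    have h2 : p.map (algebraMap R (Localization.Away f)) ≠ ⊤ := by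
      rw [IsLocalization.map_algebraMap_ne_top_iff_disjoint (Submonoid.powers f)]
      rw [Set.disjoint_left]
      rintro _ ⟨m, rfl⟩ hm
      exact hf (Ideal.IsPrime.mem_of_pow_mem inferInstance m hm)
    apply h2
    rw [eq_top_iff, ← h1]
    exact Ideal.map_mono hle

end helpers

/-- Let `M` be a finite `R`-module, `k ≥ 0` and `𝔭 ⊆ R` a prime. Then each of the following conditions
implies all the others: the Fitting ideal `Fit_k(M)` is not contained in `𝔭`; the fiber `M ⊗_R κ(𝔭)`
has dimension at most `k` over `κ(𝔭)`; some `k` elements span the localization `M_𝔭` over `R_𝔭`; and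
for some `f ∉ 𝔭`, the module `M_f` is spanned over `R_f` by `k` elements. -/
theorem result {R : Type u} [CommRing R] (M : Type u) [AddCommGroup M] [Module R M]
    [Module.Finite R M] (k : ℕ) (p : Ideal R) [p.IsPrime] :
    (¬ Fitt.ideal R M k ≤ p ↔ Module.finrank p.ResidueField (p.ResidueField ⊗[R] M) ≤ k) ∧
    (¬ Fitt.ideal R M k ≤ p ↔
      ∃ g : Fin k → LocalizedModule p.primeCompl M, Submodule.span (Localization.AtPrime p) (Set.range g) = ⊤) ∧
    (¬ Fitt.ideal R M k ≤ p ↔ ∃ f : R, f ∉ p ∧
      ∃ g : Fin k → LocalizedModule (Submonoid.powers f) M,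
        Submodule.span (Localization.Away f) (Set.range g) = ⊤) := by
  exact ⟨part1 k p, part2 k p, part3 k p⟩

end Groth.Agent.S6894
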