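import Groth.Statements.S0392
import Groth.Agent.Lib.Helper1.LocalCriterion

set_option autoImplicit false
universe u
open FlatMor

namespace Groth.Agent.S0392

open TensorProduct in
/-- Fibrewise criterion of flatness, Noetherian local form: for local homomorphisms R → S → S' of
Noetherian local rings and a nonzero finite S'-module M that is flat over R and whose reduction
modulo the maximal ideal of R is flat over the corresponding fibre ring of S, the ring S is flat
over R and M is flat over S. -/
theorem result {R S S' M : Type u} [CommRing R] [CommRing S] [CommRing S'] [IsLocalRing R] [IsLocalRing S] [IsLocalRing S']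
    [IsNoetherianRing R] [IsNoetherianRing S] [IsNoetherianRing S'] [Algebra R S] [Algebra S S'] [Algebra R S'] [IsScalarTower R S S']
    [IsLocalHom (algebraMap R S)] [IsLocalHom (algebraMap S S')]
    [AddCommGroup M] [Module S' M] [Module S M] [Module R M] [IsScalarTower S S' M] [IsScalarTower R S M]
    [Module.Finite S' M] [Nontrivial M] [Module.Flat R M]
    (h : Module.Flat (S ⧸ ((IsLocalRing.maximalIdeal R).map (algebraMap R S))) ((S ⧸ ((IsLocalRing.maximalIdeal R).map (algebraMap R S))) ⊗[S] M)) :
    Module.Flat R S ∧ Module.Flat S M := by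
  classical
  set mS : Ideal S := (IsLocalRing.maximalIdeal R).map (algebraMap R S) with hmS
  -- Part 1: `M` is flat over `S`
  have hmS_le : mS ≤ IsLocalRing.maximalIdeal S := IsLocalRing.map_maximalIdeal_le _
  have hIS : mS.map (algebraMap S S') ≤ Ideal.jacobson ⊥ :=
    (Ideal.map_mono hmS_le).trans ((IsLocalRing.map_maximalIdeal_le (algebraMap S S')).trans
      (IsLocalRing.maximalIdeal_le_jacobson _))
  have h1 : Function.Injective (mS.subtype.rTensor M) :=
    Groth.Agent.Helper1.rTensor_map_subtype_injective_of_flat (R := R) (S := S) (M := M)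
      (IsLocalRing.maximalIdeal R)
  have := h
  have hflat : Module.Flat S M :=
    Groth.Agent.Helper1.flat_of_flat_quotient_pow (S := S') mS hIS
      (fun n _ => Groth.Agent.Helper1.flat_quotient_pow mS h1 n)
  -- Part 2: `M` is faithfully flat over `S`
  have hff : Module.FaithfullyFlat S M := by
    rw [Module.FaithfullyFlat.iff_flat_and_proper_ideal]
    refine ⟨hflat, fun J hJ htop => ?_⟩
    have hJle : J.map (algebraMap S S') ≤ IsLocalRing.maximalIdeal S' :=
      (Ideal.map_mono (IsLocalRing.le_maximalIdeal hJ)).trans
        (IsLocalRing.map_maximalIdeal_le (algebraMap S S'))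
    have h3 : (J.map (algebraMap S S') • (⊤ : Submodule S' M)).restrictScalars S =
        (⊤ : Submodule S M) := by
      rw [Ideal.smul_restrictScalars, Submodule.restrictScalars_top, htop]
    have h4 : (⊤ : Submodule S' M) ≤ IsLocalRing.maximalIdeal S' • (⊤ : Submodule S' M) := by
      intro x _
      have : x ∈ (J.map (algebraMap S S') • (⊤ : Submodule S' M)).restrictScalars S := by
        rw [h3]; exact Submodule.mem_top
      exact Submodule.smul_mono_left hJle this
    have h5 := Submodule.eq_bot_of_le_smul_of_le_jacobson_bot (IsLocalRing.maximalIdeal S')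
      (⊤ : Submodule S' M) (Module.finite_def.mp inferInstance) h4
      (IsLocalRing.maximalIdeal_le_jacobson _)
    obtain ⟨x, y, hxy⟩ := ‹Nontrivial M›
    have hx : x ∈ (⊤ : Submodule S' M) := Submodule.mem_top
    have hy : y ∈ (⊤ : Submodule S' M) := Submodule.mem_top
    rw [h5, Submodule.mem_bot] at hx hy
    exact hxy (hx.trans hy.symm)
  -- Part 3: `S` is flat over `R`
  refine ⟨?_, hflat⟩
  rw [Module.Flat.iff_lTensor_injective']
  intro 𝔞
  have h2 : Function.Injective ((𝔞.subtype.baseChange S).lTensor M) := by
    intro x y hxy
    apply (TensorProduct.AlgebraTensorModule.cancelBaseChange R S S M 𝔞).injective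
    apply Module.Flat.lTensor_preserves_injective_linearMap (M := M) 𝔞.subtype
      (Submodule.injective_subtype _)
    rw [← Groth.Agent.Helper1.cancelBaseChange_lTensor,
      ← Groth.Agent.Helper1.cancelBaseChange_lTensor, hxy]
  exact (Module.FaithfullyFlat.lTensor_injective_iff_injective S M (𝔞.subtype.baseChange S)).mp h2

end Groth.Agent.S0392
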