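import Groth.Statements.S4636
import Groth.Agent.Lib.Helper13.QCohWeakAss

set_option autoImplicit false
open CategoryTheory AlgebraicGeometry
universe u
open AssSch

namespace Groth.Agent.S4636

open Groth.Agent.Helper13.QCoh

/-- Let X be a locally Noetherian scheme, F a coherent O_X-module and x a point of X. Then x is a
maximal associated point of F (an associated point such that every associated point specialising to
x equals x) if and only if x is the generic point of an irreducible component of Supp F, i.e. F_x ≠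
0 and every point y with F_y ≠ 0 that specialises to x equals x. -/
theorem result {X : Scheme.{u}} [IsLocallyNoetherian X] (F : X.Modules)
    (hF : Coh.IsCoh F) (x : X) :
    (x ∈ AssSch.Ass F ∧ ∀ y ∈ AssSch.Ass F, y ⤳ x → y = x) ↔
      (Nontrivial ↑(F.presheaf.stalk x) ∧ ∀ y : X, Nontrivial ↑(F.presheaf.stalk y) → y ⤳ x → y = x) := by
  have : F.IsQuasicoherent := hF.1
  have hass : ∀ y : X, y ∈ AssSch.Ass F ↔ Curv2.IsWeakAssPoint F y :=
    fun y => isAssPoint_iff_isWeakAssPoint F y
  have hnt : ∀ y : X, Nontrivial ↑(F.presheaf.stalk y) ↔ ¬ Subsingleton (F.presheaf.stalk y) :=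
    fun y => not_subsingleton_iff_nontrivial.symm
  constructor
  · rintro ⟨hx, hmin⟩
    refine ⟨(hnt x).2 (not_subsingleton_of_isWeakAssPoint F x ((hass x).1 hx)), ?_⟩
    intro y hy hyx
    obtain ⟨z, hzy, hz⟩ := exists_weakAss_specializes_of_not_subsingleton F y ((hnt y).1 hy)
    have hzx : z = x := hmin z ((hass z).2 hz) (hzy.trans hyx)
    rw [hzx] at hzy
    exact (hzy.antisymm hyx).eq.symm
  · rintro ⟨hx, hmin⟩
    refine ⟨(hass x).2 (isWeakAssPoint_of_maximal_support F x ((hnt x).1 hx)
      (fun y hy hyx => hmin y ((hnt y).2 hy) hyx)), ?_⟩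
    intro y hy hyx
    exact hmin y ((hnt y).2 (not_subsingleton_of_isWeakAssPoint F y ((hass y).1 hy))) hyx

end Groth.Agent.S4636
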