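import Groth.Statements.S5022
import Groth.Agent.Lib.Helper16.Sch.OmegaSmAt

set_option autoImplicit false
universe u
open CategoryTheory CategoryTheory.Limits AlgebraicGeometry TopologicalSpace
open Unram17

namespace Groth.Agent.S5022

/-- Let f : X ⟶ Y be locally of finite presentation, (Ω', d) a sheaf of differentials of X over Y (d
universal) and x a point of X. Then f is smooth at x if and only if the stalk map at x is flat and
there are an open neighbourhood U of x and an integer n with Ω' free of rank n on U and n equal to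
the local dimension at x of the fibre of f through x. -/
theorem result {X Y : Scheme.{u}} (f : X ⟶ Y)
    [LocallyOfFinitePresentation f] (Ω' : X.Modules) (d : OmegaSh.Der f Ω') (hd : OmegaSh.IsUniversal d) (x : ↥X) :
    x ∈ f.smoothLocus ↔
      (f.stalkMap x).hom.Flat ∧
        ∃ (U : X.Opens) (n : ℕ), x ∈ U ∧ Nonempty (Ω'.restrict U.ι ≅ FlatMod.freeMod (↑U) n) ∧
          FlatMor.fibreDimAt f x = (n : WithBot ℕ∞) := by
  constructor
  · intro hx
    refine ⟨Groth.Agent.Helper16.SmoothFibreSch.flat_stalkMap_of_mem_smoothLocus f x hx, ?_⟩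
    obtain ⟨V, hV, U, hU, hxU, e, hstd⟩ :=
      Groth.Agent.Helper16.OmegaSmAt.exists_chart_isStandardSmooth f x hx
    obtain ⟨n, hiso, hdim⟩ :=
      Groth.Agent.Helper16.OmegaSmAt.free_of_chart f Ω' d hd x hV hU hxU e hstd
    exact ⟨U, n, hxU, hiso, hdim⟩
  · rintro ⟨hflat, U, n, hxU, ⟨iso⟩, hdim⟩
    exact Groth.Agent.Helper16.OmegaSmAt.mem_smoothLocus_of_flat_of_free f Ω' d hd x hflat U n hxU
      iso hdim.ge

end Groth.Agent.S5022
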