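import Groth.Statements.S4647
import Mathlib

set_option autoImplicit false
open CategoryTheory AlgebraicGeometry
universe u
open FDesc

namespace Groth.Agent.S4647

/-- topological core: in a Noetherian quasi-sober space, a point with a "generic generization"
has a preirreducible open neighbourhood. -/
theorem exists_isOpen_isPreirreducible {T : Type*} [TopologicalSpace T]
    [TopologicalSpace.NoetherianSpace T] [QuasiSober T] (t₀ η : T)
    (hη : ∀ t' : T, t' ⤳ t₀ → η ⤳ t') :
    ∃ V : Set T, IsOpen V ∧ t₀ ∈ V ∧ IsPreirreducible V := by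
  have hfin : (irreducibleComponents T).Finite :=
    TopologicalSpace.NoetherianSpace.finite_irreducibleComponents
  let 𝒮 : Set (Set T) := {C | C ∈ irreducibleComponents T ∧ t₀ ∉ C}
  have h𝒮fin : 𝒮.Finite := hfin.subset fun C hC => hC.1
  have hScl : IsClosed (⋃₀ 𝒮) := by
    rw [Set.sUnion_eq_biUnion]
    exact h𝒮fin.isClosed_biUnion fun C hC => isClosed_of_mem_irreducibleComponents C hC.1
  refine ⟨(⋃₀ 𝒮)ᶜ, hScl.isOpen_compl, ?_, ?_⟩
  · rintro ⟨C, hC, htC⟩
    exact hC.2 htC
  · have hsub : (⋃₀ 𝒮)ᶜ ⊆ closure {η} := by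
      intro v hv
      have hC : irreducibleComponent v ∈ irreducibleComponents T :=
        irreducibleComponent_mem_irreducibleComponents v
      have ht₀ : t₀ ∈ irreducibleComponent v := by
        by_contra hn
        exact hv ⟨_, ⟨hC, hn⟩, mem_irreducibleComponent⟩
      obtain ⟨ζ, hζ⟩ := QuasiSober.sober (isIrreducible_irreducibleComponent (x := v))
        isClosed_irreducibleComponent
      have hζcl : closure {ζ} = irreducibleComponent v := hζ
      have h1 : ζ ⤳ t₀ := by
        rw [specializes_iff_mem_closure, hζcl]; exact ht₀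
      have h2 : η ⤳ ζ := hη ζ h1
      have h3 : v ∈ closure {ζ} := by rw [hζcl]; exact mem_irreducibleComponent
      exact h2.closure_subset h3
    exact isIrreducible_singleton.closure.isPreirreducible.open_subset hScl.isOpen_compl hsub

/-- Let f : X → Y be a faithfully flat (flat and surjective) morphism. If all local rings of X are
domains (in particular if X is locally integral) and the underlying space of Y is locally
Noetherian, then Y is locally integral: every point of Y has an open neighbourhood which is an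
integral scheme. -/
theorem result {X Y : Scheme.{u}} (f : X ⟶ Y) [Flat f] [Surjective f]
    (hX : ∀ x : X, IsDomain ↑(X.presheaf.stalk x))
    (hY : ∀ y : Y, ∃ U : Y.Opens, y ∈ U ∧ TopologicalSpace.NoetherianSpace ↥U) (y : Y) :
    ∃ U : Y.Opens, y ∈ U ∧ IsIntegral (U : Scheme.{u}) := by
  -- all stalks of `Y` are domains
  have hYdom : ∀ y : Y, IsDomain ↑(Y.presheaf.stalk y) := by
    intro y
    obtain ⟨x, rfl⟩ := f.surjective y
    have := hX x
    have hflat : (f.stalkMap x).hom.Flat := Flat.stalkMap f x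
    algebraize [(f.stalkMap x).hom]
    have : Module.FaithfullyFlat (Y.presheaf.stalk (f x)) (X.presheaf.stalk x) :=
      @Module.FaithfullyFlat.of_flat_of_isLocalHom _ _ _ _ _ _ _ hflat (f.toLRSHom.prop x)
    have hinj : Function.Injective (f.stalkMap x).hom :=
      FaithfulSMul.algebraMap_injective (Y.presheaf.stalk (f x)) (X.presheaf.stalk x)
    exact hinj.isDomain _
  have : ∀ y : Y, _root_.IsReduced ↑(Y.presheaf.stalk y) := fun y => by
    have := hYdom y
    infer_instance
  have hYred : IsReduced Y := isReduced_of_isReduced_stalk Y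
  obtain ⟨U₀, hyU₀, hU₀⟩ := hY y
  -- generic generization of y
  have hd := hYdom y
  let ξ : Spec (Y.presheaf.stalk y) := ⟨⊥, Ideal.isPrime_bot⟩
  let η : Y := Y.fromSpecStalk y ξ
  have hη : ∀ y' : Y, y' ⤳ y → η ⤳ y' := by
    intro y' hy'
    have h1 : y' ∈ Set.range (Y.fromSpecStalk y) := by
      rw [Scheme.range_fromSpecStalk]; exact hy'
    obtain ⟨q, rfl⟩ := h1
    have h2 : ξ ⤳ q :=
      (PrimeSpectrum.le_iff_specializes (ξ : PrimeSpectrum (Y.presheaf.stalk y)) q).1
        (bot_le (a := q.asIdeal))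
    exact h2.map (Y.fromSpecStalk y).continuous
  have hηy : η ⤳ y := by
    have h1 : η ∈ Set.range (Y.fromSpecStalk y) := ⟨ξ, rfl⟩
    rw [Scheme.range_fromSpecStalk] at h1
    exact h1
  have hηU₀ : η ∈ U₀ := hηy.mem_open U₀.2 hyU₀
  have hqs : QuasiSober ↥U₀ := inferInstanceAs (QuasiSober ↥(U₀ : Scheme.{u}))
  obtain ⟨V, hVo, hyV, hVirr⟩ := exists_isOpen_isPreirreducible (T := ↥U₀) ⟨y, hyU₀⟩ ⟨η, hηU₀⟩ (by
    intro t' ht'
    rw [subtype_specializes_iff] at ht' ⊢
    exact hη _ ht')
  let U : Y.Opens := ⟨Subtype.val '' V, U₀.2.isOpenMap_subtype_val V hVo⟩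
  have hyU : y ∈ U := ⟨⟨y, hyU₀⟩, hyV, rfl⟩
  refine ⟨U, hyU, ?_⟩
  have hUirr : IsIrreducible (U : Set Y) :=
    ⟨⟨y, hyU⟩, hVirr.image _ continuous_subtype_val.continuousOn⟩
  have : IrreducibleSpace ↥(U : Scheme.{u}) := isIrreducible_iff_irreducibleSpace.1 hUirr
  exact isIntegral_of_irreducibleSpace_of_isReduced (U : Scheme.{u})

end Groth.Agent.S4647
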