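import Groth.Statements.S4442
import Mathlib
import Groth.Agent.S2680
import Groth.Agent.Lib.Helper14.FieldSchemeBridge
import Groth.Agent.Lib.Helper14.DimIneqGen
-- import your own Groth.Agent.* helpers here

set_option autoImplicit false
universe u
open CategoryTheory CategoryTheory.Limits AlgebraicGeometry
attribute [local instance] Curv2.resAlgebra
open EGA2

namespace Groth.Agent.S4442

open Groth.Agent.Helper14

theorem isClosed_fromSpec_iff (k : Type u) [Field k] (X : Scheme.{u})
    [X.Over (Spec (CommRingCat.of k))] [LocallyOfFiniteType (X ↘ (Spec (CommRingCat.of k)))]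
    {U : X.Opens} (hU : IsAffineOpen U) (y : PrimeSpectrum Γ(X, U)) :
    IsClosed ({hU.fromSpec y} : Set X) ↔ y.asIdeal.IsMaximal := by
  haveI : JacobsonSpace X := LocallyOfFiniteType.jacobsonSpace (X ↘ (Spec (CommRingCat.of k)))
  have h := hU.fromSpec.isOpenEmbedding.preimage_closedPoints
  rw [← PrimeSpectrum.isClosed_singleton_iff_isMaximal]
  have h2 : y ∈ hU.fromSpec ⁻¹' closedPoints X ↔ y ∈ closedPoints (Spec Γ(X, U)) := by rw [h]
  exact h2

theorem minimal_of_closure_mem {X : Scheme.{u}} {U : X.Opens} (hU : IsAffineOpen U) (x : X)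
    (hx : x ∈ U) (h : closure ({x} : Set X) ∈ irreducibleComponents X) :
    (hU.primeIdealOf ⟨x, hx⟩).asIdeal ∈ minimalPrimes Γ(X, U) := by
  rw [minimalPrimes_eq_minimals]
  refine ⟨(hU.primeIdealOf ⟨x, hx⟩).isPrime, fun J hJ hJQ => ?_⟩
  have hsp : hU.fromSpec ⟨J, hJ⟩ ⤳ hU.fromSpec (hU.primeIdealOf ⟨x, hx⟩) :=
    (ResFieldBridge.specializes_fromSpec_iff hU _ _).mpr hJQ
  have hx' : hU.fromSpec (hU.primeIdealOf ⟨x, hx⟩) = x := hU.fromSpec_primeIdealOf ⟨x, hx⟩
  have hle : closure {x} ⊆ closure {hU.fromSpec ⟨J, hJ⟩} := by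
    rw [hx'] at hsp
    exact hsp.closure_subset
  have h2 := h.2 isIrreducible_singleton.closure hle
  have hsp2 : x ⤳ hU.fromSpec ⟨J, hJ⟩ :=
    specializes_iff_mem_closure.mpr (h2 (subset_closure rfl))
  rw [← hx', ResFieldBridge.specializes_fromSpec_iff] at hsp2
  exact hsp2

/-- for a maximal ideal `q` over a prime `Q` in a finite type `k`-algebra,
`ht (q/Q) = trdeg k (A/Q)`, and `ht (q/Q) ≤ ht q`. -/
theorem height_quot (k A : Type u) [Field k] [CommRing A] [Algebra k A] [Algebra.FiniteType k A]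
    (Q q : Ideal A) [hQ : Q.IsPrime] [hq : q.IsMaximal] (hQq : Q ≤ q) :
    ((q.map (Ideal.Quotient.mk Q)).height : Cardinal.{u}) = Algebra.trdeg k (A ⧸ Q) ∧
      (q.map (Ideal.Quotient.mk Q)).height ≤ q.height ∧
      ((q.map (Ideal.Quotient.mk Q)).height = 0 → q = Q) := by
  have hφ : Function.Surjective (Ideal.Quotient.mk Q) := Ideal.Quotient.mk_surjective
  haveI hmax : (q.map (Ideal.Quotient.mk Q)).IsMaximal :=
    Ideal.IsMaximal.map_of_surjective_of_ker_le hφ (by rw [Ideal.mk_ker]; exact hQq)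
  have hcomap : (q.map (Ideal.Quotient.mk Q)).comap (Ideal.Quotient.mk Q) = q := by
    rw [Ideal.comap_map_of_surjective' _ hφ, Ideal.mk_ker]
    exact sup_eq_left.mpr hQq
  refine ⟨S2680.height_maximal k (A ⧸ Q) _, ?_, ?_⟩
  · have := DimIneq.height_le_height_comap (Ideal.Quotient.mk Q) hφ (q.map (Ideal.Quotient.mk Q))
    rwa [hcomap] at this
  · intro h0
    rw [Ideal.height_eq_zero_iff_eq_bot] at h0
    rw [← hcomap, h0, ← RingHom.ker_eq_comap_bot, Ideal.mk_ker]

/-- (a) ⇔ (b): let X be a scheme of finite type over a field k. The residue fields of the generic points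
of the irreducible components of X all have transcendence degree one over k if and only if the local
ring of X at every closed point has dimension one. (The published statement has a third equivalent
condition: the irreducible closed subsets of X other than the irreducible components are exactly the
closed points of X. This row states only the equivalence of the first two.) -/
theorem result (k : Type u) [Field k] (X : Scheme.{u})
    [X.Over (Spec (CommRingCat.of k))] [LocallyOfFiniteType (X ↘ (Spec (CommRingCat.of k)))]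
    [QuasiCompact (X ↘ (Spec (CommRingCat.of k)))] :
    (∀ x : X, closure ({x} : Set X) ∈ irreducibleComponents (X : Type u) → Algebra.trdeg k (X.residueField x) = 1) ↔
      ∀ x : X, IsClosed ({x} : Set X) → ringKrullDim (X.presheaf.stalk x) = 1 := by
  constructor
  · intro ha x hxc
    obtain ⟨U, hU, hxU, -⟩ :=
      exists_isAffineOpen_mem_and_subset (X := X) (x := x) (U := ⊤) trivial
    letI alg : Algebra k Γ(X, U) := (FieldSchemeBridge.kU k X U).toAlgebra
    have halg : algebraMap k Γ(X, U) = FieldSchemeBridge.kU k X U := rfl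
    haveI : Algebra.FiniteType k Γ(X, U) := FieldSchemeBridge.kU_finiteType k X hU
    haveI : IsNoetherianRing Γ(X, U) := Algebra.FiniteType.isNoetherianRing k _
    rw [ResFieldBridge.ringKrullDim_stalk hU x hxU]
    have hx' : hU.fromSpec (hU.primeIdealOf ⟨x, hxU⟩) = x := hU.fromSpec_primeIdealOf ⟨x, hxU⟩
    have hqmax : (hU.primeIdealOf ⟨x, hxU⟩).asIdeal.IsMaximal := by
      rw [← isClosed_fromSpec_iff k X hU, hx']; exact hxc
    generalize (hU.primeIdealOf ⟨x, hxU⟩).asIdeal = q at hqmax
    haveI := hqmax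
    obtain ⟨Q, hQp, hQmin, hQq, hht⟩ := DimIneqGen.exists_minimalPrime_height_le Γ(X, U) q
    have hcomp := ResFieldBridge.closure_mem_irreducibleComponents hU ⟨Q, hQp⟩ hQmin
    have htr := ha _ hcomp
    haveI : Q.LiesOver (⊥ : Ideal k) := FieldSchemeBridge.liesOver_bot k Q
    rw [FieldSchemeBridge.trdeg_resAlgebra_eq k X hU _ (ResFieldBridge.fromSpec_mem hU ⟨Q, hQp⟩)
      halg Q (by rw [ResFieldBridge.primeIdealOf_fromSpec]),
      FieldSchemeBridge.trdeg_quotient_base] at htr
    obtain ⟨h1, h2, -⟩ := height_quot k Γ(X, U) Q q hQq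
    rw [htr, Cardinal.ofENat_eq_one] at h1
    rw [h1] at hht h2
    have : q.height = 1 := le_antisymm hht h2
    rw [this]
    rfl
  · intro hb x hcomp
    obtain ⟨U, hU, hxU, -⟩ :=
      exists_isAffineOpen_mem_and_subset (X := X) (x := x) (U := ⊤) trivial
    letI alg : Algebra k Γ(X, U) := (FieldSchemeBridge.kU k X U).toAlgebra
    have halg : algebraMap k Γ(X, U) = FieldSchemeBridge.kU k X U := rfl
    haveI : Algebra.FiniteType k Γ(X, U) := FieldSchemeBridge.kU_finiteType k X hU
    haveI : IsNoetherianRing Γ(X, U) := Algebra.FiniteType.isNoetherianRing k _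
    have hQmin := minimal_of_closure_mem hU x hxU hcomp
    haveI hQp : (hU.primeIdealOf ⟨x, hxU⟩).asIdeal.IsPrime := (hU.primeIdealOf ⟨x, hxU⟩).isPrime
    haveI : (hU.primeIdealOf ⟨x, hxU⟩).asIdeal.LiesOver (⊥ : Ideal k) :=
      FieldSchemeBridge.liesOver_bot k _
    rw [FieldSchemeBridge.trdeg_resAlgebra_eq k X hU x hxU halg _ rfl,
      FieldSchemeBridge.trdeg_quotient_base]
    generalize (hU.primeIdealOf ⟨x, hxU⟩).asIdeal = Q at hQmin hQp
    obtain ⟨q, hqmax, hQq⟩ := Ideal.exists_le_maximal Q hQp.ne_top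
    have hclosed : IsClosed {hU.fromSpec ⟨q, hqmax.isPrime⟩} :=
      (isClosed_fromSpec_iff k X hU _).mpr hqmax
    have hdim := hb _ hclosed
    rw [ResFieldBridge.ringKrullDim_stalk hU _ (ResFieldBridge.fromSpec_mem hU _),
      ResFieldBridge.primeIdealOf_fromSpec] at hdim
    have hq1 : q.height = 1 := by exact_mod_cast hdim
    obtain ⟨h1, h2, h3⟩ := height_quot k Γ(X, U) Q q hQq
    rw [← h1, Cardinal.ofENat_eq_one]
    rw [hq1] at h2
    refine le_antisymm h2 ?_
    rw [Order.one_le_iff_pos, pos_iff_ne_zero]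
    intro h0
    have hqQ := h3 h0
    rw [hqQ, Ideal.height_eq_zero_iff.mpr hQmin] at hq1
    exact zero_ne_one hq1

end Groth.Agent.S4442
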