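import Groth.Statements.S1354
import Groth.Agent.Lib.Helper16.Sch.QFSch
import Groth.Agent.Lib.Helper16.Sch.PBRes

set_option autoImplicit false
universe u
open FlatMor

namespace Groth.Agent.S1354

open AlgebraicGeometry CategoryTheory Limits in
/-- Let f be locally of finite type, s a point of the target, and x_1, ..., x_n points over s at each of
which f is quasi-finite. Then there are an elementary étale neighbourhood (U, u) of (S, s) and, for
each i, an open V_i of the base change of X to U which is finite over U, has exactly one point v_i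
over u, and v_i maps to x_i inducing a bijection of residue fields. -/
theorem result {X S : Scheme.{u}} (f : X ⟶ S) [LocallyOfFiniteType f] (s : S) {ι : Type} [Finite ι]
    (x : ι → ↑X) (hs : ∀ i, f (x i) = s) (hx : ∀ i, f.QuasiFiniteAt (x i)) :
    ∃ (U : Scheme.{u}) (g : U ⟶ S) (u : U), Hens2.IsEtaleNbhd g u s ∧
      ∃ (V : ι → (pullback f g).Opens) (v : ι → ↑(pullback f g)), ∀ i, v i ∈ V i ∧ IsFinite ((V i).ι ≫ pullback.snd f g) ∧
        pullback.snd f g (v i) = u ∧ (∀ w : ↑(pullback f g), w ∈ V i → pullback.snd f g w = u → w = v i) ∧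
        pullback.fst f g (v i) = x i ∧ Function.Bijective ((pullback.fst f g).residueFieldMap (v i)) := by
  obtain ⟨R', g, u, hg, hgu, hsur, hpd, huniq⟩ :=
    Groth.Agent.Helper16.QFSch.qfMain_triv f s x hs hx
  have key : ∀ i, ∃ (V : (pullback f g).Opens) (v : ↑(pullback f g)), v ∈ V ∧
      IsFinite (V.ι ≫ pullback.snd f g) ∧ pullback.snd f g v = u ∧
      (∀ w : ↑(pullback f g), w ∈ V → pullback.snd f g w = u → w = v) ∧
      pullback.fst f g v = x i ∧ Function.Bijective ((pullback.fst f g).residueFieldMap v) := by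
    intro i
    obtain ⟨J, hJ, Q, α, h, r, hoi, hsnd, hfin, hru, hruniq, hfst, hdisj, hcov, -⟩ := hpd i
    haveI := hoi
    obtain ⟨w, hwx, hwu⟩ := Scheme.Pullback.exists_preimage_pullback (x i) u
      ((hs i).trans hgu.symm)
    obtain ⟨j, a, rfl⟩ := hcov w hwu hwx
    have hsnd' : ∀ a : Spec (Q j), pullback.snd f g (h j a) = Spec.map (α j) a := by
      intro a
      rw [← hsnd j]
      rfl
    have har : a = r j := hruniq j a (by rw [← hsnd']; exact hwu)
    subst har
    refine ⟨(h j).opensRange, h j (r j), ⟨_, rfl⟩, ?_, hwu, ?_, hwx, ?_⟩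
    · rw [← MorphismProperty.cancel_left_of_respectsIso @IsFinite (h j).isoOpensRange.hom,
        Scheme.Hom.isoOpensRange_hom_ι_assoc, hsnd]
      exact (IsFinite.SpecMap_iff _).mpr (hfin j)
    · rintro _ ⟨b, rfl⟩ hb
      rw [hsnd'] at hb
      rw [hruniq j b hb]
    · refine ⟨((pullback.fst f g).residueFieldMap _).hom.injective, ?_⟩
      apply Groth.Agent.Helper16.PBRes.surjective_residueFieldMap_fst
      rw [hwu]
      exact hsur
  choose V v hV using key
  refine ⟨Spec R', g, u, ⟨hg, hgu, ⟨(g.residueFieldMap u).hom.injective, hsur⟩⟩, V, v, hV⟩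

end Groth.Agent.S1354
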