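import Groth.Statements.S0348
import Groth.Agent.Lib.Helper4.GrpConn

set_option autoImplicit false
universe u v
open CategoryTheory MonoidalCategory CartesianMonoidalCategory MonObj GrpObj AlgebraicGeometry
open GrpSch

namespace Groth.Agent.S0348

/-- A connected group scheme over a field is irreducible. -/
theorem result (K : Type u) [Field K] (G : Over (Spec (CommRingCat.of K))) [GrpObj G] [ConnectedSpace G.left] : IrreducibleSpace G.left := by
  exact Groth.Agent.Helper4.GrpConn.irreducibleSpace_of_connectedSpace G

end Groth.Agent.S0348
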