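import Groth.Statements.S14768
import Mathlib

set_option autoImplicit false
universe u
open CategoryTheory CategoryTheory.Limits AlgebraicGeometry
open Subtr

namespace Groth.Agent.S14768

open IsLocalRing in
theorem exists_valuationRing_of_specializes {Y : Scheme.{u}} {y y' : Y} (h : y' ⤳ y) :
    ∃ (V : Type u) (_ : CommRing V) (_ : IsDomain V) (_ : ValuationRing V)
      (g : Spec (CommRingCat.of V) ⟶ Y),
      g (IsLocalRing.closedPoint V) = y ∧ g (⟨⊥, Ideal.isPrime_bot⟩ : PrimeSpectrum V) = y' := by
  let φ : Y.presheaf.stalk y ⟶ Y.residueField y' := Y.presheaf.stalkSpecializes h ≫ Y.residue y'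
  obtain ⟨A, hA, hA_local⟩ := exists_factor_valuationRing φ.hom
  let ψ : Y.presheaf.stalk y ⟶ CommRingCat.of A := CommRingCat.ofHom (φ.hom.codRestrict _ hA)
  refine ⟨A, inferInstance, inferInstance, inferInstance, Spec.map ψ ≫ Y.fromSpecStalk y, ?_, ?_⟩
  · rw [Scheme.Hom.comp_apply]
    have h1 : Spec.map ψ (closedPoint A) = closedPoint (Y.presheaf.stalk y) :=
      comap_closedPoint (S := A) (φ.hom.codRestrict A.toSubring hA)
    rw [h1, Y.fromSpecStalk_closedPoint]
  · let ι : CommRingCat.of A ⟶ Y.residueField y' :=
      CommRingCat.ofHom (algebraMap A (Y.residueField y'))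
    have hfac : ψ ≫ ι = φ := by ext; rfl
    have hgen : (⟨⊥, Ideal.isPrime_bot⟩ : PrimeSpectrum A) =
        Spec.map ι (⟨⊥, Ideal.isPrime_bot⟩ : PrimeSpectrum (Y.residueField y')) := by
      apply PrimeSpectrum.ext
      show (⊥ : Ideal A) = Ideal.comap (algebraMap A (Y.residueField y')) ⊥
      exact (Ideal.comap_bot_of_injective _ (IsFractionRing.injective A (Y.residueField y'))).symm
    rw [hgen, ← Scheme.Hom.comp_apply, ← Category.assoc, ← Spec.map_comp, hfac]
    have h2 : Spec.map φ ≫ Y.fromSpecStalk y = Y.fromSpecResidueField y' := by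
      show Spec.map (Y.presheaf.stalkSpecializes h ≫ Y.residue y') ≫ _ = _
      rw [Spec.map_comp, Category.assoc, Scheme.SpecMap_stalkSpecializes_fromSpecStalk]
      rfl
    rw [h2, Scheme.fromSpecResidueField_apply]


/-- Let f : X ⟶ Y be any morphism of schemes. Then every base change of f has the lifting property for
ordered pairs of points if and only if this holds for the base changes X ×_Y Spec V ⟶ Spec V along
all morphisms Spec V ⟶ Y with V a valuation ring. (The published statement is about universally
subtrusive morphisms and assumes f universally submersive for the constructible topologies; the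
lifting property alone descends from valuation rings with the same proof, and for quasi-compact f
the two statements agree.) -/
theorem result {X Y : Scheme.{u}} (f : X ⟶ Y) :
    Subtr.UnivSSubtrusive f ↔
      ∀ (V : Type u) [CommRing V] [IsDomain V] [ValuationRing V] (g : Spec (CommRingCat.of V) ⟶ Y),
        Subtr.IsSSubtrusive (pullback.snd f g) := by
  constructor
  · intro hf V _ _ _ g
    exact hf (pullback.fst f g) g (pullback.snd f g) (IsPullback.of_hasPullback f g).flip
  · intro H X' Y' i₁ i₂ f' hpb y y' hyy
    obtain ⟨V, _, _, _, g, hg1, hg2⟩ := exists_valuationRing_of_specializes hyy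
    have hS := H V (g ≫ i₂)
    have hηs : (⟨⊥, Ideal.isPrime_bot⟩ : PrimeSpectrum V) ⤳ IsLocalRing.closedPoint V :=
      (PrimeSpectrum.le_iff_specializes _ _).1 bot_le
    obtain ⟨p, p', hpp, hp, hp'⟩ := hS hηs
    let u : pullback f (g ≫ i₂) ⟶ X' :=
      hpb.lift (pullback.snd _ _ ≫ g) (pullback.fst _ _)
        (by rw [Category.assoc, ← pullback.condition])
    have hu : u ≫ f' = pullback.snd _ _ ≫ g := hpb.lift_fst _ _ _
    refine ⟨u p, u p', hpp.map u.continuous, ?_, ?_⟩
    · rw [← Scheme.Hom.comp_apply, hu, Scheme.Hom.comp_apply, hp, hg1]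
    · rw [← Scheme.Hom.comp_apply, hu, Scheme.Hom.comp_apply, hp', hg2]

end Groth.Agent.S14768
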