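import Groth.Statements.S14769
import Mathlib
import Groth.Agent.S14768

set_option autoImplicit false
universe u
open CategoryTheory CategoryTheory.Limits AlgebraicGeometry
open Subtr

namespace Groth.Agent.S14769

theorem surjective_of_local_injective {V V' : Type u} [CommRing V] [IsDomain V] [ValuationRing V]
    [CommRing V'] [IsDomain V'] [IsLocalRing V'] (β : V →+* V')
    (hinj : Function.Injective β) (hloc : IsLocalHom β) :
    Function.Surjective (PrimeSpectrum.comap β) := by
  letI : Algebra V V' := β.toAlgebra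
  have htors : Submodule.torsion V V' = ⊥ := by
    rw [eq_bot_iff]
    intro w hw
    obtain ⟨a, ha⟩ := (Submodule.mem_torsion_iff w).1 hw
    have h1 : β a * w = 0 := ha
    rcases mul_eq_zero.1 h1 with h2 | h2
    · exact absurd (hinj (h2.trans (map_zero β).symm)) (nonZeroDivisors.ne_zero a.2)
    · exact (Submodule.mem_bot _).2 h2
  haveI : Module.Flat V V' := Module.Flat.flat_iff_torsion_eq_bot_of_isBezout.2 htors
  haveI : IsLocalHom (algebraMap V V') := hloc
  haveI : Module.FaithfullyFlat V V' := Module.FaithfullyFlat.of_flat_of_isLocalHom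
  exact PrimeSpectrum.comap_surjective_of_faithfullyFlat


/-- Let f : X ⟶ Y be any morphism of schemes. Then every base change of f has the lifting property for
ordered pairs of points if and only if, for every valuation ring V and morphism g : Spec V ⟶ Y,
there are a valuation ring V', a morphism a : Spec V' ⟶ X and a surjective morphism b : Spec V' ⟶
Spec V with a ≫ f = b ≫ g. (The published statement assumes f universally submersive for the
constructible topologies and concludes universal subtrusiveness; for quasi-compact f the two agree.) -/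
theorem result {X Y : Scheme.{u}} (f : X ⟶ Y) :
    Subtr.UnivSSubtrusive f ↔
      ∀ (V : Type u) [CommRing V] [IsDomain V] [ValuationRing V] (g : Spec (CommRingCat.of V) ⟶ Y),
        ∃ (V' : Type u) (_ : CommRing V') (_ : IsDomain V') (_ : ValuationRing V')
          (a : Spec (CommRingCat.of V') ⟶ X) (b : Spec (CommRingCat.of V') ⟶ Spec (CommRingCat.of V)),
          Surjective b ∧ a ≫ f = b ≫ g := by
  constructor
  · intro hf V _ _ _ g
    have hS : Subtr.IsSSubtrusive (pullback.snd f g) :=
      hf (pullback.fst f g) g (pullback.snd f g) (IsPullback.of_hasPullback f g).flip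
    have hηs : (⟨⊥, Ideal.isPrime_bot⟩ : PrimeSpectrum V) ⤳ IsLocalRing.closedPoint V :=
      (PrimeSpectrum.le_iff_specializes _ _).1 bot_le
    obtain ⟨p, p', hpp, hp, hp'⟩ := hS hηs
    obtain ⟨V', _, _, _, k, hk1, hk2⟩ :=
      Groth.Agent.S14768.exists_valuationRing_of_specializes hpp
    refine ⟨V', inferInstance, inferInstance, inferInstance, k ≫ pullback.fst f g,
      k ≫ pullback.snd f g, ?_, ?_⟩
    · -- surjectivity
      let β : CommRingCat.of V ⟶ CommRingCat.of V' := Spec.preimage (k ≫ pullback.snd f g)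
      have hβ : Spec.map β = k ≫ pullback.snd f g := Spec.map_preimage _
      have hcl : (Spec.map β) (IsLocalRing.closedPoint V') = IsLocalRing.closedPoint V := by
        rw [hβ, Scheme.Hom.comp_apply, hk1, hp]
      have hgen : (Spec.map β) (⟨⊥, Ideal.isPrime_bot⟩ : PrimeSpectrum V') =
          (⟨⊥, Ideal.isPrime_bot⟩ : PrimeSpectrum V) := by
        rw [hβ, Scheme.Hom.comp_apply, hk2, hp']
      have hinj : Function.Injective β.hom := by
        rw [RingHom.injective_iff_ker_eq_bot, RingHom.ker_eq_comap_bot]
        exact congrArg PrimeSpectrum.asIdeal hgen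
      have hloc : IsLocalHom β.hom := by
        have h5 := ((IsLocalRing.local_hom_TFAE β.hom).out 0 4)
        rw [h5]
        exact congrArg PrimeSpectrum.asIdeal hcl
      have hsurj := surjective_of_local_injective β.hom hinj hloc
      rw [← hβ]
      exact ⟨hsurj⟩
    · rw [Category.assoc, Category.assoc, pullback.condition]
  · intro H X' Y' i₁ i₂ f' hpb y y' hyy
    obtain ⟨V, _, _, _, g, hg1, hg2⟩ :=
      Groth.Agent.S14768.exists_valuationRing_of_specializes hyy
    obtain ⟨V', _, _, _, a, b, hb, hab⟩ := H V (g ≫ i₂)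
    let u : Spec (CommRingCat.of V') ⟶ X' :=
      hpb.lift (b ≫ g) a (by rw [Category.assoc, hab])
    have hu : u ≫ f' = b ≫ g := hpb.lift_fst _ _ _
    obtain ⟨t, ht⟩ := hb.surj (IsLocalRing.closedPoint V)
    obtain ⟨t'', ht''⟩ := hb.surj (⟨⊥, Ideal.isPrime_bot⟩ : PrimeSpectrum V)
    have hξt : (⟨⊥, Ideal.isPrime_bot⟩ : PrimeSpectrum V') ⤳ t :=
      (PrimeSpectrum.le_iff_specializes _ _).1 bot_le
    have hξt'' : (⟨⊥, Ideal.isPrime_bot⟩ : PrimeSpectrum V') ⤳ t'' :=
      (PrimeSpectrum.le_iff_specializes _ _).1 bot_le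
    have hbξ : b (⟨⊥, Ideal.isPrime_bot⟩ : PrimeSpectrum V') =
        (⟨⊥, Ideal.isPrime_bot⟩ : PrimeSpectrum V) := by
      have h1 := hξt''.map b.continuous
      rw [ht''] at h1
      have h2 := (PrimeSpectrum.le_iff_specializes _ _).2 h1
      exact PrimeSpectrum.ext (le_bot_iff.1 h2)
    refine ⟨u t, u (⟨⊥, Ideal.isPrime_bot⟩ : PrimeSpectrum V'), hξt.map u.continuous, ?_, ?_⟩
    · rw [← Scheme.Hom.comp_apply, hu, Scheme.Hom.comp_apply, ht, hg1]
    · rw [← Scheme.Hom.comp_apply, hu, Scheme.Hom.comp_apply, hbξ, hg2]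

end Groth.Agent.S14769
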