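import Groth.Statements.S14765
import Mathlib
import Groth.Agent.S14769

set_option autoImplicit false
universe u
open CategoryTheory CategoryTheory.Limits AlgebraicGeometry
open Subtr

namespace Groth.Agent.S14765

theorem univSSubtrusive_of_comp_flat_surjective {Z X Y : Scheme.{u}} (i : Z ⟶ X) (f : X ⟶ Y)
    [Flat (i ≫ f)] [Surjective (i ≫ f)] : Subtr.UnivSSubtrusive f := by
  intro X' Y' i₁ i₂ f' hpb y y' hyy
  have hgen : GeneralizingMap (pullback.snd (i ≫ f) i₂) := Flat.generalizingMap _
  obtain ⟨p, hp⟩ := (pullback.snd (i ≫ f) i₂).surjective y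
  obtain ⟨p', hpp, hp'⟩ := hgen (show y' ⤳ (pullback.snd (i ≫ f) i₂) p by rw [hp]; exact hyy)
  let u : pullback (i ≫ f) i₂ ⟶ X' :=
    hpb.lift (pullback.snd (i ≫ f) i₂) (pullback.fst (i ≫ f) i₂ ≫ i)
      (by rw [Category.assoc]; exact pullback.condition.symm)
  have hu : u ≫ f' = pullback.snd (i ≫ f) i₂ := hpb.lift_fst _ _ _
  refine ⟨u p, u p', hpp.map u.continuous, ?_, ?_⟩
  · rw [← Scheme.Hom.comp_apply, hu, hp]
  · rw [← Scheme.Hom.comp_apply, hu, hp']

theorem appLE_congr_hom {X Y : Scheme.{u}} {f g : X ⟶ Y} (h : f = g) (U : Y.Opens) (W : X.Opens)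
    (e : W ≤ f ⁻¹ᵁ U) : f.appLE U W e = g.appLE U W (h ▸ e) := by
  subst h; rfl

theorem exists_flat_closed_of_closure {V : Type u} [CommRing V] [IsDomain V] [ValuationRing V]
    {X : Scheme.{u}} (f : X ⟶ Spec (CommRingCat.of V))
    (H : ∀ y : Spec (CommRingCat.of V), ∃ x : X,
        x ∈ closure (f ⁻¹' {(⟨⊥, Ideal.isPrime_bot⟩ : PrimeSpectrum V)}) ∧ f x = y) :
    ∃ (Z : Scheme.{u}) (i : Z ⟶ X), IsClosedImmersion i ∧ Flat (i ≫ f) ∧ Surjective (i ≫ f) := by
  let K := FractionRing V
  let jK : Spec (CommRingCat.of K) ⟶ Spec (CommRingCat.of V) :=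
    Spec.map (CommRingCat.ofHom (algebraMap V K))
  let j : pullback f jK ⟶ X := pullback.fst f jK
  let q : pullback f jK ⟶ Spec (CommRingCat.of K) := pullback.snd f jK
  have hcond : j ≫ f = q ≫ jK := pullback.condition
  haveI : QuasiCompact j := inferInstance
  refine ⟨j.image, j.imageι, inferInstance, ?_, ?_⟩
  · -- flat
    apply HasRingHomProperty.of_iSup_eq_top (P := @Flat)
      (U := fun W : X.affineOpens =>
        (⟨j.imageι ⁻¹ᵁ W.1, W.2.preimage j.imageι⟩ : j.image.affineOpens))
    · show ⨆ W : X.affineOpens, j.imageι ⁻¹ᵁ (W : X.Opens) = ⊤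
      rw [← Scheme.Hom.preimage_iSup, iSup_affineOpens_eq_top]
      rfl
    · intro W
      let O : j.image.Opens := j.imageι ⁻¹ᵁ W.1
      let h : j.image ⟶ Spec (CommRingCat.of V) := j.imageι ≫ f
      let φ : Γ(Spec (CommRingCat.of V), ⊤) ⟶ Γ(j.image, O) := h.appLE ⊤ O le_top
      let τ : Γ(j.image, O) ⟶ Γ(pullback f jK, j.toImage ⁻¹ᵁ O) := j.toImage.app O
      have hτ : Function.Injective τ := j.toImage_app_injective W
      show φ.hom.Flat
      rw [← RingHom.Flat.respectsIso.cancel_left_isIso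
        (Scheme.ΓSpecIso (CommRingCat.of V)).inv φ]
      let ψ : V →+* Γ(j.image, O) := φ.hom.comp (Scheme.ΓSpecIso (CommRingCat.of V)).inv.hom
      show ψ.Flat
      -- key identity
      have hth : j.toImage ≫ h = q ≫ jK := by
        show j.toImage ≫ j.imageι ≫ f = _
        rw [Scheme.Hom.toImage_imageι_assoc]; exact hcond
      let ρ : K →+* Γ(pullback f jK, j.toImage ⁻¹ᵁ O) :=
        (q.appLE ⊤ (j.toImage ⁻¹ᵁ O) le_top).hom.comp
          (Scheme.ΓSpecIso (CommRingCat.of K)).inv.hom
      have hkey : ∀ a : V, τ (ψ a) = ρ (algebraMap V K a) := by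
        intro a
        have h1 : φ ≫ τ = (j.toImage ≫ h).appLE ⊤ (j.toImage ⁻¹ᵁ O) le_top := by
          show h.appLE ⊤ O le_top ≫ j.toImage.app O = _
          rw [Scheme.Hom.app_eq_appLE, Scheme.Hom.appLE_comp_appLE]
        have h2 : (j.toImage ≫ h).appLE ⊤ (j.toImage ⁻¹ᵁ O) le_top =
            jK.appLE ⊤ ⊤ le_top ≫ q.appLE ⊤ (j.toImage ⁻¹ᵁ O) le_top := by
          rw [Scheme.Hom.appLE_comp_appLE]
          exact appLE_congr_hom hth _ _ _
        have h3 : (Scheme.ΓSpecIso (CommRingCat.of V)).inv ≫ jK.appLE ⊤ ⊤ le_top =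
            CommRingCat.ofHom (algebraMap V K) ≫ (Scheme.ΓSpecIso (CommRingCat.of K)).inv := by
          rw [Scheme.ΓSpecIso_inv_naturality]
          rfl
        have h4 : (Scheme.ΓSpecIso (CommRingCat.of V)).inv ≫ φ ≫ τ =
            CommRingCat.ofHom (algebraMap V K) ≫ (Scheme.ΓSpecIso (CommRingCat.of K)).inv ≫
              q.appLE ⊤ (j.toImage ⁻¹ᵁ O) le_top := by
          rw [h1, h2, ← Category.assoc, h3, Category.assoc]
        exact congrArg (fun m => m.hom a) h4
      letI : Algebra V Γ(j.image, O) := ψ.toAlgebra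
      show Module.Flat V Γ(j.image, O)
      rw [Module.Flat.flat_iff_torsion_eq_bot_of_isBezout, eq_bot_iff]
      intro b hb
      obtain ⟨a, ha⟩ := (Submodule.mem_torsion_iff b).1 hb
      have h1 : ψ a * b = 0 := ha
      have h2 : τ (ψ a) * τ b = 0 := by
        rw [← map_mul, h1, map_zero]
      have hu : IsUnit (τ (ψ (a : V))) := by
        rw [hkey]
        apply IsUnit.map
        apply IsUnit.mk0
        intro h0
        exact nonZeroDivisors.ne_zero a.2
          (IsFractionRing.injective V K (h0.trans (map_zero _).symm))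
      have h3 : τ b = 0 := (hu.mul_right_eq_zero).1 h2
      exact (Submodule.mem_bot _).2 (hτ (h3.trans (map_zero τ.hom).symm))
  · -- surjective
    constructor
    intro y
    obtain ⟨x, hx, hxy⟩ := H y
    have hsub : f ⁻¹' {(⟨⊥, Ideal.isPrime_bot⟩ : PrimeSpectrum V)} ⊆ Set.range j := by
      rw [Scheme.Pullback.range_fst]
      intro x hx
      simp only [Set.mem_preimage, Set.mem_singleton_iff] at hx
      refine ⟨(⟨⊥, Ideal.isPrime_bot⟩ : PrimeSpectrum K), ?_⟩
      rw [hx]
      apply PrimeSpectrum.ext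
      show Ideal.comap (algebraMap V K) ⊥ = ⊥
      exact Ideal.comap_bot_of_injective _ (IsFractionRing.injective V K)
    have hx2 : x ∈ Set.range j.imageι := by
      rw [Scheme.IdealSheafData.range_subschemeι, Scheme.Hom.support_ker]
      exact closure_mono hsub hx
    obtain ⟨z, rfl⟩ := hx2
    exact ⟨z, by rw [Scheme.Hom.comp_apply]; exact hxy⟩

/-- Let V be a valuation ring and f : X ⟶ Spec V any morphism of schemes. The following are equivalent:
(a) after every base change, every ordered pair of points of the target (a point and a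
specialization of it) lifts to an ordered pair of points of the source; (b) every ordered pair of
points of Spec V lifts to an ordered pair of points of X; (c) every point of Spec V is the image of
a point of X lying in the closure of the generic fibre; (d) the pair formed by the closed point and
the generic point of Spec V lifts to points x, x' of X with x a specialization of x'; (e) there are
a valuation ring W and a morphism Spec W ⟶ X whose composite with f is surjective; (f) there is a
closed subscheme Z of X such that Z ⟶ Spec V is flat and surjective. (The published list also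
contains subtrusiveness and universal subtrusiveness, which add submersiveness for the constructible
topology, and the lifting of arbitrary chains of points; this row omits those items and keeps the
lifting property alone in (a).) -/
theorem result (V : Type u) [CommRing V] [IsDomain V] [ValuationRing V]
    {X : Scheme.{u}} (f : X ⟶ Spec (CommRingCat.of V)) :
    List.TFAE [
      Subtr.UnivSSubtrusive f,
      Subtr.IsSSubtrusive f,
      ∀ y : Spec (CommRingCat.of V), ∃ x : X,
        x ∈ closure (f ⁻¹' {(⟨⊥, Ideal.isPrime_bot⟩ : PrimeSpectrum V)}) ∧ f x = y,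
      ∃ x x' : X, x' ⤳ x ∧ f x = IsLocalRing.closedPoint V ∧
        f x' = (⟨⊥, Ideal.isPrime_bot⟩ : PrimeSpectrum V),
      ∃ (W : Type u) (_ : CommRing W) (_ : IsDomain W) (_ : ValuationRing W)
        (g : Spec (CommRingCat.of W) ⟶ X), Surjective (g ≫ f),
      ∃ (Z : Scheme.{u}) (i : Z ⟶ X), IsClosedImmersion i ∧ Flat (i ≫ f) ∧ Surjective (i ≫ f)] := by
  have hηs : (⟨⊥, Ideal.isPrime_bot⟩ : PrimeSpectrum V) ⤳ IsLocalRing.closedPoint V :=
    (PrimeSpectrum.le_iff_specializes _ _).1 bot_le
  tfae_have 1 → 2 := fun hf => hf (𝟙 X) (𝟙 _) f (IsPullback.id_vert f)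
  tfae_have 2 → 4 := by
    intro hf
    obtain ⟨x, x', hxx, hx, hx'⟩ := hf hηs
    exact ⟨x, x', hxx, hx, hx'⟩
  tfae_have 4 → 5 := by
    rintro ⟨x, x', hxx, hx, hx'⟩
    obtain ⟨W, _, _, _, k, hk1, hk2⟩ :=
      Groth.Agent.S14768.exists_valuationRing_of_specializes hxx
    refine ⟨W, inferInstance, inferInstance, inferInstance, k, ?_⟩
    let β : CommRingCat.of V ⟶ CommRingCat.of W := Spec.preimage (k ≫ f)
    have hβ : Spec.map β = k ≫ f := Spec.map_preimage _
    have hcl : (Spec.map β) (IsLocalRing.closedPoint W) = IsLocalRing.closedPoint V := by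
      rw [hβ, Scheme.Hom.comp_apply, hk1, hx]
    have hgen : (Spec.map β) (⟨⊥, Ideal.isPrime_bot⟩ : PrimeSpectrum W) =
        (⟨⊥, Ideal.isPrime_bot⟩ : PrimeSpectrum V) := by
      rw [hβ, Scheme.Hom.comp_apply, hk2, hx']
    have hinj : Function.Injective β.hom := by
      rw [RingHom.injective_iff_ker_eq_bot, RingHom.ker_eq_comap_bot]
      exact congrArg PrimeSpectrum.asIdeal hgen
    have hloc : IsLocalHom β.hom := by
      have h5 := ((IsLocalRing.local_hom_TFAE β.hom).out 0 4)
      rw [h5]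
      exact congrArg PrimeSpectrum.asIdeal hcl
    have hsurj := Groth.Agent.S14769.surjective_of_local_injective β.hom hinj hloc
    rw [← hβ]
    exact ⟨hsurj⟩
  tfae_have 5 → 3 := by
    rintro ⟨W, _, _, _, g, hg⟩ y
    obtain ⟨w, hw⟩ := hg.surj y
    obtain ⟨w₀, hw₀⟩ := hg.surj (⟨⊥, Ideal.isPrime_bot⟩ : PrimeSpectrum V)
    have hξw : (⟨⊥, Ideal.isPrime_bot⟩ : PrimeSpectrum W) ⤳ w :=
      (PrimeSpectrum.le_iff_specializes _ _).1 bot_le
    have hξw₀ : (⟨⊥, Ideal.isPrime_bot⟩ : PrimeSpectrum W) ⤳ w₀ :=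
      (PrimeSpectrum.le_iff_specializes _ _).1 bot_le
    have hbξ : (g ≫ f) (⟨⊥, Ideal.isPrime_bot⟩ : PrimeSpectrum W) =
        (⟨⊥, Ideal.isPrime_bot⟩ : PrimeSpectrum V) := by
      have h1 := hξw₀.map (g ≫ f).continuous
      rw [hw₀] at h1
      have h2 := (PrimeSpectrum.le_iff_specializes _ _).2 h1
      exact PrimeSpectrum.ext (le_bot_iff.1 h2)
    refine ⟨g w, ?_, ?_⟩
    · have h1 : g (⟨⊥, Ideal.isPrime_bot⟩ : PrimeSpectrum W) ⤳ g w := hξw.map g.continuous
      have h2 : g (⟨⊥, Ideal.isPrime_bot⟩ : PrimeSpectrum W) ∈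
          f ⁻¹' {(⟨⊥, Ideal.isPrime_bot⟩ : PrimeSpectrum V)} := by
        show f (g _) = _
        rw [← Scheme.Hom.comp_apply]; exact hbξ
      exact closure_mono (Set.singleton_subset_iff.2 h2) (specializes_iff_mem_closure.1 h1)
    · rw [← Scheme.Hom.comp_apply]; exact hw
  tfae_have 3 → 6 := exists_flat_closed_of_closure f
  tfae_have 6 → 1 := by
    rintro ⟨Z, i, _, hfl, hsj⟩
    exact univSSubtrusive_of_comp_flat_surjective i f
  tfae_finish

end Groth.Agent.S14765
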