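import Groth.Statements.S14766
import Mathlib

set_option autoImplicit false
universe u
open CategoryTheory CategoryTheory.Limits AlgebraicGeometry
open Subtr

namespace Groth.Agent.S14766

theorem dvr_prime_cases (V : Type u) [CommRing V] [IsDomain V] [IsDiscreteValuationRing V]
    (z : PrimeSpectrum V) :
    z = ⟨⊥, Ideal.isPrime_bot⟩ ∨ z = IsLocalRing.closedPoint V := by
  by_cases h : z.asIdeal = ⊥
  · left; exact PrimeSpectrum.ext h
  · right
    have hmax : z.asIdeal.IsMaximal := Ring.DimensionLEOne.maximalOfPrime h z.2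
    exact PrimeSpectrum.ext (IsLocalRing.eq_maximalIdeal hmax)


/-- Let V be a discrete valuation ring and f : X ⟶ Spec V any morphism of schemes. Then the underlying
continuous map of f is a quotient map (f is submersive) if and only if every ordered pair of points
of Spec V lifts to an ordered pair of points of X. -/
theorem result (V : Type u) [CommRing V] [IsDomain V]
    [IsDiscreteValuationRing V] {X : Scheme.{u}} (f : X ⟶ Spec (CommRingCat.of V)) :
    Topology.IsQuotientMap f ↔ Subtr.IsSSubtrusive f := by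
  set η : PrimeSpectrum V := ⟨⊥, Ideal.isPrime_bot⟩ with hη
  set s : PrimeSpectrum V := IsLocalRing.closedPoint V with hs
  have hcases : ∀ z : PrimeSpectrum V, z = η ∨ z = s := dvr_prime_cases V
  have hηs : η ⤳ s := (PrimeSpectrum.le_iff_specializes η s).1 bot_le
  have hne : η ≠ s := fun h =>
    IsDiscreteValuationRing.not_a_field V (congrArg PrimeSpectrum.asIdeal h).symm
  have hsclosed : IsClosed ({s} : Set (PrimeSpectrum V)) :=
    (PrimeSpectrum.isClosed_singleton_iff_isMaximal s).2 (IsLocalRing.maximalIdeal.isMaximal V)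
  constructor
  · intro hq y y' hyy
    by_cases heq : y' = y
    · subst heq
      obtain ⟨x, hx⟩ := hq.surjective y'
      exact ⟨x, x, specializes_rfl, hx, hx⟩
    · have hy' : y' = η ∧ y = s := by
        rcases hcases y' with h1 | h1 <;> rcases hcases y with h2 | h2
        · exact absurd (h1.trans h2.symm) heq
        · exact ⟨h1, h2⟩
        · exfalso
          rw [h1, h2] at hyy
          exact hne (hyy.mem_closed hsclosed (Set.mem_singleton s))
        · exact absurd (h1.trans h2.symm) heq
      obtain ⟨h1, h2⟩ := hy'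
      subst h1 h2
      have hnotopen : ¬ IsOpen (f ⁻¹' ({s} : Set (PrimeSpectrum V))) := by
        rw [hq.isOpen_preimage]
        intro ho
        exact hne (hηs.mem_open ho rfl)
      by_contra hcon
      push Not at hcon
      apply hnotopen
      let Uc : (Spec (CommRingCat.of V)).Opens := ⟨{s}ᶜ, hsclosed.isOpen_compl⟩
      have hmemW : ∀ x : X, x ∈ f ⁻¹ᵁ Uc ↔ f x ≠ s := fun x => Iff.rfl
      have hstable : ∀ x' ∈ f ⁻¹ᵁ Uc, ∀ x, x' ⤳ x → x ∈ f ⁻¹ᵁ Uc := by
        intro x' hx' x hxx
        rw [hmemW] at hx' ⊢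
        intro hfx
        have h3 := hcon x x' hxx hfx
        rcases hcases (f x') with h4 | h4
        · exact h3 h4
        · exact hx' h4
      have hqc : QuasiCompact (f ⁻¹ᵁ Uc).ι :=
        MorphismProperty.of_isPullback (isPullback_morphismRestrict f Uc) inferInstance
      have hsp : SpecializingMap (f ⁻¹ᵁ Uc).ι := by
        intro w x hwx
        change (f ⁻¹ᵁ Uc).ι w ⤳ x at hwx
        have hw : (f ⁻¹ᵁ Uc).ι w ∈ f ⁻¹ᵁ Uc := by
          have : (f ⁻¹ᵁ Uc).ι w ∈ Set.range (f ⁻¹ᵁ Uc).ι := Set.mem_range_self w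
          rwa [Scheme.Opens.range_ι] at this
        have hx : x ∈ f ⁻¹ᵁ Uc := hstable _ hw x hwx
        obtain ⟨w', rfl⟩ : x ∈ Set.range (f ⁻¹ᵁ Uc).ι := by
          rw [Scheme.Opens.range_ι]; exact hx
        exact ⟨w', ((f ⁻¹ᵁ Uc).ι.isOpenEmbedding.isInducing.specializes_iff).1 hwx, rfl⟩
      have hcl : IsClosed ((f ⁻¹ᵁ Uc : X.Opens) : Set X) := by
        have h5 := ((isClosedMap_iff_specializingMap (f ⁻¹ᵁ Uc).ι).2 hsp).isClosed_range
        rwa [Scheme.Opens.range_ι] at h5
      have h6 : f ⁻¹' ({s} : Set (PrimeSpectrum V)) = ((f ⁻¹ᵁ Uc : X.Opens) : Set X)ᶜ := by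
        ext x
        show f x ∈ ({s} : Set (PrimeSpectrum V)) ↔ ¬ (x ∈ f ⁻¹ᵁ Uc)
        rw [hmemW, not_not]
        exact Iff.rfl
      rw [h6]
      exact hcl.isOpen_compl
  · intro hsub
    have hsurj : Function.Surjective f := fun y => by
      obtain ⟨x, _, _, hx, _⟩ := hsub (specializes_rfl : y ⤳ y)
      exact ⟨x, hx⟩
    rw [Topology.isQuotientMap_iff]
    refine ⟨Topology.isCoinducing_iff.2 fun W' =>
      ⟨fun h => ?_, fun h => h.preimage f.continuous⟩, hsurj⟩
    obtain ⟨x, x', hxx, hx, hx'⟩ := hsub hηs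
    by_cases hsW : s ∈ W'
    · have hηW : η ∈ W' := by
        have h1 : x ∈ f ⁻¹' W' := by
          show f x ∈ W'
          rw [hx]; exact hsW
        have h2 : x' ∈ f ⁻¹' W' := hxx.mem_open h h1
        rw [← hx']; exact h2
      have h3 : W' = Set.univ := Set.eq_univ_iff_forall.2 fun z => by
        rcases hcases z with h4 | h4
        · rw [h4]; exact hηW
        · rw [h4]; exact hsW
      rw [h3]; exact isOpen_univ
    · by_cases hηW : η ∈ W'
      · have h3 : W' = {s}ᶜ := by
          ext z
          show z ∈ W' ↔ ¬ (z = s)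
          rcases hcases z with h4 | h4
          · rw [h4]; exact ⟨fun _ => hne, fun _ => hηW⟩
          · rw [h4]; exact ⟨fun h5 => absurd h5 hsW, fun h5 => absurd rfl h5⟩
        rw [h3]; exact hsclosed.isOpen_compl
      · have h3 : W' = ∅ := Set.eq_empty_iff_forall_notMem.2 fun z => by
          rcases hcases z with h4 | h4
          · rw [h4]; exact hηW
          · rw [h4]; exact hsW
        rw [h3]; exact isOpen_empty

end Groth.Agent.S14766
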