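import Groth.Statements.S14788
import Mathlib
import Groth.Agent.Lib.Helper7.ProCons2
import Groth.Agent.Lib.Helper5.ProConsOpenAt
import Groth.Agent.Lib.Helper23.ProConsLib

set_option autoImplicit false
universe u
open CategoryTheory CategoryTheory.Limits AlgebraicGeometry
open Subtr

namespace Groth.Agent.S14788

/-- (i) ⇔ (iv): a morphism of schemes f : X ⟶ Y has the lifting property for ordered pairs of points if
and only if, for every pro-constructible subset Z ⊆ Y, the image under f of the closure of f⁻¹(Z) is
the closure of Z. (In the published item (iv) the right-hand side is printed as Z itself; the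
closure is meant, as the case of a non-closed point shows and as the proof uses.) -/
theorem result {X Y : Scheme.{u}} (f : X ⟶ Y) :
    Subtr.IsSSubtrusive f ↔
      ∀ Z : Set Y, ProCons.IsProConstructible Z → f '' closure (f ⁻¹' Z) = closure Z := by
  constructor
  · intro hf Z hZ
    apply Set.Subset.antisymm
    · rintro _ ⟨x, hx, rfl⟩
      have h1 : f.base x ∈ closure (f.base '' (f.base ⁻¹' Z)) :=
        image_closure_subset_closure_image f.continuous ⟨x, hx, rfl⟩
      exact closure_mono (Set.image_preimage_subset _ _) h1
    · intro y hy
      obtain ⟨y', hy'Z, hspec⟩ :=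
        Groth.Agent.Helper7.ProCons2.exists_specializes_of_mem_closure
          (Groth.Agent.Helper7.ProCons2.CC.of_isProConstructible hZ) hy
      obtain ⟨x, x', hxx', hx, hx'⟩ := hf hspec
      refine ⟨x, ?_, hx⟩
      have hx'Z : x' ∈ f.base ⁻¹' Z := by
        show f.base x' ∈ Z
        rw [hx']; exact hy'Z
      exact hxx'.mem_closed isClosed_closure (subset_closure hx'Z)
  · intro h y y' hspec
    have hZ := Groth.Agent.Helper5.PC.isProConstructible_singleton y'
    have h1 := h {y'} hZ
    have hy : y ∈ closure ({y'} : Set Y) := specializes_iff_mem_closure.1 hspec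
    rw [← h1] at hy
    obtain ⟨x, hx, hxy⟩ := hy
    have hZ' : ProCons.IsProConstructible (f.base ⁻¹' {y'}) :=
      Groth.Agent.Helper23.ProConsLib.isProConstructible_preimage f {y'} hZ
    obtain ⟨x', hx', hspec'⟩ :=
      Groth.Agent.Helper7.ProCons2.exists_specializes_of_mem_closure
        (Groth.Agent.Helper7.ProCons2.CC.of_isProConstructible hZ') hx
    exact ⟨x, x', hspec', hxy, hx'⟩

end Groth.Agent.S14788
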