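import Groth.Statements.S9821
import Mathlib.AlgebraicGeometry.FunctionField
import Mathlib.RingTheory.LocalProperties.IntegrallyClosed
-- import your own Groth.Agent.* helpers here

set_option autoImplicit false
universe u
open CategoryTheory CategoryTheory.Limits AlgebraicGeometry TopologicalSpace Opposite
open Props

namespace Groth.Agent.S9821

section
open AlgebraicGeometry CategoryTheory TopologicalSpace

theorem affine_of_normal (X : Scheme.{u}) [IsIntegral X] (hX : Pi1.IsNormalScheme X)
    (U : X.Opens) [Nonempty U] (hU : IsAffineOpen U) : IsIntegrallyClosed Γ(X, U) := by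
  apply IsIntegrallyClosed.of_localization_maximal
  intro P _ hP
  let y : PrimeSpectrum Γ(X, U) := ⟨P, inferInstance⟩
  have hy : hU.fromSpec y ∈ U := by
    have := hU.range_fromSpec
    rw [← SetLike.mem_coe, ← this]
    exact ⟨y, rfl⟩
  letI := TopCat.Presheaf.algebra_section_stalk X.presheaf ⟨hU.fromSpec y, hy⟩
  haveI : IsLocalization.AtPrime (X.presheaf.stalk (hU.fromSpec y)) P :=
    hU.isLocalization_stalk' y hy
  haveI := (hX (hU.fromSpec y)).2
  exact IsIntegrallyClosed.of_equiv
    (IsLocalization.algEquiv P.primeCompl (X.presheaf.stalk (hU.fromSpec y))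
      (Localization.AtPrime P)).toRingEquiv

theorem main (X : Scheme.{u}) [IsIntegral X] :
    Pi1.IsNormalScheme X ↔ ∀ (U : X.Opens) [Nonempty U], IsAffineOpen U → IsIntegrallyClosed Γ(X, U) := by
  constructor
  · intro hX U _ hU
    exact affine_of_normal X hX U hU
  · intro h x
    refine ⟨inferInstance, ?_⟩
    obtain ⟨U, hU, hxU, -⟩ := X.isBasis_affineOpens.exists_subset_of_mem_open
      (Set.mem_univ x) isOpen_univ
    obtain ⟨U, rfl⟩ : ∃ U' : X.Opens, U = (U' : Set X) := by
      obtain ⟨U', hU', rfl⟩ := hU
      exact ⟨U', rfl⟩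
    have hUa : IsAffineOpen U := by
      obtain ⟨U', hU', h'⟩ := hU
      have : U' = U := SetLike.coe_injective h'
      exact this ▸ hU'
    haveI : Nonempty U := ⟨⟨x, hxU⟩⟩
    haveI := h U hUa
    letI := TopCat.Presheaf.algebra_section_stalk X.presheaf (⟨x, hxU⟩ : U)
    haveI := hUa.isLocalization_stalk ⟨x, hxU⟩
    exact isIntegrallyClosed_of_isLocalization (X.presheaf.stalk x)
      (hUa.primeIdealOf ⟨x, hxU⟩).asIdeal.primeCompl
      (Ideal.primeCompl_le_nonZeroDivisors _)
end

/-- An integral scheme is normal if and only if the coordinate ring of every nonempty affine open is an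
integrally closed domain. -/
theorem result (X : Scheme.{u}) [IsIntegral X] :
    Pi1.IsNormalScheme X ↔ ∀ (U : X.Opens) [Nonempty U], IsAffineOpen U → IsIntegrallyClosed Γ(X, U) := by
  exact Groth.Agent.S9821.main X

end Groth.Agent.S9821
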