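import Groth.Statements.S16484
import Groth.Agent.Lib.Helper13.FinType
import Mathlib

set_option autoImplicit false
universe u
open CategoryTheory AlgebraicGeometry
open RefHull

namespace Groth.Agent.S16484


open Groth.Agent.Helper13.FinType TopologicalSpace

theorem mem_iInf_opens {α : Type*} [TopologicalSpace α] {ι : Type*} [Finite ι]
    (U : ι → Opens α) (x : α) : x ∈ (⨅ i, U i) ↔ ∀ i, x ∈ U i := by
  rw [← SetLike.mem_coe, Opens.coe_iInf]
  simp

/-- a section of the sheaf Hom whose value at `x` vanishes on generators vanishes near `x` -/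
theorem vanish_near (X : Scheme.{u}) (F G : X.Modules) (x : X) {U : X.Opens} (hxU : x ∈ U)
    (g : Γ(homSh F G, U)) {I : Type u} [Finite I] (s : I → Γ(F, U)) (hs : GenOn F U s)
    (h0 : ∀ i, g.1 ⟨x, hxU⟩ (F.presheaf.germ U x hxU (s i)) = 0) :
    ∃ (W : X.Opens) (_ : x ∈ W) (j : W ⟶ U), (homSh F G).presheaf.map j.op g = 0 := by
  -- for each generator a neighbourhood on which its image vanishes
  have key : ∀ i : I, ∃ (W : X.Opens) (_ : x ∈ W) (j : W ⟶ U), ∀ y : W,
      g.1 ⟨y.1, j.le y.2⟩ (F.presheaf.germ U y.1 (j.le y.2) (s i)) = 0 := by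
    intro i
    obtain ⟨W, hxW, j, n, hn⟩ := isLocSect_of_mem g U (𝟙 U) (s i) ⟨x, hxU⟩
    have hnx : G.presheaf.germ W x hxW n = G.presheaf.germ W x hxW 0 := by
      rw [← hn ⟨x, hxW⟩, map_zero]
      exact h0 i
    obtain ⟨W', hxW', i₁, i₂, hW'⟩ := TopCat.Presheaf.germ_eq G.presheaf x hxW hxW _ _ hnx
    refine ⟨W', hxW', i₁ ≫ j, fun y => ?_⟩
    have := hn ⟨y.1, i₁.le y.2⟩
    dsimp only at this
    rw [this, ← TopCat.Presheaf.germ_res_apply G.presheaf i₁ y.1 y.2, hW', map_zero, map_zero]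
  choose W hxW j hW using key
  have hle : (⨅ i, W i) ⊓ U ≤ U := inf_le_right
  refine ⟨(⨅ i, W i) ⊓ U, ⟨(mem_iInf_opens W x).2 hxW, hxU⟩, homOfLE hle, ?_⟩
  apply Subtype.ext
  funext y
  change g.1 ⟨y.1, hle y.2⟩ = 0
  apply LinearMap.ext_on_range (hs y.1 (hle y.2))
  intro i
  rw [LinearMap.zero_apply]
  exact hW i ⟨y.1, (mem_iInf_opens W y.1).1 y.2.1 i⟩

/-- Consider a scheme X together with O_X-modules F and G, where F is assumed to be of finite type, and
fix a point x ∈ X. The natural O_{X,x}-linear map 𝓗om_{O_X}(F, G)_x → Hom_{O_{X,x}}(F_x, G_x),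
taking the germ at x of a section of the sheaf Hom to the map on stalks at x that it induces, is
injective. (In the source the claim is made for modules over any ringed space; here it is formulated
only for schemes, since that is where the sheaf Hom used in the statement is available.) -/
theorem result (X : Scheme.{u}) (F G : X.Modules) (hF : CohB1.IsFT F) (x : X) :
    Function.Injective (RefHull.evalStalk F G x) := by
  rw [injective_iff_map_eq_zero]
  intro θ hθ
  obtain ⟨Ut, hxt, g, rfl⟩ := TopCat.Presheaf.exists_germ_eq (homSh F G).presheaf θ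
  rw [evalStalk_germ] at hθ
  have : SheafOfModules.IsFiniteType (R := X.ringCatSheaf) F := hF
  obtain ⟨U₀, hxU₀, I, hI, s, hs⟩ := exists_genOn_of_isFiniteType F x
  have hle1 : Ut ⊓ U₀ ≤ Ut := inf_le_left
  have hle2 : Ut ⊓ U₀ ≤ U₀ := inf_le_right
  have hxU : x ∈ Ut ⊓ U₀ := ⟨hxt, hxU₀⟩
  have hs' : GenOn F (Ut ⊓ U₀) (fun i => F.presheaf.map (homOfLE hle2).op (s i)) := by
    intro y hy
    have := hs y (hle2 hy)
    convert this using 3
    funext i
    exact TopCat.Presheaf.germ_res_apply F.presheaf (homOfLE hle2) y hy (s i)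
  obtain ⟨W, hxW, j, hW⟩ := vanish_near X F G x hxU ((homSh F G).presheaf.map (homOfLE hle1).op g)
    (fun i => F.presheaf.map (homOfLE hle2).op (s i)) hs' (fun i => by
      change g.1 ⟨x, hxt⟩ _ = 0
      rw [hθ, LinearMap.zero_apply])
  rw [← TopCat.Presheaf.germ_res_apply (homSh F G).presheaf (homOfLE hle1) x hxU,
    ← TopCat.Presheaf.germ_res_apply (homSh F G).presheaf j x hxW, hW, map_zero]

end Groth.Agent.S16484
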