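import Groth.Statements.S4713
import Groth.Agent.Lib.Helper7.LocClosedPt

set_option autoImplicit false
universe u
open EGA4

namespace Groth.Agent.S4713

open AlgebraicGeometry in
/-- In a locally Noetherian scheme X, every nonempty closed subset contains a closed point of X. -/
theorem result (X : Scheme.{u}) [IsLocallyNoetherian X]
    (Z : Set X) (hZ : IsClosed Z) (hne : Z.Nonempty) : ∃ x ∈ Z, IsClosed ({x} : Set X) := by
  obtain ⟨z, hzZ⟩ := hne
  obtain ⟨_, ⟨(U : X.Opens), hU : IsAffineOpen U, rfl⟩, hzU, -⟩ :=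
    X.isBasis_affineOpens.exists_subset_of_mem_open (Set.mem_univ z) isOpen_univ
  let ι := hU.fromSpec
  have hι : Topology.IsOpenEmbedding ι := hU.fromSpec.isOpenEmbedding
  -- closed subset of Spec
  have hcl : IsClosed (ι ⁻¹' Z) := hZ.preimage ι.continuous
  let p : Spec Γ(X, U) := hU.primeIdealOf ⟨z, hzU⟩
  have hp : ι p = z := hU.fromSpec_primeIdealOf ⟨z, hzU⟩
  have hpZ : p ∈ ι ⁻¹' Z := by rw [Set.mem_preimage, hp]; exact hzZ
  obtain ⟨I, hI⟩ := (PrimeSpectrum.isClosed_iff_zeroLocus_ideal _).1 hcl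
  have hIp : I ≤ p.asIdeal := by
    have : p ∈ PrimeSpectrum.zeroLocus (I : Set Γ(X, U)) := by rw [← hI]; exact hpZ
    exact this
  obtain ⟨m, hm, hpm⟩ := Ideal.exists_le_maximal p.asIdeal p.2.ne_top
  let q : Spec Γ(X, U) := ⟨m, hm.isPrime⟩
  have hqZ : q ∈ ι ⁻¹' Z := by
    rw [hI]
    exact fun a ha => hpm (hIp ha)
  have hqcl : IsClosed ({q} : Set (Spec Γ(X, U))) :=
    (PrimeSpectrum.isClosed_singleton_iff_isMaximal (q : PrimeSpectrum Γ(X, U))).2 hm
  let x := ι q
  have hxZ : x ∈ Z := hqZ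
  by_cases hxc : IsClosed ({x} : Set X)
  · exact ⟨x, hxZ, hxc⟩
  · -- {x} is locally closed
    have hlc : IsLocallyClosed ({x} : Set X) := by
      refine ⟨U, closure {x}, U.2, isClosed_closure, ?_⟩
      apply subset_antisymm
      · rw [Set.singleton_subset_iff]
        refine ⟨?_, subset_closure rfl⟩
        have : x ∈ Set.range ι := ⟨q, rfl⟩
        rw [hU.range_fromSpec] at this
        exact this
      · rintro w ⟨hwU, hwx⟩
        have hwr : w ∈ Set.range ι := by rw [hU.range_fromSpec]; exact hwU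
        obtain ⟨r, rfl⟩ := hwr
        have hqr : q ⤳ r := by
          rw [← hι.isInducing.specializes_iff]
          exact specializes_iff_mem_closure.2 hwx
        have : r ∈ ({q} : Set _) := hqr.mem_closed hqcl rfl
        rw [Set.mem_singleton_iff] at this
        rw [this]
        rfl
    have hne' : ¬ closure ({x} : Set X) ⊆ {x} := fun h => hxc (closure_subset_iff_isClosed.1 h)
    obtain ⟨y, hy, hyx⟩ := Set.not_subset.1 hne'
    refine ⟨y, hZ.closure_subset_iff.2 (Set.singleton_subset_iff.2 hxZ) hy, ?_⟩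
    exact Groth.Agent.Helper7.LocClosedPt.isClosed_singleton_of_specializes hlc
      (specializes_iff_mem_closure.2 hy) hyx

end Groth.Agent.S4713
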