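import Groth.Statements.S10566
import Groth.Agent.Lib.Helper16.AlgSp.LocalST

set_option autoImplicit false
universe u
open CategoryTheory CategoryTheory.Limits AlgebraicGeometry
open AlgSp AlgSp.IsSmoothLocalST

namespace Groth.Agent.S10566

/-- For a property P of morphisms of algebraic spaces over S that is smooth local on source-and-target
and a morphism f : X ⟶ Y of algebraic spaces, each of the following is equivalent to P f: (c) for
some commutative square a ≫ f = h ≫ b with a : U ⟶ X and b : V ⟶ Y smooth and a surjective, h has P;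
(d) for every commutative square a ≫ f = h ≫ b with b smooth and the induced morphism U ⟶ X ×_Y V
smooth, h has P; (e) for some smooth covering of Y by algebraic spaces Y_i every base change Y_i ×_Y
X ⟶ Y_i has P; (f) for some smooth covering of X by algebraic spaces X_i every composite X_i ⟶ Y has
P. (Condition (b) of the published list is the defining locality condition, and its condition (g)
combines (e) and (f); they are not repeated here.) -/
theorem result {S : Scheme.{u}} {P : MorphismProperty (AlgSp.Sp S)}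
    (hP : AlgSp.IsSmoothLocalST P) {X Y : AlgSp.Space S} (f : X ⟶ Y) :
    (P f.hom ↔ ∃ (U V : AlgSp.Space S) (a : U ⟶ X) (b : V ⟶ Y) (h : U ⟶ V),
      AlgSp.LocP @Smooth a.hom ∧ AlgSp.LocP @Smooth b.hom ∧ AlgSp.IsSurjectiveMor a.hom ∧
      a ≫ f = h ≫ b ∧ P h.hom) ∧
    (P f.hom ↔ ∀ (U V W : AlgSp.Space S) (a : U ⟶ X) (b : V ⟶ Y) (h : U ⟶ V) (p : W ⟶ X) (q : W ⟶ V)
      (e : U ⟶ W), IsPullback p.hom q.hom f.hom b.hom → e ≫ p = a → e ≫ q = h →
      AlgSp.LocP @Smooth b.hom → AlgSp.LocP @Smooth e.hom → P h.hom) ∧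
    (P f.hom ↔ ∃ (ι : Type u) (Yi Xi : ι → AlgSp.Space S) (g : ∀ i, Yi i ⟶ Y) (p : ∀ i, Xi i ⟶ Yi i)
      (q : ∀ i, Xi i ⟶ X), AlgSp.IsSmCover (fun i => (Yi i).obj) (fun i => (g i).hom) ∧
      (∀ i, IsPullback (q i).hom (p i).hom f.hom (g i).hom) ∧ ∀ i, P (p i).hom) ∧
    (P f.hom ↔ ∃ (ι : Type u) (Xi : ι → AlgSp.Space S) (g : ∀ i, Xi i ⟶ X),
      AlgSp.IsSmCover (fun i => (Xi i).obj) (fun i => (g i).hom) ∧ ∀ i, P (g i ≫ f).hom) := by
  have hXp := X.property
  have hYp := Y.property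
  refine ⟨⟨?_, ?_⟩, ⟨?_, ?_⟩, ⟨?_, ?_⟩, ⟨?_, ?_⟩⟩
  · intro hf
    refine ⟨X, Y, 𝟙 X, 𝟙 Y, f, Groth.Agent.Helper16.AS.locP_smooth_id hXp,
      Groth.Agent.Helper16.AS.locP_smooth_id hYp, ?_, ?_, hf⟩
    · intro x
      exact ⟨x, by change Points.map (𝟙 X.obj) x = x; rw [Points.map_id]⟩
    · rw [Category.id_comp, Category.comp_id]
  · rintro ⟨U, V, a, b, h, ha, hb, hs, comm, hh⟩
    rw [hP.locality hXp hYp f.hom]
    intro x
    obtain ⟨v, hv⟩ := hs x
    have comm' : a.hom ≫ f.hom = h.hom ≫ b.hom := congrArg (fun m => m.hom) comm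
    exact ⟨U.obj, V.obj, a.hom, b.hom, h.hom, v, U.property, V.property, ha, hb, comm', hv, hh⟩
  · intro hf U V W a b h p q e sq hea heq hb he
    subst heq
    have hq : P q.hom := hP.baseChange hXp hYp W.property V.property f.hom b.hom q.hom p.hom sq hb hf
    exact hP.precomp U.property W.property V.property e.hom q.hom he hq
  · intro H
    refine H X Y X (𝟙 X) (𝟙 Y) f (𝟙 X) f (𝟙 X) ?_ (Category.id_comp _) (Category.id_comp _)
      (Groth.Agent.Helper16.AS.locP_smooth_id hYp) (Groth.Agent.Helper16.AS.locP_smooth_id hXp)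
    exact (IsPullback.of_horiz_isIso (fst := 𝟙 X.obj) (snd := f.hom) (f := f.hom) (g := 𝟙 Y.obj)
      ⟨by simp⟩)
  · intro hf
    refine ⟨PUnit.{u+1}, fun _ => Y, fun _ => X, fun _ => 𝟙 Y, fun _ => f, fun _ => 𝟙 X, ?_, ?_,
      fun _ => hf⟩
    · refine ⟨fun _ => Groth.Agent.Helper16.AS.locP_smooth_id hYp, fun y => ⟨PUnit.unit, y, ?_⟩⟩
      change Points.map (𝟙 Y.obj) y = y
      rw [Points.map_id]
    · intro _
      exact (IsPullback.of_horiz_isIso (fst := 𝟙 X.obj) (snd := f.hom) (f := f.hom) (g := 𝟙 Y.obj)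
        ⟨by simp⟩)
  · rintro ⟨ι, Yi, Xi, g, p, q, hcov, sq, hp⟩
    exact (Groth.Agent.Helper16.AS.isLocalOnBase_sm_of_isSmoothLocalST hP (fun i => (Yi i).obj)
      (fun i => (g i).hom) hYp (fun i => (Yi i).property) hcov f.hom hXp (fun i => (Xi i).obj)
      (fun i => (p i).hom) (fun i => (q i).hom) (fun i => (Xi i).property) sq).2 hp
  · intro hf
    refine ⟨PUnit.{u+1}, fun _ => X, fun _ => 𝟙 X, ?_, fun _ => ?_⟩
    · refine ⟨fun _ => Groth.Agent.Helper16.AS.locP_smooth_id hXp, fun x => ⟨PUnit.unit, x, ?_⟩⟩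
      change Points.map (𝟙 X.obj) x = x
      rw [Points.map_id]
    · rw [Category.id_comp]
      exact hf
  · rintro ⟨ι, Xi, g, hcov, hp⟩
    exact (Groth.Agent.Helper16.AS.isLocalOnSource_sm_of_isSmoothLocalST hP (fun i => (Xi i).obj)
      (fun i => (g i).hom) hXp (fun i => (Xi i).property) hcov f.hom hYp).2 hp

end Groth.Agent.S10566
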