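import Mathlib
import Groth.Statements.S12774
import Groth.Agent.Lib.Helper19.MonoLib
import Groth.Agent.S12776
-- import your own Groth.Agent.* helpers here

set_option autoImplicit false
open CategoryTheory AlgebraicGeometry
universe u
open AlgSt

namespace Groth.Agent.S12774

open FibCat Groth.Agent.Helper19.FibLib Groth.Agent.Helper19.YonLib Groth.Agent.Helper19.PshLib Groth.Agent.Helper19.PshSt


/-- Take categories `𝒳` and `𝒴` fibred in groupoids over `(Sch/S)` and a 1-morphism `j : 𝒳 ⟶ 𝒴` between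
them which is representable by algebraic spaces and a monomorphism. Then `j` is fully faithful on
fibre categories; for categories fibred in groupoids this is the same as `j` being full and
faithful, which is how it is stated here. -/
theorem result {S : Scheme.{u}} {𝒳 𝒴 : AlgSt.Cat S}
    (h𝒳 : FibCat.IsFibGrpd 𝒳.p) (h𝒴 : FibCat.IsFibGrpd 𝒴.p) (j : 𝒳 ⥤ᵇ 𝒴) (hj : AlgSt.IsMono j) :
    j.toFunctor.Full ∧ j.toFunctor.Faithful := by
  refine ⟨?_, Groth.Agent.S12776.result h𝒳 h𝒴 j (RepByAlgSpWith.repByAlgSp1 hj)⟩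
  have key : ∀ (a a' : 𝒳.obj) (ha' : 𝒳.p.obj a' = 𝒳.p.obj a) (γ : j.obj a ⟶ j.obj a'),
      𝒴.p.IsHomLift (𝟙 (𝒳.p.obj a)) γ → ∃ χ : a ⟶ a', j.map χ = γ := by
    intro a a' ha' γ hγ
    have hiso : IsIso γ := isIso_of_isHomLift h𝒴 (𝟙 (𝒳.p.obj a)) γ
    obtain ⟨y, θ, hθ⟩ := exists_chart_of_obj h𝒴 (j.obj a') ((j.w_obj a').trans ha')
    have hfull := full_of_repOver_mono (fpFst y j) (hj (𝒳.p.obj a) y)
    let z' : (fp y j).obj := fpMk y j (Over.mk (𝟙 (𝒳.p.obj a))) a' θ hθ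
    have hγinv : 𝒴.p.IsHomLift (𝟙 (𝒳.p.obj a)) (inv γ) := inferInstance
    have hz : 𝒴.p.IsHomLift (𝟙 (𝒳.p.obj a)) (θ ≪≫ (asIso γ).symm).hom := by
      have : (θ ≪≫ (asIso γ).symm).hom = θ.hom ≫ inv γ := rfl
      rw [this]
      exact isHomLift_id_comp' (p := 𝒴.p) (R := 𝒳.p.obj a) (R' := 𝒳.p.obj a) θ.hom (inv γ)
    let z : (fp y j).obj := fpMk y j (Over.mk (𝟙 (𝒳.p.obj a))) a (θ ≪≫ (asIso γ).symm) hz
    obtain ⟨m, hm⟩ : ∃ m : z ⟶ z', (fpFst y j).map m = 𝟙 (Over.mk (𝟙 (𝒳.p.obj a))) :=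
      (fpFst y j).toFunctor.map_surjective _
    let χ : a ⟶ a' := m.hom.snd
    refine ⟨χ, ?_⟩
    have hm' : m.hom.fst = 𝟙 (Over.mk (𝟙 (𝒳.p.obj a))) := hm
    have hw : y.map m.hom.fst ≫ θ.hom = (θ.hom ≫ inv γ) ≫ j.map χ := fp_w m
    rw [hm'] at hw
    have hw' : θ.hom = θ.hom ≫ inv γ ≫ j.map χ := by
      have h0 : y.map (𝟙 (Over.mk (𝟙 (𝒳.p.obj a)))) ≫ θ.hom = θ.hom :=
        (congrArg (· ≫ θ.hom) (y.toFunctor.map_id _)).trans (Category.id_comp _)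
      exact h0.symm.trans (hw.trans (Category.assoc _ _ _))
    have h3 : 𝟙 _ = inv γ ≫ j.map χ := by
      rw [← cancel_epi θ.hom, Category.comp_id]
      exact hw'
    rw [← cancel_epi (inv γ), ← h3]
    simp
  constructor
  intro a b β
  let g : 𝒳.p.obj a ⟶ 𝒳.p.obj b := eqToHom (j.w_obj a).symm ≫ 𝒴.p.map β ≫ eqToHom (j.w_obj b)
  have hβ : 𝒴.p.IsHomLift g β := by
    apply IsHomLift.of_fac' 𝒴.p g β (j.w_obj a) (j.w_obj b)
    simp [g]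
  obtain ⟨a', ψ, hψ⟩ := h𝒳.exists_lift g
  have hjψ : 𝒴.p.IsHomLift g (j.map ψ) := BasedFunctor.preserves_isHomLift j g ψ
  obtain ⟨γ, ⟨hγ1, hγ2⟩, -⟩ := existsUnique_fac h𝒴 g (j.map ψ) (𝟙 _) g (Category.id_comp g).symm β
  obtain ⟨χ, hχ⟩ := key a a' (IsHomLift.domain_eq 𝒳.p g ψ) γ hγ1
  exact ⟨χ ≫ ψ, by rw [j.map_comp, hχ, hγ2]⟩

end Groth.Agent.S12774
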