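import Groth.Statements.S9928
import Groth.Agent.Lib.Helper15.AlgSpBasic

set_option autoImplicit false
universe u
open CategoryTheory CategoryTheory.Limits AlgebraicGeometry
open AlgSp

namespace Groth.Agent.S9928

/-- A morphism of algebraic spaces that is representable by immersions is a monomorphism of fppf
sheaves. -/
theorem result {S : Scheme.{u}} {X Y : AlgSp.Space S} (f : X ⟶ Y)
    (hf : AlgSp.RepWith @IsImmersion f.hom) : Mono f.hom := by
  apply Groth.Agent.Helper15.mono_of_yon
  intro T a b hab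
  have hrep := hf.rep
  have hP : IsImmersion (hrep.snd (a ≫ f.hom)).left := hf.property_snd (a ≫ f.hom)
  have hmono : Mono (hrep.snd (a ≫ f.hom)) := by
    have : Mono (hrep.snd (a ≫ f.hom)).left := inferInstance
    exact Over.mono_of_mono_left _
  have ea : a ≫ f.hom = (yon S).map (𝟙 T) ≫ (a ≫ f.hom) := by simp
  have eb : b ≫ f.hom = (yon S).map (𝟙 T) ≫ (a ≫ f.hom) := by simp [hab]
  have ha := hrep.lift_fst a (𝟙 T) ea
  have hb := hrep.lift_fst b (𝟙 T) eb
  have ha' := hrep.lift_snd a (𝟙 T) ea
  have hb' := hrep.lift_snd b (𝟙 T) eb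
  have : hrep.lift a (𝟙 T) ea = hrep.lift b (𝟙 T) eb := by
    rw [← cancel_mono (hrep.snd (a ≫ f.hom)), ha', hb']
  rw [← ha, ← hb, this]

end Groth.Agent.S9928
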