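import Groth.Statements.S12715

set_option autoImplicit false
universe u v
open CategoryTheory
open ArtFun

namespace Groth.Agent.S12715

/-- For Λ Noetherian with a finite map to the field k and S a complete local Noetherian Λ-algebra with
residue field k (through a surjective map S → k over Λ), the space of Λ-derivations S → k is
finite-dimensional over k. -/
theorem result {Λ : Type u} {k : Type u} [CommRing Λ] [Field k] [Algebra Λ k]
    [IsNoetherianRing Λ] [Module.Finite Λ k]
    (S : Type u) [CommRing S] [Algebra Λ S] [IsLocalRing S] [IsNoetherianRing S]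
    [IsAdicComplete (IsLocalRing.maximalIdeal S) S] [Algebra S k] [IsScalarTower Λ S k]
    (hres : Function.Surjective (algebraMap S k)) :
    Module.Finite k (Derivation Λ S k) := by
  classical
  have hker : RingHom.ker (algebraMap S k) = IsLocalRing.maximalIdeal S :=
    IsLocalRing.eq_maximalIdeal (RingHom.ker_isMaximal_of_surjective _ hres)
  have hmem : ∀ s : S, s ∈ IsLocalRing.maximalIdeal S ↔ algebraMap S k s = 0 := fun s => by
    rw [← hker, RingHom.mem_ker]
  obtain ⟨cs, hcs⟩ := (Module.Finite.fg_top : (⊤ : Submodule Λ k).FG)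
  choose σ hσ using hres
  obtain ⟨ys, hys⟩ := (IsNoetherian.noetherian (IsLocalRing.maximalIdeal S) :
    (IsLocalRing.maximalIdeal S : Submodule S S).FG)
  have hysm : ∀ y ∈ ys, y ∈ IsLocalRing.maximalIdeal S := fun y hy => by
    rw [← hys]; exact Submodule.subset_span hy
  let ρ : S →ₗ[Λ] k := (Algebra.linearMap S k).restrictScalars Λ
  let L0 : Submodule Λ S := Submodule.span Λ (σ '' (cs : Set k))
  let Z : Set S := σ '' (cs : Set k) ∪ ⋃ y ∈ ys, (fun z => z * y) '' (σ '' (cs : Set k))
  have hZfin : Z.Finite := by
    apply Set.Finite.union (Set.Finite.image _ cs.finite_toSet)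
    apply Set.Finite.biUnion ys.finite_toSet
    intro y _
    exact Set.Finite.image _ (Set.Finite.image _ cs.finite_toSet)
  let L : Submodule Λ S := Submodule.span Λ Z
  let M2 : Submodule Λ S := (IsLocalRing.maximalIdeal S ^ 2).restrictScalars Λ
  have hL0L : L0 ≤ L := Submodule.span_mono Set.subset_union_left
  -- Step A
  have stepA : ∀ s : S, ∃ z ∈ L0, s - z ∈ IsLocalRing.maximalIdeal S := by
    intro s
    have h1 : Submodule.map ρ L0 = ⊤ := by
      rw [Submodule.map_span, Set.image_image, ← hcs]
      congr 1
      ext c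
      simp only [Set.mem_image, Finset.mem_coe]
      constructor
      · rintro ⟨c', hc', rfl⟩
        change algebraMap S k (σ c') ∈ cs
        rw [hσ]; exact hc'
      · intro hc
        exact ⟨c, hc, hσ c⟩
    have h2 : ρ s ∈ Submodule.map ρ L0 := by rw [h1]; trivial
    obtain ⟨z, hz, hzs⟩ := h2
    refine ⟨z, hz, ?_⟩
    rw [hmem, map_sub]
    change ρ s - ρ z = 0
    rw [hzs, sub_self]
  -- products
  have stepB : ∀ (a : S) (y : S), y ∈ ys → a * y ∈ L ⊔ M2 := by
    intro a y hy
    obtain ⟨z, hz, hm⟩ := stepA a
    have h1 : a * y = z * y + (a - z) * y := by ring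
    rw [h1]
    apply Submodule.add_mem
    · apply Submodule.mem_sup_left
      have h2 : Submodule.map (LinearMap.mulRight Λ y) L0 ≤ L := by
        rw [Submodule.map_span]
        apply Submodule.span_mono
        intro w hw
        apply Set.mem_union_right
        simp only [Set.mem_iUnion]
        exact ⟨y, hy, hw⟩
      exact h2 ⟨z, hz, rfl⟩
    · apply Submodule.mem_sup_right
      change (a - z) * y ∈ IsLocalRing.maximalIdeal S ^ 2
      rw [pow_two]
      exact Ideal.mul_mem_mul hm (hysm y hy)
  have htop : ∀ s : S, s ∈ L ⊔ M2 := by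
    intro s
    obtain ⟨z, hz, hm⟩ := stepA s
    have h1 : s = z + (s - z) := by ring
    rw [h1]
    apply Submodule.add_mem _ (Submodule.mem_sup_left (hL0L hz))
    rw [← hys] at hm
    obtain ⟨f, hf⟩ := (Submodule.mem_span_finset').1 hm
    rw [← hf]
    apply Submodule.sum_mem
    intro y _
    exact stepB _ _ y.2
  let ev : Derivation Λ S k →ₗ[k] (Z → k) :=
    { toFun := fun D z => D z.1
      map_add' := fun _ _ => rfl
      map_smul' := fun _ _ => rfl }
  have hinj : Function.Injective ev := by
    rw [injective_iff_map_eq_zero]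
    intro D hD
    have hDZ : ∀ z ∈ Z, D z = 0 := fun z hz => congrFun hD ⟨z, hz⟩
    have h1 : L ≤ LinearMap.ker (D : S →ₗ[Λ] k) := by
      apply Submodule.span_le.2
      intro z hz
      exact hDZ z hz
    have h2 : M2 ≤ LinearMap.ker (D : S →ₗ[Λ] k) := by
      intro x hx
      change x ∈ IsLocalRing.maximalIdeal S ^ 2 at hx
      rw [pow_two] at hx
      change D x = 0
      refine Submodule.mul_induction_on hx ?_ ?_
      · intro a ha b hb
        rw [D.leibniz, Algebra.smul_def, Algebra.smul_def, (hmem a).1 ha, (hmem b).1 hb,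
          zero_mul, zero_mul, add_zero]
      · intro x y hx hy
        rw [map_add, hx, hy, add_zero]
    apply Derivation.ext
    intro s
    exact (sup_le h1 h2) (htop s)
  haveI : Finite Z := hZfin.to_subtype
  exact Module.Finite.of_injective ev hinj


end Groth.Agent.S12715
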