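import Groth.Statements.S0083
import Mathlib.AlgebraicGeometry.Morphisms.FlatDescent
import Mathlib.AlgebraicGeometry.Morphisms.LocalFlatDescent
import Mathlib.AlgebraicGeometry.ZariskisMainTheorem

set_option autoImplicit false
open CategoryTheory CategoryTheory.Limits AlgebraicGeometry Opposite
universe u
open EtBase

namespace Groth.Agent.S0083

/-- Being a closed immersion descends along a quasi-compact flat surjective base change: if the base
change of a morphism g along a quasi-compact, flat, surjective morphism to its target is a closed
immersion, then g is a closed immersion. (Stated for a single quasi-compact faithfully flat cover;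
combined with Zariski-locality on the target this gives the fpqc-local form.) -/
theorem result :
    MorphismProperty.DescendsAlong @IsClosedImmersion (@Surjective ⊓ @Flat ⊓ @QuasiCompact : MorphismProperty Scheme.{u}) := by
  constructor
  intro A X Y Z fst snd f g h hf hfst
  have hdesc : (MorphismProperty.monomorphisms Scheme.{u}).DescendsAlong
      (@Surjective ⊓ @Flat ⊓ @QuasiCompact) := by
    rw [← MorphismProperty.diagonal_isomorphisms]
    infer_instance
  have hmono : Mono g :=
    MorphismProperty.of_isPullback_of_descendsAlong (P := MorphismProperty.monomorphisms Scheme)
      h hf (inferInstance : Mono fst)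
  have huc : UniversallyClosed g :=
    MorphismProperty.of_isPullback_of_descendsAlong (P := @UniversallyClosed) h hf inferInstance
  have hlft : LocallyOfFiniteType g :=
    MorphismProperty.of_isPullback_of_descendsAlong (P := @LocallyOfFiniteType) h hf inferInstance
  rw [IsClosedImmersion.iff_isProper_and_mono]
  exact ⟨{ }, hmono⟩

end Groth.Agent.S0083
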