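import Groth.Statements.S12143
import Groth.Agent.Lib.Helper18.SymAlg6


set_option autoImplicit false
universe u
open CategoryTheory CategoryTheory.Limits AlgebraicGeometry TopologicalSpace Opposite
open scoped HomogeneousIdeal
noncomputable section
open EGA2

namespace Groth.Agent.S12143

/-- Let L be an invertible O_X-module and 𝒮L = ⊕_{n ≥ 0} L^{⊗n} its graded symmetric algebra; then the
structure morphism Proj(𝒮L) → X of the relative homogeneous spectrum is an isomorphism (the graded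
algebra O_X[T] twisted by L has the same Proj as O_X[T], which is X). -/
theorem result {X PL : Scheme.{u}} (L : X.Modules)
    (hL : PicF.IsInvertible L) (hLq : Coh.IsQCoh L)
    (𝒮L : RelProj.QCGrAlg X) (j : L ⟶ 𝒮L.toModule) (hj : RelProj.IsGrSymAlg L 𝒮L j)
    (pL : PL ⟶ X) (chartL : ∀ (U : X.Opens) (hU : IsAffineOpen U), (((pL ⁻¹ᵁ U : PL.Opens) : Scheme.{u}) ≅ Proj (𝒮L.deg U hU)))
    (hPL : RelProj.IsRelProj 𝒮L pL chartL) :
    IsIso pL := by
  haveI : L.IsQuasicoherent := hLq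
  open Groth.Agent.Helper18 Groth.Agent.Helper18.SymAlg in
  -- the cover
  choose V hV hxV ℓ hℓ using fun x : X => exists_local_generator L hL x
  have hcov : iSup V = ⊤ := by
    rw [eq_top_iff]
    intro x _
    exact Opens.mem_iSup.mpr ⟨x, hxV x⟩
  rw [← MorphismProperty.isomorphisms.iff, IsZariskiLocalAtTarget.iff_of_iSup_eq_top (P := MorphismProperty.isomorphisms Scheme.{u}) V hcov]
  intro x
  rw [MorphismProperty.isomorphisms.iff]
  have hℓx : Function.Bijective (fun r : Γ(X, V x) => r • ℓ x) := by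
    have := hℓ x (V x) le_rfl
    simpa using this
  have h1 : IsIso (Proj.toSpecZero (𝒮L.deg (V x) (hV x))) :=
    isIso_toSpecZero_of _ (jU L 𝒮L.toQCAlg j (V x) (ℓ x)) (jU_mem_deg_one L 𝒮L j hj (V x) (hV x) (ℓ x))
      (basicOpen_jU_eq_top L 𝒮L j hj (V x) (hV x) (ℓ x) hℓx)
      (fromZero_bijective L 𝒮L j hj (V x) (hV x) (ℓ x) hℓx)
  have h2 : IsIso (𝒮L.strZero (V x) (hV x)) :=
    (ConcreteCategory.isIso_iff_bijective _).mpr (strZero_bijective L 𝒮L j hj (V x) (hV x) (ℓ x) hℓx)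
  have h3 : (chartL (V x) (hV x)).inv ≫ (pL ∣_ V x) =
      Proj.toSpecZero (𝒮L.deg (V x) (hV x)) ≫ Spec.map (𝒮L.strZero (V x) (hV x)) ≫ (hV x).isoSpec.inv := by
    rw [← cancel_mono (V x).ι, Category.assoc, morphismRestrict_ι, Category.assoc, Category.assoc,
      IsAffineOpen.isoSpec_inv_ι]
    exact ProjQ.emb_comp hPL (V x) (hV x)
  have h4 : (pL ∣_ V x) = (chartL (V x) (hV x)).hom ≫
      Proj.toSpecZero (𝒮L.deg (V x) (hV x)) ≫ Spec.map (𝒮L.strZero (V x) (hV x)) ≫ (hV x).isoSpec.inv := by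
    rw [← h3, Iso.hom_inv_id_assoc]
  rw [h4]
  infer_instance

end Groth.Agent.S12143
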