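import Groth.Statements.S9426
import Mathlib
import Groth.Agent.Lib.Helper14.RegSmooth
-- import your own Groth.Agent.* helpers here

set_option autoImplicit false
universe u
open OmegaSh

namespace Groth.Agent.S9426

open KaehlerDifferential TensorProduct in
/-- elements `j s ∈ J` whose differentials agree with `dX_s` modulo `J`. -/
theorem exists_j (R : Type u) [CommRing R] (S : Type u) [CommRing S] [Algebra R S]
    [Algebra.FormallyUnramified R S] [Algebra (MvPolynomial S R) S]
    [IsScalarTower R (MvPolynomial S R) S]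
    (hsurj : Function.Surjective (algebraMap (MvPolynomial S R) S)) (s : S) :
    ∃ j ∈ RingHom.ker (algebraMap (MvPolynomial S R) S),
      D R (MvPolynomial S R) j - D R (MvPolynomial S R) (MvPolynomial.X s) ∈
        (RingHom.ker (algebraMap (MvPolynomial S R) S)) •
          (⊤ : Submodule (MvPolynomial S R) Ω[MvPolynomial S R⁄R]) := by
  have hex := KaehlerDifferential.exact_kerCotangentToTensor_mapBaseChange R (MvPolynomial S R) S
    hsurj
  have h0 : KaehlerDifferential.mapBaseChange R (MvPolynomial S R) S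
      ((1 : S) ⊗ₜ[MvPolynomial S R] D R (MvPolynomial S R) (MvPolynomial.X s)) = 0 :=
    Subsingleton.elim _ _
  obtain ⟨x, hx⟩ := (hex _).mp h0
  obtain ⟨⟨j, hj⟩, rfl⟩ := Ideal.toCotangent_surjective _ x
  refine ⟨j, hj, ?_⟩
  rw [KaehlerDifferential.kerCotangentToTensor_toCotangent] at hx
  rw [← Groth.Agent.Helper14.RegSmooth.one_tmul_eq_zero_iff hsurj, TensorProduct.tmul_sub, hx,
    sub_self]

/-- A derivation into a square-zero ideal `I` (module structure through a map sending `J` into
`I`) vanishes on `J • Ω`. -/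
theorem der_eq_of_sub_mem {R P A : Type u} [CommRing R] [CommRing P] [CommRing A] [Algebra R P]
    [Algebra R A] [Algebra P A] [IsScalarTower R P A] (I : Ideal A) (hI : I ^ 2 = ⊥)
    (J : Ideal P) (hJ : ∀ x ∈ J, algebraMap P A x ∈ I) (δ : Derivation R P I) (x y : P)
    (hxy : KaehlerDifferential.D R P x - KaehlerDifferential.D R P y ∈
      J • (⊤ : Submodule P Ω[P⁄R])) : δ x = δ y := by
  have key : ∀ ω ∈ J • (⊤ : Submodule P Ω[P⁄R]), δ.liftKaehlerDifferential ω = 0 := by
    intro ω hω
    refine Submodule.smul_induction_on hω ?_ ?_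
    · intro r hr n _
      rw [map_smul]
      ext
      rw [Submodule.coe_smul_of_tower, Algebra.smul_def, Submodule.coe_zero, ← Ideal.mem_bot, ← hI,
        pow_two]
      exact Ideal.mul_mem_mul (hJ r hr) (δ.liftKaehlerDifferential n).2
    · intro a b ha hb
      rw [map_add, ha, hb, add_zero]
  have := key _ hxy
  rw [map_sub, Derivation.liftKaehlerDifferential_comp_D, Derivation.liftKaehlerDifferential_comp_D,
    sub_eq_zero] at this
  exact this

/-- A formally unramified R-algebra S admits a universal first order thickening: an R-algebra surjection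
S' → S with square-zero kernel through which every R-algebra map from S into a square-zero quotient
A/I lifts uniquely to A. -/
theorem result (R : Type u) [CommRing R]
    (S : Type u) [CommRing S] [Algebra R S] [Algebra.FormallyUnramified R S] :
    ∃ (S' : Type u) (_ : CommRing S') (_ : Algebra R S') (π : S' →ₐ[R] S),
      OmegaSh.IsUnivThickeningRing R S S' π := by
  classical
  let f : MvPolynomial S R →ₐ[R] S := MvPolynomial.aeval _root_.id
  have hf : Function.Surjective f := fun s => ⟨MvPolynomial.X s, MvPolynomial.aeval_X _ _⟩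
  letI : Algebra (MvPolynomial S R) S := f.toRingHom.toAlgebra
  haveI : IsScalarTower R (MvPolynomial S R) S :=
    IsScalarTower.of_algebraMap_eq' f.comp_algebraMap.symm
  have hsurj : Function.Surjective (algebraMap (MvPolynomial S R) S) := hf
  set J : Ideal (MvPolynomial S R) := RingHom.ker (algebraMap (MvPolynomial S R) S) with hJdef
  have hJmem : ∀ x, x ∈ J ↔ f x = 0 := fun x => Iff.rfl
  choose j hjJ hjD using exists_j R S hsurj
  set J' : Ideal (MvPolynomial S R) := J ^ 2 ⊔ Ideal.span (Set.range j) with hJ'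
  have hJ'J : J' ≤ J := by
    refine sup_le (Ideal.pow_le_self two_ne_zero) ?_
    rw [Ideal.span_le]
    rintro _ ⟨s, rfl⟩
    exact hjJ s
  let π : (MvPolynomial S R ⧸ J') →ₐ[R] S :=
    Ideal.Quotient.liftₐ J' f (fun x hx => (hJmem x).mp (hJ'J hx))
  have hπ : ∀ x, π (Ideal.Quotient.mk J' x) = f x := fun x => rfl
  refine ⟨MvPolynomial S R ⧸ J', inferInstance, inferInstance, π, ?_, ?_, ?_⟩
  · intro s
    obtain ⟨x, rfl⟩ := hf s
    exact ⟨Ideal.Quotient.mk J' x, hπ x⟩
  · rw [eq_bot_iff, pow_two, Ideal.mul_le]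
    intro x hx y hy
    obtain ⟨x, rfl⟩ := Ideal.Quotient.mk_surjective x
    obtain ⟨y, rfl⟩ := Ideal.Quotient.mk_surjective y
    have hx' : x ∈ J := (hJmem x).mpr (by simpa [hπ] using RingHom.mem_ker.mp hx)
    have hy' : y ∈ J := (hJmem y).mpr (by simpa [hπ] using RingHom.mem_ker.mp hy)
    rw [Ideal.mem_bot, ← map_mul, Ideal.Quotient.eq_zero_iff_mem]
    exact Ideal.mem_sup_left (by rw [pow_two]; exact Ideal.mul_mem_mul hx' hy')
  · intro A _ _ I hI a
    choose α hα using fun s : S => Ideal.Quotient.mk_surjective (a s)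
    let ψ₀ : MvPolynomial S R →ₐ[R] A := MvPolynomial.aeval α
    have hψ₀ : (Ideal.Quotient.mkₐ R I).comp ψ₀ = a.comp f := by
      apply MvPolynomial.algHom_ext
      intro s
      simp only [AlgHom.comp_apply, ψ₀, f, MvPolynomial.aeval_X, Ideal.Quotient.mkₐ_eq_mk, hα,
        _root_.id]
    letI : Algebra (MvPolynomial S R) A := ψ₀.toRingHom.toAlgebra
    haveI : IsScalarTower R (MvPolynomial S R) A :=
      IsScalarTower.of_algebraMap_eq' ψ₀.comp_algebraMap.symm
    have halg : ∀ x, algebraMap (MvPolynomial S R) A x = ψ₀ x := fun x => rfl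
    have hJI : ∀ x ∈ J, algebraMap (MvPolynomial S R) A x ∈ I := by
      intro x hx
      rw [halg, ← Ideal.Quotient.eq_zero_iff_mem]
      have := congrArg (fun g => g x) hψ₀
      simp only [AlgHom.comp_apply, Ideal.Quotient.mkₐ_eq_mk] at this
      rw [this, (hJmem x).mp hx, map_zero]
    -- the derivation
    let δ : Derivation R (MvPolynomial S R) I :=
      MvPolynomial.mkDerivation R (fun s => -(⟨ψ₀ (j s), hJI _ (hjJ s)⟩ : I))
    have hδX : ∀ s, δ (MvPolynomial.X s) = -(⟨ψ₀ (j s), hJI _ (hjJ s)⟩ : I) := fun s =>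
      MvPolynomial.mkDerivation_X _ _ _
    let ψ : MvPolynomial S R →ₐ[R] A := liftOfDerivationToSquareZero I hI δ
    have hψ : ∀ x, ψ x = δ x + ψ₀ x := fun x => rfl
    have hψI : ∀ x ∈ J, ψ x ∈ I := fun x hx => by
      rw [hψ]; exact I.add_mem (δ x).2 (hJI x hx)
    have hψj : ∀ s, ψ (j s) = 0 := by
      intro s
      rw [hψ, der_eq_of_sub_mem I hI J hJI δ _ _ (hjD s), hδX]
      simp
    have hψJ' : ∀ x ∈ J', ψ x = 0 := by
      intro x hx
      rw [← RingHom.mem_ker]
      revert x
      change J' ≤ RingHom.ker ψ.toRingHom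
      refine sup_le ?_ ?_
      · rw [pow_two, Ideal.mul_le]
        intro x hx y hy
        rw [RingHom.mem_ker]
        change ψ (x * y) = 0
        rw [map_mul, ← Ideal.mem_bot, ← hI, pow_two]
        exact Ideal.mul_mem_mul (hψI x hx) (hψI y hy)
      · rw [Ideal.span_le]
        rintro _ ⟨s, rfl⟩
        exact hψj s
    have hmkψ : ∀ x, Ideal.Quotient.mk I (ψ x) = a (f x) := by
      intro x
      rw [hψ, map_add, Ideal.Quotient.eq_zero_iff_mem.mpr (δ x).2, zero_add]
      have := congrArg (fun g => g x) hψ₀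
      simpa only [AlgHom.comp_apply, Ideal.Quotient.mkₐ_eq_mk] using this
    refine ⟨Ideal.Quotient.liftₐ J' ψ hψJ', ?_, ?_⟩
    · apply AlgHom.ext
      intro x
      obtain ⟨x, rfl⟩ := Ideal.Quotient.mk_surjective x
      simp only [AlgHom.comp_apply, Ideal.Quotient.mkₐ_eq_mk]
      rw [hπ]
      exact hmkψ x
    · intro a₁ ha₁
      apply AlgHom.ext
      intro x
      obtain ⟨x, rfl⟩ := Ideal.Quotient.mk_surjective x
      change a₁ (Ideal.Quotient.mk J' x) = ψ x
      let ψ₁ : MvPolynomial S R →ₐ[R] A := a₁.comp (Ideal.Quotient.mkₐ R J')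
      have hψ₁ : ∀ y, ψ₁ y = a₁ (Ideal.Quotient.mk J' y) := fun y => rfl
      have e₁ : (Ideal.Quotient.mkₐ R I).comp ψ₁ =
          IsScalarTower.toAlgHom R (MvPolynomial S R) (A ⧸ I) := by
        apply AlgHom.ext
        intro y
        have h1 := congrArg (fun g => g (Ideal.Quotient.mk J' y)) ha₁
        simp only [AlgHom.comp_apply, Ideal.Quotient.mkₐ_eq_mk] at h1
        simp only [AlgHom.comp_apply, Ideal.Quotient.mkₐ_eq_mk, hψ₁, h1, hπ]
        have h2 := congrArg (fun g => g y) hψ₀
        simp only [AlgHom.comp_apply, Ideal.Quotient.mkₐ_eq_mk] at h2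
        rw [← h2]
        rfl
      let δ₁ : Derivation R (MvPolynomial S R) I := derivationToSquareZeroOfLift I hI ψ₁ e₁
      have hδ₁ : ∀ y, ((δ₁ y : I) : A) = ψ₁ y - ψ₀ y := fun y => rfl
      have hδ₁j : ∀ s, δ₁ (j s) = -(⟨ψ₀ (j s), hJI _ (hjJ s)⟩ : I) := by
        intro s
        ext
        rw [hδ₁, hψ₁, Ideal.Quotient.eq_zero_iff_mem.mpr
          (show j s ∈ J' from Ideal.mem_sup_right (Ideal.subset_span ⟨s, rfl⟩)), map_zero, zero_sub]
        rfl
      have hδeq : δ₁ = δ := by
        apply MvPolynomial.derivation_ext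
        intro s
        rw [← der_eq_of_sub_mem I hI J hJI δ₁ _ _ (hjD s), hδ₁j, hδX]
      have := hδ₁ x
      rw [hδeq] at this
      rw [← hψ₁, hψ, this]
      ring

end Groth.Agent.S9426
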