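import Groth.Statements.S9427
import Mathlib
import Groth.Agent.Lib.Helper14.UnivThick
-- import your own Groth.Agent.* helpers here

set_option autoImplicit false
universe u
open OmegaSh

namespace Groth.Agent.S9427

open TensorProduct

open TensorProduct KaehlerDifferential in
theorem part1 (A : Type u) [CommRing A] (B : Type u) [CommRing B]
    [Algebra A B] (B' : Type u) [CommRing B'] [Algebra A B']
    [Algebra B' B] [IsScalarTower A B' B]
    (h : OmegaSh.IsUnivThickeningRing A B B' (IsScalarTower.toAlgHom A B' B)) :
    Algebra.FormallyUnramified A B' := by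
  constructor
  set K : Ideal B' := RingHom.ker (IsScalarTower.toAlgHom A B' B).toRingHom with hKdef
  set N : Submodule B' Ω[B'⁄A] := K • ⊤ with hN
  have hK : ∀ k ∈ RingHom.ker (IsScalarTower.toAlgHom A B' B).toRingHom,
      ∀ m : Ω[B'⁄A] ⧸ N, k • m = 0 := by
    intro k hk m
    obtain ⟨ω, rfl⟩ := Submodule.Quotient.mk_surjective N m
    rw [← Submodule.Quotient.mk_smul, Submodule.Quotient.mk_eq_zero]
    exact Submodule.smul_mem_smul hk Submodule.mem_top
  have hδ := Groth.Agent.Helper14.UnivThick.derivation_eq_zero (IsScalarTower.toAlgHom A B' B)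
    (Ω[B'⁄A] ⧸ N) h hK (N.mkQ.compDer (D A B'))
  have hD : ∀ x, D A B' x ∈ N := by
    intro x
    have := congrArg (fun d => d x) hδ
    simpa [Submodule.Quotient.mk_eq_zero] using this
  have htop : (⊤ : Submodule B' Ω[B'⁄A]) ≤ N := by
    rw [← KaehlerDifferential.span_range_derivation, Submodule.span_le]
    rintro _ ⟨x, rfl⟩
    exact hD x
  have hN2 : N = ⊥ := by
    have h1 : N = K • N := by
      conv_lhs => rw [hN, ← top_le_iff.mp htop]
    rw [h1, hN, ← mul_smul, ← pow_two, hKdef, h.2.1, Submodule.bot_smul]
  rw [← Submodule.subsingleton_iff B', ← subsingleton_iff_bot_eq_top, ← hN2]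
  exact top_le_iff.mp htop

/-- Let R → A → B be ring maps with A → B formally unramified, and let B' → B be a universal first order
thickening of B relative to A (B a B'-algebra through it). Then A → B' is formally unramified, and
base changing to B the natural B'-linear map B' ⊗_A Ω_{A/R} → Ω_{B'/R} gives a bijection B ⊗_{B'}
(B' ⊗_A Ω_{A/R}) → B ⊗_{B'} Ω_{B'/R}. -/
theorem result
    (R : Type u) [CommRing R] (A : Type u) [CommRing A] [Algebra R A] (B : Type u) [CommRing B]
    [Algebra A B] [Algebra.FormallyUnramified A B] (B' : Type u) [CommRing B'] [Algebra A B']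
    [Algebra R B'] [IsScalarTower R A B'] [Algebra B' B] [IsScalarTower A B' B]
    (h : OmegaSh.IsUnivThickeningRing A B B' (IsScalarTower.toAlgHom A B' B)) :
    Algebra.FormallyUnramified A B' ∧
      Function.Bijective ((KaehlerDifferential.mapBaseChange R A B').baseChange B) := by
  have hunr := part1 A B B' h
  refine ⟨hunr, ?_, ?_⟩
  · -- injectivity: a retraction from a derivation
    letI : Algebra R B := ((algebraMap A B).comp (algebraMap R A)).toAlgebra
    haveI : IsScalarTower R A B := IsScalarTower.of_algebraMap_eq' rfl
    haveI : IsScalarTower R B' B := by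
      refine IsScalarTower.of_algebraMap_eq fun r => ?_
      rw [IsScalarTower.algebraMap_apply R A B, IsScalarTower.algebraMap_apply R A B',
        ← IsScalarTower.algebraMap_apply A B' B]
    let f : Ω[A⁄R] →ₗ[A] B ⊗[B'] (B' ⊗[A] Ω[A⁄R]) :=
      ((TensorProduct.mk B' B (B' ⊗[A] Ω[A⁄R]) 1).restrictScalars A) ∘ₗ
        (TensorProduct.mk A B' Ω[A⁄R] 1)
    have hf : ∀ ω, f ω = (1 : B) ⊗ₜ[B'] ((1 : B') ⊗ₜ[A] ω) := fun ω => rfl
    have hK : ∀ k ∈ RingHom.ker (IsScalarTower.toAlgHom A B' B).toRingHom,
        ∀ m : B ⊗[B'] (B' ⊗[A] Ω[A⁄R]), k • m = 0 := by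
      intro k hk m
      have hk' : algebraMap B' B k = 0 := hk
      induction m using TensorProduct.induction_on with
      | zero => simp
      | tmul b x => rw [TensorProduct.smul_tmul', Algebra.smul_def, hk', zero_mul, zero_tmul]
      | add a b ha hb => rw [smul_add, ha, hb, add_zero]
    obtain ⟨δ, hδ⟩ := Groth.Agent.Helper14.UnivThick.exists_derivation_extension (R := R)
      (IsScalarTower.toAlgHom A B' B) (B ⊗[B'] (B' ⊗[A] Ω[A⁄R])) h hK
      (f.compDer (KaehlerDifferential.D R A))
    let ρ : B ⊗[B'] Ω[B'⁄R] →ₗ[B] B ⊗[B'] (B' ⊗[A] Ω[A⁄R]) :=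
      δ.liftKaehlerDifferential.liftBaseChange B
    have hρφ : ∀ m, ρ ((KaehlerDifferential.mapBaseChange R A B').baseChange B m) = m := by
      have hff : (((ρ ∘ₗ (KaehlerDifferential.mapBaseChange R A B').baseChange B).restrictScalars
          A) ∘ₗ f) = f := by
        apply Derivation.liftKaehlerDifferential_unique
        ext a
        change ρ ((KaehlerDifferential.mapBaseChange R A B').baseChange B
          (f (KaehlerDifferential.D R A a))) = f (KaehlerDifferential.D R A a)
        rw [hf, LinearMap.baseChange_tmul, KaehlerDifferential.mapBaseChange_tmul, one_smul,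
          KaehlerDifferential.map_D]
        change (δ.liftKaehlerDifferential.liftBaseChange B) _ = _
        rw [LinearMap.liftBaseChange_tmul, one_smul, Derivation.liftKaehlerDifferential_comp_D, hδ]
        rfl
      intro m
      induction m using TensorProduct.induction_on with
      | zero => simp
      | tmul b x =>
        induction x using TensorProduct.induction_on with
        | zero => simp
        | tmul b' ω =>
          have h1 : b ⊗ₜ[B'] (b' ⊗ₜ[A] ω) = (b * algebraMap B' B b') • f ω := by
            rw [hf, TensorProduct.smul_tmul', smul_eq_mul, mul_one, mul_comm, ← Algebra.smul_def,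
              TensorProduct.smul_tmul, TensorProduct.smul_tmul', smul_eq_mul, mul_one]
          rw [h1, map_smul, map_smul]
          congr 1
          exact LinearMap.congr_fun hff ω
        | add x y hx hy => rw [TensorProduct.tmul_add, map_add, map_add, hx, hy]
      | add a b ha hb => rw [map_add, map_add, ha, hb]
    exact Function.LeftInverse.injective hρφ
  · -- surjectivity
    have hs : Function.Surjective (KaehlerDifferential.mapBaseChange R A B') := by
      intro y
      exact (KaehlerDifferential.exact_mapBaseChange_map R A B' y).mp (Subsingleton.elim _ _)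
    rw [LinearMap.baseChange_eq_ltensor]
    exact LinearMap.lTensor_surjective B hs

end Groth.Agent.S9427
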