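import Groth.Statements.S7436
import Groth.Agent.Lib.Helper11.BddFib10

set_option autoImplicit false
universe u
open CategoryTheory AlgebraicGeometry
open BddFib

namespace Groth.Agent.S7436

/-- When every fibre of `f : X → Y` has degree at most `n` and every fibre of `g : Y → Z` has degree at
most `m`, every fibre of `g ∘ f` has degree at most `n m`. -/
theorem result {X Y Z : Scheme.{u}} (f : X ⟶ Y) (g : Y ⟶ Z) (n m : ℕ) (hf : BddFib.FibreDegLE f n)
    (hg : BddFib.FibreDegLE g m) : BddFib.FibreDegLE (f ≫ g) (n * m) := by
  rw [Groth.Agent.Helper11.BddFibLib.fibreDegLE_iff_field]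
  intro k _ z
  have hp := Groth.Agent.Helper11.BddFibLib.finiteOfDegLE_of_fibreDegLE g m hg k z
  have hf' : BddFib.FibreDegLE (Limits.pullback.snd f (Limits.pullback.fst g z)) n :=
    Groth.Agent.Helper11.BddFibLib.fibreDegLE_of_isPullback f (Limits.pullback.fst g z)
      (Limits.pullback.snd f (Limits.pullback.fst g z))
      (Limits.pullback.fst f (Limits.pullback.fst g z))
      (IsPullback.of_hasPullback f (Limits.pullback.fst g z)) n hf
  have hc := Groth.Agent.Helper11.BddFibLib.finiteOfDegLE_comp (Field.toIsField k)
    (Limits.pullback.snd g z) (Limits.pullback.snd f (Limits.pullback.fst g z)) n m hp hf'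
  exact Groth.Agent.Helper11.BddFibLib.finiteOfDegLE_of_flat_surjective (Field.toIsField k)
    (Limits.pullback.snd (f ≫ g) z)
    (Limits.pullback.snd f (Limits.pullback.fst g z) ≫ Limits.pullback.snd g z)
    (Limits.pullbackRightPullbackFstIso g z f).hom
    (Limits.pullbackRightPullbackFstIso_hom_snd g z f) (n * m) hc

end Groth.Agent.S7436
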