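import Groth.Statements.S5719
import Mathlib
import Groth.Agent.Lib.Helper5.Azu

set_option autoImplicit false
universe u v
open TensorProduct
open Dix

namespace Groth.Agent.S5719

theorem surj_of_fibres {R : Type*} [CommRing R] {M N : Type*} [AddCommGroup M] [Module R M]
    [AddCommGroup N] [Module R N] [Module.Finite R N] (f : M →ₗ[R] N)
    (h : ∀ (p : Ideal R) [p.IsPrime], Function.Surjective (f.baseChange p.ResidueField)) :
    Function.Surjective f := by
  rw [← LinearMap.range_eq_top, ← Submodule.Quotient.subsingleton_iff,
    ← Module.support_eq_empty_iff (R := R), Set.eq_empty_iff_forall_notMem]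
  intro p hp
  rw [Module.mem_support_iff_nontrivial_residueField_tensorProduct] at hp
  have hs : Function.Surjective ((LinearMap.range f).mkQ.baseChange p.asIdeal.ResidueField) := by
    rw [LinearMap.baseChange_eq_ltensor]
    exact LinearMap.lTensor_surjective _ (Submodule.mkQ_surjective _)
  have hsub : Subsingleton (p.asIdeal.ResidueField ⊗[R] (N ⧸ LinearMap.range f)) := by
    refine ⟨fun x y => ?_⟩
    have key : ∀ z : p.asIdeal.ResidueField ⊗[R] (N ⧸ LinearMap.range f), z = 0 := by
      intro z
      obtain ⟨z', rfl⟩ := hs z
      obtain ⟨z'', rfl⟩ := h p.asIdeal z'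
      rw [← LinearMap.comp_apply, ← LinearMap.baseChange_comp, LinearMap.range_mkQ_comp,
        LinearMap.baseChange_zero, LinearMap.zero_apply]
    rw [key x, key y]
  exact not_subsingleton _ hsub

theorem bij_of_fibres {R : Type*} [CommRing R] {M N : Type*} [AddCommGroup M] [Module R M]
    [AddCommGroup N] [Module R N] [Module.Finite R M] [Module.Finite R N] [Module.Projective R N]
    (f : M →ₗ[R] N)
    (h : ∀ (p : Ideal R) [p.IsPrime], Function.Bijective (f.baseChange p.ResidueField)) :
    Function.Bijective f := by
  have hsurj : Function.Surjective f := surj_of_fibres f fun p _ => (h p).2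
  obtain ⟨s, hs⟩ := Module.projective_lifting_property f LinearMap.id hsurj
  have hs_surj : Function.Surjective s := by
    apply surj_of_fibres
    intro p _ y
    refine ⟨f.baseChange p.ResidueField y, ?_⟩
    apply (h p).1
    rw [← LinearMap.comp_apply, ← LinearMap.baseChange_comp, hs, LinearMap.baseChange_id,
      LinearMap.id_apply]
  refine ⟨fun x y hxy => ?_, hsurj⟩
  obtain ⟨x', rfl⟩ := hs_surj x
  obtain ⟨y', rfl⟩ := hs_surj y
  have hx : f (s x') = x' := LinearMap.congr_fun hs x'
  have hy : f (s y') = y' := LinearMap.congr_fun hs y'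
  rw [hx, hy] at hxy
  rw [hxy]

theorem faithful_of_fibres {R : Type*} [CommRing R] {A : Type*} [Ring A] [Algebra R A]
    [Module.Flat R A]
    (h : ∀ (p : Ideal R) [p.IsPrime], Nontrivial (p.ResidueField ⊗[R] A)) :
    FaithfulSMul R A := by
  haveI : Module.FaithfullyFlat R A := by
    refine ⟨fun m hm htop => ?_⟩
    haveI := hm.isPrime
    haveI := h m
    have key : ∀ a : A, (1 : m.ResidueField) ⊗ₜ[R] a = 0 := by
      intro a
      have ha : a ∈ m • (⊤ : Submodule R A) := by rw [htop]; trivial
      refine Submodule.smul_induction_on ha ?_ ?_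
      · intro r hr n _
        rw [TensorProduct.tmul_smul, TensorProduct.smul_tmul', Algebra.smul_def, mul_one]
        have : algebraMap R m.ResidueField r = 0 := by
          rw [Ideal.algebraMap_residueField_eq_zero]
          exact hr
        rw [this, TensorProduct.zero_tmul]
      · intro x y hx hy
        rw [TensorProduct.tmul_add, hx, hy, add_zero]
    have : (1 : m.ResidueField ⊗[R] A) = 0 := by
      rw [Algebra.TensorProduct.one_def]
      exact key 1
    exact one_ne_zero this
  refine ⟨fun {r s} hrs => ?_⟩
  have h1 : (r - s) • (1 : A) = 0 := by rw [sub_smul, hrs 1, sub_self]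
  have h2 : (1 : A) ⊗ₜ[R] (r - s) = 0 := by
    have : (1 : A) ⊗ₜ[R] (r - s) = ((r - s) • (1 : A)) ⊗ₜ[R] (1 : R) := by
      rw [TensorProduct.smul_tmul, smul_eq_mul, mul_one]
    rw [this, h1, TensorProduct.zero_tmul]
  have h3 := (Module.FaithfullyFlat.one_tmul_eq_zero_iff R R (A := A) (r - s)).mp h2
  exact sub_eq_zero.mp h3

theorem end_finite_projective (R : Type*) [CommRing R] (M : Type*) [AddCommGroup M] [Module R M]
    [Module.Finite R M] [Module.Projective R M] :
    Module.Finite R (Module.End R M) ∧ Module.Projective R (Module.End R M) := by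
  obtain ⟨n, i, p, hpi⟩ := Groth.Agent.Helper29.exists_retract_of_finite_projective R M
  let α : Module.End R M →ₗ[R] Module.End R (Fin n → R) :=
    { toFun := fun f => i ∘ₗ f ∘ₗ p
      map_add' := fun f g => by simp [LinearMap.add_comp, LinearMap.comp_add]
      map_smul' := fun r f => by simp [LinearMap.smul_comp, LinearMap.comp_smul] }
  let β : Module.End R (Fin n → R) →ₗ[R] Module.End R M :=
    { toFun := fun g => p ∘ₗ g ∘ₗ i
      map_add' := fun f g => by simp [LinearMap.add_comp, LinearMap.comp_add]
      map_smul' := fun r f => by simp [LinearMap.smul_comp, LinearMap.comp_smul] }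
  have hβα : β ∘ₗ α = LinearMap.id := by
    ext f m
    have h1 : ∀ x, p (i x) = x := fun x => LinearMap.congr_fun hpi x
    simp [α, β, h1]
  refine ⟨Module.Finite.of_surjective β fun f => ⟨α f, LinearMap.congr_fun hβα f⟩,
    Module.Projective.of_split α β hβα⟩


/-- (i) ⇔ (ii), over an affine base. Let R be a commutative ring and A an R-algebra whose underlying
module is finite and projective (locally free of finite type). Then A ⊗_R A° → End_R(A) is bijective
with A faithful, i.e. A is an Azumaya algebra over R, if and only if every fibre κ(p) ⊗_R A, p a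
prime ideal of R, is a central simple algebra over the residue field κ(p). -/
theorem result (R : Type u) [CommRing R] (A : Type u) [Ring A] [Algebra R A] [Module.Finite R A] [Module.Projective R A] : IsAzumaya R A ↔ ∀ (p : Ideal R) [p.IsPrime], Algebra.IsCentral p.ResidueField (p.ResidueField ⊗[R] A) ∧ IsSimpleRing (p.ResidueField ⊗[R] A) := by
  constructor
  · intro h p _
    haveI := Groth.Agent.Helper29.isAzumaya_baseChange R p.ResidueField A
    exact ⟨inferInstance, Groth.Agent.Helper5.Azu.isSimpleRing_of_isAzumaya_field p.ResidueField _⟩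
  · intro h
    have hbc : ∀ (p : Ideal R) [p.IsPrime], Function.Bijective
        ((AlgHom.mulLeftRight R A).toLinearMap.baseChange p.ResidueField) := by
      intro p _
      haveI := (h p).1
      haveI := (h p).2
      exact Groth.Agent.Helper5.Azu.baseChange_mulLeftRight_bijective R p.ResidueField A
        (Groth.Agent.Helper17.mulLeftRight_bijective p.ResidueField (p.ResidueField ⊗[R] A))
    haveI : FaithfulSMul R A := faithful_of_fibres fun p _ => by
      haveI := (h p).2
      infer_instance
    haveI := (end_finite_projective R A).1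
    haveI := (end_finite_projective R A).2
    have hbij := bij_of_fibres (AlgHom.mulLeftRight R A).toLinearMap hbc
    exact { bij := hbij }

end Groth.Agent.S5719
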