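import Groth.Statements.S6411
import Groth.Agent.S6393

set_option autoImplicit false
open CategoryTheory
universe v₄ u₄ v₃ u₃ v₂ u₂ v u
open FibCat

namespace Groth.Agent.S6411

open Functor Limits

section
variable {C : Type u} [Category.{v} C] {𝒵 : BasedCategory.{v₂, u₂} C}
  {𝒳 : BasedCategory.{v₃, u₃} C} {𝒴 : BasedCategory.{v₄, u₄} C}
  (G : 𝒵 ⥤ᵇ 𝒴) (F : 𝒳 ⥤ᵇ 𝒴)

/-- The first projection of a 2-fibre product `𝒵 ×_𝒴 𝒳` is fibred in groupoids when `𝒳`, `𝒴`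
are fibred in groupoids over `C`. -/
theorem fibGrpd_fst (h𝒳 : IsFibGrpd 𝒳.p) (h𝒴 : IsFibGrpd 𝒴.p) :
    IsFibGrpd (fpFst G F).toFunctor := by
  have hfib𝒳 : 𝒳.p.IsFibered := ((Groth.Agent.S6393.result 𝒳.p).mp h𝒳).1
  have sc𝒴 : ∀ {R S : C} (f : R ⟶ S) {a b : 𝒴.obj} (φ : a ⟶ b), 𝒴.p.IsHomLift f φ →
      𝒴.p.IsStronglyCartesian f φ :=
    fun f _ _ φ h => Groth.Agent.S6393.sc_of_lift 𝒴.p f φ h (h𝒴.isStronglyCartesian φ)
  have sc𝒳 : ∀ {R S : C} (f : R ⟶ S) {a b : 𝒳.obj} (φ : a ⟶ b), 𝒳.p.IsHomLift f φ →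
      𝒳.p.IsStronglyCartesian f φ :=
    fun f _ _ φ h => Groth.Agent.S6393.sc_of_lift 𝒳.p f φ h (h𝒳.isStronglyCartesian φ)
  refine ⟨?_, ?_⟩
  · intro x B g₀
    obtain ⟨g, hg₀⟩ : ∃ g : B ⟶ x.obj.fst, g = g₀ := ⟨g₀, rfl⟩
    have ha : 𝒳.p.obj x.obj.snd = 𝒵.p.obj x.obj.fst := (fpSnd G F).w_obj x
    obtain ⟨f, hf⟩ : ∃ f : 𝒵.p.obj B ⟶ 𝒵.p.obj x.obj.fst, f = 𝒵.p.map g := ⟨_, rfl⟩
    let φ := IsPreFibered.pullbackMap (p := 𝒳.p) ha f
    have hφ : 𝒳.p.IsStronglyCartesian f φ := inferInstance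
    have hFφ : 𝒴.p.IsStronglyCartesian f (F.map φ) := sc𝒴 f (F.map φ) inferInstance
    have hx : 𝒴.p.IsHomLift (𝟙 (𝒵.p.obj x.obj.fst)) x.obj.iso.hom := x.property
    have hg : 𝒵.p.IsHomLift f g := by rw [hf]; infer_instance
    have hGg : 𝒴.p.IsHomLift f (G.map g) := inferInstance
    have hcomp : 𝒴.p.IsStronglyCartesian f (G.map g ≫ x.obj.iso.hom) :=
      sc𝒴 f _ inferInstance
    have hff : f = (Iso.refl (𝒵.p.obj B)).hom ≫ f := by simp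
    let κ := IsStronglyCartesian.domainIsoOfBaseIso 𝒴.p hff (F.map φ) (G.map g ≫ x.obj.iso.hom)
    have hκ : 𝒴.p.IsHomLift (𝟙 (𝒵.p.obj B)) κ.hom := by
      have : 𝒴.p.IsHomLift (Iso.refl (𝒵.p.obj B)).hom κ.hom := inferInstance
      exact this
    have hκfac : κ.hom ≫ F.map φ = G.map g ≫ x.obj.iso.hom :=
      IsStronglyCartesian.fac 𝒴.p f (F.map φ) hff (G.map g ≫ x.obj.iso.hom)
    let y : (fp G F).obj :=
      ⟨{ fst := B
         snd := IsPreFibered.pullbackObj (p := 𝒳.p) ha f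
         iso := κ }, hκ⟩
    let Φ : y ⟶ x := ObjectProperty.homMk { fst := g, snd := φ, w := hκfac.symm }
    refine ⟨y, Φ, ?_⟩
    have : (fpFst G F).toFunctor.IsHomLift ((fpFst G F).toFunctor.map Φ) Φ := inferInstance
    rw [← hg₀]
    exact this
  · intro y x Φ
    refine { toIsHomLift := inferInstance, universal_property' := ?_ }
    intro z h₀ Ψ hΨ
    obtain ⟨h, hh₀⟩ : ∃ h : z.obj.fst ⟶ y.obj.fst, h = h₀ := ⟨h₀, rfl⟩
    have hΨ1 : Ψ.hom.fst = h ≫ Φ.hom.fst := by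
      have := IsHomLift.fac' (fpFst G F).toFunctor (h₀ ≫ (fpFst G F).toFunctor.map Φ) Ψ
      rw [hh₀]
      have this2 : (fpFst G F).toFunctor.map Ψ = h₀ ≫ (fpFst G F).toFunctor.map Φ := by
        simpa using this
      exact this2
    have hb : 𝒳.p.IsStronglyCartesian (𝒵.p.map Φ.hom.fst) Φ.hom.snd :=
      sc𝒳 _ _ (fp_isHomLift_snd G F Φ)
    have hΨ2 : 𝒳.p.IsHomLift (𝒵.p.map Ψ.hom.fst) Ψ.hom.snd := fp_isHomLift_snd G F Ψ
    have hfac : 𝒵.p.map Ψ.hom.fst = 𝒵.p.map h ≫ 𝒵.p.map Φ.hom.fst := by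
      rw [hΨ1, Functor.map_comp]
    let e := IsStronglyCartesian.map 𝒳.p (𝒵.p.map Φ.hom.fst) Φ.hom.snd hfac Ψ.hom.snd
    have he : 𝒳.p.IsHomLift (𝒵.p.map h) e := inferInstance
    have hefac : e ≫ Φ.hom.snd = Ψ.hom.snd := IsStronglyCartesian.fac _ _ _ _ _
    have hz : 𝒴.p.IsHomLift (𝟙 (𝒵.p.obj z.obj.fst)) z.obj.iso.hom := z.property
    have hy : 𝒴.p.IsHomLift (𝟙 (𝒵.p.obj y.obj.fst)) y.obj.iso.hom := y.property
    have hFb : 𝒴.p.IsStronglyCartesian (𝒵.p.map Φ.hom.fst) (F.map Φ.hom.snd) :=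
      sc𝒴 _ _ inferInstance
    have hw : G.map h ≫ y.obj.iso.hom = z.obj.iso.hom ≫ F.map e := by
      have hh : 𝒵.p.IsHomLift (𝒵.p.map h) h := inferInstance
      have hl : 𝒴.p.IsHomLift (𝒵.p.map h) (G.map h ≫ y.obj.iso.hom) := inferInstance
      have hr : 𝒴.p.IsHomLift (𝒵.p.map h) (z.obj.iso.hom ≫ F.map e) := inferInstance
      apply IsStronglyCartesian.ext 𝒴.p (𝒵.p.map Φ.hom.fst) (F.map Φ.hom.snd) (𝒵.p.map h)
      have w1 := Φ.hom.w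
      have w2 := Ψ.hom.w
      rw [Category.assoc, Category.assoc, ← F.map_comp, hefac]
      change G.map h ≫ y.obj.iso.hom ≫ F.toFunctor.map Φ.hom.snd = _
      rw [← w1, ← Category.assoc]
      rw [← G.toFunctor.map_comp, ← hΨ1, w2]
    let χ : z ⟶ y := ObjectProperty.homMk { fst := h, snd := e, w := hw }
    refine ⟨χ, ⟨?_, ?_⟩, ?_⟩
    · have : (fpFst G F).toFunctor.IsHomLift ((fpFst G F).toFunctor.map χ) χ := inferInstance
      rw [← hh₀]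
      exact this
    · apply ObjectProperty.hom_ext
      apply CategoricalPullback.hom_ext
      · exact hΨ1.symm
      · exact hefac
    · rintro χ' ⟨hχ'1, hχ'2⟩
      have h1 : χ'.hom.fst = h := by
        have := IsHomLift.fac' (fpFst G F).toFunctor h₀ χ'
        rw [hh₀]
        have this2 : (fpFst G F).toFunctor.map χ' = h₀ := by simpa using this
        exact this2
      apply ObjectProperty.hom_ext
      apply CategoricalPullback.hom_ext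
      · exact h1
      · have : 𝒳.p.IsHomLift (𝒵.p.map h) χ'.hom.snd := by
          have := fp_isHomLift_snd G F χ'
          rw [← h1]; exact this
        refine IsStronglyCartesian.map_uniq 𝒳.p (𝒵.p.map Φ.hom.fst) Φ.hom.snd hfac Ψ.hom.snd
          χ'.hom.snd ?_
        rw [← hχ'2]; rfl

end


/-- For `𝒳, 𝒴` fibred in groupoids over `C`, `F : 𝒳 ⟶ 𝒴` over `C` and `G : C/U ⟶ 𝒴` over `C`, the
projection `(C/U) ×_𝒴 𝒳 ⟶ C/U` is a category fibred in groupoids. -/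
theorem result {C : Type u} [Category.{v} C] {𝒳 𝒴 : BasedCategory.{v, max u v} C} (h𝒳 : FibCat.IsFibGrpd 𝒳.p) (h𝒴 : FibCat.IsFibGrpd 𝒴.p) (F : 𝒳 ⥤ᵇ 𝒴) (U : C) (G : FibCat.overCat U ⥤ᵇ 𝒴) :
    FibCat.IsFibGrpd (FibCat.fpFst G F).toFunctor := by
  exact fibGrpd_fst G F h𝒳 h𝒴

end Groth.Agent.S6411
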