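import Mathlib
import Groth.Statements.S12810
import Groth.Agent.Lib.Helper19.StackLib
-- import your own Groth.Agent.* helpers here

set_option autoImplicit false
open CategoryTheory
universe v u
open Stk

namespace Groth.Agent.S12810

open FibCat Groth.Agent.Helper19.FibLib Groth.Agent.Helper19.StackLib

theorem setoid_of_equiv {C : Type u} [Category.{v} C] {𝒳 𝒴 : BasedCategory.{v, max u v} C}
    (F : 𝒳 ⥤ᵇ 𝒴) (hF : FibCat.IsEquivOver F) (h : FibCat.IsFibSetoid 𝒳.p) : FibCat.IsFibSetoid 𝒴.p := by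
  obtain ⟨G, hG, -, -⟩ := IsEquivOver.exists_inv hF
  have hGe : G.toFunctor.IsEquivalence := IsEquivOver.isEquivalence hG
  refine ⟨isFibGrpd_of_equiv F hF h.1, ?_⟩
  intro U a b
  constructor
  intro φ ψ
  apply Functor.Fiber.hom_ext
  apply G.toFunctor.map_injective
  have hφ : 𝒴.p.IsHomLift (𝟙 U) φ.1 := φ.2
  have hψ : 𝒴.p.IsHomLift (𝟙 U) ψ.1 := ψ.2
  have h1 : 𝒳.p.IsHomLift (𝟙 U) (G.map φ.1) := BasedFunctor.preserves_isHomLift G (𝟙 U) φ.1
  have h2 : 𝒳.p.IsHomLift (𝟙 U) (G.map ψ.1) := BasedFunctor.preserves_isHomLift G (𝟙 U) ψ.1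
  have ha : 𝒳.p.obj (G.obj a.1) = U := (G.w_obj a.1).trans a.2
  have hb : 𝒳.p.obj (G.obj b.1) = U := (G.w_obj b.1).trans b.2
  have := (h.2 U (⟨G.obj a.1, ha⟩ : 𝒳.p.Fiber U) ⟨G.obj b.1, hb⟩).elim ⟨G.map φ.1, h1⟩ ⟨G.map ψ.1, h2⟩
  exact congrArg Subtype.val this


/-- If two categories over `C` are equivalent in the 2-category of categories over `C`, then one is a
stack in setoids for the topology `J` (a stack in groupoids fibred in setoids) if and only if the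
other is. -/
theorem result {C : Type u} [Category.{v} C] (J : GrothendieckTopology C) {𝒳 𝒴 : BasedCategory.{v, max u v} C}
    (F : 𝒳 ⥤ᵇ 𝒴) (hF : FibCat.IsEquivOver F) :
    (Stk.IsStack J 𝒳 ∧ FibCat.IsFibSetoid 𝒳.p) ↔ (Stk.IsStack J 𝒴 ∧ FibCat.IsFibSetoid 𝒴.p) := by
  obtain ⟨G, hG, -, -⟩ := IsEquivOver.exists_inv hF
  rw [isStack_iff_of_equiv J F hF]
  exact and_congr Iff.rfl ⟨setoid_of_equiv F hF, setoid_of_equiv G hG⟩

end Groth.Agent.S12810
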