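import Mathlib
import Groth.Statements.S13022
import Groth.Agent.Lib.Helper19.FppfLift

set_option autoImplicit false
universe u
open CategoryTheory AlgebraicGeometry
open AlgSt

namespace Groth.Agent.S13022

/-- Let f_j : 𝒳_j → 𝒳 be a family of flat, locally finitely presented morphisms of algebraic stacks
which is jointly surjective on points. Then, given any scheme U and any object x of 𝒳 lying over U,
one can find an fppf covering {U_i → U}, indices j(i) and objects x_i of 𝒳_{j(i)} over U_i with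
f_{j(i)}(x_i) ≅ x|_{U_i}. -/
theorem result
    (S : Scheme.{u}) (𝒳 : AlgSt.Cat S)
    (h𝒳 : AlgSt.IsAlgStack Scheme.fppfPrecoverage 𝒳)
    (J : Type u) (𝒳' : J → AlgSt.Cat S) (h𝒳' : ∀ j, AlgSt.IsAlgStack Scheme.fppfPrecoverage (𝒳' j))
    (f : ∀ j, 𝒳' j ⥤ᵇ 𝒳)
    (hf₁ : ∀ j, AlgSt.LocQ (AlgSp.LocP @Flat) (f j)) (hf₂ : ∀ j, AlgSt.LocQ (AlgSp.LocP @LocallyOfFinitePresentation) (f j))
    (hf₃ : ∀ p : AlgSt.Points 𝒳, ∃ j, p ∈ Set.range (AlgSt.Points.map (f j)))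
    (U : Over S) (x : FibCat.overCat U ⥤ᵇ 𝒳) :
    ∃ (ι : Type u) (V : ι → Over S) (g : ∀ i, V i ⟶ U) (c : ι → J),
      (Presieve.ofArrows (fun i ↦ (V i).left) fun i ↦ (g i).left) ∈ Scheme.fppfPrecoverage U.left ∧
      ∀ i, ∃ x' : FibCat.overCat (V i) ⥤ᵇ 𝒳' (c i),
        Nonempty (BasedFunctor.comp x' (f (c i)) ≅ BasedFunctor.comp (AlgSt.overMap (g i)) x) := by
  choose V u g θ hu hus hflat hlfp using fun j =>
    Groth.Agent.Helper19.LocQGen.exists_fppf_chart (h𝒳' j) h𝒳 (f j) (hf₁ j) (hf₂ j) x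
  have hsurj : ∀ p : U.left, ∃ j y, (g j).left y = p := by
    intro p
    obtain ⟨j, hj⟩ := hf₃ (AlgSt.Points.ofChart x p)
    obtain ⟨y, hy⟩ := Groth.Agent.Helper19.LocQGen.range_of_chart (h𝒳' j).isStack.1 h𝒳.isStack.1 (f j) x
      (u j) (g j) (θ j) (hus j) p hj
    exact ⟨j, y, hy⟩
  refine ⟨J, V, g, id, ?_, fun j => ⟨BasedFunctor.comp (u j) (FibCat.fpSnd x (f j)),
    ⟨Groth.Agent.Helper19.LocQCore.liftIso (f j) x (u j) (AlgSt.overMap (g j)) (θ j)⟩⟩⟩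
  let 𝒰 : U.left.Cover (Scheme.precoverage (@Flat ⊓ @LocallyOfFinitePresentation)) :=
    Scheme.Cover.mkOfCovers J (fun i => (V i).left) (fun i => (g i).left) hsurj
      (fun i => ⟨hflat i, hlfp i⟩)
  exact 𝒰.mem₀

end Groth.Agent.S13022
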