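import Groth.Statements.S6395
import Mathlib

set_option autoImplicit false
open CategoryTheory
universe v u
open FibCat

namespace Groth.Agent.S6395

open CategoryTheory Functor

/-- The underlying functor of an equivalence over `C` is an equivalence. -/
theorem isEquivalence {C : Type u} [Category.{v} C] {𝒳 𝒴 : BasedCategory.{v, max u v} C}
    (F : 𝒳 ⥤ᵇ 𝒴) (G : 𝒴 ⥤ᵇ 𝒳) (η : BasedFunctor.comp F G ≅ BasedFunctor.id 𝒳)
    (ε : BasedFunctor.comp G F ≅ BasedFunctor.id 𝒴) : F.toFunctor.IsEquivalence := by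
  let η' : F.toFunctor ⋙ G.toFunctor ≅ 𝟭 𝒳.obj := (BasedNatTrans.forgetful 𝒳 𝒳).mapIso η
  let ε' : G.toFunctor ⋙ F.toFunctor ≅ 𝟭 𝒴.obj := (BasedNatTrans.forgetful 𝒴 𝒴).mapIso ε
  exact (CategoryTheory.Equivalence.mk F.toFunctor G.toFunctor η'.symm ε').isEquivalence_functor

/-- Essential surjectivity over `C`. -/
theorem ess_surj {C : Type u} [Category.{v} C] {𝒳 𝒴 : BasedCategory.{v, max u v} C}
    (F : 𝒳 ⥤ᵇ 𝒴) (G : 𝒴 ⥤ᵇ 𝒳)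
    (ε : BasedFunctor.comp G F ≅ BasedFunctor.id 𝒴) (a' : 𝒴.obj) :
    ∃ (a₀ : 𝒳.obj) (e : F.obj a₀ ≅ a'), IsHomLift 𝒴.p (𝟙 (𝒴.p.obj a')) e.hom := by
  let ε' : G.toFunctor ⋙ F.toFunctor ≅ 𝟭 𝒴.obj := (BasedNatTrans.forgetful 𝒴 𝒴).mapIso ε
  refine ⟨G.obj a', ε'.app a', ?_⟩
  exact ε.hom.isHomLift' a'

theorem general {C : Type u} [Category.{v} C] {𝒳 𝒴 : BasedCategory.{v, max u v} C}
    (F : 𝒳 ⥤ᵇ 𝒴)
    (hess : ∀ a' : 𝒴.obj, ∃ (a₀ : 𝒳.obj) (e : F.obj a₀ ≅ a'),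
      IsHomLift 𝒴.p (𝟙 (𝒴.p.obj a')) e.hom)
    [F.toFunctor.Full] [F.toFunctor.Faithful]
    {R S : C} (f : R ⟶ S) {a b : 𝒳.obj} (φ : a ⟶ b) [𝒳.p.IsStronglyCartesian f φ] :
    𝒴.p.IsStronglyCartesian f (F.map φ) := by
  refine { toIsHomLift := inferInstance, universal_property' := ?_ }
  intro a' g ψ hψ
  obtain ⟨a₀, e, he⟩ := hess a'
  have : IsHomLift 𝒴.p (g ≫ f) (e.hom ≫ ψ) := inferInstance
  obtain ⟨ψ₀, hψ₀⟩ := F.toFunctor.map_surjective (e.hom ≫ ψ)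
  have : IsHomLift 𝒳.p (g ≫ f) ψ₀ := by
    rw [← BasedFunctor.isHomLift_iff F, hψ₀]; infer_instance
  let χ₀ : a₀ ⟶ a := IsStronglyCartesian.map 𝒳.p f φ (rfl : g ≫ f = g ≫ f) ψ₀
  have hχ₀ : IsHomLift 𝒳.p g χ₀ := IsStronglyCartesian.map_isHomLift 𝒳.p f φ rfl ψ₀
  have hfac : χ₀ ≫ φ = ψ₀ := IsStronglyCartesian.fac 𝒳.p f φ rfl ψ₀
  have : IsHomLift 𝒴.p (𝟙 (𝒴.p.obj a')) e.inv := inferInstance
  refine ⟨e.inv ≫ F.map χ₀, ⟨inferInstance, ?_⟩, ?_⟩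
  · rw [Category.assoc, ← F.map_comp, hfac, hψ₀, e.inv_hom_id_assoc]
  · rintro χ' ⟨hχ'1, hχ'2⟩
    have : IsHomLift 𝒴.p g (e.hom ≫ χ') := inferInstance
    obtain ⟨χ₀', hχ₀'⟩ := F.toFunctor.map_surjective (e.hom ≫ χ')
    have : IsHomLift 𝒳.p g χ₀' := by
      rw [← BasedFunctor.isHomLift_iff F, hχ₀']; infer_instance
    have h1 : χ₀' ≫ φ = ψ₀ := by
      apply F.toFunctor.map_injective
      rw [F.toFunctor.map_comp, hχ₀', hψ₀, Category.assoc, hχ'2]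
    have h2 : χ₀' = χ₀ := IsStronglyCartesian.map_uniq 𝒳.p f φ rfl ψ₀ χ₀' h1
    rw [← h2, hχ₀', e.inv_hom_id_assoc]

/-- An equivalence `F : 𝒳 ⟶ 𝒴` in the 2-category of categories over `C` maps strongly cartesian
morphisms to strongly cartesian morphisms. -/
theorem result {C : Type u} [Category.{v} C] {𝒳 𝒴 : BasedCategory.{v, max u v} C} (F : 𝒳 ⥤ᵇ 𝒴) (hF : FibCat.IsEquivOver F)
    {R S : C} (f : R ⟶ S) {a b : 𝒳.obj} (φ : a ⟶ b) [𝒳.p.IsStronglyCartesian f φ] :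
    𝒴.p.IsStronglyCartesian f (F.map φ) := by
  obtain ⟨G, ⟨η⟩, ⟨ε⟩⟩ := hF
  have := isEquivalence F G η ε
  exact general F (ess_surj F G ε) f φ

end Groth.Agent.S6395
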