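import Groth.Statements.S6396
import Groth.Agent.S6393

set_option autoImplicit false
open CategoryTheory
universe v u
open FibCat

namespace Groth.Agent.S6396

/-- A functor `G` over `C` between categories fibred in groupoids is faithful if and only if each
induced functor of fibre categories `𝒳_U ⥤ 𝒴_U` is faithful. -/
theorem result {C : Type u} [Category.{v} C] {𝒳 𝒴 : BasedCategory.{v, max u v} C} (G : 𝒳 ⥤ᵇ 𝒴) (h𝒳 : FibCat.IsFibGrpd 𝒳.p) (h𝒴 : FibCat.IsFibGrpd 𝒴.p) :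
    G.toFunctor.Faithful ↔ ∀ U : C, (FibCat.fiberFunctor G U).Faithful := by
  constructor
  · intro hG U
    refine ⟨fun {x y} φ₁ φ₂ h => ?_⟩
    apply Functor.Fiber.hom_ext
    apply G.toFunctor.map_injective
    exact congrArg Subtype.val h
  · intro hfib
    refine ⟨fun {x y} φ₁ φ₂ h => ?_⟩
    have hsc2 : 𝒳.p.IsStronglyCartesian (𝒳.p.map φ₂) φ₂ := h𝒳.isStronglyCartesian φ₂
    have hl2 : 𝒴.p.IsHomLift (𝒳.p.map φ₂) (G.map φ₂) := inferInstance
    have hl1' : 𝒴.p.IsHomLift (𝒳.p.map φ₂) (G.map φ₁) := by rw [h]; exact hl2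
    have hl1 : 𝒳.p.IsHomLift (𝒳.p.map φ₂) φ₁ := G.isHomLift_map _ _
    let χ := Functor.IsStronglyCartesian.map 𝒳.p (𝒳.p.map φ₂) φ₂ (g := 𝟙 (𝒳.p.obj x))
      (Category.id_comp _).symm φ₁
    have hχ : χ ≫ φ₂ = φ₁ := Functor.IsStronglyCartesian.fac _ _ _ _ _
    have hχl : 𝒳.p.IsHomLift (𝟙 (𝒳.p.obj x)) χ := inferInstance
    have hGsc : 𝒴.p.IsStronglyCartesian (𝒳.p.map φ₂) (G.map φ₂) :=
      Groth.Agent.S6393.sc_of_lift 𝒴.p _ _ hl2 (h𝒴.isStronglyCartesian (G.map φ₂))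
    have hGχ : G.map χ = 𝟙 (G.obj x) := by
      have : 𝒴.p.IsHomLift (𝟙 (𝒳.p.obj x)) (G.map χ) := inferInstance
      apply Functor.IsStronglyCartesian.ext 𝒴.p (𝒳.p.map φ₂) (G.map φ₂) (𝟙 (𝒳.p.obj x))
      rw [← G.map_comp, hχ, h, Category.id_comp]
    have hχ1 : χ = 𝟙 x := by
      have key : (FibCat.fiberFunctor G (𝒳.p.obj x)).map (Functor.Fiber.homMk 𝒳.p (𝒳.p.obj x) χ)
          = (FibCat.fiberFunctor G (𝒳.p.obj x)).map (𝟙 _) := by
        apply Functor.Fiber.hom_ext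
        rw [CategoryTheory.Functor.map_id, CategoryTheory.Functor.map_id]
        exact hGχ
      have := (hfib (𝒳.p.obj x)).map_injective key
      exact congrArg Subtype.val this
    rw [← hχ, hχ1, Category.id_comp]

end Groth.Agent.S6396
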