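import Groth.Statements.S6397
import Groth.Agent.S6396

set_option autoImplicit false
open CategoryTheory
universe v u
open FibCat

namespace Groth.Agent.S6397

/-- A functor `G` over `C` between categories fibred in groupoids is fully faithful if and only if each
induced functor of fibre categories `𝒳_U ⥤ 𝒴_U` is fully faithful. -/
theorem result {C : Type u} [Category.{v} C] {𝒳 𝒴 : BasedCategory.{v, max u v} C} (G : 𝒳 ⥤ᵇ 𝒴) (h𝒳 : FibCat.IsFibGrpd 𝒳.p) (h𝒴 : FibCat.IsFibGrpd 𝒴.p) :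
    (G.toFunctor.Full ∧ G.toFunctor.Faithful) ↔ ∀ U : C, (FibCat.fiberFunctor G U).Full ∧ (FibCat.fiberFunctor G U).Faithful := by
  constructor
  · rintro ⟨hfull, hfaith⟩ U
    refine ⟨⟨fun {x y} ψ => ?_⟩, ((Groth.Agent.S6396.result G h𝒳 h𝒴).mp hfaith) U⟩
    obtain ⟨φ, hφ⟩ := G.toFunctor.map_surjective ψ.1
    have h1 : 𝒴.p.IsHomLift (𝟙 U) (G.map φ) := by
      have : G.map φ = ψ.1 := hφ
      rw [this]; exact ψ.2
    have h2 : 𝒳.p.IsHomLift (𝟙 U) φ := G.isHomLift_map _ _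
    exact ⟨⟨φ, h2⟩, Functor.Fiber.hom_ext hφ⟩
  · intro hfib
    refine ⟨⟨fun {x y} ψ => ?_⟩, (Groth.Agent.S6396.result G h𝒳 h𝒴).mpr (fun U => (hfib U).2)⟩
    let f' : 𝒳.p.obj x ⟶ 𝒳.p.obj y :=
      eqToHom (G.w_obj x).symm ≫ 𝒴.p.map ψ ≫ eqToHom (G.w_obj y)
    have hψ : 𝒴.p.IsHomLift f' ψ := by
      dsimp only [f']
      infer_instance
    obtain ⟨x', φ', hφ'⟩ := h𝒳.exists_lift (x := y) f'
    have hGφ' : 𝒴.p.IsHomLift f' (G.map φ') := inferInstance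
    have hGsc : 𝒴.p.IsStronglyCartesian f' (G.map φ') :=
      Groth.Agent.S6393.sc_of_lift 𝒴.p _ _ hGφ' (h𝒴.isStronglyCartesian (G.map φ'))
    have hψ' : 𝒴.p.IsHomLift (𝟙 (𝒳.p.obj x) ≫ f') ψ := by
      rw [Category.id_comp]; exact hψ
    let θ := Functor.IsStronglyCartesian.map 𝒴.p f' (G.map φ') (g := 𝟙 (𝒳.p.obj x)) rfl ψ
    have hθ : θ ≫ G.map φ' = ψ := Functor.IsStronglyCartesian.fac _ _ _ _ _
    have hθl : 𝒴.p.IsHomLift (𝟙 (𝒳.p.obj x)) θ := inferInstance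
    have hx' : 𝒳.p.obj x' = 𝒳.p.obj x := IsHomLift.domain_eq 𝒳.p f' φ'
    let X : 𝒳.p.Fiber (𝒳.p.obj x) := Functor.Fiber.mk (rfl : 𝒳.p.obj x = 𝒳.p.obj x)
    let X' : 𝒳.p.Fiber (𝒳.p.obj x) := Functor.Fiber.mk hx'
    let θ' : (FibCat.fiberFunctor G (𝒳.p.obj x)).obj X ⟶ (FibCat.fiberFunctor G (𝒳.p.obj x)).obj X' :=
      ⟨θ, hθl⟩
    obtain ⟨τ, hτ⟩ := (hfib (𝒳.p.obj x)).1.map_surjective θ'
    have hτ' : G.map τ.1 = θ := congrArg Subtype.val hτ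
    refine ⟨τ.1 ≫ φ', ?_⟩
    change G.map (τ.1 ≫ φ') = ψ
    rw [G.map_comp, hτ']
    exact hθ

end Groth.Agent.S6397
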