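import Groth.Statements.S6399
import Groth.Agent.S6400
import Groth.Agent.S6397
import Groth.Agent.S6395

set_option autoImplicit false
open CategoryTheory
universe v u
open FibCat

namespace Groth.Agent.S6399

open Limits

section
variable {C : Type u} [Category.{v} C] {𝒳 𝒴 : BasedCategory.{v, max u v} C} (G : 𝒳 ⥤ᵇ 𝒴)

lemma diag_iso_hom (x : 𝒳.obj) : ((diag G).obj x).obj.iso.hom = 𝟙 (G.obj x) := rfl

lemma diag_fst (x : 𝒳.obj) : ((diag G).obj x).obj.fst = x := rfl

lemma diag_snd (x : 𝒳.obj) : ((diag G).obj x).obj.snd = x := rfl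

lemma diag_map_fst {x y : 𝒳.obj} (f : x ⟶ y) : ((diag G).map f).hom.fst = f := rfl

lemma diag_map_snd {x y : 𝒳.obj} (f : x ⟶ y) : ((diag G).map f).hom.snd = f := rfl

/-- forward direction -/
theorem fwd [G.toFunctor.Full] [G.toFunctor.Faithful] : FibCat.IsEquivOver (FibCat.diag G) := by
  refine ⟨fpFst G G, ⟨?_⟩, ⟨?_⟩⟩
  · refine BasedNatIso.mkNatIso (NatIso.ofComponents (fun x => Iso.refl x) ?_) ?_
    · intro x y f
      show f ≫ 𝟙 y = 𝟙 x ≫ f
      rw [Category.comp_id, Category.id_comp]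
    · intro x
      exact IsHomLift.id rfl
  · refine BasedNatIso.mkNatIso (NatIso.ofComponents (fun z => ObjectProperty.isoMk _
      (CategoricalPullback.mkIso (x := ((diag G).obj ((fpFst G G).obj z)).obj) (y := z.obj)
        (Iso.refl z.obj.fst) (G.toFunctor.preimageIso z.obj.iso) (by
          rw [diag_iso_hom]
          show G.toFunctor.map (𝟙 z.obj.fst) ≫ z.obj.iso.hom =
            𝟙 _ ≫ G.toFunctor.map (G.toFunctor.preimage z.obj.iso.hom)
          rw [CategoryTheory.Functor.map_id, CategoryTheory.Functor.map_preimage,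
            Category.id_comp]))) ?_) ?_
    · intro z z' f
      apply ObjectProperty.hom_ext
      apply CategoricalPullback.hom_ext
      · show f.hom.fst ≫ 𝟙 _ = 𝟙 _ ≫ f.hom.fst
        simp
      · show f.hom.fst ≫ G.toFunctor.preimage z'.obj.iso.hom =
          G.toFunctor.preimage z.obj.iso.hom ≫ f.hom.snd
        apply G.toFunctor.map_injective
        rw [CategoryTheory.Functor.map_comp, CategoryTheory.Functor.map_comp,
          CategoryTheory.Functor.map_preimage, CategoryTheory.Functor.map_preimage]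
        exact f.hom.w
    · intro z
      apply Groth.Agent.S6400.isHomLift_of_fst
      exact IsHomLift.id rfl

end


/-- A functor `G : 𝒳 ⟶ 𝒴` over `C` between categories fibred in groupoids is fully faithful if and only
if the diagonal `𝒳 ⟶ 𝒳 ×_𝒴 𝒳` is an equivalence over `C`. -/
theorem result {C : Type u} [Category.{v} C] {𝒳 𝒴 : BasedCategory.{v, max u v} C} (G : 𝒳 ⥤ᵇ 𝒴) (h𝒳 : FibCat.IsFibGrpd 𝒳.p) (h𝒴 : FibCat.IsFibGrpd 𝒴.p) :
    (G.toFunctor.Full ∧ G.toFunctor.Faithful) ↔ FibCat.IsEquivOver (FibCat.diag G) := by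
  constructor
  · rintro ⟨hfull, hfaith⟩
    exact fwd G
  · rintro ⟨Q, ⟨η⟩, ⟨ε⟩⟩
    haveI hD : (diag G).toFunctor.IsEquivalence :=
      Groth.Agent.S6395.isEquivalence (diag G) Q η ε
    have hfaith : G.toFunctor.Faithful := by
      constructor
      intro x x' φ φ' h
      let m : (diag G).obj x ⟶ (diag G).obj x' :=
        ObjectProperty.homMk
          { fst := φ
            snd := φ'
            w := (Category.comp_id (G.toFunctor.map φ)).trans
              (h.trans (Category.id_comp (G.toFunctor.map φ')).symm) }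
      obtain ⟨ψ, hψ⟩ := (diag G).toFunctor.map_surjective m
      have h1 : ψ = φ := congrArg (fun t => t.hom.fst) hψ
      have h2 : ψ = φ' := congrArg (fun t => t.hom.snd) hψ
      exact h1.symm.trans h2
    refine ⟨?_, hfaith⟩
    have key := (Groth.Agent.S6397.result G h𝒳 h𝒴).mpr (fun U =>
      ⟨?_, (Groth.Agent.S6396.result G h𝒳 h𝒴).mp hfaith U⟩)
    · exact key.1
    · constructor
      intro x x' θ
      haveI : IsGroupoid (𝒴.p.Fiber U) := ((Groth.Agent.S6393.result 𝒴.p).mp h𝒴).2 U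
      haveI : IsIso θ := IsGroupoid.all_isIso θ
      obtain ⟨θ', hθ'iso, hθ'lift, hθ'eq⟩ : ∃ θ' : G.obj x.1 ⟶ G.obj x'.1,
          IsIso θ' ∧ 𝒴.p.IsHomLift (𝟙 U) θ' ∧ θ' = θ.1 :=
        ⟨θ.1, (inferInstance : IsIso (Functor.Fiber.fiberInclusion.map θ)), θ.2, rfl⟩
      have hθ : 𝒴.p.IsHomLift (𝟙 (𝒳.p.obj x.1)) θ' := by
        rw [x.2]; exact hθ'lift
      let z : (fp G G).obj := ⟨{ fst := x.1, snd := x'.1, iso := asIso θ' }, hθ⟩
      obtain ⟨w, ⟨e⟩⟩ := Functor.EssSurj.mem_essImage (F := (diag G).toFunctor) z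
      obtain ⟨a, b, a', hab, ha'a⟩ : ∃ (a : w ⟶ x.1) (b : w ⟶ x'.1) (a' : x.1 ⟶ w),
          G.toFunctor.map a ≫ θ' = G.toFunctor.map b ∧ a' ≫ a = 𝟙 x.1 :=
        ⟨e.hom.hom.fst, e.hom.hom.snd, e.inv.hom.fst,
          (e.hom.hom.w).trans (Category.id_comp _),
          congrArg (fun t => t.hom.fst) e.inv_hom_id⟩
      let ψ : x.1 ⟶ x'.1 := a' ≫ b
      have hGψ : G.map ψ = θ.1 := by
        show G.toFunctor.map (a' ≫ b) = θ.1
        rw [CategoryTheory.Functor.map_comp, ← hab, ← Category.assoc,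
          ← CategoryTheory.Functor.map_comp, ha'a, CategoryTheory.Functor.map_id,
          Category.id_comp, hθ'eq]
      have hψ : 𝒳.p.IsHomLift (𝟙 U) ψ := by
        have : 𝒴.p.IsHomLift (𝟙 U) (G.map ψ) := by rw [hGψ]; exact θ.2
        exact BasedFunctor.isHomLift_map G (𝟙 U) ψ
      exact ⟨⟨ψ, hψ⟩, Functor.Fiber.hom_ext hGψ⟩

end Groth.Agent.S6399
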