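import Groth.Statements.S6403
import Mathlib

set_option autoImplicit false
open CategoryTheory
universe v₃ u₃ v₂ u₂ v u
open FibCat

namespace Groth.Agent.S6403

open Functor

section
variable {C : Type u} [Category.{v} C] {𝒳 : BasedCategory.{v₂, u₂} C}
  {𝒴 : BasedCategory.{v₃, u₃} C} (F : 𝒳 ⥤ᵇ 𝒴)

/-- The automorphism of an inertia object lies over an identity. -/
theorem aut_lift (x : (inertia F).obj) :
    𝒳.p.IsHomLift (𝟙 ((inertia F).p.obj x)) x.aut.hom := by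
  have : 𝒴.p.IsHomLift (𝟙 (𝒳.p.obj x.pt)) (F.map x.aut.hom) := by
    rw [x.map_aut]; infer_instance
  exact BasedFunctor.isHomLift_map F (𝟙 (𝒳.p.obj x.pt)) x.aut.hom

theorem aut_inv_lift (x : (inertia F).obj) :
    𝒳.p.IsHomLift (𝟙 ((inertia F).p.obj x)) x.aut.inv := by
  have := aut_lift F x
  infer_instance

theorem isHomLift_hom {x y : (inertia F).obj} (φ : x ⟶ y) {R S : C} (f : R ⟶ S)
    [(inertia F).p.IsHomLift f φ] : 𝒳.p.IsHomLift f φ.hom := by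
  show 𝒳.p.IsHomLift f ((inertiaToBase F).map φ)
  infer_instance

theorem isHomLift_of_hom {x y : (inertia F).obj} (φ : x ⟶ y) {R S : C} (f : R ⟶ S)
    (h : 𝒳.p.IsHomLift f φ.hom) : (inertia F).p.IsHomLift f φ := by
  have : 𝒳.p.IsHomLift f ((inertiaToBase F).map φ) := h
  exact BasedFunctor.isHomLift_map (inertiaToBase F) f φ

/-- A morphism of the inertia whose underlying morphism is strongly cartesian is strongly
cartesian. -/
theorem sc_of_hom {x y : (inertia F).obj} (φ : y ⟶ x) {R S : C} (f : R ⟶ S)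
    [(inertia F).p.IsHomLift f φ] (h : 𝒳.p.IsStronglyCartesian f φ.hom) :
    (inertia F).p.IsStronglyCartesian f φ := by
  refine { toIsHomLift := inferInstance, universal_property' := ?_ }
  intro z g ψ hψ
  have hψ' : 𝒳.p.IsHomLift (g ≫ f) ψ.hom := isHomLift_hom F ψ (g ≫ f)
  let χ := IsStronglyCartesian.map 𝒳.p f φ.hom (rfl : g ≫ f = g ≫ f) ψ.hom
  have hχ : 𝒳.p.IsHomLift g χ := inferInstance
  have hfac : χ ≫ φ.hom = ψ.hom := IsStronglyCartesian.fac _ _ _ _ _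
  have hz := aut_lift F z
  have hy : 𝒳.p.IsHomLift (𝟙 R) y.aut.hom := by
    have h0 := aut_lift F y
    have hφ : 𝒳.p.IsHomLift f φ.hom := isHomLift_hom F φ f
    have e0 : 𝒳.p.obj y.pt = R := IsHomLift.domain_eq 𝒳.p f φ.hom
    have e : (inertia F).p.obj y = R := e0
    rw [e] at h0
    exact h0
  have hcomm : z.aut.hom ≫ χ = χ ≫ y.aut.hom := by
    have hl : 𝒳.p.IsHomLift g (z.aut.hom ≫ χ) := inferInstance
    have hr : 𝒳.p.IsHomLift g (χ ≫ y.aut.hom) := inferInstance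
    apply IsStronglyCartesian.ext 𝒳.p f φ.hom g
    calc (z.aut.hom ≫ χ) ≫ φ.hom = z.aut.hom ≫ ψ.hom := by rw [Category.assoc, hfac]
      _ = ψ.hom ≫ x.aut.hom := ψ.comm
      _ = χ ≫ (φ.hom ≫ x.aut.hom) := by rw [← Category.assoc, hfac]
      _ = χ ≫ (y.aut.hom ≫ φ.hom) := by rw [φ.comm]
      _ = (χ ≫ y.aut.hom) ≫ φ.hom := by rw [Category.assoc]
  let χ' : z ⟶ y := ⟨χ, hcomm⟩
  refine ⟨χ', ⟨isHomLift_of_hom F χ' g hχ, InertiaObj.hom_ext hfac⟩, ?_⟩
  rintro χ'' ⟨h1, h2⟩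
  apply InertiaObj.hom_ext
  have : 𝒳.p.IsHomLift g χ''.hom := isHomLift_hom F χ'' g
  exact IsStronglyCartesian.map_uniq 𝒳.p f φ.hom rfl ψ.hom χ''.hom
    (congrArg (fun t => t.hom) h2)

/-- Existence of lifts with strongly cartesian underlying morphism. -/
theorem exists_lift [𝒳.p.IsFibered] (hF : FibCat.PreservesStronglyCartesian F)
    (x : (inertia F).obj) {V : C} (f : V ⟶ (inertia F).p.obj x) :
    ∃ (y : (inertia F).obj) (φ : y ⟶ x), (inertia F).p.IsHomLift f φ ∧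
      𝒳.p.IsStronglyCartesian f φ.hom := by
  have ha : 𝒳.p.obj x.pt = (inertia F).p.obj x := rfl
  let φ₀ := IsPreFibered.pullbackMap (p := 𝒳.p) ha f
  have hsc : 𝒳.p.IsStronglyCartesian f φ₀ := inferInstance
  have hx := aut_lift F x
  have hx' := aut_inv_lift F x
  have h1 : 𝒳.p.IsHomLift f (φ₀ ≫ x.aut.hom) := inferInstance
  have h2 : 𝒳.p.IsHomLift f (φ₀ ≫ x.aut.inv) := inferInstance
  have hf : f = 𝟙 V ≫ f := (Category.id_comp f).symm
  let β := IsStronglyCartesian.map 𝒳.p f φ₀ hf (φ₀ ≫ x.aut.hom)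
  let β' := IsStronglyCartesian.map 𝒳.p f φ₀ hf (φ₀ ≫ x.aut.inv)
  have hβ : 𝒳.p.IsHomLift (𝟙 V) β := inferInstance
  have hβ' : 𝒳.p.IsHomLift (𝟙 V) β' := inferInstance
  have hβfac : β ≫ φ₀ = φ₀ ≫ x.aut.hom := IsStronglyCartesian.fac 𝒳.p f φ₀ hf _
  have hβ'fac : β' ≫ φ₀ = φ₀ ≫ x.aut.inv := IsStronglyCartesian.fac 𝒳.p f φ₀ hf _
  have hid : 𝒳.p.IsHomLift (𝟙 V) (𝟙 (IsPreFibered.pullbackObj (p := 𝒳.p) ha f)) :=
    IsHomLift.id (IsPreFibered.pullbackObj_proj ha f)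
  have hββ' : β ≫ β' = 𝟙 _ := by
    have : 𝒳.p.IsHomLift (𝟙 V) (β ≫ β') := inferInstance
    apply IsStronglyCartesian.ext 𝒳.p f φ₀ (𝟙 V)
    rw [Category.assoc, hβ'fac, ← Category.assoc, hβfac, Category.assoc, Iso.hom_inv_id,
      Category.comp_id, Category.id_comp]
  have hβ'β : β' ≫ β = 𝟙 _ := by
    have : 𝒳.p.IsHomLift (𝟙 V) (β' ≫ β) := inferInstance
    apply IsStronglyCartesian.ext 𝒳.p f φ₀ (𝟙 V)
    rw [Category.assoc, hβfac, ← Category.assoc, hβ'fac, Category.assoc, Iso.inv_hom_id,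
      Category.comp_id, Category.id_comp]
  have hFsc : 𝒴.p.IsStronglyCartesian f (F.map φ₀) := hF f φ₀ hsc
  have hFβ : F.map β = 𝟙 _ := by
    have hl : 𝒴.p.IsHomLift (𝟙 V) (F.map β) := inferInstance
    have hr : 𝒴.p.IsHomLift (𝟙 V) (𝟙 (F.obj (IsPreFibered.pullbackObj (p := 𝒳.p) ha f))) := by
      have := F.map_id (IsPreFibered.pullbackObj (p := 𝒳.p) ha f)
      rw [← this]; infer_instance
    apply IsStronglyCartesian.ext 𝒴.p f (F.map φ₀) (𝟙 V)
    rw [← F.map_comp, hβfac, F.map_comp, x.map_aut, Category.comp_id, Category.id_comp]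
  let y : (inertia F).obj :=
    ⟨IsPreFibered.pullbackObj (p := 𝒳.p) ha f, ⟨β, β', hββ', hβ'β⟩, hFβ⟩
  let φ : y ⟶ x := ⟨φ₀, hβfac⟩
  exact ⟨y, φ, isHomLift_of_hom F φ f (inferInstance : 𝒳.p.IsHomLift f φ₀), hsc⟩

end


/-- For a functor `F : 𝒳 ⟶ 𝒴` of fibred categories over `C` preserving strongly cartesian morphisms, the
relative inertia `I_{𝒳/𝒴}` is a fibred category over `C`. -/
theorem result {C : Type u} [Category.{v} C] {𝒳 𝒴 : BasedCategory.{v, max u v} C} [𝒳.p.IsFibered] [𝒴.p.IsFibered] (F : 𝒳 ⥤ᵇ 𝒴) (hF : FibCat.PreservesStronglyCartesian F) :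
    (FibCat.inertia F).p.IsFibered := by
  apply Functor.IsFibered.of_exists_isStronglyCartesian
  intro x V f
  obtain ⟨y, φ, h0, h1⟩ := exists_lift F hF x f
  exact ⟨y, φ, sc_of_hom F φ f h1⟩

end Groth.Agent.S6403
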