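import Groth.Statements.S6402
import Groth.Agent.S6403
import Groth.Agent.S6400
import Groth.Agent.S6399
import Groth.Agent.Lib.Helper10.EquivOver

set_option autoImplicit false
open CategoryTheory
universe v u
open FibCat

namespace Groth.Agent.S6402

open Functor Limits

section
variable {C : Type u} [Category.{v} C] {𝒳 𝒴 : BasedCategory.{v, max u v} C} (F : 𝒳 ⥤ᵇ 𝒴)

/-- The automorphism `(α, 𝟙)` of `Δ x`. -/
def Θ (a : (inertia F).obj) : (diag F).obj a.pt ≅ (diag F).obj a.pt :=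
  ObjectProperty.isoMk _ (CategoricalPullback.mkIso (x := ((diag F).obj a.pt).obj)
    (y := ((diag F).obj a.pt).obj) a.aut (Iso.refl a.pt) (by
      show F.toFunctor.map a.aut.hom ≫ 𝟙 _ = 𝟙 _ ≫ F.toFunctor.map (𝟙 a.pt)
      rw [CategoryTheory.Functor.map_id, Category.comp_id, Category.comp_id]
      exact a.map_aut))

lemma Θ_hom_fst (a : (inertia F).obj) : (Θ F a).hom.hom.fst = a.aut.hom := rfl
lemma Θ_hom_snd (a : (inertia F).obj) : (Θ F a).hom.hom.snd = 𝟙 a.pt := rfl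

/-- The 2-isomorphism used to define the comparison functor. -/
def ε : BasedFunctor.comp (inertiaToBase F) (diag F) ≅
    BasedFunctor.comp (inertiaToBase F) (diag F) :=
  BasedNatIso.mkNatIso (NatIso.ofComponents (fun a => Θ F a) (by
    intro a b φ
    apply ObjectProperty.hom_ext
    apply CategoricalPullback.hom_ext
    · show φ.hom ≫ b.aut.hom = a.aut.hom ≫ φ.hom
      exact φ.comm.symm
    · show φ.hom ≫ 𝟙 _ = 𝟙 _ ≫ φ.hom
      simp)) (by
    intro a
    apply Groth.Agent.S6400.isHomLift_of_fst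
    exact Groth.Agent.S6403.aut_lift F a)

/-- The comparison functor. -/
def E : inertia F ⥤ᵇ fp (diag F) (diag F) :=
  fpLift (inertiaToBase F) (inertiaToBase F) (ε F)

lemma E_obj_fst (a : (inertia F).obj) : ((E F).obj a).obj.fst = a.pt := rfl
lemma E_obj_snd (a : (inertia F).obj) : ((E F).obj a).obj.snd = a.pt := rfl
lemma E_obj_iso_hom (a : (inertia F).obj) : ((E F).obj a).obj.iso.hom = (Θ F a).hom := rfl
lemma E_map_fst {a b : (inertia F).obj} (φ : a ⟶ b) : ((E F).map φ).hom.fst = φ.hom := rfl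
lemma E_map_snd {a b : (inertia F).obj} (φ : a ⟶ b) : ((E F).map φ).hom.snd = φ.hom := rfl

instance E_faithful : (E F).toFunctor.Faithful := by
  refine ⟨fun {a b} φ ψ h => ?_⟩
  apply InertiaObj.hom_ext
  have := congrArg (fun t => t.hom.fst) h
  exact this

instance E_full : (E F).toFunctor.Full := by
  refine ⟨fun {a b} Γ => ?_⟩
  have w := Γ.hom.w
  obtain ⟨φ, hφ⟩ : ∃ φ : a.pt ⟶ b.pt, φ = Γ.hom.fst := ⟨_, rfl⟩
  obtain ⟨ψ, hψ⟩ : ∃ ψ : a.pt ⟶ b.pt, ψ = Γ.hom.snd := ⟨_, rfl⟩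
  have w1 : φ ≫ b.aut.hom = a.aut.hom ≫ ψ := by
    rw [hφ, hψ]
    exact congrArg (fun t => t.hom.fst) w
  have w2 : φ ≫ 𝟙 b.pt = 𝟙 a.pt ≫ ψ := by
    rw [hφ, hψ]
    exact congrArg (fun t => t.hom.snd) w
  have h12 : φ = ψ := by
    rw [Category.comp_id, Category.id_comp] at w2
    exact w2
  have hcomm : a.aut.hom ≫ φ = φ ≫ b.aut.hom := by
    rw [w1, h12]
  refine ⟨⟨φ, hcomm⟩, ?_⟩
  apply ObjectProperty.hom_ext
  apply CategoricalPullback.hom_ext
  · exact hφ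
  · exact h12.trans hψ

theorem E_ess (w : (fp (diag F) (diag F)).obj) :
    ∃ (a : (inertia F).obj) (e : (E F).obj a ≅ w),
      (fp (diag F) (diag F)).p.IsHomLift (𝟙 ((fp (diag F) (diag F)).p.obj w)) e.hom := by
  let θ₁ : w.obj.fst ≅ w.obj.snd := (fpFst F F).toFunctor.mapIso w.obj.iso
  let θ₂ : w.obj.fst ≅ w.obj.snd := (fpSnd F F).toFunctor.mapIso w.obj.iso
  have hθ₁ : θ₁.hom = w.obj.iso.hom.hom.fst := rfl
  have hθ₂ : θ₂.hom = w.obj.iso.hom.hom.snd := rfl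
  have hF : F.map θ₁.hom = F.map θ₂.hom := by
    have := w.obj.iso.hom.hom.w
    rw [hθ₁, hθ₂]
    obtain ⟨φ, hφ⟩ : ∃ φ : F.obj w.obj.fst ⟶ F.obj w.obj.snd, φ = F.map w.obj.iso.hom.hom.fst :=
      ⟨_, rfl⟩
    obtain ⟨ψ, hψ⟩ : ∃ ψ : F.obj w.obj.fst ⟶ F.obj w.obj.snd, ψ = F.map w.obj.iso.hom.hom.snd :=
      ⟨_, rfl⟩
    have this2 : φ ≫ 𝟙 (F.obj w.obj.snd) = 𝟙 (F.obj w.obj.fst) ≫ ψ := by
      rw [hφ, hψ]; exact this
    rw [Category.comp_id, Category.id_comp] at this2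
    exact (hφ.symm.trans this2).trans hψ
  let a : (inertia F).obj :=
    ⟨w.obj.fst, θ₁ ≪≫ θ₂.symm, by
      show F.map (θ₁.hom ≫ θ₂.inv) = 𝟙 _
      rw [F.map_comp, hF, ← F.map_comp, Iso.hom_inv_id, F.map_id]⟩
  let e₀ : ((E F).obj a).obj ≅ w.obj :=
    CategoricalPullback.mkIso (x := ((E F).obj a).obj) (y := w.obj)
      (Iso.refl w.obj.fst) θ₂ (by
        apply ObjectProperty.hom_ext
        apply CategoricalPullback.hom_ext
        · show 𝟙 _ ≫ w.obj.iso.hom.hom.fst = (θ₁.hom ≫ θ₂.inv) ≫ θ₂.hom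
          rw [Category.assoc, Iso.inv_hom_id, Category.comp_id, Category.id_comp, hθ₁]
        · show 𝟙 _ ≫ w.obj.iso.hom.hom.snd = 𝟙 _ ≫ θ₂.hom
          rfl)
  refine ⟨a, ObjectProperty.isoMk _ e₀, ?_⟩
  apply Groth.Agent.S6400.isHomLift_of_fst
  exact IsHomLift.id rfl

lemma E_fst : BasedFunctor.comp (E F) (fpFst _ _) = inertiaToBase F := rfl
lemma E_snd : BasedFunctor.comp (E F) (fpSnd _ _) = inertiaToBase F := rfl

end


/-- For a functor `F : 𝒳 ⟶ 𝒴` of fibred categories over `C` preserving strongly cartesian morphisms, the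
relative inertia `I_{𝒳/𝒴}` (pairs `(x, α)` with `α` an automorphism of `x` sent to the identity by
`F`) is equivalent over `C` to `𝒳 ×_{Δ, 𝒳 ×_𝒴 𝒳, Δ} 𝒳`, by a functor over `C` whose composite with
either projection is the forgetful functor `(x, α) ↦ x`. (Only the two projections of the
equivalence are pinned here; its 2-cell component at `(x, α)` is `(α, 𝟙)`.) -/
theorem result {C : Type u} [Category.{v} C] {𝒳 𝒴 : BasedCategory.{v, max u v} C} [𝒳.p.IsFibered] [𝒴.p.IsFibered] (F : 𝒳 ⥤ᵇ 𝒴) (hF : FibCat.PreservesStronglyCartesian F) :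
    ∃ E : FibCat.inertia F ⥤ᵇ FibCat.fp (FibCat.diag F) (FibCat.diag F),
      FibCat.IsEquivOver E ∧ BasedFunctor.comp E (FibCat.fpFst _ _) = FibCat.inertiaToBase F ∧
        BasedFunctor.comp E (FibCat.fpSnd _ _) = FibCat.inertiaToBase F := by
  exact ⟨E F, Groth.Agent.Helper10.isEquivOver_of_ff_ess (E F) (E_ess F), E_fst F, E_snd F⟩

end Groth.Agent.S6402
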