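import Groth.Statements.S0114
import Groth.Agent.Lib.Helper21.FS9
import Groth.Agent.S0112

set_option autoImplicit false
open CategoryTheory CategoryTheory.Limits AlgebraicGeometry Opposite
universe u
open EtBase

namespace Groth.Agent.S0114

/-- Local finite presentation descends along an fppf cover of the source: if f is surjective, flat and
locally of finite presentation and f ≫ q is locally of finite presentation, then so is q. -/
theorem result {X Y S : Scheme.{u}} (f : X ⟶ Y) (q : Y ⟶ S) [Surjective f] [Flat f]
    [LocallyOfFinitePresentation f] [LocallyOfFinitePresentation (f ≫ q)] :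
    LocallyOfFinitePresentation q := by
  haveI : MorphismProperty.RespectsRight @LocallyOfFinitePresentation.{u} @IsOpenImmersion :=
    ⟨fun i hi f hf => by
      haveI := hi
      haveI := hf
      exact (inferInstance : LocallyOfFinitePresentation (f ≫ i))⟩
  refine Groth.Agent.Helper21.FS.of_fppf_cover (P := @LocallyOfFinitePresentation) ?_ f q
    inferInstance
  intro R A B _ _ _ φ ψ h1 h2 h3
  letI := φ.toAlgebra
  letI := ψ.toAlgebra
  letI := (ψ.comp φ).toAlgebra
  haveI : IsScalarTower R A B := IsScalarTower.of_algebraMap_eq' rfl
  haveI : Algebra.FinitePresentation R B := h1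
  haveI : Module.FaithfullyFlat A B := h2
  haveI : Algebra.FinitePresentation A B := h3
  exact (Groth.Agent.S0112.result (R := R) (A := A) (B := B) : Algebra.FinitePresentation R A)

end Groth.Agent.S0114
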