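import Groth.Statements.S9844
import Mathlib
import Groth.Agent.Lib.Helper9.FTDesc

set_option autoImplicit false
open CategoryTheory CategoryTheory.Limits AlgebraicGeometry Opposite
universe u
open Desc

namespace Groth.Agent.S9844

/-- Being locally of finite type is fppf local on the source: for every fppf covering family g i : X i ⟶
X, a morphism f : X ⟶ Y is locally of finite type if and only if every composite g i ≫ f is. -/
theorem result :
    MorphismProperty.IsLocalAtSource (@LocallyOfFiniteType : MorphismProperty Scheme.{u}) Scheme.fppfPrecoverage := by
  refine ⟨?_, ?_⟩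
  · intro X Y f R hR U g hg hf
    have hg' : (@Flat ⊓ @LocallyOfFinitePresentation : MorphismProperty Scheme.{u}) g := hR.2 hg
    haveI : Flat g := hg'.1
    haveI : LocallyOfFinitePresentation g := hg'.2
    haveI : LocallyOfFiniteType f := hf
    exact (inferInstance : LocallyOfFiniteType (g ≫ f))
  · intro X Y f R hR h
    exact Groth.Agent.Helper9.FTDesc.of_presieve (P := @LocallyOfFiniteType)
      (fun e h _ _ _ he => Groth.Agent.Helper9.FTDesc.locallyOfFiniteType_of_comp_fppf_surjective e h he)
      f R hR h

end Groth.Agent.S9844
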