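import Mathlib
import Groth.Statements.S10053
import Groth.Agent.Lib.Helper19.UCSp.Main
import Groth.Agent.Lib.Helper16.AlgSp.LocPEngine
import Groth.Agent.Lib.Helper16.AlgSp.LfpSp
import Groth.Agent.Lib.Helper15.AlgSpLocP
import Groth.Agent.Lib.Helper15.AlgSpLocPRep

set_option autoImplicit false
universe u
open CategoryTheory CategoryTheory.Limits AlgebraicGeometry
open AlgSp

namespace Groth.Agent.S10053

/-- For a quasi-compact morphism `f : X ⟶ Y` of algebraic spaces over `S` these conditions are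
equivalent: (1) `f` is universally closed; (2) for every `Z ⟶ Y` locally of finite presentation,
with `Z` an algebraic space, the map `|X ×_Y Z| → |Z|` is closed; (3) for some scheme `V` with a
surjective etale morphism `V ⟶ Y`, the maps `|X ×_Y 𝐀^n_V| → |𝐀^n_V|` are closed for all `n`. Stated
as (1) ↔ (2) and (1) ↔ (3). -/
theorem result (S : Scheme.{u}) {X Y : AlgSp.Space S} (f : X ⟶ Y)
    (hqc : AlgSp.IsQuasiCompactMor f.hom) :
    (AlgSp.IsUnivClosedMor f.hom ↔
      ∀ (Z : AlgSp.Space S) (g : Z ⟶ Y), AlgSp.LocP @LocallyOfFinitePresentation g.hom →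
        ∀ (P : AlgSp.Sp S) (fst : P ⟶ X.obj) (snd : P ⟶ Z.obj), IsPullback fst snd f.hom g.hom →
          IsClosedMap (AlgSp.Points.map snd)) ∧
    (AlgSp.IsUnivClosedMor f.hom ↔
      ∃ (V : Over S) (p : (AlgSp.yon S).obj V ⟶ Y.obj), AlgSp.RepWith @Etale p ∧ AlgSp.RepWith @Surjective p ∧
        ∀ (n : ℕ) (P : AlgSp.Sp S) (fst : P ⟶ X.obj)
          (snd : P ⟶ (AlgSp.yon S).obj (Over.mk ((𝔸(ULift.{u} (Fin n); V.left) ↘ V.left) ≫ V.hom))),
          IsPullback fst snd f.hom ((AlgSp.yon S).map (Over.homMk (𝔸(ULift.{u} (Fin n); V.left) ↘ V.left)) ≫ p) →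
            IsClosedMap (AlgSp.Points.map snd)) := by
  have h13 : AlgSp.IsUnivClosedMor f.hom →
      ∃ (V : Over S) (p : (AlgSp.yon S).obj V ⟶ Y.obj), AlgSp.RepWith @Etale p ∧
        AlgSp.RepWith @Surjective p ∧
        ∀ (n : ℕ) (P : AlgSp.Sp S) (fst : P ⟶ X.obj)
          (snd : P ⟶ (AlgSp.yon S).obj
            (Over.mk ((𝔸(ULift.{u} (Fin n); V.left) ↘ V.left) ≫ V.hom))),
          IsPullback fst snd f.hom
            ((AlgSp.yon S).map (Over.homMk (𝔸(ULift.{u} (Fin n); V.left) ↘ V.left)) ≫ p) →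
            IsClosedMap (AlgSp.Points.map snd) := by
    intro h
    obtain ⟨V, p, hpe, hps⟩ := Y.property.atlas
    exact ⟨V, p, hpe, hps, fun n P fst snd sq => h (AlgSp.IsAlgSpace.yon_obj _) _ fst snd sq⟩
  have h31 : (∃ (V : Over S) (p : (AlgSp.yon S).obj V ⟶ Y.obj), AlgSp.RepWith @Etale p ∧
        AlgSp.RepWith @Surjective p ∧
        ∀ (n : ℕ) (P : AlgSp.Sp S) (fst : P ⟶ X.obj)
          (snd : P ⟶ (AlgSp.yon S).obj
            (Over.mk ((𝔸(ULift.{u} (Fin n); V.left) ↘ V.left) ≫ V.hom))),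
          IsPullback fst snd f.hom
            ((AlgSp.yon S).map (Over.homMk (𝔸(ULift.{u} (Fin n); V.left) ↘ V.left)) ≫ p) →
            IsClosedMap (AlgSp.Points.map snd)) → AlgSp.IsUnivClosedMor f.hom := by
    rintro ⟨V, p, hpe, hps, h⟩
    exact Groth.Agent.Helper19.UCSp.isUnivClosedMor_of_piA X.property Y.property hqc p hpe hps
      (fun n => (Groth.Agent.Helper19.UCSp.isClosedMap_snd_iff_cb
        (IsPullback.of_hasPullback _ _)).1 (h n _ _ _ (IsPullback.of_hasPullback _ _)))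
  refine ⟨⟨fun h Z g _ P fst snd sq => h Z.property g.hom fst snd sq, fun h2 => h31 ?_⟩,
    ⟨h13, h31⟩⟩
  obtain ⟨V, p, hpe, hps⟩ := Y.property.atlas
  refine ⟨V, p, hpe, hps, fun n P fst snd sq => ?_⟩
  refine h2 ⟨(AlgSp.yon S).obj (Over.mk ((𝔸(ULift.{u} (Fin n); V.left) ↘ V.left) ≫ V.hom)),
    AlgSp.IsAlgSpace.yon_obj _⟩ (ObjectProperty.homMk
      ((AlgSp.yon S).map (Over.homMk (𝔸(ULift.{u} (Fin n); V.left) ↘ V.left)) ≫ p)) ?_ P fst snd sq
  refine Groth.Agent.Helper16.AS.locP_comp Groth.Agent.Helper15.goodP_lfp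
    Groth.Agent.Helper16.AS.srcEtLoc_lfp (AlgSp.IsAlgSpace.yon_obj _) (AlgSp.IsAlgSpace.yon_obj _)
    Y.property _ p ?_ ?_
  · exact Groth.Agent.Helper16.AS.locP_of_chart_over_scheme Groth.Agent.Helper15.goodP_lfp
      Groth.Agent.Helper16.AS.srcEtLoc_lfp ((AlgSp.yon S).map _) (𝟙 _) (AlgSp.repWith_id _ _)
      (AlgSp.repWith_id _ _) _ (Category.id_comp _)
      (inferInstanceAs (LocallyOfFinitePresentation (𝔸(ULift.{u} (Fin n); V.left) ↘ V.left)))
  · have hle : (@Etale : MorphismProperty Scheme.{u}) ≤ @LocallyOfFinitePresentation :=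
      fun _ _ g hg => by
        haveI : Etale g := hg
        infer_instance
    exact Groth.Agent.Helper15.locP_of_repWith hle p (Groth.Agent.Helper15.repWith_mono hle hpe)

end Groth.Agent.S10053
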