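import Mathlib
import Groth.Statements.S12921
import Groth.Agent.Lib.Helper19.HopfLib
-- import your own Groth.Agent.* helpers here

set_option autoImplicit false
universe u v w
open HopfRep

namespace Groth.Agent.S12921

open Groth.Agent.Helper19.HopfLib in

/-- Let `k` be a commutative ring, `A` a commutative Hopf algebra over `k`, flat as a `k`-module, `B` a
commutative `k`-algebra with a coaction of `A` that is an algebra map and admits a total integral (a
comodule map `α : A → B` with `α 1 = 1`), and `C = B^A` the subring of invariants. Then for every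
ideal `c` of `C` one has `cB ∩ C = c`. (The published statement assumes only that taking invariants
is exact on `(B, A)`-modules; a total integral, assumed here, gives that exactness.) -/
theorem result
    (k : Type u) [CommRing k] (A : Type v) [CommRing A] [HopfAlgebra k A] [Module.Flat k A]
    (B : Type w) [CommRing B] [Algebra k B] [HopfRep.Comod k A B] [GLin.IsCoactAlg k A B]
    (htame : ∃ α : A →ₗ[k] B, Hoch.IsComodHom A α ∧ α 1 = 1)
    (c : Ideal (GLin.invariants k A B)) :
    (c.map (algebraMap (GLin.invariants k A B) B)).comap (algebraMap (GLin.invariants k A B) B) = c := by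
  obtain ⟨α, hα, hα1⟩ := htame
  have hHM := isHopfMod_self k A B
  refine le_antisymm ?_ Ideal.le_comap_map
  obtain ⟨E, hEmem, hEfix, hEmul⟩ : ∃ E : B →ₗ[k] B, (∀ b, E b ∈ GLin.invariants k A B) ∧
      (∀ x : GLin.invariants k A B, E (x : B) = x) ∧
      (∀ (c' : GLin.invariants k A B) (b : B), E ((c' : B) * b) = (c' : B) * E b) :=
    ⟨TameAct.reynolds k A B B α, fun b => reynolds_mem_fixedPts k A B B hα b,
      fun x => reynolds_of_mem_fixedPts k A B B α hα1 _ x.2,
      fun c' b => reynolds_mul_invariant k A B α _ c'.2 b⟩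
  have key : ∀ y ∈ c.map (algebraMap (GLin.invariants k A B) B), ∀ b : B,
      ∃ z ∈ c, (z : B) = E (b * y) := by
    intro y hy
    refine Submodule.span_induction ?_ ?_ ?_ ?_ hy
    · rintro _ ⟨c', hc', rfl⟩ b
      refine ⟨c' * ⟨E b, hEmem b⟩, c.mul_mem_right _ hc', ?_⟩
      rw [mul_comm b]
      exact (hEmul c' b).symm
    · intro b
      exact ⟨0, c.zero_mem, by rw [mul_zero, map_zero]; rfl⟩
    · intro y₁ y₂ _ _ h₁ h₂ b
      obtain ⟨z₁, hz₁, e₁⟩ := h₁ b
      obtain ⟨z₂, hz₂, e₂⟩ := h₂ b
      refine ⟨z₁ + z₂, c.add_mem hz₁ hz₂, ?_⟩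
      rw [mul_add, map_add, ← e₁, ← e₂]
      rfl
    · intro a y _ h b
      obtain ⟨z, hz, e⟩ := h (b * a)
      refine ⟨z, hz, ?_⟩
      rw [e, smul_eq_mul, mul_assoc]
  intro x hx
  rw [Ideal.mem_comap] at hx
  obtain ⟨z, hz, e⟩ := key _ hx 1
  rw [one_mul] at e
  have h2 : (algebraMap (GLin.invariants k A B) B) x = (x : B) := rfl
  rw [h2, hEfix] at e
  have : z = x := Subtype.ext e
  rw [← this]
  exact hz

end Groth.Agent.S12921
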