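import Groth.Statements.S8658
import Mathlib
import Groth.Agent.Lib.Helper28.RegBC4

set_option autoImplicit false
universe u
open CategoryTheory CategoryTheory.Limits AlgebraicGeometry
open Synt

namespace Groth.Agent.S8658

/-- Let f : X ⟶ Y be a local complete intersection morphism in the factorisation sense (around each
point of X, f is locally of finite type and factors as a Koszul-regular immersion followed by a
smooth morphism), and let g : Y' ⟶ Y be flat. Then for any cartesian square, the base change f' : X'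
⟶ Y' is a local complete intersection morphism in the same sense. -/
theorem result {X Y X' Y' : Scheme.{u}} (f : X ⟶ Y) (g : Y' ⟶ Y) [Flat g]
    (f' : X' ⟶ Y') (g' : X' ⟶ X) (hsq : IsPullback g' f' f g)
    (hf : ∀ x : X, Synt.IsKoszulAt f x) : ∀ x' : X', Synt.IsKoszulAt f' x' := by
  intro x'
  obtain ⟨U, P, i, π, hxU, hlft, hi, hπ, hcomm⟩ := hf (g' x')
  haveI := hπ
  have hbig : IsPullback (g' ∣_ U) ((g' ⁻¹ᵁ U).ι ≫ f') (U.ι ≫ f) g :=
    (isPullback_morphismRestrict g' U).paste_vert hsq
  have hbot : IsPullback (pullback.fst π g) (pullback.snd π g) π g :=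
    IsPullback.of_hasPullback π g
  let i' : ((g' ⁻¹ᵁ U : X'.Opens) : Scheme.{u}) ⟶ pullback π g :=
    pullback.lift ((g' ∣_ U) ≫ i) ((g' ⁻¹ᵁ U).ι ≫ f') (by
      rw [Category.assoc, hcomm]
      exact hbig.w)
  have hi'1 : i' ≫ pullback.fst π g = (g' ∣_ U) ≫ i := pullback.lift_fst _ _ _
  have hi'2 : i' ≫ pullback.snd π g = (g' ⁻¹ᵁ U).ι ≫ f' := pullback.lift_snd _ _ _
  have hbig' : IsPullback (g' ∣_ U) (i' ≫ pullback.snd π g) (i ≫ π) g := by
    rw [hi'2, hcomm]; exact hbig
  have htop : IsPullback (g' ∣_ U) i' i (pullback.fst π g) :=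
    IsPullback.of_bot hbig' hi'1.symm hbot
  refine ⟨g' ⁻¹ᵁ U, pullback π g, i', pullback.snd π g, hxU, ?_, ?_, inferInstance, hi'2⟩
  · exact MorphismProperty.of_isPullback hbig hlft
  · exact Groth.Agent.Helper28.RegBC.base_change i (pullback.fst π g) i' (g' ∣_ U) htop .koszul hi

end Groth.Agent.S8658
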