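import Groth.Statements.S9253
import Mathlib
import Groth.Agent.Lib.Helper2.KosIdeal2
import Groth.Agent.S9269
-- import your own Groth.Agent.* helpers here

set_option autoImplicit false
universe u
attribute [local instance] HasDerivedCategory.standard
open CategoryTheory
open LCI

namespace Groth.Agent.S9253

section
open Groth.Agent.Helper2.KosIdeal Polynomial

/-- the key local step: if `S[1/α(G)]` is a local complete intersection over `R`, then the
kernel of `α` becomes Koszul-regular on `D(G)`. -/
theorem kr_away_of_isLCI (R S : Type u) [CommRing R] [CommRing S] [Algebra R S] (n : ℕ)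
    (α : MvPolynomial (Fin n) R →ₐ[R] S) (hα : Function.Surjective α)
    (G : MvPolynomial (Fin n) R) (h : LCI.IsLCI R (Localization.Away (α G))) :
    LCI.IsKoszulRegularIdeal ((RingHom.ker α.toRingHom).map
      (algebraMap (MvPolynomial (Fin n) R) (Localization.Away G))) := by
  obtain ⟨-, n', β, hβ, hKβ⟩ := h
  -- the localized map
  let αG : Localization.Away G →+* Localization.Away (α G) :=
    IsLocalization.Away.map (Localization.Away G) (Localization.Away (α G)) α.toRingHom G
  have hαG_surj : Function.Surjective αG :=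
    awayMap_surjective α.toRingHom hα G _ _
  have hαG_ker : RingHom.ker αG = (RingHom.ker α.toRingHom).map
      (algebraMap (MvPolynomial (Fin n) R) (Localization.Away G)) :=
    IsLocalization.ker_map (S := Localization.Away G) (Localization.Away (α G)) α.toRingHom
      (Submonoid.map_powers α.toRingHom G)
  have hαG_comp : αG.comp (algebraMap (MvPolynomial (Fin n) R) (Localization.Away G)) =
      (algebraMap S (Localization.Away (α G))).comp α.toRingHom :=
    awayMap_comp α.toRingHom G _ _
  -- the presentation of `S[1/α G]` by `R[x][T]`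
  let γ' : (MvPolynomial (Fin n) R)[X] →+* Localization.Away (α G) := αG.comp (awayPoly G)
  have hγ'_surj : Function.Surjective γ' := hαG_surj.comp (awayPoly_surjective G)
  have hγ'_comm : ∀ r : R, γ' (algebraMap R (MvPolynomial (Fin n) R)[X] r) =
      algebraMap R (Localization.Away (α G)) r := by
    intro r
    have h1 : algebraMap R (MvPolynomial (Fin n) R)[X] r =
        C (algebraMap R (MvPolynomial (Fin n) R) r) := rfl
    show αG (awayPoly G (algebraMap R (MvPolynomial (Fin n) R)[X] r)) = _
    rw [h1, awayPoly_C]
    have h2 := RingHom.congr_fun hαG_comp (algebraMap R (MvPolynomial (Fin n) R) r)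
    rw [RingHom.comp_apply] at h2
    rw [h2]
    show algebraMap S (Localization.Away (α G)) (α (algebraMap R (MvPolynomial (Fin n) R) r)) = _
    rw [α.commutes, ← IsScalarTower.algebraMap_apply]
  let γ'ₐ : (MvPolynomial (Fin n) R)[X] →ₐ[R] Localization.Away (α G) :=
    { γ' with commutes' := hγ'_comm }
  let e : MvPolynomial (Fin (n + 1)) R ≃ₐ[R] (MvPolynomial (Fin n) R)[X] :=
    MvPolynomial.finSuccEquiv R n
  let γ : MvPolynomial (Fin (n + 1)) R →ₐ[R] Localization.Away (α G) := γ'ₐ.comp e.toAlgHom
  have hγ_surj : Function.Surjective γ := hγ'_surj.comp e.surjective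
  have hKγ := Groth.Agent.S9269.main R (Localization.Away (α G)) n' (n + 1) β hβ γ hγ_surj hKβ
  have hfac : γ.toRingHom = γ'.comp (e.toRingEquiv : MvPolynomial (Fin (n + 1)) R →+* _) := rfl
  have h3 := Groth.Agent.S9269.map_eq_ker_of_comp γ.toRingHom γ' _ e.toRingEquiv.surjective hfac
  have hKγ' : LCI.IsKoszulRegularIdeal (RingHom.ker γ') := by
    rw [← h3]
    exact kr_ringEquiv e.toRingEquiv _ hKγ
  -- descend along `awayPoly`
  have hz : (C G * X - 1 : (MvPolynomial (Fin n) R)[X]) ∈ RingHom.ker γ' := by
    have h4 : (C G * X - 1 : (MvPolynomial (Fin n) R)[X]) ∈ RingHom.ker (awayPoly G) := by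
      rw [awayPoly_ker]
      exact Ideal.subset_span rfl
    rw [RingHom.mem_ker] at h4 ⊢
    show αG (awayPoly G _) = 0
    rw [h4, map_zero]
  have h5 := (kr_away_iff G (RingHom.ker γ') hz).mp hKγ'
  have h6 := Groth.Agent.S9269.map_eq_ker_of_comp γ' αG (awayPoly G) (awayPoly_surjective G) rfl
  rw [h6, hαG_ker] at h5
  exact h5

theorem main (R S : Type u) [CommRing R] [CommRing S] [Algebra R S]
    (m : ℕ) (g : Fin m → S) (hg : Ideal.span (Set.range g) = ⊤)
    (h : ∀ j, LCI.IsLCI R (Localization.Away (g j))) : LCI.IsLCI R S := by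
  have hft : Algebra.FiniteType R S := by
    have h1 : (algebraMap R S).FiniteType := by
      refine RingHom.finiteType_ofLocalizationSpanTarget (algebraMap R S) (Set.range g) hg ?_
      rintro ⟨r, j, rfl⟩
      have h2 : (algebraMap S (Localization.Away (g j))).comp (algebraMap R S) =
          algebraMap R (Localization.Away (g j)) :=
        (IsScalarTower.algebraMap_eq R S (Localization.Away (g j))).symm
      show ((algebraMap S (Localization.Away (g j))).comp (algebraMap R S)).FiniteType
      rw [h2]
      exact (RingHom.finiteType_algebraMap (A := R) (B := Localization.Away (g j))).mpr (h j).1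
    exact (RingHom.finiteType_algebraMap (A := R) (B := S)).mp h1
  refine ⟨hft, ?_⟩
  obtain ⟨n, α, hα⟩ := Algebra.FiniteType.iff_quotient_mvPolynomial''.mp hft
  refine ⟨n, α, hα, ?_⟩
  intro 𝔭 hI
  have hker : RingHom.ker α.toRingHom ≤ 𝔭.asIdeal := hI
  haveI hprime : (𝔭.asIdeal.map α.toRingHom).IsPrime :=
    Ideal.map_isPrime_of_surjective (f := α.toRingHom) hα hker
  have hcomap : (𝔭.asIdeal.map α.toRingHom).comap α.toRingHom = 𝔭.asIdeal := by
    rw [Ideal.comap_map_of_surjective α.toRingHom hα, ← RingHom.ker_eq_comap_bot,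
      sup_of_le_left hker]
  -- some `g j` is outside the image prime
  have hex : ∃ j, g j ∉ 𝔭.asIdeal.map α.toRingHom := by
    by_contra hcon
    push Not at hcon
    have h1 : Ideal.span (Set.range g) ≤ 𝔭.asIdeal.map α.toRingHom := by
      rw [Ideal.span_le]
      rintro x ⟨j, rfl⟩
      exact hcon j
    rw [hg] at h1
    exact hprime.ne_top (top_le_iff.mp h1)
  obtain ⟨j, hj⟩ := hex
  obtain ⟨G, hG⟩ := hα (g j)
  have hGp : G ∉ 𝔭.asIdeal := by
    intro hmem
    apply hj
    rw [← hG]
    exact Ideal.mem_map_of_mem α.toRingHom hmem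
  have hLCI : LCI.IsLCI R (Localization.Away (α G)) := by
    rw [hG]
    exact h j
  exact kr_at_of_away _ G (kr_away_of_isLCI R S n α hα G hLCI) 𝔭 hI hGp

end

/-- Let R → S be a ring map and g_1, ..., g_m elements of S generating the unit ideal. When every
localization S_{g_j} is a local complete intersection algebra over R, so is S. -/
theorem result (R S : Type u) [CommRing R] [CommRing S] [Algebra R S]
    (m : ℕ) (g : Fin m → S) (hg : Ideal.span (Set.range g) = ⊤)
    (h : ∀ j, LCI.IsLCI R (Localization.Away (g j))) : LCI.IsLCI R S := by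
  exact Groth.Agent.S9253.main R S m g hg h

end Groth.Agent.S9253
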