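import Groth.Statements.S1491
import Mathlib
import Groth.Agent.Lib.Helper2.LCIDesc1
import Groth.Agent.Lib.Helper2.LCIComp2
import Groth.Agent.S9253
-- import your own Groth.Agent.* helpers here

set_option autoImplicit false
universe u
attribute [local instance] HasDerivedCategory.standard
open FlatMor

namespace Groth.Agent.S1491

section

open CategoryTheory CategoryTheory.Limits AlgebraicGeometry TopologicalSpace
open Groth.Agent.Helper2.LCIDesc Groth.Agent.Helper2.LCIComp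

/-- `IsLCI` is local on the source, set form -/
theorem isLCI_of_span_eq_top (R S : Type u) [CommRing R] [CommRing S] [Algebra R S]
    (t : Set S) (ht : Ideal.span t = ⊤)
    (h : ∀ s ∈ t, LCI.IsLCI R (Localization.Away s)) : LCI.IsLCI R S := by
  classical
  obtain ⟨t', ht't, ht'⟩ := (Ideal.span_eq_top_iff_finite t).mp ht
  let g : Fin t'.card → S := fun j => (t'.equivFin.symm j).1
  have hrange : Set.range g = (t' : Set S) := by
    ext x
    constructor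
    · rintro ⟨j, rfl⟩
      exact (t'.equivFin.symm j).2
    · intro hx
      exact ⟨t'.equivFin ⟨x, hx⟩, by simp [g]⟩
  refine Groth.Agent.S9253.main R S t'.card g (by rw [hrange]; exact ht') ?_
  intro j
  exact h _ (ht't (t'.equivFin.symm j).2)

theorem chart {X Y Z : Scheme.{u}} (f : X ⟶ Y) (g : Y ⟶ Z)
    (hf : (∀ (U : X.Opens) (V : Y.Opens) (hU : IsAffineOpen U) (hV : IsAffineOpen V)
        (hUV : U ≤ f ⁻¹ᵁ V),
        letI := (f.appLE V U hUV).hom.toAlgebra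
        LCI.IsLCI Γ(Y, V) Γ(X, U)))
    (hg : (∀ (U : Y.Opens) (V : Z.Opens) (hU : IsAffineOpen U) (hV : IsAffineOpen V)
        (hUV : U ≤ g ⁻¹ᵁ V),
        letI := (g.appLE V U hUV).hom.toAlgebra
        LCI.IsLCI Γ(Z, V) Γ(Y, U)))
    (U : X.Opens) (W : Z.Opens) (hU : IsAffineOpen U) (hW : IsAffineOpen W)
    (hUW : U ≤ (f ≫ g) ⁻¹ᵁ W) (s : Γ(X, U)) (V : Y.Opens) (hV : IsAffineOpen V)
    (hVW : V ≤ g ⁻¹ᵁ W) (hsV : X.basicOpen s ≤ f ⁻¹ᵁ V) :
    letI := ((f ≫ g).appLE W U hUW).hom.toAlgebra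
    LCI.IsLCI Γ(Z, W) (Localization.Away s) := by
  letI algU := ((f ≫ g).appLE W U hUW).hom.toAlgebra
  have hD : IsAffineOpen (X.basicOpen s) := hU.basicOpen s
  have hDW : X.basicOpen s ≤ (f ≫ g) ⁻¹ᵁ W := (X.basicOpen_le s).trans hUW
  letI algV := (g.appLE W V hVW).hom.toAlgebra
  letI algDV := (f.appLE V (X.basicOpen s) hsV).hom.toAlgebra
  letI algD := ((f ≫ g).appLE W (X.basicOpen s) hDW).hom.toAlgebra
  haveI tower1 : IsScalarTower Γ(Z, W) Γ(Y, V) Γ(X, X.basicOpen s) := by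
    apply IsScalarTower.of_algebraMap_eq'
    show ((f ≫ g).appLE W (X.basicOpen s) hDW).hom =
      (f.appLE V (X.basicOpen s) hsV).hom.comp (g.appLE W V hVW).hom
    rw [← CommRingCat.hom_comp, Scheme.Hom.appLE_comp_appLE]
  have h1 : LCI.IsLCI Γ(Z, W) Γ(X, X.basicOpen s) :=
    isLCI_trans Γ(Z, W) Γ(Y, V) Γ(X, X.basicOpen s) (hg V W hV hW hVW)
      (hf (X.basicOpen s) V hD hV hsV)
  haveI := hU.isLocalization_basicOpen s
  haveI tower2 : IsScalarTower Γ(Z, W) Γ(X, U) Γ(X, X.basicOpen s) := by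
    apply IsScalarTower.of_algebraMap_eq'
    show ((f ≫ g).appLE W (X.basicOpen s) hDW).hom =
      (algebraMap Γ(X, U) Γ(X, X.basicOpen s)).comp ((f ≫ g).appLE W U hUW).hom
    have h3 : algebraMap Γ(X, U) Γ(X, X.basicOpen s) =
        (X.presheaf.map (homOfLE (X.basicOpen_le s)).op).hom := rfl
    rw [h3, ← CommRingCat.hom_comp, Scheme.Hom.appLE_map]
  let e : Γ(X, X.basicOpen s) ≃ₐ[Γ(X, U)] Localization.Away s :=
    IsLocalization.algEquiv (Submonoid.powers s) Γ(X, X.basicOpen s) (Localization.Away s)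
  exact isLCI_of_algEquiv (e.restrictScalars Γ(Z, W)) h1

theorem main {X Y Z : Scheme.{u}} (f : X ⟶ Y) (g : Y ⟶ Z)
    (hf : (∀ (U : X.Opens) (V : Y.Opens) (hU : IsAffineOpen U) (hV : IsAffineOpen V)
        (hUV : U ≤ f ⁻¹ᵁ V),
        letI := (f.appLE V U hUV).hom.toAlgebra
        LCI.IsLCI Γ(Y, V) Γ(X, U)))
    (hg : (∀ (U : Y.Opens) (V : Z.Opens) (hU : IsAffineOpen U) (hV : IsAffineOpen V)
        (hUV : U ≤ g ⁻¹ᵁ V),
        letI := (g.appLE V U hUV).hom.toAlgebra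
        LCI.IsLCI Γ(Z, V) Γ(Y, U))) :
    (∀ (U : X.Opens) (V : Z.Opens) (hU : IsAffineOpen U) (hV : IsAffineOpen V)
        (hUV : U ≤ (f ≫ g) ⁻¹ᵁ V),
        letI := ((f ≫ g).appLE V U hUV).hom.toAlgebra
        LCI.IsLCI Γ(Z, V) Γ(X, U)) := by
  intro U W hU hW hUW
  letI algU := ((f ≫ g).appLE W U hUW).hom.toAlgebra
  let t : Set Γ(X, U) := {s | ∃ V : Y.Opens, IsAffineOpen V ∧ V ≤ g ⁻¹ᵁ W ∧
    X.basicOpen s ≤ f ⁻¹ᵁ V}
  refine isLCI_of_span_eq_top Γ(Z, W) Γ(X, U) t ?_ ?_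
  · rw [← hU.self_le_iSup_basicOpen_iff]
    intro x hxU
    have hfx : f x ∈ g ⁻¹ᵁ W := by
      have := hUW hxU
      simpa using this
    obtain ⟨_, ⟨V, hV, rfl⟩, hxV, hVW⟩ :=
      (Y.isBasis_affineOpens).exists_subset_of_mem_open hfx (g ⁻¹ᵁ W).isOpen
    obtain ⟨s, hsV, hxs⟩ := hU.exists_basicOpen_le (V := f ⁻¹ᵁ V) ⟨x, hxV⟩ hxU
    exact Opens.mem_iSup.mpr ⟨⟨s, V, hV, hVW, hsV⟩, hxs⟩
  · rintro s ⟨V, hV, hVW, hsV⟩
    exact chart f g hf hg U W hU hW hUW s V hV hVW hsV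

end

open AlgebraicGeometry CategoryTheory Limits in
/-- Let f : X → Y and g : Y → Z be local complete intersection morphisms, in the affine-local sense that
all ring maps between affine opens are local complete intersection homomorphisms. Then f ≫ g is a
local complete intersection morphism. -/
theorem result {X Y Z : Scheme.{u}} (f : X ⟶ Y) (g : Y ⟶ Z)
    (hf : (∀ (U : X.Opens) (V : Y.Opens) (hU : IsAffineOpen U) (hV : IsAffineOpen V) (hUV : U ≤ f ⁻¹ᵁ V),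
        letI := (f.appLE V U hUV).hom.toAlgebra
        LCI.IsLCI Γ(Y, V) Γ(X, U)))
    (hg : (∀ (U : Y.Opens) (V : Z.Opens) (hU : IsAffineOpen U) (hV : IsAffineOpen V) (hUV : U ≤ g ⁻¹ᵁ V),
        letI := (g.appLE V U hUV).hom.toAlgebra
        LCI.IsLCI Γ(Z, V) Γ(Y, U))) :
    (∀ (U : X.Opens) (V : Z.Opens) (hU : IsAffineOpen U) (hV : IsAffineOpen V) (hUV : U ≤ (f ≫ g) ⁻¹ᵁ V),
        letI := ((f ≫ g).appLE V U hUV).hom.toAlgebra
        LCI.IsLCI Γ(Z, V) Γ(X, U)) := by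
  exact Groth.Agent.S1491.main f g hf hg

end Groth.Agent.S1491
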