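import Groth.Statements.S9429
import Mathlib
import Groth.Agent.Lib.Helper14.SmoothDim
-- import your own Groth.Agent.* helpers here

set_option autoImplicit false
universe u
open Synt

namespace Groth.Agent.S9429

/-- A smooth algebra over a field k is a local complete intersection over k (finite type, and locally on
Spec S by principal opens a global complete intersection). -/
theorem result (k : Type u) [Field k] (S : Type u) [CommRing S] [Algebra k S]
    [Algebra.Smooth k S] : Synt.IsLCIOver k S := by
  haveI : Algebra.FinitePresentation k S := Algebra.Smooth.finitePresentation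
  refine ⟨inferInstance, ?_⟩
  intro p
  obtain ⟨f, hf, hss⟩ := Algebra.IsSmoothAt.exists_notMem_isStandardSmooth k p.asIdeal
  refine ⟨f, hf, Or.inr ?_⟩
  -- nontriviality
  have hdisj : Disjoint (Submonoid.powers f : Set S) (p.asIdeal : Set S) :=
    (Ideal.disjoint_powers_iff_notMem_of_isPrime _).mpr hf
  have hprime : (p.asIdeal.map (algebraMap S (Localization.Away f))).IsPrime :=
    IsLocalization.isPrime_of_isPrime_disjoint (.powers f) _ _ p.isPrime hdisj
  haveI : Nontrivial (Localization.Away f) := by
    refine nontrivial_of_ne (0 : Localization.Away f) 1 ?_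
    intro h01
    exact (Ideal.ne_top_iff_one _).mp hprime.ne_top (h01 ▸ Ideal.zero_mem _)
  obtain ⟨ι, σ, hσ, hι, ⟨P₀⟩⟩ := hss.out
  letI := Fintype.ofFinite ι
  letI := Fintype.ofFinite σ
  let P := P₀.reindex (Fintype.equivFin ι).symm (Fintype.equivFin σ).symm
  have hcn : Fintype.card σ ≤ Fintype.card ι := by
    have := Fintype.card_le_of_injective P.map P.map_inj
    simpa using this
  haveI : Algebra.IsStandardSmoothOfRelativeDimension (Fintype.card ι - Fintype.card σ) k
      (Localization.Away f) :=
    P.isStandardSmoothOfRelativeDimension (by simp [Algebra.Presentation.dimension])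
  obtain ⟨g, hg⟩ := Algebra.IsStandardSmoothOfRelativeDimension.exists_etale_mvPolynomial
    (Fintype.card ι - Fintype.card σ) k (Localization.Away f)
  have hdim : ringKrullDim (Localization.Away f) =
      ((Fintype.card ι - Fintype.card σ : ℕ) : WithBot ℕ∞) := by
    letI : Algebra (MvPolynomial (Fin (Fintype.card ι - Fintype.card σ)) k) (Localization.Away f) :=
      g.toRingHom.toAlgebra
    haveI : Algebra.Etale (MvPolynomial (Fin (Fintype.card ι - Fintype.card σ)) k)
        (Localization.Away f) := hg
    exact Groth.Agent.Helper14.SmoothDim.ringKrullDim_eq_of_etale k _ _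
  refine ⟨Fintype.card ι, Fintype.card σ, hcn, MvPolynomial.aeval P.val, P.relation, ?_, ?_, hdim⟩
  · have := P.algebraMap_surjective
    intro x
    obtain ⟨y, hy⟩ := this x
    exact ⟨y, by rw [← hy, Algebra.Generators.algebraMap_apply]⟩
  · rw [P.span_range_relation_eq_ker, Algebra.Generators.ker_eq_ker_aeval_val]
    rfl

end Groth.Agent.S9429
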