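import Groth.Statements.S9699
import Mathlib
import Groth.Agent.S9429

set_option autoImplicit false
universe u
open CategoryTheory CategoryTheory.Limits AlgebraicGeometry
open Synt

namespace Groth.Agent.S9699

/-- A smooth morphism of schemes is syntomic (flat, locally of finite presentation, with local complete
intersection fibres, in the affine-local sense of Synt.IsSyntomicMor). -/
theorem result {X S : Scheme.{u}} (f : X ⟶ S) [Smooth f] :
    Synt.IsSyntomicMor f := by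
  intro x
  obtain ⟨V, hVaff, hxV⟩ : ∃ V : S.Opens, IsAffineOpen V ∧ f x ∈ V := by
    obtain ⟨_, ⟨V, hV, rfl⟩, hx, -⟩ :=
      S.isBasis_affineOpens.exists_subset_of_mem_open (Set.mem_univ (f x)) isOpen_univ
    exact ⟨V, hV, hx⟩
  obtain ⟨U, hUaff, hxU, hUV⟩ : ∃ U : X.Opens, IsAffineOpen U ∧ x ∈ U ∧ U ≤ f ⁻¹ᵁ V := by
    obtain ⟨_, ⟨U, hU, rfl⟩, hx, hle⟩ :=
      X.isBasis_affineOpens.exists_subset_of_mem_open (show x ∈ ((f ⁻¹ᵁ V : X.Opens) : Set X) from hxV)
        (f ⁻¹ᵁ V).isOpen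
    exact ⟨U, hU, hx, hle⟩
  refine ⟨⟨U, hUaff⟩, ⟨V, hVaff⟩, hUV, hxU, ?_⟩
  have hsm : (f.appLE V U hUV).hom.Smooth := Smooth.smooth_appLE f hVaff hUaff hUV
  letI := (f.appLE V U hUV).hom.toAlgebra
  haveI : Algebra.Smooth Γ(S, V) Γ(X, U) := hsm
  refine ⟨inferInstance, Algebra.Smooth.finitePresentation, ?_⟩
  intro p
  exact Groth.Agent.S9429.result _ _


end Groth.Agent.S9699
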