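import Groth.Statements.S9729
import Mathlib
import Groth.Agent.S8657
-- import your own Groth.Agent.* helpers here

set_option autoImplicit false
universe u
open FlatMor

namespace Groth.Agent.S9729

section

open CategoryTheory CategoryTheory.Limits AlgebraicGeometry TopologicalSpace

theorem main {X Y S : Scheme.{u}} (f : X ⟶ Y) (g : Y ⟶ S) [Smooth g]
    (h : ∀ x : X, Synt.IsKoszulAt (f ≫ g) x) (x : X) : Synt.IsKoszulAt f x := by
  obtain ⟨U, P, i₀, π, hxU, hlft, hi₀, hπ, hcomp⟩ := h x
  haveI := hπ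
  haveI : IsImmersion i₀ := hi₀.1
  have hc : i₀ ≫ π = (U.ι ≫ f) ≫ g := by rw [hcomp, Category.assoc]
  haveI : IsImmersion (pullback.lift i₀ (U.ι ≫ f) hc) := by
    haveI : IsImmersion (pullback.lift i₀ (U.ι ≫ f) hc ≫ pullback.fst π g) := by
      rw [pullback.lift_fst]; infer_instance
    exact IsImmersion.of_comp (pullback.lift i₀ (U.ι ≫ f) hc) (pullback.fst π g)
  have hk : RegImm.IsRegularImmersion .koszul (pullback.lift i₀ (U.ι ≫ f) hc) :=
    (Groth.Agent.S8657.main i₀ (pullback.lift i₀ (U.ι ≫ f) hc) (pullback.fst π g)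
      (pullback.lift_fst _ _ _)).mp hi₀
  refine ⟨U, pullback π g, pullback.lift i₀ (U.ι ≫ f) hc, pullback.snd π g, hxU, ?_, hk,
    inferInstance, pullback.lift_snd _ _ _⟩
  haveI : LocallyOfFiniteType ((U.ι ≫ f) ≫ g) := by
    rw [Category.assoc]; exact hlft
  exact locallyOfFiniteType_of_comp (U.ι ≫ f) g

end

open AlgebraicGeometry CategoryTheory Limits in
/-- Let f : X ⟶ Y and g : Y ⟶ S be morphisms with g smooth. If f ≫ g is a local complete intersection
morphism (Koszul at every point of X) then f is a local complete intersection morphism. -/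
theorem result {X Y S : Scheme.{u}} (f : X ⟶ Y) (g : Y ⟶ S) [Smooth g]
    (h : ∀ x : X, Synt.IsKoszulAt (f ≫ g) x) (x : X) : Synt.IsKoszulAt f x := by
  exact Groth.Agent.S9729.main f g h x

end Groth.Agent.S9729
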