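import Groth.Statements.S9287
import Mathlib
import Groth.Agent.Lib.Helper2.SyntLCI6
-- import your own Groth.Agent.* helpers here

set_option autoImplicit false
universe u
attribute [local instance] HasDerivedCategory.standard
open CategoryTheory
open Synt

namespace Groth.Agent.S9287

section
open Groth.Agent.Helper2.SyntLCI

theorem forward (R S : Type u) [CommRing R] [CommRing S] [Algebra R S]
    (h : Synt.IsSyntomic R S) : LCI.IsLCI R S := by
  obtain ⟨hflat, hfp, hfib⟩ := h
  obtain ⟨n, φ, hφ, hfg⟩ := hfp.out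
  refine ⟨inferInstance, n, φ, hφ, fun 𝔮 hI => ?_⟩
  obtain ⟨g, hg, l, hl, hIl⟩ := forward_at n φ hφ hfg 𝔮.asIdeal hI
    (𝔮.asIdeal.comap (algebraMap R (MvPolynomial (Fin n) R))) rfl
    (hfib ⟨𝔮.asIdeal.comap (algebraMap R (MvPolynomial (Fin n) R)), inferInstance⟩)
  exact ⟨g, hg, l, hl, hIl⟩

theorem backward (R S : Type u) [CommRing R] [CommRing S] [Algebra R S]
    (hflat : Module.Flat R S) (h : LCI.IsLCI R S) : Synt.IsSyntomic R S := by
  obtain ⟨hft, n, φ, hφ, hKR⟩ := h
  refine ⟨hflat, ⟨⟨n, φ, hφ, fg_of_kr _ hKR⟩⟩, fun p => ⟨inferInstance, fun Q' => ?_⟩⟩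
  exact backward_at n φ hφ hKR p.asIdeal Q'

theorem main (R S : Type u) [CommRing R] [CommRing S] [Algebra R S] :
    Synt.IsSyntomic R S ↔ Module.Flat R S ∧ LCI.IsLCI R S :=
  ⟨fun h => ⟨h.1, forward R S h⟩, fun h => backward R S h.1 h.2⟩

end

/-- A ring map R → S is syntomic if and only if it is flat and a local complete intersection
homomorphism. -/
theorem result (R S : Type u) [CommRing R] [CommRing S] [Algebra R S] :
    Synt.IsSyntomic R S ↔ Module.Flat R S ∧ LCI.IsLCI R S := by
  exact Groth.Agent.S9287.main R S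

end Groth.Agent.S9287
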