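import Groth.Statements.S9758
import Mathlib
import Groth.Agent.S9287
import Groth.Agent.Lib.Helper2.KosBridge3
-- import your own Groth.Agent.* helpers here

set_option autoImplicit false
universe u
open FlatMor

namespace Groth.Agent.S9758

section
open AlgebraicGeometry CategoryTheory Limits Groth.Agent.Helper2.KosBridge

theorem main {X S : Scheme.{u}} (f : X ⟶ S) :
    (Flat f ∧ ∀ x : X, Synt.IsKoszulAt f x) ↔ Synt.IsSyntomicMor f := by
  constructor
  · rintro ⟨hfl, hK⟩ x
    obtain ⟨_, ⟨V, hV, rfl⟩, hxV, -⟩ :=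
      (S.isBasis_affineOpens).exists_subset_of_mem_open (Set.mem_univ (f x)) isOpen_univ
    have hxfV : x ∈ f ⁻¹ᵁ V := hxV
    obtain ⟨_, ⟨U, hU, rfl⟩, hxU, hUV⟩ :=
      (X.isBasis_affineOpens).exists_subset_of_mem_open hxfV (f ⁻¹ᵁ V).isOpen
    refine ⟨⟨U, hU⟩, ⟨V, hV⟩, hUV, hxU, ?_⟩
    letI := (f.appLE V U hUV).hom.toAlgebra
    have hlci := (isKoszulAt_iff f).mp hK U V hU hV hUV
    have hflat : Module.Flat Γ(S, V) Γ(X, U) := Flat.flat_appLE f hV hU hUV
    exact Groth.Agent.S9287.backward _ _ hflat hlci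
  · intro h
    constructor
    · rw [HasRingHomProperty.iff_exists_appLE (P := @Flat)
        (RingHom.Flat.stableUnderComposition.stableUnderCompositionWithLocalizationAway
          RingHom.Flat.holdsForLocalizationAway).left]
      intro x
      obtain ⟨U, V, e, hxU, hsyn⟩ := h x
      exact ⟨V, U, hxU, e, hsyn.1⟩
    · intro x
      obtain ⟨U, V, e, hxU, hsyn⟩ := h x
      letI := (f.appLE V.1 U.1 e).hom.toAlgebra
      exact isKoszulAt_of_isLCI f U.1 V.1 U.2 V.2 e
        (Groth.Agent.S9287.forward _ _ hsyn) x hxU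

end

open AlgebraicGeometry CategoryTheory Limits in
/-- A morphism of schemes f : X ⟶ S is flat and a local complete intersection morphism (Koszul at every
point) if and only if it is syntomic. -/
theorem result {X S : Scheme.{u}} (f : X ⟶ S) :
    (Flat f ∧ ∀ x : X, Synt.IsKoszulAt f x) ↔ Synt.IsSyntomicMor f := by
  exact Groth.Agent.S9758.main f

end Groth.Agent.S9758
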