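import Groth.Statements.S9363
import Mathlib
import Groth.Agent.S9758
-- import your own Groth.Agent.* helpers here

set_option autoImplicit false
universe u
open Synt

namespace Groth.Agent.S9363

section
open AlgebraicGeometry CategoryTheory Groth.Agent.Helper2.KosBridge

theorem main {X S : Scheme.{u}} (f : X ⟶ S) :
    Synt.IsSyntomicMor f ↔
      ∀ (U : X.affineOpens) (V : S.affineOpens) (e : U.1 ≤ f ⁻¹ᵁ V.1),
        letI := (f.appLE V.1 U.1 e).hom.toAlgebra
        Synt.IsSyntomic Γ(S, V.1) Γ(X, U.1) := by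
  constructor
  · intro h U V e
    obtain ⟨hfl, hK⟩ := (Groth.Agent.S9758.main f).mpr h
    letI := (f.appLE V.1 U.1 e).hom.toAlgebra
    have hlci := (isKoszulAt_iff f).mp hK U.1 V.1 U.2 V.2 e
    have hflat : Module.Flat Γ(S, V.1) Γ(X, U.1) := Flat.flat_appLE f V.2 U.2 e
    exact Groth.Agent.S9287.backward _ _ hflat hlci
  · intro h x
    obtain ⟨_, ⟨V, hV, rfl⟩, hxV, -⟩ :=
      (S.isBasis_affineOpens).exists_subset_of_mem_open (Set.mem_univ (f x)) isOpen_univ
    have hxfV : x ∈ f ⁻¹ᵁ V := hxV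
    obtain ⟨_, ⟨U, hU, rfl⟩, hxU, hUV⟩ :=
      (X.isBasis_affineOpens).exists_subset_of_mem_open hxfV (f ⁻¹ᵁ V).isOpen
    exact ⟨⟨U, hU⟩, ⟨V, hV⟩, hUV, hxU, h ⟨U, hU⟩ ⟨V, hV⟩ hUV⟩

end

open AlgebraicGeometry CategoryTheory in
/-- f : X → S is syntomic if and only if, for every affine open V of S and every affine open U of X
mapped into V, the induced map O_S(V) → O_X(U) makes O_X(U) a syntomic algebra over O_S(V). -/
theorem result {X S : Scheme.{u}} (f : X ⟶ S) :
    Synt.IsSyntomicMor f ↔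
      ∀ (U : X.affineOpens) (V : S.affineOpens) (e : U.1 ≤ f ⁻¹ᵁ V.1),
        letI := (f.appLE V.1 U.1 e).hom.toAlgebra
        Synt.IsSyntomic Γ(S, V.1) Γ(X, U.1) := by
  exact Groth.Agent.S9363.main f

end Groth.Agent.S9363
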