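import Groth.Statements.S9365
import Mathlib
import Groth.Agent.Lib.Helper2.SyntFib1
import Groth.Agent.Lib.Helper2.SyntFib2
import Groth.Agent.S9363
-- import your own Groth.Agent.* helpers here

set_option autoImplicit false
universe u
open Synt

namespace Groth.Agent.S9365

section
open AlgebraicGeometry CategoryTheory Limits Groth.Agent.Helper2.SyntFib

theorem fibre_lci {X S : Scheme.{u}} (f : X ⟶ S)
    (hfib : ∀ s : S, Synt.IsSyntomicMor (f.fiberToSpecResidueField s))
    (U : X.affineOpens) (V : S.affineOpens) (e : U.1 ≤ f ⁻¹ᵁ V.1)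
    (p : PrimeSpectrum Γ(S, V.1)) :
    letI := (f.appLE V.1 U.1 e).hom.toAlgebra
    Synt.IsLCIOver p.asIdeal.ResidueField (p.asIdeal.Fiber Γ(X, U.1)) := by
  letI alg : Algebra Γ(S, V.1) Γ(X, U.1) := (f.appLE V.1 U.1 e).hom.toAlgebra
  apply isLCIOver_of_isSyntomic
  have hcomm0 : U.2.fromSpec ≫ f = Spec.map (f.appLE V.1 U.1 e) ≫ V.2.fromSpec :=
    (IsAffineOpen.SpecMap_appLE_fromSpec f V.2 U.2 e).symm
  let j : Spec Γ(X, U.1) ⟶ pullback f V.2.fromSpec :=
    pullback.lift U.2.fromSpec (Spec.map (f.appLE V.1 U.1 e)) hcomm0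
  haveI : IsOpenImmersion j := by
    haveI : IsOpenImmersion (j ≫ pullback.fst f V.2.fromSpec) := by
      rw [pullback.lift_fst]
      infer_instance
    exact IsOpenImmersion.of_comp j (pullback.fst f V.2.fromSpec)
  obtain ⟨J, hJ, hJc⟩ := exists_fibre_openImmersion f V.2.fromSpec
    (Spec.map (CommRingCat.ofHom (algebraMap Γ(S, V.1) Γ(X, U.1)))) j
    (pullback.lift_snd _ _ _) p
  let ι := Spec.fiberToSpecResidueFieldIso Γ(S, V.1) Γ(X, U.1) p
  haveI : IsOpenImmersion (ι.inv.left ≫ J) := inferInstance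
  have hw : ι.inv.left ≫ (Spec.map (CommRingCat.ofHom
      (algebraMap Γ(S, V.1) Γ(X, U.1)))).fiberToSpecResidueField p =
      Spec.map (CommRingCat.ofHom (algebraMap p.asIdeal.ResidueField
        (p.asIdeal.Fiber Γ(X, U.1)))) ≫ ι.inv.right := ι.inv.w
  haveI hi1 : IsIso (V.2.fromSpec.residueFieldMap p) := inferInstance
  refine isSyntomic_of_openImmersion (f.fiberToSpecResidueField (V.2.fromSpec p)) (hfib _)
    (ι.inv.left ≫ J)
    ((Arrow.rightFunc.mapIso ι).symm ≪≫ Scheme.Spec.mapIso (asIso (V.2.fromSpec.residueFieldMap p)).op) ?_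
  rw [Category.assoc, hJc, ← Category.assoc, hw, Category.assoc]
  rfl

theorem main {X S : Scheme.{u}} (f : X ⟶ S) [Flat f] [LocallyOfFinitePresentation f]
    (hfib : ∀ s : S, Synt.IsSyntomicMor (f.fiberToSpecResidueField s)) :
    Synt.IsSyntomicMor f := by
  apply (Groth.Agent.S9363.main f).mpr
  intro U V e
  letI alg : Algebra Γ(S, V.1) Γ(X, U.1) := (f.appLE V.1 U.1 e).hom.toAlgebra
  refine ⟨?_, ?_, fun p => fibre_lci f hfib U V e p⟩
  · exact Flat.flat_appLE f V.2 U.2 e
  · exact LocallyOfFinitePresentation.finitePresentation_appLE f V.2 U.2 e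

end

open AlgebraicGeometry CategoryTheory in
/-- If f : X → S is flat, locally of finite presentation, and every fibre X_s → Spec κ(s) is syntomic
(X_s is a local complete intersection over κ(s)), then f is syntomic. -/
theorem result {X S : Scheme.{u}} (f : X ⟶ S) [Flat f] [LocallyOfFinitePresentation f]
    (hfib : ∀ s : S, Synt.IsSyntomicMor (f.fiberToSpecResidueField s)) :
    Synt.IsSyntomicMor f := by
  exact Groth.Agent.S9365.main f hfib

end Groth.Agent.S9365
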