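import Groth.Statements.S9368
import Mathlib
import Groth.Agent.Lib.Helper2.CIField3
import Groth.Agent.Lib.Helper2.CIField4
import Groth.Agent.Lib.Helper2.SyntSch1
-- import your own Groth.Agent.* helpers here

set_option autoImplicit false
universe u
open Synt

namespace Groth.Agent.S9368

section
open AlgebraicGeometry CategoryTheory Groth.Agent.Helper2.CIField

variable (k : Type u) [Field k] (X : Scheme.{u}) (p : X ⟶ Spec (CommRingCat.of k))

/-- the `k`-algebra structure on sections -/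
@[reducible] noncomputable def algU (U : X.Opens) : Algebra k Γ(X, U) :=
  ((Scheme.ΓSpecIso (CommRingCat.of k)).inv ≫ p.appLE ⊤ U le_top).hom.toAlgebra

/-- the `k`-algebra structure on stalks -/
@[reducible] noncomputable def algStalk (x : X) : Algebra k (X.presheaf.stalk x) :=
  ((Scheme.ΓSpecIso (CommRingCat.of k)).inv ≫ p.appLE ⊤ ⊤ le_top ≫
    X.presheaf.germ ⊤ x trivial).hom.toAlgebra

theorem algebraMap_res {U U' : X.Opens} (h : U' ≤ U) (a : k) :
    (X.presheaf.map (homOfLE h).op).hom ((algU k X p U).algebraMap a) =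
      (algU k X p U').algebraMap a := by
  show (X.presheaf.map (homOfLE h).op).hom
    (((Scheme.ΓSpecIso (CommRingCat.of k)).inv ≫ p.appLE ⊤ U le_top).hom a) =
    ((Scheme.ΓSpecIso (CommRingCat.of k)).inv ≫ p.appLE ⊤ U' le_top).hom a
  rw [← Scheme.Hom.appLE_map p (le_top : U ≤ p ⁻¹ᵁ ⊤) (homOfLE h).op]
  rfl

theorem algebraMap_germ (U : X.Opens) (x : X) (hx : x ∈ U) (a : k) :
    (X.presheaf.germ U x hx).hom ((algU k X p U).algebraMap a) =
      (algStalk k X p x).algebraMap a := by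
  show (X.presheaf.germ U x hx).hom
    (((Scheme.ΓSpecIso (CommRingCat.of k)).inv ≫ p.appLE ⊤ U le_top).hom a) =
    ((Scheme.ΓSpecIso (CommRingCat.of k)).inv ≫ p.appLE ⊤ ⊤ le_top ≫
      X.presheaf.germ ⊤ x trivial).hom a
  rw [← Scheme.Hom.appLE_map p (le_top : (⊤ : X.Opens) ≤ p ⁻¹ᵁ ⊤) (homOfLE (le_top : U ≤ ⊤)).op,
    ← TopCat.Presheaf.germ_res X.presheaf (homOfLE (le_top : U ≤ ⊤)) x hx]
  rfl

/-- sections over a basic open as a localization, over `k` -/
theorem nonempty_away_equiv (U : X.affineOpens) (g : Γ(X, U.1)) :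
    letI := algU k X p U.1
    letI := algU k X p (X.basicOpen g)
    Nonempty (Localization.Away g ≃ₐ[k] Γ(X, X.basicOpen g)) := by
  letI := algU k X p U.1
  letI := algU k X p (X.basicOpen g)
  haveI : IsLocalization.Away g Γ(X, X.basicOpen g) := U.2.isLocalization_basicOpen g
  haveI : IsScalarTower k Γ(X, U.1) Γ(X, X.basicOpen g) :=
    IsScalarTower.of_algebraMap_eq (fun a => (algebraMap_res k X p (X.basicOpen_le g) a).symm)
  exact ⟨(IsLocalization.algEquiv (Submonoid.powers g) (Localization.Away g)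
    Γ(X, X.basicOpen g)).restrictScalars k⟩

/-- the stalk as a localization, over `k` -/
theorem nonempty_atPrime_equiv (U : X.affineOpens) (x : X) (hx : x ∈ U.1) :
    letI := algU k X p U.1
    letI := algStalk k X p x
    Nonempty (Localization.AtPrime (U.2.primeIdealOf ⟨x, hx⟩).asIdeal ≃ₐ[k] X.presheaf.stalk x) := by
  letI := algU k X p U.1
  letI := algStalk k X p x
  letI : Algebra Γ(X, U.1) (X.presheaf.stalk x) :=
    TopCat.Presheaf.algebra_section_stalk X.presheaf ⟨x, hx⟩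
  haveI : IsLocalization.AtPrime (X.presheaf.stalk x) (U.2.primeIdealOf ⟨x, hx⟩).asIdeal :=
    U.2.isLocalization_stalk ⟨x, hx⟩
  haveI : IsScalarTower k Γ(X, U.1) (X.presheaf.stalk x) :=
    IsScalarTower.of_algebraMap_eq (fun a => (algebraMap_germ k X p U.1 x hx a).symm)
  exact ⟨(IsLocalization.algEquiv (U.2.primeIdealOf ⟨x, hx⟩).asIdeal.primeCompl
    (Localization.AtPrime (U.2.primeIdealOf ⟨x, hx⟩).asIdeal) (X.presheaf.stalk x)).restrictScalars k⟩

theorem finiteType_sections [LocallyOfFiniteType p] (U : X.affineOpens) :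
    letI := algU k X p U.1
    Algebra.FiniteType k Γ(X, U.1) := by
  letI := algU k X p U.1
  have h1 : (p.appLE ⊤ U.1 le_top).hom.FiniteType :=
    HasRingHomProperty.appLE (P := @LocallyOfFiniteType) p inferInstance
      ⟨⊤, isAffineOpen_top _⟩ U le_top
  have h2 : ((Scheme.ΓSpecIso (CommRingCat.of k)).inv ≫ p.appLE ⊤ U.1 le_top).hom.FiniteType := by
    rw [CommRingCat.hom_comp]
    exact h1.comp (RingHom.FiniteType.of_surjective _
      (ConcreteCategory.bijective_of_isIso (Scheme.ΓSpecIso (CommRingCat.of k)).inv).2)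
  exact h2

theorem syn_iff (U : X.affineOpens) (e : U.1 ≤ p ⁻¹ᵁ ⊤) :
    (letI := (p.appLE ⊤ U.1 e).hom.toAlgebra
     Synt.IsSyntomic Γ(Spec (CommRingCat.of k), ⊤) Γ(X, U.1)) ↔
    (letI := algU k X p U.1
     Synt.IsSyntomic k Γ(X, U.1)) := by
  let σ : Γ(Spec (CommRingCat.of k), ⊤) ≃+* k :=
    (Scheme.ΓSpecIso (CommRingCat.of k)).commRingCatIsoToRingEquiv
  have hσ : ∀ r, ((Scheme.ΓSpecIso (CommRingCat.of k)).inv ≫ p.appLE ⊤ U.1 le_top).hom (σ r) =
      (p.appLE ⊤ U.1 e).hom r := by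
    intro r
    show ((Scheme.ΓSpecIso (CommRingCat.of k)).hom ≫ (Scheme.ΓSpecIso (CommRingCat.of k)).inv ≫
      p.appLE ⊤ U.1 le_top).hom r = _
    rw [Iso.hom_inv_id_assoc]
  constructor
  · intro h
    exact @Groth.Agent.Helper2.SyntSch.isSyntomic_of_ringEquiv _ _ _ _ _ _ _ _
      (p.appLE ⊤ U.1 e).hom.toAlgebra (algU k X p U.1) σ (RingEquiv.refl _)
      (fun r => (hσ r).symm) h
  · intro h
    refine @Groth.Agent.Helper2.SyntSch.isSyntomic_of_ringEquiv _ _ _ _ _ _ _ _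
      (algU k X p U.1) (p.appLE ⊤ U.1 e).hom.toAlgebra σ.symm (RingEquiv.refl _)
      (fun a => ?_) h
    have := hσ (σ.symm a)
    rw [σ.apply_symm_apply] at this
    exact this

theorem mem_basicOpen_of_notMem {U : X.Opens} (hU : IsAffineOpen U)
    (x : X) (hxU : x ∈ U) (r : Γ(X, U)) (hrx : r ∉ (hU.primeIdealOf ⟨x, hxU⟩).asIdeal) :
    x ∈ X.basicOpen r := by
  have h1 : hU.primeIdealOf ⟨x, hxU⟩ ∈ (PrimeSpectrum.basicOpen r : Set _) := hrx
  have h2 : hU.primeIdealOf ⟨x, hxU⟩ ∈ hU.fromSpec ⁻¹ᵁ X.basicOpen r := by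
    rw [hU.fromSpec_preimage_basicOpen]
    exact h1
  have h3 : hU.fromSpec (hU.primeIdealOf ⟨x, hxU⟩) ∈ X.basicOpen r := h2
  rwa [hU.fromSpec_primeIdealOf] at h3

theorem one_to_two (h : Synt.IsSyntomicMor p) (x : X) : ∃ U : X.affineOpens, x ∈ U.1 ∧
    letI := ((Scheme.ΓSpecIso (CommRingCat.of k)).inv ≫ p.appLE ⊤ U.1 le_top).hom.toAlgebra
    Synt.IsGlobalCI k Γ(X, U.1) := by
  obtain ⟨U, ⟨V, hV⟩, e, hx, hs⟩ := h x
  have hVtop : V = ⊤ := by
    ext y
    simp only [TopologicalSpace.Opens.coe_top, Set.mem_univ, iff_true]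
    haveI : Subsingleton (PrimeSpectrum k) := inferInstance
    have hy : y = p x := Subsingleton.elim (α := PrimeSpectrum k) y (p x)
    rw [hy]
    exact e hx
  subst hVtop
  have h1 := (syn_iff k X p U e).mp hs
  letI := algU k X p U.1
  have h2 : Synt.IsLCIOver k Γ(X, U.1) := (isSyntomic_iff_isLCIOver k _).mp h1
  obtain ⟨g, hg, hG⟩ := h2.2 (U.2.primeIdealOf ⟨x, hx⟩)
  refine ⟨⟨X.basicOpen g, U.2.basicOpen g⟩, mem_basicOpen_of_notMem X U.2 x hx g hg, ?_⟩
  obtain ⟨E⟩ := nonempty_away_equiv k X p U g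
  letI := algU k X p (X.basicOpen g)
  exact Groth.Agent.S9141.globalCI_of_algEquiv E hG

theorem two_to_three [LocallyOfFiniteType p] (h : ∀ x : ↑X, ∃ U : X.affineOpens, x ∈ U.1 ∧
    letI := ((Scheme.ΓSpecIso (CommRingCat.of k)).inv ≫ p.appLE ⊤ U.1 le_top).hom.toAlgebra
    Synt.IsGlobalCI k Γ(X, U.1)) (x : X) :
    letI := ((Scheme.ΓSpecIso (CommRingCat.of k)).inv ≫ p.appLE ⊤ ⊤ le_top ≫
      X.presheaf.germ ⊤ x trivial).hom.toAlgebra
    Synt.IsCIOver k (X.presheaf.stalk x) := by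
  obtain ⟨U, hx, hG⟩ := h x
  letI := algU k X p U.1
  letI := algStalk k X p x
  haveI := finiteType_sections k X p U
  have h1 := isCIOver_atPrime_of_lciOver k Γ(X, U.1) (lciOver_of_globalCI k _ hG)
    (U.2.primeIdealOf ⟨x, hx⟩).asIdeal
  obtain ⟨E⟩ := nonempty_atPrime_equiv k X p U x hx
  exact isCIOver_of_algEquiv E h1

theorem three_to_one [LocallyOfFiniteType p] (h : ∀ x : ↑X,
    letI := ((Scheme.ΓSpecIso (CommRingCat.of k)).inv ≫ p.appLE ⊤ ⊤ le_top ≫
      X.presheaf.germ ⊤ x trivial).hom.toAlgebra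
    Synt.IsCIOver k (X.presheaf.stalk x)) : Synt.IsSyntomicMor p := by
  intro x
  obtain ⟨_, ⟨U, hU, rfl⟩, hxU, -⟩ := X.isBasis_affineOpens.exists_subset_of_mem_open
    (Set.mem_univ x) isOpen_univ
  letI := algU k X p U
  letI := algStalk k X p x
  haveI := finiteType_sections k X p ⟨U, hU⟩
  obtain ⟨E⟩ := nonempty_atPrime_equiv k X p ⟨U, hU⟩ x hxU
  have h1 := isCIOver_of_algEquiv E.symm (h x)
  obtain ⟨g, hg, hL⟩ := (isCIOver_atPrime_iff_lciOver k Γ(X, U) _).mp h1
  obtain ⟨E'⟩ := nonempty_away_equiv k X p ⟨U, hU⟩ g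
  letI := algU k X p (X.basicOpen g)
  have h2 : Synt.IsLCIOver k Γ(X, X.basicOpen g) :=
    Groth.Agent.Helper2.SyntFib.isLCIOver_transport (RingEquiv.refl k) E'.symm.toRingEquiv
      (fun a => E'.symm.commutes a) hL
  have h3 := isSyntomic_of_isLCIOver k _ h2
  refine ⟨⟨X.basicOpen g, hU.basicOpen g⟩, ⟨⊤, isAffineOpen_top _⟩, le_top,
    mem_basicOpen_of_notMem X hU x hxU g hg, ?_⟩
  exact (syn_iff k X p ⟨X.basicOpen g, hU.basicOpen g⟩ le_top).mpr h3

end

section
open AlgebraicGeometry CategoryTheory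

theorem main (k : Type u) [Field k] (X : Scheme.{u}) (p : X ⟶ Spec (CommRingCat.of k)) [LocallyOfFiniteType p] :
    [Synt.IsSyntomicMor p,
      ∀ x : ↑X, ∃ U : X.affineOpens, x ∈ U.1 ∧
        letI := ((Scheme.ΓSpecIso (CommRingCat.of k)).inv ≫ p.appLE ⊤ U.1 le_top).hom.toAlgebra
        Synt.IsGlobalCI k Γ(X, U.1),
      ∀ x : ↑X,
        letI := ((Scheme.ΓSpecIso (CommRingCat.of k)).inv ≫ p.appLE ⊤ ⊤ le_top ≫ X.presheaf.germ ⊤ x trivial).hom.toAlgebra
        Synt.IsCIOver k (X.presheaf.stalk x)].TFAE := by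
  tfae_have 1 → 2 := fun h x => one_to_two k X p h x
  tfae_have 2 → 3 := fun h x => two_to_three k X p h x
  tfae_have 3 → 1 := fun h => three_to_one k X p h
  tfae_finish

end

open AlgebraicGeometry CategoryTheory in
/-- For X locally of finite type over a field k with structure morphism p, the following are equivalent:
(1) p is syntomic; (2) every x ∈ X has an affine open neighbourhood whose coordinate ring is a
global complete intersection over k; (3) each stalk O_{X,x} is a complete intersection ring over k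
(k-algebra structures induced by p). -/
theorem result (k : Type u) [Field k] (X : Scheme.{u}) (p : X ⟶ Spec (CommRingCat.of k)) [LocallyOfFiniteType p] :
    [Synt.IsSyntomicMor p,
      ∀ x : ↑X, ∃ U : X.affineOpens, x ∈ U.1 ∧
        letI := ((Scheme.ΓSpecIso (CommRingCat.of k)).inv ≫ p.appLE ⊤ U.1 le_top).hom.toAlgebra
        Synt.IsGlobalCI k Γ(X, U.1),
      ∀ x : ↑X,
        letI := ((Scheme.ΓSpecIso (CommRingCat.of k)).inv ≫ p.appLE ⊤ ⊤ le_top ≫ X.presheaf.germ ⊤ x trivial).hom.toAlgebra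
        Synt.IsCIOver k (X.presheaf.stalk x)].TFAE := by
  exact Groth.Agent.S9368.main k X p

end Groth.Agent.S9368
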