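import Groth.Statements.S9862
import Mathlib
import Groth.Agent.S9758
import Groth.Agent.S9142
import Groth.Agent.S9768
import Groth.Agent.Lib.Lead.Fib3
import Groth.Agent.Lib.Helper28.BlowCM2
import Groth.Agent.Lib.Helper28.NoethDescent
-- import your own Groth.Agent.* helpers here

set_option autoImplicit false
open CategoryTheory CategoryTheory.Limits AlgebraicGeometry Opposite
universe u
open Desc

namespace Groth.Agent.S9862

section
open AlgebraicGeometry CategoryTheory Limits TopologicalSpace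

theorem flat_of_syn {X S : Scheme.{u}} (f : X ⟶ S) (h : Synt.IsSyntomicMor f) : Flat f :=
  ((Groth.Agent.S9758.main f).mpr h).1

theorem lfp_of_syn {X S : Scheme.{u}} (f : X ⟶ S) (h : Synt.IsSyntomicMor f) :
    LocallyOfFinitePresentation f := by
  rw [HasRingHomProperty.iff_exists_appLE (P := @LocallyOfFinitePresentation)
    (RingHom.finitePresentation_stableUnderComposition.stableUnderCompositionWithLocalizationAway
      RingHom.finitePresentation_holdsForLocalizationAway).left]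
  intro x
  obtain ⟨U, V, e, hxU, hsyn⟩ := h x
  refine ⟨V, U, hxU, e, ?_⟩
  letI := (f.appLE V.1 U.1 e).hom.toAlgebra
  exact RingHom.finitePresentation_algebraMap.mpr hsyn.2.1

/-- a syntomic algebra over a Cohen–Macaulay ring is Cohen–Macaulay -/
theorem cm_ring_of_syn (A B : Type u) [CommRing A] [CommRing B] [Algebra A B]
    [hA : LocCoh.IsCohenMacaulayRing A] (h : Synt.IsSyntomic A B) : LocCoh.IsCohenMacaulayRing B := by
  haveI : IsNoetherianRing A := inferInstance
  haveI := h.1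
  haveI := h.2.1
  haveI : IsNoetherianRing B := Algebra.FiniteType.isNoetherianRing A B
  exact Groth.Agent.Lead.Fib.isCohenMacaulayRing_of_flat_of_fibres (R := A) (S := B)
    (fun p _ => Groth.Agent.S9142.main _ _ (h.2.2 ⟨p, inferInstance⟩))

/-- local Noetherianity near the image of a point, for a flat lfp morphism -/
theorem key {X Y : Scheme.{u}} (f : X ⟶ Y) [Flat f] [LocallyOfFinitePresentation f]
    [IsLocallyNoetherian X] (x : X) :
    ∃ V : Y.affineOpens, f x ∈ V.1 ∧ IsNoetherianRing Γ(Y, V.1) := by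
  obtain ⟨_, ⟨V, hV, rfl⟩, hyV, -⟩ :=
    Y.isBasis_affineOpens.exists_subset_of_mem_open (Set.mem_univ (f.base x)) isOpen_univ
  obtain ⟨_, ⟨U, hU, rfl⟩, hxU, hUV⟩ :=
    X.isBasis_affineOpens.exists_subset_of_mem_open hyV (f ⁻¹ᵁ V).isOpen
  have hopen : IsOpen (f.base '' (U : Set X)) := f.isOpenMap _ U.isOpen
  obtain ⟨g, hgW, hyg⟩ := hV.exists_basicOpen_le
    (V := ⟨f.base '' (U : Set X), hopen⟩) ⟨f.base x, ⟨x, hxU, rfl⟩⟩ hyV
  have hV' : IsAffineOpen (Y.basicOpen g) := hV.basicOpen g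
  obtain ⟨g', hg'⟩ : ∃ g' : Γ(X, U), g' = X.presheaf.map (homOfLE hUV).op (f.app V g) :=
    ⟨_, rfl⟩
  have hU' : IsAffineOpen (X.basicOpen g') := hU.basicOpen g'
  have hU'eq : X.basicOpen g' = U ⊓ f ⁻¹ᵁ (Y.basicOpen g) := by
    rw [hg', Scheme.basicOpen_res, Scheme.preimage_basicOpen]
  have e : X.basicOpen g' ≤ f ⁻¹ᵁ (Y.basicOpen g) := by rw [hU'eq]; exact inf_le_right
  refine ⟨⟨Y.basicOpen g, hV'⟩, hyg, ?_⟩
  refine Groth.Agent.Helper28.NoethDescent.aux f (Y.basicOpen g) (X.basicOpen g') hV' hU' e ?_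
  intro y hy
  obtain ⟨x0, hx0U, hx0⟩ := hgW hy
  refine ⟨x0, ?_, hx0⟩
  rw [hU'eq]
  refine ⟨hx0U, ?_⟩
  show f.base x0 ∈ Y.basicOpen g
  rw [hx0]; exact hy

/-- stalks of a scheme at points of an affine open with Cohen–Macaulay coordinate ring -/
theorem cm_stalk_of_sections {W : Scheme.{u}} (U : W.affineOpens)
    (hU : LocCoh.IsCohenMacaulayRing Γ(W, U.1)) (w : W) (hw : w ∈ U.1) :
    LocCoh.IsCohenMacaulayLocalRing (W.presheaf.stalk w) := by
  letI : Algebra Γ(W, U.1) (W.presheaf.stalk w) :=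
    TopCat.Presheaf.algebra_section_stalk W.presheaf ⟨w, hw⟩
  haveI hloc : IsLocalization.AtPrime (W.presheaf.stalk w) (U.2.primeIdealOf ⟨w, hw⟩).asIdeal :=
    U.2.isLocalization_stalk ⟨w, hw⟩
  haveI := hU.isCohenMacaulayLocalRing_localization (U.2.primeIdealOf ⟨w, hw⟩).asIdeal
  exact Groth.Agent.Helper20.RE.isCohenMacaulayLocalRing_of_ringEquiv
    (IsLocalization.algEquiv (U.2.primeIdealOf ⟨w, hw⟩).asIdeal.primeCompl
      (Localization.AtPrime (U.2.primeIdealOf ⟨w, hw⟩).asIdeal) (W.presheaf.stalk w)).toRingEquiv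

theorem main {ι : Type u} {S : Scheme.{u}} {X : ι → Scheme.{u}} (f : ∀ i, X i ⟶ S)
    (hsurj : ∀ s : S, ∃ i, s ∈ Set.range (f i).base) (hsyn : ∀ i, Synt.IsSyntomicMor (f i)) :
    (IsLocallyNoetherian S ∧ ∀ s : S, LocCoh.IsCohenMacaulayLocalRing (S.presheaf.stalk s)) ↔
      ∀ i, IsLocallyNoetherian (X i) ∧
        ∀ x : X i, LocCoh.IsCohenMacaulayLocalRing ((X i).presheaf.stalk x) := by
  constructor
  · rintro ⟨hN, hcm⟩ i
    haveI := hN
    haveI := lfp_of_syn (f i) (hsyn i)
    haveI : IsLocallyNoetherian (X i) := LocallyOfFiniteType.isLocallyNoetherian (f i)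
    refine ⟨inferInstance, fun x => ?_⟩
    obtain ⟨U, V, e, hxU, hs⟩ := hsyn i x
    letI := ((f i).appLE V.1 U.1 e).hom.toAlgebra
    haveI hA : LocCoh.IsCohenMacaulayRing Γ(S, V.1) :=
      Groth.Agent.Helper28.BlowCM.isCohenMacaulayRing_sections hcm V
    exact cm_stalk_of_sections U (cm_ring_of_syn _ _ hs) x hxU
  · intro h
    haveI : ∀ i, Flat (f i) := fun i => flat_of_syn (f i) (hsyn i)
    haveI : ∀ i, LocallyOfFinitePresentation (f i) := fun i => lfp_of_syn (f i) (hsyn i)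
    haveI : ∀ i, IsLocallyNoetherian (X i) := fun i => (h i).1
    have hkey : ∀ s : S, ∃ V : S.affineOpens, s ∈ V.1 ∧ IsNoetherianRing Γ(S, V.1) := by
      intro s
      obtain ⟨i, x, rfl⟩ := hsurj s
      exact key (f i) x
    choose V hsV hN using hkey
    haveI hSN : IsLocallyNoetherian S := by
      refine isLocallyNoetherian_of_affine_cover (S := V) ?_ hN
      rw [eq_top_iff]
      intro y _
      exact TopologicalSpace.Opens.mem_iSup.mpr ⟨y, hsV y⟩
    refine ⟨hSN, fun s => ?_⟩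
    obtain ⟨i, x, rfl⟩ := hsurj s
    exact (Groth.Agent.S9768.result (f i) (h i).2 x).2

end

/-- Being Cohen-Macaulay is local in the syntomic topology: for a jointly surjective family of syntomic
morphisms f i : X i ⟶ S, the scheme S is locally Noetherian with Cohen-Macaulay local rings if and
only if every X i is. -/
theorem result {ι : Type u} {S : Scheme.{u}} {X : ι → Scheme.{u}} (f : ∀ i, X i ⟶ S)
    (hsurj : ∀ s : S, ∃ i, s ∈ Set.range (f i).base) (hsyn : ∀ i, Synt.IsSyntomicMor (f i)) :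
    (IsLocallyNoetherian S ∧ ∀ s : S, LocCoh.IsCohenMacaulayLocalRing (S.presheaf.stalk s)) ↔
      ∀ i, IsLocallyNoetherian (X i) ∧ ∀ x : X i, LocCoh.IsCohenMacaulayLocalRing ((X i).presheaf.stalk x) := by
  exact Groth.Agent.S9862.main f hsurj hsyn

end Groth.Agent.S9862
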