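import Groth.Statements.S9147
import Mathlib
import Groth.Agent.Lib.Helper2.RelGCI4
import Groth.Agent.S9287
-- import your own Groth.Agent.* helpers here

set_option autoImplicit false
universe u
open Synt

namespace Groth.Agent.S9147

theorem main (R : Type u) [CommRing R] (n c : ℕ) (F : Fin c → MvPolynomial (Fin n) R)
    (h : Synt.IsRelGCI R n c F) : Synt.IsSyntomic R (Synt.RelGCIRing R n c F) := by
  apply Groth.Agent.S9287.backward R _ (Groth.Agent.Helper2.RelGCI.flat_of_relGCI R n c F h)
  refine ⟨inferInstance, n, Ideal.Quotient.mkₐ R (Ideal.span (Set.range F)),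
    Ideal.Quotient.mk_surjective, ?_⟩
  have hker : RingHom.ker (Ideal.Quotient.mkₐ R (Ideal.span (Set.range F))).toRingHom =
      Ideal.span (Set.range F) := Ideal.mk_ker
  rw [hker]
  exact Groth.Agent.Helper2.RelGCI.krIdeal_of_relGCI R n c F h

/-- A relative global complete intersection over a ring R is syntomic over R, in particular flat. -/
theorem result (R : Type u) [CommRing R] (n c : ℕ) (F : Fin c → MvPolynomial (Fin n) R)
    (h : Synt.IsRelGCI R n c F) : Synt.IsSyntomic R (Synt.RelGCIRing R n c F) := by
  exact Groth.Agent.S9147.main R n c F h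

end Groth.Agent.S9147
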