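import Groth.Statements.S9169
import Mathlib
import Groth.Agent.Lib.Helper2.CIField5
import Groth.Agent.Lib.Helper2.SyntRel3
import Groth.Agent.Lib.Helper2.SyntSch1
import Groth.Agent.Lib.Helper16.Alg.SliceSeq1
import Groth.Agent.S9147
import Groth.Agent.Lib.Helper2.SyntFib1
-- import your own Groth.Agent.* helpers here

set_option autoImplicit false
universe u
open Synt

namespace Groth.Agent.S9169

section
open TensorProduct Groth.Agent.Helper2.CIField Groth.Agent.Helper2.SyntLCI

variable (R S : Type u) [CommRing R] [CommRing S] [Algebra R S]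
    (p : Ideal R) [p.IsPrime] (q : Ideal S) [q.IsPrime]
    (Q : Ideal (p.Fiber S)) [Q.IsPrime]
    (hQ : Q.comap (Algebra.TensorProduct.includeRight.toRingHom) = q)

theorem partA_mp (h : ∃ g : S, g ∉ q ∧ Synt.IsSyntomic R (Localization.Away g)) :
    ∃ g : S, g ∉ q ∧ ∃ (n c : ℕ) (F : Fin c → MvPolynomial (Fin n) R), Synt.IsRelGCI R n c F ∧
      Nonempty (Localization.Away g ≃ₐ[R] Synt.RelGCIRing R n c F) := by
  obtain ⟨g, hg, hsy⟩ := h
  haveI := isPrime_map_away S q g hg
  obtain ⟨t, ht, n, c, F, hF, ⟨E⟩⟩ := Groth.Agent.Helper2.SyntRel.exists_away_relGCI hsy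
    (q.map (algebraMap S (Localization.Away g)))
  obtain ⟨s, ⟨E'⟩, hs⟩ := exists_away_away_equiv R S g t
  exact ⟨g * s, hs q inferInstance hg ht, n, c, F, hF, ⟨E'.trans E⟩⟩

theorem partA_mpr (h : ∃ g : S, g ∉ q ∧ ∃ (n c : ℕ) (F : Fin c → MvPolynomial (Fin n) R),
      Synt.IsRelGCI R n c F ∧ Nonempty (Localization.Away g ≃ₐ[R] Synt.RelGCIRing R n c F)) :
    ∃ g : S, g ∉ q ∧ Synt.IsSyntomic R (Localization.Away g) := by
  obtain ⟨g, hg, n, c, F, hF, ⟨E⟩⟩ := h
  refine ⟨g, hg, ?_⟩
  exact Groth.Agent.Helper2.SyntSch.isSyntomic_of_ringEquiv (RingEquiv.refl R) E.symm.toRingEquiv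
    (fun r => E.symm.commutes r) (Groth.Agent.S9147.result R n c F hF)

include hQ in
theorem one_tmul_notMem (g : S) (hg : g ∉ q) : ((1 : p.ResidueField) ⊗ₜ[R] g) ∉ Q := by
  intro hmem
  apply hg
  rw [← hQ, Ideal.mem_comap]
  exact hmem

include hQ in
theorem partB_mp (h : ∃ g : S, g ∉ q ∧ Synt.IsSyntomic R (Localization.Away g)) :
    ∃ g : S, g ∉ q ∧ Algebra.FinitePresentation R (Localization.Away g) ∧
      Module.Flat R (Localization.AtPrime q) ∧
      Synt.IsCIOver p.ResidueField (Localization.AtPrime Q) := by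
  obtain ⟨g, hg, hsy⟩ := h
  refine ⟨g, hg, hsy.2.1, ?_, ?_⟩
  · haveI := isPrime_map_away S q g hg
    obtain ⟨E⟩ := nonempty_atPrime_map_equiv R S q g hg
    haveI := hsy.1
    haveI : Module.Flat (Localization.Away g)
        (Localization.AtPrime (q.map (algebraMap S (Localization.Away g)))) :=
      IsLocalization.flat _ (q.map (algebraMap S (Localization.Away g))).primeCompl
    haveI : Module.Flat R (Localization.AtPrime (q.map (algebraMap S (Localization.Away g)))) :=
      Module.Flat.trans R (Localization.Away g) _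
    exact Module.Flat.of_linearEquiv E.toLinearEquiv
  · have hL := hsy.2.2 ⟨p, inferInstance⟩
    let Et := IsLocalization.Away.tensorProductEquivTMulRight R p.ResidueField g
      (Localization.Away g)
    have hL' : Synt.IsLCIOver p.ResidueField
        (Localization.Away ((1 : p.ResidueField) ⊗ₜ[R] g)) :=
      Groth.Agent.Helper2.SyntFib.isLCIOver_transport (RingEquiv.refl _) Et.symm.toRingEquiv
        (fun a => Et.symm.commutes a) hL
    exact isCIOver_atPrime_of_away' p.ResidueField (p.Fiber S) Q _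
      (one_tmul_notMem R S p q Q hQ g hg) hL'

include hQ in
theorem core (g' : S) (hg' : g' ∉ q) [Module.Flat R (Localization.Away g')]
    [Algebra.FinitePresentation R (Localization.Away g')]
    (hci : Synt.IsCIOver p.ResidueField (Localization.AtPrime Q)) :
    ∃ g : S, g ∉ q ∧ ∃ (n c : ℕ) (F : Fin c → MvPolynomial (Fin n) R), Synt.IsRelGCI R n c F ∧
      Nonempty (Localization.Away g ≃ₐ[R] Synt.RelGCIRing R n c F) := by
  have h1g := one_tmul_notMem R S p q Q hQ g' hg'
  let E := IsLocalization.Away.tensorProductEquivTMulRight R p.ResidueField g'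
    (Localization.Away g')
  haveI ha := isPrime_map_away (p.Fiber S) Q _ h1g
  obtain ⟨E₁⟩ := nonempty_atPrime_map_equiv p.ResidueField (p.Fiber S) Q _ h1g
  haveI hQ' : ((Q.map (algebraMap (p.Fiber S)
      (Localization.Away ((1 : p.ResidueField) ⊗ₜ[R] g')))).comap E).IsPrime :=
    Ideal.comap_isPrime _ _
  let E₂ := Localization.localAlgEquiv ((Q.map (algebraMap (p.Fiber S)
      (Localization.Away ((1 : p.ResidueField) ⊗ₜ[R] g')))).comap E) _ E rfl
  have hci' := isCIOver_of_algEquiv (E₁.trans E₂.symm) hci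
  obtain ⟨n, φ, hφ, hfg⟩ := (inferInstance :
    Algebra.FinitePresentation R (Localization.Away g')).out
  haveI hq'' : (((Q.map (algebraMap (p.Fiber S)
      (Localization.Away ((1 : p.ResidueField) ⊗ₜ[R] g')))).comap E).comap
      (phik n φ p)).IsPrime := Ideal.comap_isPrime _ _
  obtain ⟨rs, hreg, hrs⟩ := (isCIOver_atPrime_iff_regular n (phik n φ p)
    (phik_surjective n φ hφ p) _ _ rfl).mp hci'
  haveI h𝔮' : (((Q.map (algebraMap (p.Fiber S)
      (Localization.Away ((1 : p.ResidueField) ⊗ₜ[R] g')))).comap E).comap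
      (Algebra.TensorProduct.includeRight (R := R) (A := p.ResidueField)
        (B := Localization.Away g')).toRingHom).IsPrime := Ideal.comap_isPrime _ _
  have h𝔮eq : (((Q.map (algebraMap (p.Fiber S)
      (Localization.Away ((1 : p.ResidueField) ⊗ₜ[R] g')))).comap E).comap
      (phik n φ p)).comap (mu n p) =
      (((Q.map (algebraMap (p.Fiber S)
      (Localization.Away ((1 : p.ResidueField) ⊗ₜ[R] g')))).comap E).comap
      (Algebra.TensorProduct.includeRight (R := R) (A := p.ResidueField)
        (B := Localization.Away g')).toRingHom).comap φ.toRingHom := by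
    ext x
    rw [Ideal.mem_comap, Ideal.mem_comap, Ideal.mem_comap, Ideal.mem_comap, phik_mu]
    rfl
  obtain ⟨t, ht, n', c, F, hF, ⟨E₃⟩⟩ := Groth.Agent.Helper2.SyntRel.core_aux n φ hφ hfg _ p _
    h𝔮eq rs hreg hrs
  obtain ⟨s, ⟨E'⟩, hs⟩ := exists_away_away_equiv R S g' t
  refine ⟨g' * s, hs q inferInstance hg' ?_, n', c, F, hF, ⟨E'.trans E₃⟩⟩
  intro hmem
  apply ht
  have hle : q.map (algebraMap S (Localization.Away g')) ≤
      (((Q.map (algebraMap (p.Fiber S)
      (Localization.Away ((1 : p.ResidueField) ⊗ₜ[R] g')))).comap E).comap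
      (Algebra.TensorProduct.includeRight (R := R) (A := p.ResidueField)
        (B := Localization.Away g')).toRingHom) := by
    rw [Ideal.map_le_iff_le_comap]
    intro x hx
    rw [Ideal.mem_comap, Ideal.mem_comap, Ideal.mem_comap]
    show E ((1 : p.ResidueField) ⊗ₜ[R] algebraMap S (Localization.Away g') x) ∈ _
    rw [IsLocalization.Away.tensorProductEquivTMulRight_tmul]
    apply Ideal.mem_map_of_mem
    have : x ∈ Q.comap (Algebra.TensorProduct.includeRight.toRingHom) := by rw [hQ]; exact hx
    exact this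
  exact hle hmem

include hQ in
theorem partB_mpr (h : ∃ g : S, g ∉ q ∧ Algebra.FinitePresentation R (Localization.Away g) ∧
      Module.Flat R (Localization.AtPrime q) ∧
      Synt.IsCIOver p.ResidueField (Localization.AtPrime Q)) :
    ∃ g : S, g ∉ q ∧ Synt.IsSyntomic R (Localization.Away g) := by
  obtain ⟨g, hg, hfp, hflat, hci⟩ := h
  haveI hq' := isPrime_map_away S q g hg
  obtain ⟨E⟩ := nonempty_atPrime_map_equiv R S q g hg
  haveI : Module.Flat R (Localization.AtPrime (q.map (algebraMap S (Localization.Away g)))) :=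
    Module.Flat.of_linearEquiv E.symm.toLinearEquiv
  obtain ⟨g₁, hg₁, hfl⟩ := Groth.Agent.Helper16.SliceSeq.exists_flat_away (R := R)
    (C := Localization.Away g) (q.map (algebraMap S (Localization.Away g)))
    (LX := Localization.AtPrime (q.map (algebraMap S (Localization.Away g))))
  have hflT : Module.Flat R (Localization.Away g₁) := by
    haveI : IsLocalization.Away (g₁ * 1) (Localization.Away g₁) := by
      rw [mul_one]
      infer_instance
    exact hfl 1 (Localization.Away g₁)
  haveI hfpT : Algebra.FinitePresentation R (Localization.Away g₁) :=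
    Algebra.FinitePresentation.trans R (Localization.Away g) (Localization.Away g₁)
  obtain ⟨s₁, ⟨E₀⟩, hs₁⟩ := exists_away_away_equiv R S g g₁
  have hgs : g * s₁ ∉ q := hs₁ q inferInstance hg hg₁
  haveI : Module.Flat R (Localization.Away (g * s₁)) :=
    Module.Flat.of_linearEquiv E₀.toLinearEquiv
  haveI : Algebra.FinitePresentation R (Localization.Away (g * s₁)) :=
    Algebra.FinitePresentation.equiv E₀.symm
  exact partA_mpr R S q (core R S p q Q hQ (g * s₁) hgs hci)

end

theorem main (R S : Type u) [CommRing R] [CommRing S] [Algebra R S]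
    (p : Ideal R) [p.IsPrime] (q : Ideal S) [q.IsPrime] [q.LiesOver p]
    (Q : Ideal (p.Fiber S)) [Q.IsPrime]
    (hQ : Q.comap (Algebra.TensorProduct.includeRight.toRingHom) = q) :
    ((∃ g : S, g ∉ q ∧ Synt.IsSyntomic R (Localization.Away g)) ↔
        ∃ g : S, g ∉ q ∧ ∃ (n c : ℕ) (F : Fin c → MvPolynomial (Fin n) R), Synt.IsRelGCI R n c F ∧
          Nonempty (Localization.Away g ≃ₐ[R] Synt.RelGCIRing R n c F)) ∧
      ((∃ g : S, g ∉ q ∧ Synt.IsSyntomic R (Localization.Away g)) ↔
        ∃ g : S, g ∉ q ∧ Algebra.FinitePresentation R (Localization.Away g) ∧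
          Module.Flat R (Localization.AtPrime q) ∧
          Synt.IsCIOver p.ResidueField (Localization.AtPrime Q)) :=
  ⟨⟨partA_mp R S q, partA_mpr R S q⟩, ⟨partB_mp R S p q Q hQ, partB_mpr R S p q Q hQ⟩⟩

open TensorProduct in
/-- Let R → S be a ring map and q a prime of S lying over p; write Q for the prime of the fibre ring
κ(p) ⊗ S that pulls back to q. Equivalent: (1) some basic open neighbourhood S_g of q is syntomic
over R; (2) some S_g is isomorphic over R to a relative global complete intersection; (3) some S_g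
is of finite presentation over R, the local ring S_q is flat over R (equivalently over R_p), and the
fibre local ring (κ(p) ⊗ S)_Q is a complete intersection over κ(p). Stated as (1) ↔ (2) and (1) ↔
(3). -/
theorem result (R S : Type u) [CommRing R] [CommRing S] [Algebra R S]
    (p : Ideal R) [p.IsPrime] (q : Ideal S) [q.IsPrime] [q.LiesOver p]
    (Q : Ideal (p.Fiber S)) [Q.IsPrime]
    (hQ : Q.comap (Algebra.TensorProduct.includeRight.toRingHom) = q) :
    ((∃ g : S, g ∉ q ∧ Synt.IsSyntomic R (Localization.Away g)) ↔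
        ∃ g : S, g ∉ q ∧ ∃ (n c : ℕ) (F : Fin c → MvPolynomial (Fin n) R), Synt.IsRelGCI R n c F ∧
          Nonempty (Localization.Away g ≃ₐ[R] Synt.RelGCIRing R n c F)) ∧
      ((∃ g : S, g ∉ q ∧ Synt.IsSyntomic R (Localization.Away g)) ↔
        ∃ g : S, g ∉ q ∧ Algebra.FinitePresentation R (Localization.Away g) ∧
          Module.Flat R (Localization.AtPrime q) ∧
          Synt.IsCIOver p.ResidueField (Localization.AtPrime Q)) := by
  exact Groth.Agent.S9169.main R S p q Q hQ

end Groth.Agent.S9169
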