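import Groth.Statements.S7070
import Groth.Agent.Lib.Helper11.KoszPerf3
import Groth.Agent.S7066

set_option autoImplicit false
universe u
attribute [local instance] HasDerivedCategory.standard
open MoreMor

namespace Groth.Agent.S7070

/-- A local complete intersection homomorphism of commutative rings A → B (finite type, with some
polynomial presentation whose kernel is a Koszul-regular ideal) is perfect: pseudo-coherent with B
of finite tor dimension over A. -/
theorem result (A B : Type u) [CommRing A] [CommRing B] [Algebra A B]
    (h : LCI.IsLCI A B) : MoreMor.IsPerfectHom A B := by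
  obtain ⟨_, n, f, hf, hI⟩ := h
  refine (Groth.Agent.S7066.result A B).mpr ⟨n, f, hf, ?_⟩
  letI : Algebra (MvPolynomial (Fin n) A) B := f.toRingHom.toAlgebra
  have hperf := Groth.Agent.Helper11.KoszPerf.isPerfect_quotient_of_isKoszulRegularIdeal
    (RingHom.ker f.toRingHom) hI
  have hker : (RingHom.ker f.toRingHom : Submodule (MvPolynomial (Fin n) A) (MvPolynomial (Fin n) A)) =
      LinearMap.ker (Algebra.linearMap (MvPolynomial (Fin n) A) B) := by
    ext x
    rfl
  let e : (MvPolynomial (Fin n) A ⧸ RingHom.ker f.toRingHom) ≃ₗ[MvPolynomial (Fin n) A] B :=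
    (Submodule.quotEquivOfEq _ _ hker).trans
      (LinearMap.quotKerEquivOfSurjective (Algebra.linearMap (MvPolynomial (Fin n) A) B) hf)
  exact Groth.Agent.Helper11.KoszPerf.isPerfect_of_iso
    ((DerivedCategory.singleFunctor (ModuleCat.{u} (MvPolynomial (Fin n) A)) 0).mapIso
      e.toModuleIso) hperf

end Groth.Agent.S7070
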