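import Groth.Statements.S9730
import Mathlib
import Groth.Agent.S9862
import Groth.Agent.S0114
import Groth.Agent.S1514
import Groth.Agent.S1491
import Groth.Agent.Lib.Helper2.CIFib2
import Groth.Agent.Lib.Helper2.KosBridge3
import Groth.Agent.Lib.Helper2.SyntLoc10
import Groth.Agent.Lib.Helper2.SyntLoc11
-- import your own Groth.Agent.* helpers here

set_option autoImplicit false
universe u
open FlatMor

namespace Groth.Agent.S9730

section

open AlgebraicGeometry CategoryTheory Limits TopologicalSpace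
open Groth.Agent.Helper2.KosBridge Groth.Agent.Helper2.SyntLoc

theorem backward {X' X Y : Scheme.{u}} (g : X' ⟶ X) (hg : Synt.IsSyntomicMor g)
    (f : X ⟶ Y) (hf : ∀ x : X, Synt.IsKoszulAt f x) : ∀ x' : X', Synt.IsKoszulAt (g ≫ f) x' := by
  have hgK : ∀ x' : X', Synt.IsKoszulAt g x' :=
    fun x' => Groth.Agent.Helper2.CIFib.isKoszulAt_of_isSyntomicAt g x' (hg x')
  rw [isKoszulAt_iff] at hgK hf ⊢
  exact Groth.Agent.S1491.result g f hgK hf

theorem forward {X' X Y : Scheme.{u}} (g : X' ⟶ X) (hg : Synt.IsSyntomicMor g) [Surjective g]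
    (f : X ⟶ Y) (h : ∀ x' : X', Synt.IsKoszulAt (g ≫ f) x') : ∀ x : X, Synt.IsKoszulAt f x := by
  haveI : Flat g := Groth.Agent.S9862.flat_of_syn g hg
  haveI : LocallyOfFinitePresentation g := Groth.Agent.S9862.lfp_of_syn g hg
  have hgK : ∀ x' : X', Synt.IsKoszulAt g x' :=
    fun x' => Groth.Agent.Helper2.CIFib.isKoszulAt_of_isSyntomicAt g x' (hg x')
  haveI : LocallyOfFinitePresentation (g ≫ f) :=
    (Groth.Agent.S1514.result (g ≫ f) ((isKoszulAt_iff _).mp h)).1
  haveI : LocallyOfFinitePresentation f := Groth.Agent.S0114.result g f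
  intro x
  obtain ⟨x', rfl⟩ := g.surjective x
  obtain ⟨_, ⟨V, hV, rfl⟩, hxV, -⟩ :=
    (Y.isBasis_affineOpens).exists_subset_of_mem_open (Set.mem_univ (f (g x'))) isOpen_univ
  have hxV' : g x' ∈ f ⁻¹ᵁ V := hxV
  obtain ⟨_, ⟨U, hU, rfl⟩, hxU, hUle⟩ :=
    (X.isBasis_affineOpens).exists_subset_of_mem_open hxV' (f ⁻¹ᵁ V).isOpen
  have hxU' : x' ∈ g ⁻¹ᵁ U := hxU
  obtain ⟨_, ⟨U', hU', rfl⟩, hxU'', hU'le⟩ :=
    (X'.isBasis_affineOpens).exists_subset_of_mem_open hxU' (g ⁻¹ᵁ U).isOpen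
  have hU'V : U' ≤ (g ≫ f) ⁻¹ᵁ V := fun z hz => hUle (hU'le hz)
  letI algAB := (f.appLE V U hUle).hom.toAlgebra
  letI algBC := (g.appLE U U' hU'le).hom.toAlgebra
  letI algAC := ((g ≫ f).appLE V U' hU'V).hom.toAlgebra
  haveI : IsScalarTower Γ(Y, V) Γ(X, U) Γ(X', U') := by
    refine IsScalarTower.of_algebraMap_eq' ?_
    show ((g ≫ f).appLE V U' hU'V).hom = (g.appLE U U' hU'le).hom.comp (f.appLE V U hUle).hom
    rw [← CommRingCat.hom_comp, Scheme.Hom.appLE_comp_appLE]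
  haveI : Module.Flat Γ(X, U) Γ(X', U') := g.flat_appLE hU hU' hU'le
  haveI : Algebra.FinitePresentation Γ(Y, V) Γ(X, U) := f.finitePresentation_appLE hV hU hUle
  have hBC : LCI.IsLCI Γ(X, U) Γ(X', U') := isLCI_of_isKoszulAt g hgK U' U hU' hU hU'le
  obtain ⟨-, m, ψ, hψ, hJ⟩ := hBC
  have hAC := kr_ker_of_isKoszulAt (g ≫ f) h U' V hU' hV hU'V
  obtain ⟨n, φ, hφ⟩ := Algebra.FiniteType.iff_quotient_mvPolynomial''.mp
    (inferInstance : Algebra.FiniteType Γ(Y, V) Γ(X, U))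
  have hfg := Algebra.FinitePresentation.ker_fg_of_mvPolynomial φ hφ
  obtain ⟨G, hG, l, hl, hIl⟩ := poly_descent Γ(Y, V) Γ(X, U) Γ(X', U') φ hφ hfg ψ hψ hJ hAC
    (hU'.primeIdealOf ⟨x', hxU''⟩).asIdeal
  refine isKoszulAt_of_chart f U V hU hV hUle (g x') hxU n φ hφ ⟨G, ?_, l, hl, hIl⟩
  have h1 := IsAffineOpen.comap_primeIdealOf_appLE (f := g) (x := x') U hU U' hU' hU'le hxU''
  rw [← h1]
  exact hG

theorem main {X' X Y : Scheme.{u}} (g : X' ⟶ X) (hg : Synt.IsSyntomicMor g) [Surjective g]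
    (f : X ⟶ Y) : (∀ x' : X', Synt.IsKoszulAt (g ≫ f) x') ↔ (∀ x : X, Synt.IsKoszulAt f x) :=
  ⟨forward g hg f, backward g hg f⟩

end

open AlgebraicGeometry CategoryTheory Limits in
/-- For g : X' ⟶ X surjective and syntomic and any morphism f : X ⟶ Y, the composite g ≫ f is Koszul at
every point of X' (a local complete intersection morphism) if and only if f is Koszul at every point
of X. The published statement is phrased for syntomic coverings; this row takes a single surjective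
syntomic morphism, to which a covering reduces by passing to the disjoint union of its members. -/
theorem result {X' X Y : Scheme.{u}} (g : X' ⟶ X) (hg : Synt.IsSyntomicMor g) [Surjective g]
    (f : X ⟶ Y) : (∀ x' : X', Synt.IsKoszulAt (g ≫ f) x') ↔ (∀ x : X, Synt.IsKoszulAt f x) := by
  exact Groth.Agent.S9730.main g hg f

end Groth.Agent.S9730
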