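import Groth.Statements.S0944
import Groth.Agent.Lib.Helper5.PL2
open Groth.Agent.Helper5.RT Groth.Agent.Helper5.PL

set_option autoImplicit false
universe u
open CategoryTheory
attribute [local instance] HasDerivedCategory.standard
open DCoh

namespace Groth.Agent.S0944

open AlgebraicGeometry CategoryTheory.Limits in
/-- Let X be a scheme, E a strictly perfect complex of O_X-modules, F any complex of O_X-modules and α :
E → F a morphism in the derived category D(O_X). Then every point of X has an open neighbourhood V
such that the restriction of α to D(O_V) is induced by an actual morphism of complexes E|_V → F|_V,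
the two being compared through the canonical identification of restricting-then-localising with
localising-then-restricting. (Stated for schemes. The published statement has a second part, which
is not asserted here. Restriction D(O_X) → D(O_V) is the prelude's functor DCoh.restrictD, which is
available under the binder that restriction of O_X-modules to V preserves finite limits; the
conclusion is stated under that binder.) -/
theorem result {X : Scheme.{u}} {E F : CochainComplex X.Modules ℤ}
    (hE : DCoh.IsStrictlyPerfect E) (α : DCoh.toD X E ⟶ DCoh.toD X F) (x : X) :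
    ∃ V : X.Opens, x ∈ V ∧ ∀ [PreservesFiniteLimits (Scheme.Modules.restrictFunctor V.ι)],
      ∃ β : (DCoh.restrictCx V).obj E ⟶ (DCoh.restrictCx V).obj F,
        (DCoh.restrictD V.ι).map α =
          (Scheme.Modules.restrictFunctor V.ι).mapDerivedCategoryFactors.hom.app E ≫ DerivedCategory.Q.map β ≫
            (Scheme.Modules.restrictFunctor V.ι).mapDerivedCategoryFactors.inv.app F := by
  obtain ⟨X', s, hs, g, hα⟩ := DerivedCategory.right_fac α
  have hqs : QuasiIso s := (DerivedCategory.isIso_Q_map_iff_quasiIso _ s).mp hs
  obtain ⟨⟨a, b, hv⟩, hfl⟩ := hE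
  obtain ⟨V, β₀, hxV, ⟨hβ₀⟩⟩ := exists_local_lift_of_conn (𝟙 E) s ⟨⟨a, b, hv⟩, hfl⟩ a
    (fun j hj => hv j (Or.inl hj)) (fun j _ => inferInstance) inferInstance x
  refine ⟨V, hxV, ?_⟩
  intro inst
  refine ⟨β₀ ≫ (DCoh.restrictCx V).map g, ?_⟩
  set fac := (Scheme.Modules.restrictFunctor V.ι).mapDerivedCategoryFactors with hfac
  have n1 : (DCoh.restrictD V.ι).map (DerivedCategory.Q.map g) ≫ fac.hom.app F =
      fac.hom.app X' ≫ DerivedCategory.Q.map ((DCoh.restrictCx V).map g) := fac.hom.naturality g
  have n2 : (DCoh.restrictD V.ι).map (DerivedCategory.Q.map s) ≫ fac.hom.app E =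
      fac.hom.app X' ≫ DerivedCategory.Q.map ((DCoh.restrictCx V).map s) := fac.hom.naturality s
  have h1 : DerivedCategory.Q.map β₀ ≫ DerivedCategory.Q.map ((DCoh.restrictCx V).map s) = 𝟙 _ := by
    rw [← Functor.map_comp, DerivedCategory.Q_map_eq_of_homotopy _ hβ₀,
      CategoryTheory.Functor.map_id, CategoryTheory.Functor.map_id]
  have e2 : DerivedCategory.Q.map ((DCoh.restrictCx V).map s) =
      fac.inv.app X' ≫ (DCoh.restrictD V.ι).map (DerivedCategory.Q.map s) ≫ fac.hom.app E := by
    rw [n2, Iso.inv_hom_id_app_assoc]
  have hiso : IsIso (DerivedCategory.Q.map ((DCoh.restrictCx V).map s)) := by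
    rw [e2]
    infer_instance
  have h3 : inv (DerivedCategory.Q.map ((DCoh.restrictCx V).map s)) = DerivedCategory.Q.map β₀ :=
    IsIso.inv_eq_of_inv_hom_id h1
  have h2 : (DCoh.restrictD V.ι).map (inv (DerivedCategory.Q.map s)) =
      fac.hom.app E ≫ DerivedCategory.Q.map β₀ ≫ fac.inv.app X' := by
    rw [Functor.map_inv]
    apply IsIso.inv_eq_of_hom_inv_id
    rw [reassoc_of% n2, ← h3, IsIso.hom_inv_id_assoc, Iso.hom_inv_id_app]
    rfl
  have n1' : (DCoh.restrictD V.ι).map (DerivedCategory.Q.map g) =
      fac.hom.app X' ≫ DerivedCategory.Q.map ((DCoh.restrictCx V).map g) ≫ fac.inv.app F := by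
    rw [← reassoc_of% n1, Iso.hom_inv_id_app]
    exact (Category.comp_id _).symm
  rw [hα, Functor.map_comp, h2, n1', Functor.map_comp]
  simp only [Category.assoc, Iso.inv_hom_id_app_assoc]

end Groth.Agent.S0944
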