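import Groth.Statements.S10910
import Mathlib
import Groth.Agent.Lib.Helper14.RegSmooth
import Groth.Agent.Lib.Helper14.SmoothReg
-- import your own Groth.Agent.* helpers here

set_option autoImplicit false
universe u
open TensorProduct
open SmVar

namespace Groth.Agent.S10910

theorem isGeometricallyReduced_of_isAlgClosed (k K : Type u) [Field k] [IsAlgClosed k]
    [CommRing K] [Algebra k K] [IsReduced K] : Algebra.IsGeometricallyReduced k K := by
  rw [Algebra.isGeometricallyReduced_field_iff]
  let e : k ≃ₐ[k] AlgebraicClosure k :=
    AlgEquiv.ofBijective (Algebra.ofId k (AlgebraicClosure k))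
      (IsAlgClosed.algebraMap_bijective_of_isIntegral)
  let e' : AlgebraicClosure k ⊗[k] K ≃ₐ[k] K :=
    (Algebra.TensorProduct.congr e.symm AlgEquiv.refl).trans (Algebra.TensorProduct.lid k K)
  exact isReduced_of_injective e'.toAlgHom e'.injective

theorem isRegularRing_iff_formallySmooth (k S : Type u) [Field k] [IsAlgClosed k] [CommRing S]
    [Algebra k S] [Algebra.FiniteType k S] : IsRegularRing S ↔ Algebra.FormallySmooth k S := by
  haveI : Algebra.FinitePresentation k S := Algebra.FinitePresentation.of_finiteType.mp inferInstance
  constructor
  · intro h
    rw [← Algebra.smoothLocus_eq_univ_iff]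
    ext q
    simp only [Set.mem_univ, iff_true]
    change Algebra.IsSmoothAt k q.asIdeal
    haveI : Algebra.IsGeometricallyReduced k q.asIdeal.ResidueField :=
      isGeometricallyReduced_of_isAlgClosed k _
    exact Groth.Agent.Helper14.RegSmooth.isSmoothAt_of_regular k S q.asIdeal
  · intro h
    haveI : Algebra.Smooth k S := ⟨h, inferInstance⟩
    exact Groth.Agent.Helper14.SmoothReg.isRegularRing_of_smooth k S

/-- Let k be an algebraically closed field, A a k-algebra of finite type which is an integral domain all
of whose localizations at primes are regular (X = Spec A is a nonsingular affine variety), and B an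
A-algebra with surjective structure map A → B whose nilradical is prime (Y = Spec B is an
irreducible closed subscheme of X, with ideal I = ker(A → B)). Then every localization of B is
regular (Y is nonsingular) if and only if (i) Ω_{B/k} is a projective B-module (locally free) and
(ii) the conormal map I/I² → B ⊗_A Ω_{A/k}, class of x ↦ 1 ⊗ dx, is injective, i.e. the conormal
sequence 0 → I/I² → B ⊗_A Ω_{A/k} → Ω_{B/k} → 0 is exact on the left as well. -/
theorem result (k : Type u) [Field k]
    [IsAlgClosed k] (A B : Type u) [CommRing A] [CommRing B] [Algebra k A] [Algebra.FiniteType k A]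
    [IsDomain A] [IsRegularRing A] [Algebra A B] [Algebra k B] [IsScalarTower k A B]
    (hsurj : Function.Surjective (algebraMap A B)) (hirr : (nilradical B).IsPrime) :
    IsRegularRing B ↔
      (Module.Projective B (Ω[B⁄k]) ∧
        Function.Injective (KaehlerDifferential.kerCotangentToTensor k A B)) := by
  haveI : Algebra.FiniteType k B :=
    Algebra.FiniteType.of_surjective (IsScalarTower.toAlgHom k A B) hsurj
  haveI : Algebra.FormallySmooth k A := (isRegularRing_iff_formallySmooth k A).mp inferInstance
  rw [isRegularRing_iff_formallySmooth k B, Algebra.formallySmooth_iff,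
    Algebra.FormallySmooth.kerCotangentToTensor_injective_iff hsurj]

end Groth.Agent.S10910
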