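import Mathlib
import Groth.Statements.S12784
import Groth.Agent.Lib.Helper19.FibLib2
-- import your own Groth.Agent.* helpers here

set_option autoImplicit false
open CategoryTheory CategoryTheory.Limits
universe v u
open FibCat

namespace Groth.Agent.S12784
open CategoryTheory

open Groth.Agent.Helper19.FibLib FibCat in

/-- Consider a 2-commutative square of functors over `C` with vertical arrows `f' : 𝒳' ⟶ 𝒴'`, `f : 𝒳 ⟶
𝒴` and horizontal arrows equivalences over `C`. Then `f` is a representable 1-morphism if and only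
if `f'` is. (The published statement is for categories fibred in groupoids over schemes over a base;
this row is stated for categories over any base category.) -/
theorem result {C : Type u} [Category.{v} C] {𝒳 𝒴 𝒳' 𝒴' : BasedCategory.{v, max u v} C}
    (f : 𝒳 ⥤ᵇ 𝒴) (f' : 𝒳' ⥤ᵇ 𝒴') (a : 𝒳' ⥤ᵇ 𝒳) (b : 𝒴' ⥤ᵇ 𝒴)
    (ha : FibCat.IsEquivOver a) (hb : FibCat.IsEquivOver b) (e : BasedFunctor.comp f' b ≅ BasedFunctor.comp a f) :
    FibCat.IsRepresentable1 f ↔ FibCat.IsRepresentable1 f' := by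
  constructor
  · intro hf U y'
    obtain ⟨V, Φ, hΦ⟩ := hf U (BasedFunctor.comp y' b)
    exact ⟨V, BasedFunctor.comp (fpSquare f f' a b e y') Φ,
      IsEquivOver.comp (isEquivOver_fpSquare f f' a b ha hb e y') hΦ⟩
  · intro hf' U y
    obtain ⟨b', -, -, ⟨ε⟩⟩ := IsEquivOver.exists_inv hb
    obtain ⟨V, Φ, hΦ⟩ := hf' U (BasedFunctor.comp y b')
    -- fp y f ≃ fp ((y ⋙ b') ⋙ b) f ≃ fp (y ⋙ b') f'
    have θ : y ≅ BasedFunctor.comp (BasedFunctor.comp y b') b := (whiskerLeftIso y ε).symm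
    obtain ⟨Ψ, hΨ, -, -⟩ := IsEquivOver.exists_inv
      (isEquivOver_fpSquare f f' a b ha hb e (BasedFunctor.comp y b'))
    exact ⟨V, BasedFunctor.comp (BasedFunctor.comp (fpCongrLeft f θ) Ψ) Φ,
      IsEquivOver.comp (IsEquivOver.comp (isEquivOver_fpCongrLeft f θ) hΨ) hΦ⟩

end Groth.Agent.S12784
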