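import Mathlib
import Groth.Statements.S12785
import Groth.Agent.Lib.Helper19.FibLib2
-- import your own Groth.Agent.* helpers here

set_option autoImplicit false
open CategoryTheory CategoryTheory.Limits
universe v u
open FibCat

namespace Groth.Agent.S12785
open CategoryTheory

open Groth.Agent.Helper19.FibLib FibCat in

/-- The composite of two representable 1-morphisms `f : 𝒳 ⟶ 𝒴`, `g : 𝒴 ⟶ 𝒵` of categories over `C` is a
representable 1-morphism. (The published statement is for categories fibred in groupoids over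
schemes over a base; this row is stated for categories over any base category.) -/
theorem result {C : Type u} [Category.{v} C] {𝒳 𝒴 𝒵 : BasedCategory.{v, max u v} C}
    (f : 𝒳 ⥤ᵇ 𝒴) (g : 𝒴 ⥤ᵇ 𝒵) (hf : FibCat.IsRepresentable1 f) (hg : FibCat.IsRepresentable1 g) :
    FibCat.IsRepresentable1 (BasedFunctor.comp f g) := by
  intro U z
  obtain ⟨V, Φ, hΦ⟩ := hg U z
  obtain ⟨Ψ, hΨ, -, -⟩ := IsEquivOver.exists_inv hΦ
  obtain ⟨W, Θ, hΘ⟩ := hf V (BasedFunctor.comp Ψ (fpSnd z g))
  obtain ⟨Λ, hΛ, -, -⟩ := IsEquivOver.exists_inv (isEquivOver_fpPre Ψ hΨ (fpSnd z g) f)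
  exact ⟨W, BasedFunctor.comp (BasedFunctor.comp (pasteR z g f) Λ) Θ,
    IsEquivOver.comp (IsEquivOver.comp (isEquivOver_pasteR z g f) hΛ) hΘ⟩

end Groth.Agent.S12785
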