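import Groth.Statements.S2195
import Mathlib
import Groth.Agent.Lib.Helper4.TraceSep

set_option autoImplicit false
universe u v
open Disc

namespace Groth.Agent.S2195

/-- Ring form of the statement: let B be an A-algebra which is finite free as an A-module with basis b.
Then A -> B is etale if and only if the discriminant of b (the determinant of the matrix of traces
Tr(b_i b_j)) is a unit of A, i.e. the discriminant locus is empty. -/
theorem result {A : Type u} {B : Type v} [CommRing A] [CommRing B]
    [Algebra A B] {ι : Type} [Fintype ι] [DecidableEq ι] (b : Module.Basis ι A B) :
    Algebra.Etale A B ↔ IsUnit (Algebra.discr A b) := by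
  have : Module.Finite A B := Module.Finite.of_basis b
  have : Module.Free A B := Module.Free.of_basis b
  have hM : LinearMap.toMatrix b b.dualBasis (Algebra.traceForm A B) = Algebra.traceMatrix A b := by
    ext i j
    rw [LinearMap.toMatrix_apply, Module.Basis.dualBasis_repr, Algebra.traceMatrix_apply,
      Algebra.traceForm_apply, Algebra.traceForm_apply, mul_comm]
  rw [Algebra.discr_def, ← hM]
  constructor
  · intro h
    obtain ⟨c, hc⟩ := Groth.Agent.Helper4.TraceSep.exists_dual_family b
    have hbij := Groth.Agent.Helper4.TraceSep.traceForm_bijective_of_dual_family b c hc
    exact LinearEquiv.isUnit_det (LinearEquiv.ofBijective _ hbij) b b.dualBasis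
  · intro h
    have hbij : Function.Bijective (Algebra.traceForm A B) := (LinearEquiv.ofIsUnitDet h).bijective
    have := Groth.Agent.Helper4.TraceSep.formallyUnramified_of_traceForm_bijective b hbij
    have : Module.FinitePresentation A B := Module.finitePresentation_of_projective A B
    exact Algebra.Etale.of_formallyUnramified_of_flat

end Groth.Agent.S2195
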