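import Groth.Statements.S9362
import Mathlib
import Groth.Agent.Lib.Helper17.MP1
import Groth.Agent.Lib.Helper5.QCS1
import Groth.Agent.Lib.Helper13.QCohKer
-- import your own Groth.Agent.* helpers here

set_option autoImplicit false
universe u
open QCohSub

namespace Groth.Agent.S9362

open AlgebraicGeometry CategoryTheory CategoryTheory.Limits Groth.Agent.Helper13.QCohLocal

/-- the image of a morphism from a quasi-coherent module into a submodule of a quasi-coherent
module is quasi-coherent. -/
theorem isQuasicoherent_image {X : Scheme.{u}} {H G F : X.Modules} [H.IsQuasicoherent]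
    [F.IsQuasicoherent] (ψ : H ⟶ G) (j : G ⟶ F) [Mono j] :
    (Limits.image ψ).IsQuasicoherent := by
  let f : H ⟶ F := ψ ≫ j
  haveI : (cokernel f).IsQuasicoherent := isQuasicoherent_cokernel f
  haveI : (Abelian.image f).IsQuasicoherent := isQuasicoherent_kernel (cokernel.π f)
  haveI : StrongEpi (factorThruImage ψ) := strongEpi_of_epi _
  have e1 : Limits.image ψ ≅ Limits.image f :=
    Limits.image.isoStrongEpiMono (factorThruImage ψ) (Limits.image.ι ψ ≫ j) (by
      rw [← Category.assoc, Limits.image.fac])
  have e : Limits.image ψ ≅ Abelian.image f := e1 ≪≫ (Abelian.imageIsoImage f).symm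
  exact isQuasicoherent_of_iso (M := Abelian.image f) e.symm

open AlgebraicGeometry CategoryTheory in
/-- Let F be a quasi-coherent O_X-module and G ⊆ F an O_X-submodule. There is a quasi-coherent submodule
G' ⊆ G such that Hom(H, G') → Hom(H, G) is bijective for every quasi-coherent O_X-module H; in
particular G' is the largest quasi-coherent submodule of F contained in G (it is unique up to unique
isomorphism over G). -/
theorem result (X : Scheme.{u}) (F G : X.Modules) (hF : Coh.IsQCoh F) (j : G ⟶ F) [Mono j] :
    ∃ (G' : X.Modules) (k : G' ⟶ G), Coh.IsQCoh G' ∧ Mono k ∧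
      ∀ H : X.Modules, Coh.IsQCoh H → Function.Bijective (fun φ : H ⟶ G' => φ ≫ k) := by
  classical
  haveI : F.IsQuasicoherent := hF
  haveI : WellPowered.{u} X.Modules := Groth.Agent.Helper17.MP.wellPowered X.ringCatSheaf
  haveI : Small.{u} (Subobject G) := WellPowered.subobject_small G
  let eS : Subobject G ≃ Shrink.{u} (Subobject G) := equivShrink _
  let ι : Type u := {t : Shrink.{u} (Subobject G) //
    (Subobject.underlying.obj (eS.symm t) : X.Modules).IsQuasicoherent}
  let M : ι → X.Modules := fun t => Subobject.underlying.obj (eS.symm t.1)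
  let a : ∀ t : ι, M t ⟶ G := fun t => (eS.symm t.1).arrow
  have hM : ∀ t, (M t).IsQuasicoherent := fun t => t.2
  haveI : (∐ M).IsQuasicoherent := Groth.Agent.Helper5.QCS.isQuasicoherent_sigma M hM
  let σ : ∐ M ⟶ G := Sigma.desc a
  refine ⟨Limits.image σ, Limits.image.ι σ, isQuasicoherent_image σ j, inferInstance, ?_⟩
  intro H hH
  haveI : H.IsQuasicoherent := hH
  constructor
  · intro φ₁ φ₂ h
    exact (cancel_mono (Limits.image.ι σ)).mp h
  · intro ψ
    -- every quasi-coherent subobject factors through the image
    have key : ∀ S : Subobject G, (Subobject.underlying.obj S : X.Modules).IsQuasicoherent →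
        ∃ g : (Subobject.underlying.obj S : X.Modules) ⟶ Limits.image σ,
          g ≫ Limits.image.ι σ = S.arrow := by
      intro S hS
      have hS' : eS.symm (eS S) = S :=
        Equiv.symm_apply_apply _ _
      obtain ⟨t, rfl⟩ : ∃ t : ι, eS.symm t.1 = S :=
        ⟨⟨eS S, by rw [hS']; exact hS⟩, hS'⟩
      refine ⟨Sigma.ι M t ≫ factorThruImage σ, ?_⟩
      rw [Category.assoc, Limits.image.fac]
      exact Sigma.ι_desc a t
    have hq : (Limits.image ψ).IsQuasicoherent := isQuasicoherent_image ψ j
    let S : Subobject G := Subobject.mk (Limits.image.ι ψ)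
    have hS : (Subobject.underlying.obj S : X.Modules).IsQuasicoherent :=
      isQuasicoherent_of_iso (Subobject.underlyingIso (Limits.image.ι ψ)).symm
    obtain ⟨g, hg⟩ := key S hS
    refine ⟨factorThruImage ψ ≫ (Subobject.underlyingIso (Limits.image.ι ψ)).inv ≫ g, ?_⟩
    change (factorThruImage ψ ≫ (Subobject.underlyingIso (Limits.image.ι ψ)).inv ≫ g) ≫
      Limits.image.ι σ = ψ
    rw [Category.assoc, Category.assoc, hg, Subobject.underlyingIso_arrow, Limits.image.fac]

end Groth.Agent.S9362
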