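import Groth.Statements.S6414

set_option autoImplicit false
open CategoryTheory
universe v₁ u₁ v₂ u₂ v₃ u₃
open FibCat

namespace Groth.Agent.S6414

/-- A morphism that is strongly cartesian with respect to `F : 𝒜 ⥤ ℬ` and whose image is strongly
cartesian with respect to `G : ℬ ⥤ 𝒞` is strongly cartesian with respect to `F ⋙ G`. -/
theorem result {𝒜 : Type u₁} [Category.{v₁} 𝒜] {ℬ : Type u₂} [Category.{v₂} ℬ] {𝒞 : Type u₃} [Category.{v₃} 𝒞] (F : 𝒜 ⥤ ℬ) (G : ℬ ⥤ 𝒞) {x y : 𝒜} (φ : x ⟶ y)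
    [F.IsStronglyCartesian (F.map φ) φ] [G.IsStronglyCartesian (G.map (F.map φ)) (F.map φ)] :
    (F ⋙ G).IsStronglyCartesian ((F ⋙ G).map φ) φ := by
  refine { toIsHomLift := inferInstance, universal_property' := ?_ }
  intro a' g φ' hφ'
  have hg : g ≫ G.map (F.map φ) = G.map (F.map φ') :=
    IsHomLift.eq_of_isHomLift (F ⋙ G) (g ≫ (F ⋙ G).map φ) φ'
  have : G.IsHomLift (g ≫ G.map (F.map φ)) (F.map φ') := by rw [hg]; infer_instance
  let χ₁ := Functor.IsStronglyCartesian.map G (G.map (F.map φ)) (F.map φ) (g := g) rfl (F.map φ')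
  have hχ₁ : χ₁ ≫ F.map φ = F.map φ' := Functor.IsStronglyCartesian.fac _ _ _ _ _
  have hχ₁g : g = G.map χ₁ := IsHomLift.eq_of_isHomLift G g χ₁
  have : F.IsHomLift (χ₁ ≫ F.map φ) φ' := by rw [hχ₁]; infer_instance
  let χ := Functor.IsStronglyCartesian.map F (F.map φ) φ (g := χ₁) rfl φ'
  have hχ : χ ≫ φ = φ' := Functor.IsStronglyCartesian.fac _ _ _ _ _
  have hχF : χ₁ = F.map χ := IsHomLift.eq_of_isHomLift F χ₁ χ
  refine ⟨χ, ⟨?_, hχ⟩, ?_⟩
  · rw [hχ₁g, hχF]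
    exact inferInstanceAs ((F ⋙ G).IsHomLift ((F ⋙ G).map χ) χ)
  · rintro χ' ⟨h1, h2⟩
    have e1 : g = G.map (F.map χ') := IsHomLift.eq_of_isHomLift (F ⋙ G) g χ'
    have : G.IsHomLift g (F.map χ') := by rw [e1]; infer_instance
    have e2 : F.map χ' = χ₁ :=
      Functor.IsStronglyCartesian.map_uniq G (G.map (F.map φ)) (F.map φ) rfl (F.map φ') (F.map χ')
        (by rw [← F.map_comp, h2])
    have : F.IsHomLift χ₁ χ' := by rw [← e2]; infer_instance
    exact Functor.IsStronglyCartesian.map_uniq F (F.map φ) φ rfl φ' χ' h2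

end Groth.Agent.S6414
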