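import Groth.Statements.S1317
import Groth.Statements.S1317
import Groth.Agent.Lib.Helper2.ThickRed2
import Groth.Agent.Lib.Helper2.ThickFlat
-- import your own Groth.Agent.* helpers here

set_option autoImplicit false
universe u
open FlatMor

namespace Groth.Agent.S1317

open AlgebraicGeometry CategoryTheory Limits

theorem aux {X X' Y Y' S S' : Scheme.{u}} (iX : X ⟶ X') (iY : Y ⟶ Y') (iS : S ⟶ S')
    (f : X ⟶ Y) (f' : X' ⟶ Y') (g : Y ⟶ S) (g' : Y' ⟶ S')
    (hS : MoreMor.IsFiniteOrderThickening iS) (hcX : IsPullback iX (f ≫ g) (f' ≫ g') iS) (hcY : IsPullback iY g g' iS)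
    (w : iX ≫ f' = f ≫ iY) [Flat (f' ≫ g')] :
    Flat f ↔ Flat f' := by
  have : IsClosedImmersion iS := hS.1.1
  have : IsClosedImmersion iY := MorphismProperty.of_isPullback (P := @IsClosedImmersion) hcY.flip ‹_›
  have hsq : IsPullback iX f f' iY := IsPullback.of_bot hcX w hcY
  constructor
  · intro hf
    rw [HasRingHomProperty.iff_exists_appLE (P := @Flat)
      (RingHom.Flat.stableUnderComposition.stableUnderCompositionWithLocalizationAway
        RingHom.Flat.holdsForLocalizationAway).left]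
    intro x'
    obtain ⟨W', hW', hxW', -⟩ := exists_isAffineOpen_mem_and_subset
      (x := g' (f' x')) (U := ⊤) trivial
    obtain ⟨U', hU', hxU', hUW⟩ := exists_isAffineOpen_mem_and_subset
      (x := f' x') (U := g' ⁻¹ᵁ W') hxW'
    obtain ⟨V', hV', hxV', hVU⟩ := exists_isAffineOpen_mem_and_subset
      (x := x') (U := f' ⁻¹ᵁ U') hxU'
    refine ⟨⟨U', hU'⟩, ⟨V', hV'⟩, hxV', hVU, ?_⟩
    have hker := Groth.Agent.Helper2.ThickRed.ker_app_eq_map hcY ⟨W', hW'⟩ ⟨U', hU'⟩ hUW
    have hq := Groth.Agent.Helper2.ThickRed.quotientMap_of_isPullback hsq @Flat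
        RingHom.Flat hf ⟨U', hU'⟩ ⟨V', hV'⟩ hVU
    have hI := Groth.Agent.Helper2.ThickRed.isNilpotent_ker_of_finiteOrder hS ⟨W', hW'⟩
    have hcomp : ((f'.appLE U' V' hVU).hom.comp (g'.appLE W' U' hUW).hom).Flat := by
      have h1 : g'.appLE W' U' hUW ≫ f'.appLE U' V' hVU = (f' ≫ g').appLE W' V' _ :=
        Scheme.Hom.appLE_comp_appLE _ _ _ _ _ _ _
      have h2 := HasRingHomProperty.appLE @Flat (f' ≫ g') inferInstance ⟨W', hW'⟩ ⟨V', hV'⟩
        (by
          intro z hz
          exact hUW (hVU hz))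
      rw [← CommRingCat.hom_comp, h1]
      exact h2
    simp only at hker hq
    rw [hker] at hq
    exact Groth.Agent.Helper2.ThickFlat.flat_of_quotientMap _ _ _ hI hcomp hq
  · intro h
    exact MorphismProperty.of_isPullback (P := @Flat) hsq h

open AlgebraicGeometry CategoryTheory Limits in
/-- Let S ⟶ S' be a finite order thickening, let X' ⟶ Y' be a morphism of schemes over S' with X' flat
over S', and let X ⟶ Y be its base change to S. Then X ⟶ Y is flat if and only if X' ⟶ Y' is. -/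
theorem result {X X' Y Y' S S' : Scheme.{u}} (iX : X ⟶ X') (iY : Y ⟶ Y') (iS : S ⟶ S')
    (f : X ⟶ Y) (f' : X' ⟶ Y') (g : Y ⟶ S) (g' : Y' ⟶ S')
    (hS : MoreMor.IsFiniteOrderThickening iS) (hcX : IsPullback iX (f ≫ g) (f' ≫ g') iS) (hcY : IsPullback iY g g' iS)
    (w : iX ≫ f' = f ≫ iY) [Flat (f' ≫ g')] :
    Flat f ↔ Flat f' := by
  exact aux iX iY iS f f' g g' hS hcX hcY w

end Groth.Agent.S1317
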