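import Groth.Statements.S1312
import Groth.Agent.Lib.Helper2.Thickening
import Mathlib.AlgebraicGeometry.Morphisms.QuasiFinite

set_option autoImplicit false
universe u
open FlatMor

namespace Groth.Agent.S1312

open AlgebraicGeometry CategoryTheory Limits in
/-- Let Y ⟶ Y' be a thickening, let X be the base change to Y of a scheme X' over Y', and assume both X
⟶ Y and X' ⟶ Y' are locally of finite type. Then X ⟶ Y is locally quasi-finite if and only if X' ⟶
Y' is. -/
theorem result {X X' Y Y' : Scheme.{u}} (iX : X ⟶ X') (iY : Y ⟶ Y') (f : X ⟶ Y) (f' : X' ⟶ Y')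
    (hY : MoreMor.IsThickening iY) (hc : IsPullback iX f f' iY) [LocallyOfFiniteType f] [LocallyOfFiniteType f'] :
    LocallyQuasiFinite f ↔ LocallyQuasiFinite f' := by
  have hX : MoreMor.IsThickening iX := Groth.Agent.Helper2.thick_of_isPullback hY hc.flip
  have hiX := Groth.Agent.Helper2.thick_isHomeomorph hX
  have hiY := Groth.Agent.Helper2.thick_isHomeomorph hY
  have hcomm : ∀ x : X, f' (iX x) = iY (f x) := fun x => by
    rw [← Scheme.Hom.comp_apply, ← Scheme.Hom.comp_apply, hc.w]
  constructor
  · intro h
    rw [locallyQuasiFinite_iff_isDiscrete_preimage_singleton]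
    intro y'
    obtain ⟨y, rfl⟩ := hiY.surjective y'
    have e : f' ⁻¹' {iY y} = iX '' (f ⁻¹' {y}) := by
      ext x'
      obtain ⟨x, rfl⟩ := hiX.surjective x'
      simp only [Set.mem_preimage, Set.mem_singleton_iff, hcomm, Set.mem_image]
      constructor
      · intro hx; exact ⟨x, hiY.injective hx, rfl⟩
      · rintro ⟨z, hz, hzx⟩
        rw [← hiX.injective hzx, hz]
    rw [e]
    exact (f.isDiscrete_preimage_singleton y).image hiX.isInducing
  · intro h
    exact MorphismProperty.of_isPullback (P := @LocallyQuasiFinite) hc h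

end Groth.Agent.S1312
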