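import Groth.Statements.S1314
import Groth.Statements.S1314
import Groth.Agent.Lib.Helper2.ThickRed
import Groth.Agent.Lib.Helper2.ThickUnram
-- import your own Groth.Agent.* helpers here

set_option autoImplicit false
universe u
open FlatMor

namespace Groth.Agent.S1314

open AlgebraicGeometry CategoryTheory Limits

theorem aux {X X' Y Y' : Scheme.{u}} (iX : X ⟶ X') (iY : Y ⟶ Y') (f : X ⟶ Y) (f' : X' ⟶ Y')
    (hY : MoreMor.IsThickening iY) (hc : IsPullback iX f f' iY) [LocallyOfFiniteType f'] :
    FormallyUnramified f ↔ FormallyUnramified f' := by
  have : IsClosedImmersion iY := hY.1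
  constructor
  · intro hf
    rw [HasRingHomProperty.iff_appLE (P := @FormallyUnramified)]
    intro U' V' e'
    exact Groth.Agent.Helper2.ThickAlg.formallyUnramified_of_quotientMap_of_finiteType _ _
      (Groth.Agent.Helper2.ThickRed.isNilpotent_of_mem_ker hY U')
      (HasRingHomProperty.appLE @LocallyOfFiniteType f' inferInstance U' V' e')
      (Groth.Agent.Helper2.ThickRed.quotientMap_of_isPullback hc @FormallyUnramified
        RingHom.FormallyUnramified hf U' V' e')
  · intro h
    exact MorphismProperty.of_isPullback (P := @FormallyUnramified) hc h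

open AlgebraicGeometry CategoryTheory Limits in
/-- Let Y ⟶ Y' be a thickening, let X be the base change to Y of a scheme X' over Y', and assume both X
⟶ Y and X' ⟶ Y' are locally of finite type. Then X ⟶ Y is formally unramified if and only if X' ⟶ Y'
is. (The source states this as the vanishing of the sheaf of relative differentials; formal
unramifiedness is the equivalent phrasing available here.) -/
theorem result {X X' Y Y' : Scheme.{u}} (iX : X ⟶ X') (iY : Y ⟶ Y') (f : X ⟶ Y) (f' : X' ⟶ Y')
    (hY : MoreMor.IsThickening iY) (hc : IsPullback iX f f' iY) [LocallyOfFiniteType f] [LocallyOfFiniteType f'] :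
    FormallyUnramified f ↔ FormallyUnramified f' := by
  exact aux iX iY f f' hY hc

end Groth.Agent.S1314
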