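import Groth.Statements.S1309
import Groth.Statements.S1309
import Groth.Agent.Lib.Helper2.ThickRed
import Groth.Agent.Lib.Helper2.ThickAlg
-- import your own Groth.Agent.* helpers here

set_option autoImplicit false
universe u
open FlatMor

namespace Groth.Agent.S1309

open AlgebraicGeometry CategoryTheory Limits

theorem aux {X X' S S' : Scheme.{u}} (iX : X ⟶ X') (iS : S ⟶ S') (f : X ⟶ S) (f' : X' ⟶ S')
    (hS : MoreMor.IsFiniteOrderThickening iS) (hc : IsPullback iX f f' iS) :
    LocallyOfFiniteType f ↔ LocallyOfFiniteType f' := by
  have : IsClosedImmersion iS := hS.1.1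
  constructor
  · intro hf
    rw [HasRingHomProperty.iff_appLE (P := @LocallyOfFiniteType)]
    intro U' V' e'
    exact Groth.Agent.Helper2.ThickAlg.finiteType_of_quotientMap _ _
      (Groth.Agent.Helper2.ThickRed.isNilpotent_ker_of_finiteOrder hS U')
      (Groth.Agent.Helper2.ThickRed.quotientMap_of_isPullback hc @LocallyOfFiniteType
        RingHom.FiniteType hf U' V' e')
  · intro h
    exact MorphismProperty.of_isPullback (P := @LocallyOfFiniteType) hc h

open AlgebraicGeometry CategoryTheory Limits in
/-- Let S ⟶ S' be a finite order thickening and let X be the base change of a scheme X' over S' to S (so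
X ⟶ X' is again a thickening). Then X ⟶ S is locally of finite type if and only if X' ⟶ S' is. -/
theorem result {X X' S S' : Scheme.{u}} (iX : X ⟶ X') (iS : S ⟶ S') (f : X ⟶ S) (f' : X' ⟶ S')
    (hS : MoreMor.IsFiniteOrderThickening iS) (hc : IsPullback iX f f' iS) :
    LocallyOfFiniteType f ↔ LocallyOfFiniteType f' := by
  exact aux iX iS f f' hS hc

end Groth.Agent.S1309
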