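import Groth.Statements.S1322
import Groth.Statements.S1322
import Groth.Agent.Lib.Helper2.ThickRed3
import Groth.Agent.Lib.Helper2.ThickFP
import Groth.Agent.Lib.Helper2.ThickUnram
-- import your own Groth.Agent.* helpers here

set_option autoImplicit false
universe u
open FlatMor

namespace Groth.Agent.S1322

open AlgebraicGeometry CategoryTheory Limits

theorem aux {X X' Y Y' S S' : Scheme.{u}} (iX : X ⟶ X') (iY : Y ⟶ Y') (iS : S ⟶ S')
    (f : X ⟶ Y) (f' : X' ⟶ Y') (g : Y ⟶ S) (g' : Y' ⟶ S')
    (hS : MoreMor.IsFiniteOrderThickening iS) (hcX : IsPullback iX (f ≫ g) (f' ≫ g') iS) (hcY : IsPullback iY g g' iS)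
    (w : iX ≫ f' = f ≫ iY) [Flat (f' ≫ g')] :
    Etale f ↔ Etale f' := by
  constructor
  · intro hf
    obtain ⟨h1, h2, h3⟩ := Etale.iff_flat_and_formallyUnramified.1 hf
    have h1' : Flat f' :=
      Groth.Agent.Helper2.ThickRed.deform_of_ringHomProperty @Flat RingHom.Flat
        (RingHom.Flat.stableUnderComposition.stableUnderCompositionWithLocalizationAway
          RingHom.Flat.holdsForLocalizationAway).left
        (fun α β I hI hflat h =>
          Groth.Agent.Helper2.ThickFlat.flat_of_quotientMap α β I hI hflat h)
        iX iY iS f f' g g' hS hcX hcY w h1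
    have h2' : FormallyUnramified f' :=
      Groth.Agent.Helper2.ThickRed.deform_of_ringHomProperty @FormallyUnramified
        RingHom.FormallyUnramified
        (RingHom.FormallyUnramified.stableUnderComposition.stableUnderCompositionWithLocalizationAway
          RingHom.FormallyUnramified.holdsForLocalizationAway).left
        (fun α β I hI _ h =>
          Groth.Agent.Helper2.ThickAlg.formallyUnramified_of_quotientMap_of_isNilpotent β (I.map α)
            (by
              obtain ⟨n, hn⟩ := hI
              refine ⟨n, ?_⟩
              rw [← Ideal.map_pow, hn, Ideal.zero_eq_bot, Ideal.map_bot]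
              rfl) h)
        iX iY iS f f' g g' hS hcX hcY w h2
    have h3' : LocallyOfFinitePresentation f' :=
      Groth.Agent.Helper2.ThickRed.deform_of_ringHomProperty @LocallyOfFinitePresentation
        RingHom.FinitePresentation
        (RingHom.finitePresentation_stableUnderComposition.stableUnderCompositionWithLocalizationAway
          RingHom.finitePresentation_holdsForLocalizationAway).left
        (fun α β I hI hflat h =>
          Groth.Agent.Helper2.ThickFP.finitePresentation_of_quotientMap α β I hI hflat h)
        iX iY iS f f' g g' hS hcX hcY w h3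
    exact Etale.iff_flat_and_formallyUnramified.2 ⟨h1', h2', h3'⟩
  · intro h
    exact MorphismProperty.of_isPullback (P := @Etale)
      (Groth.Agent.Helper2.ThickRed.isPullback_of_deform hcX hcY w) h

open AlgebraicGeometry CategoryTheory Limits in
/-- Let S ⟶ S' be a finite order thickening, let X' ⟶ Y' be a morphism of schemes over S' with X' flat
over S', and let X ⟶ Y be its base change to S. Then X ⟶ Y is étale if and only if X' ⟶ Y' is. -/
theorem result {X X' Y Y' S S' : Scheme.{u}} (iX : X ⟶ X') (iY : Y ⟶ Y') (iS : S ⟶ S')
    (f : X ⟶ Y) (f' : X' ⟶ Y') (g : Y ⟶ S) (g' : Y' ⟶ S')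
    (hS : MoreMor.IsFiniteOrderThickening iS) (hcX : IsPullback iX (f ≫ g) (f' ≫ g') iS) (hcY : IsPullback iY g g' iS)
    (w : iX ≫ f' = f ≫ iY) [Flat (f' ≫ g')] :
    Etale f ↔ Etale f' := by
  exact aux iX iY iS f f' g g' hS hcX hcY w

end Groth.Agent.S1322
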