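import Groth.Statements.S1459
import Mathlib
import Groth.Prelude.Def_RegImm
import Groth.Agent.Lib.Helper2.RegNbhd5
import Groth.Agent.Lib.Helper16.Sch.SliceCM1
import Groth.Agent.Lib.Helper14.QRegSpread
-- import your own Groth.Agent.* helpers here

set_option autoImplicit false
universe u
open FlatMor

namespace Groth.Agent.S1459

section

open AlgebraicGeometry CategoryTheory Limits
open RingTheory.Sequence Groth.Agent.Helper28 Groth.Agent.Helper28.RegBC IsLocalRing
  Groth.Agent.Helper16.FibStalk Groth.Agent.Helper16.FibMod Groth.Agent.Helper2.RegNbhd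
  TensorProduct

variable {X S : Scheme.{u}}

/-- the chart step: a transversally regular lift of the sequence on an affine neighbourhood. -/
theorem chart (f : X ⟶ S) [LocallyOfFinitePresentation f] (x : X)
    (hflat : (f.stalkMap x).hom.Flat) (hs : List ↑(X.presheaf.stalk x))
    (hreg : IsRegular (↑(X.presheaf.stalk x) ⧸ fibIdeal f x)
      (hs.map (Ideal.Quotient.mk (fibIdeal f x)))) :
    ∃ (U : X.Opens) (hU : IsAffineOpen U) (hx : x ∈ U) (V : S.Opens) (hV : IsAffineOpen V)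
      (e : U ≤ f ⁻¹ᵁ V) (hs' : List Γ(X, U)),
      hs'.map (X.presheaf.germ U x hx).hom = hs ∧
      (∀ a ∈ hs', a ∈ (hU.primeIdealOf ⟨x, hx⟩).asIdeal) ∧
      (letI := (f.appLE V U e).hom.toAlgebra
       RegImm.IsTransRegularSeq Γ(S, V) Γ(X, U) hs') := by
  haveI := isNoetherianRing_fibre f x
  obtain ⟨U₀, hxU₀, as₀, has₀⟩ := Groth.Agent.Helper3.RegImm2.exists_lift_list x hs
  obtain ⟨_, ⟨V, hV, rfl⟩, hsV, -⟩ := S.isBasis_affineOpens.exists_subset_of_mem_open
    (Set.mem_univ (f x)) isOpen_univ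
  obtain ⟨_, ⟨U₁, hU₁, rfl⟩, hxU₁, hU₁le⟩ := X.isBasis_affineOpens.exists_subset_of_mem_open
    (show x ∈ ((U₀.1 ⊓ f ⁻¹ᵁ V : X.Opens) : Set X) from ⟨hxU₀, hsV⟩) (U₀.1 ⊓ f ⁻¹ᵁ V).2
  have hle0 : U₁ ≤ U₀.1 := fun y hy => (hU₁le hy).1
  have e : U₁ ≤ f ⁻¹ᵁ V := fun y hy => (hU₁le hy).2
  let as₁ : List Γ(X, U₁) := as₀.map (X.presheaf.map (homOfLE hle0).op).hom
  have has₁ : as₁.map (X.presheaf.germ U₁ x hxU₁).hom = hs := by
    rw [← has₀, List.map_map]
    apply List.map_congr_left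
    intro a _
    exact TopCat.Presheaf.germ_res_apply X.presheaf (homOfLE hle0) x hxU₁ a
  letI alg : Algebra Γ(S, V) Γ(X, U₁) := (f.appLE V U₁ e).hom.toAlgebra
  haveI : Algebra.FinitePresentation Γ(S, V) Γ(X, U₁) :=
    LocallyOfFinitePresentation.finitePresentation_appLE f hV hU₁ e
  letI : Algebra Γ(X, U₁) (X.presheaf.stalk x) := X.presheaf.algebra_section_stalk ⟨x, hxU₁⟩
  haveI : IsLocalization.AtPrime (X.presheaf.stalk x) (hU₁.primeIdealOf ⟨x, hxU₁⟩).asIdeal :=
    hU₁.isLocalization_stalk ⟨x, hxU₁⟩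
  letI : Algebra Γ(S, V) (X.presheaf.stalk x) :=
    ((algebraMap Γ(X, U₁) (X.presheaf.stalk x)).comp (algebraMap Γ(S, V) Γ(X, U₁))).toAlgebra
  haveI : IsScalarTower Γ(S, V) Γ(X, U₁) (X.presheaf.stalk x) :=
    IsScalarTower.of_algebraMap_eq (fun _ => rfl)
  -- flatness of the stalk over `Γ(S, V)`
  haveI : Module.Flat Γ(S, V) (X.presheaf.stalk x) := by
    letI algA : Algebra Γ(S, V) (S.presheaf.stalk (f x)) :=
      S.presheaf.algebra_section_stalk ⟨f x, hsV⟩
    haveI h3 : IsLocalization.AtPrime (S.presheaf.stalk (f x))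
        (hV.primeIdealOf (⟨f x, hsV⟩ : V)).asIdeal := hV.isLocalization_stalk ⟨f x, hsV⟩
    have hA : (algebraMap Γ(S, V) (S.presheaf.stalk (f x))).Flat :=
      RingHom.flat_algebraMap_iff.mpr
        (IsLocalization.flat _ (hV.primeIdealOf (⟨f x, hsV⟩ : V)).asIdeal.primeCompl)
    have hcomp : (f.stalkMap x).hom.comp (algebraMap Γ(S, V) (S.presheaf.stalk (f x))) =
        algebraMap Γ(S, V) (X.presheaf.stalk x) := by
      ext r
      change f.stalkMap x (S.presheaf.germ V (f x) hsV r) =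
        X.presheaf.germ U₁ x hxU₁ (f.appLE V U₁ e r)
      rw [Scheme.Hom.germ_stalkMap_apply, Scheme.Hom.appLE, CommRingCat.comp_apply,
        TopCat.Presheaf.germ_res_apply]
    have := RingHom.Flat.comp hA hflat
    rw [hcomp] at this
    exact RingHom.flat_algebraMap_iff.mp this
  have hIX : fibIdeal f x =
      ((hU₁.primeIdealOf ⟨x, hxU₁⟩).asIdeal.comap (algebraMap Γ(S, V) Γ(X, U₁))).map
        (algebraMap Γ(S, V) (X.presheaf.stalk x)) := by
    have h1 := fibIdeal_chart f hU₁ hV e ⟨x, hxU₁⟩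
    rw [Ideal.map_map] at h1
    exact h1
  have hmap : as₁.map (algebraMap Γ(X, U₁) (X.presheaf.stalk x)) = hs := has₁
  have hwr : IsWeaklyRegular (↑(X.presheaf.stalk x) ⧸ fibIdeal f x)
      (as₁.map (algebraMap Γ(X, U₁) (X.presheaf.stalk x))) := by
    rw [hmap, ← isWeaklyRegular_map_algebraMap_iff (↑(X.presheaf.stalk x) ⧸ fibIdeal f x)
      (↑(X.presheaf.stalk x) ⧸ fibIdeal f x) hs]
    exact hreg.toIsWeaklyRegular
  have hmax : ∀ h ∈ hs, h ∈ maximalIdeal (X.presheaf.stalk x) := by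
    intro h hh
    rw [mem_maximalIdeal, mem_nonunits_iff]
    intro hu
    apply hreg.top_ne_smul
    have h1 : Ideal.Quotient.mk (fibIdeal f x) h ∈
        Ideal.ofList (hs.map (Ideal.Quotient.mk (fibIdeal f x))) :=
      Ideal.subset_span (List.mem_map_of_mem hh)
    have h2 : Ideal.ofList (hs.map (Ideal.Quotient.mk (fibIdeal f x))) = ⊤ :=
      Ideal.eq_top_of_isUnit_mem _ h1 (hu.map _)
    rw [h2, smul_eq_mul, Ideal.mul_top]
  have hasQ : ∀ a ∈ as₁, a ∈ (hU₁.primeIdealOf ⟨x, hxU₁⟩).asIdeal := by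
    intro a ha
    rw [← IsLocalization.AtPrime.to_map_mem_maximal_iff (X.presheaf.stalk x)
      (hU₁.primeIdealOf ⟨x, hxU₁⟩).asIdeal a]
    apply hmax
    rw [← hmap]
    exact List.mem_map_of_mem ha
  obtain ⟨g, hgQ, hslice⟩ := trans_slice (hU₁.primeIdealOf ⟨x, hxU₁⟩).asIdeal
    (X.presheaf.stalk x) (fibIdeal f x) hIX as₁ hasQ hwr
  have hle2 : X.basicOpen g ≤ U₁ := X.basicOpen_le g
  have e2 : X.basicOpen g ≤ f ⁻¹ᵁ V := hle2.trans e
  have hxg : x ∈ X.basicOpen g := mem_basicOpen_of_notMem hU₁ x hxU₁ g hgQ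
  refine ⟨X.basicOpen g, hU₁.basicOpen g, hxg, V, hV, e2,
    as₁.map (algebraMap Γ(X, U₁) Γ(X, X.basicOpen g)), ?_, ?_, ?_⟩
  · rw [← has₁, List.map_map]
    apply List.map_congr_left
    intro a _
    exact TopCat.Presheaf.germ_res_apply X.presheaf (homOfLE hle2) x hxg a
  · intro a ha
    obtain ⟨b, hb, rfl⟩ := List.mem_map.mp ha
    rw [Groth.Agent.Helper14.QRegSpread.mem_primeIdealOf_iff _ (hU₁.basicOpen g) x hxg]
    have h1 := (Groth.Agent.Helper14.QRegSpread.mem_primeIdealOf_iff _ hU₁ x hxU₁ b).mp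
      (hasQ b hb)
    intro h2
    apply h1
    have h3 : X.basicOpen (algebraMap Γ(X, U₁) Γ(X, X.basicOpen g) b) ≤ X.basicOpen b := by
      change X.basicOpen ((X.presheaf.map (homOfLE hle2).op).hom b) ≤ _
      rw [Scheme.basicOpen_res]
      exact inf_le_right
    exact h3 h2
  · haveI hloc := hU₁.isLocalization_basicOpen g
    haveI : IsLocalization.Away (g * 1) Γ(X, X.basicOpen g) := (mul_one g).symm ▸ hloc
    letI : Algebra Γ(S, V) Γ(X, X.basicOpen g) := (f.appLE V (X.basicOpen g) e2).hom.toAlgebra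
    haveI : IsScalarTower Γ(S, V) Γ(X, U₁) Γ(X, X.basicOpen g) :=
      IsScalarTower.of_algebraMap_eq (fun r => by
        change (f.appLE V (X.basicOpen g) e2).hom r =
          (X.presheaf.map (homOfLE hle2).op).hom ((f.appLE V U₁ e).hom r)
        rw [← CommRingCat.comp_apply, Scheme.Hom.appLE_map])
    exact hslice 1 Γ(X, X.basicOpen g)

/-- transport of transversally regular sequences along an isomorphism of algebras. -/
theorem isTransRegularSeq_of_equiv {A B B' : Type u} [CommRing A] [CommRing B] [CommRing B']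
    [Algebra A B] [Algebra A B'] (ε : B ≃+* B')
    (hε : ∀ a, ε (algebraMap A B a) = algebraMap A B' a) (rs : List B)
    (h : RegImm.IsTransRegularSeq A B rs) : RegImm.IsTransRegularSeq A B' (rs.map ε) := by
  obtain ⟨hwr, hfl⟩ := h
  refine ⟨?_, fun j hj => ?_⟩
  · exact (AddEquiv.isWeaklyRegular_congr (e := ε.toAddEquiv) <| List.forall₂_map_right_iff.mpr <|
      List.forall₂_same.mpr fun r _ x => by simp).mp hwr
  · rw [List.length_map] at hj
    haveI := hfl j hj
    have hIJ : Ideal.ofList ((rs.map ε).take j) = (Ideal.ofList (rs.take j)).map (ε : B →+* B') := by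
      rw [Ideal.map_ofList, List.map_take]
      rfl
    let q := Ideal.quotientEquiv (Ideal.ofList (rs.take j)) (Ideal.ofList ((rs.map ε).take j)) ε hIJ
    let ql : (B ⧸ Ideal.ofList (rs.take j)) ≃ₗ[A] (B' ⧸ Ideal.ofList ((rs.map ε).take j)) :=
      { q with
        map_smul' := by
          intro a y
          obtain ⟨y, rfl⟩ := Ideal.Quotient.mk_surjective y
          change q (a • Ideal.Quotient.mk _ y) = a • q (Ideal.Quotient.mk _ y)
          rw [Algebra.smul_def, Algebra.smul_def, map_mul]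
          congr 1
          change q (Ideal.Quotient.mk _ (algebraMap A B a)) = Ideal.Quotient.mk _ (algebraMap A B' a)
          rw [← hε a]
          rfl }
    exact Module.Flat.of_linearEquiv ql.symm

/-- the scheme-level output. -/
theorem output (f : X ⟶ S) [LocallyOfFinitePresentation f] (x : X) (U : X.Opens)
    (hU : IsAffineOpen U) (hx : x ∈ U) (V : S.Opens) (hV : IsAffineOpen V) (e : U ≤ f ⁻¹ᵁ V)
    (hs' : List Γ(X, U)) (hQ : ∀ a ∈ hs', a ∈ (hU.primeIdealOf ⟨x, hx⟩).asIdeal)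
    (htr : letI := (f.appLE V U e).hom.toAlgebra
      RegImm.IsTransRegularSeq Γ(S, V) Γ(X, U) hs') :
    Mor2.IsRegularClosedImmersion
      (Spec.map (CommRingCat.ofHom (Ideal.Quotient.mk (Ideal.ofList hs'))) ≫ hU.isoSpec.inv) ∧
    x ∈ Set.range ⇑(Spec.map (CommRingCat.ofHom (Ideal.Quotient.mk (Ideal.ofList hs'))) ≫
      hU.fromSpec) ∧
    Flat (Spec.map (CommRingCat.ofHom (Ideal.Quotient.mk (Ideal.ofList hs'))) ≫ hU.fromSpec ≫ f) ∧
    LocallyOfFinitePresentation
      (Spec.map (CommRingCat.ofHom (Ideal.Quotient.mk (Ideal.ofList hs'))) ≫ hU.fromSpec ≫ f) ∧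
    ∀ (S' : Scheme.{u}) (g : S' ⟶ S), Mor2.IsRegularClosedImmersion
      (pullback.map (Spec.map (CommRingCat.ofHom (Ideal.Quotient.mk (Ideal.ofList hs'))) ≫
          hU.isoSpec.inv ≫ U.ι ≫ f) g (U.ι ≫ f) g
        (Spec.map (CommRingCat.ofHom (Ideal.Quotient.mk (Ideal.ofList hs'))) ≫ hU.isoSpec.inv)
        (𝟙 S') (𝟙 S) (Category.comp_id _)
        ((Category.comp_id g).trans (Category.id_comp g).symm)) := by
  letI alg : Algebra Γ(S, V) Γ(X, U) := (f.appLE V U e).hom.toAlgebra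
  set J : Ideal Γ(X, U) := Ideal.ofList hs' with hJ
  set Qv := hU.primeIdealOf ⟨x, hx⟩ with hQv
  have hJQ : J ≤ Qv.asIdeal := Ideal.span_le.mpr hQ
  let φ : Γ(X, U) ⟶ CommRingCat.of (Γ(X, U) ⧸ J) := CommRingCat.ofHom (Ideal.Quotient.mk J)
  have hφsurj : Function.Surjective φ.hom := Ideal.Quotient.mk_surjective
  let i : Spec (CommRingCat.of (Γ(X, U) ⧸ J)) ⟶ (U : Scheme.{u}) := Spec.map φ ≫ hU.isoSpec.inv
  have hι : i ≫ U.ι = Spec.map φ ≫ hU.fromSpec := by
    simp only [i, Category.assoc, IsAffineOpen.isoSpec_inv_ι]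
  have hfac : Spec.map φ ≫ hU.fromSpec ≫ f = Spec.map (f.appLE V U e ≫ φ) ≫ hV.fromSpec := by
    rw [← IsAffineOpen.SpecMap_appLE_fromSpec f hV hU e, Spec.map_comp, Category.assoc]
  haveI : IsClosedImmersion (Spec.map φ) := IsClosedImmersion.spec_of_surjective φ hφsurj
  haveI : IsClosedImmersion i := inferInstance
  haveI : IsAffine (U : Scheme.{u}) := hU
  have hψ : (f.appLE V U e ≫ φ).hom = (Ideal.Quotient.mk J).comp (f.appLE V U e).hom := rfl
  obtain ⟨hwr, hfl⟩ := htr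
  have h1reg : RingTheory.Sequence.IsRegular Γ(X, U) hs' := by
    refine ⟨hwr, ?_⟩
    intro h
    have h2 : (J • ⊤ : Submodule Γ(X, U) Γ(X, U)) = J := by simp
    rw [h2] at h
    exact Qv.2.ne_top (top_le_iff.mp (h ▸ hJQ))
  have hiapp : i.app ⊤ = U.topIso.hom ≫ φ ≫ (Scheme.ΓSpecIso _).inv := by
    change i.appTop = _
    rw [Scheme.Hom.comp_appTop, hU.isoSpec_inv_appTop, Category.assoc,
      ← Scheme.ΓSpecIso_inv_naturality]
  have hkerT : RingHom.ker (i.app ⊤).hom = Ideal.ofList (hs'.map U.topIso.inv.hom) := by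
    rw [hiapp]
    have h2 : Ideal.ofList (hs'.map U.topIso.inv.hom) = J.map U.topIso.inv.hom :=
      (Ideal.map_ofList _ _).symm
    have h3 : J.map U.topIso.inv.hom = J.comap U.topIso.hom.hom :=
      Ideal.map_symm (I := J) U.topIso.commRingCatIsoToRingEquiv
    rw [h2, h3]
    ext a
    rw [RingHom.mem_ker, Ideal.mem_comap]
    refine Iff.trans ?_ (Ideal.Quotient.eq_zero_iff_mem (I := J))
    exact map_eq_zero_iff (Scheme.ΓSpecIso (CommRingCat.of (Γ(X, U) ⧸ J))).inv.hom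
      (ConcreteCategory.bijective_of_isIso (Scheme.ΓSpecIso _).inv).1
  have hflatJ : ((Ideal.Quotient.mk J).comp (f.appLE V U e).hom).Flat := by
    have h1 := hfl hs'.length le_rfl
    rw [List.take_length] at h1
    exact RingHom.flat_algebraMap_iff.mpr h1
  refine ⟨⟨inferInstance, ?_⟩, ?_, ?_, ?_, ?_⟩
  · intro z
    refine ⟨⊤, isAffineOpen_top _, trivial, hs'.map U.topIso.inv.hom, ?_, ?_⟩
    · exact (Groth.Agent.Helper16.SliceSeq.isRegular_map_ringEquiv
        U.topIso.symm.commRingCatIsoToRingEquiv hs').mp h1reg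
    · rw [Scheme.Hom.ker_apply]
      exact hkerT
  · have hker : RingHom.ker (Ideal.Quotient.mk J) ≤ Qv.asIdeal := by
      rw [Ideal.mk_ker]; exact hJQ
    have hQ'prime : (Qv.asIdeal.map (Ideal.Quotient.mk J)).IsPrime :=
      Ideal.map_isPrime_of_surjective Ideal.Quotient.mk_surjective hker
    refine ⟨⟨Qv.asIdeal.map (Ideal.Quotient.mk J), hQ'prime⟩, ?_⟩
    rw [Scheme.Hom.comp_apply]
    have h1 : Spec.map φ ⟨_, hQ'prime⟩ = Qv := by
      apply PrimeSpectrum.ext
      change Ideal.comap (Ideal.Quotient.mk J) (Qv.asIdeal.map (Ideal.Quotient.mk J)) = _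
      rw [Ideal.comap_map_of_surjective _ Ideal.Quotient.mk_surjective, sup_eq_left,
        ← RingHom.ker_eq_comap_bot]
      exact hker
    rw [h1]
    exact hU.fromSpec_primeIdealOf ⟨x, hx⟩
  · rw [hfac]
    haveI : Flat (Spec.map (f.appLE V U e ≫ φ)) :=
      (HasRingHomProperty.Spec_iff (P := @Flat)).mpr (by rw [hψ]; exact hflatJ)
    infer_instance
  · rw [hfac]
    have hfpring : (f.appLE V U e ≫ φ).hom.FinitePresentation := by
      rw [hψ]
      refine RingHom.FinitePresentation.comp ?_ ?_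
      · refine RingHom.FinitePresentation.of_surjective _ Ideal.Quotient.mk_surjective ?_
        rw [Ideal.mk_ker]
        classical
        exact ⟨hs'.toFinset, by rw [hJ]; congr 1; ext; simp⟩
      · exact HasRingHomProperty.appLE @LocallyOfFinitePresentation f inferInstance ⟨V, hV⟩
          ⟨U, hU⟩ e
    haveI : LocallyOfFinitePresentation (Spec.map (f.appLE V U e ≫ φ)) :=
      (HasRingHomProperty.Spec_iff (P := @LocallyOfFinitePresentation)).mpr hfpring
    infer_instance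
  · intro S' g
    have eT : (⊤ : (U : Scheme.{u}).Opens) ≤ (U.ι ≫ f) ⁻¹ᵁ V := fun y _ => e y.2
    have hcompat : (U.ι ≫ f).appLE V ⊤ eT = f.appLE V U e ≫ U.topIso.inv := by
      have e₂ : (⊤ : (U : Scheme.{u}).Opens) ≤ U.ι ⁻¹ᵁ U := fun y _ => y.2
      have h1 := Scheme.Hom.appLE_comp_appLE U.ι f V U ⊤ e e₂
      rw [← h1, Scheme.Opens.ι_appLE]
      rfl
    letI algT : Algebra Γ(S, V) Γ((U : Scheme.{u}), ⊤) :=
      ((U.ι ≫ f).appLE V ⊤ eT).hom.toAlgebra
    have htrT : RegImm.IsTransRegularSeq Γ(S, V) Γ((U : Scheme.{u}), ⊤)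
        (hs'.map U.topIso.inv.hom) :=
      isTransRegularSeq_of_equiv U.topIso.symm.commRingCatIsoToRingEquiv (fun a => by
        change U.topIso.inv.hom ((f.appLE V U e).hom a) = ((U.ι ≫ f).appLE V ⊤ eT).hom a
        rw [hcompat]
        rfl) hs' ⟨hwr, hfl⟩
    haveI : IsClosedImmersion (i ∣_ (⊤ : (U : Scheme.{u}).Opens)) :=
      IsZariskiLocalAtTarget.restrict ‹_› ⊤
    show Mor2.IsRegularClosedImmersion (pullback.map (i ≫ U.ι ≫ f) g (U.ι ≫ f) g i (𝟙 S') (𝟙 S)
      (Category.comp_id _) ((Category.comp_id g).trans (Category.id_comp g).symm))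
    have hY := IsPullback.of_hasPullback (U.ι ≫ f) g
    have hms : pullback.map (i ≫ U.ι ≫ f) g (U.ι ≫ f) g i (𝟙 S') (𝟙 S)
        (Category.comp_id _) ((Category.comp_id g).trans (Category.id_comp g).symm) ≫
        pullback.snd (U.ι ≫ f) g = pullback.snd (i ≫ U.ι ≫ f) g :=
      (pullback.lift_snd _ _ _).trans (Category.comp_id _)
    have hmf : pullback.fst (i ≫ U.ι ≫ f) g ≫ i =
        pullback.map (i ≫ U.ι ≫ f) g (U.ι ≫ f) g i (𝟙 S') (𝟙 S)
        (Category.comp_id _) ((Category.comp_id g).trans (Category.id_comp g).symm) ≫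
        pullback.fst (U.ι ≫ f) g :=
      (pullback.lift_fst _ _ _).symm
    have hX : IsPullback (pullback.fst (i ≫ U.ι ≫ f) g)
        (pullback.map (i ≫ U.ι ≫ f) g (U.ι ≫ f) g i (𝟙 S') (𝟙 S)
          (Category.comp_id _) ((Category.comp_id g).trans (Category.id_comp g).symm) ≫
          pullback.snd (U.ι ≫ f) g) (i ≫ U.ι ≫ f) g := by
      rw [hms]
      exact IsPullback.of_hasPullback _ _
    have hsqZ := Groth.Agent.Helper2.LciLoc.isPullback_left hY hX hmf
    haveI hmcl : IsClosedImmersion (pullback.map (i ≫ U.ι ≫ f) g (U.ι ≫ f) g i (𝟙 S') (𝟙 S)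
        (Category.comp_id _) ((Category.comp_id g).trans (Category.id_comp g).symm)) :=
      MorphismProperty.of_isPullback hsqZ (inferInstance : IsClosedImmersion i)
    refine ⟨hmcl, fun z' => ?_⟩
    obtain ⟨U'', hzU'', -, rs, hrs, hker⟩ := regAt_of_trans_baseChange (U.ι ≫ f) i g
      (pullback.fst (U.ι ≫ f) g) (pullback.snd (U.ι ≫ f) g) hY
      (pullback.fst (i ≫ U.ι ≫ f) g) _ hsqZ ⊤ (isAffineOpen_top _) V hV eT
      (hs'.map U.topIso.inv.hom) htrT hkerT z' trivial
    refine ⟨U''.1, U''.2, hzU'', rs, hrs, ?_⟩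
    rw [Scheme.Hom.ker_apply]
    exact hker

theorem main {X S : Scheme.{u}} (f : X ⟶ S) [LocallyOfFinitePresentation f] (x : X)
    (hflat : (f.stalkMap x).hom.Flat) (hs : List ↑(X.presheaf.stalk x))
    (hreg : RingTheory.Sequence.IsRegular (↑(X.presheaf.stalk x) ⧸ Ideal.map (f.stalkMap x).hom (IsLocalRing.maximalIdeal ↑(S.presheaf.stalk (f x))))
      (hs.map (Ideal.Quotient.mk (Ideal.map (f.stalkMap x).hom (IsLocalRing.maximalIdeal ↑(S.presheaf.stalk (f x))))))) :
    ∃ (U : X.Opens) (hU : IsAffineOpen U) (hx : x ∈ U) (hs' : List Γ(X, U)), hs'.map (X.presheaf.germ U x hx) = hs ∧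
      Mor2.IsRegularClosedImmersion (Spec.map (CommRingCat.ofHom (Ideal.Quotient.mk (Ideal.ofList hs'))) ≫ hU.isoSpec.inv) ∧
      x ∈ Set.range ⇑(Spec.map (CommRingCat.ofHom (Ideal.Quotient.mk (Ideal.ofList hs'))) ≫ hU.fromSpec) ∧
      Flat (Spec.map (CommRingCat.ofHom (Ideal.Quotient.mk (Ideal.ofList hs'))) ≫ hU.fromSpec ≫ f) ∧ LocallyOfFinitePresentation (Spec.map (CommRingCat.ofHom (Ideal.Quotient.mk (Ideal.ofList hs'))) ≫ hU.fromSpec ≫ f) ∧
      ∀ (S' : Scheme.{u}) (g : S' ⟶ S), Mor2.IsRegularClosedImmersion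
        (pullback.map (Spec.map (CommRingCat.ofHom (Ideal.Quotient.mk (Ideal.ofList hs'))) ≫ hU.isoSpec.inv ≫ U.ι ≫ f) g (U.ι ≫ f) g (Spec.map (CommRingCat.ofHom (Ideal.Quotient.mk (Ideal.ofList hs'))) ≫ hU.isoSpec.inv) (𝟙 S') (𝟙 S)
          (Category.comp_id _) ((Category.comp_id g).trans (Category.id_comp g).symm)) := by
  obtain ⟨U, hU, hx, V, hV, e, hs', hmap, hQ, htr⟩ := chart f x hflat hs hreg
  obtain ⟨h1, h2, h3, h4, h5⟩ := output f x U hU hx V hV e hs' hQ htr
  exact ⟨U, hU, hx, hs', hmap, h1, h2, h3, h4, h5⟩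

end

open AlgebraicGeometry CategoryTheory Limits in
/-- Let f : X → S be locally of finite presentation and flat at x with image s, and let h_1, …, h_r be
elements of O_{X,x} whose images in O_{X,x} / m_s O_{X,x} form a regular sequence. Then there are an
affine open U ∋ x and sections on U with these germs such that the closed subscheme Z of U they cut
out is a regular closed immersion whose image contains x, Z → S is flat and locally of finite
presentation, and the base change of Z → U along any S' → S is again a regular closed immersion. -/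
theorem result {X S : Scheme.{u}} (f : X ⟶ S) [LocallyOfFinitePresentation f] (x : X)
    (hflat : (f.stalkMap x).hom.Flat) (hs : List ↑(X.presheaf.stalk x))
    (hreg : RingTheory.Sequence.IsRegular (↑(X.presheaf.stalk x) ⧸ Ideal.map (f.stalkMap x).hom (IsLocalRing.maximalIdeal ↑(S.presheaf.stalk (f x))))
      (hs.map (Ideal.Quotient.mk (Ideal.map (f.stalkMap x).hom (IsLocalRing.maximalIdeal ↑(S.presheaf.stalk (f x))))))) :
    ∃ (U : X.Opens) (hU : IsAffineOpen U) (hx : x ∈ U) (hs' : List Γ(X, U)), hs'.map (X.presheaf.germ U x hx) = hs ∧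
      Mor2.IsRegularClosedImmersion (Spec.map (CommRingCat.ofHom (Ideal.Quotient.mk (Ideal.ofList hs'))) ≫ hU.isoSpec.inv) ∧
      x ∈ Set.range ⇑(Spec.map (CommRingCat.ofHom (Ideal.Quotient.mk (Ideal.ofList hs'))) ≫ hU.fromSpec) ∧
      Flat (Spec.map (CommRingCat.ofHom (Ideal.Quotient.mk (Ideal.ofList hs'))) ≫ hU.fromSpec ≫ f) ∧ LocallyOfFinitePresentation (Spec.map (CommRingCat.ofHom (Ideal.Quotient.mk (Ideal.ofList hs'))) ≫ hU.fromSpec ≫ f) ∧
      ∀ (S' : Scheme.{u}) (g : S' ⟶ S), Mor2.IsRegularClosedImmersion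
        (pullback.map (Spec.map (CommRingCat.ofHom (Ideal.Quotient.mk (Ideal.ofList hs'))) ≫ hU.isoSpec.inv ≫ U.ι ≫ f) g (U.ι ≫ f) g (Spec.map (CommRingCat.ofHom (Ideal.Quotient.mk (Ideal.ofList hs'))) ≫ hU.isoSpec.inv) (𝟙 S') (𝟙 S)
          (Category.comp_id _) ((Category.comp_id g).trans (Category.id_comp g).symm)) := by
  exact Groth.Agent.S1459.main f x hflat hs hreg

end Groth.Agent.S1459
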