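import Groth.Statements.S16423
import Mathlib
import Groth.Agent.S1459
import Groth.Agent.Lib.Helper12.SmoothNhd
import Groth.Agent.Lib.Helper9.RegLocExt
-- import your own Groth.Agent.* helpers here

set_option autoImplicit false
universe u
open CategoryTheory CategoryTheory.Limits AlgebraicGeometry TopologicalSpace
open RhoSh

namespace Groth.Agent.S16423

section

open AlgebraicGeometry CategoryTheory Limits
open RingTheory.Sequence IsLocalRing
  Groth.Agent.Helper16.FibStalk

/-- lifting regular sequences from the fibre ring to the stalk. -/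
theorem exists_weaklyRegular_stalk {X S : Scheme.{u}} (f : X ⟶ S) [LocallyOfFinitePresentation f]
    (x : X) (hflat : (f.stalkMap x).hom.Flat)
    (rs : List (X.presheaf.stalk x ⧸ fibIdeal f x))
    (hreg : IsRegular (X.presheaf.stalk x ⧸ fibIdeal f x) rs) :
    ∃ hs : List (X.presheaf.stalk x), hs.length = rs.length ∧
      IsWeaklyRegular (X.presheaf.stalk x) hs ∧ ∀ h ∈ hs, h ∈ maximalIdeal (X.presheaf.stalk x) := by
  obtain ⟨hs, hmap⟩ : ∃ hs : List (X.presheaf.stalk x),
      hs.map (Ideal.Quotient.mk (fibIdeal f x)) = rs :=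
    List.map_surjective_iff.mpr Ideal.Quotient.mk_surjective rs
  obtain ⟨U, hU, hx, V, hV, e, hs', hgerm, hQ, htr⟩ :=
    Groth.Agent.S1459.chart f x hflat hs (by rw [hmap]; exact hreg)
  obtain ⟨hwr, -⟩ := htr
  letI : Algebra Γ(X, U) (X.presheaf.stalk x) := X.presheaf.algebra_section_stalk ⟨x, hx⟩
  haveI : IsLocalization.AtPrime (X.presheaf.stalk x) (hU.primeIdealOf ⟨x, hx⟩).asIdeal :=
    hU.isLocalization_stalk ⟨x, hx⟩
  have h1 : IsWeaklyRegular (X.presheaf.stalk x)
      (hs'.map (algebraMap Γ(X, U) (X.presheaf.stalk x))) :=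
    IsWeaklyRegular.of_isLocalization (X.presheaf.stalk x)
      (hU.primeIdealOf ⟨x, hx⟩).asIdeal.primeCompl hwr
  have h2 : hs'.map (algebraMap Γ(X, U) (X.presheaf.stalk x)) = hs := hgerm
  refine ⟨hs, ?_, h2 ▸ h1, ?_⟩
  · rw [← hmap, List.length_map]
  · intro h hh
    rw [← h2] at hh
    obtain ⟨a, ha, rfl⟩ := List.mem_map.mp hh
    exact (IsLocalization.AtPrime.to_map_mem_maximal_iff (X.presheaf.stalk x)
      (hU.primeIdealOf ⟨x, hx⟩).asIdeal a).mpr (hQ a ha)

/-- depth of the stalk is at least `n` when the (regular) fibre ring has dimension at least `n`. -/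
theorem le_depth_of_smooth {W Y : Scheme.{u}} (g : W ⟶ Y) [Smooth g] (w : W) (n : ℕ)
    (hn : (n : WithBot ℕ∞) ≤ ringKrullDim ↑(CInt.fiberStalk g w)) :
    (n : ℕ∞) ≤ LocCoh.depth ↑(W.presheaf.stalk w) ↑(W.presheaf.stalk w) := by
  haveI := Groth.Agent.Helper12.SmoothNhd.isRegularLocalRing_fibre_of_smooth g w
  have hdim : ringKrullDim (W.presheaf.stalk w ⧸ fibIdeal g w) =
      ringKrullDim ↑(CInt.fiberStalk g w) := ringKrullDim_eq_of_ringEquiv (fibStalkEquiv g w)
  have hCM := Groth.Agent.Helper9.RegLocExt.isCM_self (A := W.presheaf.stalk w ⧸ fibIdeal g w)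
  unfold LocCoh.IsCohenMacaulayModule at hCM
  rw [Module.supportDim_self_eq_ringKrullDim, hdim] at hCM
  have h2 : (n : ℕ∞) ≤ LocCoh.depth (W.presheaf.stalk w ⧸ fibIdeal g w)
      (W.presheaf.stalk w ⧸ fibIdeal g w) := by
    rw [hCM] at hn
    exact_mod_cast hn
  obtain ⟨rs, hlen, hwr, hmem⟩ := Groth.Agent.Helper9.Depth.exists_of_le_depth n h2
  have hreg : IsRegular (W.presheaf.stalk w ⧸ fibIdeal g w) rs :=
    IsRegular.of_isWeaklyRegular_of_mem_maximalIdeal (mem := hmem) (reg := hwr)
  obtain ⟨hs, hl, hw, hm⟩ := exists_weaklyRegular_stalk g w (Flat.stalkMap g w) rs hreg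
  have := Groth.Agent.Helper9.Depth.le_depth_of_exists (A := W.presheaf.stalk w)
    (M := W.presheaf.stalk w) hs hw hm
  rw [hl, hlen] at this
  exact this

theorem main
    (k : Type u) [Field k] (X S : Scheme.{u})
    (a : X ⟶ Spec (CommRingCat.of k)) (b : S ⟶ Spec (CommRingCat.of k))
    [Smooth a]
    (x : ↥(pullback a b))
    (hx : (2 : WithBot ℕ∞) ≤ ringKrullDim ↑(CInt.fiberStalk (pullback.snd a b) x)) :
    (2 : ℕ∞) ≤ LocCoh.depth ↑((pullback a b).presheaf.stalk x) ↑((pullback a b).presheaf.stalk x) := by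
  haveI : Smooth (pullback.snd a b) := inferInstance
  exact le_depth_of_smooth (pullback.snd a b) x 2 hx

end

/-- Let X be a smooth, proper, geometrically irreducible scheme over a field k admitting an ample
invertible sheaf, let S be a k-scheme and let x be a point of X ×_k S lying over s ∈ S. If the local
ring at x of the fibre (X ×_k S)_s has Krull dimension at least 2 (this holds at every point outside
a big open subset, i.e. one whose complement has codimension at least 2 in every fibre), then the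
local ring of X ×_k S at x has depth at least 2. -/
theorem result
    (k : Type u) [Field k] (X S : Scheme.{u})
    (a : X ⟶ Spec (CommRingCat.of k)) (b : S ⟶ Spec (CommRingCat.of k))
    [Smooth a] [IsProper a] [GeometricallyIrreducible a]
    (hproj : ∃ H : X.Modules, CohB1.IsAmple H)
    (x : ↥(pullback a b))
    (hx : (2 : WithBot ℕ∞) ≤ ringKrullDim ↑(CInt.fiberStalk (pullback.snd a b) x)) :
    (2 : ℕ∞) ≤ LocCoh.depth ↑((pullback a b).presheaf.stalk x) ↑((pullback a b).presheaf.stalk x) := by
  exact Groth.Agent.S16423.main k X S a b x hx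

end Groth.Agent.S16423
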