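import Groth.Statements.S16428
import Mathlib
import Groth.Agent.S16423
import Groth.Agent.Lib.Helper1.NB3
-- import your own Groth.Agent.* helpers here

set_option autoImplicit false
universe u
open CategoryTheory CategoryTheory.Limits AlgebraicGeometry TopologicalSpace
open RhoSh

namespace Groth.Agent.S16428

section

open AlgebraicGeometry CategoryTheory Limits
open RingTheory.Sequence IsLocalRing

/-- localizing at a prime minimal over the annihilator of `s`: the image of `s` is nonzero and
the maximal ideal consists of zero divisors. -/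
theorem minimal_ann {B L : Type u} [CommRing B] [CommRing L] [Algebra B L] (Q : Ideal B)
    [Q.IsPrime] [IsLocalization.AtPrime L Q] [IsLocalRing L] (s : B)
    (hQ : Q ∈ (Module.annihilator B (Submodule.span B {s})).minimalPrimes) :
    algebraMap B L s ≠ 0 ∧ ∀ h ∈ maximalIdeal L, ¬ IsSMulRegular L h := by
  set I := Module.annihilator B (Submodule.span B {s}) with hI
  have hne : algebraMap B L s ≠ 0 := by
    intro h0
    obtain ⟨m, hm⟩ := (IsLocalization.map_eq_zero_iff Q.primeCompl L s).mp h0
    have : (m : B) ∈ I := by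
      rw [hI, Submodule.mem_annihilator_span_singleton]
      exact hm
    exact m.2 (hQ.1.2 this)
  refine ⟨hne, fun h hm hreg => ?_⟩
  set t := algebraMap B L s with ht
  set I' := Module.annihilator L (Submodule.span L {t}) with hI'
  have hle : I.map (algebraMap B L) ≤ I' := by
    rw [Ideal.map_le_iff_le_comap]
    intro a ha
    rw [hI, Submodule.mem_annihilator_span_singleton] at ha
    rw [Ideal.mem_comap, hI', Submodule.mem_annihilator_span_singleton, ht, smul_eq_mul,
      ← map_mul, ← smul_eq_mul, ha, map_zero]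
  have hI'top : I' ≠ ⊤ := by
    intro h1
    have : (1 : L) ∈ I' := h1 ▸ Submodule.mem_top
    rw [hI', Submodule.mem_annihilator_span_singleton, one_smul] at this
    exact hne this
  have hI'm : I' ≤ maximalIdeal L := IsLocalRing.le_maximalIdeal hI'top
  have hmin0 : maximalIdeal L ∈ (I.map (algebraMap B L)).minimalPrimes := by
    rw [IsLocalization.minimalPrimes_map Q.primeCompl L I]
    change Ideal.comap (algebraMap B L) (maximalIdeal L) ∈ I.minimalPrimes
    have h3 : Ideal.comap (algebraMap B L) (maximalIdeal L) = Q :=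
      IsLocalization.AtPrime.under_maximalIdeal L Q
    rw [h3]
    exact hQ
  have hmin : maximalIdeal L ∈ I'.minimalPrimes :=
    ⟨⟨inferInstance, hI'm⟩, fun P hP hPm => hmin0.2 ⟨hP.1, hle.trans hP.2⟩ hPm⟩
  have hreg' : IsSMulRegular (Submodule.span L {t}) h := hreg.submodule _ h
  exact hreg'.notMem_of_mem_minimalPrimes hmin hm

/-- an open subset whose complement consists of points of positive depth is schematically
dense. -/
theorem isSchematicallyDense_of_regular {X : Scheme.{u}} (U : X.Opens)
    (hU : ∀ x : X, x ∉ U → ∃ h ∈ maximalIdeal (X.presheaf.stalk x),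
      IsSMulRegular (X.presheaf.stalk x) h) : CInt.IsSchematicallyDense U := by
  intro V
  rw [injective_iff_map_eq_zero]
  intro s hs
  apply TopCat.Presheaf.section_ext X.sheaf V
  intro x hxV
  change X.presheaf.germ V x hxV s = X.presheaf.germ V x hxV 0
  rw [map_zero]
  obtain ⟨_, ⟨W, hW, rfl⟩, hxW, hWV⟩ := X.isBasis_affineOpens.exists_subset_of_mem_open hxV V.2
  have hWV' : W ≤ V := hWV
  set s' : Γ(X, W) := (X.presheaf.map (homOfLE hWV').op).hom s with hs'
  suffices h0 : s' = 0 by
    have h1 := TopCat.Presheaf.germ_res_apply X.presheaf (homOfLE hWV') x hxW s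
    change X.presheaf.germ V x hxV s = 0
    rw [← h1]
    change X.presheaf.germ W x hxW s' = 0
    rw [h0, map_zero]
  by_contra hne
  have hItop : Module.annihilator Γ(X, W) (Submodule.span Γ(X, W) {s'}) ≠ ⊤ := by
    intro h1
    have : (1 : Γ(X, W)) ∈ Module.annihilator Γ(X, W) (Submodule.span Γ(X, W) {s'}) :=
      h1 ▸ Submodule.mem_top
    rw [Submodule.mem_annihilator_span_singleton, one_smul] at this
    exact hne this
  obtain ⟨Q, hQ⟩ := Ideal.nonempty_minimalPrimes hItop
  haveI := hQ.1.1
  obtain ⟨y, hyW, hy⟩ := Groth.Agent.Helper1.NB.exists_primeIdealOf_eq hW ⟨Q, hQ.1.1⟩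
  letI : Algebra Γ(X, W) (X.presheaf.stalk y) := X.presheaf.algebra_section_stalk ⟨y, hyW⟩
  haveI hloc : IsLocalization.AtPrime (X.presheaf.stalk y) (hW.primeIdealOf ⟨y, hyW⟩).asIdeal :=
    hW.isLocalization_stalk ⟨y, hyW⟩
  rw [hy] at hloc
  haveI : IsLocalization.AtPrime (X.presheaf.stalk y) Q := hloc
  obtain ⟨h1, h2⟩ := minimal_ann (L := X.presheaf.stalk y) Q s' hQ
  by_cases hyU : y ∈ U
  · apply h1
    change X.presheaf.germ W y hyW s' = 0
    rw [hs', TopCat.Presheaf.germ_res_apply X.presheaf (homOfLE hWV') y hyW s]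
    have h3 := TopCat.Presheaf.germ_res_apply X.presheaf
      (homOfLE (inf_le_left : V ⊓ U ≤ V)) y ⟨hWV' hyW, hyU⟩ s
    rw [← h3]
    change X.presheaf.germ (V ⊓ U) y _ ((X.presheaf.map (homOfLE _).op).hom s) = 0
    have h4 : (X.presheaf.map (homOfLE (inf_le_left : V ⊓ U ≤ V)).op).hom s = 0 := hs
    rw [h4, map_zero]
  · obtain ⟨h, hm, hreg⟩ := hU y hyU
    exact h2 h hm hreg

theorem main
    (k : Type u) [Field k] (X S : Scheme.{u})
    (a : X ⟶ Spec (CommRingCat.of k)) (b : S ⟶ Spec (CommRingCat.of k))
    [Smooth a]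
    (U : (pullback a b).Opens)
    (hU : ∀ x : ↥(pullback a b), x ∉ U →
      (2 : WithBot ℕ∞) ≤ ringKrullDim ↑(CInt.fiberStalk (pullback.snd a b) x)) :
    CInt.IsSchematicallyDense U := by
  haveI : Smooth (pullback.snd a b) := inferInstance
  apply isSchematicallyDense_of_regular
  intro x hx
  have h1 : ((1 : ℕ) : ℕ∞) ≤
      LocCoh.depth ↑((pullback a b).presheaf.stalk x) ↑((pullback a b).presheaf.stalk x) := by
    refine le_trans ?_ (Groth.Agent.S16423.le_depth_of_smooth (pullback.snd a b) x 2 (hU x hx))
    exact_mod_cast (by norm_num : (1 : ℕ) ≤ 2)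
  obtain ⟨rs, hlen, hwr, hmem⟩ := Groth.Agent.Helper9.Depth.exists_of_le_depth 1 h1
  obtain ⟨h, rfl⟩ := List.length_eq_one_iff.mp hlen
  refine ⟨h, hmem h (List.mem_singleton_self h), ?_⟩
  exact ((isWeaklyRegular_cons_iff _ h []).mp hwr).1

end

/-- Let X be a smooth, proper, geometrically irreducible scheme over a field k admitting an ample
invertible sheaf, S a k-scheme, and U a big open subset of X ×_k S, i.e. at every point outside U
the local ring of the fibre over S has Krull dimension at least 2. Then U is schematically dense in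
X ×_k S: restriction of functions from any open V to V ∩ U is injective. -/
theorem result
    (k : Type u) [Field k] (X S : Scheme.{u})
    (a : X ⟶ Spec (CommRingCat.of k)) (b : S ⟶ Spec (CommRingCat.of k))
    [Smooth a] [IsProper a] [GeometricallyIrreducible a]
    (hproj : ∃ H : X.Modules, CohB1.IsAmple H)
    (U : (pullback a b).Opens)
    (hU : ∀ x : ↥(pullback a b), x ∉ U →
      (2 : WithBot ℕ∞) ≤ ringKrullDim ↑(CInt.fiberStalk (pullback.snd a b) x)) :
    CInt.IsSchematicallyDense U := by
  exact Groth.Agent.S16428.main k X S a b U hU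

end Groth.Agent.S16428
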