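import Groth.Statements.S0736
import Groth.Statements.S0736
import Groth.Agent.Lib.Helper2.FlatColim
import Mathlib.Algebra.Category.Ring.FilteredColimits
import Mathlib.CategoryTheory.Limits.Preserves.Over
-- import your own Groth.Agent.* helpers here

set_option autoImplicit false
open CategoryTheory CategoryTheory.Limits AlgebraicGeometry Opposite Topology
universe u
open ProEtW

namespace Groth.Agent.S0736

open CategoryTheory CategoryTheory.Limits

theorem aux (A B : Type u) [CommRing A] [CommRing B] [Algebra A B]
    (h : EtPBC.IsIndEtale A B) : Algebra.WeaklyEtale A B := by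
  obtain ⟨J, _, _, D, c, hc, hD, ⟨e⟩⟩ := h
  let _ : ∀ j, Algebra A (D.obj j).right := fun j => (D.obj j).hom.hom.toAlgebra
  have : Nonempty J := IsFiltered.nonempty
  -- the maps to B
  let ψ : ∀ j, D.obj j ⟶ Under.mk (CommRingCat.ofHom (algebraMap A B)) := fun j => c.ι.app j ≫ e.hom
  have hψ : ∀ j (a : A), (ψ j).right.hom (algebraMap A (D.obj j).right a) = algebraMap A B a := by
    intro j a
    have := Under.w (ψ j)
    exact congrArg (fun g => g.hom a) this
  let φ : ∀ j, (D.obj j).right →ₐ[A] B := fun j =>
    { toRingHom := (ψ j).right.hom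
      commutes' := hψ j }
  have hD' : ∀ {j k : J} (f : j ⟶ k) (a : A),
      (D.map f).right.hom (algebraMap A (D.obj j).right a) = algebraMap A (D.obj k).right a := by
    intro j k f a
    have := Under.w (D.map f)
    exact congrArg (fun g => g.hom a) this
  let τ : ∀ {j k : J} (f : j ⟶ k), (D.obj j).right →ₐ[A] (D.obj k).right := fun f =>
    { toRingHom := (D.map f).right.hom
      commutes' := hD' f }
  have hτ : ∀ {j k : J} (f : j ⟶ k), (φ k).comp (τ f) = φ j := by
    intro j k f
    ext x
    have : D.map f ≫ ψ k = ψ j := by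
      simp only [ψ, ← Category.assoc, c.w f]
    exact congrArg (fun g => g.right.hom x) this
  have t := isColimitOfPreserves (Under.forget _ ⋙ forget CommRingCat) hc
  refine Groth.Agent.Helper2.FlatColim.weaklyEtale_of_algebra_stages
    (fun j => (D.obj j).right) φ ?_ ?_ ?_ (fun j => ?_)
  · intro j₁ j₂
    exact ⟨IsFiltered.max j₁ j₂, τ (IsFiltered.leftToMax j₁ j₂), τ (IsFiltered.rightToMax j₁ j₂),
      hτ _, hτ _⟩
  · intro b
    obtain ⟨j, x, hx⟩ := Types.jointly_surjective_of_isColimit t (e.inv.right.hom b)
    refine ⟨j, x, ?_⟩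
    show e.hom.right.hom ((c.ι.app j).right.hom x) = b
    have hx' : (c.ι.app j).right.hom x = e.inv.right.hom b := hx
    rw [hx']
    have : e.inv ≫ e.hom = 𝟙 _ := e.inv_hom_id
    exact congrArg (fun g => g.right.hom b) this
  · intro j x hx
    have h1 : (c.ι.app j).right.hom x = (c.ι.app j).right.hom 0 := by
      have hx' : e.hom.right.hom ((c.ι.app j).right.hom x) = 0 := hx
      have := congrArg e.inv.right.hom hx'
      have h2 : e.hom ≫ e.inv = 𝟙 _ := e.hom_inv_id
      have h3 := congrArg (fun g => g.right.hom ((c.ι.app j).right.hom x)) h2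
      rw [map_zero]
      rw [map_zero] at this
      rw [← this]
      exact h3.symm
    obtain ⟨k, f, g, hfg⟩ := (Types.FilteredColimit.isColimit_eq_iff _ t (xi := x) (xj := (0 : (D.obj j).right))).1 h1
    refine ⟨k, τ f, hτ f, ?_⟩
    have hfg' : (D.map f).right.hom x = (D.map g).right.hom 0 := hfg
    rw [map_zero] at hfg'
    exact hfg'
  · have := hD j
    infer_instance

/-- An ind-etale ring map A -> B is weakly etale (A -> B and B (x)_A B -> B flat), in Mathlib's sense
Algebra.WeaklyEtale. -/
theorem result (A B : Type u) [CommRing A] [CommRing B] [Algebra A B]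
    (h : EtPBC.IsIndEtale A B) : Algebra.WeaklyEtale A B := by
  exact aux A B h

end Groth.Agent.S0736
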