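import Groth.Statements.S0693
import Mathlib
import Groth.Agent.Lib.Helper2.Cop5
-- import your own Groth.Agent.* helpers here

set_option autoImplicit false
open CategoryTheory CategoryTheory.Limits AlgebraicGeometry Opposite Topology
universe u
open ProEtW

namespace Groth.Agent.S0693

section

open CategoryTheory CategoryTheory.Limits AlgebraicGeometry Opposite Topology
open TensorProduct MorphismProperty
open Groth.Agent.Helper2.CopAlg Groth.Agent.Helper29.IndEtComp

variable (A : Type u) [CommRing A]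

/-- the stages of the tower -/
noncomputable def X : ℕ → CommRingCat.{u}
  | 0 => CommRingCat.of A
  | n + 1 => CommRingCat.of (T (X n))

/-- the transition maps -/
noncomputable def φ (n : ℕ) : X A n ⟶ X A (n + 1) :=
  CommRingCat.ofHom (algebraMap (X A n) (T (X A n)))

/-- the tower -/
noncomputable def D' : ℕ ⥤ CommRingCat.{u} := Functor.ofSequence (φ A)

theorem D'_map (n : ℕ) : (D' A).map (homOfLE (Nat.le_succ n)) = φ A n :=
  Functor.ofSequence_map_homOfLE_succ (φ A) n

theorem h1 (n : ℕ) : ind.{u} Et.{u} ((D' A).map (homOfLE (Nat.le_succ n))) := by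
  rw [D'_map]
  exact (isIndEtale_iff _ _).1 (isIndEtale_T (X A n))

theorem h2 (n : ℕ) : ((D' A).map (homOfLE (Nat.le_succ n))).hom.FaithfullyFlat := by
  rw [D'_map]
  exact RingHom.faithfullyFlat_algebraMap_iff.2 (faithfullyFlat_T (X A n))

theorem h3 (n : N.{u}) (B' : Type u) [CommRing B'] [Algebra ((dn.{u} ⋙ D' A).obj n) B']
    [Algebra.Etale ((dn.{u} ⋙ D' A).obj n) B']
    [Module.FaithfullyFlat ((dn.{u} ⋙ D' A).obj n) B'] :
    ∃ r : B' →+* (dn.{u} ⋙ D' A).obj ⟨n.down + 1⟩,
      r.comp (algebraMap ((dn.{u} ⋙ D' A).obj n) B') =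
        ((dn.{u} ⋙ D' A).map (homOfLE (show n ≤ ⟨n.down + 1⟩ from Nat.le_succ n.down))).hom := by
  obtain ⟨ρ⟩ := exists_hom_T ((dn.{u} ⋙ D' A).obj n) B'
  refine ⟨ρ.toRingHom, ?_⟩
  have e : ((dn.{u} ⋙ D' A).map (homOfLE (show n ≤ ⟨n.down + 1⟩ from Nat.le_succ n.down))) =
      φ A n.down := D'_map A n.down
  rw [e]
  ext x
  exact ρ.commutes x

theorem main : ∃ (C : Type u) (_ : CommRing C) (_ : Algebra A C),
    Module.FaithfullyFlat A C ∧ EtPBC.IsIndEtale A C ∧ ProEtW.HasEtaleRetractions C := by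
  let D := dn.{u} ⋙ D' A
  let c := colimit.cocone D
  let hc := colimit.isColimit D
  let f0 : A →+* c.pt := (c.ι.app ⟨0⟩).hom
  refine ⟨c.pt, inferInstance, f0.toAlgebra, ?_, ?_, ?_⟩
  · exact ff_ι (D' A) c hc (h1 A) (h2 A)
  · letI := f0.toAlgebra
    exact (isIndEtale_iff A c.pt).2 (ind_ι (D' A) c hc (h1 A))
  · intro B _ _ hff het
    exact retr D c hc (h3 A) B

end

/-- Every ring A admits a faithfully flat ind-etale extension C over which all faithfully flat etale
algebras have retractions. -/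
theorem result (A : Type u) [CommRing A] :
    ∃ (C : Type u) (_ : CommRing C) (_ : Algebra A C),
      Module.FaithfullyFlat A C ∧ EtPBC.IsIndEtale A C ∧ ProEtW.HasEtaleRetractions C := by
  exact Groth.Agent.S0693.main A

end Groth.Agent.S0693
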