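import Groth.Statements.S0733
import Mathlib.Algebra.Category.Ring.Under.Basic
import Mathlib.RingTheory.Etale.Basic
import Mathlib.CategoryTheory.Adjunction.Limits
-- import your own Groth.Agent.* helpers here

set_option autoImplicit false
open CategoryTheory CategoryTheory.Limits AlgebraicGeometry Opposite Topology
universe u
open scoped TensorProduct
open ProEtW

namespace Groth.Agent.S0733

instance presCol (R S : CommRingCat.{u}) [Algebra R S] :
    PreservesColimitsOfSize.{u, u} (CommRingCat.tensorProd R S) := by
  have : PreservesColimitsOfSize.{u, u} (Under.pushout (CommRingCat.ofHom <| algebraMap R S)) :=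
    (Under.mapPushoutAdj _).leftAdjoint_preservesColimits
  exact preservesColimits_of_natIso (CommRingCat.tensorProdIsoPushout R S).symm

theorem key {A A' B : Type u} [CommRing A] [CommRing A'] [CommRing B] [Algebra A A']
    (i1 i2 : Algebra A B) (h : i1 = i2) :
    Nonempty ((letI := i1; CommRingCat.mkUnder (CommRingCat.of A') (A' ⊗[A] B)) ≅
      (letI := i2; CommRingCat.mkUnder (CommRingCat.of A') (A' ⊗[A] B))) := by
  subst h; exact ⟨Iso.refl _⟩

theorem etale_toAlgebra {R X : Type u} [CommRing R] [CommRing X] [inst : Algebra R X]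
    [h : Algebra.Etale R X] : @Algebra.Etale R X _ _ (algebraMap R X).toAlgebra := by
  have : (algebraMap R X).toAlgebra = inst := Algebra.algebra_ext _ _ (fun _ => rfl)
  rw [this]; exact h

theorem aux (A B A' : Type u) [CommRing A] [CommRing B] [CommRing A']
    [Algebra A B] [Algebra A A'] (h : EtPBC.IsIndEtale A B) :
    EtPBC.IsIndEtale A' (A' ⊗[A] B) := by
  obtain ⟨J, _, _, D, c, hc, het, ⟨e⟩⟩ := h
  let _ : Algebra (CommRingCat.of A) (CommRingCat.of A') := inferInstanceAs (Algebra A A')
  let T := CommRingCat.tensorProd (CommRingCat.of A) (CommRingCat.of A')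
  refine ⟨J, inferInstance, inferInstance, D ⋙ T, T.mapCocone c, isColimitOfPreserves T hc, ?_, ?_⟩
  · intro j
    let _ := (D.obj j).hom.hom.toAlgebra
    have := het j
    exact etale_toAlgebra (R := A') (X := A' ⊗[A] (D.obj j).right)
  · obtain ⟨e'⟩ := key (A := A) (A' := A') (B := B) (algebraMap A B).toAlgebra inferInstance
      (Algebra.algebra_ext _ _ (fun _ => rfl))
    exact ⟨T.mapIso e ≪≫ e'⟩

/-- If A -> B is ind-etale (a filtered colimit of etale A-algebras) and A -> A' is any ring map, then A'
-> A' (x)_A B is ind-etale. -/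
theorem result (A B A' : Type u) [CommRing A] [CommRing B] [CommRing A']
    [Algebra A B] [Algebra A A'] (h : EtPBC.IsIndEtale A B) :
    EtPBC.IsIndEtale A' (A' ⊗[A] B) := by
  exact aux A B A' h

end Groth.Agent.S0733
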