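import Groth.Statements.S0737
import Mathlib
import Groth.Agent.Lib.Helper2.WLoc3
import Groth.Agent.Lib.Helper2.ZeroDimSpec
-- import your own Groth.Agent.* helpers here

set_option autoImplicit false
open CategoryTheory CategoryTheory.Limits AlgebraicGeometry Opposite Topology
universe u
open ProEtW

namespace Groth.Agent.S0737

section
open CategoryTheory CategoryTheory.Limits AlgebraicGeometry Opposite Topology
open Groth.Agent.Helper2

theorem isSpectralMap_comap {R S : Type*} [CommRing R] [CommRing S] (f : R →+* S) :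
    IsSpectralMap (PrimeSpectrum.comap f) := by
  classical
  refine ⟨PrimeSpectrum.continuous_comap f, fun s hso hsc => ?_⟩
  obtain ⟨t, rfl⟩ := PrimeSpectrum.isCompact_isOpen_iff.mp ⟨hsc, hso⟩
  rw [Set.preimage_compl, PrimeSpectrum.preimage_comap_zeroLocus]
  have e : f '' (t : Set R) = ((t.image f : Finset S) : Set S) := by simp
  rw [e]
  exact (PrimeSpectrum.isCompact_isOpen_iff.mpr ⟨_, rfl⟩).1

theorem closed_of_mem (A B : Type u) [CommRing A] [CommRing B] [Algebra A B] (I : Ideal A)
    (hI0 : PrimeSpectrum.zeroLocus (R := A) I = ProEtW.closedPoints (PrimeSpectrum A))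
    (h : ProEtW.AlgebraicResidueExtensions A B) (q : PrimeSpectrum B)
    (hq : q ∈ PrimeSpectrum.zeroLocus (R := B) (I.map (algebraMap A B))) :
    IsClosed ({q} : Set (PrimeSpectrum B)) := by
  have hJq : I.map (algebraMap A B) ≤ q.asIdeal := hq
  have hIp : I ≤ q.asIdeal.comap (algebraMap A B) := Ideal.map_le_iff_le_comap.mp hJq
  have hp : PrimeSpectrum.comap (algebraMap A B) q ∈ ProEtW.closedPoints (PrimeSpectrum A) := by
    rw [← hI0]
    exact hIp
  have hmax : (q.asIdeal.comap (algebraMap A B)).IsMaximal :=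
    (PrimeSpectrum.isClosed_singleton_iff_isMaximal _).1 hp
  have halg := h q.asIdeal
  let _ : Field (A ⧸ q.asIdeal.comap (algebraMap A B)) := Ideal.Quotient.field _
  have hf : IsField (B ⧸ q.asIdeal) := by
    have : IsDomain (B ⧸ q.asIdeal) := Ideal.Quotient.isDomain _
    exact isField_of_isIntegral_of_isField' (R := A ⧸ q.asIdeal.comap (algebraMap A B))
      (Field.toIsField _)
  have hqmax : q.asIdeal.IsMaximal := Ideal.Quotient.maximal_of_isField _ hf
  exact (PrimeSpectrum.isClosed_singleton_iff_isMaximal _).2 hqmax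

theorem profinite_VI (B : Type u) [CommRing B] (J : Ideal B)
    (hcl : ∀ q ∈ PrimeSpectrum.zeroLocus (R := B) (J : Set B),
      IsClosed ({q} : Set (PrimeSpectrum B))) :
    CompactSpace (WLoc.VI B J) ∧ T2Space (WLoc.VI B J) ∧
      TotallyDisconnectedSpace (WLoc.VI B J) := by
  have hcomp : CompactSpace (WLoc.VI B J) :=
    isCompact_iff_compactSpace.mp (PrimeSpectrum.isClosed_zeroLocus _).isCompact
  have hκ : ∀ z : PrimeSpectrum (B ⧸ J), PrimeSpectrum.comap (Ideal.Quotient.mk J) z ∈
      PrimeSpectrum.zeroLocus (J : Set B) := by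
    intro z i hi
    change Ideal.Quotient.mk J i ∈ z.asIdeal
    rw [Ideal.Quotient.eq_zero_iff_mem.mpr hi]
    exact z.asIdeal.zero_mem
  have hdim : ∀ z z' : PrimeSpectrum (B ⧸ J), z ≤ z' → z = z' := by
    intro z z' hle
    have hmax : (PrimeSpectrum.comap (Ideal.Quotient.mk J) z).asIdeal.IsMaximal :=
      (PrimeSpectrum.isClosed_singleton_iff_isMaximal _).1 (hcl _ (hκ z))
    have hle' : (PrimeSpectrum.comap (Ideal.Quotient.mk J) z).asIdeal ≤
        (PrimeSpectrum.comap (Ideal.Quotient.mk J) z').asIdeal := Ideal.comap_mono hle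
    have heq := hmax.eq_of_le (PrimeSpectrum.comap (Ideal.Quotient.mk J) z').2.ne_top hle'
    exact PrimeSpectrum.comap_injective_of_surjective _ Ideal.Quotient.mk_surjective
      (PrimeSpectrum.ext heq)
  haveI := Groth.Agent.Helper2.totallySeparatedSpace_of_dimZero (B ⧸ J) hdim
  have hemb : IsEmbedding (Set.codRestrict (PrimeSpectrum.comap (Ideal.Quotient.mk J))
      (PrimeSpectrum.zeroLocus (J : Set B)) hκ) :=
    (PrimeSpectrum.isEmbedding_comap_of_surjective _ _ Ideal.Quotient.mk_surjective).codRestrict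
      _ _
  have hsurj : Function.Surjective (Set.codRestrict (PrimeSpectrum.comap (Ideal.Quotient.mk J))
      (PrimeSpectrum.zeroLocus (J : Set B)) hκ) := by
    intro t
    have : t.val ∈ Set.range (PrimeSpectrum.comap (Ideal.Quotient.mk J)) := by
      rw [range_comap_of_surjective _ _ Ideal.Quotient.mk_surjective, Ideal.mk_ker]
      exact t.2
    obtain ⟨z, hz⟩ := this
    exact ⟨z, Subtype.ext hz⟩
  have e : PrimeSpectrum (B ⧸ J) ≃ₜ WLoc.VI B J := hemb.toHomeomorphOfSurjective hsurj
  exact ⟨hcomp, e.t2Space, e.totallyDisconnectedSpace⟩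

theorem main (A B : Type u) [CommRing A]
    [CommRing B] [Algebra A B] (hA : ProEtW.IsWLocal (PrimeSpectrum A)) (I : Ideal A) (hI : I.IsRadical)
    (hI0 : PrimeSpectrum.zeroLocus (R := A) I = ProEtW.closedPoints (PrimeSpectrum A))
    (h : ProEtW.AlgebraicResidueExtensions A B) :
    PrimeSpectrum.zeroLocus (R := B) (I.map (algebraMap A B)) ⊆ ProEtW.closedPoints (PrimeSpectrum B) ∧
    ∃ (C : Type u) (_ : CommRing C) (_ : Algebra B C) (_ : Algebra A C) (_ : IsScalarTower A B C),
      EtPBC.IsIndZariski B C ∧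
      Function.Bijective (Ideal.quotientMap ((I.map (algebraMap A B)).map (algebraMap B C))
        (algebraMap B C) Ideal.le_comap_map) ∧
      ProEtW.IsWLocal (PrimeSpectrum C) ∧
      ProEtW.IsWLocalMap (PrimeSpectrum.comap (algebraMap A C)) ∧
      ProEtW.closedPoints (PrimeSpectrum C) =
        PrimeSpectrum.comap (algebraMap A C) ⁻¹' ProEtW.closedPoints (PrimeSpectrum A) := by
  have hcl := closed_of_mem A B I hI0 h
  refine ⟨fun q hq => hcl q hq, ?_⟩
  obtain ⟨h1, h2, h3⟩ := profinite_VI B (I.map (algebraMap A B)) hcl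
  haveI : CompactSpace (WLoc.VI B (I.map (algebraMap A B))) := h1
  haveI : T2Space (WLoc.VI B (I.map (algebraMap A B))) := h2
  haveI : TotallyDisconnectedSpace (WLoc.VI B (I.map (algebraMap A B))) := h3
  haveI tower : IsScalarTower A B (WLoc.Br B (WLoc.rI B (I.map (algebraMap A B)))) :=
    IsScalarTower.of_algebraMap_eq (R := A) (S := B)
      (A := WLoc.Br B (WLoc.rI B (I.map (algebraMap A B)))) (fun a => rfl)
  have hcp := WLoc.closedPoints_eq B (I.map (algebraMap A B))
  have hpre : ProEtW.closedPoints (PrimeSpectrum (WLoc.Br B (WLoc.rI B (I.map (algebraMap A B))))) =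
      PrimeSpectrum.comap (algebraMap A (WLoc.Br B (WLoc.rI B (I.map (algebraMap A B))))) ⁻¹'
        ProEtW.closedPoints (PrimeSpectrum A) := by
    ext y
    rw [hcp, ← hI0, Set.mem_preimage, PrimeSpectrum.mem_zeroLocus, PrimeSpectrum.mem_zeroLocus,
      SetLike.coe_subset_coe, SetLike.coe_subset_coe, Ideal.map_le_iff_le_comap,
      Ideal.map_le_iff_le_comap, Ideal.comap_comap,
      ← IsScalarTower.algebraMap_eq A B (WLoc.Br B (WLoc.rI B (I.map (algebraMap A B))))]
    rfl
  refine ⟨WLoc.Br B (WLoc.rI B (I.map (algebraMap A B))), inferInstance, inferInstance,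
    inferInstance, tower, WLoc.isIndZariski_r B _, WLoc.quotientMap_bijective B _,
    WLoc.isWLocal_r B _, ⟨isSpectralMap_comap _, ?_⟩, hpre⟩
  intro y hy
  have : y ∈ ProEtW.closedPoints (PrimeSpectrum (WLoc.Br B (WLoc.rI B (I.map (algebraMap A B))))) :=
    hy
  rw [hpre] at this
  exact this

end

/-- Let Spec A be w-local with radical ideal I cutting out its closed points, and A -> B inducing
algebraic residue field extensions. Then (1) every point of V(IB) is closed in Spec B, and (2) there
is an ind-Zariski B-algebra C with B/IB -> C/IC bijective, Spec C w-local, Spec C -> Spec A w-local,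
and closed points of Spec C exactly the points over closed points of Spec A. -/
theorem result (A B : Type u) [CommRing A]
    [CommRing B] [Algebra A B] (hA : ProEtW.IsWLocal (PrimeSpectrum A)) (I : Ideal A) (hI : I.IsRadical)
    (hI0 : PrimeSpectrum.zeroLocus (R := A) I = ProEtW.closedPoints (PrimeSpectrum A))
    (h : ProEtW.AlgebraicResidueExtensions A B) :
    PrimeSpectrum.zeroLocus (R := B) (I.map (algebraMap A B)) ⊆ ProEtW.closedPoints (PrimeSpectrum B) ∧
    ∃ (C : Type u) (_ : CommRing C) (_ : Algebra B C) (_ : Algebra A C) (_ : IsScalarTower A B C),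
      EtPBC.IsIndZariski B C ∧
      Function.Bijective (Ideal.quotientMap ((I.map (algebraMap A B)).map (algebraMap B C))
        (algebraMap B C) Ideal.le_comap_map) ∧
      ProEtW.IsWLocal (PrimeSpectrum C) ∧
      ProEtW.IsWLocalMap (PrimeSpectrum.comap (algebraMap A C)) ∧
      ProEtW.closedPoints (PrimeSpectrum C) =
        PrimeSpectrum.comap (algebraMap A C) ⁻¹' ProEtW.closedPoints (PrimeSpectrum A) := by
  exact Groth.Agent.S0737.main A B hA I hI hI0 h

end Groth.Agent.S0737
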