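import Groth.Statements.S0692
import Mathlib
import Groth.Agent.S0693
import Groth.Agent.S0694
import Groth.Agent.S0737
import Groth.Agent.S0675
import Groth.Agent.S0733
import Groth.Agent.S0734
import Groth.Agent.S0736
import Groth.Agent.Lib.Helper2.WC1
import Groth.Agent.Lib.Helper2.WC2
import Groth.Agent.Lib.Helper2.IdLoc2
-- import your own Groth.Agent.* helpers here

set_option autoImplicit false
open CategoryTheory CategoryTheory.Limits AlgebraicGeometry Opposite Topology
universe u
open ProEtW

namespace Groth.Agent.S0692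

section

open CategoryTheory CategoryTheory.Limits AlgebraicGeometry Opposite Topology
open TensorProduct PrimeSpectrum
open Groth.Agent.Helper2.WC Groth.Agent.Helper2.IdLoc

/-- Points of `Spec (S ⊗[R] T)` with prescribed images in `Spec S` and `Spec T`. -/
theorem exists_prime_tensorProduct (R S T : Type u) [CommRing R] [CommRing S] [CommRing T]
    [Algebra R S] [Algebra R T] (p : PrimeSpectrum S) (q : PrimeSpectrum T)
    (hpq : PrimeSpectrum.comap (algebraMap R S) p = PrimeSpectrum.comap (algebraMap R T) q) :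
    ∃ P : PrimeSpectrum (S ⊗[R] T),
      PrimeSpectrum.comap (Algebra.TensorProduct.includeLeftRingHom : S →+* S ⊗[R] T) P = p ∧
      PrimeSpectrum.comap
        (Algebra.TensorProduct.includeRight : T →ₐ[R] S ⊗[R] T).toRingHom P = q := by
  obtain ⟨z, hz₁, hz₂⟩ := Scheme.Pullback.exists_preimage_pullback
    (f := Spec.map (CommRingCat.ofHom (algebraMap R S)))
    (g := Spec.map (CommRingCat.ofHom (algebraMap R T))) p q hpq
  refine ⟨(pullbackSpecIso R S T).hom.base z, ?_, ?_⟩
  · have h := pullbackSpecIso_hom_fst R S T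
    have h2 := congrArg (fun φ => φ.base z) h
    exact h2.trans hz₁
  · have h := pullbackSpecIso_hom_snd R S T
    have h2 := congrArg (fun φ => φ.base z) h
    exact h2.trans hz₂

theorem closed_ideal (C : Type u) [CommRing C] (hw : ProEtW.IsWLocal (PrimeSpectrum C)) :
    ∃ I : Ideal C, I.IsRadical ∧
      zeroLocus (R := C) I = ProEtW.closedPoints (PrimeSpectrum C) := by
  refine ⟨vanishingIdeal (ProEtW.closedPoints (PrimeSpectrum C)), isRadical_vanishingIdeal _, ?_⟩
  rw [zeroLocus_vanishingIdeal_eq_closure]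
  exact hw.2.1.closure_eq

theorem stepC (A : Type u) [CommRing A] :
    ∃ (C : Type u) (_ : CommRing C) (_ : Algebra A C),
      Module.FaithfullyFlat A C ∧ EtPBC.IsIndEtale A C ∧ ProEtW.IsWLocal (PrimeSpectrum C) ∧
      PrimeSpectrum.comap (algebraMap A C) '' ProEtW.closedPoints (PrimeSpectrum C) = Set.univ ∧
      ∀ (m : Ideal C) [m.IsMaximal],
        EtCoh.IsStrictlyHenselianLocalRing (Localization.AtPrime m) := by
  obtain ⟨A', _, _, hff1, hiz1, hw1, hbij1⟩ := Groth.Agent.S0694.result A
  obtain ⟨I', hI'rad, hI'0⟩ := closed_ideal A' hw1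
  obtain ⟨C', _, _, hff2, hie2, hret⟩ := Groth.Agent.S0693.result A'
  have har : ProEtW.AlgebraicResidueExtensions A' C' := algRes_of_isIndEtale hie2
  obtain ⟨hV, C, _, _, _, _, hiz3, hbij3, hw3, hwm3, hcl3⟩ :=
    Groth.Agent.S0737.result A' C' hw1 I' hI'rad hI'0 har
  letI : Algebra A C := ((algebraMap A' C).comp (algebraMap A A')).toAlgebra
  haveI : IsScalarTower A A' C := .of_algebraMap_eq fun _ => rfl
  have hie1 : EtPBC.IsIndEtale A A' := isIndEtale_of_isIndZariski hiz1
  have hie3 : EtPBC.IsIndEtale C' C := isIndEtale_of_isIndZariski hiz3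
  have hieA'C : EtPBC.IsIndEtale A' C := Groth.Agent.S0734.result A' C' C hie2 hie3
  have hieAC : EtPBC.IsIndEtale A C := Groth.Agent.S0734.result A A' C hie1 hieA'C
  -- closed points of `C` surject onto `Spec A`
  have h7 : PrimeSpectrum.comap (algebraMap A C) '' ProEtW.closedPoints (PrimeSpectrum C) =
      Set.univ := by
    rw [Set.eq_univ_iff_forall]
    intro x
    obtain ⟨x', hx'cl, hx'⟩ := hbij1.surjOn (Set.mem_univ x)
    obtain ⟨y', hy'⟩ := PrimeSpectrum.comap_surjective_of_faithfullyFlat (B := C') x'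
    have hy'J : I'.map (algebraMap A' C') ≤ y'.asIdeal := by
      rw [Ideal.map_le_iff_le_comap]
      have h1 : x' ∈ zeroLocus (R := A') I' := by rw [hI'0]; exact hx'cl
      rw [← hy', mem_zeroLocus] at h1
      exact h1
    obtain ⟨y, hy⟩ := exists_prime_of_bij (I'.map (algebraMap A' C')) hbij3 y' hy'J
    have hyx' : PrimeSpectrum.comap (algebraMap A' C) y = x' := by
      rw [IsScalarTower.algebraMap_eq A' C' C, comap_comp_apply, hy, hy']
    refine ⟨y, ?_, ?_⟩
    · rw [hcl3]
      change PrimeSpectrum.comap (algebraMap A' C) y ∈ ProEtW.closedPoints (PrimeSpectrum A')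
      rw [hyx']
      exact hx'cl
    · rw [IsScalarTower.algebraMap_eq A A' C, comap_comp_apply, hyx', hx']
  have hffAC : Module.FaithfullyFlat A C := by
    haveI : Module.Flat A C := (Groth.Agent.S0736.result A C hieAC).flat
    refine Module.FaithfullyFlat.of_comap_surjective fun x => ?_
    have hx : x ∈ PrimeSpectrum.comap (algebraMap A C) ''
        ProEtW.closedPoints (PrimeSpectrum C) := by rw [h7]; trivial
    obtain ⟨y, -, hy⟩ := hx
    exact ⟨y, hy⟩
  refine ⟨C, inferInstance, inferInstance, hffAC, hieAC, hw3, h7, ?_⟩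
  intro m hm
  let y : PrimeSpectrum C := ⟨m, hm.isPrime⟩
  have hycl : y ∈ ProEtW.closedPoints (PrimeSpectrum C) :=
    (isClosed_singleton_iff_isMaximal y).2 hm
  let y' : PrimeSpectrum C' := PrimeSpectrum.comap (algebraMap C' C) y
  have hy'V : y' ∈ zeroLocus (R := C') (I'.map (algebraMap A' C')) := by
    rw [mem_zeroLocus]
    have h1 : I'.map (algebraMap A' C') ≤ y'.asIdeal := by
      rw [Ideal.map_le_iff_le_comap]
      have h2 : PrimeSpectrum.comap (algebraMap A' C) y ∈ zeroLocus (R := A') I' := by
        rw [hI'0]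
        rw [hcl3] at hycl
        exact hycl
      rw [mem_zeroLocus] at h2
      intro a ha
      have h3 := h2 ha
      change algebraMap A' C a ∈ m at h3
      change algebraMap C' C (algebraMap A' C' a) ∈ m
      rwa [← IsScalarTower.algebraMap_apply A' C' C]
    exact h1
  have hm'max : y'.asIdeal.IsMaximal := (isClosed_singleton_iff_isMaximal y').1 (hV hy'V)
  have hSH := Groth.Agent.S0675.result C' hret y'.asIdeal
  have hid := identifies_of_isIndZariski hiz3 y
  exact strictHens_of_ringEquiv (RingEquiv.ofBijective _ hid) hSH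

attribute [local instance] Algebra.TensorProduct.rightAlgebra in
theorem stepD (A B C : Type u) [CommRing A] [CommRing B] [CommRing C] [Algebra A B] [Algebra A C]
    (h : ProEtW.AlgebraicResidueExtensions A B)
    (hwC : ProEtW.IsWLocal (PrimeSpectrum C)) (hieAC : EtPBC.IsIndEtale A C)
    (h7 : PrimeSpectrum.comap (algebraMap A C) '' ProEtW.closedPoints (PrimeSpectrum C) =
      Set.univ) :
    ∃ (D : Type u) (_ : CommRing D) (_ : Algebra B D)
      (_ : Algebra C D) (_ : Algebra A D) (_ : IsScalarTower A C D) (_ : IsScalarTower A B D),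
      Module.FaithfullyFlat B D ∧ EtPBC.IsIndEtale B D ∧ ProEtW.IsWLocal (PrimeSpectrum D) ∧
      ProEtW.IsWLocalMap (PrimeSpectrum.comap (algebraMap C D)) ∧
      ProEtW.closedPoints (PrimeSpectrum D) =
        PrimeSpectrum.comap (algebraMap C D) ⁻¹' ProEtW.closedPoints (PrimeSpectrum C) ∧
      PrimeSpectrum.comap (algebraMap B D) '' ProEtW.closedPoints (PrimeSpectrum D) =
        Set.univ := by
  have hieBT : EtPBC.IsIndEtale B (B ⊗[A] C) := Groth.Agent.S0733.result A C B hieAC
  have hspan : ∀ t : B ⊗[A] C, t ∈ Submodule.span C (Set.range (algebraMap B (B ⊗[A] C))) := by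
    intro t
    induction t using TensorProduct.induction_on with
    | zero => exact Submodule.zero_mem _
    | tmul b c =>
      have : b ⊗ₜ[A] c = c • (algebraMap B (B ⊗[A] C) b) := by
        rw [Algebra.smul_def, Algebra.TensorProduct.right_algebraMap_apply,
          Algebra.TensorProduct.algebraMap_apply, Algebra.TensorProduct.tmul_mul_tmul]
        simp
      rw [this]
      exact Submodule.smul_mem _ _ (Submodule.subset_span ⟨b, rfl⟩)
    | add x y hx hy => exact Submodule.add_mem _ hx hy
  have harCT : ProEtW.AlgebraicResidueExtensions C (B ⊗[A] C) :=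
    algRes_of_span (A := A) (B := B) (C := C) (T := B ⊗[A] C) h hspan
  obtain ⟨IC, hICrad, hIC0⟩ := closed_ideal C hwC
  obtain ⟨hV, D, _, _, _, _, hizD, hbijD, hwD, hwmD, hclD⟩ :=
    Groth.Agent.S0737.result C (B ⊗[A] C) hwC IC hICrad hIC0 harCT
  letI : Algebra B D := ((algebraMap (B ⊗[A] C) D).comp (algebraMap B (B ⊗[A] C))).toAlgebra
  haveI : IsScalarTower B (B ⊗[A] C) D := .of_algebraMap_eq fun _ => rfl
  letI : Algebra A D := ((algebraMap C D).comp (algebraMap A C)).toAlgebra
  haveI : IsScalarTower A C D := .of_algebraMap_eq fun _ => rfl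
  haveI : IsScalarTower A B D := .of_algebraMap_eq fun a => by
    change algebraMap C D (algebraMap A C a) =
      algebraMap (B ⊗[A] C) D (algebraMap B (B ⊗[A] C) (algebraMap A B a))
    rw [IsScalarTower.algebraMap_apply C (B ⊗[A] C) D, ← IsScalarTower.algebraMap_apply A C (B ⊗[A] C),
      ← IsScalarTower.algebraMap_apply A B (B ⊗[A] C)]
  have hieBD : EtPBC.IsIndEtale B D :=
    Groth.Agent.S0734.result B (B ⊗[A] C) D hieBT (isIndEtale_of_isIndZariski hizD)
  have h8 : PrimeSpectrum.comap (algebraMap B D) '' ProEtW.closedPoints (PrimeSpectrum D) =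
      Set.univ := by
    rw [Set.eq_univ_iff_forall]
    intro xB
    have hx : PrimeSpectrum.comap (algebraMap A B) xB ∈
        PrimeSpectrum.comap (algebraMap A C) '' ProEtW.closedPoints (PrimeSpectrum C) := by
      rw [h7]; trivial
    obtain ⟨yC, hyCcl, hyC⟩ := hx
    obtain ⟨t, ht1, ht2⟩ := exists_prime_tensorProduct A B C xB yC hyC.symm
    have ht1' : PrimeSpectrum.comap (algebraMap B (B ⊗[A] C)) t = xB := ht1
    have ht2' : PrimeSpectrum.comap (algebraMap C (B ⊗[A] C)) t = yC := ht2
    have htJ : IC.map (algebraMap C (B ⊗[A] C)) ≤ t.asIdeal := by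
      rw [Ideal.map_le_iff_le_comap]
      have h1 : yC ∈ zeroLocus (R := C) IC := by rw [hIC0]; exact hyCcl
      rw [← ht2', mem_zeroLocus] at h1
      exact h1
    obtain ⟨z, hz⟩ := exists_prime_of_bij (IC.map (algebraMap C (B ⊗[A] C))) hbijD t htJ
    refine ⟨z, ?_, ?_⟩
    · rw [hclD]
      change PrimeSpectrum.comap (algebraMap C D) z ∈ ProEtW.closedPoints (PrimeSpectrum C)
      rw [IsScalarTower.algebraMap_eq C (B ⊗[A] C) D, comap_comp_apply, hz, ht2']
      exact hyCcl
    · rw [IsScalarTower.algebraMap_eq B (B ⊗[A] C) D, comap_comp_apply, hz, ht1']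
  have hffBD : Module.FaithfullyFlat B D := by
    haveI : Module.Flat B D := (Groth.Agent.S0736.result B D hieBD).flat
    refine Module.FaithfullyFlat.of_comap_surjective fun x => ?_
    have hx : x ∈ PrimeSpectrum.comap (algebraMap B D) ''
        ProEtW.closedPoints (PrimeSpectrum D) := by rw [h8]; trivial
    obtain ⟨y, -, hy⟩ := hx
    exact ⟨y, hy⟩
  exact ⟨D, inferInstance, inferInstance, inferInstance, inferInstance, inferInstance,
    inferInstance, hffBD, hieBD, hwD, hwmD, hclD, h8⟩

theorem main (A B : Type u) [CommRing A] [CommRing B] [Algebra A B]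
    (h : ProEtW.AlgebraicResidueExtensions A B) :
    ∃ (C D : Type u) (_ : CommRing C) (_ : CommRing D) (_ : Algebra A C) (_ : Algebra B D)
      (_ : Algebra C D) (_ : Algebra A D) (_ : IsScalarTower A C D) (_ : IsScalarTower A B D),
      Module.FaithfullyFlat A C ∧ EtPBC.IsIndEtale A C ∧ Module.FaithfullyFlat B D ∧
      EtPBC.IsIndEtale B D ∧ ProEtW.IsWLocal (PrimeSpectrum C) ∧ ProEtW.IsWLocal (PrimeSpectrum D) ∧
      ProEtW.IsWLocalMap (PrimeSpectrum.comap (algebraMap C D)) ∧
      ProEtW.closedPoints (PrimeSpectrum D) =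
        PrimeSpectrum.comap (algebraMap C D) ⁻¹' ProEtW.closedPoints (PrimeSpectrum C) ∧
      PrimeSpectrum.comap (algebraMap A C) '' ProEtW.closedPoints (PrimeSpectrum C) = Set.univ ∧
      PrimeSpectrum.comap (algebraMap B D) '' ProEtW.closedPoints (PrimeSpectrum D) = Set.univ ∧
      ∀ (m : Ideal C) [m.IsMaximal],
        EtCoh.IsStrictlyHenselianLocalRing (Localization.AtPrime m) := by
  obtain ⟨C, _, _, hffAC, hieAC, hwC, h7, h9⟩ := stepC A
  obtain ⟨D, _, _, _, _, _, _, hffBD, hieBD, hwD, hwmD, hclD, h8⟩ := stepD A B C h hwC hieAC h7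
  exact ⟨C, D, inferInstance, inferInstance, inferInstance, inferInstance, inferInstance,
    inferInstance, inferInstance, inferInstance, hffAC, hieAC, hffBD, hieBD, hwC, hwD, hwmD, hclD,
    h7, h8, h9⟩

end

/-- Let A -> B induce algebraic residue field extensions. Then one can find faithfully flat ind-etale
extensions C of A and D of B, with D a C-algebra compatibly, such that: Spec C and Spec D are
w-local; Spec D -> Spec C is w-local; the closed points of Spec D are exactly the points over closed
points of Spec C; the closed points of Spec C map onto Spec A and those of Spec D onto Spec B; and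
C_m is strictly henselian for every maximal ideal m of C. -/
theorem result (A B : Type u) [CommRing A] [CommRing B] [Algebra A B]
    (h : ProEtW.AlgebraicResidueExtensions A B) :
    ∃ (C D : Type u) (_ : CommRing C) (_ : CommRing D) (_ : Algebra A C) (_ : Algebra B D)
      (_ : Algebra C D) (_ : Algebra A D) (_ : IsScalarTower A C D) (_ : IsScalarTower A B D),
      Module.FaithfullyFlat A C ∧ EtPBC.IsIndEtale A C ∧ Module.FaithfullyFlat B D ∧
      EtPBC.IsIndEtale B D ∧ ProEtW.IsWLocal (PrimeSpectrum C) ∧ ProEtW.IsWLocal (PrimeSpectrum D) ∧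
      ProEtW.IsWLocalMap (PrimeSpectrum.comap (algebraMap C D)) ∧
      ProEtW.closedPoints (PrimeSpectrum D) =
        PrimeSpectrum.comap (algebraMap C D) ⁻¹' ProEtW.closedPoints (PrimeSpectrum C) ∧
      PrimeSpectrum.comap (algebraMap A C) '' ProEtW.closedPoints (PrimeSpectrum C) = Set.univ ∧
      PrimeSpectrum.comap (algebraMap B D) '' ProEtW.closedPoints (PrimeSpectrum D) = Set.univ ∧
      ∀ (m : Ideal C) [m.IsMaximal], EtCoh.IsStrictlyHenselianLocalRing (Localization.AtPrime m) := by
  exact Groth.Agent.S0692.main A B h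

end Groth.Agent.S0692
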