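import Groth.Statements.S0176
import Mathlib
import Groth.Agent.Lib.Helper2.Oli5
import Groth.Agent.Lib.Helper2.WC1
import Groth.Agent.S0692
import Groth.Agent.S0700
import Groth.Agent.S0734
import Groth.Agent.S0736
-- import your own Groth.Agent.* helpers here

set_option autoImplicit false
universe u
open CategoryTheory CategoryTheory.Limits AlgebraicGeometry Opposite
open EtPBC

namespace Groth.Agent.S0176

section
open CategoryTheory CategoryTheory.Limits AlgebraicGeometry Opposite Topology
open TensorProduct IsLocalRing Groth.Agent.Helper2.Oli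

theorem main (A B : Type u) [CommRing A] [CommRing B] [Algebra A B]
    [Algebra.WeaklyEtale A B] :
    ∃ (B' : Type u) (_ : CommRing B') (_ : Algebra B B') (_ : Algebra A B') (_ : IsScalarTower A B B'),
      Module.FaithfullyFlat B B' ∧ EtPBC.IsIndEtale B B' ∧ EtPBC.IsIndEtale A B' := by
  obtain ⟨C, D, _, _, _, _, _, _, _, _, hAC, hAC', hBD, hBD', hwC, hwD, hwCD, hcl, hsA, hsB, hsh⟩ :=
    Groth.Agent.S0692.result A B algRes_of_weaklyEtale
  haveI : Algebra.WeaklyEtale A C := Groth.Agent.S0736.result A C hAC'
  haveI : Algebra.WeaklyEtale B D := Groth.Agent.S0736.result B D hBD'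
  haveI : Algebra.WeaklyEtale A D := Algebra.WeaklyEtale.trans A B D
  haveI : Algebra.WeaklyEtale C D := Groth.Agent.Helper3.DiagFlat.weaklyEtale_of_comp A C D
  have hmax : ∀ (m : Ideal D), m.IsMaximal → (m.comap (algebraMap C D)).IsMaximal := by
    intro m hm
    have h1 := hwCD.2 ⟨m, hm.isPrime⟩
      ((PrimeSpectrum.isClosed_singleton_iff_isMaximal _).mpr hm)
    exact (PrimeSpectrum.isClosed_singleton_iff_isMaximal _).mp h1
  have hid : EtPBC.IdentifiesLocalRings C D := identifies_of_weaklyEtale hmax hsh
  have hZ : EtPBC.IsIndZariski C D := Groth.Agent.S0700.result C D hid hwC hwD hwCD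
  have hCD : EtPBC.IsIndEtale C D := Groth.Agent.Helper2.WC.isIndEtale_of_isIndZariski hZ
  exact ⟨D, inferInstance, inferInstance, inferInstance, inferInstance, hBD, hBD',
    Groth.Agent.S0734.result A C D hAC' hCD⟩

end

/-- For a weakly etale ring map A -> B (Mathlib's Algebra.WeaklyEtale) one can enlarge B along a
faithfully flat ind-etale extension B' so that B' is already ind-etale over A; here ind-etale means:
a filtered colimit of etale algebras. -/
theorem result (A B : Type u) [CommRing A] [CommRing B] [Algebra A B]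
    [Algebra.WeaklyEtale A B] :
    ∃ (B' : Type u) (_ : CommRing B') (_ : Algebra B B') (_ : Algebra A B') (_ : IsScalarTower A B B'),
      Module.FaithfullyFlat B B' ∧ EtPBC.IsIndEtale B B' ∧ EtPBC.IsIndEtale A B' := by
  exact Groth.Agent.S0176.main A B

end Groth.Agent.S0176
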