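import Groth.Statements.S0730
-- import your own Groth.Agent.* helpers here

set_option autoImplicit false
open CategoryTheory CategoryTheory.Limits AlgebraicGeometry Opposite
universe u
open ProEtS

namespace Groth.Agent.S0730

set_option backward.isDefEq.respectTransparency.types false in
instance (Y : Scheme.{u}) : PreservesLimitsOfShape WalkingCospan (Scheme.ProEt.forget Y ⋙ Over.forget Y) := by
  have : PreservesLimitsOfShape WalkingCospan (Over.forget Y) := inferInstance
  have : PreservesLimitsOfShape WalkingCospan (Scheme.ProEt.forget Y) := inferInstance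
  infer_instance

set_option backward.isDefEq.respectTransparency.types false in
instance (Y : Scheme.{u}) : (Scheme.ProEt.precoverage Y).IsStableUnderBaseChange := by
  unfold Scheme.ProEt.precoverage
  infer_instance

set_option backward.isDefEq.respectTransparency.types false in
instance (Y : Scheme.{u}) : (Scheme.ProEt.precoverage Y).HasPullbacks := by
  have : HasPullbacks Y.ProEt := inferInstance
  infer_instance

set_option backward.isDefEq.respectTransparency.types false in
noncomputable instance preservesFiniteLimits_bcP {X Y : Scheme.{u}} (f : X ⟶ Y) :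
    PreservesFiniteLimits (bcP f) := by
  have h : PreservesFiniteLimits (bcP f ⋙ Scheme.ProEt.forget X) := by
    let e : bcP f ⋙ Scheme.ProEt.forget X ≅ Scheme.ProEt.forget Y ⋙ Over.pullback f :=
      MorphismProperty.Over.pullbackCompForgetIso (P := @WeaklyEtale) (Q := ⊤) f
    exact preservesFiniteLimits_of_natIso e.symm
  exact preservesFiniteLimits_of_reflects_of_preserves (bcP f) (Scheme.ProEt.forget X)

set_option backward.isDefEq.respectTransparency.types false in
theorem isPullback_bcP_map {X Y : Scheme.{u}} (f : X ⟶ Y) {U V : Y.ProEt} (g : V ⟶ U) :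
    IsPullback ((bcP f).map g).left (pullback.fst V.hom f : ((bcP f).obj V).left ⟶ V.left)
      (pullback.fst U.hom f : ((bcP f).obj U).left ⟶ U.left) g.left := by
  have e1 : ((bcP f).map g).left ≫ pullback.snd U.hom f = pullback.snd V.hom f := by
    dsimp [bcP]
    exact pullback.lift_snd _ _ _
  have e2 : g.left ≫ U.hom = V.hom := Over.w g.hom
  refine IsPullback.of_right (h₁₂ := pullback.snd U.hom f) (v₁₃ := f) (h₂₂ := U.hom) ?_ ?_
    (IsPullback.of_hasPullback U.hom f).flip
  · exact (congrArg₂ (fun a d => IsPullback a (pullback.fst V.hom f) f d) e1 e2).mpr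
      (IsPullback.of_hasPullback V.hom f).flip
  · dsimp [bcP]
    exact pullback.lift_fst _ _ _

set_option backward.isDefEq.respectTransparency.types false in
theorem aux {X Y : Scheme.{u}} (f : X ⟶ Y) : ProEtS.PCont f := by
  have : (Scheme.ProEt.precoverage Y).PullbacksPreservedBy (bcP f) := inferInstance
  apply Functor.isContinuous_toGrothendieck_of_pullbacksPreservedBy
  intro U R hR
  obtain ⟨ι, V, g, rfl⟩ := R.exists_eq_ofArrows
  change (Presieve.ofArrows V g).map (Scheme.ProEt.forget Y ⋙ Over.forget Y) ∈
    Scheme.proetalePrecoverage _ at hR
  change ((Presieve.ofArrows V g).map (bcP f)).map (Scheme.ProEt.forget X ⋙ Over.forget X) ∈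
    Scheme.proetalePrecoverage _
  rw [Presieve.map_ofArrows] at hR ⊢
  rw [Presieve.map_ofArrows]
  exact Precoverage.mem_coverings_of_isPullback _ hR _ _ _ (fun i => isPullback_bcP_map f (g i))

/-- Base changes of pro-étale coverings are pro-étale coverings, in the form used to define the morphism
of sites f_proét : X_proét → Y_proét for a morphism of schemes f : X → Y: the base change functor
from the small pro-étale site of Y to that of X is continuous. -/
theorem result {X Y : Scheme.{u}} (f : X ⟶ Y) : ProEtS.PCont f := by
  exact aux f

end Groth.Agent.S0730
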