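import Groth.Statements.S0757
import Mathlib
import Groth.Agent.S0730
import Groth.Agent.Lib.Helper2.WCov1
import Groth.Agent.Lib.Helper1.WE2
import Groth.Agent.Lib.Helper2.WCov2
-- import your own Groth.Agent.* helpers here

set_option autoImplicit false
open CategoryTheory CategoryTheory.Limits AlgebraicGeometry Opposite
universe u
open ProEtS

namespace Groth.Agent.S0757

section

open CategoryTheory CategoryTheory.Limits AlgebraicGeometry Opposite Topology

set_option backward.isDefEq.respectTransparency.types false in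
instance instComp (Y : Scheme.{u}) : (Scheme.ProEt.precoverage Y).IsStableUnderComposition := by
  unfold Scheme.ProEt.precoverage
  infer_instance

set_option backward.isDefEq.respectTransparency.types false in
instance instIsos (Y : Scheme.{u}) : (Scheme.ProEt.precoverage Y).HasIsos := by
  unfold Scheme.ProEt.precoverage
  infer_instance

set_option backward.isDefEq.respectTransparency.types false in
theorem fwd {X : Scheme.{u}} (U : X.ProEt) [IsAffine U.left]
    (hT : EtPBC.IsWContractible ↥(Γ(U.left, ⊤))) (R : Sieve U)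
    (hR : R ∈ Scheme.ProEt.topology X U) :
    ∃ (n : ℕ) (W : Fin n → U.left.Opens),
        (∀ k, IsClopen ((W k : Set ↥U.left))) ∧
        Pairwise (fun k l => Disjoint (W k : Set ↥U.left) (W l)) ∧
        (⋃ k, (W k : Set ↥U.left)) = Set.univ ∧
        ∀ k, R.arrows (MorphismProperty.Over.homMk (W k).ι :
          Scheme.ProEt.mk ((W k).ι ≫ U.hom) ⟶ U) := by
  rw [Precoverage.mem_toGrothendieck_iff_of_isStableUnderComposition] at hR
  obtain ⟨S, hS, hle⟩ := hR
  obtain ⟨ι, V, g, rfl⟩ := S.exists_eq_ofArrows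
  change (Presieve.ofArrows V g).map (Scheme.ProEt.forget X ⋙ Over.forget X) ∈
    Scheme.proetalePrecoverage _ at hS
  rw [Presieve.map_ofArrows] at hS
  obtain ⟨n, W, h1, h2, h3, h4⟩ :=
    Groth.Agent.Helper2.WCov.exists_clopen_refinement (T := U.left) hT _ _ hS
  refine ⟨n, W, h1, h2, h3, fun k => ?_⟩
  obtain ⟨i, h, hh⟩ := h4 k
  have hh' : h ≫ (g i).left = (W k).ι := hh
  have hw : h ≫ (V i).hom = (W k).ι ≫ U.hom := by
    have := MorphismProperty.Over.w (g i)
    exact (congrArg (fun z => h ≫ z) this.symm).trans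
      ((Category.assoc _ _ _).symm.trans (congrArg (fun z => z ≫ U.hom) hh'))
  let a : Scheme.ProEt.mk ((W k).ι ≫ U.hom) ⟶ V i := MorphismProperty.Over.homMk h hw
  have : (MorphismProperty.Over.homMk (W k).ι :
          Scheme.ProEt.mk ((W k).ι ≫ U.hom) ⟶ U) = a ≫ g i := by
    ext1
    exact hh'.symm
  rw [this]
  exact R.downward_closed (hle _ _ (Presieve.ofArrows.mk i)) a

set_option backward.isDefEq.respectTransparency.types false in
theorem bwd {X : Scheme.{u}} (U : X.ProEt) [IsAffine U.left]
    (H : ∀ R ∈ Scheme.ProEt.topology X U, ∃ (n : ℕ) (W : Fin n → U.left.Opens),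
        (∀ k, IsClopen ((W k : Set ↥U.left))) ∧
        Pairwise (fun k l => Disjoint (W k : Set ↥U.left) (W l)) ∧
        (⋃ k, (W k : Set ↥U.left)) = Set.univ ∧
        ∀ k, R.arrows (MorphismProperty.Over.homMk (W k).ι :
          Scheme.ProEt.mk ((W k).ι ≫ U.hom) ⟶ U)) :
    EtPBC.IsWContractible ↥(Γ(U.left, ⊤)) := by
  apply Groth.Agent.Helper2.WCov.isWContractible_of_sections
  intro B π hπw hπs
  let V : X.ProEt := Scheme.ProEt.mk (π ≫ U.hom)
  let g : V ⟶ U := MorphismProperty.Over.homMk π rfl
  have hg : Sieve.generate (Presieve.singleton g) ∈ Scheme.ProEt.topology X U := by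
    apply Precoverage.generate_mem_toGrothendieck
    change (Presieve.singleton g).map (Scheme.ProEt.forget X ⋙ Over.forget X) ∈
      Scheme.proetalePrecoverage _
    rw [Presieve.map_singleton]
    exact Scheme.Hom.singleton_mem_propQCPrecoverage (f := π) hπw
  obtain ⟨n, W, -, h2, h3, h4⟩ := H _ hg
  have h5 : ∀ k, ∃ a : (W k : Scheme.{u}) ⟶ Spec B, a ≫ π = (W k).ι := by
    intro k
    obtain ⟨Z, b, c, hc, hbc⟩ := h4 k
    obtain ⟨⟩ := hc
    refine ⟨b.left, ?_⟩
    exact congrArg (fun z => z.left) hbc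
  choose a ha using h5
  exact Groth.Agent.Helper2.WCov.exists_section_of_disjoint_cover π W h2 h3 a ha

theorem main {X : Scheme.{u}} (U : X.ProEt)
    [IsAffine U.left] :
    EtPBC.IsWContractible ↥(Γ(U.left, ⊤)) ↔
      ∀ R ∈ Scheme.ProEt.topology X U, ∃ (n : ℕ) (W : Fin n → U.left.Opens),
        (∀ k, IsClopen ((W k : Set ↥U.left))) ∧
        Pairwise (fun k l => Disjoint (W k : Set ↥U.left) (W l)) ∧ (⋃ k, (W k : Set ↥U.left)) = Set.univ ∧
        ∀ k, R.arrows (MorphismProperty.Over.homMk (W k).ι : Scheme.ProEt.mk ((W k).ι ≫ U.hom) ⟶ U) :=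
  ⟨fun h R hR => fwd U h R hR, bwd U⟩

end

/-- For an affine object U of the small pro-etale site of X: the ring of functions of U is
w-contractible if and only if every covering sieve of U contains the inclusions of the pieces of
some finite decomposition of U into pairwise disjoint open and closed subschemes. -/
theorem result {X : Scheme.{u}} (U : X.ProEt)
    [IsAffine U.left] :
    EtPBC.IsWContractible ↥(Γ(U.left, ⊤)) ↔
      ∀ R ∈ Scheme.ProEt.topology X U, ∃ (n : ℕ) (W : Fin n → U.left.Opens),
        (∀ k, IsClopen ((W k : Set ↥U.left))) ∧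
        Pairwise (fun k l => Disjoint (W k : Set ↥U.left) (W l)) ∧ (⋃ k, (W k : Set ↥U.left)) = Set.univ ∧
        ∀ k, R.arrows (MorphismProperty.Over.homMk (W k).ι : Scheme.ProEt.mk ((W k).ι ≫ U.hom) ⟶ U) := by
  exact Groth.Agent.S0757.main U

end Groth.Agent.S0757
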