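import Groth.Statements.S6646
import Groth.Agent.Lib.Helper10.LcEtExt
import Groth.Agent.Lib.Helper10.LcLift

set_option autoImplicit false
open CategoryTheory CategoryTheory.Limits AlgebraicGeometry Opposite
universe u
open EtModW

namespace Groth.Agent.S6646

section helpers
open Groth.Agent.Helper10.LcSite Groth.Agent.Helper10.LcEt Groth.Agent.Helper10.LcExact
  Groth.Agent.Helper10.LcEtExt Groth.Agent.Helper10.LcLift

variable {Λ : Type (u + 1)} [CommRing Λ] [IsNoetherianRing Λ]

lemma finite_kernel {M N : ModuleCat.{u + 1} Λ} (h : M ⟶ N) [Module.Finite Λ M] :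
    Module.Finite Λ ↑(kernel h) := by
  have hinj : Function.Injective (kernel.ι h).hom :=
    (ModuleCat.mono_iff_injective (kernel.ι h)).1 inferInstance
  exact Module.Finite.of_injective (kernel.ι h).hom hinj

lemma finite_cokernel {M N : ModuleCat.{u + 1} Λ} (h : M ⟶ N) [Module.Finite Λ N] :
    Module.Finite Λ ↑(cokernel h) := by
  have hsurj : Function.Surjective (cokernel.π h).hom :=
    (ModuleCat.epi_iff_surjective (cokernel.π h)).1 inferInstance
  exact Module.Finite.of_surjective (cokernel.π h).hom hsurj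

lemma finite_biprod (M N : ModuleCat.{u + 1} Λ) [Module.Finite Λ M] [Module.Finite Λ N] :
    Module.Finite Λ ↑(M ⊞ N) := by
  have e := (ModuleCat.biprodIsoProd M N).toLinearEquiv
  exact Module.Finite.equiv e.symm

theorem part1 {X : Scheme.{u}} (F G : EtModW.Mod Λ X) (φ : F ⟶ G)
    (hF : EtModW.IsFTLocConst Λ F) (hG : EtModW.IsFTLocConst Λ G) :
    EtModW.IsFTLocConst Λ (kernel φ) ∧ EtModW.IsFTLocConst Λ (cokernel φ) := by
  obtain ⟨ι, U, hU, hFU⟩ := hF
  obtain ⟨ι', U', hU', hGU⟩ := hG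
  choose M iM mM fM αM using hFU
  choose N iN mN fN βN using hGU
  obtain ⟨κ, V, a, b, hV, H⟩ := exists_covers_map_eq_const (A := ModuleCat.{u + 1} Λ) φ U hU
    (fun i => ModuleCat.of Λ (M i))
    (fun i W => by
      have : Module.Finite Λ (ModuleCat.of Λ (M i)) := fM i
      exact locFactor_moduleCat _ _)
    (fun i => (αM i).some) U' hU' (fun j => ModuleCat.of Λ (N j)) (fun j => (βN j).some)
  have H' : ∀ k, ∃ (K Q : ModuleCat.{u + 1} Λ) (_ : Module.Finite Λ K) (_ : Module.Finite Λ Q),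
      Nonempty ((kernel φ).over (V k) ≅
        (constantSheaf (X.smallEtaleTopology.over (V k)) (ModuleCat.{u + 1} Λ)).obj K) ∧
      Nonempty ((cokernel φ).over (V k) ≅
        (constantSheaf (X.smallEtaleTopology.over (V k)) (ModuleCat.{u + 1} Λ)).obj Q) := by
    intro k
    obtain ⟨h, α', β', hh⟩ := H k
    have : Module.Finite Λ (ModuleCat.of Λ (M (a k))) := fM _
    have : Module.Finite Λ (ModuleCat.of Λ (N (b k))) := fN _
    exact ⟨kernel h, cokernel h, finite_kernel h, finite_cokernel h,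
      kernel_cokernel_triv φ h α' β' hh⟩
  constructor
  · refine ⟨κ, V, hV, fun k => ?_⟩
    obtain ⟨K, Q, fK, fQ, ⟨e1⟩, ⟨e2⟩⟩ := H' k
    exact ⟨K, inferInstance, inferInstance, fK, ⟨e1⟩⟩
  · refine ⟨κ, V, hV, fun k => ?_⟩
    obtain ⟨K, Q, fK, fQ, ⟨e1⟩, ⟨e2⟩⟩ := H' k
    exact ⟨Q, inferInstance, inferInstance, fQ, ⟨e2⟩⟩

/-- a finite free module surjecting onto a finite module -/
lemma exists_free_epi (M : ModuleCat.{u + 1} Λ) [Module.Finite Λ M] :
    ∃ (α : Type (u + 1)) (_ : Finite α) (π : ModuleCat.of Λ (α →₀ Λ) ⟶ M), Epi π := by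
  obtain ⟨s, hs⟩ := (Module.Finite.fg_top : (⊤ : Submodule Λ M).FG)
  refine ⟨↥s, inferInstance,
    ModuleCat.ofHom (Finsupp.linearCombination Λ (fun a : ↥s => (a : M))), ?_⟩
  rw [ModuleCat.epi_iff_surjective]
  rw [← LinearMap.range_eq_top]
  simp only [ModuleCat.hom_ofHom]
  rw [Finsupp.range_linearCombination]
  simpa using hs

theorem part2 {X : Scheme.{u}} :
    ObjectProperty.IsClosedUnderExtensions (fun F : EtModW.Mod Λ X => EtModW.IsFTLocConst Λ F) := by
  constructor
  intro S hS h1 h3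
  obtain ⟨ι, U, hU, hFU⟩ := h1
  obtain ⟨ι', U', hU', hGU⟩ := h3
  choose M' iM mM fM αM using hFU
  choose M'' iN mN fN βN using hGU
  have HL := fun j => by
    have : Module.Finite Λ (ModuleCat.of Λ (M'' j)) := fN j
    exact exists_free_epi (ModuleCat.of Λ (M'' j))
  choose α fα π hπ using HL
  obtain ⟨κ, V, a, b, hV, H⟩ := exists_covers_ext_triv (A := ModuleCat.{u + 1} Λ) hS U hU
    (fun i => ModuleCat.of Λ (M' i)) (fun i => (αM i).some) U' hU'
    (fun j => ModuleCat.of Λ (M'' j)) (fun j => (βN j).some)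
    (fun j => ModuleCat.of Λ (α j →₀ Λ)) π
    (fun j => by
      have := fα j
      exact @locLift_moduleCat _ _ X.smallEtaleTopology Λ _ _ _ _ (α j) _)
    (fun j W => by
      have := fα j
      have : Module.Finite Λ ↑(kernel (π j)) := finite_kernel (π j)
      exact locFactor_moduleCat _ _)
  refine ⟨κ, V, hV, fun k => ?_⟩
  obtain ⟨h, -, -, ⟨e⟩⟩ := H k
  have := fα (b k)
  have : Module.Finite Λ (ModuleCat.of Λ (M' (a k))) := fM _
  have : Module.Finite Λ ↑(ModuleCat.of Λ (M' (a k)) ⊞ ModuleCat.of Λ (α (b k) →₀ Λ)) :=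
    finite_biprod _ _
  exact ⟨((cokernel h : ModuleCat.{u + 1} Λ) : Type (u + 1)), inferInstance, inferInstance,
    finite_cokernel h, ⟨e⟩⟩

theorem main (Λ : Type (u + 1)) [CommRing Λ] [IsNoetherianRing Λ] (X : Scheme.{u}) :
    (∀ (F G : EtModW.Mod Λ X) (φ : F ⟶ G), EtModW.IsFTLocConst Λ F → EtModW.IsFTLocConst Λ G →
      EtModW.IsFTLocConst Λ (kernel φ) ∧ EtModW.IsFTLocConst Λ (cokernel φ)) ∧
    ObjectProperty.IsClosedUnderExtensions (fun F : EtModW.Mod Λ X => EtModW.IsFTLocConst Λ F) :=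
  ⟨fun F G φ hF hG => part1 F G φ hF hG, part2⟩

end helpers

/-- For a Noetherian coefficient ring Λ, on the small etale site of a scheme, kernels and cokernels of
maps between finite type locally constant sheaves of Λ-modules are finite type locally constant, and
that property is closed under extensions (a weak Serre subcategory). -/
theorem result (Λ : Type (u + 1)) [CommRing Λ] [IsNoetherianRing Λ] (X : Scheme.{u}) :
    (∀ (F G : EtModW.Mod Λ X) (φ : F ⟶ G), EtModW.IsFTLocConst Λ F → EtModW.IsFTLocConst Λ G →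
      EtModW.IsFTLocConst Λ (kernel φ) ∧ EtModW.IsFTLocConst Λ (cokernel φ)) ∧
    ObjectProperty.IsClosedUnderExtensions (fun F : EtModW.Mod Λ X => EtModW.IsFTLocConst Λ F) := by
  exact main Λ X

end Groth.Agent.S6646
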