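import Groth.Statements.S6942
import Groth.Agent.Lib.Helper11.MPC3
import Groth.Agent.Lib.Helper11.FinRes
import Groth.Agent.Lib.Helper11.DCRegular
open Groth.Agent.Helper11.MPC Groth.Agent.Helper11.DC CategoryTheory DerivedCategory

set_option autoImplicit false
universe u
open CategoryTheory CategoryTheory.Limits
attribute [local instance] HasDerivedCategory.standard
open DRing

namespace Groth.Agent.S6942

/-- Let R be a Noetherian commutative ring and m an integer. An object K of D(R) is m-pseudo-coherent
exactly when H^i(K) = 0 for all large i and H^i(K) is a finitely generated R-module for each i ≥ m.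
Every finitely generated R-module M is pseudo-coherent, and conversely. -/
theorem result (R : Type u) [CommRing R]
    [IsNoetherianRing R] (m : ℤ) (K : Dual.D R) (M : Type u) [AddCommGroup M] [Module R M] :
    (DRing.IsPseudoCoherent R m K ↔
      (∃ b : ℤ, ∀ i : ℤ, b < i → Subsingleton (Dual.HD R K i)) ∧ ∀ i : ℤ, m ≤ i → Module.Finite R (Dual.HD R K i)) ∧
      (DRing.IsPseudoCoherentModule' R M ↔ Module.Finite R M) := by
  refine ⟨⟨?_, ?_⟩, ⟨?_, ?_⟩⟩
  · rintro ⟨E, a, b, α, hE, hff, hiso, hepi⟩
    refine ⟨⟨max b m, fun i hi => ?_⟩, fun i hi => ?_⟩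
    · haveI := hiso i (by omega)
      have hz : Limits.IsZero ((homologyFunctor (ModuleCat.{u} R) i).obj (Q.obj E)) :=
        isZero_homology_of_isZero_X E i (hE i (Or.inr (by omega)))
      exact ModuleCat.subsingleton_of_isZero
        (hz.of_iso (asIso ((homologyFunctor (ModuleCat.{u} R) i).map α)).symm)
    · have hfin : Module.Finite R ((homologyFunctor (ModuleCat.{u} R) i).obj (Q.obj E)) :=
        homology_finite_of_finite_term E i (hff i).1
      have hsurj : Function.Surjective ((homologyFunctor (ModuleCat.{u} R) i).map α).hom := by
        rw [← ModuleCat.epi_iff_surjective]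
        by_cases him : i = m
        · subst him; exact hepi
        · haveI := hiso i (by omega)
          infer_instance
      exact Module.Finite.of_surjective _ hsurj
  · rintro ⟨⟨b, hb⟩, hfin⟩
    refine mpc_of_homology K b (fun i hi => ?_) (fun i hi => ?_)
    · haveI := hb i hi
      exact ModuleCat.isZero_of_subsingleton _
    · refine mpc_single_of_module _ ?_
      haveI := hfin i hi
      exact mpc_of_pc' (isPseudoCoherentModule'_of_finite (Dual.HD R K i)) (m - i)
  · intro h
    exact finite_of_pc0 M (mpc_of_pc' h 0)
  · intro h
    exact isPseudoCoherentModule'_of_finite M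

end Groth.Agent.S6942
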