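import Groth.Statements.S0715
import Mathlib
import Groth.Agent.S0757
import Groth.Agent.Lib.Helper2.WCov3
-- import your own Groth.Agent.* helpers here

set_option autoImplicit false
open CategoryTheory CategoryTheory.Limits AlgebraicGeometry Opposite
universe u
open ProEtS

namespace Groth.Agent.S0715

section

open CategoryTheory CategoryTheory.Limits AlgebraicGeometry Opposite Topology

set_option backward.isDefEq.respectTransparency.types false in
/-- A disjoint open cover of the underlying scheme of `U` gives a covering of `U` in the small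
pro-étale site. -/
theorem cover_mem {X : Scheme.{u}} (U : X.ProEt) {ι : Type u} (W : ι → U.left.Opens)
    (hc : (⋃ k, (W k : Set ↥U.left)) = Set.univ) :
    Sieve.generate (Presieve.ofArrows (fun k => Scheme.ProEt.mk ((W k).ι ≫ U.hom))
      (fun k => (MorphismProperty.Over.homMk (W k).ι :
          Scheme.ProEt.mk ((W k).ι ≫ U.hom) ⟶ U))) ∈ Scheme.ProEt.topology X U := by
  apply Precoverage.generate_mem_toGrothendieck
  change (Presieve.ofArrows _ _).map (Scheme.ProEt.forget X ⋙ Over.forget X) ∈
      Scheme.proetalePrecoverage _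
  rw [Presieve.map_ofArrows]
  have hU : TopologicalSpace.IsOpenCover W := by
    apply TopologicalSpace.IsOpenCover.mk
    apply TopologicalSpace.Opens.ext
    simpa using hc
  have := (U.left.openCoverOfIsOpenCover W hU).mem₀
  exact Scheme.zariskiPrecoverage_le_propQCPrecoverage _ this

set_option backward.isDefEq.respectTransparency.types false in
theorem fwd {X : Scheme.{u}} (U : X.ProEt) [IsAffine U.left]
    (hT : EtPBC.IsWContractible ↥(Γ(U.left, ⊤))) : ProEtS.IsWC U := by
  intro F G φ hφ s
  haveI : Sheaf.IsLocallySurjective φ := (Sheaf.isLocallySurjective_iff_epi φ).mpr hφ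
  have hmem : Presheaf.imageSieve φ.hom s ∈ Scheme.ProEt.topology X U :=
    Presheaf.imageSieve_mem (Scheme.ProEt.topology X) φ.hom s
  obtain ⟨n, W, -, h2, h3, h4⟩ := Groth.Agent.S0757.fwd U hT _ hmem
  let W' : ULift.{u} (Fin n) → U.left.Opens := fun k => W k.down
  have h3' : (⋃ k, (W' k : Set ↥U.left)) = Set.univ := by
    rw [← h3]
    ext t
    simp only [Set.mem_iUnion]
    exact ⟨fun ⟨k, hk⟩ => ⟨k.down, hk⟩, fun ⟨k, hk⟩ => ⟨⟨k⟩, hk⟩⟩
  refine Groth.Agent.Helper2.WCov.exists_preimage_of_disjoint_cover (Scheme.ProEt.topology X) φ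
    (fun k => Scheme.ProEt.mk ((W' k).ι ≫ U.hom))
    (fun k => (MorphismProperty.Over.homMk (W' k).ι :
          Scheme.ProEt.mk ((W' k).ι ≫ U.hom) ⟶ U)) (cover_mem U W' h3') ?_ ?_ s
    (fun k => h4 k.down)
  · intro k
    constructor
    intro Z g1 g2 h
    apply MorphismProperty.Over.Hom.ext
    have := congrArg (fun z => z.left) h
    exact (cancel_mono (W' k).ι).mp this
  · intro k l hkl Z gk gl h
    haveI : IsEmpty ↥Z.left := by
      refine ⟨fun z => ?_⟩
      have e := congrArg (fun z => z.left) h
      have e' : gk.left ≫ (W' k).ι = gl.left ≫ (W' l).ι := e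
      have h1 : (gk.left ≫ (W' k).ι) z ∈ (W' k : Set ↥U.left) := by
        rw [Scheme.Hom.comp_apply]
        exact (gk.left z).2
      have h2' : (gk.left ≫ (W' k).ι) z ∈ (W' l : Set ↥U.left) := by
        rw [e', Scheme.Hom.comp_apply]
        exact (gl.left z).2
      have hne : k.down ≠ l.down := fun hh => hkl (ULift.ext _ _ hh)
      exact Set.disjoint_left.mp (h2 hne) h1 h2'
    exact Scheme.ProEt.bot_mem_topology Z

/-- In a subcanonical site, if `g : V ⟶ U` generates a covering sieve then any object `U` on
which all epimorphisms of sheaves are surjective admits a section of `g`. -/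
theorem exists_section_of_surj {C : Type (u + 1)} [Category.{u} C] (J : GrothendieckTopology C)
    [J.Subcanonical] {U V : C} (g : V ⟶ U)
    (hg : Sieve.generate (Presieve.singleton g) ∈ J U)
    (hU : ∀ (F G : Sheaf J (Type (u + 1))) (φ : F ⟶ G), Epi φ →
      Function.Surjective (φ.hom.app (op U))) :
    ∃ σ : U ⟶ V, σ ≫ g = 𝟙 U := by
  let φ := (GrothendieckTopology.uliftYoneda.{u + 1} J).map g
  haveI : Sheaf.IsLocallySurjective φ := by
    constructor
    intro Z s
    refine J.superset_covering ?_ (J.pullback_stable s.down hg)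
    intro Z' h hh
    obtain ⟨Y, a, b, hb, hab⟩ := hh
    obtain ⟨⟩ := hb
    refine ⟨⟨a⟩, ?_⟩
    apply ULift.ext
    exact hab
  obtain ⟨σ, hσ⟩ := hU _ _ φ inferInstance ⟨𝟙 U⟩
  refine ⟨σ.down, ?_⟩
  exact congrArg ULift.down hσ

set_option backward.isDefEq.respectTransparency.types false in
/-- A surjective weakly étale morphism from an affine scheme gives a singleton covering in the
small pro-étale site. -/
theorem singleton_mem {X : Scheme.{u}} (U : X.ProEt) {Y : Scheme.{u}} (π : Y ⟶ U.left)
    [WeaklyEtale π] [Surjective π] [QuasiCompact π] :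
    Sieve.generate (Presieve.singleton (MorphismProperty.Over.homMk π rfl :
      Scheme.ProEt.mk (π ≫ U.hom) ⟶ U)) ∈ Scheme.ProEt.topology X U := by
  apply Precoverage.generate_mem_toGrothendieck
  change (Presieve.singleton _).map (Scheme.ProEt.forget X ⋙ Over.forget X) ∈
    Scheme.proetalePrecoverage _
  rw [Presieve.map_singleton]
  exact Scheme.Hom.singleton_mem_propQCPrecoverage (f := π) ‹_›

set_option backward.isDefEq.respectTransparency.types false in
theorem bwd {X : Scheme.{u}} (U : X.ProEt) [IsAffine U.left]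
    (hU : ProEtS.IsWC U) : EtPBC.IsWContractible ↥(Γ(U.left, ⊤)) := by
  apply Groth.Agent.Helper2.WCov.isWContractible_of_sections
  intro B π hπw hπs
  obtain ⟨σ, hσ⟩ := exists_section_of_surj (Scheme.ProEt.topology X) _ (singleton_mem U π) hU
  exact ⟨σ.left, congrArg (fun z => z.left) hσ⟩

theorem main {X : Scheme.{u}} (U : X.ProEt) [IsAffine U.left] :
    EtPBC.IsWContractible ↥(Γ(U.left, ⊤)) ↔ ProEtS.IsWC U :=
  ⟨fwd U, bwd U⟩

end

/-- (1) iff (2), transposed from the big pro-etale site to the small pro-etale site X_proet: for an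
object U of X_proet with affine underlying scheme, the ring of global functions of U is
w-contractible if and only if U is a weakly contractible object. -/
theorem result {X : Scheme.{u}} (U : X.ProEt) [IsAffine U.left] :
    EtPBC.IsWContractible ↥(Γ(U.left, ⊤)) ↔ ProEtS.IsWC U := by
  exact Groth.Agent.S0715.main U

end Groth.Agent.S0715
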