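import Groth.Statements.S0725
import Mathlib
import Groth.Agent.S0715
import Groth.Agent.Lib.Helper2.WCov4
-- import your own Groth.Agent.* helpers here

set_option autoImplicit false
open CategoryTheory CategoryTheory.Limits AlgebraicGeometry Opposite
universe u
open ProEtS

namespace Groth.Agent.S0725

section

open CategoryTheory CategoryTheory.Limits AlgebraicGeometry Opposite Topology

universe v' u'

/-- If every covering sieve of `U` contains a covering family along which `F` is "a product",
then `F(U) → F^#(U)` is bijective. -/
theorem toSheafify_bijective_of_refinement {C : Type u'} [Category.{v'} C]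
    (J : GrothendieckTopology C) (F : Cᵒᵖ ⥤ Type (max u' v')) (U : C)
    (H : ∀ R ∈ J U, ∃ (I : Type) (W : I → C) (c : ∀ k, W k ⟶ U), (∀ k, R.arrows (c k)) ∧
      Sieve.generate (Presieve.ofArrows W c) ∈ J U ∧
      (∀ x : ∀ k, F.obj (op (W k)), ∃! t : F.obj (op U), ∀ k, F.map (c k).op t = x k)) :
    Function.Bijective ((toSheafify J F).app (op U)) := by
  constructor
  · intro x y hxy
    have hR := Presheaf.equalizerSieve_mem J (toSheafify J F) x y hxy
    obtain ⟨I, W, c, hc, -, hex⟩ := H _ hR
    obtain ⟨t, -, huniq⟩ := hex (fun k => F.map (c k).op y)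
    rw [huniq x (fun k => hc k), huniq y (fun k => rfl)]
  · intro t
    have hR := Presheaf.imageSieve_mem J (toSheafify J F) (U := op U) t
    obtain ⟨I, W, c, hc, hcov, hex⟩ := H _ hR
    choose s hs using hc
    obtain ⟨s0, hs0, -⟩ := hex s
    refine ⟨s0, ?_⟩
    have hsh : Presieve.IsSheaf J (sheafify J F) :=
      (isSheaf_iff_isSheaf_of_type _ _).1 ((presheafToSheaf J _).obj F).2
    have hFor : (Presieve.ofArrows W c).IsSheafFor (sheafify J F) :=
      (Presieve.isSheafFor_iff_generate _).mpr (hsh _ hcov)
    refine hFor.isSeparatedFor.ext ?_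
    rintro _ _ ⟨k⟩
    have h1 := NatTrans.naturality_apply (toSheafify J F) (c k).op s0
    rw [← h1, hs0 k]
    exact hs k

set_option backward.isDefEq.respectTransparency.types false in
/-- A disjoint open cover of the underlying scheme of `U` gives a covering of `U` in the small
pro-étale site (any index universe). -/
theorem cover_mem' {X : Scheme.{u}} (U : X.ProEt) {ι : Type*} (W : ι → U.left.Opens)
    (hc : (⋃ k, (W k : Set ↥U.left)) = Set.univ) :
    Sieve.generate (Presieve.ofArrows (fun k => Scheme.ProEt.mk ((W k).ι ≫ U.hom))
      (fun k => (MorphismProperty.Over.homMk (W k).ι :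
          Scheme.ProEt.mk ((W k).ι ≫ U.hom) ⟶ U))) ∈ Scheme.ProEt.topology X U := by
  apply Precoverage.generate_mem_toGrothendieck
  change (Presieve.ofArrows _ _).map (Scheme.ProEt.forget X ⋙ Over.forget X) ∈
      Scheme.proetalePrecoverage _
  rw [Presieve.map_ofArrows]
  have hU : TopologicalSpace.IsOpenCover W := by
    apply TopologicalSpace.IsOpenCover.mk
    apply TopologicalSpace.Opens.ext
    simpa using hc
  have := (U.left.openCoverOfIsOpenCover W hU).mem₀
  exact Scheme.zariskiPrecoverage_le_propQCPrecoverage _ this

set_option backward.isDefEq.respectTransparency.types false in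
theorem main {X : Scheme.{u}} (F : X.ProEtᵒᵖ ⥤ Type (u + 1))
    [PreservesFiniteProducts F] (W : X.ProEt) [IsAffine W.left] (hW : ProEtS.IsWC W) :
    Function.Bijective ((toSheafify (Scheme.ProEt.topology X) F).app (op W)) := by
  apply toSheafify_bijective_of_refinement
  intro R hR
  obtain ⟨n, W', -, h2, h3, h4⟩ := Groth.Agent.S0757.fwd W (Groth.Agent.S0715.bwd W hW) R hR
  refine ⟨Fin n, fun k => Scheme.ProEt.mk ((W' k).ι ≫ W.hom),
    fun k => MorphismProperty.Over.homMk (W' k).ι, h4, cover_mem' W W' h3, ?_⟩
  haveI : PreservesLimitsOfShape (Discrete (Fin n)) F := PreservesFiniteProducts.preserves n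
  exact Groth.Agent.Helper2.WCov.existsUnique_of_preservesProduct F _
    (Groth.Agent.Helper2.WCov.isColimitCofanOfDisjointCover W W' h2 h3)

end

/-- If a set-valued presheaf F on X_proet turns finite disjoint unions into products (it preserves
finite products of the opposite category), then on every affine weakly contractible object W its
sections already agree with those of its sheafification: F(W) -> F^#(W) is bijective. -/
theorem result {X : Scheme.{u}} (F : X.ProEtᵒᵖ ⥤ Type (u + 1))
    [PreservesFiniteProducts F] (W : X.ProEt) [IsAffine W.left] (hW : ProEtS.IsWC W) :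
    Function.Bijective ((toSheafify (Scheme.ProEt.topology X) F).app (op W)) := by
  exact Groth.Agent.S0725.main F W hW

end Groth.Agent.S0725
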