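import Groth.Statements.S0699
import Groth.Agent.Lib.Helper2.WLocal
-- import your own Groth.Agent.* helpers here

set_option autoImplicit false
open CategoryTheory CategoryTheory.Limits AlgebraicGeometry Opposite Topology
universe u
open ProEtW

namespace Groth.Agent.S0699

section
open Groth.Agent.Helper2 PrimeSpectrum

variable (A B : Type u) [CommRing A] [CommRing B] [Algebra A B]
  (h1 : EtPBC.IdentifiesLocalRings A B) (h2 : ProEtW.IsWLocal (PrimeSpectrum A))
  (h3 : ProEtW.IsWLocal (PrimeSpectrum B))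
  (h4 : ProEtW.IsWLocalMap (PrimeSpectrum.comap (algebraMap A B)))
  (h5 : Function.Bijective
      (PrimeSpectrum.continuous_comap (algebraMap A B)).connectedComponentsMap)

include h3 h5 in
/-- closed points: injective -/
theorem closed_inj (n₁ n₂ : PrimeSpectrum B) (hn₁ : IsClosed ({n₁} : Set (PrimeSpectrum B)))
    (hn₂ : IsClosed ({n₂} : Set (PrimeSpectrum B)))
    (h : comap (algebraMap A B) n₁ = comap (algebraMap A B) n₂) : n₁ = n₂ := by
  obtain ⟨hsp, hcl, huniq⟩ := h3
  haveI := hsp
  apply WLocal.closedPoint_eq_of_mk_eq hcl huniq hn₁ hn₂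
  apply h5.1
  rw [Continuous.connectedComponentsMap_mk, Continuous.connectedComponentsMap_mk, h]

include h2 h3 h4 h5 in
/-- closed points: surjective -/
theorem closed_surj (m : PrimeSpectrum A) (hm : IsClosed ({m} : Set (PrimeSpectrum A))) :
    ∃ n : PrimeSpectrum B, IsClosed ({n} : Set (PrimeSpectrum B)) ∧
      comap (algebraMap A B) n = m := by
  obtain ⟨c, hc⟩ := h5.2 (ConnectedComponents.mk m)
  obtain ⟨q, rfl⟩ := ConnectedComponents.surjective_coe c
  obtain ⟨n, ⟨hn, hqn⟩, -⟩ := h3.2.2 q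
  refine ⟨n, hn, ?_⟩
  obtain ⟨hsp, hcl, huniq⟩ := h2
  haveI := hsp
  apply WLocal.closedPoint_eq_of_mk_eq hcl huniq (h4.2 n hn) hm
  rw [← hc, WLocal.mk_eq_of_specializes hqn]
  rfl

include h2 h3 h4 h5 in
/-- key: a prime of `B` whose contraction lies in the maximal `m` lies in the closed point over `m` -/
theorem le_of_comap_le (q n : PrimeSpectrum B) (m : PrimeSpectrum A)
    (hm : IsClosed ({m} : Set (PrimeSpectrum A))) (hn : IsClosed ({n} : Set (PrimeSpectrum B)))
    (hnm : comap (algebraMap A B) n = m)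
    (hq : (comap (algebraMap A B) q) ⤳ m) : q ⤳ n := by
  obtain ⟨n', ⟨hn', hqn'⟩, -⟩ := h3.2.2 q
  have h6 : comap (algebraMap A B) q ⤳ comap (algebraMap A B) n' :=
    hqn'.map (PrimeSpectrum.continuous_comap _)
  obtain ⟨y, -, hy⟩ := h2.2.2 (comap (algebraMap A B) q)
  have e1 := hy (comap (algebraMap A B) n') ⟨h4.2 n' hn', h6⟩
  have e2 := hy m ⟨hm, hq⟩
  have : n' = n := closed_inj A B h3 h5 n' n hn' hn (by rw [hnm, e1, e2])
  rw [← this]; exact hqn'

include h1 h2 h3 h4 h5 in
theorem inj : Function.Injective (algebraMap A B) := by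
  rw [injective_iff_map_eq_zero]
  intro a ha
  by_contra hne
  -- annihilator of a is proper
  let I : Ideal A := Ideal.span {a} |>.annihilator
  have hI : ∀ s, s ∈ (⊥ : Submodule A A).colon (Ideal.span {a}) ↔ s * a = 0 := by
    intro s
    rw [Submodule.mem_colon]
    constructor
    · intro h
      have := h a (Ideal.subset_span rfl)
      simpa using this
    · intro h p hp
      obtain ⟨c, rfl⟩ := Ideal.mem_span_singleton'.mp hp
      rw [Submodule.mem_bot, smul_eq_mul, mul_comm c a, ← mul_assoc, h, zero_mul]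
  set J : Ideal A := (⊥ : Submodule A A).colon (Ideal.span {a}) with hJ
  have hJne : J ≠ ⊤ := by
    intro h
    have : (1 : A) ∈ J := h ▸ Submodule.mem_top
    rw [hI, one_mul] at this
    exact hne this
  obtain ⟨m, hm, hJm⟩ := Ideal.exists_le_maximal J hJne
  let mP : PrimeSpectrum A := ⟨m, hm.isPrime⟩
  have hmcl : IsClosed ({mP} : Set (PrimeSpectrum A)) :=
    (isClosed_singleton_iff_isMaximal mP).mpr hm
  obtain ⟨n, hn, hnm⟩ := closed_surj A B h2 h3 h4 h5 mP hmcl
  have hbij := h1 n
  have h0 : Localization.localRingHom (n.asIdeal.comap (algebraMap A B)) n.asIdeal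
      (algebraMap A B) rfl (algebraMap A _ a) = 0 := by
    rw [Localization.localRingHom_to_map, ha, map_zero]
  have h0' : algebraMap A (Localization.AtPrime (n.asIdeal.comap (algebraMap A B))) a = 0 :=
    hbij.1 (h0.trans (map_zero _).symm)
  obtain ⟨s, hs⟩ := (IsLocalization.map_eq_zero_iff
    (n.asIdeal.comap (algebraMap A B)).primeCompl _ a).mp h0'
  have hsJ : (s : A) ∈ J := (hI s).mpr hs
  have hsm : (s : A) ∈ m := hJm hsJ
  have hnm' : n.asIdeal.comap (algebraMap A B) = m := congrArg PrimeSpectrum.asIdeal hnm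
  exact s.2 (hnm' ▸ hsm)

include h1 h2 h3 h4 h5 in
theorem surj : Function.Surjective (algebraMap A B) := by
  intro b
  let I : Ideal A :=
    { carrier := {a | ∃ a', algebraMap A B a * b = algebraMap A B a'}
      zero_mem' := ⟨0, by simp⟩
      add_mem' := by
        rintro x y ⟨x', hx⟩ ⟨y', hy⟩
        exact ⟨x' + y', by rw [map_add, add_mul, hx, hy, map_add]⟩
      smul_mem' := by
        rintro c x ⟨x', hx⟩
        exact ⟨c * x', by rw [smul_eq_mul, map_mul, mul_assoc, hx, map_mul]⟩ }
  have hImem : ∀ a, a ∈ I ↔ ∃ a', algebraMap A B a * b = algebraMap A B a' := fun a => Iff.rfl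
  by_cases hI : I = ⊤
  · have : (1 : A) ∈ I := hI ▸ Submodule.mem_top
    obtain ⟨a', ha'⟩ := (hImem 1).mp this
    exact ⟨a', by rw [← ha', map_one, one_mul]⟩
  exfalso
  obtain ⟨m, hm, hIm⟩ := Ideal.exists_le_maximal I hI
  let mP : PrimeSpectrum A := ⟨m, hm.isPrime⟩
  have hmcl : IsClosed ({mP} : Set (PrimeSpectrum A)) :=
    (isClosed_singleton_iff_isMaximal mP).mpr hm
  obtain ⟨n, hn, hnm⟩ := closed_surj A B h2 h3 h4 h5 mP hmcl
  have hnm' : n.asIdeal.comap (algebraMap A B) = m := congrArg PrimeSpectrum.asIdeal hnm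
  have hbij := h1 n
  obtain ⟨x, hx⟩ := hbij.2 (algebraMap B (Localization.AtPrime n.asIdeal) b)
  obtain ⟨⟨a, s⟩, rfl⟩ := IsLocalization.mk'_surjective
    (n.asIdeal.comap (algebraMap A B)).primeCompl x
  rw [Localization.localRingHom_mk', IsLocalization.mk'_eq_iff_eq_mul, ← map_mul,
    IsLocalization.eq_iff_exists n.asIdeal.primeCompl] at hx
  obtain ⟨t, ht⟩ := hx
  -- t ∉ n, t * φ a = t * (b * φ s)
  have hs : (s : A) ∉ m := hnm' ▸ s.2
  -- find s₁ ∉ m and t' with t t' = φ s₁
  have hex : ∃ (s₁ : A) (t' : B), s₁ ∉ m ∧ (t : B) * t' = algebraMap A B s₁ := by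
    by_contra hcon
    push Not at hcon
    have hdisj : Disjoint ((Ideal.span {(t : B)} : Ideal B) : Set B)
        ((m.primeCompl.map (algebraMap A B) : Submonoid B) : Set B) := by
      rw [Set.disjoint_left]
      rintro y hy ⟨s₁, hs₁, rfl⟩
      obtain ⟨t', ht'⟩ := Ideal.mem_span_singleton'.mp hy
      exact hcon s₁ t' hs₁ (by rw [mul_comm]; exact ht')
    obtain ⟨q, hq, htq, hqdisj⟩ := Ideal.exists_le_prime_disjoint _ _ hdisj
    let qP : PrimeSpectrum B := ⟨q, hq⟩
    have hqm : comap (algebraMap A B) qP ⤳ mP := by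
      rw [← PrimeSpectrum.le_iff_specializes]
      intro a' ha'
      by_contra ham
      exact Set.disjoint_left.mp hqdisj ha' ⟨a', ham, rfl⟩
    have hqn : qP ⤳ n := le_of_comap_le A B h2 h3 h4 h5 qP n mP hmcl hn hnm hqm
    rw [← PrimeSpectrum.le_iff_specializes] at hqn
    exact t.2 (hqn (htq (Ideal.subset_span rfl)))
  obtain ⟨s₁, t', hs₁, htt'⟩ := hex
  have hmem : s₁ * s ∈ I := by
    rw [hImem]
    refine ⟨s₁ * a, ?_⟩
    rw [map_mul, map_mul, ← htt']
    have := congrArg (fun z => t' * z) ht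
    simp only at this
    calc (t : B) * t' * algebraMap A B s * b = t' * ((t : B) * (b * algebraMap A B s)) := by ring
      _ = t' * ((t : B) * algebraMap A B a) := by rw [← this]
      _ = (t : B) * t' * algebraMap A B a := by ring
  exact (hm.isPrime.mem_or_mem (hIm hmem)).elim hs₁ hs

include h1 h2 h3 h4 h5 in
theorem main : Function.Bijective (algebraMap A B) :=
  ⟨inj A B h1 h2 h3 h4 h5, surj A B h1 h2 h3 h4 h5⟩
end

/-- Let A -> B identify local rings, with Spec A and Spec B w-local, Spec B -> Spec A w-local, and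
pi_0(Spec B) -> pi_0(Spec A) bijective. Then A -> B is bijective. -/
theorem result (A B : Type u) [CommRing A] [CommRing B]
    [Algebra A B] (h1 : EtPBC.IdentifiesLocalRings A B) (h2 : ProEtW.IsWLocal (PrimeSpectrum A))
    (h3 : ProEtW.IsWLocal (PrimeSpectrum B))
    (h4 : ProEtW.IsWLocalMap (PrimeSpectrum.comap (algebraMap A B)))
    (h5 : Function.Bijective
      (PrimeSpectrum.continuous_comap (algebraMap A B)).connectedComponentsMap) :
    Function.Bijective (algebraMap A B) := by
  exact Groth.Agent.S0699.main A B h1 h2 h3 h4 h5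

end Groth.Agent.S0699
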