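import Groth.Statements.S0678
import Mathlib
import Groth.Agent.Lib.Helper2.WLoc1
import Groth.Agent.Lib.Helper2.WLoc4
import Groth.Agent.Lib.Helper2.WLocal2
import Groth.Agent.Lib.Helper2.IdLoc2
import Groth.Agent.S0699
-- import your own Groth.Agent.* helpers here

set_option autoImplicit false
open CategoryTheory CategoryTheory.Limits AlgebraicGeometry Opposite Topology
universe u
open ProEtW

namespace Groth.Agent.S0678

section
open CategoryTheory CategoryTheory.Limits AlgebraicGeometry Opposite Topology
open Groth.Agent.Helper2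

/-- a ring with an algebra retraction from a ring with w-local spectrum has w-local spectrum -/
theorem isWLocal_of_retract (A R : Type u) [CommRing A] [CommRing R] [Algebra A R]
    (hR : ProEtW.IsWLocal (PrimeSpectrum R)) (ρ : R →ₐ[A] A) :
    ProEtW.IsWLocal (PrimeSpectrum A) := by
  have hsurj : Function.Surjective ρ.toRingHom := fun a => ⟨algebraMap A R a, ρ.commutes a⟩
  have hj := PrimeSpectrum.isClosedEmbedding_comap_of_surjective A ρ.toRingHom hsurj
  have hcl : ∀ x : PrimeSpectrum A, IsClosed ({x} : Set (PrimeSpectrum A)) ↔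
      IsClosed ({PrimeSpectrum.comap ρ.toRingHom x} : Set (PrimeSpectrum R)) := by
    intro x
    rw [hj.isClosed_iff_image_isClosed, Set.image_singleton]
  refine ⟨inferInstance, ?_, ?_⟩
  · have e : {x : PrimeSpectrum A | IsClosed ({x} : Set (PrimeSpectrum A))} =
        PrimeSpectrum.comap ρ.toRingHom ⁻¹' {w | IsClosed ({w} : Set (PrimeSpectrum R))} := by
      ext x
      exact hcl x
    rw [e]
    exact hR.2.1.preimage hj.continuous
  · intro x
    obtain ⟨m, hm, hxm⟩ := Ideal.exists_le_maximal x.asIdeal x.2.ne_top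
    have hmc : IsClosed ({(⟨m, hm.isPrime⟩ : PrimeSpectrum A)} : Set (PrimeSpectrum A)) :=
      (PrimeSpectrum.isClosed_singleton_iff_isMaximal _).2 hm
    have hxs : x ⤳ (⟨m, hm.isPrime⟩ : PrimeSpectrum A) :=
      (PrimeSpectrum.le_iff_specializes _ _).1 hxm
    refine ⟨⟨m, hm.isPrime⟩, ⟨hmc, hxs⟩, ?_⟩
    rintro y' ⟨hy'c, hxy'⟩
    have h1 := hxs.map hj.continuous
    have h2 := hxy'.map hj.continuous
    have := (hR.2.2 (PrimeSpectrum.comap ρ.toRingHom x)).unique ⟨(hcl _).1 hy'c, h2⟩
      ⟨(hcl _).1 hmc, h1⟩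
    exact hj.injective this

theorem compactSpace_pi0 (X : Type u) [TopologicalSpace X] [CompactSpace X] :
    CompactSpace (_root_.ConnectedComponents X) :=
  ConnectedComponents.isQuotientMap_coe.surjective.compactSpace ConnectedComponents.continuous_coe

/-- the direction `w-local + e.d. ⇒ retractions` -/
theorem retraction_of_wlocal_ed (A : Type u) [CommRing A]
    (hW : ProEtW.IsWLocal (PrimeSpectrum A))
    (hE : ExtremallyDisconnected (_root_.ConnectedComponents (PrimeSpectrum A)))
    (B : Type u) [CommRing B] [Algebra A B] (hff : Module.FaithfullyFlat A B)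
    (hZ : EtPBC.IsIndZariski A B) : Nonempty (B →ₐ[A] A) := by
  haveI : T2Space (_root_.ConnectedComponents (PrimeSpectrum A)) := WLocal.t2Space_pi0 hW
  haveI : CompactSpace (_root_.ConnectedComponents (PrimeSpectrum A)) := compactSpace_pi0 _
  let φ : WLoc.Tc B → PrimeSpectrum A :=
    fun y => PrimeSpectrum.comap (algebraMap A B) (WLoc.o B y)
  have hφ : Continuous φ := (PrimeSpectrum.continuous_comap _).comp (WLoc.continuous_o B)
  let E' : Set (WLoc.Tc B) := φ ⁻¹' {x | IsClosed ({x} : Set (PrimeSpectrum A))}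
  have hE'cl : IsClosed E' := hW.2.1.preimage hφ
  haveI : CompactSpace E' := isCompact_iff_compactSpace.mp hE'cl.isCompact
  let g : E' → _root_.ConnectedComponents (PrimeSpectrum A) :=
    fun y => ConnectedComponents.mk (φ y.val)
  have hg : Continuous g :=
    ConnectedComponents.continuous_coe.comp (hφ.comp continuous_subtype_val)
  have hgs : Function.Surjective g := by
    intro c
    obtain ⟨x, rfl⟩ := ConnectedComponents.surjective_coe c
    obtain ⟨y, hy⟩ := PrimeSpectrum.comap_surjective_of_faithfullyFlat (A := A) (B := B)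
      (WLocal.cpt hW x)
    refine ⟨⟨WLoc.ι B y, ?_⟩, ?_⟩
    · change IsClosed ({PrimeSpectrum.comap (algebraMap A B) y} : Set (PrimeSpectrum A))
      rw [hy]
      exact WLocal.cpt_closed hW x
    · change ConnectedComponents.mk (PrimeSpectrum.comap (algebraMap A B) y) = _
      rw [hy]
      exact (WLocal.mk_eq_of_specializes (WLocal.cpt_spec hW x)).symm
  obtain ⟨σ, hσc, hσ⟩ := (CompactT2.ExtremallyDisconnected.projective :
    CompactT2.Projective (_root_.ConnectedComponents (PrimeSpectrum A))) continuous_id hg hgs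
  let r : C(_root_.ConnectedComponents (PrimeSpectrum A), WLoc.Tc B) :=
    ⟨fun t => (σ t).val, continuous_subtype_val.comp hσc⟩
  haveI tower : IsScalarTower A B (WLoc.Br B r) :=
    IsScalarTower.of_algebraMap_eq (R := A) (S := B) (A := WLoc.Br B r) (fun a => rfl)
  have h1 : EtPBC.IdentifiesLocalRings A (WLoc.Br B r) :=
    IdLoc.identifies_comp A B (WLoc.Br B r) (IdLoc.identifies_of_isIndZariski hZ)
      (IdLoc.identifies_localization (WLoc.Sr B r))
  have h3 : ProEtW.IsWLocal (PrimeSpectrum (WLoc.Br B r)) := WLoc.isWLocal_r B r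
  have hcomap : ∀ y : PrimeSpectrum (WLoc.Br B r),
      PrimeSpectrum.comap (algebraMap A (WLoc.Br B r)) y =
        PrimeSpectrum.comap (algebraMap A B) (WLoc.lmr B r y).1 := by
    intro y
    rw [WLoc.lmr_fst, IsScalarTower.algebraMap_eq A B (WLoc.Br B r)]
    rfl
  have hσcl : ∀ t, IsClosed ({PrimeSpectrum.comap (algebraMap A B) (WLoc.oo B r t)} :
      Set (PrimeSpectrum A)) := fun t => (σ t).2
  have hσmk : ∀ t, ConnectedComponents.mk (PrimeSpectrum.comap (algebraMap A B) (WLoc.oo B r t)) =
      t := fun t => congrFun hσ t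
  have h4 : ProEtW.IsWLocalMap (PrimeSpectrum.comap (algebraMap A (WLoc.Br B r))) := by
    refine ⟨WLoc.isSpectralMap_comap _, ?_⟩
    intro y hy
    rw [WLoc.isClosed_singleton_iff_r] at hy
    rw [hcomap, hy]
    exact hσcl _
  have hmk : ∀ y : PrimeSpectrum (WLoc.Br B r),
      (ConnectedComponents.mk (PrimeSpectrum.comap (algebraMap A (WLoc.Br B r)) y) :
        _root_.ConnectedComponents (PrimeSpectrum A)) = WLoc.p2 B r y := by
    intro y
    rw [hcomap, ← hσmk (WLoc.p2 B r y)]
    apply WLocal.mk_eq_of_specializes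
    rw [← PrimeSpectrum.le_iff_specializes]
    exact Ideal.comap_mono (WLoc.lmr_le B r y)
  have h5 : Function.Bijective
      (PrimeSpectrum.continuous_comap (algebraMap A (WLoc.Br B r))).connectedComponentsMap := by
    have e : (PrimeSpectrum.continuous_comap (algebraMap A (WLoc.Br B r))).connectedComponentsMap =
        ⇑(WLoc.pi0Homeo B r) := by
      funext c
      obtain ⟨y, rfl⟩ := ConnectedComponents.surjective_coe c
      exact hmk y
    rw [e]
    exact (WLoc.pi0Homeo B r).bijective
  have hbij := Groth.Agent.S0699.result A (WLoc.Br B r) h1 hW h3 h4 h5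
  let e : A ≃ₐ[A] WLoc.Br B r := AlgEquiv.ofBijective (Algebra.ofId A (WLoc.Br B r)) hbij
  exact ⟨e.symm.toAlgHom.comp (IsScalarTower.toAlgHom A B (WLoc.Br B r))⟩

/-- the direction `retractions ⇒ e.d.` (given w-locality) -/
theorem ed_of_retractions (A : Type u) [CommRing A] (hR : ProEtW.HasIndZariskiRetractions A)
    (hW : ProEtW.IsWLocal (PrimeSpectrum A)) :
    ExtremallyDisconnected (_root_.ConnectedComponents (PrimeSpectrum A)) := by
  haveI : T2Space (_root_.ConnectedComponents (PrimeSpectrum A)) := WLocal.t2Space_pi0 hW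
  haveI : CompactSpace (_root_.ConnectedComponents (PrimeSpectrum A)) := compactSpace_pi0 _
  let D : Type u := WithTopology (_root_.ConnectedComponents (PrimeSpectrum A)) ⊥
  haveI : DiscreteTopology D := ⟨rfl⟩
  let q₀ : D → _root_.ConnectedComponents (PrimeSpectrum A) := fun d => WithTopology.ofTopology d
  have hq₀ : Continuous q₀ := continuous_of_discreteTopology
  haveI : ExtremallyDisconnected (StoneCech D) :=
    CompactT2.Projective.extremallyDisconnected StoneCech.projective
  let q : StoneCech D → _root_.ConnectedComponents (PrimeSpectrum A) := stoneCechExtend hq₀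
  have hq : Continuous q := continuous_stoneCechExtend hq₀
  have hqs : Function.Surjective q := by
    intro c
    refine ⟨stoneCechUnit (WithTopology.toTopology ⊥ c), ?_⟩
    change stoneCechExtend hq₀ (stoneCechUnit _) = c
    rw [stoneCechExtend_stoneCechUnit]
  haveI := WLocal.totallySeparatedSpace_Xc hW
  have hrc : Continuous (fun t' : StoneCech D =>
      WLoc.ι A ((WLocal.pi0Equiv hW (q t')).val)) :=
    (WLoc.continuous_ι_val A hW.2.1).comp ((WLocal.pi0Equiv hW).continuous.comp hq)
  let r : C(StoneCech D, WLoc.Tc A) := ⟨_, hrc⟩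
  have hoo : ∀ t', WLoc.oo A r t' = (WLocal.pi0Equiv hW (q t')).val := fun t' => rfl
  have hff : Module.FaithfullyFlat A (WLoc.Br A r) := by
    apply WLoc.faithfullyFlat_r'
    intro x
    obtain ⟨t', ht'⟩ := hqs (ConnectedComponents.mk x)
    refine ⟨t', ?_⟩
    rw [hoo, ht', WLocal.pi0Equiv_mk]
    exact (PrimeSpectrum.le_iff_specializes _ _).2 (WLocal.cpt_spec hW x)
  obtain ⟨ρ⟩ := hR (WLoc.Br A r) hff (WLoc.isIndZariski_r A r)
  let τ : PrimeSpectrum A → StoneCech D :=
    fun x => WLoc.p2 A r (PrimeSpectrum.comap ρ.toRingHom x)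
  have hτ : Continuous τ := (WLoc.continuous_p2 A r).comp (PrimeSpectrum.continuous_comap _)
  have hτq : ∀ x, q (τ x) = ConnectedComponents.mk x := by
    intro x
    have h1 : (WLoc.lmr A r (PrimeSpectrum.comap ρ.toRingHom x)).1 = x := by
      rw [WLoc.lmr_fst]
      apply PrimeSpectrum.ext
      ext a
      change ρ (algebraMap A (WLoc.Br A r) a) ∈ x.asIdeal ↔ a ∈ x.asIdeal
      rw [ρ.commutes]
      rfl
    have h2 := WLoc.lmr_le A r (PrimeSpectrum.comap ρ.toRingHom x)
    rw [h1] at h2
    have h3 : x ⤳ (WLocal.pi0Equiv hW (q (τ x))).val :=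
      (PrimeSpectrum.le_iff_specializes _ _).1 h2
    rw [WLocal.mk_eq_of_specializes h3]
    exact (WLocal.mk_pi0Equiv hW _).symm
  let σ : _root_.ConnectedComponents (PrimeSpectrum A) → StoneCech D := hτ.connectedComponentsLift
  have hσc : Continuous σ := hτ.connectedComponentsLift_continuous
  have hσq : ∀ c, q (σ c) = c := by
    intro c
    obtain ⟨x, rfl⟩ := ConnectedComponents.surjective_coe c
    exact hτq x
  apply CompactT2.Projective.extremallyDisconnected
  intro Y Z _ _ _ _ _ _ f g hf hg hgs
  obtain ⟨h', hh'c, hh'⟩ := (StoneCech.projective : CompactT2.Projective (StoneCech D))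
    (hf.comp hq) hg hgs
  refine ⟨h' ∘ σ, hh'c.comp hσc, ?_⟩
  funext c
  have := congrFun hh' (σ c)
  simp only [Function.comp_apply] at this ⊢
  rw [this, hσq]

theorem main (A : Type u) [CommRing A] :
    ProEtW.HasIndZariskiRetractions A ↔
      (ProEtW.IsWLocal (PrimeSpectrum A) ∧
        ExtremallyDisconnected (_root_.ConnectedComponents (PrimeSpectrum A))) := by
  constructor
  · intro hR
    obtain ⟨ρ⟩ := hR (WLoc.Aw A) (WLoc.faithfullyFlat A) (WLoc.isIndZariski A)
    have hW := isWLocal_of_retract A (WLoc.Aw A) (WLoc.isWLocal A) ρ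
    exact ⟨hW, ed_of_retractions A hR hW⟩
  · rintro ⟨hW, hE⟩ B _ _ hff hZ
    exact retraction_of_wlocal_ed A hW hE B hff hZ

end

/-- For a ring A, every faithfully flat ind-Zariski A-algebra (filtered colimit of local isomorphisms)
has an A-algebra retraction if and only if Spec A is w-local and the space of connected components
of Spec A is extremally disconnected. -/
theorem result (A : Type u) [CommRing A] :
    ProEtW.HasIndZariskiRetractions A ↔
      (ProEtW.IsWLocal (PrimeSpectrum A) ∧
        ExtremallyDisconnected (_root_.ConnectedComponents (PrimeSpectrum A))) := by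
  exact Groth.Agent.S0678.main A

end Groth.Agent.S0678
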