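import Groth.Statements.S0677
import Mathlib
import Groth.Agent.Lib.Helper2.Oli5
import Groth.Agent.Lib.Helper2.WC1
import Groth.Agent.S0692
import Groth.Agent.S0700
import Groth.Agent.S0736
import Groth.Agent.S0737
import Groth.Agent.S0678
-- import your own Groth.Agent.* helpers here

set_option autoImplicit false
open CategoryTheory CategoryTheory.Limits AlgebraicGeometry Opposite Topology
universe u
open ProEtW

namespace Groth.Agent.S0677

section
open CategoryTheory CategoryTheory.Limits AlgebraicGeometry Opposite Topology
open IsLocalRing Groth.Agent.Helper2.Oli Groth.Agent.Helper2.WC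

/-- a retract (through local homomorphisms) of a strictly henselian local ring is strictly
henselian -/
theorem strictHens_of_retract {R S : Type u} [CommRing R] [CommRing S] [IsLocalRing R]
    (hS : EtCoh.IsStrictlyHenselianLocalRing S) (i : R →+* S) (ρ : S →+* R) [IsLocalHom i]
    [IsLocalHom ρ] (h : ρ.comp i = RingHom.id R) : EtCoh.IsStrictlyHenselianLocalRing R := by
  obtain ⟨hH, hSep⟩ := hS
  have hρi : ∀ a, ρ (i a) = a := fun a => RingHom.congr_fun h a
  have hR : HenselianLocalRing R :=
    { is_henselian := by
        intro f hf a₀ h1 h2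
        have h1' : (f.map i).eval (i a₀) ∈ maximalIdeal S := by
          rw [Polynomial.eval_map_apply, mem_maximalIdeal, mem_nonunits_iff, isUnit_map_iff]
          exact h1
        have h2' : IsUnit ((f.map i).derivative.eval (i a₀)) := by
          rw [Polynomial.derivative_map, Polynomial.eval_map_apply]
          exact h2.map i
        obtain ⟨s, hs, hsa⟩ := HenselianLocalRing.is_henselian (f.map i) (hf.map i) (i a₀) h1' h2'
        refine ⟨ρ s, ?_, ?_⟩
        · have e : f = (f.map i).map ρ := by
            rw [Polynomial.map_map, h, Polynomial.map_id]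
          rw [Polynomial.IsRoot.def] at hs ⊢
          rw [e, Polynomial.eval_map_apply, hs, map_zero]
        · have : ρ s - a₀ = ρ (s - i a₀) := by rw [map_sub, hρi]
          rw [this, mem_maximalIdeal, mem_nonunits_iff, isUnit_map_iff]
          exact hsa }
  refine ⟨hR, ?_⟩
  let φ : ResidueField S →+* ResidueField R := ResidueField.map ρ
  have hφ : Function.Bijective φ := by
    refine ⟨φ.injective, fun x => ⟨ResidueField.map i x, ?_⟩⟩
    obtain ⟨a, rfl⟩ := IsLocalRing.residue_surjective x
    change ResidueField.map ρ (ResidueField.map i (residue R a)) = residue R a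
    rw [ResidueField.map_residue, ResidueField.map_residue, hρi]
  exact isSepClosed_of_ringEquiv (RingEquiv.ofBijective φ hφ)

/-- w-contractible rings have strictly henselian local rings at maximal ideals -/
theorem strictHens_of_wContractible (A : Type u) [CommRing A] (hA : EtPBC.IsWContractible A)
    (m : Ideal A) [hm : m.IsMaximal] :
    EtCoh.IsStrictlyHenselianLocalRing (Localization.AtPrime m) := by
  obtain ⟨C, _, _, hff, hie, hw, hcl, hsh⟩ := Groth.Agent.S0692.stepC A
  obtain ⟨ρ⟩ := hA C hff (Groth.Agent.S0736.result A C hie)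
  have hsurj : Function.Surjective ρ.toRingHom := fun a => ⟨algebraMap A C a, ρ.commutes a⟩
  let m' : Ideal C := m.comap ρ.toRingHom
  haveI hm' : m'.IsMaximal := Ideal.comap_isMaximal_of_surjective ρ.toRingHom hsurj
  have hcomp : ρ.toRingHom.comp (algebraMap A C) = RingHom.id A := by
    ext a; exact ρ.commutes a
  have hm'' : m = m'.comap (algebraMap A C) := by
    change m = (m.comap ρ.toRingHom).comap (algebraMap A C)
    rw [Ideal.comap_comap, hcomp, Ideal.comap_id]
  let i' := Localization.localRingHom m m' (algebraMap A C) hm''
  let ρ' := Localization.localRingHom m' m ρ.toRingHom rfl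
  haveI : IsLocalHom i' := Localization.isLocalHom_localRingHom m m' (algebraMap A C) hm''
  haveI : IsLocalHom ρ' := Localization.isLocalHom_localRingHom m' m ρ.toRingHom rfl
  refine strictHens_of_retract (hsh m') i' ρ' ?_
  rw [← Localization.localRingHom_comp]
  have := Localization.localRingHom_id m
  convert this using 2
  

/-- the direction `(a), (b), (c) ⇒ w-contractible` -/
theorem wContractible_of (A : Type u) [CommRing A]
    (hW : ProEtW.IsWLocal (PrimeSpectrum A))
    (hE : ExtremallyDisconnected (_root_.ConnectedComponents (PrimeSpectrum A)))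
    (hsh : ∀ (m : Ideal A) [m.IsMaximal],
      EtCoh.IsStrictlyHenselianLocalRing (Localization.AtPrime m)) :
    EtPBC.IsWContractible A := by
  intro B _ _ hff hwe
  haveI := hff
  haveI := hwe
  obtain ⟨I, hIrad, hI0⟩ := Groth.Agent.S0692.closed_ideal A hW
  obtain ⟨hV, D, _, _, _, _, hizD, hbijD, hwD, hwmD, hclD⟩ :=
    Groth.Agent.S0737.result A B hW I hIrad hI0 algRes_of_weaklyEtale
  haveI : Algebra.WeaklyEtale B D :=
    Groth.Agent.S0736.result B D (isIndEtale_of_isIndZariski hizD)
  haveI : Algebra.WeaklyEtale A D := Algebra.WeaklyEtale.trans A B D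
  have hmax : ∀ (m : Ideal D), m.IsMaximal → (m.comap (algebraMap A D)).IsMaximal := by
    intro m hm
    have h1 := hwmD.2 ⟨m, hm.isPrime⟩
      ((PrimeSpectrum.isClosed_singleton_iff_isMaximal _).mpr hm)
    exact (PrimeSpectrum.isClosed_singleton_iff_isMaximal _).mp h1
  have hid : EtPBC.IdentifiesLocalRings A D := identifies_of_weaklyEtale hmax hsh
  have hZ : EtPBC.IsIndZariski A D := Groth.Agent.S0700.result A D hid hW hwD hwmD
  have hffD : Module.FaithfullyFlat A D := by
    refine ⟨fun m hm => ?_⟩
    -- a prime of `D` over `m`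
    obtain ⟨q, hq⟩ := PrimeSpectrum.comap_surjective_of_faithfullyFlat (A := A) (B := B)
      ⟨m, hm.isPrime⟩
    have hmI : I ≤ m := by
      have : (⟨m, hm.isPrime⟩ : PrimeSpectrum A) ∈ PrimeSpectrum.zeroLocus (R := A) I := by
        rw [hI0]
        exact (PrimeSpectrum.isClosed_singleton_iff_isMaximal _).mpr hm
      exact (PrimeSpectrum.mem_zeroLocus _ _).mp this
    have hqI : I.map (algebraMap A B) ≤ q.asIdeal := by
      rw [Ideal.map_le_iff_le_comap]
      have h2 : (PrimeSpectrum.comap (algebraMap A B) q).asIdeal = m := by rw [hq]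
      intro x hx
      have : x ∈ (PrimeSpectrum.comap (algebraMap A B) q).asIdeal := by rw [h2]; exact hmI hx
      exact this
    obtain ⟨z, hz⟩ := exists_prime_of_bij (I.map (algebraMap A B)) hbijD q hqI
    intro htop
    have h3 : m.map (algebraMap A D) ≤ z.asIdeal := by
      rw [Ideal.map_le_iff_le_comap]
      intro x hx
      change algebraMap A D x ∈ z.asIdeal
      rw [IsScalarTower.algebraMap_apply A B D]
      have h4 : algebraMap A B x ∈ q.asIdeal := by
        have h2 : (PrimeSpectrum.comap (algebraMap A B) q).asIdeal = m := by rw [hq]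
        have : x ∈ (PrimeSpectrum.comap (algebraMap A B) q).asIdeal := by rw [h2]; exact hx
        exact this
      rw [← hz] at h4
      exact h4
    have h5 : (1 : D) ∈ m • (⊤ : Submodule A D) := by rw [htop]; trivial
    have h6 : (1 : D) ∈ m.map (algebraMap A D) := by
      have hle : m • (⊤ : Submodule A D) ≤
          (m.map (algebraMap A D)).restrictScalars A := by
        rw [Submodule.smul_le]
        intro r hr n _
        change r • n ∈ m.map (algebraMap A D)
        rw [Algebra.smul_def]
        exact Ideal.mul_mem_right _ _ (Ideal.mem_map_of_mem _ hr)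
      exact hle h5
    exact z.2.ne_top ((Ideal.eq_top_iff_one _).mpr (h3 h6))
  obtain ⟨r⟩ := (Groth.Agent.S0678.result A).mpr ⟨hW, hE⟩ D hffD hZ
  exact ⟨r.comp (IsScalarTower.toAlgHom A B D)⟩

theorem main (A : Type u) [CommRing A] :
    EtPBC.IsWContractible A ↔
      (ProEtW.IsWLocal (PrimeSpectrum A) ∧
        ExtremallyDisconnected (_root_.ConnectedComponents (PrimeSpectrum A)) ∧
        ∀ (m : Ideal A) [m.IsMaximal], EtCoh.IsStrictlyHenselianLocalRing (Localization.AtPrime m)) := by
  constructor
  · intro hA
    have hZ : ProEtW.HasIndZariskiRetractions A := by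
      intro B _ _ hff hiz
      exact hA B hff (Groth.Agent.S0736.result A B (isIndEtale_of_isIndZariski hiz))
    obtain ⟨hW, hE⟩ := (Groth.Agent.S0678.result A).mp hZ
    exact ⟨hW, hE, fun m _ => strictHens_of_wContractible A hA m⟩
  · rintro ⟨hW, hE, hsh⟩
    exact wContractible_of A hW hE hsh

end

/-- A ring A is w-contractible (every faithfully flat weakly etale A-algebra has a retraction) if and
only if (a) Spec A is w-local, (b) the space of connected components of Spec A is extremally
disconnected, and (c) A_m is strictly henselian for every maximal ideal m. -/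
theorem result (A : Type u) [CommRing A] :
    EtPBC.IsWContractible A ↔
      (ProEtW.IsWLocal (PrimeSpectrum A) ∧
        ExtremallyDisconnected (_root_.ConnectedComponents (PrimeSpectrum A)) ∧
        ∀ (m : Ideal A) [m.IsMaximal], EtCoh.IsStrictlyHenselianLocalRing (Localization.AtPrime m)) := by
  exact Groth.Agent.S0677.main A

end Groth.Agent.S0677
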