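import Groth.Statements.S0177
import Mathlib
import Groth.Prelude.Def_ProEtW
import Groth.Prelude.Def_EtBase
import Groth.Agent.S0677
import Groth.Agent.S0734
import Groth.Agent.Lib.Helper2.WLoc2
import Groth.Agent.Lib.Helper2.WLoc4
import Groth.Agent.Lib.Helper2.WLocal2
import Groth.Agent.Lib.Helper2.IdLoc1
-- import your own Groth.Agent.* helpers here

set_option autoImplicit false
universe u
open CategoryTheory CategoryTheory.Limits AlgebraicGeometry Opposite
open EtPBC

namespace Groth.Agent.S0177

section
open CategoryTheory CategoryTheory.Limits AlgebraicGeometry Opposite Topology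
open IsLocalRing Groth.Agent.Helper2 Groth.Agent.Helper2.WC

/-- a w-local ring with strictly henselian local rings at closed points has a faithfully flat
ind-Zariski cover which is w-contractible -/
theorem exists_wContractible_cover (C : Type u) [CommRing C]
    (hW : ProEtW.IsWLocal (PrimeSpectrum C))
    (hsh : ∀ (m : Ideal C) [m.IsMaximal],
      EtCoh.IsStrictlyHenselianLocalRing (Localization.AtPrime m)) :
    ∃ (D : Type u) (_ : CommRing D) (_ : Algebra C D),
      Module.FaithfullyFlat C D ∧ EtPBC.IsIndZariski C D ∧ EtPBC.IsWContractible D := by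
  haveI : T2Space (_root_.ConnectedComponents (PrimeSpectrum C)) := WLocal.t2Space_pi0 hW
  haveI : CompactSpace (_root_.ConnectedComponents (PrimeSpectrum C)) :=
    Groth.Agent.S0678.compactSpace_pi0 _
  let D₀ : Type u := WithTopology (_root_.ConnectedComponents (PrimeSpectrum C)) ⊥
  haveI : DiscreteTopology D₀ := ⟨rfl⟩
  let q₀ : D₀ → _root_.ConnectedComponents (PrimeSpectrum C) := fun d => WithTopology.ofTopology d
  have hq₀ : Continuous q₀ := continuous_of_discreteTopology
  haveI : ExtremallyDisconnected (StoneCech D₀) :=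
    CompactT2.Projective.extremallyDisconnected StoneCech.projective
  let q : StoneCech D₀ → _root_.ConnectedComponents (PrimeSpectrum C) := stoneCechExtend hq₀
  have hq : Continuous q := continuous_stoneCechExtend hq₀
  have hqs : Function.Surjective q := by
    intro c
    refine ⟨stoneCechUnit (WithTopology.toTopology ⊥ c), ?_⟩
    change stoneCechExtend hq₀ (stoneCechUnit _) = c
    rw [stoneCechExtend_stoneCechUnit]
  haveI := WLocal.totallySeparatedSpace_Xc hW
  have hrc : Continuous (fun t' : StoneCech D₀ =>
      WLoc.ι C ((WLocal.pi0Equiv hW (q t')).val)) :=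
    (WLoc.continuous_ι_val C hW.2.1).comp ((WLocal.pi0Equiv hW).continuous.comp hq)
  let r : C(StoneCech D₀, WLoc.Tc C) := ⟨_, hrc⟩
  have hoo : ∀ t', WLoc.oo C r t' = (WLocal.pi0Equiv hW (q t')).val := fun t' => rfl
  have hff : Module.FaithfullyFlat C (WLoc.Br C r) := by
    apply WLoc.faithfullyFlat_r'
    intro x
    obtain ⟨t', ht'⟩ := hqs (ConnectedComponents.mk x)
    refine ⟨t', ?_⟩
    rw [hoo, ht', WLocal.pi0Equiv_mk]
    exact (PrimeSpectrum.le_iff_specializes _ _).2 (WLocal.cpt_spec hW x)
  refine ⟨WLoc.Br C r, inferInstance, inferInstance, hff, WLoc.isIndZariski_r C r, ?_⟩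
  apply Groth.Agent.S0677.wContractible_of
  · exact WLoc.isWLocal_r C r
  · exact extremallyDisconnected_of_homeo (WLoc.pi0Homeo C r).symm
  · intro n hn
    have hid := IdLoc.identifies_localization (WLoc.Sr C r) ⟨n, hn.isPrime⟩
    have hcl : IsClosed ({(⟨n, hn.isPrime⟩ : PrimeSpectrum (WLoc.Br C r))} :
        Set (PrimeSpectrum (WLoc.Br C r))) :=
      (PrimeSpectrum.isClosed_singleton_iff_isMaximal _).mpr hn
    rw [WLoc.isClosed_singleton_iff_r, WLoc.lmr_fst] at hcl
    have hmax : (n.comap (algebraMap C (WLoc.Br C r))).IsMaximal := by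
      have h1 : IsClosed ({PrimeSpectrum.comap (algebraMap C (WLoc.Br C r))
          (⟨n, hn.isPrime⟩ : PrimeSpectrum (WLoc.Br C r))} : Set (PrimeSpectrum C)) := by
        rw [hcl, hoo]
        exact (WLocal.pi0Equiv hW _).2
      exact (PrimeSpectrum.isClosed_singleton_iff_isMaximal _).mp h1
    haveI := hmax
    exact strictHens_of_ringEquiv (RingEquiv.ofBijective _ hid) (hsh _)

theorem main (A : Type u) [CommRing A] :
    ∃ (D : Type u) (_ : CommRing D) (_ : Algebra A D),
      Module.FaithfullyFlat A D ∧ EtPBC.IsIndEtale A D ∧ EtPBC.IsWContractible D := by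
  obtain ⟨C, _, _, hff, hie, hw, hcl, hsh⟩ := Groth.Agent.S0692.stepC A
  obtain ⟨D, _, _, hffD, hizD, hwc⟩ := exists_wContractible_cover C hw hsh
  letI : Algebra A D := ((algebraMap C D).comp (algebraMap A C)).toAlgebra
  haveI : IsScalarTower A C D := .of_algebraMap_eq fun _ => rfl
  haveI := hff
  haveI := hffD
  exact ⟨D, inferInstance, inferInstance, Module.FaithfullyFlat.trans A C D,
    Groth.Agent.S0734.result A C D hie (isIndEtale_of_isIndZariski hizD), hwc⟩

end

/-- For every ring A there is a faithfully flat ind-etale A-algebra D which is w-contractible, i.e.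
every faithfully flat weakly etale D-algebra has a D-algebra retraction. -/
theorem result (A : Type u) [CommRing A] :
    ∃ (D : Type u) (_ : CommRing D) (_ : Algebra A D),
      Module.FaithfullyFlat A D ∧ EtPBC.IsIndEtale A D ∧ EtPBC.IsWContractible D := by
  exact Groth.Agent.S0177.main A

end Groth.Agent.S0177
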