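import Groth.Statements.S7286
import Mathlib
import Groth.Agent.S0177
import Groth.Agent.S0736
import Groth.Agent.Lib.Helper1.WE2
import Groth.Agent.Lib.Helper3.WEStalk
-- import your own Groth.Agent.* helpers here

set_option autoImplicit false
open CategoryTheory CategoryTheory.Limits AlgebraicGeometry Opposite
universe u
open ProEtS

namespace Groth.Agent.S7286

section
open CategoryTheory CategoryTheory.Limits AlgebraicGeometry Opposite Topology

/-- w-contractibility is invariant under ring isomorphisms -/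
theorem isWContractible_of_ringEquiv {A A' : Type u} [CommRing A] [CommRing A'] (e : A ≃+* A')
    (h : EtPBC.IsWContractible A) : EtPBC.IsWContractible A' := by
  intro B' _ _ hff hwe
  letI : Algebra A A' := e.toRingHom.toAlgebra
  letI : Algebra A B' := ((algebraMap A' B').comp e.toRingHom).toAlgebra
  haveI : IsScalarTower A A' B' := IsScalarTower.of_algebraMap_eq (fun _ => rfl)
  have hbij : Function.Bijective (algebraMap A A') := e.bijective
  haveI : Module.FaithfullyFlat A A' :=
    RingHom.faithfullyFlat_algebraMap_iff.mp (RingHom.FaithfullyFlat.of_bijective hbij)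
  haveI : Algebra.WeaklyEtale A A' :=
    Groth.Agent.Helper3.WEStalk.weaklyEtale_of_surjective hbij.2
  haveI := hff
  haveI := hwe
  have hff' : Module.FaithfullyFlat A B' := Module.FaithfullyFlat.trans A A' B'
  have hwe' : Algebra.WeaklyEtale A B' := Algebra.WeaklyEtale.trans A A' B'
  obtain ⟨r⟩ := h B' hff' hwe'
  refine ⟨{ toRingHom := e.toRingHom.comp r.toRingHom, commutes' := ?_ }⟩
  intro a'
  obtain ⟨a, rfl⟩ := e.surjective a'
  change e (r (algebraMap A' B' (e a))) = e a
  have := r.commutes a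
  change r (algebraMap A' B' (e a)) = a at this
  rw [this]

theorem exists_cover (A : CommRingCat.{u}) : ∃ (D : CommRingCat.{u}) (φ : A ⟶ D),
    φ.hom.FaithfullyFlat ∧ WeaklyEtale (Spec.map φ) ∧ EtPBC.IsWContractible D := by
  obtain ⟨D, _, _, hff, hie, hwc⟩ := Groth.Agent.S0177.result A
  haveI := Groth.Agent.S0736.result _ D hie
  exact ⟨.of D, CommRingCat.ofHom (algebraMap _ D),
    RingHom.faithfullyFlat_algebraMap_iff.mpr hff,
    Groth.Agent.Helper1.WE.weaklyEtale_Spec_map _ D, hwc⟩

set_option backward.isDefEq.respectTransparency.types false in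
theorem main {X : Scheme.{u}} (U : X.ProEt) :
    ∃ (ι : Type u) (V : ι → X.ProEt) (g : ∀ i, V i ⟶ U),
      Sieve.generate (Presieve.ofArrows V g) ∈ Scheme.ProEt.topology X U ∧
        ∀ i, IsAffine (V i).left ∧ EtPBC.IsWContractible ↥(Γ((V i).left, ⊤)) := by
  let 𝒰 := U.left.affineCover
  have hD : ∀ i : 𝒰.I₀, ∃ (D : CommRingCat.{u}) (φ : Γ(𝒰.X i, ⊤) ⟶ D),
      φ.hom.FaithfullyFlat ∧ WeaklyEtale (Spec.map φ) ∧ EtPBC.IsWContractible D :=
    fun i => exists_cover Γ(𝒰.X i, ⊤)
  choose D φ hff hwe hwc using hD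
  let h : ∀ i, Spec (D i) ⟶ 𝒰.X i := fun i => Spec.map (φ i) ≫ (𝒰.X i).isoSpec.inv
  haveI hweh : ∀ i, WeaklyEtale (h i) := fun i => by
    haveI := hwe i
    dsimp only [h]
    infer_instance
  haveI hsurj : ∀ i, Surjective (h i) := fun i => by
    haveI : Surjective (Spec.map (φ i)) := ((flat_and_surjective_SpecMap_iff (φ i)).mpr (hff i)).2
    dsimp only [h]
    infer_instance
  haveI hqc : ∀ i, QuasiCompact (h i) := fun i => by
    dsimp only [h]
    infer_instance
  -- the covering family of schemes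
  have hcov : Presieve.ofArrows (fun p : Σ _ : 𝒰.I₀, PUnit.{u + 1} => Spec (D p.1))
      (fun p => h p.1 ≫ 𝒰.f p.1) ∈ Scheme.proetalePrecoverage U.left := by
    refine Precoverage.comp_mem_coverings (J := Scheme.proetalePrecoverage) (f := 𝒰.f)
      (Scheme.zariskiPrecoverage_le_propQCPrecoverage _ 𝒰.mem₀)
      (σ := fun _ => PUnit.{u + 1}) (Y := fun i _ => Spec (D i)) (g := fun i _ => h i) ?_
    intro i
    rw [Presieve.ofArrows_pUnit]
    exact Scheme.Hom.singleton_mem_propQCPrecoverage (hweh i)
  let V : (Σ _ : 𝒰.I₀, PUnit.{u + 1}) → X.ProEt := fun p =>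
    Scheme.ProEt.mk ((h p.1 ≫ 𝒰.f p.1) ≫ U.hom)
  let g : ∀ p, V p ⟶ U := fun p => MorphismProperty.Over.homMk (h p.1 ≫ 𝒰.f p.1) rfl
  refine ⟨Σ _ : 𝒰.I₀, PUnit.{u + 1}, V, g, ?_, ?_⟩
  · apply Precoverage.generate_mem_toGrothendieck
    change (Presieve.ofArrows V g).map (Scheme.ProEt.forget X ⋙ Over.forget X) ∈
      Scheme.proetalePrecoverage _
    rw [Presieve.map_ofArrows]
    exact hcov
  · intro p
    refine ⟨?_, ?_⟩
    · change IsAffine (Spec (D p.1))
      infer_instance
    · change EtPBC.IsWContractible ↥(Γ(Spec (D p.1), ⊤))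
      exact isWContractible_of_ringEquiv
        (Scheme.ΓSpecIso (D p.1)).symm.commRingCatIsoToRingEquiv (hwc p.1)

end

/-- Transposed to the small pro-etale site: every object U of the small pro-etale site of a scheme X has
a covering family all of whose members are affine schemes whose rings of global functions are
w-contractible. -/
theorem result {X : Scheme.{u}} (U : X.ProEt) :
    ∃ (ι : Type u) (V : ι → X.ProEt) (g : ∀ i, V i ⟶ U),
      Sieve.generate (Presieve.ofArrows V g) ∈ Scheme.ProEt.topology X U ∧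
        ∀ i, IsAffine (V i).left ∧ EtPBC.IsWContractible ↥(Γ((V i).left, ⊤)) := by
  exact Groth.Agent.S7286.main U

end Groth.Agent.S7286
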