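import Groth.Statements.S0714
import Mathlib
import Groth.Agent.S0715
import Groth.Agent.S7286
-- import your own Groth.Agent.* helpers here

set_option autoImplicit false
open CategoryTheory CategoryTheory.Limits AlgebraicGeometry Opposite
universe u
open ProEtS

namespace Groth.Agent.S0714

section

open CategoryTheory CategoryTheory.Limits AlgebraicGeometry Opposite Topology

theorem generate_singleton_comp_mem {C : Type*} [Category C] (J : GrothendieckTopology C)
    {V Y U : C} (a : V ⟶ Y) (b : Y ⟶ U)
    (ha : Sieve.generate (Presieve.singleton a) ∈ J Y)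
    (hb : Sieve.generate (Presieve.singleton b) ∈ J U) :
    Sieve.generate (Presieve.singleton (a ≫ b)) ∈ J U := by
  refine J.transitive hb _ ?_
  intro Z f hf
  obtain ⟨W, h, b', hb', rfl⟩ := hf
  obtain ⟨⟩ := hb'
  refine J.superset_covering ?_ (J.pullback_stable h ha)
  intro Z' k hk
  obtain ⟨W', m, a', ha', hma⟩ := hk
  obtain ⟨⟩ := ha'
  exact ⟨_, m, a ≫ b, ⟨⟩, by rw [← Category.assoc m, hma, Category.assoc]⟩

set_option backward.isDefEq.respectTransparency.types false in
/-- A Zariski cover of the underlying scheme of `U` gives a covering of `U` in the small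
pro-étale site. -/
theorem openCover_mem {X : Scheme.{u}} (U : X.ProEt) (𝒰 : U.left.OpenCover) :
    Sieve.generate (Presieve.ofArrows (fun k => Scheme.ProEt.mk (𝒰.f k ≫ U.hom))
      (fun k => (MorphismProperty.Over.homMk (𝒰.f k) rfl :
          Scheme.ProEt.mk (𝒰.f k ≫ U.hom) ⟶ U))) ∈ Scheme.ProEt.topology X U := by
  apply Precoverage.generate_mem_toGrothendieck
  change (Presieve.ofArrows _ _).map (Scheme.ProEt.forget X ⋙ Over.forget X) ∈
      Scheme.proetalePrecoverage _
  rw [Presieve.map_ofArrows]
  exact Scheme.zariskiPrecoverage_le_propQCPrecoverage _ 𝒰.mem₀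

set_option backward.isDefEq.respectTransparency.types false in
theorem main {X : Scheme.{u}} (U : X.ProEt)
    [CompactSpace ↥U.left] :
    ∃ (V : X.ProEt) (g : V ⟶ U),
      Sieve.generate (Presieve.singleton g) ∈ Scheme.ProEt.topology X U ∧ IsAffine V.left ∧
        ProEtS.IsWC V := by
  let 𝒰 : U.left.OpenCover := U.left.affineCover.finiteSubcover
  let Y : Scheme.{u} := ∐ 𝒰.X
  let q : Y ⟶ U.left := Sigma.desc 𝒰.f
  haveI : IsAffine Y := by dsimp only [Y, 𝒰]; infer_instance
  haveI : WeaklyEtale q := IsZariskiLocalAtSource.sigmaDesc (fun i => inferInstance)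
  obtain ⟨D, φ, hff, hwe, hwc⟩ := Groth.Agent.S7286.exists_cover Γ(Y, ⊤)
  let Yo : X.ProEt := Scheme.ProEt.mk (q ≫ U.hom)
  let p : Spec D ⟶ Yo.left := Spec.map φ ≫ Y.isoSpec.inv
  haveI : WeaklyEtale p := by dsimp only [p]; infer_instance
  haveI : Surjective p := by
    haveI : Surjective (Spec.map φ) := ((flat_and_surjective_SpecMap_iff φ).mpr hff).2
    dsimp only [p]
    infer_instance
  haveI : QuasiCompact p := by dsimp only [p]; infer_instance
  let b : Yo ⟶ U := MorphismProperty.Over.homMk q rfl
  let V : X.ProEt := Scheme.ProEt.mk (p ≫ Yo.hom)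
  let a : V ⟶ Yo := MorphismProperty.Over.homMk p rfl
  have ha : Sieve.generate (Presieve.singleton a) ∈ Scheme.ProEt.topology X Yo :=
    Groth.Agent.S0715.singleton_mem Yo p
  have hb : Sieve.generate (Presieve.singleton b) ∈ Scheme.ProEt.topology X U := by
    refine (Scheme.ProEt.topology X).superset_covering ?_ (openCover_mem U 𝒰)
    rw [Sieve.generate_le_iff]
    rintro _ _ ⟨i⟩
    let c : Scheme.ProEt.mk (𝒰.f i ≫ U.hom) ⟶ Yo :=
      MorphismProperty.Over.homMk (Sigma.ι 𝒰.X i) (by
        change Sigma.ι 𝒰.X i ≫ (q ≫ U.hom) = 𝒰.f i ≫ U.hom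
        rw [← Category.assoc, Sigma.ι_desc])
    refine ⟨_, c, b, ⟨⟩, ?_⟩
    apply MorphismProperty.Over.Hom.ext
    exact Sigma.ι_desc _ _
  refine ⟨V, a ≫ b, generate_singleton_comp_mem _ a b ha hb, ?_, ?_⟩
  · change IsAffine (Spec D)
    infer_instance
  · haveI : IsAffine V.left := by
      change IsAffine (Spec D)
      infer_instance
    apply Groth.Agent.S0715.fwd
    change EtPBC.IsWContractible ↥(Γ(Spec D, ⊤))
    exact Groth.Agent.S7286.isWContractible_of_ringEquiv
        (Scheme.ΓSpecIso D).symm.commRingCatIsoToRingEquiv hwc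

end

/-- In the small pro-étale site X_proét of a scheme X, every object U whose underlying scheme is
quasi-compact admits a covering {V → U} by a single object V which is affine and weakly
contractible. -/
theorem result {X : Scheme.{u}} (U : X.ProEt)
    [CompactSpace ↥U.left] :
    ∃ (V : X.ProEt) (g : V ⟶ U),
      Sieve.generate (Presieve.singleton g) ∈ Scheme.ProEt.topology X U ∧ IsAffine V.left ∧
        ProEtS.IsWC V := by
  exact Groth.Agent.S0714.main U

end Groth.Agent.S0714
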