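import Groth.Statements.S0713
import Mathlib
import Groth.Agent.S0714
-- import your own Groth.Agent.* helpers here

set_option autoImplicit false
open CategoryTheory CategoryTheory.Limits AlgebraicGeometry Opposite
universe u
open ProEtS

namespace Groth.Agent.S0713

section

open CategoryTheory CategoryTheory.Limits AlgebraicGeometry Opposite Topology

set_option backward.isDefEq.respectTransparency.types false in
/-- A coproduct of affine objects with w-contractible rings of functions is weakly contractible. -/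
theorem isWC_sigma {X : Scheme.{u}} {ι : Type u} (T : ι → Scheme.{u}) (m : ∀ i, T i ⟶ X)
    [∀ i, WeaklyEtale (m i)] [∀ i, IsAffine (T i)]
    (hwc : ∀ i, EtPBC.IsWContractible ↥(Γ(T i, ⊤))) [WeaklyEtale (Sigma.desc m)] :
    ProEtS.IsWC (Scheme.ProEt.mk (Sigma.desc m)) := by
  intro F G φ hφ s
  let V : X.ProEt := Scheme.ProEt.mk (Sigma.desc m)
  let 𝒰 : V.left.OpenCover := sigmaOpenCover T
  refine Groth.Agent.Helper2.WCov.exists_preimage_of_disjoint_cover (Scheme.ProEt.topology X) φ
    (fun k => Scheme.ProEt.mk (𝒰.f k ≫ V.hom))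
    (fun k => (MorphismProperty.Over.homMk (𝒰.f k) rfl :
          Scheme.ProEt.mk (𝒰.f k ≫ V.hom) ⟶ V)) (Groth.Agent.S0714.openCover_mem V 𝒰) ?_ ?_ s ?_
  · intro k
    constructor
    intro Z g1 g2 h
    apply MorphismProperty.Over.Hom.ext
    have := congrArg (fun z => z.left) h
    exact (cancel_mono (Sigma.ι T k)).mp this
  · intro k l hkl Z gk gl h
    haveI : IsEmpty ↥Z.left := by
      refine ⟨fun z => ?_⟩
      have e := congrArg (fun z => z.left) h
      have e' : gk.left ≫ Sigma.ι T k = gl.left ≫ Sigma.ι T l := e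
      have h1 : (gk.left ≫ Sigma.ι T k) z ∈ ((Sigma.ι T k).opensRange : Set _) := by
        rw [Scheme.Hom.comp_apply]
        exact ⟨_, rfl⟩
      have h2' : (gk.left ≫ Sigma.ι T k) z ∈ ((Sigma.ι T l).opensRange : Set _) := by
        rw [e', Scheme.Hom.comp_apply]
        exact ⟨_, rfl⟩
      have h3 := disjoint_opensRange_sigmaι T k l hkl
      exact Set.disjoint_left.mp ((TopologicalSpace.Opens.coe_disjoint).mpr h3) h1 h2'
    exact Scheme.ProEt.bot_mem_topology Z
  · intro k
    let Wk : X.ProEt := Scheme.ProEt.mk (𝒰.f k ≫ V.hom)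
    haveI : IsAffine Wk.left := by
      change IsAffine (T k)
      infer_instance
    have hk : ProEtS.IsWC Wk := by
      apply Groth.Agent.S0715.fwd
      exact hwc k
    exact hk F G φ hφ _

set_option backward.isDefEq.respectTransparency.types false in
theorem main {X : Scheme.{u}} (U : X.ProEt) :
    ∃ (V : X.ProEt) (g : V ⟶ U),
      Sieve.generate (Presieve.singleton g) ∈ Scheme.ProEt.topology X U ∧ ProEtS.IsWC V := by
  obtain ⟨ι, W, g, hcov, haff⟩ := Groth.Agent.S7286.main U
  let T : ι → Scheme.{u} := fun i => (W i).left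
  let m : ∀ i, T i ⟶ X := fun i => (W i).hom
  haveI : ∀ i, WeaklyEtale (m i) := fun i => by dsimp only [m]; infer_instance
  haveI : ∀ i, IsAffine (T i) := fun i => (haff i).1
  haveI : WeaklyEtale (Sigma.desc m) := IsZariskiLocalAtSource.sigmaDesc (fun i => inferInstance)
  let V : X.ProEt := Scheme.ProEt.mk (Sigma.desc m)
  let gl : V.left ⟶ U.left := Sigma.desc (fun i => (g i).left)
  have hgl : gl ≫ U.hom = V.hom := by
    apply Sigma.hom_ext
    intro i
    change Sigma.ι T i ≫ (Sigma.desc (fun i => (g i).left) ≫ U.hom) = Sigma.ι T i ≫ Sigma.desc m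
    rw [← Category.assoc, Sigma.ι_desc, Sigma.ι_desc]
    exact MorphismProperty.Over.w (g i)
  let gg : V ⟶ U := MorphismProperty.Over.homMk gl hgl
  refine ⟨V, gg, ?_, isWC_sigma T m (fun i => (haff i).2)⟩
  refine (Scheme.ProEt.topology X).superset_covering ?_ hcov
  rw [Sieve.generate_le_iff]
  rintro _ _ ⟨i⟩
  let c : W i ⟶ V := MorphismProperty.Over.homMk (Sigma.ι T i) (by
    change Sigma.ι T i ≫ Sigma.desc m = (W i).hom
    rw [Sigma.ι_desc])
  refine ⟨_, c, gg, ⟨⟩, ?_⟩
  apply MorphismProperty.Over.Hom.ext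
  exact Sigma.ι_desc _ _

end

/-- Every object U of the small pro-étale site X_proét of a scheme X admits a covering {V → U} by a
single weakly contractible object V. -/
theorem result {X : Scheme.{u}} (U : X.ProEt) :
    ∃ (V : X.ProEt) (g : V ⟶ U),
      Sieve.generate (Presieve.singleton g) ∈ Scheme.ProEt.topology X U ∧ ProEtS.IsWC V := by
  exact Groth.Agent.S0713.main U

end Groth.Agent.S0713
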