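import Groth.Statements.S14017
import Mathlib
-- import your own Groth.Agent.* helpers here

set_option autoImplicit false
open CategoryTheory CategoryTheory.Limits AlgebraicGeometry Opposite
universe u
open EtModW

namespace Groth.Agent.S14017

section
open CategoryTheory CategoryTheory.Limits AlgebraicGeometry Opposite Topology

variable (Λ : Type (u + 1)) [CommRing Λ] (X : Scheme.{u})

theorem surj_of_epi {F G : EtModW.ModP Λ X} (φ : F ⟶ G) [Epi φ]
    (U : X.ProEt) (hU : ProEtS.IsWC U) :
    Function.Surjective (φ.hom.app (op U)).hom := by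
  have h1 : Sheaf.IsLocallySurjective φ :=
    (Sheaf.isLocallySurjective_iff_epi' (ModuleCat.{u+1} Λ) φ).2 inferInstance
  let φ' := (sheafCompose (Scheme.ProEt.topology X) (forget (ModuleCat.{u+1} Λ))).map φ
  have h2 : Sheaf.IsLocallySurjective φ' := by
    change Presheaf.IsLocallySurjective _ (Functor.whiskerRight φ.hom (forget _))
    exact (Presheaf.isLocallySurjective_iff_whisker_forget _ _).1 h1
  have h3 : Epi φ' := (Sheaf.isLocallySurjective_iff_epi φ').1 h2
  exact hU _ _ φ' h3


/-- sections functor -/
noncomputable abbrev Γ (U : X.ProEt) : EtModW.ModP Λ X ⥤ ModuleCat.{u+1} Λ :=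
  sheafToPresheaf _ _ ⋙ (evaluation _ _).obj (op U)


theorem epi_of_isQuot (I : Ideal Λ) {F Q : EtModW.ModP Λ X} (p : F ⟶ Q)
    (hp : ARSys.IsQuot I p) : Epi p := by
  constructor
  intro Y g h hgh
  have hk : ARSys.HomKilledBy I (p ≫ g) := by
    intro a ha
    have : a • (p ≫ g) = p ≫ ((a • 𝟙 Q) ≫ g) := by
      rw [Linear.smul_comp, Category.id_comp, Linear.comp_smul]
    rw [this, hp.1 a ha, zero_comp, comp_zero]
  obtain ⟨ψ, -, hψ⟩ := hp.2 Y (p ≫ g) hk
  rw [hψ g rfl, hψ h hgh.symm]


theorem smul_app (a : Λ) {F G : EtModW.ModP Λ X} (φ : F ⟶ G) (U : X.ProEt)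
    (x : F.obj.obj (op U)) :
    ((a • φ).hom.app (op U)).hom x = a • (φ.hom.app (op U)).hom x := rfl

theorem main (I : Ideal Λ) (hI : I.FG)
    (F Q : EtModW.ModP Λ X) (p : F ⟶ Q) (hp : ARSys.IsQuot I p)
    (U : X.ProEt) (hU : ProEtS.IsWC U) :
    Function.Surjective (p.hom.app (op U)).hom ∧
      LinearMap.ker (p.hom.app (op U)).hom = I • (⊤ : Submodule Λ (F.obj.obj (op U))) := by
  haveI := epi_of_isQuot Λ X I p hp
  haveI : HasFiniteBiproducts (EtModW.ModP Λ X) := Abelian.hasFiniteBiproducts
  refine ⟨surj_of_epi Λ X p U hU, le_antisymm ?_ ?_⟩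
  · -- kernel ⊆ I • ⊤
    obtain ⟨s, hs⟩ := hI
    let g : (⨁ (fun _ : s => F)) ⟶ F := biproduct.desc (fun a => (a : Λ) • 𝟙 F)
    let π := cokernel.π g
    have hπ : ARSys.HomKilledBy I π := by
      intro a ha
      rw [← hs] at ha
      induction ha using Submodule.span_induction with
      | mem a ha =>
        have : (a • 𝟙 F) = biproduct.ι (fun _ : s => F) ⟨a, ha⟩ ≫ g := by
          simp [g]
        have h2 : a • π = (a • 𝟙 F) ≫ π := by
          rw [Linear.smul_comp, Category.id_comp]
        rw [h2, this, Category.assoc, cokernel.condition, comp_zero]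
      | zero => simp
      | add a b _ _ ha hb => rw [add_smul, ha, hb, add_zero]
      | smul c a _ ha => rw [smul_eq_mul, mul_smul, ha, smul_zero]
    obtain ⟨ψ, hψ, -⟩ := hp.2 _ π hπ
    intro x hx
    have hx' : (p.hom.app (op U)).hom x = 0 := hx
    have hπx : (π.hom.app (op U)).hom x = 0 := by
      rw [← hψ]
      change (ψ.hom.app (op U)).hom ((p.hom.app (op U)).hom x) = 0
      rw [hx', map_zero]
    -- kernel
    let S' := ShortComplex.mk (kernel.ι π) π (kernel.condition π)
    have hS' : S'.Exact := S'.exact_of_f_is_kernel (kernelIsKernel π)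
    have hS'' : (S'.map (Γ Λ X U)).Exact :=
      hS'.map_of_mono_of_preservesKernel (Γ Λ X U) (inferInstanceAs (Mono (kernel.ι π)))
        inferInstance
    obtain ⟨k, hk⟩ := (ShortComplex.moduleCat_exact_iff _).1 hS'' x hπx
    let e : (⨁ (fun _ : s => F)) ⟶ kernel π := kernel.lift π g (cokernel.condition g)
    haveI : Epi e := by
      have hS : (ShortComplex.mk g π (cokernel.condition g)).Exact :=
        ShortComplex.exact_cokernel g
      exact (ShortComplex.exact_iff_epi_kernel_lift _).1 hS
    obtain ⟨y, hy⟩ := surj_of_epi Λ X e U hU k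
    have hgy : (g.hom.app (op U)).hom y = x := by
      have : g = e ≫ kernel.ι π := (kernel.lift_ι _ _ _).symm
      rw [this]
      change ((kernel.ι π).hom.app (op U)).hom ((e.hom.app (op U)).hom y) = x
      rw [hy]
      exact hk
    rw [← hgy]
    -- decompose y
    have htot : (∑ a : s, biproduct.π (fun _ : s => F) a ≫ biproduct.ι (fun _ : s => F) a) = 𝟙 _ :=
      IsBilimit.total (biproduct.isBilimit _)
    have hy2 : y = ∑ a : s, (((biproduct.ι (fun _ : s => F) a).hom.app (op U)).hom
        (((biproduct.π (fun _ : s => F) a).hom.app (op U)).hom y)) := by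
      have := congrArg (fun φ => (((Γ Λ X U).map φ).hom y)) htot
      simp only [Functor.map_sum, ModuleCat.hom_sum, LinearMap.sum_apply] at this
      exact this.symm
    rw [hy2, map_sum]
    refine Submodule.sum_mem _ fun a _ => ?_
    have : (g.hom.app (op U)).hom (((biproduct.ι (fun _ : s => F) a).hom.app (op U)).hom
        (((biproduct.π (fun _ : s => F) a).hom.app (op U)).hom y)) =
        (a : Λ) • (((biproduct.π (fun _ : s => F) a).hom.app (op U)).hom y) := by
      have h3 : biproduct.ι (fun _ : s => F) a ≫ g = (a : Λ) • 𝟙 F := by simp [g]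
      have := congrArg (fun φ => (((Γ Λ X U).map φ).hom
        (((biproduct.π (fun _ : s => F) a).hom.app (op U)).hom y))) h3
      exact this
    rw [this]
    exact Submodule.smul_mem_smul (hs ▸ Submodule.subset_span a.2) trivial
  · -- I • ⊤ ⊆ kernel
    rw [Submodule.smul_le]
    intro a ha x _
    change (p.hom.app (op U)).hom (a • x) = 0
    rw [map_smul]
    have h0 : (a • 𝟙 Q : Q ⟶ Q) = 0 := hp.1 a ha
    have := smul_app Λ X a (𝟙 Q) U ((p.hom.app (op U)).hom x)
    rw [h0] at this
    exact this.symm

end

/-- Let X be a scheme, Λ a commutative ring and I a finitely generated ideal of Λ; let F be a sheaf of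
Λ-modules on the small pro-étale site of X and p : F ⟶ Q a quotient map modulo I (Q is killed by I
and every morphism out of F killed by I factors uniquely through p, so Q = F/IF); let U be a weakly
contractible object of the pro-étale site. Then the map on sections F(U) → Q(U) is surjective and
its kernel is exactly the submodule I·F(U): sections over a weakly contractible object commute with
forming IF and F/IF. (The published lemma is for sheaves of Λ-modules on an arbitrary site and a
weakly contractible object of it; this row states the case of the small pro-étale site of a scheme.) -/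
theorem result
    (Λ : Type (u + 1)) [CommRing Λ] (I : Ideal Λ) (hI : I.FG)
    (X : Scheme.{u}) (F Q : EtModW.ModP Λ X) (p : F ⟶ Q) (hp : ARSys.IsQuot I p)
    (U : X.ProEt) (hU : ProEtS.IsWC U) :
    Function.Surjective (p.hom.app (op U)).hom ∧
      LinearMap.ker (p.hom.app (op U)).hom = I • (⊤ : Submodule Λ (F.obj.obj (op U))) := by
  exact Groth.Agent.S14017.main Λ X I hI F Q p hp U hU

end Groth.Agent.S14017
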