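import Groth.Statements.S14009
import Mathlib
import Groth.Agent.S14017
import Groth.Agent.S0713
import Groth.Agent.Lib.Helper2.AdicLim1
import Groth.Agent.Lib.Helper2.AdicLim2
-- import your own Groth.Agent.* helpers here

set_option autoImplicit false
open CategoryTheory CategoryTheory.Limits AlgebraicGeometry Opposite
universe u
open EtModW

namespace Groth.Agent.S14009

section
open CategoryTheory CategoryTheory.Limits AlgebraicGeometry Opposite Topology
open Groth.Agent.Helper2.AdicLim

variable (Λ : Type (u + 1)) [CommRing Λ] (X : Scheme.{u})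

/-- a morphism of sheaves of modules on the pro-étale site which is bijective on sections over
weakly contractible objects is an isomorphism -/
theorem isIso_of_bijective_on_wc {F G : EtModW.ModP Λ X} (φ : F ⟶ G)
    (h : ∀ V : X.ProEt, ProEtS.IsWC V → Function.Bijective (φ.hom.app (op V)).hom) : IsIso φ := by
  refine (Sheaf.isLocallyBijective_iff_isIso (A := ModuleCat.{u + 1} Λ) φ).1 ⟨?_, ?_⟩
  · change Presheaf.IsLocallyInjective _ φ.hom
    constructor
    intro U' x y hxy
    obtain ⟨V, g, hg, hV⟩ := Groth.Agent.S0713.result U'.unop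
    refine GrothendieckTopology.superset_covering _ ?_ hg
    rw [Sieve.generate_le_iff]
    rintro _ _ ⟨⟩
    change F.obj.map g.op x = F.obj.map g.op y
    apply (h V hV).1
    have n1 := NatTrans.naturality_apply φ.hom g.op x
    have n2 := NatTrans.naturality_apply φ.hom g.op y
    exact n1.trans ((congrArg _ hxy).trans n2.symm)
  · change Presheaf.IsLocallySurjective _ φ.hom
    constructor
    intro U s
    obtain ⟨V, g, hg, hV⟩ := Groth.Agent.S0713.result U
    refine GrothendieckTopology.superset_covering _ ?_ hg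
    rw [Sieve.generate_le_iff]
    rintro _ _ ⟨⟩
    obtain ⟨t, ht⟩ := (h V hV).2 (G.obj.map g.op s)
    exact ⟨t, ht⟩


/-- the right adjoint of `ε⁻¹` on modules -/
noncomputable abbrev epsPushMod [ProEtS.EpsCont X] : EtModW.ModP Λ X ⥤ EtModW.Mod Λ X :=
  (ProEtS.eps X).sheafPushforwardContinuous (ModuleCat.{u + 1} Λ) X.smallEtaleTopology
    (Scheme.ProEt.topology X)

noncomputable def epsAdjMod [ProEtS.EpsCont X] : EtModW.epsPullMod Λ X ⊣ epsPushMod Λ X :=
  (ProEtS.eps X).sheafAdjunctionContinuous (ModuleCat.{u + 1} Λ) X.smallEtaleTopology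
    (Scheme.ProEt.topology X)

theorem epsPushMod_smul [ProEtS.EpsCont X] {Y Y' : EtModW.ModP Λ X} (a : Λ) (f : Y ⟶ Y') :
    (epsPushMod Λ X).map (a • f) = a • (epsPushMod Λ X).map f := rfl

/-- `ε⁻¹` preserves universal quotients modulo an ideal -/
theorem isQuot_epsPull [ProEtS.EpsCont X] (J : Ideal Λ) {A Q : EtModW.Mod Λ X} (p : A ⟶ Q)
    (hp : ARSys.IsQuot J p) : ARSys.IsQuot J ((EtModW.epsPullMod Λ X).map p) :=
  isQuot_map_of_adj _ _ (epsAdjMod Λ X) (fun a f => epsPushMod_smul Λ X a f) J p hp

/-- sections functor -/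
noncomputable abbrev Γs (U : X.ProEt) : EtModW.ModP Λ X ⥤ ModuleCat.{u+1} Λ :=
  sheafToPresheaf _ _ ⋙ (evaluation _ _).obj (op U)

theorem main (I : Ideal Λ) (hI : I.FG) [ProEtS.EpsCont X]
    (G : ARSys.PS (EtModW.Mod Λ X)) (hG : ARSys.IsAdic I G) (n : ℕ) :
    ARSys.IsQuot (I ^ (n + 1)) (limit.π (G ⋙ EtModW.epsPullMod Λ X) (op n)) := by
  haveI : HasFiniteBiproducts (EtModW.ModP Λ X) := Abelian.hasFiniteBiproducts
  set D := G ⋙ EtModW.epsPullMod Λ X with hD
  have hfg : ∀ k : ℕ, (I ^ k).FG := fun k => Ideal.FG.pow hI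
  obtain ⟨s, hs⟩ := hfg (n + 1)
  -- the transition maps of `D` are universal quotients
  have hDq : ∀ (k m : ℕ) (h : k ≤ m), ARSys.IsQuot (I ^ (k + 1)) (D.map (homOfLE h).op) :=
    fun k m h => isQuot_epsPull Λ X _ _ (hG.2 k m h)
  -- the target is killed
  have hkill : ARSys.KilledBy (I ^ (n + 1)) (D.obj (op n)) := by
    have := (hDq n n le_rfl).1
    exact this
  -- the cokernel quotient
  let q := cokernel.π (gens s (limit D))
  have hq : ARSys.IsQuot (I ^ (n + 1)) q := hs ▸ isQuot_cokernel_gens s (limit D)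
  obtain ⟨c, hc, -⟩ := hq.2 _ (limit.π D (op n)) (homKilledBy_of_killedBy _ _ hkill)
  -- sections over weakly contractible objects
  suffices hiso : IsIso c by
    rw [← hc]
    exact isQuot_comp_iso _ q hq c
  apply isIso_of_bijective_on_wc
  intro U hU
  -- the tower of sections
  let M : ℕᵒᵖ ⥤ ModuleCat.{u+1} Λ := D ⋙ Γs Λ X U
  let cM : Cone M := (Γs Λ X U).mapCone (limit.cone D)
  have hcM : IsLimit cM := isLimitOfPreserves (Γs Λ X U) (limit.isLimit D)
  have hM : ∀ (k m : ℕ) (h : k ≤ m), Function.Surjective (trM M h) ∧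
      LinearMap.ker (trM M h) = (I ^ (k + 1)) • (⊤ : Submodule Λ (M.obj (op m))) :=
    fun k m h => Groth.Agent.S14017.main Λ X _ (hfg _) _ _ _ (hDq k m h) U hU
  have hπsurj : Function.Surjective ((limit.π D (op n)).hom.app (op U)).hom :=
    surjective_π M cM hcM (fun m => (hM m (m + 1) (Nat.le_succ m)).1) n
  have hπker : LinearMap.ker ((limit.π D (op n)).hom.app (op U)).hom =
      (I ^ (n + 1)) • (⊤ : Submodule Λ ((limit D).obj.obj (op U))) :=
    ker_π I M cM hcM (fun k m h => (hM k m h).1) (fun k m h => (hM k m h).2) n (hfg _)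
  obtain ⟨hqsurj, hqker⟩ := Groth.Agent.S14017.main Λ X _ (hfg (n + 1)) _ _ q hq U hU
  have hcomp : ∀ x, (c.hom.app (op U)).hom ((q.hom.app (op U)).hom x) =
      ((limit.π D (op n)).hom.app (op U)).hom x := by
    intro x
    rw [← hc]
    rfl
  constructor
  · intro y₁ y₂ hy
    obtain ⟨x₁, rfl⟩ := hqsurj y₁
    obtain ⟨x₂, rfl⟩ := hqsurj y₂
    rw [hcomp, hcomp] at hy
    have h1 : x₁ - x₂ ∈ LinearMap.ker ((limit.π D (op n)).hom.app (op U)).hom := by
      rw [LinearMap.mem_ker, map_sub, hy, sub_self]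
    rw [hπker, ← hqker, LinearMap.mem_ker, map_sub, sub_eq_zero] at h1
    exact h1
  · intro z
    obtain ⟨x, rfl⟩ := hπsurj z
    exact ⟨_, hcomp x⟩

end

/-- Let X be a scheme, Λ a commutative ring, I a finitely generated ideal of Λ and G = (G_n) an I-adic
inverse system of sheaves of Λ-modules on the small étale site of X: I^(n+1) kills G_n and each
transition map G_m ⟶ G_n is a quotient map modulo I^(n+1). Let F = lim_n ε⁻¹G_n be the limit, on the
small pro-étale site, of the pulled-back system. Then for every n the limit projection F ⟶ ε⁻¹G_n is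
a quotient map modulo I^(n+1): its target is killed by I^(n+1) and every morphism out of F killed by
I^(n+1) factors uniquely through it. In words, F/I^(n+1)F is identified with ε⁻¹G_n by the canonical
map, and F is complete for the I-adic topology. No constructibility of the G_n is needed.
(Continuity of the inclusion of the étale site into the pro-étale site is carried as a binder.) -/
theorem result
    (Λ : Type (u + 1)) [CommRing Λ] (I : Ideal Λ) (hI : I.FG)
    (X : Scheme.{u}) [ProEtS.EpsCont X]
    (G : ARSys.PS (EtModW.Mod Λ X)) (hG : ARSys.IsAdic I G) (n : ℕ) :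
    ARSys.IsQuot (I ^ (n + 1)) (limit.π (G ⋙ EtModW.epsPullMod Λ X) (op n)) := by
  exact Groth.Agent.S14009.main Λ X I hI G hG n

end Groth.Agent.S14009
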