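import Groth.Statements.S12080
import Mathlib

set_option autoImplicit false
universe u
open TensorProduct
open CAlg

namespace Groth.Agent.S12080

/-- (1) ⇒ (2): let `M` be a finite locally free `R`-module of rank `1`, i.e. there is a set `s ⊆ R`
generating the unit ideal with `M_f ≅ R_f` as `R_f`-modules for every `f ∈ s`. Then the evaluation
map `Hom_R(M, R) ⊗_R M → R` is bijective, so `M` is invertible with inverse its dual. -/
theorem result (R : Type u) [CommRing R] (M : Type u) [AddCommGroup M]
    [Module R M] (s : Set R) (hs : Ideal.span s = ⊤)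
    (hfree : ∀ f ∈ s, Nonempty (LocalizedModule.Away f M ≃ₗ[Localization.Away f] Localization.Away f)) :
    Module.Invertible R M := by
  classical
  -- Step 1: finite presentation
  have hfp : Module.FinitePresentation R M := by
    refine Module.FinitePresentation.of_localizationSpan s hs fun g => ?_
    obtain ⟨e⟩ := hfree g.1 g.2
    exact Module.FinitePresentation.of_equiv e.symm
  refine ⟨?_⟩
  -- the localization data
  let R' : s → Type u := fun r => Localization.Away r.1
  let M' : s → Type u := fun r => LocalizedModule.Away r.1 M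
  let ℓ : ∀ r : s, M →ₗ[R] M' r := fun r => LocalizedModule.mkLinearMap (Submonoid.powers r.1) M
  let lam : ∀ r : s, Module.Dual R M →ₗ[R] Module.Dual (R' r) (M' r) := fun r =>
    IsLocalizedModule.mapExtendScalars (Submonoid.powers r.1) (ℓ r)
      (Algebra.linearMap R (R' r)) (R' r)
  have hlam : ∀ r : s, IsLocalizedModule (Submonoid.powers r.1) (lam r) := fun r =>
    Module.FinitePresentation.isLocalizedModule_mapExtendScalars _ _ _ _
  let T : ∀ r : s, Module.Dual R M ⊗[R] M →ₗ[R] Module.Dual (R' r) (M' r) ⊗[R] M' r := fun r =>
    TensorProduct.map (lam r) (ℓ r)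
  have hT : ∀ r : s, IsLocalizedModule (Submonoid.powers r.1) (T r) := fun r => by
    have := hlam r
    infer_instance
  let E : ∀ r : s, (Module.Dual (R' r) (M' r) ⊗[R] M' r) ≃ₗ[R]
      (Module.Dual (R' r) (M' r) ⊗[R' r] M' r) := fun r =>
    ((IsLocalization.moduleTensorEquiv (Submonoid.powers r.1) (R' r)
      (Module.Dual (R' r) (M' r)) (M' r)).symm.restrictScalars R)
  let β : ∀ r : s, Module.Dual R M ⊗[R] M →ₗ[R] (Module.Dual (R' r) (M' r) ⊗[R' r] M' r) :=
    fun r => (E r).toLinearMap ∘ₗ T r
  have hβ : ∀ r : s, IsLocalizedModule (Submonoid.powers r.1) (β r) := fun r => by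
    have := hT r
    exact IsLocalizedModule.of_linearEquiv (Submonoid.powers r.1) (T r) (E r)
  refine bijective_of_isLocalized_span s hs
    (fun r => Module.Dual (R' r) (M' r) ⊗[R' r] M' r) β (fun r => R' r)
    (fun r => Algebra.linearMap R (R' r)) (contractLeft R M) (fun r => ?_)
  -- identify the localized map with the contraction over the localization
  have hkey : IsLocalizedModule.map (Submonoid.powers r.1) (β r) (Algebra.linearMap R (R' r))
      (contractLeft R M) = (contractLeft (R' r) (M' r)).restrictScalars R := by
    refine IsLocalizedModule.lift_unique _ _ _ _ _ ?_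
    refine TensorProduct.ext' fun φ m => ?_
    simp only [LinearMap.comp_apply, LinearMap.restrictScalars_apply, β, T, E,
      TensorProduct.map_tmul, LinearEquiv.coe_coe, LinearEquiv.restrictScalars_apply]
    have h1 : (IsLocalization.moduleTensorEquiv (Submonoid.powers r.1) (R' r)
        (Module.Dual (R' r) (M' r)) (M' r)).symm ((lam r) φ ⊗ₜ[R] (ℓ r) m) =
        (lam r) φ ⊗ₜ[R' r] (ℓ r) m := rfl
    rw [h1, contractLeft_apply, contractLeft_apply]
    simp only [lam, IsLocalizedModule.mapExtendScalars_apply_apply, IsLocalizedModule.map_apply]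
  rw [hkey]
  obtain ⟨e⟩ := hfree r.1 r.2
  have : Module.Invertible (R' r) (M' r) := Module.Invertible.congr e.symm
  exact Module.Invertible.bijective


end Groth.Agent.S12080
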