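import Groth.Statements.S4578
import Mathlib
import Groth.Agent.Lib.Helper14.AdicFSJacobi
import Groth.Agent.Lib.Helper14.FSSpread
import Groth.Agent.Lib.Helper14.AdicFSGeomReg
import Groth.Agent.S4573
-- import your own Groth.Agent.* helpers here

set_option autoImplicit false
universe u
open IsLocalRing
open EGA41

namespace Groth.Agent.S4578

/-- Let k₀ be a field, k an extension field of k₀ which is separable (formally smooth) over k₀, C a
k-algebra of finite type and p a prime ideal of C. The following are equivalent: C_p is formally
smooth over k₀ (discrete topologies); C_p is formally smooth over k₀ for the adic topology of its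
maximal ideal; C_f is formally smooth over k₀ for some f ∉ p; C_p is geometrically regular over k₀.
(The published statement adds that the set of primes p having these properties is open in Spec C;
that openness is not stated here.) -/
theorem result {k₀ k C : Type u} [Field k₀] [Field k] [Algebra k₀ k]
    [Algebra.FormallySmooth k₀ k] [CommRing C] [Algebra k C] [Algebra k₀ C] [IsScalarTower k₀ k C]
    [Algebra.FiniteType k C]
    (p : Ideal C) [p.IsPrime] :
    [Algebra.FormallySmooth k₀ (Localization.AtPrime p),
     CAlgX.IsAdicFormallySmooth k₀ (Localization.AtPrime p) (maximalIdeal (Localization.AtPrime p)),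
     ∃ f : C, f ∉ p ∧ Algebra.FormallySmooth k₀ (Localization.Away f),
     CAlg.IsGeometricallyRegular k₀ (Localization.AtPrime p)].TFAE := by
  classical
  haveI : IsNoetherianRing C := Algebra.FiniteType.isNoetherianRing k C
  haveI : IsNoetherianRing (Localization.AtPrime p) :=
    IsLocalization.isNoetherianRing p.primeCompl _ inferInstance
  tfae_have 1 → 2 := by
    intro h T _ _ J hJ ψ _
    exact Algebra.FormallySmooth.exists_lift J ⟨2, hJ⟩ ψ
  tfae_have 2 → 1 := by
    intro h
    haveI : Algebra.EssFiniteType k (Localization.AtPrime p) :=
      Algebra.EssFiniteType.comp k C (Localization.AtPrime p)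
    exact Groth.Agent.Helper14.AdicFSJacobi.formallySmooth_of_adicFS_of_essFiniteType_tower
      (R₀ := k₀) (R := k) h
  tfae_have 1 → 3 := by
    intro h
    obtain ⟨n, φ, hφ⟩ := Algebra.FiniteType.iff_quotient_mvPolynomial''.mp
      (inferInstance : Algebra.FiniteType k C)
    letI : Algebra (MvPolynomial (Fin n) k) C := φ.toRingHom.toAlgebra
    haveI : IsScalarTower k (MvPolynomial (Fin n) k) C :=
      IsScalarTower.of_algebraMap_eq' φ.comp_algebraMap.symm
    haveI : IsScalarTower k₀ (MvPolynomial (Fin n) k) C := by
      refine IsScalarTower.of_algebraMap_eq (R := k₀) (S := MvPolynomial (Fin n) k) (A := C)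
        fun r => ?_
      rw [IsScalarTower.algebraMap_apply k₀ k C,
        IsScalarTower.algebraMap_apply k (MvPolynomial (Fin n) k) C,
        ← IsScalarTower.algebraMap_apply k₀ k (MvPolynomial (Fin n) k)]
    have hsurj : Function.Surjective (algebraMap (MvPolynomial (Fin n) k) C) := hφ
    let P : Algebra.Extension.{u} k₀ C :=
      { Ring := MvPolynomial (Fin n) k, σ := _, algebraMap_σ := Function.surjInv_eq hsurj }
    haveI : Algebra.FormallySmooth k₀ P.Ring :=
      Algebra.FormallySmooth.comp k₀ k (MvPolynomial (Fin n) k)
    haveI : IsNoetherianRing P.Ring :=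
      (inferInstance : IsNoetherianRing (MvPolynomial (Fin n) k))
    haveI : Algebra.FormallySmooth k₀ (Localization.AtPrime p) := h
    obtain ⟨g, hgM, hg⟩ := Groth.Agent.Helper14.FSSpread.exists_mem_retractionIdeal P
      p.primeCompl (Localization.AtPrime p)
    exact ⟨g, hgM, Groth.Agent.Helper14.FSSpread.formallySmooth_away_of_mem P hg
      (Localization.Away g)⟩
  tfae_have 3 → 1 := by
    rintro ⟨f, hf, hfs⟩
    have hunit : IsUnit (algebraMap C (Localization.AtPrime p) f) :=
      IsLocalization.map_units (Localization.AtPrime p) (⟨f, hf⟩ : p.primeCompl)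
    letI : Algebra (Localization.Away f) (Localization.AtPrime p) :=
      (IsLocalization.Away.lift f hunit).toAlgebra
    haveI : IsScalarTower C (Localization.Away f) (Localization.AtPrime p) :=
      IsScalarTower.of_algebraMap_eq' (IsLocalization.Away.lift_comp f hunit).symm
    haveI : IsScalarTower k₀ (Localization.Away f) (Localization.AtPrime p) := by
      refine IsScalarTower.of_algebraMap_eq (R := k₀) (S := Localization.Away f)
        (A := Localization.AtPrime p) fun r => ?_
      rw [IsScalarTower.algebraMap_apply k₀ C (Localization.AtPrime p),
        IsScalarTower.algebraMap_apply C (Localization.Away f) (Localization.AtPrime p),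
        ← IsScalarTower.algebraMap_apply k₀ C (Localization.Away f)]
    haveI : IsLocalization (p.primeCompl.map (algebraMap C (Localization.Away f)))
        (Localization.AtPrime p) :=
      IsLocalization.isLocalization_of_submonoid_le (Localization.Away f)
        (Localization.AtPrime p) (Submonoid.powers f) p.primeCompl
        (Submonoid.powers_le.mpr hf)
    haveI : Algebra.FormallySmooth (Localization.Away f) (Localization.AtPrime p) :=
      Algebra.FormallySmooth.of_isLocalization
        (p.primeCompl.map (algebraMap C (Localization.Away f)))
    exact Algebra.FormallySmooth.comp k₀ (Localization.Away f) (Localization.AtPrime p)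
  tfae_have 2 → 4 := by
    intro h
    exact Groth.Agent.Helper14.AdicFSGeomReg.isGeometricallyRegular h
  tfae_have 4 → 2 := by
    intro h
    obtain ⟨q, hq⟩ := ExpChar.exists k₀
    haveI := hq
    refine (Groth.Agent.S4573.result (k := k₀) (A := Localization.AtPrime p) q).mpr ?_
    intro k' _ _ hfin _
    exact h k' hfin
  tfae_finish

end Groth.Agent.S4578
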