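import Groth.Statements.S11256
import Mathlib
-- import your own Groth.Agent.* helpers here

set_option autoImplicit false
universe u
open W4bk4grassmannian

namespace Groth.Agent.S11256

section
open W4bk4grassmannian MvPolynomial

variable {K : Type u} [Field K] {d n : ℕ}

theorem invCount_perm (s : Idx d n) (π : Equiv.Perm (Fin d)) :
    (-1 : ℤ) ^ invCount d n (s.1 ∘ π) = ((Equiv.Perm.sign π : ℤˣ) : ℤ) := by
  have hs : StrictMono s.1 := s.2
  have h1 : ∏ p : Fin d × Fin d, (if (p.1 < p.2 ∧ π p.2 < π p.1) then (-1 : ℤ) else 1)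
      = (-1) ^ invCount d n (s.1 ∘ π) := by
    rw [Finset.prod_ite]
    simp only [Finset.prod_const, one_pow, mul_one]
    unfold invCount
    congr 2
    ext p
    simp [hs.lt_iff_lt]
  rw [← h1, Equiv.Perm.sign_eq_prod_prod_Ioi, Fintype.prod_prod_type]
  push_cast
  refine Finset.prod_congr rfl fun i _ => ?_
  rw [← Finset.filter_lt_eq_Ioi, Finset.prod_filter]
  refine Finset.prod_congr rfl fun j _ => ?_
  by_cases hij : i < j
  · have hne : π i ≠ π j := fun h => hij.ne (π.injective h)
    rcases lt_or_gt_of_ne hne with h | h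
    · simp [hij, h, not_lt.mpr h.le]
    · simp [hij, h, not_lt.mpr h.le]
  · simp [hij]

theorem image_perm (s : Idx d n) (π : Equiv.Perm (Fin d)) :
    (Finset.univ.image (s.1 ∘ π)) = Finset.univ.image s.1 := by
  ext x
  simp only [Finset.mem_image, Finset.mem_univ, true_and, Function.comp]
  constructor
  · rintro ⟨t, rfl⟩; exact ⟨π t, rfl⟩
  · rintro ⟨t, rfl⟩; exact ⟨π.symm t, by simp⟩

theorem card_image_idx (s : Idx d n) : (Finset.univ.image s.1).card = d := by
  rw [Finset.card_image_of_injective _ s.2.injective]; simp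

theorem card_image_perm (s : Idx d n) (π : Equiv.Perm (Fin d)) :
    (Finset.univ.image (s.1 ∘ π)).card = d := by
  rw [image_perm, card_image_idx]

theorem sortIdx_perm (s : Idx d n) (π : Equiv.Perm (Fin d)) (h) :
    sortIdx d n (s.1 ∘ π) h = s := by
  apply Subtype.ext
  unfold sortIdx
  simp only
  symm
  have := Finset.orderEmbOfFin_unique (s := Finset.univ.image (s.1 ∘ π)) h (f := s.1)
    (fun x => by rw [image_perm]; simp) s.2
  exact this

theorem coord_perm (s : Idx d n) (π : Equiv.Perm (Fin d)) :
    coord K d n (s.1 ∘ π) = (((Equiv.Perm.sign π : ℤˣ) : ℤ) : PlRing K d n) * X s := by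
  unfold coord
  rw [dif_pos (card_image_perm s π), sortIdx_perm, ← invCount_perm s π]
  push_cast
  rfl

/-- bracket -/
noncomputable def br (f : Idx d n → K) (a : Fin d → Fin n) : K :=
  MvPolynomial.eval f (coord K d n a)

theorem br_perm (f : Idx d n → K) (s : Idx d n) (π : Equiv.Perm (Fin d)) :
    br f (s.1 ∘ π) = (((Equiv.Perm.sign π : ℤˣ) : ℤ) : K) * f s := by
  unfold br
  rw [coord_perm]
  simp

theorem br_idx (f : Idx d n → K) (s : Idx d n) : br f s.1 = f s := by
  have := br_perm f s 1
  simpa using this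

theorem br_not_inj (f : Idx d n → K) (a : Fin d → Fin n) (h : ¬ Function.Injective a) :
    br f a = 0 := by
  unfold br coord
  rw [dif_neg, map_zero]
  intro hc
  apply h
  have : (Finset.univ.image a).card = (Finset.univ : Finset (Fin d)).card := by simpa using hc
  rw [Finset.card_image_iff] at this
  intro x y hxy
  exact this (Finset.mem_coe.mpr (Finset.mem_univ x)) (Finset.mem_coe.mpr (Finset.mem_univ y)) hxy

theorem exists_perm (a : Fin d → Fin n) (h : Function.Injective a) :
    ∃ (s : Idx d n) (π : Equiv.Perm (Fin d)), a = s.1 ∘ π := by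
  have hc : (Finset.univ.image a).card = d := by
    rw [Finset.card_image_of_injective _ h]; simp
  have hmem : ∀ t, a t ∈ Set.range (Finset.orderEmbOfFin _ hc) := by
    intro t
    rw [Finset.range_orderEmbOfFin]
    simp
  choose g hg using hmem
  have ginj : Function.Injective g := by
    intro x y hxy
    apply h
    rw [← hg x, ← hg y, hxy]
  refine ⟨sortIdx d n a hc, Equiv.ofBijective g (Finite.injective_iff_bijective.mp ginj), ?_⟩
  funext t
  simp only [Function.comp, Equiv.ofBijective_apply]
  exact (hg t).symm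

theorem br_comp_perm (f : Idx d n → K) (a : Fin d → Fin n) (σ : Equiv.Perm (Fin d)) :
    br f (a ∘ σ) = (((Equiv.Perm.sign σ : ℤˣ) : ℤ) : K) * br f a := by
  by_cases h : Function.Injective a
  · obtain ⟨s, π, rfl⟩ := exists_perm a h
    have : (s.1 ∘ π) ∘ σ = s.1 ∘ ⇑(π * σ) := by
      funext t; simp
    rw [this, br_perm, br_perm, Equiv.Perm.sign_mul]
    push_cast
    ring
  · rw [br_not_inj f a h, br_not_inj, mul_zero]
    intro hc
    apply h
    have := hc.comp σ.symm.injective
    have h2 : (a ∘ σ) ∘ σ.symm = a := by funext t; simp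
    rwa [h2] at this

theorem br_minors (A : Matrix (Fin n) (Fin d) K) (a : Fin d → Fin n) :
    br (fun θ : Idx d n => (A.submatrix θ.1 id).det) a = (A.submatrix a id).det := by
  by_cases h : Function.Injective a
  · obtain ⟨s, π, rfl⟩ := exists_perm a h
    rw [br_perm]
    have : A.submatrix (s.1 ∘ π) id = (A.submatrix s.1 id).submatrix π id := by
      ext i j; simp
    rw [this, Matrix.det_permute]
  · rw [br_not_inj _ a h]
    rw [Function.Injective] at h
    push Not at h
    obtain ⟨x, y, hxy, hne⟩ := h
    symm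
    apply Matrix.det_zero_of_row_eq hne
    funext t
    simp [hxy]

theorem br_smul (c : K) (f : Idx d n → K) (a : Fin d → Fin n) :
    br (fun θ => c * f θ) a = c * br f a := by
  by_cases h : Function.Injective a
  · obtain ⟨s, π, rfl⟩ := exists_perm a h
    rw [br_perm, br_perm]; ring
  · rw [br_not_inj _ a h, br_not_inj _ a h, mul_zero]

theorem eval_quadric {e : ℕ} (f : Idx (e + 1) n → K) (i' : Idx e n) (j' : Idx (e + 2) n) :
    MvPolynomial.eval f (quadric K i' j') =
      ∑ h : Fin (e + 2), (-1 : K) ^ (h.val + 1) * br f (Fin.snoc i'.1 (j'.1 h)) *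
        br f (j'.1 ∘ h.succAbove) := by
  unfold quadric br
  simp only [map_sum, map_mul, map_pow, map_neg, map_one]

theorem det_snoc {e : ℕ} (A : Matrix (Fin n) (Fin (e + 1)) K) (i' : Fin e → Fin n) (r : Fin n) :
    (A.submatrix (Fin.snoc (α := fun _ => Fin n) i' r) id).det =
      ∑ t : Fin (e + 1), (-1 : K) ^ (e + t.val) * A r t * (A.submatrix i' t.succAbove).det := by
  rw [Matrix.det_succ_row _ (Fin.last e)]
  refine Finset.sum_congr rfl fun t _ => ?_
  have h1 : (A.submatrix (Fin.snoc (α := fun _ => Fin n) i' r) id) (Fin.last e) t = A r t := by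
    simp
  have h2 : (A.submatrix (Fin.snoc (α := fun _ => Fin n) i' r) id).submatrix
      (Fin.last e).succAbove t.succAbove = A.submatrix i' t.succAbove := by
    ext a b
    simp [Fin.succAbove_last]
  rw [h1, h2]
  simp

theorem laplace_zero {e : ℕ} (A : Matrix (Fin n) (Fin (e + 1)) K) (j' : Fin (e + 2) → Fin n)
    (t : Fin (e + 1)) :
    ∑ h : Fin (e + 2), (-1 : K) ^ h.val * A (j' h) t * (A.submatrix (j' ∘ h.succAbove) id).det = 0 := by
  set C : Matrix (Fin (e + 2)) (Fin (e + 2)) K :=
    Matrix.of fun h c => Fin.cases (A (j' h) t) (fun c' => A (j' h) c') c with hC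
  have h0 : C.det = 0 := by
    apply Matrix.det_zero_of_column_eq (i := 0) (j := t.succ) (Fin.succ_ne_zero t).symm
    intro k
    simp [hC]
  rw [Matrix.det_succ_column_zero] at h0
  rw [← h0]
  refine Finset.sum_congr rfl fun h _ => ?_
  have h2 : C.submatrix h.succAbove Fin.succ = A.submatrix (j' ∘ h.succAbove) id := by
    ext a b
    simp [hC]
  rw [h2]
  simp [hC]

theorem quadric_minors {e : ℕ} (A : Matrix (Fin n) (Fin (e + 1)) K) (i' : Idx e n)
    (j' : Idx (e + 2) n) :
    ∑ h : Fin (e + 2), (-1 : K) ^ (h.val + 1) *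
        (A.submatrix (Fin.snoc (α := fun _ => Fin n) i'.1 (j'.1 h)) id).det *
        (A.submatrix (j'.1 ∘ h.succAbove) id).det = 0 := by
  simp_rw [det_snoc, Finset.mul_sum, Finset.sum_mul]
  rw [Finset.sum_comm]
  apply Finset.sum_eq_zero
  intro t _
  have := laplace_zero A j'.1 t
  have h3 : ∀ h : Fin (e + 2),
      (-1 : K) ^ (h.val + 1) * ((-1) ^ (e + t.val) * A (j'.1 h) t * (A.submatrix i'.1 t.succAbove).det) *
        (A.submatrix (j'.1 ∘ h.succAbove) id).det =
      (-((-1) ^ (e + t.val) * (A.submatrix i'.1 t.succAbove).det)) *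
        ((-1 : K) ^ h.val * A (j'.1 h) t * (A.submatrix (j'.1 ∘ h.succAbove) id).det) := by
    intro h; ring
  simp_rw [h3]
  rw [← Finset.mul_sum, this, mul_zero]

theorem idx_ext (s s' : Idx d n) (h : ∀ t, s.1 t ∈ Finset.univ.image s'.1) : s = s' := by
  apply Subtype.ext
  have hc := card_image_idx s'
  have h1 := Finset.orderEmbOfFin_unique (s := Finset.univ.image s'.1) hc (f := s.1) h s.2
  have h2 := Finset.orderEmbOfFin_unique (s := Finset.univ.image s'.1) hc (f := s'.1)
    (fun t => by simp) s'.2
  exact h1.trans h2.symm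

/-- the cycle moving the last position to `t₀`. -/
noncomputable def cyc {e : ℕ} (t₀ : Fin (e + 1)) : Equiv.Perm (Fin (e + 1)) :=
  Equiv.ofBijective (Fin.lastCases t₀ t₀.succAbove) (by
    apply Finite.injective_iff_bijective.mp
    intro a b
    refine Fin.lastCases ?_ (fun a' => ?_) a <;> refine Fin.lastCases ?_ (fun b' => ?_) b
    · intro _; rfl
    · intro h; simp only [Fin.lastCases_last, Fin.lastCases_castSucc] at h
      exact absurd h.symm (Fin.succAbove_ne _ _)
    · intro h; simp only [Fin.lastCases_last, Fin.lastCases_castSucc] at h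
      exact absurd h (Fin.succAbove_ne _ _)
    · intro h; simp only [Fin.lastCases_castSucc] at h
      rw [Fin.succAbove_right_injective h])

theorem snoc_eq_update {e : ℕ} (θ₀ : Fin (e + 1) → Fin n) (t₀ : Fin (e + 1)) (r : Fin n) :
    Fin.snoc (α := fun _ => Fin n) (θ₀ ∘ t₀.succAbove) r = Function.update θ₀ t₀ r ∘ cyc t₀ := by
  funext a
  refine Fin.lastCases ?_ (fun a' => ?_) a
  · simp [cyc]
  · simp [cyc]

theorem unique_of_quadrics {e : ℕ} (f g : Idx (e + 1) n → K) (θ₀ : Idx (e + 1) n)
    (hf : ∀ (i' : Idx e n) (j' : Idx (e + 2) n),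
      ∑ h : Fin (e + 2), (-1 : K) ^ (h.val + 1) * br f (Fin.snoc i'.1 (j'.1 h)) *
        br f (j'.1 ∘ h.succAbove) = 0)
    (hg : ∀ (i' : Idx e n) (j' : Idx (e + 2) n),
      ∑ h : Fin (e + 2), (-1 : K) ^ (h.val + 1) * br g (Fin.snoc i'.1 (j'.1 h)) *
        br g (j'.1 ∘ h.succAbove) = 0)
    (h0 : f θ₀ ≠ 0)
    (hc : ∀ (t₀ : Fin (e + 1)) (r : Fin n),
      br f (Function.update θ₀.1 t₀ r) = br g (Function.update θ₀.1 t₀ r)) :
    ∀ θ : Idx (e + 1) n, f θ = g θ := by
  have key : ∀ (m : ℕ) (θ : Idx (e + 1) n),
      (Finset.univ.image θ.1 \ Finset.univ.image θ₀.1).card = m → f θ = g θ := by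
    intro m
    induction m using Nat.strong_induction_on with
    | _ m ih =>
    intro θ hm
    by_cases hθ : θ = θ₀
    · subst hθ
      have := hc 0 (θ.1 0)
      rwa [Function.update_eq_self, br_idx, br_idx] at this
    -- find t₀
    have hex : ∃ t₀, θ₀.1 t₀ ∉ Finset.univ.image θ.1 := by
      by_contra hcon
      push Not at hcon
      exact hθ (idx_ext θ₀ θ hcon).symm
    obtain ⟨t₀, ht₀⟩ := hex
    set x := θ₀.1 t₀ with hx
    have hJ : (insert x (Finset.univ.image θ.1)).card = e + 2 := by
      rw [Finset.card_insert_of_notMem ht₀, card_image_idx]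
    set J := insert x (Finset.univ.image θ.1) with hJdef
    let j' : Idx (e + 2) n := ⟨fun h => J.orderEmbOfFin hJ h, (J.orderEmbOfFin hJ).strictMono⟩
    have hj'mem : ∀ h, j'.1 h ∈ J := fun h => Finset.orderEmbOfFin_mem J hJ h
    have hxJ : x ∈ Set.range (J.orderEmbOfFin hJ) := by
      rw [Finset.range_orderEmbOfFin]; simp [hJdef]
    obtain ⟨h₀, hh₀⟩ := hxJ
    have hh₀' : j'.1 h₀ = x := hh₀
    have hj'inj : Function.Injective j'.1 := j'.2.injective
    let i' : Idx e n := ⟨θ₀.1 ∘ t₀.succAbove, θ₀.2.comp (Fin.strictMono_succAbove t₀)⟩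
    -- sub-indices
    have hsub : ∀ h : Fin (e + 2), StrictMono (j'.1 ∘ h.succAbove) :=
      fun h => j'.2.comp (Fin.strictMono_succAbove h)
    have hθeq : (⟨j'.1 ∘ h₀.succAbove, hsub h₀⟩ : Idx (e + 1) n) = θ := by
      apply idx_ext
      intro t
      have h1 := hj'mem (h₀.succAbove t)
      have h2 : j'.1 (h₀.succAbove t) ≠ x := by
        rw [← hh₀']
        intro h3
        exact Fin.succAbove_ne _ _ (hj'inj h3)
      simp only [hJdef, Finset.mem_insert] at h1
      rcases h1 with h1 | h1
      · exact absurd h1 h2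
      · exact h1
    -- first factors agree
    have hF : ∀ r : Fin n, br f (Fin.snoc (α := fun _ => Fin n) i'.1 r) =
        br g (Fin.snoc (α := fun _ => Fin n) i'.1 r) := by
      intro r
      show br f (Fin.snoc (α := fun _ => Fin n) (θ₀.1 ∘ t₀.succAbove) r) =
        br g (Fin.snoc (α := fun _ => Fin n) (θ₀.1 ∘ t₀.succAbove) r)
      rw [snoc_eq_update, br_comp_perm, br_comp_perm, hc]
    have hterm : ∀ h : Fin (e + 2), h ≠ h₀ →
        br f (Fin.snoc (α := fun _ => Fin n) i'.1 (j'.1 h)) * br f (j'.1 ∘ h.succAbove) =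
        br f (Fin.snoc (α := fun _ => Fin n) i'.1 (j'.1 h)) * br g (j'.1 ∘ h.succAbove) := by
      intro h hne
      have hjx : j'.1 h ≠ x := by
        rw [← hh₀']; exact fun h3 => hne (hj'inj h3)
      by_cases hmem : j'.1 h ∈ Finset.univ.image θ₀.1
      · -- first factor zero
        obtain ⟨t, -, ht⟩ := Finset.mem_image.mp hmem
        have htt : t ≠ t₀ := by
          rintro rfl; exact hjx ht.symm
        obtain ⟨t', rfl⟩ := Fin.exists_succAbove_eq htt
        have : br f (Fin.snoc (α := fun _ => Fin n) i'.1 (j'.1 h)) = 0 := by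
          apply br_not_inj
          intro hinj
          have h5 : (Fin.snoc (α := fun _ => Fin n) i'.1 (j'.1 h)) (Fin.castSucc t') =
              (Fin.snoc (α := fun _ => Fin n) i'.1 (j'.1 h)) (Fin.last e) := by
            rw [Fin.snoc_castSucc, Fin.snoc_last]
            exact ht
          exact (Fin.castSucc_lt_last t').ne (hinj h5)
        rw [this, zero_mul, zero_mul]
      · congr 1
        have hjθ : j'.1 h ∈ Finset.univ.image θ.1 := by
          have h1 := hj'mem h
          simp only [hJdef, Finset.mem_insert] at h1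
          rcases h1 with h1 | h1
          · exact absurd h1 hjx
          · exact h1
        have hlt : (Finset.univ.image (j'.1 ∘ h.succAbove) \ Finset.univ.image θ₀.1).card < m := by
          rw [← hm]
          apply Finset.card_lt_card
          rw [Finset.ssubset_iff_of_subset]
          · refine ⟨j'.1 h, Finset.mem_sdiff.mpr ⟨hjθ, hmem⟩, ?_⟩
            intro h6
            obtain ⟨c, -, hc'⟩ := Finset.mem_image.mp (Finset.mem_sdiff.mp h6).1
            exact Fin.succAbove_ne _ _ (hj'inj hc')
          · intro y hy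
            obtain ⟨hy1, hy2⟩ := Finset.mem_sdiff.mp hy
            obtain ⟨c, -, rfl⟩ := Finset.mem_image.mp hy1
            refine Finset.mem_sdiff.mpr ⟨?_, hy2⟩
            have h1 := hj'mem (h.succAbove c)
            simp only [hJdef, Finset.mem_insert] at h1
            rcases h1 with h1 | h1
            · exfalso
              apply hy2
              simp only [Function.comp]
              rw [h1, hx]
              exact Finset.mem_image_of_mem _ (Finset.mem_univ _)
            · exact h1
        have := ih _ hlt ⟨j'.1 ∘ h.succAbove, hsub h⟩ rfl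
        rw [← br_idx f ⟨j'.1 ∘ h.succAbove, hsub h⟩, ← br_idx g ⟨j'.1 ∘ h.succAbove, hsub h⟩] at this
        exact this
    have e1 := hf i' j'
    have e2 := hg i' j'
    simp_rw [← hF] at e2
    have e3 : ∑ h : Fin (e + 2), (-1 : K) ^ (h.val + 1) *
        br f (Fin.snoc (α := fun _ => Fin n) i'.1 (j'.1 h)) *
        (br f (j'.1 ∘ h.succAbove) - br g (j'.1 ∘ h.succAbove)) = 0 := by
      simp_rw [mul_sub, Finset.sum_sub_distrib, e1, e2, sub_zero]
    rw [Finset.sum_eq_single h₀] at e3
    · have hF0 : br f (Fin.snoc (α := fun _ => Fin n) i'.1 (j'.1 h₀)) ≠ 0 := by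
        show br f (Fin.snoc (α := fun _ => Fin n) (θ₀.1 ∘ t₀.succAbove) (j'.1 h₀)) ≠ 0
        rw [snoc_eq_update, br_comp_perm, hh₀', hx, Function.update_eq_self, br_idx]
        apply mul_ne_zero _ h0
        rcases Int.units_eq_one_or (Equiv.Perm.sign (cyc t₀)) with h | h <;> simp [h]
      have hpow : (-1 : K) ^ (h₀.val + 1) ≠ 0 := pow_ne_zero _ (neg_ne_zero.mpr one_ne_zero)
      have h7 := (mul_eq_zero.mp e3).resolve_left (mul_ne_zero hpow hF0)
      have h8 : br f (j'.1 ∘ h₀.succAbove) = br g (j'.1 ∘ h₀.succAbove) := sub_eq_zero.mp h7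
      have h9 : f θ = br f (j'.1 ∘ h₀.succAbove) := by
        rw [← hθeq]; exact (br_idx f ⟨j'.1 ∘ h₀.succAbove, hsub h₀⟩).symm
      have h10 : g θ = br g (j'.1 ∘ h₀.succAbove) := by
        rw [← hθeq]; exact (br_idx g ⟨j'.1 ∘ h₀.succAbove, hsub h₀⟩).symm
      rw [h9, h10]
      exact h8
    · intro h _ hne
      rw [mul_assoc, mul_sub, hterm h hne, sub_self, mul_zero]
    · intro h; exact absurd (Finset.mem_univ _) h
  intro θ
  exact key _ θ rfl

theorem det_updateRow_one {m : ℕ} (t₀ : Fin m) (v : Fin m → K) :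
    ((1 : Matrix (Fin m) (Fin m) K).updateRow t₀ v).det = v t₀ := by
  rw [← Matrix.cramer_transpose_apply, Matrix.transpose_one, Matrix.cramer_one]
  rfl

theorem main (K : Type u) [Field K] (e n : ℕ)
    (q : Idx (e + 1) n → K) (hq : q ≠ 0) :
    (∀ (i' : Idx e n) (j' : Idx (e + 2) n), MvPolynomial.eval q (quadric K i' j') = 0) ↔
      ∃ A : Matrix (Fin n) (Fin (e + 1)) K, ∀ θ : Idx (e + 1) n, q θ = (A.submatrix θ.1 id).det := by
  constructor
  · intro hquad
    obtain ⟨θ₀, hθ₀⟩ : ∃ θ₀, q θ₀ ≠ 0 := by
      by_contra hcon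
      push Not at hcon
      exact hq (funext hcon)
    set c : K := (q θ₀)⁻¹ with hc
    set p : Idx (e + 1) n → K := fun θ => c * q θ with hp
    have hp0 : p θ₀ = 1 := by simp [hp, hc, hθ₀]
    set B : Matrix (Fin n) (Fin (e + 1)) K :=
      Matrix.of fun r t => br p (Function.update θ₀.1 t r) with hB
    set g : Idx (e + 1) n → K := fun θ => (B.submatrix θ.1 id).det with hg
    have hpg : ∀ θ, p θ = g θ := by
      apply unique_of_quadrics p g θ₀
      · intro i' j'
        have := hquad i' j'
        rw [eval_quadric] at this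
        simp_rw [hp, br_smul]
        have h3 : ∀ h : Fin (e + 2),
            (-1 : K) ^ (h.val + 1) * (c * br q (Fin.snoc (α := fun _ => Fin n) i'.1 (j'.1 h))) *
              (c * br q (j'.1 ∘ h.succAbove)) =
            (c * c) * ((-1 : K) ^ (h.val + 1) * br q (Fin.snoc (α := fun _ => Fin n) i'.1 (j'.1 h)) *
              br q (j'.1 ∘ h.succAbove)) := by
          intro h; ring
        simp_rw [h3]
        rw [← Finset.mul_sum, this, mul_zero]
      · intro i' j'
        simp_rw [hg, br_minors]
        exact quadric_minors B i' j'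
      · rw [hp0]; exact one_ne_zero
      · intro t₀ r
        rw [hg, br_minors]
        have hM : B.submatrix (Function.update θ₀.1 t₀ r) id =
            (1 : Matrix (Fin (e + 1)) (Fin (e + 1)) K).updateRow t₀ (fun t => B r t) := by
          ext s t
          by_cases hs : s = t₀
          · subst hs
            simp
          · rw [Matrix.updateRow_ne hs]
            simp only [Matrix.submatrix_apply, id, Function.update_of_ne hs]
            rw [hB, Matrix.of_apply]
            by_cases hst : s = t
            · subst hst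
              rw [Function.update_eq_self, br_idx, hp0, Matrix.one_apply_eq]
            · rw [Matrix.one_apply_ne hst]
              apply br_not_inj
              intro hinj
              apply hst
              apply hinj
              rw [Function.update_of_ne hst, Function.update_self]
        rw [hM, det_updateRow_one, hB, Matrix.of_apply]
    refine ⟨Matrix.of fun r t => (if t = 0 then q θ₀ else 1) * B r t, fun θ => ?_⟩
    have hA : (Matrix.of fun r t => (if t = 0 then q θ₀ else 1) * B r t).submatrix θ.1 id =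
        Matrix.of fun (s : Fin (e + 1)) (t : Fin (e + 1)) =>
          (fun t : Fin (e + 1) => if t = 0 then q θ₀ else 1) t * (B.submatrix θ.1 id) s t := by
      ext s t; simp
    rw [hA, Matrix.det_mul_row, Finset.prod_ite_eq' Finset.univ (0 : Fin (e + 1)) (fun _ => q θ₀)]
    simp only [Finset.mem_univ, if_true]
    have := hpg θ
    simp only [hp, hg] at this
    rw [← this, hc, ← mul_assoc, mul_inv_cancel₀ hθ₀, one_mul]
  · rintro ⟨A, hA⟩ i' j'
    have hq' : q = fun θ : Idx (e + 1) n => (A.submatrix θ.1 id).det := funext hA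
    rw [eval_quadric, hq']
    simp_rw [br_minors]
    exact quadric_minors A i' j'

end

open W4bk4grassmannian in
/-- The Grassmannian is cut out set-theoretically by the Plücker quadrics: let K be a field, e, n
natural numbers, and q : I(e+1,n) → K a nonzero vector (a point of the projective space of the
Plücker embedding of G(e+1,n)). Then q is the vector of (e+1) × (e+1) row-minors of some n × (e+1)
matrix over K if and only if all the quadrics attached to i' ∈ I(e,n), j' ∈ I(e+2,n) (the signed
sums Σ_h (-1)^(h+1) [i', j'_h] [j' with j'_h removed], brackets of arbitrary tuples meaning signed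
sorted coordinates, zero on repeated rows) vanish at q. (The published statement is over an
algebraically closed field; this row allows any field K.) -/
theorem result (K : Type u) [Field K] (e n : ℕ)
    (q : Idx (e + 1) n → K) (hq : q ≠ 0) :
    (∀ (i' : Idx e n) (j' : Idx (e + 2) n), MvPolynomial.eval q (quadric K i' j') = 0) ↔
      ∃ A : Matrix (Fin n) (Fin (e + 1)) K, ∀ θ : Idx (e + 1) n, q θ = (A.submatrix θ.1 id).det := by
  exact Groth.Agent.S11256.main K e n q hq

end Groth.Agent.S11256
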