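import Groth.Statements.S11251
import Mathlib
import Groth.Agent.S11256
-- import your own Groth.Agent.* helpers here

set_option autoImplicit false
universe u
open W4bk4grassmannian

namespace Groth.Agent.S11251

section
open W4bk4grassmannian MvPolynomial

variable {K : Type u} [CommRing K] {d n : ℕ}

theorem coord_perm (s : Idx d n) (π : Equiv.Perm (Fin d)) :
    coord K d n (s.1 ∘ π) = (((Equiv.Perm.sign π : ℤˣ) : ℤ) : PlRing K d n) * X s := by
  unfold coord
  rw [dif_pos (Groth.Agent.S11256.card_image_perm s π), Groth.Agent.S11256.sortIdx_perm,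
    ← Groth.Agent.S11256.invCount_perm s π]
  push_cast
  rfl

theorem coord_idx (s : Idx d n) : coord K d n s.1 = X s := by
  have := coord_perm (K := K) s 1
  simpa using this

/-- weight of a tuple -/
def wt (x : Fin d → Fin n) : ℕ := ∑ t, (x t).val

theorem wt_sortIdx (x : Fin d → Fin n) (h : (Finset.univ.image x).card = d) :
    wt (sortIdx d n x h).1 = wt x := by
  unfold wt sortIdx
  simp only
  have hinj : Function.Injective x := by
    have h' : (Finset.univ.image x).card = (Finset.univ : Finset (Fin d)).card := by simpa using h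
    rw [Finset.card_image_iff] at h'
    intro a b hab
    exact h' (Finset.mem_coe.mpr (Finset.mem_univ a)) (Finset.mem_coe.mpr (Finset.mem_univ b)) hab
  have h1 : ∑ t, ((Finset.univ.image x).orderEmbOfFin h t).val =
      ∑ y ∈ Finset.univ.image ((Finset.univ.image x).orderEmbOfFin h), y.val := by
    rw [Finset.sum_image]
    intro a _ b _ hab
    exact (Finset.orderEmbOfFin _ h).injective hab
  rw [h1, Finset.image_orderEmbOfFin_univ, Finset.sum_image]
  intro a _ b _ hab
  exact hinj hab

theorem wt_le (x : Fin d → Fin n) : wt x ≤ d * n := by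
  unfold wt
  calc ∑ t, (x t).val ≤ ∑ _t : Fin d, n := Finset.sum_le_sum fun t _ => (x t).isLt.le
    _ = d * n := by simp

theorem eq_of_le_of_wt (x y : Idx d n) (h : x ≤ y) (hw : wt y.1 ≤ wt x.1) : x = y := by
  have h1 : ∀ t, (x.1 t).val ≤ (y.1 t).val := fun t => h t
  have h2 : wt x.1 ≤ wt y.1 := Finset.sum_le_sum fun t _ => h1 t
  have h3 : wt x.1 = wt y.1 := le_antisymm h2 hw
  have h4 := (Finset.sum_eq_sum_iff_of_le (s := Finset.univ) (f := fun t => (x.1 t).val)
    (g := fun t => (y.1 t).val) fun t _ => h1 t).mp h3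
  apply Subtype.ext
  funext t
  exact Fin.ext (h4 t (Finset.mem_univ t))

theorem sum_fin_le (r : ℕ) (hr : r < d) (G : Fin (r + 1) → ℕ) :
    ∑ t : Fin d, (if h : t.val ≤ r then G ⟨t.val, Nat.lt_succ_of_le h⟩ else 0) =
      ∑ s : Fin (r + 1), G s := by
  set G' : ℕ → ℕ := fun t => if h : t < r + 1 then G ⟨t, h⟩ else 0 with hG'
  have h1 : ∑ s : Fin (r + 1), G s = ∑ t ∈ Finset.range (r + 1), G' t := by
    rw [← Fin.sum_univ_eq_sum_range]
    refine Finset.sum_congr rfl fun s _ => ?_
    simp only [hG']
    rw [dif_pos s.isLt]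
  have h2 : ∑ t : Fin d, (if h : t.val ≤ r then G ⟨t.val, Nat.lt_succ_of_le h⟩ else 0) =
      ∑ t ∈ Finset.range d, G' t := by
    rw [← Fin.sum_univ_eq_sum_range]
    refine Finset.sum_congr rfl fun t _ => ?_
    simp only [hG']
    by_cases h : t.val ≤ r
    · rw [dif_pos h, dif_pos (Nat.lt_succ_of_le h)]
    · rw [dif_neg h, dif_neg (by omega)]
  rw [h1, h2]
  symm
  apply Finset.sum_subset
  · intro t ht
    simp only [Finset.mem_range] at ht ⊢
    omega
  · intro t _ ht
    simp only [Finset.mem_range] at ht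
    simp only [hG', dif_neg ht]

theorem sum_fin_ge (r : ℕ) (hr : r ≤ d) (H : Fin (d - r) → ℕ) :
    ∑ t : Fin d, (if h : t.val < r then 0 else H ⟨t.val - r, by have := t.isLt; omega⟩) =
      ∑ u : Fin (d - r), H u := by
  set H' : ℕ → ℕ := fun u => if h : u < d - r then H ⟨u, h⟩ else 0 with hH'
  have h1 : ∑ u : Fin (d - r), H u = ∑ u ∈ Finset.range (d - r), H' u := by
    rw [← Fin.sum_univ_eq_sum_range]
    refine Finset.sum_congr rfl fun s _ => ?_
    simp only [hH']
    rw [dif_pos s.isLt]
  have h2 : ∑ t : Fin d, (if h : t.val < r then 0 else H ⟨t.val - r, by have := t.isLt; omega⟩) =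
      ∑ t ∈ Finset.range d, (if t < r then 0 else H' (t - r)) := by
    rw [← Fin.sum_univ_eq_sum_range (fun t => if t < r then 0 else H' (t - r))]
    refine Finset.sum_congr rfl fun t _ => ?_
    by_cases h : t.val < r
    · rw [dif_pos h, if_pos h]
    · rw [dif_neg h, if_neg h]
      simp only [hH']
      rw [dif_pos (by have := t.isLt; omega)]
  rw [h1, h2]
  have hd : d = r + (d - r) := by omega
  conv_lhs => rw [hd]
  rw [Finset.sum_range_add]
  have h3 : ∑ x ∈ Finset.range r, (if x < r then 0 else H' (x - r)) = 0 := by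
    apply Finset.sum_eq_zero
    intro x hx
    rw [if_pos (Finset.mem_range.mp hx)]
  rw [h3, zero_add]
  refine Finset.sum_congr rfl fun x _ => ?_
  rw [if_neg (by omega)]
  congr 1
  omega

/-- values of the moving rows -/
def mv (a b : Idx d n) (r : Fin d) (k : Fin (d + 1)) : ℕ := (movingRows a b r k).val

theorem mv_strictMono (a b : Idx d n) (r : Fin d) (h : a.1 r < b.1 r) : StrictMono (mv a b r) := by
  intro k k' hkk
  have hkk' : k.val < k'.val := hkk
  unfold mv movingRows
  by_cases h1 : k.val ≤ r.val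
  · by_cases h2 : k'.val ≤ r.val
    · rw [dif_pos h1, dif_pos h2]
      exact a.2 (by exact hkk')
    · rw [dif_pos h1, dif_neg h2]
      have e1 : a.1 ⟨k.val, lt_of_le_of_lt h1 r.isLt⟩ ≤ a.1 r := a.2.monotone (by exact h1)
      have e2 : b.1 r ≤ b.1 ⟨k'.val - 1, by have := k'.isLt; omega⟩ :=
        b.2.monotone (by show r.val ≤ k'.val - 1; omega)
      exact lt_of_le_of_lt e1 (lt_of_lt_of_le h e2)
  · have h2 : ¬ k'.val ≤ r.val := by omega
    rw [dif_neg h1, dif_neg h2]
    apply b.2
    show k.val - 1 < k'.val - 1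
    omega

theorem sum_orderEmb {m k : ℕ} (A : Finset (Fin m)) (hA : A.card = k) (f : Fin m → ℕ) :
    ∑ s : Fin k, f (A.orderEmbOfFin hA s) = ∑ x ∈ A, f x := by
  conv_rhs => rw [← Finset.image_orderEmbOfFin_univ A hA]
  rw [Finset.sum_image]
  intro x _ y _ hxy
  exact (A.orderEmbOfFin hA).injective hxy

theorem wt_shuffleI (a b : Idx d n) (r : Fin d) (A : Finset (Fin (d + 1)))
    (hA : A.card = r.val + 1) :
    wt (shuffleI a b r A hA) =
      (∑ k ∈ A, mv a b r k) + ∑ t : Fin d, (if t.val ≤ r.val then 0 else (a.1 t).val) := by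
  have h1 : ∀ t : Fin d, (shuffleI a b r A hA t).val =
      (if h : t.val ≤ r.val then mv a b r (A.orderEmbOfFin hA ⟨t.val, Nat.lt_succ_of_le h⟩) else 0) +
      (if t.val ≤ r.val then 0 else (a.1 t).val) := by
    intro t
    unfold shuffleI mv
    by_cases h : t.val ≤ r.val
    · rw [dif_pos h, dif_pos h, if_pos h, add_zero]
    · rw [dif_neg h, dif_neg h, if_neg h, zero_add]
  unfold wt
  simp_rw [h1]
  rw [Finset.sum_add_distrib,
    sum_fin_le r.val r.isLt (fun s => mv a b r (A.orderEmbOfFin hA s)), sum_orderEmb]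

theorem wt_shuffleJ (a b : Idx d n) (r : Fin d) (A : Finset (Fin (d + 1)))
    (hA : A.card = r.val + 1) :
    wt (shuffleJ a b r A hA) =
      (∑ t : Fin d, (if t.val < r.val then (b.1 t).val else 0)) + ∑ k ∈ Aᶜ, mv a b r k := by
  have hC : Aᶜ.card = d - r.val := by
    rw [Finset.card_compl, hA, Fintype.card_fin]; omega
  have h1 : ∀ t : Fin d, (shuffleJ a b r A hA t).val =
      (if t.val < r.val then (b.1 t).val else 0) +
      (if h : t.val < r.val then 0 else
        mv a b r (Aᶜ.orderEmbOfFin hC ⟨t.val - r.val, by have := t.isLt; omega⟩)) := by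
    intro t
    unfold shuffleJ mv
    by_cases h : t.val < r.val
    · simp only [dif_pos h, if_pos h, add_zero]
    · simp only [dif_neg h, if_neg h, zero_add]
  unfold wt
  simp_rw [h1]
  rw [Finset.sum_add_distrib,
    sum_fin_ge r.val r.isLt.le (fun u => mv a b r (Aᶜ.orderEmbOfFin hC u)), sum_orderEmb]

/-- the identity shuffle -/
def A0 (r : Fin d) : Finset (Fin (d + 1)) := Finset.Iic r.castSucc

theorem mem_A0 (r : Fin d) (k : Fin (d + 1)) : k ∈ A0 r ↔ k.val ≤ r.val := by
  unfold A0
  rw [Finset.mem_Iic, Fin.le_def]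
  simp

theorem card_A0 (r : Fin d) : (A0 r).card = r.val + 1 := by
  unfold A0
  rw [Fin.card_Iic]
  simp

theorem emb_A0 (r : Fin d) (h : (A0 r).card = r.val + 1) (s : Fin (r.val + 1)) :
    (A0 r).orderEmbOfFin h s = ⟨s.val, by have := s.isLt; have := r.isLt; omega⟩ := by
  have := Finset.orderEmbOfFin_unique (s := A0 r) h
    (f := fun s : Fin (r.val + 1) => (⟨s.val, by have := s.isLt; have := r.isLt; omega⟩ : Fin (d + 1)))
    (fun x => by rw [mem_A0]; have := x.isLt; simp only; omega)
    (fun x y hxy => by simpa using hxy)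
  exact (congrFun this s).symm

theorem emb_A0_compl (r : Fin d) (h : (A0 r)ᶜ.card = d - r.val) (u : Fin (d - r.val)) :
    (A0 r)ᶜ.orderEmbOfFin h u = ⟨r.val + 1 + u.val, by have := u.isLt; have := r.isLt; omega⟩ := by
  have := Finset.orderEmbOfFin_unique (s := (A0 r)ᶜ) h
    (f := fun u : Fin (d - r.val) =>
      (⟨r.val + 1 + u.val, by have := u.isLt; have := r.isLt; omega⟩ : Fin (d + 1)))
    (fun x => by rw [Finset.mem_compl, mem_A0]; simp only; omega)
    (fun x y hxy => by
      have : x.val < y.val := hxy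
      show r.val + 1 + x.val < r.val + 1 + y.val
      omega)
  exact (congrFun this u).symm

theorem shuffleI_A0 (a b : Idx d n) (r : Fin d) (h : (A0 r).card = r.val + 1) :
    shuffleI a b r (A0 r) h = a.1 := by
  funext t
  unfold shuffleI
  by_cases ht : t.val ≤ r.val
  · rw [dif_pos ht, emb_A0]
    unfold movingRows
    rw [dif_pos (by simpa using ht)]
  · rw [dif_neg ht]

theorem shuffleJ_A0 (a b : Idx d n) (r : Fin d) (h : (A0 r).card = r.val + 1) :
    shuffleJ a b r (A0 r) h = b.1 := by
  funext t
  unfold shuffleJ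
  by_cases ht : t.val < r.val
  · simp only [dif_pos ht]
  · simp only [dif_neg ht]
    rw [emb_A0_compl]
    unfold movingRows
    rw [dif_neg (by simp only; omega)]
    exact congrArg b.1 (Fin.ext (by simp only; omega))

theorem le_strictMono_fin {k m : ℕ} (f : Fin k → Fin m) (hf : StrictMono f) :
    ∀ (j : ℕ) (hj : j < k), j ≤ (f ⟨j, hj⟩).val := by
  intro j
  induction j with
  | zero => intro _; exact Nat.zero_le _
  | succ j ih =>
    intro hj
    have h1 := ih (by omega)
    have h2 : f ⟨j, by omega⟩ < f ⟨j + 1, hj⟩ := hf (by simp [Fin.lt_def])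
    have h3 : (f ⟨j, by omega⟩).val < (f ⟨j + 1, hj⟩).val := h2
    omega

theorem sum_A0_lt (a b : Idx d n) (r : Fin d) (hab : a.1 r < b.1 r) (A : Finset (Fin (d + 1)))
    (hA : A.card = r.val + 1) (hne : A ≠ A0 r) :
    ∑ k ∈ A0 r, mv a b r k < ∑ k ∈ A, mv a b r k := by
  have hmono := mv_strictMono a b r hab
  rw [← sum_orderEmb A hA, ← sum_orderEmb (A0 r) (card_A0 r)]
  have hle : ∀ s : Fin (r.val + 1),
      (A0 r).orderEmbOfFin (card_A0 r) s ≤ A.orderEmbOfFin hA s := by
    intro s
    rw [emb_A0, Fin.le_def]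
    simp only
    exact le_strictMono_fin _ (A.orderEmbOfFin hA).strictMono s.val s.isLt
  apply Finset.sum_lt_sum
  · intro s _
    exact hmono.monotone (hle s)
  · by_contra hcon
    push Not at hcon
    apply hne
    have heq : ∀ s : Fin (r.val + 1),
        A.orderEmbOfFin hA s = (A0 r).orderEmbOfFin (card_A0 r) s := by
      intro s
      have h1 := hcon s (Finset.mem_univ s)
      have h2 := hmono.monotone (hle s)
      exact hmono.injective (le_antisymm h1 h2)
    rw [← Finset.image_orderEmbOfFin_univ A hA, ← Finset.image_orderEmbOfFin_univ (A0 r) (card_A0 r)]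
    apply Finset.image_congr
    intro s _
    exact heq s

/-- potential -/
def Phi (L : List (Idx d n)) : ℕ := (L.map fun θ => (wt θ.1) ^ 2).sum

theorem Phi_le (L : List (Idx d n)) : Phi L ≤ L.length * (d * n) ^ 2 := by
  unfold Phi
  induction L with
  | nil => simp
  | cons θ L ih =>
    simp only [List.map_cons, List.sum_cons, List.length_cons]
    have := Nat.pow_le_pow_left (wt_le θ.1) 2
    nlinarith

theorem Phi_perm {L L' : List (Idx d n)} (h : L.Perm L') : Phi L = Phi L' := by
  unfold Phi
  exact (h.map _).sum_eq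

variable (K) in
/-- list monomial -/
noncomputable def listMon (L : List (Idx d n)) : PlRing K d n := (L.map X).prod

theorem listMon_perm {L L' : List (Idx d n)} (h : L.Perm L') : listMon K L = listMon K L' := by
  unfold listMon
  exact (h.map _).prod_eq

variable (K d n) in
/-- the span of standard monomials -/
noncomputable def N : Submodule K (PlRing K d n ⧸ plIdealTop (d := d) (n := n) K) :=
  Submodule.span K (Set.range fun c : (Σ m : ℕ, {c : Fin m → Idx d n // Antitone c}) =>
        Ideal.Quotient.mk (plIdealTop (d := d) (n := n) K) (chainMon K c.2.1))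

theorem neg_one_pow_mul_mem (k : ℕ) (x : PlRing K d n ⧸ plIdealTop (d := d) (n := n) K)
    (hx : x ∈ N K d n) : (-1) ^ k * x ∈ N K d n := by
  rcases neg_one_pow_eq_or (PlRing K d n ⧸ plIdealTop (d := d) (n := n) K) k with h | h
  · rw [h, one_mul]; exact hx
  · rw [h, neg_one_mul]; exact Submodule.neg_mem _ hx

theorem chain_mem (L : List (Idx d n)) (hL : L.Pairwise fun x y => x ≤ y ∨ y ≤ x) :
    Ideal.Quotient.mk (plIdealTop (d := d) (n := n) K) (listMon K L) ∈ N K d n := by
  classical
  let rel : Idx d n → Idx d n → Prop := fun x y => wt y.1 ≤ wt x.1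
  haveI : Std.Total rel := ⟨fun x y => le_total _ _⟩
  haveI : IsTrans (Idx d n) rel := ⟨fun x y z h1 h2 => le_trans h2 h1⟩
  set L' := L.insertionSort rel with hL'
  have hperm : L'.Perm L := List.perm_insertionSort rel L
  have hsorted : L'.Pairwise rel := List.pairwise_insertionSort rel L
  have hcomp : L'.Pairwise fun x y => x ≤ y ∨ y ≤ x :=
    hperm.symm.pairwise hL (fun h => h.symm)
  have hanti : L'.Pairwise fun x y => y ≤ x := by
    refine (hsorted.and hcomp).imp ?_
    rintro x y ⟨h1, h2 | h2⟩
    · rw [eq_of_le_of_wt x y h2 h1]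
    · exact h2
  rw [List.pairwise_iff_get] at hanti
  have hanti' : Antitone L'.get := by
    intro i j hij
    rcases hij.lt_or_eq with h | h
    · exact hanti i j h
    · rw [h]
  rw [← listMon_perm hperm]
  apply Submodule.subset_span
  refine ⟨⟨L'.length, ⟨L'.get, hanti'⟩⟩, ?_⟩
  simp only
  congr 1
  unfold chainMon listMon
  rw [← List.prod_ofFn]
  have : (List.ofFn fun k => (X (L'.get k) : PlRing K d n)) = List.map X (List.ofFn L'.get) := by
    rw [List.map_ofFn]; rfl
  rw [this, List.ofFn_get]

theorem wt_facts (a b : Idx d n) (r : Fin d) (hab : a.1 r < b.1 r) (A : Finset (Fin (d + 1)))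
    (hA : A.card = r.val + 1) (hne : A ≠ A0 r) :
    wt (shuffleI a b r A hA) + wt (shuffleJ a b r A hA) = wt a.1 + wt b.1 ∧
      wt a.1 < wt (shuffleI a b r A hA) := by
  have hI := wt_shuffleI a b r A hA
  have hJ := wt_shuffleJ a b r A hA
  have hI0 := wt_shuffleI a b r (A0 r) (card_A0 r)
  have hJ0 := wt_shuffleJ a b r (A0 r) (card_A0 r)
  rw [shuffleI_A0] at hI0
  rw [shuffleJ_A0] at hJ0
  have h1 := Finset.sum_add_sum_compl A (mv a b r)
  have h2 := Finset.sum_add_sum_compl (A0 r) (mv a b r)
  have h3 := sum_A0_lt a b r hab A hA hne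
  constructor <;> omega

theorem step (a b : Idx d n) (r : Fin d) (hpiv : IsPivot a b r) (M : PlRing K d n)
    (hIH : ∀ a' b' : Idx d n, wt a'.1 + wt b'.1 = wt a.1 + wt b.1 → wt a.1 < wt a'.1 →
      Ideal.Quotient.mk (plIdealTop (d := d) (n := n) K) (X a' * X b' * M) ∈ N K d n) :
    Ideal.Quotient.mk (plIdealTop (d := d) (n := n) K) (X a * X b * M) ∈ N K d n := by
  classical
  set mk := Ideal.Quotient.mk (plIdealTop (d := d) (n := n) K) with hmk
  have hrel : mk (shuffleRel K a b r) = 0 := by
    rw [hmk, Ideal.Quotient.eq_zero_iff_mem]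
    exact Ideal.subset_span ⟨a, b, r, hpiv, rfl⟩
  have hterm : ∀ A : Finset (Fin (d + 1)), A ≠ A0 r → mk (shuffleTerm K a b r A * M) ∈ N K d n := by
    intro A hne
    unfold shuffleTerm
    by_cases hA : A.card = r.val + 1
    swap
    · rw [dif_neg hA, zero_mul, map_zero]; exact Submodule.zero_mem _
    rw [dif_pos hA]
    obtain ⟨hw1, hw2⟩ := wt_facts a b r hpiv.2 A hA hne
    unfold coord
    by_cases hI : (Finset.univ.image (shuffleI a b r A hA)).card = d
    swap
    · rw [dif_neg hI, mul_zero, zero_mul, zero_mul, map_zero]; exact Submodule.zero_mem _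
    by_cases hJ : (Finset.univ.image (shuffleJ a b r A hA)).card = d
    swap
    · rw [dif_neg hJ, mul_zero, zero_mul, map_zero]; exact Submodule.zero_mem _
    rw [dif_pos hI, dif_pos hJ]
    have hmem := hIH (sortIdx d n _ hI) (sortIdx d n _ hJ)
      (by rw [wt_sortIdx, wt_sortIdx]; exact hw1) (by rw [wt_sortIdx]; exact hw2)
    have e : (-1 : PlRing K d n) ^ shuffleSign r A *
        ((-1) ^ invCount d n (shuffleI a b r A hA) * X (sortIdx d n (shuffleI a b r A hA) hI)) *
        ((-1) ^ invCount d n (shuffleJ a b r A hA) * X (sortIdx d n (shuffleJ a b r A hA) hJ)) * M =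
        (-1) ^ (shuffleSign r A + invCount d n (shuffleI a b r A hA) +
          invCount d n (shuffleJ a b r A hA)) *
        (X (sortIdx d n (shuffleI a b r A hA) hI) * X (sortIdx d n (shuffleJ a b r A hA) hJ) * M) := by
      rw [pow_add, pow_add]; ring
    rw [e, map_mul, map_pow, map_neg, map_one]
    exact neg_one_pow_mul_mem _ _ hmem
  have hsum : mk (shuffleRel K a b r * M) =
      mk (shuffleTerm K a b r (A0 r) * M) +
        ∑ A ∈ Finset.univ.erase (A0 r), mk (shuffleTerm K a b r A * M) := by
    unfold shuffleRel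
    rw [Finset.sum_mul, map_sum, ← Finset.add_sum_erase Finset.univ _ (Finset.mem_univ (A0 r))]
  have h0 : mk (shuffleTerm K a b r (A0 r) * M) =
      (-1) ^ shuffleSign r (A0 r) * mk (X a * X b * M) := by
    unfold shuffleTerm
    rw [dif_pos (card_A0 r), shuffleI_A0, shuffleJ_A0, coord_idx, coord_idx]
    rw [mul_assoc, mul_assoc, map_mul, map_pow, map_neg, map_one, ← mul_assoc]
  have hz : mk (shuffleRel K a b r * M) = 0 := by
    rw [map_mul, hrel, zero_mul]
  rw [hz, h0] at hsum
  have hS : ∑ A ∈ Finset.univ.erase (A0 r), mk (shuffleTerm K a b r A * M) ∈ N K d n := by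
    apply Submodule.sum_mem
    intro A hA
    exact hterm A (Finset.ne_of_mem_erase hA)
  have h5 : (-1) ^ shuffleSign r (A0 r) * mk (X a * X b * M) ∈ N K d n := by
    have : (-1) ^ shuffleSign r (A0 r) * mk (X a * X b * M) =
        - ∑ A ∈ Finset.univ.erase (A0 r), mk (shuffleTerm K a b r A * M) := by
      rw [eq_neg_iff_add_eq_zero]; exact hsum.symm
    rw [this]
    exact Submodule.neg_mem _ hS
  rcases neg_one_pow_eq_or (PlRing K d n ⧸ plIdealTop (d := d) (n := n) K)
      (shuffleSign r (A0 r)) with h | h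
  · rw [h, one_mul] at h5; exact h5
  · rw [h, neg_one_mul] at h5
    have := Submodule.neg_mem _ h5
    rwa [neg_neg] at this

theorem exists_pivot (a b : Idx d n) (h : ¬ b ≤ a) : ∃ r : Fin d, IsPivot a b r := by
  have h1 : ∃ t, a.1 t < b.1 t := by
    by_contra hcon
    push Not at hcon
    exact h (fun t => hcon t)
  obtain ⟨t, ht⟩ := h1
  obtain ⟨r, hr, hmin⟩ := wellFounded_lt.has_min {t : Fin d | a.1 t < b.1 t} ⟨t, ht⟩
  refine ⟨r, ⟨fun t htr => ?_, hr⟩⟩
  by_contra hcon
  push Not at hcon
  exact hmin t hcon htr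

theorem Phi_lt (a b a' b' : Idx d n) (L : List (Idx d n))
    (h1 : wt a'.1 + wt b'.1 = wt a.1 + wt b.1) (h2 : wt a.1 < wt a'.1) (h3 : wt b.1 ≤ wt a.1) :
    Phi (a :: b :: L) < Phi (a' :: b' :: L) := by
  unfold Phi
  simp only [List.map_cons, List.sum_cons]
  have : wt a.1 ^ 2 + wt b.1 ^ 2 < wt a'.1 ^ 2 + wt b'.1 ^ 2 := by
    obtain ⟨δ, hδ⟩ := Nat.exists_eq_add_of_lt h2
    have hb : wt b.1 = wt b'.1 + (δ + 1) := by omega
    have ha : wt a'.1 = wt a.1 + (δ + 1) := by omega
    rw [ha, hb]
    nlinarith
  omega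

theorem all_lists (L : List (Idx d n)) :
    Ideal.Quotient.mk (plIdealTop (d := d) (n := n) K) (listMon K L) ∈ N K d n := by
  induction' hk : (L.length * (d * n) ^ 2 - Phi L) using Nat.strong_induction_on with k ih generalizing L
  by_cases hp : L.Pairwise fun x y => x ≤ y ∨ y ≤ x
  · exact chain_mem L hp
  rw [List.pairwise_iff_forall_sublist] at hp
  push Not at hp
  obtain ⟨x, y, hsub, hxy1, hxy2⟩ := hp
  obtain ⟨L'', hperm⟩ := hsub.exists_perm_append
  -- choose the orientation
  have key : ∀ a b : Idx d n, L.Perm (a :: b :: L'') → ¬ b ≤ a → wt b.1 ≤ wt a.1 →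
      Ideal.Quotient.mk (plIdealTop (d := d) (n := n) K) (listMon K L) ∈ N K d n := by
    intro a b hperm hba hw
    obtain ⟨r, hpiv⟩ := exists_pivot a b hba
    rw [listMon_perm hperm]
    have e1 : listMon K (a :: b :: L'') = X a * X b * listMon K L'' := by
      unfold listMon
      simp only [List.map_cons, List.prod_cons, mul_assoc]
    rw [e1]
    apply step a b r hpiv
    intro a' b' h1 h2
    have e2 : X a' * X b' * listMon K L'' = listMon K (a' :: b' :: L'') := by
      unfold listMon
      simp only [List.map_cons, List.prod_cons, mul_assoc]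
    rw [e2]
    have hlen : (a' :: b' :: L'').length = L.length := by
      rw [hperm.length_eq]; simp
    have hPhi : Phi L < Phi (a' :: b' :: L'') := by
      rw [Phi_perm hperm]
      exact Phi_lt a b a' b' L'' h1 h2 hw
    have hle := Phi_le (a' :: b' :: L'')
    rw [hlen] at hle
    apply ih ((a' :: b' :: L'').length * (d * n) ^ 2 - Phi (a' :: b' :: L'')) _ _ rfl
    rw [hlen, ← hk]
    omega
  rcases le_total (wt y.1) (wt x.1) with hw | hw
  · exact key x y hperm hxy2 hw
  · refine key y x (hperm.trans ?_) hxy1 hw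
    exact List.Perm.swap _ _ _

theorem main (K : Type u) [CommRing K] (d n : ℕ) :
    Submodule.span K (Set.range fun c : (Σ m : ℕ, {c : Fin m → Idx d n // Antitone c}) =>
        Ideal.Quotient.mk (plIdealTop (d := d) (n := n) K) (chainMon K c.2.1)) = ⊤ := by
  rw [eq_top_iff]
  intro x _
  obtain ⟨p, rfl⟩ := Ideal.Quotient.mk_surjective x
  show Ideal.Quotient.mk (plIdealTop (d := d) (n := n) K) p ∈ N K d n
  have hgen : ∀ (p : PlRing K d n) (L : List (Idx d n)),
      Ideal.Quotient.mk (plIdealTop (d := d) (n := n) K) (p * listMon K L) ∈ N K d n := by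
    intro p
    induction p using MvPolynomial.induction_on with
    | C c =>
      intro L
      have : Ideal.Quotient.mk (plIdealTop (d := d) (n := n) K) (C c * listMon K L) =
          c • Ideal.Quotient.mk (plIdealTop (d := d) (n := n) K) (listMon K L) := by
        rw [← MvPolynomial.smul_eq_C_mul]
        rfl
      rw [this]
      exact Submodule.smul_mem _ _ (all_lists L)
    | add p q hp hq =>
      intro L
      rw [add_mul, map_add]
      exact Submodule.add_mem _ (hp L) (hq L)
    | mul_X p i hp =>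
      intro L
      have : p * X i * listMon K L = p * listMon K (i :: L) := by
        unfold listMon
        simp only [List.map_cons, List.prod_cons, mul_assoc]
      rw [this]
      exact hp _
  have := hgen p []
  simpa [listMon] using this

end

open W4bk4grassmannian in
/-- Let K be a commutative ring, d, n natural numbers, S = K[X_θ : θ ∈ I(d,n)] the Plücker polynomial
ring on the strictly increasing maps Fin d → Fin n (ordered entrywise), and I ⊆ S the ideal
generated by the quadratic shuffle relations at pivots. Then the classes in S/I of the standard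
monomials, the products X_{τ_1} ⋯ X_{τ_m} over all m ≥ 0 and all chains τ_1 ≥ ⋯ ≥ τ_m, span S/I as a
K-module. (The published statement is over an algebraically closed field; this row allows any
commutative ring K, the straightening argument being formal.) -/
theorem result (K : Type u) [CommRing K] (d n : ℕ) :
    Submodule.span K (Set.range fun c : (Σ m : ℕ, {c : Fin m → Idx d n // Antitone c}) =>
        Ideal.Quotient.mk (plIdealTop (d := d) (n := n) K) (chainMon K c.2.1)) = ⊤ := by
  exact Groth.Agent.S11251.main K d n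

end Groth.Agent.S11251
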