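import Groth.Statements.S6827
import Mathlib
import Groth.Agent.Lib.Helper2.LiftSm3
import Groth.Agent.S2044
-- import your own Groth.Agent.* helpers here

set_option autoImplicit false
universe u
open Smoothing

namespace Groth.Agent.S6827

section

open TensorProduct KaehlerDifferential Groth.Agent.Helper2.LiftSm

set_option maxHeartbeats 1600000 in
theorem exists_lift {R A₀ : Type u} [CommRing R] (I : Ideal R) [CommRing A₀]
    [Algebra (R ⧸ I) A₀] [Algebra.Smooth (R ⧸ I) A₀]
    [Algebra R A₀] [IsScalarTower R (R ⧸ I) A₀] :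
    ∃ (A : Type u) (_ : CommRing A) (_ : Algebra R A), Algebra.Smooth R A ∧
      ∃ Φ : A →ₐ[R] A₀, Function.Surjective Φ ∧ RingHom.ker Φ = I.map (algebraMap R A) := by
  classical
  obtain ⟨n, ⟨Pg⟩⟩ :=
    (Algebra.FiniteType.iff_exists_generators (R := R ⧸ I) (S := A₀)).mp inferInstance
  -- the polynomial rings
  let mapQ : MvPolynomial (Fin n) R →+* MvPolynomial (Fin n) (R ⧸ I) :=
    MvPolynomial.map (Ideal.Quotient.mk I)
  have hmapQ_surj : Function.Surjective mapQ :=
    MvPolynomial.map_surjective _ Ideal.Quotient.mk_surjective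
  let π : MvPolynomial (Fin n) R →ₐ[R] A₀ := MvPolynomial.aeval Pg.val
  have hπmap : ∀ q, algebraMap Pg.toExtension.Ring A₀ (mapQ q) = π q := by
    intro q
    have h1 : algebraMap Pg.toExtension.Ring A₀ (mapQ q) = MvPolynomial.aeval Pg.val (mapQ q) :=
      Pg.algebraMap_apply _
    rw [h1]
    change MvPolynomial.aeval Pg.val (MvPolynomial.map (algebraMap R (R ⧸ I)) q) = _
    rw [MvPolynomial.aeval_map_algebraMap]
  have hπ : Function.Surjective π := by
    intro a
    obtain ⟨f₀, rfl⟩ := Pg.algebraMap_surjective a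
    obtain ⟨f, rfl⟩ := hmapQ_surj f₀
    exact ⟨f, (hπmap f).symm⟩
  have hIA : ∀ i ∈ I, algebraMap R A₀ i = 0 := by
    intro i hi
    rw [IsScalarTower.algebraMap_apply R (R ⧸ I) A₀, Ideal.Quotient.algebraMap_eq,
      Ideal.Quotient.eq_zero_iff_mem.mpr hi, map_zero]
  -- the conormal module and the splitting
  haveI : Algebra.FormallySmooth (R ⧸ I) Pg.toExtension.Ring :=
    inferInstanceAs (Algebra.FormallySmooth (R ⧸ I) (MvPolynomial (Fin n) (R ⧸ I)))
  obtain ⟨l₀, hl₀⟩ := (Pg.toExtension.formallySmooth_iff_split_injection).mp inferInstance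
  have hl₀' : ∀ c, l₀ (Pg.toExtension.cotangentComplex c) = c := fun c =>
    congrArg (fun g => g c) hl₀
  let Δ₀ : Pg.toExtension.Ring → Pg.toExtension.Cotangent := fun f =>
    l₀ ((1 : A₀) ⊗ₜ[Pg.toExtension.Ring] D (R ⧸ I) Pg.toExtension.Ring f)
  have hΔ₀add : ∀ f f', Δ₀ (f + f') = Δ₀ f + Δ₀ f' := by
    intro f f'
    simp only [Δ₀, map_add, tmul_add]
  have hΔ₀mul : ∀ f f', Δ₀ (f * f') =
      algebraMap Pg.toExtension.Ring A₀ f • Δ₀ f' + algebraMap Pg.toExtension.Ring A₀ f' • Δ₀ f := by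
    intro f f'
    have h1 : ∀ (g : Pg.toExtension.Ring) (ω : Ω[Pg.toExtension.Ring⁄R ⧸ I]),
        (1 : A₀) ⊗ₜ[Pg.toExtension.Ring] (g • ω) = algebraMap Pg.toExtension.Ring A₀ g • ((1 : A₀) ⊗ₜ[Pg.toExtension.Ring] ω) := by
      intro g ω
      rw [TensorProduct.tmul_smul, TensorProduct.smul_tmul', TensorProduct.smul_tmul',
        Algebra.smul_def, mul_one, smul_eq_mul, mul_one]
    simp only [Δ₀, Derivation.leibniz, tmul_add, map_add, h1, map_smul]
  have hΔ₀C : ∀ r : R ⧸ I, Δ₀ (algebraMap (R ⧸ I) Pg.toExtension.Ring r) = 0 := by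
    intro r
    simp only [Δ₀, Derivation.map_algebraMap, tmul_zero, map_zero]
  have hΔ₀ker : ∀ (f : Pg.toExtension.Ring) (hf : f ∈ Pg.toExtension.ker),
      Δ₀ f = Algebra.Extension.Cotangent.mk ⟨f, hf⟩ := by
    intro f hf
    have := Pg.toExtension.cotangentComplex_mk ⟨f, hf⟩
    simp only [Δ₀]
    rw [← this, hl₀']
  let Δ : MvPolynomial (Fin n) R → Pg.toExtension.Cotangent := fun q => Δ₀ (mapQ q)
  have hΔadd : ∀ q q', Δ (q + q') = Δ q + Δ q' := fun q q' => by
    change Δ₀ (mapQ (q + q')) = _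
    rw [map_add]
    exact hΔ₀add _ _
  have hΔmul : ∀ q q', Δ (q * q') = π q • Δ q' + π q' • Δ q := fun q q' => by
    change Δ₀ (mapQ (q * q')) = _
    rw [map_mul, ← hπmap, ← hπmap]
    exact hΔ₀mul _ _
  have hΔR : ∀ r, Δ (algebraMap R (MvPolynomial (Fin n) R) r) = 0 := fun r => by
    have : mapQ (algebraMap R (MvPolynomial (Fin n) R) r) =
        algebraMap (R ⧸ I) Pg.toExtension.Ring (Ideal.Quotient.mk I r) := by
      simp only [mapQ, MvPolynomial.algebraMap_eq, MvPolynomial.map_C]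
      rfl
    change Δ₀ (mapQ _) = 0
    rw [this]
    exact hΔ₀C _
  have hkerπ : ∀ q, q ∈ RingHom.ker π ↔ mapQ q ∈ Pg.toExtension.ker := by
    intro q
    rw [RingHom.mem_ker, ← hπmap]
    rfl
  have hΔsurj : ∀ p, ∃ f ∈ RingHom.ker π, Δ f = p := by
    intro p
    obtain ⟨⟨f₀, hf₀⟩, rfl⟩ := Algebra.Extension.Cotangent.mk_surjective p
    obtain ⟨f, rfl⟩ := hmapQ_surj f₀
    exact ⟨f, (hkerπ f).mpr hf₀, hΔ₀ker _ hf₀⟩
  have hkermapQ : RingHom.ker mapQ = I.map (algebraMap R (MvPolynomial (Fin n) R)) := by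
    rw [MvPolynomial.ker_map, Ideal.mk_ker, MvPolynomial.algebraMap_eq]
  have hmapker : Ideal.map mapQ (RingHom.ker π) = Pg.toExtension.ker := by
    apply le_antisymm
    · rw [Ideal.map_le_iff_le_comap]
      intro q hq
      exact (hkerπ q).mp hq
    · intro f₀ hf₀
      obtain ⟨f, rfl⟩ := hmapQ_surj f₀
      exact Ideal.mem_map_of_mem _ ((hkerπ f).mpr hf₀)
  have hΔker : ∀ f ∈ RingHom.ker π, Δ f = 0 →
      f ∈ (RingHom.ker π) ^ 2 ⊔ I.map (algebraMap R (MvPolynomial (Fin n) R)) := by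
    intro f hf h0
    have hf₀ := (hkerπ f).mp hf
    have h1 : Algebra.Extension.Cotangent.mk (⟨mapQ f, hf₀⟩ : Pg.toExtension.ker) = 0 := by
      rw [← hΔ₀ker]; exact h0
    rw [Algebra.Extension.Cotangent.mk_eq_zero_iff] at h1
    have h2 : mapQ f ∈ Ideal.map mapQ ((RingHom.ker π) ^ 2) := by
      rw [Ideal.map_pow, hmapker]; exact h1
    have h3 := Ideal.mem_comap.mpr h2
    rw [Ideal.comap_map_of_surjective mapQ hmapQ_surj, ← RingHom.ker_eq_comap_bot, hkermapQ] at h3
    exact h3
  -- finite generation of the kernel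
  haveI : Algebra.FinitePresentation (R ⧸ I) Pg.toExtension.Ring :=
    inferInstanceAs (Algebra.FinitePresentation (R ⧸ I) (MvPolynomial (Fin n) (R ⧸ I)))
  obtain ⟨F, hF⟩ : ∃ F : Finset (MvPolynomial (Fin n) R), RingHom.ker π =
      Ideal.span (F : Set (MvPolynomial (Fin n) R)) ⊔
        I.map (algebraMap R (MvPolynomial (Fin n) R)) := by
    have hfg : (Pg.toExtension.ker).FG := by
      have := Algebra.FinitePresentation.ker_fG_of_surjective
        (IsScalarTower.toAlgHom (R ⧸ I) Pg.toExtension.Ring A₀) Pg.toExtension.algebraMap_surjective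
      exact this
    obtain ⟨F₀, hF₀⟩ := hfg
    refine ⟨F₀.image (Function.surjInv hmapQ_surj), ?_⟩
    have h1 : Ideal.map mapQ (Ideal.span ((F₀.image (Function.surjInv hmapQ_surj) : Finset _) :
        Set (MvPolynomial (Fin n) R))) = Pg.toExtension.ker := by
      rw [Ideal.map_span, ← hF₀]
      congr 1
      ext x
      simp only [Finset.coe_image, Set.mem_image, Finset.mem_coe, exists_exists_and_eq_and,
        Function.surjInv_eq hmapQ_surj, exists_eq_right]
      exact Iff.rfl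
    have h2 : RingHom.ker π = Ideal.comap mapQ Pg.toExtension.ker := by
      ext q
      exact hkerπ q
    have h3 := Ideal.comap_map_of_surjective mapQ hmapQ_surj
      (Ideal.span ((F₀.image (Function.surjInv hmapQ_surj) : Finset _) :
        Set (MvPolynomial (Fin n) R)))
    rw [← RingHom.ker_eq_comap_bot, hkermapQ] at h3
    refine (h2.trans ?_).trans h3
    exact congrArg (Ideal.comap mapQ) h1.symm
  -- the `Q ⧸ 𝔞`-module structure on the conormal module
  let ψ : (MvPolynomial (Fin n) R ⧸ RingHom.ker π) →+* A₀ :=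
    Ideal.Quotient.lift (RingHom.ker π) (π : MvPolynomial (Fin n) R →+* A₀)
      (fun a ha => (RingHom.mem_ker).mp ha)
  letI : Algebra (MvPolynomial (Fin n) R ⧸ RingHom.ker π) A₀ := ψ.toAlgebra
  have hψbij : Function.Bijective (algebraMap (MvPolynomial (Fin n) R ⧸ RingHom.ker π) A₀) := by
    constructor
    · rw [injective_iff_map_eq_zero]
      intro y hy
      obtain ⟨q, rfl⟩ := Ideal.Quotient.mk_surjective y
      rw [Ideal.Quotient.eq_zero_iff_mem, RingHom.mem_ker]
      exact hy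
    · intro a
      obtain ⟨q, rfl⟩ := hπ a
      exact ⟨Ideal.Quotient.mk _ q, rfl⟩
  letI : Module (MvPolynomial (Fin n) R ⧸ RingHom.ker π) Pg.toExtension.Cotangent :=
    Module.compHom Pg.toExtension.Cotangent ψ
  haveI : IsScalarTower (MvPolynomial (Fin n) R ⧸ RingHom.ker π) A₀ Pg.toExtension.Cotangent :=
    IsScalarTower.of_algebraMap_smul fun _ _ => rfl
  haveI : Module.Finite A₀ Pg.toExtension.Cotangent := by
    haveI : Module.Finite Pg.toExtension.Ring Pg.toExtension.ker := by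
      have hfg : (Pg.toExtension.ker).FG :=
        Algebra.FinitePresentation.ker_fG_of_surjective
          (IsScalarTower.toAlgHom (R ⧸ I) Pg.toExtension.Ring A₀) Pg.toExtension.algebraMap_surjective
      exact Module.Finite.of_fg hfg
    haveI : Module.Finite Pg.toExtension.Ring Pg.toExtension.Cotangent :=
      Module.Finite.of_surjective _ Algebra.Extension.Cotangent.mk_surjective
    exact Module.Finite.of_restrictScalars_finite Pg.toExtension.Ring _ _
  haveI : Module.Projective A₀ Pg.toExtension.Cotangent := by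
    haveI : Module.Projective A₀ Pg.toExtension.CotangentSpace := inferInstance
    exact Module.Projective.of_split Pg.toExtension.cotangentComplex l₀ hl₀
  obtain ⟨hfin, hproj⟩ := finite_projective_of_bijective
    (M := Pg.toExtension.Cotangent) hψbij
  obtain ⟨T, _, _, hetale, hβ, P', _, _, hP'fin, hP'proj, ⟨θ⟩⟩ :=
    Groth.Agent.S2044.result (RingHom.ker π) Pg.toExtension.Cotangent
  letI : Algebra R T :=
    ((algebraMap (MvPolynomial (Fin n) R) T).comp (algebraMap R (MvPolynomial (Fin n) R))).toAlgebra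
  haveI : IsScalarTower R (MvPolynomial (Fin n) R) T :=
    IsScalarTower.of_algebraMap_eq (fun _ => rfl)
  haveI : Algebra.Smooth R (MvPolynomial (Fin n) R) := ⟨inferInstance, inferInstance⟩
  haveI : Algebra.Smooth R T := Algebra.Smooth.comp R (MvPolynomial (Fin n) R) T
  have hone := mk_one_bijective (S := MvPolynomial (Fin n) R ⧸ RingHom.ker π)
    (A := T ⧸ (RingHom.ker π).map (algebraMap (MvPolynomial (Fin n) R) T))
    (M := Pg.toExtension.Cotangent) hβ
  let j : Pg.toExtension.Cotangent →+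
      ((T ⧸ (RingHom.ker π).map (algebraMap (MvPolynomial (Fin n) R) T)) ⊗[T] P') :=
    { toFun := fun p => θ.symm ((1 : T ⧸ (RingHom.ker π).map (algebraMap (MvPolynomial (Fin n) R) T))
        ⊗ₜ[MvPolynomial (Fin n) R ⧸ RingHom.ker π] p)
      map_zero' := by rw [tmul_zero, map_zero]
      map_add' := fun p p' => by rw [tmul_add, map_add] }
  have hj : Function.Bijective j := θ.symm.bijective.comp hone
  have hjsmul : ∀ (q : MvPolynomial (Fin n) R) (p : Pg.toExtension.Cotangent),
      j (π q • p) = (algebraMap (MvPolynomial (Fin n) R) T q) • j p := by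
    intro q p
    have h1 : π q • p = (Ideal.Quotient.mk (RingHom.ker π) q) • p := rfl
    change θ.symm ((1 : T ⧸ (RingHom.ker π).map (algebraMap (MvPolynomial (Fin n) R) T))
        ⊗ₜ[MvPolynomial (Fin n) R ⧸ RingHom.ker π] (π q • p)) = _ • θ.symm _
    rw [h1, TensorProduct.tmul_smul, TensorProduct.smul_tmul', Algebra.smul_def, mul_one,
      Ideal.Quotient.algebraMap_quotient_map_quotient]
    have h2 : (Ideal.Quotient.mk ((RingHom.ker π).map (algebraMap (MvPolynomial (Fin n) R) T))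
        (algebraMap (MvPolynomial (Fin n) R) T q)) ⊗ₜ[MvPolynomial (Fin n) R ⧸ RingHom.ker π] p =
        (Ideal.Quotient.mk ((RingHom.ker π).map (algebraMap (MvPolynomial (Fin n) R) T))
        (algebraMap (MvPolynomial (Fin n) R) T q)) •
          ((1 : T ⧸ (RingHom.ker π).map (algebraMap (MvPolynomial (Fin n) R) T))
            ⊗ₜ[MvPolynomial (Fin n) R ⧸ RingHom.ker π] p) := by
      rw [TensorProduct.smul_tmul', smul_eq_mul, mul_one]
    rw [h2, map_smul]
    rfl
  obtain ⟨δ, hδ⟩ := exists_deriv (R := R) (Q := MvPolynomial (Fin n) R) (T := T) π Δ hΔadd hΔmul hΔR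
    j hjsmul
  exact core2 (𝔞 := RingHom.ker π) I π hπ hIA (fun q => RingHom.mem_ker) hβ Δ hΔsurj hΔker F hF
    j hj δ hδ

theorem main {R A₀ : Type u} [CommRing R] (I : Ideal R) [CommRing A₀]
    [Algebra (R ⧸ I) A₀] [Algebra.Smooth (R ⧸ I) A₀] :
    ∃ (A : Type u) (_ : CommRing A) (_ : Algebra R A), Algebra.Smooth R A ∧
      Nonempty ((A ⧸ I.map (algebraMap R A)) ≃ₐ[R ⧸ I] A₀) := by
  letI : Algebra R A₀ := ((algebraMap (R ⧸ I) A₀).comp (Ideal.Quotient.mk I)).toAlgebra
  haveI : IsScalarTower R (R ⧸ I) A₀ := IsScalarTower.of_algebraMap_eq (fun _ => rfl)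
  obtain ⟨A, _, _, hsm, Φ, hΦsurj, hΦker⟩ := exists_lift (R := R) (A₀ := A₀) I
  refine ⟨A, inferInstance, inferInstance, hsm, ⟨?_⟩⟩
  let φ : (A ⧸ I.map (algebraMap R A)) →+* A₀ :=
    Ideal.Quotient.lift _ (Φ : A →+* A₀) (fun a ha => by
      rw [← hΦker] at ha; exact ha)
  have hφbij : Function.Bijective φ := by
    constructor
    · rw [injective_iff_map_eq_zero]
      intro y hy
      obtain ⟨a, rfl⟩ := Ideal.Quotient.mk_surjective y
      rw [Ideal.Quotient.eq_zero_iff_mem, ← hΦker]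
      exact hy
    · intro a₀
      obtain ⟨a, rfl⟩ := hΦsurj a₀
      exact ⟨Ideal.Quotient.mk _ a, rfl⟩
  refine AlgEquiv.ofBijective { toRingHom := φ, commutes' := ?_ } hφbij
  intro r
  obtain ⟨r', rfl⟩ := Ideal.Quotient.mk_surjective r
  change φ (algebraMap (R ⧸ I) (A ⧸ I.map (algebraMap R A)) (Ideal.Quotient.mk I r')) = _
  rw [Ideal.Quotient.algebraMap_quotient_map_quotient]
  change Φ (algebraMap R A r') = _
  rw [Φ.commutes]
  rfl

end

/-- Let R → R₀ be a surjective ring map with kernel I (so R₀ = R/I) and A₀ a smooth R₀-algebra. Then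
there is a smooth R-algebra A with A/IA isomorphic to A₀ as an R/I-algebra. -/
theorem result {R A₀ : Type u} [CommRing R] (I : Ideal R) [CommRing A₀]
    [Algebra (R ⧸ I) A₀] [Algebra.Smooth (R ⧸ I) A₀] :
    ∃ (A : Type u) (_ : CommRing A) (_ : Algebra R A), Algebra.Smooth R A ∧
      Nonempty ((A ⧸ I.map (algebraMap R A)) ≃ₐ[R ⧸ I] A₀) := by
  exact Groth.Agent.S6827.main I

end Groth.Agent.S6827
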