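import Groth.Statements.S14953
import Mathlib
import Groth.Agent.Lib.Helper22.EtMil
import Groth.Agent.S14949

set_option autoImplicit false
universe u
open TensorProduct
open EtAlg

namespace Groth.Agent.S14953

/-- Let B' = B ×_A A' be a fibre product of commutative rings with A' → A surjective and L' a B'-module.
If B ⊗_{B'} L' is a finitely generated B-module and A' ⊗_{B'} L' is a finitely generated A'-module,
then L' is a finitely generated B'-module. (The published statement is about flat modules of finite
type; the finiteness conclusion does not use flatness, which descends separately.) -/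
theorem result (B' B A' A : Type u) [CommRing B'] [CommRing B] [CommRing A'] [CommRing A]
    [Algebra B' B] [Algebra B' A'] [Algebra B A] [Algebra A' A] [Algebra B' A] [IsScalarTower B' B A] [IsScalarTower B' A' A]
    (hsq : EtMil.IsFibreSquare B' B A' A)
    (L' : Type u) [AddCommGroup L'] [Module B' L']
    [Module.Finite B (B ⊗[B'] L')] [Module.Finite A' (A' ⊗[B'] L')] : Module.Finite B' L' := by
  classical
  obtain ⟨s1, h1⟩ := Groth.Agent.Helper22.exists_finset_span_tmul B' B L'
  obtain ⟨s2, h2⟩ := Groth.Agent.Helper22.exists_finset_span_tmul B' A' L'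
  have hB : Subsingleton (B ⊗[B'] (L' ⧸ Submodule.span B' ((s1 ∪ s2 : Finset L') : Set L'))) := by
    apply Groth.Agent.Helper22.subsingleton_tensor_quotient
    rw [eq_top_iff, ← h1]
    apply Submodule.span_mono
    apply Set.image_mono
    intro m hm
    exact Submodule.subset_span (by simp [Finset.mem_coe.mp hm])
  have hA : Subsingleton (A' ⊗[B'] (L' ⧸ Submodule.span B' ((s1 ∪ s2 : Finset L') : Set L'))) := by
    apply Groth.Agent.Helper22.subsingleton_tensor_quotient
    rw [eq_top_iff, ← h2]
    apply Submodule.span_mono
    apply Set.image_mono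
    intro m hm
    exact Submodule.subset_span (by simp [Finset.mem_coe.mp hm])
  have hQ : Subsingleton (L' ⧸ Submodule.span B' ((s1 ∪ s2 : Finset L') : Set L')) :=
    Groth.Agent.S14949.result B' B A' A hsq _
  have htop : Submodule.span B' ((s1 ∪ s2 : Finset L') : Set L') = ⊤ :=
    Submodule.Quotient.subsingleton_iff.mp hQ
  exact ⟨⟨s1 ∪ s2, htop⟩⟩

end Groth.Agent.S14953
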