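import Groth.Statements.S14954
import Mathlib
import Groth.Agent.Lib.Helper22.MilFlat
import Groth.Agent.S14953

set_option autoImplicit false
universe u
open TensorProduct
open EtAlg

namespace Groth.Agent.S14954

private lemma finite_baseChange_ker {R : Type u} [CommRing R] (S : Type u) [CommRing S] [Algebra R S]
    {F L : Type u} [AddCommGroup F] [Module R F] [AddCommGroup L] [Module R L]
    [Module.Finite R F] [Module.Flat R L] [Module.FinitePresentation S (S ⊗[R] L)]
    (π : F →ₗ[R] L) (hπ : Function.Surjective π) :
    Module.Finite S (S ⊗[R] (LinearMap.ker π)) := by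
  have hinj : Function.Injective ((LinearMap.ker π).subtype.baseChange S) :=
    LinearMap.lTensor_injective_of_exact_of_flat π hπ (LinearMap.ker π).subtype
      (Submodule.injective_subtype _) (LinearMap.exact_subtype_ker_map π) S
  have hex : Function.Exact ((LinearMap.ker π).subtype.baseChange S) (π.baseChange S) :=
    lTensor_exact S (LinearMap.exact_subtype_ker_map π) hπ
  have hsurj : Function.Surjective (π.baseChange S) := LinearMap.lTensor_surjective S hπ
  have hfg : (LinearMap.ker (π.baseChange S)).FG := Module.FinitePresentation.fg_ker _ hsurj
  have hrange : LinearMap.range ((LinearMap.ker π).subtype.baseChange S) =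
      LinearMap.ker (π.baseChange S) := (LinearMap.exact_iff.mp hex).symm
  have hfin : Module.Finite S (LinearMap.range ((LinearMap.ker π).subtype.baseChange S)) := by
    rw [hrange]; exact Module.Finite.iff_fg.mpr hfg
  exact Module.Finite.equiv (LinearEquiv.ofInjective _ hinj).symm


/-- Let B' = B ×_A A' be a fibre product of commutative rings with A' → A surjective and L' a B'-module.
If B ⊗_{B'} L' is flat and finitely presented over B and A' ⊗_{B'} L' is flat and finitely presented
over A', then L' is finitely presented over B'. (Together with descent of flatness, L' is then flat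
of finite presentation, i.e. finite locally free.) -/
theorem result (B' B A' A : Type u) [CommRing B'] [CommRing B] [CommRing A'] [CommRing A]
    [Algebra B' B] [Algebra B' A'] [Algebra B A] [Algebra A' A] [Algebra B' A] [IsScalarTower B' B A] [IsScalarTower B' A' A]
    (hsq : EtMil.IsFibreSquare B' B A' A)
    (L' : Type u) [AddCommGroup L'] [Module B' L']
    [Module.Flat B (B ⊗[B'] L')] [Module.FinitePresentation B (B ⊗[B'] L')]
    [Module.Flat A' (A' ⊗[B'] L')] [Module.FinitePresentation A' (A' ⊗[B'] L')] :
    Module.FinitePresentation B' L' := by
  haveI : Module.Flat B' L' := Groth.Agent.Helper22.MilFlat.flat_of_fibreSquare L' hsq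
  haveI : Module.Finite B' L' := Groth.Agent.S14953.result B' B A' A hsq L'
  obtain ⟨n, π, hπ⟩ := Module.Finite.exists_fin' B' L'
  haveI := finite_baseChange_ker B π hπ
  haveI := finite_baseChange_ker A' π hπ
  have hK : Module.Finite B' (LinearMap.ker π) := Groth.Agent.S14953.result B' B A' A hsq _
  exact Module.finitePresentation_of_surjective π hπ (Module.Finite.iff_fg.mp hK)

end Groth.Agent.S14954
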