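import Groth.Statements.S6917
import Mathlib.CategoryTheory.Limits.Types.Pushouts
import Mathlib.Topology.Category.TopCat.Limits.Basic
-- import your own Groth.Agent.* helpers here

set_option autoImplicit false
universe u
open CategoryTheory
open EtAlg

namespace Groth.Agent.S6917

section
open CategoryTheory CategoryTheory.Limits

variable {B' B A' A : Type u} [CommRing B'] [CommRing B] [CommRing A'] [CommRing A]
    [Algebra B' B] [Algebra B' A'] [Algebra B A] [Algebra A' A] [Algebra B' A] [IsScalarTower B' B A] [IsScalarTower B' A' A]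

theorem comm (b' : B') : algebraMap B A (algebraMap B' B b') = algebraMap A' A (algebraMap B' A' b') := by
  rw [← IsScalarTower.algebraMap_apply, ← IsScalarTower.algebraMap_apply]

theorem comap_comm (p : PrimeSpectrum A) :
    PrimeSpectrum.comap (algebraMap B' B) (PrimeSpectrum.comap (algebraMap B A) p) =
      PrimeSpectrum.comap (algebraMap B' A') (PrimeSpectrum.comap (algebraMap A' A) p) := by
  ext x
  change algebraMap B A (algebraMap B' B x) ∈ p.asIdeal ↔
    algebraMap A' A (algebraMap B' A' x) ∈ p.asIdeal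
  rw [comm (B := B) (A' := A')]

variable (hsq : EtMil.IsFibreSquare B' B A' A)
include hsq

theorem ext' {x y : B'} (h1 : algebraMap B' B x = algebraMap B' B y)
    (h2 : algebraMap B' A' x = algebraMap B' A' y) : x = y := by
  have hc : algebraMap B A (algebraMap B' B y) = algebraMap A' A (algebraMap B' A' y) := comm y
  obtain ⟨z, -, hz⟩ := hsq.2 _ _ hc
  rw [hz x ⟨h1, h2⟩, hz y ⟨rfl, rfl⟩]

theorem surj : Function.Surjective (algebraMap B' B) := by
  intro b
  obtain ⟨a', ha'⟩ := hsq.1 (algebraMap B A b)
  obtain ⟨b', ⟨hb', -⟩, -⟩ := hsq.2 b a' ha'.symm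
  exact ⟨b', hb'⟩

/-- lift of an element of `ker (A' → A)` to `ker (B' → B)` -/
theorem exists_lift (i : A') (hi : algebraMap A' A i = 0) :
    ∃ c : B', algebraMap B' B c = 0 ∧ algebraMap B' A' c = i := by
  obtain ⟨c, hc, -⟩ := hsq.2 0 i (by rw [map_zero, hi])
  exact ⟨c, hc⟩

/-- Key: primes of `B'` not containing `ker (B' → B)` come from a unique prime of `A'`. -/
theorem key (q' : Ideal B') [hq' : q'.IsPrime] (f : B') (hf : algebraMap B' B f = 0) (hfq : f ∉ q') :
    ∃ p' : Ideal A', p'.IsPrime ∧ p'.comap (algebraMap B' A') = q' ∧ algebraMap B' A' f ∉ p' ∧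
      (∀ K : Ideal A', K.comap (algebraMap B' A') ≤ q' → K ≤ p') ∧
      ∀ p'' : Ideal A', p''.IsPrime → p''.comap (algebraMap B' A') = q' → p'' = p' := by
  set i := algebraMap B' A' f with hi
  have hi0 : algebraMap A' A i = 0 := by rw [hi, ← comm (B := B) (A' := A'), hf, map_zero]
  have hex : ∀ a' : A', ∃ c : B', algebraMap B' B c = 0 ∧ algebraMap B' A' c = i * a' :=
    fun a' => exists_lift hsq _ (by rw [map_mul, hi0, zero_mul])
  choose jj hjj1 hjj2 using hex
  have huniq : ∀ (a' : A') (c : B'), algebraMap B' B c = 0 → algebraMap B' A' c = i * a' → c = jj a' := by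
    intro a' c h1 h2
    exact ext' hsq (h1.trans (hjj1 a').symm) (h2.trans (hjj2 a').symm)
  have jj_zero : jj 0 = 0 := (huniq 0 0 (map_zero _) (by rw [map_zero, mul_zero])).symm
  have jj_add : ∀ a b, jj (a + b) = jj a + jj b := fun a b =>
    (huniq _ _ (by rw [map_add, hjj1, hjj1, add_zero]) (by rw [map_add, hjj2, hjj2, mul_add])).symm
  have jj_mul : ∀ a b, jj (a * b) * f = jj a * jj b := fun a b =>
    ext' hsq (by rw [map_mul, map_mul, hjj1, hjj1, zero_mul, zero_mul])
      (by rw [map_mul, map_mul, hjj2, hjj2, hjj2, ← hi]; ring)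
  have jj_map : ∀ b' : B', jj (algebraMap B' A' b') = b' * f := fun b' =>
    (huniq _ _ (by rw [map_mul, hf, mul_zero]) (by rw [map_mul, ← hi]; ring)).symm
  have jj_one : jj 1 = f := (huniq 1 f hf (by rw [mul_one])).symm
  have mem_of_mul : ∀ x : B', x * f ∈ q' → x ∈ q' := fun x hx =>
    (hq'.mem_or_mem hx).resolve_right hfq
  let p' : Ideal A' :=
    { carrier := {a' | jj a' ∈ q'}
      zero_mem' := by
        change jj 0 ∈ q'
        rw [jj_zero]; exact q'.zero_mem
      add_mem' := by
        intro a b ha hb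
        change jj (a + b) ∈ q'
        rw [jj_add]; exact q'.add_mem ha hb
      smul_mem' := by
        intro c a ha
        change jj (c * a) ∈ q'
        apply mem_of_mul
        rw [jj_mul]
        exact q'.mul_mem_left _ ha }
  have mem_p' : ∀ a', a' ∈ p' ↔ jj a' ∈ q' := fun a' => Iff.rfl
  have hcomap : p'.comap (algebraMap B' A') = q' := by
    ext b'
    rw [Ideal.mem_comap, mem_p', jj_map]
    exact ⟨mem_of_mul b', fun h => q'.mul_mem_right _ h⟩
  have hi_notin : i ∉ p' := by
    rw [mem_p', hi, jj_map]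
    exact fun h => hfq (mem_of_mul f h)
  have hprime : p'.IsPrime := by
    refine ⟨?_, ?_⟩
    · intro h
      have : (1 : A') ∈ p' := h ▸ Submodule.mem_top
      rw [mem_p', jj_one] at this
      exact hfq this
    · intro a b hab
      rw [mem_p'] at hab
      have : jj a * jj b ∈ q' := by rw [← jj_mul]; exact q'.mul_mem_right _ hab
      exact hq'.mem_or_mem this
  refine ⟨p', hprime, hcomap, hi_notin, ?_, ?_⟩
  · intro K hK k hk
    rw [mem_p']
    apply hK
    rw [Ideal.mem_comap, hjj2]
    exact K.mul_mem_left _ hk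
  · intro p'' hp'' hc
    have hi'' : i ∉ p'' := by
      intro h
      apply hfq
      rw [← hc, Ideal.mem_comap]
      exact h
    ext a'
    rw [mem_p', ← hc, Ideal.mem_comap, hjj2]
    constructor
    · intro h; exact p''.mul_mem_left _ h
    · intro h; exact (hp''.mem_or_mem h).resolve_left hi''

theorem comap_sup_le (K : Ideal A') :
    (K ⊔ RingHom.ker (algebraMap A' A)).comap (algebraMap B' A') ≤
      K.comap (algebraMap B' A') ⊔ RingHom.ker (algebraMap B' B) := by
  intro b' hb'
  rw [Ideal.mem_comap, Submodule.mem_sup] at hb'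
  obtain ⟨k, hk, i0, hi0, hsum⟩ := hb'
  obtain ⟨c, hc1, hc2⟩ := exists_lift hsq i0 hi0
  rw [Submodule.mem_sup]
  refine ⟨b' - c, ?_, c, hc1, by ring⟩
  rw [Ideal.mem_comap, map_sub, hc2, ← hsum]
  simpa using hk

open PrimeSpectrum

theorem ker_le_of_eq (q : PrimeSpectrum B) (p' : PrimeSpectrum A')
    (h : comap (algebraMap B' B) q = comap (algebraMap B' A') p') :
    RingHom.ker (algebraMap A' A) ≤ p'.asIdeal := by
  intro i hi
  obtain ⟨c, hc1, hc2⟩ := exists_lift hsq i hi
  have : c ∈ (comap (algebraMap B' B) q).asIdeal := by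
    change algebraMap B' B c ∈ q.asIdeal
    rw [hc1]; exact q.asIdeal.zero_mem
  rw [h] at this
  change algebraMap B' A' c ∈ p'.asIdeal at this
  rwa [hc2] at this

theorem pb_exists (q : PrimeSpectrum B) (p' : PrimeSpectrum A')
    (h : comap (algebraMap B' B) q = comap (algebraMap B' A') p') :
    ∃ p : PrimeSpectrum A, comap (algebraMap B A) p = q ∧ comap (algebraMap A' A) p = p' := by
  have h1 : p' ∈ Set.range (comap (algebraMap A' A)) := by
    rw [range_comap_of_surjective _ _ hsq.1]
    exact ker_le_of_eq hsq q p' h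
  obtain ⟨p, rfl⟩ := h1
  refine ⟨p, ?_, rfl⟩
  apply comap_injective_of_surjective _ (surj hsq)
  rw [comap_comm (B := B) (A' := A'), h]

theorem joint_surj (q' : PrimeSpectrum B') :
    q' ∈ Set.range (comap (algebraMap B' B)) ∨ q' ∈ Set.range (comap (algebraMap B' A')) := by
  by_cases hk : RingHom.ker (algebraMap B' B) ≤ q'.asIdeal
  · left
    rw [range_comap_of_surjective _ _ (surj hsq)]
    exact hk
  · right
    obtain ⟨f, hf, hfq⟩ := SetLike.not_le_iff_exists.mp hk
    obtain ⟨p', hp', hc, -⟩ := key hsq q'.asIdeal f hf hfq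
    exact ⟨⟨p', hp'⟩, PrimeSpectrum.ext hc⟩

theorem inj_compl (x y : PrimeSpectrum A') (hx : x ∉ Set.range (comap (algebraMap A' A)))
    (h : comap (algebraMap B' A') x = comap (algebraMap B' A') y) : x = y := by
  rw [range_comap_of_surjective _ _ hsq.1, mem_zeroLocus, SetLike.coe_subset_coe] at hx
  obtain ⟨i, hi, hix⟩ := SetLike.not_le_iff_exists.mp hx
  obtain ⟨f, hf1, hf2⟩ := exists_lift hsq i hi
  have hfq : f ∉ (comap (algebraMap B' A') x).asIdeal := by
    change algebraMap B' A' f ∉ x.asIdeal
    rwa [hf2]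
  obtain ⟨p', -, -, -, -, huniq⟩ := key hsq (comap (algebraMap B' A') x).asIdeal f hf1 hfq
  apply PrimeSpectrum.ext
  rw [huniq x.asIdeal x.2 rfl, huniq y.asIdeal y.2 (congrArg PrimeSpectrum.asIdeal h.symm)]

theorem closed_of_preimages (Z : Set (PrimeSpectrum B'))
    (h1 : IsClosed (comap (algebraMap B' B) ⁻¹' Z)) (h2 : IsClosed (comap (algebraMap B' A') ⁻¹' Z)) :
    IsClosed Z := by
  have hr : Topology.IsClosedEmbedding (comap (algebraMap B' B)) :=
    isClosedEmbedding_comap_of_surjective _ _ (surj hsq)
  have hZ1 : IsClosed (comap (algebraMap B' B) '' (comap (algebraMap B' B) ⁻¹' Z)) :=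
    hr.isClosedMap _ h1
  have hsub1 : comap (algebraMap B' B) '' (comap (algebraMap B' B) ⁻¹' Z) ⊆ Z :=
    Set.image_preimage_subset _ _
  obtain ⟨K, hK⟩ := (isClosed_iff_zeroLocus_ideal _).mp h2
  -- closure of image of Z2
  have hcl : closure (comap (algebraMap B' A') '' (comap (algebraMap B' A') ⁻¹' Z)) ⊆ Z := by
    rw [hK, closure_image_comap_zeroLocus]
    intro q' hq'
    rw [mem_zeroLocus, SetLike.coe_subset_coe] at hq'
    by_cases hk : RingHom.ker (algebraMap B' B) ≤ q'.asIdeal
    · -- q' contains J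
      have h3 : (K ⊔ RingHom.ker (algebraMap A' A)).comap (algebraMap B' A') ≤ q'.asIdeal :=
        (comap_sup_le hsq K).trans (sup_le hq' hk)
      have h4 : q' ∈ closure (comap (algebraMap B' A') ''
          zeroLocus ((K ⊔ RingHom.ker (algebraMap A' A) : Ideal A') : Set A')) := by
        rw [closure_image_comap_zeroLocus]
        exact h3
      have h5 : comap (algebraMap B' A') '' zeroLocus ((K ⊔ RingHom.ker (algebraMap A' A) : Ideal A') : Set A') ⊆
          comap (algebraMap B' B) '' (comap (algebraMap B' B) ⁻¹' Z) := by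
        rintro _ ⟨p', hp', rfl⟩
        rw [mem_zeroLocus, SetLike.coe_subset_coe] at hp'
        have hp1 : p' ∈ Set.range (comap (algebraMap A' A)) := by
          rw [range_comap_of_surjective _ _ hsq.1]
          exact le_sup_right.trans hp'
        obtain ⟨p, rfl⟩ := hp1
        refine ⟨comap (algebraMap B A) p, ?_, comap_comm p⟩
        change comap (algebraMap B' B) (comap (algebraMap B A) p) ∈ Z
        rw [comap_comm (B := B) (A' := A')]
        have : comap (algebraMap A' A) p ∈ comap (algebraMap B' A') ⁻¹' Z := by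
          rw [hK, mem_zeroLocus, SetLike.coe_subset_coe]
          exact le_sup_left.trans hp'
        exact this
      exact hsub1 ((closure_minimal h5 hZ1) h4)
    · obtain ⟨f, hf, hfq⟩ := SetLike.not_le_iff_exists.mp hk
      obtain ⟨p', hp', hc, -, hKp, -⟩ := key hsq q'.asIdeal f hf hfq
      have hmem : (⟨p', hp'⟩ : PrimeSpectrum A') ∈ comap (algebraMap B' A') ⁻¹' Z := by
        rw [hK, mem_zeroLocus, SetLike.coe_subset_coe]
        exact hKp K hq'
      have : comap (algebraMap B' A') ⟨p', hp'⟩ = q' := PrimeSpectrum.ext hc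
      rw [← this]
      exact hmem
  have hZeq : Z = comap (algebraMap B' B) '' (comap (algebraMap B' B) ⁻¹' Z) ∪
      closure (comap (algebraMap B' A') '' (comap (algebraMap B' A') ⁻¹' Z)) := by
    apply Set.Subset.antisymm
    · intro q' hq'
      rcases joint_surj hsq q' with ⟨q, rfl⟩ | ⟨p', rfl⟩
      · left; exact ⟨q, hq', rfl⟩
      · right; exact subset_closure ⟨p', hq', rfl⟩
    · exact Set.union_subset hsub1 hcl
  rw [hZeq]
  exact hZ1.union isClosed_closure

theorem main :
    IsPushout (TopCat.ofHom (ContinuousMap.mk (PrimeSpectrum.comap (algebraMap B A)) (PrimeSpectrum.continuous_comap _))) (TopCat.ofHom (ContinuousMap.mk (PrimeSpectrum.comap (algebraMap A' A)) (PrimeSpectrum.continuous_comap _)))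
      (TopCat.ofHom (ContinuousMap.mk (PrimeSpectrum.comap (algebraMap B' B)) (PrimeSpectrum.continuous_comap _)))
      (TopCat.ofHom (ContinuousMap.mk (PrimeSpectrum.comap (algebraMap B' A')) (PrimeSpectrum.continuous_comap _))) := by
  set fT := TopCat.ofHom (ContinuousMap.mk (PrimeSpectrum.comap (algebraMap B A)) (PrimeSpectrum.continuous_comap _))
  set fL := TopCat.ofHom (ContinuousMap.mk (PrimeSpectrum.comap (algebraMap A' A)) (PrimeSpectrum.continuous_comap _))
  set fR := TopCat.ofHom (ContinuousMap.mk (PrimeSpectrum.comap (algebraMap B' B)) (PrimeSpectrum.continuous_comap _))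
  set fB := TopCat.ofHom (ContinuousMap.mk (PrimeSpectrum.comap (algebraMap B' A')) (PrimeSpectrum.continuous_comap _))
  have w : fT ≫ fR = fL ≫ fB := by
    apply TopCat.hom_ext
    apply ContinuousMap.ext
    intro p
    exact comap_comm (B' := B') (B := B) (A' := A') p
  have hpb : IsPullback ((forget TopCat).map fT) ((forget TopCat).map fL)
      ((forget TopCat).map fR) ((forget TopCat).map fB) := by
    rw [Types.isPullback_iff]
    refine ⟨by rw [← Functor.map_comp, ← Functor.map_comp, w], ?_, ?_⟩
    · rintro p p' ⟨-, h2⟩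
      exact comap_injective_of_surjective _ hsq.1 h2
    · intro q p' h
      exact pb_exists hsq q p' h
  haveI : Mono ((forget TopCat).map fR) := by
    rw [mono_iff_injective]
    exact comap_injective_of_surjective _ (surj hsq)
  have Htype : IsPushout ((forget TopCat).map fT) ((forget TopCat).map fL)
      ((forget TopCat).map fR) ((forget TopCat).map fB) := by
    refine Types.isPushout_of_isPullback_of_mono' hpb ?_ ?_
    · ext q'
      simp only [Set.sup_eq_union, Set.mem_union, Set.mem_univ, iff_true]
      exact joint_surj hsq q'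
    · intro x y hx _ h
      exact inj_compl hsq x y hx h
  have hc := (isColimitMapCoconePushoutCoconeEquiv (forget TopCat) w).symm Htype.isColimit
  refine ⟨⟨w⟩, (TopCat.nonempty_isColimit_iff_eq_coinduced _ hc).mpr ?_⟩
  apply le_antisymm
  · intro U hU
    rw [isOpen_iSup_iff] at hU
    have h1 := hU WalkingSpan.left
    have h2 := hU WalkingSpan.right
    rw [isOpen_coinduced] at h1 h2
    have h1' : IsOpen (comap (algebraMap B' B) ⁻¹' U) := h1
    have h2' : IsOpen (comap (algebraMap B' A') ⁻¹' U) := h2
    have : IsClosed (Uᶜ : Set (PrimeSpectrum B')) := by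
      apply closed_of_preimages hsq
      · rw [Set.preimage_compl]; exact h1'.isClosed_compl
      · rw [Set.preimage_compl]; exact h2'.isClosed_compl
    exact isClosed_compl_iff.mp this
  · refine iSup_le fun j => ?_
    rw [← continuous_iff_coinduced_le]
    exact ((PushoutCocone.mk fR fB w).ι.app j).hom.continuous
end

/-- Let `B' = B ×_A A'` be a fibre square of rings with `A' → A` surjective. Then `Spec(B') = Spec(B)
⨿_{Spec(A)} Spec(A')`: the square of prime spectra is a pushout of topological spaces. -/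
theorem result (B' B A' A : Type u) [CommRing B'] [CommRing B] [CommRing A'] [CommRing A]
    [Algebra B' B] [Algebra B' A'] [Algebra B A] [Algebra A' A] [Algebra B' A] [IsScalarTower B' B A] [IsScalarTower B' A' A]
    (hsq : EtMil.IsFibreSquare B' B A' A) :
    IsPushout (TopCat.ofHom (ContinuousMap.mk (PrimeSpectrum.comap (algebraMap B A)) (PrimeSpectrum.continuous_comap _))) (TopCat.ofHom (ContinuousMap.mk (PrimeSpectrum.comap (algebraMap A' A)) (PrimeSpectrum.continuous_comap _)))
      (TopCat.ofHom (ContinuousMap.mk (PrimeSpectrum.comap (algebraMap B' B)) (PrimeSpectrum.continuous_comap _)))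
      (TopCat.ofHom (ContinuousMap.mk (PrimeSpectrum.comap (algebraMap B' A')) (PrimeSpectrum.continuous_comap _))) := by
  exact Groth.Agent.S6917.main hsq

end Groth.Agent.S6917
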