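import Groth.Statements.S11253
import Mathlib
import Groth.Agent.Lib.Helper2.SMT
-- import your own Groth.Agent.* helpers here

set_option autoImplicit false
universe u
open W4bk4grassmannian

namespace Groth.Agent.S11253

section
open W4bk4grassmannian MvPolynomial Groth.Agent.Lib.Helper2.SMT

variable {K : Type u} [Field K] {d n : ℕ}

theorem schubertVanishing_anti {τ τ' : Idx d n} (h : τ' ≤ τ) :
    schubertVanishing K d n τ ≤ schubertVanishing K d n τ' := by
  intro p hp
  unfold schubertVanishing at hp ⊢
  simp only [Ideal.mem_iInf] at hp ⊢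
  intro A hA
  apply hp A
  intro φ hφ
  apply hA φ
  intro hc
  exact hφ (le_trans hc h)

theorem schubertVanishing_isRadical (τ : Idx d n) : (schubertVanishing K d n τ).IsRadical := by
  intro p hp
  obtain ⟨k, hk⟩ := hp
  unfold schubertVanishing at hk ⊢
  simp only [Ideal.mem_iInf] at hk ⊢
  intro A hA
  have := hk A hA
  rw [RingHom.mem_ker] at this ⊢
  rw [map_pow] at this
  exact pow_eq_zero_iff (n := k) (by
    rintro rfl
    simp at this) |>.mp this

theorem vanishing_eq_plIdeal [Infinite K] (hd : 0 < d) (τ : Idx d n) :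
    schubertVanishing K d n τ ≤ plIdeal K τ := by
  intro p hp
  obtain ⟨q, hq, i, hi, rfl⟩ := Submodule.mem_sup.mp (span_std τ p)
  have hi' : i ∈ plIdeal K τ := hi
  have hiJ : i ∈ schubertVanishing K d n τ := plIdeal_le τ hi'
  have hqJ : q ∈ schubertVanishing K d n τ := by
    have := (schubertVanishing K d n τ).sub_mem hp hiJ
    rwa [add_sub_cancel_right] at this
  have hq0 : q = 0 := Sstd_inter hd τ q hq (schubertVanishing_le_ker τ q hqJ)
  rw [hq0, zero_add]
  exact hi'

theorem sup_eq [Infinite K] (hd : 0 < d) (w₁ w₂ : Idx d n) :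
    schubertVanishing K d n w₁ ⊔ schubertVanishing K d n w₂ =
      schubertVanishing K d n (W4bk4grassmannian.inf w₁ w₂) := by
  have hinf1 : W4bk4grassmannian.inf w₁ w₂ ≤ w₁ := fun t => min_le_left _ _
  have hinf2 : W4bk4grassmannian.inf w₁ w₂ ≤ w₂ := fun t => min_le_right _ _
  apply le_antisymm
  · exact sup_le (schubertVanishing_anti hinf1) (schubertVanishing_anti hinf2)
  · refine le_trans (vanishing_eq_plIdeal hd _) ?_
    unfold plIdeal
    rw [Ideal.span_le]
    rintro f (⟨i, j, r, hp, rfl⟩ | ⟨φ, hφ, rfl⟩)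
    · exact Ideal.mem_sup_left (plIdealTop_le w₁ (Ideal.subset_span ⟨i, j, r, hp, rfl⟩))
    · by_cases h1 : φ ≤ w₁
      · have h2 : ¬ φ ≤ w₂ := by
          intro h2
          apply hφ
          intro t
          exact le_min (h1 t) (h2 t)
        exact Ideal.mem_sup_right (X_mem_schubertVanishing w₂ φ h2)
      · exact Ideal.mem_sup_left (X_mem_schubertVanishing w₁ φ h1)

theorem main (K : Type u) [Field K] [IsAlgClosed K] (d n : ℕ)
    (hd : 0 < d) (hdn : d < n) (w₁ w₂ : Idx d n) :
    (schubertVanishing K d n w₁ ⊔ schubertVanishing K d n w₂).IsRadical := by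
  rw [sup_eq hd]
  exact schubertVanishing_isRadical _

end

open W4bk4grassmannian in
/-- Intersections of Schubert varieties are reduced: let K be an algebraically closed field, 0 < d < n,
and I(d,n) the strictly increasing maps Fin d → Fin n ordered entrywise; S = K[X_θ : θ ∈ I(d,n)] is
the Plücker polynomial ring and, for τ ∈ I(d,n), J(τ) ⊆ S is the ideal of polynomials vanishing at
the d × d row-minors of every n × d matrix over K whose minors on rows φ ≰ τ are zero (the
homogeneous ideal of the Schubert variety X(τ) ⊆ G(d,n)). Then for all w₁, w₂ ∈ I(d,n) the ideal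
J(w₁) + J(w₂) of S is radical. -/
theorem result (K : Type u) [Field K] [IsAlgClosed K] (d n : ℕ)
    (hd : 0 < d) (hdn : d < n) (w₁ w₂ : Idx d n) :
    (schubertVanishing K d n w₁ ⊔ schubertVanishing K d n w₂).IsRadical := by
  exact Groth.Agent.S11253.main K d n hd hdn w₁ w₂

end Groth.Agent.S11253
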