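import Groth.Statements.S11254
import Mathlib
import Groth.Agent.Lib.Helper2.SMT
import Groth.Agent.S11253
-- import your own Groth.Agent.* helpers here

set_option autoImplicit false
universe u
open W4bk4grassmannian

namespace Groth.Agent.S11254

section
open W4bk4grassmannian MvPolynomial Groth.Agent.Lib.Helper2.SMT

variable {K : Type u} [Field K] {d n : ℕ}

theorem exists_divisor_ge (x τ : Idx d n) (h : x < τ) : ∃ φ ∈ divisors τ, x ≤ φ := by
  have hle : x ≤ τ := h.le
  have hnot : ¬ τ ≤ x := not_le_of_gt h
  have h1 : ∃ t, x.1 t < τ.1 t := by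
    by_contra hcon
    push Not at hcon
    exact hnot (fun t => hcon t)
  obtain ⟨t, ht⟩ := h1
  obtain ⟨t₀, ht₀, hmin⟩ := wellFounded_lt.has_min {t : Fin d | x.1 t < τ.1 t} ⟨t, ht⟩
  have ht₀' : (x.1 t₀).val < (τ.1 t₀).val := ht₀
  have heq : ∀ s, s < t₀ → x.1 s = τ.1 s := by
    intro s hs
    apply le_antisymm (hle s)
    by_contra hc
    push Not at hc
    exact hmin s hc hs
  have hx0 : t₀.val ≤ (x.1 t₀).val :=
    Groth.Agent.S11251.le_strictMono_fin x.1 x.2 t₀.val t₀.isLt
  let φf : Fin d → Fin n := fun t =>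
    if t = t₀ then ⟨(τ.1 t₀).val - 1, by have := (τ.1 t₀).isLt; omega⟩ else τ.1 t
  have hφval : ∀ t, (φf t).val = if t = t₀ then (τ.1 t₀).val - 1 else (τ.1 t).val := by
    intro t
    simp only [φf]
    split_ifs <;> rfl
  have hmono : StrictMono φf := by
    intro s t hst
    rw [Fin.lt_def, hφval, hφval]
    by_cases hs : s = t₀
    · subst hs
      have hne : t ≠ s := (ne_of_lt hst).symm
      rw [if_pos rfl, if_neg hne]
      have : (τ.1 s).val < (τ.1 t).val := τ.2 hst
      omega
    · rw [if_neg hs]
      by_cases ht : t = t₀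
      · subst ht
        rw [if_pos rfl]
        have e1 : (τ.1 s).val = (x.1 s).val := by rw [heq s hst]
        have e2 : (x.1 s).val < (x.1 t).val := x.2 hst
        omega
      · rw [if_neg ht]
        exact τ.2 hst
  refine ⟨⟨φf, hmono⟩, ⟨?_, ?_⟩, ?_⟩
  · rw [lt_iff_le_not_ge]
    constructor
    · intro t
      show φf t ≤ τ.1 t
      rw [Fin.le_def, hφval]
      split_ifs with h
      · rw [h]; omega
      · exact le_rfl
    · intro hc
      have := hc t₀
      have h2 : (τ.1 t₀).val ≤ (φf t₀).val := this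
      rw [hφval, if_pos rfl] at h2
      omega
  · unfold codeg
    simp only
    rw [← Finset.add_sum_erase Finset.univ _ (Finset.mem_univ t₀),
      ← Finset.add_sum_erase Finset.univ (fun t => (τ.1 t).val - t.val) (Finset.mem_univ t₀)]
    have e1 : ∑ t ∈ Finset.univ.erase t₀, ((φf t).val - t.val) =
        ∑ t ∈ Finset.univ.erase t₀, ((τ.1 t).val - t.val) := by
      refine Finset.sum_congr rfl fun t ht => ?_
      rw [hφval, if_neg (Finset.ne_of_mem_erase ht)]
    rw [e1, hφval, if_pos rfl]
    omega
  · intro t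
    show x.1 t ≤ φf t
    rw [Fin.le_def, hφval]
    split_ifs with h
    · rw [h]; omega
    · exact hle t

open Groth.Agent.S11251 in
theorem ψ_listMon_zero (φ : Idx d n) (L : List (Idx d n)) (y : Idx d n) (hy : y ∈ L)
    (hyφ : ¬ y ≤ φ) : ψ K φ (listMon K L) = 0 := by
  have hdvd : (X y : PlRing K d n) ∣ listMon K L := by
    unfold listMon
    exact List.dvd_prod (List.mem_map_of_mem hy)
  obtain ⟨z, hz⟩ := hdvd
  rw [hz, map_mul, ψ_X_eq_zero φ y hyφ, zero_mul]

open Groth.Agent.S11251 in
theorem main (K : Type u) [Field K] [IsAlgClosed K]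
    (d n : ℕ) (hd : 0 < d) (hdn : d < n) (τ : Idx d n) (hτ : ∃ φ : Idx d n, φ < τ) :
    schubertVanishing K d n τ ⊔ Ideal.span {MvPolynomial.X τ} =
      ⨅ φ ∈ divisors τ, schubertVanishing K d n φ := by
  classical
  apply le_antisymm
  · apply sup_le
    · exact le_iInf₂ fun φ hφ => Groth.Agent.S11253.schubertVanishing_anti hφ.1.le
    · rw [Ideal.span_le]
      intro f hf
      rw [Set.mem_singleton_iff] at hf
      subst hf
      simp only [SetLike.mem_coe, Ideal.mem_iInf]
      intro φ hφ
      exact X_mem_schubertVanishing φ τ (not_le_of_gt hφ.1)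
  · intro p hp
    simp only [Ideal.mem_iInf] at hp
    obtain ⟨q, hq, i, hi, rfl⟩ := Submodule.mem_sup.mp (span_std τ p)
    have hi' : i ∈ plIdeal K τ := hi
    have hiJ : i ∈ schubertVanishing K d n τ := plIdeal_le τ hi'
    unfold Sstd at hq
    obtain ⟨l, hl, rfl⟩ := (Finsupp.mem_span_image_iff_linearCombination K).mp hq
    rw [Finsupp.linearCombination_apply, Finsupp.sum] at hp ⊢
    have hstd : ∀ L ∈ l.support, IsStd τ L := fun L hL => (Finsupp.mem_supported K l).mp hl hL
    rw [← Finset.sum_filter_add_sum_filter_not l.support (fun L => τ ∈ L)] at hp ⊢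
    set q₁ := ∑ L ∈ l.support.filter (fun L => τ ∈ L), l L • listMon K L with hq₁
    set q₂ := ∑ L ∈ l.support.filter (fun L => ¬ τ ∈ L), l L • listMon K L with hq₂
    have hq₁mem : q₁ ∈ Ideal.span {(X τ : PlRing K d n)} := by
      apply Ideal.sum_mem
      intro L hL
      rw [Finset.mem_filter] at hL
      rw [MvPolynomial.smul_eq_C_mul]
      apply Ideal.mul_mem_left
      rw [Ideal.mem_span_singleton]
      unfold listMon
      exact List.dvd_prod (List.mem_map_of_mem hL.2)
    have hq₁J : ∀ φ ∈ divisors τ, q₁ ∈ schubertVanishing K d n φ := by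
      intro φ hφ
      have : Ideal.span {(X τ : PlRing K d n)} ≤ schubertVanishing K d n φ := by
        rw [Ideal.span_le]
        intro f hf
        rw [Set.mem_singleton_iff] at hf
        subst hf
        exact X_mem_schubertVanishing φ τ (not_le_of_gt hφ.1)
      exact this hq₁mem
    have hq₂J : ∀ φ ∈ divisors τ, q₂ ∈ schubertVanishing K d n φ := by
      intro φ hφ
      have h1 := hp φ hφ
      have h2 := Groth.Agent.S11253.schubertVanishing_anti (K := K) hφ.1.le hiJ
      have h3 := (schubertVanishing K d n φ).sub_mem ((schubertVanishing K d n φ).sub_mem h1 h2)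
        (hq₁J φ hφ)
      have e : q₁ + q₂ + i - i - q₁ = q₂ := by ring
      rwa [e] at h3
    have hzero : ∀ L ∈ l.support.filter (fun L => ¬ τ ∈ L), l L = 0 := by
      intro L hL
      have hL' := Finset.mem_filter.mp hL
      have hLstd := hstd L hL'.1
      -- find a divisor
      have hdiv : ∃ φ ∈ divisors τ, IsStd φ L := by
        cases L with
        | nil =>
          obtain ⟨φ₀, hφ₀⟩ := hτ
          obtain ⟨φ, hφ, _⟩ := exists_divisor_ge φ₀ τ hφ₀
          exact ⟨φ, hφ, List.Pairwise.nil, fun x hx => absurd hx (List.not_mem_nil)⟩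
        | cons x t =>
          have hxτ : x ≤ τ := hLstd.2 x List.mem_cons_self
          have hxne : x ≠ τ := by
            rintro rfl
            exact hL'.2 List.mem_cons_self
          obtain ⟨φ, hφ, hxφ⟩ := exists_divisor_ge x τ (lt_of_le_of_ne hxτ hxne)
          refine ⟨φ, hφ, hLstd.1, ?_⟩
          intro y hy
          rcases List.mem_cons.mp hy with rfl | hy
          · exact hxφ
          · exact le_trans ((List.pairwise_cons.mp hLstd.1).1 y hy) hxφ
      obtain ⟨φ, hφ, hLφ⟩ := hdiv
      have h1 := schubertVanishing_le_ker φ q₂ (hq₂J φ hφ)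
      rw [hq₂, map_sum] at h1
      simp_rw [map_smul] at h1
      have h2 : ∑ L ∈ (l.support.filter (fun L => ¬ τ ∈ L)).filter (fun L => IsStd φ L),
          l L • ψ K φ (listMon K L) = 0 := by
        rw [← h1]
        apply Finset.sum_subset (Finset.filter_subset _ _)
        intro M hM hnot
        have hM' := Finset.mem_filter.mp hM
        have hMstd := hstd M hM'.1
        have hnstd : ¬ IsStd φ M := fun hc => hnot (Finset.mem_filter.mpr ⟨hM, hc⟩)
        have : ∃ y ∈ M, ¬ y ≤ φ := by
          by_contra hcon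
          push Not at hcon
          exact hnstd ⟨hMstd.1, hcon⟩
        obtain ⟨y, hy, hyφ⟩ := this
        rw [ψ_listMon_zero φ M y hy hyφ, smul_zero]
      have h3 := indep hd φ _ (fun L => l L) (fun M hM => (Finset.mem_filter.mp hM).2) h2
      exact h3 L (Finset.mem_filter.mpr ⟨hL, hLφ⟩)
    have hq₂0 : q₂ = 0 := by
      rw [hq₂]
      apply Finset.sum_eq_zero
      intro L hL
      rw [hzero L hL, zero_smul]
    rw [hq₂0, add_zero]
    exact Ideal.add_mem _ (Ideal.mem_sup_right hq₁mem) (Ideal.mem_sup_left hiJ)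

end

open W4bk4grassmannian in
/-- Let K be an algebraically closed field, 0 < d < n, and I(d,n) the strictly increasing maps Fin d →
Fin n ordered entrywise; S = K[X_θ : θ ∈ I(d,n)] is the Plücker polynomial ring and, for τ ∈ I(d,n),
J(τ) ⊆ S is the ideal of polynomials vanishing at the d × d row-minors of every n × d matrix over K
whose minors on rows φ ≰ τ are zero (the homogeneous ideal of the Schubert variety X(τ) ⊆ G(d,n)).
Let τ ∈ I(d,n) admit some φ < τ (X(τ) has positive dimension). Then J(τ) + (X_τ) = ⋂_φ J(φ), the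
intersection over the Schubert divisors φ of τ, i.e. the φ < τ with Σ_t (φ_t - t) + 1 = Σ_t (τ_t -
t). (For the zero-dimensional Schubert variety there is no divisor and the left side is the
irrelevant ideal, so positive dimension is required at the level of ideals.) -/
theorem result (K : Type u) [Field K] [IsAlgClosed K]
    (d n : ℕ) (hd : 0 < d) (hdn : d < n) (τ : Idx d n) (hτ : ∃ φ : Idx d n, φ < τ) :
    schubertVanishing K d n τ ⊔ Ideal.span {MvPolynomial.X τ} =
      ⨅ φ ∈ divisors τ, schubertVanishing K d n φ := by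
  exact Groth.Agent.S11254.main K d n hd hdn τ hτ

end Groth.Agent.S11254
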