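import Groth.Statements.S11270
import Mathlib
import Groth.Agent.Lib.Helper2.SMT
import Groth.Agent.Lib.Helper2.SMT2
-- import your own Groth.Agent.* helpers here

set_option autoImplicit false
universe u
open W4bk4grassmannian

namespace Groth.Agent.S11270

section
open W4bk4grassmannian MvPolynomial Groth.Agent.Lib.Helper2.SMT Groth.Agent.Lib.Helper2.SMT2

variable {K : Type u} [Field K] {d n : ℕ}

/-- the least element -/
def iota (hdn : d < n) : Idx d n := ⟨fun t => ⟨t.val, lt_trans t.isLt hdn⟩, fun _ _ h => h⟩

/-- the unique cover of the least element -/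
def iota' (hdn : d < n) : Idx d n :=
  ⟨fun t => if t.val + 1 = d then ⟨d, hdn⟩ else ⟨t.val, lt_trans t.isLt hdn⟩, by
    intro a b hab
    have h1 : a.val < b.val := hab
    have h2 := b.isLt
    rw [Fin.lt_def]
    beta_reduce
    split_ifs <;> simp only <;> omega⟩

theorem iota_le (hdn : d < n) (φ : Idx d n) : iota hdn ≤ φ := by
  intro t
  show (⟨t.val, _⟩ : Fin n) ≤ φ.1 t
  rw [Fin.le_def]
  exact Groth.Agent.S11251.le_strictMono_fin φ.1 φ.2 t.val t.isLt

theorem iota'_le (hdn : d < n) (φ : Idx d n) (h : φ ≠ iota hdn) : iota' hdn ≤ φ := by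
  have hge : ∀ t : Fin d, t.val ≤ (φ.1 t).val :=
    fun t => Groth.Agent.S11251.le_strictMono_fin φ.1 φ.2 t.val t.isLt
  intro t
  show (if t.val + 1 = d then (⟨d, hdn⟩ : Fin n) else ⟨t.val, lt_trans t.isLt hdn⟩) ≤ φ.1 t
  split_ifs with ht
  · rw [Fin.le_def]
    simp only
    by_contra hcon
    push Not at hcon
    -- then φ t = t for the last t, so φ = iota
    apply h
    apply Subtype.ext
    funext s
    apply Fin.ext
    show (φ.1 s).val = s.val
    have h1 : (φ.1 t).val = t.val := by have := hge t; omega
    have h2 : ∀ k : ℕ, ∀ s : Fin d, s.val + k = t.val → (φ.1 s).val = s.val := by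
      intro k
      induction k with
      | zero =>
        intro s hs
        have : s = t := Fin.ext (by omega)
        rw [this, h1]
      | succ k ih =>
        intro s hs
        have hs' : s.val + 1 < d := by omega
        have h3 := ih ⟨s.val + 1, hs'⟩ (by simp only; omega)
        have h4 : (φ.1 s).val < (φ.1 ⟨s.val + 1, hs'⟩).val := φ.2 (by simp [Fin.lt_def])
        simp only at h3
        have := hge s
        omega
    exact h2 (t.val - s.val) s (by have := s.isLt; omega)
  · rw [Fin.le_def]
    exact hge t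

theorem not_iota'_le_iota (hd : 0 < d) (hdn : d < n) : ¬ iota' hdn ≤ iota hdn := by
  intro h
  have := h ⟨d - 1, by omega⟩
  have h2 : (iota' hdn).1 ⟨d - 1, by omega⟩ ≤ (iota hdn).1 ⟨d - 1, by omega⟩ := this
  unfold iota' iota at h2
  simp only at h2
  rw [if_pos (by omega), Fin.le_def] at h2
  simp only at h2
  omega

open Groth.Agent.S11251 in
theorem ker_eq [Infinite K] (hd : 0 < d) (hdn : d < n) (w : Idx d n) :
    RingHom.ker (ψ2 K (iota' hdn) w).toRingHom =
      schubertVanishing K d n w ⊔ Ideal.span {(X (iota hdn) : PlRing K d n)} := by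
  classical
  apply le_antisymm
  · intro p hp
    rw [RingHom.mem_ker] at hp
    have hp' : ψ2 K (iota' hdn) w p = 0 := hp
    obtain ⟨q, hq, i, hi, rfl⟩ := Submodule.mem_sup.mp (span_std w p)
    have hi' : i ∈ plIdeal K w := hi
    have hiJ : i ∈ schubertVanishing K d n w := plIdeal_le w hi'
    unfold Sstd at hq
    obtain ⟨l, hl, rfl⟩ := (Finsupp.mem_span_image_iff_linearCombination K).mp hq
    rw [Finsupp.linearCombination_apply, Finsupp.sum] at hp' ⊢
    have hstd : ∀ L ∈ l.support, IsStd w L := fun L hL => (Finsupp.mem_supported K l).mp hl hL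
    rw [← Finset.sum_filter_add_sum_filter_not l.support (fun L => iota hdn ∈ L)] at hp' ⊢
    set q₁ := ∑ L ∈ l.support.filter (fun L => iota hdn ∈ L), l L • listMon K L with hq₁
    set q₂ := ∑ L ∈ l.support.filter (fun L => ¬ iota hdn ∈ L), l L • listMon K L with hq₂
    have hq₁mem : q₁ ∈ Ideal.span {(X (iota hdn) : PlRing K d n)} := by
      apply Ideal.sum_mem
      intro L hL
      rw [Finset.mem_filter] at hL
      rw [MvPolynomial.smul_eq_C_mul]
      apply Ideal.mul_mem_left
      rw [Ideal.mem_span_singleton]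
      unfold listMon
      exact List.dvd_prod (List.mem_map_of_mem hL.2)
    have hq₁ker : ψ2 K (iota' hdn) w q₁ = 0 := by
      obtain ⟨z, hz⟩ := Ideal.mem_span_singleton.mp hq₁mem
      rw [hz, map_mul, ψ2_X_eq_zero' _ _ _ (not_iota'_le_iota hd hdn), zero_mul]
    have hiker : ψ2 K (iota' hdn) w i = 0 := schubertVanishing_le_ker2 _ w i hiJ
    have hq₂ker : ψ2 K (iota' hdn) w q₂ = 0 := by
      rw [map_add, map_add, hq₁ker, hiker, zero_add, add_zero] at hp'
      exact hp'
    rw [hq₂, map_sum] at hq₂ker
    simp_rw [map_smul] at hq₂ker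
    have hzero := indep2 hd (iota' hdn) w _ (fun L => l L) (by
      intro L hL
      have hL' := Finset.mem_filter.mp hL
      have hLstd := hstd L hL'.1
      refine ⟨hLstd.1, fun x hx => ⟨?_, hLstd.2 x hx⟩⟩
      apply iota'_le
      rintro rfl
      exact hL'.2 hx) hq₂ker
    have hq₂0 : q₂ = 0 := by
      rw [hq₂]
      apply Finset.sum_eq_zero
      intro L hL
      rw [hzero L hL, zero_smul]
    rw [hq₂0, add_zero]
    exact Ideal.add_mem _ (Ideal.mem_sup_right hq₁mem) (Ideal.mem_sup_left hiJ)
  · apply sup_le
    · intro p hp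
      rw [RingHom.mem_ker]
      exact schubertVanishing_le_ker2 _ w p hp
    · rw [Ideal.span_le]
      intro f hf
      rw [Set.mem_singleton_iff] at hf
      subst hf
      rw [SetLike.mem_coe, RingHom.mem_ker]
      exact ψ2_X_eq_zero' _ _ _ (not_iota'_le_iota hd hdn)

theorem main (K : Type u) [Field K] [IsAlgClosed K] (d n : ℕ)
    (hd : 0 < d) (hdn : d < n) (w : Idx d n) :
    Prime (Ideal.Quotient.mk (schubertVanishing K d n w)
      (MvPolynomial.X (⟨fun t => ⟨t.val, lt_trans t.isLt hdn⟩, fun a b h => h⟩ : Idx d n))) := by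
  show Prime (Ideal.Quotient.mk (schubertVanishing K d n w) (X (iota hdn)))
  have hne : Ideal.Quotient.mk (schubertVanishing K d n w) (X (iota hdn)) ≠ 0 := by
    intro h
    rw [Ideal.Quotient.eq_zero_iff_mem] at h
    have h1 := schubertVanishing_le_ker w _ h
    have h2 := congrArg (spec K (iota hdn)) h1
    rw [spec_ψ w (iota hdn) (iota_le hdn w), map_zero] at h2
    exact ψ_X_self_ne_zero (iota hdn) h2
  rw [← Ideal.span_singleton_prime hne]
  have hP : (schubertVanishing K d n w ⊔ Ideal.span {(X (iota hdn) : PlRing K d n)}).IsPrime := by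
    rw [← ker_eq hd hdn w]
    exact RingHom.ker_isPrime _
  have hmap : Ideal.span {Ideal.Quotient.mk (schubertVanishing K d n w) (X (iota hdn))} =
      Ideal.map (Ideal.Quotient.mk (schubertVanishing K d n w))
        (schubertVanishing K d n w ⊔ Ideal.span {(X (iota hdn) : PlRing K d n)}) := by
    rw [Ideal.map_sup, Ideal.map_span, Set.image_singleton, Ideal.map_quotient_self, bot_sup_eq]
  rw [hmap]
  apply Ideal.map_isPrime_of_surjective Ideal.Quotient.mk_surjective
  rw [Ideal.mk_ker]
  exact le_sup_left

end

open W4bk4grassmannian in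
/-- The least Plücker coordinate is a prime element on every Schubert variety: let K be an algebraically
closed field, 0 < d < n, and I(d,n) the strictly increasing maps Fin d → Fin n ordered entrywise; S
= K[X_θ : θ ∈ I(d,n)] is the Plücker polynomial ring and, for τ ∈ I(d,n), J(τ) ⊆ S is the ideal of
polynomials vanishing at the d × d row-minors of every n × d matrix over K whose minors on rows φ ≰
τ are zero (the homogeneous ideal of the Schubert variety X(τ) ⊆ G(d,n)). Let w ∈ I(d,n) and let ι =
(0, 1, …, d - 1) be the least element of I(d,n), written (1, …, d) in 1-based indexing. Then the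
class of X_ι in S/J(w) is a prime element; it generates the kernel of the restriction to the section
of X(w) by the opposite Schubert divisor. -/
theorem result (K : Type u) [Field K] [IsAlgClosed K] (d n : ℕ)
    (hd : 0 < d) (hdn : d < n) (w : Idx d n) :
    Prime (Ideal.Quotient.mk (schubertVanishing K d n w)
      (MvPolynomial.X (⟨fun t => ⟨t.val, lt_trans t.isLt hdn⟩, fun a b h => h⟩ : Idx d n))) := by
  exact Groth.Agent.S11270.main K d n hd hdn w

end Groth.Agent.S11270
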