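import Groth.Statements.S11255
import Mathlib
import Groth.Agent.Lib.Helper2.SchubertCell
import Groth.Agent.Lib.Helper2.KrullInf
import Groth.Agent.S11253
import Groth.Agent.S11254
import Groth.Agent.S11270
-- import your own Groth.Agent.* helpers here

set_option autoImplicit false
universe u
open W4bk4grassmannian

namespace Groth.Agent.S11255

section
open W4bk4grassmannian MvPolynomial Groth.Agent.S11251 Groth.Agent.Lib.Helper2.SMT
  Groth.Agent.Lib.Helper2.StdFam Groth.Agent.Lib.Helper2.SchubertCell Groth.Agent.Lib.Helper2.KrullInf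

variable {K : Type u} [Field K] {d n : ℕ}

/-- the free rows of column `t` -/
def St (w : Idx d n) (t : Fin d) : Finset (Fin n) :=
  (Finset.Iio (w.1 t)) \ ((Finset.Iio t).image w.1)

theorem card_St (w : Idx d n) (t : Fin d) : (St w t).card = (w.1 t).val - t.val := by
  unfold St
  rw [Finset.card_sdiff_of_subset, Fin.card_Iio, Finset.card_image_of_injective _ w.2.injective,
    Fin.card_Iio]
  intro i hi
  obtain ⟨t', ht', rfl⟩ := Finset.mem_image.mp hi
  rw [Finset.mem_Iio] at ht' ⊢
  exact w.2 ht'

theorem mem_St (w : Idx d n) (t : Fin d) (i : Fin n) :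
    i ∈ St w t ↔ i < w.1 t ∧ i ∉ Set.range w.1 := by
  unfold St
  rw [Finset.mem_sdiff, Finset.mem_Iio]
  constructor
  · rintro ⟨h1, h2⟩
    refine ⟨h1, ?_⟩
    rintro ⟨t', rfl⟩
    apply h2
    rw [Finset.mem_image]
    exact ⟨t', Finset.mem_Iio.mpr (w.2.lt_iff_lt.mp h1), rfl⟩
  · rintro ⟨h1, h2⟩
    refine ⟨h1, ?_⟩
    intro hc
    obtain ⟨t', _, rfl⟩ := Finset.mem_image.mp hc
    exact h2 ⟨t', rfl⟩

/-- the free positions, fibred over the columns -/
def freeEquiv (w : Idx d n) : Free w ≃ Σ t : Fin d, {i : Fin n // i ∈ St w t} where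
  toFun f := ⟨f.1.2, ⟨f.1.1, (mem_St w _ _).mpr f.2⟩⟩
  invFun x := ⟨(x.2.1, x.1), (mem_St w _ _).mp x.2.2⟩
  left_inv f := by rfl
  right_inv x := by rfl

theorem card_free (w : Idx d n) : Fintype.card (Free w) = codeg w := by
  rw [Fintype.card_congr (freeEquiv w), Fintype.card_sigma]
  unfold codeg
  apply Finset.sum_congr rfl
  intro t _
  rw [Fintype.card_coe, card_St]

theorem dim_away_le [Infinite K] (hd : 0 < d) (w : Idx d n) :
    ringKrullDim (Localization.Away (aw K w)) ≤ ((codeg w + 1 : ℕ) : WithBot ℕ∞) := by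
  letI : Algebra (CRing K w) (Localization.Away (aw K w)) := (π₀ K w).toRingHom.toAlgebra
  have hmap : ∀ p : CRing K w, algebraMap (CRing K w) (Localization.Away (aw K w)) p = π₀ K w p :=
    fun _ => rfl
  haveI : IsLocalization (Submonoid.powers (X none : CRing K w)) (Localization.Away (aw K w)) := by
    rw [isLocalization_iff]
    refine ⟨?_, ?_, ?_⟩
    · rintro ⟨_, k, rfl⟩
      rw [hmap, map_pow, π₀_none]
      exact IsLocalization.Away.algebraMap_pow_isUnit _ _
    · intro z
      obtain ⟨k, p, hp⟩ := InB_all hd w z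
      refine ⟨(p, ⟨X none ^ k, k, rfl⟩), ?_⟩
      rw [hmap, hmap, map_pow, π₀_none]
      exact hp
    · intro x y hxy
      rw [hmap, hmap] at hxy
      exact ⟨1, by rw [π₀_injective hd w hxy]⟩
  refine le_trans (ringKrullDim_le_of_isLocalization (Submonoid.powers (X none : CRing K w))) ?_
  rw [MvPolynomial.ringKrullDim_of_isNoetherianRing, ringKrullDim_eq_zero_of_field, zero_add,
    Nat.card_eq_fintype_card, Fintype.card_option, card_free]

theorem sup_eq_ker_of_min (hd : 0 < d) (w : Idx d n) (hmin : ¬ ∃ φ : Idx d n, φ < w) :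
    schubertVanishing K d n w ⊔ Ideal.span {(X w : PlRing K d n)} =
      RingHom.ker (evalMinors K d n (0 : Matrix (Fin n) (Fin d) K)).toRingHom := by
  classical
  haveI : Nonempty (Fin d) := ⟨⟨0, hd⟩⟩
  have hX : ∀ θ : Idx d n, (X θ : PlRing K d n) ∈
      schubertVanishing K d n w ⊔ Ideal.span {(X w : PlRing K d n)} := by
    intro θ
    by_cases hθ : θ = w
    · rw [hθ]
      exact Ideal.mem_sup_right (Ideal.subset_span rfl)
    · apply Ideal.mem_sup_left
      apply X_mem_schubertVanishing
      intro hle
      exact hmin ⟨θ, lt_of_le_of_ne hle hθ⟩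
  have hev : ∀ θ : Idx d n, evalMinors K d n (0 : Matrix (Fin n) (Fin d) K) (X θ) = 0 := by
    intro θ
    unfold evalMinors
    rw [MvPolynomial.aeval_X]
    have : (0 : Matrix (Fin n) (Fin d) K).submatrix θ.1 id = 0 := by
      ext i j; simp
    rw [this, Matrix.det_zero]
  apply le_antisymm
  · apply sup_le
    · intro p hp
      unfold schubertVanishing at hp
      rw [Ideal.mem_iInf] at hp
      have h1 := hp 0
      rw [Ideal.mem_iInf] at h1
      apply h1
      intro φ _
      have : (0 : Matrix (Fin n) (Fin d) K).submatrix φ.1 id = 0 := by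
        ext i j; simp
      rw [this, Matrix.det_zero]
    · rw [Ideal.span_le]
      intro p hp
      rw [Set.mem_singleton_iff] at hp
      rw [hp, SetLike.mem_coe, RingHom.mem_ker]
      exact hev w
  · intro p hp
    rw [RingHom.mem_ker] at hp
    have hp' : evalMinors K d n (0 : Matrix (Fin n) (Fin d) K) p = 0 := hp
    have hgen : ∀ q : PlRing K d n, q - C (evalMinors K d n (0 : Matrix (Fin n) (Fin d) K) q) ∈
        schubertVanishing K d n w ⊔ Ideal.span {(X w : PlRing K d n)} := by
      intro q
      induction q using MvPolynomial.induction_on with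
      | C c =>
        have : evalMinors K d n (0 : Matrix (Fin n) (Fin d) K) (C c) = c := by
          rw [← MvPolynomial.algebraMap_eq, AlgHom.commutes]
          rfl
        rw [this, sub_self]
        exact Ideal.zero_mem _
      | add q r hq hr =>
        rw [map_add, map_add]
        have : q + r - (C (evalMinors K d n (0 : Matrix (Fin n) (Fin d) K) q) +
            C (evalMinors K d n (0 : Matrix (Fin n) (Fin d) K) r)) =
            (q - C (evalMinors K d n (0 : Matrix (Fin n) (Fin d) K) q)) +
            (r - C (evalMinors K d n (0 : Matrix (Fin n) (Fin d) K) r)) := by ring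
        rw [this]
        exact Ideal.add_mem _ hq hr
      | mul_X q θ _ =>
        rw [map_mul, hev θ, mul_zero, map_zero, sub_zero]
        exact Ideal.mul_mem_left _ _ (hX θ)
    have := hgen p
    rwa [hp', map_zero, sub_zero] at this

theorem dim_quot_sup_min (hd : 0 < d) (w : Idx d n) (hmin : ¬ ∃ φ : Idx d n, φ < w) :
    ringKrullDim (PlRing K d n ⧸ (schubertVanishing K d n w ⊔ Ideal.span {(X w : PlRing K d n)})) = 0 := by
  rw [sup_eq_ker_of_min hd w hmin]
  have hsurj : Function.Surjective (evalMinors K d n (0 : Matrix (Fin n) (Fin d) K)).toRingHom := by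
    intro c
    refine ⟨C c, ?_⟩
    show evalMinors K d n (0 : Matrix (Fin n) (Fin d) K) (C c) = c
    rw [← MvPolynomial.algebraMap_eq, AlgHom.commutes]
    rfl
  rw [ringKrullDim_eq_of_ringEquiv (RingHom.quotientKerEquivOfSurjective hsurj)]
  exact ringKrullDim_eq_zero_of_field K

/-- `A_w/(a_w) ≅ S/(J(w) + (X_w))` -/
noncomputable def quotEquiv (w : Idx d n) :
    ((PlRing K d n ⧸ schubertVanishing K d n w) ⧸ Ideal.span {aw K w}) ≃+*
      (PlRing K d n ⧸ (schubertVanishing K d n w ⊔ Ideal.span {(X w : PlRing K d n)})) := by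
  have h : Ideal.span {aw K w} =
      (Ideal.span {(X w : PlRing K d n)}).map (Ideal.Quotient.mk (schubertVanishing K d n w)) := by
    rw [Ideal.map_span, Set.image_singleton]
    rfl
  exact (Ideal.quotEquivOfEq h).trans (DoubleQuot.quotQuotEquivQuotSup _ _)

theorem min_eq_iota (hdn : d < n) (w : Idx d n) (hmin : ¬ ∃ φ : Idx d n, φ < w) :
    codeg w = 0 := by
  have h1 : Groth.Agent.S11270.iota hdn = w := by
    by_contra hne
    exact hmin ⟨_, lt_of_le_of_ne (Groth.Agent.S11270.iota_le hdn w) hne⟩
  rw [← h1]
  unfold codeg Groth.Agent.S11270.iota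
  simp

theorem upper [IsAlgClosed K] (hd : 0 < d) (hdn : d < n) (N : ℕ) :
    ∀ w : Idx d n, codeg w = N →
      ringKrullDim (PlRing K d n ⧸ schubertVanishing K d n w) ≤ ((N + 1 : ℕ) : WithBot ℕ∞) := by
  classical
  haveI : Infinite K := IsAlgClosed.instInfinite
  induction N using Nat.strong_induction_on with
  | _ N ih =>
  intro w hw
  haveI hdom : IsDomain (PlRing K d n ⧸ schubertVanishing K d n w) :=
    Function.Injective.isDomain (ψbar K w).toRingHom (ψbar_injective hd w)
  have hquot : ringKrullDim ((PlRing K d n ⧸ schubertVanishing K d n w) ⧸ Ideal.span {aw K w}) ≤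
      ((N : ℕ) : WithBot ℕ∞) := by
    rw [ringKrullDim_eq_of_ringEquiv (quotEquiv w)]
    by_cases hmin : ∃ φ : Idx d n, φ < w
    · rw [Groth.Agent.S11254.main K d n hd hdn w hmin]
      have hfin : (divisors w).Finite := Set.toFinite _
      have e : (⨅ φ ∈ divisors w, schubertVanishing K d n φ) =
          hfin.toFinset.inf (fun φ => schubertVanishing K d n φ) := by
        rw [Finset.inf_eq_iInf]
        apply iInf_congr
        intro φ
        rw [Set.Finite.mem_toFinset]
      rw [e]
      apply ringKrullDim_quot_finsetInf_le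
      intro φ hφ
      rw [Set.Finite.mem_toFinset] at hφ
      have h1 : codeg φ + 1 = codeg w := hφ.2
      have h2 := ih (codeg φ) (by omega) φ rfl
      have h3 : codeg φ + 1 = N := by omega
      rw [h3] at h2
      exact h2
    · rw [dim_quot_sup_min hd w hmin]
      exact_mod_cast Nat.zero_le N
  rw [ringKrullDim_le_iff_height_le]
  intro p hp
  by_cases hmem : aw K w ∈ p
  · have h1 := Ideal.height_le_ringKrullDim_quotient_add_one hmem
    refine le_trans h1 ?_
    have : ((N + 1 : ℕ) : WithBot ℕ∞) = ((N : ℕ) : WithBot ℕ∞) + 1 := by push_cast; rfl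
    rw [this]
    exact add_le_add_left hquot 1
  · have hdisj : Disjoint (Submonoid.powers (aw K w) : Set (PlRing K d n ⧸ schubertVanishing K d n w))
        (p : Set (PlRing K d n ⧸ schubertVanishing K d n w)) := by
      rw [Set.disjoint_left]
      rintro _ ⟨k, rfl⟩ hk
      exact hmem (hp.mem_of_pow_mem k hk)
    have h1 := IsLocalization.height_map_of_disjoint (S := Localization.Away (aw K w))
      (Submonoid.powers (aw K w)) p hdisj
    haveI : (p.map (algebraMap _ (Localization.Away (aw K w)))).IsPrime :=
      IsLocalization.isPrime_of_isPrime_disjoint (Submonoid.powers (aw K w)) _ p hp hdisj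
    have h2 : ((p.map (algebraMap _ (Localization.Away (aw K w)))).height : WithBot ℕ∞) ≤
        ringKrullDim (Localization.Away (aw K w)) :=
      Ideal.height_le_ringKrullDim_of_ne_top Ideal.IsPrime.ne_top'
    rw [h1] at h2
    refine le_trans h2 (le_trans (dim_away_le hd w) ?_)
    rw [hw]

theorem lower [IsAlgClosed K] (hd : 0 < d) (hdn : d < n) (N : ℕ) :
    ∀ w : Idx d n, codeg w = N →
      ((N + 1 : ℕ) : WithBot ℕ∞) ≤ ringKrullDim (PlRing K d n ⧸ schubertVanishing K d n w) := by
  classical
  haveI : Infinite K := IsAlgClosed.instInfinite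
  induction N using Nat.strong_induction_on with
  | _ N ih =>
  intro w hw
  haveI hdom : IsDomain (PlRing K d n ⧸ schubertVanishing K d n w) :=
    Function.Injective.isDomain (ψbar K w).toRingHom (ψbar_injective hd w)
  have hnzd : aw K w ∈ nonZeroDivisors (PlRing K d n ⧸ schubertVanishing K d n w) :=
    mem_nonZeroDivisors_of_ne_zero (aw_ne_zero w)
  by_cases hmin : ∃ φ : Idx d n, φ < w
  · obtain ⟨x, hx⟩ := hmin
    obtain ⟨φ, hφ, _⟩ := Groth.Agent.S11254.exists_divisor_ge x w hx
    have h1 : codeg φ + 1 = codeg w := hφ.2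
    have h2 := ih (codeg φ) (by omega) φ rfl
    have hle : schubertVanishing K d n w ≤ schubertVanishing K d n φ :=
      Groth.Agent.S11253.schubertVanishing_anti hφ.1.le
    have h3 := ringKrullDim_succ_le_of_surjective (Ideal.Quotient.factor hle)
      (Ideal.Quotient.factor_surjective hle) hnzd (by
        unfold aw
        rw [Ideal.Quotient.factor_mk, Ideal.Quotient.eq_zero_iff_mem]
        apply X_mem_schubertVanishing
        exact not_le_of_gt hφ.1)
    refine le_trans ?_ h3
    have : ((N + 1 : ℕ) : WithBot ℕ∞) = ((codeg φ + 1 : ℕ) : WithBot ℕ∞) + 1 := by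
      have : N = codeg φ + 1 := by omega
      rw [this]; push_cast; rfl
    rw [this]
    exact add_le_add_left h2 1
  · have h0 : N = 0 := by rw [← hw]; exact min_eq_iota hdn w hmin
    have h3 := ringKrullDim_quotient_succ_le_of_nonZeroDivisor hnzd
    rw [ringKrullDim_eq_of_ringEquiv (quotEquiv w), dim_quot_sup_min hd w hmin] at h3
    rw [h0]
    simpa using h3

theorem main (K : Type u) [Field K] [IsAlgClosed K] (d n : ℕ)
    (hd : 0 < d) (hdn : d < n) (w : Idx d n) :
    ringKrullDim (PlRing K d n ⧸ schubertVanishing K d n w) = ((codeg w + 1 : ℕ) : WithBot ℕ∞) :=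
  le_antisymm (upper hd hdn (codeg w) w rfl) (lower hd hdn (codeg w) w rfl)

end

open W4bk4grassmannian in
/-- Dimension of a Schubert variety, stated for its affine cone: let K be an algebraically closed field,
0 < d < n, and I(d,n) the strictly increasing maps Fin d → Fin n ordered entrywise; S = K[X_θ : θ ∈
I(d,n)] is the Plücker polynomial ring and, for τ ∈ I(d,n), J(τ) ⊆ S is the ideal of polynomials
vanishing at the d × d row-minors of every n × d matrix over K whose minors on rows φ ≰ τ are zero
(the homogeneous ideal of the Schubert variety X(τ) ⊆ G(d,n)). Then for w ∈ I(d,n) the ring S/J(w),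
the coordinate ring of the cone over X(w), has Krull dimension Σ_t (w_t - t) + 1 (0-indexed
entries), so that dim X(w) = Σ_t (w_t - t). (The published statement gives the dimension of the
projective variety X(w); this row states the Krull dimension of its affine cone, one more.) -/
theorem result (K : Type u) [Field K] [IsAlgClosed K] (d n : ℕ)
    (hd : 0 < d) (hdn : d < n) (w : Idx d n) :
    ringKrullDim (PlRing K d n ⧸ schubertVanishing K d n w) = ((codeg w + 1 : ℕ) : WithBot ℕ∞) := by
  exact Groth.Agent.S11255.main K d n hd hdn w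

end Groth.Agent.S11255
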