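import Groth.Statements.S11260
import Mathlib
import Groth.Agent.Lib.Helper2.SchubertCell
import Groth.Agent.S11253
import Groth.Agent.S11254
import Groth.Agent.S11255
-- import your own Groth.Agent.* helpers here

set_option autoImplicit false
universe u
open W4bk4grassmannian

namespace Groth.Agent.S11260

section
open W4bk4grassmannian MvPolynomial Groth.Agent.S11251 Groth.Agent.Lib.Helper2.SMT
  Groth.Agent.Lib.Helper2.StdFam Groth.Agent.Lib.Helper2.SchubertCell

variable {K : Type u} [Field K] {d n : ℕ}

theorem partA [IsAlgClosed K] (hd : 0 < d) (τ : Idx d n) :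
    UniqueFactorizationMonoid (PlRing K d n ⧸ schubertVanishing K d n τ) ↔
      Prime (Ideal.Quotient.mk (schubertVanishing K d n τ) (MvPolynomial.X τ)) := by
  haveI : Infinite K := IsAlgClosed.instInfinite
  haveI := isDomain_A (K := K) hd τ
  constructor
  · intro h
    exact UniqueFactorizationMonoid.irreducible_iff_prime.mp (irreducible_aw hd τ)
  · intro hprime
    have hprime' : Prime (aw K τ) := hprime
    rw [UniqueFactorizationMonoid.iff_localizationAway_of_prime hprime']
    letI : Algebra (CRing K τ) (Localization.Away (aw K τ)) := (π₀ K τ).toRingHom.toAlgebra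
    haveI := isLocalization_away (K := K) hd τ
    exact UniqueFactorizationMonoid.of_isLocalization (Submonoid.powers (X none : CRing K τ)) _

theorem wt_eq_codeg (φ : Idx d n) : wt φ.1 = codeg φ + ∑ t : Fin d, t.val := by
  unfold wt codeg
  rw [← Finset.sum_add_distrib]
  apply Finset.sum_congr rfl
  intro t _
  have := le_strictMono_fin φ.1 φ.2 t.val t.isLt
  simp only [Fin.eta] at this
  omega

theorem X_not_mem [Infinite K] (φ : Idx d n) : (X φ : PlRing K d n) ∉ schubertVanishing K d n φ := by
  intro h
  exact ψ_X_self_ne_zero φ (schubertVanishing_le_ker φ _ h)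

theorem sv_isPrime [Infinite K] (hd : 0 < d) (φ : Idx d n) : (schubertVanishing K d n φ).IsPrime := by
  rw [← Ideal.Quotient.isDomain_iff_prime]
  exact isDomain_A hd φ

theorem prime_aw_iff [Infinite K] (hd : 0 < d) (τ : Idx d n) :
    Prime (aw K τ) ↔ (schubertVanishing K d n τ ⊔ Ideal.span {(X τ : PlRing K d n)}).IsPrime := by
  rw [← Ideal.span_singleton_prime (aw_ne_zero τ), ← Ideal.Quotient.isDomain_iff_prime,
    ← Ideal.Quotient.isDomain_iff_prime]
  constructor
  · intro h
    exact (Groth.Agent.S11255.quotEquiv τ).symm.toMulEquiv.isDomain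
  · intro h
    exact (Groth.Agent.S11255.quotEquiv τ).toMulEquiv.isDomain

theorem partB [IsAlgClosed K] (hd : 0 < d) (hdn : d < n) (τ : Idx d n) :
    Prime (Ideal.Quotient.mk (schubertVanishing K d n τ) (MvPolynomial.X τ)) ↔
      (divisors τ).Subsingleton := by
  classical
  haveI : Infinite K := IsAlgClosed.instInfinite
  show Prime (aw K τ) ↔ _
  rw [prime_aw_iff hd]
  by_cases hmin : ∃ φ : Idx d n, φ < τ
  · rw [Groth.Agent.S11254.main K d n hd hdn τ hmin]
    constructor
    · intro hprime φ₁ h₁ φ₂ h₂
      have hfin : (divisors τ).Finite := Set.toFinite _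
      have e : (⨅ φ ∈ divisors τ, schubertVanishing K d n φ) =
          hfin.toFinset.inf (fun φ => schubertVanishing K d n φ) := by
        rw [Finset.inf_eq_iInf]
        apply iInf_congr
        intro φ
        rw [Set.Finite.mem_toFinset]
      obtain ⟨φ₀, hφ₀, hle⟩ := (Ideal.IsPrime.inf_le' hprime).mp (le_of_eq e.symm)
      rw [Set.Finite.mem_toFinset] at hφ₀
      have key : ∀ φ ∈ divisors τ, φ = φ₀ := by
        intro φ hφ
        have h1 : schubertVanishing K d n φ₀ ≤ schubertVanishing K d n φ :=
          le_trans hle (iInf₂_le φ hφ)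
        have h2 : φ ≤ φ₀ := by
          by_contra hc
          exact X_not_mem φ (h1 (X_mem_schubertVanishing φ₀ φ hc))
        apply eq_of_le_of_wt φ φ₀ h2
        rw [wt_eq_codeg, wt_eq_codeg]
        have e1 : codeg φ + 1 = codeg τ := hφ.2
        have e2 : codeg φ₀ + 1 = codeg τ := hφ₀.2
        omega
      rw [key φ₁ h₁, key φ₂ h₂]
    · intro hsub
      obtain ⟨x, hx⟩ := hmin
      obtain ⟨φ₀, hφ₀, _⟩ := Groth.Agent.S11254.exists_divisor_ge x τ hx
      have : (⨅ φ ∈ divisors τ, schubertVanishing K d n φ) = schubertVanishing K d n φ₀ := by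
        apply le_antisymm
        · exact iInf₂_le φ₀ hφ₀
        · apply le_iInf₂
          intro φ hφ
          rw [hsub hφ hφ₀]
      rw [this]
      exact sv_isPrime hd φ₀
  · constructor
    · intro _ φ₁ h₁
      exact absurd ⟨φ₁, h₁.1⟩ hmin
    · intro _
      rw [Groth.Agent.S11255.sup_eq_ker_of_min hd τ hmin]
      exact RingHom.ker_isPrime _

/-- a position where `τ` can be lowered -/
def Gap (τ : Idx d n) (t : Fin d) : Prop :=
  (∀ t' : Fin d, t'.val + 1 = t.val → (τ.1 t').val + 1 < (τ.1 t).val) ∧
    (t.val = 0 → 0 < (τ.1 t).val)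

/-- lowering `τ` at a gap -/
def lower (τ : Idx d n) (t : Fin d) (h : Gap τ t) : Idx d n :=
  ⟨Function.update τ.1 t ⟨(τ.1 t).val - 1, by have := (τ.1 t).isLt; omega⟩, by
    intro a b hab
    have hab' : a.val < b.val := hab
    by_cases ha : a = t
    · have hb : b ≠ t := fun hb => by rw [ha, hb] at hab; exact lt_irrefl _ hab
      rw [ha, Function.update_self, Function.update_of_ne hb, Fin.lt_def]
      have h1 : (τ.1 t).val < (τ.1 b).val := by
        have := τ.2 (show t < b by rw [← ha]; exact hab)
        exact this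
      simp only
      omega
    · by_cases hb : b = t
      · rw [hb, Function.update_self, Function.update_of_ne ha, Fin.lt_def]
        simp only
        have htpos : 0 < t.val := by rw [← hb]; omega
        have h2 := h.1 ⟨t.val - 1, by have := t.isLt; omega⟩ (by simp only; omega)
        have h3 : (τ.1 a).val ≤ (τ.1 ⟨t.val - 1, by have := t.isLt; omega⟩).val := by
          have : a ≤ ⟨t.val - 1, by have := t.isLt; omega⟩ := by
            rw [Fin.le_def]; simp only; rw [hb] at hab'; omega
          exact τ.2.monotone this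
        omega
      · rw [Function.update_of_ne ha, Function.update_of_ne hb]
        exact τ.2 hab⟩

theorem lower_self (τ : Idx d n) (t : Fin d) (h : Gap τ t) :
    ((lower τ t h).1 t).val = (τ.1 t).val - 1 := by
  unfold lower
  simp

theorem lower_ne (τ : Idx d n) (t : Fin d) (h : Gap τ t) (t' : Fin d) (ht' : t' ≠ t) :
    (lower τ t h).1 t' = τ.1 t' := by
  unfold lower
  simp [Function.update_of_ne ht']

theorem gap_pos (τ : Idx d n) (t : Fin d) (h : Gap τ t) : t.val < (τ.1 t).val := by
  by_cases ht : t.val = 0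
  · have := h.2 ht; omega
  · have h2 := h.1 ⟨t.val - 1, by have := t.isLt; omega⟩ (by simp only; omega)
    have h3 := le_strictMono_fin τ.1 τ.2 (t.val - 1) (by have := t.isLt; omega)
    omega

theorem lower_mem (τ : Idx d n) (t : Fin d) (h : Gap τ t) : lower τ t h ∈ divisors τ := by
  have hle : lower τ t h ≤ τ := by
    intro t'
    by_cases ht' : t' = t
    · rw [ht', Fin.le_def, lower_self]; omega
    · rw [lower_ne τ t h t' ht']
  have hne : lower τ t h ≠ τ := by
    intro hc
    have := lower_self τ t h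
    rw [hc] at this
    have := gap_pos τ t h
    omega
  refine ⟨lt_of_le_of_ne hle hne, ?_⟩
  have h1 := wt_update τ t ⟨(τ.1 t).val - 1, by have := (τ.1 t).isLt; omega⟩
  have h2 : wt (lower τ t h).1 = wt (Function.update τ.1 t ⟨(τ.1 t).val - 1, by have := (τ.1 t).isLt; omega⟩) := rfl
  have h3 := wt_eq_codeg τ
  have h4 := wt_eq_codeg (lower τ t h)
  have h5 := gap_pos τ t h
  simp only at h1
  omega

theorem divisor_drop (τ φ : Idx d n) (hφ : φ ∈ divisors τ) :
    ∃ t₁ : Fin d, (φ.1 t₁).val + 1 = (τ.1 t₁).val ∧ ∀ t, t ≠ t₁ → φ.1 t = τ.1 t := by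
  classical
  have hle : φ ≤ τ := hφ.1.le
  have hwt : wt φ.1 + 1 = wt τ.1 := by
    have := wt_eq_codeg τ
    have := wt_eq_codeg φ
    have : codeg φ + 1 = codeg τ := hφ.2
    omega
  have h1 : ∃ t₁, φ.1 t₁ < τ.1 t₁ := by
    by_contra hc
    push Not at hc
    have : τ ≤ φ := fun t => hc t
    exact absurd (le_antisymm hle this) (ne_of_lt hφ.1)
  obtain ⟨t₁, ht₁⟩ := h1
  have ht₁' : (φ.1 t₁).val < (τ.1 t₁).val := ht₁
  unfold wt at hwt
  rw [← Finset.add_sum_erase _ _ (Finset.mem_univ t₁), ← Finset.add_sum_erase _ (fun t => (τ.1 t).val) (Finset.mem_univ t₁)] at hwt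
  have h2 : ∑ t ∈ Finset.univ.erase t₁, (φ.1 t).val ≤ ∑ t ∈ Finset.univ.erase t₁, (τ.1 t).val :=
    Finset.sum_le_sum (fun t _ => Fin.le_def.mp (hle t))
  have h3 : ∑ t ∈ Finset.univ.erase t₁, (φ.1 t).val = ∑ t ∈ Finset.univ.erase t₁, (τ.1 t).val := by
    omega
  refine ⟨t₁, by omega, ?_⟩
  intro t ht
  have h4 := (Finset.sum_eq_sum_iff_of_le (fun t _ => Fin.le_def.mp (hle t))).mp h3 t
    (Finset.mem_erase.mpr ⟨ht, Finset.mem_univ t⟩)
  exact Fin.ext h4

theorem partC (τ : Idx d n) :
    (divisors τ).Subsingleton ↔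
      ∃ s : ℕ, (∀ t : Fin d, t.val < s → (τ.1 t).val = t.val) ∧
        ∀ t t' : Fin d, s ≤ t.val → t.val + 1 = t'.val → (τ.1 t).val + 1 = (τ.1 t').val := by
  constructor
  · intro hsub
    by_cases hall : ∀ t : Fin d, (τ.1 t).val = t.val
    · refine ⟨d, fun t _ => hall t, ?_⟩
      intro t t' h1 _
      have := t.isLt
      omega
    · push Not at hall
      obtain ⟨t, ht⟩ := hall
      obtain ⟨t₀, ht₀, hmin⟩ := wellFounded_lt.has_min {t : Fin d | (τ.1 t).val ≠ t.val} ⟨t, ht⟩
      have ht₀' : (τ.1 t₀).val ≠ t₀.val := ht₀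
      have hlt : ∀ t : Fin d, t < t₀ → (τ.1 t).val = t.val := by
        intro t htt
        by_contra hc
        exact hmin t hc htt
      have hgap₀ : Gap τ t₀ := by
        have hge := le_strictMono_fin τ.1 τ.2 t₀.val t₀.isLt
        simp only [Fin.eta] at hge
        refine ⟨?_, ?_⟩
        · intro t' ht'
          have := hlt t' (by rw [Fin.lt_def]; omega)
          omega
        · intro _; omega
      refine ⟨t₀.val, fun t ht => hlt t ht, ?_⟩
      intro t t' hst htt'
      by_contra hc
      have hmono : (τ.1 t).val < (τ.1 t').val := τ.2 (by rw [Fin.lt_def]; omega)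
      have hgap' : Gap τ t' := by
        refine ⟨?_, ?_⟩
        · intro t'' ht''
          have : t'' = t := Fin.ext (by omega)
          rw [this]
          omega
        · intro h0; omega
      have heq := hsub (lower_mem τ t₀ hgap₀) (lower_mem τ t' hgap')
      have h1 := lower_self τ t₀ hgap₀
      have hne : t₀ ≠ t' := fun h => by rw [h] at hst; omega
      have h2 := lower_ne τ t' hgap' t₀ hne
      rw [heq, h2] at h1
      have := gap_pos τ t₀ hgap₀
      omega
  · rintro ⟨s, hs1, hs2⟩ φ₁ h₁ φ₂ h₂
    have key : ∀ φ ∈ divisors τ, ∀ t₁ : Fin d, (φ.1 t₁).val + 1 = (τ.1 t₁).val →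
        (∀ t, t ≠ t₁ → φ.1 t = τ.1 t) → t₁.val = s := by
      intro φ _ t₁ h1 h2
      rcases lt_trichotomy t₁.val s with h | h | h
      · have := hs1 t₁ h
        have hge := le_strictMono_fin φ.1 φ.2 t₁.val t₁.isLt
        simp only [Fin.eta] at hge
        omega
      · exact h
      · have htpos : 0 < t₁.val := by omega
        have h3 := hs2 ⟨t₁.val - 1, by have := t₁.isLt; omega⟩ t₁ (by simp only; omega)
          (by simp only; omega)
        have hne : (⟨t₁.val - 1, by have := t₁.isLt; omega⟩ : Fin d) ≠ t₁ := by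
          intro hc
          have := congrArg Fin.val hc
          simp only at this
          omega
        have h4 := h2 _ hne
        have h5 : φ.1 ⟨t₁.val - 1, by have := t₁.isLt; omega⟩ < φ.1 t₁ :=
          φ.2 (by rw [Fin.lt_def]; simp only; omega)
        rw [h4, Fin.lt_def] at h5
        omega
    obtain ⟨t₁, a1, b1⟩ := divisor_drop τ φ₁ h₁
    obtain ⟨t₂, a2, b2⟩ := divisor_drop τ φ₂ h₂
    have e1 := key φ₁ h₁ t₁ a1 b1
    have e2 := key φ₂ h₂ t₂ a2 b2
    have e : t₁ = t₂ := Fin.ext (by omega)
    subst e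
    apply Subtype.ext
    funext t
    by_cases ht : t = t₁
    · rw [ht]
      apply Fin.ext
      omega
    · rw [b1 t ht, b2 t ht]

theorem main (K : Type u) [Field K] [IsAlgClosed K] (d n : ℕ)
    (hd : 0 < d) (hdn : d < n) (τ : Idx d n) :
    (UniqueFactorizationMonoid (PlRing K d n ⧸ schubertVanishing K d n τ) ↔
        Prime (Ideal.Quotient.mk (schubertVanishing K d n τ) (MvPolynomial.X τ))) ∧
      (Prime (Ideal.Quotient.mk (schubertVanishing K d n τ) (MvPolynomial.X τ)) ↔
        (divisors τ).Subsingleton) ∧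
      ((divisors τ).Subsingleton ↔
        ∃ s : ℕ, (∀ t : Fin d, t.val < s → (τ.1 t).val = t.val) ∧
          ∀ t t' : Fin d, s ≤ t.val → t.val + 1 = t'.val → (τ.1 t).val + 1 = (τ.1 t').val) :=
  ⟨partA hd τ, partB hd hdn τ, partC τ⟩

end

open W4bk4grassmannian in
/-- (2) ⇔ (3) ⇔ (4): let K be an algebraically closed field, 0 < d < n, and I(d,n) the strictly
increasing maps Fin d → Fin n ordered entrywise; S = K[X_θ : θ ∈ I(d,n)] is the Plücker polynomial
ring and, for τ ∈ I(d,n), J(τ) ⊆ S is the ideal of polynomials vanishing at the d × d row-minors of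
every n × d matrix over K whose minors on rows φ ≰ τ are zero (the homogeneous ideal of the Schubert
variety X(τ) ⊆ G(d,n)). Let R = S/J(τ). The following are equivalent: (1) R is a unique
factorization domain; (2) the class of X_τ is a prime element of R; (3) τ has at most one Schubert
divisor (φ < τ with Σ_t (φ_t - t) + 1 = Σ_t (τ_t - t)); (4) for some s, τ_t = t for all t < s and
the entries τ_t with t ≥ s are consecutive (0-indexed; τ is a single run of consecutive values, or
begins with 0, 1, …, s - 1 followed by a single run). (The published (3) reads: exactly one Schubert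
divisor; for the zero-dimensional Schubert variety there is none while (1), (2), (4) hold, so (3) is
stated as: at most one.) -/
theorem result (K : Type u) [Field K] [IsAlgClosed K] (d n : ℕ)
    (hd : 0 < d) (hdn : d < n) (τ : Idx d n) :
    (UniqueFactorizationMonoid (PlRing K d n ⧸ schubertVanishing K d n τ) ↔
        Prime (Ideal.Quotient.mk (schubertVanishing K d n τ) (MvPolynomial.X τ))) ∧
      (Prime (Ideal.Quotient.mk (schubertVanishing K d n τ) (MvPolynomial.X τ)) ↔
        (divisors τ).Subsingleton) ∧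
      ((divisors τ).Subsingleton ↔
        ∃ s : ℕ, (∀ t : Fin d, t.val < s → (τ.1 t).val = t.val) ∧
          ∀ t t' : Fin d, s ≤ t.val → t.val + 1 = t'.val → (τ.1 t).val + 1 = (τ.1 t').val) := by
  exact Groth.Agent.S11260.main K d n hd hdn τ

end Groth.Agent.S11260
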