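import Groth.Statements.S9379
import Mathlib
import Groth.Agent.Lib.Helper2.CIFib2
import Groth.Agent.S2843
-- import your own Groth.Agent.* helpers here

set_option autoImplicit false
universe u
open Synt

namespace Groth.Agent.S9379

section
open AlgebraicGeometry CategoryTheory Limits Groth.Agent.Helper2.CIFib Groth.Agent.Helper2.CIPi1

/-- over a field: complete intersection over `K` ⇔ complete intersection (via completion) -/
theorem isCIOver_stalk_iff_isCI (K : Type u) [Field K] (Y : Scheme.{u})
    (p : Y ⟶ Spec (CommRingCat.of K)) [LocallyOfFiniteType p] (y : Y) :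
    (letI := Groth.Agent.S9368.algStalk K Y p y;
      Synt.IsCIOver K (Y.presheaf.stalk y)) ↔
      Pi1.IsCompleteIntersection (Y.presheaf.stalk y) := by
  letI := Groth.Agent.S9368.algStalk K Y p y
  haveI := Groth.Agent.Helper2.CIPi2.essFiniteType_stalk K Y p y
  exact ⟨fun h => isCI_of_isCIOver K _ h, fun h => isCIOver_of_isCI K _ h⟩

theorem isCI_stalk_congr (Y : Scheme.{u}) (a b : Y) (h : a = b) :
    Pi1.IsCompleteIntersection (Y.presheaf.stalk a) ↔
      Pi1.IsCompleteIntersection (Y.presheaf.stalk b) := by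
  subst h
  rfl

variable {X S X' S' : Scheme.{u}} (f : X ⟶ S) [LocallyOfFiniteType f] (g : S' ⟶ S)
    (g' : X' ⟶ X) (f' : X' ⟶ S') (hsq : IsPullback g' f' f g)

/-- the predicate on the target side, with the base point as a variable -/
def Q (x : X) (s : S) (hxs : x ∈ (f : X → S) ⁻¹' {s}) : Prop :=
  letI := Groth.Agent.S9368.algStalk (S.residueField s) (f.fiber s)
    (f.fiberToSpecResidueField s) ((f.fiberHomeo s).symm ⟨x, hxs⟩)
  Synt.IsCIOver (S.residueField s) ((f.fiber s).presheaf.stalk ((f.fiberHomeo s).symm ⟨x, hxs⟩))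

omit [LocallyOfFiniteType f] in
theorem Q_iff (x : X) (s : S) (hxs : x ∈ (f : X → S) ⁻¹' {s}) :
    Q f x s hxs ↔ Q f x (f x) rfl := by
  have hs : f x = s := hxs
  subst hs
  rfl

include hsq in
theorem pointwise (x' : X') :
    Q f' x' (f' x') rfl ↔ Q f (g' x') (f (g' x')) rfl := by
  have hxs0 : f (g' x') = g (f' x') := by
    have := congrArg (fun φ : X' ⟶ S => φ x') hsq.w
    exact this
  have hxs : g' x' ∈ (f : X → S) ⁻¹' {g (f' x')} := hxs0
  rw [← Q_iff f (g' x') (g (f' x')) hxs]
  haveI : LocallyOfFiniteType f' := MorphismProperty.of_isPullback hsq inferInstance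
  haveI : LocallyOfFiniteType (f'.fiberToSpecResidueField (f' x')) :=
    MorphismProperty.pullback_snd _ _ inferInstance
  haveI : LocallyOfFiniteType (f.fiberToSpecResidueField (g (f' x'))) :=
    MorphismProperty.pullback_snd _ _ inferInstance
  have hx'mem : x' ∈ (f' : X' → S') ⁻¹' {f' x'} := rfl
  have hL : Q f' x' (f' x') hx'mem ↔ Pi1.IsCompleteIntersection
      ((f'.fiber (f' x')).presheaf.stalk ((f'.fiberHomeo (f' x')).symm ⟨x', hx'mem⟩)) :=
    isCIOver_stalk_iff_isCI (S'.residueField (f' x')) (f'.fiber (f' x'))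
      (f'.fiberToSpecResidueField (f' x')) _
  have hR : Q f (g' x') (g (f' x')) hxs ↔ Pi1.IsCompleteIntersection
      ((f.fiber (g (f' x'))).presheaf.stalk ((f.fiberHomeo (g (f' x'))).symm ⟨g' x', hxs⟩)) :=
    isCIOver_stalk_iff_isCI (S.residueField (g (f' x'))) (f.fiber (g (f' x')))
      (f.fiberToSpecResidueField (g (f' x'))) _
  refine hL.trans (Iff.trans ?_ hR.symm)
  have hpb := isPullback_fiberToSpecResidueField_of_isPullback hsq (f' x')
  have haux := Groth.Agent.S2843.aux (k := S.residueField (g (f' x')))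
    (k' := S'.residueField (f' x')) (f.fiberToSpecResidueField (g (f' x')))
    (Spec.map (g.residueFieldMap (f' x'))) _ (f'.fiberToSpecResidueField (f' x')) hpb
    ((f'.fiberHomeo (f' x')).symm ⟨x', hx'mem⟩)
  refine haux.symm.trans ?_
  -- the two points of the fibre of `f` agree
  have hpt : (pullback.map f' (S'.fromSpecResidueField (f' x')) f
      (S.fromSpecResidueField (g (f' x'))) g' (Spec.map (g.residueFieldMap (f' x'))) g
      hsq.w.symm (by simp)) ((f'.fiberHomeo (f' x')).symm ⟨x', hx'mem⟩) =
      (f.fiberHomeo (g (f' x'))).symm ⟨g' x', hxs⟩ := by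
    apply (f.fiberι (g (f' x'))).isEmbedding.injective
    have h1 : pullback.map f' (S'.fromSpecResidueField (f' x')) f
        (S.fromSpecResidueField (g (f' x'))) g' (Spec.map (g.residueFieldMap (f' x'))) g
        hsq.w.symm (by simp) ≫ f.fiberι (g (f' x')) = f'.fiberι (f' x') ≫ g' :=
      pullback.lift_fst _ _ _
    have h2 := congrArg (fun φ : f'.fiber (f' x') ⟶ X =>
      φ ((f'.fiberHomeo (f' x')).symm ⟨x', hx'mem⟩)) h1
    have h3 : f'.fiberι (f' x') ((f'.fiberHomeo (f' x')).symm ⟨x', hx'mem⟩) = x' :=
      f'.fiberι_fiberHomeo_symm _ ⟨x', hx'mem⟩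
    have h4 : f.fiberι (g (f' x')) ((f.fiberHomeo (g (f' x'))).symm ⟨g' x', hxs⟩) = g' x' :=
      f.fiberι_fiberHomeo_symm _ ⟨g' x', hxs⟩
    refine (h2.trans ?_).trans h4.symm
    exact congrArg (fun z => g' z) h3
  exact isCI_stalk_congr (f.fiber (g (f' x'))) _ _ hpt

theorem main {X S X' S' : Scheme.{u}} (f : X ⟶ S) [LocallyOfFiniteType f] (g : S' ⟶ S)
    (g' : X' ⟶ X) (f' : X' ⟶ S') (hsq : IsPullback g' f' f g) :
    {x' : ↑X' |
        letI := ((Scheme.ΓSpecIso (S'.residueField (f'.base x'))).inv ≫
            (f'.fiberToSpecResidueField (f'.base x')).appLE ⊤ ⊤ le_top ≫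
              (f'.fiber (f'.base x')).presheaf.germ ⊤ (f'.asFiber x') trivial).hom.toAlgebra
        Synt.IsCIOver (S'.residueField (f'.base x')) ((f'.fiber (f'.base x')).presheaf.stalk (f'.asFiber x'))} =
      g'.base ⁻¹' {x : ↑X |
        letI := ((Scheme.ΓSpecIso (S.residueField (f.base x))).inv ≫
            (f.fiberToSpecResidueField (f.base x)).appLE ⊤ ⊤ le_top ≫
              (f.fiber (f.base x)).presheaf.germ ⊤ (f.asFiber x) trivial).hom.toAlgebra
        Synt.IsCIOver (S.residueField (f.base x)) ((f.fiber (f.base x)).presheaf.stalk (f.asFiber x))} := by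
  ext x'
  exact pointwise f g g' f' hsq x'

end

open AlgebraicGeometry CategoryTheory in
/-- For f : X → S locally of finite type, the set of points x at which the local ring of the fibre X_{f
x} is a complete intersection over κ(f x) is compatible with arbitrary base change: in a cartesian
square with base change f' : X' → S', g' : X' → X, the corresponding set for f' is the inverse image
of the one for f. (The published statement adds that, for f flat and locally of finite presentation,
the set of points at which f is syntomic is compatible with base change in the same way; this row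
states only the first assertion.) -/
theorem result {X S X' S' : Scheme.{u}} (f : X ⟶ S) [LocallyOfFiniteType f] (g : S' ⟶ S)
    (g' : X' ⟶ X) (f' : X' ⟶ S') (hsq : IsPullback g' f' f g) :
    {x' : ↑X' |
        letI := ((Scheme.ΓSpecIso (S'.residueField (f'.base x'))).inv ≫
            (f'.fiberToSpecResidueField (f'.base x')).appLE ⊤ ⊤ le_top ≫
              (f'.fiber (f'.base x')).presheaf.germ ⊤ (f'.asFiber x') trivial).hom.toAlgebra
        Synt.IsCIOver (S'.residueField (f'.base x')) ((f'.fiber (f'.base x')).presheaf.stalk (f'.asFiber x'))} =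
      g'.base ⁻¹' {x : ↑X |
        letI := ((Scheme.ΓSpecIso (S.residueField (f.base x))).inv ≫
            (f.fiberToSpecResidueField (f.base x)).appLE ⊤ ⊤ le_top ≫
              (f.fiber (f.base x)).presheaf.germ ⊤ (f.asFiber x) trivial).hom.toAlgebra
        Synt.IsCIOver (S.residueField (f.base x)) ((f.fiber (f.base x)).presheaf.stalk (f.asFiber x))} := by
  exact Groth.Agent.S9379.main f g g' f' hsq

end Groth.Agent.S9379
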