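import Groth.Statements.S0317
import Groth.Agent.Lib.Helper8.Matlis4
import Groth.Agent.S0315

set_option autoImplicit false
universe u v
open Matlis

namespace Groth.Agent.S0317

open IsLocalRing Groth.Agent.Helper8.Matlis


/-- Over a complete Noetherian local ring with E an injective hull of the residue field, the E-dual of
an Artinian module is a finite module and the evaluation map into the double E-dual is bijective. -/
theorem result (R : Type u) [CommRing R] [IsLocalRing R] [IsNoetherianRing R] [IsAdicComplete (IsLocalRing.maximalIdeal R) R] (E : Type u) [AddCommGroup E] [Module R E] (f : IsLocalRing.ResidueField R →ₗ[R] E) (hf : InjHull.IsInjectiveHull f) (M : Type u) [AddCommGroup M] [Module R M] [IsArtinian R M] : Module.Finite R (M →ₗ[R] E) ∧ Function.Bijective (LinearMap.applyₗ : M →ₗ[R] (M →ₗ[R] E) →ₗ[R] E) := by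
  classical
  have hinjE : Module.Injective R E := hf.isInjective
  have hEnd : ∀ ψ : E →ₗ[R] E, ∃ r : R, ∀ x, ψ x = r • x := by
    intro ψ
    obtain ⟨â, hâ⟩ := Groth.Agent.Helper8.Matlis.Φ_surjective hf ψ
    let r : R := (AdicCompletion.ofAlgEquiv (IsLocalRing.maximalIdeal R)).symm â
    have hr : AdicCompletion.of (IsLocalRing.maximalIdeal R) R r = â :=
      AdicCompletion.of_ofAlgEquiv_symm _ â
    refine ⟨r, fun x => ?_⟩
    rw [← hâ, ← hr]
    have h1 : AdicCompletion.of (IsLocalRing.maximalIdeal R) R r =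
        algebraMap R (AdicCompletion (IsLocalRing.maximalIdeal R) R) r := by
      rw [AdicCompletion.algebraMap_apply]
      rfl
    rw [h1, AlgHom.commutes, Module.algebraMap_end_apply]
  -- embed `M` into `E^n`
  obtain ⟨hM, hfin⟩ := (Groth.Agent.S0315.result R M).1 inferInstance
  obtain ⟨n, hn⟩ : ∃ n : ℕ, Module.finrank (R ⧸ maximalIdeal R)
      ↥(LocCoh.torsionBy (maximalIdeal R) M) = n := ⟨_, rfl⟩
  obtain ⟨j, hj⟩ := Groth.Agent.S0310.result R E f hf M hM n hn
  -- the dual map is surjective
  let jd : ((Fin n → E) →ₗ[R] E) →ₗ[R] (M →ₗ[R] E) := LinearMap.lcomp R E j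
  have hjd : Function.Surjective jd := by
    intro φ
    obtain ⟨ψ, hψ⟩ := Module.Injective.extension_property R E _ _ j hj φ
    exact ⟨ψ, hψ⟩
  -- every functional on `E^n` is a combination of the projections
  have hdecomp : ∀ ψ : (Fin n → E) →ₗ[R] E, ∃ r : Fin n → R,
      ψ = ∑ i, r i • (LinearMap.proj i : (Fin n → E) →ₗ[R] E) := by
    intro ψ
    have h := fun i : Fin n => hEnd (ψ ∘ₗ LinearMap.single R (fun _ : Fin n => E) i)
    choose r hr using h
    refine ⟨r, ?_⟩
    refine LinearMap.pi_ext fun i x => ?_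
    rw [LinearMap.sum_apply]
    have h1 := hr i x
    rw [LinearMap.comp_apply, LinearMap.single_apply] at h1
    rw [h1]
    rw [Finset.sum_eq_single i]
    · rw [LinearMap.smul_apply, LinearMap.proj_apply, Pi.single_eq_same]
    · intro b _ hb
      rw [LinearMap.smul_apply, LinearMap.proj_apply, Pi.single_eq_of_ne hb, smul_zero]
    · intro h
      exact absurd (Finset.mem_univ i) h
  constructor
  · -- finiteness
    have hfinP : Module.Finite R ((Fin n → E) →ₗ[R] E) := by
      refine Module.Finite.of_fg_top ?_  -- placeholder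
      refine ⟨Finset.univ.image (fun i : Fin n => (LinearMap.proj i : (Fin n → E) →ₗ[R] E)), ?_⟩
      rw [eq_top_iff]
      intro ψ _
      obtain ⟨r, hr⟩ := hdecomp ψ
      rw [hr]
      apply Submodule.sum_mem
      intro i _
      apply Submodule.smul_mem
      apply Submodule.subset_span
      rw [Finset.coe_image]
      exact ⟨i, Finset.mem_coe.2 (Finset.mem_univ i), rfl⟩
    exact Module.Finite.of_surjective jd hjd
  · refine ⟨applyₗ_injective hf M, ?_⟩
    intro Θ
    -- the point of `E^n`
    let p : Fin n → E := fun i => Θ (jd (LinearMap.proj i))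
    have hp : ∀ ψ : (Fin n → E) →ₗ[R] E, Θ (jd ψ) = ψ p := by
      intro ψ
      obtain ⟨r, hr⟩ := hdecomp ψ
      rw [hr, map_sum, map_sum, LinearMap.sum_apply]
      apply Finset.sum_congr rfl
      intro i _
      rw [map_smul, map_smul, LinearMap.smul_apply, LinearMap.proj_apply]
    have hpmem : p ∈ LinearMap.range j := by
      by_contra hnot
      let W := LinearMap.range j
      have hx : W.mkQ p ≠ 0 := by
        rw [Ne, Submodule.mkQ_apply, Submodule.Quotient.mk_eq_zero]
        exact hnot
      have h1 := applyₗ_injective hf ((Fin n → E) ⧸ W)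
      have h2 : (LinearMap.applyₗ (W.mkQ p) : (((Fin n → E) ⧸ W) →ₗ[R] E) →ₗ[R] E) ≠ 0 := by
        intro h0
        exact hx (h1 (by rw [h0, map_zero]))
      obtain ⟨c, hc⟩ : ∃ c : ((Fin n → E) ⧸ W) →ₗ[R] E, c (W.mkQ p) ≠ 0 := by
        by_contra hno
        push Not at hno
        apply h2
        ext c
        exact hno c
      apply hc
      have h3 := hp (c ∘ₗ W.mkQ)
      rw [LinearMap.comp_apply] at h3
      rw [← h3]
      have h4 : jd (c ∘ₗ W.mkQ) = 0 := by
        ext m
        change c (W.mkQ (j m)) = 0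
        rw [Submodule.mkQ_apply, (Submodule.Quotient.mk_eq_zero W).2 ⟨m, rfl⟩, map_zero]
      rw [h4, map_zero]
    obtain ⟨m, hm⟩ := hpmem
    refine ⟨m, ?_⟩
    ext φ
    obtain ⟨ψ, rfl⟩ := hjd φ
    rw [LinearMap.applyₗ_apply_apply, hp, ← hm]
    rfl

end Groth.Agent.S0317
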