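import Groth.Statements.S0376
import Groth.Agent.Lib.Helper20.MdI
import Groth.Agent.Lib.Helper8.RMod8
import Groth.Agent.Lib.Helper8.DualMod3

set_option autoImplicit false
universe u v
open CategoryTheory
attribute [local instance] HasDerivedCategory.standard
open Dual

namespace Groth.Agent.S0376


theorem result (A : Type u) [CommRing A] [IsLocalRing A] [IsNoetherianRing A] [IsAdicComplete (IsLocalRing.maximalIdeal A) A] : ∃ ω : Dual.D A, Dual.IsDualizing A ω := by
  obtain ⟨Λ, instΛ, instL, n, ψ, -, hreg, hψ⟩ :=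
    Groth.Agent.Helper20.Md.exists_regular_surjective A
  haveI : IsNoetherianRing (MvPowerSeries (Fin n) Λ) := inferInstance
  have hd : Dual.IsDualizing (MvPowerSeries (Fin n) Λ)
      (Dual.inD (MvPowerSeries (Fin n) Λ) (MvPowerSeries (Fin n) Λ)) :=
    Groth.Agent.Helper8.DualMod.isDualizing_inD_self_of_regular (MvPowerSeries (Fin n) Λ)
      (fun p => hreg.isRegularLocalRing_localization p.asIdeal) ringKrullDim_lt_top
  letI : Algebra (MvPowerSeries (Fin n) Λ) A := ψ.toAlgebra
  haveI : Module.Finite (MvPowerSeries (Fin n) Λ) A :=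
    Module.Finite.of_surjective (Algebra.linearMap (MvPowerSeries (Fin n) Λ) A) hψ
  exact Groth.Agent.Helper8.RMod.exists_isDualizing_of_finite _ hd

end Groth.Agent.S0376
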