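import Groth.Statements.S14422
import Groth.Agent.Lib.Helper21.TorNatSym

set_option autoImplicit false
universe u
open CategoryTheory
open CAlg

namespace Groth.Agent.S14422

/-- Long exact sequence for Tor: let A be a ring, M an A-module and 0 → N' → N → N'' → 0 a short exact
sequence of A-modules; write Tor_i(M, ·) for the i-th left derived functor of M ⊗_A ·. Then for
every i the composite Tor_i(M, N') → Tor_i(M, N) → Tor_i(M, N'') is zero and the sequence is exact,
Tor_0(M, N) → Tor_0(M, N'') is surjective, and there is a connecting map δ_i : Tor_{i+1}(M, N'') →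
Tor_i(M, N') such that Tor_{i+1}(M, N) → Tor_{i+1}(M, N'') → Tor_i(M, N') and Tor_{i+1}(M, N'') →
Tor_i(M, N') → Tor_i(M, N) are exact. (Only the existence of connecting maps with these exactness
properties is asserted; the published statement refers to the natural connecting homomorphisms.) -/
theorem result (A : Type u) [CommRing A] (M : ModuleCat.{u} A)
    (S : ShortComplex (ModuleCat.{u} A)) (hS : S.ShortExact) (i : ℕ) :
    (∃ w₀ : ((Tor (ModuleCat.{u} A) i).obj M).map S.f ≫ ((Tor (ModuleCat.{u} A) i).obj M).map S.g = 0,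
        (ShortComplex.mk (((Tor (ModuleCat.{u} A) i).obj M).map S.f) (((Tor (ModuleCat.{u} A) i).obj M).map S.g) w₀).Exact) ∧
      Epi (((Tor (ModuleCat.{u} A) 0).obj M).map S.g) ∧
      ∃ (δ : ((Tor (ModuleCat.{u} A) (i + 1)).obj M).obj S.X₃ ⟶ ((Tor (ModuleCat.{u} A) i).obj M).obj S.X₁)
        (w₁ : ((Tor (ModuleCat.{u} A) (i + 1)).obj M).map S.g ≫ δ = 0)
        (w₂ : δ ≫ ((Tor (ModuleCat.{u} A) i).obj M).map S.f = 0),
        (ShortComplex.mk (((Tor (ModuleCat.{u} A) (i + 1)).obj M).map S.g) δ w₁).Exact ∧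
          (ShortComplex.mk δ (((Tor (ModuleCat.{u} A) i).obj M).map S.f) w₂).Exact := by
  obtain ⟨s⟩ := Groth.Agent.Helper21.TNS.nonempty_sym A i
  obtain ⟨s'⟩ := Groth.Agent.Helper21.TNS.nonempty_sym A (i + 1)
  have hinv : (s.e M S.X₁).inv ≫ ((Tor (ModuleCat.{u} A) i).obj M).map S.f =
      ((Tor (ModuleCat.{u} A) i).map S.f).app M ≫ (s.e M S.X₂).inv := by
    rw [Iso.inv_comp_eq, ← Category.assoc, Iso.eq_comp_inv]
    exact s.natR M S.f
  refine ⟨?_, ?_, ?_⟩
  · have w₀ : ((Tor (ModuleCat.{u} A) i).obj M).map S.f ≫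
        ((Tor (ModuleCat.{u} A) i).obj M).map S.g = 0 := by
      rw [← cancel_mono (s.e M S.X₃).hom, Category.assoc, s.natR M S.g,
        reassoc_of% (s.natR M S.f), Limits.zero_comp,
        Groth.Agent.Helper18.TorLib.tor_map_comp_zero M S i, Limits.comp_zero]
    refine ⟨w₀, ?_⟩
    refine ShortComplex.exact_of_iso ?_ (Groth.Agent.Helper18.TorLib.tor_exact₂ hS M i)
    refine (ShortComplex.isoMk (s.e M S.X₁) (s.e M S.X₂) (s.e M S.X₃) ?_ ?_).symm
    · exact (s.natR M S.f).symm
    · exact (s.natR M S.g).symm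
  · have hepi : Epi (MonoidalCategory.whiskerLeft M S.g) := by
      have := hS.epi_g
      exact (ModuleCat.epi_iff_surjective _).2
        (LinearMap.lTensor_surjective M ((ModuleCat.epi_iff_surjective _).1 this))
    have h := Groth.Agent.Helper21.TNS.tor0Iso_hom_natR M S.g
    have h2 : ((Tor (ModuleCat.{u} A) 0).obj M).map S.g =
        (Groth.Agent.Helper18.TorLib.tor0Iso M S.X₂).hom ≫ (MonoidalCategory.whiskerLeft M S.g) ≫
          (Groth.Agent.Helper18.TorLib.tor0Iso M S.X₃).inv := by
      rw [← reassoc_of% h, Iso.hom_inv_id, Category.comp_id]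
    rw [h2]
    infer_instance
  · refine ⟨(s'.e M S.X₃).hom ≫ Groth.Agent.Helper18.TorLib.torδ hS M i ≫ (s.e M S.X₁).inv,
      ?_, ?_, ?_, ?_⟩
    · rw [reassoc_of% (s'.natR M S.g),
        reassoc_of% (Groth.Agent.Helper18.TorLib.comp_torδ hS M i), Limits.zero_comp, Limits.comp_zero]
    · rw [Category.assoc, Category.assoc, hinv,
        reassoc_of% (Groth.Agent.Helper18.TorLib.torδ_comp hS M i), Limits.zero_comp, Limits.comp_zero]
    · refine ShortComplex.exact_of_iso ?_ (Groth.Agent.Helper18.TorLib.tor_exact₃ hS M i)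
      refine (ShortComplex.isoMk (s'.e M S.X₂) (s'.e M S.X₃) (s.e M S.X₁) ?_ ?_).symm
      · exact (s'.natR M S.g).symm
      · dsimp only
        rw [Category.assoc, Category.assoc, Iso.inv_hom_id, Category.comp_id]
    · refine ShortComplex.exact_of_iso ?_ (Groth.Agent.Helper18.TorLib.tor_exact₁ hS M i)
      refine (ShortComplex.isoMk (s'.e M S.X₃) (s.e M S.X₁) (s.e M S.X₂) ?_ ?_).symm
      · dsimp only
        rw [Category.assoc, Category.assoc, Iso.inv_hom_id, Category.comp_id]
      · exact (s.natR M S.f).symm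

end Groth.Agent.S14422
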