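import Groth.Statements.S0237
import Groth.Agent.Lib.Helper23.FEtDense

set_option autoImplicit false
universe u
open Pi1

namespace Groth.Agent.S0237

open AlgebraicGeometry CategoryTheory in
/-- If a morphism of schemes has dense image, pulling back finite etale covers along it is faithful. -/
theorem result {X Y : Scheme.{u}} (f : X ⟶ Y)
    (h : DenseRange f.base) : (FEt.restrict f).Faithful := by
  refine ⟨fun {A B} a b hab => ?_⟩
  haveI : IsFinite A.hom := A.prop.1
  haveI : Etale A.hom := A.prop.2
  haveI : IsFinite B.hom := B.prop.1
  haveI : Etale B.hom := B.prop.2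
  have key := Groth.Agent.Helper23.FEtDense.eq_of_pullback_fst_comp_eq f h A.toComma B.toComma
    a.hom b.hom ?_
  · ext
    exact congrArg CommaMorphism.left key
  · have := congrArg (fun φ => φ.left ≫ CategoryTheory.Limits.pullback.fst B.hom f) hab
    simp only [FEt.restrict, MorphismProperty.Over.pullback, MorphismProperty.Over.homMk_hom,
      Over.homMk_left] at this
    rw [CategoryTheory.Limits.pullback.lift_fst, CategoryTheory.Limits.pullback.lift_fst] at this
    exact this

end Groth.Agent.S0237
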