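import Groth.Statements.S0283
import Groth.Agent.S0237
import Groth.Agent.Lib.Helper23.FEtFull

set_option autoImplicit false
universe u
open Pi1

namespace Groth.Agent.S0283

open AlgebraicGeometry CategoryTheory CategoryTheory.Limits in
/-- Let f : X → Y be a morphism of schemes which is integral, universally injective and surjective (that
is, a universal homeomorphism). Then base change along f, from finite étale covers of Y to finite
étale covers of X, is a full and faithful functor. -/
theorem result {X Y : Scheme.{u}} (f : X ⟶ Y) [IsIntegralHom f] [UniversallyInjective f] [Surjective f] :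
    (FEt.restrict f).Full ∧ (FEt.restrict f).Faithful := by
  refine ⟨⟨fun {A B} φ => ?_⟩, Groth.Agent.S0237.result f (Scheme.Hom.surjective f).denseRange⟩
  haveI : IsFinite A.hom := A.prop.1
  haveI : Etale A.hom := A.prop.2
  haveI : IsFinite B.hom := B.prop.1
  haveI : Etale B.hom := B.prop.2
  have hφ : φ.left ≫ pullback.snd B.hom f = pullback.snd A.hom f := Over.w φ.hom
  obtain ⟨ψ, hψ1, hψ2⟩ := Groth.Agent.Helper23.FEtFull.exists_descent f A.hom B.hom φ.left hφ
  refine ⟨MorphismProperty.Over.homMk ψ hψ1, ?_⟩
  ext
  simp only [FEt.restrict, MorphismProperty.Over.pullback, MorphismProperty.Over.homMk_hom,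
    Over.homMk_left]
  apply pullback.hom_ext
  · rw [pullback.lift_fst]
    exact hψ2
  · rw [pullback.lift_snd]
    exact hφ.symm

end Groth.Agent.S0283
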