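import Groth.Statements.S2004
import Groth.Agent.Lib.Helper3.BL

set_option autoImplicit false
universe u
open TensorProduct
open EtAlg

namespace Groth.Agent.S2004

/-- Let R -> R' induce bijections R/f^n R -> R'/f^n R' for all n > 0. Then (R -> R', f) is a glueing
pair if and only if R -> R' maps the f-power torsion of R bijectively onto the f-power torsion of R'
(stated as: injective on f-power torsion elements, and every f-power torsion element of R' is the
image of one of R). -/
theorem result (R R' : Type u) [CommRing R] [CommRing R'] [Algebra R R'] (f : R)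
    (hq : EtGlue.QuotPowBijective R R' f) :
    EtGlue.IsGlueingPair R R' f ↔
      ((∀ x : R, (∃ n : ℕ, f ^ n * x = 0) → algebraMap R R' x = 0 → x = 0) ∧
       (∀ x' : R', (∃ n : ℕ, algebraMap R R' f ^ n * x' = 0) →
          ∃ x : R, (∃ n : ℕ, f ^ n * x = 0) ∧ algebraMap R R' x = x')) := by
  classical
  set φ := algebraMap R R' with hφ
  set ψ := Localization.awayMap (algebraMap R R') f with hψdef
  have hψ : ∀ a : R, ψ (algebraMap R (Localization.Away f) a) =
      algebraMap R' (Localization.Away (φ f)) (φ a) := fun a => by
    rw [hψdef, Localization.awayMap, IsLocalization.Away.map, IsLocalization.map_eq]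
  have hu : ∀ n : ℕ, IsUnit (algebraMap R (Localization.Away f) f ^ n) := fun n =>
    IsLocalization.Away.algebraMap_pow_isUnit f n
  have hu' : ∀ n : ℕ, IsUnit (algebraMap R' (Localization.Away (φ f)) (φ f) ^ n) := fun n =>
    IsLocalization.Away.algebraMap_pow_isUnit (φ f) n
  have htors : ∀ x : R, (∃ n : ℕ, f ^ n * x = 0) → algebraMap R (Localization.Away f) x = 0 := by
    rintro x ⟨n, hn⟩
    have := congrArg (algebraMap R (Localization.Away f)) hn
    rw [map_mul, map_zero, map_pow] at this
    exact (hu n).mul_right_eq_zero.1 this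
  constructor
  · rintro ⟨-, hinj, hmid, -⟩
    constructor
    · intro x hx hx0
      have h1 : (fun r : R => (algebraMap R R' r, algebraMap R (Localization.Away f) r)) x =
          (fun r : R => (algebraMap R R' r, algebraMap R (Localization.Away f) r)) 0 := by
        simp only [map_zero]
        rw [hx0, htors x hx]
      exact hinj h1
    · rintro x' ⟨n, hn⟩
      have h0 : algebraMap R' (Localization.Away (φ f)) x' = 0 := by
        have := congrArg (algebraMap R' (Localization.Away (φ f))) hn
        rw [map_mul, map_zero, map_pow] at this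
        exact (hu' n).mul_right_eq_zero.1 this
      obtain ⟨r, hr1, hr2⟩ := hmid x' 0 (by rw [h0, map_zero])
      obtain ⟨k, hk⟩ := IsLocalization.Away.exists_of_eq f (hr2.trans (map_zero _).symm)
      exact ⟨r, ⟨k, by rw [hk, mul_zero]⟩, hr1⟩
  · rintro ⟨htinj, htsurj⟩
    refine ⟨hq, ?_, ?_, ?_⟩
    · intro r s hrs
      simp only [Prod.mk.injEq] at hrs
      obtain ⟨h1, h2⟩ := hrs
      obtain ⟨k, hk⟩ := IsLocalization.Away.exists_of_eq f h2
      have : r - s = 0 := htinj (r - s) ⟨k, by rw [mul_sub, hk, sub_self]⟩
        (by rw [map_sub, h1, sub_self])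
      exact sub_eq_zero.1 this
    · intro x y hxy
      obtain ⟨n, a, hya⟩ := IsLocalization.Away.surj f y
      -- apply ψ
      have h1 : algebraMap R' (Localization.Away (φ f)) (φ f ^ n * x) =
          algebraMap R' (Localization.Away (φ f)) (φ a) := by
        have hxy' : algebraMap R' (Localization.Away (φ f)) x = ψ y := hxy
        have hya' := congrArg ψ hya
        rw [map_mul, map_pow, hψ f, hψ a] at hya'
        rw [map_mul, map_pow, hxy', mul_comm]
        exact hya'
      obtain ⟨k, hk⟩ := IsLocalization.Away.exists_of_eq (φ f) h1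
      have h2 : φ (f ^ k * a) = φ f ^ (n + k) * x := by
        rw [map_mul, map_pow, ← hk, pow_add]; ring
      obtain ⟨b, hb⟩ := Groth.Agent.Helper3.BL.q_inj hq (n + k) (f ^ k * a) x h2
      have h3 : φ f ^ (n + k) * (x - φ b) = 0 := by
        rw [mul_sub, ← h2, hb, map_mul, map_pow, sub_self]
      obtain ⟨τ, hτ, hτx⟩ := htsurj (x - φ b) ⟨n + k, h3⟩
      refine ⟨b + τ, by rw [map_add, hτx]; ring, ?_⟩
      rw [map_add, htors τ hτ, add_zero]
      -- y = b/1
      have h4 : algebraMap R (Localization.Away f) f ^ (n + k) *
          (algebraMap R (Localization.Away f) b - y) = 0 := by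
        have := congrArg (algebraMap R (Localization.Away f)) hb
        rw [map_mul, map_mul, map_pow, map_pow] at this
        linear_combination (-1 : Localization.Away f) * this -
          algebraMap R (Localization.Away f) f ^ k * hya
      exact sub_eq_zero.1 ((hu (n + k)).mul_right_eq_zero.1 h4)
    · intro z
      obtain ⟨n, x, hzx⟩ := IsLocalization.Away.surj (φ f) z
      obtain ⟨a, s', hx⟩ := Groth.Agent.Helper3.BL.q_surj hq n x
      obtain ⟨v, hv⟩ := (hu n).exists_left_inv
      refine ⟨s', -(v * algebraMap R (Localization.Away f) a), ?_⟩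
      have h5 : algebraMap R' (Localization.Away (φ f)) (φ f) ^ n *
          (algebraMap R' (Localization.Away (φ f)) s' -
            ψ (-(v * algebraMap R (Localization.Away f) a)) - z) = 0 := by
        have hv' : algebraMap R' (Localization.Away (φ f)) (φ f) ^ n * ψ v = 1 := by
          rw [← hψ f, ← map_pow, ← map_mul, mul_comm, hv, map_one]
        rw [map_neg, map_mul, hψ a, mul_sub, mul_sub, mul_comm _ z, hzx, hx, map_add, map_mul,
          map_pow, mul_neg, ← mul_assoc, hv']
        ring
      exact sub_eq_zero.1 ((hu' n).mul_right_eq_zero.1 h5)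

end Groth.Agent.S2004
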