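import Groth.Statements.S9762
import Groth.Agent.S1354
import Groth.Agent.Lib.Helper15.QfSplitA

set_option autoImplicit false
universe u
open FlatMor

namespace Groth.Agent.S9762

open AlgebraicGeometry CategoryTheory Limits in
/-- For f : X ⟶ S separated and locally of finite type, and a point s of S such that only finitely many
points of the fibre over s are isolated, some elementary étale neighbourhood (U, u) of (S, s) admits
an open and closed V ⊆ U ×_S X, finite over U, such that no point of the fibre over u lying outside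
V is isolated in that fibre. The published statement also asserts that the complement of V has empty
fibre over u when the fibre over s is finite; this row omits that clause. -/
theorem result {X S : Scheme.{u}} (f : X ⟶ S) [LocallyOfFiniteType f] [IsSeparated f] (s : S)
    (hfin : {x : ↑(f.fiber s) | IsOpen ({x} : Set ↑(f.fiber s))}.Finite) :
    ∃ (U : Scheme.{u}) (g : U ⟶ S) (u : U), Hens2.IsEtaleNbhd g u s ∧
      ∃ V : (pullback f g).Opens, IsClopen (V : Set ↑(pullback f g)) ∧ IsFinite (V.ι ≫ pullback.snd f g) ∧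
        ∀ w : ↑((pullback.snd f g).fiber u), (pullback.snd f g).fiberι u w ∉ V →
          ¬ IsOpen ({w} : Set ↑((pullback.snd f g).fiber u)) := by
  classical
  let F := hfin.toFinset
  let n := F.card
  let e : F ≃ Fin n := F.equivFin
  let x : Fin n → X := fun i => f.fiberι s (e.symm i).1
  have hs : ∀ i, f (x i) = s := fun i => by
    have : x i ∈ Set.range (f.fiberι s) := ⟨_, rfl⟩
    rw [Scheme.Hom.range_fiberι] at this
    exact this
  have hx : ∀ i, f.QuasiFiniteAt (x i) := fun i =>
    Groth.Agent.Helper15.UoLim.isOpen_singleton_asFiber_of (hs i) (e.symm i).1 rfl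
      ((hfin.mem_toFinset).1 (e.symm i).2)
  obtain ⟨U, g, u, hnb, V, v, hV⟩ := Groth.Agent.S1354.result f s x hs hx
  haveI := hnb.etale
  let Vt : (Limits.pullback f g).Opens := Finset.univ.sup V
  haveI hVtfin : IsFinite (Vt.ι ≫ Limits.pullback.snd f g) :=
    Groth.Agent.Helper15.QfSplitA.isFinite_finset_sup' _ _ _ (fun i _ => (hV i).2.1)
  refine ⟨U, g, u, hnb, Vt,
    ⟨Groth.Agent.Helper15.Wt.isClosed_of_isFinite (Limits.pullback.snd f g) Vt, Vt.2⟩, hVtfin, ?_⟩
  intro w hw hopen
  apply hw
  obtain ⟨p, hp⟩ : ∃ p, p = (Limits.pullback.snd f g).fiberι u w := ⟨_, rfl⟩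
  rw [← hp]
  have hpu : Limits.pullback.snd f g p = u := by
    have : p ∈ Set.range ((Limits.pullback.snd f g).fiberι u) := ⟨_, hp.symm⟩
    rw [Scheme.Hom.range_fiberι] at this
    exact this
  have hqf : (Limits.pullback.snd f g).QuasiFiniteAt p :=
    Groth.Agent.Helper15.UoLim.isOpen_singleton_asFiber_of hpu w hp.symm hopen
  have hqf' : f.QuasiFiniteAt (Limits.pullback.fst f g p) :=
    Groth.Agent.Helper15.UoLim.quasiFiniteAt_desc (IsPullback.of_hasPullback f g) p hqf
  have hgu : g u = s := hnb.base_eq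
  have hfp : f (Limits.pullback.fst f g p) = s := by
    rw [← Scheme.Hom.comp_apply, Limits.pullback.condition, Scheme.Hom.comp_apply, hpu, hgu]
  obtain ⟨z, hz⟩ : Limits.pullback.fst f g p ∈ Set.range (f.fiberι s) := by
    rw [Scheme.Hom.range_fiberι]; exact hfp
  have hzo : IsOpen ({z} : Set (f.fiber s)) :=
    Groth.Agent.Helper15.QfSplitA.isOpen_singleton_of_quasiFiniteAt f hfp z hz hqf'
  have hzF : z ∈ F := hfin.mem_toFinset.2 hzo
  have hxi : x (e ⟨z, hzF⟩) = Limits.pullback.fst f g p := by
    change f.fiberι s (e.symm (e ⟨z, hzF⟩)).1 = _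
    rw [Equiv.symm_apply_apply]
    exact hz
  obtain ⟨hviV, -, hvu, -, hvx, -⟩ := hV (e ⟨z, hzF⟩)
  have hpv : p = v (e ⟨z, hzF⟩) :=
    Groth.Agent.Helper15.QfSplitA.eq_of_fst_eq_of_snd_eq f g p (v (e ⟨z, hzF⟩))
      (by rw [hvx, hxi]) (by rw [hpu, hvu]) (by rw [hvu]; exact hnb.residue_bijective)
  rw [hpv]
  exact (Finset.le_sup (Finset.mem_univ (e ⟨z, hzF⟩)) : V (e ⟨z, hzF⟩) ≤ Vt) hviV

end Groth.Agent.S9762
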