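import Groth.Statements.S4933
import Mathlib
import Groth.Agent.Lib.Helper14.UOpenAtDim
-- import your own Groth.Agent.* helpers here

set_option autoImplicit false
open CategoryTheory AlgebraicGeometry
universe u v w
open EGA43

namespace Groth.Agent.S4933

/-- Let f : X ⟶ Y be a morphism locally of finite type, x a point of X which is a maximal point of its
fibre X_y, y = f x. Consider: a) f is universally open at x; b) for every irreducible component Y₀
of Y containing y, with generic point η, there is an irreducible component Z of X containing x and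
dominating Y₀ such that dim_x(X_y) = dim_x(Z ∩ X_y) = dim(Z ∩ X_η); b') for every open neighbourhood
U of x and every generization y' of y one has dim(U ∩ X_{y'}) ≥ dim_x(X_y). Then a) implies b'), and
b') implies b). (Subsets of X carry the induced topology; dim_x(U ∩ X_y) = dim_x(X_y). The published
statement asserts moreover that b) implies b'); that implication can fail, because a generization y'
of y need not lie under any point of U ∩ Z: for the finite birational morphism from the affine plane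
onto the surface obtained from it by identifying two rational points p and q, at x = p condition b)
holds with all dimensions equal to 0, while for U the complement of a line L through q avoiding p
and y' the image of the generic point of L the set U ∩ X_{y'} is empty. So only a) ⇒ b') and b') ⇒
b) are stated here.) -/
theorem result {X Y : Scheme.{u}} (f : X ⟶ Y) [LocallyOfFiniteType f]
    (x : X) (hmax : ∀ x' : X, f.base x' = f.base x → x ∈ closure {x'} → x' = x) :
    (EGA43.IsUnivOpenAt f x → (∀ U : X.Opens, x ∈ U → ∀ y' : Y, y' ⤳ f.base x →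
        FlatMor.fibreDimAt f x ≤ topologicalKrullDim ↥((U : Set X) ∩ f.base ⁻¹' {y'}))) ∧
    ((∀ U : X.Opens, x ∈ U → ∀ y' : Y, y' ⤳ f.base x →
        FlatMor.fibreDimAt f x ≤ topologicalKrullDim ↥((U : Set X) ∩ f.base ⁻¹' {y'})) →
      (∀ Y₀ ∈ irreducibleComponents (Y : Type u), f.base x ∈ Y₀ →
        ∃ Z ∈ irreducibleComponents (X : Type u), ∃ hx : x ∈ Z, closure (f.base '' Z) = Y₀ ∧
          ∀ η : Y, closure ({η} : Set Y) = Y₀ →
            FlatMor.fibreDimAt f x = FlatMor.localDim ↥(Z ∩ f.base ⁻¹' {f.base x}) ⟨x, ⟨hx, rfl⟩⟩ ∧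
            FlatMor.localDim ↥(Z ∩ f.base ⁻¹' {f.base x}) ⟨x, ⟨hx, rfl⟩⟩ =
              topologicalKrullDim ↥(Z ∩ f.base ⁻¹' {η}))) := by
  obtain ⟨n, hn⟩ := Groth.Agent.Helper14.ResFieldBridge.exists_nat_trdeg_residueField f x
  have hmax' : ∀ x₁ : X, f x₁ = f x → x₁ ⤳ x → x₁ = x :=
    fun x₁ h1 h2 => hmax x₁ h1 (specializes_iff_mem_closure.mp h2)
  have hfd : FlatMor.fibreDimAt f x = (n : WithBot ℕ∞) :=
    Groth.Agent.Helper14.FibreMax.fibreDimAt_eq_of_maximal f x hmax' n hn
  refine ⟨?_, ?_⟩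
  · -- a) ⇒ b')
    intro hUO U hxU y' hy'
    rw [hfd]
    obtain ⟨A, hAd, hAv, a, hac, hab⟩ :=
      Groth.Agent.Helper11.HTopV.exists_valuationRing_of_specializes hy'
    let p : Limits.pullback f a ⟶ X := Limits.pullback.fst f a
    let f₁ : Limits.pullback f a ⟶ Spec A := Limits.pullback.snd f a
    have hsq : IsPullback p f₁ f a := IsPullback.of_hasPullback f a
    haveI : LocallyOfFiniteType f₁ := MorphismProperty.pullback_snd _ _ inferInstance
    obtain ⟨x₁, hx₁p, hx₁c, hx₁t⟩ :=
      Groth.Agent.Helper14.PtTrdegEq.exists_point_trdeg_eq hsq x (IsLocalRing.closedPoint A) hac.symm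
    have hopen : EGA43.IsOpenAt f₁.base x₁ := hUO (Spec A) a x₁ hx₁p
    have hx₁pre : x₁ ∈ ((p ⁻¹ᵁ U : (Limits.pullback f a).Opens) : Set ↥(Limits.pullback f a)) := by
      show p x₁ ∈ U
      rw [hx₁p]; exact hxU
    obtain ⟨_, ⟨(U₁ : (Limits.pullback f a).Opens), hU₁ : IsAffineOpen U₁, rfl⟩, hx₁U₁, hU₁sub⟩ :=
      (Limits.pullback f a).isBasis_affineOpens.exists_subset_of_mem_open hx₁pre (p ⁻¹ᵁ U).2
    let h : (U₁ : Scheme.{u}) ⟶ Spec A := U₁.ι ≫ f₁
    haveI : CompactSpace ↥(U₁ : Scheme.{u}) := isCompact_iff_compactSpace.mp hU₁.isCompact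
    haveI : QuasiCompact h := inferInstance
    haveI : LocallyOfFiniteType h := inferInstance
    let x₁' : ↥(U₁ : Scheme.{u}) := ⟨x₁, hx₁U₁⟩
    have hbotspec : ∀ t : Spec A, Groth.Agent.Helper11.HTopV.botPt A ⤳ t := by
      intro t
      rw [← PrimeSpectrum.le_iff_specializes]
      exact bot_le
    have hcl : x₁' ∈ closure (h ⁻¹' {Groth.Agent.Helper11.HTopV.botPt A}) := by
      rw [mem_closure_iff]
      intro O hO hxO
      have h1 : U₁.ι '' O ∈ nhds x₁ :=
        (U₁.ι.isOpenEmbedding.isOpenMap O hO).mem_nhds ⟨x₁', hxO, rfl⟩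
      have h2 := hopen _ h1
      obtain ⟨W, hWsub, hWo, hWx⟩ := mem_nhds_iff.mp h2
      have hbot : Groth.Agent.Helper11.HTopV.botPt A ∈ W := (hbotspec _).mem_open hWo hWx
      obtain ⟨_, ⟨w, hwO, rfl⟩, hw⟩ := hWsub hbot
      exact ⟨w, hwO, hw⟩
    obtain ⟨a₁, -, ha₁η, ha₁x⟩ := Groth.Agent.Helper14.UOpenFam.exists_specializes_of_mem_closure h
      (Groth.Agent.Helper11.HTopV.botPt A) _ (subset_refl _) x₁' hcl
    have t1 := Groth.Agent.Helper14.ValRingFibre.trdeg_le_of_specializes_Spec (A := A) h a₁ x₁' ha₁x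
    rw [Groth.Agent.Helper14.EquidimAt.trdeg_opens f₁ U₁ x₁',
      Groth.Agent.Helper14.EquidimAt.trdeg_opens f₁ U₁ a₁] at t1
    have t2 := (Groth.Agent.Helper14.FibreBC.trdeg_of_isPullback hsq (U₁.ι a₁)).1
    have t0 := Groth.Agent.Helper14.FibreBC.trdeg_point_congr f hx₁p
    have hx₁eq : (U₁.ι x₁' : ↥(Limits.pullback f a)) = x₁ := rfl
    rw [hx₁eq, hx₁t, t0, hn] at t1
    obtain ⟨m, hm⟩ := Groth.Agent.Helper14.ResFieldBridge.exists_nat_trdeg_residueField f (p (U₁.ι a₁))
    rw [hm] at t2
    have hnm : n ≤ m := by exact_mod_cast t1.trans t2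
    have hzU : p (U₁.ι a₁) ∈ U := hU₁sub a₁.2
    have hfz : f (p (U₁.ι a₁)) = y' := by
      rw [← Scheme.Hom.comp_apply, hsq.w, Scheme.Hom.comp_apply]
      have : f₁ (U₁.ι a₁) = Groth.Agent.Helper11.HTopV.botPt A := ha₁η
      rw [this, hab]
    have hfin := Groth.Agent.Helper14.UOpenAtDim.le_dim_open_of_trdeg f U (p (U₁.ι a₁)) hzU m hm
    rw [hfz] at hfin
    refine le_trans ?_ hfin
    exact_mod_cast hnm
  · -- b') ⇒ b)
    intro hb' Y₀ hY₀ hyY₀
    have hY₀cl : IsClosed Y₀ := isClosed_of_mem_irreducibleComponents Y₀ hY₀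
    obtain ⟨η₀, hη₀⟩ := QuasiSober.sober hY₀.1 hY₀cl
    have hη₀y : η₀ ⤳ f x := hη₀.specializes hyY₀
    have hη₀max : ∀ w : Y, w ⤳ η₀ → w = η₀ := by
      intro w hw
      have h1 : Y₀ ⊆ closure {w} := by
        rw [← hη₀.def]
        exact specializes_iff_closure_subset.mp hw
      have h2 : closure {w} ⊆ Y₀ := hY₀.2 isIrreducible_singleton.closure h1
      have h3 : η₀ ⤳ w := hη₀.specializes (h2 (subset_closure rfl))
      exact (h3.antisymm hw).eq.symm
    obtain ⟨ζ, hfζ, hζx, hζmax, e, he, hne⟩ :=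
      Groth.Agent.Helper14.UOpenAtDim.exists_maximal_specializes_trdeg_ge f x η₀ n
        (fun U hxU => by rw [← hfd]; exact hb' U hxU η₀ hη₀y)
    subst hfζ
    have hζmaxX : ∀ w : X, w ⤳ ζ → w = ζ := by
      intro w hw
      have h1 : f w ⤳ f ζ := hw.map f.continuous
      exact hζmax w (hη₀max _ h1) hw
    have hζgen : closure {ζ} ∈ irreducibleComponents (X : Type u) :=
      Groth.Agent.Helper14.UOpenAtDim.mem_genericPoints_of_maximal ζ hζmaxX
    have hxZ : x ∈ closure {ζ} := specializes_iff_mem_closure.mp hζx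
    refine ⟨closure {ζ}, hζgen, hxZ, ?_, ?_⟩
    · rw [← hη₀.def]
      apply Set.Subset.antisymm
      · apply closure_minimal _ isClosed_closure
        refine (image_closure_subset_closure_image f.continuous).trans ?_
        rw [Set.image_singleton]
      · apply closure_mono
        rw [Set.singleton_subset_iff]
        exact ⟨ζ, subset_closure rfl, rfl⟩
    · intro η hη
      have hηeq : η = f ζ := IsGenericPoint.eq hη hη₀
      subst hηeq
      let T : TopologicalSpace.Closeds X := ⟨closure {ζ}, isClosed_closure⟩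
      obtain ⟨z, n', hzT, hzx, hfz, -, hn', hloc⟩ :=
        Groth.Agent.Helper14.ClosedFibreDim.exists_maximal_trdeg_eq_localDim f T x ⟨hxZ, rfl⟩
      have hzx' := hmax' z hfz hzx
      subst hzx'
      have hnn' : n' = n := by
        have : (n' : Cardinal.{u}) = n := hn'.symm.trans hn
        exact_mod_cast this
      subst hnn'
      have hle : (e : WithBot ℕ∞) ≤ (n' : WithBot ℕ∞) := by
        rw [← hloc]
        exact Groth.Agent.Helper14.ClosedFibreDim.trdeg_le_localDim f T z ⟨hxZ, rfl⟩ ζ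
          (subset_closure rfl) hζx e he
      have hen : e = n' := le_antisymm (by exact_mod_cast hle) hne
      subst hen
      refine ⟨hfd.trans hloc.symm, hloc.trans ?_⟩
      rw [Groth.Agent.Helper14.ClosedFibreDim.closure_inter_fibre_eq f ζ,
        Groth.Agent.Helper14.SectionComp.topDim_image _ (f.fiberι (f ζ)).isEmbedding,
        Groth.Agent.Helper14.EquidimAt.topDim_closure_asFiber f ζ e he]

end Groth.Agent.S4933
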