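import Groth.Statements.S4945
import Mathlib
import Groth.Agent.Lib.Helper14.ChevQS2
import Groth.Agent.S4934
-- import your own Groth.Agent.* helpers here

set_option autoImplicit false
open CategoryTheory AlgebraicGeometry
universe u v w
open EGA43

namespace Groth.Agent.S4945

/-- Let Y be an irreducible locally Noetherian scheme with generic point η, f : X ⟶ Y a morphism locally
of finite type and y a geometrically unibranch point of Y. The following are equivalent: a) f is
universally open at every point of X_y; b) f is open at every point of X_y; c) for every maximal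
point z of X_y there is an irreducible component Z of X containing z and dominating Y with dim_z(Z ∩
X_y) = dim(Z ∩ X_η); d) for every point x closed in X_y there are an irreducible reduced scheme T
and an immersion T ⟶ X with image containing x such that T ⟶ Y is quasi-finite and dominant. -/
theorem result {X Y : Scheme.{u}} [IrreducibleSpace Y]
    [IsLocallyNoetherian Y] (f : X ⟶ Y) [LocallyOfFiniteType f] (y : Y) (hy : CAlg2.IsGeomUnibranch (Y.presheaf.stalk y)) :
    List.TFAE [∀ x : X, f.base x = y → EGA43.IsUnivOpenAt f x,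
      ∀ x : X, f.base x = y → EGA43.IsOpenAt f.base x,
      ∀ z : X, ∀ hzy : f.base z = y, (∀ z' : X, f.base z' = y → z ∈ closure {z'} → z' = z) →
        ∃ Z ∈ irreducibleComponents (X : Type u), ∃ hz : z ∈ Z, Dense (f.base '' Z) ∧
          FlatMor.localDim ↥(Z ∩ f.base ⁻¹' {y}) ⟨z, ⟨hz, hzy⟩⟩ = topologicalKrullDim ↥(Z ∩ f.base ⁻¹' {genericPoint Y}),
      ∀ x : X, f.base x = y → (∀ x' : X, f.base x' = y → x ⤳ x' → x' = x) →
        ∃ (T : Scheme.{u}) (i : T ⟶ X), IsImmersion i ∧ IrreducibleSpace ↥T ∧ IsReduced T ∧ x ∈ Set.range i.base ∧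
        LocallyOfFiniteType (i ≫ f) ∧ LocallyQuasiFinite (i ≫ f) ∧ QuasiCompact (i ≫ f) ∧ IsDominant (i ≫ f)] := by
  haveI : IsLocallyNoetherian X := LocallyOfFiniteType.isLocallyNoetherian f
  have huniv : (Set.univ : Set Y) ∈ irreducibleComponents (Y : Type u) := by
    rw [irreducibleComponents_eq_singleton]
    rfl
  have hgmax : ∀ η' : Y, η' ⤳ genericPoint Y → η' = genericPoint Y :=
    fun η' hη' => (hη'.antisymm (genericPoint_specializes _)).eq
  tfae_have 1 → 2 := fun h x hx => Groth.Agent.Helper14.ChevOpen.isOpenAt_of_isUnivOpenAt f x (h x hx)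
  tfae_have 2 → 1 := by
    intro h x hx
    apply Groth.Agent.Helper14.ChevOpen.isUnivOpenAt_of_isOpenAt f x (hx ▸ hy)
    intro z _ hfz
    exact h z (hfz.trans hx)
  tfae_have 1 → 3 := by
    intro h z hzy hzmax
    subst hzy
    have hb0 := ((Groth.Agent.S4934.result f z hzmax hy).out 0 1 rfl rfl).mp (h z rfl)
    obtain ⟨Z, hZ, hzZ, hcl, hdim⟩ := hb0 Set.univ huniv trivial
    refine ⟨Z, hZ, hzZ, ?_, hdim (genericPoint Y) (genericPoint_spec Y).def⟩
    rw [dense_iff_closure_eq]
    exact hcl
  tfae_have 3 → 1 := by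
    intro h x hx
    obtain ⟨z, n, hzx, hfz, hzmax, hn, hfd⟩ :=
      Groth.Agent.Helper14.EquidimAt.exists_maximal_trdeg_eq_fibreDimAt f x
    refine Groth.Agent.Helper14.ChevComp.isUnivOpenAt_of_specializes f x z hzx hfz ?_
    have hfzy : f.base z = y := hfz.trans hx
    subst hfzy
    obtain ⟨Z, hZ, hzZ, hdense, hdim⟩ := h z rfl
      (fun z' h1 h2 => hzmax z' h1 (specializes_iff_mem_closure.mpr h2))
    exact Groth.Agent.Helper14.ChevOpen.isUnivOpenAt_of_component f z hzmax hy Z hZ hzZ
      (genericPoint Y) hgmax (genericPoint_specializes _)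
      (by rw [hdense.closure_eq, (genericPoint_spec Y).def]) hdim
  tfae_have 1 → 4 := by
    intro h x hx hxcl
    subst hx
    obtain ⟨z, n, hzx, hfz, hzmax, hn, hfd⟩ :=
      Groth.Agent.Helper14.EquidimAt.exists_maximal_trdeg_eq_fibreDimAt f x
    have hzU := h z hfz
    have hmaxz : ∀ x' : X, f.base x' = f.base z → z ∈ closure {x'} → x' = z :=
      fun x' h1 h2 => hzmax x' h1 (specializes_iff_mem_closure.mpr h2)
    have hyz : CAlg2.IsGeomUnibranch (Y.presheaf.stalk (f.base z)) := by rw [hfz]; exact hy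
    have hb0 := ((Groth.Agent.S4934.result f z hmaxz hyz).out 0 1 rfl rfl).mp hzU
    obtain ⟨Z, hZ, hzZ, hcl, hdim⟩ := hb0 Set.univ huniv trivial
    have hZcl : IsClosed Z := isClosed_of_mem_irreducibleComponents _ hZ
    have hxZ : x ∈ Z := hzx.mem_closed hZcl hzZ
    have h1 := Groth.Agent.Helper14.ChevOpen.localDim_inter_of_maximal f Z hZcl z hzZ hzmax n hn
    have h2 := Groth.Agent.Helper14.ChevOpen.localDim_inter_of_specializes f Z hZcl x z hzZ hxZ
      hzx n hn hfd
    have h3 := hdim (genericPoint Y) (genericPoint_spec Y).def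
    rw [h1] at h3
    exact Groth.Agent.Helper14.ChevQS.exists_quasiSection_of_component f x hxcl Z hZ hxZ
      (dense_iff_closure_eq.mpr hcl) n h2 h3.symm
  tfae_have 4 → 2 := by
    intro h x hx
    apply Groth.Agent.Helper14.ChevQS.isOpenAt_of_closedPoints f y _ x hx
    intro x₁ hx₁ hx₁cl
    obtain ⟨T, i, hi, hirr, hred, ⟨t, ht⟩, h1, h2, h3, h4⟩ := h x₁ hx₁ hx₁cl
    haveI := hirr
    haveI := h1
    haveI := h2
    haveI := h4
    have h5 := Groth.Agent.Helper14.ChevQS.isOpenAt_of_quasiSection f i t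
      (by rw [ht, hx₁]; exact hy)
    rwa [ht] at h5
  tfae_finish

end Groth.Agent.S4945
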