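import Groth.Statements.S14100
import Mathlib
-- import your own Groth.Agent.* helpers here

set_option autoImplicit false
universe w v u
open DCoh

namespace Groth.Agent.S14100


open CategoryTheory Limits DerivedCategory Pretriangulated Triangulated

section
variable {C : Type u} [Category.{v} C] [Abelian C] [HasDerivedCategory.{w} C]


lemma eq_zero_of_heart (m : ℤ) {X Y : DerivedCategory C} [X.IsGE m] [X.IsLE m] [Y.IsGE m]
    [Y.IsLE m] (f : X ⟶ Y) (hf : (homologyFunctor C m).map f = 0) : f = 0 := by
  obtain ⟨A, ⟨e₁⟩⟩ := exists_iso_singleFunctor_obj_of_isGE_of_isLE X m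
  obtain ⟨B, ⟨e₂⟩⟩ := exists_iso_singleFunctor_obj_of_isGE_of_isLE Y m
  obtain ⟨g, hg⟩ := (singleFunctor C m).map_surjective (e₁.inv ≫ f ≫ e₂.hom)
  have hg0 : g = 0 := by
    have eq₁ := NatIso.naturality_1 (singleFunctorCompHomologyFunctorIso C m) g
    dsimp at eq₁
    rw [← eq₁, hg, Functor.map_comp, Functor.map_comp, hf]
    simp
  have : e₁.inv ≫ f ≫ e₂.hom = 0 := by rw [← hg, hg0, Functor.map_zero]
  rw [← cancel_epi e₁.inv, ← cancel_mono e₂.hom]
  simpa using this

lemma homology_truncLT_map_eq_zero (m : ℤ) {X Y : DerivedCategory C} (f : X ⟶ Y) (q : ℤ)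
    (hf : (homologyFunctor C q).map f = 0) :
    (homologyFunctor C q).map (((DerivedCategory.TStructure.t (C := C)).truncLT m).map f) = 0 := by
  by_cases hq : q < m
  · have hmono : Mono ((homologyFunctor C q).map (((DerivedCategory.TStructure.t (C := C)).truncLTι m).app Y)) := by
      apply (HomologySequence.mono_homologyMap_mor₁_iff _
        ((DerivedCategory.TStructure.t (C := C)).triangleLTGE_distinguished m Y) (q - 1) q (by lia)).2
      apply IsZero.eq_of_src
      exact isZero_of_isGE (((DerivedCategory.TStructure.t (C := C)).truncGE m).obj Y) m (q - 1) (by lia)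
    rw [← cancel_mono ((homologyFunctor C q).map (((DerivedCategory.TStructure.t (C := C)).truncLTι m).app Y)), zero_comp,
      ← Functor.map_comp]
    have : ((DerivedCategory.TStructure.t (C := C)).truncLT m).map f ≫ ((DerivedCategory.TStructure.t (C := C)).truncLTι m).app Y = ((DerivedCategory.TStructure.t (C := C)).truncLTι m).app X ≫ f :=
      ((DerivedCategory.TStructure.t (C := C)).truncLTι m).naturality f
    rw [this, Functor.map_comp, hf, comp_zero]
  · apply IsZero.eq_of_tgt
    exact isZero_of_isLE (((DerivedCategory.TStructure.t (C := C)).truncLT m).obj Y) (m - 1) q (by lia)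

lemma homology_truncGE_map_eq_zero (m : ℤ) {X Y : DerivedCategory C} (f : X ⟶ Y) (q : ℤ)
    (hf : (homologyFunctor C q).map f = 0) :
    (homologyFunctor C q).map (((DerivedCategory.TStructure.t (C := C)).truncGE m).map f) = 0 := by
  by_cases hq : m ≤ q
  · have hepi : Epi ((homologyFunctor C q).map (((DerivedCategory.TStructure.t (C := C)).truncGEπ m).app X)) := by
      apply (HomologySequence.epi_homologyMap_mor₂_iff _
        ((DerivedCategory.TStructure.t (C := C)).triangleLTGE_distinguished m X) q (q + 1) rfl).2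
      apply IsZero.eq_of_tgt
      exact isZero_of_isLE (((DerivedCategory.TStructure.t (C := C)).truncLT m).obj X) (m - 1) (q + 1) (by lia)
    rw [← cancel_epi ((homologyFunctor C q).map (((DerivedCategory.TStructure.t (C := C)).truncGEπ m).app X)), comp_zero,
      ← Functor.map_comp, (DerivedCategory.TStructure.t (C := C)).truncGEπ_naturality, Functor.map_comp, hf, zero_comp]
  · apply IsZero.eq_of_src
    exact isZero_of_isGE (((DerivedCategory.TStructure.t (C := C)).truncGE m).obj X) m q (by lia)

/-- The successor functor on `ℕ`. -/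
def succF : ℕ ⥤ ℕ := Monotone.functor (f := Nat.succ) (fun _ _ h => Nat.succ_le_succ h)

theorem main (n : ℕ) : ∀ (a : ℤ) (K : ℕ ⥤ DerivedCategory C)
    (_ : ∀ i : ℕ, i ≤ n + 1 → (K.obj i).IsGE a)
    (_ : ∀ i : ℕ, i ≤ n + 1 → (K.obj i).IsLE (a + n))
    (_ : ∀ i : ℕ, i ≤ n → ∀ q : ℤ,
      (DerivedCategory.homologyFunctor C q).map (K.map (homOfLE (Nat.le_succ i))) = 0),
    K.map (homOfLE (Nat.zero_le (n + 1))) = 0 := by
  induction n with
  | zero =>
    intro a K hGE hLE hzero
    have := hGE 0 (by lia)
    have := hGE 1 (by lia)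
    have h0 := hLE 0 (by lia)
    have h1 := hLE 1 (by lia)
    simp only [Nat.cast_zero, add_zero] at h0 h1
    exact eq_zero_of_heart a _ (hzero 0 le_rfl a)
  | succ n ih =>
    intro a K hGE hLE hzero
    have hm : a + ((n + 1 : ℕ) : ℤ) = a + n + 1 := by push_cast; ring
    have hLE' : ∀ i, i ≤ n + 2 → (K.obj i).IsLE (a + n + 1) := fun i hi => hm ▸ hLE i hi
    let K' : ℕ ⥤ DerivedCategory C := succF ⋙ K ⋙ (DerivedCategory.TStructure.t (C := C)).truncLT (a + n + 1)
    have ih' := ih a K' (fun i hi => by
        have := hGE (i + 1) (by lia)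
        change TStructure.IsGE (DerivedCategory.TStructure.t (C := C)) (((DerivedCategory.TStructure.t (C := C)).truncLT (a + n + 1)).obj (K.obj (i + 1))) a
        infer_instance) (fun i hi => by
        change TStructure.IsLE (DerivedCategory.TStructure.t (C := C)) (((DerivedCategory.TStructure.t (C := C)).truncLT (a + n + 1)).obj (K.obj (i + 1))) (a + n)
        infer_instance) (fun i hi q => by
        change (homologyFunctor C q).map (((DerivedCategory.TStructure.t (C := C)).truncLT (a + n + 1)).map
          (K.map (succF.map (homOfLE (Nat.le_succ i))))) = 0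
        apply homology_truncLT_map_eq_zero
        have : succF.map (homOfLE (Nat.le_succ i)) = homOfLE (Nat.le_succ (i + 1)) :=
          Subsingleton.elim _ _
        rw [this]
        exact hzero (i + 1) (by lia) q)
    have ih'' : ((DerivedCategory.TStructure.t (C := C)).truncLT (a + n + 1)).map (K.map (homOfLE (by lia : 1 ≤ n + 1 + 1))) = 0 := by
      have : succF.map (homOfLE (Nat.zero_le (n + 1))) = homOfLE (by lia : 1 ≤ n + 1 + 1) :=
        Subsingleton.elim _ _
      rw [← this]
      exact ih'
    have hsplit : K.map (homOfLE (Nat.zero_le (n + 1 + 1))) =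
        K.map (homOfLE (Nat.le_succ 0)) ≫ K.map (homOfLE (by lia : 1 ≤ n + 1 + 1)) := by
      rw [← K.map_comp]
      congr 1
    have := hGE 0 (by lia)
    have := hGE 1 (by lia)
    have := hLE' 0 (by lia)
    have := hLE' 1 (by lia)
    have hτ : ((DerivedCategory.TStructure.t (C := C)).truncGE (a + n + 1)).map (K.map (homOfLE (Nat.le_succ 0))) = 0 := by
      apply eq_zero_of_heart (a + n + 1)
      apply homology_truncGE_map_eq_zero
      exact hzero 0 (by lia) _
    have hcomp : K.map (homOfLE (Nat.le_succ 0)) ≫ ((DerivedCategory.TStructure.t (C := C)).truncGEπ (a + n + 1)).app (K.obj 1) = 0 := by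
      rw [← (DerivedCategory.TStructure.t (C := C)).truncGEπ_naturality, hτ, comp_zero]
    obtain ⟨g, hg⟩ : ∃ g : K.obj 0 ⟶ ((DerivedCategory.TStructure.t (C := C)).truncLT (a + n + 1)).obj (K.obj 1),
        K.map (homOfLE (Nat.le_succ 0)) =
          g ≫ ((DerivedCategory.TStructure.t (C := C)).truncLTι (a + n + 1)).app (K.obj 1) :=
      Triangle.coyoneda_exact₂ _
      ((DerivedCategory.TStructure.t (C := C)).triangleLTGE_distinguished (a + n + 1) (K.obj 1)) (K.map (homOfLE (Nat.le_succ 0))) hcomp
    have hnat : ((DerivedCategory.TStructure.t (C := C)).truncLTι (a + n + 1)).app (K.obj 1) ≫ K.map (homOfLE (by lia : 1 ≤ n + 1 + 1))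
        = ((DerivedCategory.TStructure.t (C := C)).truncLT (a + n + 1)).map (K.map (homOfLE (by lia : 1 ≤ n + 1 + 1))) ≫
          ((DerivedCategory.TStructure.t (C := C)).truncLTι (a + n + 1)).app (K.obj (n + 1 + 1)) :=
      (((DerivedCategory.TStructure.t (C := C)).truncLTι (a + n + 1)).naturality _).symm
    rw [hsplit, hg, Category.assoc, hnat, ih'', zero_comp, comp_zero]

end

open CategoryTheory in
/-- Let C be an abelian category, a an integer and n a natural number, and let K_0 → K_1 → ⋯ → K_{n+1}
be composable morphisms in the derived category of C such that each K_i has cohomology concentrated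
in degrees a, …, a+n and each map K_i → K_{i+1} induces zero on every cohomology object. Then the
composite K_0 → K_{n+1} is zero. (The chain is given as a functor from the ordered set of natural
numbers; only its values on 0, …, n+1 matter.) -/
theorem result
    (C : Type u) [Category.{v} C] [Abelian C] [HasDerivedCategory.{w} C]
    (a : ℤ) (n : ℕ) (K : ℕ ⥤ DerivedCategory C)
    (hGE : ∀ i : ℕ, i ≤ n + 1 → (K.obj i).IsGE a)
    (hLE : ∀ i : ℕ, i ≤ n + 1 → (K.obj i).IsLE (a + n))
    (hzero : ∀ i : ℕ, i ≤ n → ∀ q : ℤ,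
      (DerivedCategory.homologyFunctor C q).map (K.map (homOfLE (Nat.le_succ i))) = 0) :
    K.map (homOfLE (Nat.zero_le (n + 1))) = 0 := by
  exact main n a K hGE hLE hzero

end Groth.Agent.S14100
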