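import Groth.Statements.S7132
import Groth.Agent.Lib.Helper5.DVRExt2

set_option autoImplicit false
set_option linter.style.haveILetI false
universe u
open EtAlg

namespace Groth.Agent.S7132

/-- For an injective local homomorphism A → B of discrete valuation rings whose fraction fields K ⊆ L
form a finite extension, the residue field of B is finite over that of A, and the ramification index
e times the residue degree f is at most [L : K]. -/
theorem result (A B K L : Type u) [CommRing A] [IsDomain A]
    [IsDiscreteValuationRing A] [CommRing B] [IsDomain B] [IsDiscreteValuationRing B] [Algebra A B]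
    (hinj : Function.Injective (algebraMap A B)) [IsLocalHom (algebraMap A B)]
    [Field K] [Field L] [Algebra A K] [IsFractionRing A K] [Algebra B L] [IsFractionRing B L]
    [Algebra K L] [Algebra A L] [IsScalarTower A K L] [IsScalarTower A B L] [FiniteDimensional K L] :
    Module.Finite (IsLocalRing.ResidueField A) (IsLocalRing.ResidueField B) ∧
      Ideal.ramificationIdx' (IsLocalRing.maximalIdeal A) (IsLocalRing.maximalIdeal B) *
          Module.finrank (IsLocalRing.ResidueField A) (IsLocalRing.ResidueField B) ≤
        Module.finrank K L := by
  classical
  obtain ⟨πA, hA⟩ := IsDiscreteValuationRing.exists_irreducible A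
  obtain ⟨πB, hB⟩ := IsDiscreteValuationRing.exists_irreducible B
  obtain ⟨e, u, he1, he⟩ := Groth.Agent.Helper5.DVRExt.exists_ram hinj hA hB
  rw [Groth.Agent.Helper5.DVRExt.ramificationIdx'_eq hA hB he]
  -- the bound for finite independent families
  have hbound : ∀ (r : ℕ) (x : Fin r → IsLocalRing.ResidueField B),
      LinearIndependent (IsLocalRing.ResidueField A) x → e * r ≤ Module.finrank K L := by
    intro r x hx
    have hlift : ∀ i, ∃ b : B, IsLocalRing.residue B b = x i :=
      fun i => IsLocalRing.residue_surjective (x i)
    choose b hb using hlift
    have hx' : LinearIndependent (IsLocalRing.ResidueField A)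
        (fun i => IsLocalRing.residue B (b i)) := by
      have : (fun i => IsLocalRing.residue B (b i)) = x := funext hb
      rw [this]
      exact hx
    exact Groth.Agent.Helper5.DVRExt.mul_le_finrank hinj hA hB he b hx'
  have hfin : Module.Finite (IsLocalRing.ResidueField A) (IsLocalRing.ResidueField B) := by
    rw [← Module.rank_lt_aleph0_iff]
    refine lt_of_le_of_lt (rank_le (n := Module.finrank K L) ?_) (Cardinal.natCast_lt_aleph0)
    intro s hs
    have h1 := hbound s.card (fun i => ((s.equivFin.symm i : ↥s) : IsLocalRing.ResidueField B))
      (hs.comp _ s.equivFin.symm.injective)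
    calc s.card = 1 * s.card := (one_mul _).symm
      _ ≤ e * s.card := Nat.mul_le_mul_right _ he1
      _ ≤ Module.finrank K L := h1
  refine ⟨hfin, ?_⟩
  haveI := hfin
  have hbasis := Module.finBasis (IsLocalRing.ResidueField A) (IsLocalRing.ResidueField B)
  exact hbound _ _ hbasis.linearIndependent

end Groth.Agent.S7132
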