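import Groth.Statements.S6895
import Mathlib
import Groth.Agent.Lib.Helper10.FittingE

set_option autoImplicit false
universe u
open Fitt

namespace Groth.Agent.S6895

section helpers
open Groth.Agent.Lib.Helper10.Fitting
open Matrix Finset

variable {R : Type*} [CommRing R] {M : Type*} [AddCommGroup M] [Module R M]

lemma map_ne_top (p : Ideal R) [p.IsPrime] (f : R) (hf : f ∉ p) :
    p.map (algebraMap R (Localization.Away f)) ≠ ⊤ := by
  rw [IsLocalization.map_algebraMap_ne_top_iff_disjoint (Submonoid.powers f)]
  rw [Set.disjoint_left]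
  rintro _ ⟨m, rfl⟩ hm
  exact hf (Ideal.IsPrime.mem_of_pow_mem inferInstance m hm)

lemma away_nontrivial (p : Ideal R) [p.IsPrime] (f : R) (hf : f ∉ p) :
    Nontrivial (Localization.Away f) := by
  have h2 := map_ne_top p f hf
  by_contra hcon
  rw [not_nontrivial_iff_subsingleton] at hcon
  exact h2 (Subsingleton.elim _ _)

lemma forward [Module.Finite R M] (r : ℕ)
    (h : ∀ (p : Ideal R) [p.IsPrime], ∃ f : R, f ∉ p ∧
      Module.Free (Localization.Away f) (LocalizedModule (Submonoid.powers f) M) ∧
        Module.finrank (Localization.Away f) (LocalizedModule (Submonoid.powers f) M) = r) :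
    ((∀ k, k < r → Fitt.ideal R M k = ⊥) ∧ (∀ k, r ≤ k → Fitt.ideal R M k = ⊤)) := by
  constructor
  · intro k hk
    rw [eq_bot_iff]
    intro d hd
    rw [Ideal.mem_bot]
    by_contra hd0
    let I : Ideal R := LinearMap.ker (LinearMap.toSpanSingleton R R d)
    have hI : I ≠ ⊤ := by
      intro hI
      have : (1 : R) ∈ I := by rw [hI]; trivial
      rw [LinearMap.mem_ker, LinearMap.toSpanSingleton_apply, one_smul] at this
      exact hd0 this
    obtain ⟨p, hpmax, hIp⟩ := Ideal.exists_le_maximal I hI
    have := hpmax.isPrime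
    obtain ⟨f, hf, hfree, hrank⟩ := h p
    have := away_nontrivial p f hf
    have b := Module.finBasisOfFinrankEq (Localization.Away f)
      (LocalizedModule (Submonoid.powers f) M) hrank
    have h1 := (fitt_of_basis b k).1 hk
    rw [fitt_isBaseChange (Localization.Away f) (LocalizedModule.mkLinearMap (Submonoid.powers f) M)
      (IsLocalizedModule.isBaseChange (Submonoid.powers f) _ _)] at h1
    have h2 : algebraMap R (Localization.Away f) d = 0 := by
      have := Ideal.mem_map_of_mem (algebraMap R (Localization.Away f)) hd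
      rwa [h1, Ideal.mem_bot] at this
    rw [IsLocalization.map_eq_zero_iff (Submonoid.powers f)] at h2
    obtain ⟨⟨_, m, rfl⟩, hm⟩ := h2
    have h3 : f ^ m ∈ I := by
      rw [LinearMap.mem_ker, LinearMap.toSpanSingleton_apply, smul_eq_mul]
      exact hm
    exact hf (hpmax.isPrime.mem_of_pow_mem m (hIp h3))
  · intro k hk
    by_contra hne
    obtain ⟨p, hpmax, hIp⟩ := Ideal.exists_le_maximal _ hne
    have := hpmax.isPrime
    obtain ⟨f, hf, hfree, hrank⟩ := h p
    have := away_nontrivial p f hf
    have b := Module.finBasisOfFinrankEq (Localization.Away f)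
      (LocalizedModule (Submonoid.powers f) M) hrank
    have h1 := (fitt_of_basis b k).2 hk
    rw [fitt_isBaseChange (Localization.Away f) (LocalizedModule.mkLinearMap (Submonoid.powers f) M)
      (IsLocalizedModule.isBaseChange (Submonoid.powers f) _ _)] at h1
    apply map_ne_top p f hf
    rw [eq_top_iff, ← h1]
    exact Ideal.map_mono hIp

lemma backward [Module.Finite R M] (r : ℕ)
    (h : (∀ k, k < r → Fitt.ideal R M k = ⊥) ∧ (∀ k, r ≤ k → Fitt.ideal R M k = ⊤)) :
    ∀ (p : Ideal R) [p.IsPrime], ∃ f : R, f ∉ p ∧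
      Module.Free (Localization.Away f) (LocalizedModule (Submonoid.powers f) M) ∧
        Module.finrank (Localization.Away f) (LocalizedModule (Submonoid.powers f) M) = r := by
  intro p hp
  obtain ⟨n, x, hx⟩ := Module.Finite.exists_fin (R := R) (M := M)
  have hnle : ¬ Fitt.ideal R M r ≤ p := by
    rw [h.2 r le_rfl]
    intro hle
    exact hp.ne_top (top_le_iff.1 hle)
  obtain ⟨a, hrel, hdet⟩ := exists_det_notMem x hx r p hnle
  refine ⟨a.det, hdet, ?_⟩
  have hbc := IsLocalizedModule.isBaseChange (Submonoid.powers a.det) (Localization.Away a.det)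
    (LocalizedModule.mkLinearMap (Submonoid.powers a.det) M)
  obtain ⟨g, hg⟩ := exists_span_of_isUnit_det r
    (LocalizedModule.mkLinearMap (Submonoid.powers a.det) M ∘ x)
    (span_comp_of_isBaseChange _ _ hbc x hx)
    ((algebraMap R (Localization.Away a.det)).mapMatrix a)
    (fun i hi => isRel_comp_of_isRel (Localization.Away a.det) _ x (a i) (hrel i hi))
    (by rw [← RingHom.map_det]; exact IsLocalization.Away.algebraMap_isUnit a.det)
  have hfit : ∀ k, k < r → Fitt.ideal (Localization.Away a.det)
      (LocalizedModule (Submonoid.powers a.det) M) k = ⊥ := by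
    intro k hk
    rw [fitt_isBaseChange (Localization.Away a.det) _ hbc, h.1 k hk, Ideal.map_bot]
  have hli := linearIndependent_of_fitt_eq_bot g hg hfit
  have := away_nontrivial p a.det hdet
  let b : Module.Basis (Fin r) (Localization.Away a.det)
      (LocalizedModule (Submonoid.powers a.det) M) := Module.Basis.mk hli hg.ge
  refine ⟨Module.Free.of_basis b, ?_⟩
  rw [Module.finrank_eq_card_basis b, Fintype.card_fin]

theorem main [Module.Finite R M] (r : ℕ) :
    (∀ (p : Ideal R) [p.IsPrime], ∃ f : R, f ∉ p ∧
      Module.Free (Localization.Away f) (LocalizedModule (Submonoid.powers f) M) ∧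
        Module.finrank (Localization.Away f) (LocalizedModule (Submonoid.powers f) M) = r) ↔
    ((∀ k, k < r → Fitt.ideal R M k = ⊥) ∧ (∀ k, r ≤ k → Fitt.ideal R M k = ⊤)) :=
  ⟨forward r, backward r⟩

end helpers

/-- (1) ⇔ (3): let `M` be a finite `R`-module and `r ≥ 0`. Then `M` is finite locally free of rank `r`
(every prime has a basic open neighbourhood `D(f)` with `M_f` free of rank `r` over `R_f`) if and
only if `Fit_k(M) = 0` for `k < r` and `Fit_k(M) = R` for `k ≥ r`. -/
theorem result {R : Type u} [CommRing R] (M : Type u) [AddCommGroup M] [Module R M]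
    [Module.Finite R M] (r : ℕ) :
    (∀ (p : Ideal R) [p.IsPrime], ∃ f : R, f ∉ p ∧
      Module.Free (Localization.Away f) (LocalizedModule (Submonoid.powers f) M) ∧
        Module.finrank (Localization.Away f) (LocalizedModule (Submonoid.powers f) M) = r) ↔
    ((∀ k, k < r → Fitt.ideal R M k = ⊥) ∧ (∀ k, r ≤ k → Fitt.ideal R M k = ⊤)) := by
  exact main r

end Groth.Agent.S6895
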