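import Groth.Statements.S14864
import Mathlib

set_option autoImplicit false
universe u
open CAlg

namespace Groth.Agent.S14864

open WittVector in
private lemma vmulv (p : ℕ) [Fact p.Prime] (R : Type u) [CommRing R] (a b : WittVector p R) :
    verschiebung a * verschiebung b = (p : WittVector p R) * verschiebung (a * b) := by
  rw [← verschiebung_mul_frobenius, frobenius_verschiebung, ← mul_assoc, mul_comm (a * b) (p : WittVector p R),
    ← nsmul_eq_mul, ← nsmul_eq_mul, map_nsmul]

open WittVector in
private lemma I_sq_le (p : ℕ) [Fact p.Prime] (R : Type u) [CommRing R] :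
    (RingHom.ker (WittVector.constantCoeff : WittVector p R →+* R)) *
      (RingHom.ker (WittVector.constantCoeff : WittVector p R →+* R)) ≤
    Ideal.span {(p : WittVector p R)} *
      (RingHom.ker (WittVector.constantCoeff : WittVector p R →+* R)) := by
  rw [Ideal.mul_le]
  intro a ha b hb
  have ha0 : a.coeff 0 = 0 := ha
  have hb0 : b.coeff 0 = 0 := hb
  have ha' : a = verschiebung (a.shift 1) := by
    simpa using eq_iterate_verschiebung (x := a) (n := 1) (by simpa using ha0)
  have hb' : b = verschiebung (b.shift 1) := by
    simpa using eq_iterate_verschiebung (x := b) (n := 1) (by simpa using hb0)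
  rw [ha', hb', vmulv]
  refine Ideal.mul_mem_mul (Ideal.mem_span_singleton_self _) ?_
  rw [RingHom.mem_ker]
  exact verschiebung_coeff_zero (a.shift 1 * b.shift 1)

open WittVector in
private lemma step (p : ℕ) [Fact p.Prime] (R : Type u) [CommRing R] (N : ℕ) (hN : (p : R)^N = 0)
    (n : ℕ) (y : WittVector p R) (h : ∀ i < n, y.coeff i = 0) :
    ∀ i < n + 1, (y * (p : WittVector p R)^N).coeff i = 0 := by
  have hy : y = verschiebung^[n] (y.shift n) := eq_iterate_verschiebung h
  have hF : frobenius^[n] ((p : WittVector p R)^N) = (p : WittVector p R)^N := by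
    apply Function.iterate_fixed
    rw [map_pow, map_natCast]
  intro i hi
  rw [hy, iterate_verschiebung_mul_left, hF]
  rcases Nat.lt_succ_iff_lt_or_eq.mp hi with h1 | h1
  · exact iterate_verschiebung_coeff_eq_zero _ h1
  · subst h1
    have := iterate_verschiebung_coeff (y.shift i * (p : WittVector p R)^N) i 0
    rw [zero_add] at this
    rw [this]
    show WittVector.constantCoeff (y.shift i * (p : WittVector p R)^N) = 0
    rw [map_mul, map_pow, map_natCast, hN, mul_zero]


/-- Let p be a prime and R a commutative ring in which p is nilpotent; write W = W(R) for the p-typical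
Witt vectors, I ⊆ W for the kernel of the projection onto the zeroth component, and I_n ⊆ W for the
kernel of the truncation W → W_n(R). The p-adic topology on W equals its I-adic topology — every
power of the ideal pW contains some power of I and every power of I contains some power of pW — and
this common topology is finer than the V-adic one: every I_n contains some power of pW. -/
theorem result (p : ℕ) [Fact p.Prime] (R : Type u) [CommRing R]
    (hp : IsNilpotent (p : R)) :
    (∀ n : ℕ, ∃ m : ℕ, (RingHom.ker (WittVector.constantCoeff : WittVector p R →+* R)) ^ m ≤ Ideal.span {(p : WittVector p R)} ^ n) ∧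
      (∀ n : ℕ, ∃ m : ℕ, Ideal.span {(p : WittVector p R)} ^ m ≤ (RingHom.ker (WittVector.constantCoeff : WittVector p R →+* R)) ^ n) ∧
        ∀ n : ℕ, ∃ m : ℕ, Ideal.span {(p : WittVector p R)} ^ m ≤ RingHom.ker (WittVector.truncate (p := p) (R := R) n) := by
  obtain ⟨N, hN⟩ := hp
  refine ⟨?_, ?_, ?_⟩
  · intro n
    refine ⟨n + 1, ?_⟩
    have key : ∀ n : ℕ, (RingHom.ker (WittVector.constantCoeff : WittVector p R →+* R)) ^ (n + 1) ≤
        Ideal.span {(p : WittVector p R)} ^ n *
          (RingHom.ker (WittVector.constantCoeff : WittVector p R →+* R)) := by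
      intro n
      induction n with
      | zero => simp
      | succ n ih =>
        rw [pow_succ]
        refine (Ideal.mul_mono_left ih).trans ?_
        rw [mul_assoc]
        refine (Ideal.mul_mono_right (I_sq_le p R)).trans ?_
        rw [← mul_assoc, ← pow_succ]
    exact (key n).trans Ideal.mul_le_left
  · intro n
    refine ⟨N * n, ?_⟩
    rw [pow_mul]
    apply Ideal.pow_right_mono
    rw [Ideal.span_singleton_pow, Ideal.span_singleton_le_iff_mem, RingHom.mem_ker, map_pow,
      map_natCast, hN]
  · intro n
    refine ⟨N * n, ?_⟩
    rw [Ideal.span_singleton_pow, Ideal.span_singleton_le_iff_mem, WittVector.mem_ker_truncate]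
    induction n with
    | zero => intro i hi; exact absurd hi (Nat.not_lt_zero _)
    | succ n ih =>
      rw [Nat.mul_succ, pow_add]
      exact step p R N hN n _ ih

end Groth.Agent.S14864
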