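import Groth.Statements.S1990
import Mathlib
import Groth.Agent.Lib.Helper26.Tame3

set_option autoImplicit false
universe u
open EtAlg

namespace Groth.Agent.S1990

/-- Let K be the fraction field of a discrete valuation ring A, and K ⊂ L ⊂ M finite separable
extensions. If L/K is tamely ramified (resp. unramified) with respect to A and M/L is tamely
ramified (resp. unramified) with respect to every valuation subring of L dominating A, then M/K is
tamely ramified (resp. unramified) with respect to A. -/
theorem result (A K : Type u) [CommRing A] [IsDomain A] [IsDiscreteValuationRing A] [Field K] [Algebra A K] [IsFractionRing A K] (L M : Type u) [Field L] [Field M]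
    [Algebra K L] [Algebra K M] [Algebra L M] [IsScalarTower K L M] [FiniteDimensional K M] [Algebra.IsSeparable K M] :
    (EtRam.IsTamelyRamified A ((algebraMap K L).comp (algebraMap A K)) →
      (∀ (V : ValuationSubring L), EtRam.Dominates A ((algebraMap K L).comp (algebraMap A K)) V →
        EtRam.IsTamelyRamified V ((algebraMap L M).comp V.subtype)) →
      EtRam.IsTamelyRamified A ((algebraMap K M).comp (algebraMap A K))) ∧
    (EtRam.IsUnramifiedExt A ((algebraMap K L).comp (algebraMap A K)) →
      (∀ (V : ValuationSubring L), EtRam.Dominates A ((algebraMap K L).comp (algebraMap A K)) V →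
        EtRam.IsUnramifiedExt V ((algebraMap L M).comp V.subtype)) →
      EtRam.IsUnramifiedExt A ((algebraMap K M).comp (algebraMap A K))) := by
  let _ : Algebra A L := ((algebraMap K L).comp (algebraMap A K)).toAlgebra
  let _ : Algebra A M := ((algebraMap K M).comp (algebraMap A K)).toAlgebra
  have _ : IsScalarTower A K L := IsScalarTower.of_algebraMap_eq (fun _ => rfl)
  have _ : IsScalarTower A K M := IsScalarTower.of_algebraMap_eq (fun _ => rfl)
  have _ : IsScalarTower A L M := IsScalarTower.of_algebraMap_eq (fun a => by
    change algebraMap K M (algebraMap A K a) = algebraMap L M (algebraMap K L (algebraMap A K a))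
    rw [← IsScalarTower.algebraMap_apply K L M])
  exact ⟨Groth.Agent.Lib.Helper26.Tame3.tame_comp A K L M,
    Groth.Agent.Lib.Helper26.Tame3.unram_comp A K L M⟩

end Groth.Agent.S1990
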