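import Groth.Statements.S14805
import Mathlib
import Groth.Agent.Lib.Helper22.LatIdx

set_option autoImplicit false
open Finset
open CompLat

namespace Groth.Agent.S14805

/-- Let n ≥ 1 and let D, D' : ℤⁿ → ℤⁿ be given by diagonal matrices with nonzero diagonal entries (rank
n), A : ℤⁿ → ℤⁿ an integer matrix of rank n - 1, S : ℤⁿ → ℤ the sum of the coordinates and Δ : ℤ →
ℤⁿ the diagonal embedding; assume S D A = 0 and A D' Δ = 0, and let d > 0 with dℤ = im(S D), i.e. d
is the greatest common divisor of the diagonal entries of D. Then #(ker(S D)/im A) · |det D| = d ·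
#(ker S/im(D A)). -/
theorem result (n : ℕ) (hn : 0 < n) (δ δ' : Fin n → ℤ) (hδ : ∀ i, δ i ≠ 0) (hδ' : ∀ i, δ' i ≠ 0)
    (A : Matrix (Fin n) (Fin n) ℤ) (hA : A.rank = n - 1)
    (hSDA : (∑ i : Fin n, (LinearMap.proj i : (Fin n → ℤ) →ₗ[ℤ] ℤ)) ∘ₗ
        (Matrix.mulVecLin (Matrix.diagonal δ)) ∘ₗ (Matrix.mulVecLin A) = 0)
    (hADΔ : (Matrix.mulVecLin A) ∘ₗ (Matrix.mulVecLin (Matrix.diagonal δ')) ∘ₗ
        (LinearMap.pi fun _ : Fin n => (LinearMap.id : ℤ →ₗ[ℤ] ℤ)) = 0) :
    (Nat.card (LinearMap.ker ((∑ i : Fin n, (LinearMap.proj i : (Fin n → ℤ) →ₗ[ℤ] ℤ)) ∘ₗ (Matrix.mulVecLin (Matrix.diagonal δ))) ⧸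
          (LinearMap.range (Matrix.mulVecLin A)).comap (LinearMap.ker ((∑ i : Fin n, (LinearMap.proj i : (Fin n → ℤ) →ₗ[ℤ] ℤ)) ∘ₗ (Matrix.mulVecLin (Matrix.diagonal δ)))).subtype) : ℤ) * |∏ i, δ i| =
      (univ.gcd δ) * Nat.card (LinearMap.ker (∑ i : Fin n, (LinearMap.proj i : (Fin n → ℤ) →ₗ[ℤ] ℤ)) ⧸ (LinearMap.range ((Matrix.mulVecLin (Matrix.diagonal δ)) ∘ₗ (Matrix.mulVecLin A))).comap (LinearMap.ker (∑ i : Fin n, (LinearMap.proj i : (Fin n → ℤ) →ₗ[ℤ] ℤ))).subtype) := by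
  classical
  set Dl := Matrix.mulVecLin (Matrix.diagonal δ) with hDl
  set Sl : (Fin n → ℤ) →ₗ[ℤ] ℤ := ∑ i : Fin n, (LinearMap.proj i : (Fin n → ℤ) →ₗ[ℤ] ℤ) with hSl
  set Al := Matrix.mulVecLin A with hAl
  have hSl_apply : ∀ y, Sl y = ∑ i, y i := by
    intro y; simp [hSl, LinearMap.sum_apply]
  have hDl_apply : ∀ y i, Dl y i = δ i * y i := by
    intro y i; simp [hDl, Matrix.mulVec_diagonal]
  have hDinj : Function.Injective Dl := by
    intro x y hxy
    funext i
    have := congrFun hxy i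
    rw [hDl_apply, hDl_apply] at this
    exact mul_left_cancel₀ (hδ i) this
  have hD : Function.Injective Dl.toAddMonoidHom := hDinj
  have hS : Function.Surjective Sl.toAddMonoidHom := by
    intro c
    refine ⟨Pi.single ⟨0, hn⟩ c, ?_⟩
    show Sl _ = c
    rw [hSl_apply, Finset.sum_pi_single']
    simp
  have hB : (LinearMap.range Al).toAddSubgroup ≤
      (Sl.toAddMonoidHom.comp Dl.toAddMonoidHom).ker := by
    rintro _ ⟨y, rfl⟩
    exact LinearMap.congr_fun hSDA y
  have hkey := Groth.Agent.Helper22.LatIdx.key Dl.toAddMonoidHom hD Sl.toAddMonoidHom hS _ hB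
  have e1 : Nat.card (LinearMap.ker (Sl ∘ₗ Dl) ⧸
      (LinearMap.range Al).comap (LinearMap.ker (Sl ∘ₗ Dl)).subtype) =
      (LinearMap.range Al).toAddSubgroup.relIndex
        (Sl.toAddMonoidHom.comp Dl.toAddMonoidHom).ker := rfl
  have e2 : Nat.card (LinearMap.ker Sl ⧸
      (LinearMap.range (Dl ∘ₗ Al)).comap (LinearMap.ker Sl).subtype) =
      ((LinearMap.range Al).toAddSubgroup.map Dl.toAddMonoidHom).relIndex
        Sl.toAddMonoidHom.ker := by
    have h : (LinearMap.range (Dl ∘ₗ Al)).toAddSubgroup =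
        (LinearMap.range Al).toAddSubgroup.map Dl.toAddMonoidHom := by
      ext x
      simp only [Submodule.mem_toAddSubgroup, LinearMap.mem_range, AddSubgroup.mem_map,
        LinearMap.comp_apply, LinearMap.toAddMonoidHom_coe]
      constructor
      · rintro ⟨y, rfl⟩
        exact ⟨Al y, ⟨y, rfl⟩, rfl⟩
      · rintro ⟨_, ⟨y, rfl⟩, rfl⟩
        exact ⟨y, rfl⟩
    rw [← h]
    rfl
  have e3 : Dl.toAddMonoidHom.range.index = (∏ i, δ i).natAbs := by
    have h1 := Submodule.natAbs_det_equiv (LinearMap.range Dl) (LinearEquiv.ofInjective Dl hDinj)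
    have h2 : (LinearMap.range Dl).subtype ∘ₗ AddMonoidHom.toIntLinearMap
        ((LinearEquiv.ofInjective Dl hDinj : (Fin n → ℤ) ≃ₗ[ℤ] LinearMap.range Dl) :
          (Fin n → ℤ) →+ LinearMap.range Dl) = Dl := by
      apply LinearMap.ext
      intro x
      rfl
    rw [h2, hDl, ← Matrix.toLin'_apply', LinearMap.det_toLin', Matrix.det_diagonal] at h1
    rw [h1]
    rfl
  have e4 : (Sl.toAddMonoidHom.comp Dl.toAddMonoidHom).range.index = (univ.gcd δ).natAbs := by
    have h : (Sl.toAddMonoidHom.comp Dl.toAddMonoidHom).range =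
        AddSubgroup.zmultiples (univ.gcd δ) := by
      ext x
      rw [Int.mem_zmultiples_iff, AddMonoidHom.mem_range]
      constructor
      · rintro ⟨y, rfl⟩
        show _ ∣ Sl (Dl y)
        rw [hSl_apply]
        refine Finset.dvd_sum fun i _ => ?_
        rw [hDl_apply]
        exact Dvd.dvd.mul_right (Finset.gcd_dvd (Finset.mem_univ i)) _
      · rintro ⟨c, rfl⟩
        obtain ⟨g, hg⟩ := Finset.gcd_eq_sum_mul (Finset.univ : Finset (Fin n)) δ
        refine ⟨fun i => g i * c, ?_⟩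
        show Sl (Dl _) = _
        rw [hSl_apply, hg, Finset.sum_mul]
        refine Finset.sum_congr rfl fun i _ => ?_
        rw [hDl_apply]
        ring
    rw [h, Int.index_zmultiples]
  rw [e1, e2]
  have hgcd : ((univ.gcd δ).natAbs : ℤ) = univ.gcd δ := by
    rw [Int.natCast_natAbs, abs_of_nonneg]
    exact Int.nonneg_of_normalize_eq_self (Finset.normalize_gcd)
  have := congrArg (Nat.cast : ℕ → ℤ) hkey
  rw [e3, e4] at this
  push_cast at this
  rw [Int.natCast_natAbs] at hgcd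
  rw [hgcd] at this
  exact this

end Groth.Agent.S14805
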