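import Groth.Statements.S14806
import Mathlib
import Groth.Agent.Lib.Helper22.LatIdx
import Groth.Agent.S14805

set_option autoImplicit false
open Finset
open CompLat

namespace Groth.Agent.S14806

/-- Let n ≥ 1, let D, D' : ℤⁿ → ℤⁿ be given by diagonal matrices with nonzero diagonal entries, A : ℤⁿ →
ℤⁿ an integer matrix of rank n - 1, S : ℤⁿ → ℤ the sum of the coordinates and Δ : ℤ → ℤⁿ the
diagonal embedding, with S D A = 0 and A D' Δ = 0; let d, d' be the greatest common divisors of the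
diagonal entries of D and of D' (dℤ = im(S D), d'ℤ = im(S D')). Then #(ker(S D)/im A) · |det D| ·
|det D'| = d d' · #(ker S/im(D A D')). -/
theorem result (n : ℕ) (hn : 0 < n) (δ δ' : Fin n → ℤ) (hδ : ∀ i, δ i ≠ 0) (hδ' : ∀ i, δ' i ≠ 0)
    (A : Matrix (Fin n) (Fin n) ℤ) (hA : A.rank = n - 1)
    (hSDA : (∑ i : Fin n, (LinearMap.proj i : (Fin n → ℤ) →ₗ[ℤ] ℤ)) ∘ₗ
        (Matrix.mulVecLin (Matrix.diagonal δ)) ∘ₗ (Matrix.mulVecLin A) = 0)
    (hADΔ : (Matrix.mulVecLin A) ∘ₗ (Matrix.mulVecLin (Matrix.diagonal δ')) ∘ₗ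
        (LinearMap.pi fun _ : Fin n => (LinearMap.id : ℤ →ₗ[ℤ] ℤ)) = 0) :
    (Nat.card (LinearMap.ker ((∑ i : Fin n, (LinearMap.proj i : (Fin n → ℤ) →ₗ[ℤ] ℤ)) ∘ₗ (Matrix.mulVecLin (Matrix.diagonal δ))) ⧸
          (LinearMap.range (Matrix.mulVecLin A)).comap (LinearMap.ker ((∑ i : Fin n, (LinearMap.proj i : (Fin n → ℤ) →ₗ[ℤ] ℤ)) ∘ₗ (Matrix.mulVecLin (Matrix.diagonal δ)))).subtype) : ℤ) * |∏ i, δ i| * |∏ i, δ' i| =
      (univ.gcd δ) * (univ.gcd δ') * Nat.card (LinearMap.ker (∑ i : Fin n, (LinearMap.proj i : (Fin n → ℤ) →ₗ[ℤ] ℤ)) ⧸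
          (LinearMap.range ((Matrix.mulVecLin (Matrix.diagonal δ)) ∘ₗ (Matrix.mulVecLin A) ∘ₗ (Matrix.mulVecLin (Matrix.diagonal δ')))).comap (LinearMap.ker (∑ i : Fin n, (LinearMap.proj i : (Fin n → ℤ) →ₗ[ℤ] ℤ))).subtype) := by
  classical
  have h5 := Groth.Agent.S14805.result n hn δ δ' hδ hδ' A hA hSDA hADΔ
  set Dl := Matrix.mulVecLin (Matrix.diagonal δ) with hDl
  set Dl' := Matrix.mulVecLin (Matrix.diagonal δ') with hDl'
  set Sl : (Fin n → ℤ) →ₗ[ℤ] ℤ := ∑ i : Fin n, (LinearMap.proj i : (Fin n → ℤ) →ₗ[ℤ] ℤ) with hSl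
  set Al := Matrix.mulVecLin A with hAl
  have hDinj : Function.Injective Dl := Groth.Agent.Helper22.LatIdx.diag_injective δ hδ
  have hAδ : A.mulVec δ' = 0 := by
    have h := LinearMap.congr_fun hADΔ 1
    have h2 : Dl' ((LinearMap.pi fun _ : Fin n => (LinearMap.id : ℤ →ₗ[ℤ] ℤ)) 1) = δ' := by
      funext i
      rw [Groth.Agent.Helper22.LatIdx.diag_apply]
      simp
    rw [LinearMap.comp_apply, LinearMap.comp_apply, h2] at h
    exact h
  have hF : (Dl ∘ₗ Al).toAddMonoidHom.range ≤ Sl.toAddMonoidHom.ker := by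
    rintro _ ⟨y, rfl⟩
    exact LinearMap.congr_fun hSDA y
  have hkey := Groth.Agent.Helper22.LatIdx.key2 (Dl ∘ₗ Al).toAddMonoidHom Dl'.toAddMonoidHom
    Sl.toAddMonoidHom.ker hF
  have hker : (Dl ∘ₗ Al).toAddMonoidHom.ker = Al.toAddMonoidHom.ker := by
    ext x
    rw [AddMonoidHom.mem_ker, AddMonoidHom.mem_ker]
    constructor
    · intro h
      apply hDinj
      rw [map_zero]
      exact h
    · intro h
      show Dl (Al x) = 0
      have h' : Al x = 0 := h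
      rw [h', map_zero]
  rw [hker, Groth.Agent.Helper22.LatIdx.relIndex_ker hn δ' hδ' A hA hAδ,
    Groth.Agent.Helper22.LatIdx.index_range_diagonal δ' hδ'] at hkey
  have e2 : Nat.card (LinearMap.ker Sl ⧸
      (LinearMap.range (Dl ∘ₗ Al)).comap (LinearMap.ker Sl).subtype) =
      (Dl ∘ₗ Al).toAddMonoidHom.range.relIndex Sl.toAddMonoidHom.ker := rfl
  have e3 : Nat.card (LinearMap.ker Sl ⧸
      (LinearMap.range (Dl ∘ₗ Al ∘ₗ Dl')).comap (LinearMap.ker Sl).subtype) =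
      (Dl'.toAddMonoidHom.range.map (Dl ∘ₗ Al).toAddMonoidHom).relIndex Sl.toAddMonoidHom.ker := by
    have h : (LinearMap.range (Dl ∘ₗ Al ∘ₗ Dl')).toAddSubgroup =
        Dl'.toAddMonoidHom.range.map (Dl ∘ₗ Al).toAddMonoidHom := by
      ext x
      simp only [Submodule.mem_toAddSubgroup, LinearMap.mem_range, AddSubgroup.mem_map,
        LinearMap.comp_apply, LinearMap.toAddMonoidHom_coe, AddMonoidHom.mem_range]
      constructor
      · rintro ⟨y, rfl⟩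
        exact ⟨Dl' y, ⟨y, rfl⟩, rfl⟩
      · rintro ⟨_, ⟨y, rfl⟩, rfl⟩
        exact ⟨y, rfl⟩
    rw [← h]
    rfl
  rw [e3]
  rw [e2] at h5
  have hgcd : ((univ.gcd δ').natAbs : ℤ) = univ.gcd δ' := by
    rw [Int.natCast_natAbs, abs_of_nonneg]
    exact Int.nonneg_of_normalize_eq_self (Finset.normalize_gcd)
  have h6 := congrArg (Nat.cast : ℕ → ℤ) hkey
  push_cast at h6
  rw [Int.natCast_natAbs] at hgcd
  rw [hgcd] at h6
  rw [h5, mul_assoc, h6]
  ring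

end Groth.Agent.S14806
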