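import Groth.Statements.S17526
import Mathlib
import Groth.Agent.Lib.Helper29.Reynolds

set_option autoImplicit false
universe u
open GLin

namespace Groth.Agent.S17526

/-- Let `k` be a field, `H` a commutative Hopf algebra of finite type over `k` which is linearly
reductive (every finite-dimensional comodule is semisimple; `G = Spec H` is a linearly reductive
affine group), and `A` a Noetherian commutative `k`-algebra with a coaction of `H` that is an
algebra map (an action of `G` on `Spec A`). Then the ring of invariants `A^G` is Noetherian. (The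
published corollary is stated over an algebraically closed field; it is the affine case of a
statement about good moduli spaces valid over any field, and is stated here over any field.) -/
theorem result
    (k : Type u) [Field k] (H : Type u) [CommRing H] [HopfAlgebra k H] [Algebra.FiniteType k H]
    (hG : HopfRep.IsLinearlyReductive k H)
    (A : Type u) [CommRing A] [Algebra k A] [IsNoetherianRing A]
    [HopfRep.Comod k H A] [GLin.IsCoactAlg k H A] :
    IsNoetherianRing ↥(GLin.invariants k H A) := by
  obtain ⟨E, hE⟩ := Groth.Agent.Helper29.Reynolds.exists_reynolds (A := H) A hG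
  let f : ↥(GLin.invariants k H A) →+* A := (GLin.invariants k H A).val.toRingHom
  have key : ∀ (J : Ideal ↥(GLin.invariants k H A)) (y : A), y ∈ Ideal.map f J →
      ∀ a : A, ∃ j ∈ J, (j : A) = E (a * y) := by
    intro J y hy
    have hy' : y ∈ Submodule.span A (f '' (J : Set ↥(GLin.invariants k H A))) := hy
    refine Submodule.span_induction
      (p := fun y _ => ∀ a : A, ∃ j ∈ J, (j : A) = E (a * y)) ?_ ?_ ?_ ?_ hy'
    · rintro _ ⟨j, hj, rfl⟩ a
      refine ⟨⟨E a, hE.apply_mem a⟩ * j, J.mul_mem_left _ hj, ?_⟩
      rw [Groth.Agent.Helper29.Reynolds.reynolds_mul hG hE a (f j) j.2]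
      rfl
    · intro a
      exact ⟨0, J.zero_mem, by rw [mul_zero, map_zero]; rfl⟩
    · intro y z _ _ hy hz a
      obtain ⟨j1, hj1, e1⟩ := hy a
      obtain ⟨j2, hj2, e2⟩ := hz a
      exact ⟨j1 + j2, J.add_mem hj1 hj2, by rw [mul_add, map_add, ← e1, ← e2]; rfl⟩
    · intro b y _ hy a
      obtain ⟨j, hj, e⟩ := hy (a * b)
      exact ⟨j, hj, by rw [smul_eq_mul, ← mul_assoc]; exact e⟩
  have hcomap : ∀ J : Ideal ↥(GLin.invariants k H A), Ideal.comap f (Ideal.map f J) = J := by
    intro J
    apply le_antisymm
    · intro x hx
      obtain ⟨j, hj, e⟩ := key J (f x) (Ideal.mem_comap.1 hx) 1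
      rw [one_mul, (hE.2.2 (f x)).2 x.2] at e
      have hjx : j = x := Subtype.ext e
      exact hjx ▸ hj
    · exact Ideal.le_comap_map
  let emb : Ideal ↥(GLin.invariants k H A) ↪o Ideal A :=
    OrderEmbedding.ofMapLEIff (fun J => Ideal.map f J) (by
      intro J₁ J₂
      constructor
      · intro h
        have h2 := Ideal.comap_mono (f := f) h
        rwa [hcomap, hcomap] at h2
      · exact fun h => Ideal.map_mono h)
  have hN : IsNoetherianRing A := inferInstance
  exact isNoetherian_mk ⟨OrderEmbedding.wellFounded emb.dual hN.wf⟩

end Groth.Agent.S17526
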