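import Groth.Statements.S16001

set_option autoImplicit false
universe u
open FrobAlg

namespace Groth.Agent.S16001

open TensorProduct

theorem relFrob_tmul (p : ℕ) [Fact p.Prime] (A : Type u) [CommRing A] [CharP A p]
    (B : Type u) [CommRing B] [Algebra A B] [CharP B p] (b : B) (a : FrobAlg.Twist p A) :
    FrobAlg.relFrob p A B (b ⊗ₜ[A] a) =
      b ^ p * algebraMap A B ((FrobAlg.toTwist p A).symm a) := by
  simp [FrobAlg.relFrob, FrobAlg.frobHom, FrobAlg.inclHom]
  rfl

theorem bij_of_charP (p : ℕ) [Fact p.Prime] (A : Type u) [CommRing A] [CharP A p]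
    (B : Type u) [CommRing B] [Algebra A B] [CharP B p]
    (h : Function.Bijective (FrobAlg.relFrob p A B))
    (C : Type u) [CommRing C] [Algebra A C] [CharP C p] (I : Ideal C) (hI : I ^ 2 = ⊥) :
    Function.Bijective ((Ideal.Quotient.mkₐ A I).comp : (B →ₐ[A] C) → (B →ₐ[A] C ⧸ I)) := by
  have hp2 : 2 ≤ p := (Fact.out : p.Prime).two_le
  have hIp : ∀ c ∈ I, c ^ p = 0 := by
    intro c hc
    have h2 : c ^ 2 = 0 := by
      have : c ^ 2 ∈ I ^ 2 := Ideal.pow_mem_pow hc 2
      rw [hI] at this
      exact this
    obtain ⟨k, rfl⟩ := Nat.exists_eq_add_of_le hp2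
    rw [pow_add, h2, zero_mul]
  have hpow : ∀ x y : C, x - y ∈ I → x ^ p = y ^ p := by
    intro x y hxy
    have : x = y + (x - y) := by ring
    rw [this, add_pow_char, hIp _ hxy, add_zero]
  constructor
  · intro g g' hgg'
    have hmem : ∀ b, g b - g' b ∈ I := by
      intro b
      have := AlgHom.congr_fun hgg' b
      simp only [AlgHom.comp_apply, Ideal.Quotient.mkₐ_eq_mk] at this
      exact Ideal.Quotient.eq.mp this
    apply AlgHom.ext
    intro b
    obtain ⟨t, rfl⟩ := h.2 b
    induction t using TensorProduct.induction_on with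
    | zero => simp
    | tmul b₁ a =>
      rw [relFrob_tmul, map_mul, map_mul, map_pow, map_pow, hpow _ _ (hmem b₁), AlgHom.commutes,
        AlgHom.commutes]
    | add x y hx hy => rw [map_add, map_add, map_add, hx, hy]
  · intro fbar
    let φ : C ⧸ I →ₐ[A] FrobAlg.Target p A C :=
      Ideal.Quotient.liftₐ I (FrobAlg.frobHom p A C) (by
        intro c hc
        show c ^ p = 0
        exact hIp c hc)
    have hφ : ∀ c : C, φ (Ideal.Quotient.mk I c) = FrobAlg.toTarget p A C (c ^ p) := fun c => rfl
    let ψ : FrobAlg.BaseChange p A B →ₐ[A] FrobAlg.Target p A C :=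
      Algebra.TensorProduct.lift (φ.comp fbar) (FrobAlg.inclHom p A C) (fun _ _ => Commute.all _ _)
    have hψ : ∀ (b : B) (a : FrobAlg.Twist p A), ψ (b ⊗ₜ[A] a) =
        φ (fbar b) * FrobAlg.toTarget p A C (algebraMap A C ((FrobAlg.toTwist p A).symm a)) :=
      fun b a => Algebra.TensorProduct.lift_tmul _ _ _ _ _
    let E : FrobAlg.BaseChange p A B ≃+* B := RingEquiv.ofBijective (FrobAlg.relFrob p A B) h
    let g₀ : B →+* C := ((FrobAlg.toTarget p A C).symm : FrobAlg.Target p A C →+* C).comp
      (ψ.toRingHom.comp E.symm.toRingHom)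
    have hg₀ : ∀ t, g₀ (FrobAlg.relFrob p A B t) = (FrobAlg.toTarget p A C).symm (ψ t) := by
      intro t
      show (FrobAlg.toTarget p A C).symm (ψ (E.symm (E t))) = _
      rw [E.symm_apply_apply]
    have hcomm : ∀ a, g₀ (algebraMap A B a) = algebraMap A C a := by
      intro a
      have : algebraMap A B a = FrobAlg.relFrob p A B (1 ⊗ₜ[A] FrobAlg.toTwist p A a) := by
        rw [relFrob_tmul]; simp
      rw [this, hg₀, hψ, map_one, map_one, one_mul, RingEquiv.symm_apply_apply,
        RingEquiv.symm_apply_apply]
    let g : B →ₐ[A] C := { g₀ with commutes' := hcomm }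
    refine ⟨g, ?_⟩
    apply AlgHom.ext
    intro b
    obtain ⟨t, rfl⟩ := h.2 b
    show Ideal.Quotient.mk I (g₀ (FrobAlg.relFrob p A B t)) = fbar (FrobAlg.relFrob p A B t)
    rw [hg₀]
    induction t using TensorProduct.induction_on with
    | zero => simp
    | tmul b₁ a =>
      rw [relFrob_tmul, map_mul, map_pow, AlgHom.commutes, hψ]
      obtain ⟨c, hc⟩ := Ideal.Quotient.mk_surjective (fbar b₁)
      rw [← hc, hφ, ← map_mul, RingEquiv.symm_apply_apply, map_mul, map_pow]
      rfl
    | add x y hx hy => rw [map_add, map_add, map_add, map_add, hx, hy, map_add]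

/-- Let A be a commutative ring of prime characteristic p and B a commutative A-algebra of
characteristic p such that the relative Frobenius B ⊗_{A,Frob} A → B, b ⊗ a ↦ b^p a, is bijective
(that is, Spec B → Spec A is relatively perfect; no finiteness condition is imposed). Then B is
formally étale over A. (The source proves that every perfect algebraic stack over an algebraic space
of characteristic p is formally étale over it; this is the case of an affine scheme over an affine
base.) -/
theorem result (p : ℕ) [Fact p.Prime] (A : Type u) [CommRing A] [CharP A p]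
    (B : Type u) [CommRing B] [Algebra A B] [CharP B p]
    (h : Function.Bijective (FrobAlg.relFrob p A B)) : Algebra.FormallyEtale A B := by
  rw [Algebra.FormallyEtale.iff_comp_bijective]
  intro C _ _ I hI
  rcases subsingleton_or_nontrivial C with hC | hC
  · constructor
    · intro g g' _
      apply AlgHom.ext
      intro b
      exact Subsingleton.elim _ _
    · intro fbar
      refine ⟨{ toFun := fun _ => 0
                map_one' := Subsingleton.elim _ _
                map_mul' := by simp
                map_zero' := rfl
                map_add' := by simp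
                commutes' := fun _ => Subsingleton.elim _ _ }, ?_⟩
      apply AlgHom.ext
      intro b
      exact Subsingleton.elim _ _
  · haveI : CharP C p := by
      rw [CharP.charP_iff_prime_eq_zero (Fact.out : p.Prime)]
      rw [← map_natCast (algebraMap A C) p, CharP.cast_eq_zero A p, map_zero]
    exact bij_of_charP p A B h C I hI

end Groth.Agent.S16001
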