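import Groth.Statements.S15293
import Mathlib

set_option autoImplicit false
universe u
open DeRham

namespace Groth.Agent.S15293

open exteriorPower in
noncomputable def altMap (R S A B : Type u) [CommRing R] [CommRing S] [CommRing A] [CommRing B]
    [Algebra R S] [Algebra R A] [Algebra R B] [Algebra A B] [Algebra S B]
    [IsScalarTower R A B] [IsScalarTower R S B] (p : ℕ) :
    (Ω[A⁄R]) [⋀^Fin p]→ₗ[A] ↥(⋀[B]^p (Ω[B⁄S])) :=
  { toFun := fun m => ιMulti B p (fun i => KaehlerDifferential.map R S A B (m i))
    map_update_add' := by
      intro _ m i x y
      have h : ∀ z : Ω[A⁄R], (fun j => KaehlerDifferential.map R S A B (Function.update m i z j))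
          = Function.update (fun j => KaehlerDifferential.map R S A B (m j)) i
            (KaehlerDifferential.map R S A B z) := by
        intro z
        funext j
        by_cases hj : j = i
        · subst hj; simp
        · simp [Function.update_of_ne hj]
      rw [h, h, h, map_add, (ιMulti B p).map_update_add]
    map_update_smul' := by
      intro _ m i c x
      have h : ∀ z : Ω[A⁄R], (fun j => KaehlerDifferential.map R S A B (Function.update m i z j))
          = Function.update (fun j => KaehlerDifferential.map R S A B (m j)) i
            (KaehlerDifferential.map R S A B z) := by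
        intro z
        funext j
        by_cases hj : j = i
        · subst hj; simp
        · simp [Function.update_of_ne hj]
      rw [h, h, map_smul, ← algebraMap_smul B c (KaehlerDifferential.map R S A B x),
        (ιMulti B p).map_update_smul, algebraMap_smul]
    map_eq_zero_of_eq' := by
      intro v i j h hij
      exact (ιMulti B p).map_eq_zero_of_eq _ (by simp [h]) hij }

open exteriorPower in
/-- For a commutative square of ring maps R → A → B, R → S → B (B an algebra over R, A and S
compatibly), there is a family of additive maps ψ_p from the p-forms of A over R to the p-forms of B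
over S, p ≥ 0, which is the map of de Rham complexes induced by the square: ψ_p sends b₀ db₁ ∧ … ∧
db_p to g(b₀) d(g b₁) ∧ … ∧ d(g b_p), where g : A → B is the structure map. In degree 0 this is g
and in degree 1 the induced map on Kähler differentials. -/
theorem result (R S A B : Type u) [CommRing R] [CommRing S] [CommRing A] [CommRing B]
    [Algebra R S] [Algebra R A] [Algebra R B] [Algebra A B] [Algebra S B]
    [IsScalarTower R A B] [IsScalarTower R S B] :
    ∃ ψ : ∀ p : ℕ, ↥(⋀[A]^p (Ω[A⁄R])) →+ ↥(⋀[B]^p (Ω[B⁄S])),
      DeRham.IsCxMap (KaehlerDifferential.D R A) (KaehlerDifferential.D S B) (algebraMap A B) ψ := by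
  refine ⟨fun p => (alternatingMapLinearEquiv (altMap R S A B p)).toAddMonoidHom, ?_⟩
  intro p b₀ b
  simp only [LinearMap.toAddMonoidHom_coe, DeRham.gen, map_smul,
    alternatingMapLinearEquiv_apply_ιMulti]
  change b₀ • ιMulti B p (fun i => KaehlerDifferential.map R S A B (KaehlerDifferential.D R A (b i))) = _
  simp only [KaehlerDifferential.map_D]
  rw [algebraMap_smul]

end Groth.Agent.S15293
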