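import Groth.Statements.S8255
import Mathlib

set_option autoImplicit false
universe u
open CategoryTheory CategoryTheory.Limits AlgebraicGeometry Opposite TopologicalSpace
open EGA2

namespace Groth.Agent.S8255

/-- Let S be a scheme and A a quasi-coherent O_S-algebra, and let π : Spec(A) → S be its relative
spectrum (glued from the affine schemes Spec A(U), U an affine open of S). Then the canonical
comparison map π_* O_{Spec(A)} → A (which over an affine open U is restriction to the chart Spec
A(U) followed by Γ(Spec R) = R) is an isomorphism; in other words the direct-image algebra of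
Spec(A) is A. -/
theorem result {S : Scheme.{u}} (A : RelSpec.QCAlg S) : IsIso A.gammaMap := by
  let ℱ : TopCat.Sheaf CommRingCat.{u} S.carrier :=
    ⟨A.π.base _* A.spec.presheaf, TopCat.Sheaf.pushforward_sheaf_of_sheaf _ A.spec.sheaf.2⟩
  let ℱ' : TopCat.Sheaf CommRingCat.{u} S.carrier := ⟨A.presheaf, A.isSheaf⟩
  let α : ℱ ⟶ ℱ' := ⟨A.gammaMap⟩
  have haff : ∀ (U : S.Opens) (hU : IsAffineOpen U), IsIso (A.gammaAff U hU) := by
    intro U hU
    have h1 : IsIso ((A.ι U hU).app (A.π ⁻¹ᵁ U)) :=
      Scheme.Hom.isIso_app _ _ (by rw [A.π_preimage U hU])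
    have h2 : IsIso ((A.ι U hU).appLE (A.π ⁻¹ᵁ U) ⊤ (A.top_le_preimage U hU)) := by
      rw [Scheme.Hom.appLE]
      have h3 : A.ι U hU ⁻¹ᵁ A.π ⁻¹ᵁ U = ⊤ := top_le_iff.mp (A.top_le_preimage U hU)
      have : IsIso ((Spec (A.presheaf.obj (op U))).presheaf.map
          (homOfLE (A.top_le_preimage U hU)).op) := by
        have : IsIso (homOfLE (A.top_le_preimage U hU)) :=
          ⟨⟨homOfLE le_top, Subsingleton.elim _ _, Subsingleton.elim _ _⟩⟩
        infer_instance
      infer_instance
    unfold RelSpec.QCAlg.gammaAff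
    infer_instance
  have hres : IsIso (Functor.whiskerLeft (Scheme.AffineZariskiSite.toOpensFunctor S).op α.hom) := by
    change IsIso ((Scheme.AffineZariskiSite.toOpensFunctor S).op.whiskerLeft A.gammaMap)
    rw [A.gammaMap_restrict]
    apply (config := { allowSynthFailures := true }) NatIso.isIso_of_isIso_app
    intro U
    exact haff U.unop.1 U.unop.2
  have hα : IsIso α := Functor.IsCoverDense.iso_of_restrict_iso
    (G := Scheme.AffineZariskiSite.toOpensFunctor S) (K := Opens.grothendieckTopology S) α hres
  refine ⟨⟨(inv α).hom, ?_, ?_⟩⟩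
  · exact congrArg (fun β => β.hom) (IsIso.hom_inv_id α)
  · exact congrArg (fun β => β.hom) (IsIso.inv_hom_id α)

end Groth.Agent.S8255
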