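import Groth.Statements.S7457
import Groth.Agent.Lib.Helper11.GrpdLib1
open Groth.Agent.Helper11.GrpdLib

set_option autoImplicit false
universe u
open CategoryTheory CategoryTheory.Limits AlgebraicGeometry
open Grpd

namespace Groth.Agent.S7457

/-- Let (U, R, s, t, c) be a groupoid scheme over S. Let φ : R x_(t,U,t) R -> R x_(s,U,t) R be the
morphism sending a pair (a, b) with the same target to (a, a^{-1} composed with b), that is, the
morphism whose first component is the first projection and whose second component is c applied to (i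
composed after the first projection, second projection). Then φ is an isomorphism and composed with
c it gives the second projection. Moreover the square with sides c, the second projection R
x_(s,U,t) R -> R, s and s is cartesian. (A groupoid scheme carries U, R, s, t, c, e, i over S with
the groupoid axioms on T-points; c is defined on the fibre product of s and t and sends a pair (a,
b) with s(a) = t(b) to a composed with b.) -/
theorem result (S : Scheme.{u}) (G : Grpd.GroupoidScheme S) : (∀ φ : pullback G.t G.t ⟶ pullback G.s G.t, φ ≫ pullback.fst G.s G.t = pullback.fst G.t G.t → φ ≫ pullback.snd G.s G.t = pullback.lift (pullback.fst G.t G.t ≫ G.i) (pullback.snd G.t G.t) ((Category.assoc _ _ _).trans ((congrArg (fun x => pullback.fst G.t G.t ≫ x) G.i_s).trans pullback.condition)) ≫ G.c → IsIso φ ∧ φ ≫ G.c = pullback.snd G.t G.t) ∧ IsPullback G.c (pullback.snd G.s G.t) G.s G.s := by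
  constructor
  · intro φ h1 h2
    have hab : pullback.fst G.t G.t ≫ G.t = pullback.snd G.t G.t ≫ G.t := pullback.condition
    have hai : (pullback.fst G.t G.t ≫ G.i) ≫ G.s = pullback.snd G.t G.t ≫ G.t := by
      rw [Category.assoc, G.i_s]; exact hab
    have h2' : φ ≫ pullback.snd G.s G.t =
        m G (pullback.fst G.t G.t ≫ G.i) (pullback.snd G.t G.t) := by rw [h2, m_eq hai]
    have hkey : m G (pullback.fst G.t G.t)
        (m G (pullback.fst G.t G.t ≫ G.i) (pullback.snd G.t G.t)) = pullback.snd G.t G.t := by
      have h0 : pullback.fst G.t G.t ≫ G.s = (pullback.fst G.t G.t ≫ G.i) ≫ G.t := by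
        rw [Category.assoc, G.i_t]
      have h00 : pullback.fst G.t G.t ≫ G.t ≫ G.e = pullback.snd G.t G.t ≫ G.t ≫ G.e := by
        rw [← Category.assoc, hab, Category.assoc]
      rw [← m_assoc h0 hai, m_i, h00, e_m]
    have hφc : φ ≫ G.c = pullback.snd G.t G.t := by
      rw [← m_fst_snd, comp_m _ pullback.condition, h1, h2', hkey]
    refine ⟨?_, hφc⟩
    have hab' : pullback.fst G.s G.t ≫ G.s = pullback.snd G.s G.t ≫ G.t := pullback.condition
    let ψ : pullback G.s G.t ⟶ pullback G.t G.t :=
      pullback.lift (pullback.fst G.s G.t) (m G (pullback.fst G.s G.t) (pullback.snd G.s G.t))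
        (by rw [m_t hab'])
    refine ⟨⟨ψ, ?_, ?_⟩⟩
    · apply pullback.hom_ext
      · rw [Category.assoc, pullback.lift_fst, h1, Category.id_comp]
      · rw [Category.assoc, pullback.lift_snd, comp_m _ hab', h1, h2', hkey, Category.id_comp]
    · apply pullback.hom_ext
      · rw [Category.assoc, h1, pullback.lift_fst, Category.id_comp]
      · rw [Category.assoc, h2', comp_m _ hai, ← Category.assoc, pullback.lift_fst,
          pullback.lift_snd, Category.id_comp]
        have h0 : (pullback.fst G.s G.t ≫ G.i) ≫ G.s = pullback.fst G.s G.t ≫ G.t := by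
          rw [Category.assoc, G.i_s]
        have h00 : pullback.fst G.s G.t ≫ G.s ≫ G.e = pullback.snd G.s G.t ≫ G.t ≫ G.e := by
          rw [← Category.assoc, hab', Category.assoc]
        rw [← m_assoc h0 hab', i_m, h00, e_m]
  · have hcs : G.c ≫ G.s = pullback.snd G.s G.t ≫ G.s := by
      rw [← m_fst_snd, m_s pullback.condition]
    refine ⟨⟨hcs⟩, ⟨PullbackCone.IsLimit.mk _
      (fun sc => pullback.lift (m G sc.fst (sc.snd ≫ G.i)) sc.snd (by
        have hyi : sc.fst ≫ G.s = (sc.snd ≫ G.i) ≫ G.t := by
          rw [Category.assoc, G.i_t]; exact sc.condition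
        rw [m_s hyi, Category.assoc, G.i_s])) ?_ ?_ ?_⟩⟩
    · intro sc
      have hyi : sc.fst ≫ G.s = (sc.snd ≫ G.i) ≫ G.t := by
        rw [Category.assoc, G.i_t]; exact sc.condition
      have hyi2 : (sc.snd ≫ G.i) ≫ G.s = sc.snd ≫ G.t := by rw [Category.assoc, G.i_s]
      have hxy : sc.snd ≫ G.s ≫ G.e = sc.fst ≫ G.s ≫ G.e := by
        rw [← Category.assoc, ← sc.condition, Category.assoc]
      rw [← m_fst_snd, comp_m _ pullback.condition, pullback.lift_fst, pullback.lift_snd,
        m_assoc hyi hyi2, i_m, hxy, m_e]
    · intro sc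
      exact pullback.lift_snd _ _ _
    · intro sc v hv1 hv2
      have hc : (v ≫ pullback.fst G.s G.t) ≫ G.s = sc.snd ≫ G.t := by
        rw [Category.assoc, pullback.condition, ← Category.assoc, hv2]
      have hx : sc.fst = m G (v ≫ pullback.fst G.s G.t) sc.snd := by
        rw [← hv1, ← m_fst_snd, comp_m _ pullback.condition, hv2]
      have hyi3 : sc.snd ≫ G.s = (sc.snd ≫ G.i) ≫ G.t := by rw [Category.assoc, G.i_t]
      apply pullback.hom_ext
      · rw [pullback.lift_fst, hx, m_assoc hc hyi3, m_i]
        have : sc.snd ≫ G.t ≫ G.e = (v ≫ pullback.fst G.s G.t) ≫ G.s ≫ G.e := by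
          rw [← Category.assoc, ← hc, Category.assoc]
        rw [this, m_e]
      · rw [pullback.lift_snd, hv2]


end Groth.Agent.S7457
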