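import Groth.Statements.S0268
import Groth.Agent.S0237
import Groth.Agent.Lib.Helper23.FEtGeo

set_option autoImplicit false
universe u
open Pi1

namespace Groth.Agent.S0268

open AlgebraicGeometry CategoryTheory CategoryTheory.Limits Groth.Agent.Helper23.FEtFull in
theorem aux_full (k : Type u) [Field k] {X : Scheme.{u}} (f : X ⟶ Spec (CommRingCat.of k))
    [ConnectedSpace ↥(pullback f (Spec.map (CommRingCat.ofHom (algebraMap k (AlgebraicClosure k)))))]
    [Surjective f]
    (A B : FEt.Cat (Spec (CommRingCat.of k)))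
    (φ : (FEt.restrict f).obj A ⟶ (FEt.restrict f).obj B) :
    ∃ ψ : A ⟶ B, (FEt.restrict f).map ψ = φ := by
  haveI : IsFinite A.hom := A.prop.1
  haveI : Etale A.hom := A.prop.2
  haveI : IsFinite B.hom := B.prop.1
  haveI : Etale B.hom := B.prop.2
  have hφ : φ.left ≫ pullback.snd B.hom f = pullback.snd A.hom f := Over.w φ.hom
  have hC : ∀ Z : Set ↥(pullback (cc A.hom B.hom) f), IsClopen Z →
      ∃ W : Set ↥(pullback A.hom B.hom), IsClopen W ∧
        (pullback.fst (cc A.hom B.hom) f).base ⁻¹' W = Z := by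
    intro Z hZ
    set q := pullback.fst (cc A.hom B.hom) f with hq
    haveI : UniversallyOpen f := inferInstance
    haveI : UniversallyOpen q := inferInstance
    haveI : Surjective q := inferInstance
    have hsat : ∀ y z, q.base y = q.base z → z ∈ Z → y ∈ Z := by
      intro y z hyz hz
      have hpre := Groth.Agent.Helper23.FEtGeo.isPreconnected_fibre k f (cc A.hom B.hom) (q.base z)
      have hsub := hpre.subset_isClopen hZ ⟨z, rfl, hz⟩
      exact hsub hyz
    have hcompl : (q.base '' Z)ᶜ = q.base '' Zᶜ := by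
      ext p
      constructor
      · intro hp
        obtain ⟨y, rfl⟩ := q.surjective p
        exact ⟨y, fun hy => hp ⟨y, hy, rfl⟩, rfl⟩
      · rintro ⟨y, hy, rfl⟩ ⟨z, hz, hzy⟩
        exact hy (hsat y z hzy.symm hz)
    refine ⟨q.base '' Z, ⟨?_, q.isOpenMap _ hZ.2⟩, ?_⟩
    · rw [← isOpen_compl_iff, hcompl]
      exact q.isOpenMap _ hZ.1.isOpen_compl
    · ext y
      constructor
      · rintro ⟨z, hz, hzy⟩
        exact hsat y z hzy.symm hz
      · intro hy
        exact ⟨y, hy, rfl⟩
  have hE : ∀ d : ↥A.left → ℕ, IsLocallyConstant d →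
      (∀ z : ↥(pullback A.hom f), d ((pullback.fst A.hom f).base z) = 1) → ∀ x, d x = 1 := by
    intro d _ hd1 x
    obtain ⟨z, rfl⟩ := (pullback.fst A.hom f).surjective x
    exact hd1 z
  obtain ⟨ψ, hψ1, hψ2⟩ := exists_descent_of_clopen f A.hom B.hom φ.left hφ hC hE
  refine ⟨MorphismProperty.Over.homMk ψ hψ1, ?_⟩
  ext
  simp only [FEt.restrict, MorphismProperty.Over.pullback, MorphismProperty.Over.homMk_hom,
    Over.homMk_left]
  apply pullback.hom_ext
  · rw [pullback.lift_fst]
    exact hψ2
  · rw [pullback.lift_snd]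
    exact hφ.symm

open AlgebraicGeometry CategoryTheory CategoryTheory.Limits in
/-- Functor form of the surjectivity of pi_1(X) -> pi_1(Spec k): Let X be quasi-compact and
quasi-separated over a field k with X_{kbar} connected. Then the functor pulling back finite etale
k-schemes to X is full and faithful. -/
theorem result (k : Type u) [Field k] {X : Scheme.{u}} (f : X ⟶ Spec (CommRingCat.of k)) [CompactSpace X]
    [QuasiSeparatedSpace X]
    [ConnectedSpace ↥(pullback f (Spec.map (CommRingCat.ofHom (algebraMap k (AlgebraicClosure k)))))] :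
    (FEt.restrict f).Full ∧ (FEt.restrict f).Faithful := by
  haveI : Nonempty ↥X :=
    ⟨(pullback.fst f (Spec.map (CommRingCat.ofHom (algebraMap k (AlgebraicClosure k))))).base
      (Classical.arbitrary _)⟩
  haveI : Surjective f := ⟨fun y => ⟨Classical.arbitrary _, Subsingleton.elim _ _⟩⟩
  exact ⟨⟨fun {A B} φ => aux_full k f A B φ⟩,
    Groth.Agent.S0237.result f (Scheme.Hom.surjective f).denseRange⟩

end Groth.Agent.S0268
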