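import Groth.Statements.S15315
import Mathlib

set_option autoImplicit false
universe u
open ArLef

namespace Groth.Agent.S15315

/-- For a Noetherian commutative ring A, elements a, b with a a non-zero-divisor on A/(b), and an ideal
I, one has length(A/(aI + bA)) = length(A/(a, b)) + length(A/(I + bA)) as extended natural numbers;
in particular when two of the three quotients have finite length so does the third. -/
theorem result (A : Type u) [CommRing A] [IsNoetherianRing A] (a b : A) (I : Ideal A)
    (ha : IsSMulRegular (A ⧸ Ideal.span ({b} : Set A)) a) :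
    Module.length A (A ⧸ (Ideal.span {a} * I ⊔ Ideal.span {b})) =
      Module.length A (A ⧸ Ideal.span ({a, b} : Set A)) + Module.length A (A ⧸ (I ⊔ Ideal.span {b})) := by
  set J : Ideal A := Ideal.span {a} * I ⊔ Ideal.span {b} with hJ
  set K : Ideal A := I ⊔ Ideal.span {b} with hK
  set L : Ideal A := Ideal.span ({a, b} : Set A) with hL
  have hKJ : K ≤ Submodule.comap (LinearMap.lsmul A A a) J := by
    intro x hx
    rw [hK, Submodule.mem_sup] at hx
    obtain ⟨i, hi, y, hy, rfl⟩ := hx
    rw [Submodule.mem_comap, map_add]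
    refine Ideal.add_mem _ ?_ ?_
    · apply Ideal.mem_sup_left
      exact Ideal.mul_mem_mul (Ideal.mem_span_singleton_self a) hi
    · apply Ideal.mem_sup_right
      exact Ideal.mul_mem_left _ _ hy
  have hJL : J ≤ L := by
    rw [hJ, hL]
    refine sup_le ?_ ?_
    · refine Ideal.mul_le_left.trans ?_
      rw [Ideal.span_le]; rintro _ rfl; exact Ideal.subset_span (by simp)
    · rw [Ideal.span_le]; rintro _ rfl; exact Ideal.subset_span (by simp)
  let f : (A ⧸ K) →ₗ[A] (A ⧸ J) := Submodule.mapQ K J (LinearMap.lsmul A A a) hKJ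
  let g : (A ⧸ J) →ₗ[A] (A ⧸ L) := Submodule.factor hJL
  have hf : Function.Injective f := by
    rw [← LinearMap.ker_eq_bot, Submodule.eq_bot_iff]
    intro x hx
    obtain ⟨x, rfl⟩ := Submodule.Quotient.mk_surjective _ x
    rw [LinearMap.mem_ker] at hx
    change Submodule.Quotient.mk (a • x) = (0 : A ⧸ J) at hx
    rw [Submodule.Quotient.mk_eq_zero, hJ, Submodule.mem_sup] at hx
    obtain ⟨u, hu, v, hv, huv⟩ := hx
    rw [Ideal.mem_span_singleton_mul] at hu
    obtain ⟨i, hi, rfl⟩ := hu
    have h1 : a * (x - i) ∈ Ideal.span ({b} : Set A) := by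
      have : a * (x - i) = v := by rw [mul_sub, ← smul_eq_mul a x, ← huv]; ring
      rw [this]; exact hv
    have h2 : a • (Ideal.Quotient.mk (Ideal.span ({b} : Set A)) (x - i)) = a • 0 := by
      rw [smul_zero]
      rw [← Ideal.Quotient.eq_zero_iff_mem, map_mul] at h1
      exact h1
    have h3 := ha h2
    rw [Ideal.Quotient.eq_zero_iff_mem] at h3
    rw [Submodule.Quotient.mk_eq_zero, hK]
    have : x = i + (x - i) := by ring
    rw [this]
    exact Submodule.add_mem_sup hi h3
  have hg : Function.Surjective g := Submodule.factor_surjective hJL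
  have hex : Function.Exact f g := by
    intro y
    obtain ⟨y, rfl⟩ := Submodule.Quotient.mk_surjective _ y
    constructor
    · intro hy
      change Submodule.Quotient.mk y = (0 : A ⧸ L) at hy
      rw [Submodule.Quotient.mk_eq_zero, hL, Ideal.mem_span_pair] at hy
      obtain ⟨s, t, rfl⟩ := hy
      refine ⟨Submodule.Quotient.mk s, ?_⟩
      change Submodule.Quotient.mk (a • s) = (Submodule.Quotient.mk (s * a + t * b) : A ⧸ J)
      rw [Submodule.Quotient.eq]
      have : a • s - (s * a + t * b) = -(t * b) := by rw [smul_eq_mul]; ring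
      rw [this, hJ]
      apply Ideal.mem_sup_right
      exact Ideal.neg_mem_iff _ |>.mpr (Ideal.mul_mem_left _ _ (Ideal.mem_span_singleton_self b))
    · rintro ⟨x, hx⟩
      obtain ⟨x, rfl⟩ := Submodule.Quotient.mk_surjective _ x
      rw [← hx]
      change Submodule.Quotient.mk (a • x) = (0 : A ⧸ L)
      rw [Submodule.Quotient.mk_eq_zero, hL, smul_eq_mul]
      exact Ideal.mul_mem_right _ _ (Ideal.subset_span (by simp))
  rw [Module.length_eq_add_of_exact f g hf hg hex, add_comm]

end Groth.Agent.S15315
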