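import Groth.Statements.S1640
import Groth.Agent.Lib.Helper3.OneDimNorm2
-- import your own Groth.Agent.* helpers here

set_option autoImplicit false
universe u
open Variety

namespace Groth.Agent.S1640

/-- Let K be a field, A ⊆ K a subring with fraction field K, and B_1, …, B_r ⊆ K Noetherian
one-dimensional subrings with finitely many maximal ideals and fraction field K, such that for each
i the subring generated by A and B_i is all of K. Then some nonzero x ∈ A has x⁻¹ lying in B_i and
in the Jacobson radical of B_i for every i. -/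
theorem result (K : Type u) [Field K] (A : Subring K) [IsFractionRing A K]
    (r : ℕ) (B : Fin r → Subring K) [∀ i, IsNoetherianRing (B i)] [∀ i, IsFractionRing (B i) K]
    (hdim : ∀ i, ringKrullDim (B i) = 1) (hsl : ∀ i, Finite (MaximalSpectrum (B i)))
    (hgen : ∀ i, A ⊔ B i = ⊤) :
    ∃ x : K, x ∈ A ∧ x ≠ 0 ∧ ∀ i, ∃ hx : x⁻¹ ∈ B i, (⟨x⁻¹, hx⟩ : B i) ∈ (⊥ : Ideal (B i)).jacobson := by
  classical
  haveI hded : ∀ i, IsDedekindDomain (integralClosure (B i) K) := fun i =>
    Groth.Agent.Helper3.OneDimNorm2.dedekind (B i) K (hdim i)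
  haveI hfinH : ∀ i, Finite (@IsDedekindDomain.HeightOneSpectrum (integralClosure (B i) K) _) :=
    fun i => Groth.Agent.Helper3.OneDimNorm2.finite_heightOne (B i) K (hdim i) (hsl i)
  let W : Set (Valuation K (WithZero (Multiplicative ℤ))) :=
    ⋃ i, Set.range (fun v : IsDedekindDomain.HeightOneSpectrum (integralClosure (B i) K) =>
      v.valuation K)
  have hW : W.Finite := Set.finite_iUnion (fun i => Set.finite_range _)
  have hgen' : ∀ i, A ⊔ (algebraMap (B i) K).range = ⊤ := by
    intro i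
    have : (algebraMap (B i) K).range = B i := Subring.range_subtype (B i)
    rw [this]; exact hgen i
  have hpole : ∀ w ∈ hW.toFinset, ∃ a ∈ A, 1 < w a := by
    intro w hw
    rw [Set.Finite.mem_toFinset] at hw
    obtain ⟨i, v, rfl⟩ := Set.mem_iUnion.mp hw
    exact Groth.Agent.Helper3.OneDimNorm2.exists_pole (B i) K A (hgen' i) v
  obtain ⟨x₀, hx₀A, hx₀0, hx₀⟩ := Groth.Agent.Helper3.ValPoles.exists_common_pole A hW.toFinset hpole
  have hx₀i : ∀ i (v : IsDedekindDomain.HeightOneSpectrum (integralClosure (B i) K)),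
      1 < v.valuation K x₀ := by
    intro i v
    apply hx₀
    rw [Set.Finite.mem_toFinset]
    exact Set.mem_iUnion.mpr ⟨i, v, rfl⟩
  have hex := fun i => Groth.Agent.Helper3.OneDimNorm2.inv_pow_mem_jacobson (B i) K (hdim i) x₀ (hx₀i i)
  choose n b hn hb hbJ using hex
  let N := ∏ i, n i
  have hNpos : 0 < N := Finset.prod_pos (fun i _ => hn i)
  refine ⟨x₀ ^ N, A.pow_mem hx₀A N, pow_ne_zero N hx₀0, fun i => ?_⟩
  have hdvd : n i ∣ N := Finset.dvd_prod_of_mem n (Finset.mem_univ i)
  obtain ⟨m, hm⟩ := hdvd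
  have hmpos : 0 < m := by
    rcases Nat.eq_zero_or_pos m with h | h
    · rw [h, mul_zero] at hm; omega
    · exact h
  have heq : (x₀ ^ N)⁻¹ = ((b i ^ m : B i) : K) := by
    have h1 : ((b i : B i) : K) = (x₀⁻¹) ^ n i := hb i
    rw [Subring.coe_pow, h1, ← pow_mul, ← hm, inv_pow]
  refine ⟨heq ▸ (b i ^ m).2, ?_⟩
  have : (⟨(x₀ ^ N)⁻¹, heq ▸ (b i ^ m).2⟩ : B i) = b i ^ m := Subtype.ext heq
  rw [this]
  exact Ideal.pow_mem_of_mem _ (hbJ i) m hmpos

end Groth.Agent.S1640
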