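import Groth.Statements.S7663
import Groth.Agent.Lib.Helper1.KA3
import Mathlib

set_option autoImplicit false
universe u
open CategoryTheory CategoryTheory.Limits AlgebraicGeometry
open Variety

namespace Groth.Agent.S7663

/-- Let K be a field and A, B ⊆ K subrings with fraction field K, with A Noetherian of dimension one.
Then A ⊗ B → K is not surjective (equivalently, the subring generated by A and B is not K) if and
only if some discrete valuation ring O ⊆ K with fraction field K contains both A and B. -/
theorem result (K : Type u) [Field K]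
    (A : Subring K) [IsFractionRing A K] (B : Subring K) [IsFractionRing B K] [IsNoetherianRing A] (hdim : ringKrullDim A = 1) :
    A ⊔ B ≠ ⊤ ↔ ∃ O : ValuationSubring K, IsDiscreteValuationRing O ∧ A ≤ O.toSubring ∧ B ≤ O.toSubring := by
  constructor
  · intro hne
    -- an element outside `A ⊔ B`
    obtain ⟨x, hx⟩ : ∃ x : K, x ∉ A ⊔ B := by
      by_contra h
      push Not at h
      exact hne (eq_top_iff.mpr fun x _ => h x)
    obtain ⟨a, s, hs, hxs⟩ := IsFractionRing.div_surjective (A := A) x
    have hs0 : (s : K) ≠ 0 := by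
      have := nonZeroDivisors.ne_zero hs
      intro h0
      exact this (Subtype.ext h0)
    have hAC : A ≤ A ⊔ B := le_sup_left
    have hBC : B ≤ A ⊔ B := le_sup_right
    -- `s` is not a unit in `C = A ⊔ B`
    have hsinv : (s : K)⁻¹ ∉ A ⊔ B := by
      intro h
      apply hx
      have hx' : x = (a : K) * (s : K)⁻¹ := by
        rw [← hxs, div_eq_mul_inv]
        rfl
      rw [hx']
      exact Subring.mul_mem _ (hAC a.2) h
    let sC : (A ⊔ B : Subring K) := ⟨(s : K), hAC s.2⟩
    have hI : Ideal.span ({sC} : Set (A ⊔ B : Subring K)) ≠ ⊤ := by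
      intro h
      rw [Ideal.span_singleton_eq_top] at h
      obtain ⟨⟨t, ht⟩, hst⟩ := isUnit_iff_exists_inv.mp h
      apply hsinv
      have h1 : (s : K) * t = 1 := congrArg Subtype.val hst
      have : (s : K)⁻¹ = t := by
        rw [inv_eq_iff_eq_inv]
        exact (eq_inv_of_mul_eq_one_left h1)
      rw [this]
      exact ht
    obtain ⟨V, hCV, hV⟩ := Ideal.image_subset_nonunits_valuationSubring _ hI
    have hsV : (s : K) ∈ V.nonunits := hV ⟨sC, Ideal.subset_span rfl, rfl⟩
    have hAV : A ≤ V.toSubring := hAC.trans hCV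
    have hBV : B ≤ V.toSubring := hBC.trans hCV
    refine ⟨V, ?_, hAV, hBV⟩
    -- `V` is Noetherian by Krull–Akizuki
    let algAV : Algebra A V := (Subring.inclusion hAV).toAlgebra
    have : IsScalarTower A V K := IsScalarTower.of_algebraMap_eq fun r => rfl
    have : IsNoetherianRing V :=
      Groth.Agent.Helper1.KA.isNoetherianRing_of_between A hdim.le K K V
        (fun x y h => Subtype.ext h)
    have hVnf : ¬ IsField V := by
      intro hF
      have hsVmem : (s : K) ∈ V := hAV s.2
      have hne0 : (⟨(s : K), hsVmem⟩ : V) ≠ 0 := fun h => hs0 (congrArg Subtype.val h)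
      obtain ⟨t, ht⟩ := hF.mul_inv_cancel hne0
      have hunit : IsUnit (⟨(s : K), hsVmem⟩ : V) := isUnit_iff_exists_inv.mpr ⟨t, ht⟩
      have hmax : (⟨(s : K), hsVmem⟩ : V) ∈ IsLocalRing.maximalIdeal V :=
        (ValuationSubring.coe_mem_nonunits_iff (a := ⟨(s : K), hsVmem⟩)).mp hsV
      exact (IsLocalRing.mem_maximalIdeal _).mp hmax hunit
    have hval : ValuationRing V := inferInstance
    exact ((IsDiscreteValuationRing.TFAE V hVnf).out 1 0).mp hval
  · rintro ⟨O, hO, hAO, hBO⟩ htop
    have hle : A ⊔ B ≤ O.toSubring := sup_le hAO hBO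
    rw [htop] at hle
    obtain ⟨ϖ, hϖ⟩ := IsDiscreteValuationRing.exists_irreducible O
    have h0 : (ϖ : K) ≠ 0 := fun h => hϖ.ne_zero (Subtype.ext h)
    have hinv : (ϖ : K)⁻¹ ∈ O := hle (Subring.mem_top _)
    apply hϖ.not_isUnit
    exact isUnit_iff_exists_inv.mpr ⟨⟨_, hinv⟩, Subtype.ext (mul_inv_cancel₀ h0)⟩

end Groth.Agent.S7663
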