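import Groth.Statements.S15423
import Groth.Agent.Lib.Helper23.GrSyzCmp

set_option autoImplicit false
universe u
open GrSyz

namespace Groth.Agent.S15423

set_option linter.style.haveILetI false
set_option linter.unusedVariables false
set_option linter.unusedSectionVars false
open GrSyz Groth.Agent.Helper23.GrSyzCmp
set_option linter.unusedVariables false

theorem le_of_forall_int {x y : WithBot (WithTop ℤ)}
    (h : ∀ ρ : ℤ, y ≤ ((ρ : WithTop ℤ) : WithBot (WithTop ℤ)) →
      x ≤ ((ρ : WithTop ℤ) : WithBot (WithTop ℤ))) : x ≤ y := by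
  induction y using WithBot.recBotCoe with
  | bot =>
    induction x using WithBot.recBotCoe with
    | bot => exact le_rfl
    | coe x' =>
      exfalso
      induction x' using WithTop.recTopCoe with
      | top =>
        have := h 0 bot_le
        rw [WithBot.coe_le_coe] at this
        exact WithTop.not_top_le_coe _ this
      | coe z =>
        have := h (z - 1) bot_le
        rw [WithBot.coe_le_coe, WithTop.coe_le_coe] at this
        omega
  | coe y' =>
    induction y' using WithTop.recTopCoe with
    | top => rw [WithBot.coe_top]; exact le_top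
    | coe z => exact h z le_rfl

variable {k : Type u} [Field k] {σ : Type}
  {M : Type u} [AddCommGroup M] [Module k M] [Module (MvPolynomial σ k) M]
  {ℳ : ℤ → Submodule k M} [DirectSum.Decomposition ℳ] [SetLike.GradedSMul (stdGr k σ) ℳ]

/-- the supremum in the statement is bounded by `ρ` iff the resolution is generated in degrees `≤ ρ + i` -/
theorem sup_le_iff (F : FreeRes (stdGr k σ) ℳ) (ρ : ℤ) :
    (⨆ i : ℕ, WithBot.map (fun t : ℤ => ((t - (i : ℤ) : ℤ) : WithTop ℤ)) (F.maxGenDeg i)) ≤
      ((ρ : WithTop ℤ) : WithBot (WithTop ℤ)) ↔ F.IsGenLE ρ := by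
  rw [iSup_le_iff]
  constructor
  · intro h i b
    have h1 : ((F.deg i b : ℤ) : WithBot ℤ) ≤ F.maxGenDeg i :=
      Finset.le_sup (f := fun b : Fin (F.rk i) => (F.deg i b : WithBot ℤ)) (Finset.mem_univ b)
    have hmono : Monotone (fun t : ℤ => ((t - (i : ℤ) : ℤ) : WithTop ℤ)) := by
      intro x y hxy
      simp only [WithTop.coe_le_coe]
      omega
    have h2 := (WithBot.monotone_map_iff.2 hmono) h1
    have h3 := le_trans h2 (h i)
    rw [WithBot.map_coe, WithBot.coe_le_coe, WithTop.coe_le_coe] at h3
    omega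
  · intro h i
    have h1 : F.maxGenDeg i ≤ ((ρ + i : ℤ) : WithBot ℤ) := by
      apply Finset.sup_le
      intro b _
      exact WithBot.coe_le_coe.2 (h i b)
    have hmono : Monotone (fun t : ℤ => ((t - (i : ℤ) : ℤ) : WithTop ℤ)) := by
      intro x y hxy
      simp only [WithTop.coe_le_coe]
      omega
    have h2 := (WithBot.monotone_map_iff.2 hmono) h1
    refine le_trans h2 ?_
    rw [WithBot.map_coe, WithBot.coe_le_coe, WithTop.coe_le_coe]
    omega

theorem main (F : FreeRes (stdGr k σ) ℳ) (hF : F.IsMinimal (irrel (stdGr k σ)).toIdeal) :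
    reg (stdGr k σ) ℳ (irrel (stdGr k σ)).toIdeal =
      ⨆ i : ℕ, WithBot.map (fun t : ℤ => ((t - (i : ℤ) : ℤ) : WithTop ℤ)) (F.maxGenDeg i) := by
  apply le_antisymm
  · apply le_of_forall_int
    intro ρ hρ
    have hgen := (sup_le_iff F ρ).1 hρ
    exact iInf₂_le ρ ⟨F, hF, hgen⟩
  · unfold reg
    apply le_iInf₂
    rintro ρ ⟨F', hF', hgen'⟩
    rw [sup_le_iff]
    intro i b
    obtain ⟨a, ha⟩ := exists_deg_eq F F' hF i b
    rw [← ha]
    exact hgen' i a

/-- Let k be a field, S = k[x_0, …, x_r] graded by degree, 𝔪 = (x_0, …, x_r), M a finitely generated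
ℤ-graded S-module and F a minimal graded free resolution of M by finite-rank free modules with
homogeneous bases (all matrix entries in 𝔪). Then the Castelnuovo–Mumford regularity of M (an
extended integer) is the supremum over i ≥ 0 of t_i − i, where t_i is the largest degree of a basis
vector of F_i, that is the largest nonzero degree of Tor_i^S(M, k) (−∞ when F_i = 0). In particular
the value does not depend on the minimal resolution chosen. -/
theorem result (k : Type u) [Field k] (r : ℕ)
    (M : Type u) [AddCommGroup M] [Module k M] [Module (MvPolynomial (Fin (r + 1)) k) M]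
    [IsScalarTower k (MvPolynomial (Fin (r + 1)) k) M] [Module.Finite (MvPolynomial (Fin (r + 1)) k) M]
    (ℳ : ℤ → Submodule k M) [DirectSum.Decomposition ℳ] [SetLike.GradedSMul (GrSyz.stdGr k (Fin (r + 1))) ℳ]
    (F : GrSyz.FreeRes (GrSyz.stdGr k (Fin (r + 1))) ℳ) (hF : F.IsMinimal (GrSyz.irrel (GrSyz.stdGr k (Fin (r + 1)))).toIdeal) :
    GrSyz.reg (GrSyz.stdGr k (Fin (r + 1))) ℳ (GrSyz.irrel (GrSyz.stdGr k (Fin (r + 1)))).toIdeal =
      ⨆ i : ℕ, WithBot.map (fun t : ℤ => ((t - (i : ℤ) : ℤ) : WithTop ℤ)) (F.maxGenDeg i) := by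
  exact main F hF

end Groth.Agent.S15423
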