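import Groth.Statements.S0931
import Groth.Agent.Lib.Helper24.HDSheaf

set_option autoImplicit false
universe u
open CategoryTheory
open CohSite

namespace Groth.Agent.S0931

open Groth.Agent.Helper24.HDSheaf

/-- the comparison morphism of presheaves -/
noncomputable def cPsh {C : Type u} [SmallCategory C] {J : GrothendieckTopology C}
    [HasDerivedCategory.{u} (Sheaf J AddCommGrpCat.{u})] (K : DerivedCategory (Sheaf J AddCommGrpCat.{u}))
    (q : ℤ) : CohCx.HDUPresheaf K q ⟶ (CohCx.HD K q).obj where
  app U := AddCommGrpCat.ofHom (cSec K q U.unop)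
  naturality U V g := by
    ext φ
    exact cSec_res K q g.unop φ

/-- Let K be an object of the derived category of abelian sheaves on a site and q an integer. Then the
sheafification of the presheaf U ↦ H^q(U, K) is isomorphic to the q-th cohomology sheaf H^q(K). -/
theorem result {C : Type u} [SmallCategory C] {J : GrothendieckTopology C}
    [HasDerivedCategory.{u} (Sheaf J AddCommGrpCat.{u})] (K : DerivedCategory (Sheaf J AddCommGrpCat.{u}))
    (q : ℤ) :
    Nonempty ((presheafToSheaf J AddCommGrpCat.{u}).obj (CohCx.HDUPresheaf K q) ≅ CohCx.HD K q) := by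
  have hinj : Presheaf.IsLocallyInjective J (cPsh K q) := by
    constructor
    intro U φ ψ h
    let φ' : CohCx.HDU K q U.unop := φ
    let ψ' : CohCx.HDU K q U.unop := ψ
    have h' : cSec K q U.unop φ' = cSec K q U.unop ψ' := h
    have h0 : cSec K q U.unop (φ' - ψ') = 0 := by
      rw [map_sub, sub_eq_zero]
      exact h'
    obtain ⟨S, hS, hS'⟩ := cSec_locally_inj K q U.unop (φ' - ψ') h0
    refine J.superset_covering ?_ hS
    intro V g hg
    have h1 := hS' g hg
    rw [map_sub, sub_eq_zero] at h1
    exact h1
  have hsurj : Presheaf.IsLocallySurjective J (cPsh K q) := by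
    constructor
    intro U s
    obtain ⟨S, hS, hS'⟩ := cSec_locally_surj K q U s
    refine J.superset_covering ?_ hS
    intro V g hg
    obtain ⟨φ, hφ⟩ := hS' g hg
    exact ⟨φ, hφ⟩
  have hW : J.W (cPsh K q) := by
    rw [GrothendieckTopology.W_iff_isLocallyBijective]
    exact ⟨hinj, hsurj⟩
  have hiso : IsIso ((presheafToSheaf J AddCommGrpCat.{u}).map (cPsh K q)) :=
    (GrothendieckTopology.W_iff J (cPsh K q)).1 hW
  exact ⟨asIso ((presheafToSheaf J AddCommGrpCat.{u}).map (cPsh K q)) ≪≫
    asIso ((sheafificationAdjunction J AddCommGrpCat.{u}).counit.app (CohCx.HD K q))⟩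

end Groth.Agent.S0931
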