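import Groth.Statements.S0880
import Groth.Agent.Lib.Helper24.HDSheaf
import Groth.Agent.Lib.Helper24.RlimSeq2

set_option autoImplicit false
universe u
open CategoryTheory
open CohSite

namespace Groth.Agent.S0880

open Groth.Agent.Helper24.HDSheaf Groth.Agent.Helper24.RlimSeq

open Opposite CategoryTheory.Limits in
/-- Let (K_n) be an inverse system in the derived category of abelian sheaves on a site with derived
limit L through maps a_n : L -> K_n, V an object and m an integer. Suppose there is an index n(V)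
such that every covering sieve of V contains a covering family {V_i -> V} with, for each i, (1)
vanishing R^1 lim of the system H^{m-1}(V_i, K_n) and (2) H^m(V_i, K_n) -> H^m(V_i, K_{n(V)})
injective for n >= n(V). Then H^m(L)(V) -> H^m(K_{n(V)})(V) is injective. -/
theorem result {C : Type u} [SmallCategory C]
    {J : GrothendieckTopology C} [HasDerivedCategory.{u} (Sheaf J AddCommGrpCat.{u})]
    (K : ℕ → DerivedCategory (Sheaf J AddCommGrpCat.{u})) (t : ∀ n, K (n + 1) ⟶ K n) [HasProduct K]
    (L : DerivedCategory (Sheaf J AddCommGrpCat.{u})) (a : ∀ n, L ⟶ K n) (hL : CohCx.IsRlimVia K t L a)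
    (V : C) (m : ℤ) (nV : ℕ)
    (h : ∀ T ∈ J V, ∃ (ι : Type u) (Y : ι → C) (f : ∀ i, Y i ⟶ V), (∀ i, T.arrows (f i)) ∧
      Sieve.ofArrows Y f ∈ J V ∧ ∀ i,
        CohCx.LimOneIsZero (fun n => CohCx.HDU (K n) (m - 1) (Y i))
          (fun n => Preadditive.rightComp _ ((shiftFunctor _ (m - 1)).map (t n))) ∧
        ∀ k : ℕ, Function.Injective
          (Preadditive.rightComp _ ((shiftFunctor _ m).map (CohCx.transition K t nV k)) :
            CohCx.HDU (K (nV + k)) m (Y i) → CohCx.HDU (K nV) m (Y i))) :
    Function.Injective (((DerivedCategory.homologyFunctor _ m).map (a nV)).hom.app (op V)) := by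
  rw [← AddCommGrpCat.mono_iff_injective, AddCommGrpCat.mono_iff_injective, injective_iff_map_eq_zero]
  intro γ hγ
  -- the sieve of arrows on which `γ` comes from a class dying in `K nV`
  let T : Sieve V :=
    { arrows := fun W g => ∃ φ : CohCx.HDU L m W,
        cSec L m W φ = ((CohCx.HD L m).obj.map g.op).hom γ ∧
          (φ ≫ (shiftFunctor _ m).map (a nV) : CohCx.HDU (K nV) m W) = 0
      downward_closed := by
        rintro W W' g ⟨φ, h1, h2⟩ k
        refine ⟨CohCx.HDUres L m k φ, ?_, ?_⟩
        · rw [cSec_res, h1, op_comp, Functor.map_comp]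
          rfl
        · change ((DerivedCategory.singleFunctor _ 0).map (CohCx.freeSheafMap J k) ≫ φ) ≫ _ = 0
          rw [Category.assoc, h2, comp_zero] }
  have hT : T ∈ J V := by
    obtain ⟨S₁, hS₁, h1⟩ := cSec_locally_surj L m V γ
    refine J.transitive hS₁ T (fun W g hg => ?_)
    obtain ⟨φ, hφ⟩ := h1 g hg
    have h2 : cSec (K nV) m W (φ ≫ (shiftFunctor _ m).map (a nV)) = 0 := by
      rw [cSec_postcomp, hφ]
      have hnat : (((DerivedCategory.homologyFunctor _ m).map (a nV)).hom.app (op W)).hom
          (((CohCx.HD L m).obj.map g.op).hom γ) =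
          ((CohCx.HD (K nV) m).obj.map g.op).hom
            ((((DerivedCategory.homologyFunctor _ m).map (a nV)).hom.app (op V)).hom γ) :=
        ConcreteCategory.congr_hom
          (((DerivedCategory.homologyFunctor _ m).map (a nV)).hom.naturality g.op) γ
      rw [hnat]
      erw [hγ]
      rw [map_zero]
    obtain ⟨S₂, hS₂, h3⟩ := cSec_locally_inj (K nV) m W _ h2
    refine J.superset_covering ?_ hS₂
    intro W' k hk
    refine ⟨CohCx.HDUres L m k φ, ?_, ?_⟩
    · rw [cSec_res, hφ, op_comp, Functor.map_comp]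
      rfl
    · have h4 := h3 k hk
      change (DerivedCategory.singleFunctor _ 0).map (CohCx.freeSheafMap J k) ≫
        (φ ≫ (shiftFunctor _ m).map (a nV)) = 0 at h4
      change ((DerivedCategory.singleFunctor _ 0).map (CohCx.freeSheafMap J k) ≫ φ) ≫ _ = 0
      rw [Category.assoc]
      exact h4
  obtain ⟨ι, Y, f, hf, hcov, hY⟩ := h T hT
  have hzero : ∀ i, ((CohCx.HD L m).obj.map (f i).op).hom γ = 0 := by
    intro i
    obtain ⟨φ, h1, h2⟩ := hf i
    obtain ⟨hlim, hinj⟩ := hY i
    have hφ : φ = 0 :=
      rlim_unique' hL ((DerivedCategory.singleFunctor _ 0).obj (CohCx.freeSheaf J (Y i))) m hlim nV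
        hinj φ h2
    rw [← h1, hφ, map_zero]
  have hsep : Presheaf.IsSeparated J (CohCx.HD L m).obj := Sheaf.isSeparated (CohCx.HD L m)
  have := hsep V (Sieve.ofArrows Y f) hcov γ 0 (by
    rintro W g ⟨Z, k, g', ⟨i⟩, rfl⟩
    rw [op_comp, Functor.map_comp]
    change ((CohCx.HD L m).obj.map k.op).hom (((CohCx.HD L m).obj.map (f i).op).hom γ) =
      ((CohCx.HD L m).obj.map k.op).hom (((CohCx.HD L m).obj.map (f i).op).hom 0)
    rw [hzero i, map_zero, map_zero, map_zero])
  exact this

end Groth.Agent.S0880
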