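import Groth.Statements.S0881
import Groth.Agent.S0880
import Groth.Agent.Lib.Helper24.RlimTrunc2

set_option autoImplicit false
universe u
open CategoryTheory
open CohSite

namespace Groth.Agent.S0881


open Groth.Agent.Helper24.RlimTrunc

open CategoryTheory.Limits in

open CategoryTheory.Limits in
/-- Take an object E of the derived category of abelian sheaves on a site together with a class B of
objects covering every object, and suppose every V in B has a function p(V, -) such that every
covering sieve of V contains a covering family {V_i -> V} with H^p(V_i, H^{m-p}(E)) = 0 for all m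
and all p > p(V, m). Then E is a derived limit of the tower τ_{≥ -n} E through the canonical maps
(the existence of the product of the truncations is assumed). -/
theorem result {C : Type u} [SmallCategory C]
    {J : GrothendieckTopology C} [HasDerivedCategory.{u} (Sheaf J AddCommGrpCat.{u})]
    (E : DerivedCategory (Sheaf J AddCommGrpCat.{u})) [HasProduct (CohCx.truncTower E)] (B : Set C)
    (hB : ∀ U : C, ∃ (ι : Type u) (Y : ι → C) (f : ∀ i, Y i ⟶ U), Sieve.ofArrows Y f ∈ J U ∧ ∀ i, Y i ∈ B)
    (h : ∀ V ∈ B, ∃ p : ℤ → ℤ, ∀ T ∈ J V, ∃ (ι : Type u) (Y : ι → C) (f : ∀ i, Y i ⟶ V),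
      (∀ i, T.arrows (f i)) ∧ Sieve.ofArrows Y f ∈ J V ∧
      ∀ (i : ι) (m : ℤ) (k : ℕ), p m < k → Subsingleton (CohSite.HU (CohCx.HD E (m - k)) k (Y i))) :
    CohCx.IsRlimVia (CohCx.truncTower E) (CohCx.truncTowerMap E) E (CohCx.toTruncTower E) := by
  refine isRlimVia_truncTower_of_homology E (fun L a' hL ψ hψ m => ?_)
  apply isIso_of_locally_bijective
  intro U
  obtain ⟨ι, Y, f, hcov, hY⟩ := hB U
  refine ⟨ι, Y, f, hcov, fun i => ?_⟩
  obtain ⟨p, hp⟩ := h (Y i) (hY i)
  obtain ⟨nV, h0, h1, h2, h3⟩ : ∃ nV : ℕ, -m ≤ nV ∧ p (m - 1) < nV + m ∧ p m < nV + m + 1 ∧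
      p (m + 1) < nV + m + 2 := by
    refine ⟨(|m| + |p (m - 1)| + |p m| + |p (m + 1)| + 1).toNat, ?_⟩
    have e0 := abs_nonneg m
    have e1 := abs_nonneg (p (m - 1))
    have e2 := abs_nonneg (p m)
    have e3 := abs_nonneg (p (m + 1))
    have f0 := neg_abs_le m
    have f0' := le_abs_self m
    have f1 := le_abs_self (p (m - 1))
    have f2 := le_abs_self (p m)
    have f3 := le_abs_self (p (m + 1))
    rw [Int.toNat_of_nonneg (by omega)]
    refine ⟨?_, ?_, ?_, ?_⟩ <;> omega
  apply bijective_sections_of_injective E L ψ nV (a' nV) (hψ nV) m (by omega) (Y i)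
  refine Groth.Agent.S0880.result (CohCx.truncTower E) (CohCx.truncTowerMap E) L a' hL (Y i) m nV
    (fun T hT => ?_)
  obtain ⟨ι', Y', f', hf', hcov', hv⟩ := hp T hT
  refine ⟨ι', Y', f', hf', hcov', fun i' => ?_⟩
  exact tower_conditions E (CohCx.freeSheaf J (Y' i')) p (fun m' k hk => hv i' m' k hk) m nV
    h0 h1 h2 h3

end Groth.Agent.S0881
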