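import Groth.Statements.S0800
import Groth.Agent.Lib.Helper13.ColimCoh
import Groth.Agent.Lib.Helper13.RpushColim

set_option autoImplicit false
universe u
open Coherent

namespace Groth.Agent.S0800

open Coherent

open CategoryTheory CategoryTheory.Limits AlgebraicGeometry in

open CategoryTheory CategoryTheory.Limits AlgebraicGeometry in
/-- Let f : X → S be quasi-compact and quasi-separated. Then for every p the higher direct image functor
R^p f_* on abelian sheaves (on the underlying spaces) preserves filtered colimits. -/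
theorem result {X S : Scheme.{u}} (f : X ⟶ S) [QuasiCompact f]
    [QuasiSeparated f] (p : ℕ) (J : Type u) [SmallCategory J] [IsFiltered J] :
    PreservesColimitsOfShape J (Coh.RpushAb f p) := by
  refine ⟨fun {F} => ?_⟩
  have key := Groth.Agent.Helper13.RpushColim.main (Opens.grothendieckTopology X)
    (Opens.grothendieckTopology S) (TopologicalSpace.Opens.map f.base) F p ?_
  · exact key
  · intro V
    refine ⟨{W : S.affineOpens // W.1 ≤ V}, fun k => k.1.1, fun k => homOfLE k.2, ?_, ?_⟩
    · intro x hx
      obtain ⟨W, hW, hxW, hWV⟩ := TopologicalSpace.Opens.isBasis_iff_nbhd.mp S.isBasis_affineOpens hx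
      exact ⟨W, homOfLE hWV, Sieve.ofArrows_mk _ _ (⟨⟨W, hW⟩, hWV⟩ : {W : S.affineOpens // W.1 ≤ V}), hxW⟩
    · intro k
      have hc : IsCompact ((f ⁻¹ᵁ k.1.1 : X.Opens) : Set X) :=
        QuasiCompact.isCompact_preimage (f := f) _ k.1.1.isOpen k.1.2.isCompact
      have hq : IsQuasiSeparated ((f ⁻¹ᵁ k.1.1 : X.Opens) : Set X) :=
        f.isQuasiSeparated_preimage k.1.2.isQuasiSeparated
      have hqs : Groth.Agent.Helper13.ColimSec.QSep (X := X.toTopCat) (f ⁻¹ᵁ k.1.1) := by
        intro V' W' hV' hW' hV'c hW'c
        exact hq _ _ hV' V'.isOpen hV'c hW' W'.isOpen hW'c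
      haveI : PrespectralSpace X.toTopCat := inferInstanceAs (PrespectralSpace X)
      have := Groth.Agent.Helper13.ColimCoh.preservesColimitsOfShape_HU (X := X.toTopCat) (J := J)
        (f ⁻¹ᵁ k.1.1) hc hqs p
      exact this.preservesColimit

end Groth.Agent.S0800
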