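import Groth.Statements.S0031
import Mathlib
import Groth.Prelude.Def_Coh
import Groth.Prelude.Def_CohB1
import Groth.Agent.Lib.Helper13.RpushShf
import Groth.Agent.Lib.Helper13.ShfZero
import Groth.Agent.Lib.Helper13.RelVanish

set_option autoImplicit false
universe u
open Coherent

namespace Groth.Agent.S0031

open AlgebraicGeometry CategoryTheory

open AlgebraicGeometry CategoryTheory in

open AlgebraicGeometry CategoryTheory in
/-- If f : X → S is quasi-compact and quasi-separated and S is quasi-compact, there is an integer n with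
R^p f_* F = 0 for all p ≥ n and all quasi-coherent F (higher direct images of the underlying abelian
sheaves). -/
theorem result {X S : Scheme.{u}} (f : X ⟶ S) [QuasiCompact f]
    [QuasiSeparated f] [CompactSpace S] :
    ∃ n : ℕ, ∀ (M : X.Modules), Coh.IsQCoh M → ∀ p : ℕ, n ≤ p →
      Limits.IsZero ((Coh.RpushAb f p).obj (Coh.toAb M)) := by
  obtain ⟨s, hs, hsU⟩ := (isCompact_iff_finite_and_eq_biUnion_affineOpens
    (U := (⊤ : S.Opens))).1 isCompact_univ
  have hk : ∀ V : s, ∃ d : ℕ, ∀ (M : X.Modules), Coh.IsQCoh M → ∀ (g : Γ(S, V.1.1)) (p : ℕ), d ≤ p →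
      Subsingleton (CohTop.HU (X := X.toTopCat) (Coh.toAb M) p
        (f ⁻¹ᵁ V.1.1 ⊓ f ⁻¹ᵁ (S.basicOpen g))) := fun V =>
    Groth.Agent.Helper13.RelVanish.key f V.1.1 V.1.2 (f ⁻¹ᵁ V.1.1)
      (f.isCompact_preimage V.1.2.isCompact) le_rfl
  choose d hd using hk
  haveI : Finite s := hs.to_subtype
  obtain ⟨N, hN⟩ := (Set.finite_range d).bddAbove
  refine ⟨N, fun M hM p hp => ?_⟩
  obtain ⟨e⟩ := Groth.Agent.Helper13.RpushShf.main (Opens.grothendieckTopology X)
    (Opens.grothendieckTopology S) (TopologicalSpace.Opens.map f.base) (Coh.toAb M) p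
  refine Limits.IsZero.of_iso ?_ e
  refine Groth.Agent.Helper13.ShfZero.isZero_presheafToSheaf_of_basis (Y := S.toTopCat) _
    {W | ∃ (V : s) (g : Γ(S, V.1.1)), W = S.basicOpen g} ?_ ?_
  · rw [TopologicalSpace.Opens.isBasis_iff_nbhd]
    intro U x hxU
    have hx : x ∈ (⊤ : S.Opens) := trivial
    rw [hsU] at hx
    simp only [TopologicalSpace.Opens.mem_iSup] at hx
    obtain ⟨V, hVs, hxV⟩ := hx
    obtain ⟨g, hg1, hg2⟩ := V.2.exists_basicOpen_le ⟨x, hxU⟩ hxV
    exact ⟨S.basicOpen g, ⟨⟨V, hVs⟩, g, rfl⟩, hg2, hg1⟩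
  · rintro W ⟨V, g, rfl⟩
    have h1 := hd V M hM g p ((hN ⟨V, rfl⟩).trans hp)
    have h2 : f ⁻¹ᵁ V.1.1 ⊓ f ⁻¹ᵁ (S.basicOpen g) = f ⁻¹ᵁ (S.basicOpen g) :=
      inf_eq_right.2 (f.preimage_mono (S.basicOpen_le g))
    rw [h2] at h1
    exact h1

end Groth.Agent.S0031
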