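import Groth.Statements.S1007
import Groth.Agent.Lib.Helper24.RlimTruncMod
import Groth.Agent.Lib.Helper13.AffineVanish

set_option autoImplicit false
universe u
open CategoryTheory CategoryTheory.Limits AlgebraicGeometry
attribute [local instance] HasDerivedCategory.standard
open Perf

namespace Groth.Agent.S1007


open TopologicalSpace Opposite

theorem affine_cover (X : Scheme.{u}) (U : X.Opens) :
    ∃ (ι : Type u) (Y : ι → X.Opens) (f : ∀ i, Y i ⟶ U),
      Sieve.ofArrows Y f ∈ (Opens.grothendieckTopology X) U ∧ ∀ i, Y i ∈ {V : X.Opens | IsAffineOpen V} := by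
  refine ⟨{V : X.Opens // IsAffineOpen V ∧ V ≤ U}, fun V => V.1, fun V => homOfLE V.2.2, ?_,
    fun V => V.2.1⟩
  intro x hx
  obtain ⟨_, ⟨V, hV, rfl⟩, hxV, hVU⟩ := X.isBasis_affineOpens.exists_subset_of_mem_open hx U.2
  exact ⟨V, homOfLE hVU, Sieve.ofArrows_mk (fun W : {V : X.Opens // IsAffineOpen V ∧ V ≤ U} => W.1)
    (fun W => homOfLE W.2.2) ⟨V, hV, hVU⟩, hxV⟩

/-- Let X be a scheme and E an object of D(O_X) with quasi-coherent cohomology sheaves. Then the
canonical map from E to the derived limit of its truncations τ_{≥ -n}E is an isomorphism; concretely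
(granted the countable product of the truncations exists in D(O_X), which holds): the map E ⟶ ∏
τ_{≥-n}E with components the truncation morphisms, followed by 'identity minus transition', extends
to a distinguished triangle E ⟶ ∏ τ_{≥-n}E ⟶ ∏ τ_{≥-n}E ⟶ E[1]. -/
theorem result (X : Scheme.{u}) (E : DCoh.D X) (hE : DCoh.IsQCohD E)
    [HasProduct (fun n : ℕ => ((DerivedCategory.TStructure.t : CategoryTheory.Triangulated.TStructure (DCoh.D X)).truncGE (-(n : ℤ))).obj E)] :
    ∃ c : (∏ᶜ fun n : ℕ => ((DerivedCategory.TStructure.t : CategoryTheory.Triangulated.TStructure (DCoh.D X)).truncGE (-(n : ℤ))).obj E) ⟶ E⟦(1 : ℤ)⟧,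
      CategoryTheory.Pretriangulated.Triangle.mk
        (Pi.lift fun n : ℕ => ((DerivedCategory.TStructure.t : CategoryTheory.Triangulated.TStructure (DCoh.D X)).truncGEπ (-(n : ℤ))).app E)
        (Pi.lift fun n : ℕ => Pi.π (fun n : ℕ => ((DerivedCategory.TStructure.t : CategoryTheory.Triangulated.TStructure (DCoh.D X)).truncGE (-(n : ℤ))).obj E) n -
          Pi.π (fun n : ℕ => ((DerivedCategory.TStructure.t : CategoryTheory.Triangulated.TStructure (DCoh.D X)).truncGE (-(n : ℤ))).obj E) (n + 1) ≫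
            ((DerivedCategory.TStructure.t : CategoryTheory.Triangulated.TStructure (DCoh.D X)).natTransTruncGEOfLE (-((n + 1 : ℕ) : ℤ)) (-(n : ℤ)) (Int.neg_le_neg (Int.ofNat_le.mpr (Nat.le_succ n)))).app E)
        c ∈ CategoryTheory.Pretriangulated.distinguishedTriangles := by
  let E' : DerivedCategory (ModSite.Mod X.sheaf) := E
  haveI inst : HasProduct (CohCx.truncTower E') := ‹_›
  have key := Groth.Agent.Helper24.RlimTrunc.isRlimVia_truncTower_mod (O := X.sheaf) E' ?_
  · exact key
  · intro U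
    obtain ⟨ι, Y, f, hcov, hY⟩ := affine_cover X U
    refine ⟨ι, Y, f, hcov, fun i => ⟨fun _ => 0, fun T hT => ?_⟩⟩
    obtain ⟨ι', Y', f', hf', hcov', hB'⟩ := Groth.Agent.Helper24.RlimTrunc.exists_cover_in
      (J := Opens.grothendieckTopology X) {V : X.Opens | IsAffineOpen V} (affine_cover X) (Y i) T hT
    refine ⟨ι', Y', f', hf', hcov', fun i' m k hk => ?_⟩
    obtain ⟨k', rfl⟩ : ∃ k', k = k' + 1 := ⟨k - 1, by
      have : (0 : ℤ) < k := hk
      omega⟩
    haveI : Coh.IsQCoh (DCoh.HD E (m - ((k' + 1 : ℕ) : ℤ))) :=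
      hE (m - ((k' + 1 : ℕ) : ℤ))
    exact Groth.Agent.Helper13.AffineVanish.HU_subsingleton_of_isAffineOpen
      (DCoh.HD E (m - ((k' + 1 : ℕ) : ℤ))) (Y' i') (hB' i') k'

end Groth.Agent.S1007
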