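import Groth.Statements.S6593
import Mathlib

set_option autoImplicit false
universe w v u
open CategoryTheory CategoryTheory.Limits
open CohDer

namespace Groth.Agent.S6593

section
open CategoryTheory.Pretriangulated
variable {D : Type u} [Category.{v} D] [Preadditive D] [HasZeroObject D] [HasShift D ℤ]
    [∀ n : ℤ, (shiftFunctor D n).Additive] [Pretriangulated D]

lemma shift_desc {J : Type w} (Xs : J → D) [HasCoproduct Xs] {A : D}
    (ψ : ∀ j, (shiftFunctor D (1 : ℤ)).obj (Xs j) ⟶ A) :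
    ∃ Ψ : (shiftFunctor D (1 : ℤ)).obj (∐ Xs) ⟶ A,
      ∀ j, (shiftFunctor D (1 : ℤ)).map (Sigma.ι Xs j) ≫ Ψ = ψ j := by
  have hc := isColimitOfPreserves (shiftFunctor D (1 : ℤ)) (coproductIsCoproduct Xs)
  let s : Cocone (Discrete.functor Xs ⋙ shiftFunctor D (1 : ℤ)) :=
    { pt := A, ι := Discrete.natTrans (fun ⟨j⟩ => ψ j) }
  exact ⟨hc.desc s, fun j => hc.fac s ⟨j⟩⟩

lemma shift_hom_ext {J : Type w} (Xs : J → D) [HasCoproduct Xs] {A : D}
    (u v : (shiftFunctor D (1 : ℤ)).obj (∐ Xs) ⟶ A)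
    (h : ∀ j, (shiftFunctor D (1 : ℤ)).map (Sigma.ι Xs j) ≫ u =
      (shiftFunctor D (1 : ℤ)).map (Sigma.ι Xs j) ≫ v) : u = v := by
  have hc := isColimitOfPreserves (shiftFunctor D (1 : ℤ)) (coproductIsCoproduct Xs)
  exact hc.hom_ext (fun ⟨j⟩ => h j)

end

set_option backward.defeqAttrib.useBackward true in
set_option backward.isDefEq.respectTransparency false in
open CategoryTheory.Pretriangulated ZeroObject Category Preadditive in
/-- Let D be a pretriangulated category and (X_i → Y_i → Z_i → X_i⟦1⟧)_{i ∈ I} a family of distinguished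
triangles. If the direct sums ⨁ X_i, ⨁ Y_i, ⨁ Z_i exist, then ⨁ X_i → ⨁ Y_i → ⨁ Z_i → (⨁ X_i)⟦1⟧ is
a distinguished triangle (the last map is induced by the composites Z_i → X_i⟦1⟧ → (⨁ X_i)⟦1⟧). -/
theorem result {D : Type u} [Category.{v} D] [Preadditive D] [HasZeroObject D] [HasShift D ℤ]
    [∀ n : ℤ, (shiftFunctor D n).Additive] [Pretriangulated D]
    {J : Type w} (T : J → Triangle D) (hT : ∀ j, T j ∈ distinguishedTriangles)
    [HasCoproduct (fun j => (T j).obj₁)] [HasCoproduct (fun j => (T j).obj₂)] [HasCoproduct (fun j => (T j).obj₃)] :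
    Triangle.mk (Limits.Sigma.map (fun j => (T j).mor₁)) (Limits.Sigma.map (fun j => (T j).mor₂))
      (Sigma.desc (fun j => (T j).mor₃ ≫ (shiftFunctor D (1 : ℤ)).map (Sigma.ι (fun j => (T j).obj₁) j))) ∈ distinguishedTriangles := by
  classical
  let Xs := fun j => (T j).obj₁
  let Ys := fun j => (T j).obj₂
  let Zs := fun j => (T j).obj₃
  let F : ∐ Xs ⟶ ∐ Ys := Limits.Sigma.map (fun j => (T j).mor₁)
  let G : ∐ Ys ⟶ ∐ Zs := Limits.Sigma.map (fun j => (T j).mor₂)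
  let Hh : ∐ Zs ⟶ (shiftFunctor D (1 : ℤ)).obj (∐ Xs) :=
    Sigma.desc (fun j => (T j).mor₃ ≫ (shiftFunctor D (1 : ℤ)).map (Sigma.ι Xs j))
  obtain ⟨Z', g', h', hT'⟩ := distinguished_cocone_triangle F
  have hc : ∀ j, ∃ c : Zs j ⟶ Z', (T j).mor₂ ≫ c = Sigma.ι Ys j ≫ g' ∧
      (T j).mor₃ ≫ (shiftFunctor D (1 : ℤ)).map (Sigma.ι Xs j) = c ≫ h' := fun j =>
    complete_distinguished_triangle_morphism (T j) (Triangle.mk F g' h') (hT j) hT'
      (Sigma.ι Xs j) (Sigma.ι Ys j) (by simp [F, Xs, Ys])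
  choose c hc1 hc2 using hc
  let C : ∐ Zs ⟶ Z' := Sigma.desc c
  have hGC : G ≫ C = g' := by
    apply Sigma.hom_ext
    intro j
    simp [G, C, hc1, Ys, Zs]
  have hHh : Hh = C ≫ h' := by
    apply Sigma.hom_ext
    intro j
    simp [Hh, C, hc2, Zs]
  have hFG : F ≫ G = 0 := by
    apply Sigma.hom_ext
    intro j
    simp only [F, G, Xs, Ys, Limits.Sigma.ι_map_assoc, Limits.Sigma.ι_map, comp_zero]
    rw [← assoc, comp_distTriang_mor_zero₁₂ _ (hT j), zero_comp]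
  suffices IsIso C by
    refine isomorphic_distinguished _ hT' _ ?_
    exact Triangle.isoMk _ _ (Iso.refl _) (Iso.refl _) (asIso C) (by simp [F])
      (by simpa using hGC) (by simpa using hHh)
  refine isIso_of_coyoneda_map_bijective _ (fun A => ⟨?_, ?_⟩)
  · suffices ∀ a : Z' ⟶ A, C ≫ a = 0 → a = 0 by
      intro a₁ a₂ ha
      have := this (a₁ - a₂) (by dsimp at ha; rw [comp_sub, ha, sub_self])
      exact sub_eq_zero.1 this
    intro a ha
    have hca : ∀ j, c j ≫ a = 0 := fun j => by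
      have := congrArg (fun t => Sigma.ι Zs j ≫ t) ha
      simpa [C] using this
    have hg'a : g' ≫ a = 0 := by
      apply Sigma.hom_ext
      intro j
      rw [← assoc, ← hc1, assoc, hca, comp_zero, comp_zero]
    obtain ⟨b, hb⟩ := Triangle.yoneda_exact₃ _ hT' a hg'a
    dsimp at b hb
    have hψ : ∀ j, ∃ ψ : (shiftFunctor D (1 : ℤ)).obj (Ys j) ⟶ A,
        (shiftFunctor D (1 : ℤ)).map (Sigma.ι Xs j) ≫ b =
          (shiftFunctor D (1 : ℤ)).map (T j).mor₁ ≫ ψ := fun j => by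
      have h0 : (T j).mor₃ ≫ (shiftFunctor D (1 : ℤ)).map (Sigma.ι Xs j) ≫ b = 0 := by
        rw [← assoc, hc2, assoc, ← hb, hca]
      obtain ⟨ψ, hψ⟩ := Triangle.yoneda_exact₃ _ (rot_of_distTriang _ (hT j)) _ h0
      dsimp at ψ hψ
      exact ⟨-ψ, by rw [hψ]; simp⟩
    choose ψ hψ using hψ
    obtain ⟨Ψ, hΨ⟩ := shift_desc Ys ψ
    have hbΨ : b = (shiftFunctor D (1 : ℤ)).map F ≫ Ψ := by
      apply shift_hom_ext Xs
      intro j
      rw [hψ, ← assoc, ← Functor.map_comp]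
      have : Sigma.ι Xs j ≫ F = (T j).mor₁ ≫ Sigma.ι Ys j := by simp [F, Xs, Ys]
      rw [this, Functor.map_comp, assoc, hΨ]
    rw [hb, hbΨ, ← assoc]
    have := comp_distTriang_mor_zero₃₁ _ hT'
    dsimp at this
    rw [this, zero_comp]
  · intro a
    dsimp
    have h1 : F ≫ G ≫ a = 0 := by rw [← assoc, hFG, zero_comp]
    obtain ⟨a₀, ha₀⟩ := Triangle.yoneda_exact₂ _ hT' (G ≫ a) h1
    dsimp at a₀ ha₀
    have hb : ∀ j, ∃ b : (shiftFunctor D (1 : ℤ)).obj (Xs j) ⟶ A,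
        Sigma.ι Zs j ≫ (a - C ≫ a₀) = (T j).mor₃ ≫ b := fun j => by
      have h0 : (T j).mor₂ ≫ Sigma.ι Zs j ≫ (a - C ≫ a₀) = 0 := by
        have : (T j).mor₂ ≫ Sigma.ι Zs j = Sigma.ι Ys j ≫ G := by simp [G, Ys, Zs]
        rw [← assoc, this, assoc, comp_sub, ha₀, ← assoc G, hGC, sub_self, comp_zero]
      exact Triangle.yoneda_exact₃ _ (hT j) _ h0
    choose b hb using hb
    obtain ⟨B, hB⟩ := shift_desc Xs b
    refine ⟨a₀ + h' ≫ B, ?_⟩
    have h2 : a - C ≫ a₀ = Hh ≫ B := by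
      apply Sigma.hom_ext
      intro j
      rw [hb]
      simp [Hh, hB, Zs]
    rw [comp_add, ← assoc, ← hHh, ← h2]
    abel

end Groth.Agent.S6593
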