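import Groth.Statements.S0856
import Groth.Statements.S0856
import Mathlib.Algebra.Category.ModuleCat.Presheaf.Sheafification
import Mathlib.Algebra.Category.ModuleCat.Presheaf.Generator
import Mathlib.Algebra.Category.ModuleCat.Presheaf.EpiMono
-- import your own Groth.Agent.* helpers here

set_option autoImplicit false
universe u
open CategoryTheory
open CohSite

namespace Groth.Agent.S0856

open CategoryTheory Opposite

section
variable {C : Type u} [SmallCategory C] {R : Cᵒᵖ ⥤ RingCat.{u}}

lemma mono_free_map {F G : Cᵒᵖ ⥤ Type u} (φ : F ⟶ G) (h : ∀ X, Function.Injective (φ.app X)) :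
    Mono ((PresheafOfModules.free R).map φ) := by
  apply PresheafOfModules.mono_of_injective
  intro X
  show Function.Injective (Finsupp.lmapDomain _ _ (φ.app X))
  exact Finsupp.mapDomain_injective (h X)

lemma freeYonedaEquiv_map_comp {M : PresheafOfModules.{u} R} {X Y : C} (a : X ⟶ Y)
    (ψ : (PresheafOfModules.free R).obj (yoneda.obj Y) ⟶ M) :
    PresheafOfModules.freeYonedaEquiv ((PresheafOfModules.free R).map (yoneda.map a) ≫ ψ) =
      M.map a.op (PresheafOfModules.freeYonedaEquiv ψ) := by
  have h1 : ∀ {Z : C} (χ : (PresheafOfModules.free R).obj (yoneda.obj Z) ⟶ M),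
      PresheafOfModules.freeYonedaEquiv χ = χ.app (op Z) (ModuleCat.freeMk (𝟙 Z)) := by
    intro Z χ
    rfl
  rw [h1, h1]
  have h2 := PresheafOfModules.naturality_apply ψ a.op (ModuleCat.freeMk (𝟙 Y))
  rw [← h2]
  have h3 : ((PresheafOfModules.free R).map (yoneda.map a)).app (op X) (ModuleCat.freeMk (𝟙 X)) =
      ((PresheafOfModules.free R).obj (yoneda.obj Y)).map a.op (ModuleCat.freeMk (𝟙 Y)) := by
    rw [PresheafOfModules.free_map_app]
    erw [ModuleCat.free_map_apply (R := R.obj (op X))]
    change _ = (PresheafOfModules.freeObj (R := R) (yoneda.obj Y)).map a.op (ModuleCat.freeMk (𝟙 Y))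
    rw [PresheafOfModules.freeObj_map]
    erw [ModuleCat.freeDesc_apply]
    simp
    show ModuleCat.freeMk a = ModuleCat.freeMk (a ≫ 𝟙 Y)
    rw [Category.comp_id]
  show ψ.app (op X) (((PresheafOfModules.free R).map (yoneda.map a)).app (op X)
    (ModuleCat.freeMk (𝟙 X))) = _
  rw [h3]

end

theorem aux {C : Type u} [SmallCategory C]
    {J : GrothendieckTopology C} (O : Sheaf J RingCat.{u}) (I : SheafOfModules.{u} O) [Injective I]
    {U U' : C} (a : U' ⟶ U) [Mono a] : Function.Surjective (I.val.map a.op) := by
  intro s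
  let α : O.obj ⟶ O.obj := 𝟙 _
  let adj := PresheafOfModules.sheafificationAdjunction.{u} α
  let m := (PresheafOfModules.free O.obj).map (yoneda.map a)
  haveI : Mono m := by
    apply mono_free_map
    intro X
    intro f g hfg
    exact (cancel_mono a).1 hfg
  haveI : Mono ((PresheafOfModules.sheafification.{u} α).map m) := inferInstance
  let M' : PresheafOfModules O.obj :=
    (SheafOfModules.forget O ⋙ PresheafOfModules.restrictScalars α).obj I
  let s' : M'.obj (op U') := s
  let φ : (PresheafOfModules.free O.obj).obj (yoneda.obj U') ⟶ M' :=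
    PresheafOfModules.freeYonedaEquiv.symm s'
  let φ' := (adj.homEquiv _ _).symm φ
  let ψ' := Injective.factorThru φ' ((PresheafOfModules.sheafification.{u} α).map m)
  have hψ' : (PresheafOfModules.sheafification.{u} α).map m ≫ ψ' = φ' :=
    Injective.comp_factorThru _ _
  let ψ := adj.homEquiv _ _ ψ'
  have hψ : m ≫ ψ = φ := by
    rw [← adj.homEquiv_naturality_left, hψ']
    exact Equiv.apply_symm_apply _ _
  refine ⟨PresheafOfModules.freeYonedaEquiv ψ, ?_⟩
  have h := freeYonedaEquiv_map_comp a ψ
  rw [hψ] at h
  have h2 : PresheafOfModules.freeYonedaEquiv φ = s' := Equiv.apply_symm_apply _ _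
  rw [h2] at h
  exact h.symm

open Opposite in
/-- Let (C, O) be a ringed site, a : U' -> U a monomorphism of C and I an injective sheaf of O-modules.
Then the restriction map I(U) -> I(U') is surjective. -/
theorem result {C : Type u} [SmallCategory C]
    {J : GrothendieckTopology C} (O : Sheaf J RingCat.{u}) (I : SheafOfModules.{u} O) [Injective I]
    {U U' : C} (a : U' ⟶ U) [Mono a] : Function.Surjective (I.val.map a.op) := by
  exact aux O I a

end Groth.Agent.S0856
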