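import Groth.Statements.S15295
import Mathlib
import Groth.Agent.Lib.Helper23.ExtBC
import Groth.Agent.Lib.Helper23.DeRhamGen

set_option autoImplicit false
universe u
open DeRham

namespace Groth.Agent.S15295

section aux
open scoped TensorProduct
open KaehlerDifferential Groth.Agent.Helper23

theorem map_bij {B M M' : Type*} [CommRing B] [AddCommGroup M] [AddCommGroup M'] [Module B M]
    [Module B M'] (e : M ≃ₗ[B] M') (p : ℕ) :
    Function.Bijective (exteriorPower.map p e.toLinearMap) := by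
  have h1 : (exteriorPower.map p e.symm.toLinearMap) ∘ₗ (exteriorPower.map p e.toLinearMap) =
      LinearMap.id := by
    rw [← exteriorPower.map_comp]
    simp
  have h2 : (exteriorPower.map p e.toLinearMap) ∘ₗ (exteriorPower.map p e.symm.toLinearMap) =
      LinearMap.id := by
    rw [← exteriorPower.map_comp]
    simp
  refine ⟨?_, ?_⟩
  · intro x y hxy
    have := congrArg (exteriorPower.map p e.symm.toLinearMap) hxy
    rwa [← LinearMap.comp_apply, ← LinearMap.comp_apply, h1] at this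
  · intro y
    exact ⟨exteriorPower.map p e.symm.toLinearMap y, by
      rw [← LinearMap.comp_apply, h2]; rfl⟩

theorem main (R S A B : Type u) [CommRing R] [CommRing S] [CommRing A] [CommRing B]
    [Algebra R S] [Algebra R A] [Algebra R B] [Algebra A B] [Algebra S B]
    [IsScalarTower R A B] [IsScalarTower R S B] [Algebra.IsPushout R S A B]
    (ψ : ∀ p : ℕ, ↥(⋀[A]^p (Ω[A⁄R])) →+ ↥(⋀[B]^p (Ω[B⁄S])))
    (hψ : DeRham.IsCxMap (KaehlerDifferential.D R A) (KaehlerDifferential.D S B) (algebraMap A B) ψ)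
    (p : ℕ) (Φ : S ⊗[R] ↥(⋀[A]^p (Ω[A⁄R])) →+ ↥(⋀[B]^p (Ω[B⁄S])))
    (hΦ : ∀ (s : S) (x : ↥(⋀[A]^p (Ω[A⁄R]))), Φ (s ⊗ₜ[R] x) = s • ψ p x) :
    Function.Bijective Φ := by
  let e1 : S ⊗[R] ↥(⋀[A]^p (Ω[A⁄R])) ≃ₗ[S] B ⊗[A] ↥(⋀[A]^p (Ω[A⁄R])) :=
    (Algebra.IsPushout.cancelBaseChange R S A B ↥(⋀[A]^p (Ω[A⁄R]))).symm
  let e2 : B ⊗[A] ↥(⋀[A]^p (Ω[A⁄R])) ≃ₗ[B] ↥(⋀[B]^p (B ⊗[A] Ω[A⁄R])) := ExtBC.equivP B p
  let e3 : ↥(⋀[B]^p (B ⊗[A] Ω[A⁄R])) →ₗ[B] ↥(⋀[B]^p (Ω[B⁄S])) :=
    exteriorPower.map p (tensorKaehlerEquiv R S A B).toLinearMap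
  have he3 : Function.Bijective e3 := map_bij _ p
  have key : ∀ z, Φ z = e3 (e2 (e1 z)) := by
    intro z
    induction z with
    | zero => simp
    | add x y hx hy => simp only [map_add, hx, hy]
    | tmul s x =>
      let f : ↥(⋀[A]^p (Ω[A⁄R])) →+ ↥(⋀[B]^p (Ω[B⁄S])) :=
        Φ.comp (TensorProduct.mk R S ↥(⋀[A]^p (Ω[A⁄R])) s).toAddMonoidHom
      let g : ↥(⋀[A]^p (Ω[A⁄R])) →+ ↥(⋀[B]^p (Ω[B⁄S])) :=
        e3.toAddMonoidHom.comp (e2.toLinearMap.toAddMonoidHom.comp
          (e1.toLinearMap.toAddMonoidHom.comp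
            (TensorProduct.mk R S ↥(⋀[A]^p (Ω[A⁄R])) s).toAddMonoidHom))
      have hfg : f = g := by
        apply addHom_ext_gen
        intro b₀ b
        change Φ (s ⊗ₜ[R] _) = e3 (e2 (e1 (s ⊗ₜ[R] _)))
        rw [hΦ, hψ p b₀ b]
        simp only [e1, Algebra.IsPushout.cancelBaseChange_symm_tmul, e2, ExtBC.equivP_tmul]
        simp only [DeRham.gen, map_smul, ExtBC.auxP_ιMulti, e3]
        rw [LinearMap.map_smul_of_tower, exteriorPower.map_apply_ιMulti, algebraMap_smul,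
          algebraMap_smul]
        congr 3
        funext i
        simp only [Function.comp_apply, LinearEquiv.coe_coe, tensorKaehlerEquiv_tmul_D, one_smul]
      exact DFunLike.congr_fun hfg x
  have : (Φ : _ → _) = e3 ∘ e2 ∘ e1 := funext key
  rw [this]
  exact he3.comp (e2.bijective.comp e1.bijective)

end aux

open exteriorPower TensorProduct in
/-- The de Rham complex commutes with base change. Let R → A and R → S be ring maps and B = S ⊗_R A (an
R-algebra over A and S with the pushout property), and let ψ be the induced map of de Rham complexes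
from the p-forms of A over R to the p-forms of B over S (additive maps sending b₀ db₁ ∧ … ∧ db_p to
g(b₀) d(g b₁) ∧ … ∧ d(g b_p), g : A → B the structure map). Then in each degree p the S-linear
extension S ⊗_R ⋀^p Ω_{A/R} → ⋀^p Ω_{B/S}, s ⊗ x ↦ s · ψ_p(x), is bijective. (This row states the
degreewise bijectivity, with the base change written S ⊗_R − rather than − ⊗_R S; the compatibility
of ψ with the differentials, which makes this an isomorphism of complexes, holds for any square of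
ring maps.) -/
theorem result (R S A B : Type u) [CommRing R] [CommRing S] [CommRing A] [CommRing B]
    [Algebra R S] [Algebra R A] [Algebra R B] [Algebra A B] [Algebra S B]
    [IsScalarTower R A B] [IsScalarTower R S B] [Algebra.IsPushout R S A B]
    (ψ : ∀ p : ℕ, ↥(⋀[A]^p (Ω[A⁄R])) →+ ↥(⋀[B]^p (Ω[B⁄S])))
    (hψ : DeRham.IsCxMap (KaehlerDifferential.D R A) (KaehlerDifferential.D S B) (algebraMap A B) ψ)
    (p : ℕ) (Φ : S ⊗[R] ↥(⋀[A]^p (Ω[A⁄R])) →+ ↥(⋀[B]^p (Ω[B⁄S])))
    (hΦ : ∀ (s : S) (x : ↥(⋀[A]^p (Ω[A⁄R]))), Φ (s ⊗ₜ[R] x) = s • ψ p x) :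
    Function.Bijective Φ := by
  exact main R S A B ψ hψ p Φ hΦ

end Groth.Agent.S15295
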