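import Groth.Statements.S2215
import Mathlib
import Groth.Agent.Lib.Helper4.DiscLib

set_option autoImplicit false
universe u v
open Disc

namespace Groth.Agent.S2215
open scoped TensorProduct

/-- Special case: B finite free over A (the source allows flat quasi-finite maps of Noetherian rings).
Let omega = Hom_A(B, A) with its B-module structure through the argument and tau in omega the trace.
Then an element of B lies in the Noether different of B over A exactly when it is of the form
phi(tau) for some B-linear map phi : omega -> B. -/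
theorem result {A : Type u} {B : Type v} [CommRing A]
    [CommRing B] [Algebra A B] [IsNoetherianRing A] [Module.Finite A B] [Module.Free A B] :
    (Disc.noetherDifferent A B : Set B) =
      Set.range (fun φ : Disc.Omega A B →ₗ[B] B => φ (Disc.Omega.trace A B)) := by
  classical
  let b := Module.Free.chooseBasis A B
  have hsurj : Function.Surjective (Algebra.TensorProduct.lmul' (S := B) A) :=
    fun x => ⟨x ⊗ₜ 1, by simp⟩
  ext x
  rw [SetLike.mem_coe, Disc.noetherDifferent, Ideal.mem_map_iff_of_surjective _ hsurj]
  constructor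
  · rintro ⟨ξ, hξ, rfl⟩
    have hB := (Groth.Agent.Helper4.DiscLib.mem_annihilator_iff_psi b ξ).mp hξ
    let φ : Disc.Omega A B →ₗ[B] B :=
      { toFun := fun l => Groth.Agent.Helper4.DiscLib.psi ξ l.toLinearMap
        map_add' := fun l₁ l₂ => Groth.Agent.Helper4.DiscLib.psi_add_right ξ _ _
        map_smul' := fun s l => by
          rw [RingHom.id_apply, smul_eq_mul, ← hB]; rfl }
    exact ⟨φ, (Groth.Agent.Helper4.DiscLib.lmul'_eq_psi_trace b ξ hξ).symm⟩
  · rintro ⟨Φ, rfl⟩
    let Φ' : (B →ₗ[A] A) →ₗ[A] B :=
      { toFun := fun l => Φ ⟨l⟩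
        map_add' := fun l₁ l₂ => by rw [← map_add]; rfl
        map_smul' := fun a l => by
          rw [RingHom.id_apply, Algebra.smul_def, ← smul_eq_mul, ← map_smul]
          congr 1
          apply Disc.Omega.ext
          ext x
          change a • l x = l (algebraMap A B a * x)
          rw [← Algebra.smul_def, map_smul] }
    have hlin : ∀ (s : B) (l : B →ₗ[A] A), Φ' (l ∘ₗ LinearMap.mulLeft A s) = s * Φ' l := by
      intro s l
      have := map_smul Φ s ⟨l⟩
      rw [smul_eq_mul] at this
      exact this
    obtain ⟨ξ, hξ, hpsi⟩ :=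
      Groth.Agent.Helper4.DiscLib.exists_mem_annihilator_psi_eq b Φ' hlin
    refine ⟨ξ, hξ, ?_⟩
    rw [Groth.Agent.Helper4.DiscLib.lmul'_eq_psi_trace b ξ hξ, ← hpsi]
    rfl

end Groth.Agent.S2215
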