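import Groth.Statements.S2196
import Mathlib
import Groth.Agent.Lib.Helper4.DiscLib

set_option autoImplicit false
universe u v
open Disc

namespace Groth.Agent.S2196
open scoped TensorProduct

/-- Let A -> B be a ring map of finite type and D its Noether different (the image in B of the
annihilator of the kernel of B tensor_A B -> B). Then a prime q of B contains D exactly when A -> B
is not unramified at q. -/
theorem result {A : Type u} {B : Type v}
    [CommRing A] [CommRing B] [Algebra A B] [Algebra.FiniteType A B] :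
    {q : PrimeSpectrum B | Disc.noetherDifferent A B ≤ q.asIdeal} =
      (Algebra.unramifiedLocus A B)ᶜ := by
  classical
  rw [Algebra.unramifiedLocus_eq_compl_support, compl_compl]
  have hsurj : Function.Surjective (Algebra.TensorProduct.lmul' (S := B) A) :=
    fun x => ⟨x ⊗ₜ 1, by simp⟩
  have hsmul : ∀ (g : B) (z : B ⊗[A] B) (hz : z ∈ KaehlerDifferential.ideal A B),
      g • (KaehlerDifferential.ideal A B).toCotangent ⟨z, hz⟩ =
        (KaehlerDifferential.ideal A B).toCotangent
          ⟨(g ⊗ₜ[A] (1 : B)) * z, Ideal.mul_mem_left _ _ hz⟩ := by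
    intro g z hz
    rw [← IsScalarTower.algebraMap_smul (B ⊗[A] B) g, ← map_smul]
    rfl
  ext q
  simp only [Set.mem_setOf_eq]
  constructor
  · intro hD
    by_contra hq
    rw [Module.support_eq_zeroLocus, PrimeSpectrum.mem_zeroLocus, Set.not_subset] at hq
    obtain ⟨g, hgann, hgq⟩ := hq
    have hI : (KaehlerDifferential.ideal A B).FG := KaehlerDifferential.ideal_fg A B
    have hr : ∀ z ∈ KaehlerDifferential.ideal A B,
        (g ⊗ₜ[A] (1 : B)) * z ∈ (KaehlerDifferential.ideal A B) ^ 2 := by
      intro z hz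
      have h0 : g • (KaehlerDifferential.ideal A B).toCotangent ⟨z, hz⟩ = 0 :=
        Module.mem_annihilator.mp hgann _
      rw [hsmul, Ideal.toCotangent_eq_zero] at h0
      exact h0
    obtain ⟨n, e, heI, hann⟩ :=
      Groth.Agent.Helper4.DiscLib.exists_pow_add_mem_annihilator _ hI _ hr
    have hmem : Algebra.TensorProduct.lmul' (S := B) A ((g ⊗ₜ[A] (1 : B)) ^ n + e) ∈
        Disc.noetherDifferent A B := by
      refine Ideal.mem_map_of_mem _ ?_
      rw [Submodule.mem_annihilator]
      intro z hz
      exact hann z hz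
    have he0 : Algebra.TensorProduct.lmul' (S := B) A e = 0 := heI
    rw [map_add, map_pow, he0, add_zero] at hmem
    simp only [Algebra.TensorProduct.lmul'_apply_tmul, mul_one] at hmem
    exact hgq (q.2.mem_of_pow_mem n (hD hmem))
  · intro hq
    by_contra hnle
    rw [SetLike.not_le_iff_exists] at hnle
    obtain ⟨x, hxD, hxq⟩ := hnle
    rw [Disc.noetherDifferent, Ideal.mem_map_iff_of_surjective _ hsurj] at hxD
    obtain ⟨ξ, hξ, rfl⟩ := hxD
    revert hq
    rw [imp_false, Module.notMem_support_iff']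
    intro ω
    obtain ⟨⟨z, hz⟩, rfl⟩ := Ideal.toCotangent_surjective _ ω
    refine ⟨_, hxq, (hsmul _ z hz).trans ((Ideal.toCotangent_eq_zero _ _).mpr ?_)⟩
    have h1 : ξ * z = 0 := Submodule.mem_annihilator.mp hξ z hz
    have h2 : (Algebra.TensorProduct.lmul' (S := B) A ξ) ⊗ₜ[A] (1 : B) - ξ ∈
        KaehlerDifferential.ideal A B := by
      rw [KaehlerDifferential.ideal, RingHom.mem_ker, map_sub]
      simp
    have h3 : ((Algebra.TensorProduct.lmul' (S := B) A ξ) ⊗ₜ[A] (1 : B)) * z =
        ((Algebra.TensorProduct.lmul' (S := B) A ξ) ⊗ₜ[A] (1 : B) - ξ) * z := by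
      rw [sub_mul, h1, sub_zero]
    change ((Algebra.TensorProduct.lmul' (S := B) A ξ) ⊗ₜ[A] (1 : B)) * z ∈ _
    rw [h3, sq]
    exact Ideal.mul_mem_mul h2 hz

end Groth.Agent.S2196
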