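import Groth.Statements.S10849
import Mathlib
-- import your own Groth.Agent.* helpers here

set_option autoImplicit false
universe u
open VbP1

namespace Groth.Agent.S10849

section
open Polynomial LaurentPolynomial Matrix

variable {k : Type u} [Field k] {n : ℕ}

/-- `p(T) ↦ p(T⁻¹)` -/
noncomputable def iminus : k[X] →+* LaurentPolynomial k :=
  ((LaurentPolynomial.invert (R := k)) : LaurentPolynomial k →+* LaurentPolynomial k).comp
    Polynomial.toLaurent

lemma iminus_apply (p : k[X]) : iminus p = invert (toLaurent p) := rfl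

lemma iminus_X : iminus (X : k[X]) = T (-1) := by
  rw [iminus_apply, toLaurent_X, invert_T]

lemma iminus_C (c : k) : iminus (Polynomial.C c) = LaurentPolynomial.C c := by
  rw [iminus_apply, toLaurent_C, invert_C]

section gen
variable {R : Type*} [CommRing R] {S : Type*} [CommRing S]

/-- identity with column `i₀` replaced by `w` -/
def colMat (i₀ : Fin n) (w : Fin n → R) : Matrix (Fin n) (Fin n) R := updateCol 1 i₀ w

lemma colMat_apply (i₀ : Fin n) (w : Fin n → R) (i j : Fin n) :
    colMat i₀ w i j = if j = i₀ then w i else if i = j then 1 else 0 := by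
  rw [colMat, updateCol_apply]
  split_ifs <;> simp_all [Matrix.one_apply]

lemma det_colMat (i₀ : Fin n) (w : Fin n → R) : (colMat i₀ w).det = w i₀ := by
  rw [colMat, ← cramer_apply, cramer_one]
  rfl

lemma colMat_map (f : R →+* S) (i₀ : Fin n) (w : Fin n → R) :
    (colMat i₀ w).map f = colMat i₀ (fun i => f (w i)) := by
  ext i j
  rw [map_apply, colMat_apply, colMat_apply]
  split_ifs <;> simp

lemma colMat_mulVec (i₀ : Fin n) (w : Fin n → R) : colMat i₀ w *ᵥ Pi.single i₀ 1 = w := by
  ext i
  rw [mulVec_single_one]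
  simp [colMat]

/-- diagonal matrix with `a` at position `i₀`, `1` elsewhere -/
def spec (i₀ : Fin n) (a : R) : Matrix (Fin n) (Fin n) R :=
  diagonal (fun i => if i = i₀ then a else 1)

lemma det_spec (i₀ : Fin n) (a : R) : (spec i₀ a).det = a := by
  rw [spec, det_diagonal, Finset.prod_ite_eq' Finset.univ i₀ (fun _ => a)]
  simp

lemma spec_mul_spec (i₀ : Fin n) (a b : R) : spec i₀ a * spec i₀ b = spec i₀ (a * b) := by
  rw [spec, spec, spec, diagonal_mul_diagonal]
  congr 1
  ext i
  split_ifs <;> simp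

lemma spec_one (i₀ : Fin n) : spec i₀ (1 : R) = 1 := by
  rw [spec, ← diagonal_one]
  congr 1
  ext i
  split_ifs <;> rfl

lemma spec_map (f : R →+* S) (i₀ : Fin n) (a : R) : (spec i₀ a).map f = spec i₀ (f a) := by
  rw [spec, spec, diagonal_map (map_zero f)]
  congr 1
  ext i
  split_ifs <;> simp

lemma mul_spec_apply (M : Matrix (Fin n) (Fin n) R) (j₀ : Fin n) (a : R) (i j : Fin n) :
    (M * spec j₀ a) i j = M i j * (if j = j₀ then a else 1) := by
  rw [spec, mul_diagonal]

lemma spec_mul_apply (M : Matrix (Fin n) (Fin n) R) (i₀ : Fin n) (a : R) (i j : Fin n) :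
    (spec i₀ a * M) i j = (if i = i₀ then a else 1) * M i j := by
  rw [spec, diagonal_mul]

end gen

/-- Birkhoff-decomposable matrices -/
def Good (A : Matrix (Fin n) (Fin n) (LaurentPolynomial k)) : Prop :=
  ∃ (P Q : Matrix (Fin n) (Fin n) k[X]) (d : Fin n → ℤ), IsUnit P ∧ IsUnit Q ∧
    A = P.map toLaurent * diagonal (fun i => T (d i)) * Q.map iminus

lemma Good.left_mul {A : Matrix (Fin n) (Fin n) (LaurentPolynomial k)} (hA : Good A)
    (P' : Matrix (Fin n) (Fin n) k[X]) (hP' : IsUnit P') : Good (P'.map toLaurent * A) := by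
  obtain ⟨P, Q, d, hP, hQ, rfl⟩ := hA
  refine ⟨P' * P, Q, d, hP'.mul hP, hQ, ?_⟩
  simp only [Matrix.map_mul, Matrix.mul_assoc]

lemma Good.mul_right {A : Matrix (Fin n) (Fin n) (LaurentPolynomial k)} (hA : Good A)
    (Q' : Matrix (Fin n) (Fin n) k[X]) (hQ' : IsUnit Q') : Good (A * Q'.map iminus) := by
  obtain ⟨P, Q, d, hP, hQ, rfl⟩ := hA
  refine ⟨P, Q * Q', d, hP, hQ.mul hQ', ?_⟩
  simp only [Matrix.map_mul, Matrix.mul_assoc]

lemma Good.smul_T {A : Matrix (Fin n) (Fin n) (LaurentPolynomial k)} (hA : Good A) (s : ℤ) :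
    Good ((T s : LaurentPolynomial k) • A) := by
  obtain ⟨P, Q, d, hP, hQ, rfl⟩ := hA
  refine ⟨P, Q, fun i => d i + s, hP, hQ, ?_⟩
  have : diagonal (fun i => (T (d i + s) : LaurentPolynomial k)) =
      (T s : LaurentPolynomial k) • diagonal (fun i => (T (d i) : LaurentPolynomial k)) := by
    apply Matrix.ext
    intro i j
    by_cases h : i = j
    · subst h
      rw [Matrix.smul_apply, diagonal_apply_eq, diagonal_apply_eq, T_add, smul_eq_mul, mul_comm]
    · rw [Matrix.smul_apply, diagonal_apply_ne _ h, diagonal_apply_ne _ h, smul_zero]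
  rw [this, Matrix.mul_smul, Matrix.smul_mul]

lemma Good.sorted {A : Matrix (Fin n) (Fin n) (LaurentPolynomial k)} (hA : Good A) :
    ∃ (P Q : Matrix (Fin n) (Fin n) k[X]) (d : Fin n → ℤ), IsUnit P ∧ IsUnit Q ∧ Antitone d ∧
      A = P.map toLaurent * diagonal (fun i => T (d i)) * Q.map iminus := by
  obtain ⟨P, Q, d, hP, hQ, rfl⟩ := hA
  let σ : Equiv.Perm (Fin n) := Tuple.sort (fun i => - d i)
  have hmono : Monotone ((fun i => - d i) ∘ σ) := Tuple.monotone_sort _
  refine ⟨P.submatrix id σ, Q.submatrix σ id, d ∘ σ, ?_, ?_, ?_, ?_⟩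
  · exact (isUnit_submatrix_equiv (Equiv.refl _) σ).mpr hP
  · exact (isUnit_submatrix_equiv σ (Equiv.refl _)).mpr hQ
  · intro i j hij
    have := hmono hij
    simp only [Function.comp_apply, neg_le_neg_iff] at this
    exact this
  · apply Matrix.ext
    intro i j
    simp only [Matrix.mul_apply, Matrix.map_apply, Matrix.diagonal_apply, Matrix.submatrix_apply,
      id_eq, Function.comp_apply, mul_ite, mul_zero, Finset.sum_ite_eq', Finset.mem_univ, if_true]
    exact (Equiv.sum_comp σ (fun l => toLaurent (P i l) * T (d l) * iminus (Q l j))).symm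

lemma T_one_mul_T_neg_one : (T 1 : LaurentPolynomial k) * T (-1) = 1 := by
  rw [← T_add]; exact T_zero

lemma T_neg_one_mul_T_one : (T (-1) : LaurentPolynomial k) * T 1 = 1 := by
  rw [← T_add]; exact T_zero

lemma isUnit_map_C {U : Matrix (Fin n) (Fin n) k} (hU : IsUnit U) :
    IsUnit (U.map (Polynomial.C : k → k[X])) := by
  have := hU.map (Polynomial.C : k →+* k[X]).mapMatrix
  simpa [RingHom.mapMatrix_apply] using this

lemma Good.mul_spec {A : Matrix (Fin n) (Fin n) (LaurentPolynomial k)} (hA : Good A)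
    (j₀ : Fin n) : Good (A * spec j₀ (T 1 : LaurentPolynomial k)) := by
  classical
  obtain ⟨P, Q, d, hP, hQ, rfl⟩ := hA
  set ev : k[X] →+* k := Polynomial.evalRingHom 0 with hev
  have hQ0 : IsUnit (Q.map ev) := by
    have := hQ.map ev.mapMatrix
    simpa [RingHom.mapMatrix_apply] using this
  set u : Fin n → k := fun i => ev (Q i j₀) with hu
  have hQ0u : (Q.map ev) *ᵥ (Pi.single j₀ 1) = u := by
    rw [mulVec_single_one]; rfl
  have hu0 : u ≠ 0 := by
    intro h
    rw [h] at hQ0u
    have h1 := mulVec_injective_of_isUnit hQ0 (hQ0u.trans (mulVec_zero _).symm)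
    have h2 := congrFun h1 j₀
    simp at h2
  obtain ⟨i1, hi1⟩ := Function.ne_iff.mp hu0
  obtain ⟨i₀, hi₀S, hmin⟩ := Finset.exists_min_image (Finset.univ.filter (fun i => u i ≠ 0)) d
    ⟨i1, by simpa using hi1⟩
  have hui₀ : u i₀ ≠ 0 := (Finset.mem_filter.mp hi₀S).2
  have hmin' : ∀ i, u i ≠ 0 → d i₀ ≤ d i := fun i hi => hmin i (by simpa using hi)
  -- the constant matrix U
  set U : Matrix (Fin n) (Fin n) k := colMat i₀ u with hU
  have hUu : IsUnit U := by
    rw [isUnit_iff_isUnit_det, det_colMat]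
    exact isUnit_iff_ne_zero.mpr hui₀
  have hUdet : IsUnit U.det := (isUnit_iff_isUnit_det U).mp hUu
  have hUinv1 : U⁻¹ * U = 1 := nonsing_inv_mul U hUdet
  have hUinv2 : U * U⁻¹ = 1 := mul_nonsing_inv U hUdet
  set Uc : Matrix (Fin n) (Fin n) k[X] := U.map Polynomial.C with hUc
  set Ui : Matrix (Fin n) (Fin n) k[X] := (U⁻¹).map Polynomial.C with hUi
  have hUcUi : Uc * Ui = 1 := by
    rw [hUc, hUi, ← Matrix.map_mul, hUinv2]
    exact Matrix.map_one _ (map_zero _) (map_one _)
  have hUiUc : Ui * Uc = 1 := by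
    rw [hUc, hUi, ← Matrix.map_mul, hUinv1]
    exact Matrix.map_one _ (map_zero _) (map_one _)
  have hUiu : IsUnit Ui := (isUnit_iff_isUnit_det _).mpr (isUnit_det_of_left_inverse hUcUi)
  -- W
  set W : Matrix (Fin n) (Fin n) k[X] := Ui * Q with hW
  have hWu : IsUnit W := hUiu.mul hQ
  have hQW : Q = Uc * W := by rw [hW, ← Matrix.mul_assoc, hUcUi, Matrix.one_mul]
  have hW0 : ∀ i, ev (W i j₀) = if i = i₀ then 1 else 0 := by
    have h1 : (W.map ev) = U⁻¹ * Q.map ev := by
      rw [hW, Matrix.map_mul, hUi, Matrix.map_map]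
      congr 1
      apply Matrix.ext; intro i j
      simp [hev]
    have h2 : (W.map ev) *ᵥ (Pi.single j₀ 1) = Pi.single i₀ 1 := by
      rw [h1, ← mulVec_mulVec, hQ0u, ← colMat_mulVec i₀ u, ← hU, mulVec_mulVec, hUinv1,
        one_mulVec]
    intro i
    have h3 := congrFun h2 i
    rw [mulVec_single_one] at h3
    rw [Pi.single_apply] at h3
    exact h3
  -- Q₁
  set Q₁ : Matrix (Fin n) (Fin n) k[X] := Matrix.of fun i j =>
    if j = j₀ then (if i = i₀ then W i j else divX (W i j))
    else (if i = i₀ then X * W i j else W i j) with hQ₁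
  have hQ1 : spec i₀ (X : k[X]) * W = Q₁ * spec j₀ (X : k[X]) := by
    apply Matrix.ext; intro i j
    rw [spec_mul_apply, mul_spec_apply, hQ₁, Matrix.of_apply]
    by_cases hj : j = j₀
    · subst hj
      by_cases hi : i = i₀
      · simp only [hi, if_true]; ring
      · simp only [hi, if_false, if_true, one_mul]
        have h0 := hW0 i
        rw [if_neg hi] at h0
        have h1 := divX_mul_X_add (W i j)
        rw [coeff_zero_eq_eval_zero] at h1
        have h0' : (W i j).eval 0 = 0 := h0
        rw [h0', map_zero, add_zero] at h1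
        exact h1.symm
    · simp only [hj, if_false, mul_one]
      split_ifs <;> simp
  have hQ1u : IsUnit Q₁ := by
    rw [isUnit_iff_isUnit_det]
    have h1 := congrArg Matrix.det hQ1
    rw [Matrix.det_mul (spec i₀ X) W, Matrix.det_mul Q₁ (spec j₀ X), det_spec, det_spec,
      mul_comm] at h1
    have h2 : W.det = Q₁.det := mul_right_cancel₀ Polynomial.X_ne_zero h1
    rw [← h2]
    exact (isUnit_iff_isUnit_det W).mp hWu
  have hQ1m : W.map iminus * spec j₀ (T 1 : LaurentPolynomial k) =
      spec i₀ (T 1 : LaurentPolynomial k) * Q₁.map iminus := by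
    have h1 := congrArg (fun M => M.map iminus) hQ1
    simp only [Matrix.map_mul, spec_map, iminus_X] at h1
    calc W.map iminus * spec j₀ (T 1 : LaurentPolynomial k)
        = spec i₀ (T 1 : LaurentPolynomial k) * (spec i₀ (T (-1)) * W.map iminus) *
          spec j₀ (T 1) := by
          rw [← Matrix.mul_assoc, spec_mul_spec, T_one_mul_T_neg_one, spec_one, Matrix.one_mul]
      _ = spec i₀ (T 1 : LaurentPolynomial k) * (Q₁.map iminus * spec j₀ (T (-1))) *
          spec j₀ (T 1) := by rw [h1]
      _ = spec i₀ (T 1 : LaurentPolynomial k) * Q₁.map iminus := by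
          rw [Matrix.mul_assoc, Matrix.mul_assoc, spec_mul_spec, T_neg_one_mul_T_one, spec_one,
            Matrix.mul_one]
  -- the constant matrix over L
  set UL : Matrix (Fin n) (Fin n) (LaurentPolynomial k) :=
    colMat i₀ (fun i => LaurentPolynomial.C (u i)) with hUL
  have hUcm : Uc.map iminus = UL := by
    rw [hUc, hU, colMat_map, colMat_map, hUL]
    congr 1
    funext i
    exact iminus_C _
  -- P₁
  set P₁ : Matrix (Fin n) (Fin n) k[X] :=
    colMat i₀ (fun i => if u i = 0 then 0 else Polynomial.C (u i) * X ^ (d i - d i₀).toNat)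
    with hP₁
  have hP1u : IsUnit P₁ := by
    rw [isUnit_iff_isUnit_det, det_colMat, if_neg hui₀, sub_self, Int.toNat_zero, pow_zero,
      mul_one]
    exact Polynomial.isUnit_C.mpr (isUnit_iff_ne_zero.mpr hui₀)
  have hP1 : diagonal (fun i => (T (d i) : LaurentPolynomial k)) * UL =
      P₁.map toLaurent * diagonal (fun i => (T (d i) : LaurentPolynomial k)) := by
    apply Matrix.ext; intro i j
    rw [diagonal_mul, mul_diagonal, Matrix.map_apply, hUL, hP₁, colMat_apply, colMat_apply]
    by_cases hj : j = i₀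
    · subst hj
      simp only [if_true]
      by_cases hui : u i = 0
      · simp [hui]
      · rw [if_neg hui, map_mul, toLaurent_C, map_pow, toLaurent_X, T_pow, mul_one, mul_assoc,
          ← T_add, mul_comm]
        congr 2
        have := hmin' i hui
        rw [Int.toNat_of_nonneg (by omega)]
        ring
    · simp only [hj, if_false]
      by_cases hij : i = j
      · subst hij; simp
      · simp [hij]
  refine ⟨P * P₁, Q₁, fun i => d i + if i = i₀ then 1 else 0, hP.mul hP1u, hQ1u, ?_⟩
  have hD : diagonal (fun i => (T (d i + if i = i₀ then 1 else 0) : LaurentPolynomial k)) =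
      diagonal (fun i => (T (d i) : LaurentPolynomial k)) * spec i₀ (T 1) := by
    rw [spec, diagonal_mul_diagonal]
    congr 1
    ext i
    split_ifs
    · rw [T_add]
    · rw [add_zero, mul_one]
  rw [hD, Matrix.map_mul]
  calc P.map toLaurent * diagonal (fun i => (T (d i) : LaurentPolynomial k)) * Q.map iminus *
        spec j₀ (T 1)
      = P.map toLaurent * diagonal (fun i => (T (d i) : LaurentPolynomial k)) *
          (UL * (W.map iminus * spec j₀ (T 1))) := by
        rw [hQW, Matrix.map_mul, hUcm]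
        simp only [Matrix.mul_assoc]
    _ = P.map toLaurent * (diagonal (fun i => (T (d i) : LaurentPolynomial k)) * UL) *
          (spec i₀ (T 1) * Q₁.map iminus) := by
        rw [hQ1m]
        simp only [Matrix.mul_assoc]
    _ = P.map toLaurent * P₁.map toLaurent *
          (diagonal (fun i => (T (d i) : LaurentPolynomial k)) * spec i₀ (T 1)) *
          Q₁.map iminus := by
        rw [hP1]
        simp only [Matrix.mul_assoc]

lemma good_of_poly : ∀ (m : ℕ) (A₀ : Matrix (Fin n) (Fin n) k[X]) (c : k), c ≠ 0 →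
    A₀.det = Polynomial.C c * X ^ m → Good (A₀.map toLaurent) := by
  intro m
  induction m with
  | zero =>
    intro A₀ c hc hdet
    have hu : IsUnit A₀ := by
      rw [isUnit_iff_isUnit_det, hdet, pow_zero, mul_one]
      exact Polynomial.isUnit_C.mpr (isUnit_iff_ne_zero.mpr hc)
    refine ⟨A₀, 1, fun _ => 0, hu, isUnit_one, ?_⟩
    have h1 : diagonal (fun _ : Fin n => (T 0 : LaurentPolynomial k)) = 1 := by
      rw [T_zero, diagonal_one]
    rw [h1, Matrix.map_one _ (map_zero _) (map_one _), Matrix.mul_one, Matrix.mul_one]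
  | succ m ih =>
    intro A₀ c hc hdet
    classical
    set ev : k[X] →+* k := Polynomial.evalRingHom 0 with hev
    have hdet0 : (A₀.map ev).det = 0 := by
      have h1 : (A₀.map ev).det = ev A₀.det := (RingHom.map_det ev A₀).symm
      rw [h1, hdet]
      simp [hev]
    obtain ⟨v, hv0, hv⟩ := exists_mulVec_eq_zero_iff.mpr hdet0
    obtain ⟨j₀, hj₀⟩ := Function.ne_iff.mp hv0
    have hj₀' : v j₀ ≠ 0 := hj₀
    set Cm : Matrix (Fin n) (Fin n) k := colMat j₀ v with hCm
    have hCdet : IsUnit Cm.det := by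
      rw [det_colMat]; exact isUnit_iff_ne_zero.mpr hj₀'
    have hCinv2 : Cm * Cm⁻¹ = 1 := mul_nonsing_inv Cm hCdet
    set Cc : Matrix (Fin n) (Fin n) k[X] := Cm.map Polynomial.C with hCc
    set Ci : Matrix (Fin n) (Fin n) k[X] := (Cm⁻¹).map Polynomial.C with hCi
    have hCcCi : Cc * Ci = 1 := by
      rw [hCc, hCi, ← Matrix.map_mul, hCinv2]
      exact Matrix.map_one _ (map_zero _) (map_one _)
    have hCiu : IsUnit Ci := (isUnit_iff_isUnit_det _).mpr (isUnit_det_of_left_inverse hCcCi)
    have hCcdet : Cc.det = Polynomial.C (v j₀) := by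
      rw [hCc, hCm, colMat_map, det_colMat]
    set B : Matrix (Fin n) (Fin n) k[X] := A₀ * Cc with hB
    have hB0 : ∀ i, ev (B i j₀) = 0 := by
      intro i
      have h1 : B.map ev = A₀.map ev * Cm := by
        rw [hB, Matrix.map_mul, hCc, Matrix.map_map]
        congr 1
        apply Matrix.ext; intro i j
        simp [hev]
      have h2 : (B.map ev) *ᵥ Pi.single j₀ 1 = 0 := by
        rw [h1, ← mulVec_mulVec, colMat_mulVec, hv]
      have h3 := congrFun h2 i
      rw [mulVec_single_one] at h3
      exact h3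
    set A₁ : Matrix (Fin n) (Fin n) k[X] :=
      Matrix.of fun i j => if j = j₀ then divX (B i j) else B i j with hA₁
    have hBA : B = A₁ * spec j₀ (X : k[X]) := by
      apply Matrix.ext; intro i j
      rw [mul_spec_apply, hA₁, Matrix.of_apply]
      by_cases hj : j = j₀
      · subst hj
        simp only [if_true]
        have h1 := divX_mul_X_add (B i j)
        rw [coeff_zero_eq_eval_zero] at h1
        have h0 : (B i j).eval 0 = 0 := hB0 i
        rw [h0, map_zero, add_zero] at h1
        exact h1.symm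
      · simp only [hj, if_false, mul_one]
    have hdetA1 : A₁.det = Polynomial.C (c * v j₀) * X ^ m := by
      have h1 := congrArg Matrix.det hBA
      rw [Matrix.det_mul A₁ (spec j₀ X), det_spec, hB, Matrix.det_mul A₀ Cc, hdet, hCcdet] at h1
      apply mul_right_cancel₀ (Polynomial.X_ne_zero (R := k))
      rw [← h1, map_mul]
      ring
    have hg := ih A₁ (c * v j₀) (mul_ne_zero hc hj₀') hdetA1
    have hg2 := hg.mul_spec j₀
    have hBL : B.map toLaurent = A₁.map toLaurent * spec j₀ (T 1 : LaurentPolynomial k) := by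
      rw [hBA, Matrix.map_mul, spec_map, toLaurent_X]
    have hA0 : A₀ = B * Ci := by
      rw [hB, Matrix.mul_assoc, hCcCi, Matrix.mul_one]
    have hCi2 : Ci.map toLaurent = Ci.map iminus := by
      rw [hCi, Matrix.map_map, Matrix.map_map]
      apply Matrix.ext; intro i j
      simp only [Matrix.map_apply, Function.comp_apply]
      rw [toLaurent_C, iminus_C]
    have hfin : A₀.map toLaurent = A₁.map toLaurent * spec j₀ (T 1 : LaurentPolynomial k) *
        Ci.map iminus := by
      conv_lhs => rw [hA0]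
      rw [Matrix.map_mul, hBL, hCi2]
    rw [hfin]
    exact hg2.mul_right Ci hCiu

lemma eq_C_mul_X_pow_of_isUnit_toLaurent (p : k[X]) (hp : IsUnit (toLaurent p)) :
    ∃ (c : k) (m : ℕ), c ≠ 0 ∧ p = Polynomial.C c * X ^ m := by
  obtain ⟨g, hg⟩ := hp.exists_right_inv
  obtain ⟨s, g', hg'⟩ := exists_T_pow g
  have h1 : toLaurent (p * g') = toLaurent (X ^ s) := by
    rw [map_mul, hg', ← mul_assoc, hg, one_mul, toLaurent_X_pow]
  have h2 : p * g' = X ^ s := toLaurent_injective h1
  have h3 : p ∣ X ^ s := ⟨g', h2.symm⟩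
  obtain ⟨m, -, hm⟩ := (dvd_prime_pow Polynomial.prime_X s).mp h3
  obtain ⟨w, hw⟩ := hm.symm
  obtain ⟨r, hr, hrw⟩ := Polynomial.isUnit_iff.mp w.isUnit
  refine ⟨r, m, hr.ne_zero, ?_⟩
  rw [← hw, ← hrw, mul_comm]

theorem main (k : Type u) [Field k] (n : ℕ)
    (A : Matrix (Fin n) (Fin n) (LaurentPolynomial k)) (hA : IsUnit A) :
    ∃ (P Q : Matrix (Fin n) (Fin n) (Polynomial k)) (d : Fin n → ℤ),
      IsUnit P ∧ IsUnit Q ∧ Antitone d ∧
        A = P.map Polynomial.toLaurent * Matrix.diagonal (fun i => LaurentPolynomial.T (d i)) *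
          (Q.map Polynomial.toLaurent).map LaurentPolynomial.invert := by
  classical
  -- clear denominators
  choose nn ff hff using fun (i j : Fin n) => exists_T_pow (A i j)
  set N : ℕ := Finset.univ.sup (fun ij : Fin n × Fin n => nn ij.1 ij.2) with hN
  have hle : ∀ i j, nn i j ≤ N := fun i j =>
    Finset.le_sup (f := fun ij : Fin n × Fin n => nn ij.1 ij.2) (Finset.mem_univ (i, j))
  set A₀ : Matrix (Fin n) (Fin n) k[X] := Matrix.of fun i j => ff i j * X ^ (N - nn i j) with hA₀
  have hA0 : A₀.map toLaurent = (T N : LaurentPolynomial k) • A := by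
    apply Matrix.ext; intro i j
    rw [Matrix.map_apply, hA₀, Matrix.of_apply, map_mul, hff, toLaurent_X_pow, Matrix.smul_apply,
      smul_eq_mul, mul_assoc, ← T_add, mul_comm]
    congr 2
    have := hle i j
    omega
  have hdetu : IsUnit (toLaurent A₀.det) := by
    have h1 : toLaurent A₀.det = (A₀.map toLaurent).det := RingHom.map_det toLaurent A₀
    rw [h1, hA0, det_smul]
    exact ((isUnit_T (N : ℤ)).pow _).mul ((isUnit_iff_isUnit_det A).mp hA)
  obtain ⟨c, m, hc, hcm⟩ := eq_C_mul_X_pow_of_isUnit_toLaurent _ hdetu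
  have hg := good_of_poly m A₀ c hc hcm
  rw [hA0] at hg
  have hg2 := hg.smul_T (-(N : ℤ))
  rw [smul_smul, ← T_add, neg_add_cancel, T_zero, one_smul] at hg2
  obtain ⟨P, Q, d, hP, hQ, hd, hAeq⟩ := hg2.sorted
  refine ⟨P, Q, d, hP, hQ, hd, ?_⟩
  rw [hAeq, Matrix.map_map]
  rfl

end

/-- Let k be a field and n a natural number. For every invertible n × n matrix A with entries in the
Laurent polynomial ring k[T, T⁻¹] there are matrices P and Q over k[T], invertible over k[T], and
integers d_1 ≥ d_2 ≥ … ≥ d_n (indexed by Fin n, antitone) such that A = P · diag(T^{d_i}) · Q⁻,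
where Q⁻ is obtained from Q by the substitution T ↦ T⁻¹ (so Q⁻ is invertible over k[T⁻¹]). -/
theorem result (k : Type u) [Field k] (n : ℕ)
    (A : Matrix (Fin n) (Fin n) (LaurentPolynomial k)) (hA : IsUnit A) :
    ∃ (P Q : Matrix (Fin n) (Fin n) (Polynomial k)) (d : Fin n → ℤ),
      IsUnit P ∧ IsUnit Q ∧ Antitone d ∧
        A = P.map Polynomial.toLaurent * Matrix.diagonal (fun i => LaurentPolynomial.T (d i)) *
          (Q.map Polynomial.toLaurent).map LaurentPolynomial.invert := by
  exact Groth.Agent.S10849.main k n A hA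

end Groth.Agent.S10849
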