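import Groth.Statements.S17941
import Mathlib
import Groth.Agent.Lib.Helper26.MCDual

set_option autoImplicit false
universe u
open MultCrv

namespace Groth.Agent.S17941

/-- Let R be a discrete valuation ring, n ≥ 1, A = R[X]/(X^n), and 0 → M' → M → M'' → 0 a short exact
sequence of finitely generated A-modules with M and M'' torsion-free as R-modules (so M' is as
well). Then the A-dual sequence 0 → Hom_A(M'', A) → Hom_A(M, A) → Hom_A(M', A) → 0 is exact; the
content is that every A-linear form on M' extends to M, i.e. restriction of forms along M' → M is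
surjective. (Statement at a closed point of the sheaf statement on a primitive multiple curve of
multiplicity n, whose local rings are of the form R[X]/(X^n) with R the local ring of the reduced
smooth curve; stated for every discrete valuation ring R.) -/
theorem result (R : Type u) [CommRing R] [IsDomain R] [IsDiscreteValuationRing R] (n : ℕ) (hn : 1 ≤ n) (M' M M'' : Type u) [AddCommGroup M'] [Module (MultCrv.Rn R n) M'] [AddCommGroup M] [Module (MultCrv.Rn R n) M] [Module R M] [IsScalarTower R (MultCrv.Rn R n) M] [Module.Finite (MultCrv.Rn R n) M] [Module.IsTorsionFree R M] [AddCommGroup M''] [Module (MultCrv.Rn R n) M''] [Module R M''] [IsScalarTower R (MultCrv.Rn R n) M''] [Module.Finite (MultCrv.Rn R n) M''] [Module.IsTorsionFree R M''] (f : M' →ₗ[MultCrv.Rn R n] M) (g : M →ₗ[MultCrv.Rn R n] M'') (hf : Function.Injective f) (hg : Function.Surjective g) (hfg : LinearMap.range f = LinearMap.ker g) : Function.Surjective (f.dualMap : Module.Dual (MultCrv.Rn R n) M →ₗ[MultCrv.Rn R n] Module.Dual (MultCrv.Rn R n) M') := by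
  let _ : Module R M' := Module.compHom M' (algebraMap R (MultCrv.Rn R n))
  have : IsScalarTower R (MultCrv.Rn R n) M' := ⟨fun r a m => by
    change (r • a) • m = (algebraMap R (MultCrv.Rn R n) r) • (a • m)
    rw [← mul_smul]
    congr 1
    exact Algebra.smul_def r a⟩
  have hfinR : Module.Finite R (MultCrv.Rn R n) := (Polynomial.monic_X_pow n).finite_adjoinRoot
  have hfinM'' : Module.Finite R M'' := Module.Finite.trans (MultCrv.Rn R n) M''
  have hfree : Module.Free R M'' := Module.free_of_finite_type_torsion_free'
  -- R-linear section of g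
  obtain ⟨s, hs⟩ := Module.projective_lifting_property (g.restrictScalars R) (LinearMap.id : M'' →ₗ[R] M'') hg
  have hs' : ∀ y, g (s y) = y := fun y => LinearMap.congr_fun hs y
  -- R-linear retraction of f
  let e := LinearEquiv.ofInjective (f.restrictScalars R) hf
  have hmem : ∀ x : M, x - s (g x) ∈ LinearMap.range (f.restrictScalars R) := by
    intro x
    have : x - s (g x) ∈ LinearMap.ker g := by
      rw [LinearMap.mem_ker, map_sub, hs', sub_self]
    rw [← hfg] at this
    exact this
  let π : M →ₗ[R] LinearMap.range (f.restrictScalars R) :=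
    LinearMap.codRestrict _ (LinearMap.id - s ∘ₗ (g.restrictScalars R)) hmem
  let ρ : M →ₗ[R] M' := e.symm.toLinearMap ∘ₗ π
  have hρ : ∀ m', ρ (f m') = m' := by
    intro m'
    have h1 : g (f m') = 0 := by
      have : f m' ∈ LinearMap.ker g := by rw [← hfg]; exact ⟨m', rfl⟩
      exact this
    have h2 : π (f m') = e m' := by
      apply Subtype.ext
      change f m' - s (g (f m')) = f m'
      rw [h1, map_zero, sub_zero]
    change e.symm (π (f m')) = m'
    rw [h2, LinearEquiv.symm_apply_apply]
  intro θ'
  let ψ' : M' →ₗ[R] R := (Groth.Agent.Helper26.MCDual.tau R n hn) ∘ₗ (θ'.restrictScalars R)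
  let ψ : M →ₗ[R] R := ψ' ∘ₗ ρ
  refine ⟨Groth.Agent.Helper26.MCDual.phi ψ, ?_⟩
  apply Groth.Agent.Helper26.MCDual.theta_inj hn
  intro m'
  rw [LinearMap.dualMap_apply, Groth.Agent.Helper26.MCDual.tau_phi]
  change ψ' (ρ (f m')) = _
  rw [hρ]
  rfl

end Groth.Agent.S17941
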