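import Groth.Statements.S1561
import Groth.Agent.Lib.Helper12.FieldSm
import Groth.Agent.Lib.Helper12.SmoothNhd
import Groth.Agent.Lib.Helper17.KR4

set_option autoImplicit false
universe u
open CategoryTheory CategoryTheory.Limits AlgebraicGeometry
open Variety

namespace Groth.Agent.S1561

/-- Let X be reduced and locally of finite type over a perfect field k. Then a point lies in the smooth
locus of X → Spec k exactly when its local ring is regular, and this locus is dense in X. -/
theorem result (k : Type u) [Field k] (X : Scheme.{u}) [X.Over (Spec (CommRingCat.of k))] [PerfectField k] [IsReduced X]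
    [LocallyOfFinitePresentation (X ↘ (Spec (CommRingCat.of k)))] :
    (∀ x : X, x ∈ (X ↘ (Spec (CommRingCat.of k))).smoothLocus ↔ IsRegularLocalRing (X.presheaf.stalk x)) ∧
      Dense ((X ↘ (Spec (CommRingCat.of k))).smoothLocus : Set X) := by
  refine ⟨fun x => ⟨fun hx => ?_, fun hreg => ?_⟩,
    Scheme.Hom.dense_smoothLocus_of_perfectField (X ↘ (Spec (CommRingCat.of k)))⟩
  · set f := (X ↘ (Spec (CommRingCat.of k))) with hf
    set U := f.smoothLocus with hU
    letI : (U : Scheme.{u}).Over (Spec (CommRingCat.of k)) := ⟨U.ι ≫ f⟩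
    haveI : Smooth ((U : Scheme.{u}) ↘ (Spec (CommRingCat.of k))) := by
      change Smooth (U.ι ≫ f)
      rw [← Scheme.Hom.smoothLocus_eq_top_iff, ← Scheme.Hom.preimage_smoothLocus_eq, ← hU]
      exact U.ι_preimage_self
    have h := Groth.Agent.Helper3.SmoothRegSch.main k (U : Scheme.{u}) ⟨x, hx⟩
    exact IsRegularLocalRing.of_ringEquiv
      (Groth.Agent.Helper12.SmoothNhd.stalkEquiv x U hx).symm
  · rw [Groth.Agent.Helper12.FieldSm.mem_smoothLocus_iff]
    letI := (Groth.Agent.Helper12.FieldSm.stalkHom (X ↘ (Spec (CommRingCat.of k))) x).toAlgebra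
    haveI := Groth.Agent.Helper12.FieldSm.essFiniteType_stalk (X ↘ (Spec (CommRingCat.of k))) x
    exact Groth.Agent.Helper17.KR.formallySmooth_of_isRegularLocalRing k (X.presheaf.stalk x)

end Groth.Agent.S1561
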