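import Groth.Statements.S18404
-- import your own Groth.Agent.* helpers here
import Mathlib
import Groth.Agent.Lib.Helper27.Hesse

set_option autoImplicit false
universe u
open Cubic

namespace Groth.Agent.S18404

open MvPolynomial in
/-- Let k ∈ ℂ with k³ ≠ 1 and let h = X₀³ + X₁³ + X₂³ − 3k·X₀X₁X₂ be the Hesse cubic. For a nonzero
vector v with h(v) = 0, the corresponding point is a flex of the plane curve of h — some line
through it meets the curve there with multiplicity three, i.e. there is a vector w linearly
independent from v with h(v + t·w) = t³·h(w) for every t — exactly when v is a scalar multiple of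
one of the nine vectors (0, 1, −γ), (−γ, 0, 1), (1, −γ, 0) with γ³ = 1. -/
theorem result (k : ℂ) (hk : k ^ 3 ≠ 1) (v : Fin 3 → ℂ) (hv : v ≠ 0)
    (hCv : eval v (HesseCubic.form k) = 0) :
    (∃ w : Fin 3 → ℂ, LinearIndependent ℂ ![v, w] ∧
        ∀ t : ℂ, eval (v + t • w) (HesseCubic.form k) = t ^ 3 * eval w (HesseCubic.form k)) ↔
      ∃ γ c : ℂ, γ ^ 3 = 1 ∧ (v = c • ![0, 1, -γ] ∨ v = c • ![-γ, 0, 1] ∨ v = c • ![1, -γ, 0]) := by
  open Groth.Agent.Helper27.Hesse Matrix in
  constructor
  · rintro ⟨w, hli, hflex⟩
    have hprod := flex_prod_zero k hk v w hCv hli hflex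
    rw [eval_form] at hCv
    have hvne : v 0 ≠ 0 ∨ v 1 ≠ 0 ∨ v 2 ≠ 0 := by
      by_contra hcon
      push Not at hcon
      apply hv
      funext i
      fin_cases i
      · exact hcon.1
      · exact hcon.2.1
      · exact hcon.2.2
    rcases mul_eq_zero.mp hprod with h01 | h2
    · rcases mul_eq_zero.mp h01 with h0 | h1
      · -- v 0 = 0
        have h12 : v 1 ^ 3 + v 2 ^ 3 = 0 := by rw [h0] at hCv; linear_combination hCv
        have hv1 : v 1 ≠ 0 := by
          intro h1
          rw [h1] at h12
          have h2 : v 2 = 0 := by
            have : v 2 ^ 3 = 0 := by linear_combination h12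
            exact pow_eq_zero_iff (by norm_num) |>.mp this
          rcases hvne with h | h | h
          · exact h h0
          · exact h h1
          · exact h h2
        refine ⟨-(v 2 / v 1), v 1, ?_, Or.inl ?_⟩
        · field_simp
          linear_combination -h12
        · funext i
          fin_cases i
          · simp [h0]
          · simp
          · simp; field_simp
      · -- v 1 = 0
        have h02 : v 0 ^ 3 + v 2 ^ 3 = 0 := by rw [h1] at hCv; linear_combination hCv
        have hv2 : v 2 ≠ 0 := by
          intro h2
          rw [h2] at h02
          have h0 : v 0 = 0 := by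
            have : v 0 ^ 3 = 0 := by linear_combination h02
            exact pow_eq_zero_iff (by norm_num) |>.mp this
          rcases hvne with h | h | h
          · exact h h0
          · exact h h1
          · exact h h2
        refine ⟨-(v 0 / v 2), v 2, ?_, Or.inr (Or.inl ?_)⟩
        · field_simp
          linear_combination -h02
        · funext i
          fin_cases i
          · simp; field_simp
          · simp [h1]
          · simp
    · -- v 2 = 0
      have h01 : v 0 ^ 3 + v 1 ^ 3 = 0 := by rw [h2] at hCv; linear_combination hCv
      have hv0 : v 0 ≠ 0 := by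
        intro h0
        rw [h0] at h01
        have h1 : v 1 = 0 := by
          have : v 1 ^ 3 = 0 := by linear_combination h01
          exact pow_eq_zero_iff (by norm_num) |>.mp this
        rcases hvne with h | h | h
        · exact h h0
        · exact h h1
        · exact h h2
      refine ⟨-(v 1 / v 0), v 0, ?_, Or.inr (Or.inr ?_)⟩
      · field_simp
        linear_combination -h01
      · funext i
        fin_cases i
        · simp
        · simp; field_simp
        · simp [h2]
  · rintro ⟨γ, c, hγ, hcase⟩
    have hc : c ≠ 0 := by
      rintro rfl
      apply hv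
      rcases hcase with h | h | h <;> rw [h, zero_smul]
    rcases hcase with h | h | h
    · refine ⟨![1, -(k * γ), 0], ?_, ?_⟩
      · rw [LinearIndependent.pair_iff]
        intro a b hab
        have e0 := congrFun hab 0
        have e1 := congrFun hab 1
        simp [h] at e0 e1
        subst e0
        simp at e1
        exact ⟨by rcases e1 with h | h; exact h; exact absurd h hc, rfl⟩
      · intro t
        rw [eval_form, eval_form, h]
        simp
        linear_combination (-(c ^ 3) - k ^ 3 * t ^ 3 + t^3 * k^3) * hγ
    · refine ⟨![0, 1, -(k * γ)], ?_, ?_⟩
      · rw [LinearIndependent.pair_iff]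
        intro a b hab
        have e0 := congrFun hab 1
        have e1 := congrFun hab 2
        simp [h] at e0 e1
        subst e0
        simp at e1
        exact ⟨by rcases e1 with h | h; exact h; exact absurd h hc, rfl⟩
      · intro t
        rw [eval_form, eval_form, h]
        simp
        linear_combination (-(c ^ 3) - k ^ 3 * t ^ 3 + t^3 * k^3) * hγ
    · refine ⟨![-(k * γ), 0, 1], ?_, ?_⟩
      · rw [LinearIndependent.pair_iff]
        intro a b hab
        have e0 := congrFun hab 2
        have e1 := congrFun hab 0
        simp [h] at e0 e1
        subst e0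
        simp at e1
        exact ⟨by rcases e1 with h | h; exact h; exact absurd h hc, rfl⟩
      · intro t
        rw [eval_form, eval_form, h]
        simp
        linear_combination (-(c ^ 3) - k ^ 3 * t ^ 3 + t^3 * k^3) * hγ

end Groth.Agent.S18404
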