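import Mathlib
import Groth.Statements.S12601
import Groth.Agent.Lib.Helper19.Jumps
-- import your own Groth.Agent.* helpers here

set_option autoImplicit false
open FunFld

namespace Groth.Agent.S12601

open Groth.Agent.Helper19.Jumps Module in

/-- Over an algebraically closed constant field, if `j'₁ < ⋯ < j'ₙ` is a strictly increasing sequence
with `det [τ(φ) | D^(j'₁) φ | ⋯ | D^(j'ₙ) φ] ≠ 0`, then the `τ`-orders `j₁ < ⋯ < jₙ` of `φ` satisfy
`jₗ ≤ j'ₗ` for all `l`. -/
theorem result
    (k K : Type*) [Field k] [IsAlgClosed k] [Field K] [Algebra k K]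
    (hK : FunFld.IsFunctionField k K) {n : ℕ} (φ : Fin (n + 1) → K) (hφ : LinearIndependent k φ)
    (τ : K →ₐ[k] K) (s : K) (H : K →ₐ[k] PowerSeries K) (hH : LocRes.IsHasseFamily s H)
    (J : Fin n → ℕ) (hJ : FunFld.IsOrders K (FunFld.hcol τ H φ) J)
    (J' : Fin n → ℕ) (hJ' : StrictMono J') (hdet : (FunFld.wrMat τ H φ J').det ≠ 0) :
    ∀ l, J l ≤ J' l := by
  classical
  intro l
  by_contra hlt
  rw [not_le] at hlt
  set c := FunFld.hcol τ H φ with hc
  set M := J' l + 2 with hM
  let idx : Fin (n + 1) → ℕ := Fin.cases 0 (fun t => J' t + 1)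
  have hcol : ∀ c', (FunFld.wrMat τ H φ J').col c' = c (idx c') := by
    intro c'
    funext i
    refine Fin.cases ?_ (fun t => ?_) c'
    · rfl
    · rfl
  have hli : LinearIndependent K (FunFld.wrMat τ H φ J').col :=
    Matrix.linearIndependent_cols_of_det_ne_zero hdet
  -- the first l+2 columns
  let ι := {c' : Fin (n + 1) // c' ≤ l.succ}
  have hidx : ∀ c' : ι, idx c'.1 < M := by
    rintro ⟨c', hc'⟩
    refine Fin.cases ?_ (fun t ht => ?_) c' hc'
    · intro _; simp only [idx, Fin.cases_zero, hM]; omega
    · have : t ≤ l := Fin.succ_le_succ_iff.1 ht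
      have := hJ'.monotone this
      simp only [idx, Fin.cases_succ, hM]; omega
  have hli2 : LinearIndependent K (fun c' : ι => (FunFld.wrMat τ H φ J').col c'.1) :=
    hli.comp _ Subtype.val_injective
  have hspan : Submodule.span K (Set.range fun c' : ι => (FunFld.wrMat τ H φ J').col c'.1) ≤ S K c M := by
    rw [Submodule.span_le]
    rintro _ ⟨c', rfl⟩
    change (FunFld.wrMat τ H φ J').col c'.1 ∈ S K c M
    rw [hcol]
    exact mem_S c (hidx c')
  have h1 : Fintype.card ι ≤ finrank K (S K c M) := by
    rw [← finrank_span_eq_card hli2]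
    exact Submodule.finrank_mono hspan
  have hcard : Fintype.card ι = (l : ℕ) + 2 := by
    have : Fintype.card ι = (Finset.Iic l.succ).card := by
      rw [Fintype.card_subtype]
      congr 1
      ext x; simp
    rw [this, Fin.card_Iic]
    simp
  have h2 : ((Finset.range M).filter (fun j => FunFld.IsJump K c j)).card ≤ 1 + (l : ℕ) := by
    have hsub : (Finset.range M).filter (fun j => FunFld.IsJump K c j) ⊆
        insert 0 ((Finset.Iio l).image fun t => J t + 1) := by
      intro j hj
      rw [Finset.mem_filter, Finset.mem_range] at hj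
      rcases j with _ | j'
      · exact Finset.mem_insert_self _ _
      · refine Finset.mem_insert_of_mem ?_
        obtain ⟨t, ht⟩ := (hJ.2 j').2 hj.2
        refine Finset.mem_image.2 ⟨t, ?_, by rw [ht]⟩
        rw [Finset.mem_Iio]
        apply hJ.1.lt_iff_lt.1
        rw [ht]
        omega
    refine (Finset.card_le_card hsub).trans ?_
    refine (Finset.card_insert_le _ _).trans ?_
    have := Finset.card_image_le (s := Finset.Iio l) (f := fun t => J t + 1)
    rw [Fin.card_Iio] at this
    omega
  rw [finrank_S, hcard] at h1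
  omega

end Groth.Agent.S12601
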