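import Mathlib
import Groth.Statements.S12596
-- import your own Groth.Agent.* helpers here

set_option autoImplicit false
open FunFld

namespace Groth.Agent.S12596


/-- Over an algebraically closed constant field, replacing a projective map `φ` by `Aφ` for an
invertible matrix `A` over `k` does not change the `τ`-order sequence, and multiplies every
generalized Wronskian determinant `det [τ(φ) | D^(I₁) φ | ⋯ | D^(Iₙ) φ]` (Hasse derivatives taken
with `H`) by `det A`. -/
theorem result
    (k K : Type*) [Field k] [IsAlgClosed k] [Field K] [Algebra k K]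
    (hK : FunFld.IsFunctionField k K) {n : ℕ} (φ : Fin (n + 1) → K) (hφ : LinearIndependent k φ)
    (τ : K →ₐ[k] K) (s : K) (H : K →ₐ[k] PowerSeries K) (hH : LocRes.IsHasseFamily s H)
    (A : Matrix (Fin (n + 1)) (Fin (n + 1)) k) (hA : A.det ≠ 0)
    (φ' : Fin (n + 1) → K) (hφ' : ∀ i, φ' i = ∑ j, A i j • φ j) :
    (∀ J : Fin n → ℕ, FunFld.IsOrders K (FunFld.hcol τ H φ') J ↔ FunFld.IsOrders K (FunFld.hcol τ H φ) J) ∧
    ∀ I : Fin n → ℕ, (FunFld.wrMat τ H φ' I).det = algebraMap k K A.det * (FunFld.wrMat τ H φ I).det := by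
  classical
  set AK : Matrix (Fin (n + 1)) (Fin (n + 1)) K := (algebraMap k K).mapMatrix A with hAK
  have hdet : AK.det = algebraMap k K A.det := by
    rw [hAK, ← RingHom.map_det]
  have hdet0 : AK.det ≠ 0 := by
    rw [hdet]
    exact (map_ne_zero _).2 hA
  -- linearity of the operators
  have hτ : ∀ i, τ (φ' i) = ∑ j, AK i j * τ (φ j) := by
    intro i
    rw [hφ' i, map_sum]
    refine Finset.sum_congr rfl fun j _ => ?_
    rw [map_smul, Algebra.smul_def]
    rfl
  have hD : ∀ m i, LocRes.hasseD H m (φ' i) = ∑ j, AK i j * LocRes.hasseD H m (φ j) := by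
    intro m i
    simp only [LocRes.hasseD_apply]
    rw [hφ' i, map_sum, map_sum]
    refine Finset.sum_congr rfl fun j _ => ?_
    rw [map_smul, LinearMap.map_smul_of_tower, Algebra.smul_def]
    rfl
  -- the transformation
  have hinj : Function.Injective AK.mulVec := by
    rw [Matrix.mulVec_injective_iff_isUnit, Matrix.isUnit_iff_isUnit_det]
    exact isUnit_iff_ne_zero.2 hdet0
  have hcol : ∀ m, FunFld.hcol τ H φ' m = AK.mulVec (FunFld.hcol τ H φ m) := by
    intro m
    funext i
    cases m with
    | zero => exact hτ i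
    | succ m => exact hD m i
  have hjump : ∀ j, FunFld.IsJump K (FunFld.hcol τ H φ') j ↔ FunFld.IsJump K (FunFld.hcol τ H φ) j := by
    intro j
    unfold FunFld.IsJump
    rw [not_iff_not]
    have himg : FunFld.hcol τ H φ' '' Set.Iio j = AK.mulVecLin '' (FunFld.hcol τ H φ '' Set.Iio j) := by
      rw [Set.image_image]
      exact Set.image_congr fun m _ => hcol m
    rw [himg, ← Submodule.map_span, hcol j]
    constructor
    · rintro ⟨y, hy, hTy⟩
      have : y = FunFld.hcol τ H φ j := hinj hTy
      rwa [← this]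
    · intro h
      exact ⟨_, h, rfl⟩
  refine ⟨fun J => ?_, fun I => ?_⟩
  · unfold FunFld.IsOrders
    simp only [hjump]
  · have hmul : FunFld.wrMat τ H φ' I = AK * FunFld.wrMat τ H φ I := by
      ext i c
      rw [Matrix.mul_apply]
      refine Fin.cases ?_ (fun l => ?_) c
      · exact hτ i
      · exact hD (I l) i
    rw [hmul, Matrix.det_mul, hdet]

end Groth.Agent.S12596
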