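import Mathlib
import Groth.Statements.S12597
import Groth.Agent.Lib.Helper19.Jumps
-- import your own Groth.Agent.* helpers here

set_option autoImplicit false
open FunFld

namespace Groth.Agent.S12597

open Groth.Agent.Helper19.Jumps Module in

/-- Over an algebraically closed constant field, multiplying a projective map `φ = (φ₀, …, φₙ)` by a
nonzero function `y` does not change its `τ`-order sequence `J`, and multiplies the Wronskian `det
[τ(φ) | D^(j₁) φ | ⋯ | D^(jₙ) φ]` taken at that sequence by `τ(y) yⁿ`. -/
theorem result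
    (k K : Type*) [Field k] [IsAlgClosed k] [Field K] [Algebra k K]
    (hK : FunFld.IsFunctionField k K) {n : ℕ} (φ : Fin (n + 1) → K) (hφ : LinearIndependent k φ)
    (τ : K →ₐ[k] K) (s : K) (H : K →ₐ[k] PowerSeries K) (hH : LocRes.IsHasseFamily s H) (y : K) (hy : y ≠ 0) :
    (∀ J : Fin n → ℕ, FunFld.IsOrders K (FunFld.hcol τ H (y • φ)) J ↔ FunFld.IsOrders K (FunFld.hcol τ H φ) J) ∧
    ∀ J : Fin n → ℕ, FunFld.IsOrders K (FunFld.hcol τ H φ) J →
      (FunFld.wrMat τ H (y • φ) J).det = τ y * y ^ n * (FunFld.wrMat τ H φ J).det := by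
  classical
  set c := FunFld.hcol τ H φ with hc
  set c' := FunFld.hcol τ H (y • φ) with hc'
  let a : ℕ → K := fun j => if j = 0 then τ y else y
  have ha : ∀ j, a j ≠ 0 := by
    intro j
    simp only [a]
    split_ifs
    · exact (map_ne_zero τ).2 hy
    · exact hy
  have h0 : c' 0 = τ y • c 0 := by
    funext i
    change τ ((y • φ) i) = τ y * τ (φ i)
    rw [Pi.smul_apply, smul_eq_mul, map_mul]
  have hsucc : ∀ j, c' (j + 1) = ∑ p ∈ Finset.HasAntidiagonal.antidiagonal j,
      PowerSeries.coeff p.1 (H y) • c (p.2 + 1) := by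
    intro j
    funext i
    change LocRes.hasseD H j ((y • φ) i) = _
    rw [LocRes.hasseD_apply, Pi.smul_apply, smul_eq_mul, map_mul, PowerSeries.coeff_mul,
      Finset.sum_apply]
    rfl
  have hdiff : ∀ j, c' j - a j • c j ∈ S K c j := by
    intro j
    rcases j with _ | j
    · simp only [a, if_true]
      rw [h0, sub_self]
      exact Submodule.zero_mem _
    · have hmem : ((0, j) : ℕ × ℕ) ∈ Finset.HasAntidiagonal.antidiagonal j := by
        rw [Finset.HasAntidiagonal.mem_antidiagonal]; simp
      rw [hsucc j, ← Finset.add_sum_erase _ _ hmem]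
      have hy0 : PowerSeries.coeff 0 (H y) = y := by
        rw [PowerSeries.coeff_zero_eq_constantCoeff_apply, hH.2]
      have haj : a (j + 1) = y := by simp [a]
      rw [hy0, haj, add_sub_cancel_left]
      refine Submodule.sum_mem _ fun p hp => Submodule.smul_mem _ _ ?_
      rw [Finset.mem_erase, Finset.HasAntidiagonal.mem_antidiagonal] at hp
      apply mem_S
      have : p.2 ≠ j := by
        intro h2
        apply hp.1
        ext
        · simp; omega
        · exact h2
      omega
  obtain ⟨hS, hjump⟩ := triangular_change c c' a ha hdiff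
  refine ⟨fun J => ?_, fun J hJ => ?_⟩
  · unfold FunFld.IsOrders
    simp only [hjump]
  · let idx : Fin (n + 1) → ℕ := Fin.cases 0 (fun t => J t + 1)
    let aN : Fin (n + 1) → K := Fin.cases (τ y) (fun _ => y)
    have hA : ∀ l, (FunFld.wrMat τ H φ J).col l = c (idx l) := by
      intro l
      funext i
      refine Fin.cases ?_ (fun t => ?_) l
      · rfl
      · rfl
    have hB : ∀ l, (FunFld.wrMat τ H (y • φ) J).col l = c' (idx l) := by
      intro l
      funext i
      refine Fin.cases ?_ (fun t => ?_) l
      · rfl
      · rfl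
    have haN : ∀ l, aN l = a (idx l) := by
      intro l
      refine Fin.cases ?_ (fun t => ?_) l
      · simp [aN, idx, a]
      · simp [aN, idx, a]
    have hcols : ∀ l, (FunFld.wrMat τ H (y • φ) J).col l - aN l • (FunFld.wrMat τ H φ J).col l ∈
        Submodule.span K ((FunFld.wrMat τ H φ J).col '' Set.Iio l) := by
      intro l
      rw [hA, hB, haN]
      have h1 := hdiff (idx l)
      rw [S_eq_span_jumps] at h1
      refine Submodule.span_mono ?_ h1
      rintro _ ⟨j, ⟨hjl, hj⟩, rfl⟩
      -- l must be a successor
      revert hjl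
      refine Fin.cases ?_ (fun t => ?_) l
      · intro hjl
        simp [idx] at hjl
      · intro hjl
        simp only [idx, Fin.cases_succ] at hjl
        rcases j with _ | j'
        · refine ⟨0, ?_, ?_⟩
          · simp [Fin.succ_pos]
          · rw [hA]; rfl
        · obtain ⟨t', ht'⟩ := (hJ.2 j').2 hj
          refine ⟨t'.succ, ?_, ?_⟩
          · simp only [Set.mem_Iio, Fin.succ_lt_succ_iff]
            apply hJ.1.lt_iff_lt.1
            omega
          · rw [hA]
            simp only [idx, Fin.cases_succ, ht']
    rw [det_of_cols_triangular _ _ aN hcols, Fin.prod_univ_succ]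
    simp [aN]

end Groth.Agent.S12597
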