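import Mathlib
import Groth.Statements.S12595
-- import your own Groth.Agent.* helpers here

set_option autoImplicit false
open FunFld

namespace Groth.Agent.S12595


/-- Over an algebraically closed constant field, let `φ` be a birational projective map of the function
field `K` (the ratios `φ i / φ 0` generate `K`), `τ` a `k`-endomorphism of `K` and `H` a total Hasse
derivative. Then the first `τ`-order of `φ` is positive — the column `φ` of `0`-th Hasse derivatives
lies in the `K`-span of the leading column `τ(φ)` — exactly when `τ` is the identity. -/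
theorem result
    (k K : Type*) [Field k] [IsAlgClosed k] [Field K] [Algebra k K]
    (hK : FunFld.IsFunctionField k K) {n : ℕ} (φ : Fin (n + 1) → K) (h0 : φ 0 ≠ 0)
    (hbir : IntermediateField.adjoin k (Set.range fun i => φ i / φ 0) = ⊤)
    (τ : K →ₐ[k] K) (s : K) (H : K →ₐ[k] PowerSeries K) (hH : LocRes.IsHasseFamily s H) :
    ¬ FunFld.IsJump K (FunFld.hcol τ H φ) 1 ↔ τ = AlgHom.id k K := by
  have hc1 : FunFld.hcol τ H φ 1 = φ := by
    funext i
    change LocRes.hasseD H 0 (φ i) = φ i
    rw [LocRes.hasseD_apply, PowerSeries.coeff_zero_eq_constantCoeff_apply, hH.2]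
  have hc0 : FunFld.hcol τ H φ 0 = fun i => τ (φ i) := rfl
  have himg : (FunFld.hcol τ H φ) '' Set.Iio 1 = {fun i => τ (φ i)} := by
    have : Set.Iio 1 = ({0} : Set ℕ) := by
      ext j; simp
    rw [this, Set.image_singleton, hc0]
  unfold FunFld.IsJump
  rw [not_not, himg, hc1, Submodule.mem_span_singleton]
  constructor
  · rintro ⟨a, ha⟩
    have ha' : ∀ i, a * τ (φ i) = φ i := fun i => congrFun ha i
    have ha0 : a ≠ 0 := by
      rintro rfl
      apply h0
      rw [← ha' 0, zero_mul]
    have hfix : ∀ i, τ (φ i / φ 0) = φ i / φ 0 := by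
      intro i
      rw [map_div₀]
      conv_rhs => rw [← ha' i, ← ha' 0]
      rw [mul_div_mul_left _ _ ha0]
    have hall : ∀ x ∈ IntermediateField.adjoin k (Set.range fun i => φ i / φ 0), τ x = x := by
      intro x hx
      induction hx using IntermediateField.adjoin_induction with
      | mem x hx =>
        obtain ⟨i, rfl⟩ := hx
        exact hfix i
      | algebraMap x => exact τ.commutes x
      | add x y _ _ hx hy => rw [map_add, hx, hy]
      | inv x _ hx => rw [map_inv₀, hx]
      | mul x y _ _ hx hy => rw [map_mul, hx, hy]
    ext x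
    exact hall x (hbir ▸ IntermediateField.mem_top)
  · rintro rfl
    exact ⟨1, by simp⟩

end Groth.Agent.S12595
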