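import Groth.Statements.S11065
import Groth.Agent.Lib.Helper16.FF.NSE

set_option autoImplicit false
open FunFld

namespace Groth.Agent.S11065

/-- Over an algebraically closed constant field, a projective map `φ = (φ₀, …, φₙ)`, `n ≥ 1`, is
nonsingular at the place `P` if and only if its local ring at `P` lies in the valuation ring of no
place other than `P` and contains a local parameter at `P`. Here the local ring of a projective map
at a place consists of the quotients of polynomials over `k` in the ratios `φᵢ/φⱼ`, `φⱼ` of least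
order at the place, with denominator a unit there; the map is nonsingular at the place when this
ring is the whole valuation ring. (The published statement is for any projective map; the published
proof uses the finiteness property of the local ring that is established for birational maps, so `φ`
is taken birational here: the ratios `φᵢ/φ₀` generate `K` over `k`.) -/
theorem result
    (k K : Type*) [Field k] [IsAlgClosed k] [Field K] [Algebra k K]
    (hK : FunFld.IsFunctionField k K) {n : ℕ} (hn : 1 ≤ n)
    (φ : Fin (n + 1) → K) (hφ : LinearIndependent k φ)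
    (hbir : IntermediateField.adjoin k (Set.range fun i => φ i / φ 0) = ⊤) (P : FunFld.Place k K) :
    FunFld.IsNonsingularAt φ P ↔
      (∀ Q : FunFld.Place k K, (∀ z : K, FunFld.InLocRing φ P z → Q.1 z ≤ 1) → Q = P) ∧
        ∃ t : K, FunFld.InLocRing φ P t ∧ P.1 t = WithZero.exp (-1) := by
  have h0 : ∃ i, φ i ≠ 0 := ⟨0, hφ.ne_zero 0⟩
  obtain ⟨j, hj0, hj⟩ := Groth.Agent.Helper16.FF.exists_max_index φ P h0
  have hxP : ∀ i, P.1 (φ i / φ j) ≤ 1 := by
    intro i
    rw [map_div₀]
    exact div_le_one_of_le₀ (hj i) zero_le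
  constructor
  · intro h
    refine ⟨fun Q hQ => ?_, ?_⟩
    · by_contra hQP
      obtain ⟨y, hy1, hy2⟩ := Groth.Agent.Helper16.FF.Place.exists_le_one_lt P Q (Ne.symm hQP)
      exact absurd (hQ y (h y hy1)) (not_le.2 hy2)
    · obtain ⟨t, ht⟩ := Groth.Agent.Helper16.FF.Place.exists_uniformizer P
      refine ⟨t, h t ?_, ht⟩
      rw [ht, ← WithZero.exp_zero, WithZero.exp_le_exp]; norm_num
  · rintro ⟨h1, t, ht, htv⟩
    intro z hz
    rw [Groth.Agent.Helper16.FF.inLocRing_iff φ P hj0 hj]
    refine Groth.Agent.Helper16.FF.locRing_eq_of_sep hK (fun i => φ i / φ j) P hxP ?_ ?_ hz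
    · intro Q hQP hQ
      by_contra hcon
      push Not at hcon
      apply hQP
      apply h1 Q
      intro z' hz'
      rw [Groth.Agent.Helper16.FF.inLocRing_iff φ P hj0 hj] at hz'
      obtain ⟨u, hu, w, hw, hw1, hzw⟩ := hz'
      have hw2 : Q.1 w = 1 := le_antisymm
        (Groth.Agent.Helper16.FF.val_le_one_of_mem_adjoin _ Q hQ hw) (hcon w hw hw1)
      have hu2 : Q.1 u ≤ 1 := Groth.Agent.Helper16.FF.val_le_one_of_mem_adjoin _ Q hQ hu
      rwa [← hzw, map_mul, hw2, mul_one] at hu2
    · rw [Groth.Agent.Helper16.FF.inLocRing_iff φ P hj0 hj] at ht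
      obtain ⟨u, hu, w, hw, hw1, hzw⟩ := ht
      refine ⟨u, hu, ?_⟩
      rw [← hzw, map_mul, hw1, mul_one, htv]

end Groth.Agent.S11065
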