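import Groth.Statements.S1246
-- import your own Groth.Agent.* helpers here
import Mathlib
import Groth.Agent.Lib.Helper10.ImpBC
import Groth.Agent.Lib.Helper27.Pu12

set_option autoImplicit false
universe u
open FlatMor

namespace Groth.Agent.S1246

open TensorProduct in
attribute [local instance] Algebra.TensorProduct.rightAlgebra in
theorem flat_right {A E A' : Type u} [CommRing A] [CommRing E] [CommRing A'] [Algebra A E]
    [Algebra A A'] [Module.Flat A E] : Module.Flat A' (E ⊗[A] A') := by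
  let c : E ⊗[A] A' ≃ₗ[A'] A' ⊗[A] E :=
    { (TensorProduct.comm A E A') with
      map_smul' := fun a' x => by
        induction x using TensorProduct.induction_on with
        | zero => simp
        | tmul x b =>
          simp only [AddHom.toFun_eq_coe, LinearMap.coe_toAddHom, LinearEquiv.coe_coe,
            RingHom.id_apply]
          rw [Algebra.smul_def, Algebra.TensorProduct.right_algebraMap_apply,
            Algebra.TensorProduct.tmul_mul_tmul, one_mul, TensorProduct.comm_tmul,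
            TensorProduct.comm_tmul, TensorProduct.smul_tmul', smul_eq_mul]
        | add x y hx hy =>
          simp only [AddHom.toFun_eq_coe, LinearMap.coe_toAddHom, LinearEquiv.coe_coe,
            RingHom.id_apply] at hx hy ⊢
          rw [smul_add, map_add, map_add, smul_add, hx, hy] }
  exact Module.Flat.of_linearEquiv c

open TensorProduct in
attribute [local instance] Algebra.TensorProduct.rightAlgebra in
theorem main_aux {A B : Type u} [CommRing A] [CommRing B] [Algebra A B] [Algebra.FiniteType A B]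
    (N : Type u) [AddCommGroup N] [Module B N] [Module.Finite B N] (p : Ideal A) [p.IsPrime]
    (h : FlatCA.HasImpurity A B N p (fun A' _ _ t => ∃ _ : t.IsPrime, Algebra.FiniteType A A' ∧ Algebra.QuasiFiniteAt A t)) :
    FlatCA.HasImpurity A B N p (fun A' _ _ t => ∃ _ : t.IsPrime, FlatCA.IsEtaleNhd A A' p t) := by
  classical
  obtain ⟨A', B', N', iA', iB', algAA', algBB', algA'B', algAB', tABB', tAA'B', acgN', modB'N',
    modBN', tBB'N', modA'N', tA'B'N', f, t', t, ht', ht, P, hP, himp, ⟨ht2, hft, hqf⟩⟩ := h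
  haveI := hft
  haveI := hqf
  haveI htp : t.LiesOver p := himp.2.2.2.1
  obtain ⟨E, iE, algAE, hEt, P₀, hP₀p, hP₀o, e, he, P', hP'p, hP'o, hP't, heP', hbij, hfin,
    huniq⟩ := Algebra.exists_etale_isIdempotentElem_forall_liesOver_eq (R := A) (S := A') p t
  haveI := hEt
  haveI := hfin
  haveI hflatE : Module.Flat A E := inferInstance
  haveI hflat : Module.Flat A' (E ⊗[A] A') := flat_right
  haveI hP't' : P'.LiesOver t := ⟨hP't.symm⟩
  obtain ⟨P'', hP''le, hP''p, hP''o⟩ :=
    Ideal.exists_ideal_le_liesOver_of_le (p := t') (q := t) P' himp.2.2.1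
  haveI := hP''p
  haveI := hP''o
  have heP'' : e ∉ P'' := fun h => heP' (hP''le h)
  -- level 0
  let fE : N →ₗ[B] (E ⊗[A] B) ⊗[B] N := TensorProduct.mk B (E ⊗[A] B) N 1
  have hfE : IsBaseChange (E ⊗[A] B) fE := TensorProduct.isBaseChange B N (E ⊗[A] B)
  haveI hpushE : Algebra.IsPushout A B E (E ⊗[A] B) := TensorProduct.isPushout'
  -- level 2
  have hf₂ : IsBaseChange ((E ⊗[A] B) ⊗[E] (E ⊗[A] A'))
      (TensorProduct.mk (E ⊗[A] B) ((E ⊗[A] B) ⊗[E] (E ⊗[A] A')) ((E ⊗[A] B) ⊗[B] N) 1) :=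
    TensorProduct.isBaseChange (E ⊗[A] B) ((E ⊗[A] B) ⊗[B] N) ((E ⊗[A] B) ⊗[E] (E ⊗[A] A'))
  have key := Groth.Agent.Helper10.ImpBC.construct N p E (E ⊗[A] B) ((E ⊗[A] B) ⊗[B] N) fE hfE P₀
    A' B' N' f t' t P himp
    (E ⊗[A] A') ((E ⊗[A] B) ⊗[E] (E ⊗[A] A'))
    (((E ⊗[A] B) ⊗[E] (E ⊗[A] A')) ⊗[E ⊗[A] B] ((E ⊗[A] B) ⊗[B] N))
  obtain ⟨P₂, hP₂, himp₂⟩ := key _ hf₂ P'' P' hP''le
  obtain ⟨t₀', ht₀', P₀', hP₀', himp₀⟩ := Groth.Agent.Helper27.Pu.down ((E ⊗[A] B) ⊗[B] N) P₀
    (E ⊗[A] A') ((E ⊗[A] B) ⊗[E] (E ⊗[A] A'))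
    (((E ⊗[A] B) ⊗[E] (E ⊗[A] A')) ⊗[E ⊗[A] B] ((E ⊗[A] B) ⊗[B] N)) _ P'' P' P₂ himp₂
    e he heP' huniq
  obtain ⟨-, -, hle₀, -, hover₀, hass₀, hcl₀⟩ := himp₀
  exact ⟨E, E ⊗[A] B, (E ⊗[A] B) ⊗[B] N, inferInstance, inferInstance, inferInstance,
    inferInstance, inferInstance, inferInstance, inferInstance, inferInstance, inferInstance,
    inferInstance, inferInstance, inferInstance, inferInstance, inferInstance, fE,
    t₀', P₀, ht₀', hP₀p, P₀', hP₀',
    ⟨hpushE, hfE, hle₀, hP₀o, hover₀, hass₀, hcl₀⟩, ⟨hP₀p, hEt, hP₀o, hbij⟩⟩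



/-- Ring form, X = Spec B affine: let B be a finite type A-algebra, N a finite B-module and p a prime of
A. If there is an impurity of N above p whose base change A → A' is of finite type and quasi-finite
at the point t, then there is an impurity of N above p for which (A', t) is an elementary étale ring
map at p. -/
theorem result {A B : Type u} [CommRing A] [CommRing B] [Algebra A B] [Algebra.FiniteType A B]
    (N : Type u) [AddCommGroup N] [Module B N] [Module.Finite B N] (p : Ideal A) [p.IsPrime]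
    (h : FlatCA.HasImpurity A B N p (fun A' _ _ t => ∃ _ : t.IsPrime, Algebra.FiniteType A A' ∧ Algebra.QuasiFiniteAt A t)) :
    FlatCA.HasImpurity A B N p (fun A' _ _ t => ∃ _ : t.IsPrime, FlatCA.IsEtaleNhd A A' p t) := by
  exact main_aux N p h

end Groth.Agent.S1246
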