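import Groth.Statements.S4991
import Groth.Agent.Lib.Helper12.SmoothNhd
import Groth.Agent.Lib.Helper14.RegAscent
import Groth.Agent.Lib.Lead.Hom14

set_option autoImplicit false
universe u
open CategoryTheory CategoryTheory.Limits AlgebraicGeometry TopologicalSpace
open Unram17

namespace Groth.Agent.S4991

/-- Let Y be locally Noetherian and f : X ⟶ Y locally of finite type, smooth on an open neighbourhood of
a point x with image y. Then the local ring of X at x is regular if and only if the local ring of Y
at y is regular. -/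
theorem result {X Y : Scheme.{u}} (f : X ⟶ Y)
    [IsLocallyNoetherian Y] [LocallyOfFiniteType f] (x : ↥X)
    (hx : ∃ U : X.Opens, x ∈ U ∧ Smooth (U.ι ≫ f)) :
    IsRegularLocalRing ↑(X.presheaf.stalk x) ↔ IsRegularLocalRing ↑(Y.presheaf.stalk (f.base x)) := by
  obtain ⟨U, hxU, hsm⟩ := hx
  haveI := hsm
  haveI : IsLocallyNoetherian X := LocallyOfFiniteType.isLocallyNoetherian f
  letI : Algebra (Y.presheaf.stalk (f.base x)) (X.presheaf.stalk x) := (f.stalkMap x).hom.toAlgebra
  haveI : Module.Flat (Y.presheaf.stalk (f.base x)) (X.presheaf.stalk x) :=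
    Groth.Agent.Helper12.SmoothNhd.flat_stalkMap_of_nhd f x U hxU
  haveI : IsLocalHom (algebraMap (Y.presheaf.stalk (f.base x)) (X.presheaf.stalk x)) :=
    inferInstanceAs (IsLocalHom (f.stalkMap x).hom)
  have hreg := Groth.Agent.Helper12.SmoothNhd.isRegularLocalRing_fibre_of_nhd f x U hxU
  constructor
  · intro h
    exact Groth.Agent.Lead.Hom.isRegularLocalRing_of_flat (Y.presheaf.stalk (f.base x))
      (X.presheaf.stalk x)
  · intro h
    exact Groth.Agent.Helper14.RegAscent.isRegularLocalRing_of_flat_of_fibre
      (Y.presheaf.stalk (f.base x)) (X.presheaf.stalk x) hreg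

end Groth.Agent.S4991
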