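import Groth.Statements.S5033
import Groth.Agent.Lib.Lead.RLR7

set_option autoImplicit false
universe u
open CInt

namespace Groth.Agent.S5033

open IsLocalRing RingTheory.Sequence Groth.Agent.Lead.RLR

theorem ofList_ofFn {A : Type u} [CommRing A] {n : ℕ} (f : Fin n → A) :
    Ideal.ofList (List.ofFn f) = Ideal.span (Set.range f) := by
  unfold Ideal.ofList
  congr 1
  ext r
  simp [List.mem_ofFn]

theorem aux : ∀ (n : ℕ) (A : Type u) [CommRing A] [IsNoetherianRing A] [IsLocalRing A]
    (rs : List A), rs.length = n → IsWeaklyRegular A rs →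
    IsRegularLocalRing (A ⧸ Ideal.ofList rs) → IsRegularLocalRing A := by
  intro n
  induction n with
  | zero =>
    intro A _ _ _ rs hlen _ hreg
    obtain rfl : rs = [] := List.length_eq_zero_iff.mp hlen
    rw [Ideal.ofList_nil] at hreg
    exact IsRegularLocalRing.of_ringEquiv (RingEquiv.quotientBot A)
  | succ n ih =>
    intro A _ _ _ rs hlen hw hreg
    obtain ⟨x, rs', rfl⟩ : ∃ x rs', rs = x :: rs' := by
      cases rs with
      | nil => simp at hlen
      | cons x rs' => exact ⟨x, rs', rfl⟩
    have hlen' : rs'.length = n := by simpa using hlen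
    rw [isWeaklyRegular_cons_iff] at hw
    obtain ⟨hx, hw'⟩ := hw
    have hJtop : Ideal.ofList (x :: rs') ≠ ⊤ := Ideal.Quotient.nontrivial_iff.mp inferInstance
    have hxJ : x ∈ Ideal.ofList (x :: rs') := Ideal.subset_span (List.mem_cons_self)
    have hxm : x ∈ maximalIdeal A := IsLocalRing.le_maximalIdeal hJtop hxJ
    have hxnzd : x ∈ nonZeroDivisors A := by
      have h0 : ∀ y : A, x * y = 0 → y = 0 := fun y hy => hx (by simpa using hy)
      rw [mem_nonZeroDivisors_iff]
      exact ⟨h0, fun y hy => h0 y (by rw [mul_comm]; exact hy)⟩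
    have := isLocalRing_quotient (span_singleton_ne_top hxm)
    have hw'' : IsWeaklyRegular (A ⧸ Ideal.span {x})
        (rs'.map (algebraMap A (A ⧸ Ideal.span {x}))) := by
      rw [isWeaklyRegular_map_algebraMap_iff (A ⧸ Ideal.span {x}),
        ← (quotSMulTopEquiv x).isWeaklyRegular_congr]
      exact hw'
    have e : (A ⧸ Ideal.span {x}) ⧸ Ideal.ofList (rs'.map (algebraMap A (A ⧸ Ideal.span {x}))) ≃+*
        A ⧸ Ideal.ofList (x :: rs') := by
      rw [← Ideal.map_ofList, Ideal.ofList_cons]
      exact DoubleQuot.quotQuotEquivQuotSup _ _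
    have : IsRegularLocalRing
        ((A ⧸ Ideal.span {x}) ⧸ Ideal.ofList (rs'.map (algebraMap A (A ⧸ Ideal.span {x})))) :=
      IsRegularLocalRing.of_ringEquiv e.symm
    have : IsRegularLocalRing (A ⧸ Ideal.span {x}) :=
      ih (A ⧸ Ideal.span {x}) _ (by simpa using hlen') hw'' inferInstance
    exact of_quotient_regular x hxm hxnzd


/-- Let A be a Noetherian local ring and J an ideal such that A/J is a regular local ring. Then A is a
regular local ring if and only if J is generated by a regular sequence of A. -/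
theorem result (A : Type u) [CommRing A] [IsNoetherianRing A]
    [IsLocalRing A] (J : Ideal A) [IsRegularLocalRing (A ⧸ J)] :
    IsRegularLocalRing A ↔ CInt.IsRegularIdeal J := by
  constructor
  · intro hA
    obtain ⟨c, e, z, hce, hz, hI⟩ := exists_adapted_generators_of_regular_quotient J
    have hd : ringKrullDim A = ((c + e : ℕ) : WithBot ℕ∞) := by
      rw [← IsRegularLocalRing.spanFinrank_maximalIdeal, hce]
    have hreg := isRegular_ofFn hd z hz
    have hsplit : List.ofFn z = List.ofFn (fun i : Fin c => z (Fin.castAdd e i)) ++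
        List.ofFn (fun i : Fin e => z (Fin.natAdd c i)) := List.ofFn_add
    rw [hsplit] at hreg
    refine ⟨List.ofFn (fun i : Fin c => z (Fin.castAdd e i)), ?_, ?_⟩
    · apply IsRegular.of_isWeaklyRegular_of_mem_maximalIdeal
      · intro r hr
        rw [List.mem_ofFn] at hr
        obtain ⟨i, rfl⟩ := hr
        rw [← hz]
        exact Ideal.subset_span ⟨_, rfl⟩
      · exact ((isWeaklyRegular_append_iff A _ _).mp hreg.1).1
    · rw [ofList_ofFn, hI]
  · rintro ⟨rs, hrs, rfl⟩
    exact aux rs.length A rs rfl hrs.1 inferInstance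

end Groth.Agent.S5033
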