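import Groth.Statements.S1706
import Groth.Agent.Lib.Helper13.QCohWeakAss

set_option autoImplicit false
universe u
open CategoryTheory CategoryTheory.Limits AlgebraicGeometry TopologicalSpace
open SDiv

namespace Groth.Agent.S1706

open Groth.Agent.Helper13.QCoh

/-- Let X be a scheme, F a quasi-coherent module and U an open subset containing every weakly associated
point of F. Then the restriction map Γ(X, F) → Γ(U, F) is injective. -/
theorem result (X : Scheme.{u}) (F : X.Modules) (hF : Coh.IsQCoh F)
    (U : X.Opens) (hU : ∀ x : ↥X, Curv2.IsWeakAssPoint F x → x ∈ U) :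
    Function.Injective (F.presheaf.map (homOfLE (le_top : U ≤ ⊤)).op) := by
  have : F.IsQuasicoherent := hF
  rw [injective_iff_map_eq_zero]
  intro t ht
  by_contra hne
  -- find a point where the germ of t is nonzero
  have h1 : ∃ (x : X), F.presheaf.germ ⊤ x trivial t ≠ 0 := by
    by_contra hall
    push Not at hall
    apply hne
    apply TopCat.Presheaf.section_ext ⟨F.presheaf, F.isSheaf⟩ ⊤
    intro x hx
    rw [map_zero]
    exact hall x
  obtain ⟨x, hx⟩ := h1
  obtain ⟨_, ⟨V, hV, rfl⟩, hxV, -⟩ :=
    X.isBasis_affineOpens.exists_subset_of_mem_open (Set.mem_univ x) isOpen_univ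
  have hV' : IsAffineOpen V := hV
  have hx' : F.presheaf.germ V x hxV (F.presheaf.map (homOfLE (le_top : V ≤ ⊤)).op t) ≠ 0 := by
    rw [TopCat.Presheaf.germ_res_apply]; exact hx
  obtain ⟨y, hyV, -, hyne, hrad⟩ := exists_weakAss_specializes_of_germ_ne_zero F hV' _ x hxV hx'
  have hyU : y ∈ U := hU y ⟨_, hrad⟩
  apply hyne
  rw [TopCat.Presheaf.germ_res_apply]
  have := TopCat.Presheaf.germ_res_apply F.presheaf (homOfLE (le_top : U ≤ ⊤)) y hyU t
  rw [← this, ht, map_zero]

end Groth.Agent.S1706
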