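import Groth.Statements.S1030
import Mathlib
import Groth.Agent.Lib.Helper9.PRes4

set_option autoImplicit false
universe v u
open CategoryTheory CategoryTheory.Limits
open CohDer

namespace Groth.Agent.S1030

/-- Let P be a class of objects of an abelian category, closed under isomorphisms, which holds for some
zero object, is closed under binary direct sums, and such that every object is a quotient of an
object satisfying P. For any cochain complex K there are bounded above complexes Pₙ (n ≥ 0) with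
terms satisfying P, termwise surjective quasi-isomorphisms πₙ : Pₙ ⟶ τ_{≤ n}K and termwise split
injections ιₙ : Pₙ ⟶ Pₙ₊₁ whose cokernels satisfy P termwise, compatible in the sense that Pₙ ⟶
τ_{≤n}K ⟶ K equals Pₙ ⟶ Pₙ₊₁ ⟶ τ_{≤n+1}K ⟶ K. (The source indexes from 1.) -/
theorem result {A : Type u} [Category.{v} A] [Abelian A] (P : ObjectProperty A) [P.IsClosedUnderIsomorphisms]
    (hP0 : ∃ Z : A, IsZero Z ∧ P Z) (hPsum : ∀ X Y : A, P X → P Y → P (X ⊞ Y))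
    (hP : ∀ X : A, ∃ (Y : A) (π : Y ⟶ X), P Y ∧ Epi π) (K : CochainComplex A ℤ) :
    ∃ (Q : ℕ → CochainComplex A ℤ) (ι : ∀ n, Q n ⟶ Q (n + 1)) (π : ∀ n : ℕ, Q n ⟶ K.truncLE (n : ℤ)),
      (∀ n, QuasiIso (π n) ∧ ∀ i, Epi ((π n).f i)) ∧
      (∀ n, ∃ b : ℤ, (Q n).IsStrictlyLE b) ∧ (∀ n i, P ((Q n).X i)) ∧
      (∀ n i, (∃ r : (Q (n + 1)).X i ⟶ (Q n).X i, (ι n).f i ≫ r = 𝟙 _) ∧ P (cokernel ((ι n).f i))) ∧
      (∀ n : ℕ, π n ≫ K.ιTruncLE (n : ℤ) = ι n ≫ π (n + 1) ≫ K.ιTruncLE ((n + 1 : ℕ) : ℤ)) := by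
  obtain ⟨Z, hZ0, hZ⟩ := hP0
  refine ⟨fun n => (Groth.Agent.Helper9.PRes.lseq P hPsum hP K Z hZ0 hZ n).Q,
    fun n => Groth.Agent.Helper9.PRes.lseqι P hPsum hP K Z hZ0 hZ n,
    fun n => (Groth.Agent.Helper9.PRes.lseq P hPsum hP K Z hZ0 hZ n).π,
    fun n => ⟨(Groth.Agent.Helper9.PRes.lseq P hPsum hP K Z hZ0 hZ n).qi,
      (Groth.Agent.Helper9.PRes.lseq P hPsum hP K Z hZ0 hZ n).epi⟩,
    fun n => ⟨(n : ℤ), ?_⟩,
    fun n i => (Groth.Agent.Helper9.PRes.lseq P hPsum hP K Z hZ0 hZ n).prop i,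
    fun n => (Groth.Agent.Helper9.PRes.lseqι_spec P hPsum hP K Z hZ0 hZ n).1,
    fun n => (Groth.Agent.Helper9.PRes.lseqι_spec P hPsum hP K Z hZ0 hZ n).2⟩
  rw [CochainComplex.isStrictlyLE_iff]
  exact (Groth.Agent.Helper9.PRes.lseq P hPsum hP K Z hZ0 hZ n).zero

end Groth.Agent.S1030
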