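import Groth.Statements.S9818
import Mathlib
import Groth.Agent.Lib.Helper13.QCohFin
import Groth.Agent.Lib.Helper13.Qcqs
import Groth.Agent.Lib.Helper13.RestrictLim

set_option autoImplicit false
universe u
open CategoryTheory CategoryTheory.Limits AlgebraicGeometry TopologicalSpace Opposite
open Props

namespace Groth.Agent.S9818

open CategoryTheory CategoryTheory.Limits AlgebraicGeometry TopologicalSpace Opposite
open Props

/-- For an open subscheme U of a scheme X with quasi-compact inclusion, a quasi-coherent module G on U
with a map to the restriction of a quasi-coherent module F on X extends to a quasi-coherent module H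
on X with a map to F restricting to the given one. Taking F = 0, every quasi-coherent module on U
extends to a quasi-coherent module on X. -/
theorem result {X : Scheme.{u}} (U : X.Opens) [QuasiCompact U.ι]
    (F : X.Modules) [Coh.IsQCoh F] (G : (U : Scheme.{u}).Modules) [Coh.IsQCoh G] (φ : G ⟶ F.restrict U.ι) :
    ∃ (H : X.Modules) (ψ : H ⟶ F) (e : H.restrict U.ι ≅ G), Coh.IsQCoh H ∧
      e.hom ≫ φ = (Scheme.Modules.restrictFunctor U.ι).map ψ := by
  haveI : F.IsQuasicoherent := ‹Coh.IsQCoh F›
  haveI : G.IsQuasicoherent := ‹Coh.IsQCoh G›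
  let R := Scheme.Modules.restrictFunctor U.ι
  let P := Scheme.Modules.pushforward U.ι
  let adj := Scheme.Modules.restrictAdjunction U.ι
  let η : F ⟶ P.obj (R.obj F) := adj.unit.app F
  haveI : (R.obj F).IsQuasicoherent := inferInstance
  haveI : (P.obj (R.obj F)).IsQuasicoherent :=
    Groth.Agent.Helper13.Qcqs.isQuasicoherent_pushforward_of_qcqs U.ι (R.obj F)
  haveI : (P.obj G).IsQuasicoherent :=
    Groth.Agent.Helper13.Qcqs.isQuasicoherent_pushforward_of_qcqs U.ι G
  have hqc : (pullback η (P.map φ)).IsQuasicoherent :=
    Groth.Agent.Helper13.QCohFin.isQuasicoherent_pullback η (P.map φ)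
  have htri : R.map η ≫ adj.counit.app (R.obj F) = 𝟙 _ := adj.left_triangle_components F
  haveI : IsIso (adj.counit.app (R.obj F)) := inferInstance
  haveI : IsIso (R.map η) := by
    have : R.map η = inv (adj.counit.app (R.obj F)) := by
      rw [← cancel_mono (adj.counit.app (R.obj F)), htri, IsIso.inv_hom_id]
    rw [this]; infer_instance
  have hpb : IsPullback (R.map (pullback.fst η (P.map φ))) (R.map (pullback.snd η (P.map φ)))
      (R.map η) (R.map (P.map φ)) := (IsPullback.of_hasPullback η (P.map φ)).map R
  haveI : IsIso (R.map (pullback.snd η (P.map φ))) := hpb.isIso_snd_of_isIso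
  haveI : IsIso (adj.counit.app G) := inferInstance
  refine ⟨pullback η (P.map φ), pullback.fst _ _,
    asIso (R.map (pullback.snd η (P.map φ))) ≪≫ asIso (adj.counit.app G), hqc, ?_⟩
  have hnat : adj.counit.app G ≫ φ = R.map (P.map φ) ≫ adj.counit.app (R.obj F) :=
    (adj.counit.naturality φ).symm
  show (R.map (pullback.snd η (P.map φ)) ≫ adj.counit.app G) ≫ φ = _
  rw [Category.assoc, hnat, ← Category.assoc, ← hpb.w, Category.assoc, htri, Category.comp_id]

end Groth.Agent.S9818
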