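import Groth.Statements.S2115
import Groth.Agent.Lib.Helper4.FPExt3
import Groth.Agent.S9818

set_option autoImplicit false
universe u
open CategoryTheory AlgebraicGeometry
open Mor

namespace Groth.Agent.S2115

/-- Let `X` be quasi-compact and quasi-separated, `F` a quasi-coherent `O_X`-module, `U ⊆ X` a
quasi-compact open and `G` a finitely presented `O_U`-module with a map `φ : G → F|_U`. Then there
are a finitely presented `O_X`-module `G'` with a map `φ' : G' → F` and an isomorphism `G'|_U ≅ G`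
identifying `φ'|_U` with `φ`. -/
theorem result (X : Scheme.{u}) [CompactSpace X] [QuasiSeparatedSpace X]
    (F : X.Modules) (hF : Coh.IsQCoh F) (U : X.Opens) (hU : IsCompact (U : Set X)) (G : (U : Scheme.{u}).Modules)
    (hG : CohB1.IsFP G) (φ : G ⟶ F.restrict U.ι) :
    ∃ (G' : X.Modules) (φ' : G' ⟶ F) (e : G'.restrict U.ι ≅ G), CohB1.IsFP G' ∧
      e.hom ≫ φ = (Scheme.Modules.restrictFunctor U.ι).map φ' := by
  haveI : SheafOfModules.IsFinitePresentation (R := (U : Scheme.{u}).ringCatSheaf) G := hG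
  haveI : F.IsQuasicoherent := hF
  haveI : G.IsQuasicoherent := inferInstance
  haveI : QuasiCompact U.ι := Groth.Agent.Helper4.FPExt.quasiCompact_ι_of_isCompact U hU
  obtain ⟨H, ψ, e, hH, hcomm⟩ := Groth.Agent.S9818.result U F G φ
  haveI : H.IsQuasicoherent := hH
  have hfp : Groth.Agent.Helper4.FPExt.FPOn H U :=
    Groth.Agent.Helper4.FPExt.fpOn_of_restrict_iso H U G e
  obtain ⟨P', θ, hP', hθ⟩ := Groth.Agent.Helper4.FPExt.exists_fp_modification H U hU hfp
  haveI := hθ
  refine ⟨P', θ ≫ ψ, asIso ((Scheme.Modules.restrictFunctor U.ι).map θ) ≪≫ e, hP', ?_⟩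
  show ((Scheme.Modules.restrictFunctor U.ι).map θ ≫ e.hom) ≫ φ = _
  rw [Category.assoc, hcomm, ← CategoryTheory.Functor.map_comp]

end Groth.Agent.S2115
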