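import Groth.Statements.S6840
import Groth.Agent.Lib.Helper10.HomData

set_option autoImplicit false
set_option linter.unusedSectionVars false
set_option linter.unusedVariables false
universe u
open CategoryTheory CategoryTheory.Limits TopologicalSpace
open ModSite

namespace Groth.Agent.S6840

open Opposite
open Groth.Agent.Helper17.MT Groth.Agent.Helper17.GN Groth.Agent.Helper17.FS
open Groth.Agent.Helper10.PresRel Groth.Agent.Helper10.PresLocal Groth.Agent.Helper10.GermSp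
open Groth.Agent.Helper10.DirCol Groth.Agent.Helper10.HomData
open Groth.Agent.S6846 (PG exists_PG)

section Alg

theorem alg_cross {R N : Type*} [CommRing R] [AddCommGroup N] [Module R N] {K₁ K₂ : Type*}
    [Fintype K₁] [Fintype K₂] (c : K₁ → R) (c' : K₂ → R) (b : K₂ → K₁ → R) (x : K₁ → N)
    (x' : K₂ → N) (hx : ∀ l, x' l = ∑ m, b l m • x m) :
    ∑ m, c m • x m - ∑ l, c' l • x' l = ∑ m, (c m - ∑ l, c' l * b l m) • x m := by
  simp_rw [hx, Finset.smul_sum, sub_smul, Finset.sum_sub_distrib, Finset.sum_smul, mul_smul]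
  congr 1
  exact Finset.sum_comm

theorem alg_rel {R N : Type*} [CommRing R] [AddCommGroup N] [Module R N] {K Kr : Type*}
    [Fintype K] [Fintype Kr] (e : K → R) (d : Kr → R) (r : Kr → K → R) (x : K → N)
    (he : ∀ m, e m = ∑ q, d q * r q m) (hr : ∀ q, ∑ m, r q m • x m = 0) :
    ∑ m, e m • x m = 0 := by
  simp_rw [he, Finset.sum_smul, mul_smul]
  rw [Finset.sum_comm]
  simp_rw [← Finset.smul_sum, hr, smul_zero]
  exact Finset.sum_const_zero

end Alg

section Space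

variable {X : TopCat.{u}} (O : TopCat.Sheaf CommRingCat.{u} X)

/-- pointwise generation of the relations -/
def RG (M : ModSite.Mod O) (U : Opens X) {Kg Kr : Type u} [Fintype Kg] [Fintype Kr]
    (f : Kg → ModSite.sect M U) (r : Kr → Kg → O.obj.obj (op U)) : Prop :=
  ∀ (W : Opens X) (a : W ⟶ U) (v : Kg → O.obj.obj (op W)) (y : X), y ∈ W →
    ∑ k, v k • res M a (f k) = 0 →
    ∃ (W' : Opens X) (h : W' ⟶ W), y ∈ W' ∧ ∃ d : Kr → O.obj.obj (op W'),
      ∀ k, rres h (v k) = ∑ e, d e * rres (h ≫ a) (r e k)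

theorem PG_res {M : ModSite.Mod O} {U U' : Opens X} {K : Type u} [Fintype K]
    (σ : K → ModSite.sect M U) (h : PG O M U σ) (g : U' ⟶ U) :
    PG O M U' (fun l => res M g (σ l)) := by
  intro W a m y hy
  obtain ⟨W', h', hyW', c, hc⟩ := h W (a ≫ g) m y hy
  refine ⟨W', h', hyW', c, ?_⟩
  rw [hc]
  refine Finset.sum_congr rfl fun l _ => ?_
  rw [← res_comp]
  rfl

theorem RG_res {M : ModSite.Mod O} {U U' : Opens X} {Kg Kr : Type u} [Fintype Kg] [Fintype Kr]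
    (f : Kg → ModSite.sect M U) (r : Kr → Kg → O.obj.obj (op U)) (h : RG O M U f r)
    (g : U' ⟶ U) : RG O M U' (fun l => res M g (f l)) (fun e l => rres g (r e l)) := by
  intro W a v y hy hv
  have hv' : ∑ k, v k • res M (a ≫ g) (f k) = 0 := by
    refine Eq.trans (Finset.sum_congr rfl fun l _ => ?_) hv
    rw [res_comp]
  obtain ⟨W', h', hyW', d, hd⟩ := h W (a ≫ g) v y hy hv'
  refine ⟨W', h', hyW', d, fun k => ?_⟩
  rw [hd k]
  refine Finset.sum_congr rfl fun e _ => ?_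
  rw [← rres_comp]
  rfl

end Space

section Main

variable {X : TopCat.{u}} (O : TopCat.Sheaf CommRingCat.{u} X)
  {I : Type u} [Preorder I] [Nonempty I] [IsDirected I (· ≤ ·)] (D : I ⥤ ModSite.Mod O)
  (c : Cocone D) (G : ModSite.Mod O) (φ : G ⟶ c.pt)

/-- the transition map on sections -/
noncomputable abbrev tr {i j : I} (h : i ≤ j) (W : Opens X) (x : ModSite.sect (D.obj i) W) :
    ModSite.sect (D.obj j) W :=
  ((D.map (homOfLE h)).val.app (op W)).hom x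

theorem tr_tr {i j k : I} (h1 : i ≤ j) (h2 : j ≤ k) (W : Opens X)
    (x : ModSite.sect (D.obj i) W) : tr O D h2 W (tr O D h1 W x) = tr O D (h1.trans h2) W x :=
  (D_comp O D h1 h2 W x).symm

theorem tr_res {i j : I} (h : i ≤ j) {W W' : Opens X} (g : W' ⟶ W)
    (x : ModSite.sect (D.obj i) W) :
    tr O D h W' (res (D.obj i) g x) = res (D.obj j) g (tr O D h W x) :=
  map_res O (D.map (homOfLE h)) g x

theorem ι_tr {i j : I} (h : i ≤ j) (W : Opens X) (x : ModSite.sect (D.obj i) W) :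
    ((c.ι.app j).val.app (op W)).hom (tr O D h W x) = ((c.ι.app i).val.app (op W)).hom x :=
  Groth.Agent.S6834.ι_map O D c i j h W x

theorem tr_comb {i j : I} (h : i ≤ j) {U W : Opens X} {K : Type u} [Fintype K] (a : W ⟶ U)
    (cc : K → O.obj.obj (op W)) (σ : K → ModSite.sect (D.obj i) U) :
    tr O D h W (∑ l, cc l • res (D.obj i) a (σ l)) =
      ∑ l, cc l • res (D.obj j) a (tr O D h U (σ l)) :=
  map_comb O (D.map (homOfLE h)) a cc σ

/-- a local datum for lifting `φ` to a stage -/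
structure LD (V : Opens X) (i : I) where
  Kg : Type u
  Kr : Type u
  fg : Fintype Kg
  fr : Fintype Kr
  f : Kg → ModSite.sect G V
  r : Kr → Kg → O.obj.obj (op V)
  τ : Kg → ModSite.sect (D.obj i) V
  hgen : PG O G V f
  hrelgen : RG O G V f r
  hlift : ∀ l, ((c.ι.app i).val.app (op V)).hom (τ l) = (φ.val.app (op V)).hom (f l)
  hrel : ∀ e, ∑ l, r e l • τ l = 0

variable {O D c G φ}

instance {V : Opens X} {i : I} (d : LD O D c G φ V i) : Fintype d.Kg := d.fg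
instance {V : Opens X} {i : I} (d : LD O D c G φ V i) : Fintype d.Kr := d.fr

/-- restriction of a local datum to a smaller open and a later stage -/
noncomputable def LD.restr {V : Opens X} {i : I} (d : LD O D c G φ V i) {V' : Opens X}
    (g : V' ⟶ V) {i' : I} (hi : i ≤ i') : LD O D c G φ V' i' where
  Kg := d.Kg
  Kr := d.Kr
  fg := d.fg
  fr := d.fr
  f := fun l => res G g (d.f l)
  r := fun e l => rres g (d.r e l)
  τ := fun l => tr O D hi V' (res (D.obj i) g (d.τ l))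
  hgen := PG_res O d.f d.hgen g
  hrelgen := RG_res O d.f d.r d.hrelgen g
  hlift := by
    intro l
    rw [ι_tr, map_res, d.hlift l, map_res]
    rfl
  hrel := by
    intro e
    have h0 : tr O D hi V' (res (D.obj i) g (∑ l, d.r e l • d.τ l)) =
        tr O D hi V' (res (D.obj i) g 0) :=
      congrArg (fun z => tr O D hi V' (res (D.obj i) g z)) (d.hrel e)
    rw [res_sum] at h0
    have h1 : tr O D hi V' (0 : ModSite.sect (D.obj i) V') = 0 := map_zero _
    rw [res_zero, h1] at h0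
    refine Eq.trans ?_ h0
    unfold tr
    rw [map_sum]
    refine Finset.sum_congr rfl fun l _ => ?_
    rw [res_smul]
    exact (((D.map (homOfLE hi)).val.app (op V')).hom.map_smul _ _).symm

/-- well-definedness: a relation between the generators holds between their images -/
theorem LD.wd {V : Opens X} {i : I} (d : LD O D c G φ V i) (W : Opens X) (a : W ⟶ V)
    (e : d.Kg → O.obj.obj (op W)) (h : ∑ m, e m • res G a (d.f m) = 0) :
    ∑ m, e m • res (D.obj i) a (d.τ m) = 0 := by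
  apply Groth.Agent.S6848.eq_zero_of_locally O (D.obj i) W
  intro y hy
  obtain ⟨W', h', hyW', dd, hdd⟩ := d.hrelgen W a e y hy h
  refine ⟨W', h', hyW', ?_⟩
  rw [res_comb]
  refine alg_rel (fun m => rres h' (e m)) dd (fun q m => rres (h' ≫ a) (d.r q m))
    (fun m => res (D.obj i) (h' ≫ a) (d.τ m)) hdd (fun q => ?_)
  have h0 := congrArg (res (D.obj i) (h' ≫ a)) (d.hrel q)
  rw [res_sum, res_zero] at h0
  refine Eq.trans (Finset.sum_congr rfl fun l _ => ?_) h0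
  rw [res_smul]

section Cross

variable {V₁ V₂ : Opens X} {i₀ : I} (d₁ : LD O D c G φ V₁ i₀) (d₂ : LD O D c G φ V₂ i₀)

/-- well-definedness at a later stage -/
theorem LD.wd' {k : I} (hk : i₀ ≤ k) (W : Opens X) (a : W ⟶ V₁)
    (e : d₁.Kg → O.obj.obj (op W)) (h : ∑ m, e m • res G a (d₁.f m) = 0) :
    ∑ m, e m • res (D.obj k) a (tr O D hk V₁ (d₁.τ m)) = 0 := by
  have h0 := congrArg (tr O D hk W) (d₁.wd W a e h)
  rw [tr_comb] at h0
  exact h0.trans (map_zero _)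

/-- the generators of the second datum are expressed through those of the first, compatibly with
the lifts at stage `k` -/
def Q (W' : Opens X) (k : I) (hk : i₀ ≤ k) : Prop :=
  ∃ (h₁ : W' ⟶ V₁) (h₂ : W' ⟶ V₂) (b : d₂.Kg → d₁.Kg → O.obj.obj (op W')),
    (∀ l, res G h₂ (d₂.f l) = ∑ m, b l m • res G h₁ (d₁.f m)) ∧
    (∀ l, res (D.obj k) h₂ (tr O D hk V₂ (d₂.τ l)) =
      ∑ m, b l m • res (D.obj k) h₁ (tr O D hk V₁ (d₁.τ m)))

theorem Q_mono {W' W'' : Opens X} (g : W'' ⟶ W') {k k' : I} (hk : i₀ ≤ k) (hkk' : k ≤ k')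
    (h : Q d₁ d₂ W' k hk) : Q d₁ d₂ W'' k' (hk.trans hkk') := by
  obtain ⟨h₁, h₂, b, GE, ME⟩ := h
  refine ⟨g ≫ h₁, g ≫ h₂, fun l m => rres g (b l m), fun l => ?_, fun l => ?_⟩
  · rw [res_comp, GE l, res_comb]
  · have e1 : tr O D hkk' W'' (res (D.obj k) g (res (D.obj k) h₂ (tr O D hk V₂ (d₂.τ l)))) =
        tr O D hkk' W'' (res (D.obj k) g
          (∑ m, b l m • res (D.obj k) h₁ (tr O D hk V₁ (d₁.τ m)))) :=
      congrArg (fun z => tr O D hkk' W'' (res (D.obj k) g z)) (ME l)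
    rw [res_comb, tr_comb, ← res_comp, tr_res, tr_tr] at e1
    refine e1.trans ?_
    refine Finset.sum_congr rfl fun m _ => ?_
    rw [tr_tr]

end Cross

section Colim

variable (hc : IsColimit c)
include hc

variable (O D c G φ) in
theorem exists_LD [SheafOfModules.IsFinitePresentation (R := ModSite.ringSh O) G] (x : X) :
    ∃ (V : Opens X) (_ : x ∈ V) (i : I), Nonempty (LD O D c G φ V i) := by
  classical
  obtain ⟨UF, hxF, Kg, Kr, fg, _, fr, _, f₀, rr₀, hgen, hrel, hrelgen⟩ :=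
    exists_presentation_near O G x
  obtain ⟨W₁, h₁, hxW₁, i₁, hτ⟩ := Groth.Agent.S6834.loc_stage_fin O D c hc UF
    (fun l => (φ.val.app (op UF)).hom (f₀ l)) x hxF
  choose τ₁ hτ₁ using hτ i₁ le_rfl
  let s : Kr → ModSite.sect (D.obj i₁) W₁ := fun e => ∑ l, rres h₁ (rr₀ e l) • τ₁ l
  have hs : ∀ e, ((c.ι.app i₁).val.app (op W₁)).hom (s e) = 0 := by
    intro e
    have e1 : ((c.ι.app i₁).val.app (op W₁)).hom (s e) =
        ∑ l, rres h₁ (rr₀ e l) • res c.pt h₁ ((φ.val.app (op UF)).hom (f₀ l)) := by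
      rw [map_sum]
      refine Finset.sum_congr rfl fun l _ => ?_
      refine (((c.ι.app i₁).val.app (op W₁)).hom.map_smul _ _).trans ?_
      rw [hτ₁ l]
      rfl
    rw [e1]
    have e2 := congrArg (fun z => res c.pt h₁ ((φ.val.app (op UF)).hom z)) (hrel e)
    simp only [map_sum, map_zero] at e2
    rw [res_sum, res_zero] at e2
    refine Eq.trans (Finset.sum_congr rfl fun l _ => ?_) e2
    rw [← res_smul]
    congr 1
    exact (((φ.val.app (op UF)).hom.map_smul _ _)).symm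
  obtain ⟨W₂, h₂, hxW₂, i₂, hi₂, hz⟩ := zloc_fin O D c hc i₁ W₁ s hs x hxW₁
  refine ⟨W₂, hxW₂, i₂, ⟨{
    Kg := Kg
    Kr := Kr
    fg := fg
    fr := fr
    f := fun l => res G (h₂ ≫ h₁) (f₀ l)
    r := fun e l => rres (h₂ ≫ h₁) (rr₀ e l)
    τ := fun l => tr O D hi₂ W₂ (res (D.obj i₁) h₂ (τ₁ l))
    hgen := PG_res O f₀ hgen _
    hrelgen := RG_res O f₀ rr₀ hrelgen _
    hlift := ?_
    hrel := ?_ }⟩⟩
  · intro l
    rw [ι_tr, map_res, hτ₁ l, map_res, res_comp]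
    rfl
  · intro e
    have h0 := hz e
    rw [res_sum, map_sum] at h0
    refine Eq.trans (Finset.sum_congr rfl fun l _ => ?_) h0
    rw [res_smul, rres_comp]
    exact (((D.map (homOfLE hi₂)).val.app (op W₂)).hom.map_smul _ _).symm

section CrossColim

variable {V₁ V₂ : Opens X} {i₀ : I} (d₁ : LD O D c G φ V₁ i₀) (d₂ : LD O D c G φ V₂ i₀)

theorem exists_Q (y : X) (hy₁ : y ∈ V₁) (hy₂ : y ∈ V₂) :
    ∃ (W' : Opens X), y ∈ W' ∧ ∃ (k : I) (hk : i₀ ≤ k), Q d₁ d₂ W' k hk := by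
  classical
  let V : Opens X := V₁ ⊓ V₂
  let p₁ : V ⟶ V₁ := homOfLE inf_le_left
  let p₂ : V ⟶ V₂ := homOfLE inf_le_right
  obtain ⟨W₀, hyW₀, hW₀⟩ := exists_common_open y
    (fun (l : d₂.Kg) (W' : Opens X) => ∃ (h : W' ⟶ V) (cm : d₁.Kg → O.obj.obj (op W')),
      res G h (res G p₂ (d₂.f l)) = ∑ m, cm m • res G (h ≫ p₁) (d₁.f m))
    (by
      rintro l W' W'' hle ⟨h, cm, hcm⟩
      refine ⟨homOfLE hle ≫ h, fun m => rres (homOfLE hle) (cm m), ?_⟩
      rw [res_comp, hcm, res_comb]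
      rfl)
    (by
      intro l
      obtain ⟨W', h, hyW', cm, hcm⟩ := d₁.hgen V p₁ (res G p₂ (d₂.f l)) y ⟨hy₁, hy₂⟩
      exact ⟨W', hyW', h, cm, hcm⟩)
  choose hh b hb using hW₀
  let W₁ : Opens X := W₀ ⊓ V
  have hyW₁ : y ∈ W₁ := ⟨hyW₀, hy₁, hy₂⟩
  let g₀ : W₁ ⟶ W₀ := homOfLE inf_le_left
  let h₀ : W₁ ⟶ V := homOfLE inf_le_right
  let B : d₂.Kg → d₁.Kg → O.obj.obj (op W₁) := fun l m => rres g₀ (b l m)
  have hB : ∀ l, res G (h₀ ≫ p₂) (d₂.f l) = ∑ m, B l m • res G (h₀ ≫ p₁) (d₁.f m) := by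
    intro l
    have e1 := congrArg (res G g₀) (hb l)
    rw [res_comb, ← res_comp, ← res_comp] at e1
    refine Eq.trans (res_eq O G _ _ _) (e1.trans ?_)
    refine Finset.sum_congr rfl fun m _ => ?_
    congr 1
  let δ : d₂.Kg → ModSite.sect (D.obj i₀) W₁ := fun l =>
    res (D.obj i₀) (h₀ ≫ p₂) (d₂.τ l) - ∑ m, B l m • res (D.obj i₀) (h₀ ≫ p₁) (d₁.τ m)
  have hδ : ∀ l, ((c.ι.app i₀).val.app (op W₁)).hom (δ l) = 0 := by
    intro l
    have e1 : ((c.ι.app i₀).val.app (op W₁)).hom (δ l) =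
        ((c.ι.app i₀).val.app (op W₁)).hom (res (D.obj i₀) (h₀ ≫ p₂) (d₂.τ l)) -
        ((c.ι.app i₀).val.app (op W₁)).hom
          (∑ m, B l m • res (D.obj i₀) (h₀ ≫ p₁) (d₁.τ m)) := map_sub _ _ _
    rw [e1, map_comb, map_res, d₂.hlift l]
    simp_rw [d₁.hlift]
    rw [← map_res, ← map_comb, hB l, sub_self]
  obtain ⟨W₂, g, hyW₂, k, hk, hz⟩ := zloc_fin O D c hc i₀ W₁ δ hδ y hyW₁
  refine ⟨W₂, hyW₂, k, hk, g ≫ h₀ ≫ p₁, g ≫ h₀ ≫ p₂, fun l m => rres g (B l m),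
    fun l => ?_, fun l => ?_⟩
  · rw [res_comp, hB l, res_comb]
  · have e1 := hz l
    have e2 : res (D.obj i₀) g (δ l) =
        res (D.obj i₀) (g ≫ h₀ ≫ p₂) (d₂.τ l) -
          ∑ m, rres g (B l m) • res (D.obj i₀) (g ≫ h₀ ≫ p₁) (d₁.τ m) := by
      rw [res_sub, res_comb, ← res_comp]
    rw [e2] at e1
    have e3 : tr O D hk W₂ (res (D.obj i₀) (g ≫ h₀ ≫ p₂) (d₂.τ l) -
          ∑ m, rres g (B l m) • res (D.obj i₀) (g ≫ h₀ ≫ p₁) (d₁.τ m)) =
        tr O D hk W₂ (res (D.obj i₀) (g ≫ h₀ ≫ p₂) (d₂.τ l)) -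
          tr O D hk W₂ (∑ m, rres g (B l m) • res (D.obj i₀) (g ≫ h₀ ≫ p₁) (d₁.τ m)) :=
      map_sub _ _ _
    have e4 := e3.symm.trans e1
    rw [tr_comb, tr_res] at e4
    exact sub_eq_zero.mp e4

theorem exists_stage_Q (hcpt : IsCompact ((V₁ ⊓ V₂ : Opens X) : Set X)) :
    ∃ (k : I) (hk : i₀ ≤ k), ∀ w, w ∈ V₁ → w ∈ V₂ →
      ∃ W' : Opens X, w ∈ W' ∧ Q d₁ d₂ W' k hk := by
  classical
  have hloc : ∀ y : {y : X // y ∈ V₁ ∧ y ∈ V₂}, ∃ W' : Opens X, y.1 ∈ W' ∧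
      ∃ (k : I) (hk : i₀ ≤ k), Q d₁ d₂ W' k hk :=
    fun y => exists_Q hc d₁ d₂ y.1 y.2.1 y.2.2
  choose W' hyW' kk hkk hQ using hloc
  obtain ⟨t, ht⟩ := hcpt.elim_finite_subcover (fun y => (W' y : Set X))
    (fun y => (W' y).isOpen)
    (by
      intro w hw
      exact Set.mem_iUnion.mpr ⟨⟨w, hw.1, hw.2⟩, hyW' _⟩)
  obtain ⟨k₁, hk₁⟩ := Finset.exists_le (t.image kk)
  obtain ⟨k, hik, hk₁k⟩ := exists_ge_ge i₀ k₁
  refine ⟨k, hik, fun w hw₁ hw₂ => ?_⟩
  have hmem := ht ⟨hw₁, hw₂⟩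
  obtain ⟨y, hyt, hwy⟩ : ∃ y ∈ t, w ∈ W' y := by simpa using hmem
  refine ⟨W' y, hwy, ?_⟩
  have hky : kk y ≤ k := (hk₁ _ (Finset.mem_image_of_mem kk hyt)).trans hk₁k
  exact Q_mono d₁ d₂ (𝟙 _) (hkk y) hky (hQ y)

omit hc in
theorem CC_of_Q (k : I) (hk : i₀ ≤ k)
    (hQ : ∀ w, w ∈ V₁ → w ∈ V₂ → ∃ W' : Opens X, w ∈ W' ∧ Q d₁ d₂ W' k hk)
    (W : Opens X) (a : W ⟶ V₁) (a' : W ⟶ V₂) (cc : d₁.Kg → O.obj.obj (op W))
    (cc' : d₂.Kg → O.obj.obj (op W))
    (E : ∑ m, cc m • res G a (d₁.f m) = ∑ l, cc' l • res G a' (d₂.f l)) :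
    ∑ m, cc m • res (D.obj k) a (tr O D hk V₁ (d₁.τ m)) =
      ∑ l, cc' l • res (D.obj k) a' (tr O D hk V₂ (d₂.τ l)) := by
  apply eq_of_locally O (D.obj k) W
  intro w hw
  obtain ⟨W', hwW', h₁, h₂, b, GE, ME⟩ := hQ w (leOfHom a hw) (leOfHom a' hw)
  let W₃ : Opens X := W ⊓ W'
  let g₃ : W₃ ⟶ W := homOfLE inf_le_left
  let g₃' : W₃ ⟶ W' := homOfLE inf_le_right
  refine ⟨W₃, g₃, ⟨hw, hwW'⟩, ?_⟩
  rw [res_comb, res_comb]
  apply sub_eq_zero.mp
  let B : d₂.Kg → d₁.Kg → O.obj.obj (op W₃) := fun l m => rres g₃' (b l m)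
  have hx : ∀ l, res (D.obj k) (g₃ ≫ a') (tr O D hk V₂ (d₂.τ l)) =
      ∑ m, B l m • res (D.obj k) (g₃ ≫ a) (tr O D hk V₁ (d₁.τ m)) := by
    intro l
    have e1 := congrArg (res (D.obj k) g₃') (ME l)
    rw [res_comb, ← res_comp] at e1
    refine Eq.trans (res_eq O _ _ _ _) (e1.trans ?_)
    refine Finset.sum_congr rfl fun m _ => ?_
    congr 1
  have hy : ∀ l, res G (g₃ ≫ a') (d₂.f l) = ∑ m, B l m • res G (g₃ ≫ a) (d₁.f m) := by
    intro l
    have e1 := congrArg (res G g₃') (GE l)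
    rw [res_comb, ← res_comp] at e1
    refine Eq.trans (res_eq O _ _ _ _) (e1.trans ?_)
    refine Finset.sum_congr rfl fun m _ => ?_
    congr 1
  rw [alg_cross _ _ B _ _ hx]
  apply LD.wd' d₁ hk W₃ (g₃ ≫ a)
  rw [← alg_cross _ _ B _ _ hy]
  have e2 := congrArg (res G g₃) E
  rw [res_comb, res_comb] at e2
  exact sub_eq_zero.mpr e2

end CrossColim

section Final

variable (hX : ∀ (ι : Type u) (V : ι → Opens X), iSup V = ⊤ →
      ∃ (J : Type u) (_ : Finite J) (U : J → Opens X), iSup U = ⊤ ∧ (∀ j, ∃ i, U j ≤ V i) ∧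
        ∀ j j', IsCompact ((U j ⊓ U j' : Opens X) : Set X))
include hX

variable (O D c G φ) in
theorem surj [SheafOfModules.IsFinitePresentation (R := ModSite.ringSh O) G] :
    ∃ (k : I) (ψ : G ⟶ D.obj k), ψ ≫ c.ι.app k = φ := by
  classical
  choose V hxV ii hLD using exists_LD O D c G φ hc
  have hLD' : ∀ x, LD O D c G φ (V x) (ii x) := fun x => (hLD x).some
  have hcov : iSup V = ⊤ := by
    rw [eq_top_iff]
    intro x _
    exact Opens.mem_iSup.mpr ⟨x, hxV x⟩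
  obtain ⟨J, hJ, U, hU, href, hcpt⟩ := hX X V hcov
  have := Fintype.ofFinite J
  choose xj hxj using href
  obtain ⟨i₁, hi₁⟩ := Finset.exists_le (Finset.univ.image (fun j => ii (xj j)))
  have hij : ∀ j, ii (xj j) ≤ i₁ :=
    fun j => hi₁ _ (Finset.mem_image_of_mem _ (Finset.mem_univ j))
  let dd : ∀ j, LD O D c G φ (U j) i₁ :=
    fun j => (hLD' (xj j)).restr (homOfLE (hxj j)) (hij j)
  have hpair : ∀ p : J × J, ∃ (k : I) (hk : i₁ ≤ k), ∀ w, w ∈ U p.1 → w ∈ U p.2 →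
      ∃ W' : Opens X, w ∈ W' ∧ Q (dd p.1) (dd p.2) W' k hk :=
    fun p => exists_stage_Q hc (dd p.1) (dd p.2) (hcpt p.1 p.2)
  choose kp hkp hQp using hpair
  obtain ⟨k₁, hk₁⟩ := Finset.exists_le (Finset.univ.image kp)
  obtain ⟨k, hik, hk₁k⟩ := exists_ge_ge i₁ k₁
  have hkpk : ∀ p, kp p ≤ k :=
    fun p => (hk₁ _ (Finset.mem_image_of_mem _ (Finset.mem_univ p))).trans hk₁k
  have hQ : ∀ j j' w, w ∈ U j → w ∈ U j' →
      ∃ W' : Opens X, w ∈ W' ∧ Q (dd j) (dd j') W' k hik := by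
    intro j j' w hw hw'
    obtain ⟨W', hwW', hq⟩ := hQp (j, j') w hw hw'
    exact ⟨W', hwW', Q_mono (dd j) (dd j') (𝟙 _) (hkp (j, j')) (hkpk (j, j')) hq⟩
  have hUcov : ∀ x : X, ∃ j, x ∈ U j := by
    intro x
    have : x ∈ iSup U := by
      rw [hU]
      trivial
    exact Opens.mem_iSup.mp this
  let data : Data O G (D.obj k) :=
    { J := J
      U := U
      hU := hUcov
      K := fun j => (dd j).Kg
      fin := fun j => (dd j).fg
      f := fun j => (dd j).f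
      τ := fun j l => tr O D hik (U j) ((dd j).τ l)
      hgen := fun j => (dd j).hgen
      hcompat := fun j j' W a a' cc cc' E =>
        CC_of_Q (dd j) (dd j') k hik (hQ j j') W a a' cc cc' E }
  refine ⟨k, hom data, ?_⟩
  apply eq_of_gen O _ _ U hUcov (fun j => (dd j).Kg) (fun j => (dd j).f) (fun j => (dd j).hgen)
  intro j l
  show ((c.ι.app k).val.app (op (U j))).hom (((hom data).val.app (op (U j))).hom ((dd j).f l)) = _
  rw [hom_gen data j l]
  show ((c.ι.app k).val.app (op (U j))).hom (tr O D hik (U j) ((dd j).τ l)) = _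
  rw [ι_tr, (dd j).hlift l]

variable (O D c G) in
theorem inj_zero [SheafOfModules.IsFiniteType (R := ModSite.ringSh O) G] (k₀ : I)
    (χ : G ⟶ D.obj k₀) (hχ : χ ≫ c.ι.app k₀ = 0) :
    ∃ (k : I) (hk : k₀ ≤ k), χ ≫ D.map (homOfLE hk) = 0 := by
  classical
  have hloc : ∀ x : X, ∃ (W : Opens X), x ∈ W ∧ ∃ (K : Type u) (fK : Fintype K)
      (σ : K → ModSite.sect G W), PG O G W σ ∧ ∃ (k : I) (hk : k₀ ≤ k), ∀ l,
        tr O D hk W ((χ.val.app (op W)).hom (σ l)) = 0 := by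
    intro x
    obtain ⟨U, hxU, K, fK, _, σ, hσ⟩ := exists_PG O G x
    have hs : ∀ l, ((c.ι.app k₀).val.app (op U)).hom ((χ.val.app (op U)).hom (σ l)) = 0 := by
      intro l
      have := congrArg (fun ψ => (ψ.val.app (op U)).hom (σ l)) hχ
      exact this
    obtain ⟨W, h, hxW, k, hk, hz⟩ := zloc_fin O D c hc k₀ U
      (fun l => (χ.val.app (op U)).hom (σ l)) hs x hxU
    refine ⟨W, hxW, K, fK, fun l => res G h (σ l), PG_res O σ hσ h, k, hk, fun l => ?_⟩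
    rw [map_res]
    exact hz l
  choose W hxW K fK σ hσ kk hkk hz using hloc
  have hcov : iSup W = ⊤ := by
    rw [eq_top_iff]
    intro x _
    exact Opens.mem_iSup.mpr ⟨x, hxW x⟩
  obtain ⟨J, hJ, U, hU, href, _⟩ := hX X W hcov
  have := Fintype.ofFinite J
  choose xj hxj using href
  obtain ⟨k₁, hk₁⟩ := Finset.exists_le (Finset.univ.image (fun j => kk (xj j)))
  obtain ⟨k, hk₀k, hk₁k⟩ := exists_ge_ge k₀ k₁
  have hkj : ∀ j, kk (xj j) ≤ k :=
    fun j => (hk₁ _ (Finset.mem_image_of_mem _ (Finset.mem_univ j))).trans hk₁k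
  have hUcov : ∀ x : X, ∃ j, x ∈ U j := by
    intro x
    have : x ∈ iSup U := by
      rw [hU]
      trivial
    exact Opens.mem_iSup.mp this
  refine ⟨k, hk₀k, ?_⟩
  let _ : ∀ j, Fintype (K (xj j)) := fun j => fK (xj j)
  apply eq_of_gen O _ _ U hUcov (fun j => K (xj j))
    (fun j l => res G (homOfLE (hxj j)) (σ (xj j) l))
    (fun j => PG_res O _ (hσ (xj j)) _)
  intro j l
  show tr O D hk₀k (U j) ((χ.val.app (op (U j))).hom (res G _ (σ (xj j) l))) = 0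
  rw [map_res, tr_res, ← tr_tr O D (hkk (xj j)) (hkj j), hz (xj j) l]
  have h0 : tr O D (hkj j) (W (xj j)) (0 : ModSite.sect (D.obj (kk (xj j))) (W (xj j))) = 0 :=
    map_zero _
  rw [h0]
  exact res_zero _ _

end Final

end Colim

end Main

theorem result {X : TopCat.{u}} (O : TopCat.Sheaf CommRingCat.{u} X)
    (hX : ∀ (ι : Type u) (V : ι → Opens X), iSup V = ⊤ →
      ∃ (J : Type u) (_ : Finite J) (U : J → Opens X), iSup U = ⊤ ∧ (∀ j, ∃ i, U j ≤ V i) ∧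
        ∀ j j', IsCompact ((U j ⊓ U j' : Opens X) : Set X))
    {I : Type u} [Preorder I] [Nonempty I] [IsDirected I (· ≤ ·)] (D : I ⥤ ModSite.Mod O)
    (G : ModSite.Mod O) [SheafOfModules.IsFinitePresentation (R := ModSite.ringSh O) G] :
    PreservesColimit D (coyoneda.obj (Opposite.op G)) := by
  have hfilt : IsFiltered I := inferInstance
  have hft : SheafOfModules.IsFiniteType (R := ModSite.ringSh O) G := inferInstance
  apply preservesColimit_of_preserves_colimit_cocone (colimit.isColimit D)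
  apply Types.FilteredColimit.isColimitOf'
  · intro φ
    obtain ⟨k, ψ, hψ⟩ := surj O D (colimit.cocone D) G φ (colimit.isColimit D) hX
    exact ⟨k, ψ, hψ.symm⟩
  · intro i ψ₀ ψ₀' h
    let ψ : G ⟶ D.obj i := ψ₀
    let ψ' : G ⟶ D.obj i := ψ₀'
    have h' : ψ ≫ (colimit.cocone D).ι.app i = ψ' ≫ (colimit.cocone D).ι.app i := h
    obtain ⟨k, hk, hz⟩ := inj_zero O D (colimit.cocone D) G (colimit.isColimit D) hX i (ψ - ψ')
      (by rw [Preadditive.sub_comp, h', sub_self])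
    refine ⟨k, homOfLE hk, ?_⟩
    rw [Preadditive.sub_comp] at hz
    exact (sub_eq_zero.mp hz : ψ ≫ D.map (homOfLE hk) = ψ' ≫ D.map (homOfLE hk))

end Groth.Agent.S6840
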