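import Groth.Statements.S0914
import Groth.Agent.Lib.Helper5.FPC5

set_option autoImplicit false
universe u
open CategoryTheory
attribute [local instance] HasDerivedCategory.standard
open DCoh

namespace Groth.Agent.S0914

open AlgebraicGeometry in
/-- An object E of D(O_X) is perfect if and only if it is m-pseudo-coherent for every m and locally has
finite tor dimension. -/
theorem result {X : Scheme.{u}} (E : DCoh.D X) :
    DCoh.IsPerfect E ↔ (∀ m : ℤ, DCoh.IsPseudoCoherentD m E) ∧ DCoh.LocHasFiniteTorDim E := by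
  constructor
  · intro h
    refine ⟨fun m x => ?_, fun x => ?_⟩
    · obtain ⟨V, hxV, hV⟩ := h x
      refine ⟨V, hxV, fun F hF => ?_⟩
      obtain ⟨E', hE', ⟨e⟩⟩ := hV F hF
      exact ⟨E', e.inv, hE', fun i _ => inferInstance, inferInstance⟩
    · obtain ⟨V, hxV, hV⟩ := h x
      have e₁ : DCoh.toD X (DerivedCategory.Q.objPreimage E) ≅ E :=
        DerivedCategory.Q.objObjPreimageIso E
      obtain ⟨E', ⟨⟨a, b, hv⟩, hf⟩, ⟨e⟩⟩ := hV _ ⟨e₁⟩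
      exact ⟨V, a, b, hxV, fun F' ⟨eF'⟩ => ⟨E', hv,
        fun i => Groth.Agent.Helper5.LDer.isFlat_of_isFinLocFree _ (hf i),
        ⟨e.symm ≪≫ Groth.Agent.Helper5.LDer.restrictQIso V.ι (e₁ ≪≫ eF'.symm)⟩⟩⟩
  · rintro ⟨hpc, htd⟩ x
    obtain ⟨V₁, a, b, hx₁, hV₁⟩ := htd x
    obtain ⟨V₂, hx₂, hV₂⟩ := hpc (a - 1) x
    have e₁ : DCoh.toD X (DerivedCategory.Q.objPreimage E) ≅ E :=
      DerivedCategory.Q.objObjPreimageIso E
    obtain ⟨G, hvG, hflG, ⟨eG⟩⟩ := hV₁ _ ⟨e₁⟩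
    obtain ⟨P, α, ⟨⟨aP, bP, hvP⟩, hfP⟩, hiso, hepi⟩ := hV₂ _ ⟨e₁⟩
    have hle₁ : V₁ ⊓ V₂ ≤ V₁ := inf_le_left
    have hle₂ : V₁ ⊓ V₂ ≤ V₂ := inf_le_right
    have eG' := Groth.Agent.Helper5.BP.modelRestrict hle₁ eG.symm
    obtain ⟨α', hα'⟩ := Groth.Agent.Helper5.FPC.exists_restrict_conn hle₂ _ P α (a - 1) ⟨hiso, hepi⟩
    have hα'' : Groth.Agent.Helper5.PC.IsConn (a - 1) (α' ≫ eG'.hom) :=
      hα'.of_arrow_iso (Arrow.isoMk (Iso.refl _) eG' (by simp))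
    obtain ⟨W, hxW, P₃, hP₃, -, ⟨e₃⟩⟩ := Groth.Agent.Helper5.FPC.exists_local_model'
      ((Groth.Agent.Helper5.RT.rCx (X.homOfLE hle₁)).obj G)
      ((Groth.Agent.Helper5.RT.rCx (X.homOfLE hle₂)).obj P) a b
      (fun i hi => (Scheme.Modules.restrictFunctor _).map_isZero (hvG i hi))
      (fun i => Groth.Agent.Helper5.LDer.isFlat_restrict _ _ (hflG i)) aP bP
      (fun i hi => (Scheme.Modules.restrictFunctor _).map_isZero (hvP i hi))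
      (fun i => Groth.Agent.Helper5.RT.isFinLocFree_restrict _ _ (hfP i))
      (α' ≫ eG'.hom) hα'' ⟨x, ⟨hx₁, hx₂⟩⟩
    obtain ⟨V', hxV', E', hE', -, hF⟩ := Groth.Agent.Helper5.FPC.exists_model_of_local x (V₁ ⊓ V₂)
      ⟨hx₁, hx₂⟩ W hxW _ P₃ hP₃ (Groth.Agent.Helper5.LDer.restrictQIso W.ι eG' ≪≫ e₃)
    exact ⟨V', hxV', fun F ⟨eF⟩ => ⟨E', hE', hF F ⟨eF ≪≫ e₁.symm⟩⟩⟩

end Groth.Agent.S0914
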