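import Groth.Statements.S9319
-- import your own Groth.Agent.* helpers here
import Groth.Agent.Lib.Helper3.DeltaNat
import Groth.Agent.Lib.Helper14.PerfectSmooth

set_option autoImplicit false
universe u
open CAlg

namespace Groth.Agent.S9319

open TensorProduct Groth.Agent.Helper3.DeltaNat

section generic
universe v
variable (k₀ : Type v) (K L M : Type u) [CommRing k₀] [Field K] [Field L] [Field M]
  [Algebra K L] [Algebra L M] [Algebra K M] [IsScalarTower K L M]
  [Algebra k₀ K] [Algebra k₀ L] [Algebra k₀ M] [IsScalarTower k₀ K L] [IsScalarTower k₀ K M]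

lemma cancel_eq (m : M) (w : L ⊗[K] Ω[K⁄k₀]) :
    TensorProduct.AlgebraTensorModule.cancelBaseChange K L M M Ω[K⁄k₀] (m ⊗ₜ w) =
      m • tmap k₀ K L M w := by
  induction w using TensorProduct.induction_on with
  | zero => simp
  | tmul a n =>
    rw [TensorProduct.AlgebraTensorModule.cancelBaseChange_tmul, tmap_tmul,
      TensorProduct.smul_tmul', Algebra.smul_def, smul_eq_mul, mul_comm]
  | add x y hx hy => rw [tmul_add, map_add, hx, hy, map_add, smul_add]

theorem inj_generic [Algebra.FormallySmooth k₀ L] :
    Function.Injective ((Algebra.H1Cotangent.map K K L M).liftBaseChange M) := by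
  have hsub : Subsingleton (Algebra.H1Cotangent k₀ L) :=
    Algebra.FormallySmooth.subsingleton_h1Cotangent
  have hδL : Function.Injective (Algebra.H1Cotangent.δ k₀ K L) := by
    rw [injective_iff_map_eq_zero]
    intro x hx
    obtain ⟨y, rfl⟩ := (Algebra.H1Cotangent.exact_map_δ k₀ K L x).mp hx
    rw [Subsingleton.elim y 0, map_zero]
  have hflat : Function.Injective ((Algebra.H1Cotangent.δ k₀ K L).baseChange M) := by
    rw [LinearMap.baseChange_eq_ltensor]
    exact Module.Flat.lTensor_preserves_injective_linearMap _ hδL
  have hcomm : ∀ z : M ⊗[L] Algebra.H1Cotangent K L,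
      Algebra.H1Cotangent.δ k₀ K M ((Algebra.H1Cotangent.map K K L M).liftBaseChange M z) =
        TensorProduct.AlgebraTensorModule.cancelBaseChange K L M M Ω[K⁄k₀]
          ((Algebra.H1Cotangent.δ k₀ K L).baseChange M z) := by
    intro z
    induction z using TensorProduct.induction_on with
    | zero => simp
    | tmul m x =>
      rw [LinearMap.liftBaseChange_tmul, map_smul, δ_natural, LinearMap.baseChange_tmul,
        cancel_eq]
    | add x y hx hy => simp only [map_add, hx, hy]
  rw [injective_iff_map_eq_zero]
  intro z hz
  apply hflat
  apply (TensorProduct.AlgebraTensorModule.cancelBaseChange K L M M Ω[K⁄k₀]).injective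
  rw [← hcomm, hz, map_zero, map_zero, map_zero]

end generic

open TensorProduct in
/-- For a tower of fields `K ⊆ L ⊆ M`, the first map of the Jacobi–Zariski sequence, from `H_1(L_{L/K})
⊗_L M` to `H_1(L_{M/K})`, is injective; here `H_1(L)` denotes the first homology of the naive
cotangent complex and the map is the `M`-linear extension of the functoriality map. (The rest of the
six-term sequence is exact for any three rings, so for fields it is exact with a zero on the left.) -/
theorem result {K L M : Type u} [Field K] [Field L]
    [Field M] [Algebra K L] [Algebra L M] [Algebra K M] [IsScalarTower K L M] :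
    Function.Injective ((Algebra.H1Cotangent.map K K L M).liftBaseChange M) := by
  obtain ⟨p, hp⟩ := CharP.exists K
  rcases CharP.char_is_prime_or_zero K p with hpp | rfl
  · haveI : Fact p.Prime := ⟨hpp⟩
    letI : Algebra (ZMod p) K := ZMod.algebra K p
    haveI : CharP L p := charP_of_injective_algebraMap (algebraMap K L).injective p
    haveI : CharP M p := charP_of_injective_algebraMap (algebraMap K M).injective p
    letI : Algebra (ZMod p) L := ZMod.algebra L p
    letI : Algebra (ZMod p) M := ZMod.algebra M p
    haveI : IsScalarTower (ZMod p) K L := IsScalarTower.of_algebraMap_eq' (Subsingleton.elim _ _)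
    haveI : IsScalarTower (ZMod p) K M := IsScalarTower.of_algebraMap_eq' (Subsingleton.elim _ _)
    haveI := Groth.Agent.Helper14.PerfectSmooth.formallySmooth_zmod p L
    exact inj_generic (ZMod p) K L M
  · haveI : CharZero K := CharP.charP_to_charZero K
    haveI : CharZero L := charZero_of_injective_algebraMap (algebraMap K L).injective
    haveI : CharZero M := charZero_of_injective_algebraMap (algebraMap K M).injective
    haveI : IsScalarTower ℚ K L := IsScalarTower.of_algebraMap_eq' (Subsingleton.elim _ _)
    haveI : IsScalarTower ℚ K M := IsScalarTower.of_algebraMap_eq' (Subsingleton.elim _ _)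
    haveI := Groth.Agent.Helper14.PerfectSmooth.formallySmooth_of_charZero ℚ L
    exact inj_generic ℚ K L M

end Groth.Agent.S9319
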