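import Groth.Statements.S18056
import Groth.Agent.Lib.Helper14.LengthFlat
-- import your own Groth.Agent.* helpers here

set_option autoImplicit false
universe u v
open STCI

namespace Groth.Agent.S18056

/-- Let A → B be a homomorphism of Artinian local rings that is flat and formally smooth, where A has a
subring that is a field. Then A and B have the same length, each as a module over itself. -/
theorem result (A : Type u) (B : Type v) [CommRing A] [CommRing B]
    [IsLocalRing A] [IsLocalRing B] [IsArtinianRing A] [IsArtinianRing B] [Algebra A B]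
    [Module.Flat A B] [Algebra.FormallySmooth A B] (hK : ∃ K : Subring A, IsField K) :
    Module.length A A = Module.length B B := by
  classical
  open IsLocalRing TensorProduct in
  have hnil : ∀ x ∈ maximalIdeal A, IsNilpotent x := by
    intro x hx
    have h1 : IsNilpotent (Ideal.jacobson (⊥ : Ideal A)) := IsArtinianRing.isNilpotent_jacobson_bot
    rw [IsLocalRing.jacobson_eq_maximalIdeal ⊥ bot_ne_top] at h1
    obtain ⟨n, hn⟩ := h1
    refine ⟨n, ?_⟩
    have : x ^ n ∈ maximalIdeal A ^ n := Ideal.pow_mem_pow hx n
    rw [hn] at this
    exact this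
  open IsLocalRing TensorProduct in
  have hle : (maximalIdeal A).map (algebraMap A B) ≤ maximalIdeal B := by
    rw [Ideal.map_le_iff_le_comap]
    intro x hx
    rw [Ideal.mem_comap]
    have h2 : IsNilpotent (algebraMap A B x) := (hnil x hx).map _
    rw [IsLocalRing.mem_maximalIdeal, mem_nonunits_iff]
    intro hu
    exact not_isUnit_zero (M₀ := B) (by
      obtain ⟨n, hn⟩ := h2
      rw [← hn]
      exact hu.pow n)
  open IsLocalRing TensorProduct in
  haveI : IsLocalHom (algebraMap A B) := ((IsLocalRing.local_hom_TFAE (algebraMap A B)).out 0 2).mpr hle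
  open IsLocalRing TensorProduct in
  letI : Field (A ⧸ maximalIdeal A) := Ideal.Quotient.field _
  open IsLocalRing TensorProduct in
  haveI : Algebra.FormallySmooth (A ⧸ maximalIdeal A)
      (B ⧸ (maximalIdeal A).map (algebraMap A B)) :=
    Algebra.FormallySmooth.of_equiv
      (Algebra.TensorProduct.quotIdealMapEquivQuotTensor B (maximalIdeal A)).symm
  open IsLocalRing TensorProduct in
  haveI : Nontrivial (B ⧸ (maximalIdeal A).map (algebraMap A B)) :=
    Ideal.Quotient.nontrivial_iff.mpr
      (ne_top_of_le_ne_top (IsLocalRing.maximalIdeal.isMaximal B).ne_top hle)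
  open IsLocalRing TensorProduct in
  haveI : IsLocalRing (B ⧸ (maximalIdeal A).map (algebraMap A B)) :=
    IsLocalRing.of_surjective' _ Ideal.Quotient.mk_surjective
  open IsLocalRing TensorProduct in
  haveI : IsArtinianRing (B ⧸ (maximalIdeal A).map (algebraMap A B)) :=
    Function.Surjective.isArtinianRing (Ideal.Quotient.mk_surjective (I := (maximalIdeal A).map (algebraMap A B)))
  open IsLocalRing TensorProduct in
  have hbot := Groth.Agent.Helper14.LengthFlat.maximalIdeal_eq_bot (A ⧸ maximalIdeal A)
    (B ⧸ (maximalIdeal A).map (algebraMap A B))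
  open IsLocalRing TensorProduct in
  have hm : (maximalIdeal A).map (algebraMap A B) = maximalIdeal B := by
    refine le_antisymm hle ?_
    intro x hx
    have h3 : Ideal.Quotient.mk ((maximalIdeal A).map (algebraMap A B)) x ∈
        maximalIdeal (B ⧸ (maximalIdeal A).map (algebraMap A B)) := by
      rw [IsLocalRing.mem_maximalIdeal, mem_nonunits_iff]
      intro hu
      haveI := isLocalHom_of_le_jacobson_bot ((maximalIdeal A).map (algebraMap A B))
        (by rw [IsLocalRing.jacobson_eq_maximalIdeal ⊥ bot_ne_top]; exact hle)
      have := (isUnit_of_map_unit (Ideal.Quotient.mk ((maximalIdeal A).map (algebraMap A B))) x hu)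
      exact (IsLocalRing.mem_maximalIdeal _).mp hx this
    rw [hbot] at h3
    exact Ideal.Quotient.eq_zero_iff_mem.mp h3
  open IsLocalRing TensorProduct in
  have key := IsLocalRing.length_baseChange A B A
  open IsLocalRing TensorProduct in
  have hone : Module.length B (B ⧸ (maximalIdeal A).map (algebraMap A B)) = 1 := by
    rw [hm]
    haveI : IsSimpleModule B (B ⧸ maximalIdeal B) :=
      isSimpleModule_iff_quot_maximal.mpr ⟨maximalIdeal B, inferInstance, ⟨LinearEquiv.refl _ _⟩⟩
    exact Module.length_eq_one B (B ⧸ maximalIdeal B)
  rw [hone, mul_one, (TensorProduct.AlgebraTensorModule.rid A B B).length_eq] at key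
  exact key.symm

end Groth.Agent.S18056
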