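import Groth.Statements.S5999
-- import your own Groth.Agent.* helpers here
import Groth.Agent.Lib.Helper3.JacPt

set_option autoImplicit false
universe u
open SGA1

namespace Groth.Agent.S5999

open TensorProduct in
/-- Let R be a Noetherian ring, A an R-algebra of finite type, F an element of A, P a prime ideal of
A/(F) and q its preimage in A, and suppose A is smooth over R at q. Then the hypersurface A/(F) is
smooth over R at P if and only if either F is zero in the local ring A_q (F vanishes on a
neighbourhood of q) or the image dF(q) of the differential of F in κ(q) ⊗_A Ω_{A/R} is nonzero. -/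
theorem result
    (R A : Type u) [CommRing R] [CommRing A] [IsNoetherianRing R] [Algebra R A] [Algebra.FiniteType R A]
    (F : A) (P : Ideal (A ⧸ Ideal.span ({F} : Set A))) [P.IsPrime]
    (hX : Algebra.IsSmoothAt R (P.comap (Ideal.Quotient.mk (Ideal.span ({F} : Set A))))) :
    letI q : Ideal A := P.comap (Ideal.Quotient.mk (Ideal.span ({F} : Set A)))
    Algebra.IsSmoothAt R P ↔ algebraMap A (Localization.AtPrime q) F = 0 ∨
      (1 : q.ResidueField) ⊗ₜ[A] KaehlerDifferential.D R A F ≠ 0 := by
  classical
  rw [Groth.Agent.Helper3.JacPt.isSmoothAt_quot_iff_of_finiteType R (Ideal.span ({F} : Set A)) P hX]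
  have hFq : F ∈ (P.comap (Ideal.Quotient.mk (Ideal.span ({F} : Set A)))) := Groth.Agent.Helper3.JacPt.I_le_q _ P (Ideal.mem_span_singleton_self F)
  have hFκ : algebraMap A (P.comap (Ideal.Quotient.mk (Ideal.span ({F} : Set A)))).ResidueField F = 0 := Ideal.algebraMap_residueField_eq_zero.mpr hFq
  have hJ : Groth.Agent.Helper3.JacPt.J (Ideal.span ({F} : Set A)) P =
      Ideal.span {algebraMap A (Localization.AtPrime (P.comap (Ideal.Quotient.mk (Ideal.span ({F} : Set A))))) F} := by
    show Ideal.map _ _ = _
    rw [Ideal.map_span, Set.image_singleton]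
  constructor
  · rintro ⟨s, hsI, hJs, hli⟩
    by_cases hF : algebraMap A (Localization.AtPrime (P.comap (Ideal.Quotient.mk (Ideal.span ({F} : Set A))))) F = 0
    · exact Or.inl hF
    · right
      have hne : s.Nonempty := by
        rw [Finset.nonempty_iff_ne_empty]
        rintro rfl
        rw [hJ, Finset.coe_empty, Set.image_empty, Ideal.span_empty,
          Ideal.span_singleton_eq_bot] at hJs
        exact hF hJs
      obtain ⟨g, hg⟩ := hne
      have hgI : g ∈ Ideal.span ({F} : Set A) := hsI hg
      obtain ⟨a, rfl⟩ := Ideal.mem_span_singleton'.mp hgI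
      have h1 := hli.ne_zero ⟨a * F, hg⟩
      intro h0
      apply h1
      show (1 : (P.comap (Ideal.Quotient.mk (Ideal.span ({F} : Set A)))).ResidueField) ⊗ₜ[A] KaehlerDifferential.D R A (a * F) = 0
      rw [Derivation.leibniz, TensorProduct.tmul_add, TensorProduct.tmul_smul,
        TensorProduct.tmul_smul, h0, smul_zero, zero_add, TensorProduct.smul_tmul',
        Algebra.smul_def, hFκ, zero_mul, TensorProduct.zero_tmul]
  · rintro (hF | hF)
    · refine ⟨∅, by simp, ?_, linearIndependent_empty_type⟩
      rw [hJ, hF, Finset.coe_empty, Set.image_empty, Ideal.span_empty, Ideal.span_singleton_eq_bot]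
    · refine ⟨{F}, ?_, ?_, ?_⟩
      · intro x hx
        rw [Finset.coe_singleton, Set.mem_singleton_iff] at hx
        rw [hx]
        exact Ideal.mem_span_singleton_self F
      · rw [hJ, Finset.coe_singleton, Set.image_singleton]
      · haveI : Unique ↥({F} : Finset A) :=
          ⟨⟨⟨F, Finset.mem_singleton_self F⟩⟩, fun x => Subtype.ext (Finset.mem_singleton.mp x.2)⟩
        rw [linearIndependent_unique_iff]
        convert hF
        exact Finset.mem_singleton.mp (default : ↥({F} : Finset A)).2

end Groth.Agent.S5999
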