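import Mathlib
import Groth.Agent.Lib.Helper9.SepFS
import Groth.Statements.S7150
-- import your own Groth.Agent.* helpers here

set_option autoImplicit false
universe u
open EtAlg

namespace Groth.Agent.S7150

open IsLocalRing in
/-- generic lifting: `κ'` formally smooth over `κ`, `A'` a local `κ`-algebra with nilpotent
maximal ideal such that `residue` is a `κ`-algebra map: there is a `κ`-algebra section. -/
lemma exists_section {κ : Type*} [CommRing κ] (A' : Type*) [CommRing A'] [IsLocalRing A']
    [Algebra κ A'] [Algebra κ (ResidueField A')] [IsScalarTower κ A' (ResidueField A')]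
    [Algebra.FormallySmooth κ (ResidueField A')]
    (hnil : ∃ n : ℕ, maximalIdeal A' ^ n = ⊥) :
    ∃ σ' : ResidueField A' →ₐ[κ] A', ∀ x, residue A' (σ' x) = x := by
  let g : A' →ₐ[κ] ResidueField A' := IsScalarTower.toAlgHom κ A' (ResidueField A')
  have hg : Function.Surjective g := residue_surjective
  have hker : RingHom.ker (g : A' →+* ResidueField A') = maximalIdeal A' := by
    have : (g : A' →+* ResidueField A') = residue A' := rfl
    rw [this, ker_residue]
  have hg' : IsNilpotent (RingHom.ker (g : A' →+* ResidueField A')) := by
    obtain ⟨n, hn⟩ := hnil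
    exact ⟨n, by rw [hker, hn]; rfl⟩
  refine ⟨Algebra.FormallySmooth.liftOfSurjective (AlgHom.id κ _) g hg hg', fun x => ?_⟩
  exact Algebra.FormallySmooth.liftOfSurjective_apply (AlgHom.id κ _) g hg hg' x

/-- Suppose p is a prime with p·1 = 0 in the local ring A and some power of the maximal ideal of A is
zero. Then the residue map A → κ_A has a section σ : κ_A → A that is a ring map. If moreover A → A'
is a local homomorphism to another local ring whose maximal ideal has a vanishing power, and the
residue field extension κ_{A'}/κ_A is separable (possibly transcendental, i.e. geometrically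
reduced), then for any such σ there is a section σ' : κ_{A'} → A' compatible with σ. -/
theorem result (p : ℕ) (hp : p.Prime) (A : Type u) [CommRing A]
    [IsLocalRing A] [CharP A p] (hnil : ∃ n : ℕ, IsLocalRing.maximalIdeal A ^ n = ⊥) :
    (∃ σ : IsLocalRing.ResidueField A →+* A, (IsLocalRing.residue A).comp σ = RingHom.id _) ∧
    ∀ (A' : Type u) [CommRing A'] [IsLocalRing A'] [Algebra A A'] [IsLocalHom (algebraMap A A')],
      (∃ n : ℕ, IsLocalRing.maximalIdeal A' ^ n = ⊥) →
      Algebra.IsGeometricallyReduced (IsLocalRing.ResidueField A) (IsLocalRing.ResidueField A') →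
      ∀ σ : IsLocalRing.ResidueField A →+* A, (IsLocalRing.residue A).comp σ = RingHom.id _ →
        ∃ σ' : IsLocalRing.ResidueField A' →+* A', (IsLocalRing.residue A').comp σ' = RingHom.id _ ∧
          σ'.comp (IsLocalRing.ResidueField.map (algebraMap A A')) = (algebraMap A A').comp σ := by
  haveI : Fact p.Prime := ⟨hp⟩
  constructor
  · letI : Algebra (ZMod p) A := ZMod.algebra A p
    haveI : Algebra.FormallySmooth (ZMod p) (IsLocalRing.ResidueField A) :=
      Groth.Agent.Helper14.PerfectSmooth.formallySmooth_zmod p _
    obtain ⟨σ', hσ'⟩ := exists_section (κ := ZMod p) A hnil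
    exact ⟨σ'.toRingHom, RingHom.ext fun x => hσ' x⟩
  · intro A' _ _ _ _ hnil' hgr σ hσ
    letI : Algebra (IsLocalRing.ResidueField A) A' := ((algebraMap A A').comp σ).toAlgebra
    haveI : IsScalarTower (IsLocalRing.ResidueField A) A' (IsLocalRing.ResidueField A') := by
      refine IsScalarTower.of_algebraMap_eq fun x => ?_
      change _ = IsLocalRing.residue A' (algebraMap A A' (σ x))
      have hx : x = IsLocalRing.residue A (σ x) := by
        have := congrArg (fun f => f x) hσ
        simpa using this.symm
      conv_lhs => rw [hx]
      rw [IsLocalRing.ResidueField.algebraMap_residue]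
    haveI : Algebra.FormallySmooth (IsLocalRing.ResidueField A) (IsLocalRing.ResidueField A') :=
      Groth.Agent.Helper9.SepFS.formallySmooth_iff_isGeometricallyReduced.mpr hgr
    obtain ⟨σ', hσ'⟩ := exists_section (κ := IsLocalRing.ResidueField A) A' hnil'
    refine ⟨σ'.toRingHom, RingHom.ext fun x => hσ' x, RingHom.ext fun x => ?_⟩
    have h1 := σ'.commutes x
    have h2 : IsLocalRing.ResidueField.map (algebraMap A A') x =
        algebraMap (IsLocalRing.ResidueField A) (IsLocalRing.ResidueField A') x := by
      obtain ⟨a, rfl⟩ := IsLocalRing.residue_surjective x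
      rw [IsLocalRing.ResidueField.map_residue, IsLocalRing.ResidueField.algebraMap_residue]
    change σ' (IsLocalRing.ResidueField.map (algebraMap A A') x) = algebraMap A A' (σ x)
    rw [h2, h1]
    rfl

end Groth.Agent.S7150
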