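import Groth.Statements.S0395
import Groth.Agent.Lib.Helper1.LocalFlat

set_option autoImplicit false
universe u
open FlatMor

namespace Groth.Agent.S0395

open TensorProduct nonZeroDivisors in
/-- For a flat local homomorphism R → S of Noetherian local rings and an element f of S that is regular
on the fibre ring S/mS, the quotient of S by f is again R-flat and f is regular on S. -/
theorem result {R S : Type u} [CommRing R] [CommRing S] [IsLocalRing R] [IsLocalRing S] [IsNoetherianRing R] [IsNoetherianRing S] [Algebra R S] [IsLocalHom (algebraMap R S)] [Module.Flat R S]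
    (f : S) (hf : Ideal.Quotient.mk ((IsLocalRing.maximalIdeal R).map (algebraMap R S)) f ∈ nonZeroDivisors (S ⧸ ((IsLocalRing.maximalIdeal R).map (algebraMap R S)))) :
    Module.Flat R (S ⧸ Ideal.span {f}) ∧ f ∈ nonZeroDivisors S := by
  classical
  set u : S →ₗ[R] S := LinearMap.mulLeft R f with hu
  have hux : ∀ x, u x = f * x := fun x => rfl
  have hmS : (IsLocalRing.maximalIdeal R • (⊤ : Submodule R S)) =
      ((IsLocalRing.maximalIdeal R).map (algebraMap R S)).restrictScalars R :=
    Ideal.smul_top_eq_map _
  have h : Function.Injective (u.lTensor (IsLocalRing.ResidueField R)) := by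
    refine (Groth.Agent.Helper1.lTensor_quotient_injective_iff u (IsLocalRing.maximalIdeal R)).mpr ?_
    intro x hx
    rw [hmS] at hx ⊢
    rw [Submodule.restrictScalars_mem, hux, ← Ideal.Quotient.eq_zero_iff_mem, map_mul] at hx
    rw [Submodule.restrictScalars_mem, ← Ideal.Quotient.eq_zero_iff_mem]
    exact (mul_left_mem_nonZeroDivisors_eq_zero_iff hf).mp hx
  have hinj := Groth.Agent.Helper1.injective_of_injective_residueField S u h
  have hflat := Groth.Agent.Helper1.flat_quotient_range_of_injective_residueField S u h
  refine ⟨?_, ?_⟩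
  · have hrange : LinearMap.range u = (Ideal.span {f}).restrictScalars R := by
      ext y
      rw [LinearMap.mem_range, Submodule.restrictScalars_mem, Ideal.mem_span_singleton']
      constructor
      · rintro ⟨x, rfl⟩; exact ⟨x, by rw [hux, mul_comm]⟩
      · rintro ⟨x, rfl⟩; exact ⟨x, by rw [hux, mul_comm]⟩
    exact Module.Flat.of_linearEquiv
      ((Submodule.quotEquivOfEq _ _ hrange).trans
        (Submodule.Quotient.restrictScalarsEquiv R (Ideal.span {f}))).symm
  · rw [mem_nonZeroDivisors_iff]
    have key : ∀ x, f * x = 0 → x = 0 := fun x hx =>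
      hinj (by rw [hux, hx, map_zero])
    exact ⟨fun x hx => key x hx, fun x hx => key x (by rw [mul_comm]; exact hx)⟩

end Groth.Agent.S0395
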