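import Groth.Statements.S7658

set_option autoImplicit false
universe u
open CategoryTheory AlgebraicGeometry

namespace Groth.Agent.S7658

/-- Generic points of irreducible components are preserved by open embeddings. -/
lemma closure_mem_irreducibleComponents_of_isOpenEmbedding {α β : Type*} [TopologicalSpace α]
    [TopologicalSpace β] [QuasiSober β]
    {s : α → β} (hs : Topology.IsOpenEmbedding s) {η : α}
    (hη : closure {η} ∈ irreducibleComponents α) :
    closure {s η} ∈ irreducibleComponents β := by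
  refine ⟨isIrreducible_singleton.closure, fun Z' hZ' hle => ?_⟩
  obtain ⟨ζ, hζ⟩ := QuasiSober.sober hZ'.closure isClosed_closure
  have h1 : ζ ⤳ s η := by
    rw [specializes_iff_mem_closure, hζ.def]
    exact subset_closure (hle (subset_closure rfl))
  have h2 : ζ ∈ Set.range s := h1.mem_open hs.isOpen_range ⟨η, rfl⟩
  obtain ⟨ζ₀, rfl⟩ := h2
  have h3 : ζ₀ ⤳ η := hs.isInducing.specializes_iff.mp h1
  have h4 : closure {ζ₀} ⊆ closure {η} :=
    hη.2 isIrreducible_singleton.closure (specializes_iff_closure_subset.mp h3)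
  have h5 : η ⤳ ζ₀ := specializes_iff_closure_subset.mpr h4
  have h6 : closure {s ζ₀} ⊆ closure {s η} :=
    specializes_iff_closure_subset.mp (h5.map hs.continuous)
  intro z hz
  apply h6
  rw [hζ.def]
  exact subset_closure hz

/-- A separated morphism of schemes f : X → Y such that X has an open covering on whose members f
restricts to open immersions, and such that no two distinct generic points of irreducible components
of X have the same image under f, is an open immersion. -/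
theorem result {X Y : Scheme.{u}}
    (f : X ⟶ Y) [IsSeparated f]
    (hloc : ∀ x : X, ∃ U : X.Opens, x ∈ U ∧ IsOpenImmersion (U.ι ≫ f))
    (hinj : ∀ ξ ξ' : X, closure ({ξ} : Set X) ∈ irreducibleComponents (X : Type u) → closure ({ξ'} : Set X) ∈ irreducibleComponents (X : Type u) →
      f.base ξ = f.base ξ' → ξ = ξ') :
    IsOpenImmersion f := by
  classical
  -- stalk isomorphisms
  have hstalk : ∀ x, IsIso (f.stalkMap x) := by
    intro x
    obtain ⟨U, hxU, hU⟩ := hloc x
    have h1 : IsIso ((U.ι ≫ f).stalkMap ⟨x, hxU⟩) := inferInstance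
    rw [Scheme.Hom.stalkMap_comp] at h1
    exact @IsIso.of_isIso_comp_right _ _ _ _ _ (f.stalkMap (U.ι ⟨x, hxU⟩))
      (U.ι.stalkMap ⟨x, hxU⟩) inferInstance h1
  -- open map
  have hopen : IsOpenMap f := by
    intro W hW
    rw [isOpen_iff_mem_nhds]
    rintro _ ⟨x, hxW, rfl⟩
    obtain ⟨U, hxU, hU⟩ := hloc x
    have hemb := (U.ι ≫ f).isOpenEmbedding
    have hn : (U.ι ≫ f) '' (U.ι ⁻¹' W) ∈ nhds (f x) := by
      have ho : IsOpen ((U.ι ≫ f) '' (U.ι ⁻¹' W)) :=
        hemb.isOpenMap _ (hW.preimage U.ι.continuous)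
      exact ho.mem_nhds ⟨⟨x, hxU⟩, hxW, rfl⟩
    refine Filter.mem_of_superset hn ?_
    rintro _ ⟨u, hu, rfl⟩
    exact ⟨U.ι u, hu, rfl⟩
  -- injectivity
  have hinj' : Function.Injective f := by
    intro x₁ x₂ hx
    obtain ⟨U₁, h₁, hU₁⟩ := hloc x₁
    obtain ⟨U₂, h₂, hU₂⟩ := hloc x₂
    let V : Y.Opens := (U₁.ι ≫ f).opensRange ⊓ (U₂.ι ≫ f).opensRange
    have hV₁ : Set.range V.ι ⊆ Set.range (U₁.ι ≫ f) := by
      rw [Scheme.Opens.range_ι]; exact fun y hy => hy.1
    have hV₂ : Set.range V.ι ⊆ Set.range (U₂.ι ≫ f) := by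
      rw [Scheme.Opens.range_ι]; exact fun y hy => hy.2
    let l₁ : (V : Scheme) ⟶ U₁ := IsOpenImmersion.lift (U₁.ι ≫ f) V.ι hV₁
    let l₂ : (V : Scheme) ⟶ U₂ := IsOpenImmersion.lift (U₂.ι ≫ f) V.ι hV₂
    have hl₁ : l₁ ≫ U₁.ι ≫ f = V.ι := IsOpenImmersion.lift_fac _ _ _
    have hl₂ : l₂ ≫ U₂.ι ≫ f = V.ι := IsOpenImmersion.lift_fac _ _ _
    have : IsOpenImmersion (l₁ ≫ U₁.ι ≫ f) := by rw [hl₁]; infer_instance
    have : IsOpenImmersion (l₂ ≫ U₂.ι ≫ f) := by rw [hl₂]; infer_instance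
    have : IsOpenImmersion l₁ := IsOpenImmersion.of_comp l₁ (U₁.ι ≫ f)
    have : IsOpenImmersion l₂ := IsOpenImmersion.of_comp l₂ (U₂.ι ≫ f)
    let s₁ : (V : Scheme) ⟶ X := l₁ ≫ U₁.ι
    let s₂ : (V : Scheme) ⟶ X := l₂ ≫ U₂.ι
    have hs₁ : s₁ ≫ f = V.ι := by simp only [s₁, Category.assoc, hl₁]
    have hs₂ : s₂ ≫ f = V.ι := by simp only [s₂, Category.assoc, hl₂]
    have hfs : s₁ ≫ f = s₂ ≫ f := hs₁.trans hs₂.symm
    have : IsOpenImmersion s₁ := by dsimp only [s₁]; infer_instance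
    have : IsOpenImmersion s₂ := by dsimp only [s₂]; infer_instance
    have hk₁ : ∀ v, s₁ v = U₁.ι (l₁ v) := fun _ => rfl
    have hk₂ : ∀ v, s₂ v = U₂.ι (l₂ v) := fun _ => rfl
    clear_value s₁ s₂
    let d : (V : Scheme) ⟶ Limits.pullback f f := Limits.pullback.lift s₁ s₂ hfs
    let T' : Set (V : Scheme) := d ⁻¹' Set.range (Limits.pullback.diagonal f)
    have hT'closed : IsClosed T' :=
      ((Limits.pullback.diagonal f).isClosedEmbedding.isClosed_range).preimage d.continuous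
    have hT'sub : ∀ v, v ∈ T' → s₁ v = s₂ v := by
      rintro v ⟨x, hx⟩
      have h1 : (Limits.pullback.fst f f) (d v) = s₁ v := by
        rw [← Scheme.Hom.comp_apply, Limits.pullback.lift_fst]
      have h2 : (Limits.pullback.snd f f) (d v) = s₂ v := by
        rw [← Scheme.Hom.comp_apply, Limits.pullback.lift_snd]
      have h3 : (Limits.pullback.fst f f) ((Limits.pullback.diagonal f) x) = x := by
        rw [← Scheme.Hom.comp_apply, Limits.pullback.diagonal_fst]; rfl
      have h4 : (Limits.pullback.snd f f) ((Limits.pullback.diagonal f) x) = x := by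
        rw [← Scheme.Hom.comp_apply, Limits.pullback.diagonal_snd]; rfl
      rw [← h1, ← h2, ← hx, h3, h4]
    have hT'of : ∀ v, s₁ v = s₂ v → v ∈ T' := by
      intro v hv
      obtain ⟨U, hxU, hU⟩ := hloc (s₁ v)
      let N : (V : Scheme).Opens := s₁ ⁻¹ᵁ U ⊓ s₂ ⁻¹ᵁ U
      have hvN : v ∈ N := ⟨hxU, by show s₂ v ∈ U; rw [← hv]; exact hxU⟩
      have hN₁ : Set.range (N.ι ≫ s₁) ⊆ Set.range U.ι := by
        rintro _ ⟨n, rfl⟩; rw [Scheme.Opens.range_ι]; exact n.2.1
      have hN₂ : Set.range (N.ι ≫ s₂) ⊆ Set.range U.ι := by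
        rintro _ ⟨n, rfl⟩; rw [Scheme.Opens.range_ι]; exact n.2.2
      have ht : IsOpenImmersion.lift U.ι (N.ι ≫ s₁) hN₁ = IsOpenImmersion.lift U.ι (N.ι ≫ s₂) hN₂ := by
        rw [← cancel_mono (U.ι ≫ f)]
        rw [IsOpenImmersion.lift_fac_assoc, IsOpenImmersion.lift_fac_assoc, Category.assoc,
          Category.assoc, hs₁, hs₂]
      have hN : N.ι ≫ s₁ = N.ι ≫ s₂ := by
        rw [← IsOpenImmersion.lift_fac U.ι (N.ι ≫ s₁) hN₁,
          ← IsOpenImmersion.lift_fac U.ι (N.ι ≫ s₂) hN₂, ht]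
      have hd : N.ι ≫ d = N.ι ≫ s₁ ≫ Limits.pullback.diagonal f := by
        apply Limits.pullback.hom_ext
        · simp only [d, Category.assoc, Limits.pullback.lift_fst, Limits.pullback.diagonal_fst,
            Category.comp_id]
        · simp only [d, Category.assoc, Limits.pullback.lift_snd, Limits.pullback.diagonal_snd,
            Category.comp_id, hN]
      refine ⟨s₁ v, ?_⟩
      have e1 : (N.ι ≫ d) ⟨v, hvN⟩ = d v := by
        rw [Scheme.Hom.comp_apply]; rfl
      have e2 : (N.ι ≫ s₁ ≫ Limits.pullback.diagonal f) ⟨v, hvN⟩ =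
          (Limits.pullback.diagonal f) (s₁ v) := by
        rw [Scheme.Hom.comp_apply, Scheme.Hom.comp_apply]; rfl
      rw [← e2, ← hd, e1]
    have hall : ∀ v : (V : Scheme), v ∈ T' := by
      intro v
      have hC : irreducibleComponent v ∈ irreducibleComponents (V : Scheme) :=
        irreducibleComponent_mem_irreducibleComponents v
      obtain ⟨η, hη⟩ := QuasiSober.sober hC.1 (isClosed_of_mem_irreducibleComponents _ hC)
      have hη' : closure {η} ∈ irreducibleComponents (V : Scheme) := by rw [hη.def]; exact hC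
      have e1 := closure_mem_irreducibleComponents_of_isOpenEmbedding s₁.isOpenEmbedding hη'
      have e2 := closure_mem_irreducibleComponents_of_isOpenEmbedding s₂.isOpenEmbedding hη'
      have e3 : s₁ η = s₂ η := hinj _ _ e1 e2 (by
        show f (s₁ η) = f (s₂ η)
        rw [← Scheme.Hom.comp_apply, ← Scheme.Hom.comp_apply, hs₁, hs₂])
      have hηT : η ∈ T' := hT'of η e3
      have hv : v ∈ closure {η} := by rw [hη.def]; exact mem_irreducibleComponent
      exact hT'closed.closure_subset_iff.mpr (Set.singleton_subset_iff.mpr hηT) hv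
    -- the point y
    have hy : f x₁ ∈ V := ⟨⟨⟨x₁, h₁⟩, rfl⟩, ⟨⟨x₂, h₂⟩, hx.symm⟩⟩
    let v₀ : (V : Scheme) := ⟨f x₁, hy⟩
    have hv₀ := hT'sub v₀ (hall v₀)
    have k₁ : s₁ v₀ = x₁ := by
      have : (U₁.ι ≫ f) (l₁ v₀) = (U₁.ι ≫ f) ⟨x₁, h₁⟩ := by
        rw [← Scheme.Hom.comp_apply, hl₁]; rfl
      have := (U₁.ι ≫ f).isOpenEmbedding.injective this
      rw [hk₁, this]; rfl
    have k₂ : s₂ v₀ = x₂ := by
      have : (U₂.ι ≫ f) (l₂ v₀) = (U₂.ι ≫ f) ⟨x₂, h₂⟩ := by
        rw [← Scheme.Hom.comp_apply, hl₂]; exact hx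
      have := (U₂.ι ≫ f).isOpenEmbedding.injective this
      rw [hk₂, this]; rfl
    rw [← k₁, ← k₂, hv₀]
  have hemb : Topology.IsOpenEmbedding f :=
    Topology.IsOpenEmbedding.of_continuous_injective_isOpenMap f.continuous hinj' hopen
  exact IsOpenImmersion.of_isIso_stalkMap f hemb

end Groth.Agent.S7658
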