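import Groth.Statements.S4787
import Groth.Agent.Lib.Helper7.ProCons3

set_option autoImplicit false
universe u
open CategoryTheory AlgebraicGeometry
open Lim8

namespace Groth.Agent.S4787

/-- Let S = lim S_i be a cofiltered limit of schemes with affine transition maps, some stage S_{i₀}
being quasi-compact. For every index let E_i be a pro-constructible and F_i an ind-constructible
subset of S_i such that, for every transition map S_i ⟶ S_j, E_i lies in the preimage of E_j and F_i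
contains the preimage of F_j. Put E = ⋂ (preimage of E_i in S) and F = ⋃ (preimage of F_i in S).
Then E ⊆ F if and only if there is an index i over i₀ such that E_j ⊆ F_j for every j over i. -/
theorem result {I : Type u} [SmallCategory I] [IsCofiltered I]
    (D : I ⥤ Scheme.{u}) (c : Limits.Cone D) (hc : Limits.IsLimit c)
    [∀ (i j : I) (f : i ⟶ j), IsAffineHom (D.map f)] (i₀ : I)
    [CompactSpace (D.obj i₀)] (E F : ∀ i : I, Set (D.obj i))
    (hE : ∀ i, ProCons.IsProConstructible (E i)) (hF : ∀ i, ProCons.IsIndConstructible (F i))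
    (hEm : ∀ (i j : I) (φ : i ⟶ j), E i ⊆ ⇑(D.map φ) ⁻¹' E j)
    (hFm : ∀ (i j : I) (φ : i ⟶ j), ⇑(D.map φ) ⁻¹' F j ⊆ F i) :
    (⋂ i, ⇑(c.π.app i) ⁻¹' E i : Set c.pt) ⊆ (⋃ i, ⇑(c.π.app i) ⁻¹' F i : Set c.pt) ↔
      ∃ (i : I) (_ : i ⟶ i₀), ∀ (j : I) (_ : j ⟶ i), E j ⊆ F j := by
  have hinst : ∀ {i j : I} (f : i ⟶ j), IsAffineHom (D.map f) := fun f => inferInstance
  constructor
  · intro h
    let G : ∀ i, Set (D.obj i) := fun i => E i ∩ (F i)ᶜ
    have hG : ∀ i, Groth.Agent.Helper7.ProCons2.CC (G i) := fun i =>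
      (Groth.Agent.Helper7.ProCons2.CC.of_isProConstructible (hE i)).inter
        (Groth.Agent.Helper7.ProCons2.CC.of_isIndConstructible_compl (hF i))
    have hGm : ∀ (i j : I) (φ : i ⟶ j), G i ⊆ D.map φ ⁻¹' G j := by
      rintro i j φ y ⟨hy1, hy2⟩
      exact ⟨hEm i j φ hy1, fun hn => hy2 (hFm i j φ hn)⟩
    have hem : (⋂ i, ⇑(c.π.app i) ⁻¹' G i : Set c.pt) = ∅ := by
      rw [Set.eq_empty_iff_forall_notMem]
      intro x hx
      rw [Set.mem_iInter] at hx
      have h1 : x ∈ (⋂ i, ⇑(c.π.app i) ⁻¹' E i : Set c.pt) := by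
        rw [Set.mem_iInter]
        exact fun i => (hx i).1
      obtain ⟨i, hi⟩ := Set.mem_iUnion.1 (h h1)
      exact (hx i).2 hi
    obtain ⟨l, φ, hl⟩ := Groth.Agent.Helper7.LimBC.exists_eq_empty_of_CC D c hc i₀ G hG hGm hem
    refine ⟨l, φ, fun j ψ y hy => ?_⟩
    by_contra hn
    have : y ∈ D.map ψ ⁻¹' G l := hGm j l ψ ⟨hy, hn⟩
    rw [hl] at this
    exact this
  · rintro ⟨i, _, hi⟩ x hx
    rw [Set.mem_iInter] at hx
    exact Set.mem_iUnion.2 ⟨i, hi i (𝟙 i) (hx i)⟩

end Groth.Agent.S4787
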