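import Groth.Statements.S2345
import Groth.Agent.Lib.Helper4.P1Curve4
import Groth.Agent.S4454
import Groth.Agent.S4448

set_option autoImplicit false
universe u
open CategoryTheory CategoryTheory.Limits AlgebraicGeometry
attribute [local instance] Curv2.stalkAlgebra
open EGA2

namespace Groth.Agent.S2345

/-- Let K be a finitely generated field extension of k of transcendence degree one. Then there is an
integral normal algebraic curve X, proper over k, whose function field is isomorphic to K compatibly
with the maps from k. -/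
theorem result (k : Type u) [Field k] (K : Type u) [Field K] [Algebra k K]
    (hfg : (⊤ : IntermediateField k K).FG) (htr : Algebra.trdeg k K = 1) :
    ∃ (X : Scheme.{u}) (_ : X.Over (Spec (CommRingCat.of k))) (_ : IsIntegral X), IsProper (X ↘ (Spec (CommRingCat.of k))) ∧ Pi1.IsNormalScheme X ∧
      (∀ x : X, IsClosed ({x} : Set X) → ringKrullDim (X.presheaf.stalk x) = 1) ∧
      ∃ e : X.presheaf.stalk (genericPoint X) ≃+* K, ∀ c : k, e (algebraMap k (X.presheaf.stalk (genericPoint X)) c) = algebraMap k K c := by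
  obtain ⟨t, ht, hfin⟩ := Groth.Agent.Helper4.FieldFin.exists_transcendental_finite k K hfg htr
  have hg := Groth.Agent.Helper4.P1Curve.g₀_eq k K t ht
  have hφ := Groth.Agent.Helper4.P1Curve.φ_finite k K t ht hfin
  obtain ⟨hfin', hnorm, hdim⟩ := Groth.Agent.S4454.result k (Groth.Agent.Helper4.P1Curve.P k)
    (Groth.Agent.Helper4.P1Curve.dim_closedPoints k K t ht hfin htr) K
    (Groth.Agent.Helper4.P1Curve.φ k K t ht) hφ (Groth.Agent.Helper4.P1Curve.g₀ k K t) hg
  obtain ⟨hint, -, -, hgen, hinj, hrange⟩ := Groth.Agent.S4448.result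
    (Groth.Agent.Helper4.P1Curve.P k) K
    (Groth.Agent.Helper4.P1Curve.φ k K t ht) (Groth.Agent.Helper4.P1Curve.g₀ k K t) hg
  have hsurj : Function.Surjective
      (Scheme.stalkClosedPointTo (Groth.Agent.Helper4.P1Curve.g₀ k K t).toNormalization).hom := by
    intro y
    have hy : y ∈ Set.range
        (Scheme.stalkClosedPointTo (Groth.Agent.Helper4.P1Curve.g₀ k K t).toNormalization).hom := by
      rw [hrange]
      exact RingHom.Finite.to_isIntegral hφ y
    exact hy
  letI : (Groth.Agent.Helper4.P1Curve.g₀ k K t).normalization.Over (Spec (CommRingCat.of k)) :=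
    ⟨(Groth.Agent.Helper4.P1Curve.g₀ k K t).fromNormalization ≫
      (Groth.Agent.Helper4.P1Curve.P k ↘ Spec (CommRingCat.of k))⟩
  refine ⟨(Groth.Agent.Helper4.P1Curve.g₀ k K t).normalization, inferInstance, hint, ?_, hnorm,
    hdim, ?_⟩
  · change IsProper ((Groth.Agent.Helper4.P1Curve.g₀ k K t).fromNormalization ≫
      (Groth.Agent.Helper4.P1Curve.P k ↘ Spec (CommRingCat.of k)))
    infer_instance
  · refine Groth.Agent.Helper4.P1Curve.exists_equiv_of_bijective k K _
      (Groth.Agent.Helper4.P1Curve.g₀ k K t).toNormalization ?_ _ hgen ⟨hinj, hsurj⟩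
    change (Groth.Agent.Helper4.P1Curve.g₀ k K t).toNormalization ≫
      ((Groth.Agent.Helper4.P1Curve.g₀ k K t).fromNormalization ≫
      (Groth.Agent.Helper4.P1Curve.P k ↘ Spec (CommRingCat.of k))) = _
    rw [Scheme.Hom.toNormalization_fromNormalization_assoc]
    exact Groth.Agent.Helper4.P1Curve.g₀_over k K t

end Groth.Agent.S2345
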