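import Groth.Statements.S3833
import Mathlib.AlgebraicGeometry.Morphisms.QuasiCompact

set_option autoImplicit false
universe u
open CategoryTheory CategoryTheory.Limits AlgebraicGeometry TopologicalSpace
open Rat20

namespace Groth.Agent.S3833

/-- Stated for a global section, the case of a section over an open subset U being the same statement
for the open subscheme U: let X be a scheme and s a global section of O_X which is regular in the
sense that its germ at every point x is a non-zero-divisor of the local ring O_{X,x} (on an affine
scheme this is the same as being a non-zero-divisor of Γ(X, O_X), but not in general). Then the open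
subset X_s where s is invertible is schematically dense in X. -/
theorem result (X : Scheme.{u}) (s : Γ(X, ⊤))
    (hs : ∀ x : ↥X, (X.presheaf.germ ⊤ x trivial s) ∈ nonZeroDivisors ↑(X.presheaf.stalk x)) :
    CInt.IsSchematicallyDense (X.basicOpen s) := by
  intro V
  refine (injective_iff_map_eq_zero
    (X.presheaf.map (homOfLE (inf_le_left : V ⊓ X.basicOpen s ≤ V)).op).hom).mpr ?_
  intro a ha
  apply TopCat.Presheaf.section_ext X.sheaf V
  intro x hx
  refine Eq.trans ?_ (map_zero (X.presheaf.germ V x hx).hom).symm
  change (X.presheaf.germ V x hx) a = 0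
  obtain ⟨_, ⟨W, hW, rfl⟩, hxW, hWV⟩ :=
    X.isBasis_affineOpens.exists_subset_of_mem_open hx V.2
  have hWV' : W ≤ V := hWV
  set a' : Γ(X, W) := X.presheaf.map (homOfLE hWV').op a with ha'
  set s' : Γ(X, W) := X.presheaf.map (homOfLE (le_top : W ≤ ⊤)).op s with hs'
  have hle : X.basicOpen s' ≤ V ⊓ X.basicOpen s := by
    rw [hs', Scheme.basicOpen_res]
    exact inf_le_inf_right _ hWV'
  have h0 : X.presheaf.map (homOfLE (X.basicOpen_le s')).op a' = 0 := by
    have h1 : X.presheaf.map (homOfLE (X.basicOpen_le s')).op a' =
        X.presheaf.map (homOfLE hle).op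
          (X.presheaf.map (homOfLE (inf_le_left : V ⊓ X.basicOpen s ≤ V)).op a) := by
      rw [ha', ← ConcreteCategory.comp_apply, ← ConcreteCategory.comp_apply,
        ← Functor.map_comp, ← Functor.map_comp]
      rfl
    rw [h1]
    have : (X.presheaf.map (homOfLE (inf_le_left : V ⊓ X.basicOpen s ≤ V)).op) a = 0 := ha
    rw [this, map_zero]
  obtain ⟨n, hn⟩ := exists_pow_mul_eq_zero_of_res_basicOpen_eq_zero_of_isAffineOpen X hW a' s' h0
  have hg := congrArg (X.presheaf.germ W x hxW) hn
  rw [map_mul, map_pow, map_zero, ha', hs', TopCat.Presheaf.germ_res_apply,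
    TopCat.Presheaf.germ_res_apply] at hg
  have hnz := pow_mem (hs x) n
  rw [mul_comm] at hg
  exact hnz.2 _ hg

end Groth.Agent.S3833
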