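import Groth.Statements.S4275
import Groth.Agent.Lib.Helper5.FPC5
import Groth.Agent.Lib.Helper5.ZLF2
import Groth.Agent.Lib.Helper5.LOC2

set_option autoImplicit false
universe u
open CategoryTheory CategoryTheory.Limits AlgebraicGeometry
attribute [local instance] HasDerivedCategory.standard
open KSix

namespace Groth.Agent.S4275

/-- For the ringed space underlying a scheme: let E ∈ D(O_X) and m ≤ n. Then E has perfect amplitude in
[m, n] (locally isomorphic to a complex of finite locally free modules placed in degrees [m, n]) if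
and only if E is (m-1)-pseudo-coherent and has tor amplitude in [m, n] (is isomorphic to a complex
of flat modules placed in degrees [m, n]). (The source states this on an arbitrary ringed topos,
with tor amplitude defined through Tor sheaves.) -/
theorem result (X : Scheme.{u}) (E : DCoh.D X) (m n : ℤ) (hmn : m ≤ n) :
    KSix.HasPerfectAmplitudeIn m n E ↔ DCoh.IsPseudoCoherentD (m - 1) E ∧ DCoh.HasFlatAmplitudeIn m n E := by
  constructor
  · intro h
    refine ⟨fun x => ?_, ?_⟩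
    · obtain ⟨V, hxV, hV⟩ := h x
      refine ⟨V, hxV, fun F hF => ?_⟩
      obtain ⟨E', hv, hf, ⟨e⟩⟩ := hV F hF
      exact ⟨E', e.inv, ⟨⟨m, n, hv⟩, hf⟩, fun i _ => inferInstance, inferInstance⟩
    · apply Groth.Agent.Helper5.LOC.hasFlatAmplitudeIn_of_local E m n hmn
      intro x
      obtain ⟨V, hxV, hV⟩ := h x
      refine ⟨V, hxV, fun F hF => ?_⟩
      obtain ⟨E', hv, hf, ⟨e⟩⟩ := hV F hF
      exact ⟨E', hv, fun i => Groth.Agent.Helper5.LDer.isFlat_of_isFinLocFree _ (hf i), ⟨e.symm⟩⟩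
  · rintro ⟨hpc, ⟨F₀, hv, hfl, ⟨e₀⟩⟩⟩ x
    obtain ⟨V, hxV, hV⟩ := hpc x
    obtain ⟨P, α, ⟨⟨aP, bP, hvP⟩, hfP⟩, hiso, hepi⟩ := hV F₀ ⟨e₀⟩
    obtain ⟨W, hxW, P₃, hP₃, hvP₃, ⟨e₃⟩⟩ := Groth.Agent.Helper5.FPC.exists_local_model F₀ m n hv hfl
      V x hxV P aP bP hvP hfP α ⟨hiso, hepi⟩
    obtain ⟨hv₄, hf₄, ⟨e₄⟩⟩ := Groth.Agent.Helper5.FPC.truncLE_model P₃
      ((Groth.Agent.Helper5.RT.rCx (W.ι ≫ V.ι)).obj F₀) m n (max m bP) hvP₃ hP₃.2
      (fun i hi => (Scheme.Modules.restrictFunctor _).map_isZero (hv i (Or.inr hi))) e₃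
    obtain ⟨V', hxV', E', hE', hvE', hF⟩ := Groth.Agent.Helper5.FPC.exists_model_of_local x V hxV W hxW
      F₀ (P₃.truncLE n) ⟨⟨m, n, hv₄⟩, hf₄⟩
      (DerivedCategory.Q.mapIso ((NatIso.mapHomologicalComplex
        (Scheme.Modules.restrictFunctorComp W.ι V.ι) (ComplexShape.up ℤ)).app F₀).symm ≪≫ e₄)
    exact ⟨V', hxV', fun F ⟨eF⟩ => ⟨E', hvE' m n hv₄, hE'.2, hF F ⟨eF ≪≫ e₀.symm⟩⟩⟩

end Groth.Agent.S4275
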