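import Groth.Statements.S12451
import Groth.Agent.Lib.Helper13.LocFree3

set_option autoImplicit false
universe u
open CategoryTheory AlgebraicGeometry
open Props

namespace Groth.Agent.S12451

open Groth.Agent.Helper13.LocFree Groth.Agent.Helper13.LocTransfer

lemma smul_top_eq {R : CommRingCat.{u}} (N : (Spec R).Modules) (c : R) (x : Γ(N, ⊤)) :
    ((Scheme.ΓSpecIso R).commRingCatIsoToRingEquiv.symm c) • x = c • x := by
  rw [Scheme.Modules.smul_Spec_def]
  congr 1

lemma smul_top_eq' {R : CommRingCat.{u}} (N : (Spec R).Modules) (c : Γ(Spec R, ⊤)) (x : Γ(N, ⊤)) :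
    ((Scheme.ΓSpecIso R).commRingCatIsoToRingEquiv c) • x = c • x := by
  have := smul_top_eq N ((Scheme.ΓSpecIso R).commRingCatIsoToRingEquiv c) x
  rw [RingEquiv.symm_apply_apply] at this
  exact this.symm

/-- For a commutative ring R and an R-module M, the associated quasi-coherent module M~ on Spec R is a
finite locally free O-module exactly when M is finitely generated and projective over R
(equivalently, a finite locally free R-module). -/
theorem result {R : CommRingCat.{u}} (M : ModuleCat.{u} R) :
    FlatMod.IsFinLocFree (tilde M) ↔ Module.Finite R M ∧ Module.Projective R M := by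
  have e : M ≃ₗ[R] Γ(tilde M, ⊤) := (tilde.isoTop M).toLinearEquiv
  constructor
  · intro h
    obtain ⟨hfin, hproj⟩ := projective_sections_of_isFinLocFree (tilde M) h (isAffineOpen_top (Spec R))
    haveI : Module.Finite R Γ(tilde M, ⊤) :=
      finite_of_ringEquiv (Scheme.ΓSpecIso R).commRingCatIsoToRingEquiv.symm
        (smul_top_eq (tilde M))
    haveI : Module.Projective R Γ(tilde M, ⊤) :=
      projective_of_ringEquiv (Scheme.ΓSpecIso R).commRingCatIsoToRingEquiv.symm
        (smul_top_eq (tilde M))
    exact ⟨Module.Finite.equiv e.symm, Module.Projective.of_equiv e.symm⟩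
  · rintro ⟨hfin, hproj⟩
    apply isFinLocFree_of_projective_sections (tilde M)
    intro x
    haveI : Module.Finite R Γ(tilde M, ⊤) := Module.Finite.equiv e
    haveI : Module.Projective R Γ(tilde M, ⊤) := Module.Projective.of_equiv e
    haveI : Module.Finite Γ(Spec R, ⊤) Γ(tilde M, ⊤) :=
      finite_of_ringEquiv (Scheme.ΓSpecIso R).commRingCatIsoToRingEquiv
        (smul_top_eq' (tilde M))
    haveI : Module.Projective Γ(Spec R, ⊤) Γ(tilde M, ⊤) :=
      projective_of_ringEquiv (Scheme.ΓSpecIso R).commRingCatIsoToRingEquiv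
        (smul_top_eq' (tilde M))
    exact ⟨⊤, isAffineOpen_top (Spec R), trivial, inferInstance, inferInstance⟩

end Groth.Agent.S12451
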