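import Groth.Statements.S3551
import Groth.Agent.Lib.Helper6.GammaStarSub
import Groth.Agent.Lib.Helper13.FinAffine2

set_option autoImplicit false
universe u
open CategoryTheory CategoryTheory.Limits AlgebraicGeometry
open EGA2

namespace Groth.Agent.S3551

/-- Let S be a graded ring whose irrelevant ideal S_+ is generated by finitely many elements of degree
one, and X = Proj S. Then every quasi-coherent O_X-module of finite type is isomorphic to N~ for
some finitely generated graded S-module N (graded in nonnegative degrees). -/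
theorem result {R A : Type u} [CommRing R] [CommRing A] [Algebra R A] (𝒜 : ℕ → Submodule R A) [GradedAlgebra 𝒜]
    (s : Finset A) (hs1 : ∀ f ∈ s, f ∈ 𝒜 1)
    (hs : (HomogeneousIdeal.irrelevant 𝒜).toIdeal = Ideal.span (s : Set A))
    (F : (Proj 𝒜).Modules) (hF : Coh.IsQCoh F) (hFT : CohB1.IsFT F) :
    ∃ (N : Type u) (_ : AddCommGroup N) (_ : Module R N) (_ : Module A N) (_ : IsScalarTower R A N)
      (𝒩 : ℕ → Submodule R N) (_ : DirectSum.Decomposition 𝒩) (_ : SetLike.GradedSMul 𝒜 𝒩),
      Module.Finite A N ∧ Nonempty (GrTilde.tilde 𝒜 𝒩 0 ≅ F) := by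
  classical
  haveI : F.IsQuasicoherent := hF
  haveI : SheafOfModules.IsFiniteType (R := (Proj 𝒜).ringCatSheaf) F := hFT
  let f : (↥s : Type u) → 𝒜 1 := fun i => ⟨i.1, hs1 i.1 i.2⟩
  have hcov : ∀ x : ProjectiveSpectrum 𝒜, ∃ i, (f i).1 ∉ x.asHomogeneousIdeal := by
    intro x
    by_contra hcon
    push Not at hcon
    apply x.not_irrelevant_le
    intro a ha
    have ha' : a ∈ (HomogeneousIdeal.irrelevant 𝒜).toIdeal := ha
    rw [hs] at ha'
    exact (Ideal.span_le.2 (fun b hb => hcon ⟨b, hb⟩)) ha'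
  obtain ⟨N, hNfg, hNhom, hNext⟩ := Groth.Agent.Helper6.GammaStar.exists_fg_sub 𝒜 F f
    (fun i => Groth.Agent.Helper13.FinType.finite_sections_of_isFiniteType F
      (Groth.Agent.Helper6.GammaStar.isAffineOpen_U 𝒜 f i))
  haveI := Groth.Agent.Helper6.GammaStar.isIso_ΘN 𝒜 F f N hcov hNext hNhom
  exact ⟨↥N, inferInstance, inferInstance, inferInstance, inferInstance,
    Groth.Agent.Helper6.GammaStar.grN 𝒜 F f N,
    Groth.Agent.Helper6.GammaStar.decompositionN 𝒜 F f hNhom, inferInstance,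
    Module.Finite.iff_fg.2 hNfg,
    ⟨(asIso (Groth.Agent.Helper6.GammaStar.ΘN 𝒜 F f N hcov hNext)).symm⟩⟩

end Groth.Agent.S3551
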