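import Groth.Statements.S8896
import Mathlib
import Groth.Agent.Lib.Helper2.RegNbhd5
import Groth.Agent.Lib.Helper28.RegBC10
import Groth.Agent.Lib.Helper6.QReg
import Groth.Agent.S5803
-- import your own Groth.Agent.* helpers here

set_option autoImplicit false
universe u
open CategoryTheory CategoryTheory.Limits AlgebraicGeometry TopologicalSpace
open SDiv

namespace Groth.Agent.S8896

section

open RingTheory.Sequence Groth.Agent.Helper28 Groth.Agent.Helper28.RegBC IsLocalRing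
  Groth.Agent.Helper16.FibStalk Groth.Agent.Helper16.FibMod Groth.Agent.Helper2.RegNbhd
  TensorProduct

variable {T X S : Scheme.{u}}

/-- the kernel of the stalk map of the fibre of a closed immersion is the image of the kernel of
the stalk map. -/
theorem ker_fibre_stalk (φ : X ⟶ S) (i : T ⟶ X) [IsClosedImmersion i] (s : S)
    (ts : ↥(pullback i (φ.fiberι s)))
    (hx : φ.fiberι s (pullback.snd i (φ.fiberι s) ts) = i (pullback.fst i (φ.fiberι s) ts)) :
    (RingHom.ker (i.stalkMap (pullback.fst i (φ.fiberι s) ts)).hom).map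
      (((quotEquivStalkFiberOfEq φ s (pullback.snd i (φ.fiberι s) ts)
        (i (pullback.fst i (φ.fiberι s) ts)) hx : _ ≃+* _) : _ →+* _).comp
          (Ideal.Quotient.mk (fibIdeal φ (i (pullback.fst i (φ.fiberι s) ts))))) =
      RingHom.ker ((pullback.snd i (φ.fiberι s)).stalkMap ts).hom := by
  obtain ⟨_, ⟨U, hU, rfl⟩, hxU, -⟩ := X.isBasis_affineOpens.exists_subset_of_mem_open
    (Set.mem_univ (i (pullback.fst i (φ.fiberι s) ts))) isOpen_univ
  have hwU : pullback.snd i (φ.fiberι s) ts ∈ (φ.fiberι s) ⁻¹ᵁ U := by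
    show φ.fiberι s (pullback.snd i (φ.fiberι s) ts) ∈ U
    rw [hx]; exact hxU
  obtain ⟨_, ⟨U', hU', rfl⟩, hwU', hU'le⟩ :=
    (φ.fiber s).isBasis_affineOpens.exists_subset_of_mem_open hwU ((φ.fiberι s) ⁻¹ᵁ U).2
  have hle : U' ≤ (φ.fiberι s) ⁻¹ᵁ U := hU'le
  haveI : IsClosedImmersion (i ∣_ U) := IsZariskiLocalAtTarget.restrict ‹_› U
  obtain ⟨-, hker'⟩ := ker_of_isPullback i (φ.fiberι s) (pullback.snd i (φ.fiberι s))
    (pullback.fst i (φ.fiberι s)) (IsPullback.of_hasPullback i (φ.fiberι s)) U hU U' hU' hle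
  have h1 := Groth.Agent.Helper3.RegImm2.ker_stalkMap_closedImmersion i
    (pullback.fst i (φ.fiberι s) ts) ⟨U, hU⟩ hxU
  have h2 := Groth.Agent.Helper3.RegImm2.ker_stalkMap_closedImmersion
    (pullback.snd i (φ.fiberι s)) ts ⟨U', hU'⟩ hwU'
  rw [h1, h2, Scheme.Hom.ker_apply, Scheme.Hom.ker_apply, hker', Ideal.map_map, Ideal.map_map]
  congr 1
  ext a
  simp only [RingHom.comp_apply]
  change quotEquivStalkFiberOfEq φ s _ _ hx (Ideal.Quotient.mk _ _) = _
  rw [quotEquivStalkFiberOfEq_mk]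
  have e1 : (X.presheaf.stalkSpecializes (Inseparable.of_eq hx).specializes).hom
      ((X.presheaf.germ U (i (pullback.fst i (φ.fiberι s) ts)) hxU).hom a) =
      (X.presheaf.germ U (φ.fiberι s (pullback.snd i (φ.fiberι s) ts)) hwU).hom a := by
    rw [← CommRingCat.comp_apply, TopCat.Presheaf.germ_stalkSpecializes]
  rw [e1]
  have e2 := Scheme.Hom.germ_stalkMap_apply (φ.fiberι s) U
    (pullback.snd i (φ.fiberι s) ts) hwU a
  refine e2.trans ?_
  rw [Scheme.Hom.appLE, CommRingCat.comp_apply]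
  exact (TopCat.Presheaf.germ_res_apply (φ.fiber s).presheaf (homOfLE hle) _ hwU' _).symm

/-- finite generation of the kernel of a closed immersion of locally finitely presented schemes. -/
theorem ker_fg (φ : X ⟶ S) [LocallyOfFinitePresentation φ] (i : T ⟶ X) [IsClosedImmersion i]
    [LocallyOfFinitePresentation (i ≫ φ)] (U : X.Opens) (hU : IsAffineOpen U) (V : S.Opens)
    (hV : IsAffineOpen V) (e : U ≤ φ ⁻¹ᵁ V) : (RingHom.ker (i.app U).hom).FG := by
  have e' : i ⁻¹ᵁ U ≤ (i ≫ φ) ⁻¹ᵁ V := fun z hz => e hz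
  have hU' : IsAffineOpen (i ⁻¹ᵁ U) := hU.preimage i
  letI alg : Algebra Γ(S, V) Γ(X, U) := (φ.appLE V U e).hom.toAlgebra
  haveI : Algebra.FinitePresentation Γ(S, V) Γ(X, U) :=
    LocallyOfFinitePresentation.finitePresentation_appLE φ hV hU e
  letI alg' : Algebra Γ(S, V) Γ(T, i ⁻¹ᵁ U) := ((i ≫ φ).appLE V (i ⁻¹ᵁ U) e').hom.toAlgebra
  haveI : Algebra.FinitePresentation Γ(S, V) Γ(T, i ⁻¹ᵁ U) :=
    LocallyOfFinitePresentation.finitePresentation_appLE (i ≫ φ) hV hU' e'
  let ψ : Γ(X, U) →ₐ[Γ(S, V)] Γ(T, i ⁻¹ᵁ U) :=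
    { (i.app U).hom with
      commutes' := fun r => by
        change (i.app U).hom ((φ.appLE V U e).hom r) = ((i ≫ φ).appLE V (i ⁻¹ᵁ U) e').hom r
        rw [← CommRingCat.comp_apply, Scheme.Hom.app_eq_appLE, Scheme.Hom.appLE_comp_appLE] }
  have hψ : Function.Surjective ψ := i.app_surjective U hU
  exact Algebra.FinitePresentation.ker_fG_of_surjective ψ hψ

/-- from the fibre to the total space, at a point of the fibre. -/
theorem regAt_of_fibre (φ : X ⟶ S) [Flat φ] [LocallyOfFinitePresentation φ] (i : T ⟶ X)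
    [IsClosedImmersion i] [Flat (i ≫ φ)] [LocallyOfFinitePresentation (i ≫ φ)] (s : S)
    (ts : ↥(pullback i (φ.fiberι s)))
    (h : RegImm.IsRegularImmersionAt .quasi (pullback.snd i (φ.fiberι s)) ts) :
    RegImm.IsRegularImmersionAt .quasi i (pullback.fst i (φ.fiberι s) ts) := by
  have hx : φ.fiberι s (pullback.snd i (φ.fiberι s) ts) = i (pullback.fst i (φ.fiberι s) ts) := by
    have := congrArg (fun t : pullback i (φ.fiberι s) ⟶ X => t ts)
      (pullback.condition (f := i) (g := φ.fiberι s))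
    simpa using this.symm
  obtain ⟨rsF, hrsF, hkerF⟩ := exists_kind_stalk (pullback.snd i (φ.fiberι s)) RegImm.Kind.quasi ts h
  have hqF : CAlgX.IsQuasiRegular rsF.get := hrsF
  haveI := isNoetherianRing_fiber_stalk φ s (pullback.snd i (φ.fiberι s) ts)
  have hjac : ∀ j, rsF.get j ∈
      Ring.jacobson ((φ.fiber s).presheaf.stalk (pullback.snd i (φ.fiberι s) ts)) := by
    intro j
    rw [IsLocalRing.ringJacobson_eq_maximalIdeal, mem_maximalIdeal, mem_nonunits_iff]
    intro hu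
    have h2 : rsF.get j ∈ RingHom.ker ((pullback.snd i (φ.fiberι s)).stalkMap ts).hom := by
      rw [hkerF]
      exact Ideal.subset_span (List.get_mem rsF j)
    have h3 := hu.map ((pullback.snd i (φ.fiberι s)).stalkMap ts).hom
    rw [RingHom.mem_ker.mp h2] at h3
    exact not_isUnit_zero h3
  have hwrF : IsWeaklyRegular ((φ.fiber s).presheaf.stalk (pullback.snd i (φ.fiberι s) ts)) rsF := by
    have := Groth.Agent.S5803.result _ rsF.length rsF.get hjac hqF
    rwa [List.ofFn_get] at this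
  let E := quotEquivStalkFiberOfEq φ s (pullback.snd i (φ.fiberι s) ts)
    (i (pullback.fst i (φ.fiberι s) ts)) hx
  have hwr : IsWeaklyRegular
      (X.presheaf.stalk (i (pullback.fst i (φ.fiberι s) ts)) ⧸
        fibIdeal φ (i (pullback.fst i (φ.fiberι s) ts))) (rsF.map E.symm) := by
    letI : Algebra ((φ.fiber s).presheaf.stalk (pullback.snd i (φ.fiberι s) ts))
        (X.presheaf.stalk (i (pullback.fst i (φ.fiberι s) ts)) ⧸
          fibIdeal φ (i (pullback.fst i (φ.fiberι s) ts))) := E.symm.toRingHom.toAlgebra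
    haveI : Module.Flat ((φ.fiber s).presheaf.stalk (pullback.snd i (φ.fiberι s) ts))
        (X.presheaf.stalk (i (pullback.fst i (φ.fiberι s) ts)) ⧸
          fibIdeal φ (i (pullback.fst i (φ.fiberι s) ts))) :=
      RingHom.Flat.of_bijective (f := E.symm.toRingHom) E.symm.bijective
    exact hwrF.of_flat
  have hgen : Ideal.ofList (rsF.map E.symm) =
      (RingHom.ker (i.stalkMap (pullback.fst i (φ.fiberι s) ts)).hom).map
        (Ideal.Quotient.mk (fibIdeal φ (i (pullback.fst i (φ.fiberι s) ts)))) := by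
    have h1 := ker_fibre_stalk φ i s ts hx
    have h2 : Ideal.ofList (rsF.map E.symm) = (Ideal.ofList rsF).map (E.symm : _ →+* _) := by
      rw [Ideal.map_ofList]
      rfl
    rw [h2, ← hkerF, ← h1, Ideal.map_map]
    congr 1
    ext a
    simp only [RingHom.comp_apply]
    exact E.symm_apply_apply _
  -- charts
  obtain ⟨_, ⟨V, hV, rfl⟩, hsV, -⟩ := S.isBasis_affineOpens.exists_subset_of_mem_open
    (Set.mem_univ (φ (i (pullback.fst i (φ.fiberι s) ts)))) isOpen_univ
  obtain ⟨_, ⟨U₀, hU₀, rfl⟩, hzU₀, hU₀V⟩ := X.isBasis_affineOpens.exists_subset_of_mem_open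
    (show i (pullback.fst i (φ.fiberι s) ts) ∈ ((φ ⁻¹ᵁ V : X.Opens) : Set X) from hsV) (φ ⁻¹ᵁ V).2
  haveI : IsClosedImmersion (i ∣_ U₀) := IsZariskiLocalAtTarget.restrict ‹_› U₀
  have hfg := ker_fg φ i U₀ hU₀ V hV hU₀V
  obtain ⟨U, hU, V', hV', hUV, hzU, -, hcl, as, has, hker⟩ :=
    exists_trans_presentation φ i (pullback.fst i (φ.fiberι s) ts) U₀ hU₀ hzU₀ hfg _ hwr hgen
  refine ⟨⟨U, hU⟩, hzU, hcl, as, ?_, hker⟩
  show CAlgX.IsQuasiRegular as.get
  apply Groth.Agent.Helper6.QReg.isQuasiRegular_of_isWeaklyRegular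
  rw [List.ofFn_get]
  exact has.1

theorem main {X S : Scheme.{u}} (φ : X ⟶ S) [Flat φ] [LocallyOfFinitePresentation φ]
    (𝓘 : X.IdealSheafData) [Flat (𝓘.subschemeι ≫ φ)] [LocallyOfFinitePresentation (𝓘.subschemeι ≫ φ)]
    (hfib : ∀ s : ↥S, RegImm.IsRegularImmersion RegImm.Kind.quasi
      (pullback.snd 𝓘.subschemeι (φ.fiberι s))) :
    RegImm.IsRelRegularImmersion RegImm.Kind.quasi φ 𝓘.subschemeι := by
  refine ⟨⟨inferInstance, fun t => ?_⟩, inferInstance⟩
  obtain ⟨ts, h1, -⟩ := Scheme.Pullback.exists_preimage_pullback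
    (f := 𝓘.subschemeι) (g := φ.fiberι (φ (𝓘.subschemeι t))) t (φ.asFiber (𝓘.subschemeι t))
    (φ.fiberι_asFiber (𝓘.subschemeι t)).symm
  have := regAt_of_fibre φ 𝓘.subschemeι (φ (𝓘.subschemeι t)) ts
    ((hfib (φ (𝓘.subschemeι t))).2 ts)
  exact h1 ▸ this

end

/-- Let φ : X ⟶ S be flat and locally of finite presentation and 𝓘 a quasi-coherent ideal sheaf on X
whose closed subscheme T is flat and locally of finite presentation over S. If for every point s of
S the fibre T_s ⟶ X_s (base change of T ⟶ X to the scheme-theoretic fibre) is a quasi-regular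
immersion, then T ⟶ X is a relative quasi-regular immersion. -/
theorem result {X S : Scheme.{u}} (φ : X ⟶ S) [Flat φ] [LocallyOfFinitePresentation φ]
    (𝓘 : X.IdealSheafData) [Flat (𝓘.subschemeι ≫ φ)] [LocallyOfFinitePresentation (𝓘.subschemeι ≫ φ)]
    (hfib : ∀ s : ↥S, RegImm.IsRegularImmersion RegImm.Kind.quasi (pullback.snd 𝓘.subschemeι (φ.fiberι s))) :
    RegImm.IsRelRegularImmersion RegImm.Kind.quasi φ 𝓘.subschemeι := by
  exact Groth.Agent.S8896.main φ 𝓘 hfib

end Groth.Agent.S8896
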