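import Groth.Statements.S3291
-- import your own Groth.Agent.* helpers here

set_option autoImplicit false
universe u
open Finset
open LambdaRing

namespace Groth.Agent.S3291

theorem gamma_one {K : Type u} [CommRing K] [LambdaRing.LambdaOps K] (z : K) :
    LambdaRing.gamma 1 z = z := by
  unfold LambdaRing.gamma
  simp [Finset.sum_range_succ, LambdaRing.LambdaOps.lam_one]

/-- the generating set of the n-th step of the filtration -/
def gens {K : Type u} [CommRing K] [LambdaRing.LambdaOps K] (P : LambdaRing.PosStructure K) (n : ℕ) : Set K :=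
  {y | ∃ (l : List (ℕ × K)), (∀ p ∈ l, P.aug p.2 = 0) ∧ n ≤ (l.map Prod.fst).sum ∧
        y = (l.map fun p => LambdaRing.gamma p.1 p.2).prod}

theorem filt_pos {K : Type u} [CommRing K] [LambdaRing.LambdaOps K] (P : LambdaRing.PosStructure K) (n : ℕ)
    (hn : n ≠ 0) : LambdaRing.gammaFiltration P n = AddSubgroup.closure (gens P n) := by
  unfold LambdaRing.gammaFiltration gens
  rw [if_neg hn]

theorem filt_zero {K : Type u} [CommRing K] [LambdaRing.LambdaOps K] (P : LambdaRing.PosStructure K) :
    LambdaRing.gammaFiltration P 0 = ⊤ := by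
  unfold LambdaRing.gammaFiltration
  rw [if_pos rfl]

theorem mul_gen {K : Type u} [CommRing K] [LambdaRing.LambdaOps K] (P : LambdaRing.PosStructure K) (n : ℕ)
    (a y : K) (hy : y ∈ gens P n) : a * y ∈ AddSubgroup.closure (gens P n) := by
  obtain ⟨l, hl, hsum, rfl⟩ := hy
  set z : K := a - ((P.aug a : ℤ) : K) with hz
  have hza : P.aug z = 0 := by
    rw [hz, map_sub, map_intCast]
    simp
  have h1 : z * (l.map fun p => LambdaRing.gamma p.1 p.2).prod ∈ AddSubgroup.closure (gens P n) := by
    apply AddSubgroup.subset_closure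
    refine ⟨(1, z) :: l, ?_, ?_, ?_⟩
    · intro p hp
      rcases List.mem_cons.mp hp with rfl | hp
      · exact hza
      · exact hl p hp
    · simp only [List.map_cons, List.sum_cons]
      omega
    · simp only [List.map_cons, List.prod_cons, gamma_one]
  have h2 : ((P.aug a : ℤ) : K) * (l.map fun p => LambdaRing.gamma p.1 p.2).prod ∈
      AddSubgroup.closure (gens P n) := by
    rw [← zsmul_eq_mul]
    apply AddSubgroup.zsmul_mem
    apply AddSubgroup.subset_closure
    exact ⟨l, hl, hsum, rfl⟩
  have : a = z + ((P.aug a : ℤ) : K) := by rw [hz]; ring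
  rw [this, add_mul]
  exact AddSubgroup.add_mem _ h1 h2

theorem mul_mem_filt {K : Type u} [CommRing K] [LambdaRing.LambdaOps K] (P : LambdaRing.PosStructure K) (n : ℕ)
    (a x : K) (hx : x ∈ LambdaRing.gammaFiltration P n) : a * x ∈ LambdaRing.gammaFiltration P n := by
  by_cases hn : n = 0
  · subst hn
    rw [filt_zero]
    exact AddSubgroup.mem_top _
  · rw [filt_pos P n hn] at hx ⊢
    induction hx using AddSubgroup.closure_induction with
    | mem y hy => exact mul_gen P n a y hy
    | zero => rw [mul_zero]; exact AddSubgroup.zero_mem _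
    | add y z _ _ hy hz => rw [mul_add]; exact AddSubgroup.add_mem _ hy hz
    | neg y _ hy => rw [mul_neg]; exact AddSubgroup.neg_mem _ hy


/-- The γ-filtration F^n K of a λ-ring with positive structure (F^0 = K, F^n for n ≥ 1 generated
additively by products γ^(r₁)(x₁)⋯γ^(r_k)(x_k) with ε(x_i) = 0 and Σ r_i ≥ n) consists of ideals,
and F^m · F^n ⊆ F^(m+n). -/
theorem result (K : Type u) [CommRing K] [LambdaRing.LambdaOps K] (P : LambdaRing.PosStructure K) :
    (∀ (n : ℕ) (a x : K), x ∈ LambdaRing.gammaFiltration P n → a * x ∈ LambdaRing.gammaFiltration P n) ∧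
    ∀ (m n : ℕ) (x y : K), x ∈ LambdaRing.gammaFiltration P m → y ∈ LambdaRing.gammaFiltration P n →
      x * y ∈ LambdaRing.gammaFiltration P (m + n) := by
  refine ⟨fun n a x hx => mul_mem_filt P n a x hx, ?_⟩
  intro m n x y hx hy
  by_cases hm : m = 0
  · subst hm
    rw [zero_add]
    exact mul_mem_filt P n x y hy
  by_cases hn : n = 0
  · subst hn
    rw [add_zero, mul_comm]
    exact mul_mem_filt P m y x hx
  have hmn : m + n ≠ 0 := by omega
  rw [filt_pos P m hm] at hx
  rw [filt_pos P n hn] at hy
  rw [filt_pos P (m + n) hmn]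
  induction hx using AddSubgroup.closure_induction with
  | mem x hx =>
    induction hy using AddSubgroup.closure_induction with
    | mem y hy =>
      obtain ⟨l₁, hl₁, hs₁, rfl⟩ := hx
      obtain ⟨l₂, hl₂, hs₂, rfl⟩ := hy
      apply AddSubgroup.subset_closure
      refine ⟨l₁ ++ l₂, ?_, ?_, ?_⟩
      · intro p hp
        rcases List.mem_append.mp hp with hp | hp
        · exact hl₁ p hp
        · exact hl₂ p hp
      · rw [List.map_append, List.sum_append]
        omega
      · rw [List.map_append, List.prod_append]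
    | zero => rw [mul_zero]; exact AddSubgroup.zero_mem _
    | add y z _ _ hy hz => rw [mul_add]; exact AddSubgroup.add_mem _ hy hz
    | neg y _ hy => rw [mul_neg]; exact AddSubgroup.neg_mem _ hy
  | zero => rw [zero_mul]; exact AddSubgroup.zero_mem _
  | add x z _ _ hx hz => rw [add_mul]; exact AddSubgroup.add_mem _ hx hz
  | neg x _ hx => rw [neg_mul]; exact AddSubgroup.neg_mem _ hx

end Groth.Agent.S3291
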