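import Groth.Statements.S14262
import Mathlib

set_option autoImplicit false
universe u
open FrobAlg

namespace Groth.Agent.S14262

/-- Let p be a prime, A a perfect ring of characteristic p and f ∈ A. The radical of the principal ideal
(f) — equivalently the ideal generated by all p^n-th roots of f, n ≥ 0 — is a flat A-module. -/
theorem result (p : ℕ) [Fact p.Prime] (A : Type u) [CommRing A]
    [CharP A p] [PerfectRing A p] (f : A) :
    Module.Flat A ((Ideal.span {f}).radical) := by
  have hp : p.Prime := Fact.out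
  apply Module.Flat.of_forall_isTrivialRelation
  intro l r x hrel
  have hx : ∀ i, ∃ n : ℕ, ((x i : A)) ^ p ^ n ∈ Ideal.span {f} := by
    intro i
    obtain ⟨k, hk⟩ := (x i).2
    refine ⟨k, ?_⟩
    have hle : k ≤ p ^ k := (Nat.lt_pow_self hp.one_lt).le
    rw [← Nat.sub_add_cancel hle, pow_add]
    exact Ideal.mul_mem_left _ _ hk
  choose n hn using hx
  have hN : ∀ i, ((x i : A)) ^ p ^ (Finset.univ.sup n) ∈ Ideal.span {f} := by
    intro i
    have hle : n i ≤ Finset.univ.sup n := Finset.le_sup (Finset.mem_univ i)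
    have : p ^ (Finset.univ.sup n) = p ^ (n i) * p ^ (Finset.univ.sup n - n i) := by
      rw [← pow_add, Nat.add_sub_cancel' hle]
    rw [this, pow_mul]
    exact Ideal.pow_mem_of_mem _ (hn i) _ (pow_pos hp.pos _)
  have hd : ∀ i, ∃ d : A, d * f = (x i : A) ^ p ^ (Finset.univ.sup n) :=
    fun i => Ideal.mem_span_singleton'.mp (hN i)
  choose d hd using hd
  obtain ⟨h, hh⟩ : ∃ h : A, h ^ p ^ (Finset.univ.sup n + 1) = f :=
    ⟨(iterateFrobeniusEquiv A p (Finset.univ.sup n + 1)).symm f, by
      rw [← iterateFrobeniusEquiv_def, RingEquiv.apply_symm_apply]⟩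
  have hcex : ∀ i, ∃ c : A, c ^ p ^ (Finset.univ.sup n) = d i := fun i =>
    ⟨(iterateFrobeniusEquiv A p (Finset.univ.sup n)).symm (d i), by
      rw [← iterateFrobeniusEquiv_def, RingEquiv.apply_symm_apply]⟩
  choose c hc using hcex
  have hinj : ∀ (m : ℕ) (a b : A), a ^ p ^ m = b ^ p ^ m → a = b := by
    intro m a b hab
    apply (iterateFrobeniusEquiv A p m).injective
    rw [iterateFrobeniusEquiv_def, iterateFrobeniusEquiv_def]
    exact hab
  have hxi : ∀ i, (x i : A) = c i * h ^ p := by
    intro i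
    apply hinj (Finset.univ.sup n)
    rw [mul_pow, hc, ← pow_mul, ← pow_succ', hh, hd]
  have hrel' : ∑ i, r i * (x i : A) = 0 := by
    have := congrArg Subtype.val hrel
    simpa using this
  have hs : (∑ i, r i * c i) * h ^ p = 0 := by
    rw [Finset.sum_mul, ← hrel']
    refine Finset.sum_congr rfl fun i _ => ?_
    rw [hxi i, mul_assoc]
  have hsh : (∑ i, r i * c i) * h = 0 := by
    apply hinj 1
    rw [pow_one, mul_pow, zero_pow hp.ne_zero]
    have : (∑ i, r i * c i) ^ p = (∑ i, r i * c i) ^ (p - 1) * (∑ i, r i * c i) := by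
      rw [← pow_succ, Nat.sub_add_cancel hp.one_le]
    rw [this, mul_assoc, hs, mul_zero]
  have hmem : h ∈ (Ideal.span {f}).radical :=
    ⟨p ^ (Finset.univ.sup n + 1), by rw [hh]; exact Ideal.mem_span_singleton_self f⟩
  refine ⟨1, fun i _ => c i * h ^ (p - 1), fun _ => ⟨h, hmem⟩, ?_, ?_⟩
  · intro i
    apply Subtype.ext
    rw [Fin.sum_univ_one]
    show (x i : A) = (c i * h ^ (p - 1)) * h
    rw [hxi i, mul_assoc, ← pow_succ, Nat.sub_add_cancel hp.one_le]
  · intro j
    have h2 : p - 1 = (p - 2) + 1 := by have := hp.two_le; omega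
    calc ∑ i, r i * (c i * h ^ (p - 1)) = ((∑ i, r i * c i) * h) * h ^ (p - 2) := by
          rw [Finset.sum_mul, Finset.sum_mul]
          refine Finset.sum_congr rfl fun i _ => ?_
          rw [h2, pow_succ]; ring
      _ = 0 := by rw [hsh, zero_mul]

end Groth.Agent.S14262
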