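import Groth.Statements.S9394
import Groth.Agent.Lib.Helper14.IntClosure
-- import your own Groth.Agent.* helpers here

set_option autoImplicit false
universe u
open CAlg

namespace Groth.Agent.S9394

/-- Being N-2 (Japanese) can be checked on a finite cover of Spec R by principal opens whose rings are
N-2 domains. -/
theorem result (R : Type u) [CommRing R] [IsDomain R]
    {ι : Type u} [Finite ι] (f : ι → R) (hf : Ideal.span (Set.range f) = ⊤)
    (Rf : ι → Type u) [∀ i, CommRing (Rf i)] [∀ i, IsDomain (Rf i)] [∀ i, Algebra R (Rf i)]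
    [∀ i, IsLocalization.Away (f i) (Rf i)] (h : ∀ i, CAlg.IsN2 (Rf i)) : CAlg.IsN2 R := by
  classical
  unfold CAlg.IsN2 at h ⊢
  intro L _ _ _ _ hfd
  set K := FractionRing R with hK
  have hM : ∀ i, Submonoid.powers (f i) ≤ nonZeroDivisors R := by
    intro i x hx
    rw [mem_nonZeroDivisors_iff_ne_zero]
    rintro rfl
    have h1 : IsUnit (algebraMap R (Rf i) 0) :=
      IsLocalization.map_units (Rf i) (⟨0, hx⟩ : Submonoid.powers (f i))
    rw [map_zero] at h1
    exact not_isUnit_zero h1
  have hunits : ∀ i, ∀ y : Submonoid.powers (f i), IsUnit (algebraMap R K y) := fun i y =>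
    IsLocalization.map_units K (⟨y, hM i y.2⟩ : nonZeroDivisors R)
  letI instK : ∀ i, Algebra (Rf i) K := fun i =>
    (IsLocalization.lift (M := Submonoid.powers (f i)) (g := algebraMap R K) (hunits i)).toAlgebra
  haveI : ∀ i, IsScalarTower R (Rf i) K := fun i => IsScalarTower.of_algebraMap_eq fun x =>
    (IsLocalization.lift_eq (M := Submonoid.powers (f i)) (hunits i) x).symm
  haveI : ∀ i, IsFractionRing (Rf i) K := fun i =>
    IsFractionRing.isFractionRing_of_isDomain_of_isLocalization (Submonoid.powers (f i)) (Rf i) K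
  letI instL : ∀ i, Algebra (Rf i) L := fun i =>
    ((algebraMap K L).comp (algebraMap (Rf i) K)).toAlgebra
  haveI : ∀ i, IsScalarTower R (Rf i) L := fun i => IsScalarTower.of_algebraMap_eq fun x => by
    show algebraMap R L x = algebraMap K L (algebraMap (Rf i) K (algebraMap R (Rf i) x))
    rw [← IsScalarTower.algebraMap_apply R (Rf i) K, ← IsScalarTower.algebraMap_apply R K L]
  have hfin : ∀ i, Module.Finite (Rf i) (integralClosure (Rf i) L) := by
    intro i
    let e : FractionRing (Rf i) ≃ₐ[Rf i] K := FractionRing.algEquiv (Rf i) K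
    letI : Algebra (FractionRing (Rf i)) L :=
      ((algebraMap K L).comp (e : FractionRing (Rf i) →+* K)).toAlgebra
    haveI : IsScalarTower (Rf i) (FractionRing (Rf i)) L := IsScalarTower.of_algebraMap_eq fun x => by
      show algebraMap K L (algebraMap (Rf i) K x) = algebraMap K L (e (algebraMap (Rf i) (FractionRing (Rf i)) x))
      rw [AlgEquiv.commutes]
    haveI : FiniteDimensional (FractionRing (Rf i)) L := by
      refine Module.Finite.of_equiv_equiv (A₁ := K) (B₁ := L) (A₂ := FractionRing (Rf i)) (B₂ := L)
        e.symm.toRingEquiv (RingEquiv.refl L) ?_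
      ext x
      show algebraMap K L (e (e.symm x)) = algebraMap K L x
      rw [AlgEquiv.apply_symm_apply]
    exact h i L inferInstance
  exact Helper14.finite_integralClosure_of_span_eq_top f hf Rf L hfin

end Groth.Agent.S9394
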