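import Groth.Statements.S9399
import Groth.Agent.S9394
import Mathlib
-- import your own Groth.Agent.* helpers here

set_option autoImplicit false
universe u
open CAlg

namespace Groth.Agent.S9399

/-- Being universally Japanese can be checked on a finite cover of Spec R by principal opens. -/
theorem result (R : Type u) [CommRing R]
    {ι : Type u} [Finite ι] (f : ι → R) (hf : Ideal.span (Set.range f) = ⊤)
    (h : ∀ i, CAlg.IsUniversallyJapanese (Localization.Away (f i))) :
    CAlg.IsUniversallyJapanese R := by
  classical
  intro S _ _ _ hft
  let ι' : Type u := {i : ι // algebraMap R S (f i) ≠ 0}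
  let g : ι' → S := fun i => algebraMap R S (f i.1)
  have hg : Ideal.span (Set.range g) = ⊤ := by
    have h1 : Ideal.span (algebraMap R S '' Set.range f) = ⊤ := by
      rw [← Ideal.map_span, hf, Ideal.map_top]
    rw [eq_top_iff, ← h1, Ideal.span_le]
    rintro _ ⟨_, ⟨i, rfl⟩, rfl⟩
    by_cases hi : algebraMap R S (f i) = 0
    · rw [hi]; exact Ideal.zero_mem _
    · exact Ideal.subset_span ⟨⟨i, hi⟩, rfl⟩
  have hpow : ∀ i : ι', Submonoid.powers (g i) ≤ nonZeroDivisors S := fun i =>
    Submonoid.powers_le.2 (mem_nonZeroDivisors_of_ne_zero i.2)
  haveI : ∀ i : ι', IsDomain (Localization.Away (g i)) := fun i =>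
    IsLocalization.isDomain_localization (hpow i)
  have h' : ∀ i : ι', CAlg.IsN2 (Localization.Away (g i)) := by
    intro i
    letI : Algebra (Localization.Away (f i.1)) (Localization.Away (g i)) :=
      (Localization.awayMap (algebraMap R S) (f i.1)).toAlgebra
    have hft' : (algebraMap R S).FiniteType := RingHom.finiteType_algebraMap.2 hft
    have h2 : (Localization.awayMap (algebraMap R S) (f i.1)).FiniteType :=
      RingHom.localization_away_map_finiteType R S (Localization.Away (f i.1)) (Localization.Away (g i))
        (algebraMap R S) (f i.1) hft'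
    have h3 : Algebra.FiniteType (Localization.Away (f i.1)) (Localization.Away (g i)) :=
      RingHom.finiteType_algebraMap.1 h2
    exact h i.1 (Localization.Away (g i)) h3
  exact Groth.Agent.S9394.result S g hg (fun i => Localization.Away (g i)) h'

end Groth.Agent.S9399
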