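import Groth.Statements.S9400
import Groth.Agent.S9394
import Mathlib
-- import your own Groth.Agent.* helpers here

set_option autoImplicit false
universe u
open CAlg

namespace Groth.Agent.S9400

/-- Being a Nagata ring can be checked on a finite cover of Spec R by principal opens. -/
theorem result (R : Type u) [CommRing R]
    {ι : Type u} [Finite ι] (f : ι → R) (hf : Ideal.span (Set.range f) = ⊤)
    (h : ∀ i, CAlg.IsNagata (Localization.Away (f i))) : CAlg.IsNagata R := by
  classical
  cases nonempty_fintype ι
  refine ⟨?_, ?_⟩
  · -- Noetherian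
    have hS : Ideal.span ((Finset.univ.image f : Finset R) : Set R) = ⊤ := by
      rw [Finset.coe_image, Finset.coe_univ, Set.image_univ]
      exact hf
    refine AlgebraicGeometry.isNoetherianRing_of_away (Finset.univ.image f) hS ?_
    rintro ⟨s, hs⟩
    obtain ⟨i, -, rfl⟩ := Finset.mem_image.1 hs
    exact (h i).1
  · intro p hp
    let ι' : Type u := {i : ι // f i ∉ p}
    let g : ι' → R ⧸ p := fun i => Ideal.Quotient.mk p (f i.1)
    have hg : Ideal.span (Set.range g) = ⊤ := by
      have h1 : Ideal.span (Ideal.Quotient.mk p '' Set.range f) = ⊤ := by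
        rw [← Ideal.map_span, hf, Ideal.map_top]
      rw [eq_top_iff, ← h1, Ideal.span_le]
      rintro _ ⟨_, ⟨i, rfl⟩, rfl⟩
      by_cases hi : f i ∈ p
      · rw [Ideal.Quotient.eq_zero_iff_mem.2 hi]; exact Ideal.zero_mem _
      · exact Ideal.subset_span ⟨⟨i, hi⟩, rfl⟩
    haveI hprime : ∀ i : ι', (p.map (algebraMap R (Localization.Away (f i.1)))).IsPrime := fun i =>
      IsLocalization.isPrime_of_isPrime_disjoint (Submonoid.powers (f i.1)) _ p hp
        ((Ideal.disjoint_powers_iff_notMem_of_isPrime (f i.1)).2 i.2)
    haveI hloc : ∀ i : ι', IsLocalization.Away (g i)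
        (Localization.Away (f i.1) ⧸ p.map (algebraMap R (Localization.Away (f i.1)))) := by
      intro i
      have : IsLocalization (Algebra.algebraMapSubmonoid (R ⧸ p) (Submonoid.powers (f i.1)))
          (Localization.Away (f i.1) ⧸ p.map (algebraMap R (Localization.Away (f i.1)))) := inferInstance
      rw [Algebra.algebraMapSubmonoid, Submonoid.map_powers] at this
      exact this
    have h' : ∀ i : ι', CAlg.IsN2
        (Localization.Away (f i.1) ⧸ p.map (algebraMap R (Localization.Away (f i.1)))) := fun i =>
      (h i.1).2 (p.map (algebraMap R (Localization.Away (f i.1))))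
    exact Groth.Agent.S9394.result (R ⧸ p) g hg
      (fun i => Localization.Away (f i.1) ⧸ p.map (algebraMap R (Localization.Away (f i.1)))) h'

end Groth.Agent.S9400
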