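import Groth.Statements.S9295
import Mathlib
import Groth.Agent.Lib.Helper14.FFDescent
import Groth.Agent.Lib.Lead.Hom14
-- import your own Groth.Agent.* helpers here

set_option autoImplicit false
universe u
open CAlg

namespace Groth.Agent.S9295

/-- For ring maps A → B → C, if the composite A → C is a regular map and C is flat over B with every
prime of B lying under a prime of C (that is, B → C is faithfully flat), then A → B is a regular
map. -/
theorem result (A B C : Type u) [CommRing A] [CommRing B] [CommRing C]
    [Algebra A B] [Algebra B C] [Algebra A C] [IsScalarTower A B C]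
    (hAC : CAlg.IsRegularHom A C) [Module.Flat B C]
    (hsurj : Function.Surjective (PrimeSpectrum.comap (algebraMap B C))) :
    CAlg.IsRegularHom A B := by
  haveI : Module.FaithfullyFlat B C := Module.FaithfullyFlat.of_comap_surjective hsurj
  obtain ⟨hflat, hfib⟩ := hAC
  haveI := hflat
  refine ⟨Groth.Agent.Helper14.FFDescent.flat_of_comp A B C, ?_⟩
  intro p hp
  obtain ⟨hN, hG⟩ := hfib p
  constructor
  · exact Groth.Agent.Helper14.FFDescent.descend A B C p.ResidueField
      (fun X _ => IsNoetherianRing X)
      (fun X Y _ _ e h => @isNoetherianRing_of_ringEquiv X _ Y _ e h)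
      (fun X Y _ _ _ _ h => @Groth.Agent.Lead.Hom.isNoetherianRing_of_faithfullyFlat X _ Y _ _ _ h)
      hN
  · intro k' _ _ hfin
    have h1 := hG k' hfin
    letI : Algebra A k' := ((algebraMap p.ResidueField k').comp (algebraMap A p.ResidueField)).toAlgebra
    haveI : IsScalarTower A p.ResidueField k' := IsScalarTower.of_algebraMap_eq (fun x => rfl)
    have h2 : IsRegularRing (TensorProduct A k' C) :=
      @IsRegularRing.of_ringEquiv _ _ _ _
        (Algebra.TensorProduct.cancelBaseChange A p.ResidueField p.ResidueField k' C).toRingEquiv h1
    have h3 : IsRegularRing (TensorProduct A k' B) :=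
      Groth.Agent.Helper14.FFDescent.descend A B C k'
        (fun X _ => IsRegularRing X)
        (fun X Y _ _ e h => @IsRegularRing.of_ringEquiv X _ Y _ e h)
        (fun X Y _ _ _ _ h => @Groth.Agent.Lead.Hom.isRegularRing_of_faithfullyFlat X _ Y _ _ _ h)
        h2
    exact @IsRegularRing.of_ringEquiv _ _ _ _
      (Algebra.TensorProduct.cancelBaseChange A p.ResidueField p.ResidueField k' B).symm.toRingEquiv h3

end Groth.Agent.S9295
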