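import Groth.Statements.S9296
import Mathlib
import Groth.Agent.S0564
import Groth.Agent.Lib.Helper14.NagataTop
-- import your own Groth.Agent.* helpers here

set_option autoImplicit false
universe u
open EGA4

namespace Groth.Agent.S9296

/-- The regular locus is stable under generization. -/
theorem regLocus_generization (R : Type u) [CommRing R] (p q : PrimeSpectrum R)
    (hpq : p.asIdeal ≤ q.asIdeal) (hq : q ∈ EGA4.regLocus R) : p ∈ EGA4.regLocus R := by
  change IsRegularLocalRing (Localization.AtPrime p.asIdeal)
  haveI hq' : IsRegularLocalRing (Localization.AtPrime q.asIdeal) := hq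
  have hdisj : Disjoint (q.asIdeal.primeCompl : Set R) (p.asIdeal : Set R) := by
    rw [Set.disjoint_left]; intro x hx hxp; exact hx (hpq hxp)
  haveI hP' : (p.asIdeal.map (algebraMap R (Localization.AtPrime q.asIdeal))).IsPrime :=
    IsLocalization.isPrime_of_isPrime_disjoint q.asIdeal.primeCompl _ _ p.2 hdisj
  have hcomap : (p.asIdeal.map (algebraMap R (Localization.AtPrime q.asIdeal))).comap
      (algebraMap R (Localization.AtPrime q.asIdeal)) = p.asIdeal :=
    IsLocalization.comap_map_of_isPrime_disjoint q.asIdeal.primeCompl _ p.2 hdisj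
  haveI := Groth.Agent.S0564.result (Localization.AtPrime q.asIdeal)
    (p.asIdeal.map (algebraMap R (Localization.AtPrime q.asIdeal)))
  haveI : IsLocalization.AtPrime
      (Localization.AtPrime (p.asIdeal.map (algebraMap R (Localization.AtPrime q.asIdeal))))
      ((p.asIdeal.map (algebraMap R (Localization.AtPrime q.asIdeal))).comap
        (algebraMap R (Localization.AtPrime q.asIdeal))) :=
    IsLocalization.isLocalization_isLocalization_atPrime_isLocalization q.asIdeal.primeCompl _ _
  have key : ∀ (I : Ideal R) [I.IsPrime],
      I = (p.asIdeal.map (algebraMap R (Localization.AtPrime q.asIdeal))).comap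
        (algebraMap R (Localization.AtPrime q.asIdeal)) →
      IsRegularLocalRing (Localization.AtPrime I) := by
    intro I _ hI
    subst hI
    let e : Localization.AtPrime ((p.asIdeal.map (algebraMap R (Localization.AtPrime q.asIdeal))).comap
        (algebraMap R (Localization.AtPrime q.asIdeal))) ≃ₐ[R]
        Localization.AtPrime (p.asIdeal.map (algebraMap R (Localization.AtPrime q.asIdeal))) :=
      IsLocalization.algEquiv ((p.asIdeal.map (algebraMap R (Localization.AtPrime q.asIdeal))).comap
        (algebraMap R (Localization.AtPrime q.asIdeal))).primeCompl _ _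
    exact IsRegularLocalRing.of_ringEquiv e.symm.toRingEquiv
  exact key p.asIdeal hcomap.symm

/-- For a Noetherian ring R, the set of primes at which R is regular is open in Spec R (R is J-1)
exactly when, for each such prime p, some nonempty open part of the closed set V(p) consists of
primes at which R is regular. Stated with an open U of Spec R whose trace on V(p) is nonempty and
contained in the regular locus. -/
theorem result (R : Type u) [CommRing R] [IsNoetherianRing R] :
    IsOpen (EGA4.regLocus R) ↔
      ∀ p ∈ EGA4.regLocus R, ∃ U : Set (PrimeSpectrum R), IsOpen U ∧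
        (U ∩ PrimeSpectrum.zeroLocus (p.asIdeal : Set R)).Nonempty ∧
        U ∩ PrimeSpectrum.zeroLocus (p.asIdeal : Set R) ⊆ EGA4.regLocus R := by
  constructor
  · intro hopen p hp
    refine ⟨EGA4.regLocus R, hopen, ⟨p, hp, ?_⟩, Set.inter_subset_left⟩
    rw [PrimeSpectrum.mem_zeroLocus]
  · intro h
    apply Groth.Agent.Helper14.NagataTop.isOpen_of_forall_irreducible
    intro Z hZ hZirr hne
    have hprime : (PrimeSpectrum.vanishingIdeal Z).IsPrime :=
      (PrimeSpectrum.isIrreducible_iff_vanishingIdeal_isPrime).mp hZirr
    let p : PrimeSpectrum R := ⟨PrimeSpectrum.vanishingIdeal Z, hprime⟩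
    have hZeq : PrimeSpectrum.zeroLocus (p.asIdeal : Set R) = Z := by
      rw [PrimeSpectrum.zeroLocus_vanishingIdeal_eq_closure, hZ.closure_eq]
    obtain ⟨q, hqE, hqZ⟩ := hne
    have hpq : p.asIdeal ≤ q.asIdeal := by
      rw [← hZeq] at hqZ; exact hqZ
    have hp : p ∈ EGA4.regLocus R := regLocus_generization R p q hpq hqE
    obtain ⟨U, hU, hUne, hUsub⟩ := h p hp
    rw [hZeq] at hUne hUsub
    exact ⟨U, hU, hUne, hUsub⟩

end Groth.Agent.S9296
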