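import Groth.Statements.S4700
import Mathlib
import Groth.Agent.S9296
import Groth.Agent.Lib.Helper14.NagataAlg
-- import your own Groth.Agent.* helpers here

set_option autoImplicit false
universe u
open EGA4

namespace Groth.Agent.S4700

/-- Let A be a Noetherian ring. Suppose that for every prime p of A such that A_p is regular, the
regular locus of the domain A/p contains a nonempty open subset of Spec(A/p) (equivalently, is a
neighbourhood of the generic point). Then the regular locus of A is open in Spec A. -/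
theorem result (A : Type u) [CommRing A] [IsNoetherianRing A]
    (h : ∀ p : PrimeSpectrum A, p ∈ EGA4.regLocus A →
      ∃ U : Set (PrimeSpectrum (A ⧸ p.asIdeal)), IsOpen U ∧ U.Nonempty ∧ U ⊆ EGA4.regLocus (A ⧸ p.asIdeal)) :
    IsOpen (EGA4.regLocus A) := by
  classical
  apply (Groth.Agent.S9296.result A).mpr
  intro p hp
  haveI : IsRegularLocalRing (Localization.AtPrime p.asIdeal) := hp
  obtain ⟨F, g, hFp, hcard, hgp, hg⟩ := Groth.Agent.Helper14.NagataAlg.exists_gens A p.asIdeal
  obtain ⟨U, hU, hUne, hUreg⟩ := h p hp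
  have hemb : Topology.IsClosedEmbedding
      (PrimeSpectrum.comap (Ideal.Quotient.mk p.asIdeal)) :=
    PrimeSpectrum.isClosedEmbedding_comap_of_surjective _ _ Ideal.Quotient.mk_surjective
  obtain ⟨U₀, hU₀, hU₀U⟩ := hemb.isInducing.isOpen_iff.mp hU
  have hrange : Set.range (PrimeSpectrum.comap (Ideal.Quotient.mk p.asIdeal)) =
      PrimeSpectrum.zeroLocus (p.asIdeal : Set A) := by
    rw [_root_.range_comap_of_surjective _ _ Ideal.Quotient.mk_surjective, Ideal.mk_ker]
  refine ⟨U₀ ∩ PrimeSpectrum.basicOpen g, hU₀.inter (PrimeSpectrum.basicOpen g).isOpen, ?_, ?_⟩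
  · have hgne : (PrimeSpectrum.basicOpen (Ideal.Quotient.mk p.asIdeal g) :
        Set (PrimeSpectrum (A ⧸ p.asIdeal))).Nonempty := by
      rw [Set.nonempty_iff_ne_empty]
      intro hempty
      have h1 : PrimeSpectrum.basicOpen (Ideal.Quotient.mk p.asIdeal g) = ⊥ :=
        TopologicalSpace.Opens.ext hempty
      rw [PrimeSpectrum.basicOpen_eq_bot_iff] at h1
      have h2 : Ideal.Quotient.mk p.asIdeal g = 0 := h1.eq_zero
      exact hgp (Ideal.Quotient.eq_zero_iff_mem.mp h2)
    obtain ⟨Q, hQU, hQg⟩ := nonempty_preirreducible_inter hU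
      (PrimeSpectrum.basicOpen (Ideal.Quotient.mk p.asIdeal g)).isOpen hUne hgne
    refine ⟨PrimeSpectrum.comap (Ideal.Quotient.mk p.asIdeal) Q, ⟨?_, ?_⟩, ?_⟩
    · rw [← hU₀U] at hQU; exact hQU
    · exact hQg
    · rw [← hrange]; exact ⟨Q, rfl⟩
  · rintro q ⟨⟨hqU₀, hqg⟩, hqp⟩
    rw [← hrange] at hqp
    obtain ⟨Q, rfl⟩ := hqp
    have hQU : Q ∈ U := by rw [← hU₀U]; exact hqU₀
    haveI : IsRegularLocalRing (Localization.AtPrime Q.asIdeal) := hUreg hQU
    exact Groth.Agent.Helper14.NagataAlg.isRegular_of_quotient A p.asIdeal F g hFp hcard hg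
      Q.asIdeal hqg

end Groth.Agent.S4700
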