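import Groth.Statements.S9599
import Mathlib
-- import your own Groth.Agent.* helpers here

set_option autoImplicit false
universe u
open CAlg

namespace Groth.Agent.S9599

open TensorProduct

/-- For a short exact sequence with flat cokernel, `JM ∩ K = JK`. -/
theorem mem_smul_top_of_flat {R : Type u} [CommRing R] {K M N : Type u} [AddCommGroup K]
    [Module R K] [AddCommGroup M] [Module R M] [AddCommGroup N] [Module R N] [Module.Flat R N]
    (i : K →ₗ[R] M) (g : M →ₗ[R] N) (hi : Function.Injective i) (hg : Function.Surjective g)
    (hig : Function.Exact i g) (J : Ideal R) (k : K) (hk : i k ∈ (J • ⊤ : Submodule R M)) :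
    k ∈ (J • ⊤ : Submodule R K) := by
  have hinj := LinearMap.lTensor_injective_of_exact_of_flat g hg i hi hig (R ⧸ J)
  have h1 : LinearMap.lTensor (R ⧸ J) i ((1 : R ⧸ J) ⊗ₜ[R] k) = 0 := by
    rw [LinearMap.lTensor_tmul]
    apply (TensorProduct.quotTensorEquivQuotSMul M J).injective
    rw [TensorProduct.quotTensorEquivQuotSMul_mk_one_tmul, map_zero]
    exact (Submodule.Quotient.mk_eq_zero _).2 hk
  have h2 : ((1 : R ⧸ J) ⊗ₜ[R] k) = 0 := hinj (h1.trans (map_zero _).symm)
  have h3 := congrArg (TensorProduct.quotTensorEquivQuotSMul K J) h2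
  rw [TensorProduct.quotTensorEquivQuotSMul_mk_one_tmul, map_zero] at h3
  exact (Submodule.Quotient.mk_eq_zero _).1 h3

/-- For a ring R, an ideal I of R and a short exact sequence 0 → K → M → N → 0 of R-modules with N flat
over R, the induced sequence of I-adic completions 0 → K^ → M^ → N^ → 0 is again short exact. -/
theorem result {R : Type u} [CommRing R] (I : Ideal R) {K M N : Type u} [AddCommGroup K] [Module R K] [AddCommGroup M] [Module R M] [AddCommGroup N] [Module R N] [Module.Flat R N] (i : K →ₗ[R] M) (g : M →ₗ[R] N) (hi : Function.Injective i) (hg : Function.Surjective g) (hig : Function.Exact i g) :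
    Function.Injective (AdicCompletion.map I i) ∧ Function.Exact (AdicCompletion.map I i) (AdicCompletion.map I g) ∧ Function.Surjective (AdicCompletion.map I g) := by
  have hkey : ∀ (n : ℕ) (k : K), i k ∈ (I ^ n • ⊤ : Submodule R M) →
      k ∈ (I ^ n • ⊤ : Submodule R K) := fun n k hk =>
    mem_smul_top_of_flat i g hi hg hig (I ^ n) k hk
  refine ⟨?_, ?_, AdicCompletion.map_surjective I hg⟩
  · -- injectivity
    rw [injective_iff_map_eq_zero]
    intro x hx
    obtain ⟨a, rfl⟩ := AdicCompletion.mk_surjective I K x
    rw [AdicCompletion.map_mk] at hx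
    apply AdicCompletion.ext
    intro n
    have h1 := congrArg (fun z => z.val n) hx
    simp only [AdicCompletion.mk_apply_coe, AdicCompletion.val_zero_apply] at h1
    simp only [AdicCompletion.mk_apply_coe, AdicCompletion.val_zero_apply]
    rw [Submodule.mkQ_apply, Submodule.Quotient.mk_eq_zero] at h1 ⊢
    exact hkey n _ h1
  · -- exactness
    intro y
    constructor
    · intro hy
      obtain ⟨b, rfl⟩ := AdicCompletion.mk_surjective I M y
      rw [AdicCompletion.map_mk] at hy
      have hb : ∀ n, g (b n) ∈ (I ^ n • ⊤ : Submodule R N) := by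
        intro n
        have h1 := congrArg (fun z => z.val n) hy
        simp only [AdicCompletion.mk_apply_coe, AdicCompletion.val_zero_apply] at h1
        rw [Submodule.mkQ_apply, Submodule.Quotient.mk_eq_zero] at h1
        exact h1
      have hd : ∀ n, ∃ d ∈ (I ^ n • ⊤ : Submodule R M), g d = g (b n) := by
        intro n
        have h2 : g (b n) ∈ Submodule.map g (I ^ n • ⊤ : Submodule R M) := by
          rw [Submodule.map_smul'', Submodule.map_top, LinearMap.range_eq_top.2 hg]
          exact hb n
        obtain ⟨d, hd, hgd⟩ := h2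
        exact ⟨d, hd, hgd⟩
      choose d hdI hgd using hd
      have hk : ∀ n, ∃ k : K, i k = b n - d n := by
        intro n
        have : g (b n - d n) = 0 := by rw [map_sub, hgd, sub_self]
        exact (hig _).1 this
      choose k hk using hk
      have hcauchy : ∀ n, k n ≡ k (n + 1) [SMOD (I ^ n • ⊤ : Submodule R K)] := by
        intro n
        rw [SModEq.sub_mem]
        apply hkey
        rw [map_sub, hk, hk]
        have h3 : b n - b (n + 1) ∈ (I ^ n • ⊤ : Submodule R M) := by
          rw [← SModEq.sub_mem]
          exact b.property (Nat.le_succ n)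
        have h4 : d (n + 1) ∈ (I ^ n • ⊤ : Submodule R M) :=
          Submodule.smul_mono_left (Ideal.pow_le_pow_right (Nat.le_succ n)) (hdI (n + 1))
        have : b n - d n - (b (n + 1) - d (n + 1)) = (b n - b (n + 1)) - d n + d (n + 1) := by
          abel
        rw [this]
        exact add_mem (sub_mem h3 (hdI n)) h4
      refine ⟨AdicCompletion.mk I K (AdicCompletion.AdicCauchySequence.mk I K k hcauchy), ?_⟩
      rw [AdicCompletion.map_mk]
      apply AdicCompletion.ext
      intro n
      simp only [AdicCompletion.mk_apply_coe]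
      rw [Submodule.mkQ_apply, Submodule.mkQ_apply, Submodule.Quotient.eq]
      change i (k n) - b n ∈ _
      rw [hk, sub_sub_cancel_left]
      exact neg_mem (hdI n)
    · rintro ⟨x, rfl⟩
      rw [AdicCompletion.map_comp_apply]
      have : g ∘ₗ i = 0 := by
        ext k
        exact (hig _).2 ⟨k, rfl⟩
      rw [this, AdicCompletion.map_zero]
      rfl

end Groth.Agent.S9599
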