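import Groth.Statements.S9131
import Mathlib
import Groth.Agent.S9599
-- import your own Groth.Agent.* helpers here

set_option autoImplicit false
universe u
open CAlg

namespace Groth.Agent.S9131

section
open TensorProduct

variable {R : Type u} [CommRing R] (I : Ideal R)

/-- core of the one-step lifting, for an arbitrary free cover -/
theorem oneStepCore {F M : Type u} [AddCommGroup F] [Module R F] [Module.Projective R F]
    [AddCommGroup M] [Module R M] [Module.Flat R M]
    [Module.Projective (R ⧸ I) (M ⧸ (I • ⊤ : Submodule R M))]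
    (π₀ : F →ₗ[R] M) (hπ₀ : Function.Surjective π₀)
    {X Z : Type u} [AddCommGroup X] [Module R X] [AddCommGroup Z] [Module R Z]
    (q : X →ₗ[R] Z) (hq : Function.Surjective q)
    (hW : ∀ a ∈ I, ∀ x : X, q x = 0 → a • x = 0)
    (h : M →ₗ[R] Z) : ∃ t : M →ₗ[R] X, q ∘ₗ t = h := by
  classical
  obtain ⟨u, hu⟩ := Module.projective_lifting_property q (h ∘ₗ π₀) hq
  have hπ' : Function.Surjective (π₀.reduceModIdeal I) := by
    intro y
    obtain ⟨m, rfl⟩ := Submodule.Quotient.mk_surjective _ y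
    obtain ⟨f, rfl⟩ := hπ₀ m
    exact ⟨Submodule.Quotient.mk f, rfl⟩
  obtain ⟨σ, hσ⟩ := Module.projective_lifting_property (π₀.reduceModIdeal I) LinearMap.id hπ'
  have hqu : ∀ k : LinearMap.ker π₀, q (u k.1) = 0 := by
    intro k
    have h1 := LinearMap.congr_fun hu k.1
    have h2 : π₀ k.1 = 0 := k.2
    simp only [LinearMap.comp_apply] at h1
    rw [h2, map_zero] at h1
    exact h1
  have hker : LinearMap.ker ((Submodule.mkQ (I • ⊤ : Submodule R F)) ∘ₗ (LinearMap.ker π₀).subtype) ≤
      LinearMap.ker (u ∘ₗ (LinearMap.ker π₀).subtype) := by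
    intro k hk
    have hk' : (k : F) ∈ (I • ⊤ : Submodule R F) := (Submodule.Quotient.mk_eq_zero _).mp hk
    have hk'' : k ∈ (I • ⊤ : Submodule R (LinearMap.ker π₀)) :=
      Groth.Agent.S9599.mem_smul_top_of_flat (LinearMap.ker π₀).subtype π₀
        (Submodule.injective_subtype _) hπ₀
        (LinearMap.exact_subtype_ker_map π₀) I k hk'
    refine Submodule.smul_induction_on hk'' (fun a ha k' _ => ?_) (fun x y hx hy => ?_)
    · show u ((a • k' : LinearMap.ker π₀) : F) = 0
      rw [Submodule.coe_smul, map_smul]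
      exact hW a ha _ (hqu k')
    · exact Submodule.add_mem _ hx hy
  obtain ⟨j, hj⟩ : ∃ j : LinearMap.ker π₀ →ₗ[R] (F ⧸ (I • ⊤ : Submodule R F)),
      j = (Submodule.mkQ _) ∘ₗ (LinearMap.ker π₀).subtype := ⟨_, rfl⟩
  obtain ⟨u', hu'⟩ : ∃ u' : LinearMap.ker π₀ →ₗ[R] X,
      u' = u ∘ₗ (LinearMap.ker π₀).subtype := ⟨_, rfl⟩
  rw [← hj, ← hu'] at hker
  have hju : ∀ k : LinearMap.ker π₀, u' k = u k.1 := fun k => by rw [hu']; rfl
  have hjk : ∀ k : LinearMap.ker π₀, j k = Submodule.Quotient.mk k.1 := fun k => by rw [hj]; rfl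
  obtain ⟨w, hqw, hwj⟩ : ∃ w : LinearMap.range j →ₗ[R] X, (∀ y, q (w y) = 0) ∧
      ∀ (k : LinearMap.ker π₀) (hk : j k ∈ LinearMap.range j), w ⟨j k, hk⟩ = u' k := by
    refine ⟨(Submodule.liftQ _ u' hker) ∘ₗ j.quotKerEquivRange.symm.toLinearMap, ?_, ?_⟩
    · intro y
      obtain ⟨z, rfl⟩ := j.quotKerEquivRange.surjective y
      obtain ⟨k, rfl⟩ := Submodule.Quotient.mk_surjective _ z
      show q (Submodule.liftQ _ u' hker (j.quotKerEquivRange.symm
        (j.quotKerEquivRange (Submodule.Quotient.mk k)))) = 0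
      rw [LinearEquiv.symm_apply_apply, Submodule.liftQ_apply, hju]
      exact hqu k
    · intro k hk
      have : (⟨j k, hk⟩ : LinearMap.range j) = j.quotKerEquivRange (Submodule.Quotient.mk k) := by
        apply Subtype.ext
        rfl
      rw [this]
      show Submodule.liftQ _ u' hker (j.quotKerEquivRange.symm
        (j.quotKerEquivRange (Submodule.Quotient.mk k))) = u' k
      rw [LinearEquiv.symm_apply_apply, Submodule.liftQ_apply]
  -- the projection onto the kernel of the reduction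
  obtain ⟨ρ, hρ⟩ : ∃ ρ : F →ₗ[R] (F ⧸ (I • ⊤ : Submodule R F)), ∀ f : F,
      ρ f = Submodule.Quotient.mk f -
        σ ((π₀.reduceModIdeal I) (Submodule.Quotient.mk f)) := by
    refine ⟨(LinearMap.id - (σ.restrictScalars R) ∘ₗ ((π₀.reduceModIdeal I).restrictScalars R)) ∘ₗ
      Submodule.mkQ _, fun f => rfl⟩
  have hσ' : ∀ y, (π₀.reduceModIdeal I) (σ y) = y := fun y => LinearMap.congr_fun hσ y
  have hρrange : ∀ f, ρ f ∈ LinearMap.range j := by
    intro f
    -- ρ f is killed by the reduction of π₀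
    have h0 : (π₀.reduceModIdeal I) (ρ f) = 0 := by
      rw [hρ, map_sub, hσ', sub_self]
    obtain ⟨y, hy⟩ := Submodule.Quotient.mk_surjective _ (ρ f)
    rw [← hy] at h0 ⊢
    rw [LinearMap.reduceModIdeal_apply, Submodule.Quotient.mk_eq_zero] at h0
    have h1 : π₀ y ∈ Submodule.map π₀ (I • ⊤ : Submodule R F) := by
      rw [Submodule.map_smul'', Submodule.map_top, LinearMap.range_eq_top.2 hπ₀]
      exact h0
    obtain ⟨y', hy'I, hy'⟩ := h1
    have hk : y - y' ∈ LinearMap.ker π₀ := by
      rw [LinearMap.mem_ker, map_sub, hy', sub_self]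
    refine ⟨⟨y - y', hk⟩, ?_⟩
    rw [hjk]
    show Submodule.Quotient.mk (y - y') = Submodule.Quotient.mk y
    rw [Submodule.Quotient.mk_sub, (Submodule.Quotient.mk_eq_zero _).mpr hy'I, sub_zero]
  obtain ⟨v, hv⟩ : ∃ v : F →ₗ[R] X, ∀ f, v f = w ⟨ρ f, hρrange f⟩ :=
    ⟨w ∘ₗ (ρ.codRestrict (LinearMap.range j) hρrange), fun f => rfl⟩
  have hvk : ∀ k : LinearMap.ker π₀, v k.1 = u k.1 := by
    intro k
    rw [hv]
    have h1 : ρ k.1 = j k := by
      rw [hρ, hjk, LinearMap.reduceModIdeal_apply]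
      have : π₀ k.1 = 0 := k.2
      rw [this, Submodule.Quotient.mk_zero, map_zero, sub_zero]
    have h2 : (⟨ρ k.1, hρrange k.1⟩ : LinearMap.range j) = ⟨j k, ⟨k, rfl⟩⟩ := Subtype.ext h1
    rw [h2, hwj, hju]
  have hle : LinearMap.ker π₀ ≤ LinearMap.ker (u - v) := by
    intro k hk
    rw [LinearMap.mem_ker, LinearMap.sub_apply, hvk ⟨k, hk⟩, sub_self]
  refine ⟨(Submodule.liftQ _ (u - v) hle) ∘ₗ (π₀.quotKerEquivOfSurjective hπ₀).symm.toLinearMap, ?_⟩
  apply LinearMap.ext
  intro m
  obtain ⟨f, rfl⟩ := hπ₀ m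
  have h1 : (π₀.quotKerEquivOfSurjective hπ₀).symm (π₀ f) = Submodule.Quotient.mk f := by
    rw [LinearEquiv.symm_apply_eq]
    rfl
  show q (Submodule.liftQ _ (u - v) hle ((π₀.quotKerEquivOfSurjective hπ₀).symm (π₀ f))) = h (π₀ f)
  rw [h1, Submodule.liftQ_apply, LinearMap.sub_apply, map_sub, hv, hqw, sub_zero]
  exact LinearMap.congr_fun hu f

theorem oneStep (M : Type u) [AddCommGroup M] [Module R M] [Module.Flat R M]
    [Module.Projective (R ⧸ I) (M ⧸ (I • ⊤ : Submodule R M))]
    {X Z : Type u} [AddCommGroup X] [Module R X] [AddCommGroup Z] [Module R Z]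
    (q : X →ₗ[R] Z) (hq : Function.Surjective q)
    (hW : ∀ a ∈ I, ∀ x : X, q x = 0 → a • x = 0)
    (h : M →ₗ[R] Z) : ∃ t : M →ₗ[R] X, q ∘ₗ t = h :=
  oneStepCore I (Finsupp.linearCombination R (id : M → M))
    (Finsupp.linearCombination_id_surjective R M) q hq hW h

variable {M P : Type u} [AddCommGroup M] [Module R M] [AddCommGroup P] [Module R P]

theorem smul_quot_eq_zero (n : ℕ) (a : R) (ha : a ∈ I ^ n)
    (x : P ⧸ (I ^ n • ⊤ : Submodule R P)) : a • x = 0 := by
  obtain ⟨p, rfl⟩ := Submodule.Quotient.mk_surjective _ x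
  rw [← Submodule.Quotient.mk_smul, Submodule.Quotient.mk_eq_zero]
  exact Submodule.smul_mem_smul ha Submodule.mem_top

/-- the inductive step -/
theorem step [Module.Flat R M] [Module.Projective (R ⧸ I) (M ⧸ (I • ⊤ : Submodule R M))]
    (g : P →ₗ[R] M) (hg : Function.Surjective g) (n : ℕ)
    (s : (M ⧸ (I ^ n • ⊤ : Submodule R M)) →ₗ[R] (P ⧸ (I ^ n • ⊤ : Submodule R P)))
    (hs : ∀ y, g.reduceModIdeal (I ^ n) (s y) = y) :
    ∃ s' : (M ⧸ (I ^ (n + 1) • ⊤ : Submodule R M)) →ₗ[R] (P ⧸ (I ^ (n + 1) • ⊤ : Submodule R P)),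
      (∀ y, g.reduceModIdeal (I ^ (n + 1)) (s' y) = y) ∧
      ∀ y, AdicCompletion.transitionMap I P (Nat.le_succ n) (s' y) =
        s (AdicCompletion.transitionMap I M (Nat.le_succ n) y) := by
  classical
  -- the fibre product
  obtain ⟨Zs, hZs⟩ : ∃ Zs : Submodule R ((P ⧸ (I ^ n • ⊤ : Submodule R P)) ×
      (M ⧸ (I ^ (n + 1) • ⊤ : Submodule R M))), ∀ z, z ∈ Zs ↔
        g.reduceModIdeal (I ^ n) z.1 = AdicCompletion.transitionMap I M (Nat.le_succ n) z.2 := by
    refine ⟨LinearMap.ker (((g.reduceModIdeal (I ^ n)).restrictScalars R) ∘ₗ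
      LinearMap.fst R _ _ - (AdicCompletion.transitionMap I M (Nat.le_succ n)) ∘ₗ
      LinearMap.snd R _ _), fun z => ?_⟩
    rw [LinearMap.mem_ker, LinearMap.sub_apply, sub_eq_zero]
    rfl
  have hcomm : ∀ x : P ⧸ (I ^ (n + 1) • ⊤ : Submodule R P),
      g.reduceModIdeal (I ^ n) (AdicCompletion.transitionMap I P (Nat.le_succ n) x) =
        AdicCompletion.transitionMap I M (Nat.le_succ n) (g.reduceModIdeal (I ^ (n + 1)) x) := by
    intro x
    obtain ⟨p, rfl⟩ := Submodule.Quotient.mk_surjective _ x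
    rfl
  obtain ⟨q, hq1, hq2⟩ : ∃ q : (P ⧸ (I ^ (n + 1) • ⊤ : Submodule R P)) →ₗ[R] Zs,
      (∀ x, (q x).1.1 = AdicCompletion.transitionMap I P (Nat.le_succ n) x) ∧
      (∀ x, (q x).1.2 = g.reduceModIdeal (I ^ (n + 1)) x) := by
    refine ⟨LinearMap.codRestrict Zs (LinearMap.prod
      (AdicCompletion.transitionMap I P (Nat.le_succ n))
      ((g.reduceModIdeal (I ^ (n + 1))).restrictScalars R)) (fun x => ?_), fun x => rfl,
      fun x => rfl⟩
    rw [hZs]
    exact hcomm x
  have hqsurj : Function.Surjective q := by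
    rintro ⟨⟨pb, mb⟩, hz⟩
    rw [hZs] at hz
    obtain ⟨p, rfl⟩ := Submodule.Quotient.mk_surjective _ pb
    obtain ⟨m, rfl⟩ := Submodule.Quotient.mk_surjective _ mb
    have h1 : g p - m ∈ (I ^ n • ⊤ : Submodule R M) := by
      have : (Submodule.Quotient.mk (g p) : M ⧸ (I ^ n • ⊤ : Submodule R M)) =
          Submodule.Quotient.mk m := hz
      rwa [Submodule.Quotient.eq] at this
    have h2 : g p - m ∈ Submodule.map g (I ^ n • ⊤ : Submodule R P) := by
      rw [Submodule.map_smul'', Submodule.map_top, LinearMap.range_eq_top.2 hg]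
      exact h1
    obtain ⟨p', hp'I, hp'⟩ := h2
    refine ⟨Submodule.Quotient.mk (p - p'), ?_⟩
    apply Subtype.ext
    refine Prod.ext ?_ ?_
    · rw [hq1]
      show (Submodule.Quotient.mk (p - p') : P ⧸ (I ^ n • ⊤ : Submodule R P)) =
        Submodule.Quotient.mk p
      rw [Submodule.Quotient.mk_sub, (Submodule.Quotient.mk_eq_zero _).mpr hp'I, sub_zero]
    · rw [hq2]
      show (Submodule.Quotient.mk (g (p - p')) : M ⧸ (I ^ (n + 1) • ⊤ : Submodule R M)) =
        Submodule.Quotient.mk m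
      rw [map_sub, hp', sub_sub_cancel]
  have hW : ∀ a ∈ I, ∀ x : P ⧸ (I ^ (n + 1) • ⊤ : Submodule R P), q x = 0 → a • x = 0 := by
    intro a ha x hx
    have h1 : AdicCompletion.transitionMap I P (Nat.le_succ n) x = 0 := by
      rw [← hq1, hx]
      rfl
    obtain ⟨p, rfl⟩ := Submodule.Quotient.mk_surjective _ x
    have h2 : p ∈ (I ^ n • ⊤ : Submodule R P) := by
      have : (Submodule.Quotient.mk p : P ⧸ (I ^ n • ⊤ : Submodule R P)) = 0 := h1
      exact (Submodule.Quotient.mk_eq_zero _).mp this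
    rw [← Submodule.Quotient.mk_smul, Submodule.Quotient.mk_eq_zero, pow_succ', Submodule.mul_smul]
    exact Submodule.smul_mem_smul ha h2
  obtain ⟨h, hh1, hh2⟩ : ∃ h : M →ₗ[R] Zs,
      (∀ m, (h m).1.1 = s (Submodule.Quotient.mk m)) ∧
      (∀ m, (h m).1.2 = Submodule.Quotient.mk m) := by
    refine ⟨LinearMap.codRestrict Zs (LinearMap.prod
      (s ∘ₗ Submodule.mkQ _) (Submodule.mkQ _)) (fun m => ?_), fun m => rfl, fun m => rfl⟩
    rw [hZs]
    show g.reduceModIdeal (I ^ n) (s (Submodule.Quotient.mk m)) = _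
    rw [hs]
    rfl
  obtain ⟨t, ht⟩ := oneStep I M q hqsurj hW h
  have hle : (I ^ (n + 1) • ⊤ : Submodule R M) ≤ LinearMap.ker t := by
    intro m hm
    refine Submodule.smul_induction_on hm (fun a ha m' _ => ?_) (fun x y hx hy => ?_)
    · rw [LinearMap.mem_ker, map_smul]
      exact smul_quot_eq_zero I (n + 1) a ha _
    · exact Submodule.add_mem _ hx hy
  refine ⟨Submodule.liftQ _ t hle, ?_, ?_⟩
  · intro y
    obtain ⟨m, rfl⟩ := Submodule.Quotient.mk_surjective _ y
    rw [Submodule.liftQ_apply, ← hq2, ← LinearMap.comp_apply, ht, hh2]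
  · intro y
    obtain ⟨m, rfl⟩ := Submodule.Quotient.mk_surjective _ y
    rw [Submodule.liftQ_apply, ← hq1, ← LinearMap.comp_apply, ht, hh1]
    rfl

/-- sections of the reductions of `g` -/
structure Sec (g : P →ₗ[R] M) (n : ℕ) where
  s : (M ⧸ (I ^ n • ⊤ : Submodule R M)) →ₗ[R] (P ⧸ (I ^ n • ⊤ : Submodule R P))
  hs : ∀ y, g.reduceModIdeal (I ^ n) (s y) = y

theorem quot_zero_eq (x : M ⧸ (I ^ 0 • ⊤ : Submodule R M)) : x = 0 := by
  obtain ⟨m, rfl⟩ := Submodule.Quotient.mk_surjective _ x
  rw [Submodule.Quotient.mk_eq_zero, pow_zero, Ideal.one_eq_top, Submodule.top_smul]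
  exact Submodule.mem_top

noncomputable def seq [Module.Flat R M] [Module.Projective (R ⧸ I) (M ⧸ (I • ⊤ : Submodule R M))]
    (g : P →ₗ[R] M) (hg : Function.Surjective g) : ∀ n, Sec I g n
  | 0 => ⟨0, fun y => (quot_zero_eq I _).trans (quot_zero_eq I y).symm⟩
  | n + 1 => ⟨(step I g hg n (seq g hg n).s (seq g hg n).hs).choose,
      (step I g hg n (seq g hg n).s (seq g hg n).hs).choose_spec.1⟩

theorem seq_succ [Module.Flat R M] [Module.Projective (R ⧸ I) (M ⧸ (I • ⊤ : Submodule R M))]
    (g : P →ₗ[R] M) (hg : Function.Surjective g) (n : ℕ) (y) :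
    AdicCompletion.transitionMap I P (Nat.le_succ n) ((seq I g hg (n + 1)).s y) =
      (seq I g hg n).s (AdicCompletion.transitionMap I M (Nat.le_succ n) y) :=
  (step I g hg n (seq I g hg n).s (seq I g hg n).hs).choose_spec.2 y

theorem seq_compat [Module.Flat R M] [Module.Projective (R ⧸ I) (M ⧸ (I • ⊤ : Submodule R M))]
    (g : P →ₗ[R] M) (hg : Function.Surjective g) {m n : ℕ} (hmn : m ≤ n) (y) :
    AdicCompletion.transitionMap I P hmn ((seq I g hg n).s y) =
      (seq I g hg m).s (AdicCompletion.transitionMap I M hmn y) := by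
  induction n, hmn using Nat.le_induction with
  | base =>
    have h1 : ∀ z : P ⧸ (I ^ m • ⊤ : Submodule R P),
        AdicCompletion.transitionMap I P (le_refl m) z = z := by
      intro z
      obtain ⟨p, rfl⟩ := Submodule.Quotient.mk_surjective _ z
      rfl
    have h2 : ∀ z : M ⧸ (I ^ m • ⊤ : Submodule R M),
        AdicCompletion.transitionMap I M (le_refl m) z = z := by
      intro z
      obtain ⟨p, rfl⟩ := Submodule.Quotient.mk_surjective _ z
      rfl
    rw [h1, h2]
  | succ n hmn ih =>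
    have h1 : ∀ z : P ⧸ (I ^ (n + 1) • ⊤ : Submodule R P),
        AdicCompletion.transitionMap I P (Nat.le_succ_of_le hmn) z =
          AdicCompletion.transitionMap I P hmn
            (AdicCompletion.transitionMap I P (Nat.le_succ n) z) := by
      intro z
      obtain ⟨p, rfl⟩ := Submodule.Quotient.mk_surjective _ z
      rfl
    have h2 : ∀ z : M ⧸ (I ^ (n + 1) • ⊤ : Submodule R M),
        AdicCompletion.transitionMap I M (Nat.le_succ_of_le hmn) z =
          AdicCompletion.transitionMap I M hmn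
            (AdicCompletion.transitionMap I M (Nat.le_succ n) z) := by
      intro z
      obtain ⟨p, rfl⟩ := Submodule.Quotient.mk_surjective _ z
      rfl
    rw [h1, seq_succ, ih, ← h2]

/-- the section on completions -/
theorem exists_section [Module.Flat R M]
    [Module.Projective (R ⧸ I) (M ⧸ (I • ⊤ : Submodule R M))]
    (g : P →ₗ[R] M) (hg : Function.Surjective g) :
    ∃ s : AdicCompletion I M →ₗ[AdicCompletion I R] AdicCompletion I P,
      AdicCompletion.map I g ∘ₗ s = LinearMap.id := by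
  let sfun : AdicCompletion I M → AdicCompletion I P := fun x =>
    ⟨fun n => (seq I g hg n).s (x.val n), fun {m n} hmn => by
      rw [seq_compat I g hg hmn, x.property hmn]⟩
  have hval : ∀ x n, (sfun x).val n = (seq I g hg n).s (x.val n) := fun x n => rfl
  refine ⟨{ toFun := sfun, map_add' := ?_, map_smul' := ?_ }, ?_⟩
  · intro x y
    apply AdicCompletion.ext
    intro n
    rw [AdicCompletion.val_add_apply, hval, hval, hval, AdicCompletion.val_add_apply, map_add]
  · intro r x
    apply AdicCompletion.ext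
    intro n
    rw [RingHom.id_apply, hval, AdicCompletion.smul_eval, AdicCompletion.smul_eval, hval,
      AdicCompletion.val_smul_eq_evalₐ_smul, AdicCompletion.val_smul_eq_evalₐ_smul]
    obtain ⟨a, ha⟩ := Ideal.Quotient.mk_surjective (AdicCompletion.evalₐ I n r)
    rw [← ha]
    have h1 : ∀ (z : M ⧸ (I ^ n • ⊤ : Submodule R M)),
        (Ideal.Quotient.mk (I ^ n) a) • z = a • z := fun z => rfl
    have h2 : ∀ (z : P ⧸ (I ^ n • ⊤ : Submodule R P)),
        (Ideal.Quotient.mk (I ^ n) a) • z = a • z := fun z => rfl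
    rw [h1, h2, map_smul]
  · apply LinearMap.ext
    intro x
    apply AdicCompletion.ext
    intro n
    show (AdicCompletion.map I g (sfun x)).val n = x.val n
    rw [AdicCompletion.map_val_apply, hval]
    exact (seq I g hg n).hs _

theorem main (R : Type u) [CommRing R] (I : Ideal R)
    (K P M : Type u) [AddCommGroup K] [Module R K] [AddCommGroup P] [Module R P]
    [AddCommGroup M] [Module R M] (f : K →ₗ[R] P) (g : P →ₗ[R] M)
    (hf : Function.Injective f) (hg : Function.Surjective g) (hfg : Function.Exact f g)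
    [Module.Flat R M] [Module.Projective (R ⧸ I) (M ⧸ (I • ⊤ : Submodule R M))] :
    Function.Injective (AdicCompletion.map I f) ∧
      Function.Exact (AdicCompletion.map I f) (AdicCompletion.map I g) ∧
      ∃ s : AdicCompletion I M →ₗ[AdicCompletion I R] AdicCompletion I P,
        AdicCompletion.map I g ∘ₗ s = LinearMap.id := by
  obtain ⟨h1, h2, -⟩ := Groth.Agent.S9599.result I f g hf hg hfg
  exact ⟨h1, h2, exists_section I g hg⟩

end

/-- Let R be a ring, I an ideal, and 0 → K → P → M → 0 a short exact sequence of R-modules with M flat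
over R and M/IM projective over R/I. Then the induced sequence of I-adic completions is split short
exact: the map on completions of K → P is injective, the sequence is exact in the middle, and the
map on completions of P → M has a section linear over the completion of R (so it is surjective). -/
theorem result (R : Type u) [CommRing R] (I : Ideal R)
    (K P M : Type u) [AddCommGroup K] [Module R K] [AddCommGroup P] [Module R P]
    [AddCommGroup M] [Module R M] (f : K →ₗ[R] P) (g : P →ₗ[R] M)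
    (hf : Function.Injective f) (hg : Function.Surjective g) (hfg : Function.Exact f g)
    [Module.Flat R M] [Module.Projective (R ⧸ I) (M ⧸ (I • ⊤ : Submodule R M))] :
    Function.Injective (AdicCompletion.map I f) ∧
      Function.Exact (AdicCompletion.map I f) (AdicCompletion.map I g) ∧
      ∃ s : AdicCompletion I M →ₗ[AdicCompletion I R] AdicCompletion I P,
        AdicCompletion.map I g ∘ₗ s = LinearMap.id := by
  exact Groth.Agent.S9131.main R I K P M f g hf hg hfg

end Groth.Agent.S9131
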