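import Groth.Statements.S1198
import Mathlib
import Groth.Agent.S9131
import Groth.Agent.S1197
-- import your own Groth.Agent.* helpers here

set_option autoImplicit false
universe u
open FlatMor

namespace Groth.Agent.S1198

section
open TensorProduct

variable {R : Type u} [CommRing R]

theorem ml_of_retract {N N' : Type u} [AddCommGroup N] [Module R N] [AddCommGroup N']
    [Module R N'] (i : N' →ₗ[R] N) (p : N →ₗ[R] N') (hpi : p ∘ₗ i = LinearMap.id)
    (hN : CAlg.IsMittagLeffler R N) : CAlg.IsMittagLeffler R N' := by
  intro ι Q _ _
  have hnat : ∀ z : N' ⊗[R] (∀ k, Q k), TensorProduct.piRightHom R R N Q (i.rTensor _ z) =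
      fun k => i.rTensor (Q k) (TensorProduct.piRightHom R R N' Q z k) := by
    intro z
    induction z using TensorProduct.induction_on with
    | zero =>
      simp only [map_zero]
      rfl
    | tmul n f => rfl
    | add x y hx hy =>
      rw [map_add, map_add, hx, hy, map_add]
      funext k
      simp
  rw [injective_iff_map_eq_zero]
  intro z hz
  have h1 : TensorProduct.piRightHom R R N Q (i.rTensor _ z) = 0 := by
    rw [hnat, hz]
    funext k
    simp
  have h2 : i.rTensor _ z = 0 := (injective_iff_map_eq_zero _).mp (hN ι Q) _ h1
  have h3 : p.rTensor (∀ k, Q k) (i.rTensor _ z) = z := by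
    rw [← LinearMap.comp_apply, ← LinearMap.rTensor_comp, hpi, LinearMap.rTensor_id,
      LinearMap.id_apply]
  rw [← h3, h2, map_zero]

theorem main (R : Type u) [CommRing R] [IsNoetherianRing R] (I : Ideal R) [IsAdicComplete I R]
    (M : Type u) [AddCommGroup M] [Module R M] [Module.Flat R M]
    [Module.Projective (R ⧸ I) (M ⧸ (I • ⊤ : Submodule R M))] :
    Module.Flat R (AdicCompletion I M) ∧ CAlg.IsMittagLeffler R (AdicCompletion I M) := by
  obtain ⟨s, hs⟩ := Groth.Agent.S9131.exists_section I
    (Finsupp.linearCombination R (id : M → M)) (Finsupp.linearCombination_id_surjective R M)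
  obtain ⟨hflat, hml⟩ := Groth.Agent.S1197.result R I M
  have hpi : ((AdicCompletion.map I (Finsupp.linearCombination R (id : M → M))).restrictScalars R) ∘ₗ
      (s.restrictScalars R) = LinearMap.id := by
    apply LinearMap.ext
    intro x
    exact LinearMap.congr_fun hs x
  exact ⟨Module.Flat.of_retract _ _ hpi, ml_of_retract _ _ hpi hml⟩

end

/-- Let R be a Noetherian ring complete with respect to an ideal I and M a flat R-module whose reduction
M/IM is projective over R/I. Then M's I-adic completion is a flat and Mittag-Leffler R-module. -/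
theorem result (R : Type u) [CommRing R] [IsNoetherianRing R] (I : Ideal R) [IsAdicComplete I R]
    (M : Type u) [AddCommGroup M] [Module R M] [Module.Flat R M]
    [Module.Projective (R ⧸ I) (M ⧸ (I • ⊤ : Submodule R M))] :
    Module.Flat R (AdicCompletion I M) ∧ CAlg.IsMittagLeffler R (AdicCompletion I M) := by
  exact Groth.Agent.S1198.main R I M

end Groth.Agent.S1198
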