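import Groth.Statements.S1199
import Mathlib
-- import your own Groth.Agent.* helpers here

set_option autoImplicit false
universe u
open FlatMor

namespace Groth.Agent.S1199

open TensorProduct

section univInj
variable {R : Type u} [CommRing R] {N N' : Type u} [AddCommGroup N] [AddCommGroup N'] [Module R N]
  [Module R N']

/-- Universal injectivity may be tested on finite modules. -/
lemma univInj_of_forall_finite (f : N →ₗ[R] N')
    (h : ∀ (Q : Type u) [AddCommGroup Q] [Module R Q] [Module.Finite R Q],
      Function.Injective (f.lTensor Q)) : FlatCA.UnivInj R f := by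
  intro Q _ _
  rw [injective_iff_map_eq_zero]
  intro x hx
  obtain ⟨Q', fg, x', rfl⟩ := Submodule.exists_fg_le_eq_rTensor_subtype x
  have h1 : (Q'.subtype.rTensor N') (f.lTensor Q' x') = (Q'.subtype.rTensor N') 0 := by
    rw [map_zero, ← hx, ← LinearMap.comp_apply, ← LinearMap.comp_apply,
      LinearMap.rTensor_comp_lTensor, LinearMap.lTensor_comp_rTensor]
  obtain ⟨Q'', fg'', hle, h2⟩ := fg.exists_rTensor_fg_inclusion_eq h1
  rw [map_zero, ← LinearMap.comp_apply, LinearMap.rTensor_comp_lTensor,
    ← LinearMap.lTensor_comp_rTensor, LinearMap.comp_apply] at h2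
  have : Module.Finite R Q'' := Module.Finite.iff_fg.2 fg''
  have h3 : (Q'.inclusion hle).rTensor N x' = 0 :=
    (injective_iff_map_eq_zero _).1 (h Q'') _ h2
  have h4 : Q'.subtype = Q''.subtype ∘ₗ Q'.inclusion hle := (Submodule.subtype_comp_inclusion _ _ hle).symm
  rw [h4, LinearMap.rTensor_comp, LinearMap.comp_apply, h3, map_zero]

end univInj

section
variable {R S : Type u} [CommRing R] [CommRing S] [Algebra R S]
  {N : Type u} [AddCommGroup N] [Module S N] [Module R N] [IsScalarTower R S N]
  {Q : Type u} [AddCommGroup Q] [Module R Q]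

lemma finite_tensor [Module.Finite S N] [Module.Finite R Q] : Module.Finite S (N ⊗[R] Q) :=
  Module.Finite.equiv (TensorProduct.AlgebraTensorModule.cancelBaseChange R S S N Q)

lemma range_lTensor_le (I : Ideal R) (n : ℕ) :
    LinearMap.range ((I ^ n • ⊤ : Submodule R N).subtype.lTensor Q) ≤
      (I ^ n • ⊤ : Submodule R (Q ⊗[R] N)) := by
  rintro _ ⟨y, rfl⟩
  induction y using TensorProduct.induction_on with
  | zero => rw [map_zero]; exact Submodule.zero_mem _
  | tmul q m =>
    obtain ⟨m, hm⟩ := m
    rw [LinearMap.lTensor_tmul]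
    change q ⊗ₜ[R] m ∈ _
    refine Submodule.smul_induction_on hm ?_ ?_
    · intro r hr m' _
      rw [TensorProduct.tmul_smul]
      exact Submodule.smul_mem_smul hr Submodule.mem_top
    · intro a b ha hb
      rw [TensorProduct.tmul_add]
      exact Submodule.add_mem _ ha hb
  | add a b ha hb => rw [map_add]; exact Submodule.add_mem _ ha hb

lemma comm_mem (I : Ideal R) (n : ℕ) (x : Q ⊗[R] N) (hx : x ∈ (I ^ n • ⊤ : Submodule R (Q ⊗[R] N))) :
    TensorProduct.comm R Q N x ∈
      ((I.map (algebraMap R S)) ^ n • ⊤ : Submodule S (N ⊗[R] Q)) := by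
  refine Submodule.smul_induction_on hx ?_ ?_
  · intro r hr x' _
    rw [map_smul, ← algebraMap_smul S r]
    refine Submodule.smul_mem_smul ?_ Submodule.mem_top
    rw [← Ideal.map_pow]
    exact Ideal.mem_map_of_mem _ hr
  · intro a b ha hb
    rw [map_add]
    exact Submodule.add_mem _ ha hb

end

section main
variable {R S : Type u} [CommRing R] [CommRing S] [Algebra R S] [IsNoetherianRing R]
  [IsNoetherianRing S]
  {N : Type u} [AddCommGroup N] [Module S N] [Module R N] [IsScalarTower R S N] [Module.Finite S N]

theorem aux (I : Ideal R)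
    (h : ∀ (Q : Type u) [AddCommGroup Q] [Module R Q], Module.Finite R Q →
      ∀ q ∈ associatedPrimes S (N ⊗[R] Q), I.map (algebraMap R S) ⊔ q ≠ ⊤) :
    FlatCA.UnivInj R (AdicCompletion.of I N) := by
  apply univInj_of_forall_finite
  intro Q _ _ hQ
  rw [injective_iff_map_eq_zero]
  intro x hx
  have hmem : ∀ n : ℕ, x ∈ (I ^ n • ⊤ : Submodule R (Q ⊗[R] N)) := by
    intro n
    have h1 : ((I ^ n • ⊤ : Submodule R N).mkQ.lTensor Q) x = 0 := by
      rw [← AdicCompletion.eval_comp_of, LinearMap.lTensor_comp, LinearMap.comp_apply, hx, map_zero]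
    have hex := lTensor_exact Q (LinearMap.exact_subtype_mkQ (I ^ n • ⊤ : Submodule R N))
      (Submodule.mkQ_surjective _)
    exact range_lTensor_le I n ((hex x).1 h1)
  have : Module.Finite S (N ⊗[R] Q) := finite_tensor
  set y := TensorProduct.comm R Q N x with hy
  have hy0 : y = 0 := by
    by_contra hne
    have hyi : y ∈ (⨅ i : ℕ, (I.map (algebraMap R S)) ^ i • ⊤ : Submodule S (N ⊗[R] Q)) := by
      rw [Submodule.mem_iInf]
      intro n
      exact comm_mem I n x (hmem n)
    obtain ⟨⟨r, hr⟩, hry⟩ := (Ideal.mem_iInf_smul_pow_eq_bot_iff _ y).1 hyi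
    obtain ⟨P, hP, hle⟩ := exists_le_isAssociatedPrime_of_isNoetherianRing S y hne
    have h1 : (1 - r) ∈ P := by
      apply hle
      rw [Submodule.mem_colon_singleton, sub_smul, one_smul]
      simp only at hry
      rw [hry, sub_self]
      exact Submodule.zero_mem _
    apply h Q hQ P hP
    rw [eq_top_iff, ← Ideal.span_singleton_one, Ideal.span_le, Set.singleton_subset_iff]
    have : (1 : S) = r + (1 - r) := by ring
    rw [this]
    exact Submodule.add_mem_sup hr h1
  have : x = (TensorProduct.comm R Q N).symm y := by rw [hy, LinearEquiv.symm_apply_apply]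
  rw [this, hy0, map_zero]

end main

open TensorProduct in
/-- Let R → S be a map of Noetherian rings, I an ideal of R and N a finite S-module. Assume that for
every finite R-module Q and every associated prime q of the S-module N ⊗_R Q the ideal IS + q is
proper. Then the canonical map from N to its I-adic completion is universally injective as a map of
R-modules. -/
theorem result {R S : Type u} [CommRing R] [CommRing S] [Algebra R S] [IsNoetherianRing R] [IsNoetherianRing S] (I : Ideal R)
    (N : Type u) [AddCommGroup N] [Module S N] [Module R N] [IsScalarTower R S N] [Module.Finite S N]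
    (h : ∀ (Q : Type u) [AddCommGroup Q] [Module R Q], Module.Finite R Q →
      ∀ q ∈ associatedPrimes S (N ⊗[R] Q), I.map (algebraMap R S) ⊔ q ≠ ⊤) :
    FlatCA.UnivInj R (AdicCompletion.of I N) := by
  exact aux I h

end Groth.Agent.S1199
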