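import Groth.Statements.S3844
import Groth.Agent.Lib.Helper6.SchDense
import Mathlib.RingTheory.Flat.TorsionFree

set_option autoImplicit false
universe u
open CategoryTheory CategoryTheory.Limits AlgebraicGeometry TopologicalSpace
open Rat20

namespace Groth.Agent.S3844

/-- For the open subset U = X: let f : X' → X be flat with X locally Noetherian. Then for every
schematically dense open subset V of X, the preimage f⁻¹(V) is schematically dense in X'. -/
theorem result {X X' : Scheme.{u}} (f : X' ⟶ X) [Flat f]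
    [IsLocallyNoetherian X] (V : X.Opens) (hV : CInt.IsSchematicallyDense V) :
    CInt.IsSchematicallyDense (f ⁻¹ᵁ V) := by
  apply Groth.Agent.Helper6.isSchematicallyDense_of_local
  intro x'
  obtain ⟨_, ⟨W, hW, rfl⟩, hxW, -⟩ :=
    X.isBasis_affineOpens.exists_subset_of_mem_open (Set.mem_univ (f x')) isOpen_univ
  obtain ⟨_, ⟨W', hW', rfl⟩, hxW', hW'W⟩ :=
    X'.isBasis_affineOpens.exists_subset_of_mem_open (show x' ∈ f ⁻¹ᵁ W from hxW) (f ⁻¹ᵁ W).2
  have e : W' ≤ f ⁻¹ᵁ W := hW'W
  refine ⟨W', hxW', ?_⟩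
  have hA : IsNoetherianRing Γ(X, W) := IsLocallyNoetherian.component_noetherian ⟨W, hW⟩
  obtain ⟨t, ht, htV⟩ :=
    Groth.Agent.Helper6.exists_nonZeroDivisor_basicOpen_le hW (Or.inl hA) V (hV W)
  have hflat : (f.appLE W W' e).hom.Flat := Flat.flat_appLE f hW hW' e
  have ht'reg : f.appLE W W' e t ∈ nonZeroDivisors Γ(X', W') := by
    algebraize [(f.appLE W W' e).hom]
    have hreg : IsSMulRegular Γ(X', W') t := Module.Flat.isSMulRegular_of_nonZeroDivisors ht
    rw [mem_nonZeroDivisors_iff_right]
    intro b hb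
    apply hreg
    change t • b = t • 0
    rw [smul_zero, Algebra.smul_def, mul_comm]
    exact hb
  have hle : X'.basicOpen (f.appLE W W' e t) ≤ f ⁻¹ᵁ V := by
    rw [Scheme.Hom.appLE, CommRingCat.comp_apply, Scheme.basicOpen_res,
      ← Scheme.preimage_basicOpen]
    exact inf_le_right.trans (f.preimage_mono htV)
  intro V' hV'
  exact (Groth.Agent.Helper6.resInj_basicOpen_of_nonZeroDivisor hW' ht'reg V' hV').mono hle

end Groth.Agent.S3844
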