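import Groth.Statements.S5939
-- import your own Groth.Agent.* helpers here

set_option autoImplicit false
universe u
open CategoryTheory AlgebraicGeometry
open Unram17

namespace Groth.Agent.S5939

section
open AlgebraicGeometry CategoryTheory CategoryTheory.Limits

/-- if `f` is surjective and `f ≫ g` is quasi-compact then `g` is quasi-compact -/
lemma quasiCompact_of_comp_surjective {X Y Z : Scheme.{u}} (f : X ⟶ Y) (g : Y ⟶ Z)
    [Surjective f] [QuasiCompact (f ≫ g)] : QuasiCompact g := by
  constructor
  intro U hU hUc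
  have h1 : IsCompact ((f ≫ g).base ⁻¹' U) := QuasiCompact.isCompact_preimage U hU hUc
  have h2 : g.base ⁻¹' U = f.base '' ((f ≫ g).base ⁻¹' U) := by
    ext y
    constructor
    · intro hy
      obtain ⟨x, rfl⟩ := f.surjective y
      exact ⟨x, by simpa using hy, rfl⟩
    · rintro ⟨x, hx, rfl⟩
      simpa using hx
  rw [h2]
  exact h1.image f.continuous

lemma quasiSeparatedSpace_of_surjective {A B : Type*} [TopologicalSpace A] [TopologicalSpace B]
    (φ : A → B) (hc : Continuous φ) (hs : Function.Surjective φ)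
    (hq : ∀ U : Set B, IsOpen U → IsCompact U → IsCompact (φ ⁻¹' U)) [QuasiSeparatedSpace A] :
    QuasiSeparatedSpace B := by
  constructor
  intro U V hU hUc hV hVc
  have h1 : IsCompact (φ ⁻¹' U ∩ φ ⁻¹' V) :=
    QuasiSeparatedSpace.inter_isCompact _ _ (hU.preimage hc) (hq U hU hUc) (hV.preimage hc)
      (hq V hV hVc)
  have h2 : U ∩ V = φ '' (φ ⁻¹' U ∩ φ ⁻¹' V) := by
    rw [← Set.preimage_inter, Set.image_preimage_eq _ hs]
  rw [h2]
  exact h1.image hc

theorem aux {X Y Z : Scheme.{u}} (f : X ⟶ Y) (g : Y ⟶ Z)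
    [Surjective f] [Flat f] [LocallyOfFinitePresentation f] [QuasiCompact f]
    [LocallyOfFinitePresentation (f ≫ g)] [QuasiCompact (f ≫ g)] [QuasiSeparated (f ≫ g)] :
    QuasiCompact g ∧ QuasiSeparated g := by
  refine ⟨quasiCompact_of_comp_surjective f g, ?_⟩
  rw [HasAffineProperty.eq_targetAffineLocally (P := @QuasiSeparated)]
  intro U
  show QuasiSeparatedSpace ↥((g ⁻¹ᵁ U.1).toScheme)
  have h0 : targetAffineLocally (fun X _ _ _ ↦ QuasiSeparatedSpace X) (f ≫ g) := by
    rw [← HasAffineProperty.eq_targetAffineLocally (P := @QuasiSeparated)]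
    infer_instance
  haveI : QuasiSeparatedSpace ↥((f ⁻¹ᵁ (g ⁻¹ᵁ U.1)).toScheme) := h0 U
  let φ := f ∣_ (g ⁻¹ᵁ U.1)
  haveI : Surjective φ := by
    refine ⟨fun z => ?_⟩
    obtain ⟨x, hx⟩ := f.surjective z.1
    have hxm : x ∈ f ⁻¹ᵁ (g ⁻¹ᵁ U.1) := by
      show f.base x ∈ g ⁻¹ᵁ U.1
      rw [hx]; exact z.2
    refine ⟨⟨x, hxm⟩, ?_⟩
    apply Subtype.ext
    rw [morphismRestrict_base_coe]
    exact hx
  haveI : QuasiCompact φ := inferInstance
  exact quasiSeparatedSpace_of_surjective φ.base φ.continuous φ.surjective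
    (fun W hW hWc => QuasiCompact.isCompact_preimage W hW hWc)
end

/-- Let f : X ⟶ Y be faithfully flat, locally of finite presentation and quasi-compact, and let g : Y ⟶
Z be a morphism such that f ≫ g is of finite presentation (locally of finite presentation,
quasi-compact and quasi-separated). Then g is quasi-compact and quasi-separated; together with the
descent of local finite presentation along f this says that g is of finite presentation. This is the
case f quasi-compact. -/
theorem result {X Y Z : Scheme.{u}} (f : X ⟶ Y) (g : Y ⟶ Z)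
    [Surjective f] [Flat f] [LocallyOfFinitePresentation f] [QuasiCompact f]
    [LocallyOfFinitePresentation (f ≫ g)] [QuasiCompact (f ≫ g)] [QuasiSeparated (f ≫ g)] :
    QuasiCompact g ∧ QuasiSeparated g := by
  exact aux f g

end Groth.Agent.S5939
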