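import Groth.Statements.S4485
import Groth.Agent.Lib.Helper7.TBr2

set_option autoImplicit false
universe u
open FlatCx

namespace Groth.Agent.S4485

open CategoryTheory CategoryTheory.Limits in
/-- For the homological functor T_p(M) = H_p(P ⊗_A M) of a chain complex P of flat modules over a
commutative ring A. If T_p takes injections to injections and surjections to surjections and T_p(A)
is a finitely presented A-module, then the function x ↦ dim_{k(x)} H_p(P ⊗_A k(x)) is locally
constant on Spec A (hence constant when Spec A is connected). No Noetherian hypothesis on A. -/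
theorem result {A : Type u} [CommRing A]
    (P : ChainComplex (ModuleCat.{u} A) ℤ) (hP : ∀ i, Module.Flat A (P.X i)) (p : ℤ)
    (hex : (CohIII.TFun P p).PreservesMonomorphisms ∧ (CohIII.TFun P p).PreservesEpimorphisms)
    (hfp : Module.FinitePresentation A (CohIII.T P p (ModuleCat.of A A))) :
    IsLocallyConstant (CohIII.dRank P p) := by
  obtain ⟨hmono, hepi⟩ := hex
  have hb := Groth.Agent.Helper7.TComp.tM_bijective_of_halfExact_of_preservesEpimorphisms
    (CohIII.TFun P p) (Groth.Agent.Helper7.TFun.halfExact P hP p)
  let e := Groth.Agent.Helper7.TComp.isoTensorLeft (CohIII.TFun P p) hb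
  have hflat : Module.Flat A ((CohIII.TFun P p).obj (ModuleCat.of A A)) :=
    Groth.Agent.Helper7.TComp.flat_of_iso_tensorLeft (CohIII.TFun P p) _ e
  have hfp' : Module.FinitePresentation A ((CohIII.TFun P p).obj (ModuleCat.of A A)) := hfp
  have hproj : Module.Projective A ((CohIII.TFun P p).obj (ModuleCat.of A A)) :=
    Module.Flat.projective_of_finitePresentation
  have hfin : Module.Finite A ((CohIII.TFun P p).obj (ModuleCat.of A A)) := inferInstance
  have hlc := Module.isLocallyConstant_rankAtStalk (R := A)
    (M := (CohIII.TFun P p).obj (ModuleCat.of A A))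
  have heq : CohIII.dRank P p =
      Module.rankAtStalk (R := A) ((CohIII.TFun P p).obj (ModuleCat.of A A)) := by
    funext x
    rw [Groth.Agent.Helper7.TBr.dRank_eq_of_bijective P p x (hb _)]
    exact (Module.rankAtStalk_eq (M := (CohIII.TFun P p).obj (ModuleCat.of A A)) x).symm
  rw [heq]
  exact hlc

end Groth.Agent.S4485
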