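import Groth.Statements.S4486
import Groth.Agent.Lib.Helper7.TBr3
import Groth.Agent.S2406

set_option autoImplicit false
universe u
open FlatCx

namespace Groth.Agent.S4486

open CategoryTheory CategoryTheory.Limits MonoidalCategory

theorem free_of_isField {K : Type*} [CommRing K] (hK : IsField K) (M : Type*) [AddCommGroup M]
    [inst : Module K M] : Module.Free K M := by
  let _ := hK.toField
  exact @Module.Free.of_divisionRing K M _ _ inst

theorem generic_mem_freeLocus {A : Type u} [CommRing A] [IsDomain A] (M : Type u) [AddCommGroup M]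
    [Module A M] : (⟨⊥, Ideal.isPrime_bot⟩ : PrimeSpectrum A) ∈ Module.freeLocus A M := by
  rw [Module.mem_freeLocus]
  apply free_of_isField
  rw [IsLocalRing.isField_iff_maximalIdeal_eq]
  rw [← Localization.AtPrime.map_eq_maximalIdeal, Ideal.map_bot]

theorem exists_ne_zero_projective_away {A : Type u} [CommRing A] [IsDomain A] (s : Finset ℤ)
    (M : ℤ → Type u) [∀ n, AddCommGroup (M n)] [∀ n, Module A (M n)]
    (hfp : ∀ n, Module.FinitePresentation A (M n)) :
    ∃ f : A, f ≠ 0 ∧ ∀ n ∈ s,
      Module.Projective (Localization.Away f) (LocalizedModule.Away f (M n)) := by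
  let η : PrimeSpectrum A := ⟨⊥, Ideal.isPrime_bot⟩
  have hopen : IsOpen (⋂ n ∈ s, Module.freeLocus A (M n)) :=
    isOpen_biInter_finset (fun n _ => Module.isOpen_freeLocus)
  have hmem : η ∈ ⋂ n ∈ s, Module.freeLocus A (M n) := by
    simp only [Set.mem_iInter]
    intro n _
    exact generic_mem_freeLocus _
  obtain ⟨_, ⟨f, rfl⟩, hηf, hsub⟩ :=
    PrimeSpectrum.isTopologicalBasis_basic_opens.exists_subset_of_mem_open hmem hopen
  refine ⟨f, ?_, fun n hn => ?_⟩
  · rintro rfl
    simp at hηf
  · rw [← Module.basicOpen_subset_freeLocus_iff]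
    exact hsub.trans (Set.biInter_subset_of_mem hn)

theorem exact_of_isZero {A : Type u} [CommRing A]
    (P : ChainComplex (ModuleCat.{u} A) ℤ) (q : ℤ) (hz : IsZero (P.X q)) :
    (CohIII.TFun P q).PreservesMonomorphisms ∧ (CohIII.TFun P q).PreservesEpimorphisms := by
  have hz' : ∀ M : ModuleCat.{u} A, IsZero ((CohIII.TFun P q).obj M) := by
    intro M
    apply ShortComplex.isZero_homology_of_isZero_X₂
    have : IsZero ((tensorRight M).obj (P.X q)) :=
      Functor.map_isZero (tensorRight M) hz
    exact this
  refine ⟨⟨fun {M N} g _ => ?_⟩, ⟨fun {M N} g _ => ?_⟩⟩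
  · exact ⟨fun {Z} a b _ => (hz' M).eq_of_tgt a b⟩
  · exact ⟨fun {Z} a b _ => (hz' N).eq_of_src a b⟩

open CategoryTheory CategoryTheory.Limits in
/-- For the homological functor T_p(M) = H_p(P ⊗_A M) of a chain complex P of flat modules over a
commutative ring A, which commutes with filtered colimits. Let A be a domain and suppose P_i = 0 for
i < i₀ and that every T_n(A) is a finitely presented A-module. Then for every integer N there is a
nonzero f ∈ A such that, for every p ≤ N, the functor of A_f-modules N ↦ H_p(P_f ⊗_{A_f} N), where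
P_f = P ⊗_A A_f, takes injections to injections and surjections to surjections. -/
theorem result {A : Type u} [CommRing A] [IsDomain A]
    (P : ChainComplex (ModuleCat.{u} A) ℤ) (hP : ∀ i, Module.Flat A (P.X i)) (i₀ : ℤ)
    (hb : ∀ i < i₀, IsZero (P.X i))
    (hfp : ∀ n : ℤ, Module.FinitePresentation A (CohIII.T P n (ModuleCat.of A A))) (N : ℤ) :
    ∃ f : A, f ≠ 0 ∧ ∀ p ≤ N,
      (CohIII.TFun (CohIII.bcCx (algebraMap A (Localization.Away f)) P) p).PreservesMonomorphisms ∧
        (CohIII.TFun (CohIII.bcCx (algebraMap A (Localization.Away f)) P) p).PreservesEpimorphisms := by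
  have hfp' : ∀ n : ℤ, Module.FinitePresentation A ((CohIII.TFun P n).obj (ModuleCat.of A A)) := hfp
  obtain ⟨f, hf0, hproj⟩ := exists_ne_zero_projective_away (Finset.Icc i₀ N)
    (fun n => (CohIII.TFun P n).obj (ModuleCat.of A A)) hfp'
  refine ⟨f, hf0, ?_⟩
  have hBflat : Module.Flat A (Localization.Away f) :=
    IsLocalization.flat _ (Submonoid.powers f)
  have hQflat : ∀ i, Module.Flat (Localization.Away f)
      ((CohIII.bcCx (algebraMap A (Localization.Away f)) P).X i) :=
    fun i => Groth.Agent.Helper7.TBr.flat_bcCx P i (hP i)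
  have hQzero : ∀ i < i₀, IsZero ((CohIII.bcCx (algebraMap A (Localization.Away f)) P).X i) :=
    fun i hi => Groth.Agent.Helper7.TBr.isZero_bcCx P i (hb i hi)
  have key : ∀ n : ℕ, ∀ q : ℤ, q ≤ N → q < i₀ + n →
      (CohIII.TFun (CohIII.bcCx (algebraMap A (Localization.Away f)) P) q).PreservesMonomorphisms ∧
      (CohIII.TFun (CohIII.bcCx (algebraMap A (Localization.Away f)) P) q).PreservesEpimorphisms := by
    intro n
    induction n with
    | zero =>
      intro q _ hq
      exact exact_of_isZero _ q (hQzero q (by simpa using hq))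
    | succ n ih =>
      intro q hqN hq
      by_cases hlt : q < i₀ + n
      · exact ih q hqN hlt
      · have hprev := ih (q - 1) (by omega) (by push_cast at hq; omega)
        have hepi : (CohIII.TFun (CohIII.bcCx (algebraMap A (Localization.Away f)) P)
            q).PreservesEpimorphisms :=
          (Groth.Agent.S2406.result _ hQflat q (q - 1) (by omega)).2 hprev.1
        refine ⟨?_, hepi⟩
        have hbij := Groth.Agent.Helper7.TComp.tM_bijective_of_halfExact_of_preservesEpimorphisms
          (CohIII.TFun (CohIII.bcCx (algebraMap A (Localization.Away f)) P) q)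
          (Groth.Agent.Helper7.TFun.halfExact _ hQflat q)
        let e := Groth.Agent.Helper7.TComp.isoTensorLeft
          (CohIII.TFun (CohIII.bcCx (algebraMap A (Localization.Away f)) P) q) hbij
        have hflatT : Module.Flat (Localization.Away f)
            ((CohIII.TFun (CohIII.bcCx (algebraMap A (Localization.Away f)) P) q).obj
              (ModuleCat.of (Localization.Away f) (Localization.Away f))) := by
          have hq' : q ∈ Finset.Icc i₀ N := Finset.mem_Icc.2 ⟨by omega, hqN⟩
          have hpr := hproj q hq'
          have e1 : LocalizedModule.Away f ((CohIII.TFun P q).obj (ModuleCat.of A A))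
              ≃ₗ[Localization.Away f]
              TensorProduct A (Localization.Away f) ((CohIII.TFun P q).obj (ModuleCat.of A A)) :=
            LocalizedModule.equivTensorProduct (Submonoid.powers f) _
          have e2 := Groth.Agent.Helper7.TBr.TFunUnitEquiv (B := Localization.Away f) P q
          have hfl : Module.Flat (Localization.Away f)
              (LocalizedModule.Away f ((CohIII.TFun P q).obj (ModuleCat.of A A))) :=
            @Module.Flat.of_projective _ _ _ _ _ hpr
          exact @Module.Flat.of_linearEquiv _ _ _ _ _ _ _ _ hfl (e2 ≪≫ₗ e1.symm)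
        have h1 := Groth.Agent.Helper7.TComp.preservesMonomorphisms_tensorLeft
          ((CohIII.TFun (CohIII.bcCx (algebraMap A (Localization.Away f)) P) q).obj
            (ModuleCat.of (Localization.Away f) (Localization.Away f)))
        exact Functor.PreservesMonomorphisms.of_iso e
  intro q hq
  obtain ⟨n, hn⟩ : ∃ n : ℕ, q < i₀ + n := ⟨(q - i₀ + 1).toNat, by omega⟩
  exact key n q hq hn

end Groth.Agent.S4486
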