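import Groth.Statements.S4492
import Mathlib.Algebra.Homology.ShortComplex.ModuleCat
import Mathlib.RingTheory.FiniteLength

set_option autoImplicit false
universe u
open FlatCx

namespace Groth.Agent.S4492

open CategoryTheory in
private lemma length_aux {B : Type u} [Ring B] {X Y Z : Type u} [AddCommGroup X] [AddCommGroup Y]
    [AddCommGroup Z] [Module B X] [Module B Y] [Module B Z] (a : X →ₗ[B] Y) (b : Y →ₗ[B] Z)
    (h : Function.Exact a b) :
    Module.length B Y ≤ Module.length B X + Module.length B Z ∧
    (Module.length B X ≠ ⊤ → Module.length B Z ≠ ⊤ →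
      (Module.length B Y = Module.length B X + Module.length B Z ↔
        Function.Injective a ∧ Function.Surjective b)) := by
  have h1 : Module.length B Y = Module.length B (LinearMap.range a) +
      Module.length B (LinearMap.range b) := by
    refine Module.length_eq_add_of_exact (LinearMap.range a).subtype b.rangeRestrict
      (Submodule.subtype_injective _) b.surjective_rangeRestrict ?_
    rw [LinearMap.exact_iff, LinearMap.ker_rangeRestrict, Submodule.range_subtype]
    exact (LinearMap.exact_iff.mp h)
  have h2 : Module.length B X = Module.length B (LinearMap.ker a) +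
      Module.length B (LinearMap.range a) :=
    Module.length_eq_add_of_exact (LinearMap.ker a).subtype a.rangeRestrict
      (Submodule.subtype_injective _) a.surjective_rangeRestrict
      (by rw [LinearMap.exact_iff, LinearMap.ker_rangeRestrict, Submodule.range_subtype])
  have h3 : Module.length B Z = Module.length B (LinearMap.range b) +
      Module.length B (Z ⧸ LinearMap.range b) :=
    Module.length_eq_add_of_exact (LinearMap.range b).subtype (LinearMap.range b).mkQ
      (Submodule.subtype_injective _) (Submodule.mkQ_surjective _)
      (by rw [LinearMap.exact_iff, Submodule.ker_mkQ, Submodule.range_subtype])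
  refine ⟨?_, fun hX hZ => ⟨fun hEQ => ?_, fun ⟨hi, hs⟩ => ?_⟩⟩
  · rw [h1, h2, h3]
    exact add_le_add le_add_self le_self_add
  · -- equality ⇒ injective, surjective
    rw [h1] at hEQ
    rw [h2] at hX
    rw [h3] at hZ
    rw [h2, h3] at hEQ
    have hk : Module.length B (LinearMap.ker a) = 0 ∧
        Module.length B (Z ⧸ LinearMap.range b) = 0 := by
      generalize Module.length B (LinearMap.ker a) = k at *
      generalize Module.length B (LinearMap.range a) = ra at *
      generalize Module.length B (LinearMap.range b) = rb at *
      generalize Module.length B (Z ⧸ LinearMap.range b) = q at *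
      have hk : k ≠ ⊤ := fun h => hX (by rw [h, top_add])
      have hra : ra ≠ ⊤ := fun h => hX (by rw [h, add_top])
      have hrb : rb ≠ ⊤ := fun h => hZ (by rw [h, top_add])
      have hq : q ≠ ⊤ := fun h => hZ (by rw [h, add_top])
      lift k to ℕ using hk
      lift ra to ℕ using hra
      lift rb to ℕ using hrb
      lift q to ℕ using hq
      norm_cast at hEQ ⊢
      omega
    rw [Module.length_eq_zero_iff, Module.length_eq_zero_iff] at hk
    constructor
    · rw [← LinearMap.ker_eq_bot]
      exact (Submodule.subsingleton_iff_eq_bot).mp hk.1
    · rw [← LinearMap.range_eq_top]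
      exact Submodule.Quotient.subsingleton_iff.mp hk.2
  · exact Module.length_eq_add_of_exact a b hi hs h

open CategoryTheory CategoryTheory.Limits in
/-- (The published statement is for arbitrary abelian categories; this row is for functors between
module categories.) Let F be an additive functor from A-modules to B-modules which is half exact
(every short exact sequence 0 → E' → E → E'' → 0 goes to a sequence F(E') → F(E) → F(E'') exact at
the middle) and such that F(S) has finite length for every simple A-module S. Then F(E) has finite
length for every A-module E of finite length; and for every short exact sequence 0 → E' → E → E'' →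
0 of A-modules with E of finite length one has length F(E) ≤ length F(E') + length F(E''), with
equality if and only if 0 → F(E') → F(E) → F(E'') → 0 is (short) exact. Lengths are Mathlib's,
valued in ℕ∞. -/
theorem result {A B : Type u} [Ring A] [Ring B]
    (F : ModuleCat.{u} A ⥤ ModuleCat.{u} B) [F.Additive]
    (hF : ∀ S : ShortComplex (ModuleCat.{u} A), S.ShortExact → (S.map F).Exact)
    (hS : ∀ M : ModuleCat.{u} A, IsSimpleModule A M → Module.length B (F.obj M) ≠ ⊤) :
    (∀ E : ModuleCat.{u} A, Module.length A E ≠ ⊤ → Module.length B (F.obj E) ≠ ⊤) ∧
      ∀ S : ShortComplex (ModuleCat.{u} A), S.ShortExact → Module.length A S.X₂ ≠ ⊤ →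
        Module.length B (F.obj S.X₂) ≤ Module.length B (F.obj S.X₁) + Module.length B (F.obj S.X₃) ∧
          (Module.length B (F.obj S.X₂) = Module.length B (F.obj S.X₁) + Module.length B (F.obj S.X₃) ↔
            (S.map F).ShortExact) := by
  have hex : ∀ S : ShortComplex (ModuleCat.{u} A), S.ShortExact →
      Function.Exact (F.map S.f).hom (F.map S.g).hom := fun S hS =>
    (ShortComplex.ShortExact.moduleCat_exact_iff_function_exact _).mp (hF S hS)
  have part1 : ∀ E : ModuleCat.{u} A, Module.length A E ≠ ⊤ → Module.length B (F.obj E) ≠ ⊤ := by
    intro E hE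
    rw [Module.length_ne_top_iff] at hE
    suffices h : ∀ (M : Type u) [AddCommGroup M] [Module A M], IsFiniteLength A M →
        Module.length B (F.obj (ModuleCat.of A M)) ≠ ⊤ from h E hE
    intro M _ _ hM
    induction hM with
    | @of_subsingleton M _ _ _ =>
      have hz : Limits.IsZero (ModuleCat.of A M) := ModuleCat.isZero_of_subsingleton _
      have hz' : Limits.IsZero (F.obj (ModuleCat.of A M)) := F.map_isZero hz
      have : Subsingleton (F.obj (ModuleCat.of A M)) := ModuleCat.subsingleton_of_isZero hz'
      rw [Module.length_eq_zero]
      exact ENat.zero_ne_top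
    | @of_simple_quotient M _ _ N hsimple hN ih =>
      have hSE := LinearMap.shortExact_shortComplexKer (Submodule.mkQ_surjective N)
      have h1 := (length_aux _ _ (hex _ hSE)).1
      have h2 : Module.length B (F.obj (ModuleCat.of A (M ⧸ N))) ≠ ⊤ := hS _ hsimple
      -- ker mkQ ≃ N
      have e : (LinearMap.ker N.mkQ) ≃ₗ[A] N := LinearEquiv.ofEq _ _ (Submodule.ker_mkQ N)
      have h3 : Module.length B (F.obj (ModuleCat.of A (LinearMap.ker N.mkQ))) ≠ ⊤ := by
        have := (F.mapIso e.toModuleIso).toLinearEquiv.length_eq
        rw [this]
        exact ih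
      intro htop
      change Module.length B (F.obj (ModuleCat.of A M)) ≤ _ + _ at h1
      rw [htop, top_le_iff] at h1
      rcases ENat.add_eq_top.mp h1 with h | h
      · exact h3 h
      · exact h2 h
  refine ⟨part1, fun S hS hfin => ?_⟩
  have hfin1 : Module.length A S.X₁ ≠ ⊤ := by
    intro h
    have := Module.length_le_of_injective S.f.hom hS.moduleCat_injective_f
    rw [h, top_le_iff] at this
    exact hfin this
  have hfin3 : Module.length A S.X₃ ≠ ⊤ := by
    intro h
    have := Module.length_le_of_surjective S.g.hom hS.moduleCat_surjective_g
    rw [h, top_le_iff] at this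
    exact hfin this
  obtain ⟨h1, h2⟩ := length_aux _ _ (hex S hS)
  refine ⟨h1, (h2 (part1 _ hfin1) (part1 _ hfin3)).trans ⟨fun ⟨hi, hs⟩ => ?_, fun h => ?_⟩⟩
  · exact { exact := hF S hS
            mono_f := (ModuleCat.mono_iff_injective _).mpr hi
            epi_g := (ModuleCat.epi_iff_surjective _).mpr hs }
  · exact ⟨(ModuleCat.mono_iff_injective _).mp h.mono_f, (ModuleCat.epi_iff_surjective _).mp h.epi_g⟩

end Groth.Agent.S4492
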