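import Groth.Statements.S1747
import Groth.Agent.Lib.Helper8.DU6

set_option autoImplicit false
universe u
open CategoryTheory
attribute [local instance] HasDerivedCategory.standard
open Dual

namespace Groth.Agent.S1747

/-- Let A be a Noetherian local ring. If ω and ω' are both dualizing complexes for A, then ω' ≅ ω[n] in
D(A) for some integer n. The published statement is over an arbitrary Noetherian ring, with the
tensor product by an invertible object of D(A) in place of the shift; over a local ring the
invertible objects of D(A) are exactly the shifts A[n], which gives the form stated here. -/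
theorem result (A : Type u) [CommRing A] [IsLocalRing A] [IsNoetherianRing A] (ω ω' : Dual.D A) (hω : Dual.IsDualizing A ω) (hω' : Dual.IsDualizing A ω') : ∃ n : ℤ, Nonempty (ω' ≅ ω⟦n⟧) := by
  obtain ⟨n, h1, ⟨h2⟩⟩ := Groth.Agent.Helper8.BiDual.exists_unique_ext_residue ω hω
    (IsLocalRing.maximalIdeal A)
  obtain ⟨n', h1', h2'⟩ := Groth.Agent.Helper8.BiDual.exists_unique_ext_residue ω' hω'
    (IsLocalRing.maximalIdeal A)
  refine ⟨n - n', ?_⟩
  have hsh : Dual.IsDualizing A (ω⟦n - n'⟧) :=
    Groth.Agent.Helper8.LOC.isDualizing_shift ω hω (n - n')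
  have eS : ∀ i j : ℤ, (n - n') + i = j → ((ω⟦n - n'⟧)⟦i⟧ ≅ ω⟦j⟧) := fun i j hij =>
    ((shiftFunctorAdd' (Dual.D A) (n - n') i j hij).app ω).symm
  refine Groth.Agent.Helper8.DU.main_normalized (ω⟦n - n'⟧) ω' hsh hω' n' ?_ ?_ h1' h2'
  · intro i hi
    haveI := h1 (n - n' + i) (by omega)
    exact (Groth.Agent.Helper8.LOC.subsingleton_hom_iff_of_iso (Iso.refl _)
      (eS i (n - n' + i) rfl)).mpr inferInstance
  · exact ⟨(CategoryTheory.Linear.homCongr A (Iso.refl _) (eS n' n (by omega))).trans h2⟩

end Groth.Agent.S1747
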