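import Groth.Statements.S1748
import Groth.Agent.Lib.Helper8.PolyInj2

set_option autoImplicit false
universe u
open CategoryTheory
open scoped TensorProduct Polynomial
attribute [local instance] HasDerivedCategory.standard
open InjHull

namespace Groth.Agent.S1748

/-- Let A be a Noetherian ring and E an injective A-module. Then A[x] ⊗_A E, as an object of D(A[x]) in
degree 0, has injective amplitude in [0, 1]: it is quasi-isomorphic to a complex of injective
A[x]-modules concentrated in degrees 0 and 1. In particular it has finite injective dimension. -/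
theorem result (A : Type u) [CommRing A] [IsNoetherianRing A] (E : Type u) [AddCommGroup E] [Module A E] [Module.Injective A E] : DRing.HasInjAmplitudeIn A[X] 0 1 (Dual.inD A[X] (A[X] ⊗[A] E)) := by
  apply Groth.Agent.Helper11.DC.injAmp_of_hom_quotient_eq_zero
  intro I i hi g
  rcases hi with hi | hi
  · exact @Subsingleton.elim _ (Groth.Agent.Helper8.DualMod.subsingleton_hom_inD_shift_of_neg
      (Polynomial A) (Polynomial A ⧸ I) (TensorProduct A (Polynomial A) E) i hi) g 0
  · obtain ⟨k, rfl⟩ : ∃ k : ℕ, i = ((k + 2 : ℕ) : ℤ) := ⟨(i - 2).toNat, by omega⟩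
    have hsub := Groth.Agent.Helper8.PolyInj.ext_subsingleton
      (ModuleCat.of (Polynomial A) (TensorProduct A (Polynomial A) E))
      (Groth.Agent.Helper8.PolyInj.injective_restrictScalars_polynomial_tensor E)
      (ModuleCat.of (Polynomial A) (Polynomial A ⧸ I)) k
    have hsub2 : Subsingleton (Dual.inD (Polynomial A) (Polynomial A ⧸ I) ⟶
        (shiftFunctor (Dual.D (Polynomial A)) ((k + 2 : ℕ) : ℤ)).obj
          (Dual.inD (Polynomial A) (TensorProduct A (Polynomial A) E))) :=
      (Groth.Agent.Helper8.DualMod.homInDEquivExt (Polynomial A) (Polynomial A ⧸ I)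
        (TensorProduct A (Polynomial A) E) (k + 2)).symm.subsingleton
    exact @Subsingleton.elim _ hsub2 g 0

end Groth.Agent.S1748
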