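import Groth.Statements.S4721
import Mathlib
import Groth.Agent.Lib.Lead.Conn2

set_option autoImplicit false
universe u
open EGA4

namespace Groth.Agent.S4721

/-- Let A be a Noetherian ring whose spectrum is connected and d a natural number such that for every
prime p of height at least d the local ring A_p has depth at least 2. Then for any two distinct
minimal primes p', p'' of A there is a finite chain of minimal primes starting at p' and ending at
p'' such that any two consecutive members are both contained in a prime ideal of height at most d −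
1 (the spectrum is connected in codimension at most d − 1). -/
theorem result (A : Type u) [CommRing A] [IsNoetherianRing A]
    [ConnectedSpace (PrimeSpectrum A)] (d : ℕ)
    (h : ∀ (p : Ideal A) [p.IsPrime], (d : ℕ∞) ≤ p.height →
      (2 : ℕ∞) ≤ LocCoh.depth (Localization.AtPrime p) (Localization.AtPrime p))
    (p' p'' : Ideal A) (hp' : p' ∈ minimalPrimes A) (hp'' : p'' ∈ minimalPrimes A) (hne : p' ≠ p'') :
    ∃ (n : ℕ) (c : Fin (n + 1) → Ideal A), c 0 = p' ∧ c (Fin.last n) = p'' ∧ (∀ i, c i ∈ minimalPrimes A) ∧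
      ∀ i : Fin n, ∃ (q : Ideal A) (_ : q.IsPrime),
        c i.castSucc ≤ q ∧ c i.succ ≤ q ∧ q.height + 1 ≤ (d : ℕ∞) := by
  classical
  -- the chain predicate
  let Chain : Ideal A → Prop := fun p =>
    ∃ (n : ℕ) (c : Fin (n + 1) → Ideal A), c 0 = p' ∧ c (Fin.last n) = p ∧
      (∀ i, c i ∈ minimalPrimes A) ∧
      ∀ i : Fin n, ∃ (q : Ideal A) (_ : q.IsPrime),
        c i.castSucc ≤ q ∧ c i.succ ≤ q ∧ q.height + 1 ≤ (d : ℕ∞)
  change Chain p''
  have hChain0 : Chain p' := ⟨0, fun _ => p', rfl, rfl, fun _ => hp', fun i => i.elim0⟩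
  have hsnoc : ∀ p p2 : Ideal A, Chain p → p2 ∈ minimalPrimes A →
      (∃ (q : Ideal A) (_ : q.IsPrime), p ≤ q ∧ p2 ≤ q ∧ q.height + 1 ≤ (d : ℕ∞)) → Chain p2 := by
    rintro p p2 ⟨n, c, hc0, hcl, hcmin, hcstep⟩ hp2 hq
    refine ⟨n + 1, Fin.snoc (α := fun _ => Ideal A) c p2, ?_, ?_, ?_, ?_⟩
    · rw [← Fin.castSucc_zero, Fin.snoc_castSucc]; exact hc0
    · exact Fin.snoc_last (α := fun _ => Ideal A) _ _
    · intro i
      refine Fin.lastCases ?_ (fun j => ?_) i
      · rw [Fin.snoc_last (α := fun _ => Ideal A)]; exact hp2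
      · rw [Fin.snoc_castSucc (α := fun _ => Ideal A)]; exact hcmin j
    · intro i
      refine Fin.lastCases ?_ (fun j => ?_) i
      · rw [Fin.snoc_castSucc (α := fun _ => Ideal A), Fin.succ_last,
          Fin.snoc_last (α := fun _ => Ideal A), hcl]
        exact hq
      · rw [Fin.snoc_castSucc (α := fun _ => Ideal A), Fin.succ_castSucc,
          Fin.snoc_castSucc (α := fun _ => Ideal A)]
        exact hcstep j
  by_contra hcon
  have hfin : (minimalPrimes A).Finite := minimalPrimes.finite_of_isNoetherianRing A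
  set P1 : Finset (Ideal A) := hfin.toFinset.filter (fun p => Chain p) with hP1
  set P2 : Finset (Ideal A) := hfin.toFinset.filter (fun p => ¬ Chain p) with hP2
  have hmem1 : ∀ p, p ∈ P1 ↔ p ∈ minimalPrimes A ∧ Chain p := by
    intro p; simp [hP1]
  have hmem2 : ∀ p, p ∈ P2 ↔ p ∈ minimalPrimes A ∧ ¬ Chain p := by
    intro p; simp [hP2]
  set a : Ideal A := P1.inf id with ha
  set b : Ideal A := P2.inf id with hb
  have hale : ∀ p ∈ P1, a ≤ p := fun p hp => Finset.inf_le (f := id) hp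
  have hble : ∀ p ∈ P2, b ≤ p := fun p hp => Finset.inf_le (f := id) hp
  have hminle : ∀ (p : Ideal A), p.IsPrime → ∃ p0 ∈ minimalPrimes A, p0 ≤ p := by
    intro p hp
    haveI := hp
    exact Ideal.exists_minimalPrimes_le (I := ⊥) (J := p) bot_le
  have hcov : ∀ p : Ideal A, p.IsPrime → a ≤ p ∨ b ≤ p := by
    intro p hp
    obtain ⟨p0, hp0, hle⟩ := hminle p hp
    by_cases hc : Chain p0
    · left
      exact (hale p0 ((hmem1 p0).mpr ⟨hp0, hc⟩)).trans hle
    · right
      exact (hble p0 ((hmem2 p0).mpr ⟨hp0, hc⟩)).trans hle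
  -- connectedness gives a prime containing a ⊔ b
  have hconn : IsPreconnected (Set.univ : Set (PrimeSpectrum A)) := isPreconnected_univ
  rw [isPreconnected_closed_iff] at hconn
  have hne' := hconn (PrimeSpectrum.zeroLocus (a : Set A)) (PrimeSpectrum.zeroLocus (b : Set A))
    (PrimeSpectrum.isClosed_zeroLocus _) (PrimeSpectrum.isClosed_zeroLocus _)
    (by
      intro x _
      rcases hcov x.asIdeal x.isPrime with h1 | h1
      · exact Or.inl ((PrimeSpectrum.mem_zeroLocus _ _).mpr h1)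
      · exact Or.inr ((PrimeSpectrum.mem_zeroLocus _ _).mpr h1))
    ⟨⟨p', hp'.1.1⟩, Set.mem_univ _, (PrimeSpectrum.mem_zeroLocus _ _).mpr
      (SetLike.coe_subset_coe.mpr (hale p' ((hmem1 p').mpr ⟨hp', hChain0⟩)))⟩
    ⟨⟨p'', hp''.1.1⟩, Set.mem_univ _, (PrimeSpectrum.mem_zeroLocus _ _).mpr
      (SetLike.coe_subset_coe.mpr (hble p'' ((hmem2 p'').mpr ⟨hp'', hcon⟩)))⟩
  obtain ⟨x, -, hxa, hxb⟩ := hne'
  rw [PrimeSpectrum.mem_zeroLocus, SetLike.coe_subset_coe] at hxa hxb
  haveI := x.isPrime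
  obtain ⟨q, hq, hqx⟩ := Ideal.exists_minimalPrimes_le (I := a ⊔ b) (J := x.asIdeal)
    (sup_le hxa hxb)
  haveI hqprime : q.IsPrime := hq.1.1
  have hqa : a ≤ q := le_sup_left.trans hq.1.2
  have hqb : b ≤ q := le_sup_right.trans hq.1.2
  obtain ⟨p1, hp1, hp1q⟩ := (Ideal.IsPrime.inf_le' hqprime).mp hqa
  obtain ⟨p2, hp2, hp2q⟩ := (Ideal.IsPrime.inf_le' hqprime).mp hqb
  simp only [id] at hp1q hp2q
  rw [hmem1] at hp1
  rw [hmem2] at hp2
  have hht : (d : ℕ∞) ≤ q.height := by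
    by_contra hlt
    rw [not_le] at hlt
    have h1 : q.height + 1 ≤ (d : ℕ∞) := Order.add_one_le_of_lt hlt
    exact hp2.2 (hsnoc p1 p2 hp1.2 hp2.1 ⟨q, hqprime, hp1q, hp2q, h1⟩)
  have hdepth := h q hht
  rcases Groth.Agent.Lead.Conn.forall_le_or_forall_le_of_depth_localization a b q hq
    (fun p hp _ => hcov p hp) hdepth with hall | hall
  · have h1 := hall p2 hp2.1.1.1 hp2q
    obtain ⟨p3, hp3, hp3le⟩ := (Ideal.IsPrime.inf_le' hp2.1.1.1).mp h1
    simp only [id] at hp3le
    rw [hmem1] at hp3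
    have : p3 = p2 := le_antisymm hp3le (hp2.1.2 ⟨hp3.1.1.1, bot_le⟩ hp3le)
    exact hp2.2 (this ▸ hp3.2)
  · have h1 := hall p1 hp1.1.1.1 hp1q
    obtain ⟨p3, hp3, hp3le⟩ := (Ideal.IsPrime.inf_le' hp1.1.1.1).mp h1
    simp only [id] at hp3le
    rw [hmem2] at hp3
    have : p3 = p1 := le_antisymm hp3le (hp1.1.2 ⟨hp3.1.1.1, bot_le⟩ hp3le)
    exact hp3.2 (this ▸ hp1.2)

end Groth.Agent.S4721
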