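import Groth.Statements.S9128
import Groth.Agent.Lib.Helper14.Coheight
import Mathlib.RingTheory.KrullDimension.NonZeroDivisors
import Mathlib.RingTheory.Ideal.KrullsHeightTheorem
-- import your own Groth.Agent.* helpers here

set_option autoImplicit false
universe u
open CAlg

namespace Groth.Agent.S9128

/-- A Noetherian local ring A is catenary if and only if the assignment sending a prime p to the Krull
dimension of A/p is a dimension function on Spec A, i.e. it decreases strictly along strict
inclusions of primes and drops by exactly one along inclusions with no prime strictly in between. -/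
theorem result (A : Type u) [CommRing A] [IsNoetherianRing A]
    [IsLocalRing A] :
    CAlg.IsCatenary A ↔
      ∀ p q : PrimeSpectrum A, p < q →
        ringKrullDim (A ⧸ q.asIdeal) < ringKrullDim (A ⧸ p.asIdeal) ∧
          (p ⋖ q → ringKrullDim (A ⧸ p.asIdeal) = ringKrullDim (A ⧸ q.asIdeal) + 1) := by
  classical
  have h0 : ∀ p : PrimeSpectrum A, ringKrullDim (A ⧸ p.asIdeal) = (Order.coheight p : WithBot ℕ∞) := by
    intro p
    rw [ringKrullDim_quotient, Order.coheight_eq_krullDim_Ici]
    have : PrimeSpectrum.zeroLocus (p.asIdeal : Set A) = Set.Ici p := by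
      ext q
      rw [PrimeSpectrum.mem_zeroLocus]
      rfl
    rw [this]
  have hfin : ∀ p : PrimeSpectrum A, Order.coheight p < ⊤ := fun p => Order.coheight_lt_top p
  have key : (∀ p q : PrimeSpectrum A, p < q →
        ringKrullDim (A ⧸ q.asIdeal) < ringKrullDim (A ⧸ p.asIdeal) ∧
          (p ⋖ q → ringKrullDim (A ⧸ p.asIdeal) = ringKrullDim (A ⧸ q.asIdeal) + 1)) ↔
      (∀ p q : PrimeSpectrum A, p < q → Order.coheight q < Order.coheight p ∧
          (p ⋖ q → Order.coheight p = Order.coheight q + 1)) := by
    refine forall_congr' fun p => forall_congr' fun q => imp_congr_right fun _ => ?_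
    rw [h0 p, h0 q]
    refine and_congr ?_ (imp_congr_right fun _ => ?_)
    · exact WithBot.coe_lt_coe
    · exact_mod_cast Iff.rfl
  rw [key]
  constructor
  · rintro ⟨-, hcat⟩ p q hpq
    refine ⟨Order.coheight_strictAnti hpq (hfin q), fun hcov => ?_⟩
    obtain ⟨n, hn⟩ := ENat.ne_top_iff_exists.1 (hfin p).ne
    obtain ⟨e, he⟩ := ENat.ne_top_iff_exists.1 (hfin q).ne
    obtain ⟨s, hs_head, hs_len⟩ := Order.exists_series_of_coheight_eq_coe p hn.symm
    obtain ⟨t, ht_head, ht_len⟩ := Order.exists_series_of_coheight_eq_coe q he.symm
    have hs' : (s.length : ℕ∞) = Order.coheight s.head := by rw [hs_head, hs_len, hn]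
    have ht' : (t.length : ℕ∞) = Order.coheight t.head := by rw [ht_head, ht_len, he]
    have hmax : ∀ x : PrimeSpectrum A, IsMax x → x = IsLocalRing.closedPoint A := by
      intro x hx
      have hle : x ≤ IsLocalRing.closedPoint A := IsLocalRing.le_maximalIdeal x.2.ne_top
      exact le_antisymm hle (hx hle)
    have hs_last := hmax _ (Helper14.isMax_last_of_length_eq_coheight s hs')
    have ht_last := hmax _ (Helper14.isMax_last_of_length_eq_coheight t ht')
    have hpt : p < t.head := by rw [ht_head]; exact hpq
    have hlen := hcat s (Helper14.consSeries t p hpt) (by rw [hs_head, Helper14.consSeries_head])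
      (by rw [hs_last, Helper14.consSeries_last, ht_last])
      (Helper14.covBy_of_length_eq_coheight s hs')
      (Helper14.consSeries_covBy t p hpt (by rw [ht_head]; exact hcov)
        (Helper14.covBy_of_length_eq_coheight t ht'))
    rw [← hn, ← he]
    rw [Helper14.consSeries_length, hs_len, ht_len] at hlen
    exact_mod_cast congrArg (Nat.cast : ℕ → ℕ∞) hlen
  · intro H
    refine ⟨fun p q _ => ?_, fun s t hhead hlast hs ht => ?_⟩
    · obtain ⟨n, hn⟩ := ENat.ne_top_iff_exists.1 (hfin p).ne
      refine ⟨n, fun s hs _ => ?_⟩
      have := Order.length_le_coheight_head (p := s)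
      rw [hs, ← hn] at this
      exact_mod_cast this
    · have hsum : ∀ (s : LTSeries (PrimeSpectrum A)),
          (∀ i : Fin s.length, s (Fin.castSucc i) ⋖ s (Fin.succ i)) →
          ∀ i : Fin (s.length + 1), Order.coheight (s 0) = Order.coheight (s i) + (i : ℕ) := by
        intro s hs i
        induction i using Fin.induction with
        | zero => simp
        | succ j ih =>
          rw [ih, (H _ _ (s.step j)).2 (hs j)]
          simp only [Fin.val_succ, Fin.val_castSucc, Nat.cast_add, Nat.cast_one]
          rw [add_assoc, add_comm 1 (j : ℕ∞)]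
      have h1 := hsum s hs (Fin.last _)
      have h2 := hsum t ht (Fin.last _)
      have hhead' : s 0 = t 0 := hhead
      have hlast' : s (Fin.last _) = t (Fin.last _) := hlast
      rw [hhead', hlast', h2] at h1
      obtain ⟨e, he⟩ := ENat.ne_top_iff_exists.1 (hfin (t (Fin.last _))).ne
      rw [← he] at h1
      simp only [Fin.val_last] at h1
      have h3 : e + t.length = e + s.length := by exact_mod_cast h1
      omega

end Groth.Agent.S9128
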