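import Groth.Statements.S5154
import Mathlib
import Groth.Agent.Lib.Lead.Conn3
import Groth.Agent.S4721
import Groth.Agent.S9128

set_option autoImplicit false
universe u
open LocCoh

namespace Groth.Agent.S5154

/-- Let A be a Noetherian local ring which is catenary and such that depth A_p ≥ 2 for every prime p
with dim A_p ≥ 2. Then all irreducible components of Spec A have dimension dim A: for every minimal
prime p, dim A/p = dim A. -/
theorem result (A : Type u) [CommRing A] [IsLocalRing A] [IsNoetherianRing A] (hc : CAlg.IsCatenary A) (h : ∀ p : PrimeSpectrum A, (2 : ℕ∞) ≤ p.asIdeal.height → (2 : ℕ∞) ≤ LocCoh.depth (Localization.AtPrime p.asIdeal) (Localization.AtPrime p.asIdeal)) (p : Ideal A) (hp : p ∈ minimalPrimes A) : ringKrullDim (A ⧸ p) = ringKrullDim A := by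
  classical
  haveI : ConnectedSpace (PrimeSpectrum A) := Groth.Agent.Lead.Conn.connectedSpace_of_isLocalRing A
  have hdimfun := (Groth.Agent.S9128.result A).mp hc
  have hstep : ∀ p1 p2 : Ideal A, p1 ∈ minimalPrimes A → p2 ∈ minimalPrimes A →
      ∀ q : Ideal A, q.IsPrime → p1 ≤ q → p2 ≤ q → q.height + 1 ≤ ((2 : ℕ) : ℕ∞) →
      ringKrullDim (A ⧸ p1) = ringKrullDim (A ⧸ p2) := by
    intro p1 p2 hp1 hp2 q hq h1q h2q hht
    by_cases heq : p1 = p2
    · rw [heq]
    have hq1 : q.height ≤ 1 := by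
      have : q.height + 1 ≤ 1 + 1 := by
        refine hht.trans ?_
        norm_num
      exact (ENat.add_le_add_iff_right (by simp)).mp this
    have key : ∀ p0 : Ideal A, p0 ∈ minimalPrimes A → p0 ≤ q → p0 ≠ q →
        ringKrullDim (A ⧸ p0) = ringKrullDim (A ⧸ q) + 1 := by
      intro p0 hp0 hle hne0
      haveI := hp0.1.1
      have hlt : p0 < q := lt_of_le_of_ne hle hne0
      have hlt' : (⟨p0, hp0.1.1⟩ : PrimeSpectrum A) < ⟨q, hq⟩ := hlt
      refine (hdimfun ⟨p0, hp0.1.1⟩ ⟨q, hq⟩ hlt').2 ⟨hlt', ?_⟩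
      intro r hr1 hr2
      haveI := r.isPrime
      have hr1' : p0 < r.asIdeal := hr1
      have hr2' : r.asIdeal < q := hr2
      have e1 : p0.height + 1 ≤ r.asIdeal.height := Ideal.height_add_one_le_of_lt_of_isPrime hr1'
      have e2 : r.asIdeal.height + 1 ≤ q.height := Ideal.height_add_one_le_of_lt_of_isPrime hr2'
      have e3 : (1 : ℕ∞) ≤ r.asIdeal.height := le_trans le_add_self e1
      have e4 : (1 : ℕ∞) + 1 ≤ q.height := (add_le_add_left e3 1).trans e2
      have e5 : (1 : ℕ∞) + 1 ≤ 1 := e4.trans hq1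
      norm_num at e5
    have hne1 : p1 ≠ q := by
      rintro rfl
      exact heq (le_antisymm (hp1.2 ⟨hp2.1.1, bot_le⟩ h2q) h2q)
    have hne2 : p2 ≠ q := by
      rintro rfl
      exact heq (le_antisymm h1q (hp2.2 ⟨hp1.1.1, bot_le⟩ h1q))
    rw [key p1 hp1 h1q hne1, key p2 hp2 h2q hne2]
  have hall : ∀ p0 ∈ minimalPrimes A, ringKrullDim (A ⧸ p0) = ringKrullDim (A ⧸ p) := by
    intro p0 hp0
    by_cases heq : p = p0
    · rw [heq]
    obtain ⟨n, c, hc0, hcl, hcmin, hcstep⟩ := Groth.Agent.S4721.result A 2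
      (fun r hr hh => h ⟨r, hr⟩ (by simpa using hh)) p p0 hp hp0 heq
    have hind : ∀ i : Fin (n + 1), ringKrullDim (A ⧸ c i) = ringKrullDim (A ⧸ c 0) := by
      intro i
      induction i using Fin.induction with
      | zero => rfl
      | succ i ih =>
        obtain ⟨q, hq, h1, h2, h3⟩ := hcstep i
        rw [← ih]
        exact (hstep _ _ (hcmin _) (hcmin _) q hq h1 h2 h3).symm
    have := hind (Fin.last n)
    rwa [hcl, hc0] at this
  refine le_antisymm (ringKrullDim_quotient_le p) ?_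
  exact Groth.Agent.Lead.Conn.ringKrullDim_le_of_forall_minimalPrimes _ (fun p0 hp0 => (hall p0 hp0).le)

end Groth.Agent.S5154
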