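import Groth.Statements.S1187
import Mathlib.CategoryTheory.Galois.Full
import Mathlib.CategoryTheory.Galois.EssSurj
import Mathlib.Topology.Algebra.ClopenNhdofOne
-- import your own Groth.Agent.* helpers here

set_option autoImplicit false
universe u v w
open CategoryTheory PreGaloisCategory
open Pi1

namespace Groth.Agent.S1187

open CategoryTheory.Limits

variable {C C' : Type u} [Category.{v} C] [Category.{v} C'] [GaloisCategory C] [GaloisCategory C']
    (H : C ⥤ C') [Limits.PreservesFiniteLimits H] [Limits.PreservesFiniteColimits H]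
    (F' : C' ⥤ FintypeCat.{w}) [FiberFunctor F'] [FiberFunctor (H ⋙ F')]

include F' in
lemma faithful_H : H.Faithful := by
  have : (H ⋙ F').Faithful := inferInstance
  exact Functor.Faithful.of_comp H F'

lemma full_of_surjective (hs : Function.Surjective (Pi1X.autWhisker H F')) : H.Full := by
  refine ⟨fun {X Y} g => ?_⟩
  -- build an equivariant map
  let φ : (functorToAction (H ⋙ F')).obj X ⟶ (functorToAction (H ⋙ F')).obj Y :=
    { hom := F'.map g
      comm := fun σ => by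
        obtain ⟨σ', rfl⟩ := hs σ
        exact (σ'.hom.naturality g).symm }
  obtain ⟨f, hf⟩ := (functorToAction (H ⋙ F')).map_surjective φ
  refine ⟨f, ?_⟩
  have h1 : F'.map (H.map f) = F'.map g := congrArg Action.Hom.hom hf
  exact F'.map_injective h1


lemma continuous_autWhisker : Continuous (Pi1X.autWhisker H F') := by
  rw [Topology.IsInducing.continuous_iff (autEmbedding_isClosedEmbedding _).isInducing,
    continuous_pi_iff]
  intro X
  change Continuous fun a ↦ autEmbedding F' a (H.obj X)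
  exact (continuous_apply (H.obj X)).comp continuous_induced_dom

section Orbit

variable {D : Type u} [Category.{v} D] [GaloisCategory D] (F : D ⥤ FintypeCat.{w}) [FiberFunctor F]

lemma fiber_terminal_subsingleton (y z : F.obj (⊤_ D)) : y = z := by
  have hterm : IsTerminal (F.obj (⊤_ D)) := terminalIsTerminal.isTerminalObj F _
  have := hterm.hom_ext (FintypeCat.homMk (fun _ : FintypeCat.of PUnit.{w+1} => y))
    (FintypeCat.homMk (fun _ => z))
  exact ConcreteCategory.congr_hom this PUnit.unit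

lemma fiber_terminal_nonempty : Nonempty (F.obj (⊤_ D)) := by
  have hterm : IsTerminal (F.obj (⊤_ D)) := terminalIsTerminal.isTerminalObj F _
  exact ⟨hterm.from (FintypeCat.of PUnit.{w+1}) PUnit.unit⟩

lemma inl_ne_inr (y z : F.obj (⊤_ D)) :
    F.map (coprod.inl : ⊤_ D ⟶ (⊤_ D) ⨿ (⊤_ D)) y ≠ F.map (coprod.inr : ⊤_ D ⟶ (⊤_ D) ⨿ (⊤_ D)) z := by
  intro heq
  have hc : IsColimit (BinaryCofan.mk (F.map (coprod.inl : ⊤_ D ⟶ (⊤_ D) ⨿ (⊤_ D)))
      (F.map (coprod.inr : ⊤_ D ⟶ (⊤_ D) ⨿ (⊤_ D)))) :=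
    (isColimitMapCoconeBinaryCofanEquiv F _ _) (isColimitOfPreserves F (coprodIsCoprod _ _))
  let B : FintypeCat.{w} := FintypeCat.of (ULift.{w} Bool)
  let d0 : F.obj (⊤_ D) ⟶ B := FintypeCat.homMk fun _ => ⟨false⟩
  let d1 : F.obj (⊤_ D) ⟶ B := FintypeCat.homMk fun _ => ⟨true⟩
  let d := hc.desc (BinaryCofan.mk d0 d1)
  have h0 : F.map (coprod.inl : ⊤_ D ⟶ (⊤_ D) ⨿ (⊤_ D)) ≫ d = d0 := hc.fac _ ⟨WalkingPair.left⟩
  have h1 : F.map (coprod.inr : ⊤_ D ⟶ (⊤_ D) ⨿ (⊤_ D)) ≫ d = d1 := hc.fac _ ⟨WalkingPair.right⟩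
  have e0 : d (F.map (coprod.inl : ⊤_ D ⟶ (⊤_ D) ⨿ (⊤_ D)) y) = d0 y :=
    ConcreteCategory.congr_hom h0 y
  have e1 : d (F.map (coprod.inr : ⊤_ D ⟶ (⊤_ D) ⨿ (⊤_ D)) z) = d1 z :=
    ConcreteCategory.congr_hom h1 z
  rw [heq, e1] at e0
  exact Bool.noConfusion (congrArg ULift.down e0).symm

end Orbit

lemma orbit [hfull : H.Full] (X : C) (x : F'.obj (H.obj X)) (g : Aut (H ⋙ F')) :
    ∃ σ' : Aut F', σ'.hom.app (H.obj X) x = g.hom.app X x := by
  classical
  obtain ⟨pt⟩ := fiber_terminal_nonempty (H ⋙ F')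
  let T : C := (⊤_ C) ⨿ (⊤_ C)
  let p0 : F'.obj (H.obj T) := (H ⋙ F').map (coprod.inl : ⊤_ C ⟶ T) pt
  let p1 : F'.obj (H.obj T) := (H ⋙ F').map (coprod.inr : ⊤_ C ⟶ T) pt
  have hne : p0 ≠ p1 := inl_ne_inr (H ⋙ F') pt pt
  have hfix0 : ∀ σ : Aut (H ⋙ F'), σ.hom.app T p0 = p0 := fun σ => by
    have h1 : σ.hom.app T p0 = (H ⋙ F').map (coprod.inl : ⊤_ C ⟶ T) (σ.hom.app (⊤_ C) pt) :=
      (ConcreteCategory.congr_hom (σ.hom.naturality (coprod.inl : ⊤_ C ⟶ T)) pt)
    rw [h1]
    exact congrArg _ (fiber_terminal_subsingleton (H ⋙ F') _ _)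
  have hfix1 : ∀ σ : Aut (H ⋙ F'), σ.hom.app T p1 = p1 := fun σ => by
    have h1 : σ.hom.app T p1 = (H ⋙ F').map (coprod.inr : ⊤_ C ⟶ T) (σ.hom.app (⊤_ C) pt) :=
      (ConcreteCategory.congr_hom (σ.hom.naturality (coprod.inr : ⊤_ C ⟶ T)) pt)
    rw [h1]
    exact congrArg _ (fiber_terminal_subsingleton (H ⋙ F') _ _)
  let O : Set (F'.obj (H.obj X)) := {y | ∃ σ' : Aut F', σ'.hom.app (H.obj X) x = y}
  have hO : ∀ (σ' : Aut F') (y : F'.obj (H.obj X)), σ'.hom.app (H.obj X) y ∈ O ↔ y ∈ O := by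
    intro σ' y
    constructor
    · rintro ⟨τ, hτ⟩
      refine ⟨σ'⁻¹ * τ, ?_⟩
      change σ'.inv.app (H.obj X) (τ.hom.app (H.obj X) x) = y
      rw [hτ]
      exact ConcreteCategory.congr_hom (σ'.hom_inv_id_app (H.obj X)) y
    · rintro ⟨τ, rfl⟩
      exact ⟨σ' * τ, rfl⟩
  let χ : F'.obj (H.obj X) → F'.obj (H.obj T) := fun y => if y ∈ O then p0 else p1
  let φ : (functorToAction F').obj (H.obj X) ⟶ (functorToAction F').obj (H.obj T) :=
    { hom := FintypeCat.homMk χ
      comm := fun σ' => by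
        ext y
        change χ (σ'.hom.app (H.obj X) y) = σ'.hom.app (H.obj T) (χ y)
        by_cases hy : y ∈ O
        · have hy' : σ'.hom.app (H.obj X) y ∈ O := (hO σ' y).2 hy
          have e1 : χ y = p0 := if_pos hy
          have e2 : χ (σ'.hom.app (H.obj X) y) = p0 := if_pos hy'
          rw [e1, e2]
          exact (hfix0 (Pi1X.autWhisker H F' σ')).symm
        · have hy' : σ'.hom.app (H.obj X) y ∉ O := fun h => hy ((hO σ' y).1 h)
          have e1 : χ y = p1 := if_neg hy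
          have e2 : χ (σ'.hom.app (H.obj X) y) = p1 := if_neg hy'
          rw [e1, e2]
          exact (hfix1 (Pi1X.autWhisker H F' σ')).symm }
  obtain ⟨k, hk⟩ := (functorToAction F').map_surjective φ
  obtain ⟨f, rfl⟩ := H.map_surjective k
  have hχ : ∀ y, F'.map (H.map f) y = χ y := fun y =>
    ConcreteCategory.congr_hom (congrArg Action.Hom.hom hk) y
  have hnat := ConcreteCategory.congr_hom (g.hom.naturality f) x
  rw [FintypeCat.comp_apply, FintypeCat.comp_apply] at hnat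
  change g.hom.app T (F'.map (H.map f) x) = F'.map (H.map f) (g.hom.app X x) at hnat
  rw [hχ, hχ] at hnat
  have hx : x ∈ O := ⟨1, rfl⟩
  have h1 : χ x = p0 := if_pos hx
  rw [h1, hfix0] at hnat
  by_contra hcon
  have h2 : χ (g.hom.app X x) = p1 := if_neg hcon
  rw [h2] at hnat
  exact hne hnat


lemma surjective_of_full [H.Full] : Function.Surjective (Pi1X.autWhisker H F') := by
  intro g
  have hcl : IsClosed (Set.range (Pi1X.autWhisker H F')) :=
    (isCompact_range (continuous_autWhisker H F')).isClosed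
  suffices h : g ∈ closure (Set.range (Pi1X.autWhisker H F')) by
    rwa [hcl.closure_eq] at h
  rw [mem_closure_iff_nhds]
  intro t ht
  have h1 : (fun s => g * s) ⁻¹' t ∈ nhds (1 : Aut (H ⋙ F')) := by
    apply (continuous_const_mul g).continuousAt
    change t ∈ nhds (g * 1)
    rwa [mul_one]
  obtain ⟨A, -, hA⟩ := (nhds_one_has_basis_stabilizers (H ⋙ F')).mem_iff.1 h1
  obtain ⟨σ', hσ'⟩ := orbit H F' A.obj A.pt g
  refine ⟨Pi1X.autWhisker H F' σ', ?_, ⟨σ', rfl⟩⟩
  have h2 : g⁻¹ * Pi1X.autWhisker H F' σ' ∈ MulAction.stabilizer (Aut (H ⋙ F')) A.pt := by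
    rw [MulAction.mem_stabilizer_iff, mul_smul]
    have h3 : Pi1X.autWhisker H F' σ' • A.pt = g • A.pt := hσ'
    rw [h3, inv_smul_smul]
  have h4 := hA h2
  simpa using h4

theorem aux : Function.Surjective (Pi1X.autWhisker H F') ↔ (H.Full ∧ H.Faithful) := by
  constructor
  · intro hs
    exact ⟨full_of_surjective H F' hs, faithful_H H F'⟩
  · rintro ⟨h1, h2⟩
    exact surjective_of_full H F'

/-- Let H : C ⥤ C' be an exact functor between Galois categories and F' a fibre functor on C' such that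
F' ∘ H is a fibre functor on C; write h : π_1(C', F') → π_1(C, F' ∘ H) for the induced homomorphism
of fundamental groups. Then h is surjective if and only if H is fully faithful. -/
theorem result {C C' : Type u} [Category.{v} C] [Category.{v} C'] [GaloisCategory C] [GaloisCategory C']
    (H : C ⥤ C') [Limits.PreservesFiniteLimits H] [Limits.PreservesFiniteColimits H]
    (F' : C' ⥤ FintypeCat.{w}) [FiberFunctor F'] [FiberFunctor (H ⋙ F')] :
    Function.Surjective (Pi1X.autWhisker H F') ↔ (H.Full ∧ H.Faithful) := by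
  exact aux H F'

end Groth.Agent.S1187
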