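import Groth.Statements.S1189
import Mathlib.CategoryTheory.Galois.Decomposition
import Mathlib.CategoryTheory.Galois.Prorepresentability
-- import your own Groth.Agent.* helpers here

set_option autoImplicit false
universe u v w
open CategoryTheory PreGaloisCategory
open Pi1

namespace Groth.Agent.S1189

open CategoryTheory.Limits

variable {C : Type u} [Category.{v} C] [GaloisCategory C] (F : C ⥤ FintypeCat.{w}) [FiberFunctor F]

theorem subsingleton_fiber_terminal : Subsingleton (F.obj (⊤_ C)) := by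
  have hT : IsTerminal (F.obj (⊤_ C)) := terminalIsTerminal.isTerminalObj F _
  constructor
  intro x y
  let P : FintypeCat.{w} := FintypeCat.of PUnit
  let fx : P ⟶ F.obj (⊤_ C) := FintypeCat.homMk (fun _ => x)
  let fy : P ⟶ F.obj (⊤_ C) := FintypeCat.homMk (fun _ => y)
  have : fx = fy := hT.hom_ext _ _
  exact congrArg (fun g => g PUnit.unit) this

theorem app_eq_id_of_trivial (Y : C) (n : ℕ) (e : Y ≅ ∐ fun _ : Fin n => ⊤_ C) (σ : Aut F) :
    σ.hom.app Y = 𝟙 _ := by
  have hsub := subsingleton_fiber_terminal F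
  let Z : C := ∐ fun _ : Fin n => ⊤_ C
  have hZ : ∀ z : F.obj Z, σ.hom.app Z z = z := by
    intro z
    let c : Cofan (fun _ : Fin n => ⊤_ C) := Cofan.mk Z (Sigma.ι _)
    have hc : IsColimit c := coproductIsCoproduct _
    let s : Cocone (Discrete.functor (fun _ : Fin n => ⊤_ C) ⋙ F) := F.mapCocone c
    have s' : IsColimit s := isColimitOfPreserves F hc
    obtain ⟨⟨j⟩, t, ht⟩ := Concrete.isColimit_exists_rep _ s' z
    have ht' : F.map (Sigma.ι (fun _ : Fin n => ⊤_ C) j) t = z := ht
    rw [← ht']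
    have := congrArg (fun g => g t) (σ.hom.naturality (Sigma.ι (fun _ : Fin n => ⊤_ C) j))
    simp only [FintypeCat.comp_apply] at this
    rw [this]
    congr 1
    exact Subsingleton.elim _ _
  ext y
  have h1 := congrArg (fun g => g y) (σ.hom.naturality e.hom)
  simp only [FintypeCat.comp_apply] at h1
  rw [hZ] at h1
  have h3 : ∀ w : F.obj Y, F.map e.inv (F.map e.hom w) = w := by
    intro w
    rw [← FintypeCat.comp_apply, ← F.map_comp, e.hom_inv_id, F.map_id]
    rfl
  have h2 : F.map e.inv (F.map e.hom (σ.hom.app Y y)) = F.map e.inv (F.map e.hom y) := by rw [h1]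
  rw [h3, h3] at h2
  exact h2

open ConcreteCategory in
theorem exists_trivial_of_app_eq_id (Y : C) (h : ∀ σ : Aut F, σ.hom.app Y = 𝟙 _) :
    ∃ n : ℕ, Nonempty (Y ≅ ∐ fun _ : Fin n => ⊤_ C) := by
  obtain ⟨ι, hι, f, e, hc⟩ := has_decomp_connected_components' Y
  have hiso : ∀ i, IsIso (terminal.from (f i)) := by
    intro i
    have := hc i
    let g : f i ⟶ Y := Sigma.ι f i ≫ e.hom
    have hg : Mono g := mono_comp _ _
    have hinj : Function.Injective (F.map g) := injective_of_mono_of_preservesPullback (F.map g)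
    have hsub : Subsingleton (F.obj (f i)) := by
      constructor
      intro a b
      obtain ⟨σ, (hσ : σ.hom.app (f i) a = b)⟩ := MulAction.exists_smul_eq (Aut F) a b
      apply hinj
      rw [← hσ]
      have := congrArg (fun k => k a) (σ.hom.naturality g)
      simp only [FintypeCat.comp_apply] at this
      rw [← this, h σ]
      rfl
    have hne : Nonempty (F.obj (f i)) := nonempty_fiber_of_isConnected F (f i)
    have hsubT := subsingleton_fiber_terminal F
    have : IsIso (F.map (terminal.from (f i))) := by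
      apply (ConcreteCategory.isIso_iff_bijective (F.map (terminal.from (f i)))).mpr
      refine ⟨fun a b _ => Subsingleton.elim a b, fun t => ?_⟩
      obtain ⟨a⟩ := hne
      exact ⟨a, Subsingleton.elim _ _⟩
    exact isIso_of_reflects_iso _ F
  obtain ⟨n, ⟨eq⟩⟩ := Finite.exists_equiv_fin ι
  refine ⟨n, ⟨e.symm ≪≫ Sigma.whiskerEquiv eq (fun i => ?_)⟩⟩
  have := hiso i
  exact (asIso (terminal.from (f i))).symm

theorem aux {C C' C'' : Type u} [Category.{v} C] [Category.{v} C'] [Category.{v} C'']
    [GaloisCategory C] [GaloisCategory C'] [GaloisCategory C'']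
    (H : C ⥤ C') (H' : C' ⥤ C'')
    (F'' : C'' ⥤ FintypeCat.{w}) [FiberFunctor F''] :
    (∀ σ : Aut F'', Pi1X.autWhisker H (H' ⋙ F'') (Pi1X.autWhisker H' F'' σ) = 1) ↔
      ∀ X : C, ∃ n : ℕ, Nonempty (H'.obj (H.obj X) ≅ ∐ fun _ : Fin n => ⊤_ C'') := by
  constructor
  · intro h X
    apply exists_trivial_of_app_eq_id F''
    intro σ
    have := congrArg (fun τ : Aut (H ⋙ (H' ⋙ F'')) => τ.hom.app X) (h σ)
    exact this
  · intro h σ
    apply Iso.ext
    ext X : 2
    obtain ⟨n, ⟨e⟩⟩ := h X
    exact app_eq_id_of_trivial F'' _ n e σ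

/-- Let H : C ⥤ C' and H' : C' ⥤ C'' be exact functors between Galois categories and F'' a fibre functor
on C'' such that F'' ∘ H' and F'' ∘ H' ∘ H are fibre functors; let h' : π_1(C'', F'') → π_1(C', F''
∘ H') and h : π_1(C', F'' ∘ H') → π_1(C, F'' ∘ H' ∘ H) be the induced homomorphisms. Then h ∘ h' is
trivial if and only if for every object X of C the object H'(H(X)) is isomorphic to a finite
coproduct of copies of the final object. -/
theorem result {C C' C'' : Type u} [Category.{v} C] [Category.{v} C'] [Category.{v} C'']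
    [GaloisCategory C] [GaloisCategory C'] [GaloisCategory C'']
    (H : C ⥤ C') [Limits.PreservesFiniteLimits H] [Limits.PreservesFiniteColimits H]
    (H' : C' ⥤ C'') [Limits.PreservesFiniteLimits H'] [Limits.PreservesFiniteColimits H']
    (F'' : C'' ⥤ FintypeCat.{w}) [FiberFunctor F''] [FiberFunctor (H' ⋙ F'')] [FiberFunctor (H ⋙ (H' ⋙ F''))] :
    (∀ σ : Aut F'', Pi1X.autWhisker H (H' ⋙ F'') (Pi1X.autWhisker H' F'' σ) = 1) ↔
      ∀ X : C, ∃ n : ℕ, Nonempty (H'.obj (H.obj X) ≅ ∐ fun _ : Fin n => ⊤_ C'') := by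
  exact aux H H' F''

end Groth.Agent.S1189
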