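import Groth.Statements.S1783
import Groth.Agent.Lib.Helper8.FBC10
import Groth.Agent.Lib.Helper8.RMod5
import Groth.Agent.Lib.Helper8.RFin3
import Groth.Agent.Lib.Helper11.LDer5

set_option autoImplicit false
universe u
open CategoryTheory
attribute [local instance] HasDerivedCategory.standard
open Dual2

namespace Groth.Agent.S1783
open CategoryTheory Abelian DerivedCategory Pretriangulated Limits TensorProduct
attribute [local instance] HasDerivedCategory.standard


theorem subsingleton_H0_rightAdjoint {A B : Type u} [CommRing A] [CommRing B] [Algebra A B]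
    (R : Dual.D A ⥤ Dual.D B) (adj : DRing.restrictD (algebraMap A B) ⊣ R) (K : Dual.D A)
    [K.IsGE 1] :
    IsZero ((homologyFunctor (ModuleCat.{u} B) 0).obj (R.obj K)) := by
  classical
  let φ : A →+* B := algebraMap A B
  let F := DRing.restrictD φ
  have hRadd : R.Additive := adj.right_adjoint_additive
  let PB : ModuleCat.{u} B := ModuleCat.of B B
  let XB : Dual.D B := (singleFunctor (ModuleCat.{u} B) 0).obj PB
  let εF : F.obj XB ≅ (singleFunctor (ModuleCat.{u} A) 0).obj
      ((ModuleCat.restrictScalars.{u} φ).obj PB) :=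
    ((ModuleCat.restrictScalars.{u} φ).mapDerivedCategorySingleFunctor 0).app PB
  have hle : (F.obj XB).IsLE 0 := TStructure.t.isLE_of_iso εF.symm 0
  have hzero : ∀ g : F.obj XB ⟶ K, g = 0 := fun g =>
    TStructure.t.zero g 0 1 (by norm_num)
  have key : ∀ y : (homologyFunctor (ModuleCat.{u} B) 0).obj (R.obj K), y = 0 := by
    intro y
    have hb := Groth.Agent.Helper11.DC.psi_bijective PB (R.obj K)
    obtain ⟨g₀, hg₀⟩ := hb.2 ((Groth.Agent.Helper11.DC.iota PB).hom ≫
      ModuleCat.ofHom (LinearMap.toSpanSingleton B _ y))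
    have hg₀' : (homologyFunctor (ModuleCat.{u} B) 0).map g₀ =
        (Groth.Agent.Helper11.DC.iota PB).hom ≫
          ModuleCat.ofHom (LinearMap.toSpanSingleton B _ y) := hg₀
    have h0 : g₀ = 0 := by
      have h1 : (adj.homEquiv XB K).symm g₀ = 0 := hzero _
      have h2 : g₀ = adj.homEquiv XB K ((adj.homEquiv XB K).symm g₀) :=
        (Equiv.apply_symm_apply _ _).symm
      rw [h2, h1, Adjunction.homEquiv_unit, Functor.map_zero, Limits.comp_zero]
    rw [h0, Functor.map_zero] at hg₀'
    have h3 : ModuleCat.ofHom (LinearMap.toSpanSingleton B _ y) = 0 := by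
      rw [← cancel_epi (Groth.Agent.Helper11.DC.iota PB).hom, ← hg₀', Limits.comp_zero]
    have h4 : (LinearMap.toSpanSingleton B _ y) (1 : B) = 0 := by
      have := congrArg (fun f => f.hom (1 : B)) h3
      exact this
    rw [LinearMap.toSpanSingleton_apply, one_smul] at h4
    exact h4
  have hsub : Subsingleton ((homologyFunctor (ModuleCat.{u} B) 0).obj (R.obj K)) :=
    ⟨fun y y' => by rw [key y, key y']⟩
  exact ModuleCat.isZero_of_subsingleton _

theorem isZero_HD_rightAdjoint {A B : Type u} [CommRing A] [CommRing B] [Algebra A B]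
    (R : Dual.D A ⥤ Dual.D B) (adj : DRing.restrictD (algebraMap A B) ⊣ R) (K : Dual.D A) (a : ℤ)
    (hKa : ∀ j : ℤ, j < a → IsZero ((homologyFunctor (ModuleCat.{u} A) j).obj K)) (i : ℤ)
    (hi : i < a) :
    IsZero ((homologyFunctor (ModuleCat.{u} B) i).obj (R.obj K)) := by
  have hge : (K⟦i⟧).IsGE 1 := by
    rw [isGE_iff]
    intro j hj
    exact (hKa (i + j) (by omega)).of_iso (Groth.Agent.Helper8.RFin.sigma' K i j (i + j) rfl)
  have h0 := subsingleton_H0_rightAdjoint R adj (K⟦i⟧)
  let ρ : R.obj (K⟦i⟧) ≅ (R.obj K)⟦i⟧ := (Adjunction.RightAdjointCommShift.iso adj i).app K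
  let e1 : (homologyFunctor (ModuleCat.{u} B) 0).obj (R.obj (K⟦i⟧)) ≅
      (homologyFunctor (ModuleCat.{u} B) 0).obj ((R.obj K)⟦i⟧) :=
    (homologyFunctor (ModuleCat.{u} B) 0).mapIso ρ
  let e2 := Groth.Agent.Helper11.DC.sigma (R.obj K) i
  exact h0.of_iso (e1 ≪≫ e2).symm


/-- Let R → A be a ring map of finite type between Noetherian rings, where φ^!(K) is formed from a
presentation ψ : R[x_1, …, x_n] → A as RHom_P(A, K ⊗^L_R P)[n], assuming the derived base change to
P exists and taking for RHom_P(A, −) a right adjoint of restriction of scalars along ψ. If K in D(R)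
has vanishing cohomology below some degree, then so does φ^!(K); if moreover all cohomology modules
of K are finite R-modules, then all cohomology modules of φ^!(K) are finite A-modules. -/
theorem result (R A : Type u) [CommRing R] [CommRing A] [IsNoetherianRing R] [IsNoetherianRing A] [Algebra R A] (n : ℕ) (ψ : MvPolynomial (Fin n) R →ₐ[R] A) (hψ : Function.Surjective ψ) [DRing.HasLBaseChange (algebraMap R (MvPolynomial (Fin n) R))] (Rψ : Dual.D (MvPolynomial (Fin n) R) ⥤ Dual.D A) (adj : DRing.restrictD ψ.toRingHom ⊣ Rψ) (K : Dual.D R) (a : ℤ) (hKa : ∀ i : ℤ, i < a → Subsingleton (Dual.HD R K i)) : (∃ b : ℤ, ∀ i : ℤ, i < b → Subsingleton (Dual.HD A (Dual2.shriekVia n Rψ K) i)) ∧ ((∀ i : ℤ, Module.Finite R (Dual.HD R K i)) → ∀ i : ℤ, Module.Finite A (Dual.HD A (Dual2.shriekVia n Rψ K) i)) := by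
  haveI := Groth.Agent.Helper8.FBC.preservesFiniteLimits_Efun_of_flat (A := R)
    (MvPolynomial (Fin n) R)
  obtain ⟨e⟩ := Groth.Agent.Helper11.LDer.nonempty_totalLeftDerived_iso_of_exact
    (Groth.Agent.Helper8.LOC.Efun (algebraMap R (MvPolynomial (Fin n) R)))
  letI : Algebra (MvPolynomial (Fin n) R) A := ψ.toRingHom.toAlgebra
  haveI : Module.Finite (MvPolynomial (Fin n) R) A :=
    Module.Finite.of_surjective (Algebra.linearMap (MvPolynomial (Fin n) R) A) hψ
  have hLa : ∀ j : ℤ, j < a → IsZero ((homologyFunctor (ModuleCat.{u} (MvPolynomial (Fin n) R)) j).obj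
      ((DRing.LBaseChange (algebraMap R (MvPolynomial (Fin n) R))).obj K)) := by
    intro j hj
    have h1 : IsZero ((homologyFunctor (ModuleCat.{u} R) j).obj K) :=
      @ModuleCat.isZero_of_subsingleton _ _ _ (hKa j hj)
    exact (Groth.Agent.Helper8.LOC.isZero_homology_Ld (MvPolynomial (Fin n) R) K j h1).of_iso
      ((homologyFunctor (ModuleCat.{u} (MvPolynomial (Fin n) R)) j).mapIso (e.app K))
  refine ⟨⟨a - n, fun i hi => ?_⟩, fun hfin i => ?_⟩
  · have h1 := isZero_HD_rightAdjoint Rψ adj
      ((DRing.LBaseChange (algebraMap R (MvPolynomial (Fin n) R))).obj K) a hLa ((n : ℤ) + i)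
      (by omega)
    exact ModuleCat.subsingleton_of_isZero (h1.of_iso
      (Groth.Agent.Helper8.RFin.sigma' _ (n : ℤ) i ((n : ℤ) + i) rfl))
  · have hLfin : ∀ j : ℤ, Module.Finite (MvPolynomial (Fin n) R)
        ((homologyFunctor (ModuleCat.{u} (MvPolynomial (Fin n) R)) j).obj
        ((DRing.LBaseChange (algebraMap R (MvPolynomial (Fin n) R))).obj K)) := by
      intro j
      haveI := hfin j
      have h2 : Module.Finite (MvPolynomial (Fin n) R)
          ((MvPolynomial (Fin n) R) ⊗[R] (Dual.HD R K j)) := inferInstance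
      have h3 : Module.Finite (MvPolynomial (Fin n) R)
          ((homologyFunctor (ModuleCat.{u} (MvPolynomial (Fin n) R)) j).obj
            ((Groth.Agent.Helper8.LOC.Ld (algebraMap R (MvPolynomial (Fin n) R))).obj K)) :=
        Module.Finite.equiv (Groth.Agent.Helper8.FBC.homologyLdEquiv (MvPolynomial (Fin n) R) K j).symm
      exact Module.Finite.equiv
        ((homologyFunctor (ModuleCat.{u} (MvPolynomial (Fin n) R)) j).mapIso (e.app K)).symm.toLinearEquiv
    have h1 := Groth.Agent.Helper8.RFin.finite_HD_rightAdjoint Rψ adj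
      ((DRing.LBaseChange (algebraMap R (MvPolynomial (Fin n) R))).obj K) a hLa hLfin ((n : ℤ) + i)
    exact Module.Finite.equiv
      (Groth.Agent.Helper8.RFin.sigma' _ (n : ℤ) i ((n : ℤ) + i) rfl).symm.toLinearEquiv

end Groth.Agent.S1783
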