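import Groth.Statements.S1807
import Groth.Agent.Lib.Helper8.ShF4
import Groth.Agent.Lib.Helper11.Shr5
import Groth.Agent.Lib.Helper3.KP2

set_option autoImplicit false
universe u
open CategoryTheory
open scoped TensorProduct
attribute [local instance] HasDerivedCategory.standard
open Dual2

namespace Groth.Agent.S1807


/-- For φ flat (a flat ring map of finite type is perfect and tor independent of any R'). Let R → A be a
ring map between Noetherian rings which is flat and of finite type, R → R' a homomorphism of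
Noetherian rings, and A' = R' ⊗_R A with the induced map R' → A'; each upper shriek φ^!(K) is formed
from a presentation ψ : P = (base)[x_1, …, x_n] → (target) as RHom_P(target, K ⊗^L P)[n], the
derived base change functors being assumed to exist and RHom_P(target, −) being given as a right
adjoint of restriction of scalars. Assuming also the derived base change functors D(A) → D(A') and
D(R) → D(R') exist, for every K in D(R) the base change to A' of the upper shriek of K along R → A
is isomorphic to the upper shriek along R' → A' of the base change of K to R'. -/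
theorem result (R R' A : Type u) [CommRing R] [CommRing R'] [CommRing A] [IsNoetherianRing R] [IsNoetherianRing R'] [IsNoetherianRing A] [Algebra R R'] [Algebra R A] [Module.Flat R A] [IsNoetherianRing (R' ⊗[R] A)] (n : ℕ) (ψ : MvPolynomial (Fin n) R →ₐ[R] A) (hψ : Function.Surjective ψ) [DRing.HasLBaseChange (algebraMap R (MvPolynomial (Fin n) R))] (Rψ : Dual.D (MvPolynomial (Fin n) R) ⥤ Dual.D A) (adj : DRing.restrictD ψ.toRingHom ⊣ Rψ) (m : ℕ) (ψ' : MvPolynomial (Fin m) R' →ₐ[R'] (R' ⊗[R] A)) (hψ' : Function.Surjective ψ') [DRing.HasLBaseChange (algebraMap R' (MvPolynomial (Fin m) R'))] (Rψ' : Dual.D (MvPolynomial (Fin m) R') ⥤ Dual.D (R' ⊗[R] A)) (adj' : DRing.restrictD ψ'.toRingHom ⊣ Rψ') [DRing.HasLBaseChange (Algebra.TensorProduct.includeRight : A →ₐ[R] R' ⊗[R] A).toRingHom] [DRing.HasLBaseChange (algebraMap R R')] (K : Dual.D R) : Nonempty ((DRing.LBaseChange (Algebra.TensorProduct.includeRight : A →ₐ[R] R' ⊗[R] A).toRingHom).obj (Dual2.shriekVia n Rψ K) ≅ Dual2.shriekVia m Rψ' ((DRing.LBaseChange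 (algebraMap R R')).obj K)) := by
  classical
  letI : Algebra (MvPolynomial (Fin n) R) (MvPolynomial (Fin n) R') :=
    MvPolynomial.algebraMvPolynomial
  haveI hβ : DRing.HasLBaseChange
      (algebraMap (MvPolynomial (Fin n) R) (MvPolynomial (Fin n) R')) :=
    Groth.Agent.Helper3.KP.hasLeftDerivedFunctor _
  haveI hγ : DRing.HasLBaseChange (algebraMap R' (MvPolynomial (Fin n) R')) :=
    Groth.Agent.Helper3.KP.hasLeftDerivedFunctor _
  obtain ⟨Rψ₁, ⟨adj₁⟩⟩ := Groth.Agent.Helper11.Shr.exists_rightAdj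
    (Groth.Agent.Helper11.Shr.psiBC (R' := R') ψ).toRingHom
  obtain ⟨i1⟩ := Groth.Agent.Helper8.ShF.nonempty_baseChange_rightAdj_of_flat R R' A n ψ hψ Rψ adj
    Rψ₁ adj₁ ((DRing.LBaseChange (algebraMap R (MvPolynomial (Fin n) R))).obj K)
  have hsq : (algebraMap (MvPolynomial (Fin n) R) (MvPolynomial (Fin n) R')).comp
      (algebraMap R (MvPolynomial (Fin n) R)) =
      (algebraMap R' (MvPolynomial (Fin n) R')).comp (algebraMap R R') := by
    rw [← IsScalarTower.algebraMap_eq, ← IsScalarTower.algebraMap_eq]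
  let adjL := ((Groth.Agent.Helper3.KP.adjD (algebraMap R (MvPolynomial (Fin n) R))).comp
    (Groth.Agent.Helper3.KP.adjD
      (algebraMap (MvPolynomial (Fin n) R) (MvPolynomial (Fin n) R')))).ofNatIsoRight
    (TrivBC.resComm hsq)
  let adjR := (Groth.Agent.Helper3.KP.adjD (algebraMap R R')).comp
    (Groth.Agent.Helper3.KP.adjD (algebraMap R' (MvPolynomial (Fin n) R')))
  let i2 := (adjL.leftAdjointUniq adjR).app K
  let i3 := (CategoryTheory.Adjunction.LeftAdjointCommShift.iso
    (Groth.Agent.Helper3.KP.adjD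
      (Algebra.TensorProduct.includeRight : A →ₐ[R] R' ⊗[R] A).toRingHom) (n : ℤ)).app
    (Rψ.obj ((DRing.LBaseChange (algebraMap R (MvPolynomial (Fin n) R))).obj K))
  obtain ⟨i4⟩ := Groth.Agent.Helper11.Shr.shriekVia_indep n
    (Groth.Agent.Helper11.Shr.psiBC (R' := R') ψ)
    (Groth.Agent.Helper11.Shr.psiBC_surjective ψ hψ) Rψ₁ adj₁ m ψ' hψ' Rψ' adj'
    ((DRing.LBaseChange (algebraMap R R')).obj K)
  exact ⟨i3 ≪≫ (CategoryTheory.shiftFunctor _ (n : ℤ)).mapIso (i1 ≪≫ Rψ₁.mapIso i2) ≪≫ i4⟩

end Groth.Agent.S1807
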