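import Groth.Statements.S1801
import Groth.Agent.Lib.Helper8.ShG2
import Groth.Agent.Lib.Helper8.ShG3
import Groth.Agent.Lib.Helper8.ShG4
import Groth.Agent.Lib.Helper8.ShG5
import Groth.Agent.Lib.Helper8.ShG6
import Groth.Agent.Lib.Helper8.DualMod3
import Groth.Agent.Lib.Helper11.Shr11
import Groth.Agent.Lib.Helper3.KP2
import Groth.Agent.S1783
import Groth.Agent.S1782
import Groth.Agent.S1807
import Mathlib.RingTheory.SimpleModule.InjectiveProjective

set_option autoImplicit false
universe u
open CategoryTheory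
open scoped TensorProduct
attribute [local instance] HasDerivedCategory.standard
open Dual2

namespace Groth.Agent.S1801

/-- Flat case (part (2) with (1)(a)–(c) and (2)(b)). Let R → A be a ring map between Noetherian rings
which is flat and of finite type, where φ^!(K) is formed from a presentation ψ : R[x_1, …, x_n] → A
as RHom_P(A, K ⊗^L_R P)[n], assuming the derived base change to P exists and taking for RHom_P(A, −)
a right adjoint of restriction of scalars along ψ; put ω = φ^!(R). Then: (a) ω has finitely many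
nonzero cohomology modules, all finite over A; (b) after restriction of scalars to R, ω is
isomorphic to a bounded complex of flat R-modules (finite tor dimension over R); (c) a ↦ a·id is a
bijection A → End(ω) and ω has no self-maps of nonzero degree; (d) for every ring map R → k to a
field, assuming the derived base change D(A) → D(k ⊗_R A) exists, the base change of ω is a
dualizing complex for k ⊗_R A. -/
theorem result (R A : Type u) [CommRing R] [CommRing A] [IsNoetherianRing R] [IsNoetherianRing A] [Algebra R A] [Module.Flat R A] (n : ℕ) (ψ : MvPolynomial (Fin n) R →ₐ[R] A) (hψ : Function.Surjective ψ) [DRing.HasLBaseChange (algebraMap R (MvPolynomial (Fin n) R))] (Rψ : Dual.D (MvPolynomial (Fin n) R) ⥤ Dual.D A) (adj : DRing.restrictD ψ.toRingHom ⊣ Rψ) : (∃ a b : ℤ, ∀ i : ℤ, (i < a ∨ b < i) → Subsingleton (Dual.HD A (Dual2.shriekVia n Rψ (Dual.inD R R)) i)) ∧ (∀ i : ℤ, Module.Finite A (Dual.HD A (Dual2.shriekVia n Rψ (Dual.inD R R)) i)) ∧ DRing.HasFiniteTorDimCx R ((DRing.restrictD (algebraMap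 R A)).obj (Dual2.shriekVia n Rψ (Dual.inD R R))) ∧ (Function.Bijective (fun a : A => a • CategoryTheory.CategoryStruct.id (Dual2.shriekVia n Rψ (Dual.inD R R))) ∧ ∀ i : ℤ, i ≠ 0 → Subsingleton (Dual2.shriekVia n Rψ (Dual.inD R R) ⟶ (Dual2.shriekVia n Rψ (Dual.inD R R))⟦i⟧)) ∧ ∀ (k : Type u) [Field k] [Algebra R k] [DRing.HasLBaseChange (Algebra.TensorProduct.includeRight : A →ₐ[R] k ⊗[R] A).toRingHom], Dual.IsDualizing (k ⊗[R] A) ((DRing.LBaseChange (Algebra.TensorProduct.includeRight : A →ₐ[R] k ⊗[R] A).toRingHom).obj (Dual2.shriekVia n Rψ (Dual.inD R R))) := by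
  classical
  letI algPA : Algebra (MvPolynomial (Fin n) R) A := ψ.toRingHom.toAlgebra
  haveI t1 : IsScalarTower R (MvPolynomial (Fin n) R) A :=
    IsScalarTower.of_algebraMap_eq (fun r => (ψ.commutes r).symm)
  haveI : Module.Finite (MvPolynomial (Fin n) R) A :=
    Module.Finite.of_surjective (Algebra.linearMap (MvPolynomial (Fin n) R) A) hψ
  obtain ⟨ι⟩ := Groth.Agent.Helper8.ShG.nonempty_LBaseChange_unit_iso R (MvPolynomial (Fin n) R)
  have hperf := Groth.Agent.Helper8.ShF.isPerfectModule_of_flat R n A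
  have hres := Groth.Agent.Helper8.ShG.isPerfect_res_rightAdj hperf Rψ adj _ ι
  obtain ⟨d, hd⟩ := Groth.Agent.Helper8.ShG.exists_pdLT_of_flat R n A
  have hE := Groth.Agent.Helper8.ShG.end_R_unit Rψ adj d hd _ ι
  refine ⟨?_, ?_, ?_, ⟨?_, ?_⟩, ?_⟩
  · exact Groth.Agent.Helper8.ShG.bounded_HD_shift_of_isPerfect_res _ hres (n : ℤ)
  · refine (Groth.Agent.S1783.result R A n ψ hψ Rψ adj (Dual.inD R R) 0 (fun i hi => ?_)).2
      (fun i => Groth.Agent.Helper8.DualMod.finite_HD_inD R R i)
    exact ModuleCat.subsingleton_of_isZero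
      (DerivedCategory.isZero_of_isGE (Dual.inD R R) 0 i hi)
  · exact Groth.Agent.Helper8.ShG.hasFiniteTorDimCx_res_shift R _ hres (n : ℤ)
  · exact Groth.Agent.Helper8.ShG.toEnd_bijective_shift _ (n : ℤ) hE.1
  · intro i hi
    refine ⟨fun f g => ?_⟩
    rw [Groth.Agent.Helper8.ShG.ext_self_eq_zero_shift _ (n : ℤ) i (hE.2 i hi) f,
      Groth.Agent.Helper8.ShG.ext_self_eq_zero_shift _ (n : ℤ) i (hE.2 i hi) g]
  · intro k _ _ _
    haveI : DRing.HasLBaseChange (algebraMap k (MvPolynomial (Fin n) k)) :=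
      Groth.Agent.Helper3.KP.hasLeftDerivedFunctor _
    haveI : DRing.HasLBaseChange (algebraMap R k) :=
      Groth.Agent.Helper3.KP.hasLeftDerivedFunctor _
    have hψ' : Function.Surjective (Groth.Agent.Helper11.Shr.psiBC (R' := k) ψ) :=
      Groth.Agent.Helper11.Shr.psiBC_surjective ψ hψ
    haveI : IsNoetherianRing (k ⊗[R] A) :=
      isNoetherianRing_of_surjective _ _ (Groth.Agent.Helper11.Shr.psiBC (R' := k) ψ).toRingHom hψ'
    obtain ⟨Rψ', ⟨adj'⟩⟩ := Groth.Agent.Helper11.Shr.exists_rightAdj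
      (Groth.Agent.Helper11.Shr.psiBC (R' := k) ψ).toRingHom
    obtain ⟨i1⟩ := Groth.Agent.S1807.result R k A n ψ hψ Rψ adj n
      (Groth.Agent.Helper11.Shr.psiBC (R' := k) ψ) hψ' Rψ' adj' (Dual.inD R R)
    obtain ⟨i2⟩ := Groth.Agent.Helper8.ShG.nonempty_LBaseChange_unit_iso R k
    have hk : Dual.IsDualizing k (Dual.inD k k) := by
      refine Groth.Agent.Helper8.DualMod.isDualizing_inD_self_of_hasInjectiveDimensionLT k 1 ?_
      haveI : Module.Injective k k := Module.injective_of_isSemisimpleRing k k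
      haveI : CategoryTheory.Injective (ModuleCat.of k k) :=
        (Module.injective_iff_injective_object k k).mp inferInstance
      exact CategoryTheory.injective_iff_hasInjectiveDimensionLT_one.mp inferInstance
    have h2 := Groth.Agent.S1782.result k (k ⊗[R] A) n (Groth.Agent.Helper11.Shr.psiBC (R' := k) ψ)
      hψ' Rψ' adj' (Dual.inD k k) hk
    refine Groth.Agent.Helper8.FLD.isDualizing_of_iso ?_ h2
    exact ((CategoryTheory.shiftFunctor _ (n : ℤ)).mapIso (Rψ'.mapIso
      ((DRing.LBaseChange (algebraMap k (MvPolynomial (Fin n) k))).mapIso i2.symm))) ≪≫ i1.symm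

end Groth.Agent.S1801
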