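import Groth.Statements.S1786
import Groth.Agent.Lib.Helper8.GF3
import Groth.Agent.Lib.Helper8.GF4
import Groth.Agent.Lib.Helper8.GF5
import Groth.Agent.Lib.Helper8.GF6
import Groth.Agent.Lib.Helper12.GorField
import Groth.Agent.S1801

set_option autoImplicit false
universe u
open CategoryTheory
attribute [local instance] HasDerivedCategory.standard
open scoped TensorProduct
open Dual2

namespace Groth.Agent.S1786

/-- Let R → A be a ring map between Noetherian rings which is flat and of finite type, presented as a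
surjection ψ : P = R[x_1, …, x_n] → A. For K in D(R) form φ^!(K) = RHom_P(A, K ⊗^L_R P)[n], where
the derived base change D(R) → D(P) is assumed to exist and RHom_P(A, −) : D(P) → D(A) is taken to
be a right adjoint of restriction of scalars along ψ, and put ω_{A/R} = φ^!(R); assume also that the
derived base change functors D(A) → D(A_f) exist for all f ∈ A. Then all fibre rings A ⊗_R κ(p), for
p a prime of R, are Gorenstein if and only if ω_{A/R} is invertible in the following sense: for
every prime q of A there are f ∈ A with f ∉ q and an integer m such that ω_{A/R} ⊗^L_A A_f ≅ A_f[m]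
in D(A_f). -/
theorem result (R A : Type u) [CommRing R] [CommRing A] [IsNoetherianRing R] [IsNoetherianRing A] [Algebra R A] (n : ℕ) (ψ : MvPolynomial (Fin n) R →ₐ[R] A) (hψ : Function.Surjective ψ) [DRing.HasLBaseChange (algebraMap R (MvPolynomial (Fin n) R))] (Rψ : Dual.D (MvPolynomial (Fin n) R) ⥤ Dual.D A) (adj : DRing.restrictD ψ.toRingHom ⊣ Rψ) [Module.Flat R A] [hL : ∀ f : A, DRing.HasLBaseChange (algebraMap A (Localization.Away f))] : (∀ p : PrimeSpectrum R, LocCoh.IsGorensteinRing (A ⊗[R] p.asIdeal.ResidueField)) ↔ (∀ q : PrimeSpectrum A, ∃ (f : A) (_ : f ∉ q.asIdeal) (m : ℤ), Nonempty ((DRing.LBaseChange (algebraMap A (Localization.Away f))).obj (Dual2.shriekVia n Rψ (Dual.inD R R)) ≅ (Dual.inD (Localization.Away f) (Localization.Away f))⟦m⟧)) := by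
  classical
  obtain ⟨⟨a, b, hab⟩, hfin, -, -, hd⟩ := Groth.Agent.S1801.result R A n ψ hψ Rψ adj
  constructor
  · intro hG q
    haveI hk : DRing.HasLBaseChange (Algebra.TensorProduct.includeRight :
        A →ₐ[R] (Groth.Agent.Helper8.GF.pbelow R q.asIdeal).ResidueField ⊗[R] A).toRingHom :=
      Groth.Agent.Helper3.KP.hasLeftDerivedFunctor _
    have hdual := hd (Groth.Agent.Helper8.GF.pbelow R q.asIdeal).ResidueField
    have h1 : LocCoh.IsGorensteinRing
        (A ⊗[R] (Groth.Agent.Helper8.GF.pbelow R q.asIdeal).ResidueField) :=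
      hG ⟨Groth.Agent.Helper8.GF.pbelow R q.asIdeal, inferInstance⟩
    have h2 : LocCoh.IsGorensteinRing
        ((Groth.Agent.Helper8.GF.pbelow R q.asIdeal).ResidueField ⊗[R] A) :=
      Groth.Agent.Helper12.GorField.isGorensteinRing_of_ringEquiv
        (Algebra.TensorProduct.comm R A
          (Groth.Agent.Helper8.GF.pbelow R q.asIdeal).ResidueField).toRingEquiv h1
    have hGor := h2.isGorensteinLocalRing_localization (Groth.Agent.Helper8.GF.qfib R q.asIdeal)
    haveI : DRing.HasLBaseChange (algebraMap A (Localization.AtPrime q.asIdeal)) :=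
      Groth.Agent.Helper3.KP.hasLeftDerivedFunctor _
    obtain ⟨m, ⟨e⟩⟩ := Groth.Agent.Helper8.GF.exists_iso_shift_of_gorenstein_fibre
      (Dual2.shriekVia n Rψ (Dual.inD R R)) hfin ⟨b, fun i hi => hab i (Or.inr hi)⟩ q.asIdeal
      (Algebra.TensorProduct.includeRight :
        A →ₐ[R] (Groth.Agent.Helper8.GF.pbelow R q.asIdeal).ResidueField ⊗[R] A).toRingHom
      hdual (Groth.Agent.Helper8.GF.qfib R q.asIdeal) hGor
      (Groth.Agent.Helper8.GF.rho R q.asIdeal) (Groth.Agent.Helper8.GF.rho_comp R q.asIdeal)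
    obtain ⟨f, hf, ⟨e'⟩⟩ := Groth.Agent.Helper8.GF.exists_away_iso_shift
      (Dual2.shriekVia n Rψ (Dual.inD R R)) hfin ⟨a, b, hab⟩ q.asIdeal m e
    exact ⟨f, hf, m, ⟨e'⟩⟩
  · intro H p
    haveI hk : DRing.HasLBaseChange (Algebra.TensorProduct.includeRight :
        A →ₐ[R] p.asIdeal.ResidueField ⊗[R] A).toRingHom :=
      Groth.Agent.Helper3.KP.hasLeftDerivedFunctor _
    have hdual := hd p.asIdeal.ResidueField
    haveI : IsNoetherianRing (p.asIdeal.ResidueField ⊗[R] A) := hdual.isNoetherianRing
    have h2 : LocCoh.IsGorensteinRing (p.asIdeal.ResidueField ⊗[R] A) :=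
      { isGorensteinLocalRing_localization := fun q' _ => by
          obtain ⟨f, hf, m, ⟨e⟩⟩ := H ⟨q'.comap (Algebra.TensorProduct.includeRight :
            A →ₐ[R] p.asIdeal.ResidueField ⊗[R] A).toRingHom, inferInstance⟩
          exact Groth.Agent.Helper8.GF.isGorensteinLocalRing_of_invertible
            (Dual2.shriekVia n Rψ (Dual.inD R R))
            (Algebra.TensorProduct.includeRight :
              A →ₐ[R] p.asIdeal.ResidueField ⊗[R] A).toRingHom hdual q' f hf m e }
    exact Groth.Agent.Helper12.GorField.isGorensteinRing_of_ringEquiv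
      (Algebra.TensorProduct.comm R p.asIdeal.ResidueField A).toRingEquiv h2

end Groth.Agent.S1786
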