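import Groth.Statements.S0372
import Groth.Agent.Lib.Helper8.LOC18

set_option autoImplicit false
universe u v
open CategoryTheory
attribute [local instance] HasDerivedCategory.standard
open Dual

namespace Groth.Agent.S0372

/-- If a Noetherian ring has a dualizing complex then the set of primes at which the localization is
Cohen–Macaulay is open and dense in the prime spectrum. -/
theorem result (A : Type u) [CommRing A] [IsNoetherianRing A] (ω : Dual.D A) (hω : Dual.IsDualizing A ω) : IsOpen {p : PrimeSpectrum A | LocCoh.IsCohenMacaulayLocalRing (Localization.AtPrime p.asIdeal)} ∧ Dense {p : PrimeSpectrum A | LocCoh.IsCohenMacaulayLocalRing (Localization.AtPrime p.asIdeal)} := by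
  have hsupp : ∀ p : PrimeSpectrum A, p ∈ Module.support A A := by
    intro p
    rw [Module.mem_support_iff]
    exact (IsLocalizedModule.iso p.asIdeal.primeCompl
      (Algebra.linearMap A (Localization.AtPrime p.asIdeal))).toEquiv.nontrivial
  have key := Groth.Agent.Helper8.LOC.cm_locus ω hω A
    (fun p => LocCoh.IsCohenMacaulayLocalRing (Localization.AtPrime p.asIdeal))
    (fun p hp => by
      have hB : IsNoetherianRing (Localization.AtPrime p.asIdeal) :=
        IsLocalization.isNoetherianRing p.asIdeal.primeCompl _ inferInstance
      rw [← Groth.Agent.Helper8.LOC.isCohenMacaulayModule_loc_iff ω hω A p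
        (Algebra.linearMap A (Localization.AtPrime p.asIdeal))]
      constructor
      · intro h
        exact h.supportDim_eq_depth
      · intro h
        exact @LocCoh.IsCohenMacaulayLocalRing.mk _ _ hB inferInstance h)
  constructor
  · have heq : {p : PrimeSpectrum A | LocCoh.IsCohenMacaulayLocalRing
        (Localization.AtPrime p.asIdeal)} =
        {p : PrimeSpectrum A | p ∉ Module.support A A ∨
          LocCoh.IsCohenMacaulayLocalRing (Localization.AtPrime p.asIdeal)} := by
      ext p
      simp only [Set.mem_ofPred_eq]
      constructor
      · exact Or.inr
      · rintro (h | h)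
        · exact absurd (hsupp p) h
        · exact h
    rw [heq]
    exact key.1
  · intro p
    exact closure_mono Set.inter_subset_left (key.2 (hsupp p))

end Groth.Agent.S0372
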