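import Groth.Statements.S6879
import Groth.Agent.Lib.Lead.BijLoc
import Groth.Agent.Lib.Helper28.ReflDepth

set_option autoImplicit false
universe u
open CAlg

namespace Groth.Agent.S6879

/-- Let `R` be a Noetherian domain and `M` a finite `R`-module. Then `M` is reflexive if and only if for
every prime `𝔭` of `R` either `M_𝔭` is a reflexive `R_𝔭`-module or `depth(M_𝔭) ≥ 2`. -/
theorem result (R : Type u) [CommRing R] [IsDomain R]
    [IsNoetherianRing R] (M : Type u) [AddCommGroup M] [Module R M] [Module.Finite R M] :
    Module.IsReflexive R M ↔ ∀ (p : Ideal R) [p.IsPrime],
      Module.IsReflexive (Localization.AtPrime p) (LocalizedModule p.primeCompl M) ∨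
        2 ≤ LocCoh.depth (Localization.AtPrime p) (LocalizedModule p.primeCompl M) := by
  constructor
  · intro hM p _
    left
    exact Groth.Agent.Helper28.ReflDepth.isReflexive_localizedModule p.primeCompl M
  · intro h
    have hdepth0 : ∀ (p : Ideal R) [p.IsPrime], p ∈ associatedPrimes R M →
        2 ≤ LocCoh.depth (Localization.AtPrime p) (LocalizedModule p.primeCompl M) → False := by
      intro p _ hpAss hdepth
      have hmemT :=
        Module.associatedPrimes.mem_associatedPrimes_atPrime_of_mem_associatedPrimes hpAss
      have hd : LocCoh.depth (Localization.AtPrime p) (LocalizedModule p.primeCompl M) = 0 :=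
        (Groth.Agent.Helper9.Depth.depth_eq_zero_iff_mem_associatedPrimes
          (A := Localization.AtPrime p) (LocalizedModule p.primeCompl M)).mpr hmemT
      rw [hd] at hdepth
      simp at hdepth
    have hinj : Function.Injective (Module.Dual.eval R M) := by
      apply Groth.Agent.Lead.BijLoc.injective_of_forall
      intro p _ hpAss z hz
      rcases h p with hrefl | hdepth
      · haveI := hrefl
        have hi := (Module.bijective_dual_eval (Localization.AtPrime p)
          (LocalizedModule p.primeCompl M)).1
        obtain ⟨s, hs⟩ := Groth.Agent.Helper28.ReflDepth.exists_smul_eq_zero_of_eval_eq_zero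
          p.primeCompl M hi z hz
        rw [Submonoid.smul_def] at hs
        exact ⟨(s : R), s.2, hs⟩
      · exact (hdepth0 p hpAss hdepth).elim
    have hsurj : Function.Surjective (Module.Dual.eval R M) := by
      apply Groth.Agent.Lead.BijLoc.surjective_of_forall
      intro p _ y hy
      rcases h p with hrefl | hdepth
      · haveI := hrefl
        have hsu := (Module.bijective_dual_eval (Localization.AtPrime p)
          (LocalizedModule p.primeCompl M)).2
        obtain ⟨s, hs⟩ := Groth.Agent.Helper28.ReflDepth.exists_smul_mem_range_eval
          p.primeCompl M hsu y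
        exact s.2 ((hy _).mp hs)
      · have hpN := Groth.Agent.Lead.BijLoc.mem_associatedPrimes_of_depth
          (Module.Dual.eval R M) hinj p hdepth y hy
        have hpN' : IsAssociatedPrime p (Module.Dual R (Module.Dual R M)) := hpN
        obtain ⟨hprime, w, hw⟩ := isAssociatedPrime_iff.mp hpN'
        have hw0 : w ≠ 0 := by
          intro h0
          apply hprime.ne_top
          rw [hw, h0, eq_top_iff]
          intro r _
          rw [Submodule.mem_colon_singleton, smul_zero]
          exact Submodule.zero_mem _
        obtain ⟨ψ, hψ⟩ : ∃ ψ, w ψ ≠ 0 := by
          by_contra hcon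
          push Not at hcon
          exact hw0 (LinearMap.ext hcon)
        have hmax0 : ∀ r ∈ p, r = 0 := by
          intro r hr
          rw [hw, Submodule.mem_colon_singleton, Submodule.mem_bot] at hr
          have h1 : r * w ψ = 0 := by
            rw [← smul_eq_mul, ← LinearMap.smul_apply, hr, LinearMap.zero_apply]
          exact (mul_eq_zero.mp h1).resolve_right hψ
        have hmaxT : ∀ a ∈ IsLocalRing.maximalIdeal (Localization.AtPrime p), a = 0 := by
          intro a ha
          obtain ⟨r, s, rfl⟩ := IsLocalization.exists_mk'_eq p.primeCompl a
          have hr := (IsLocalization.AtPrime.mk'_mem_maximal_iff (Localization.AtPrime p) p r s).mp ha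
          rw [hmax0 r hr, IsLocalization.mk'_zero]
        have hsub : Subsingleton (LocalizedModule p.primeCompl M) := by
          by_contra hns
          rw [not_subsingleton_iff_nontrivial] at hns
          haveI := hns
          have htop : IsLocalRing.maximalIdeal (Localization.AtPrime p) •
              (⊤ : Submodule (Localization.AtPrime p) (LocalizedModule p.primeCompl M)) ≠ ⊤ :=
            Groth.Agent.Lead.Depth.maximalIdeal_smul_top_ne_top _
          have h1 : ((1 : ℕ) : ℕ∞) ≤ LocCoh.idealDepth
              (IsLocalRing.maximalIdeal (Localization.AtPrime p))
              (LocalizedModule p.primeCompl M) := by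
            rw [Nat.cast_one]
            exact le_trans (by norm_num) hdepth
          obtain ⟨rs, hlen, hreg, hmem⟩ := Groth.Agent.Lead.Depth.exists_of_le_idealDepth
            (IsLocalRing.maximalIdeal (Localization.AtPrime p))
            (LocalizedModule p.primeCompl M) htop 1 h1
          obtain ⟨a, rfl⟩ := List.length_eq_one_iff.mp hlen
          have hareg : IsSMulRegular (LocalizedModule p.primeCompl M) a :=
            ((RingTheory.Sequence.isWeaklyRegular_cons_iff
              (LocalizedModule p.primeCompl M) a []).mp hreg).1
          have ha0 : a = 0 := hmaxT a (hmem a (by simp))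
          rw [ha0] at hareg
          obtain ⟨x, hx⟩ := exists_ne (0 : LocalizedModule p.primeCompl M)
          exact hx (hareg (show (0 : Localization.AtPrime p) • x =
            (0 : Localization.AtPrime p) • 0 by rw [zero_smul, zero_smul]))
        have hdual : ∀ χ : Module.Dual R M, χ = 0 := by
          intro χ
          apply LinearMap.ext
          intro z
          have h2 : (LocalizedModule.mk z 1 : LocalizedModule p.primeCompl M) = 0 :=
            Subsingleton.elim _ _
          rw [← LocalizedModule.zero_mk (1 : p.primeCompl), LocalizedModule.mk_eq] at h2
          obtain ⟨u, hu⟩ := h2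
          simp only [one_smul, smul_zero, Submonoid.smul_def] at hu
          have hu0 : (u : R) ≠ 0 := by
            intro h0
            apply u.2
            rw [h0]
            exact p.zero_mem
          have h3 : (u : R) * χ z = 0 := by
            rw [← smul_eq_mul, ← map_smul, hu, map_zero]
          rw [LinearMap.zero_apply]
          exact (mul_eq_zero.mp h3).resolve_left hu0
        have hy0 : y = 0 := by
          apply LinearMap.ext
          intro χ
          rw [hdual χ, map_zero, LinearMap.zero_apply]
        have h1mem : (1 : R) • y ∈ LinearMap.range (Module.Dual.eval R M) := by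
          rw [hy0, smul_zero]
          exact Submodule.zero_mem _
        exact hprime.ne_top ((Ideal.eq_top_iff_one p).mpr ((hy 1).mp h1mem))
    constructor
    exact ⟨hinj, hsurj⟩

end Groth.Agent.S6879
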