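import Groth.Statements.S2054
import Groth.Agent.S6879
import Groth.Agent.Lib.Helper1.SerreNormal
import Groth.Agent.Lib.Lead.ZPure4

set_option autoImplicit false
universe u
open CAlg

namespace Groth.Agent.S2054

/-- Let `R` be a Noetherian normal domain and `M` a finite `R`-module. Then `M` is reflexive (the map to
its double dual is bijective) if and only if `M` is torsion free and satisfies Serre's condition
`(S_2)`. -/
theorem result {R M : Type u} [CommRing R] [IsDomain R] [IsNoetherianRing R]
    [IsIntegrallyClosed R] [AddCommGroup M] [Module R M] [Module.Finite R M] :
    Module.IsReflexive R M ↔ NoZeroSMulDivisors R M ∧ LocCoh.HasSk 2 R M := by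
  constructor
  · intro hM
    refine ⟨⟨fun {c x} hcx => ?_⟩, ?_⟩
    · by_cases hc : c = 0
      · exact Or.inl hc
      · right
        have hev : Module.Dual.eval R M x = 0 := by
          apply LinearMap.ext
          intro χ
          have h1 : c * χ x = 0 := by
            rw [← smul_eq_mul, ← map_smul, hcx, map_zero]
          rw [LinearMap.zero_apply]
          exact (mul_eq_zero.mp h1).resolve_left hc
        exact (Module.bijective_dual_eval R M).1 (by rw [hev, map_zero])
    · exact Groth.Agent.Helper28.ReflDepth.hasSk_of_isReflexive M 2 (Or.inr rfl)
        Groth.Agent.Helper1.SerreNormal.hasSk_two_of_normal_domain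
  · rintro ⟨hTF, hS2⟩
    haveI hTF' : Module.IsTorsionFree R M :=
      Module.isTorsionFree_iff_smul_eq_zero.mpr
        (fun r m h => hTF.eq_zero_or_eq_zero_of_smul_eq_zero h)
    apply (Groth.Agent.S6879.result R M).mpr
    intro p _
    rcases subsingleton_or_nontrivial (LocalizedModule p.primeCompl M) with hs | hnt
    · right
      rw [Groth.Agent.Lead.Depth.depth_eq_top_of_subsingleton]
      exact le_top
    · have hMnt : Nontrivial M := by
        by_contra hcon
        rw [not_nontrivial_iff_subsingleton] at hcon
        obtain ⟨a, ha⟩ := exists_ne (0 : LocalizedModule p.primeCompl M)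
        apply ha
        induction a using LocalizedModule.induction_on with
        | _ m s => rw [Subsingleton.elim m 0, LocalizedModule.zero_mk]
      have hsupp : Module.support R M = Set.univ :=
        Module.support_of_noZeroSMulDivisors (R := R) (M := M)
      by_cases hht : (2 : ℕ∞) ≤ p.height
      · right
        have hS := hS2 p
        rw [Groth.Agent.Lead.ZP.supportDim_localizedModule_of_support_eq_univ M hsupp p] at hS
        have h2c : ((2 : ℕ) : WithBot ℕ∞) = ((2 : ℕ∞) : WithBot ℕ∞) := by
          first | rfl | simp
        rw [h2c, ← WithBot.coe_min, WithBot.coe_le_coe, min_eq_left hht] at hS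
        exact hS
      · left
        push Not at hht
        have hht1 : p.height ≤ 1 := by
          have h12 : (2 : ℕ∞) = 1 + 1 := by norm_num
          rw [h12] at hht
          exact (ENat.lt_add_one_iff (by simp)).1 hht
        have hdim : ringKrullDim (Localization.AtPrime p) ≤ 1 := by
          rw [IsLocalization.AtPrime.ringKrullDim_eq_height p (Localization.AtPrime p)]
          exact_mod_cast hht1
        haveI : IsDomain (Localization.AtPrime p) :=
          IsLocalization.isDomain_localization p.primeCompl_le_nonZeroDivisors
        haveI : IsIntegrallyClosed (Localization.AtPrime p) :=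
          isIntegrallyClosed_of_isLocalization (Localization.AtPrime p) p.primeCompl
            p.primeCompl_le_nonZeroDivisors
        have h1 : Ring.KrullDimLE 1 (Localization.AtPrime p) := Ring.krullDimLE_iff.mpr hdim
        have hmax := Ring.krullDimLE_one_iff_of_noZeroDivisors.mp h1
        haveI hD1 : Ring.DimensionLEOne (Localization.AtPrime p) :=
          ⟨fun {P} hP0 hP => hmax P hP0 hP⟩
        haveI hDR : IsDedekindRing (Localization.AtPrime p) :=
          { toIsNoetherian := inferInstance
            toDimensionLEOne := hD1
            toIsIntegralClosure := inferInstance }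
        haveI hDD : IsDedekindDomain (Localization.AtPrime p) := inferInstance
        have hfinP : {I : Ideal (Localization.AtPrime p) | I.IsPrime}.Finite := by
          apply Set.Finite.subset ((Set.finite_singleton
            (IsLocalRing.maximalIdeal (Localization.AtPrime p))).insert ⊥)
          intro I hI
          by_cases hI0 : I = ⊥
          · exact Set.mem_insert_iff.mpr (Or.inl hI0)
          · exact Set.mem_insert_iff.mpr (Or.inr (Set.mem_singleton_iff.mpr
              (IsLocalRing.eq_maximalIdeal (hmax I hI0 hI))))
        haveI hPID : IsPrincipalIdealRing (Localization.AtPrime p) :=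
          IsPrincipalIdealRing.of_finite_primes hfinP
        haveI hTFp : Module.IsTorsionFree (Localization.AtPrime p)
            (LocalizedModule p.primeCompl M) := inferInstance
        haveI hfree : Module.Free (Localization.AtPrime p) (LocalizedModule p.primeCompl M) :=
          Module.free_of_finite_type_torsion_free'
        exact inferInstance

end Groth.Agent.S2054
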