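import Groth.Statements.S6029
import Mathlib
import Groth.Agent.Lib.Helper24.LocSS

set_option autoImplicit false
universe u
open CategoryTheory CategoryTheory.Limits TopologicalSpace
open LocCohZ

namespace Groth.Agent.S6029

/-- For a closed subset Z = X − U of a topological space X and an abelian sheaf F on X: there is an E₂
spectral sequence of abelian groups with E₂^{p,q} ≅ H^p(X, ℋ^q_Z(F)) for p, q ≥ 0 (and 0 otherwise),
bounded, abutting with finite filtrations to H^n_Z(X, F) (n ≥ 0; 0 for n < 0). (Existence only: the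
E₂ identifications and the abutment isomorphisms are some isomorphisms, not the canonical maps of a
construction, so edge maps and low-degree exact sequences are not part of this statement.) -/
theorem result {X : TopCat.{u}} (F : CohTop.Ab X) (U : Opens X) :
    ∃ (E : E₂CohomologicalSpectralSequence AddCommGrpCat.{u})
      (a : SpSeq.Abutment E (fun n : ℤ =>
        if 0 ≤ n then AddCommGrpCat.of (LocCohZ.HZc F n.toNat U) else AddCommGrpCat.of PUnit.{u + 1})),
      (∀ n : ℤ, a.IsFinite n) ∧ SpSeq.IsBounded E ∧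
      ∀ p q : ℤ, Nonempty ((E.page 2 le_rfl).X (p, q) ≅
        (if 0 ≤ p ∧ 0 ≤ q then AddCommGrpCat.of (CohTop.HU ((LocCohZ.HZsh U q.toNat).obj F) p.toNat ⊤)
          else AddCommGrpCat.of PUnit.{u + 1})) := by
  open Groth.Agent.Helper24.GSS Groth.Agent.Helper24.LocSS Groth.Agent.Helper24.CechH
    Groth.Agent.Helper9.OpenRes in
  have hz : Limits.IsZero (AddCommGrpCat.of PUnit.{u + 1}) :=
    AddCommGrpCat.isZero_of_subsingleton _
  have : HasDerivedCategory.{u + 1} (CohTop.Ab X) := HasDerivedCategory.standard _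
  let J := Opens.grothendieckTopology X
  let Γ : CohTop.Ab X ⥤ AddCommGrpCat.{u} := sectF J (⊤ : Opens X)
  have hΓ : ∀ (p : ℕ) (G : CohTop.Ab X),
      Nonempty (AddCommGrpCat.of (CohTop.HU G p ⊤) ≅ (Γ.rightDerived p).obj G) := fun p G =>
    nonempty_iso_rightDerived_obj (extDelta (CohCx.freeSheaf J (⊤ : Opens X)))
      (extDelta_effaceable _) Γ (extZeroSectIso J ⊤) p G
  refine exists_grothendieck_spectralSequence' Γ (LocCohZ.sectSuppF U) ?_ F _ _ ?_ ?_ ?_ ?_
  · intro Q hQ q hq
    obtain ⟨k, rfl⟩ : ∃ k, q = k + 1 := ⟨q - 1, by omega⟩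
    obtain ⟨e⟩ := hΓ (k + 1) ((LocCohZ.sectSuppF U).obj Q)
    have hfl : TopCat.Sheaf.IsFlasque Q := Groth.Agent.Helper24.Flasque.isFlasque_of_injective Q
    have hfl2 : TopCat.Sheaf.IsFlasque ((LocCohZ.sectSuppF U).obj Q) := sectSupp_isFlasque U Q
    have hs : Subsingleton (CohTop.HU ((LocCohZ.sectSuppF U).obj Q) (k + 1) ⊤) :=
      Groth.Agent.Helper24.Flasque.HU_succ_subsingleton k _ hfl2 ⊤
    exact (AddCommGrpCat.isZero_of_subsingleton _).of_iso e.symm
  · intro n
    have hn : (0 : ℤ) ≤ (n : ℤ) := by positivity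
    simp only [if_pos hn, Int.toNat_natCast]
    obtain ⟨e⟩ := nonempty_iso_rightDerived_obj (extDelta (LocCohZ.zq (le_top : U ≤ ⊤)))
      (extDelta_effaceable _) (LocCohZ.sectSuppF U ⋙ Γ) (gammaZFIso U) n F
    exact ⟨e.symm⟩
  · intro n hn
    simp only [if_neg (not_le.2 hn)]
    exact hz
  · intro p q
    have hpq : (0 : ℤ) ≤ (p : ℤ) ∧ (0 : ℤ) ≤ (q : ℤ) := ⟨by positivity, by positivity⟩
    simp only [if_pos hpq, Int.toNat_natCast]
    obtain ⟨e⟩ := hΓ p ((LocCohZ.HZsh U q).obj F)
    exact ⟨e.symm⟩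
  · intro p q hpq
    have : ¬ ((0 : ℤ) ≤ p ∧ (0 : ℤ) ≤ q) := fun h => by lia
    simp only [if_neg this]
    exact hz

end Groth.Agent.S6029
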