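import Groth.Statements.S0488
import Mathlib
import Groth.Agent.Lib.Helper10.LanExact
import Groth.Agent.Lib.Helper10.AdjKInj

set_option autoImplicit false
universe u
open CohTop

namespace Groth.Agent.S0488

section helpers

open CategoryTheory CategoryTheory.Limits Opposite TopologicalSpace Groth.Agent.Helper10.LanExact

theorem compFilt_openEmb {X Y : TopCat.{u}} {f : X ⟶ Y} (hf : Topology.IsOpenEmbedding f)
    (W : (Opens Y)ᵒᵖ) : CompFilt (CostructuredArrow hf.isOpenMap.functor.op W) where
  span := by
    intro i j j' a b
    have hj : W.unop ≤ hf.isOpenMap.functor.obj j.left.unop := j.hom.unop.le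
    have hj' : W.unop ≤ hf.isOpenMap.functor.obj j'.left.unop := j'.hom.unop.le
    have hk : W.unop ≤ hf.isOpenMap.functor.obj (j.left.unop ⊓ j'.left.unop) := by
      intro x hx
      obtain ⟨y, hy, rfl⟩ := hj hx
      obtain ⟨y', hy', e⟩ := hj' hx
      have : y' = y := hf.injective e
      subst this
      exact ⟨y', ⟨hy, hy'⟩, rfl⟩
    let k : CostructuredArrow hf.isOpenMap.functor.op W :=
      CostructuredArrow.mk (Y := op (j.left.unop ⊓ j'.left.unop)) (homOfLE hk).op
    refine ⟨k, CostructuredArrow.homMk (homOfLE inf_le_left).op (Subsingleton.elim _ _),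
      CostructuredArrow.homMk (homOfLE inf_le_right).op (Subsingleton.elim _ _), ?_⟩
    ext
    exact Subsingleton.elim _ _
  coeq := by
    intro j j' f g
    refine ⟨j', 𝟙 _, ?_⟩
    ext
    exact Subsingleton.elim _ _

end helpers

open TopologicalSpace in
/-- For an open U of X, restriction to U sends K-injective complexes of abelian sheaves on X to
K-injective complexes on U. -/
theorem result {X : TopCat.{u}} (U : Opens X) (I : CochainComplex (CohTop.Ab X) ℤ)
    (h : I.IsKInjective) :
    CochainComplex.IsKInjective (((CohTop.restrFunctor U).mapHomologicalComplex (ComplexShape.up ℤ)).obj I) := by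
  have hU : Topology.IsOpenEmbedding
      (TopCat.Hom.hom (TopCat.ofHom (X := TopCat.of U) (Y := X) ⟨_, continuous_subtype_val⟩)) :=
    U.isOpenEmbedding
  have := hU.functor_isContinuous
  have h1 : CategoryTheory.Limits.PreservesFiniteLimits (hU.isOpenMap.functor.sheafPullback
      AddCommGrpCat.{u} (Opens.grothendieckTopology (TopCat.of U)) (Opens.grothendieckTopology X)) :=
    Groth.Agent.Helper10.LanExact.preservesFiniteLimits_sheafPullback_ab_of_compFilt
      hU.isOpenMap.functor _ _ (compFilt_openEmb hU)
  have adj := hU.isOpenMap.functor.sheafAdjunctionContinuous AddCommGrpCat.{u}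
    (Opens.grothendieckTopology (TopCat.of U)) (Opens.grothendieckTopology X)
  have : (hU.isOpenMap.functor.sheafPullback AddCommGrpCat.{u}
      (Opens.grothendieckTopology (TopCat.of U)) (Opens.grothendieckTopology X)).IsLeftAdjoint :=
    adj.isLeftAdjoint
  have : (hU.isOpenMap.functor.sheafPushforwardContinuous AddCommGrpCat.{u}
      (Opens.grothendieckTopology (TopCat.of U)) (Opens.grothendieckTopology X)).Additive :=
    ⟨fun {_ _ _ _} => rfl⟩
  have : (hU.isOpenMap.functor.sheafPullback AddCommGrpCat.{u}
      (Opens.grothendieckTopology (TopCat.of U)) (Opens.grothendieckTopology X)).Additive :=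
    adj.left_adjoint_additive
  exact Groth.Agent.Helper10.AdjKInj.isKInjective_map adj I

end Groth.Agent.S0488
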