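import Groth.Statements.S8262
import Groth.Agent.Lib.Helper12.RelProjGlue

set_option autoImplicit false
universe u
open CategoryTheory CategoryTheory.Limits AlgebraicGeometry Opposite TopologicalSpace
open scoped HomogeneousIdeal
open EGA2

namespace Groth.Agent.S8262

/-- The morphism of relative homogeneous spectra induced by a graded homomorphism, in the case where it
is everywhere defined: let φ : 𝒜 → ℬ be a graded homomorphism of quasi-coherent positively graded
O_Y-algebras such that over every affine open U the irrelevant ideal of ℬ(U) lies in the ideal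
generated by the image of that of 𝒜(U) (a condition stronger than the published one, which only asks
that the induced rational map be everywhere defined). Then there is a unique morphism h : Proj(ℬ) →
Proj(𝒜) that over each affine open U of Y is, under the charts, the morphism Proj ℬ(U) → Proj 𝒜(U)
induced by φ(U); and such an h is a Y-morphism. -/
theorem result {Y PA PB : Scheme.{u}} {𝒜 ℬ : RelProj.QCGrAlg Y}
    (φ : 𝒜.toQCAlg ⟶ ℬ.toQCAlg) (hφ : RelProj.IsGradedHom φ)
    (hirr : ∀ (U : Y.Opens) (hU : IsAffineOpen U),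
      (ℬ.deg U hU)₊ ≤ ((𝒜.deg U hU)₊).map (RelProj.gradedHomAt φ hφ U hU))
    (pA : PA ⟶ Y) (pB : PB ⟶ Y)
    (chartA : ∀ (U : Y.Opens) (hU : IsAffineOpen U), (((pA ⁻¹ᵁ U : PA.Opens) : Scheme.{u}) ≅ Proj (𝒜.deg U hU)))
    (chartB : ∀ (U : Y.Opens) (hU : IsAffineOpen U), (((pB ⁻¹ᵁ U : PB.Opens) : Scheme.{u}) ≅ Proj (ℬ.deg U hU)))
    (hA : RelProj.IsRelProj 𝒜 pA chartA) (hB : RelProj.IsRelProj ℬ pB chartB) :
    (∃! h : PB ⟶ PA, RelProj.IsRelProjMap φ hφ hirr chartA chartB h) ∧
      ∀ h : PB ⟶ PA, RelProj.IsRelProjMap φ hφ hirr chartA chartB h → h ≫ pA = pB := by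
  constructor
  · apply Groth.Agent.Helper12.RelProjGlue.glue_of_basic pB
      (fun U hU => (chartB U hU).hom ≫ Proj.map (RelProj.gradedHomAt φ hφ U hU) (hirr U hU) ≫
        (chartA U hU).inv ≫ (pA ⁻¹ᵁ U).ι)
    intro U hU r
    have h1 := hB.chart_res U hU r
    have h2 := hA.chart_res U hU r
    have h3 : Proj.map (𝒜.res hU (hU.basicOpen r) (Y.basicOpen_le r)) (𝒜.irrelevant_le_map U hU r) ≫
        (chartA U hU).inv = (chartA (Y.basicOpen r) (hU.basicOpen r)).inv ≫
          PA.homOfLE (pA.preimage_mono (Y.basicOpen_le r)) := by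
      rw [Iso.eq_inv_comp, ← Category.assoc, ← h2, Category.assoc, Iso.hom_inv_id, Category.comp_id]
    have h4 := Groth.Agent.Helper12.RelProjGlue.relProjMap_compat φ hφ hirr U hU r
    rw [← Category.assoc, h1, Category.assoc, ← Category.assoc (Proj.map _ _), h4, Category.assoc,
      ← Category.assoc (Proj.map _ _) (chartA U hU).inv, h3, Category.assoc, Scheme.homOfLE_ι]
  · intro h hh
    apply (Groth.Agent.Helper12.RelProjBasic.preimageCover pB).hom_ext
    intro U
    change (pB ⁻¹ᵁ U.1).ι ≫ h ≫ pA = (pB ⁻¹ᵁ U.1).ι ≫ pB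
    rw [← Category.assoc, hh U.1 U.2]
    simp only [Category.assoc]
    rw [← hA.chart_over U.1 U.2, Iso.inv_hom_id_assoc, ← hB.chart_over U.1 U.2]
    congr 1
    have h5 : 𝒜.strZero U.1 U.2 ≫
        CommRingCat.ofHom (RelProj.gradedHomAt φ hφ U.1 U.2).gradedZeroRingHom =
          ℬ.strZero U.1 U.2 := by
      ext r
      have := NatTrans.congr_app φ.comm (op U.1)
      exact congrArg (fun f => f.hom r) this
    rw [← Category.assoc, Groth.Agent.Helper12.RelProjGlue.projMap_toSpecZero, Category.assoc,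
      ← Spec.map_comp_assoc, h5]

end Groth.Agent.S8262
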