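import Groth.Statements.S12146
import Groth.Agent.Lib.Helper18.ProjQPre

set_option autoImplicit false
universe u
open CategoryTheory CategoryTheory.Limits AlgebraicGeometry TopologicalSpace Opposite
open scoped HomogeneousIdeal
noncomputable section
open EGA2

namespace Groth.Agent.S12146

/-- Let q : X → Y be a morphism with Y affine, L an invertible O_X-module, 𝒮L = ⊕_{n≥0} L^{⊗n} its
graded symmetric algebra (whose Proj, presented with its charts, is identified with X by its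
structure morphism pL), 𝒮 a quasi-coherent positively graded O_Y-algebra with S = Γ(Y, 𝒮), ψ : q^*𝒮
→ 𝒮L a graded homomorphism given as a graded q-morphism u = ψ♭ : 𝒮 → q_*𝒮L, P = Proj(𝒮), and r =
r_{L,ψ} : G(ψ) → P the associated morphism on its open of definition G(ψ) ⊆ Proj(𝒮L). Then r is
dominant if and only if for every n > 0, every s ∈ S_n such that ψ♭(s) ∈ Γ(X, L^{⊗n}) is locally
nilpotent (as a section of the algebra 𝒮L: each point of X has an affine neighbourhood V with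
ψ♭(s)|V nilpotent in 𝒮L(V)) is nilpotent. -/
theorem result {Y X P PL : Scheme.{u}} (q : X ⟶ Y)
    (L : X.Modules) (hL : PicF.IsInvertible L) (hLq : Coh.IsQCoh L)
    (𝒮 : RelProj.QCGrAlg Y) (𝒮L : RelProj.QCGrAlg X) (j : L ⟶ 𝒮L.toModule) (hj : RelProj.IsGrSymAlg L 𝒮L j)
    (u : RelProj.QGrHom q 𝒮 𝒮L)
    (p : P ⟶ Y) (chart : ∀ (U : Y.Opens) (hU : IsAffineOpen U), (((p ⁻¹ᵁ U : P.Opens) : Scheme.{u}) ≅ Proj (𝒮.deg U hU)))
    (hP : RelProj.IsRelProj 𝒮 p chart)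
    (pL : PL ⟶ X) (chartL : ∀ (U : X.Opens) (hU : IsAffineOpen U), (((pL ⁻¹ᵁ U : PL.Opens) : Scheme.{u}) ≅ Proj (𝒮L.deg U hU)))
    (hPL : RelProj.IsRelProj 𝒮L pL chartL)
    (r : ((RelProj.domQ u pL chartL : PL.Opens) : Scheme.{u}) ⟶ P)
    (hr : RelProj.IsProjQMapOn u p chart pL chartL (RelProj.domQ u pL chartL) r)
    (hY : IsAffineOpen (⊤ : Y.Opens)) :
    IsDominant r ↔
      ∀ (n : ℕ), 0 < n → ∀ s ∈ 𝒮.deg ⊤ hY n,
        (∀ x : X, ∃ (V : X.Opens) (_ : IsAffineOpen V), x ∈ V ∧ IsNilpotent ((u.appLE ⊤ V (le_top.trans (Scheme.Hom.preimage_top q).ge)).hom s)) →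
          IsNilpotent s := by
  classical
  have hleV : ∀ V : X.Opens, V ≤ q ⁻¹ᵁ (⊤ : Y.Opens) :=
    fun V => le_top.trans (Scheme.Hom.preimage_top q).ge
  constructor
  · intro hdom n hn s hs hloc
    by_contra hnil
    obtain ⟨y₀, hy₀⟩ := Groth.Agent.Helper18.ProjQ.exists_mem_basicOpen_of_not_isNilpotent hn hs hnil
    have hopen : IsOpen ((RelProj.emb p chart ⊤ hY).base '' (Proj.basicOpen (𝒮.deg ⊤ hY) s : Set _)) :=
      (RelProj.emb p chart ⊤ hY).isOpenEmbedding.isOpenMap _ (Proj.basicOpen (𝒮.deg ⊤ hY) s).2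
    obtain ⟨x, y₁, hy₁, hy₁x⟩ := hdom.denseRange.exists_mem_open hopen ⟨_, y₀, hy₀, rfl⟩
    obtain ⟨V, hV, hxV, hnilV⟩ := hloc (pL.base x.1)
    let j : Groth.Agent.Helper18.ProjQ.QIdx q 𝒮 := ⟨⊤, hY, V, hV, hleV V, n, hn, s, hs⟩
    have hInD : j.InD p chart (r.base x) := ⟨y₁, hy₁, hy₁x⟩
    obtain ⟨z, hz⟩ := (Groth.Agent.Helper18.ProjQ.map_inD_iff hP hPL r hr j x hxV).mp hInD
    have hs' : u.gradedAt ⊤ hY V hV (hleV V) s ∈ 𝒮L.deg V hV n :=
      (u.gradedAt ⊤ hY V hV (hleV V)).map_mem hs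
    have hmem : (Proj.awayι (𝒮L.deg V hV) _ hs' hn).base z ∈
        Proj.basicOpen (𝒮L.deg V hV) (u.gradedAt ⊤ hY V hV (hleV V) s) := by
      rw [← Proj.opensRange_awayι _ _ hs' hn]; exact ⟨z, rfl⟩
    exact Groth.Agent.Helper18.ProjQ.not_mem_basicOpen_of_isNilpotent hnilV _ hmem
  · intro H
    refine ⟨?_⟩
    rw [denseRange_iff_closure_range]
    apply Set.eq_univ_of_forall
    intro a
    rw [mem_closure_iff]
    intro V' hV' haV'
    have ha' : a ∈ (RelProj.emb p chart ⊤ hY).opensRange := by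
      rw [Groth.Agent.Helper18.ProjQ.opensRange_emb]; trivial
    obtain ⟨a₀, ha₀⟩ := ha'
    let W : (Proj (𝒮.deg ⊤ hY)).Opens :=
      ⟨(RelProj.emb p chart ⊤ hY).base ⁻¹' V', hV'.preimage (Scheme.Hom.continuous _)⟩
    have haW : a₀ ∈ W := by
      change (RelProj.emb p chart ⊤ hY).base a₀ ∈ V'
      rw [ha₀]; exact haV'
    obtain ⟨e, he, s, hs, has, hsW⟩ :=
      Groth.Agent.Helper18.ProjQ.exists_homogeneous_basicOpen_le a₀ W haW
    have hnil : ¬ IsNilpotent s := fun hn =>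
      Groth.Agent.Helper18.ProjQ.not_mem_basicOpen_of_isNilpotent hn a₀ has
    have hex : ∃ x₀ : X, ∀ (V : X.Opens) (_ : IsAffineOpen V), x₀ ∈ V →
        ¬ IsNilpotent ((u.appLE ⊤ V (hleV V)).hom s) := by
      by_contra hcon
      push Not at hcon
      exact hnil (H e he s hs fun x => by
        obtain ⟨V, hV, hxV, hn⟩ := hcon x
        exact ⟨V, hV, hxV, hn⟩)
    obtain ⟨x₀, hx₀⟩ := hex
    obtain ⟨V, hV0, hxV, -⟩ := Opens.isBasis_iff_nbhd.mp (X.isBasis_affineOpens)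
      (show x₀ ∈ (⊤ : X.Opens) from trivial)
    have hV : IsAffineOpen V := hV0
    have hs' : u.gradedAt ⊤ hY V hV (hleV V) s ∈ 𝒮L.deg V hV e :=
      (u.gradedAt ⊤ hY V hV (hleV V)).map_mem hs
    obtain ⟨y, hy⟩ := Groth.Agent.Helper18.ProjQ.exists_mem_basicOpen_of_not_isNilpotent he hs'
      (hx₀ V hV hxV)
    rw [← Proj.opensRange_awayι _ _ hs' he] at hy
    obtain ⟨z, hz⟩ := hy
    let j : Groth.Agent.Helper18.ProjQ.QIdx q 𝒮 := ⟨⊤, hY, V, hV, hleV V, e, he, s, hs⟩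
    have h2 : j.k' u pL chartL ≫ r = j.v u p chart :=
      hr j.U j.hU j.U' j.hU' j.hle j.d j.hd j.f j.hf _
    refine ⟨r.base ((j.k' u pL chartL).base z), ?_, _, rfl⟩
    have hrx : r.base ((j.k' u pL chartL).base z) = (j.v u p chart).base z := by
      rw [← h2]; rfl
    rw [hrx]
    obtain ⟨y₁, hy₁, hy₁'⟩ := j.inD_v (u := u) (p := p) (chart := chart) z
    rw [← hy₁']
    exact hsW hy₁

end Groth.Agent.S12146
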