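import Groth.Statements.S1763
import Groth.Agent.Lib.Helper8.Devissage
import Groth.Agent.Lib.Helper8.LCFaltFin
import Groth.Agent.Lib.Helper8.LCLocFin

set_option autoImplicit false
universe u
open LocCoh

namespace Groth.Agent.S1763
open Groth.Agent.Helper8 Groth.Agent.Helper8.LC

theorem devClass_H1 {A : Type u} [CommRing A] [IsNoetherianRing A] (I : Ideal A) :
    DevClass A (fun N _ _ => Module.Finite A N ∧ Module.Finite A (LocCoh.H I 1 N)) where
  zero := by
    intro N _ _ _
    haveI : Subsingleton (LocCoh.H I 1 N) := H_subsingleton_of_subsingleton I 1 N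
    exact ⟨Module.Finite.of_surjective (0 : A →ₗ[A] N) (fun x => ⟨0, Subsingleton.elim _ _⟩),
      Module.Finite.of_surjective (0 : A →ₗ[A] LocCoh.H I 1 N)
        (fun x => ⟨0, Subsingleton.elim _ _⟩)⟩
  of_injective := by
    intro K L _ _ _ _ j hj ⟨hL, hL1⟩
    haveI : IsNoetherian A L := isNoetherian_of_isNoetherianRing_of_finite A L
    have hK : Module.Finite A K := Module.Finite.of_injective j hj
    refine ⟨hK, ?_⟩
    have hses := isSES_of_injective hj
    haveI : Module.Finite A (LocCoh.H I 0 (L ⧸ LinearMap.range j)) := finite_H_zero I _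
    exact finite_of_exact_of_finite (hses.exact_δ_Hmap I 0)
  of_ses := by
    intro K L P _ _ _ _ _ _ f g hf hfg hg ⟨hK, hK1⟩ ⟨hP, hP1⟩
    have hL : Module.Finite A L := finite_of_exact_of_finite hfg
    refine ⟨hL, ?_⟩
    have hses : IsSES f g := ⟨hf, hfg, hg⟩
    exact finite_of_exact_of_finite (hses.exact_Hmap I 1)


/-- Fix a Noetherian ring A, an ideal I of A and a finitely generated A-module M. The local cohomology
module H¹_I(M) is finitely generated over A if and only if, for each associated prime p of M with I
⊄ p, the module H¹_I(A/p) is finitely generated over A. (Affine form, through finiteness of H¹_I, of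
a statement about coherence of direct images along the inclusion of the open complement of V(I).) -/
theorem result (A : Type u) [CommRing A] [IsNoetherianRing A] (I : Ideal A) (M : Type u) [AddCommGroup M] [Module A M] [Module.Finite A M] : Module.Finite A (LocCoh.H I 1 M) ↔ ∀ p : Ideal A, p ∈ associatedPrimes A M → ¬ I ≤ p → Module.Finite A (LocCoh.H I 1 (A ⧸ p)) := by
  have hC := devClass_H1 I
  constructor
  · intro h p hp hIp
    obtain ⟨hpp, x, hx⟩ := (isAssociatedPrime_iff).mp hp
    let τ : A →ₗ[A] M := LinearMap.toSpanSingleton A M x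
    have hker : LinearMap.ker τ = p := by
      ext r
      rw [hx, LinearMap.mem_ker, LinearMap.toSpanSingleton_apply, Submodule.mem_colon_singleton,
        Submodule.mem_bot]
    let j : (A ⧸ p) →ₗ[A] M := Submodule.liftQ p τ hker.ge
    have hj : Function.Injective j := by
      rw [← LinearMap.ker_eq_bot]
      exact Submodule.ker_liftQ_eq_bot _ _ _ hker.le
    exact (hC.of_injective j hj ⟨inferInstance, h⟩).2
  · intro h
    refine (hC.of_associatedPrimes M (fun p hp => ?_)).2
    refine ⟨inferInstance, ?_⟩
    by_cases hIp : I ≤ p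
    · have ht : IsTors I (A ⧸ p) := by
        intro m
        refine ⟨1, fun a ha => ?_⟩
        rw [pow_one] at ha
        obtain ⟨r, rfl⟩ := Ideal.Quotient.mk_surjective m
        rw [Algebra.smul_def]
        change Ideal.Quotient.mk p a * Ideal.Quotient.mk p r = 0
        rw [Ideal.Quotient.eq_zero_iff_mem.mpr (hIp ha), zero_mul]
      haveI : Subsingleton (LocCoh.H I 1 (A ⧸ p)) := ht.H_subsingleton I 1 Nat.one_pos (A ⧸ p)
      exact Module.Finite.of_surjective (0 : A →ₗ[A] LocCoh.H I 1 (A ⧸ p))
        (fun x => ⟨0, Subsingleton.elim _ _⟩)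
    · exact h p hp hIp

end Groth.Agent.S1763
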