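import Groth.Statements.S12444
import Groth.Agent.Lib.Helper18.CatSpace
open Groth.Agent.Helper18

set_option autoImplicit false
universe u
open PtTop

namespace Groth.Agent.S12444

/-- A topological space X is catenary if and only if it has an open covering by catenary subspaces
(here: every point has a catenary open neighbourhood); and if X is catenary then so is every locally
closed subspace of X. -/
theorem result (X : Type u) [TopologicalSpace X] :
    (PtTop.IsCatenarySpace X ↔
      ∀ x : X, ∃ U : TopologicalSpace.Opens X, x ∈ U ∧ PtTop.IsCatenarySpace U) ∧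
    (PtTop.IsCatenarySpace X → ∀ S : Set X, IsLocallyClosed S → PtTop.IsCatenarySpace S) := by
  refine ⟨⟨fun h x => ?_, fun h => ?_⟩, fun h S hS => CatSpace.isCatenarySpace_subtype hS h⟩
  · refine ⟨⊤, trivial, ?_⟩
    exact CatSpace.isCatenarySpace_subtype (S := ((⊤ : TopologicalSpace.Opens X) : Set X))
      (TopologicalSpace.Opens.isOpen _).isLocallyClosed h
  · choose U hxU hU using h
    exact CatSpace.isCatenarySpace_of_open_cover (fun x => ((U x : TopologicalSpace.Opens X) : Set X))
      (fun x => (U x).isOpen) (fun x => ⟨x, hxU x⟩) hU


end Groth.Agent.S12444
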