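import Groth.Statements.S7577
import Groth.Statements.S7577
import Mathlib
-- import your own Groth.Agent.* helpers here

set_option autoImplicit false
universe u
open PtTop

namespace Groth.Agent.S7577

section
open TopologicalSpace PtTop

variable {X : Type u} [TopologicalSpace X] [QuasiSober X] [T0Space X]

/-- the generic point of an irreducible closed set. -/
noncomputable def gp (Z : IrreducibleCloseds X) : X :=
  (QuasiSober.sober Z.isIrreducible Z.isClosed).choose

theorem gp_spec (Z : IrreducibleCloseds X) : closure {gp Z} = (Z : Set X) :=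
  (QuasiSober.sober Z.isIrreducible Z.isClosed).choose_spec.def

/-- closure of a point as an irreducible closed -/
def cl (x : X) : IrreducibleCloseds X :=
  ⟨closure {x}, isIrreducible_singleton.closure, isClosed_closure⟩

theorem cl_gp (Z : IrreducibleCloseds X) : cl (gp Z) = Z :=
  IrreducibleCloseds.ext (gp_spec Z)

theorem gp_cl (x : X) : gp (cl x) = x := by
  have h : closure {gp (cl x)} = closure {x} := gp_spec (cl x)
  exact (inseparable_iff_closure_eq.2 h).eq

theorem cl_le_cl {x y : X} : cl y ≤ cl x ↔ x ⤳ y := by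
  rw [specializes_iff_closure_subset]; rfl

theorem cl_lt_cl {x y : X} : cl y < cl x ↔ x ⤳ y ∧ x ≠ y := by
  rw [lt_iff_le_and_ne, cl_le_cl]
  refine and_congr_right fun _ => not_congr ⟨fun h => ?_, fun h => by rw [h]⟩
  have := congrArg gp h
  rw [gp_cl, gp_cl] at this
  exact this.symm

theorem le_iff (Z Z' : IrreducibleCloseds X) : Z ≤ Z' ↔ gp Z' ⤳ gp Z := by
  rw [← cl_le_cl, cl_gp, cl_gp]

theorem lt_iff (Z Z' : IrreducibleCloseds X) : Z < Z' ↔ gp Z' ⤳ gp Z ∧ gp Z' ≠ gp Z := by
  rw [← cl_lt_cl, cl_gp, cl_gp]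

variable (δ : X → ℤ) (hδ : IsDimensionFunction δ)
include hδ

theorem delta_le {x y : X} (h : x ⤳ y) : δ y ≤ δ x := by
  by_cases hxy : x = y
  · rw [hxy]
  · exact (hδ.1 x y h hxy).le

theorem bound (s : LTSeries (IrreducibleCloseds X)) :
    δ (gp s.head) + s.length ≤ δ (gp s.last) := by
  have : ∀ i : Fin (s.length + 1), δ (gp (s 0)) + (i : ℕ) ≤ δ (gp (s i)) := by
    intro i
    induction i using Fin.induction with
    | zero => simp
    | succ i ih =>
      have h1 := (lt_iff _ _).1 (s.strictMono (Fin.castSucc_lt_succ (i := i)))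
      have h2 := hδ.1 _ _ h1.1 h1.2
      simp only [Fin.val_succ, Nat.cast_add, Nat.cast_one]
      simp only [Fin.val_castSucc] at ih
      omega
  have := this (Fin.last _)
  simpa [RelSeries.head, RelSeries.last] using this

theorem exists_chain : ∀ (N : ℕ) (t t' : X), t' ⤳ t → δ t' - δ t = N →
    ∃ s : LTSeries (IrreducibleCloseds X), s.head = cl t ∧ s.last = cl t' ∧ s.length = N := by
  intro N
  induction N with
  | zero =>
    intro t t' hs hN
    have : t' = t := by
      by_contra hne
      have := hδ.1 t' t hs hne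
      omega
    subst this
    exact ⟨RelSeries.singleton _ (cl t'), rfl, rfl, rfl⟩
  | succ N ih =>
    intro t t' hs hN
    have hne : t' ≠ t := by
      rintro rfl
      simp at hN
      omega
    -- minimal z
    obtain ⟨d, ⟨z, ⟨hz1, hz2, hz3⟩, rfl⟩, hmin⟩ := Int.exists_least_of_bdd
      (P := fun d => ∃ z : X, (t' ⤳ z ∧ z ⤳ t ∧ z ≠ t) ∧ δ z = d)
      ⟨δ t, by rintro _ ⟨z, ⟨-, hz, -⟩, rfl⟩; exact delta_le δ hδ hz⟩
      ⟨δ t', t', ⟨specializes_rfl, hs, hne⟩, rfl⟩
    have himm : IsImmediateSpecialization z t := by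
      refine ⟨hz2, hz3, fun w hw1 hw2 => ?_⟩
      by_contra hcon
      push Not at hcon
      have h1 := hmin (δ w) ⟨w, ⟨hz1.trans hw1, hw2, hcon.2⟩, rfl⟩
      have h2 := hδ.1 z w hw1 (Ne.symm hcon.1)
      omega
    have hz : δ z = δ t + 1 := hδ.2 z t himm
    obtain ⟨s, hs1, hs2, hs3⟩ := ih z t' hz1 (by omega)
    refine ⟨s.cons (cl t) (by rw [hs1]; exact cl_lt_cl.2 ⟨hz2, hz3⟩), ?_, ?_, ?_⟩
    · simp
    · rw [RelSeries.last_cons, hs2]
    · simp [hs3]

theorem codim_eq {x y : X} (h : x ⤳ y) :
    PtTop.codim (cl y) (closure {x}) = ((δ x - δ y).toNat : ℕ∞) := by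
  have h0 := delta_le δ hδ h
  apply le_antisymm
  · unfold PtTop.codim
    refine iSup₂_le fun s hs => ?_
    have h1 := bound δ hδ s
    rw [hs.1, gp_cl] at h1
    have h2 : x ⤳ gp s.last := by
      rw [specializes_iff_closure_subset, gp_spec]; exact hs.2
    have h3 := delta_le δ hδ h2
    exact_mod_cast (show s.length ≤ (δ x - δ y).toNat by omega)
  · obtain ⟨s, hs1, hs2, hs3⟩ := exists_chain δ hδ (δ x - δ y).toNat y x h (by omega)
    unfold PtTop.codim
    refine le_iSup₂_of_le s ⟨hs1, by rw [hs2]; rfl⟩ ?_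
    rw [hs3]

theorem main : PtTop.IsCatenarySpace X ∧
    ∀ x y : X, x ⤳ y →
      PtTop.codim (⟨closure {y}, isIrreducible_singleton.closure, isClosed_closure⟩ : TopologicalSpace.IrreducibleCloseds X)
        (closure {x}) = ((δ x - δ y).toNat : ℕ∞) := by
  refine ⟨?_, fun x y h => codim_eq δ hδ h⟩
  intro T T' hTT'
  have hsp : gp T' ⤳ gp T := (le_iff T T').1 hTT'
  have hc : PtTop.codim T (T' : Set X) = ((δ (gp T') - δ (gp T)).toNat : ℕ∞) := by
    have := codim_eq δ hδ hsp
    rwa [cl_gp, gp_spec] at this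
  refine ⟨by rw [hc]; exact ENat.natCast_ne_top _, fun s hs1 hs2 hcov => ?_⟩
  rw [hc]
  have : ∀ i : Fin (s.length + 1), δ (gp (s i)) = δ (gp (s 0)) + (i : ℕ) := by
    intro i
    induction i using Fin.induction with
    | zero => simp
    | succ i ih =>
      have hcv := hcov i
      have h1 := (lt_iff _ _).1 hcv.lt
      have himm : IsImmediateSpecialization (gp (s i.succ)) (gp (s i.castSucc)) := by
        refine ⟨h1.1, h1.2, fun z hz1 hz2 => ?_⟩
        have e1 : s i.castSucc ≤ cl z := by rw [← cl_gp (s i.castSucc)]; exact cl_le_cl.2 hz2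
        have e2 : cl z ≤ s i.succ := by rw [← cl_gp (s i.succ)]; exact cl_le_cl.2 hz1
        rcases hcv.eq_or_eq e1 e2 with e | e
        · right; rw [← e, gp_cl]
        · left; rw [← e, gp_cl]
      have := hδ.2 _ _ himm
      simp only [Fin.val_succ, Nat.cast_add, Nat.cast_one]
      simp only [Fin.val_castSucc] at ih
      omega
  have hl := this (Fin.last _)
  have e1 : s (Fin.last _) = T' := hs2
  have e0 : s 0 = T := hs1
  rw [e1, e0] at hl
  simp only [Fin.val_last] at hl
  exact_mod_cast (show s.length = (δ (gp T') - δ (gp T)).toNat by omega)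

end

/-- Let X be a sober topological space and δ : X → ℤ a dimension function. Then X is catenary, and for
any specialization x ⤳ y the codimension of the closure of {y} in the closure of {x} equals δ(x) −
δ(y). -/
theorem result {X : Type u} [TopologicalSpace X] [QuasiSober X] [T0Space X]
    (δ : X → ℤ) (hδ : PtTop.IsDimensionFunction δ) :
    PtTop.IsCatenarySpace X ∧
    ∀ x y : X, x ⤳ y →
      PtTop.codim (⟨closure {y}, isIrreducible_singleton.closure, isClosed_closure⟩ : TopologicalSpace.IrreducibleCloseds X)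
        (closure {x}) = ((δ x - δ y).toNat : ℕ∞) := by
  exact Groth.Agent.S7577.main δ hδ

end Groth.Agent.S7577
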