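import Groth.Statements.S7581
import Groth.Statements.S7581
import Mathlib
-- import your own Groth.Agent.* helpers here

set_option autoImplicit false
universe u
open PtTop

namespace Groth.Agent.S7581

section
open TopologicalSpace PtTop

variable {X : Type u} [TopologicalSpace X]

local notation "P" => IrreducibleCloseds X

theorem le_codim (a b : P) (s : LTSeries P) (h1 : s.head = a) (h2 : s.last ≤ b) :
    (s.length : ℕ∞) ≤ PtTop.codim a (b : Set X) := by
  unfold PtTop.codim
  exact le_iSup₂ (f := fun (s : LTSeries P) (_ : s.head = a ∧ (s.last : Set X) ⊆ (b : Set X)) =>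
    (s.length : ℕ∞)) s ⟨h1, SetLike.coe_subset_coe.2 h2⟩

theorem codim_le (a b : P) (n : ℕ∞) (h : ∀ s : LTSeries P, s.head = a → s.last ≤ b →
    (s.length : ℕ∞) ≤ n) : PtTop.codim a (b : Set X) ≤ n := by
  unfold PtTop.codim
  exact iSup₂_le fun s hs => h s hs.1 (SetLike.coe_subset_coe.1 hs.2)

theorem codim_self (a : P) : PtTop.codim a (a : Set X) = 0 := by
  apply le_antisymm _ zero_le
  apply codim_le
  intro s h1 h2
  have : s.length = 0 := by
    by_contra hne
    have hlt : s.head < s.last := by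
      apply s.strictMono
      rw [Fin.lt_def]
      simp
      omega
    rw [h1] at hlt
    exact absurd (lt_of_lt_of_le hlt h2) (lt_irrefl _)
  simp [this]

theorem codim_covBy (a b : P) (h : a ⋖ b) : PtTop.codim a (b : Set X) = 1 := by
  apply le_antisymm
  · apply codim_le
    intro s h1 h2
    by_contra hlt
    have h2' : 2 ≤ s.length := by
      by_contra h3
      apply hlt
      have : s.length ≤ 1 := by omega
      exact_mod_cast this
    -- s 0 < s 1 < s 2 ≤ b
    have e1 : s ⟨0, by omega⟩ < s ⟨1, by omega⟩ := s.strictMono (by simp [Fin.lt_def])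
    have e2 : s ⟨1, by omega⟩ < s ⟨2, by omega⟩ := s.strictMono (by simp [Fin.lt_def])
    have e3 : s ⟨2, by omega⟩ ≤ s.last := s.monotone (Fin.le_last _)
    have e0 : s ⟨0, by omega⟩ = a := h1
    rw [e0] at e1
    exact h.2 e1 (lt_of_lt_of_le e2 (e3.trans h2))
  · have := le_codim a b (RelSeries.singleton _ a |>.snoc b h.lt) (by simp) (by simp)
    simpa using this

/-- a maximal-length chain exists when codim is finite -/
theorem exists_max (a b : P) (hab : a ≤ b) (hfin : PtTop.codim a (b : Set X) ≠ ⊤) :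
    ∃ s : LTSeries P, s.head = a ∧ s.last ≤ b ∧
      ∀ t : LTSeries P, t.head = a → t.last ≤ b → t.length ≤ s.length := by
  let S : Set ℕ := {n | ∃ s : LTSeries P, s.head = a ∧ s.last ≤ b ∧ s.length = n}
  have hne : S.Nonempty := ⟨0, RelSeries.singleton _ a, by simp, by simpa using hab, by simp⟩
  have hbdd : BddAbove S := by
    refine ⟨(PtTop.codim a (b : Set X)).toNat, ?_⟩
    rintro n ⟨s, h1, h2, rfl⟩
    have := le_codim a b s h1 h2
    have h4 := ENat.toNat_le_toNat this hfin
    simpa using h4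
  obtain ⟨s, h1, h2, h3⟩ := Nat.sSup_mem hne hbdd
  refine ⟨s, h1, h2, fun t ht1 ht2 => ?_⟩
  rw [h3]
  exact le_csSup hbdd ⟨t, ht1, ht2, rfl⟩

/-- inserting an element into a chain -/
theorem exists_insert (s : LTSeries P) (i : Fin s.length) (z : P)
    (h1 : s i.castSucc < z) (h2 : z < s i.succ) :
    ∃ t : LTSeries P, t.head = s.head ∧ t.last = s.last ∧ t.length = s.length + 1 := by
  let t1 : LTSeries P := (s.take i.castSucc).snoc z (by rw [RelSeries.last_take]; exact h1)
  let t2 : LTSeries P := (s.drop i.succ).cons z (by rw [RelSeries.head_drop]; exact h2)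
  have h : t1.last = t2.head := by simp [t1, t2]
  refine ⟨t1.smash t2 h, ?_, ?_, ?_⟩
  · simp [t1]
  · simp [t2]
  · simp [t1, t2]
    omega

/-- a saturated chain of maximal length exists when codim is finite -/
theorem exists_saturated (a b : P) (hab : a ≤ b) (hfin : PtTop.codim a (b : Set X) ≠ ⊤) :
    ∃ s : LTSeries P, s.head = a ∧ s.last = b ∧
      (∀ i : Fin s.length, s (Fin.castSucc i) ⋖ s (Fin.succ i)) ∧
      (s.length : ℕ∞) = PtTop.codim a (b : Set X) := by
  obtain ⟨s, h1, h2, h3⟩ := exists_max a b hab hfin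
  have hlast : s.last = b := by
    by_contra hne
    have hlt : s.last < b := lt_of_le_of_ne h2 hne
    have := h3 (s.snoc b hlt) (by simp [h1]) (by simp)
    simp at this
  refine ⟨s, h1, hlast, ?_, ?_⟩
  · intro i
    refine ⟨s.step i, ?_⟩
    intro z hz1 hz2
    obtain ⟨t, ht1, ht2, ht3⟩ := exists_insert s i z hz1 hz2
    have := h3 t (ht1.trans h1) (ht2.trans_le h2)
    omega
  · apply le_antisymm (le_codim a b s h1 h2)
    apply codim_le
    intro t ht1 ht2
    exact_mod_cast h3 t ht1 ht2

theorem forward (hX : PtTop.IsCatenarySpace X) :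
    (∀ Y Y' : P, Y ≤ Y' → PtTop.codim Y (Y' : Set X) ≠ ⊤) ∧
      (∀ Y Y' Y'' : P, Y ≤ Y' → Y' ≤ Y'' →
        PtTop.codim Y (Y'' : Set X) = PtTop.codim Y (Y' : Set X) + PtTop.codim Y' (Y'' : Set X)) := by
  refine ⟨fun Y Y' h => (hX Y Y' h).1, ?_⟩
  intro a b c hab hbc
  obtain ⟨s1, h11, h12, h13, h14⟩ := exists_saturated a b hab (hX a b hab).1
  obtain ⟨s2, h21, h22, h23, h24⟩ := exists_saturated b c hbc (hX b c hbc).1
  have hconn : s1.last = s2.head := h12.trans h21.symm
  have key := (hX a c (hab.trans hbc)).2 (s1.smash s2 hconn) (by simp [h11]) (by simp [h22]) ?_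
  · rw [← key, ← h14, ← h24]
    simp
  · intro i
    change Fin (s1.length + s2.length) at i
    induction i using Fin.addCases with
    | left j =>
      have e1 := RelSeries.smash_castAdd hconn j
      have e2 := RelSeries.smash_succ_castAdd hconn j
      have := h13 j
      rw [← e1, ← e2] at this
      exact this
    | right j =>
      have e1 := RelSeries.smash_natAdd hconn j
      have e2 := RelSeries.smash_succ_natAdd hconn j
      have := h23 j
      rw [← e1, ← e2] at this
      exact this

theorem backward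
    (h1 : ∀ Y Y' : P, Y ≤ Y' → PtTop.codim Y (Y' : Set X) ≠ ⊤)
    (h2 : ∀ Y Y' Y'' : P, Y ≤ Y' → Y' ≤ Y'' →
        PtTop.codim Y (Y'' : Set X) = PtTop.codim Y (Y' : Set X) + PtTop.codim Y' (Y'' : Set X)) :
    PtTop.IsCatenarySpace X := by
  intro T T' hTT'
  refine ⟨h1 T T' hTT', ?_⟩
  intro s hs1 hs2 hsat
  have key : ∀ i : Fin (s.length + 1), PtTop.codim (s 0) ((s i : P) : Set X) = ((i : ℕ) : ℕ∞) := by
    intro i
    induction i using Fin.induction with
    | zero => simpa using codim_self (s 0)
    | succ i ih =>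
      rw [h2 (s 0) (s i.castSucc) (s i.succ) (s.monotone (Fin.zero_le _)) (s.step i).le, ih,
        codim_covBy _ _ (hsat i)]
      simp
  have := key (Fin.last _)
  rw [← hs1, ← hs2]
  simp only [Fin.val_last] at this
  exact this.symm

theorem main : PtTop.IsCatenarySpace X ↔
      (∀ Y Y' : TopologicalSpace.IrreducibleCloseds X, Y ≤ Y' → PtTop.codim Y (Y' : Set X) ≠ ⊤) ∧
      (∀ Y Y' Y'' : TopologicalSpace.IrreducibleCloseds X, Y ≤ Y' → Y' ≤ Y'' →
        PtTop.codim Y (Y'' : Set X) = PtTop.codim Y (Y' : Set X) + PtTop.codim Y' (Y'' : Set X)) :=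
  ⟨forward, fun h => backward h.1 h.2⟩

end

/-- Let X be a topological space. Then X is catenary if and only if for every pair of irreducible closed
subsets Y ⊆ Y' the codimension codim(Y, Y') is finite and for every triple Y ⊆ Y' ⊆ Y'' of
irreducible closed subsets codim(Y, Y'') = codim(Y, Y') + codim(Y', Y''). -/
theorem result (X : Type u) [TopologicalSpace X] :
    PtTop.IsCatenarySpace X ↔
      (∀ Y Y' : TopologicalSpace.IrreducibleCloseds X, Y ≤ Y' → PtTop.codim Y (Y' : Set X) ≠ ⊤) ∧
      (∀ Y Y' Y'' : TopologicalSpace.IrreducibleCloseds X, Y ≤ Y' → Y' ≤ Y'' →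
        PtTop.codim Y (Y'' : Set X) = PtTop.codim Y (Y' : Set X) + PtTop.codim Y' (Y'' : Set X)) := by
  exact Groth.Agent.S7581.main

end Groth.Agent.S7581
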