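import Groth.Statements.S6867
import Mathlib

set_option autoImplicit false
universe u
open CAlg

namespace Groth.Agent.S6867

/-- For a domain `R`, a finite `R`-module `M` is torsion free exactly when it admits an injective
`R`-linear map into `Rⁿ` for some `n`. -/
theorem result (R : Type u) [CommRing R] [IsDomain R] (M : Type u)
    [AddCommGroup M] [Module R M] [Module.Finite R M] :
    Module.IsTorsionFree R M ↔ ∃ (n : ℕ) (f : M →ₗ[R] (Fin n → R)), Function.Injective f := by
  constructor
  · intro hM
    classical
    let S := nonZeroDivisors R
    let K := Localization S
    let V := LocalizedModule S M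
    let ι : M →ₗ[R] V := LocalizedModule.mkLinearMap S M
    have hι : Function.Injective ι := by
      rw [injective_iff_map_eq_zero]
      intro m hm
      obtain ⟨c, hc⟩ := (IsLocalizedModule.eq_zero_iff S ι).mp hm
      have hc0 : (c : R) ≠ 0 := nonZeroDivisors.coe_ne_zero c
      have : (c : R) • m = 0 := hc
      exact (smul_eq_zero.mp this).resolve_left hc0
    let n := Module.finrank K V
    let b : Module.Basis (Fin n) K V := Module.finBasis K V
    let g : M →ₗ[R] (Fin n → K) := (b.equivFun.restrictScalars R).toLinearMap ∘ₗ ι
    have hg : Function.Injective g := (b.equivFun.restrictScalars R).injective.comp hι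
    obtain ⟨k, s, hs⟩ := Module.Finite.exists_fin (R := R) (M := M)
    obtain ⟨d, hd⟩ := IsLocalization.exist_integer_multiples S
      (Finset.univ : Finset (Fin k × Fin n)) (fun ij => g (s ij.1) ij.2)
    let j : (Fin n → R) →ₗ[R] (Fin n → K) := (Algebra.linearMap R K).compLeft (Fin n)
    have hj : Function.Injective j := by
      intro x y hxy
      funext i
      have := congrFun hxy i
      exact IsFractionRing.injective R K this
    have hmem : ∀ m : M, (d : R) • g m ∈ LinearMap.range j := by
      intro m
      have hm : m ∈ Submodule.span R (Set.range s) := by rw [hs]; trivial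
      induction hm using Submodule.span_induction with
      | mem x hx =>
        obtain ⟨i, rfl⟩ := hx
        choose r hr using fun l : Fin n => hd (i, l) (Finset.mem_univ _)
        refine ⟨r, ?_⟩
        funext l
        simp only [j, LinearMap.compLeft_apply, Function.comp_apply, Algebra.linearMap_apply,
          Pi.smul_apply]
        exact hr l
      | zero => simp
      | add x y _ _ hx hy =>
        rw [map_add, smul_add]
        exact Submodule.add_mem _ hx hy
      | smul a x _ hx =>
        rw [map_smul, smul_comm]
        exact Submodule.smul_mem _ a hx
    let f' : M →ₗ[R] LinearMap.range j :=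
      LinearMap.codRestrict (LinearMap.range j) ((d : R) • g) hmem
    let f : M →ₗ[R] (Fin n → R) := (LinearEquiv.ofInjective j hj).symm.toLinearMap ∘ₗ f'
    refine ⟨n, f, ?_⟩
    have hf' : Function.Injective f' := by
      intro x y hxy
      have := congrArg Subtype.val hxy
      simp only [f', LinearMap.codRestrict_apply, LinearMap.smul_apply] at this
      have hd0 : (d : R) ≠ 0 := nonZeroDivisors.coe_ne_zero d
      have h2 : (d : R) • (g x - g y) = 0 := by rw [smul_sub, this, sub_self]
      have h3 : g x - g y = 0 := by
        funext l
        have := congrFun h2 l
        simp only [Pi.smul_apply, Pi.zero_apply, Algebra.smul_def] at this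
        rcases mul_eq_zero.mp this with h | h
        · exact absurd ((IsFractionRing.injective R K) (h.trans (map_zero _).symm)) hd0
        · exact h
      exact hg (sub_eq_zero.mp h3)
    exact (LinearEquiv.ofInjective j hj).symm.injective.comp hf'
  · rintro ⟨n, f, hf⟩
    exact Function.Injective.moduleIsTorsionFree f hf (fun r m => map_smul f r m)

end Groth.Agent.S6867
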