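import Groth.Statements.S6869
import Groth.Agent.S6867

set_option autoImplicit false
universe u
open CAlg

namespace Groth.Agent.S6869

/-- For a domain `R` and a finite `R`-module `M`, the evaluation map `M → M**` into the double dual is
injective exactly when `M` is torsion free. -/
theorem result (R : Type u) [CommRing R] [IsDomain R] (M : Type u)
    [AddCommGroup M] [Module R M] [Module.Finite R M] :
    Function.Injective (Module.Dual.eval R M) ↔ Module.IsTorsionFree R M := by
  constructor
  · intro hinj
    refine ⟨fun r hr m₁ m₂ h => ?_⟩
    have hr0 : r ≠ 0 := hr.ne_zero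
    have h0 : r • (m₁ - m₂) = 0 := by
      rw [smul_sub]; exact sub_eq_zero.mpr h
    have h1 : Module.Dual.eval R M (m₁ - m₂) = 0 := by
      ext φ
      have : φ (r • (m₁ - m₂)) = 0 := by rw [h0, map_zero]
      rw [map_smul, smul_eq_mul] at this
      simpa using (mul_eq_zero.mp this).resolve_left hr0
    have h2 := hinj (h1.trans (map_zero _).symm)
    exact sub_eq_zero.mp h2
  · intro hM
    obtain ⟨n, f, hf⟩ := (Groth.Agent.S6867.result R M).mp hM
    rw [injective_iff_map_eq_zero]
    intro m hm
    apply hf
    rw [map_zero]
    funext i
    have := LinearMap.congr_fun hm ((LinearMap.proj i : (Fin n → R) →ₗ[R] R) ∘ₗ f)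
    simpa using this

end Groth.Agent.S6869
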