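import Groth.Statements.S6872
import Groth.Agent.S6869

set_option autoImplicit false
universe u
open CAlg

namespace Groth.Agent.S6872

/-- Clearing denominators of a linear map from a finite module to the fraction field. -/
theorem clear_denoms (R : Type u) [CommRing R] [IsDomain R] (K : Type u) [Field K] [Algebra R K]
    [IsFractionRing R K] (M : Type u) [AddCommGroup M] [Module R M] [Module.Finite R M]
    (ℓ : M →ₗ[R] K) :
    ∃ (c : R) (ψ : M →ₗ[R] R), c ≠ 0 ∧ ∀ m, algebraMap R K (ψ m) = c • ℓ m := by
  classical
  obtain ⟨k, s, hs⟩ := Module.Finite.exists_fin (R := R) (M := M)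
  obtain ⟨d, hd⟩ := IsLocalization.exist_integer_multiples (nonZeroDivisors R)
    (Finset.univ : Finset (Fin k)) (fun i => ℓ (s i))
  have hmem : ∀ m, (d : R) • ℓ m ∈ LinearMap.range (Algebra.linearMap R K) := by
    intro m
    have hm : m ∈ Submodule.span R (Set.range s) := by rw [hs]; trivial
    induction hm using Submodule.span_induction with
    | mem x hx =>
      obtain ⟨i, rfl⟩ := hx
      obtain ⟨r, hr⟩ := hd i (Finset.mem_univ _)
      exact ⟨r, hr⟩
    | zero => simp
    | add x y _ _ hx hy =>
      rw [map_add, smul_add]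
      exact Submodule.add_mem _ hx hy
    | smul a x _ hx =>
      rw [map_smul, smul_comm]
      exact Submodule.smul_mem _ a hx
  have hinj : Function.Injective (Algebra.linearMap R K) := IsFractionRing.injective R K
  let f' : M →ₗ[R] LinearMap.range (Algebra.linearMap R K) :=
    LinearMap.codRestrict _ ((d : R) • ℓ) hmem
  let ψ : M →ₗ[R] R :=
    (LinearEquiv.ofInjective (Algebra.linearMap R K) hinj).symm.toLinearMap ∘ₗ f'
  refine ⟨d, ψ, nonZeroDivisors.coe_ne_zero d, fun m => ?_⟩
  exact congrArg Subtype.val
    ((LinearEquiv.ofInjective (Algebra.linearMap R K) hinj).apply_symm_apply (f' m))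

/-- Functionals on a submodule of a finite module over a domain extend up to a nonzero scalar. -/
theorem extend_functional (R : Type u) [CommRing R] [IsDomain R] {M M' : Type u}
    [AddCommGroup M] [Module R M] [AddCommGroup M'] [Module R M'] [Module.Finite R M']
    (f : M →ₗ[R] M') (hf : Function.Injective f) (φ : Module.Dual R M) :
    ∃ (c : R) (ψ : Module.Dual R M'), c ≠ 0 ∧ ψ ∘ₗ f = c • φ := by
  classical
  let S := nonZeroDivisors R
  let K := Localization S
  let V := LocalizedModule S M
  let V' := LocalizedModule S M'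
  let ι : M →ₗ[R] V := LocalizedModule.mkLinearMap S M
  let ι' : M' →ₗ[R] V' := LocalizedModule.mkLinearMap S M'
  let fK : V →ₗ[K] V' := LocalizedModule.map S f
  have hfK : Function.Injective fK := LocalizedModule.map_injective S f hf
  obtain ⟨g, hg⟩ := LinearMap.exists_leftInverse_of_injective fK (LinearMap.ker_eq_bot.mpr hfK)
  have hunit : ∀ x : S, IsUnit ((algebraMap R (Module.End R K)) x) := by
    intro x
    exact IsLocalizedModule.map_units (Algebra.linearMap R K) x
  let φK : V →ₗ[R] K := IsLocalizedModule.lift S ι ((Algebra.linearMap R K) ∘ₗ φ) hunit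
  let ℓ : M' →ₗ[R] K := φK ∘ₗ (g.restrictScalars R) ∘ₗ ι'
  obtain ⟨c, ψ, hc, hψ⟩ := clear_denoms R K M' ℓ
  refine ⟨c, ψ, hc, ?_⟩
  ext m
  apply IsFractionRing.injective R K
  rw [LinearMap.comp_apply, hψ]
  have h1 : ι' (f m) = fK (ι m) := by
    change LocalizedModule.mkLinearMap S M' (f m) =
      LocalizedModule.map S f (LocalizedModule.mkLinearMap S M m)
    rw [LocalizedModule.mkLinearMap_apply, LocalizedModule.mkLinearMap_apply,
      LocalizedModule.map_mk]
  have h2 : g (fK (ι m)) = ι m := LinearMap.congr_fun hg (ι m)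
  have h3 : φK (ι m) = algebraMap R K (φ m) :=
    IsLocalizedModule.lift_apply S ι _ hunit m
  simp only [ℓ, LinearMap.coe_comp, Function.comp_apply, LinearMap.coe_restrictScalars]
  rw [h1, h2, h3, LinearMap.smul_apply, smul_eq_mul, map_mul, Algebra.smul_def]

/-- Let `R` be a Noetherian domain and `f : M → M'`, `g : M' → M''` linear maps between finite
`R`-modules with `f` injective and image of `f` equal to kernel of `g` (so `0 → M → M' → M''` is
exact). Then reflexivity of `M'` together with torsion-freeness of `M''` forces `M` to be reflexive. -/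
theorem result (R : Type u) [CommRing R] [IsDomain R]
    [IsNoetherianRing R] {M M' M'' : Type u} [AddCommGroup M] [Module R M] [Module.Finite R M]
    [AddCommGroup M'] [Module R M'] [Module.Finite R M'] [AddCommGroup M''] [Module R M''] [Module.Finite R M'']
    (f : M →ₗ[R] M') (g : M' →ₗ[R] M'') (hf : Function.Injective f) (hfg : Function.Exact f g)
    [Module.IsReflexive R M'] [Module.IsTorsionFree R M''] : Module.IsReflexive R M := by
  have nat_f : ∀ m, Module.Dual.eval R M' (f m) =
      f.dualMap.dualMap (Module.Dual.eval R M m) := by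
    intro m; ext ψ; simp
  have nat_g : ∀ m', Module.Dual.eval R M'' (g m') =
      g.dualMap.dualMap (Module.Dual.eval R M' m') := by
    intro m'; ext ψ; simp
  have hj' : Function.Bijective (Module.Dual.eval R M') := Module.bijective_dual_eval R M'
  have hj'' : Function.Injective (Module.Dual.eval R M'') :=
    (Groth.Agent.S6869.result R M'').mpr inferInstance
  have hfdd : Function.Injective f.dualMap.dualMap := by
    rw [injective_iff_map_eq_zero]
    intro ξ hξ
    ext φ
    obtain ⟨c, ψ, hc, hψ⟩ := extend_functional R f hf φ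
    have h1 : f.dualMap.dualMap ξ ψ = 0 := by rw [hξ]; rfl
    rw [LinearMap.dualMap_apply, LinearMap.dualMap_apply', hψ, map_smul, smul_eq_mul] at h1
    exact (mul_eq_zero.mp h1).resolve_left hc
  refine ⟨⟨?_, ?_⟩⟩
  · intro x y hxy
    apply hf
    apply hj'.1
    rw [nat_f, nat_f, hxy]
  · intro ξ
    obtain ⟨m', hm'⟩ := hj'.2 (f.dualMap.dualMap ξ)
    have hgm' : g m' = 0 := by
      apply hj''
      rw [map_zero, nat_g, hm']
      ext χ
      rw [LinearMap.dualMap_apply, LinearMap.dualMap_apply, LinearMap.dualMap_apply',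
        LinearMap.dualMap_apply']
      have : (χ ∘ₗ g) ∘ₗ f = 0 := by
        ext m
        simp only [LinearMap.coe_comp, Function.comp_apply, LinearMap.zero_apply]
        rw [hfg.apply_apply_eq_zero, map_zero]
      rw [this, map_zero]
      rfl
    obtain ⟨m, rfl⟩ := (hfg m').mp hgm'
    refine ⟨m, ?_⟩
    apply hfdd
    rw [← nat_f, hm']

end Groth.Agent.S6872
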