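import Groth.Statements.S6875
import Groth.Agent.S6872

set_option autoImplicit false
universe u
open CAlg

namespace Groth.Agent.S6875

theorem pi_reflexive (R : Type u) [CommRing R] (N : Type u) [AddCommGroup N] [Module R N]
    [Module.IsReflexive R N] (n : ℕ) : Module.IsReflexive R (Fin n → N) := by
  induction n with
  | zero =>
    refine ⟨⟨fun x y _ => Subsingleton.elim x y, fun ξ => ⟨0, ?_⟩⟩⟩
    ext φ
    have : φ = 0 := LinearMap.ext fun x => by
      rw [Subsingleton.elim x 0, map_zero, LinearMap.zero_apply]
    rw [this, map_zero, map_zero]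
  | succ n ih => exact Module.equiv (Fin.consLinearEquiv R (fun _ => N))

/-- Let `R` be a Noetherian domain, `M` a finite `R`-module and `N` a finite reflexive `R`-module. Then
`Hom_R(M, N)` is reflexive. -/
theorem result (R : Type u) [CommRing R] [IsDomain R] [IsNoetherianRing R]
    (M N : Type u) [AddCommGroup M] [Module R M] [Module.Finite R M] [AddCommGroup N] [Module R N] [Module.Finite R N]
    [Module.IsReflexive R N] : Module.IsReflexive R (M →ₗ[R] N) := by
  obtain ⟨n, π, hπ⟩ := Module.Finite.exists_fin' R M
  have hker : (LinearMap.ker π).FG := IsNoetherian.noetherian _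
  have : Module.Finite R (LinearMap.ker π) := Module.Finite.iff_fg.mpr hker
  obtain ⟨m, ρ, hρ⟩ := Module.Finite.exists_fin' R (LinearMap.ker π)
  let α : (Fin m → R) →ₗ[R] (Fin n → R) := (LinearMap.ker π).subtype ∘ₗ ρ
  have hα : Function.Exact α π := by
    intro x
    constructor
    · intro hx
      obtain ⟨y, hy⟩ := hρ ⟨x, hx⟩
      exact ⟨y, by simp [α, hy]⟩
    · rintro ⟨y, rfl⟩
      exact (ρ y).2
  let F : (M →ₗ[R] N) →ₗ[R] ((Fin n → R) →ₗ[R] N) :=
    (LinearMap.llcomp R (Fin n → R) M N).flip π
  let G : ((Fin n → R) →ₗ[R] N) →ₗ[R] ((Fin m → R) →ₗ[R] N) :=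
    (LinearMap.llcomp R (Fin m → R) (Fin n → R) N).flip α
  have hF : Function.Injective F := hπ.injective_linearMapComp_right
  have hFG : Function.Exact F G := by
    intro h
    constructor
    · intro hh
      have hle : LinearMap.ker π ≤ LinearMap.ker h := by
        intro x hx
        obtain ⟨y, rfl⟩ := (hα x).mp hx
        exact LinearMap.congr_fun hh y
      refine ⟨(LinearMap.ker π).liftQ h hle ∘ₗ
        (π.quotKerEquivOfSurjective hπ).symm.toLinearMap, ?_⟩
      refine LinearMap.ext fun x => ?_
      simp only [F, LinearMap.flip_apply, LinearMap.llcomp_apply, LinearMap.coe_comp,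
        LinearEquiv.coe_coe, Function.comp_apply]
      have : (π.quotKerEquivOfSurjective hπ).symm (π x) = (LinearMap.ker π).mkQ x := by
        rw [LinearEquiv.symm_apply_eq]
        rfl
      rw [this]
      rfl
    · rintro ⟨h', rfl⟩
      refine LinearMap.ext fun y => ?_
      simp only [F, G, α, LinearMap.flip_apply, LinearMap.llcomp_apply, LinearMap.coe_comp,
        Function.comp_apply, Submodule.coe_subtype, LinearMap.zero_apply]
      rw [LinearMap.mem_ker.mp (ρ y).2, map_zero]
  have : Module.IsReflexive R (Fin n → N) := pi_reflexive R N n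
  have : Module.IsReflexive R ((Fin n → R) →ₗ[R] N) :=
    Module.equiv (Module.piEquiv (Fin n) R N)
  exact Groth.Agent.S6872.result R F G hF hFG

end Groth.Agent.S6875
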