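import Groth.Statements.S0019
import Groth.Agent.Lib.Helper13.QCohPush
import Groth.Agent.Lib.Helper13.FinAffine2

set_option autoImplicit false
universe u
open Coherent

namespace Groth.Agent.S0019

open AlgebraicGeometry CategoryTheory in

open AlgebraicGeometry in
/-- If f : X → Y is a finite morphism of schemes with Y locally Noetherian and F is a coherent
O_X-module, then the direct image f_*F is a coherent O_Y-module. -/
theorem result {X Y : Scheme.{u}} (f : X ⟶ Y) [IsFinite f] [IsLocallyNoetherian Y]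
    (M : X.Modules) (hM : Coh.IsCoh M) : Coh.IsCoh ((Coh.push f).obj M) := by
  have hMq : M.IsQuasicoherent := hM.1
  have hMf : SheafOfModules.IsFiniteType (R := X.ringCatSheaf) M := hM.2
  have hq : ((Scheme.Modules.pushforward f).obj M).IsQuasicoherent :=
    Groth.Agent.Helper13.QCohPush.isQuasicoherent_pushforward f M
  refine ⟨hq, ?_⟩
  show SheafOfModules.IsFiniteType (R := Y.ringCatSheaf) ((Scheme.Modules.pushforward f).obj M)
  rw [Groth.Agent.Helper13.FinType.isFiniteType_iff_finite_sections]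
  intro V hV
  have hU : IsAffineOpen (f ⁻¹ᵁ V) := hV.preimage f
  have h1 : Module.Finite Γ(X, f ⁻¹ᵁ V) Γ(M, f ⁻¹ᵁ V) :=
    Groth.Agent.Helper13.FinType.finite_sections_of_isFiniteType M hU
  have h2 : (f.app V).hom.Finite := IsFinite.finite_app f V hV
  have key : @Module.Finite Γ(Y, V) Γ(M, f ⁻¹ᵁ V) _ _
      (Module.compHom Γ(M, f ⁻¹ᵁ V) (f.app V).hom) := by
    algebraize [(f.app V).hom]
    letI : Module Γ(Y, V) Γ(M, f ⁻¹ᵁ V) := Module.compHom Γ(M, f ⁻¹ᵁ V) (f.app V).hom
    have : IsScalarTower Γ(Y, V) Γ(X, f ⁻¹ᵁ V) Γ(M, f ⁻¹ᵁ V) :=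
      IsScalarTower.of_algebraMap_smul (fun r t => rfl)
    exact Module.Finite.trans Γ(X, f ⁻¹ᵁ V) Γ(M, f ⁻¹ᵁ V)
  exact key

end Groth.Agent.S0019
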