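import Groth.Statements.S1861
import Mathlib
import Groth.Agent.Lib.Helper14.DimClosure
-- import your own Groth.Agent.* helpers here

set_option autoImplicit false
universe u
open CategoryTheory AlgebraicGeometry
open Cyc

namespace Groth.Agent.S1861

open AlgebraicGeometry CategoryTheory TopologicalSpace Groth.Agent.Helper14 in
theorem dim_component {X Y : Scheme.{u}} (δX : X → ℤ) (δY : Y → ℤ) (hX : Cyc.IsSetup X δX)
    (f : X ⟶ Y) [LocallyOfFiniteType f] (hδ : Cyc.DeltaCompat f δX δY) (x : X) (n : ℕ)
    (hn : δX x = δY (f x) + n) :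
    topologicalKrullDim (closure ({f.asFiber x} : Set (f.fiber (f x)))) = (n : WithBot ℕ∞) := by
  obtain ⟨hNoeth, -, hdim⟩ := hX
  haveI := hNoeth
  have hιz : f.fiberι (f x) (f.asFiber x) = x := f.fiberι_asFiber x
  have hιf : ∀ w : f.fiber (f x), f (f.fiberι (f x) w) = f x := fun w =>
    (f.fiberHomeo (f x) w).2
  have hemb := (f.fiberι (f x)).isEmbedding
  apply le_antisymm
  · haveI : QuasiSober (closure ({f.asFiber x} : Set (f.fiber (f x)))) :=
      (isClosed_closure.isClosedEmbedding_subtypeVal).quasiSober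
    have h := DimClosure.topDim_le_of_strictAnti
      (fun w : closure ({f.asFiber x} : Set (f.fiber (f x))) => δX (f.fiberι (f x) w.1)) ?_
      (δY (f x)) (δX x) ?_ ?_
    · refine h.trans_eq ?_
      rw [hn]
      simp
    · intro w w' hww' hne
      have h1 : (w : f.fiber (f x)) ⤳ (w' : f.fiber (f x)) := (subtype_specializes_iff w w').mp hww'
      have h2 : f.fiberι (f x) w.1 ⤳ f.fiberι (f x) w'.1 := h1.map (f.fiberι (f x)).continuous
      exact (hdim _ _ h2 (fun e => hne (Subtype.ext (hemb.injective e)))).1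
    · intro w
      obtain ⟨m, -, hm⟩ := hδ (f.fiberι (f x) w.1)
      change δY (f x) ≤ δX (f.fiberι (f x) w.1)
      rw [hm, hιf]
      have : (0 : ℤ) ≤ m := Int.natCast_nonneg m
      linarith
    · intro w
      have h1 : f.asFiber x ⤳ (w : f.fiber (f x)) := specializes_iff_mem_closure.mpr w.2
      have h2 : x ⤳ f.fiberι (f x) w.1 := by
        have := h1.map (f.fiberι (f x)).continuous
        rwa [hιz] at this
      change δX (f.fiberι (f x) w.1) ≤ δX x
      by_cases e : x = f.fiberι (f x) w.1
      · rw [← e]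
      · exact (hdim _ _ h2 e).1.le
  · obtain ⟨t, hxt, hft, ht0⟩ := DimClosure.exists_specializes_trdeg_eq_zero f x
    have hδt : δX t = δY (f x) := by
      obtain ⟨m, hm, hm'⟩ := hδ t
      have hm0 : m = 0 := by
        have h1 : ((m : ℕ) : Cardinal.{u}) = 0 := hm.symm.trans ht0
        exact_mod_cast h1
      rw [hm', hm0, hft]
      simp
    obtain ⟨U, hU, htU, -⟩ := exists_isAffineOpen_mem_and_subset (x := t)
      (U := (⊤ : X.Opens)) trivial
    have hxU : x ∈ U := hxt.mem_open U.isOpen htU
    haveI : IsNoetherianRing Γ(X, U) := IsLocallyNoetherian.component_noetherian ⟨U, hU⟩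
    obtain ⟨m, hm, hδm⟩ := DimFun.delta_eq_add_height_sch δX hdim hU x t hxU htU hxt
    have hmn : m = n := by
      have : (m : ℤ) = n := by linarith
      exact_mod_cast this
    subst hmn
    let q : Ideal Γ(X, U) := (hU.primeIdealOf ⟨x, hxU⟩).asIdeal
    haveI : q.IsPrime := (hU.primeIdealOf ⟨x, hxU⟩).isPrime
    let q' : Ideal Γ(X, U) := (hU.primeIdealOf ⟨t, htU⟩).asIdeal
    haveI : q'.IsPrime := (hU.primeIdealOf ⟨t, htU⟩).isPrime
    have e1 : hU.fromSpec (hU.primeIdealOf ⟨x, hxU⟩) = x := hU.fromSpec_primeIdealOf ⟨x, hxU⟩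
    have e2 : hU.fromSpec (hU.primeIdealOf ⟨t, htU⟩) = t := hU.fromSpec_primeIdealOf ⟨t, htU⟩
    have hqq' : q ≤ q' := by
      have : hU.primeIdealOf ⟨x, hxU⟩ ≤ hU.primeIdealOf ⟨t, htU⟩ := by
        rw [← ResFieldBridge.specializes_fromSpec_iff hU, e1, e2]
        exact hxt
      exact this
    have hQ' : (q'.map (Ideal.Quotient.mk q)).IsPrime :=
      Ideal.map_isPrime_of_surjective Ideal.Quotient.mk_surjective
        (by rw [Ideal.mk_ker]; exact hqq')
    let Qt : PrimeSpectrum (Γ(X, U) ⧸ q) := ⟨q'.map (Ideal.Quotient.mk q), hQ'⟩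
    have hh : Order.height Qt = m := by
      rw [← PrimeSpectrum.height_eq_orderHeight]
      exact hm
    have h1 : ((m : ℕ∞) : WithBot ℕ∞) = Order.krullDim (Set.Iic Qt) := by
      rw [← hh]
      exact Order.height_eq_krullDim_Iic Qt
    refine le_trans (le_of_eq (by exact_mod_cast h1)) ?_
    have hcQt : PrimeSpectrum.comap (Ideal.Quotient.mk q) Qt = hU.primeIdealOf ⟨t, htU⟩ := by
      apply PrimeSpectrum.ext
      change (q'.map (Ideal.Quotient.mk q)).comap (Ideal.Quotient.mk q) = q'
      rw [Ideal.comap_map_of_surjective' _ Ideal.Quotient.mk_surjective, Ideal.mk_ker]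
      exact sup_eq_left.mpr hqq'
    have hxP : ∀ P : PrimeSpectrum (Γ(X, U) ⧸ q),
        x ⤳ hU.fromSpec (PrimeSpectrum.comap (Ideal.Quotient.mk q) P) := by
      intro P
      conv_lhs => rw [← e1]
      rw [ResFieldBridge.specializes_fromSpec_iff hU]
      change q ≤ P.asIdeal.comap (Ideal.Quotient.mk q)
      conv_lhs => rw [← Ideal.mk_ker (I := q), RingHom.ker_eq_comap_bot]
      exact Ideal.comap_mono bot_le
    have hPt : ∀ P : Set.Iic Qt,
        hU.fromSpec (PrimeSpectrum.comap (Ideal.Quotient.mk q) P.1) ⤳ t := by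
      intro P
      conv_rhs => rw [← e2]
      rw [ResFieldBridge.specializes_fromSpec_iff hU, ← hcQt]
      exact Ideal.comap_mono (f := Ideal.Quotient.mk q) P.2
    have hfP : ∀ P : Set.Iic Qt,
        f (hU.fromSpec (PrimeSpectrum.comap (Ideal.Quotient.mk q) P.1)) = f x := by
      intro P
      have s1 : f x ⤳ f (hU.fromSpec (PrimeSpectrum.comap (Ideal.Quotient.mk q) P.1)) :=
        (hxP P.1).map f.continuous
      have s2 : f (hU.fromSpec (PrimeSpectrum.comap (Ideal.Quotient.mk q) P.1)) ⤳ f x := by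
        have := (hPt P).map f.continuous
        rwa [hft] at this
      exact (s2.antisymm s1).eq
    let w : Set.Iic Qt → f.fiber (f x) := fun P =>
      (f.fiberHomeo (f x)).symm
        ⟨hU.fromSpec (PrimeSpectrum.comap (Ideal.Quotient.mk q) P.1), hfP P⟩
    have hιw : ∀ P : Set.Iic Qt, f.fiberι (f x) (w P) =
        hU.fromSpec (PrimeSpectrum.comap (Ideal.Quotient.mk q) P.1) := fun P =>
      f.fiberι_fiberHomeo_symm (f x) _
    have hwmem : ∀ P : Set.Iic Qt, w P ∈ closure ({f.asFiber x} : Set (f.fiber (f x))) := by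
      intro P
      rw [← specializes_iff_mem_closure, ← hemb.isInducing.specializes_iff, hιz, hιw]
      exact hxP P.1
    refine DimClosure.krullDim_le_topDim_of_strictAnti
      (fun P : Set.Iic Qt => (⟨w P, hwmem P⟩ : closure ({f.asFiber x} : Set (f.fiber (f x))))) ?_
    intro P₁ P₂ h12
    have h12' : P₁.1 < P₂.1 := h12
    have hinj : Function.Injective (PrimeSpectrum.comap (Ideal.Quotient.mk q)) :=
      PrimeSpectrum.comap_injective_of_surjective _ Ideal.Quotient.mk_surjective
    have hle : PrimeSpectrum.comap (Ideal.Quotient.mk q) P₁.1 ≤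
        PrimeSpectrum.comap (Ideal.Quotient.mk q) P₂.1 :=
      Ideal.comap_mono (f := Ideal.Quotient.mk q) h12'.le
    constructor
    · rw [subtype_specializes_iff]
      change w P₁ ⤳ w P₂
      rw [← hemb.isInducing.specializes_iff, hιw, hιw]
      exact (ResFieldBridge.specializes_fromSpec_iff hU _ _).mpr hle
    · intro e
      have e' : w P₁ = w P₂ := congrArg Subtype.val e
      have e'' := congrArg (f.fiberι (f x)) e'
      rw [hιw, hιw] at e''
      exact h12'.ne (hinj (hU.fromSpec.isOpenEmbedding.injective e''))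

/-- Let f : X → Y be flat, locally of finite type, of relative dimension r, y a point of Y and x a point
of X that is generic in an irreducible component of f⁻¹ of the closure of y (that is, x lies in that
closed set and has no proper generalization in it). Then f(x) = y and δX(x) = δY(y) + r. Here a pair
(X, δ) with Cyc.IsSetup plays the role of a scheme locally of finite type over a fixed base with a
dimension function (X locally Noetherian with universally catenary local rings, δ a dimension
function), and Cyc.DeltaCompat records that the dimension function upstairs is the induced one. -/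
theorem result (X Y : Scheme.{u}) (δX : X → ℤ) (δY : Y → ℤ) (hX : Cyc.IsSetup X δX) (hY : Cyc.IsSetup Y δY) (f : X ⟶ Y) [Flat f] [LocallyOfFiniteType f] (r : ℕ) (hr : Cyc.HasRelDim f r) (hδ : Cyc.DeltaCompat f δX δY) (y : Y) (x : X) (hx : f x ∈ closure ({y} : Set Y)) (hmax : ∀ x' : X, f x' ∈ closure ({y} : Set Y) → x' ⤳ x → x' = x) : f x = y ∧ δX x = δY y + r := by
  obtain ⟨x₁, hx₁x, hfx₁⟩ := (Flat.generalizingMap f) (specializes_iff_mem_closure.mpr hx)
  have hx₁ : x₁ = x := hmax x₁ (by rw [hfx₁]; exact subset_closure rfl) hx₁x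
  subst hx₁
  subst hfx₁
  refine ⟨rfl, ?_⟩
  obtain ⟨n, -, hn⟩ := hδ x₁
  have h1 := dim_component δX δY hX f hδ x₁ n hn
  have hT : closure ({f.asFiber x₁} : Set (f.fiber (f x₁))) ∈
      irreducibleComponents (f.fiber (f x₁)) := by
    refine ⟨isIrreducible_singleton.closure, fun Z hZ hle => ?_⟩
    have hZ' : IsIrreducible (closure Z) := hZ.closure
    obtain ⟨ζ, hζ⟩ := QuasiSober.sober hZ' isClosed_closure
    have hzZ : f.asFiber x₁ ∈ closure Z := subset_closure (hle (subset_closure rfl))
    have hsp : ζ ⤳ f.asFiber x₁ := by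
      rw [specializes_iff_mem_closure, hζ.def]
      exact hzZ
    have hsp' : f.fiberι (f x₁) ζ ⤳ x₁ := by
      have := hsp.map (f.fiberι (f x₁)).continuous
      rwa [f.fiberι_asFiber x₁] at this
    have hfζ : f (f.fiberι (f x₁) ζ) = f x₁ := (f.fiberHomeo (f x₁) ζ).2
    have hζx := hmax (f.fiberι (f x₁) ζ) (by rw [hfζ]; exact subset_closure rfl) hsp'
    have hζz : ζ = f.asFiber x₁ := by
      apply (f.fiberι (f x₁)).isEmbedding.injective
      rw [hζx, f.fiberι_asFiber x₁]
    rw [← hζz, hζ.def]
    exact subset_closure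
  have h2 := hr (f x₁) _ hT
  rw [h1] at h2
  have : n = r := by exact_mod_cast h2
  rw [hn, this]

end Groth.Agent.S1861
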