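import Groth.Statements.S0335
import Mathlib
import Groth.Agent.Lib.Lead.Conn4

set_option autoImplicit false
universe u v
open LocCoh

namespace Groth.Agent.S0335

/-- For the ring itself; Hartshorne's connectedness: if a Noetherian local ring has depth at least 2
then its punctured spectrum is connected. -/
theorem result (R : Type u) [CommRing R] [IsLocalRing R] [IsNoetherianRing R] (h : 2 ≤ LocCoh.depth R R) : IsConnected {x : PrimeSpectrum R | x.asIdeal ≠ IsLocalRing.maximalIdeal R} := by
  classical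
  have hne : IsLocalRing.maximalIdeal R • (⊤ : Submodule R R) ≠ ⊤ :=
    Groth.Agent.Lead.Depth.maximalIdeal_smul_top_ne_top R
  -- a regular element in the maximal ideal
  obtain ⟨rs, hlen, hreg, hmem⟩ := Groth.Agent.Lead.Depth.exists_of_le_idealDepth
    (IsLocalRing.maximalIdeal R) R hne 1 (le_trans (by norm_num) h)
  obtain ⟨x, rfl⟩ := List.length_eq_one_iff.mp hlen
  have hx : x ∈ IsLocalRing.maximalIdeal R := hmem x (by simp)
  have hxreg : IsSMulRegular R x := (RingTheory.Sequence.isWeaklyRegular_singleton_iff R x).mp hreg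
  -- minimal primes are not the maximal ideal
  have hmin : ∀ p ∈ minimalPrimes R, p ≠ IsLocalRing.maximalIdeal R := by
    rintro p hp rfl
    have h1 := Ideal.disjoint_nonZeroDivisors_of_mem_minimalPrimes hp
    have h2 : x ∈ nonZeroDivisors R := by
      rw [mem_nonZeroDivisors_iff_right]
      intro y hy
      apply hxreg
      simp only [smul_eq_mul, mul_zero]
      rw [mul_comm]; exact hy
    exact Set.disjoint_left.mp h1 hx h2
  obtain ⟨p0, hp0, -⟩ := Ideal.exists_minimalPrimes_le (I := ⊥)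
    (J := IsLocalRing.maximalIdeal R) bot_le
  refine ⟨⟨⟨p0, hp0.1.1⟩, hmin p0 hp0⟩, ?_⟩
  rw [isPreconnected_closed_iff]
  intro t t' ht ht' hcov hnt hnt'
  obtain ⟨a, rfl⟩ := (PrimeSpectrum.isClosed_iff_zeroLocus_ideal t).mp ht
  obtain ⟨b, rfl⟩ := (PrimeSpectrum.isClosed_iff_zeroLocus_ideal t').mp ht'
  by_contra hempty
  rw [Set.not_nonempty_iff_eq_empty] at hempty
  have hcovP : ∀ P : Ideal R, P.IsPrime → a ≤ P ∨ b ≤ P := by
    intro P hP
    haveI := hP
    obtain ⟨q0, hq0, hle⟩ := Ideal.exists_minimalPrimes_le (I := ⊥) (J := P) bot_le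
    have hq0' : (⟨q0, hq0.1.1⟩ : PrimeSpectrum R) ∈
        {x : PrimeSpectrum R | x.asIdeal ≠ IsLocalRing.maximalIdeal R} := hmin q0 hq0
    rcases hcov hq0' with h1 | h1
    · left
      rw [PrimeSpectrum.mem_zeroLocus, SetLike.coe_subset_coe] at h1
      exact h1.trans hle
    · right
      rw [PrimeSpectrum.mem_zeroLocus, SetLike.coe_subset_coe] at h1
      exact h1.trans hle
  have hab : a ⊓ b ≤ nilradical R := by
    rw [nilradical_eq_sInf]
    refine le_sInf fun P hP => ?_
    rcases hcovP P hP with h1 | h1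
    · exact inf_le_left.trans h1
    · exact inf_le_right.trans h1
  have honly : ∀ P : Ideal R, P.IsPrime → a ⊔ b ≤ P → P = IsLocalRing.maximalIdeal R := by
    intro P hP hle
    by_contra hPm
    have : (⟨P, hP⟩ : PrimeSpectrum R) ∈ ({x : PrimeSpectrum R | x.asIdeal ≠
        IsLocalRing.maximalIdeal R} ∩ (PrimeSpectrum.zeroLocus (a : Set R) ∩
          PrimeSpectrum.zeroLocus (b : Set R))) := by
      refine ⟨hPm, ?_, ?_⟩
      · rw [PrimeSpectrum.mem_zeroLocus, SetLike.coe_subset_coe]; exact le_sup_left.trans hle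
      · rw [PrimeSpectrum.mem_zeroLocus, SetLike.coe_subset_coe]; exact le_sup_right.trans hle
    rw [hempty] at this
    exact this
  have hnil : ∀ c : Ideal R, c ≤ nilradical R → ∀ y : PrimeSpectrum R,
      y ∈ PrimeSpectrum.zeroLocus (c : Set R) := by
    intro c hc y
    rw [PrimeSpectrum.mem_zeroLocus, SetLike.coe_subset_coe]
    refine hc.trans ?_
    rw [nilradical_eq_sInf]
    exact sInf_le y.isPrime
  rcases Groth.Agent.Lead.Conn.le_nilradical_or_le_nilradical a b hab honly h with h1 | h1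
  · obtain ⟨y, hy1, hy2⟩ := hnt'
    have : y ∈ ({x : PrimeSpectrum R | x.asIdeal ≠ IsLocalRing.maximalIdeal R} ∩
        (PrimeSpectrum.zeroLocus (a : Set R) ∩ PrimeSpectrum.zeroLocus (b : Set R))) :=
      ⟨hy1, hnil a h1 y, hy2⟩
    rw [hempty] at this
    exact this
  · obtain ⟨y, hy1, hy2⟩ := hnt
    have : y ∈ ({x : PrimeSpectrum R | x.asIdeal ≠ IsLocalRing.maximalIdeal R} ∩
        (PrimeSpectrum.zeroLocus (a : Set R) ∩ PrimeSpectrum.zeroLocus (b : Set R))) :=
      ⟨hy1, hy2, hnil b h1 y⟩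
    rw [hempty] at this
    exact this

end Groth.Agent.S0335
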