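import Groth.Statements.S0008
import Mathlib
import Groth.Agent.Lib.Helper13.CechQCoh

set_option autoImplicit false
universe u
open Coherent

namespace Groth.Agent.S0008

open AlgebraicGeometry CategoryTheory Opposite TopologicalSpace

open AlgebraicGeometry in
/-- For a ring A, an A-module M and elements f_1, …, f_n generating the unit ideal, the Čech cohomology
of the associated module on Spec A with respect to the covering by the basic opens D(f_i) vanishes
in every positive degree. -/
theorem result (A : Type u) [CommRing A] (M : ModuleCat.{u} A)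
    (n : ℕ) (f : ULift.{u} (Fin n) → A) (hf : Ideal.span (Set.range f) = ⊤) (p : ℕ) (hp : 0 < p) :
    CategoryTheory.Limits.IsZero (CohB1.cechH (fun i => PrimeSpectrum.basicOpen (f i)) (tilde (R := CommRingCat.of A) M) p) := by
  obtain ⟨q, rfl⟩ : ∃ q, p = q + 1 := ⟨p - 1, by omega⟩
  let f' : ULift.{u} (Fin n) → Γ(Spec (CommRingCat.of A), ⊤) :=
    fun i => (Scheme.ΓSpecIso (CommRingCat.of A)).inv (f i)
  have hb : (fun i => (Spec (CommRingCat.of A)).basicOpen (f' i)) =
      fun i => PrimeSpectrum.basicOpen (f i) := by
    funext i
    exact basicOpen_eq_of_affine (R := CommRingCat.of A) (f i)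
  have hcov : ⨆ k, (Spec (CommRingCat.of A)).basicOpen (f' k) = ⊤ := by
    have := congrFun hb
    simp only [this]
    exact PrimeSpectrum.iSup_basicOpen_eq_top_iff.2 hf
  have h := Groth.Agent.Helper13.CechQCoh.isZero_cechH_basicOpen (tilde (R := CommRingCat.of A) M)
    (isAffineOpen_top (Spec (CommRingCat.of A))) f' hcov q
  rw [hb] at h
  exact h

end Groth.Agent.S0008
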