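import Groth.Statements.S0010
import Mathlib
import Groth.Agent.Lib.Helper13.VanishBound
import Groth.Agent.Lib.Helper13.Qcqs

set_option autoImplicit false
universe u
open Coherent

namespace Groth.Agent.S0010

open AlgebraicGeometry CategoryTheory CategoryTheory.Limits Opposite TopologicalSpace

open AlgebraicGeometry in
/-- Let X be a scheme in which the intersection of any two affine opens is affine (equivalently, X has
affine diagonal; e.g. X separated), covered by t affine opens. Then H^n(X, F) = 0 for every
quasi-coherent F and every n ≥ t. -/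
theorem result (X : Scheme.{u}) (t : ℕ) (U : Fin t → X.Opens)
    (hU : ∀ i, IsAffineOpen (U i)) (hcov : ⨆ i, U i = ⊤)
    (hd : ∀ V W : X.Opens, IsAffineOpen V → IsAffineOpen W → IsAffineOpen (V ⊓ W))
    (M : X.Modules) [Coh.IsQCoh M] (n : ℕ) (hn : t ≤ n) :
    Subsingleton (Coh.HH X M n) := by
  suffices h : Subsingleton (CohTop.HU (X := X.toTopCat) (Coh.toAb M) n ⊤) from
    (Groth.Agent.Helper13.HUTop.HUtopEquiv (X := X.toTopCat) (Coh.toAb M) n).symm.injective.subsingleton
  cases t with
  | zero =>
    have hbot : (⊤ : X.Opens) = ⊥ := by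
      rw [← hcov]
      exact iSup_of_empty _
    cases n with
    | zero =>
      have e := Sheaf.H.equiv₀ (Coh.toAb M) (T := (⊤ : Opens X.toTopCat)) isTerminalTop
      haveI h1 : Subsingleton ((Coh.toAb M).obj.obj (op (⊤ : Opens X.toTopCat))) :=
        Groth.Agent.Helper13.Qcqs.subsingleton_of_le_bot M hbot.le
      haveI h2 : Subsingleton (CohTop.H (X := X.toTopCat) (Coh.toAb M) 0) := e.injective.subsingleton
      exact (Groth.Agent.Helper13.HUTop.HUtopEquiv (X := X.toTopCat) (Coh.toAb M) 0).injective.subsingleton
    | succ m =>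
      have haff : IsAffineOpen (⊤ : X.Opens) := by rw [hbot]; exact isAffineOpen_bot X
      exact Groth.Agent.Helper13.AffineVanish.HU_subsingleton_of_isAffineOpen M ⊤ haff m
  | succ s =>
    rw [← hcov]
    exact Groth.Agent.Helper13.VanishBound.HU_iSup_fin_subsingleton M {V | IsAffineOpen V}
      (fun V hV => hV) (fun V hV W hW => hd V W hV hW) s U hU n hn

end Groth.Agent.S0010
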