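import Groth.Statements.S0014
import Mathlib
import Groth.Agent.Lib.Helper13.SerreFT2
import Groth.Agent.S0009

set_option autoImplicit false
universe u
open Coherent

namespace Groth.Agent.S0014

open Coherent

open AlgebraicGeometry CategoryTheory CategoryTheory.Limits Opposite
open Groth.Agent.Helper13.ToAbExact Groth.Agent.Helper13.SerreFT

open AlgebraicGeometry CategoryTheory in

open AlgebraicGeometry CategoryTheory in
/-- If X is quasi-compact and quasi-separated and H^1 vanishes for every quasi-coherent submodule of
finite type of the structure sheaf, then X is affine. -/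
theorem result (X : Scheme.{u}) [CompactSpace X]
    [QuasiSeparatedSpace X]
    (h : ∀ (I : X.Modules) (i : I ⟶ Coh.structureModule X), Mono i →
      Coh.IsQCoh I → CohB1.IsFT I → Subsingleton (Coh.HH X I 1)) : IsAffine X := by
  apply Groth.Agent.S0009.result X
  intro I i hi hq
  haveI := hi
  haveI : I.IsQuasicoherent := hq
  obtain ⟨N, m, hm, hNq, hN1⟩ := exists_embed X I
  haveI := hm
  haveI := hNq
  have hsurj := app_top_surjective_cokernel h I N i m
  let S : ShortComplex X.Modules := ShortComplex.mk m (cokernel.π m) (cokernel.condition m)
  have hS : S.ShortExact :=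
    ShortComplex.ShortExact.mk' (ShortComplex.exact_of_g_is_cokernel _ (cokernelIsCokernel _))
      (inferInstanceAs (Mono m)) (inferInstanceAs (Epi (cokernel.π m)))
  have hS' := toAb_shortExact S hS
  exact Groth.Agent.Helper13.H1Push.H1_subsingleton_of_surjective (S.map (toAbF X)) hS' hN1 hsurj

end Groth.Agent.S0014
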