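import Groth.Statements.S0015


set_option autoImplicit false
universe u
open Coherent

namespace Groth.Agent.S0015

open AlgebraicGeometry in
/-- Let X be quasi-compact and quasi-separated and P a property of opens of X. If P holds for affine
opens, and P(U ∪ V) follows from P(U), P(V), P(U ∩ V) whenever U is quasi-compact open and V affine
open, then P holds for every quasi-compact open, in particular for X. -/
theorem result (X : Scheme.{u}) [CompactSpace X] [QuasiSeparatedSpace X]
    (P : X.Opens → Prop) (h₁ : ∀ U : X.Opens, IsAffineOpen U → P U)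
    (h₂ : ∀ U V : X.Opens, IsCompact (U : Set X) → IsAffineOpen V → P U → P V → P (U ⊓ V) →
      P (U ⊔ V))
    (U : X.Opens) (hU : IsCompact (U : Set X)) : P U := by
  classical
  have hcpt : ∀ (V : X.Opens), IsAffineOpen V → ∀ s : Finset Γ(X, V),
      IsCompact (((s.sup fun f => X.basicOpen f : X.Opens)) : Set X) := by
    intro V hV s
    induction s using Finset.induction_on with
    | empty =>
      rw [Finset.sup_empty]
      simp
    | insert f s hf ih =>
      rw [Finset.sup_insert, TopologicalSpace.Opens.coe_sup]
      exact (hV.basicOpen f).isCompact.union ih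
  have step1 : ∀ (V : X.Opens), IsAffineOpen V → ∀ (n : ℕ) (s : Finset Γ(X, V)), s.card ≤ n →
      P (s.sup fun f => X.basicOpen f) := by
    intro V hV n
    induction n with
    | zero =>
      intro s hs
      have hs0 : s = ∅ := Finset.card_eq_zero.mp (Nat.le_zero.mp hs)
      subst hs0
      rw [Finset.sup_empty]
      exact h₁ ⊥ (isAffineOpen_bot X)
    | succ n ih =>
      intro s hs
      rcases s.eq_empty_or_nonempty with rfl | ⟨f, hf⟩
      · rw [Finset.sup_empty]
        exact h₁ ⊥ (isAffineOpen_bot X)
      · have hs' : (s.erase f).card ≤ n := by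
          rw [Finset.card_erase_of_mem hf]
          omega
        have hsup : (s.sup fun g => X.basicOpen g) =
            ((s.erase f).sup fun g => X.basicOpen g) ⊔ X.basicOpen f := by
          conv_lhs => rw [← Finset.insert_erase hf]
          rw [Finset.sup_insert, sup_comm]
        rw [hsup]
        apply h₂
        · exact hcpt V hV _
        · exact hV.basicOpen f
        · exact ih _ hs'
        · exact h₁ _ (hV.basicOpen f)
        · have hinf : ((s.erase f).sup fun g => X.basicOpen g) ⊓ X.basicOpen f =
              ((s.erase f).image (· * f)).sup fun g => X.basicOpen g := by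
            rw [Finset.sup_inf_distrib_right, Finset.sup_image]
            refine Finset.sup_congr rfl fun g _ => ?_
            exact (X.basicOpen_mul g f).symm
          rw [hinf]
          exact ih _ (Finset.card_image_le.trans hs')
  have step2 : ∀ (V : X.Opens), IsAffineOpen V → ∀ W : X.Opens, W ≤ V →
      IsCompact (W : Set X) → P W := by
    intro V hV W hWV hW
    have hcover : ∀ x : W, ∃ f : Γ(X, V), X.basicOpen f ≤ W ∧ (x : X) ∈ X.basicOpen f :=
      fun x => hV.exists_basicOpen_le x (hWV x.2)
    choose f hfW hxf using hcover
    obtain ⟨t, ht⟩ := hW.elim_finite_subcover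
      (fun x : W => ((X.basicOpen (f x) : X.Opens) : Set X))
      (fun x => (X.basicOpen (f x)).isOpen)
      (fun y hy => Set.mem_iUnion.mpr ⟨⟨y, hy⟩, hxf ⟨y, hy⟩⟩)
    have hWeq : W = (t.image f).sup (fun g => X.basicOpen g) := by
      apply le_antisymm
      · intro y hy
        have hy' := ht hy
        simp only [Set.mem_iUnion] at hy'
        obtain ⟨i, hi, hyi⟩ := hy'
        exact (Finset.le_sup (f := fun g => X.basicOpen g) (Finset.mem_image_of_mem f hi)) hyi
      · apply Finset.sup_le
        intro g hg
        obtain ⟨i, hi, rfl⟩ := Finset.mem_image.mp hg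
        exact hfW i
    rw [hWeq]
    exact step1 V hV _ _ le_rfl
  refine compact_open_induction_on (P := P) U hU (h₁ ⊥ (isAffineOpen_bot X)) ?_
  intro S hS V hPS
  apply h₂ S V.1 hS V.2 hPS (h₁ _ V.2)
  apply step2 V.1 V.2 (S ⊓ V.1) inf_le_right
  exact QuasiSeparatedSpace.inter_isCompact _ _ S.2 hS V.1.2 V.2.isCompact

end Groth.Agent.S0015
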