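import Groth.Statements.S9826
import Groth.Agent.Lib.Helper13.FinAffine2

set_option autoImplicit false
universe u
open CategoryTheory CategoryTheory.Limits AlgebraicGeometry TopologicalSpace Opposite
open Props

namespace Groth.Agent.S9826

open AlgebraicGeometry CategoryTheory in

/-- The sheaf associated to a module over a ring is of finite type on the spectrum if and only if the
module is finitely generated. -/
theorem result (R : CommRingCat.{u}) (M : ModuleCat.{u} R) :
    CohB1.IsFT (tilde M) ↔ Module.Finite R M := by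
  have hq : (tilde M).IsQuasicoherent := inferInstance
  have hU : IsAffineOpen (⊤ : (Spec R).Opens) := isAffineOpen_top (Spec R)
  -- the R-linear equivalence `M ≃ Γ(tilde M, ⊤)`
  let e : M ≃ₗ[R] Γ(tilde M, ⊤) := (tilde.isoTop M).toLinearEquiv
  -- `Γ(Spec R, ⊤)` is a finite `R`-module
  have hfinR : Module.Finite R Γ(Spec R, ⊤) := by
    let l : R →ₗ[R] Γ(Spec R, ⊤) := Algebra.linearMap R Γ(Spec R, ⊤)
    refine Module.Finite.of_surjective l ?_
    intro x
    refine ⟨(Scheme.ΓSpecIso R).hom x, ?_⟩
    show algebraMap R Γ(Spec R, ⊤) _ = x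
    rw [IsAffineOpen.algebraMap_Spec_obj]
    have h1 : (Spec R).presheaf.map (homOfLE (le_top : (⊤ : (Spec R).Opens) ≤ ⊤)).op = 𝟙 _ := by
      have : (homOfLE (le_top : (⊤ : (Spec R).Opens) ≤ ⊤)) = 𝟙 _ := Subsingleton.elim _ _
      rw [this, op_id, (Spec R).presheaf.map_id]
    rw [h1, Category.comp_id]
    exact congrArg (fun φ => φ.hom x) (Scheme.ΓSpecIso R).hom_inv_id
  constructor
  · intro h
    have h' : SheafOfModules.IsFiniteType (R := (Spec R).ringCatSheaf) (tilde M) := h
    have h1 : Module.Finite Γ(Spec R, ⊤) Γ(tilde M, ⊤) :=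
      Groth.Agent.Helper13.FinType.finite_sections_of_isFiniteType (tilde M) hU
    have h2 : Module.Finite R Γ(tilde M, ⊤) := Module.Finite.trans Γ(Spec R, ⊤) Γ(tilde M, ⊤)
    exact Module.Finite.equiv e.symm
  · intro h
    have h2 : Module.Finite R Γ(tilde M, ⊤) := Module.Finite.equiv e
    have h1 : Module.Finite Γ(Spec R, ⊤) Γ(tilde M, ⊤) :=
      Module.Finite.of_restrictScalars_finite R Γ(Spec R, ⊤) Γ(tilde M, ⊤)
    show SheafOfModules.IsFiniteType (R := (Spec R).ringCatSheaf) (tilde M)
    apply Groth.Agent.Helper13.FinType.isFiniteType_of_finite_sections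
    intro x
    exact ⟨⊤, trivial, hU, h1⟩

end Groth.Agent.S9826
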