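import Groth.Statements.S0018
import Groth.Agent.Lib.Helper13.FinTypeRestrict
import Groth.Agent.Lib.Helper13.FinPres
import Groth.Agent.S9826

set_option autoImplicit false
universe u
open Coherent

namespace Groth.Agent.S0018

open AlgebraicGeometry CategoryTheory in

open AlgebraicGeometry in
/-- On a locally Noetherian scheme an O_X-module is quasi-coherent of finite type if and only if it is
of finite presentation. (Either condition is what 'coherent' means there.) -/
theorem result (X : Scheme.{u}) [IsLocallyNoetherian X] (M : X.Modules) :
    Coh.IsCoh M ↔ CohB1.IsFP M := by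
  constructor
  · rintro ⟨hq, hft⟩
    have hq' : M.IsQuasicoherent := hq
    have hft' : SheafOfModules.IsFiniteType (R := X.ringCatSheaf) M := hft
    show SheafOfModules.IsFinitePresentation (R := X.ringCatSheaf) M
    have key : ∀ U : X.affineOpens, ∃ P : (M.restrict U.2.fromSpec).Presentation, P.IsFinite := by
      intro U
      let N := M.restrict U.2.fromSpec
      have hNq : N.IsQuasicoherent := inferInstance
      have hNf : SheafOfModules.IsFiniteType (R := (Spec Γ(X, U.1)).ringCatSheaf) N :=
        Groth.Agent.Helper13.FinType.isFiniteType_restrict U.2.fromSpec M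
      have hiso : IsIso N.fromTildeΓ := inferInstance
      let G : ModuleCat Γ(X, U.1) := (modulesSpecToSheaf.obj N).presheaf.obj (.op ⊤)
      have hG : SheafOfModules.IsFiniteType (R := (Spec Γ(X, U.1)).ringCatSheaf) (tilde G) :=
        Groth.Agent.Helper13.FinType.isFiniteType_of_iso (asIso N.fromTildeΓ).symm
      have hfin : Module.Finite Γ(X, U.1) G := (Groth.Agent.S9826.result Γ(X, U.1) G).1 hG
      have hN : IsNoetherianRing Γ(X, U.1) := IsLocallyNoetherian.component_noetherian U
      have hfp : Module.FinitePresentation Γ(X, U.1) G := Module.finitePresentation_of_finite _ _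
      obtain ⟨P, hP⟩ := Groth.Agent.Helper13.FinPres.exists_isFinite_presentation_tilde G
      exact ⟨@SheafOfModules.Presentation.ofIsIso.{u, u, u} _ _ _ _ _ _ _ _ N.fromTildeΓ hiso P,
        inferInstance⟩
    choose P hP using key
    refine Groth.Agent.Helper13.FinPres.isFinitePresentation_of_family M
      (fun U : X.affineOpens => Spec Γ(X, U.1)) (fun U => U.2.fromSpec) (fun x => ?_) P hP
    obtain ⟨_, ⟨V, hV, rfl⟩, hxV, -⟩ := X.isBasis_affineOpens.exists_subset_of_mem_open
      (Set.mem_univ x) isOpen_univ
    refine ⟨⟨V, hV⟩, ?_⟩
    rw [IsAffineOpen.opensRange_fromSpec]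
    exact hxV
  · intro h
    have h' : SheafOfModules.IsFinitePresentation (R := X.ringCatSheaf) M := h
    exact ⟨inferInstance, inferInstance⟩

end Groth.Agent.S0018
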