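import Groth.Statements.S0029
import Mathlib
import Groth.Agent.Lib.Helper13.RpushRel
import Groth.Agent.Lib.Helper13.RpushShf
import Groth.Agent.Lib.Helper13.ExtendMono
import Groth.Agent.Lib.Helper13.LerayBase
import Groth.Agent.Lib.Helper13.RestrCoh
import Groth.Agent.Lib.Helper13.QCohAss
import Groth.Agent.S0009

set_option autoImplicit false
universe u
open Coherent

namespace Groth.Agent.S0029

open Coherent

open AlgebraicGeometry CategoryTheory Opposite in

open AlgebraicGeometry CategoryTheory in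
/-- Let f : X → Y be a quasi-compact morphism between quasi-separated schemes. Suppose R^1 f_* I
vanishes for each quasi-coherent submodule I of O_X; then f is affine. -/
theorem result {X Y : Scheme.{u}} (f : X ⟶ Y) [QuasiCompact f]
    [QuasiSeparatedSpace X] [QuasiSeparatedSpace Y]
    (h : ∀ (I : X.Modules) (i : I ⟶ Coh.structureModule X), Mono i → Coh.IsQCoh I →
      Limits.IsZero ((Coh.RpushAb f 1).obj (Coh.toAb I))) : IsAffineHom f := by
  haveI : QuasiSeparated f := by
    haveI : QuasiSeparated (f ≫ Limits.terminal.from Y) := by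
      rw [Limits.terminalIsTerminal.hom_ext (f ≫ Limits.terminal.from Y) (Limits.terminal.from X)]
      exact (quasiSeparatedSpace_iff_quasiSeparated X).1 inferInstance
    exact QuasiSeparated.of_comp f (Limits.terminal.from Y)
  refine ⟨fun V hV => ?_⟩
  show IsAffine (f ⁻¹ᵁ V : Scheme.{u})
  haveI : CompactSpace (f ⁻¹ᵁ V : Scheme.{u}) :=
    isCompact_iff_compactSpace.1 (f.isCompact_preimage hV.isCompact)
  haveI : QuasiCompact (f ⁻¹ᵁ V).ι := inferInstance
  apply Groth.Agent.S0009.result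
  intro I i hi hI
  haveI : I.IsQuasicoherent := hI
  haveI : Mono i := hi
  haveI : (Coh.structureModule X).IsQuasicoherent :=
    Groth.Agent.Helper13.QCoh.isQuasicoherent_unit X
  let φ : I ⟶ (Coh.structureModule X).restrict (f ⁻¹ᵁ V).ι :=
    i ≫ (Scheme.Modules.restrictUnitIso (f ⁻¹ᵁ V).ι).inv
  haveI : Mono φ := mono_comp _ _
  obtain ⟨J, ψ, e, hJ, hψ⟩ := Groth.Agent.Helper13.ExtendMono.extend_mono (f ⁻¹ᵁ V)
    (Coh.structureModule X) I φ
  haveI : J.IsQuasicoherent := hJ
  -- `H^1(f⁻¹V, J) = 0`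
  have hz := h J ψ hψ hJ
  obtain ⟨e₂⟩ := Groth.Agent.Helper13.RpushShf.main (Opens.grothendieckTopology X)
    (Opens.grothendieckTopology Y) (TopologicalSpace.Opens.map f.base) (Coh.toAb J) 1
  have hz2 : Limits.IsZero ((presheafToSheaf (Opens.grothendieckTopology Y) AddCommGrpCat.{u}).obj
      (Groth.Agent.Helper13.RpushGlobal.P f J 1)) := hz.of_iso e₂.symm
  have hz3 : Limits.IsZero (((presheafToSheaf (Opens.grothendieckTopology Y) AddCommGrpCat.{u}).obj
      (Groth.Agent.Helper13.RpushGlobal.P f J 1)).obj.obj (op V)) :=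
    Functor.map_isZero ((sheafToPresheaf _ _) ⋙ (evaluation _ _).obj (op V)) hz2
  have hs3 : Subsingleton (((presheafToSheaf (Opens.grothendieckTopology Y) AddCommGrpCat.{u}).obj
      (Groth.Agent.Helper13.RpushGlobal.P f J 1)).obj.obj (op V)) :=
    AddCommGrpCat.subsingleton_of_isZero hz3
  have hb := Groth.Agent.Helper13.RpushRel.toSheafify_bijective f V J 1 hV
  have hs4 : Subsingleton (CohTop.HU (X := X.toTopCat) (Coh.toAb J) 1 (f ⁻¹ᵁ V)) :=
    hb.1.subsingleton
  obtain ⟨e₃⟩ := Groth.Agent.Helper13.RestrCoh.main (X := X.toTopCat) (f ⁻¹ᵁ V) (Coh.toAb J) 1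
  have hs5 : Subsingleton (Coh.HHon X J (f ⁻¹ᵁ V) 1) := e₃.symm.injective.subsingleton
  exact Groth.Agent.Helper13.LerayBase.subsingleton_H_of_iso
    ((SheafOfModules.toSheaf _).mapIso e.symm) 1 hs5

end Groth.Agent.S0029
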