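import Groth.Statements.S0032
import Groth.Agent.Lib.Helper13.RpushGlobal
import Groth.Agent.Lib.Helper13.RpushShf

set_option autoImplicit false
universe u
open Coherent

namespace Groth.Agent.S0032

open AlgebraicGeometry CategoryTheory Opposite in
/-- Let f : X → S be quasi-compact and quasi-separated with S affine, and F quasi-coherent on X. Then
H^q(X, F) is isomorphic to the global sections of R^q f_* F (higher direct image of the underlying
abelian sheaf), for every q. -/
theorem result {X S : Scheme.{u}} (f : X ⟶ S)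
    [QuasiCompact f] [QuasiSeparated f] [IsAffine S] (M : X.Modules) [Coh.IsQCoh M] (q : ℕ) :
    Nonempty (Coh.HH X M q ≃+ ↑(((Coh.RpushAb f q).obj (Coh.toAb M)).obj.obj (op ⊤))) := by
  obtain ⟨e⟩ := Groth.Agent.Helper13.RpushShf.main (Opens.grothendieckTopology X)
    (Opens.grothendieckTopology S) (TopologicalSpace.Opens.map f.base) (Coh.toAb M) q
  let e1 : CohTop.HU (Coh.toAb M) q ⊤ ≃+ Coh.HH X M q :=
    Groth.Agent.Helper13.HUTop.HUtopEquiv (X := X.toTopCat) (Coh.toAb M) q
  let e2 := AddEquiv.ofBijective _ (Groth.Agent.Helper13.RpushGlobal.toSheafify_bijective f M q)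
  let e3 := (((sheafToPresheaf _ _).mapIso e).app (op ⊤)).addCommGroupIsoToAddEquiv
  exact ⟨e1.symm.trans (e2.trans e3.symm)⟩

end Groth.Agent.S0032
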