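import Groth.Statements.S0048
import Mathlib
import Groth.Agent.Lib.Helper13.QCohPush
import Groth.Agent.Lib.Helper13.FinAffine2

set_option autoImplicit false
universe u
open Coherent

namespace Groth.Agent.S0048

open AlgebraicGeometry in
/-- Let U ⊆ X be open and T ⊆ U a subset closed in X. If F is a coherent (quasi-coherent of finite type,
i.e. `Coh.IsCoh`) module on U with support contained in T, then its direct image along U ↪ X is
again coherent in the same sense. (The published statement is for coherent modules in the usual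
sense; here both hypothesis and conclusion use the notion `Coh.IsCoh`.) -/
theorem result (X : Scheme.{u}) (U : X.Opens) (T : Set X)
    (hT : IsClosed T) (hTU : T ⊆ (U : Set X)) (F : (↑U : Scheme.{u}).Modules) (hF : Coh.IsCoh F)
    (hs : ∀ x : ↥U, x ∈ CohB1.support F → (x : X) ∈ T) : Coh.IsCoh ((Coh.push U.ι).obj F) := by
  classical
  obtain ⟨hF1, hF2⟩ := hF
  haveI : F.IsQuasicoherent := hF1
  haveI : SheafOfModules.IsFiniteType (R := (↑U : Scheme.{u}).ringCatSheaf) F := hF2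
  -- sections vanish away from T
  have hzero : ∀ W : X.Opens, Disjoint (W : Set X) T → ∀ s : Γ(F, U.ι ⁻¹ᵁ W), s = 0 := by
    intro W hW s
    refine TopCat.Presheaf.section_ext ⟨F.presheaf, F.isSheaf⟩ _ _ _ ?_
    intro x hx
    have hsub : Subsingleton (F.presheaf.stalk x) := by
      by_contra hns
      exact Set.disjoint_left.1 hW hx (hs x hns)
    exact Subsingleton.elim _ _
  -- the cover
  have hcov : ∀ x : X, ∃ V : X.Opens, IsAffineOpen V ∧ x ∈ V ∧
      (V ≤ U ∨ Disjoint (V : Set X) T) := by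
    intro x
    by_cases hx : x ∈ U
    · obtain ⟨_, ⟨V, hV, rfl⟩, hxV, hVU⟩ :=
        X.isBasis_affineOpens.exists_subset_of_mem_open hx U.2
      exact ⟨V, hV, hxV, Or.inl hVU⟩
    · have hxT : x ∈ Tᶜ := fun h => hx (hTU h)
      obtain ⟨_, ⟨V, hV, rfl⟩, hxV, hVT⟩ :=
        X.isBasis_affineOpens.exists_subset_of_mem_open hxT hT.isOpen_compl
      exact ⟨V, hV, hxV, Or.inr (Set.disjoint_left.2 fun y hy hyT => hVT hy hyT)⟩
  have hqc : ((Scheme.Modules.pushforward U.ι).obj F).IsQuasicoherent := by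
    refine Groth.Agent.Helper6.QcohLocal.isQuasicoherent_of_affineOpens _
      (fun V : {V : X.affineOpens // V.1 ≤ U ∨ Disjoint (V.1 : Set X) T} => V.1.1)
      (fun V => V.1.2) (fun y => ?_) ?_ ?_
    · obtain ⟨V, hV, hyV, h⟩ := hcov y
      exact ⟨⟨⟨V, hV⟩, h⟩, hyV⟩
    · rintro ⟨V, hVU | hVT⟩ r W U' rfl hW hWr s
      · have hU : IsAffineOpen (U.ι ⁻¹ᵁ V.1) :=
          V.2.preimage_of_isOpenImmersion U.ι (by rw [Scheme.Opens.opensRange_ι]; exact hVU)
        have hW' : U.ι ⁻¹ᵁ W = (↑U : Scheme.{u}).basicOpen (U.ι.app V.1 r) := by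
          rw [hWr, Scheme.preimage_basicOpen]
        have hWU : U.ι ⁻¹ᵁ W ≤ U.ι ⁻¹ᵁ V.1 := fun x hx => hW hx
        obtain ⟨n, t, ht⟩ := Groth.Agent.Helper13.QCohPush.exists_pow_smul_eq_res' F hU
          (U.ι.app V.1 r) (U.ι ⁻¹ᵁ W) hW' hWU (id s : Γ(F, U.ι ⁻¹ᵁ W))
        refine ⟨n, t, ?_⟩
        have h1 : (X.presheaf.map (CategoryTheory.homOfLE (hW.trans (le_refl _))).op r ^ n • s :
            Γ((Scheme.Modules.pushforward U.ι).obj F, W)) =
            ((U.ι.app W (X.presheaf.map (CategoryTheory.homOfLE (hW.trans (le_refl _))).op r)) ^ n •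
              (id s : Γ(F, U.ι ⁻¹ᵁ W)) : Γ(F, U.ι ⁻¹ᵁ W)) := by
          have h0 : ∀ a : Γ(X, W), (a • s : Γ((Scheme.Modules.pushforward U.ι).obj F, W)) =
              ((U.ι.app W a) • (id s : Γ(F, U.ι ⁻¹ᵁ W)) : Γ(F, U.ι ⁻¹ᵁ W)) := fun a => rfl
          rw [h0, map_pow]
        rw [h1]
        have h2 : U.ι.app W (X.presheaf.map (CategoryTheory.homOfLE (hW.trans (le_refl _))).op r) =
            (↑U : Scheme.{u}).presheaf.map (CategoryTheory.homOfLE hWU).op (U.ι.app V.1 r) := by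
          have := U.ι.naturality (CategoryTheory.homOfLE (hW.trans (le_refl _))).op
          exact congrArg (fun φ => φ.hom r) this
        rw [h2, ← ht]
        rfl
      · refine ⟨0, 0, ?_⟩
        have hd : Disjoint (W : Set X) T := Set.disjoint_left.2 fun y hy hyT =>
          Set.disjoint_left.1 hVT (hW hy) hyT
        have hs0 : s = (0 : Γ((Scheme.Modules.pushforward U.ι).obj F, W)) := hzero W hd s
        rw [hs0, smul_zero, map_zero]
    · rintro ⟨V, hVU | hVT⟩ r W U' rfl hW hWr t ht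
      · have hU : IsAffineOpen (U.ι ⁻¹ᵁ V.1) :=
          V.2.preimage_of_isOpenImmersion U.ι (by rw [Scheme.Opens.opensRange_ι]; exact hVU)
        have hW' : U.ι ⁻¹ᵁ W = (↑U : Scheme.{u}).basicOpen (U.ι.app V.1 r) := by
          rw [hWr, Scheme.preimage_basicOpen]
        have hWU : U.ι ⁻¹ᵁ W ≤ U.ι ⁻¹ᵁ V.1 := fun x hx => hW hx
        obtain ⟨n, hn⟩ := Groth.Agent.Helper13.QCohPush.exists_pow_smul_eq_zero' F hU
          (U.ι.app V.1 r) (U.ι ⁻¹ᵁ W) hW' hWU (id t : Γ(F, U.ι ⁻¹ᵁ V.1)) ht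
        refine ⟨n, ?_⟩
        have h1 : X.presheaf.map (CategoryTheory.homOfLE (le_refl V.1)).op r = r :=
          Groth.Agent.Helper13.QCoh.res_id_apply' _ r
        rw [h1]
        have h2 : (r ^ n • t : Γ((Scheme.Modules.pushforward U.ι).obj F, V.1)) =
            ((U.ι.app V.1 r) ^ n • (id t : Γ(F, U.ι ⁻¹ᵁ V.1)) : Γ(F, U.ι ⁻¹ᵁ V.1)) := by
          have h0 : ∀ a : Γ(X, V.1), (a • t : Γ((Scheme.Modules.pushforward U.ι).obj F, V.1)) =
              ((U.ι.app V.1 a) • (id t : Γ(F, U.ι ⁻¹ᵁ V.1)) : Γ(F, U.ι ⁻¹ᵁ V.1)) := fun a => rfl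
          rw [h0, map_pow]
        rw [h2]
        exact hn
      · refine ⟨0, ?_⟩
        have ht0 : t = (0 : Γ((Scheme.Modules.pushforward U.ι).obj F, V.1)) := hzero V.1 hVT t
        rw [ht0, smul_zero]
  haveI := hqc
  refine ⟨hqc, ?_⟩
  apply Groth.Agent.Helper13.FinType.isFiniteType_of_finite_sections
  intro x
  obtain ⟨V, hV, hxV, hVU | hVT⟩ := hcov x
  · refine ⟨V, hxV, hV, ?_⟩
    have hU' : IsAffineOpen (U.ι ⁻¹ᵁ V) :=
      hV.preimage_of_isOpenImmersion U.ι (by rw [Scheme.Opens.opensRange_ι]; exact hVU)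
    haveI h1 : Module.Finite Γ((↑U : Scheme.{u}), U.ι ⁻¹ᵁ V) Γ(F, U.ι ⁻¹ᵁ V) :=
      Groth.Agent.Helper13.FinType.finite_sections_of_isFiniteType F hU'
    haveI : CategoryTheory.IsIso (U.ι.app V) :=
      Scheme.Hom.isIso_app U.ι V (by rw [Scheme.Opens.opensRange_ι]; exact hVU)
    obtain ⟨n, s, hs⟩ := Module.Finite.exists_fin (R := Γ((↑U : Scheme.{u}), U.ι ⁻¹ᵁ V))
      (M := Γ(F, U.ι ⁻¹ᵁ V))
    have h0 : ∀ (a : Γ(X, V)) (t : Γ((Scheme.Modules.pushforward U.ι).obj F, V)),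
        (a • t : Γ((Scheme.Modules.pushforward U.ι).obj F, V)) =
        ((U.ι.app V a) • (id t : Γ(F, U.ι ⁻¹ᵁ V)) : Γ(F, U.ι ⁻¹ᵁ V)) := fun a t => rfl
    let s' : Fin n → Γ((Scheme.Modules.pushforward U.ι).obj F, V) := fun i => s i
    refine ⟨⟨Finset.univ.image s', ?_⟩⟩
    rw [eq_top_iff]
    intro m _
    have hm : (id m : Γ(F, U.ι ⁻¹ᵁ V)) ∈
        Submodule.span Γ((↑U : Scheme.{u}), U.ι ⁻¹ᵁ V) (Set.range s) := by rw [hs]; trivial
    obtain ⟨c, hc⟩ := (Submodule.mem_span_range_iff_exists_fun _).1 hm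
    have hm2 : m = ∑ i, ((CategoryTheory.inv (U.ι.app V)).hom (c i) • s' i :
          Γ((Scheme.Modules.pushforward U.ι).obj F, V)) := by
      have h3 : ∀ i, ((CategoryTheory.inv (U.ι.app V)).hom (c i) • s' i :
            Γ((Scheme.Modules.pushforward U.ι).obj F, V)) = (c i • s i : Γ(F, U.ι ⁻¹ᵁ V)) := by
        intro i
        rw [h0]
        have h4 : U.ι.app V ((CategoryTheory.inv (U.ι.app V)).hom (c i)) = c i := by
          have := CategoryTheory.IsIso.inv_hom_id (U.ι.app V)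
          exact congrArg (fun φ => φ.hom (c i)) this
        rw [h4]
        rfl
      rw [Finset.sum_congr rfl (fun i _ => h3 i)]
      exact hc.symm
    rw [hm2]
    refine Submodule.sum_mem _ (fun i _ => Submodule.smul_mem _ _ (Submodule.subset_span ?_))
    exact Finset.mem_coe.2 (Finset.mem_image.2 ⟨i, Finset.mem_univ i, rfl⟩)
  · refine ⟨V, hxV, hV, ?_⟩
    haveI : Subsingleton Γ((Scheme.Modules.pushforward U.ι).obj F, V) :=
      ⟨fun a b => by rw [hzero V hVT a, hzero V hVT b]⟩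
    infer_instance

end Groth.Agent.S0048
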