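import Groth.Statements.S0050
import Mathlib
import Groth.Agent.Lib.Helper13.TwistH1

set_option autoImplicit false
universe u
open Coherent

namespace Groth.Agent.S0050

open AlgebraicGeometry CategoryTheory CategoryTheory.Limits Opposite TopologicalSpace
open Groth.Agent.Helper13.QCoh Groth.Agent.Helper13.FinType Groth.Agent.Helper13.VanishIdeal
open Groth.Agent.Helper13.LocFree Groth.Agent.Helper13.SerreCrit Groth.Agent.Helper13.Inv
open Groth.Agent.Helper13.GenLoc Groth.Agent.Helper13.TwistH1

open AlgebraicGeometry CategoryTheory in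
/-- Let X be a quasi-compact scheme and L an invertible O_X-module. If for every quasi-coherent sheaf of
ideals I ⊆ O_X there is some n ≥ 1 with H¹(X, I ⊗ L^{⊗n}) = 0, then L is ample, in the sense that X
is covered by affine opens of the form X_s for sections s of positive tensor powers of L. (In the
Lean statement the exponent is written n + 1 with n a natural number.) -/
theorem result (X : Scheme.{u}) [CompactSpace X] (L : X.Modules)
    (hL : PicF.IsInvertible L)
    (h : ∀ (I : X.Modules) (i : I ⟶ Coh.structureModule X), Mono i → Coh.IsQCoh I →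
      ∃ n : ℕ, Subsingleton (Coh.HH X (CohB1.tensorMod I (CohB1.tensorPow L (n + 1))) 1)) :
    CohB1.IsAmple L := by
  haveI : (Coh.structureModule X).IsQuasicoherent := isQuasicoherent_unit _
  refine ⟨hL, inferInstance, fun x => ?_⟩
  -- a closed point in the closure of `x`
  obtain ⟨y, hyx, hy⟩ := IsClosed.exists_closed_singleton (isClosed_closure (s := ({x} : Set X)))
    ⟨x, subset_closure rfl⟩
  -- an affine neighbourhood of `y`
  obtain ⟨_, ⟨U, hU, rfl⟩, hyU, -⟩ := X.isBasis_affineOpens.exists_subset_of_mem_open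
    (Set.mem_univ y) isOpen_univ
  let Z : Closeds X := ⟨(U : Set X)ᶜ, U.isOpen.isClosed_compl⟩
  let i := (Scheme.IdealSheafData.vanishingIdeal Z).subschemeι
  have hri : Set.range i = (U : Set X)ᶜ := by
    rw [Scheme.IdealSheafData.range_subschemeι, Scheme.IdealSheafData.coe_support_vanishingIdeal]
    rfl
  have hcl : IsClosed (Set.range i) := hri ▸ U.isOpen.isClosed_compl
  have hyi : y ∉ Set.range i := by
    rw [hri]
    exact fun h => h hyU
  haveI := isClosedImmersion_fromSpecResidueField y hy
  let j := X.fromSpecResidueField y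
  haveI : (Coh.structureModule (Spec (X.residueField y))).IsQuasicoherent :=
    isQuasicoherent_unit _
  haveI : (idealMod i).IsQuasicoherent := isQuasicoherent_idealMod i
  haveI : ((Scheme.Modules.pushforward j).obj
      (Coh.structureModule (Spec (X.residueField y)))).IsQuasicoherent :=
    Groth.Agent.Helper13.Qcqs.isQuasicoherent_pushforward_of_qcqs j _
  haveI hk : Mono (kernel.ι (idealι i ≫ sharp j)) := equalizer.ι_mono
  have hm : Mono (kernel.ι (idealι i ≫ sharp j) ≫ idealι i) := mono_comp _ _
  obtain ⟨n, h1⟩ := h _ (kernel.ι (idealι i ≫ sharp j) ≫ idealι i) hm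
    (Groth.Agent.Helper13.QCohLocal.isQuasicoherent_kernel (idealι i ≫ sharp j))
  have hN : PicF.IsInvertible (CohB1.tensorPow L (n + 1)) := isInvertible_tensorPow L hL (n + 1)
  obtain ⟨s, hs1, hs2⟩ := exists_section_of_H1 i y hy hcl hyi (CohB1.tensorPow L (n + 1)) hN h1
  have hmem : ∀ z : X, z ∈ CohB1.genLocus (CohB1.tensorPow L (n + 1))
      (homOfSec (CohB1.tensorPow L (n + 1)) s) ↔ IsGen (CohB1.tensorPow L (n + 1)) s z trivial := by
    intro z
    rw [mem_genLocus_iff_isGen _ _ hN z, sec_homOfSec]
  refine ⟨n, homOfSec (CohB1.tensorPow L (n + 1)) s, ?_, ?_⟩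
  · have hyG := (hmem y).2 hs1
    obtain ⟨x', hx'o, hx'⟩ := mem_closure_iff.1 hyx _ (CohB1.genLocus _ _).isOpen hyG
    rw [Set.mem_singleton_iff.1 hx'] at hx'o
    exact hx'o
  · apply isAffineOpen_genLocus_of_le _ hN _ hU
    intro z hz
    by_contra hzU
    exact hs2 z (by rw [hri]; exact hzU) ((hmem z).1 hz)

end Groth.Agent.S0050
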