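import Groth.Statements.S0078
import Mathlib
import Groth.Agent.Lib.Helper22.QLin3

set_option autoImplicit false
universe u
open EtBase

namespace Groth.Agent.S0078

/-- Second half — for such an F the fixed vectors F v = v form a finite set of size at most p ^ dim V
(an F_p-space of dimension at most dim V). -/
theorem result {k V : Type u} [Field k] [IsAlgClosed k] (p : ℕ) [Fact p.Prime] [CharP k p]
    [AddCommGroup V] [Module k V] [FiniteDimensional k V] (F : V →+ V)
    (hF : ∀ (c : k) (v : V), F (c • v) = c ^ p • F v) :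
    Set.Finite {v : V | F v = v} ∧ Nat.card {v : V | F v = v} ≤ p ^ Module.finrank k V := by
  classical
  haveI : IsSepClosed k := inferInstance
  have hF1 : ∀ (c : k) (v : V), F (c • v) = c ^ (p ^ 1) • F v := by
    intro c v; rw [pow_one]; exact hF c v
  set f := Groth.Agent.Helper22.QLin.mkSL (r := 1) F hF1 with hf
  obtain ⟨b, hb, hfix⟩ := Groth.Agent.Helper22.QLin.exists_basis_Vss f one_pos
  have hmn : Module.finrank k (Groth.Agent.Helper22.QLin.Vss f) ≤ Module.finrank k V := Submodule.finrank_le _
  have hp1 : 1 < p := (Fact.out : p.Prime).one_lt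
  let P : Polynomial k := Polynomial.X ^ p - Polynomial.X
  have hP0 : P ≠ 0 := FiniteField.X_pow_card_sub_X_ne_zero k hp1
  have hPdeg : P.natDegree = p := FiniteField.X_pow_card_sub_X_natDegree_eq k hp1
  let R : Finset k := P.roots.toFinset
  have hRcard : R.card ≤ p := by
    calc R.card ≤ Multiset.card P.roots := Multiset.toFinset_card_le _
      _ ≤ P.natDegree := Polynomial.card_roots' P
      _ = p := hPdeg
  have hRmem : ∀ c : k, c ^ p = c → c ∈ R := by
    intro c hc
    rw [Multiset.mem_toFinset, Polynomial.mem_roots hP0]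
    simp [P, Polynomial.IsRoot, hc]
  let T : Finset (Fin (Module.finrank k (Groth.Agent.Helper22.QLin.Vss f)) → k) := Fintype.piFinset (fun _ => R)
  let g : (Fin (Module.finrank k (Groth.Agent.Helper22.QLin.Vss f)) → k) → V := fun c => ∑ i, c i • (b i : V)
  have hsub : {v : V | F v = v} ⊆ ((T.image g : Finset V) : Set V) := by
    intro v hv
    obtain ⟨c, hc, hvc⟩ := (hfix v).mp hv
    rw [Finset.mem_coe, Finset.mem_image]
    refine ⟨c, ?_, hvc.symm⟩
    rw [Fintype.mem_piFinset]
    intro i
    apply hRmem
    have := hc i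
    rwa [pow_one] at this
  have hfin : ((T.image g : Finset V) : Set V).Finite := Finset.finite_toSet _
  refine ⟨hfin.subset hsub, ?_⟩
  calc Nat.card {v : V | F v = v}
      ≤ Nat.card ((T.image g : Finset V) : Set V) := Nat.card_mono hfin hsub
    _ = (T.image g).card := by rw [Nat.card_coe_set_eq, Set.ncard_coe_finset]
    _ ≤ T.card := Finset.card_image_le
    _ = R.card ^ (Module.finrank k (Groth.Agent.Helper22.QLin.Vss f)) := Fintype.card_piFinset_const R _
    _ ≤ p ^ (Module.finrank k (Groth.Agent.Helper22.QLin.Vss f)) := Nat.pow_le_pow_left hRcard _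
    _ ≤ p ^ Module.finrank k V := Nat.pow_le_pow_right (by omega) hmn

end Groth.Agent.S0078
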