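import Groth.Statements.S0095
import Groth.Agent.Lib.Helper1.US3
import Groth.Agent.Lib.Helper4.GeomConnSep

set_option autoImplicit false
open CategoryTheory CategoryTheory.Limits AlgebraicGeometry Opposite
universe u
open EtBase

namespace Groth.Agent.S0095

/-- For a scheme over a separably closed field k and a field extension K of k, global sections of an
abelian étale sheaf do not change under base change to K (the source proves this for sheaves of
sets; the abelian case is stated). -/
theorem result {k K : Type u} [Field k] [IsSepClosed k] [Field K] [Algebra k K]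
    {S : Scheme.{u}} (a : S ⟶ Spec (CommRingCat.of k))
    [EtCoh.BCCont (pullback.fst a (Spec.map (CommRingCat.ofHom (algebraMap k K))))]
    (F : EtCoh.Ab S) :
    Function.Bijective (((EtCoh.pullPushAdj
      (pullback.fst a (Spec.map (CommRingCat.ofHom (algebraMap k K))))).unit.app F).hom.app
        (op (EtCoh.top S))) := by
  let κ : Spec (CommRingCat.of K) ⟶ Spec (CommRingCat.of k) :=
    Spec.map (CommRingCat.ofHom (algebraMap k K))
  haveI : Flat κ := by
    rw [HasRingHomProperty.Spec_iff (P := @Flat)]
    exact (RingHom.flat_algebraMap_iff (R := k) (S := K)).2 inferInstance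
  haveI : Surjective κ := by
    refine ⟨fun x => ⟨default, Subsingleton.elim _ _⟩⟩
  haveI : QuasiCompact κ := inferInstance
  let p : pullback a κ ⟶ S := pullback.fst a κ
  haveI : Flat p := inferInstance
  haveI : QuasiCompact p := inferInstance
  haveI : Surjective p := inferInstance
  apply Groth.Agent.Helper1.US.unit_top_bijective p
    (fun S' g => Flat.isQuotientMap_of_surjective _)
  intro Ω _ _ s
  haveI : ConnectedSpace ↥(Spec (CommRingCat.of Ω)) := inferInstance
  have hgc := Groth.Agent.Helper4.GeomConnSep.geometricallyConnected_of_isSepClosed (s ≫ a)
  have h1 : IsPullback (pullback.fst p s) (pullback.snd p s) p s := IsPullback.of_hasPullback p s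
  have h2 : IsPullback (pullback.snd a κ) (pullback.fst a κ) κ a :=
    (IsPullback.of_hasPullback a κ).flip
  have h3 := (h1.paste_horiz h2).flip
  exact hgc.geometrically_connectedSpace κ _ _ h3

end Groth.Agent.S0095
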