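import Groth.Statements.S0096
import Groth.Agent.Lib.Helper16.Alg.UnrSplit4

set_option autoImplicit false
open CategoryTheory CategoryTheory.Limits AlgebraicGeometry Opposite
universe u
open EtBase

namespace Groth.Agent.S0096

/-- A finite unramified morphism becomes, after base change to a suitable étale neighbourhood of any
point of the base, a finite disjoint union of closed immersions. -/
theorem result {X S : Scheme.{u}} (f : X ⟶ S) [IsFinite f] [FormallyUnramified f] (s : S) :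
    ∃ (U : Scheme.{u}) (g : U ⟶ S) (_ : AlgebraicGeometry.Etale g) (u : U) (_ : g.base u = s)
      (n : ℕ) (V : Fin n → Scheme.{u}) (c : ∀ j, V j ⟶ U) (_ : ∀ j, IsClosedImmersion (c j))
      (e : (∐ V) ≅ pullback f g), ∀ j, Sigma.ι V j ≫ e.hom ≫ pullback.snd f g = c j := by
  obtain ⟨_, ⟨W, hW, rfl⟩, hsW, -⟩ :=
    S.isBasis_affineOpens.exists_subset_of_mem_open (Set.mem_univ s) isOpen_univ
  have hV : IsAffineOpen (f ⁻¹ᵁ W) := hW.preimage f
  have hfin : (f.appLE W (f ⁻¹ᵁ W) le_rfl).hom.Finite := by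
    rw [← Scheme.Hom.app_eq_appLE]
    exact IsFinite.finite_app f W hW
  have hunr := f.formallyUnramified_appLE hW hV le_rfl
  algebraize [(f.appLE W (f ⁻¹ᵁ W) le_rfl).hom]
  let p₀ := (hW.primeIdealOf ⟨s, hsW⟩).asIdeal
  obtain ⟨R'', _, _, _, p'', _, hlo, n, A, _, _, hsurj, ⟨E⟩⟩ :=
    Groth.Agent.Helper16.UnrSplit.finite_split Γ(S, W) Γ(X, f ⁻¹ᵁ W) p₀
  let ψ : Γ(S, W) ⟶ CommRingCat.of R'' := CommRingCat.ofHom (algebraMap Γ(S, W) R'')
  let g : Spec (CommRingCat.of R'') ⟶ S := Spec.map ψ ≫ hW.fromSpec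
  have hgEt : AlgebraicGeometry.Etale (Spec.map ψ) := by
    rw [HasRingHomProperty.Spec_iff (P := @AlgebraicGeometry.Etale)]
    show (algebraMap Γ(S, W) R'').Etale
    rw [RingHom.etale_algebraMap]
    infer_instance
  have hg : AlgebraicGeometry.Etale g := inferInstance
  let u : Spec (CommRingCat.of R'') := ⟨p'', inferInstance⟩
  have hu : g.base u = s := by
    have h1 : (Spec.map ψ) u = hW.primeIdealOf ⟨s, hsW⟩ := by
      apply PrimeSpectrum.ext
      show p''.comap (algebraMap Γ(S, W) R'') = p₀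
      exact (hlo.over).symm
    show hW.fromSpec ((Spec.map ψ) u) = s
    rw [h1, hW.fromSpec_primeIdealOf]
  -- the schemes V j
  let V : Fin n → Scheme.{u} := fun j => Spec (CommRingCat.of (A j))
  let c : ∀ j, V j ⟶ Spec (CommRingCat.of R'') := fun j =>
    Spec.map (CommRingCat.ofHom (algebraMap R'' (A j)))
  have hc : ∀ j, IsClosedImmersion (c j) := fun j =>
    IsClosedImmersion.spec_of_surjective _ (hsurj j)
  -- the pullback squares
  have Sq1 : IsPullback (Spec.map (f.appLE W (f ⁻¹ᵁ W) le_rfl)) hV.fromSpec hW.fromSpec f := by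
    refine IsOpenImmersion.isPullback _ _ _ _ ?_ ?_
    · exact (hW.SpecMap_appLE_fromSpec f hV le_rfl).symm
    · rw [hW.opensRange_fromSpec, hV.opensRange_fromSpec]
  let inl : CommRingCat.of R'' ⟶ CommRingCat.of (TensorProduct Γ(S, W) R'' Γ(X, f ⁻¹ᵁ W)) :=
    CommRingCat.ofHom (Algebra.TensorProduct.includeLeft (R := Γ(S, W)) (S := Γ(S, W))
      (A := R'') (B := Γ(X, f ⁻¹ᵁ W))).toRingHom
  let inr : Γ(X, f ⁻¹ᵁ W) ⟶ CommRingCat.of (TensorProduct Γ(S, W) R'' Γ(X, f ⁻¹ᵁ W)) :=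
    CommRingCat.ofHom (Algebra.TensorProduct.includeRight (R := Γ(S, W))
      (A := R'') (B := Γ(X, f ⁻¹ᵁ W))).toRingHom
  have Sq2 : IsPullback (Spec.map inl) (Spec.map inr) (Spec.map ψ)
      (Spec.map (f.appLE W (f ⁻¹ᵁ W) le_rfl)) :=
    isPullback_SpecMap_of_isPushout _ _ _ _
      (CommRingCat.isPushout_tensorProduct Γ(S, W) R'' Γ(X, f ⁻¹ᵁ W))
  have Sq3 : IsPullback (Spec.map inr ≫ hV.fromSpec) (Spec.map inl) f g :=
    Sq2.flip.paste_horiz Sq1.flip
  -- the iso with the coproduct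
  let Rj : ULift.{u} (Fin n) → CommRingCat.{u} := fun i => CommRingCat.of (A i.down)
  let E' : (TensorProduct Γ(S, W) R'' Γ(X, f ⁻¹ᵁ W)) ≃+* (Π i : ULift.{u} (Fin n), A i.down) :=
    E.toRingEquiv.trans (RingEquiv.piCongrLeft' A Equiv.ulift.symm)
  have hE' : ∀ t i, E' t i = E t i.down := fun t i => rfl
  haveI hiso : IsIso (sigmaSpec Rj) := by
    haveI : Finite (ULift.{u} (Fin n)) := inferInstance
    infer_instance
  let θ₁ : (∐ V) ≅ ∐ (fun i => Spec (Rj i)) := (Sigma.reindex Equiv.ulift V).symm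
  let θ₂ : (∐ fun i => Spec (Rj i)) ≅ Spec (.of (Π i, Rj i)) := @asIso _ _ _ _ (sigmaSpec Rj) hiso
  let θ₃ : Spec (.of (Π i, Rj i)) ≅ Spec (CommRingCat.of (TensorProduct Γ(S, W) R'' Γ(X, f ⁻¹ᵁ W))) :=
    Scheme.Spec.mapIso (E'.toCommRingCatIso).op
  let θ : (∐ V) ≅ Spec (CommRingCat.of (TensorProduct Γ(S, W) R'' Γ(X, f ⁻¹ᵁ W))) := θ₁ ≪≫ θ₂ ≪≫ θ₃
  have Sq4 : IsPullback (θ.hom ≫ Spec.map inr ≫ hV.fromSpec) (θ.hom ≫ Spec.map inl) f g :=
    IsPullback.of_iso Sq3 θ.symm (Iso.refl _) (Iso.refl _) (Iso.refl _)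
      (by simp) (by simp) (by simp) (by simp)
  refine ⟨Spec (CommRingCat.of R''), g, hg, u, hu, n, V, c, hc, Sq4.isoPullback, ?_⟩
  intro j
  rw [IsPullback.isoPullback_hom_snd]
  have h1 : Sigma.ι V j ≫ θ₁.hom = Sigma.ι (fun i => Spec (Rj i)) (ULift.up j) :=
    Sigma.ι_reindex_inv Equiv.ulift V (ULift.up j)
  have h2 : Sigma.ι (fun i => Spec (Rj i)) (ULift.up j) ≫ θ₂.hom =
      Spec.map (CommRingCat.ofHom (Pi.evalRingHom _ (ULift.up j))) := ι_sigmaSpec Rj (ULift.up j)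
  have h3 : θ₃.hom = Spec.map (E'.toCommRingCatIso).hom := rfl
  have key : Sigma.ι V j ≫ θ.hom =
      Spec.map (CommRingCat.ofHom (Pi.evalRingHom _ (ULift.up j))) ≫
        Spec.map (E'.toCommRingCatIso).hom := by
    show Sigma.ι V j ≫ θ₁.hom ≫ θ₂.hom ≫ θ₃.hom = _
    rw [← Category.assoc, h1, ← Category.assoc, h2, h3]
  rw [← Category.assoc, key, ← Spec.map_comp, ← Spec.map_comp]
  congr 1
  ext x
  show (E' (TensorProduct.tmul Γ(S, W) x (1 : Γ(X, f ⁻¹ᵁ W)))) (ULift.up j) = algebraMap R'' (A j) x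
  rw [hE']
  have : (TensorProduct.tmul Γ(S, W) x (1 : Γ(X, f ⁻¹ᵁ W))) = algebraMap R'' _ x := rfl
  rw [this, E.commutes]
  rfl

end Groth.Agent.S0096
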