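import Groth.Statements.S0106
import Mathlib
import Groth.Prelude.Def_EtBase
import Groth.Prelude.Def_EtCore
import Groth.Agent.Lib.Helper10.FlcSplit
import Groth.Agent.S9559
import Groth.Agent.S0621

set_option autoImplicit false
open CategoryTheory CategoryTheory.Limits AlgebraicGeometry Opposite
universe u
open EtBase

namespace Groth.Agent.S0106

section helpers

open Groth.Agent.Helper10

theorem main {X Y : Scheme.{u}} (f : X ⟶ Y) [IsFinite f] [AlgebraicGeometry.Etale f] [EtCoh.BCCont f]
    (F : EtCoh.Ab X) (h : EtCoh.IsFiniteLocallyConstant F) :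
    EtCoh.IsFiniteLocallyConstant ((EtCoh.push f).obj F) := by
  apply FlcLocal.isFLC_of_locally
  intro y
  obtain ⟨U, g, hg, u, hu, n, V, c, hciso, e, he⟩ := Groth.Agent.S9559.result f y
  refine ⟨U, g, hg, u, hu, ?_⟩
  have hpb : IsPullback (pullback.fst f g) (pullback.snd f g) f g := IsPullback.of_hasPullback f g
  haveI := Groth.Agent.S0621.result f g (pullback.snd f g) (pullback.fst f g) hpb F
  refine LcStrata.isFLC_of_iso
    (asIso (EtCoh.baseChange0 f g (pullback.snd f g) (pullback.fst f g) hpb.w F)).symm ?_
  have hG : EtCoh.IsFiniteLocallyConstant ((EtCoh.pull (pullback.fst f g)).obj F) :=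
    LcStrata.isFLC_pull _ h
  let i : ∀ j, V j ⟶ pullback f g := fun j => Sigma.ι V j ≫ e.hom
  haveI : ∀ j, Etale (i j) := fun j => by
    haveI : IsOpenImmersion (i j) := inferInstance
    infer_instance
  haveI : ∀ j, Mono (i j) := fun j => inferInstance
  refine FlcSplit.isFLC_push_split i ?_ ?_ (pullback.snd f g) ?_ _ hG
  · intro z
    obtain ⟨j, v, hv⟩ := (sigmaOpenCover V).exists_eq (e.inv.base z)
    have hv' : (Sigma.ι V j).base v = e.inv.base z := hv
    refine ⟨j, v, ?_⟩
    show (Sigma.ι V j ≫ e.hom).base v = z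
    have h1 : (Sigma.ι V j ≫ e.hom).base v = e.hom.base ((Sigma.ι V j).base v) := rfl
    have h2 : e.hom.base (e.inv.base z) = (e.inv ≫ e.hom).base z := rfl
    rw [h1, hv', h2, e.inv_hom_id]
    rfl
  · intro j k v w hvw
    have hj : ∀ j, i j ≫ e.inv = Sigma.ι V j := fun j => by simp [i]
    have h1 : (Sigma.ι V j).base v = (Sigma.ι V k).base w := by
      rw [← hj j, ← hj k]
      exact congrArg (fun z => e.inv.base z) hvw
    have h3 := (sigmaι_eq_iff V j k v w).1 h1
    exact congrArg Sigma.fst h3
  · intro j
    have : i j ≫ pullback.snd f g = c j := by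
      rw [← he j]
      exact Category.assoc _ _ _
    rw [this]
    exact hciso j

end helpers

/-- The pushforward of a finite locally constant abelian sheaf along a finite étale morphism is again
finite locally constant. -/
theorem result {X Y : Scheme.{u}} (f : X ⟶ Y) [IsFinite f] [AlgebraicGeometry.Etale f] [EtCoh.BCCont f]
    (F : EtCoh.Ab X) (h : EtCoh.IsFiniteLocallyConstant F) :
    EtCoh.IsFiniteLocallyConstant ((EtCoh.push f).obj F) := by
  exact main f F h

end Groth.Agent.S0106
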