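import Groth.Statements.S0119
import Groth.Agent.Lib.Helper14.EtaleReduced
-- import your own Groth.Agent.* helpers here

set_option autoImplicit false
open CategoryTheory CategoryTheory.Limits AlgebraicGeometry Opposite
universe u
open EtBase

namespace Groth.Agent.S0119

/-- Let f : X → Y be an étale morphism of schemes with Y locally Noetherian, and let x ∈ X. Then the
local ring O_{X,x} is reduced if and only if the local ring O_{Y,f(x)} is reduced. -/
theorem result {X Y : Scheme.{u}} (f : X ⟶ Y) [AlgebraicGeometry.Etale f]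
    [IsLocallyNoetherian Y] (x : X) :
    _root_.IsReduced (X.presheaf.stalk x) ↔ _root_.IsReduced (Y.presheaf.stalk (f.base x)) := by
  constructor
  · intro hred
    algebraize [(f.stalkMap x).hom]
    have : Module.FaithfullyFlat (Y.presheaf.stalk (f x)) (X.presheaf.stalk x) :=
      @Module.FaithfullyFlat.of_flat_of_isLocalHom _ _ _ _ _ _ _
        (Flat.stalkMap f x) (f.toLRSHom.prop x)
    exact isReduced_of_injective (algebraMap (Y.presheaf.stalk (f x)) (X.presheaf.stalk x))
      (FaithfulSMul.algebraMap_injective _ _)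
  · intro hred
    obtain ⟨_, ⟨U, hU, rfl⟩, hxU, -⟩ :=
      Y.isBasis_affineOpens.exists_subset_of_mem_open (Set.mem_univ (f x)) isOpen_univ
    obtain ⟨_, ⟨V, hV, rfl⟩, hxV, hVU⟩ :=
      X.isBasis_affineOpens.exists_subset_of_mem_open hxU (U.2.preimage f.continuous)
    have hE : (f.appLE U V hVU).hom.Etale :=
      HasRingHomProperty.appLE (P := @Etale) f inferInstance ⟨U, hU⟩ ⟨V, hV⟩ hVU
    algebraize [(f.appLE U V hVU).hom]
    have hpq : (hV.primeIdealOf ⟨x, hxV⟩).asIdeal.under Γ(Y, U) =
        (hU.primeIdealOf ⟨f x, hVU hxV⟩).asIdeal :=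
      congr($(IsAffineOpen.comap_primeIdealOf_appLE U hU V hV hVU hxV).1)
    let _ := Y.presheaf.algebra_section_stalk (⟨f x, hVU hxV⟩ : U.1)
    let _ := X.presheaf.algebra_section_stalk (⟨x, hxV⟩ : V.1)
    have h1 := hU.isLocalization_stalk ⟨f x, hVU hxV⟩
    have h2 := hV.isLocalization_stalk ⟨x, hxV⟩
    let e1 := IsLocalization.algEquiv (hU.primeIdealOf ⟨f x, hVU hxV⟩).asIdeal.primeCompl
      (Y.presheaf.stalk (⟨f x, hVU hxV⟩ : U.1)) (Localization.AtPrime (hU.primeIdealOf ⟨f x, hVU hxV⟩).asIdeal)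
    let e2 := IsLocalization.algEquiv (hV.primeIdealOf ⟨x, hxV⟩).asIdeal.primeCompl
      (X.presheaf.stalk (⟨x, hxV⟩ : V.1)) (Localization.AtPrime (hV.primeIdealOf ⟨x, hxV⟩).asIdeal)
    have hAp : _root_.IsReduced
        (Localization.AtPrime (hU.primeIdealOf ⟨f x, hVU hxV⟩).asIdeal) :=
      isReduced_of_injective e1.symm e1.symm.injective
    have hBq := Helper14.isReduced_localization_of_etale _ _ hpq hAp
    exact isReduced_of_injective e2 e2.injective

end Groth.Agent.S0119
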