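import Groth.Statements.S0127
import Groth.Agent.Lib.Helper10.LcGlue

set_option autoImplicit false
universe u
open CategoryTheory CategoryTheory.Limits AlgebraicGeometry Opposite
open EtPBC

namespace Groth.Agent.S0127

section helpers
open Groth.Agent.Helper10.LcStrata Groth.Agent.Helper10.LcGlue Topology

/-- Adapted strata pull back along `f` to an affine open `W` mapping into an affine open `V`. -/
theorem adaptedStrata_pull_affine {X Y : Scheme.{u}} (f : X ⟶ Y) (F : EtCoh.Ab Y)
    {W : X.Opens} (hW : IsAffineOpen W) {V : Y.Opens} (hV : IsAffineOpen V) (hWV : W ≤ f ⁻¹ᵁ V)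
    (h : EtPBC.AdaptedStrata F (V : Set Y)) :
    EtPBC.AdaptedStrata ((EtCoh.pull f).obj F) (W : Set X) := by
  obtain ⟨n, T, t, hi, hc, hd, hu, hl⟩ := h
  have hrange : ∀ i, Set.range (pullback.snd (t i) (W.ι ≫ f) ≫ W.ι) =
      (W : Set X) ∩ f ⁻¹' Set.range (t i) := by
    intro i
    rw [Scheme.Hom.comp_base, TopCat.coe_comp, Set.range_comp, Scheme.Pullback.range_snd]
    ext x
    constructor
    · rintro ⟨y, hy, rfl⟩
      exact ⟨y.2, hy⟩
    · rintro ⟨hxW, hx⟩
      exact ⟨⟨x, hxW⟩, hx, rfl⟩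
  refine ⟨n, fun i => pullback (t i) (W.ι ≫ f), fun i => pullback.snd _ _ ≫ W.ι,
    ?_, ?_, ?_, ?_, ?_⟩
  · intro i
    have := hi i
    infer_instance
  · intro i
    rw [hrange i]
    have : IsAffine W.toScheme := hW
    have : IsAffine V.toScheme := hV
    let ψ := f.resLE V W hWV
    have hψ : ∀ x : W, (ψ x).1 = f x.1 := fun x => Scheme.Hom.coe_resLE_apply f hWV x
    have hpre : (Subtype.val : ↥(W : Set X) → X) ⁻¹' ((W : Set X) ∩ f ⁻¹' Set.range (t i)) =
        ψ ⁻¹' ((Subtype.val : ↥(V : Set Y) → Y) ⁻¹' Set.range (t i)) := by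
      ext x
      simp only [Set.mem_preimage, Set.mem_inter_iff]
      constructor
      · rintro ⟨-, hx⟩
        change (ψ x).1 ∈ Set.range (t i)
        rw [hψ]
        exact hx
      · intro hx
        change (ψ x).1 ∈ Set.range (t i) at hx
        rw [hψ] at hx
        exact ⟨x.2, hx⟩
    rw [hpre]
    refine (hc i).preimage ψ.continuous ?_
    intro s hso hsr
    have hsc : IsCompact s := hsr.isCompact
    have : IsCompact (ψ ⁻¹' s) := QuasiCompact.isCompact_preimage (f := ψ) s hso hsc
    exact this.isRetrocompact (hso.preimage ψ.continuous)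
  · intro i k hik
    rw [hrange i, hrange k]
    exact ((hd hik).preimage f).mono Set.inter_subset_right Set.inter_subset_right
  · simp_rw [hrange]
    rw [← Set.inter_iUnion, ← Set.preimage_iUnion, hu]
    exact Set.inter_eq_left.2 hWV
  · intro i _
    have w : pullback.fst (t i) (W.ι ≫ f) ≫ t i = (pullback.snd (t i) (W.ι ≫ f) ≫ W.ι) ≫ f := by
      rw [Category.assoc]
      exact pullback.condition
    exact isFLC_of_iso ((EtCore.pullComp _ f).app F) (isFLC_pull_comp _ _ w (hl i))

theorem main {X Y : Scheme.{u}} (f : X ⟶ Y)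
    (F : EtCoh.Ab Y) (hF : EtPBC.IsConstructible F) :
    EtPBC.IsConstructible ((EtCoh.pull f).obj F) := by
  intro U hU
  apply adaptedStrata_of_local _ hU
  intro x hx
  obtain ⟨V, hV, hxV, -⟩ := exists_isAffineOpen_mem_and_subset (x := f x) (U := ⊤) trivial
  obtain ⟨a, ha1, ha2⟩ := hU.exists_basicOpen_le (V := U ⊓ f ⁻¹ᵁ V) ⟨x, ⟨hx, hxV⟩⟩ hx
  exact ⟨a, ha2, adaptedStrata_pull_affine f F (hU.basicOpen a) hV (ha1.trans inf_le_right)
    (hF V hV)⟩

end helpers

/-- Abelian case: if F is a constructible abelian sheaf on Y_et and f : X -> Y is any morphism of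
schemes, then f^* F is constructible on X_et. -/
theorem result {X Y : Scheme.{u}} (f : X ⟶ Y) [EtCoh.BCCont f]
    (F : EtCoh.Ab Y) (hF : EtPBC.IsConstructible F) :
    EtPBC.IsConstructible ((EtCoh.pull f).obj F) := by
  exact main f F hF

end Groth.Agent.S0127
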