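import Groth.Statements.S0128
import Mathlib
import Groth.Prelude.Def_PBC
import Groth.Prelude.Def_EtCore
import Groth.Agent.Lib.Helper10.LcGlue

set_option autoImplicit false
universe u
open CategoryTheory CategoryTheory.Limits AlgebraicGeometry Opposite
open EtPBC

namespace Groth.Agent.S0128

section helpers

open Groth.Agent.Helper10.LcStrata Groth.Agent.Helper10.LcGlue

theorem fwd (X : Scheme.{u}) [CompactSpace X] [QuasiSeparatedSpace X]
    (F : EtCoh.Ab X) (h : EtPBC.IsConstructible F) :
    EtPBC.AdaptedStrata F (Set.univ : Set X) := by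
  have hex : ∀ x : X, ∃ U : X.Opens, IsAffineOpen U ∧ x ∈ U := by
    intro x
    obtain ⟨U, hU, hxU, -⟩ := exists_isAffineOpen_mem_and_subset (x := x) (U := ⊤) trivial
    exact ⟨U, hU, hxU⟩
  choose U hU hxU using hex
  obtain ⟨t, ht⟩ := isCompact_univ.elim_finite_subcover
    (fun x : X => ((U x : X.Opens) : Set X))
    (fun x => (U x).isOpen)
    (fun x _ => Set.mem_iUnion.2 ⟨x, hxU x⟩)
  let e : Fin t.card ≃ t := t.equivFin.symm
  refine adaptedStrata_glue F Set.univ t.card
    (fun k => ((U (e k).1 : X.Opens) : Set X))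
    (fun k => (U _).isOpen) (fun k => Set.subset_univ _) ?_ ?_ (fun k => h _ (hU _))
  · intro x hx
    obtain ⟨y, hy⟩ := Set.mem_iUnion.1 (ht hx)
    obtain ⟨hyt, hxy⟩ := Set.mem_iUnion.1 hy
    refine Set.mem_iUnion.2 ⟨e.symm ⟨y, hyt⟩, ?_⟩
    simp only [Equiv.apply_symm_apply]
    exact hxy
  · intro k
    refine IsRetrocompact.preimage_of_isOpenEmbedding isOpen_univ.isOpenEmbedding_subtypeVal ?_
    rw [QuasiSeparatedSpace.isRetrocompact_iff_isCompact (U _).isOpen]
    exact (hU _).isCompact

theorem bwd (X : Scheme.{u})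
    (F : EtCoh.Ab X) (h : EtPBC.AdaptedStrata F (Set.univ : Set X)) :
    EtPBC.IsConstructible F := by
  intro U hU
  obtain ⟨n, T, t, hi, hc, hd, hu, hl⟩ := h
  have hrange : ∀ i, Set.range (pullback.fst (t i) U.ι ≫ t i) = Set.range (t i) ∩ (U : Set X) := by
    intro i
    rw [Scheme.Hom.comp_base, TopCat.coe_comp, Set.range_comp, Scheme.Pullback.range_fst,
      Set.image_preimage_eq_inter_range, Set.inter_comm, Scheme.Opens.range_ι]
  refine ⟨n, fun i => pullback (t i) U.ι, fun i => pullback.fst _ _ ≫ t i, ?_, ?_, ?_, ?_, ?_⟩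
  · intro i
    have := hi i
    infer_instance
  · intro i
    rw [hrange i]
    let incl : ↥(U : Set X) → ↥(Set.univ : Set X) := Set.inclusion (Set.subset_univ _)
    have hincl : Topology.IsOpenEmbedding incl :=
      Topology.IsOpenEmbedding.inclusion (Set.subset_univ _)
        (U.isOpen.preimage continuous_subtype_val)
    have := (hc i).preimage_of_isOpenEmbedding hincl
    convert this using 1
    ext x
    simp only [Set.mem_preimage, Set.mem_inter_iff]
    constructor
    · intro hx
      exact hx.1
    · intro hx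
      exact ⟨hx, x.2⟩
  · intro i j hij
    rw [hrange i, hrange j]
    exact (hd hij).mono Set.inter_subset_left Set.inter_subset_left
  · simp_rw [hrange]
    rw [← Set.iUnion_inter, hu, Set.univ_inter]
  · intro i _
    exact isFLC_pull_comp _ _ rfl (hl i)

theorem main (X : Scheme.{u}) [CompactSpace X] [QuasiSeparatedSpace X]
    (F : EtCoh.Ab X) :
    EtPBC.IsConstructible F ↔ EtPBC.AdaptedStrata F (Set.univ : Set X) :=
  ⟨fwd X F, bwd X F⟩

end helpers

/-- (1) iff (3), abelian case: for X quasi-compact and quasi-separated, F is constructible iff X itself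
admits a finite partition into constructible locally closed strata along which F becomes finite
locally constant. -/
theorem result (X : Scheme.{u}) [CompactSpace X] [QuasiSeparatedSpace X]
    (F : EtCoh.Ab X) :
    EtPBC.IsConstructible F ↔ EtPBC.AdaptedStrata F (Set.univ : Set X) := by
  exact main X F

end Groth.Agent.S0128
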