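import Groth.Statements.S0129
import Groth.Agent.Lib.Helper10.LcGlue

set_option autoImplicit false
universe u
open CategoryTheory CategoryTheory.Limits AlgebraicGeometry Opposite
open EtPBC

namespace Groth.Agent.S0129

section helpers
open Groth.Agent.Helper10.LcStrata Groth.Agent.Helper10.LcGlue

theorem main {X : Scheme.{u}} (F : EtCoh.Ab X) {ι : Type u} (U : ι → X.Opens)
    (hU : ⨆ i, U i = ⊤)
    (h : ∀ i, EtPBC.IsConstructible ((EtCoh.pull (U i).ι).obj F)) :
    EtPBC.IsConstructible F := by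
  intro V hV
  apply adaptedStrata_of_local F hV
  intro x hx
  have hxU : x ∈ (⨆ i, U i) := by rw [hU]; trivial
  obtain ⟨i, hi⟩ := TopologicalSpace.Opens.mem_iSup.1 hxU
  obtain ⟨f, hf1, hf2⟩ := hV.exists_basicOpen_le (V := V ⊓ U i) ⟨x, ⟨hx, hi⟩⟩ hx
  refine ⟨f, hf2, ?_⟩
  have hW : IsAffineOpen (X.basicOpen f) := hV.basicOpen f
  have hle : X.basicOpen f ≤ (U i).ι.opensRange := by
    rw [Scheme.Opens.opensRange_ι]
    exact hf1.trans inf_le_right
  have hW' : IsAffineOpen ((U i).ι ⁻¹ᵁ X.basicOpen f) := hW.preimage_of_isOpenImmersion _ hle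
  have := adaptedStrata_image (U i).ι F _ (h i _ hW')
  convert this using 1
  have h2 : (((U i).ι ⁻¹ᵁ X.basicOpen f : (U i).toScheme.Opens) : Set (U i).toScheme) =
      (U i).ι ⁻¹' (X.basicOpen f : Set X) := rfl
  rw [h2, Set.image_preimage_eq_inter_range, Scheme.Opens.range_ι]
  exact (Set.inter_eq_left.2 (fun y hy => (hf1 hy).2)).symm

end helpers

/-- Abelian case: if X is covered by opens U_i and the restriction of F to each U_i is constructible,
then F is constructible. -/
theorem result {X : Scheme.{u}} (F : EtCoh.Ab X) {ι : Type u} (U : ι → X.Opens)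
    (hU : ⨆ i, U i = ⊤) [∀ i, EtCoh.BCCont (U i).ι]
    (h : ∀ i, EtPBC.IsConstructible ((EtCoh.pull (U i).ι).obj F)) :
    EtPBC.IsConstructible F := by
  exact main F U hU h

end Groth.Agent.S0129
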