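import Groth.Statements.S0130
import Mathlib
import Groth.Prelude.Def_PBC
import Groth.Prelude.Def_EtCore
import Groth.Agent.Lib.Helper10.LcCons
import Groth.Agent.S0128

set_option autoImplicit false
universe u
open CategoryTheory CategoryTheory.Limits AlgebraicGeometry Opposite
open EtPBC

namespace Groth.Agent.S0130

section helpers

open Groth.Agent.Helper10.LcStrata Groth.Agent.Helper10.LcGlue Groth.Agent.Helper10.ConsTop
  Groth.Agent.Helper10.LcCons

theorem main (X : Scheme.{u}) [CompactSpace X] [QuasiSeparatedSpace X]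
    (F : EtCoh.Ab X) {ι : Type u} (T : ι → Scheme.{u}) (g : ∀ i, T i ⟶ X) [∀ i, IsImmersion (g i)]
    (hc : ∀ i, Topology.IsConstructible (Set.range (g i)))
    (hcov : (⋃ i, Set.range (g i)) = Set.univ)
    (h : ∀ i, EtPBC.IsConstructible ((EtCoh.pull (g i)).obj F)) :
    EtPBC.IsConstructible F := by
  obtain ⟨t, ht⟩ := exists_finset_cover (fun i => Set.range (g i)) hc hcov
  rw [Groth.Agent.S0128.result]
  let e : Fin t.card ≃ t := t.equivFin.symm
  refine adaptedStrata_univ_of_cover F (fun k => Set.range (g (e k).1)) (fun k => hc _) ?_ ?_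
  · refine Set.eq_univ_of_forall fun x => ?_
    have hx : x ∈ ⋃ i ∈ t, Set.range (g i) := by rw [ht]; trivial
    obtain ⟨i, hi⟩ := Set.mem_iUnion.1 hx
    obtain ⟨hit, hxi⟩ := Set.mem_iUnion.1 hi
    obtain ⟨k, hk⟩ : ∃ k, e k = ⟨i, hit⟩ := ⟨e.symm _, e.apply_symm_apply _⟩
    refine Set.mem_iUnion.2 ⟨k, ?_⟩
    rw [hk]
    exact hxi
  · intro k
    have : QuasiSeparatedSpace (T (e k).1) := quasiSeparatedSpace_of_quasiSeparated (g _)
    have : CompactSpace (T (e k).1) := by
      have hcomp := isCompact_of_isConstructible (hc (e k).1)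
      rw [← Set.image_univ, ← (g _).isEmbedding.isCompact_iff] at hcomp
      exact isCompact_univ_iff.1 hcomp
    have h1 := (Groth.Agent.S0128.result _ _).1 (h (e k).1)
    have h2 := adaptedStrata_image (g _) F Set.univ h1
    rwa [Set.image_univ] at h2

end helpers

/-- Abelian case: X quasi-compact and quasi-separated, T_i -> X immersions with constructible images
covering X, and F pulled back to each T_i constructible; then F is constructible. -/
theorem result (X : Scheme.{u}) [CompactSpace X] [QuasiSeparatedSpace X]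
    (F : EtCoh.Ab X) {ι : Type u} (T : ι → Scheme.{u}) (g : ∀ i, T i ⟶ X) [∀ i, IsImmersion (g i)]
    [∀ i, EtCoh.BCCont (g i)]
    (hc : ∀ i, Topology.IsConstructible (Set.range (g i)))
    (hcov : (⋃ i, Set.range (g i)) = Set.univ)
    (h : ∀ i, EtPBC.IsConstructible ((EtCoh.pull (g i)).obj F)) :
    EtPBC.IsConstructible F := by
  exact main X F T g hc hcov h

end Groth.Agent.S0130
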