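import Groth.Statements.S0131
import Groth.Agent.Lib.Helper10.LcStrata
import Groth.Agent.S6645
import Groth.Agent.S0101

set_option autoImplicit false
universe u
open CategoryTheory CategoryTheory.Limits AlgebraicGeometry Opposite
open EtPBC

namespace Groth.Agent.S0131

section helpers
open Groth.Agent.Helper10.LcStrata

theorem main {X : Scheme.{u}} {F G : EtCoh.Ab X} (φ : F ⟶ G)
    (hF : EtPBC.IsConstructible F) (hG : EtPBC.IsConstructible G) :
    EtPBC.IsConstructible (kernel φ) ∧ EtPBC.IsConstructible (cokernel φ) := by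
  have key : ∀ U : X.Opens, IsAffineOpen U →
      EtPBC.AdaptedStrata (kernel φ) (U : Set X) ∧ EtPBC.AdaptedStrata (cokernel φ) (U : Set X) := by
    intro U hU
    obtain ⟨n, T, g, hi, hc, hd, hu, hl⟩ := adaptedStrata_common F G _ (hF U hU) (hG U hU)
    have H : ∀ i, EtCoh.IsFiniteLocallyConstant ((EtCoh.pull (g i)).obj (kernel φ)) ∧
        EtCoh.IsFiniteLocallyConstant ((EtCoh.pull (g i)).obj (cokernel φ)) := by
      intro i
      have hpfl : PreservesFiniteLimits (EtCoh.pull (g i)) := Groth.Agent.S0101.result (g i)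
      have h := (Groth.Agent.S6645.result (T i)).1 _ _ ((EtCoh.pull (g i)).map φ) (hl i).1 (hl i).2
      exact ⟨isFLC_of_iso (PreservesKernel.iso (EtCoh.pull (g i)) φ).symm h.1,
        isFLC_of_iso (PreservesCokernel.iso (EtCoh.pull (g i)) φ).symm h.2⟩
    exact ⟨⟨n, T, g, hi, hc, hd, hu, fun i _ => (H i).1⟩,
      ⟨n, T, g, hi, hc, hd, hu, fun i _ => (H i).2⟩⟩
  exact ⟨fun U hU => (key U hU).1, fun U hU => (key U hU).2⟩

end helpers

/-- Part (3): with Λ = Z/n: for a morphism of constructible abelian sheaves on X_et both killed by n > 0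
(that is, a map of constructible sheaves of Z/n-modules), kernel and cokernel are constructible.
(The source writes the proof for modules over a Noetherian ring; the plain abelian case (2) is
marked omitted there, hence the n-torsion hypotheses.) -/
theorem result {X : Scheme.{u}} {F G : EtCoh.Ab X} (φ : F ⟶ G)
    (n : ℕ) (hn : 0 < n) (hFn : EtCoh.KilledBy n F) (hGn : EtCoh.KilledBy n G)
    (hF : EtPBC.IsConstructible F) (hG : EtPBC.IsConstructible G) :
    EtPBC.IsConstructible (kernel φ) ∧ EtPBC.IsConstructible (cokernel φ) := by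
  exact main φ hF hG

end Groth.Agent.S0131
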