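import Groth.Statements.S8527
import Mathlib
import Groth.Prelude.Def_PBC
import Groth.Prelude.Def_EtCore
import Groth.Agent.Lib.Helper10.LcNoeth

set_option autoImplicit false
universe u
open CategoryTheory CategoryTheory.Limits AlgebraicGeometry Opposite
open EtPBC

namespace Groth.Agent.S8527

section helpers

open Groth.Agent.Helper10.LcStrata Groth.Agent.Helper10.LcGlue Groth.Agent.Helper10.ConsTop
  Groth.Agent.Helper10.LcCons Groth.Agent.Helper10.LcNoeth

theorem bwd {X : Scheme.{u}} [IsLocallyNoetherian X] (F : EtCoh.Ab X)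
    (H : ∀ x : X, ∃ (V : X.Opens) (T : Scheme.{u}) (g : T ⟶ X), IsImmersion g ∧ x ∈ V ∧
        Set.range g.base = (V : Set X) ∩ closure {x} ∧
        EtCoh.IsFiniteLocallyConstant ((EtCoh.pull g).obj F)) :
    EtPBC.IsConstructible F := by
  intro U hU
  have : IsNoetherianRing Γ(X, U) := IsLocallyNoetherian.component_noetherian ⟨U, hU⟩
  have hN : TopologicalSpace.NoetherianSpace (U : Scheme.{u}) := noetherianSpace_of_isAffineOpen U hU
  have h1 : EtPBC.AdaptedStrata ((EtCoh.pull U.ι).obj F) (Set.univ : Set (U : Scheme.{u})) := by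
    apply adaptedStrata_univ_of_generic
    intro y
    obtain ⟨V, T, g, hg, hxV, hr, hl⟩ := H (U.ι y)
    refine ⟨U.ι ⁻¹' (V : Set X), pullback g U.ι, pullback.snd g U.ι,
      V.isOpen.preimage U.ι.continuous, inferInstance, hxV, ?_, ?_⟩
    · rw [Scheme.Pullback.range_snd]
      have hr' : Set.range g = (V : Set X) ∩ closure {U.ι y} := hr
      rw [hr', Set.preimage_inter]
      congr 1
      rw [U.ι.isEmbedding.isInducing.closure_eq_preimage_closure_image, Set.image_singleton]
    · refine isFLC_of_iso ((EtCore.pullComp (pullback.snd g U.ι) U.ι).app F) ?_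
      exact isFLC_pull_comp (pullback.fst g U.ι) g pullback.condition hl
  have h2 := adaptedStrata_image U.ι F Set.univ h1
  rwa [Set.image_univ, Scheme.Opens.range_ι] at h2

theorem fwd {X : Scheme.{u}} (F : EtCoh.Ab X) (hF : EtPBC.IsConstructible F) (x : X) :
    ∃ (V : X.Opens) (T : Scheme.{u}) (g : T ⟶ X), IsImmersion g ∧ x ∈ V ∧
        Set.range g.base = (V : Set X) ∩ closure {x} ∧
        EtCoh.IsFiniteLocallyConstant ((EtCoh.pull g).obj F) := by
  obtain ⟨U, hU, hxU, -⟩ := exists_isAffineOpen_mem_and_subset (x := x) (U := ⊤) trivial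
  obtain ⟨n, T, t, hi, hc, hd, hu, hl⟩ := hF U hU
  have hx' : x ∈ ⋃ i, Set.range (t i) := by rw [hu]; exact hxU
  obtain ⟨i, hxi⟩ := Set.mem_iUnion.1 hx'
  obtain ⟨O, hO, hyO, hsub⟩ := (exists_open_inter_closure_subset (hc i) ⟨x, hxU⟩).1 hxi
  obtain ⟨O', hO', rfl⟩ := isOpen_induced_iff.1 hO
  let V : X.Opens := ⟨O' ∩ (U : Set X), hO'.inter U.isOpen⟩
  have hVsub : (V : Set X) ∩ closure {x} ⊆ Set.range (t i) := by
    rintro z ⟨⟨hzO, hzU⟩, hzc⟩
    have : (⟨z, hzU⟩ : ↥(U : Set X)) ∈ (Subtype.val : ↥(U : Set X) → X) ⁻¹' Set.range (t i) := by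
      refine hsub ⟨hzO, ?_⟩
      rw [Topology.IsInducing.subtypeVal.closure_eq_preimage_closure_image, Set.image_singleton]
      exact hzc
    exact this
  obtain ⟨C, c, hcl, hcr⟩ := exists_closedImmersion_range_eq_compl (closure {x})ᶜ
    isClosed_closure.isOpen_compl
  rw [compl_compl] at hcr
  have := hi i
  let g₁ : pullback (t i) c ⟶ X := pullback.fst (t i) c ≫ t i
  have hr₁ : Set.range g₁ = Set.range (t i) ∩ closure {x} := by
    rw [Scheme.Hom.comp_base, TopCat.coe_comp, Set.range_comp, Scheme.Pullback.range_fst,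
      Set.image_preimage_eq_inter_range, Set.inter_comm, hcr]
  let g₂ : pullback g₁ V.ι ⟶ X := pullback.fst g₁ V.ι ≫ g₁
  have hr₂ : Set.range g₂ = Set.range g₁ ∩ (V : Set X) := by
    rw [Scheme.Hom.comp_base, TopCat.coe_comp, Set.range_comp, Scheme.Pullback.range_fst,
      Set.image_preimage_eq_inter_range, Set.inter_comm, Scheme.Opens.range_ι]
  refine ⟨V, _, g₂, inferInstance, ⟨hyO, hxU⟩, ?_, ?_⟩
  · rw [hr₂, hr₁]
    ext z
    constructor
    · rintro ⟨⟨-, hzc⟩, hzV⟩
      exact ⟨hzV, hzc⟩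
    · rintro ⟨hzV, hzc⟩
      exact ⟨⟨hVsub ⟨hzV, hzc⟩, hzc⟩, hzV⟩
  · exact isFLC_pull_comp (pullback.fst g₁ V.ι) g₁ rfl
      (isFLC_pull_comp (pullback.fst (t i) c) (t i) rfl (hl i))

theorem main {X : Scheme.{u}} [IsLocallyNoetherian X]
    (F : EtCoh.Ab X) :
    EtPBC.IsConstructible F ↔
      ∀ x : X, ∃ (V : X.Opens) (T : Scheme.{u}) (g : T ⟶ X), IsImmersion g ∧ x ∈ V ∧
        Set.range g.base = (V : Set X) ∩ closure {x} ∧
        EtCoh.IsFiniteLocallyConstant ((EtCoh.pull g).obj F) :=
  ⟨fun hF x => fwd F hF x, bwd F⟩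

end helpers

/-- Let X be a locally Noetherian scheme and F an abelian sheaf on its small etale site. Then F is
constructible if and only if for every point x of X there is a nonempty open subset of the closure
of x along which F becomes finite locally constant; precisely: there are an open V containing x and
an immersion g : T → X with image V ∩ closure(x) such that the inverse image of F along g is finite
locally constant. -/
theorem result {X : Scheme.{u}} [IsLocallyNoetherian X]
    (F : EtCoh.Ab X) :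
    EtPBC.IsConstructible F ↔
      ∀ x : X, ∃ (V : X.Opens) (T : Scheme.{u}) (g : T ⟶ X), IsImmersion g ∧ x ∈ V ∧
        Set.range g.base = (V : Set X) ∩ closure {x} ∧
        EtCoh.IsFiniteLocallyConstant ((EtCoh.pull g).obj F) := by
  exact main F

end Groth.Agent.S8527
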