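import Groth.Statements.S0140
import Groth.Agent.Lib.Helper10.LcStrata
import Groth.Agent.Lib.Helper10.LcSub
import Groth.Agent.Lib.Helper10.LcEt
import Groth.Agent.S8527
import Groth.Agent.S0101

set_option autoImplicit false
universe u
open CategoryTheory CategoryTheory.Limits AlgebraicGeometry Opposite
open EtPBC

namespace Groth.Agent.S0140

section helpers
open Groth.Agent.Helper10.LcStrata Groth.Agent.Helper10.LcSite Groth.Agent.Helper10.LcSub
  Groth.Agent.Helper10.LcPull Groth.Agent.Helper10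

/-- a nonempty locally Noetherian scheme has an irreducible open subset. -/
lemma exists_irreducible_open (U : Scheme.{u}) [IsLocallyNoetherian U] [Nonempty U] :
    ∃ W : U.Opens, IrreducibleSpace ↥W := by
  obtain ⟨y⟩ := ‹Nonempty U›
  obtain ⟨W₀, hW₀, hy, -⟩ := exists_isAffineOpen_mem_and_subset (x := y) (U := ⊤) trivial
  have : IsNoetherianRing Γ(U, W₀) := IsLocallyNoetherian.component_noetherian ⟨W₀, hW₀⟩
  have hN : TopologicalSpace.NoetherianSpace ↥W₀ := noetherianSpace_of_isAffineOpen W₀ hW₀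
  obtain ⟨o, ho, hne, hoZ⟩ :=
    TopologicalSpace.NoetherianSpace.exists_isOpen_nonempty_subset_irreducibleComponent
      (irreducibleComponent (⟨y, hy⟩ : ↥W₀)) (irreducibleComponent_mem_irreducibleComponents _)
  have hirr : IsIrreducible o :=
    ⟨hne, isIrreducible_irreducibleComponent.2.open_subset ho hoZ⟩
  have hirr' : IsIrreducible (Subtype.val '' o : Set U) :=
    hirr.image _ continuous_subtype_val.continuousOn
  refine ⟨⟨Subtype.val '' o, W₀.isOpen.isOpenMap_subtype_val o ho⟩, ?_⟩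
  exact (isIrreducible_iff_irreducibleSpace.1 hirr')

lemma bot_mem_iff {T : Scheme.{u}} (V : T.Etale) :
    ⊥ ∈ T.smallEtaleTopology V ↔ IsEmpty V.left := by
  rw [EtLoc.mem_iff]
  constructor
  · intro h
    refine ⟨fun x => ?_⟩
    obtain ⟨Z, g, z, hg, -⟩ := h x
    exact hg
  · intro h x
    exact (h.false x).elim

lemma bot_not_mem_iff {T : Scheme.{u}} (V : T.Etale) :
    ⊥ ∉ T.smallEtaleTopology V ↔ Nonempty V.left := by
  rw [bot_mem_iff, not_isEmpty_iff]

/-- a finite abelian group in a big universe has a model in `Type`. -/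
lemma exists_small_model (K : AddCommGrpCat.{u + 1}) [Finite K] :
    ∃ (M₀ : Type) (_ : AddCommGroup M₀) (_ : Finite M₀),
      Nonempty (K ≅ AddCommGrpCat.of (ULift.{u + 1} M₀)) := by
  have : Small.{0} K := Countable.toSmall K
  refine ⟨Shrink.{0} K, inferInstance, Finite.of_equiv K (equivShrink K), ⟨?_⟩⟩
  exact ((Shrink.addEquiv (α := K)).symm.trans AddEquiv.ulift.symm).toAddCommGrpIso

/-- the irreducibility property of the small étale site over an irreducible étale scheme. -/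
lemma hirr_of_irreducible {T : Scheme.{u}} (Wobj : T.Etale) [IrreducibleSpace Wobj.left]
    {V V' : T.Etale} (g : V ⟶ Wobj) (g' : V' ⟶ Wobj)
    (hV : ⊥ ∉ T.smallEtaleTopology V) (hV' : ⊥ ∉ T.smallEtaleTopology V') :
    ∃ (V'' : T.Etale) (k : V'' ⟶ V) (k' : V'' ⟶ V'),
      ⊥ ∉ T.smallEtaleTopology V'' ∧ k ≫ g = k' ≫ g' := by
  rw [bot_not_mem_iff] at hV hV'
  obtain ⟨v⟩ := hV
  obtain ⟨v'⟩ := hV'
  have hg : Etale g.left := inferInstance
  have hg' : Etale g'.left := inferInstance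
  have h1 : IsOpen (Set.range g.left) := g.left.isOpenMap.isOpen_range
  have h2 : IsOpen (Set.range g'.left) := g'.left.isOpenMap.isOpen_range
  obtain ⟨w, ⟨v₁, hv₁⟩, ⟨v₁', hv₁'⟩⟩ :=
    nonempty_preirreducible_inter h1 h2 ⟨_, v, rfl⟩ ⟨_, v', rfl⟩
  obtain ⟨z, -, -⟩ := Scheme.Pullback.exists_preimage_pullback
    (f := g.left) (g := g'.left) v₁ v₁' (hv₁.trans hv₁'.symm)
  have w1 : g.left ≫ Wobj.hom = V.hom := Over.w g.hom
  have w2 : g'.left ≫ Wobj.hom = V'.hom := Over.w g'.hom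
  have hV : Etale V.hom := V.prop
  refine ⟨Scheme.Etale.mk (pullback.fst g.left g'.left ≫ V.hom),
    MorphismProperty.Over.homMk (pullback.fst _ _) rfl trivial,
    MorphismProperty.Over.homMk (pullback.snd _ _) (by
      show pullback.snd g.left g'.left ≫ V'.hom = pullback.fst g.left g'.left ≫ V.hom
      rw [← w1, ← w2, ← Category.assoc, ← Category.assoc, pullback.condition]) trivial, ?_, ?_⟩
  · rw [bot_not_mem_iff]
    exact ⟨z⟩
  · apply MorphismProperty.Over.Hom.ext
    exact pullback.condition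

/-- generic constancy of a subsheaf of a finite locally constant sheaf on a locally Noetherian
scheme with a generic point. -/
theorem generic_sub_flc {T : Scheme.{u}} [IsLocallyNoetherian T]
    (t₀ : T) (ht₀ : ∀ u : Set T, IsOpen u → u.Nonempty → t₀ ∈ u)
    {H E : EtCoh.Ab T} (b : H ⟶ E) [Mono b] (hE : EtCoh.IsFiniteLocallyConstant E) :
    ∃ T' : T.Opens, t₀ ∈ T' ∧ EtCoh.IsFiniteLocallyConstant ((EtCoh.pull T'.ι).obj H) := by
  obtain ⟨ι, U, hU, hα⟩ := hE
  obtain ⟨i, y, hy⟩ := hU t₀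
  obtain ⟨M₀, iM, fM, ⟨α⟩⟩ := hα i
  have hUi : Etale (U i).hom := (U i).prop
  have : IsLocallyNoetherian (U i).left :=
    LocallyOfFiniteType.isLocallyNoetherian (Y := T) (U i).hom
  have : Nonempty (U i).left := ⟨y⟩
  obtain ⟨W, hWirr⟩ := exists_irreducible_open (U i).left
  let Wobj : T.Etale := Scheme.Etale.mk (W.ι ≫ (U i).hom)
  let jW : Wobj ⟶ U i := MorphismProperty.Over.homMk W.ι rfl trivial
  have : IrreducibleSpace Wobj.left := hWirr
  let αW := trivRes T.smallEtaleTopology α jW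
  have hWne : ⊥ ∉ T.smallEtaleTopology Wobj := by
    rw [bot_not_mem_iff]
    exact (inferInstance : Nonempty ↥W)
  have : Finite (AddCommGrpCat.of (ULift.{u + 1} M₀)) :=
    inferInstanceAs (Finite (ULift.{u + 1} M₀))
  obtain ⟨V₀, g₀, A', hV₀, ⟨e⟩⟩ := exists_sub_const b αW hWne
    (fun g g' hV hV' => hirr_of_irreducible Wobj g g' hV hV')
  rw [bot_not_mem_iff] at hV₀
  obtain ⟨v₀⟩ := hV₀
  have hV₀e : Etale V₀.hom := V₀.prop
  let T' : T.Opens := ⟨Set.range V₀.hom, V₀.hom.isOpenMap.isOpen_range⟩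
  refine ⟨T', ht₀ _ T'.isOpen ⟨_, v₀, rfl⟩, ?_⟩
  have : Finite (AddCommGrpCat.of A') := inferInstanceAs (Finite A')
  obtain ⟨M', iM', fM', ⟨e₀⟩⟩ := exists_small_model (AddCommGrpCat.of A')
  refine ⟨PUnit.{u + 1}, fun _ => (EtCoh.bc T'.ι).obj V₀, ?_, fun _ => ⟨M', iM', fM', ⟨?_⟩⟩⟩
  · intro x
    obtain ⟨v, hv⟩ : x.1 ∈ Set.range V₀.hom := x.2
    obtain ⟨z, -, hz2⟩ := Scheme.Pullback.exists_preimage_pullback
      (f := V₀.hom) (g := T'.ι) v x hv
    exact ⟨PUnit.unit, z, hz2⟩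
  · exact pullTriv T.smallEtaleTopology T'.toScheme.smallEtaleTopology (EtCoh.bc T'.ι)
      AddCommGrpCat.{u + 1} V₀ e ≪≫ (constantSheaf _ _).mapIso e₀

theorem main (X : Scheme.{u}) [IsNoetherian X]
    {F G : EtCoh.Ab X} (ι : G ⟶ F) [Mono ι] (hF : EtPBC.IsConstructible F) :
    EtPBC.IsConstructible G := by
  rw [Groth.Agent.S8527.result]
  intro x
  obtain ⟨V₁, T₁, g₁, hg₁, hxV₁, hr₁, hl₁⟩ := (Groth.Agent.S8527.result F).1 hF x
  have : IsLocallyNoetherian T₁ := LocallyOfFiniteType.isLocallyNoetherian g₁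
  obtain ⟨t₀, ht₀x⟩ : x ∈ Set.range g₁ := by
    rw [hr₁]
    exact ⟨hxV₁, subset_closure rfl⟩
  have hgen : ∀ u : Set T₁, IsOpen u → u.Nonempty → t₀ ∈ u := by
    rintro u hu ⟨t, ht⟩
    obtain ⟨u', hu', rfl⟩ := g₁.isEmbedding.isInducing.isOpen_iff.1 hu
    have h1 : g₁ t ∈ closure {x} := by
      have : g₁ t ∈ Set.range g₁ := ⟨t, rfl⟩
      rw [hr₁] at this
      exact this.2
    obtain ⟨z, hz, hzx⟩ := mem_closure_iff.1 h1 u' hu' ht
    rw [Set.mem_singleton_iff] at hzx
    show g₁ t₀ ∈ u'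
    rw [ht₀x, ← hzx]
    exact hz
  have hpfl : PreservesFiniteLimits (EtCoh.pull g₁) := Groth.Agent.S0101.result g₁
  have : Mono ((EtCoh.pull g₁).map ι) := inferInstance
  obtain ⟨T', ht₀, hflc⟩ := generic_sub_flc t₀ hgen ((EtCoh.pull g₁).map ι) hl₁
  obtain ⟨O, hO, hOT'⟩ := g₁.isEmbedding.isInducing.isOpen_iff.1 T'.isOpen
  refine ⟨⟨O, hO⟩ ⊓ V₁, T', T'.ι ≫ g₁, inferInstance, ⟨?_, hxV₁⟩, ?_, ?_⟩
  · have : t₀ ∈ g₁ ⁻¹' O := by
      rw [hOT']
      exact ht₀
    rw [← ht₀x]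
    exact this
  · rw [Scheme.Hom.comp_base, TopCat.coe_comp, Set.range_comp, Scheme.Opens.range_ι, ← hOT',
      Set.image_preimage_eq_inter_range]
    have hr₁' : Set.range g₁ = (V₁ : Set X) ∩ closure {x} := hr₁
    rw [hr₁']
    ext z
    simp only [Set.mem_inter_iff, TopologicalSpace.Opens.coe_inf, TopologicalSpace.Opens.coe_mk]
    tauto
  · exact isFLC_of_iso ((EtCore.pullComp T'.ι g₁).app G).symm hflc

end helpers

/-- Part (3): with Λ = Z/n: on a Noetherian scheme X, a subsheaf of a constructible abelian sheaf killed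
by n > 0 (a constructible sheaf of Z/n-modules) is constructible; so such sheaves form a Serre
subcategory. (The source writes the proof for modules over a Noetherian ring and marks the plain
abelian case (2) as details-omitted, hence the n-torsion hypothesis.) -/
theorem result (X : Scheme.{u}) [IsNoetherian X]
    {F G : EtCoh.Ab X} (ι : G ⟶ F) [Mono ι] (n : ℕ) (hn : 0 < n) (hFn : EtCoh.KilledBy n F)
    (hF : EtPBC.IsConstructible F) :
    EtPBC.IsConstructible G := by
  exact main X ι hF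

end Groth.Agent.S0140
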