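import Groth.Statements.S0141
import Groth.Agent.S0140
import Groth.Agent.S0131

set_option autoImplicit false
universe u
open CategoryTheory CategoryTheory.Limits AlgebraicGeometry Opposite
open EtPBC

namespace Groth.Agent.S0141

section helpers
open Groth.Agent.Helper10.LcStrata

lemma isConstructible_of_iso {X : Scheme.{u}} {F G : EtCoh.Ab X} (e : F ≅ G)
    (hF : EtPBC.IsConstructible F) : EtPBC.IsConstructible G := by
  intro U hU
  obtain ⟨n, T, g, hi, hc, hd, hu, hl⟩ := hF U hU
  exact ⟨n, T, g, hi, hc, hd, hu, fun i _ => isFLC_of_iso ((EtCoh.pull (g i)).mapIso e) (hl i)⟩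

theorem main (X : Scheme.{u}) [IsNoetherian X]
    {F Q : EtCoh.Ab X} (π : F ⟶ Q) [Epi π] (n : ℕ) (hn : 0 < n) (hFn : EtCoh.KilledBy n F)
    (hF : EtPBC.IsConstructible F) :
    EtPBC.IsConstructible Q := by
  have hK : EtPBC.IsConstructible (kernel π) := Groth.Agent.S0140.main X (kernel.ι π) hF
  have hKn : EtCoh.KilledBy n (kernel π) := by
    intro U s
    have hinj := Groth.Agent.Helper10.LcSub.app_injective (kernel.ι π) U
    apply hinj
    rw [map_nsmul, map_zero]
    exact hFn U _
  have hC := (Groth.Agent.S0131.result (kernel.ι π) n hn hKn hFn hK hF).2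
  have hcok := Abelian.epiIsCokernelOfKernel (f := π) _ (limit.isLimit _)
  let e : cokernel (kernel.ι π) ≅ Q :=
    IsColimit.coconePointUniqueUpToIso (colimit.isColimit _) hcok
  exact isConstructible_of_iso e hC

end helpers

/-- Part (3): with Λ = Z/n, quotient half: on a Noetherian scheme a quotient of a constructible abelian
sheaf killed by n > 0 is constructible. -/
theorem result (X : Scheme.{u}) [IsNoetherian X]
    {F Q : EtCoh.Ab X} (π : F ⟶ Q) [Epi π] (n : ℕ) (hn : 0 < n) (hFn : EtCoh.KilledBy n F)
    (hF : EtPBC.IsConstructible F) :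
    EtPBC.IsConstructible Q := by
  exact main X π n hn hFn hF

end Groth.Agent.S0141
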