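import Groth.Statements.S0142
import Groth.Agent.Lib.Helper10.LcStrata
import Groth.Agent.Lib.Helper10.LcSub
import Groth.Agent.Lib.Helper10.LcSubChain
import Groth.Agent.Lib.Helper10.LcEt
import Groth.Agent.Lib.Helper10.SuppCons
import Groth.Agent.S8527
import Groth.Agent.S0101
import Groth.Agent.S0140

set_option autoImplicit false
universe u
open CategoryTheory CategoryTheory.Limits AlgebraicGeometry Opposite
open EtPBC

namespace Groth.Agent.S0142

section helpers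
open Groth.Agent.Helper10.LcStrata Groth.Agent.Helper10.LcSite Groth.Agent.Helper10.LcSub
  Groth.Agent.Helper10.LcSubChain Groth.Agent.Helper10 Groth.Agent.Helper1
  TopologicalSpace

lemma sect_eq_zero_of_isZero {C : Type*} [Category C] {J : GrothendieckTopology C}
    (Z : Sheaf J AddCommGrpCat.{u + 1}) (hZ : IsZero Z) (W : C) (s : Z.obj.obj (op W)) : s = 0 := by
  have h : (sheafToPresheaf J AddCommGrpCat.{u + 1}).map (𝟙 Z) =
      (sheafToPresheaf J AddCommGrpCat.{u + 1}).map 0 := by rw [hZ.eq_of_src (𝟙 Z) 0]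
  have h2 := congrArg (fun f => (f.app (op W)) s) h
  simpa using h2

/-- a sheaf with empty support has no nonzero sections. -/
lemma sect_eq_zero_of_supp {X : Scheme.{u}} (Q : EtCoh.Ab X) (h : EtPBC.supp Q = ∅) (U : X.Etale)
    (σ : EtCoh.sect Q U) : σ = 0 := by
  rw [SHC.supp_eq_union] at h
  have h1 : EtShriek.sectSupp Q U σ = ∅ := by
    rw [Set.eq_empty_iff_forall_notMem]
    intro u hu
    have : U.hom.base u ∈ (∅ : Set X) := by
      rw [← h]
      exact Set.mem_iUnion₂.2 ⟨U, σ, u, hu, rfl⟩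
    exact this
  let S : Sieve U :=
    { arrows := fun V φ => Q.obj.map φ.op σ = 0
      downward_closed := by
        intro V V' φ hφ ψ
        change Q.obj.map (ψ ≫ φ).op σ = 0
        rw [op_comp, Functor.map_comp, ConcreteCategory.comp_apply]
        have hφ' : Q.obj.map φ.op σ = 0 := hφ
        rw [hφ', map_zero] }
  have hS : S ∈ X.smallEtaleTopology U := by
    rw [EtLoc.mem_iff]
    intro u
    have hu : u ∉ EtShriek.sectSupp Q U σ := by rw [h1]; exact Set.notMem_empty u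
    simp only [EtShriek.sectSupp, Set.mem_ofPred_eq, not_forall, not_not] at hu
    obtain ⟨W, g, ⟨w, hw⟩, h0⟩ := hu
    exact ⟨W, g, w, h0, hw⟩
  refine Sheaf.isSeparated Q U S hS σ 0 ?_
  intro V φ hφ
  rw [map_zero]
  exact hφ

lemma isZero_of_supp {X : Scheme.{u}} (Q : EtCoh.Ab X) (h : EtPBC.supp Q = ∅) : IsZero Q := by
  rw [IsZero.iff_id_eq_zero]
  apply Sheaf.hom_ext
  ext U σ
  rw [sect_eq_zero_of_supp Q h U.unop σ]
  simp

lemma supp_of_iso {X : Scheme.{u}} {Q Q' : EtCoh.Ab X} (e : Q ≅ Q') :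
    EtPBC.supp Q = EtPBC.supp Q' := by
  ext x
  constructor
  · rintro ⟨Ω, i1, i2, ξ, hξ, hnz⟩
    exact ⟨Ω, i1, i2, ξ, hξ, fun hz => hnz (hz.of_iso ((EtCoh.stalk ξ).mapIso e))⟩
  · rintro ⟨Ω, i1, i2, ξ, hξ, hnz⟩
    exact ⟨Ω, i1, i2, ξ, hξ, fun hz => hnz (hz.of_iso ((EtCoh.stalk ξ).mapIso e.symm))⟩

/-- Noetherian induction: an increasing family of sets, each point of which has a neighbourhood in its
closure contained in some stage, is eventually everything. -/
lemma exists_stage_closed {Y : Type*} [TopologicalSpace Y] [NoetherianSpace Y] [QuasiSober Y]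
    (S : ℕ → Set Y) (hS : Monotone S)
    (H : ∀ y : Y, ∃ (N : ℕ) (V : Set Y), IsOpen V ∧ y ∈ V ∧ V ∩ closure {y} ⊆ S N)
    (Z : Closeds Y) : ∃ N, (Z : Set Y) ⊆ S N := by
  induction Z using WellFoundedLT.induction with
  | _ Z ih =>
  by_cases hne : (Z : Set Y).Nonempty
  swap
  · rw [Set.not_nonempty_iff_eq_empty.1 hne]
    exact ⟨0, Set.empty_subset _⟩
  by_cases hirr : IsPreirreducible (Z : Set Y)
  · have hZirr : IsIrreducible (Z : Set Y) := ⟨hne, hirr⟩
    have hgen := hZirr.isGenericPoint_genericPoint Z.isClosed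
    set y := hZirr.genericPoint with hy
    have hcl : closure {y} = (Z : Set Y) := hgen
    obtain ⟨N₁, V, hV, hyV, hsub⟩ := H y
    have hyZ : y ∈ (Z : Set Y) := by
      rw [← hcl]
      exact subset_closure rfl
    let Z' : Closeds Y := ⟨(Z : Set Y) ∩ Vᶜ, Z.isClosed.inter hV.isClosed_compl⟩
    have hlt : Z' < Z := by
      refine lt_of_le_of_ne (fun z hz => hz.1) fun h => ?_
      have : y ∈ (Z' : Set Y) := by rw [h]; exact hyZ
      exact this.2 hyV
    obtain ⟨N₂, h2⟩ := ih Z' hlt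
    refine ⟨max N₁ N₂, fun z hz => ?_⟩
    by_cases hzV : z ∈ V
    · exact hS (le_max_left _ _) (hsub ⟨hzV, by rw [hcl]; exact hz⟩)
    · exact hS (le_max_right _ _) (h2 ⟨hz, hzV⟩)
  · rw [isPreirreducible_iff_isClosed_union_isClosed] at hirr
    push Not at hirr
    obtain ⟨z₁, z₂, hz₁, hz₂, hsub, hn₁, hn₂⟩ := hirr
    let Z₁ : Closeds Y := ⟨(Z : Set Y) ∩ z₁, Z.isClosed.inter hz₁⟩
    let Z₂ : Closeds Y := ⟨(Z : Set Y) ∩ z₂, Z.isClosed.inter hz₂⟩
    have hlt₁ : Z₁ < Z := by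
      refine lt_of_le_of_ne (fun z hz => hz.1) fun h => hn₁ fun z hz => ?_
      have : z ∈ (Z₁ : Set Y) := by rw [h]; exact hz
      exact this.2
    have hlt₂ : Z₂ < Z := by
      refine lt_of_le_of_ne (fun z hz => hz.1) fun h => hn₂ fun z hz => ?_
      have : z ∈ (Z₂ : Set Y) := by rw [h]; exact hz
      exact this.2
    obtain ⟨N₁, h1⟩ := ih Z₁ hlt₁
    obtain ⟨N₂, h2⟩ := ih Z₂ hlt₂
    refine ⟨max N₁ N₂, fun z hz => ?_⟩
    rcases hsub hz with h | h
    · exact hS (le_max_left _ _) (h1 ⟨hz, h⟩)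
    · exact hS (le_max_right _ _) (h2 ⟨hz, h⟩)

/-- generic stabilisation of a chain of subsheaves of a finite locally constant sheaf on a locally
Noetherian scheme with a generic point. -/
theorem generic_chain_stable {T : Scheme.{u}} [IsLocallyNoetherian T]
    (t₀ : T) (ht₀ : ∀ u : Set T, IsOpen u → u.Nonempty → t₀ ∈ u)
    {E : EtCoh.Ab T} (H : ℕ → EtCoh.Ab T) (b : ∀ m, H m ⟶ E) [∀ m, Mono (b m)]
    (j : ∀ m m', m ≤ m' → (H m ⟶ H m')) (hj : ∀ m m' (h : m ≤ m'), j m m' h ≫ b m' = b m)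
    (hE : EtCoh.IsFiniteLocallyConstant E) :
    ∃ (N : ℕ) (T' : Set T), IsOpen T' ∧ t₀ ∈ T' ∧ ∀ (m m' : ℕ) (_ : N ≤ m) (h : m ≤ m'),
      Disjoint T' (EtPBC.supp (cokernel (j m m' h))) := by
  obtain ⟨ι, U, hU, hα⟩ := hE
  obtain ⟨i, y, hy⟩ := hU t₀
  obtain ⟨M₀, iM, fM, ⟨α⟩⟩ := hα i
  have hUi : Etale (U i).hom := (U i).prop
  have : IsLocallyNoetherian (U i).left :=
    LocallyOfFiniteType.isLocallyNoetherian (Y := T) (U i).hom
  have : Nonempty (U i).left := ⟨y⟩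
  obtain ⟨W, hWirr⟩ := Groth.Agent.S0140.exists_irreducible_open (U i).left
  let Wobj : T.Etale := Scheme.Etale.mk (W.ι ≫ (U i).hom)
  let jW : Wobj ⟶ U i := MorphismProperty.Over.homMk W.ι rfl trivial
  have : IrreducibleSpace Wobj.left := hWirr
  let αW := trivRes T.smallEtaleTopology α jW
  have hWne : ⊥ ∉ T.smallEtaleTopology Wobj := by
    rw [Groth.Agent.S0140.bot_not_mem_iff]
    exact (inferInstance : Nonempty ↥W)
  have : Finite (AddCommGrpCat.of (ULift.{u + 1} M₀)) :=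
    inferInstanceAs (Finite (ULift.{u + 1} M₀))
  obtain ⟨N, V₀, g₀, hV₀, hiso⟩ := exists_chain_stable H b j hj αW hWne
    (fun g g' hV hV' => Groth.Agent.S0140.hirr_of_irreducible Wobj g g' hV hV')
  rw [Groth.Agent.S0140.bot_not_mem_iff] at hV₀
  obtain ⟨v₀⟩ := hV₀
  have hV₀e : Etale V₀.hom := V₀.prop
  refine ⟨N, Set.range V₀.hom, V₀.hom.isOpenMap.isOpen_range,
    ht₀ _ V₀.hom.isOpenMap.isOpen_range ⟨_, v₀, rfl⟩, fun m m' hm h => ?_⟩
  have := hiso m m' hm h
  have hz : IsZero ((cokernel (j m m' h)).over V₀) :=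
    IsZero.of_iso (isZero_cokernel_of_epi _)
      (PreservesCokernel.iso (T.smallEtaleTopology.overPullback AddCommGrpCat.{u + 1} V₀)
        (j m m' h))
  rw [Set.disjoint_left]
  rintro t ⟨v, rfl⟩ ht
  rw [SHC.supp_eq_union] at ht
  obtain ⟨U', σ, u, hu, hut⟩ := Set.mem_iUnion₂.1 ht
  obtain ⟨p, hp1, hp2⟩ := Scheme.Pullback.exists_preimage_pullback
    (f := U'.hom) (g := V₀.hom) u v hut
  have hU' : Etale U'.hom := U'.prop
  let P : T.Etale := Scheme.Etale.mk (pullback.fst U'.hom V₀.hom ≫ U'.hom)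
  let φ₁ : P ⟶ U' := MorphismProperty.Over.homMk (pullback.fst _ _) rfl trivial
  let φ₂ : P ⟶ V₀ := MorphismProperty.Over.homMk (pullback.snd _ _) pullback.condition.symm trivial
  refine hu P φ₁ ⟨p, hp1⟩ ?_
  exact sect_eq_zero_of_isZero ((cokernel (j m m' h)).over V₀) hz (Over.mk φ₂) _

theorem main (X : Scheme.{u}) [IsNoetherian X]
    (F : EtCoh.Ab X) (hF : EtPBC.IsConstructible F) (c : ℕ →o Subobject F) :
    ∃ N, ∀ m, N ≤ m → c m = c N := by
  let jj : ∀ m m', m ≤ m' → ((c m : EtCoh.Ab X) ⟶ (c m' : EtCoh.Ab X)) :=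
    fun m m' h => Subobject.ofLE (c m) (c m') (c.monotone h)
  let S : ℕ → Set X := fun N =>
    {x | ∀ (m m' : ℕ) (_ : N ≤ m) (h : m ≤ m'), x ∉ EtPBC.supp (cokernel (jj m m' h))}
  have hS : Monotone S := fun N N' hNN' x hx m m' hm h => hx m m' (hNN'.trans hm) h
  have Hgen : ∀ x : X, ∃ (N : ℕ) (V : Set X), IsOpen V ∧ x ∈ V ∧ V ∩ closure {x} ⊆ S N := by
    intro x
    obtain ⟨V₁, T₁, g₁, hg₁, hxV₁, hr₁, hl₁⟩ := (Groth.Agent.S8527.result F).1 hF x
    have hr₁' : Set.range g₁ = (V₁ : Set X) ∩ closure {x} := hr₁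
    have : IsLocallyNoetherian T₁ := LocallyOfFiniteType.isLocallyNoetherian g₁
    obtain ⟨t₀, ht₀x⟩ : x ∈ Set.range g₁ := by
      rw [hr₁']
      exact ⟨hxV₁, subset_closure rfl⟩
    have hgen : ∀ u : Set T₁, IsOpen u → u.Nonempty → t₀ ∈ u := by
      rintro u hu ⟨t, ht⟩
      obtain ⟨u', hu', rfl⟩ := g₁.isEmbedding.isInducing.isOpen_iff.1 hu
      have h1 : g₁ t ∈ closure {x} := by
        have : g₁ t ∈ Set.range g₁ := ⟨t, rfl⟩
        rw [hr₁'] at this
        exact this.2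
      obtain ⟨z, hz, hzx⟩ := mem_closure_iff.1 h1 u' hu' ht
      rw [Set.mem_singleton_iff] at hzx
      show g₁ t₀ ∈ u'
      rw [ht₀x, ← hzx]
      exact hz
    have hpfl : PreservesFiniteLimits (EtCoh.pull g₁) := Groth.Agent.S0101.result g₁
    have hmono : ∀ m : ℕ, Mono ((EtCoh.pull g₁).map (c m).arrow) := fun m => inferInstance
    obtain ⟨N, T', hT', ht₀, hdis⟩ := generic_chain_stable t₀ hgen
      (fun m => (EtCoh.pull g₁).obj (c m : EtCoh.Ab X))
      (fun m => (EtCoh.pull g₁).map (c m).arrow)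
      (fun m m' h => (EtCoh.pull g₁).map (jj m m' h))
      (by
        intro m m' h
        rw [← Functor.map_comp, Subobject.ofLE_arrow]) hl₁
    obtain ⟨O, hO, hOT'⟩ := g₁.isEmbedding.isInducing.isOpen_iff.1 hT'
    refine ⟨N, O ∩ (V₁ : Set X), hO.inter V₁.isOpen, ⟨?_, hxV₁⟩, ?_⟩
    · have : t₀ ∈ g₁ ⁻¹' O := by
        rw [hOT']
        exact ht₀
      rw [← ht₀x]
      exact this
    · rintro z ⟨⟨hzO, hzV₁⟩, hzc⟩ m m' hm h hzs
      obtain ⟨t, rfl⟩ : z ∈ Set.range g₁ := by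
        rw [hr₁']
        exact ⟨hzV₁, hzc⟩
      have htT' : t ∈ T' := by
        rw [← hOT']
        exact hzO
      have h1 : t ∈ EtPBC.supp ((EtCoh.pull g₁).obj (cokernel (jj m m' h))) := by
        rw [SuppCons.supp_pull]
        exact hzs
      rw [supp_of_iso (PreservesCokernel.iso (EtCoh.pull g₁) (jj m m' h))] at h1
      exact Set.disjoint_left.1 (hdis m m' hm h) htT' h1
  obtain ⟨N, hN⟩ := exists_stage_closed S hS Hgen ⊤
  refine ⟨N, fun m hm => ?_⟩
  have hsupp : EtPBC.supp (cokernel (jj N m hm)) = ∅ := by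
    rw [Set.eq_empty_iff_forall_notMem]
    intro x hx
    exact hN (Set.mem_univ x) N m le_rfl hm hx
  have hz := isZero_of_supp _ hsupp
  have hepi : Epi (jj N m hm) := Preadditive.epi_of_isZero_cokernel _ hz
  have hiso : IsIso (jj N m hm) := isIso_of_mono_of_epi _
  refine le_antisymm ?_ (c.monotone hm)
  refine Subobject.le_of_comm (inv (jj N m hm)) ?_
  rw [IsIso.inv_comp_eq]
  exact (Subobject.ofLE_arrow _).symm

end helpers

/-- For X Noetherian and F a constructible abelian sheaf on X_et, every increasing sequence of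
subsheaves F_1 ⊆ F_2 ⊆ ... ⊆ F is eventually constant. -/
theorem result (X : Scheme.{u}) [IsNoetherian X]
    (F : EtCoh.Ab X) (hF : EtPBC.IsConstructible F) (c : ℕ →o Subobject F) :
    ∃ N, ∀ m, N ≤ m → c m = c N := by
  exact main X F hF c

end Groth.Agent.S0142
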