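import Groth.Statements.S0152
import Mathlib.Topology.Connected.Clopen
import Groth.Agent.Lib.Helper2.SpectralCt
-- import your own Groth.Agent.* helpers here

set_option autoImplicit false
universe u
open EtPBC

namespace Groth.Agent.S0152

section
open Topology Groth.Agent.Helper2.SpectralCt

/-- Separation of the two closed pieces by disjoint compact opens. -/
theorem separation (X : Type u) [TopologicalSpace X] [SpectralSpace X]
    (Z₁ Z₂ : Set X) (h₁ : IsClosed Z₁) (h₂ : IsClosed Z₂)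
    (hnot : ∀ x : X, ¬ ((closure {x} ∩ Z₁).Nonempty ∧ (closure {x} ∩ Z₂).Nonempty)) :
    ∃ U V : Set X, IsOpen U ∧ IsCompact U ∧ Z₁ ⊆ U ∧ IsOpen V ∧ IsCompact V ∧ Z₂ ⊆ V ∧
      U ∩ V = ∅ := by
  by_contra hcon
  push Not at hcon
  let ι := {p : Set X × Set X // IsOpen p.1 ∧ IsCompact p.1 ∧ Z₁ ⊆ p.1 ∧
    IsOpen p.2 ∧ IsCompact p.2 ∧ Z₂ ⊆ p.2}
  haveI : Nonempty ι := ⟨⟨(Set.univ, Set.univ), isOpen_univ, isCompact_univ, Set.subset_univ _,
    isOpen_univ, isCompact_univ, Set.subset_univ _⟩⟩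
  let t : ι → Set X := fun p => p.1.1 ∩ p.1.2
  have h := nonempty_iInter_of_directed_ct t ?_ ?_ ?_
  · obtain ⟨x, hx⟩ := h
    rw [Set.mem_iInter] at hx
    apply hnot x
    constructor
    · by_contra hne
      rw [Set.not_nonempty_iff_eq_empty] at hne
      have hsub : Z₁ ⊆ (closure {x})ᶜ := by
        intro z hz hzc
        have : z ∈ closure {x} ∩ Z₁ := ⟨hzc, hz⟩
        rw [hne] at this
        exact this
      obtain ⟨W, hWc, hWo, hZW, hWsub⟩ :=
        PrespectralSpace.exists_isCompact_and_isOpen_between h₁.isCompact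
          isClosed_closure.isOpen_compl hsub
      have := (hx ⟨(W, Set.univ), hWo, hWc, hZW, isOpen_univ, isCompact_univ,
        Set.subset_univ _⟩).1
      exact hWsub this (subset_closure (Set.mem_singleton x))
    · by_contra hne
      rw [Set.not_nonempty_iff_eq_empty] at hne
      have hsub : Z₂ ⊆ (closure {x})ᶜ := by
        intro z hz hzc
        have : z ∈ closure {x} ∩ Z₂ := ⟨hzc, hz⟩
        rw [hne] at this
        exact this
      obtain ⟨W, hWc, hWo, hZW, hWsub⟩ :=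
        PrespectralSpace.exists_isCompact_and_isOpen_between h₂.isCompact
          isClosed_closure.isOpen_compl hsub
      have := (hx ⟨(Set.univ, W), isOpen_univ, isCompact_univ, Set.subset_univ _,
        hWo, hWc, hZW⟩).2
      exact hWsub this (subset_closure (Set.mem_singleton x))
  · intro p q
    refine ⟨⟨(p.1.1 ∩ q.1.1, p.1.2 ∩ q.1.2), p.2.1.inter q.2.1,
      QuasiSeparatedSpace.inter_isCompact _ _ p.2.1 p.2.2.1 q.2.1 q.2.2.1,
      Set.subset_inter p.2.2.2.1 q.2.2.2.1,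
      p.2.2.2.2.1.inter q.2.2.2.2.1,
      QuasiSeparatedSpace.inter_isCompact _ _ p.2.2.2.2.1 p.2.2.2.2.2.1 q.2.2.2.2.1 q.2.2.2.2.2.1,
      Set.subset_inter p.2.2.2.2.2.2 q.2.2.2.2.2.2⟩, ?_, ?_⟩
    · exact Set.inter_subset_inter Set.inter_subset_left Set.inter_subset_left
    · exact Set.inter_subset_inter Set.inter_subset_right Set.inter_subset_right
  · intro p
    exact hcon p.1.1 p.1.2 p.2.1 p.2.2.1 p.2.2.2.1 p.2.2.2.2.1 p.2.2.2.2.2.1 p.2.2.2.2.2.2
  · intro p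
    exact @IsClosed.inter X _ _ (constructibleTopology X)
      (isClosed_ct_of_isCompact_isOpen p.2.1 p.2.2.1)
      (isClosed_ct_of_isCompact_isOpen p.2.2.2.2.1 p.2.2.2.2.2.1)

theorem main (X : Type u) [TopologicalSpace X] [SpectralSpace X]
    (Z : Set X) (hZ : IsClosed Z)
    (hconn : ∀ x : X, IsConnected (Z ∩ closure {x}))
    (Z₁ Z₂ : Set X) (h₁ : IsClosed Z₁) (h₂ : IsClosed Z₂) (hdisj : Disjoint Z₁ Z₂)
    (hunion : Z₁ ∪ Z₂ = Z) :
    ∃ X₁ X₂ : Set X, IsClosed X₁ ∧ IsClosed X₂ ∧ Disjoint X₁ X₂ ∧ X₁ ∪ X₂ = Set.univ ∧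
      Z₁ = Z ∩ X₁ ∧ Z₂ = Z ∩ X₂ := by
  have hZ₁Z : Z₁ ⊆ Z := hunion ▸ Set.subset_union_left
  have hZ₂Z : Z₂ ⊆ Z := hunion ▸ Set.subset_union_right
  have hdisj' : ∀ z, z ∈ Z₁ → z ∈ Z₂ → False := fun z hz1 hz2 =>
    Set.disjoint_left.mp hdisj hz1 hz2
  have hnot : ∀ x : X, ¬ ((closure {x} ∩ Z₁).Nonempty ∧ (closure {x} ∩ Z₂).Nonempty) := by
    rintro x ⟨⟨y₁, hy₁c, hy₁⟩, ⟨y₂, hy₂c, hy₂⟩⟩
    have hp := (hconn x).isPreconnected
    have hsub : Z ∩ closure {x} ⊆ Z₁ ∪ Z₂ := by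
      rw [hunion]
      exact Set.inter_subset_left
    have hemp : Z ∩ closure {x} ∩ (Z₁ ∩ Z₂) = ∅ := by
      rw [Set.eq_empty_iff_forall_notMem]
      rintro z ⟨-, hz1, hz2⟩
      exact hdisj' z hz1 hz2
    rcases isPreconnected_iff_subset_of_disjoint_closed.mp hp Z₁ Z₂ h₁ h₂ hsub hemp with h | h
    · exact hdisj' y₂ (h ⟨hZ₂Z hy₂, hy₂c⟩) hy₂
    · exact hdisj' y₁ hy₁ (h ⟨hZ₁Z hy₁, hy₁c⟩)
  obtain ⟨U, V, hUo, -, hZU, hVo, -, hZV, hUV⟩ := separation X Z₁ Z₂ h₁ h₂ hnot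
  have hcover : U ∪ V = Set.univ := by
    rw [Set.eq_univ_iff_forall]
    intro x
    obtain ⟨y, hyZ, hyc⟩ := (hconn x).nonempty
    have hxy : x ⤳ y := specializes_iff_mem_closure.mpr hyc
    rw [← hunion] at hyZ
    rcases hyZ with hy | hy
    · exact Or.inl (hxy.mem_open hUo (hZU hy))
    · exact Or.inr (hxy.mem_open hVo (hZV hy))
  have hUc : U = Vᶜ := by
    ext x
    constructor
    · intro hxU hxV
      have : x ∈ U ∩ V := ⟨hxU, hxV⟩
      rw [hUV] at this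
      exact this
    · intro hxV
      have : x ∈ U ∪ V := hcover ▸ Set.mem_univ x
      exact this.resolve_right hxV
  have hVc : V = Uᶜ := by rw [hUc, compl_compl]
  refine ⟨U, V, ?_, ?_, ?_, hcover, ?_, ?_⟩
  · rw [hUc]
    exact hVo.isClosed_compl
  · rw [hVc]
    exact hUo.isClosed_compl
  · rw [Set.disjoint_iff_inter_eq_empty]
    exact hUV
  · ext z
    constructor
    · intro hz
      exact ⟨hZ₁Z hz, hZU hz⟩
    · rintro ⟨hzZ, hzU⟩
      rw [← hunion] at hzZ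
      rcases hzZ with h | h
      · exact h
      · exfalso
        have : z ∈ U ∩ V := ⟨hzU, hZV h⟩
        rw [hUV] at this
        exact this
  · ext z
    constructor
    · intro hz
      exact ⟨hZ₂Z hz, hZV hz⟩
    · rintro ⟨hzZ, hzV⟩
      rw [← hunion] at hzZ
      rcases hzZ with h | h
      · exfalso
        have : z ∈ U ∩ V := ⟨hZU h, hzV⟩
        rw [hUV] at this
        exact this
      · exact h

end

/-- Let X be a spectral space and Z a closed subset such that Z meets the closure of every point of X in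
a connected (nonempty) set. If Z is the disjoint union of two closed subsets Z_1, Z_2 then X is the
disjoint union of closed subsets X_1, X_2 with Z_i = Z ∩ X_i. -/
theorem result (X : Type u) [TopologicalSpace X] [SpectralSpace X]
    (Z : Set X) (hZ : IsClosed Z)
    (hconn : ∀ x : X, IsConnected (Z ∩ closure {x}))
    (Z₁ Z₂ : Set X) (h₁ : IsClosed Z₁) (h₂ : IsClosed Z₂) (hdisj : Disjoint Z₁ Z₂) (hunion : Z₁ ∪ Z₂ = Z) :
    ∃ X₁ X₂ : Set X, IsClosed X₁ ∧ IsClosed X₂ ∧ Disjoint X₁ X₂ ∧ X₁ ∪ X₂ = Set.univ ∧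
      Z₁ = Z ∩ X₁ ∧ Z₂ = Z ∩ X₂ := by
  exact Groth.Agent.S0152.main X Z hZ hconn Z₁ Z₂ h₁ h₂ hdisj hunion

end Groth.Agent.S0152
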