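import Groth.Statements.S0161
import Groth.Agent.Lib.Helper1.FP13

set_option autoImplicit false
universe u
open CategoryTheory CategoryTheory.Limits AlgebraicGeometry Opposite
open EtPBC

namespace Groth.Agent.S0161

/-- For a finite morphism f : X -> Y, cohomology commutes with base change: for every cartesian square
and torsion abelian F on X_et and every q, g^* R^q f_* F ≅ R^q f'_* g'^* F (abstract-isomorphism
form). -/
theorem result {X Y : Scheme.{u}} (f : X ⟶ Y) [IsFinite f] [EtCoh.BCCont f] :
    EtPBC.CohCommutesWithBC f := by
  exact Groth.Agent.Helper1.FP.cohCommutesWithBC_finite f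

end Groth.Agent.S0161
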