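import Groth.Statements.S0179
import Mathlib.Order.Disjointed
import Mathlib.Topology.Sober
import Groth.Agent.Lib.Helper2.SpectralQC
-- import your own Groth.Agent.* helpers here

set_option autoImplicit false
universe u
open EtPBC

namespace Groth.Agent.S0179

section
open Topology Set Groth.Agent.Helper2.SpectralQC

theorem forward (X : Type u) [TopologicalSpace X] [SpectralSpace X]
    (h : ∀ (ι : Type u) (U : ι → Set X), (∀ i, IsOpen (U i)) → (⋃ i, U i) = Set.univ →
      ∃ (n : ℕ) (V : Fin n → Set X), (∀ k, IsClopen (V k)) ∧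
        Pairwise (fun k l => Disjoint (V k) (V l)) ∧ (⋃ k, V k) = Set.univ ∧ ∀ k, ∃ i, V k ⊆ U i) :
    Function.Bijective
      (fun x : {x : X // IsClosed ({x} : Set X)} => _root_.ConnectedComponents.mk x.1) := by
  constructor
  · rintro ⟨z₁, hz₁⟩ ⟨z₂, hz₂⟩ heq
    by_contra hne
    have hne' : z₁ ≠ z₂ := fun h' => hne (Subtype.ext h')
    let U : ULift.{u} Bool → Set X := fun i => if i.down then ({z₁}ᶜ : Set X) else ({z₂}ᶜ : Set X)
    have hUo : ∀ i, IsOpen (U i) := by
      rintro ⟨b⟩
      cases b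
      · exact hz₂.isOpen_compl
      · exact hz₁.isOpen_compl
    have hUc : (⋃ i, U i) = Set.univ := by
      rw [Set.eq_univ_iff_forall]
      intro x
      by_cases hx : x = z₁
      · refine Set.mem_iUnion.mpr ⟨⟨false⟩, ?_⟩
        show x ∈ ({z₂}ᶜ : Set X)
        rw [hx]
        exact hne'
      · exact Set.mem_iUnion.mpr ⟨⟨true⟩, hx⟩
    obtain ⟨n, V, hVc, -, hVu, hVU⟩ := h _ U hUo hUc
    have : z₁ ∈ ⋃ k, V k := hVu ▸ Set.mem_univ z₁
    obtain ⟨k, hk⟩ := Set.mem_iUnion.mp this
    have hz₂k : z₂ ∉ V k := by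
      intro hz₂k
      obtain ⟨⟨b⟩, hb⟩ := hVU k
      cases b
      · exact hb hz₂k rfl
      · exact hb hk rfl
    have hmem : z₂ ∈ connectedComponent z₁ := by
      have : (ConnectedComponents.mk z₂ : ConnectedComponents X) = ConnectedComponents.mk z₁ :=
        heq.symm
      exact ConnectedComponents.coe_eq_coe'.mp this
    exact hz₂k ((hVc k).connectedComponent_subset hk hmem)
  · intro c
    obtain ⟨x, rfl⟩ := ConnectedComponents.surjective_coe c
    obtain ⟨z, hzx, hzc⟩ :=
      IsClosed.exists_closed_singleton (isClosed_closure (s := ({x} : Set X)))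
        ⟨x, subset_closure rfl⟩
    refine ⟨⟨z, hzc⟩, ?_⟩
    apply ConnectedComponents.coe_eq_coe'.mpr
    have h1 : closure ({x} : Set X) ⊆ connectedComponent x :=
      closure_minimal (Set.singleton_subset_iff.mpr mem_connectedComponent)
        isClosed_connectedComponent
    exact h1 hzx

theorem backward (X : Type u) [TopologicalSpace X] [SpectralSpace X]
    (hbij : Function.Bijective
      (fun x : {x : X // IsClosed ({x} : Set X)} => _root_.ConnectedComponents.mk x.1))
    (ι : Type u) (U : ι → Set X) (hUo : ∀ i, IsOpen (U i)) (hUc : (⋃ i, U i) = Set.univ) :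
    ∃ (n : ℕ) (V : Fin n → Set X), (∀ k, IsClopen (V k)) ∧
        Pairwise (fun k l => Disjoint (V k) (V l)) ∧ (⋃ k, V k) = Set.univ ∧
        ∀ k, ∃ i, V k ⊆ U i := by
  classical
  -- each point has a clopen neighbourhood inside some `U i`
  have key : ∀ x : X, ∃ C : Set X, IsClopen C ∧ x ∈ C ∧ ∃ i, C ⊆ U i := by
    intro x
    obtain ⟨⟨z, hzc⟩, hz⟩ := hbij.2 (ConnectedComponents.mk x)
    have hz' : (ConnectedComponents.mk z : ConnectedComponents X) = ConnectedComponents.mk x := hz
    have hzi : z ∈ ⋃ i, U i := hUc ▸ Set.mem_univ z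
    obtain ⟨i, hi⟩ := Set.mem_iUnion.mp hzi
    have hsub : connectedComponent x ⊆ U i := by
      intro t ht
      -- a closed point in the closure of t
      obtain ⟨w, hwt, hwc⟩ :=
        IsClosed.exists_closed_singleton (isClosed_closure (s := ({t} : Set X)))
          ⟨t, subset_closure rfl⟩
      have h1 : closure ({t} : Set X) ⊆ connectedComponent x :=
        closure_minimal (Set.singleton_subset_iff.mpr ht) isClosed_connectedComponent
      have hw : (ConnectedComponents.mk w : ConnectedComponents X) = ConnectedComponents.mk x :=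
        ConnectedComponents.coe_eq_coe'.mpr (h1 hwt)
      have hwz : (⟨w, hwc⟩ : {x : X // IsClosed ({x} : Set X)}) = ⟨z, hzc⟩ :=
        hbij.1 (hw.trans hz'.symm)
      have hwz' : w = z := congrArg Subtype.val hwz
      have htw : t ⤳ w := specializes_iff_mem_closure.mpr hwt
      rw [hwz'] at htw
      exact htw.mem_open (hUo i) hi
    obtain ⟨C, hC, hxC, hCU⟩ := exists_isClopen_between (hUo i) hsub
    exact ⟨C, hC, hxC, i, hCU⟩
  choose C hC hxC hCU using key
  obtain ⟨t, ht⟩ := CompactSpace.elim_nhds_subcover C (fun x => (hC x).2.mem_nhds (hxC x))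
  let n := t.card
  let e : Fin n ≃ t := t.equivFin.symm
  let C' : Fin n → Set X := fun k => C (e k).1
  refine ⟨n, disjointed C', ?_, ?_, ?_, ?_⟩
  · intro k
    rw [disjointed_apply]
    refine IsClopen.diff (hC _) ?_
    rw [Finset.sup_set_eq_biUnion]
    exact isClopen_biUnion_finset fun j _ => hC _
  · exact disjoint_disjointed C'
  · rw [iUnion_disjointed]
    rw [Set.eq_univ_iff_forall]
    intro x
    have hx : x ∈ ⋃ y ∈ t, C y := by
      rw [ht]
      exact Set.mem_univ x
    obtain ⟨y, hy⟩ := Set.mem_iUnion.mp hx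
    obtain ⟨hyt, hxy⟩ := Set.mem_iUnion.mp hy
    refine Set.mem_iUnion.mpr ⟨e.symm ⟨y, hyt⟩, ?_⟩
    show x ∈ C (e (e.symm ⟨y, hyt⟩)).1
    rw [Equiv.apply_symm_apply]
    exact hxy
  · intro k
    obtain ⟨i, hi⟩ := hCU (e k).1
    exact ⟨i, (disjointed_le C' k).trans hi⟩

theorem main (X : Type u) [TopologicalSpace X] [SpectralSpace X] :
    (∀ (ι : Type u) (U : ι → Set X), (∀ i, IsOpen (U i)) → (⋃ i, U i) = Set.univ →
      ∃ (n : ℕ) (V : Fin n → Set X), (∀ k, IsClopen (V k)) ∧
        Pairwise (fun k l => Disjoint (V k) (V l)) ∧ (⋃ k, V k) = Set.univ ∧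
        ∀ k, ∃ i, V k ⊆ U i) ↔
    Function.Bijective
      (fun x : {x : X // IsClosed ({x} : Set X)} => _root_.ConnectedComponents.mk x.1) :=
  ⟨forward X, fun hbij ι U hUo hUc => backward X hbij ι U hUo hUc⟩

end

/-- For a spectral space X with set of closed points X_0, the following are equivalent: (1) any open
cover of X admits a refinement by finitely many pairwise disjoint open-and-closed pieces; (2) the
map from X_0 to the space of connected components pi_0(X) is a bijection. -/
theorem result (X : Type u) [TopologicalSpace X] [SpectralSpace X] :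
    (∀ (ι : Type u) (U : ι → Set X), (∀ i, IsOpen (U i)) → (⋃ i, U i) = Set.univ →
      ∃ (n : ℕ) (V : Fin n → Set X), (∀ k, IsClopen (V k)) ∧
        Pairwise (fun k l => Disjoint (V k) (V l)) ∧ (⋃ k, V k) = Set.univ ∧ ∀ k, ∃ i, V k ⊆ U i) ↔
    Function.Bijective (fun x : {x : X // IsClosed ({x} : Set X)} => _root_.ConnectedComponents.mk x.1) := by
  exact Groth.Agent.S0179.main X

end Groth.Agent.S0179
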