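import Groth.Statements.S0180
import Groth.Agent.Lib.Helper2.SpectralCt
import Groth.Agent.S0152
-- import your own Groth.Agent.* helpers here

set_option autoImplicit false
universe u
open EtPBC

namespace Groth.Agent.S0180

section
open Topology Groth.Agent.Helper2.SpectralCt

/-- a clopen set separating two distinct closed points -/
theorem exists_clopen (X : Type u) [TopologicalSpace X]
    [SpectralSpace X] (h0 : IsClosed {x : X | IsClosed ({x} : Set X)})
    (huniq : ∀ x : X, ∃! z : X, IsClosed ({z} : Set X) ∧ x ⤳ z)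
    (z₁ z₂ : X) (hz₁ : IsClosed ({z₁} : Set X)) (hz₂ : IsClosed ({z₂} : Set X)) (hne : z₁ ≠ z₂) :
    ∃ C : Set X, IsClopen C ∧ z₁ ∈ C ∧ z₂ ∉ C := by
  set X₀ : Set X := {x : X | IsClosed ({x} : Set X)} with hX₀
  -- a compact open containing z₂ but not z₁
  have hopen : IsOpen ({z₁}ᶜ : Set X) := hz₁.isOpen_compl
  have hz₂mem : z₂ ∈ ({z₁}ᶜ : Set X) := fun h => hne (Set.mem_singleton_iff.mp h).symm
  obtain ⟨W, ⟨hWo, hWc⟩, hz₂W, hWsub⟩ :=
    (PrespectralSpace.isTopologicalBasis (X := X)).exists_subset_of_mem_open hz₂mem hopen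
  have hz₁W : z₁ ∉ W := fun h => hWsub h rfl
  let Z₂ : Set X := X₀ ∩ W
  let Z₁ : Set X := X₀ ∩ Wᶜ
  have hZ₁ : IsClosed Z₁ := h0.inter hWo.isClosed_compl
  have hZ₂ : IsClosed Z₂ := by
    rw [← closure_subset_iff_isClosed]
    intro z hz
    have hct : IsClosed[constructibleTopology X] Z₂ :=
      @IsClosed.inter X _ _ (constructibleTopology X) (isClosed_ct_of_isClosed h0)
        (isClosed_ct_of_isCompact_isOpen hWo hWc)
    obtain ⟨w, hwZ, hwz⟩ := exists_specializes_of_mem_closure hct hz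
    have hwcl : IsClosed ({w} : Set X) := hwZ.1
    have : z ∈ closure ({w} : Set X) := specializes_iff_mem_closure.mp hwz
    rw [hwcl.closure_eq] at this
    rw [Set.mem_singleton_iff.mp this]
    exact hwZ
  have hdisj : Disjoint Z₁ Z₂ := by
    rw [Set.disjoint_left]
    rintro z ⟨-, hzW⟩ ⟨-, hzW'⟩
    exact hzW hzW'
  have hunion : Z₁ ∪ Z₂ = X₀ := by
    ext z
    constructor
    · rintro (h | h)
      · exact h.1
      · exact h.1
    · intro hz
      by_cases hzW : z ∈ W
      · exact Or.inr ⟨hz, hzW⟩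
      · exact Or.inl ⟨hz, hzW⟩
  have hconn : ∀ x : X, IsConnected (X₀ ∩ closure {x}) := by
    intro x
    obtain ⟨z, ⟨hzc, hxz⟩, hzu⟩ := huniq x
    have : X₀ ∩ closure {x} = {z} := by
      ext y
      constructor
      · rintro ⟨hy0, hyc⟩
        exact hzu y ⟨hy0, specializes_iff_mem_closure.mpr hyc⟩
      · intro hy
        rw [Set.mem_singleton_iff.mp hy]
        exact ⟨hzc, specializes_iff_mem_closure.mp hxz⟩
    rw [this]
    exact isConnected_singleton
  obtain ⟨X₁, X₂, hX₁, hX₂, hd, hcov, hZX₁, hZX₂⟩ :=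
    Groth.Agent.S0152.main X X₀ h0 hconn Z₁ Z₂ hZ₁ hZ₂ hdisj hunion
  have hX₁c : X₁ = X₂ᶜ := by
    ext x
    constructor
    · intro h1 h2
      exact Set.disjoint_left.mp hd h1 h2
    · intro h2
      have : x ∈ X₁ ∪ X₂ := hcov ▸ Set.mem_univ x
      exact this.resolve_right h2
  refine ⟨X₁, ⟨hX₁, hX₁c ▸ hX₂.isOpen_compl⟩, ?_, ?_⟩
  · have : z₁ ∈ Z₁ := ⟨hz₁, hz₁W⟩
    rw [hZX₁] at this
    exact this.2
  · intro h
    have h2 : z₂ ∈ Z₂ := ⟨hz₂, hz₂W⟩
    rw [hZX₂] at h2
    exact Set.disjoint_left.mp hd h h2.2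

theorem main (X : Type u) [TopologicalSpace X]
    [SpectralSpace X] (h0 : IsClosed {x : X | IsClosed ({x} : Set X)})
    (huniq : ∀ x : X, ∃! z : X, IsClosed ({z} : Set X) ∧ x ⤳ z) :
    Function.Bijective
      (fun x : {x : X // IsClosed ({x} : Set X)} => _root_.ConnectedComponents.mk x.1) := by
  constructor
  · rintro ⟨z₁, hz₁⟩ ⟨z₂, hz₂⟩ h
    by_contra hne
    have hne' : z₁ ≠ z₂ := fun h' => hne (Subtype.ext h')
    obtain ⟨C, hC, h1, h2⟩ := exists_clopen X h0 huniq z₁ z₂ hz₁ hz₂ hne'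
    have hmem : z₂ ∈ connectedComponent z₁ := by
      have : (ConnectedComponents.mk z₂ : ConnectedComponents X) = ConnectedComponents.mk z₁ :=
        h.symm
      exact ConnectedComponents.coe_eq_coe'.mp this
    exact h2 (hC.connectedComponent_subset h1 hmem)
  · intro c
    obtain ⟨x, rfl⟩ := ConnectedComponents.surjective_coe c
    obtain ⟨z, ⟨hzc, hxz⟩, -⟩ := huniq x
    refine ⟨⟨z, hzc⟩, ?_⟩
    apply ConnectedComponents.coe_eq_coe'.mpr
    have h1 : closure ({x} : Set X) ⊆ connectedComponent x :=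
      closure_minimal (Set.singleton_subset_iff.mpr mem_connectedComponent)
        isClosed_connectedComponent
    exact h1 (specializes_iff_mem_closure.mp hxz)

end

/-- Final assertion: if X is spectral, the set X_0 of closed points is closed, and every point of X
specializes to exactly one closed point, then X_0 -> pi_0(X) is bijective (so X satisfies the
equivalent conditions of the lemma; such X are called w-local). -/
theorem result (X : Type u) [TopologicalSpace X]
    [SpectralSpace X] (h0 : IsClosed {x : X | IsClosed ({x} : Set X)})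
    (huniq : ∀ x : X, ∃! z : X, IsClosed ({z} : Set X) ∧ x ⤳ z) :
    Function.Bijective (fun x : {x : X // IsClosed ({x} : Set X)} => _root_.ConnectedComponents.mk x.1) := by
  exact Groth.Agent.S0180.main X h0 huniq

end Groth.Agent.S0180
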