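import Groth.Statements.S0182
import Groth.Agent.Lib.Helper10.SuppCons
import Groth.Agent.Lib.Helper1.SHC6
import Groth.Agent.S0131

set_option autoImplicit false
universe u
open CategoryTheory CategoryTheory.Limits AlgebraicGeometry Opposite
open EtPBC

namespace Groth.Agent.S0182

section helpers

open Groth.Agent.Helper1

lemma surj_iff {X : Scheme.{u}} {F G : EtCoh.Ab X} (φ : F ⟶ G) {Ω : Type u} [Field Ω]
    [IsSepClosed Ω] (ξ : Spec (CommRingCat.of Ω) ⟶ X) :
    Function.Surjective ((EtCoh.stalk ξ).map φ) ↔
      IsZero ((EtCoh.stalk ξ).obj (cokernel φ)) := by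
  have := SHC.preservesHomology_stalk ξ
  have : PreservesColimit (parallelPair φ 0) (EtCoh.stalk ξ) :=
    Functor.PreservesHomology.preservesCokernels φ
  let e := PreservesCokernel.iso (EtCoh.stalk ξ) φ
  rw [← AddCommGrpCat.epi_iff_surjective, Preadditive.epi_iff_isZero_cokernel]
  exact ⟨fun h => h.of_iso e, fun h => h.of_iso e.symm⟩

theorem main (X : Scheme.{u}) [CompactSpace X] [QuasiSeparatedSpace X]
    {F G : EtCoh.Ab X} (φ : F ⟶ G) (hF : EtPBC.IsConstructible F) (hG : EtPBC.IsConstructible G) :
    Topology.IsConstructible {x : X | ∀ (Ω : Type u) [Field Ω] [IsSepClosed Ω]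
      (ξ : Spec (CommRingCat.of Ω) ⟶ X), Set.range ξ = {x} →
        Function.Surjective ((EtCoh.stalk ξ).map φ)} := by
  have hC : EtPBC.IsConstructible (cokernel φ) := (Groth.Agent.S0131.main φ hF hG).2
  have h1 : Topology.IsConstructible (EtPBC.supp (cokernel φ)) :=
    (Groth.Agent.Helper10.SuppCons.isLocallyConstructible_supp _ hC).isConstructible
  have h2 : {x : X | ∀ (Ω : Type u) [Field Ω] [IsSepClosed Ω]
      (ξ : Spec (CommRingCat.of Ω) ⟶ X), Set.range ξ = {x} →
        Function.Surjective ((EtCoh.stalk ξ).map φ)} = (EtPBC.supp (cokernel φ))ᶜ := by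
    ext x
    constructor
    · intro hx ⟨Ω, i1, i2, ξ, hξ, hnz⟩
      exact hnz ((surj_iff φ ξ).1 (hx Ω ξ hξ))
    · intro hx Ω _ _ ξ hξ
      rw [surj_iff φ ξ]
      by_contra hnz
      exact hx ⟨Ω, inferInstance, inferInstance, ξ, hξ, hnz⟩
  rw [h2]
  exact h1.compl

end helpers

/-- (1), surjectivity case, for abelian sheaves: X quasi-compact and quasi-separated, F -> G a map of
constructible abelian sheaves on X_et; the set of points x of X such that F -> G is surjective on
stalks at (every) geometric point over x is constructible. The source states this for constructible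
sheaves of sets; an abelian constructible sheaf is one, with the same stalks. -/
theorem result (X : Scheme.{u}) [CompactSpace X] [QuasiSeparatedSpace X]
    {F G : EtCoh.Ab X} (φ : F ⟶ G) (hF : EtPBC.IsConstructible F) (hG : EtPBC.IsConstructible G) :
    Topology.IsConstructible {x : X | ∀ (Ω : Type u) [Field Ω] [IsSepClosed Ω]
      (ξ : Spec (CommRingCat.of Ω) ⟶ X), Set.range ξ = {x} →
        Function.Surjective ((EtCoh.stalk ξ).map φ)} := by
  exact main X φ hF hG

end Groth.Agent.S0182
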