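import Groth.Statements.S0183
import Mathlib
import Groth.Agent.Lib.Helper2.IdLoc1
import Groth.Agent.Lib.Helper2.WLoc1
import Groth.Agent.Lib.Helper2.IndZar3
-- import your own Groth.Agent.* helpers here

set_option autoImplicit false
universe u
open CategoryTheory CategoryTheory.Limits AlgebraicGeometry Opposite
open EtPBC

namespace Groth.Agent.S0183

section
open CategoryTheory CategoryTheory.Limits AlgebraicGeometry Opposite Topology
open Groth.Agent.Helper2

theorem tower (A B : Type u) [CommRing A] [CommRing B] [Algebra A B] :
    IsScalarTower A B (WLoc.Aw B) := by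
  exact IsScalarTower.of_algebraMap_eq (R := A) (S := B) (A := WLoc.Aw B) (fun a => rfl)

theorem main (A B : Type u) [CommRing A] [CommRing B] [Algebra A B]
    (h : EtPBC.IdentifiesLocalRings A B) :
    ∃ (B' : Type u) (_ : CommRing B') (_ : Algebra B B') (_ : Algebra A B') (_ : IsScalarTower A B B'),
      Module.FaithfullyFlat B B' ∧ EtPBC.IsIndZariski B B' ∧ EtPBC.IsIndZariski A B' := by
  haveI := tower A B
  refine ⟨WLoc.Aw B, inferInstance, inferInstance, inferInstance, tower A B,
    WLoc.faithfullyFlat B, WLoc.isIndZariski B, ?_⟩
  exact IndZar.isIndZariski_of_identifies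
    (IdLoc.identifies_comp A B (WLoc.Aw B) h (IdLoc.identifies_localization (WLoc.Sw B)))
    (WLoc.isWLocal B)

end

/-- Suppose A -> B identifies local rings (A_p -> B_q bijective for every prime q of B over p). Then B
can be enlarged along a faithfully flat ind-Zariski extension B' so that B' is already ind-Zariski
over A; ind-Zariski means: a filtered colimit of local isomorphisms in the sense of Mathlib's
Algebra.IsLocalIso (Zariski-locally on the source a standard open immersion). -/
theorem result (A B : Type u) [CommRing A] [CommRing B] [Algebra A B]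
    (h : EtPBC.IdentifiesLocalRings A B) :
    ∃ (B' : Type u) (_ : CommRing B') (_ : Algebra B B') (_ : Algebra A B') (_ : IsScalarTower A B B'),
      Module.FaithfullyFlat B B' ∧ EtPBC.IsIndZariski B B' ∧ EtPBC.IsIndZariski A B' := by
  exact Groth.Agent.S0183.main A B h

end Groth.Agent.S0183
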