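import Groth.Statements.S0197
import Mathlib.LinearAlgebra.Matrix.Action
import Mathlib.LinearAlgebra.Dimension.Free
import Mathlib.LinearAlgebra.Dimension.Constructions
import Mathlib.RingTheory.TensorProduct.Free

set_option autoImplicit false
universe u v w
open scoped TensorProduct
open Curves

namespace Groth.Agent.S0197

/-- If a finite central skew field D has dimension d^2, the degree of any finite splitting field of D is
divisible by d. -/
theorem result (k : Type u) [Field k]
    (D : Type u) [DivisionRing D] [Algebra k D] [Algebra.IsCentral k D] [FiniteDimensional k D]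
    (d : ℕ) (hd : Module.finrank k D = d ^ 2)
    (k' : Type u) [Field k'] [Algebra k k'] [FiniteDimensional k k'] (hs : Curves.Splits k D k') :
    d ∣ Module.finrank k k' := by
  obtain ⟨n, hn, ⟨e⟩⟩ := hs
  have hnd : n = d := by
    have h1 : Module.finrank k' (k' ⊗[k] D) = Module.finrank k D := Module.finrank_baseChange
    rw [e.toLinearEquiv.finrank_eq, Module.finrank_matrix, hd] at h1
    simp only [Fintype.card_fin, Module.finrank_self, mul_one] at h1
    have h2 : n ^ 2 = d ^ 2 := by rw [← h1, sq]
    exact Nat.pow_left_injective (n := 2) (by norm_num) h2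
  let ρ : D →ₐ[k] Matrix (Fin n) (Fin n) k' :=
    (e.toAlgHom.restrictScalars k).comp Algebra.TensorProduct.includeRight
  let : Module D (Fin n → k') := Module.compHom _ ρ.toRingHom
  have hsmul : ∀ (x : D) (v : Fin n → k'), x • v = ρ x • v := fun _ _ ↦ rfl
  have : IsScalarTower k D (Fin n → k') :=
    ⟨fun c x v ↦ by rw [hsmul, hsmul, map_smul, smul_assoc]⟩
  have h2 := Module.finrank_mul_finrank k D (Fin n → k')
  have h3 : Module.finrank k (Fin n → k') = n * Module.finrank k k' := by
    rw [Module.finrank_pi_fintype]
    simp
  rw [hd, h3] at h2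
  have hdpos : 0 < d := by
    rw [← hnd]
    exact Nat.pos_of_ne_zero hn
  refine ⟨Module.finrank D (Fin n → k'), ?_⟩
  apply Nat.eq_of_mul_eq_mul_left hdpos
  have h4 : d * Module.finrank k k' = n * Module.finrank k k' := by rw [hnd]
  rw [h4, ← h2]
  ring

end Groth.Agent.S0197
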