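import Groth.Statements.S0216
import Groth.Agent.Lib.Helper1.IB1

set_option autoImplicit false
universe u
open CategoryTheory CategoryTheory.Limits AlgebraicGeometry TopologicalSpace
open Curves

namespace Groth.Agent.S0216

/-- If a connected reduced scheme is locally of finite type over two fields k₁ and k₂, then a global
function is integral over k₁ exactly when it is integral over k₂ (the integral closures of the two
base fields in the global functions coincide). -/
theorem result (X : Scheme.{u}) [IsReduced X] [ConnectedSpace X]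
    (k₁ k₂ : Type u) [Field k₁] [Field k₂]
    (a : X ⟶ Spec (CommRingCat.of k₁)) (b : X ⟶ Spec (CommRingCat.of k₂))
    [LocallyOfFiniteType a] [LocallyOfFiniteType b] (x : Coh.Γtop X) :
    (Coh.toGlobal a).IsIntegralElem x ↔ (Coh.toGlobal b).IsIntegralElem x := by
  have key : ∀ (k₁ k₂ : Type u) [Field k₁] [Field k₂] (a : X ⟶ Spec (CommRingCat.of k₁))
      (b : X ⟶ Spec (CommRingCat.of k₂)) [LocallyOfFiniteType b],
      (Coh.toGlobal a).IsIntegralElem x → (Coh.toGlobal b).IsIntegralElem x := by
    intro k₁ k₂ _ _ a b _ hx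
    refine Groth.Agent.Helper1.IB.isIntegralElem_of_local (X := X) (Coh.toGlobal a)
      (Coh.toGlobal b) ?_ x hx
    intro U hU
    have e : U ≤ b ⁻¹ᵁ ⊤ := le_top
    have H := HasRingHomProperty.appLE @LocallyOfFiniteType b inferInstance
      ⟨⊤, isAffineOpen_top _⟩ ⟨U, hU⟩ e
    have h1 : (X.presheaf.map (homOfLE (le_top : U ≤ ⊤)).op).hom.comp (Coh.toGlobal b) =
        (b.appLE ⊤ U e).hom.comp (Scheme.ΓSpecIso (CommRingCat.of k₂)).inv.hom := rfl
    rw [h1]
    refine H.comp (RingHom.FiniteType.of_surjective _ ?_)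
    intro y
    refine ⟨(Scheme.ΓSpecIso (CommRingCat.of k₂)).hom.hom y, ?_⟩
    rw [← CommRingCat.comp_apply, Iso.hom_inv_id]
    rfl
  exact ⟨key k₁ k₂ a b, key k₂ k₁ b a⟩

end Groth.Agent.S0216
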