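import Groth.Statements.S0218
import Mathlib
-- import your own Groth.Agent.* helpers here

set_option autoImplicit false
universe u
open Curves

namespace Groth.Agent.S0218

section
open Polynomial

variable {k : Type u} [Field k] {A : Type u} [CommRing A] [Algebra k A]

lemma simple_of_card (h : Nat.card (Subalgebra k A) = 2) :
    (⊥ : Subalgebra k A) ≠ ⊤ ∧ ∀ S : Subalgebra k A, S = ⊥ ∨ S = ⊤ := by
  obtain ⟨x, y, hxy, huniv⟩ := Nat.card_eq_two_iff.mp h
  have hne : (⊥ : Subalgebra k A) ≠ ⊤ := by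
    intro hbt
    apply hxy
    have : ∀ S : Subalgebra k A, S = ⊥ := fun S => le_antisymm (hbt ▸ le_top) bot_le
    rw [this x, this y]
  refine ⟨hne, fun S => ?_⟩
  have hS : S ∈ ({x, y} : Set _) := huniv ▸ Set.mem_univ S
  have hb : (⊥ : Subalgebra k A) ∈ ({x, y} : Set _) := huniv ▸ Set.mem_univ _
  have ht : (⊤ : Subalgebra k A) ∈ ({x, y} : Set _) := huniv ▸ Set.mem_univ _
  simp only [Set.mem_insert_iff, Set.mem_singleton_iff] at hS hb ht
  rcases hS with hS | hS <;> rcases hb with hb | hb <;> rcases ht with ht | ht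
  all_goals first
    | (left; exact hS.trans hb.symm)
    | (right; exact hS.trans ht.symm)
    | (exfalso; exact hne (hb.trans ht.symm))

lemma isIntegral_of_simple (hs : ∀ S : Subalgebra k A, S = ⊥ ∨ S = ⊤) (x : A) :
    IsIntegral k x := by
  rcases hs (Algebra.adjoin k {x ^ 2}) with h | h
  · have : x ^ 2 ∈ (⊥ : Subalgebra k A) := h ▸ Algebra.subset_adjoin (Set.mem_singleton _)
    obtain ⟨c, hc⟩ := Algebra.mem_bot.mp this
    refine ⟨X ^ 2 - C c, monic_X_pow_sub_C c two_ne_zero, ?_⟩
    simp [← hc]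
  · have : x ∈ Algebra.adjoin k {x ^ 2} := h ▸ Algebra.mem_top
    rw [Algebra.adjoin_singleton_eq_range_aeval] at this
    obtain ⟨P, hP⟩ := this
    apply IsAlgebraic.isIntegral
    refine ⟨expand k 2 P - X, ?_, ?_⟩
    · intro h0
      have := congrArg (fun q => coeff q 1) h0
      simp [coeff_expand] at this
    · simp only [map_sub, expand_aeval, aeval_X]
      rw [sub_eq_zero]
      exact hP

lemma exists_y [IsAlgClosed k] (hne : (⊥ : Subalgebra k A) ≠ ⊤)
    (hs : ∀ S : Subalgebra k A, S = ⊥ ∨ S = ⊤) :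
    ∃ y : A, y ∉ (⊥ : Subalgebra k A) ∧ ∃ c : k, y * y = c • y := by
  obtain ⟨x, hx⟩ : ∃ x : A, x ∉ (⊥ : Subalgebra k A) := by
    by_contra hcon
    push Not at hcon
    exact hne (le_antisymm bot_le fun a _ => hcon a)
  haveI : Nontrivial A := by
    by_contra hnt
    rw [not_nontrivial_iff_subsingleton] at hnt
    apply hx
    rw [Subsingleton.elim x 0]
    exact zero_mem _
  have hint := isIntegral_of_simple hs x
  have hdeg : (minpoly k x).degree ≠ 0 := (minpoly.degree_pos hint).ne'
  obtain ⟨a, ha⟩ := IsAlgClosed.exists_root (minpoly k x) hdeg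
  obtain ⟨g, hg⟩ := dvd_iff_isRoot.mpr ha
  have hgm : g.Monic := Monic.of_mul_monic_left (monic_X_sub_C a) (hg ▸ minpoly.monic hint)
  have hgx : aeval x g ≠ 0 := by
    intro h0
    have h1 := natDegree_le_natDegree (minpoly.min k x hgm h0)
    rw [hg, natDegree_mul (X_sub_C_ne_zero a) hgm.ne_zero, natDegree_X_sub_C] at h1
    omega
  have hxy : (x - algebraMap k A a) * aeval x g = 0 := by
    have := minpoly.aeval k x
    rw [hg] at this
    simpa using this
  have key : ∀ P : k[X], aeval x P * aeval x g = (P.eval a) • aeval x g := by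
    intro P
    have hP := modByMonic_add_div P (X - C a)
    rw [modByMonic_X_sub_C_eq_C_eval] at hP
    conv_lhs => rw [← hP]
    simp only [map_add, map_mul, aeval_C, map_sub, aeval_X, add_mul]
    rw [mul_right_comm, hxy, zero_mul, add_zero, Algebra.smul_def]
  refine ⟨aeval x g, ?_, g.eval a, key g⟩
  intro hmem
  obtain ⟨l, hl⟩ := Algebra.mem_bot.mp hmem
  by_cases hl0 : l = 0
  · apply hgx
    rw [← hl, hl0, map_zero]
  · apply hx
    have : x - algebraMap k A a = 0 := by
      have h2 : (x - algebraMap k A a) * algebraMap k A l * algebraMap k A l⁻¹ = 0 := by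
        rw [hl, hxy, zero_mul]
      rwa [mul_assoc, ← map_mul, mul_inv_cancel₀ hl0, map_one, mul_one] at h2
    rw [sub_eq_zero] at this
    rw [this]
    exact Subalgebra.algebraMap_mem _ _

lemma equiv_of_algHom {B : Type u} [CommRing B] [Algebra k B]
    (hs : ∀ S : Subalgebra k A, S = ⊥ ∨ S = ⊤) (φ : B →ₐ[k] A)
    (hinj : Function.Injective φ) (y : A) (hy : y ∉ (⊥ : Subalgebra k A)) (hyr : y ∈ φ.range) :
    Nonempty (A ≃ₐ[k] B) := by
  have hsurj : Function.Surjective φ := by
    rcases hs φ.range with h | h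
    · exact absurd (h ▸ hyr) hy
    · intro a
      have : a ∈ φ.range := h ▸ Algebra.mem_top
      exact this
  exact ⟨(AlgEquiv.ofBijective φ ⟨hinj, hsurj⟩).symm⟩

lemma nontrivial_of_ne (hne : (⊥ : Subalgebra k A) ≠ ⊤) : Nontrivial A := by
  by_contra hnt
  rw [not_nontrivial_iff_subsingleton] at hnt
  apply hne
  ext a
  simp only [Algebra.mem_top, iff_true]
  rw [Subsingleton.elim a 0]
  exact zero_mem _

lemma lin_indep (hne : (⊥ : Subalgebra k A) ≠ ⊤) (y : A) (hy : y ∉ (⊥ : Subalgebra k A))
    (a b : k) (h : a • (1 : A) + b • y = 0) : a = 0 ∧ b = 0 := by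
  haveI := nontrivial_of_ne hne
  have hb : b = 0 := by
    by_contra hb
    apply hy
    have : y = algebraMap k A (-(b⁻¹ * a)) := by
      have h1 : b • y = -(a • (1 : A)) := eq_neg_of_add_eq_zero_right h
      have h2 : y = b⁻¹ • (b • y) := by rw [smul_smul, inv_mul_cancel₀ hb, one_smul]
      rw [h2, h1, Algebra.algebraMap_eq_smul_one, smul_neg, smul_smul, neg_smul]
    rw [this]
    exact Subalgebra.algebraMap_mem _ _
  refine ⟨?_, hb⟩
  rw [hb, zero_smul, add_zero] at h
  by_contra ha
  have : (1 : A) = 0 := by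
    have h2 : (1 : A) = a⁻¹ • (a • (1 : A)) := by rw [smul_smul, inv_mul_cancel₀ ha, one_smul]
    rw [h2, h, smul_zero]
  exact one_ne_zero this

theorem main (k : Type u) [Field k] [IsAlgClosed k] (A : Type u) [CommRing A] [Algebra k A]
    (h : Nat.card (Subalgebra k A) = 2) :
    Nonempty (A ≃ₐ[k] (k × k)) ∨ Nonempty (A ≃ₐ[k] DualNumber k) := by
  obtain ⟨hne, hs⟩ := simple_of_card h
  obtain ⟨y, hy, c, hc⟩ := exists_y hne hs
  by_cases hc0 : c = 0
  · right
    rw [hc0, zero_smul] at hc
    let φ : DualNumber k →ₐ[k] A :=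
      DualNumber.lift ⟨(Algebra.ofId k A, y), hc, fun a => Commute.all _ _⟩
    refine equiv_of_algHom hs φ ?_ y hy ⟨DualNumber.eps, DualNumber.lift_apply_eps _⟩
    rw [injective_iff_map_eq_zero]
    intro z hz
    have hz' : φ z = z.fst • (1 : A) + z.snd • y := by
      show DualNumber.lift _ z = _
      rw [DualNumber.lift_apply_apply]
      simp [Algebra.ofId_apply, Algebra.algebraMap_eq_smul_one]
    rw [hz'] at hz
    obtain ⟨h1, h2⟩ := lin_indep hne y hy _ _ hz
    exact TrivSqZeroExt.ext h1 h2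
  · left
    set e : A := c⁻¹ • y with he
    have hee : e * e = e := by
      rw [he, smul_mul_smul_comm, hc, smul_smul, mul_assoc, inv_mul_cancel₀ hc0, mul_one]
    have hey : e ∉ (⊥ : Subalgebra k A) := by
      intro hmem
      apply hy
      have : y = c • e := by rw [he, smul_smul, mul_inv_cancel₀ hc0, one_smul]
      rw [this]
      exact Subalgebra.smul_mem _ hmem c
    let ψ : (k × k) →ₗ[k] A :=
      LinearMap.coprod (LinearMap.toSpanSingleton k A (1 - e)) (LinearMap.toSpanSingleton k A e)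
    have hψ : ∀ p : k × k, ψ p = p.1 • (1 - e) + p.2 • e := fun p => by
      simp [ψ, LinearMap.coprod_apply]
    have h1e : (1 - e) * (1 - e) = 1 - e := by
      rw [mul_sub, mul_one, sub_mul, one_mul, hee, sub_self, sub_zero]
    have h1e' : (1 - e) * e = 0 := by rw [sub_mul, one_mul, hee, sub_self]
    let φ : (k × k) →ₐ[k] A := AlgHom.ofLinearMap ψ (by
      rw [hψ]; simp) (by
      intro p q
      rw [hψ, hψ, hψ]
      simp only [Prod.fst_mul, Prod.snd_mul, add_mul, mul_add, smul_mul_smul_comm, h1e, h1e', hee,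
        mul_comm e (1 - e), smul_zero, add_zero, zero_add])
    refine equiv_of_algHom hs φ ?_ e hey ⟨(0, 1), ?_⟩
    · rw [injective_iff_map_eq_zero]
      intro z hz
      have hz' : φ z = z.1 • (1 : A) + (z.2 - z.1) • e := by
        show ψ z = _
        rw [hψ, smul_sub, sub_smul]
        abel
      rw [hz'] at hz
      obtain ⟨h1, h2⟩ := lin_indep hne e hey _ _ hz
      rw [h1, sub_zero] at h2
      exact Prod.ext h1 h2
    · show ψ (0, 1) = e
      rw [hψ]; simp

end

/-- Over an algebraically closed field k, a commutative k-algebra with exactly two k-subalgebras is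
isomorphic to k × k or to the dual numbers over k. -/
theorem result (k : Type u) [Field k] [IsAlgClosed k] (A : Type u) [CommRing A] [Algebra k A]
    (h : Nat.card (Subalgebra k A) = 2) :
    Nonempty (A ≃ₐ[k] (k × k)) ∨ Nonempty (A ≃ₐ[k] DualNumber k) := by
  exact Groth.Agent.S0218.main k A h

end Groth.Agent.S0218
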