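import Groth.Statements.S0226
import Groth.Agent.Lib.Lead.Bass5
import Groth.Agent.Lib.Lead.PD1

set_option autoImplicit false
set_option linter.style.haveILetI false
universe u
open Curves CategoryTheory Abelian

namespace Groth.Agent.S0226

/-- In a regular local ring of dimension two, an ideal inside the maximal ideal with reduced quotient is
zero, the maximal ideal, or principal. -/
theorem result (A : Type u) [CommRing A] [IsRegularLocalRing A] (hdim : ringKrullDim A = 2)
    (I : Ideal A) (hI : I ≤ IsLocalRing.maximalIdeal A) [IsReduced (A ⧸ I)] :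
    I = ⊥ ∨ I = IsLocalRing.maximalIdeal A ∨ ∃ f ∈ IsLocalRing.maximalIdeal A, f ≠ 0 ∧ I = Ideal.span {f} := by
  classical
  by_cases h0 : I = ⊥
  · exact Or.inl h0
  by_cases hm : I = IsLocalRing.maximalIdeal A
  · exact Or.inr (Or.inl hm)
  right; right
  haveI : IsDomain A := Groth.Agent.Lead.RLR.isDomain A
  have hrad : I.IsRadical := (Ideal.isRadical_iff_quotient_reduced I).mpr inferInstance
  have hmtop : IsLocalRing.maximalIdeal A ≠ ⊤ := (IsLocalRing.maximalIdeal.isMaximal A).ne_top
  have hItop : I ≠ ⊤ := fun h => hmtop (top_le_iff.mp (h ▸ hI))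
  haveI : Nontrivial (A ⧸ I) := Ideal.Quotient.nontrivial_iff.mpr hItop
  -- Step 1: a regular element
  have hreg : ∃ x ∈ IsLocalRing.maximalIdeal A, IsSMulRegular (A ⧸ I) x := by
    by_contra hcon
    push_neg at hcon
    obtain ⟨p, hp, hmp⟩ := Groth.Agent.Lead.Depth.exists_le_associatedPrime_of_forall_not_regular
      (A ⧸ I) (IsLocalRing.maximalIdeal A) hcon
    have hpass : IsAssociatedPrime p (A ⧸ I) := hp
    rw [isAssociatedPrime_iff] at hpass
    obtain ⟨hpp, y, hy⟩ := hpass
    have hpm : IsLocalRing.maximalIdeal A = p :=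
      (IsLocalRing.maximalIdeal.isMaximal A).eq_of_le hpp.ne_top hmp
    obtain ⟨a, rfl⟩ := Ideal.Quotient.mk_surjective y
    have hcol : ∀ r : A, r ∈ IsLocalRing.maximalIdeal A ↔ r * a ∈ I := by
      intro r
      rw [hpm, hy, Submodule.mem_colon_singleton, Submodule.mem_bot]
      have h1 : r • (Ideal.Quotient.mk I a) = Ideal.Quotient.mk I (r * a) := rfl
      rw [h1, Ideal.Quotient.eq_zero_iff_mem]
    by_cases ham : a ∈ IsLocalRing.maximalIdeal A
    · have h1 : a * a ∈ I := (hcol a).mp ham
      have h2 : a ∈ I := hrad ⟨2, by rw [pow_two]; exact h1⟩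
      have h3 : (1 : A) * a ∈ I := by rw [one_mul]; exact h2
      have h4 := (hcol 1).mpr h3
      exact hmtop ((Ideal.eq_top_iff_one _).mpr h4)
    · have hu : IsUnit a := by
        by_contra hnu
        exact ham ((IsLocalRing.mem_maximalIdeal a).mpr hnu)
      apply hm
      apply le_antisymm hI
      intro r hr
      have h1 := (hcol r).mp hr
      exact (Ideal.mul_unit_mem_iff_mem I hu).mp h1
  obtain ⟨x, hxm, hxreg⟩ := hreg
  have hd1 : (1 : ℕ∞) ≤ LocCoh.depth A (A ⧸ I) := by
    have h1 := Groth.Agent.Lead.Depth.le_idealDepth_of_isWeaklyRegular (IsLocalRing.maximalIdeal A)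
      (A ⧸ I) [x] ((RingTheory.Sequence.isWeaklyRegular_singleton_iff (A ⧸ I) x).mpr hxreg)
      (by
        intro r hr
        rw [List.mem_singleton] at hr
        rw [hr]; exact hxm)
    rw [Groth.Agent.Lead.Depth.depth_def]
    simpa using h1
  -- Step 2: projective dimension
  have hdim2 : ringKrullDim A = ((2 : ℕ) : WithBot ℕ∞) := by
    rw [hdim]; first | rfl | norm_cast
  have hpdlt : HasProjectiveDimensionLT (ModuleCat.of A (A ⧸ I)) (2 + 1) :=
    Groth.Agent.Lead.Hom.hasProjectiveDimensionLT_of_isRegularLocalRing hdim2 _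
  have hnz : ¬ Limits.IsZero (ModuleCat.of A (A ⧸ I)) := by
    intro hz
    have := ModuleCat.isZero_of_iff_subsingleton.mp hz
    exact not_subsingleton (A ⧸ I) this
  obtain ⟨e, he, helt⟩ := Groth.Agent.Lead.Depth.exists_nat_projectiveDimension_eq hpdlt hnz
  have hAB := Groth.Agent.Lead.Depth.auslander_buchsbaum (A ⧸ I) e he
  have hdA : LocCoh.depth A A = (2 : ℕ) :=
    Groth.Agent.Lead.Depth.depth_eq_of_isRegularLocalRing hdim2
  have he1 : e ≤ 1 := by
    rw [hdA] at hAB
    have h2 : (e : ℕ∞) + 1 ≤ ((2 : ℕ) : ℕ∞) := by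
      rw [hAB]; exact add_le_add le_rfl hd1
    have h3 : ((e + 1 : ℕ) : ℕ∞) ≤ ((2 : ℕ) : ℕ∞) := by push_cast; exact h2
    have h4 : e + 1 ≤ 2 := by exact_mod_cast h3
    omega
  have hpd2 : HasProjectiveDimensionLT (ModuleCat.of A (A ⧸ I)) (1 + 1) := by
    rw [← projectiveDimension_lt_iff, he]
    have : e < 1 + 1 := by omega
    exact_mod_cast this
  -- Step 3: `I` is projective, hence free
  let f : A →ₗ[A] A ⧸ I := Submodule.mkQ I
  have hf : Function.Surjective f := Submodule.mkQ_surjective I
  have hS : f.shortComplexKer.ShortExact := LinearMap.shortExact_shortComplexKer hf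
  have hFproj : Projective f.shortComplexKer.X₂ := by
    haveI : Module.Projective A A := Module.Projective.of_free
    exact (IsProjective.iff_projective _).mp inferInstance
  have hX2 : HasProjectiveDimensionLT f.shortComplexKer.X₂ 1 := inferInstance
  have hK : HasProjectiveDimensionLT (ModuleCat.of A (LinearMap.ker f)) 1 :=
    hS.hasProjectiveDimensionLT_X₁ 1 hX2 hpd2
  have hKproj : Module.Projective A (LinearMap.ker f) := by
    have h1 : Projective (ModuleCat.of A (LinearMap.ker f)) :=
      projective_iff_hasProjectiveDimensionLT_one.mpr hK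
    exact (IsProjective.iff_projective _).mpr h1
  have hker : LinearMap.ker f = I := Submodule.ker_mkQ I
  haveI : Module.Projective A I := Module.Projective.of_equiv (LinearEquiv.ofEq _ _ hker)
  haveI : Module.Finite A I := inferInstance
  haveI : Module.Free A I := Module.free_of_flat_of_isLocalRing
  -- Step 4: a free nonzero ideal of a domain is principal
  let b := Module.Free.chooseBasis A I
  have hsub : ∀ i j : Module.Free.ChooseBasisIndex A I, i = j := by
    intro i j
    by_contra hij
    have h1 : ((b j : I) : A) • b i = ((b i : I) : A) • b j := by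
      apply Subtype.ext
      simp only [Submodule.coe_smul, smul_eq_mul]
      exact mul_comm _ _
    have h2 : (b.repr (((b j : I) : A) • b i)) i = (b.repr (((b i : I) : A) • b j)) i := by
      rw [h1]
    exact b.ne_zero j (by simpa [Finsupp.single_apply, Ne.symm hij] using h2)
  haveI : Nontrivial I := Submodule.nontrivial_iff_ne_bot.mpr h0
  obtain ⟨i0⟩ := b.index_nonempty
  refine ⟨((b i0 : I) : A), hI (b i0).2, ?_, ?_⟩
  · intro h
    exact b.ne_zero i0 (Subtype.ext h)
  · apply le_antisymm
    · intro y hy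
      have h3 := b.linearCombination_repr ⟨y, hy⟩
      have h4 : b.repr ⟨y, hy⟩ = Finsupp.single i0 (b.repr ⟨y, hy⟩ i0) := by
        ext k
        rw [hsub k i0]
        simp
      rw [h4, Finsupp.linearCombination_single] at h3
      have h5 := congrArg Subtype.val h3
      simp only [Submodule.coe_smul, smul_eq_mul] at h5
      rw [Ideal.mem_span_singleton']
      exact ⟨_, h5⟩
    · rw [Ideal.span_singleton_le_iff_mem]
      exact (b i0).2

end Groth.Agent.S0226
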