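import Groth.Statements.S0235
import Groth.Agent.Lib.Helper13.SemiLocal3

set_option autoImplicit false
universe u
open CategoryTheory CategoryTheory.Limits AlgebraicGeometry
open Curves

namespace Groth.Agent.S0235

/-- For a finite morphism π : X → Y and an invertible module L on X, every point y of Y has an open
neighbourhood V such that L is trivial on the preimage of V. -/
theorem result {X Y : Scheme.{u}} (π : X ⟶ Y) [IsFinite π]
    (L : X.Modules) (hL : PicF.IsInvertible L) (y : Y) :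
    ∃ V : Y.Opens, y ∈ V ∧ Nonempty (L.restrict (π ⁻¹ᵁ V).ι ≅ Coh.structureModule (↑(π ⁻¹ᵁ V))) := by
  classical
  obtain ⟨V₀, hV₀, hyV₀, -⟩ := exists_isAffineOpen_mem_and_subset (x := y) (U := ⊤) trivial
  have hU₀ : IsAffineOpen (π ⁻¹ᵁ V₀) := hV₀.preimage π
  haveI : IsAffine (↑(π ⁻¹ᵁ V₀) : Scheme.{u}) := hU₀
  have hfin : (π ⁻¹' {y}).Finite := IsFinite.finite_preimage_singleton π y
  have hmem : ∀ x ∈ hfin.toFinset, x ∈ π ⁻¹ᵁ V₀ := by
    intro x hx
    have : π x = y := hfin.mem_toFinset.1 hx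
    change π x ∈ V₀
    rw [this]
    exact hyV₀
  obtain ⟨U, h1, h2, -, -, t, ht⟩ :=
    Groth.Agent.Helper13.SemiLocal.exists_affine_trivial_finite L hL (π ⁻¹ᵁ V₀) (π ⁻¹ᵁ V₀)
      hfin.toFinset hmem hmem
  have hcl : IsClosed (π '' ((U : Set X)ᶜ)) := π.isClosedMap _ U.isOpen.isClosed_compl
  let V : Y.Opens := ⟨(π '' ((U : Set X)ᶜ))ᶜ, hcl.isOpen_compl⟩
  have hyV : y ∈ V := by
    rintro ⟨x, hxU, hxy⟩
    exact hxU (h2 x (hfin.mem_toFinset.2 hxy))
  have hle : π ⁻¹ᵁ V ≤ U := by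
    intro x hx
    by_contra hxU
    exact hx ⟨x, hxU, rfl⟩
  exact ⟨V, hyV, Groth.Agent.Helper13.SemiLocal.nonempty_restrict_iso_of_isGen L
    (L.presheaf.map (homOfLE hle).op t)
    (fun z hz => (Groth.Agent.Helper13.Inv.isGen_res L (homOfLE hle) t z hz).2 (ht z (hle hz)))⟩

end Groth.Agent.S0235
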