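import Groth.Statements.S0243
import Groth.Agent.Lib.Helper23.FEtComp

set_option autoImplicit false
universe u
open Pi1

namespace Groth.Agent.S0243

open AlgebraicGeometry CategoryTheory CategoryTheory.Limits in
/-- If a closed subscheme meets every connected component of the ambient scheme, restricting finite
etale covers to it is a faithful functor. -/
theorem result {X Y : Scheme.{u}} (i : Y ⟶ X) [IsClosedImmersion i]
    (h : ∀ x : X, (connectedComponent x ∩ Set.range i.base).Nonempty) :
    (FEt.restrict i).Faithful := by
  refine ⟨fun {A B} a b hab => ?_⟩
  haveI : IsFinite A.hom := A.prop.1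
  haveI : Etale A.hom := A.prop.2
  haveI : IsFinite B.hom := B.prop.1
  haveI : Etale B.hom := B.prop.2
  have key := Groth.Agent.Helper23.FEtComp.eq_of_pullback_fst_comp_eq i h A.toComma B.toComma
    a.hom b.hom ?_
  · ext
    exact congrArg CommaMorphism.left key
  · have := congrArg (fun φ => φ.left ≫ CategoryTheory.Limits.pullback.fst B.hom i) hab
    simp only [FEt.restrict, MorphismProperty.Over.pullback, MorphismProperty.Over.homMk_hom,
      Over.homMk_left] at this
    rw [CategoryTheory.Limits.pullback.lift_fst, CategoryTheory.Limits.pullback.lift_fst] at this
    exact this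

end Groth.Agent.S0243
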