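import Groth.Statements.S0244
import Groth.Agent.S0237
import Groth.Agent.Lib.Helper23.EtNormal4

set_option autoImplicit false
universe u
open Pi1

namespace Groth.Agent.S0244

open AlgebraicGeometry CategoryTheory CategoryTheory.Limits in
/-- Let X be a normal integral scheme and U ⊆ X a nonempty open subscheme. Then the restriction functor
from finite étale covers of X to finite étale covers of U is full and faithful. -/
theorem result {X : Scheme.{u}} [IsIntegral X] (hX : Pi1.IsNormalScheme X) (U : X.Opens)
    (hU : (U : Set X).Nonempty) : (FEt.restrict U.ι).Full ∧ (FEt.restrict U.ι).Faithful := by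
  have hξU : genericPoint X ∈ (U : Set X) :=
    ((genericPoint_spec X).mem_open_set_iff U.2).2 (by simpa using hU)
  have hξ : genericPoint X ∈ Set.range U.ι.base := by
    rw [Scheme.Opens.range_ι]; exact hξU
  refine ⟨⟨fun {A B} φ => Groth.Agent.Helper23.EtNormal.full_of_normal hX U.ι hξ ?_ A B φ⟩,
    Groth.Agent.S0237.result U.ι ?_⟩
  · intro P c _ _ η hη
    apply Groth.Agent.Helper23.EtNormal.isPreconnected_preimage_of_inducing _
      (pullback.fst c U.ι).isOpenEmbedding.isInducing
    have hcl := Groth.Agent.Helper23.EtNormal.isClopen_closure_generic c hX η hη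
    have hirr : IsPreirreducible (closure ({η} : Set P)) :=
      (isIrreducible_singleton (x := η)).closure.isPreirreducible
    exact (hirr.open_subset (hcl.2.inter (pullback.fst c U.ι).isOpenEmbedding.isOpen_range)
      Set.inter_subset_left).isPreconnected
  · have : Dense (U : Set X) := U.2.dense hU
    intro x
    rw [Scheme.Opens.range_ι]
    exact this x

end Groth.Agent.S0244
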