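import Groth.Statements.S0245
import Groth.Agent.S0237
import Groth.Agent.Lib.Helper23.EtNormal4

set_option autoImplicit false
universe u
open Pi1

namespace Groth.Agent.S0245

open AlgebraicGeometry CategoryTheory CategoryTheory.Limits in
/-- For a normal integral scheme X, restricting finite étale covers of X along the canonical morphism
from the spectrum of the local ring at the generic point (the spectrum of the function field) is a
full and faithful functor. -/
theorem result {X : Scheme.{u}} [IsIntegral X] (hX : Pi1.IsNormalScheme X) :
    (FEt.restrict (X.fromSpecStalk (genericPoint X))).Full ∧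
    (FEt.restrict (X.fromSpecStalk (genericPoint X))).Faithful := by
  have hξ : genericPoint X ∈ Set.range (X.fromSpecStalk (genericPoint X)).base := by
    rw [Scheme.range_fromSpecStalk]; exact specializes_rfl
  refine ⟨⟨fun {A B} φ => Groth.Agent.Helper23.EtNormal.full_of_normal hX
    (X.fromSpecStalk (genericPoint X)) hξ ?_ A B φ⟩,
    Groth.Agent.S0237.result (X.fromSpecStalk (genericPoint X)) ?_⟩
  · intro P c _ _ η hη
    apply Groth.Agent.Helper23.EtNormal.isPreconnected_preimage_of_inducing _
      (pullback.fst c (X.fromSpecStalk (genericPoint X))).isEmbedding.isInducing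
    apply Set.Subsingleton.isPreconnected
    have hsub : ∀ η' ∈ closure ({η} : Set P) ∩
        Set.range (pullback.fst c (X.fromSpecStalk (genericPoint X))).base, η' = η := by
      rintro η' ⟨h1, h2⟩
      rw [Scheme.Pullback.range_fst, Scheme.range_fromSpecStalk] at h2
      have h3 : c.base η' ⤳ genericPoint X := h2
      have h4 : c.base η' = genericPoint X :=
        (h3.antisymm (genericPoint_specializes _)).eq
      exact Groth.Agent.Helper23.EtNormal.eq_of_specializes c hX η' η' η specializes_rfl
        (specializes_iff_mem_closure.2 h1) h4 hη
    intro a ha b hb
    rw [hsub a ha, hsub b hb]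
  · have hd : Dense ({genericPoint X} : Set X) := by
      rw [dense_iff_closure_eq]; exact genericPoint_closure _
    exact hd.mono (by rintro _ rfl; exact hξ)

end Groth.Agent.S0245
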