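import Groth.Statements.S0246
import Groth.Agent.Lib.Helper23.EtNormal6

set_option autoImplicit false
universe u
open Pi1

namespace Groth.Agent.S0246

open AlgebraicGeometry CategoryTheory CategoryTheory.Limits in
theorem aux {X Y : Scheme.{u}} [IsIntegral X] (hX : Pi1.IsNormalScheme X) (c : Y ⟶ X)
    [IsFinite c] [Etale c] [ConnectedSpace Y] : IsIntegral Y ∧ Pi1.IsNormalScheme Y := by
  haveI : ∀ y : Y, _root_.IsReduced (Y.presheaf.stalk y) :=
    fun y => Groth.Agent.Helper23.EtNormal.isReduced_stalk (X := X) c y
  haveI : IsReduced Y := isReduced_of_isReduced_stalk Y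
  obtain ⟨y₀⟩ := (inferInstance : Nonempty Y)
  obtain ⟨η, hη, -⟩ := Groth.Agent.Helper23.EtNormal.exists_generic_specializes (X := X) c y₀
  have hcl := Groth.Agent.Helper23.EtNormal.isClopen_closure_generic (X := X) c hX η hη
  have huniv : closure ({η} : Set Y) = Set.univ :=
    hcl.eq_univ ⟨η, subset_closure rfl⟩
  have hirr : IsIrreducible (Set.univ : Set Y) := by
    rw [← huniv]; exact (isIrreducible_singleton (x := η)).closure
  haveI : IrreducibleSpace Y :=
    { isPreirreducible_univ := hirr.isPreirreducible
      toNonempty := ⟨y₀⟩ }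
  haveI : IsIntegral Y := isIntegral_of_irreducibleSpace_of_isReduced Y
  exact ⟨inferInstance, fun y => ⟨inferInstance,
    Groth.Agent.Helper23.EtNormal.isIntegrallyClosed_stalk (X := X) c hX y⟩⟩

open AlgebraicGeometry CategoryTheory CategoryTheory.Limits in
/-- If Y is finite etale over a normal integral scheme X and Y is connected, then Y is an integral
scheme all of whose local rings are integrally closed domains. -/
theorem result {X : Scheme.{u}} [IsIntegral X] (hX : Pi1.IsNormalScheme X) (Y : FEt.Cat X)
    [ConnectedSpace Y.left] : IsIntegral Y.left ∧ Pi1.IsNormalScheme Y.left := by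
  exact @aux X Y.left _ hX Y.hom Y.prop.1 Y.prop.2 _

end Groth.Agent.S0246
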