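import Groth.Statements.S0249
import Mathlib.RingTheory.Ideal.KrullsHeightTheorem

set_option autoImplicit false
universe u
open Pi1

namespace Groth.Agent.S0249

open AlgebraicGeometry CategoryTheory CategoryTheory.Limits in
/-- Let A be a Noetherian local ring of dimension at least 1 and f an element of its maximal ideal. Then
some prime ideal of height exactly 1 contains f. -/
theorem result (A : Type u) [CommRing A] [IsNoetherianRing A] [IsLocalRing A]
    (h : (1 : WithBot ℕ∞) ≤ ringKrullDim A) (f : A) (hf : f ∈ IsLocalRing.maximalIdeal A) :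
    ∃ p : Ideal A, p.IsPrime ∧ f ∈ p ∧ p.height = 1 := by
  classical
  let S : Set (Ideal A) := {q | q.IsPrime ∧ f ∈ q ∧ 1 ≤ q.height}
  have hm : IsLocalRing.maximalIdeal A ∈ S := by
    refine ⟨inferInstance, hf, ?_⟩
    have h1 := IsLocalRing.maximalIdeal_height_eq_ringKrullDim (R := A)
    rw [← h1] at h
    exact_mod_cast h
  obtain ⟨q, hqS, hqmin⟩ := WellFounded.has_min
    (InvImage.wf (fun q : Ideal A => q.height) wellFounded_lt) S ⟨_, hm⟩
  obtain ⟨hqp, hfq, hq1⟩ := hqS
  suffices hsuff : q.height ≤ ((1 : ℕ) : ℕ∞) from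
    ⟨q, hqp, hfq, le_antisymm (by simpa using hsuff) hq1⟩
  rw [Ideal.height_le_iff]
  intro p hp hpq
  by_contra hcon
  have hp1 : 1 ≤ p.height := not_lt.mp hcon
  have hpq' : p.height < q.height := Ideal.height_strict_mono_of_isPrime_of_isPrime hpq
  by_cases hfp : f ∈ p
  · exact hqmin p ⟨hp, hfp, hp1⟩ hpq'
  · -- a minimal prime below `p`
    obtain ⟨p0, hp0min, hp0p⟩ := Ideal.exists_minimalPrimes_le (I := (⊥ : Ideal A)) (J := p) bot_le
    have hp0prime : p0.IsPrime := hp0min.1.1
    have hp0lt : p0 < p := by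
      refine lt_of_le_of_ne hp0p ?_
      rintro rfl
      have : p0.height = 0 := Ideal.height_eq_zero_iff.mpr hp0min
      rw [this] at hp1
      exact absurd hp1 (by simp)
    have hfp0 : f ∉ p0 := fun hh => hfp (hp0p hh)
    have hle : p0 ⊔ Ideal.span {f} ≤ q := by
      apply sup_le (hp0lt.le.trans hpq.le)
      rw [Ideal.span_le, Set.singleton_subset_iff]
      exact hfq
    obtain ⟨q', hq'min, hq'q⟩ := Ideal.exists_minimalPrimes_le hle
    have hq'prime : q'.IsPrime := hq'min.1.1
    have hp0q' : p0 ≤ q' := le_sup_left.trans hq'min.1.2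
    have hfq' : f ∈ q' := by
      apply hq'min.1.2
      apply Ideal.mem_sup_right
      exact Ideal.mem_span_singleton_self f
    have hq'1 : 1 ≤ q'.height := by
      rw [Order.one_le_iff_pos, pos_iff_ne_zero]
      intro h0
      have hq'minimal : q' ∈ minimalPrimes A := Ideal.height_eq_zero_iff.mp h0
      have : q' ≤ p0 := hq'minimal.2 ⟨hp0prime, bot_le⟩ hp0q'
      exact hfp0 (this hfq')
    have hq'S : q' ∈ S := ⟨hq'prime, hfq', hq'1⟩
    have hheq : q' = q := by
      exact Ideal.eq_of_le_of_height_le (I := q') (J := q) hq'q (not_lt.mp (hqmin q' hq'S))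
    rw [hheq] at hq'min
    have hle1 := Ideal.map_height_le_one_of_mem_minimalPrimes hq'min
    -- but there is a chain of length two in the quotient
    have hker : RingHom.ker (Ideal.Quotient.mk p0) ≤ p0 := by rw [Ideal.mk_ker]
    have hmapp : (p.map (Ideal.Quotient.mk p0)).IsPrime :=
      Ideal.map_isPrime_of_surjective Ideal.Quotient.mk_surjective
        (by rw [Ideal.mk_ker]; exact hp0p)
    have hmapq : (q.map (Ideal.Quotient.mk p0)).IsPrime :=
      Ideal.map_isPrime_of_surjective Ideal.Quotient.mk_surjective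
        (by rw [Ideal.mk_ker]; exact hp0p.trans hpq.le)
    have hcomapp : (p.map (Ideal.Quotient.mk p0)).comap (Ideal.Quotient.mk p0) = p := by
      rw [Ideal.comap_map_of_surjective _ Ideal.Quotient.mk_surjective, ← RingHom.ker_eq_comap_bot,
        Ideal.mk_ker, sup_eq_left]
      exact hp0p
    have hcomapq : (q.map (Ideal.Quotient.mk p0)).comap (Ideal.Quotient.mk p0) = q := by
      rw [Ideal.comap_map_of_surjective _ Ideal.Quotient.mk_surjective, ← RingHom.ker_eq_comap_bot,
        Ideal.mk_ker, sup_eq_left]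
      exact hp0p.trans hpq.le
    have hlt1 : p.map (Ideal.Quotient.mk p0) < q.map (Ideal.Quotient.mk p0) := by
      refine lt_of_le_of_ne (Ideal.map_mono hpq.le) ?_
      intro heq
      have := congrArg (Ideal.comap (Ideal.Quotient.mk p0)) heq
      rw [hcomapp, hcomapq] at this
      exact hpq.ne this
    have hpos : 1 ≤ (p.map (Ideal.Quotient.mk p0)).height := by
      rw [Order.one_le_iff_pos, pos_iff_ne_zero]
      intro h0
      have : IsDomain (A ⧸ p0) := Ideal.Quotient.isDomain p0
      have hbot : p.map (Ideal.Quotient.mk p0) = ⊥ := Ideal.height_eq_zero_iff_eq_bot.mp h0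
      have := congrArg (Ideal.comap (Ideal.Quotient.mk p0)) hbot
      rw [hcomapp, ← RingHom.ker_eq_comap_bot, Ideal.mk_ker] at this
      exact hp0lt.ne this.symm
    have h2 := Ideal.height_add_one_le_of_lt_of_isPrime hlt1
    have h3 : (1 : ℕ∞) + 1 ≤ 1 := (add_le_add_left hpos 1).trans (h2.trans hle1)
    exact absurd h3 (by decide)

end Groth.Agent.S0249
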