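import Groth.Statements.S0252
import Groth.Agent.Lib.Helper23.SpecConn

set_option autoImplicit false
universe u
open Pi1

namespace Groth.Agent.S0252

open AlgebraicGeometry CategoryTheory CategoryTheory.Limits in
/-- the finite étale cover attached to a clopen subset -/
noncomputable def clopenObj {Y : Scheme.{u}} (W : Set Y) (hW : IsClopen W) : FEt.Cat Y :=
  MorphismProperty.Over.mk ⊤ (Scheme.Opens.ι (⟨W, hW.2⟩ : Y.Opens)) (by
    haveI : IsClosedImmersion (Scheme.Opens.ι (⟨W, hW.2⟩ : Y.Opens)) :=
      IsClosedImmersion.of_isPreimmersion _ (by rw [Scheme.Opens.range_ι]; exact hW.1)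
    exact ⟨inferInstance, inferInstance⟩)

open AlgebraicGeometry CategoryTheory CategoryTheory.Limits in
theorem aux_inj {X Y : Scheme.{u}} (f : X ⟶ Y) [(FEt.restrict f).Full] (W : Set Y)
    (hW : IsClopen W) (hpre : f.base ⁻¹' W = ∅) : W = ∅ := by
  set A := clopenObj W hW with hA
  set B := clopenObj (∅ : Set Y) isClopen_empty with hB
  have hempty : IsEmpty ↥(pullback A.hom f) := by
    rw [← Set.range_eq_empty_iff (f := (pullback.snd A.hom f).base)]
    have := Scheme.Pullback.range_snd A.hom f
    have hr : Set.range A.hom.base = W := Scheme.Opens.range_ι _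
    rw [hr] at this
    exact this.trans hpre
  haveI := hempty
  have hinit : IsInitial (pullback A.hom f) := isInitialOfIsEmpty
  let φ : (FEt.restrict f).obj A ⟶ (FEt.restrict f).obj B :=
    MorphismProperty.Over.homMk (hinit.to _) (hinit.hom_ext _ _)
  obtain ⟨ψ, -⟩ := (FEt.restrict f).map_surjective φ
  rw [Set.eq_empty_iff_forall_notMem]
  intro w hw
  have hr : Set.range B.hom.base = (∅ : Set Y) := Scheme.Opens.range_ι _
  have : B.hom.base (ψ.left.base ⟨w, hw⟩) ∈ Set.range B.hom.base := ⟨_, rfl⟩
  rw [hr] at this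
  exact this

open AlgebraicGeometry CategoryTheory CategoryTheory.Limits in
theorem aux_surj {X Y : Scheme.{u}} (f : X ⟶ Y) [(FEt.restrict f).EssSurj] (Z : Set X)
    (hZ : IsClopen Z) : ∃ W : Set Y, IsClopen W ∧ f.base ⁻¹' W = Z := by
  set A := clopenObj Z hZ with hA
  set B := (FEt.restrict f).objPreimage A with hB
  have e : (FEt.restrict f).obj B ≅ A := (FEt.restrict f).objObjPreimageIso A
  haveI : IsFinite B.hom := B.prop.1
  haveI : Etale B.hom := B.prop.2
  refine ⟨Set.range B.hom.base, ⟨B.hom.isClosedMap.isClosed_range, B.hom.isOpenMap.isOpen_range⟩,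
    ?_⟩
  have h1 := Scheme.Pullback.range_snd B.hom f
  have h2 : e.hom.left ≫ A.hom = pullback.snd B.hom f := Over.w e.hom.hom
  have h3 : Set.range A.hom.base = Z := Scheme.Opens.range_ι _
  have hiso : IsIso e.hom.left := by
    have : IsIso e.hom := inferInstance
    exact (inferInstance : IsIso ((MorphismProperty.Over.forget _ _ _ ⋙ Over.forget _).map e.hom))
  have hsurj : Function.Surjective e.hom.left.base := e.hom.left.homeomorph.surjective
  rw [← h1, ← h3]
  ext x
  constructor
  · rintro ⟨a, rfl⟩
    refine ⟨e.hom.left.base a, ?_⟩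
    rw [← h2]
    rfl
  · rintro ⟨a, rfl⟩
    obtain ⟨a', rfl⟩ := hsurj a
    refine ⟨a', ?_⟩
    rw [← h2]
    rfl

open AlgebraicGeometry CategoryTheory CategoryTheory.Limits in
/-- Let f be a morphism between quasi-compact quasi-separated schemes such that base change of finite
etale covers along f is an equivalence. Then the induced map on connected components is a
homeomorphism. -/
theorem result {X Y : Scheme.{u}} [CompactSpace X] [QuasiSeparatedSpace X] [CompactSpace Y] [QuasiSeparatedSpace Y]
    (f : X ⟶ Y) (h : (FEt.restrict f).IsEquivalence) :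
    IsHomeomorph f.continuous.connectedComponentsMap := by
  haveI := h
  exact Groth.Agent.Helper23.SpecConn.isHomeomorph_connectedComponentsMap f.continuous
    (fun W hW hpre => aux_inj f W hW hpre) (fun Z hZ => aux_surj f Z hZ)

end Groth.Agent.S0252
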