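import Groth.Statements.S0258
import Groth.Agent.S0237
import Groth.Agent.Lib.Helper23.DepthExt8

set_option autoImplicit false
universe u
open Pi1

namespace Groth.Agent.S0258

open AlgebraicGeometry CategoryTheory CategoryTheory.Limits in
/-- For a Noetherian local ring A of depth at least 2, the functor restricting finite étale covers of
Spec A to the punctured spectrum is fully faithful (full and faithful). The published statement
assumes instead that the punctured spectrum of the strict henselization of A is connected; depth at
least 2 is a sufficient condition for this, and the result is stated here under that hypothesis. -/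
theorem result (A : Type u) [CommRing A] [IsNoetherianRing A] [IsLocalRing A] (hA : (2 : ℕ∞) ≤ LocCoh.depth A A) :
    (FEt.restrict (FEt.puncturedSpec A).ι).Full ∧ (FEt.restrict (FEt.puncturedSpec A).ι).Faithful := by
  set X := Spec (CommRingCat.of A) with hX
  haveI : IsLocallyNoetherian X := inferInstance
  have hreg : ∀ x : X, x ∉ FEt.puncturedSpec A →
      Groth.Agent.Helper23.DepthExt.HasRegPair (X.presheaf.stalk x) := by
    intro x hx
    have hx1 : x = IsLocalRing.closedPoint A := by
      by_contra hne
      exact hx hne
    have hA := Groth.Agent.Helper23.DepthExt.hasRegPair_of_depth A hA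
    have hle : x.asIdeal.primeCompl ≤ IsUnit.submonoid A := by
      intro a ha
      rw [hx1] at ha
      have : a ∉ IsLocalRing.maximalIdeal A := ha
      rw [IsLocalRing.mem_maximalIdeal, mem_nonunits_iff, not_not] at this
      exact this
    exact hA.of_ringEquiv (IsLocalization.atUnits A x.asIdeal.primeCompl
      (S := (AlgebraicGeometry.Spec.structureSheaf A).presheaf.stalk x) hle).toRingEquiv
  refine ⟨⟨fun {B C} φ => Groth.Agent.Helper23.DepthExt.full_of_hasRegPair
    (FEt.puncturedSpec A) hreg B C φ⟩,
    Groth.Agent.S0237.result (FEt.puncturedSpec A).ι ?_⟩
  intro x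
  rw [Scheme.Opens.range_ι]
  obtain ⟨x', hx'U, hx'⟩ := Groth.Agent.Helper23.DepthExt.exists_generization_mem
    (FEt.puncturedSpec A) hreg x
  exact closure_mono (Set.singleton_subset_iff.2 hx'U) (specializes_iff_mem_closure.1 hx')

end Groth.Agent.S0258
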