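import Groth.Statements.S0263
import Groth.Agent.Lib.Helper23.DepthExt9

set_option autoImplicit false
universe u
open Pi1

namespace Groth.Agent.S0263

open AlgebraicGeometry CategoryTheory CategoryTheory.Limits in
theorem aux_main (A : Type u) [CommRing A] [IsNoetherianRing A] [IsLocalRing A]
    (hA : (2 : ℕ∞) ≤ LocCoh.depth A A) {Y' V' : Scheme.{u}} (c : Y' ⟶ Spec (CommRingCat.of A))
    [IsFinite c] [Etale c] (v : V' ⟶ (FEt.puncturedSpec A : Scheme.{u}))
    (ε : pullback c (FEt.puncturedSpec A).ι ⟶ V') [IsIso ε]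
    (hε : ε ≫ v = pullback.snd c (FEt.puncturedSpec A).ι) :
    ((Scheme.ΓSpecIso (CommRingCat.of A)).inv ≫ (v ≫ (FEt.puncturedSpec A).ι).appTop).hom.Finite ∧
    ((Scheme.ΓSpecIso (CommRingCat.of A)).inv ≫ (v ≫ (FEt.puncturedSpec A).ι).appTop).hom.Etale := by
  haveI : IsAffine Y' := isAffine_of_isAffineHom c
  haveI hq := Groth.Agent.Helper23.DepthExt.isIso_appTop_fst (FEt.puncturedSpec A)
    (Groth.Agent.Helper23.DepthExt.hasRegPair_puncturedSpec A hA) c
  have hcomm : ε ≫ v ≫ (FEt.puncturedSpec A).ι =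
      pullback.fst c (FEt.puncturedSpec A).ι ≫ c := by
    rw [← Category.assoc, hε]
    exact pullback.condition.symm
  haveI : IsIso ε.appTop := by
    show IsIso (ε.app ⊤)
    infer_instance
  have hring : ((Scheme.ΓSpecIso (CommRingCat.of A)).inv ≫
      (v ≫ (FEt.puncturedSpec A).ι).appTop) ≫ ε.appTop =
      (Scheme.ΓSpecIso (CommRingCat.of A)).inv ≫ c.appTop ≫
        (pullback.fst c (FEt.puncturedSpec A).ι).appTop := by
    rw [Category.assoc, ← Scheme.Hom.comp_appTop, ← Scheme.Hom.comp_appTop, hcomm]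
  have key : ∀ (P : ∀ {R S : Type u} [CommRing R] [CommRing S], (R →+* S) → Prop),
      RingHom.RespectsIso @P → P c.appTop.hom →
      P ((Scheme.ΓSpecIso (CommRingCat.of A)).inv ≫
        (v ≫ (FEt.puncturedSpec A).ι).appTop).hom := by
    intro P hP hY
    rw [← hP.cancel_right_isIso _ ε.appTop, ← CommRingCat.hom_comp, hring,
      CommRingCat.hom_comp, hP.cancel_left_isIso, CommRingCat.hom_comp, hP.cancel_right_isIso]
    exact hY
  exact ⟨key _ RingHom.finite_respectsIso (Scheme.Hom.finite_appTop c),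
    key _ RingHom.Etale.respectsIso (HasRingHomProperty.appTop (P := @Etale) c inferInstance)⟩

open AlgebraicGeometry CategoryTheory CategoryTheory.Limits in
/-- Let A be a Noetherian local ring of depth at least 2 and V a finite étale cover of the punctured
spectrum of A which is isomorphic to the restriction of some finite étale cover of Spec A. Then the
ring of global sections Γ(V, O_V) is finite and étale over A, via the ring map A → Γ(V, O_V) induced
by the composite V → Spec A. (Only this implication of the published statement is asserted here; its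
converse is not.) -/
theorem result (A : Type u) [CommRing A] [IsNoetherianRing A] [IsLocalRing A] (hA : (2 : ℕ∞) ≤ LocCoh.depth A A)
    (V : FEt.Cat (FEt.puncturedSpec A : Scheme.{u}))
    (hV : ∃ Y : FEt.Cat (Spec (CommRingCat.of A)),
      Nonempty ((FEt.restrict (FEt.puncturedSpec A).ι).obj Y ≅ V)) :
    ((Scheme.ΓSpecIso (CommRingCat.of A)).inv ≫ (V.hom ≫ (FEt.puncturedSpec A).ι).appTop).hom.Finite ∧
    ((Scheme.ΓSpecIso (CommRingCat.of A)).inv ≫ (V.hom ≫ (FEt.puncturedSpec A).ι).appTop).hom.Etale := by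
  obtain ⟨Y, ⟨e⟩⟩ := hV
  have hiso : IsIso e.hom.left :=
    (inferInstance : IsIso ((MorphismProperty.Over.forget _ _ _ ⋙ Over.forget _).map e.hom))
  exact @aux_main A _ _ _ hA Y.left V.left Y.hom Y.prop.1 Y.prop.2 V.hom e.hom.left hiso
    (Over.w e.hom.hom)

end Groth.Agent.S0263
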