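import Groth.Statements.S0264
import Groth.Agent.Lib.Helper23.FEtFibConn

set_option autoImplicit false
universe u
open Pi1

namespace Groth.Agent.S0264

open AlgebraicGeometry CategoryTheory CategoryTheory.Limits Groth.Agent.Helper23.FEtFull
  Groth.Agent.Helper23.FEtFibConn in
theorem aux_full {X S : Scheme.{u}} (f : X ⟶ S) [UniversallyOpen f]
    (hfib : ∀ (Ω : Type u) [Field Ω] [IsAlgClosed Ω] (s : Spec (CommRingCat.of Ω) ⟶ S),
      ConnectedSpace ↥(pullback f s))
    (A B : FEt.Cat S) (φ : (FEt.restrict f).obj A ⟶ (FEt.restrict f).obj B) :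
    ∃ ψ : A ⟶ B, (FEt.restrict f).map ψ = φ := by
  haveI : IsFinite A.hom := A.prop.1
  haveI : Etale A.hom := A.prop.2
  haveI : IsFinite B.hom := B.prop.1
  haveI : Etale B.hom := B.prop.2
  haveI hsurj : Surjective f := surjective_of_fibres f hfib
  have hφ : φ.left ≫ pullback.snd B.hom f = pullback.snd A.hom f := Over.w φ.hom
  have hC : ∀ Z : Set ↥(pullback (cc A.hom B.hom) f), IsClopen Z →
      ∃ W : Set ↥(pullback A.hom B.hom), IsClopen W ∧
        (pullback.fst (cc A.hom B.hom) f).base ⁻¹' W = Z := by
    intro Z hZ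
    exact exists_isClopen_preimage _ (pullback.fst (cc A.hom B.hom) f).isOpenMap
      (pullback.fst (cc A.hom B.hom) f).surjective
      (fun t => (isConnected_fiber f hfib (cc A.hom B.hom) t).isPreconnected) Z hZ
  have hE : ∀ d : ↥A.left → ℕ, IsLocallyConstant d →
      (∀ z : ↥(pullback A.hom f), d ((pullback.fst A.hom f).base z) = 1) → ∀ x, d x = 1 := by
    intro d hd hd1 x
    obtain ⟨z, rfl⟩ := (pullback.fst A.hom f).surjective x
    exact hd1 z
  obtain ⟨ψ, hψ1, hψ2⟩ := exists_descent_of_clopen f A.hom B.hom φ.left hφ hC hE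
  refine ⟨MorphismProperty.Over.homMk ψ hψ1, ?_⟩
  ext
  simp only [FEt.restrict, MorphismProperty.Over.pullback, MorphismProperty.Over.homMk_hom,
    Over.homMk_left]
  apply pullback.hom_ext
  · rw [pullback.lift_fst]
    exact hψ2
  · rw [pullback.lift_snd]
    exact hφ.symm

open AlgebraicGeometry CategoryTheory CategoryTheory.Limits in
/-- Functor form of the surjectivity part of the homotopy exact sequence: Let f : X -> S be flat, proper
and locally of finite presentation with S connected, such that for every algebraically closed field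
Ω and every geometric point Spec Ω -> S the fibre X ×_S Spec Ω is connected and reduced. Then the
restriction functor FEt.restrict f, pulling back finite etale covers along f, is full and faithful. -/
theorem result {X S : Scheme.{u}} (f : X ⟶ S) [IsProper f] [Flat f] [LocallyOfFinitePresentation f]
    [ConnectedSpace S]
    (hfib : ∀ (Ω : Type u) [Field Ω] [IsAlgClosed Ω] (s : Spec (CommRingCat.of Ω) ⟶ S),
      ConnectedSpace ↥(pullback f s) ∧ IsReduced (pullback f s)) :
    (FEt.restrict f).Full ∧ (FEt.restrict f).Faithful := by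
  have hfib' : ∀ (Ω : Type u) [Field Ω] [IsAlgClosed Ω] (s : Spec (CommRingCat.of Ω) ⟶ S),
      ConnectedSpace ↥(pullback f s) := fun Ω _ _ s => (hfib Ω s).1
  refine ⟨⟨fun {A B} φ => aux_full f hfib' A B φ⟩, ⟨fun {A B} a b hab => ?_⟩⟩
  haveI : IsFinite A.hom := A.prop.1
  haveI : Etale A.hom := A.prop.2
  haveI : IsFinite B.hom := B.prop.1
  haveI : Etale B.hom := B.prop.2
  haveI hsurj : Surjective f := Groth.Agent.Helper23.FEtFibConn.surjective_of_fibres f hfib'
  have hmeet : ∀ x : S, (connectedComponent x ∩ Set.range f.base).Nonempty := by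
    intro x
    exact ⟨x, mem_connectedComponent, f.surjective x⟩
  have key := Groth.Agent.Helper23.FEtComp.eq_of_pullback_fst_comp_eq f hmeet A.toComma B.toComma
    a.hom b.hom ?_
  · ext
    exact congrArg CommaMorphism.left key
  · have := congrArg (fun φ => φ.left ≫ CategoryTheory.Limits.pullback.fst B.hom f) hab
    simp only [FEt.restrict, MorphismProperty.Over.pullback, MorphismProperty.Over.homMk_hom,
      Over.homMk_left] at this
    rw [CategoryTheory.Limits.pullback.lift_fst, CategoryTheory.Limits.pullback.lift_fst] at this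
    exact this

end Groth.Agent.S0264
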