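import Groth.Statements.S0270
import Groth.Agent.Lib.Helper23.HomSeq4

set_option autoImplicit false
universe u
open Pi1

namespace Groth.Agent.S0270

open AlgebraicGeometry CategoryTheory CategoryTheory.Limits in
/-- (Exactness of the homotopy sequence of etale fundamental groups at pi_1(X), in functor form.) Let X
be quasi-compact and quasi-separated over a field k with X_{kbar} connected, kbar an algebraic
closure of k. If a finite etale cover U of X becomes completely split (a disjoint union of copies of
X_{kbar}) after base change to kbar, then there are a finite etale k-scheme V and an X-morphism from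
V x_k X to U which is surjective. -/
theorem result (k : Type u) [Field k] {X : Scheme.{u}} (f : X ⟶ Spec (CommRingCat.of k)) [CompactSpace X]
    [QuasiSeparatedSpace X]
    [ConnectedSpace ↥(pullback f (Spec.map (CommRingCat.ofHom (algebraMap k (AlgebraicClosure k)))))]
    (U : FEt.Cat X) (hU : Pi1.IsSplit ((FEt.restrict (pullback.fst f (Spec.map (CommRingCat.ofHom (algebraMap k (AlgebraicClosure k)))))).obj U)) :
    ∃ (V : FEt.Cat (Spec (CommRingCat.of k))) (e : (FEt.restrict f).obj V ⟶ U), Surjective e.left := by
  classical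
  obtain ⟨ι, hι, e0, he0⟩ := hU
  let K := AlgebraicClosure k
  let pr := pullback.fst f (Spec.map (CommRingCat.ofHom (algebraMap k K)))
  let e : pullback U.hom pr ≅
      ∐ (fun _ : ι => pullback f (Spec.map (CommRingCat.ofHom (algebraMap k K)))) := e0
  have he : ∀ i, Sigma.ι (fun _ : ι => pullback f (Spec.map (CommRingCat.ofHom (algebraMap k K)))) i ≫
      e.inv ≫ pullback.snd U.hom pr = 𝟙 _ := he0
  have hgK : Surjective (Spec.map (CommRingCat.ofHom (algebraMap k K))) :=
    Groth.Agent.Helper23.HomSeq.surjective_spec_field k K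
  have hpr : Surjective pr := MorphismProperty.pullback_fst (P := @Surjective) _ _ hgK
  have hpr' : Surjective (pullback.fst U.hom pr) :=
    MorphismProperty.pullback_fst (P := @Surjective) _ _ hpr
  let σ : ι → (pullback f (Spec.map (CommRingCat.ofHom (algebraMap k K))) ⟶ U.left) := fun i =>
    Sigma.ι (fun _ : ι => pullback f (Spec.map (CommRingCat.ofHom (algebraMap k K)))) i ≫ e.inv ≫
      pullback.fst U.hom pr
  have hσ : ∀ i, σ i ≫ U.hom = pr := by
    intro i
    have h1 := he i
    have h2 : pullback.fst U.hom pr ≫ U.hom = pullback.snd U.hom pr ≫ pr := pullback.condition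
    calc σ i ≫ U.hom = Sigma.ι (fun _ : ι => pullback f (Spec.map (CommRingCat.ofHom (algebraMap k K)))) i ≫ e.inv ≫
          (pullback.fst U.hom pr ≫ U.hom) := by simp only [σ, Category.assoc]
      _ = (Sigma.ι (fun _ : ι => pullback f (Spec.map (CommRingCat.ofHom (algebraMap k K)))) i ≫ e.inv ≫
          pullback.snd U.hom pr) ≫ pr := by rw [h2]; simp only [Category.assoc]
      _ = pr := by rw [h1, Category.id_comp]
  have hsurj : ∀ u₀ : U.left, ∃ i w, (σ i).base w = u₀ := by
    intro u₀
    obtain ⟨y, hy⟩ := hpr'.surj u₀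
    obtain ⟨⟨i, w⟩, hiw⟩ := (sigmaMk (fun _ : ι => pullback f (Spec.map (CommRingCat.ofHom (algebraMap k K))))).surjective (e.hom.base y)
    rw [sigmaMk_mk] at hiw
    refine ⟨i, w, ?_⟩
    have h3 : e.inv.base (e.hom.base y) = y := by
      rw [← Scheme.Hom.comp_apply, e.hom_inv_id]; rfl
    show ((Sigma.ι (fun _ : ι => pullback f (Spec.map (CommRingCat.ofHom (algebraMap k K)))) i ≫ e.inv ≫
      pullback.fst U.hom pr)).base w = u₀
    rw [Scheme.Hom.comp_apply, Scheme.Hom.comp_apply, hiw, h3]
    exact hy
  exact Groth.Agent.Helper23.HomSeq.dominated_of_sections K f U σ hσ hsurj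

end Groth.Agent.S0270
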