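import Groth.Statements.S0271
-- import your own Groth.Agent.* helpers here
import Groth.Agent.Lib.Helper3.LagEt5

set_option autoImplicit false
universe u
open Pi1

namespace Groth.Agent.S0271

open AlgebraicGeometry CategoryTheory CategoryTheory.Limits in
/-- Let a finite group G act on a ring R, let q be a prime of R with inertia subgroup I (elements acting
trivially modulo q). Then the ring of I-invariants is etale over the ring of G-invariants at the
prime below q: some principal localization of the I-invariants at an element outside that prime is
an etale algebra over the G-invariants. -/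
theorem result (G R : Type u) [Group G] [Finite G] [CommRing R] [MulSemiringAction G R]
    (q : Ideal R) [q.IsPrime] :
    ∃ g : FixedPoints.subring R (q.inertia G),
      g ∉ q.comap (FixedPoints.subring R (q.inertia G)).subtype ∧
      Algebra.Etale (FixedPoints.subring R G) (Localization.Away g) := by
  classical
  haveI : Fintype (G ⧸ q.inertia G) := Fintype.ofFinite _
  obtain ⟨E, hE, hEq⟩ := Groth.Agent.Helper3.LagEt.exists_E (G := G) q
  let E' : FixedPoints.subring R (q.inertia G) := ⟨E, fun ι => hE ι.1 ι.2⟩
  let u : FixedPoints.subring R (q.inertia G) :=
    ⟨(Polynomial.derivative (Groth.Agent.Helper3.InIn.cosetPoly (q.inertia G) E)).eval E,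
      fun ι => Groth.Agent.Helper3.LagEt.smul_eval_derivative_cosetPoly (q.inertia G) hE ι.2⟩
  refine ⟨u, ?_, ?_⟩
  · intro hu
    exact hEq hu
  · exact Groth.Agent.Helper3.LagEt.etale_away (q.inertia G) (fun a => rfl) E' u rfl
      (Localization.Away u)

end Groth.Agent.S0271
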