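import Groth.Statements.S0276
import Groth.Agent.Lib.Helper1.UnivInj
import Groth.Agent.S0275
import Mathlib.RingTheory.Finiteness.Cardinality

set_option autoImplicit false
universe u
open scoped TensorProduct
open Pi1

namespace Groth.Agent.S0276

/-- Let R -> S be universally injective and M an R-module such that S ⊗_R M is finitely presented over
S. Then M is finitely presented over R. -/
theorem result (R S : Type u) [CommRing R] [CommRing S] [Algebra R S]
    (h : Pi1.UnivInjective R S) (M : Type u) [AddCommGroup M] [Module R M]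
    [Module.FinitePresentation S (S ⊗[R] M)] : Module.FinitePresentation R M := by
  classical
  haveI : Module.Finite R M := Groth.Agent.S0275.result R S h M
  obtain ⟨n, f, hf⟩ := Module.Finite.exists_fin' R M
  set P := Fin n → R with hP
  set K := LinearMap.ker f with hK
  have hfS : Function.Surjective (f.baseChange S) := LinearMap.lTensor_surjective S hf
  have hfg : (LinearMap.ker (f.baseChange S)).FG :=
    Module.FinitePresentation.fg_ker (f.baseChange S) hfS
  obtain ⟨s, hs⟩ := hfg
  have hex : Function.Exact (LinearMap.lTensor S K.subtype) (LinearMap.lTensor S f) :=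
    lTensor_exact S f.exact_subtype_ker_map hf
  have hpre : ∀ x : S ⊗[R] P, x ∈ s → ∃ y : S ⊗[R] K, LinearMap.lTensor S K.subtype y = x := by
    intro x hx
    have hx' : x ∈ LinearMap.ker (f.baseChange S) := by
      rw [← hs]; exact Submodule.subset_span hx
    have : LinearMap.lTensor S f x = 0 := hx'
    exact (hex x).mp this
  choose! g hg using hpre
  obtain ⟨K', hK'fin, hK'⟩ := TensorProduct.exists_finite_submodule_right_of_setFinite
    (R := R) (M := S) (N := K) ((s.image g : Finset (S ⊗[R] K)) : Set (S ⊗[R] K))
    (Finset.finite_toSet _)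
  set K'' : Submodule R P := K'.map K.subtype with hK''
  have hK''fg : K''.FG := by
    rw [Module.Finite.iff_fg] at hK'fin
    exact hK'fin.map _
  have hK''le : K'' ≤ K := by
    rintro _ ⟨y, -, rfl⟩
    exact y.2
  -- the range of `S ⊗ K'' → S ⊗ P` contains the kernel of `S ⊗ f`
  have hrange : ∀ x : S ⊗[R] P, LinearMap.lTensor S f x = 0 →
      ∃ w : S ⊗[R] K'', LinearMap.lTensor S K''.subtype w = x := by
    have h1 : LinearMap.ker (f.baseChange S) ≤ LinearMap.range (K''.subtype.baseChange S) := by
      rw [← hs, Submodule.span_le]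
      intro x hx
      have hgx : g x ∈ ((s.image g : Finset (S ⊗[R] K)) : Set (S ⊗[R] K)) := by
        simp only [Finset.coe_image, Set.mem_image, Finset.mem_coe]
        exact ⟨x, hx, rfl⟩
      obtain ⟨z, hz⟩ := hK' hgx
      let e : K' →ₗ[R] K'' := (K.subtype.submoduleMap K')
      refine ⟨LinearMap.lTensor S e z, ?_⟩
      change LinearMap.lTensor S K''.subtype (LinearMap.lTensor S e z) = x
      rw [← LinearMap.comp_apply, ← LinearMap.lTensor_comp]
      have : K''.subtype ∘ₗ e = K.subtype ∘ₗ K'.subtype := by
        ext y; rfl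
      rw [this, LinearMap.lTensor_comp, LinearMap.comp_apply, hz, hg x hx]
    intro x hx
    exact h1 hx
  have hKle : K ≤ K'' := by
    intro k hk
    have hfk : f k = 0 := hk
    have h0 : LinearMap.lTensor S f ((1 : S) ⊗ₜ[R] k) = 0 := by
      simp [hfk]
    obtain ⟨w, hw⟩ := hrange _ h0
    have h1 : (1 : S) ⊗ₜ[R] (K''.mkQ k) = 0 := by
      have : (1 : S) ⊗ₜ[R] (K''.mkQ k) = LinearMap.lTensor S K''.mkQ ((1 : S) ⊗ₜ[R] k) := by simp
      rw [this, ← hw, ← LinearMap.comp_apply, ← LinearMap.lTensor_comp]
      have : K''.mkQ ∘ₗ K''.subtype = 0 := by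
        ext y; simp
      rw [this, LinearMap.lTensor_zero, LinearMap.zero_apply]
    have h2 : K''.mkQ k = 0 := by
      apply Groth.Agent.Helper1.injective_mk_of_univInjective h (P ⧸ K'')
      simp only [h1, TensorProduct.tmul_zero]
    simpa using h2
  have hKeq : K = K'' := le_antisymm hKle hK''le
  have hKfg : (LinearMap.ker f).FG := by rw [← hK, hKeq]; exact hK''fg
  exact Module.finitePresentation_of_free_of_surjective f hf hKfg

end Groth.Agent.S0276
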