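import Groth.Statements.S0277
import Groth.Agent.Lib.Helper1.UnivInj

set_option autoImplicit false
universe u
open scoped TensorProduct
open Pi1

namespace Groth.Agent.S0277

/-- Let R -> S be universally injective and A an R-algebra such that S ⊗_R A is of finite type over S.
Then A is of finite type over R. -/
theorem result (R S : Type u) [CommRing R] [CommRing S] [Algebra R S]
    (h : Pi1.UnivInjective R S) (A : Type u) [CommRing A] [Algebra R A]
    [Algebra.FiniteType S (S ⊗[R] A)] : Algebra.FiniteType R A := by
  obtain ⟨s, hs⟩ := (Algebra.FiniteType.out : (⊤ : Subalgebra S (S ⊗[R] A)).FG)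
  obtain ⟨N, hNfin, hN⟩ := TensorProduct.exists_finite_submodule_right_of_setFinite
    (R := R) (M := S) (N := A) (s : Set (S ⊗[R] A)) s.finite_toSet
  rw [Module.Finite.iff_fg] at hNfin
  obtain ⟨t, ht⟩ := hNfin
  let A' : Subalgebra R A := Algebra.adjoin R (t : Set A)
  have hNA' : N ≤ Subalgebra.toSubmodule A' := by
    rw [← ht, Submodule.span_le]
    exact Algebra.subset_adjoin
  let φ : S ⊗[R] A' →ₐ[S] S ⊗[R] A := Algebra.TensorProduct.map (AlgHom.id S S) A'.val
  have hφ : ∀ x, φ x = LinearMap.lTensor S (Subalgebra.toSubmodule A').subtype x := by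
    intro x
    induction x using TensorProduct.induction_on with
    | zero => simp
    | tmul a b => rfl
    | add x y hx hy => rw [map_add, map_add, hx, hy]
  have hsurj : Function.Surjective (LinearMap.lTensor S (Subalgebra.toSubmodule A').subtype) := by
    have h1 : φ.range = ⊤ := by
      rw [eq_top_iff, ← hs, Algebra.adjoin_le_iff]
      intro x hx
      obtain ⟨y, hy⟩ := hN hx
      have : LinearMap.lTensor S N.subtype y =
          LinearMap.lTensor S (Subalgebra.toSubmodule A').subtype
            (LinearMap.lTensor S (Submodule.inclusion hNA') y) := by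
        rw [← LinearMap.comp_apply, ← LinearMap.lTensor_comp]
        rfl
      refine ⟨LinearMap.lTensor S (Submodule.inclusion hNA') y, ?_⟩
      rw [← hy, this]
      exact hφ _
    intro x
    have : x ∈ φ.range := by rw [h1]; trivial
    obtain ⟨y, hy⟩ := this
    exact ⟨y, by rw [← hφ]; exact hy⟩
  have htop : Subalgebra.toSubmodule A' = ⊤ :=
    Groth.Agent.Helper1.eq_top_of_lTensor_surjective h _ hsurj
  have hA' : A' = ⊤ := by
    apply Subalgebra.toSubmodule_injective
    rw [htop]; rfl
  exact ⟨⟨t, hA'⟩⟩

end Groth.Agent.S0277
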