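import Groth.Statements.S0278
import Groth.Agent.Lib.Helper1.UnivInj
import Groth.Agent.S0277
import Mathlib.RingTheory.FiniteStability

set_option autoImplicit false
universe u
open scoped TensorProduct
open Pi1

namespace Groth.Agent.S0278

/-- Let R -> S be universally injective and A an R-algebra such that S ⊗_R A is of finite presentation
over S. Then A is of finite presentation over R. -/
theorem result (R S : Type u) [CommRing R] [CommRing S] [Algebra R S]
    (h : Pi1.UnivInjective R S) (A : Type u) [CommRing A] [Algebra R A]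
    [Algebra.FinitePresentation S (S ⊗[R] A)] : Algebra.FinitePresentation R A := by
  classical
  have hft : Algebra.FiniteType R A := Groth.Agent.S0277.result R S h A
  rw [Algebra.FiniteType.iff_quotient_mvPolynomial''] at hft
  obtain ⟨n, f, hf⟩ := hft
  let φ : MvPolynomial (Fin n) R →ₐ[R] S ⊗[R] MvPolynomial (Fin n) R :=
    Algebra.TensorProduct.includeRight
  let fS : S ⊗[R] MvPolynomial (Fin n) R →ₐ[S] S ⊗[R] A :=
    Algebra.TensorProduct.map (AlgHom.id S S) f
  have hfS : Function.Surjective fS := LinearMap.lTensor_surjective S hf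
  have hker : (RingHom.ker fS.toRingHom).FG :=
    Algebra.FinitePresentation.ker_fG_of_surjective fS hfS
  have hker_eq : RingHom.ker fS.toRingHom = (RingHom.ker f).map φ :=
    Algebra.TensorProduct.lTensor_ker f hf
  rw [hker_eq] at hker
  have hker' : (Submodule.span (S ⊗[R] MvPolynomial (Fin n) R)
      (φ '' (RingHom.ker f : Set (MvPolynomial (Fin n) R)))).FG := hker
  rw [Submodule.fg_span_iff_fg_span_finset_subset] at hker'
  obtain ⟨s', hs'sub, hs'⟩ := hker'
  obtain ⟨t, htsub, rfl⟩ := Finset.subset_set_image_iff.mp hs'sub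
  set K'' : Ideal (MvPolynomial (Fin n) R) := Ideal.span (t : Set (MvPolynomial (Fin n) R))
    with hK''
  have hK''le : K'' ≤ RingHom.ker f := Ideal.span_le.mpr htsub
  have hmap : K''.map φ = (RingHom.ker f).map φ := by
    rw [hK'', Ideal.map_span]
    change _ = Submodule.span _ _
    rw [hs', Finset.coe_image]
  have hle : RingHom.ker f ≤ K'' := by
    intro k hk
    have h1 : φ k ∈ K''.map φ := by
      rw [hmap]; exact Ideal.mem_map_of_mem φ hk
    have h2 : φ k ∈ (K''.map φ).restrictScalars R := h1
    rw [Ideal.map_includeRight_eq] at h2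
    obtain ⟨w, hw⟩ := h2
    set N : Submodule R (MvPolynomial (Fin n) R) := K''.restrictScalars R with hN
    have h3 : (1 : S) ⊗ₜ[R] (N.mkQ k) = 0 := by
      have : (1 : S) ⊗ₜ[R] (N.mkQ k) = LinearMap.lTensor S N.mkQ (φ k) := by simp [φ]
      rw [this, ← hw, ← LinearMap.comp_apply, ← LinearMap.lTensor_comp]
      have : N.mkQ ∘ₗ N.subtype = 0 := by
        ext y; simp
      rw [this, LinearMap.lTensor_zero, LinearMap.zero_apply]
    have h4 : N.mkQ k = 0 := by
      apply Groth.Agent.Helper1.injective_mk_of_univInjective h (MvPolynomial (Fin n) R ⧸ N)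
      simp only [h3, TensorProduct.tmul_zero]
    have h5 : k ∈ N := by simpa using h4
    exact h5
  have hKeq : RingHom.ker f = K'' := le_antisymm hle hK''le
  have hfg : (RingHom.ker f.toRingHom).FG := by
    change (RingHom.ker f).FG
    rw [hKeq]
    exact ⟨t, rfl⟩
  exact Algebra.FinitePresentation.of_surjective hf hfg

end Groth.Agent.S0278
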