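import Groth.Statements.S0291
import Groth.Agent.Lib.Helper23.DepthExt3

set_option autoImplicit false
universe u
open Pi1

namespace Groth.Agent.S0291

open AlgebraicGeometry CategoryTheory CategoryTheory.Limits in
/-- Let A be a Noetherian local ring and B a finite A-algebra such that the local rings of Spec B at all
closed points have depth at least 2. Then restriction from global sections of Spec B to sections
over the preimage of the punctured spectrum of A is an isomorphism. -/
theorem result (A B : Type u) [CommRing A] [IsNoetherianRing A] [IsLocalRing A] [CommRing B] [Algebra A B]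
    [Module.Finite A B]
    (h : ∀ (m : Ideal B) (_ : m.IsMaximal), (2 : ℕ∞) ≤ LocCoh.depth (Localization.AtPrime m) (Localization.AtPrime m)) :
    IsIso ((Spec (CommRingCat.of B)).presheaf.map (homOfLE (le_top :
      Spec.map (CommRingCat.ofHom (algebraMap A B)) ⁻¹ᵁ FEt.puncturedSpec A ≤ ⊤)).op) := by
  set X := Spec (CommRingCat.of B) with hX
  set U' : X.Opens := Spec.map (CommRingCat.ofHom (algebraMap A B)) ⁻¹ᵁ FEt.puncturedSpec A with hU'
  haveI : IsNoetherianRing B := IsNoetherianRing.of_finite A B
  haveI : IsNoetherianRing Γ(X, ⊤) :=
    isNoetherianRing_of_ringEquiv B (Scheme.ΓSpecIso (CommRingCat.of B)).symm.commRingCatIsoToRingEquiv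
  have hcomp : IsCompact (U' : Set X) :=
    TopologicalSpace.NoetherianSpace.isCompact (α := PrimeSpectrum B) _
  have hbij := Groth.Agent.Helper23.DepthExt.bijective_res_of_hasRegPair (X := X) ⊤
    (isAffineOpen_top X) U' le_top hcomp ?_
  · exact (ConcreteCategory.isIso_iff_bijective _).2 hbij
  · intro x _ hxU
    -- `x` lies over the closed point of `Spec A`
    have hx1 : (Spec.map (CommRingCat.ofHom (algebraMap A B))).base x =
        IsLocalRing.closedPoint A := by
      by_contra hne
      exact hxU hne
    have hx2 : x.asIdeal.comap (algebraMap A B) = IsLocalRing.maximalIdeal A := by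
      have := congrArg PrimeSpectrum.asIdeal hx1
      exact this
    haveI : Algebra.IsIntegral A B := inferInstance
    have hmax : x.asIdeal.IsMaximal := by
      apply Ideal.isMaximal_of_isIntegral_of_isMaximal_comap (R := A) x.asIdeal
      rw [hx2]; infer_instance
    have hreg := Groth.Agent.Helper23.DepthExt.hasRegPair_of_depth _ (h x.asIdeal hmax)
    exact hreg.of_ringEquiv (IsLocalization.algEquiv x.asIdeal.primeCompl
      (Localization.AtPrime x.asIdeal)
      ((AlgebraicGeometry.Spec.structureSheaf B).presheaf.stalk x)).toRingEquiv

end Groth.Agent.S0291
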