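import Groth.Statements.S0293
import Groth.Agent.Lib.Helper12.DiscPurity
import Groth.Agent.Lib.Helper16.Sch.UnrFib
import Groth.Agent.Lib.Helper9.Depth2

set_option autoImplicit false
universe u
open Pi1

namespace Groth.Agent.S0293

open AlgebraicGeometry CategoryTheory CategoryTheory.Limits Groth.Agent.Helper16.UnramLocus in
theorem formallyUnramified_of_flat {X : Scheme.{u}} [IsLocallyNoetherian X] (U : X.Opens)
    (hU : ∀ x : X, x ∉ U → (2 : ℕ∞) ≤ LocCoh.depth (X.presheaf.stalk x) (X.presheaf.stalk x))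
    {Y : Scheme.{u}} (π : Y ⟶ X) [IsFinite π] [Etale (pullback.snd π U.ι)] [Flat π] :
    FormallyUnramified π := by
  classical
  -- unramified over U
  have hunrU : FormallyUnramified ((π ⁻¹ᵁ U).ι ≫ π) := by
    haveI : Etale (π ∣_ U) := by
      have h1 : π ∣_ U = (pullbackRestrictIsoRestrict π U).inv ≫ pullback.snd π U.ι := by
        rw [← pullbackRestrictIsoRestrict_hom_morphismRestrict, Iso.inv_hom_id_assoc]
      rw [h1]
      infer_instance
    rw [← morphismRestrict_ι]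
    infer_instance
  refine formallyUnramified_of_forall_unrAt π fun y => ?_
  obtain ⟨W, hW, hyW, -⟩ :=
    exists_isAffineOpen_mem_and_subset (x := π y) (U := (⊤ : X.Opens)) trivial
  have hV : IsAffineOpen (π ⁻¹ᵁ W) := hW.preimage π
  have hyV : y ∈ π ⁻¹ᵁ W := hyW
  rw [unrAt_iff_mem_unramifiedLocus W hW (π ⁻¹ᵁ W) hV le_rfl hyV]
  letI := (π.appLE W (π ⁻¹ᵁ W) le_rfl).hom.toAlgebra
  suffices h : Algebra.FormallyUnramified Γ(X, W) Γ(Y, π ⁻¹ᵁ W) by
    rw [Algebra.unramifiedLocus_eq_univ_iff.mpr h]; trivial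
  haveI : IsNoetherianRing Γ(X, W) := IsLocallyNoetherian.component_noetherian ⟨W, hW⟩
  haveI : Module.Finite Γ(X, W) Γ(Y, π ⁻¹ᵁ W) := by
    have h1 := π.finite_app W hW
    rw [Scheme.Hom.app_eq_appLE] at h1
    exact h1
  haveI : Module.Flat Γ(X, W) Γ(Y, π ⁻¹ᵁ W) := π.flat_appLE hW hV le_rfl
  refine Groth.Agent.Helper12.DiscPurity.main' _ _
    {q | ∃ hq : q.IsPrime, hW.fromSpec ⟨q, hq⟩ ∈ U} ?_ ?_ ?_
  · rintro q ⟨hq, hqU⟩ q' hq' hle
    refine ⟨hq', ?_⟩
    have h1 : (⟨q', hq'⟩ : PrimeSpectrum Γ(X, W)) ⤳ ⟨q, hq⟩ :=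
      (PrimeSpectrum.le_iff_specializes _ _).mp hle
    exact (h1.map hW.fromSpec.continuous).mem_open U.2 hqU
  · rintro Q ⟨hq, hqU⟩
    have hmemV : hV.fromSpec Q ∈ π ⁻¹ᵁ W := by
      have : hV.fromSpec Q ∈ Set.range hV.fromSpec := ⟨Q, rfl⟩
      rw [hV.range_fromSpec] at this
      exact this
    have hπ : π (hV.fromSpec Q) = hW.fromSpec ⟨_, hq⟩ := by
      have h1 := IsAffineOpen.SpecMap_appLE_fromSpec π hW hV le_rfl
      have h2 := congrArg (fun g : Spec Γ(Y, π ⁻¹ᵁ W) ⟶ X => g Q) h1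
      simp only [Scheme.Hom.comp_apply] at h2
      rw [← h2]
      rfl
    have hunr : UnrAt π (hV.fromSpec Q) :=
      ⟨π ⁻¹ᵁ U, by show π (hV.fromSpec Q) ∈ U; rw [hπ]; exact hqU, hunrU⟩
    rw [unrAt_iff_mem_unramifiedLocus W hW (π ⁻¹ᵁ W) hV le_rfl hmemV] at hunr
    have hQ : hV.primeIdealOf ⟨hV.fromSpec Q, hmemV⟩ = Q := by
      apply hV.fromSpec.isOpenEmbedding.injective
      exact hV.fromSpec_primeIdealOf ⟨hV.fromSpec Q, hmemV⟩
    rwa [hQ] at hunr
  · intro q hq hqG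
    have hxW : hW.fromSpec ⟨q, hq⟩ ∈ W := by
      have : hW.fromSpec ⟨q, hq⟩ ∈ Set.range hW.fromSpec := ⟨_, rfl⟩
      rw [hW.range_fromSpec] at this
      exact this
    have hxU : hW.fromSpec ⟨q, hq⟩ ∉ U := fun h => hqG ⟨hq, h⟩
    have hd := hU _ hxU
    have h2 : ((2 : ℕ) : WithBot ℕ∞) ≤ Module.supportDim (X.presheaf.stalk (hW.fromSpec ⟨q, hq⟩))
        (X.presheaf.stalk (hW.fromSpec ⟨q, hq⟩)) :=
      Groth.Agent.Helper9.Depth.natCast_le_supportDim_of_le_depth 2 (by exact_mod_cast hd)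
    rw [Module.supportDim_self_eq_ringKrullDim] at h2
    letI alg : Algebra Γ(X, W) (X.presheaf.stalk (hW.fromSpec ⟨q, hq⟩)) :=
      TopCat.Presheaf.algebra_section_stalk X.presheaf (⟨hW.fromSpec ⟨q, hq⟩, hxW⟩ : W)
    haveI hloc : IsLocalization.AtPrime (X.presheaf.stalk (hW.fromSpec ⟨q, hq⟩)) q :=
      hW.isLocalization_stalk' ⟨q, hq⟩ hxW
    rw [IsLocalization.AtPrime.ringKrullDim_eq_height q
      (X.presheaf.stalk (hW.fromSpec ⟨q, hq⟩))] at h2
    have h3 : ((2 : ℕ∞) : WithBot ℕ∞) ≤ ((q.height : ℕ∞) : WithBot ℕ∞) := by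
      have e : ((2 : ℕ∞) : WithBot ℕ∞) = ((2 : ℕ) : WithBot ℕ∞) := by norm_cast
      rw [e]
      exact h2
    exact WithBot.coe_le_coe.mp h3

open AlgebraicGeometry CategoryTheory CategoryTheory.Limits in
/-- Let X be a locally Noetherian scheme, U ⊆ X an open subset such that the local rings of X at points
outside U have depth at least 2, and π : Y → X a finite morphism which is étale over U and such that
the local rings of Y at points outside the preimage of U have depth at least 2. Then π is étale if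
and only if it is flat. -/
theorem result {X : Scheme.{u}} [IsLocallyNoetherian X] (U : X.Opens)
    (hU : ∀ x : X, x ∉ U → (2 : ℕ∞) ≤ LocCoh.depth (X.presheaf.stalk x) (X.presheaf.stalk x)) {Y : Scheme.{u}} (π : Y ⟶ X)
    [IsFinite π] [Etale (pullback.snd π U.ι)]
    (hY : ∀ y : Y, π.base y ∉ U → (2 : ℕ∞) ≤ LocCoh.depth (Y.presheaf.stalk y) (Y.presheaf.stalk y)) :
    Etale π ↔ Flat π := by
  constructor
  · intro h
    infer_instance
  · intro h
    haveI := h
    haveI : FormallyUnramified π := formallyUnramified_of_flat U hU π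
    haveI : LocallyOfFinitePresentation π := by
      haveI : LocallyOfFiniteType π := inferInstance
      exact (LocallyOfFinitePresentation.iff_locallyOfFiniteType).2 inferInstance
    exact Etale.of_formallyUnramified_of_flat π

end Groth.Agent.S0293
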