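import Groth.Statements.S0294
import Mathlib

set_option autoImplicit false
universe u
open Pi1

namespace Groth.Agent.S0294

open AlgebraicGeometry CategoryTheory CategoryTheory.Limits in
/-- For a finite étale cover Y of a scheme X and a point ξ : Spec Ω → X with values in a field Ω, the
fibre of Y over ξ (the set of Ω-valued points of Y lying over ξ) is finite. -/
theorem result {X : Scheme.{u}} {Ω : Type u} [Field Ω] (ξ : Spec (CommRingCat.of Ω) ⟶ X) (Y : FEt.Cat X) :
    Finite (FEt.fiberObj ξ Y) := by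
  classical
  haveI : IsFinite Y.hom := Y.prop.1
  let P := pullback Y.hom ξ
  let π : P ⟶ Spec (CommRingCat.of Ω) := pullback.snd Y.hom ξ
  haveI : IsFinite π := inferInstance
  haveI : IsAffine P := isAffine_of_isAffineHom π
  -- the algebra structure
  let ρ : CommRingCat.of Ω ⟶ Γ(P, ⊤) := (Scheme.ΓSpecIso (CommRingCat.of Ω)).inv ≫ π.appTop
  have hfin1 : π.appTop.hom.Finite := by
    have h1 : IsFinite (Spec.map π.appTop) := by
      have := Scheme.isoSpec_hom_naturality π
      rw [← MorphismProperty.cancel_left_of_respectsIso @IsFinite P.isoSpec.hom, this]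
      infer_instance
    exact (IsFinite.SpecMap_iff _).1 h1
  have hfin : ρ.hom.Finite := by
    have h2 : (Scheme.ΓSpecIso (CommRingCat.of Ω)).inv.hom.Finite :=
      RingHom.Finite.of_surjective _
        ((ConcreteCategory.bijective_of_isIso (Scheme.ΓSpecIso (CommRingCat.of Ω)).inv).2)
    exact RingHom.Finite.comp hfin1 h2
  letI : Algebra Ω Γ(P, ⊤) := ρ.hom.toAlgebra
  haveI : Module.Finite Ω Γ(P, ⊤) := hfin
  haveI : Finite (Γ(P, ⊤) →ₐ[Ω] Ω) := Finite.algHom Ω Γ(P, ⊤) Ω
  -- the map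
  let l : FEt.fiberObj ξ Y → (Spec (CommRingCat.of Ω) ⟶ P) := fun s =>
    pullback.lift s.1 (𝟙 _) (by rw [s.2, Category.id_comp])
  have hlπ : ∀ s, l s ≫ π = 𝟙 _ := fun s => pullback.lift_snd _ _ _
  have hlfst : ∀ s, l s ≫ pullback.fst Y.hom ξ = s.1 := fun s => pullback.lift_fst _ _ _
  let Φ : FEt.fiberObj ξ Y → (Γ(P, ⊤) →ₐ[Ω] Ω) := fun s =>
    { toRingHom := ((l s).appTop ≫ (Scheme.ΓSpecIso (CommRingCat.of Ω)).hom).hom
      commutes' := by
        intro r
        have h1 : ρ ≫ (l s).appTop ≫ (Scheme.ΓSpecIso (CommRingCat.of Ω)).hom = 𝟙 _ := by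
          have h2 : π.appTop ≫ (l s).appTop = 𝟙 _ := by
            rw [← Scheme.Hom.comp_appTop, hlπ s]
            rfl
          simp only [ρ, Category.assoc]
          rw [reassoc_of% h2, Iso.inv_hom_id]
        have := congrArg (fun m => m.hom r) h1
        exact this }
  refine Finite.of_injective Φ ?_
  intro s t hst
  have h1 : ((l s).appTop ≫ (Scheme.ΓSpecIso (CommRingCat.of Ω)).hom).hom =
      ((l t).appTop ≫ (Scheme.ΓSpecIso (CommRingCat.of Ω)).hom).hom :=
    congrArg (fun φ : Γ(P, ⊤) →ₐ[Ω] Ω => φ.toRingHom) hst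
  have h2 : (l s).appTop = (l t).appTop := by
    have h3 := CommRingCat.hom_ext h1
    exact (cancel_mono (Scheme.ΓSpecIso (CommRingCat.of Ω)).hom).1 h3
  have h3 : l s = l t := ext_of_isAffine h2
  apply Subtype.ext
  rw [← hlfst s, ← hlfst t, h3]

end Groth.Agent.S0294
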