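import Groth.Statements.S0300
import Mathlib

set_option autoImplicit false
universe u v
open InjHull

namespace Groth.Agent.S0300

/-- Over a Noetherian ring, injectivity of modules is preserved under arbitrary direct sums. -/
theorem result (R : Type u) [CommRing R] [IsNoetherianRing R] {ι : Type u} (E : ι → Type u) [∀ i, AddCommGroup (E i)] [∀ i, Module R (E i)] (hE : ∀ i, Module.Injective R (E i)) : Module.Injective R (DirectSum ι E) := by
  classical
  apply Module.Baer.injective
  intro I g
  obtain ⟨s, rfl⟩ : I.FG := IsNoetherian.noetherian I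
  -- a finite set of indices containing the supports of the images of the generators
  let F : Finset ι := s.biUnion fun a =>
    if h : a ∈ Ideal.span (s : Set R) then DFinsupp.support (g ⟨a, h⟩) else ∅
  have hF : ∀ (x : R) (hx : x ∈ Ideal.span (s : Set R)) (i : ι), i ∉ F → g ⟨x, hx⟩ i = 0 := by
    intro x hx i hi
    induction hx using Submodule.span_induction with
    | mem a ha =>
      have h1 : a ∈ Ideal.span (s : Set R) := Ideal.subset_span ha
      by_contra hne
      apply hi
      rw [Finset.mem_biUnion]
      refine ⟨a, ha, ?_⟩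
      rw [dif_pos h1, DFinsupp.mem_support_iff]
      exact hne
    | zero =>
      have : (⟨0, Submodule.zero_mem _⟩ : Ideal.span (s : Set R)) = 0 := rfl
      rw [this, map_zero]
      rfl
    | add a b ha hb h1 h2 =>
      have : (⟨a + b, Submodule.add_mem _ ha hb⟩ : Ideal.span (s : Set R)) = ⟨a, ha⟩ + ⟨b, hb⟩ := rfl
      rw [this, map_add, DirectSum.add_apply, h1, h2, add_zero]
    | smul r a ha h1 =>
      have : (⟨r • a, Submodule.smul_mem _ r ha⟩ : Ideal.span (s : Set R)) = r • ⟨a, ha⟩ := rfl
      rw [this, map_smul, DirectSum.smul_apply, h1, smul_zero]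
  -- extend each component
  have hext : ∀ i, ∃ g' : R →ₗ[R] E i, ∀ (x : R) (mem : x ∈ Ideal.span (s : Set R)),
      g' x = (DirectSum.component R ι E i ∘ₗ g) ⟨x, mem⟩ :=
    fun i => Module.Baer.of_injective (hE i) _ _
  choose g' hg' using hext
  refine ⟨∑ i ∈ F, DirectSum.lof R ι E i ∘ₗ g' i, fun x hx => ?_⟩
  refine DirectSum.ext_component R fun j => ?_
  rw [LinearMap.sum_apply, map_sum]
  by_cases hj : j ∈ F
  · rw [Finset.sum_eq_single j]
    · rw [LinearMap.comp_apply, DirectSum.component.lof_self, hg' j x hx]
      rfl
    · intro i _ hij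
      rw [LinearMap.comp_apply, DirectSum.component.of, dif_neg hij]
    · intro h
      exact absurd hj h
  · rw [Finset.sum_eq_zero]
    · exact (hF x hx j hj).symm
    · intro i hi
      have hij : i ≠ j := fun h => hj (h ▸ hi)
      rw [LinearMap.comp_apply, DirectSum.component.of, dif_neg hij]

end Groth.Agent.S0300
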