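import Groth.Statements.S0304
import Groth.Agent.Lib.Helper1.InjHullIndec

set_option autoImplicit false
universe u v
open InjHull

namespace Groth.Agent.S0304

/-- Let R be a commutative ring and E an indecomposable injective R-module. Then any two nonzero
submodules of E have nonzero intersection, and the set of elements r ∈ R such that r·x = 0 for some
nonzero x ∈ E is a prime ideal of R. -/
theorem result (R : Type u) [CommRing R] (E : Type u) [AddCommGroup E] [Module R E] (hE : InjHull.IsIndecomposable R E) (hinj : Module.Injective R E) : (∀ N N' : Submodule R E, N ≠ ⊥ → N' ≠ ⊥ → N ⊓ N' ≠ ⊥) ∧ ∃ p : Ideal R, p.IsPrime ∧ (p : Set R) = {r : R | ∃ x : E, x ≠ 0 ∧ r • x = 0} := by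
  have hess := fun N hN => Groth.Agent.Helper1.essIn_top_of_indecomposable hE hinj N hN
  have hnt := hE.1
  refine ⟨fun N N' hN hN' => ?_, ?_⟩
  · obtain ⟨x, hx, hx0⟩ := (Submodule.ne_bot_iff _).mp hN'
    obtain ⟨r, hr, hr0⟩ := hess N hN x Submodule.mem_top hx0
    exact (Submodule.ne_bot_iff _).mpr ⟨r • x, ⟨hr, N'.smul_mem r hx⟩, hr0⟩
  · have key : ∀ x y : E, x ≠ 0 → y ≠ 0 → ∃ a b : R, a • x = b • y ∧ a • x ≠ 0 := by
      intro x y hx hy
      have hN : Submodule.span R {y} ≠ ⊥ := by
        rw [Ne, Submodule.span_singleton_eq_bot]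
        exact hy
      obtain ⟨a, ha, ha0⟩ := hess _ hN x Submodule.mem_top hx
      obtain ⟨b, hb⟩ := Submodule.mem_span_singleton.mp ha
      exact ⟨a, b, hb.symm, ha0⟩
    let p : Ideal R :=
      { carrier := {r : R | ∃ x : E, x ≠ 0 ∧ r • x = 0}
        zero_mem' := by
          obtain ⟨x, hx⟩ := exists_ne (0 : E)
          exact ⟨x, hx, zero_smul R x⟩
        add_mem' := by
          rintro r s ⟨x, hx, hrx⟩ ⟨y, hy, hsy⟩
          obtain ⟨a, b, hab, ha0⟩ := key x y hx hy
          refine ⟨a • x, ha0, ?_⟩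
          rw [add_smul, smul_comm r a x, hrx, smul_zero, zero_add, hab, smul_comm s b y, hsy,
            smul_zero]
        smul_mem' := by
          rintro c r ⟨x, hx, hrx⟩
          exact ⟨x, hx, by rw [smul_eq_mul, mul_smul, hrx, smul_zero]⟩ }
    refine ⟨p, ?_, rfl⟩
    rw [Ideal.isPrime_iff]
    constructor
    · intro h
      have h1 : (1 : R) ∈ p := by
        rw [h]
        exact Submodule.mem_top
      obtain ⟨x, hx, hx1⟩ := h1
      rw [one_smul] at hx1
      exact hx hx1
    · rintro r s ⟨x, hx, hrs⟩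
      by_cases hsx : s • x = 0
      · exact Or.inr ⟨x, hx, hsx⟩
      · exact Or.inl ⟨s • x, hsx, by rw [← mul_smul]; exact hrs⟩

end Groth.Agent.S0304
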