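import Groth.Statements.S0318
import Groth.Agent.Lib.Helper8.LCSup
import Groth.Agent.Lib.Lead.Depth3

set_option autoImplicit false
universe u v
open LocCoh

namespace Groth.Agent.S0318

open Groth.Agent.Helper8.LC Groth.Agent.Lead.Depth Pointwise

theorem H_zero_subsingleton_of_regular {R : Type u} [CommRing R] (I : Ideal R) (M : Type u)
    [AddCommGroup M] [Module R M] {x : R} (hxI : x ∈ I) (hx : IsSMulRegular M x) :
    Subsingleton (Groth.Agent.Helper8.LC.H I 0 M) := by
  apply H_subsingleton_of_smul_injective I 0 M hxI
  have h := Hmap_zero_injective I (f := x • (LinearMap.id : M →ₗ[R] M)) hx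
  intro a b hab
  apply h
  rw [Hmap_smul_id, Hmap_smul_id]
  exact hab

theorem le_idealDepth_iff_H {R : Type u} [CommRing R] [IsNoetherianRing R] (I : Ideal R) :
    ∀ (n : ℕ) (M : Type u) [AddCommGroup M] [Module R M] [Module.Finite R M],
      I • (⊤ : Submodule R M) ≠ ⊤ →
      ((n : ℕ∞) ≤ LocCoh.idealDepth I M ↔
        ∀ i : ℕ, i < n → Subsingleton (Groth.Agent.Helper8.LC.H I i M)) := by
  intro n
  induction n with
  | zero =>
    intro M _ _ _ hIM
    simp
  | succ n ih =>
    intro M _ _ _ hIM
    constructor
    · intro h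
      obtain ⟨rs, hlen, hrs, hI⟩ := exists_of_le_idealDepth I M hIM (n + 1) h
      match rs, hlen, hrs, hI with
      | x :: rs', hlen, hrs, hI =>
        have hxI : x ∈ I := hI x (List.mem_cons_self)
        have hreg : IsSMulRegular M x :=
          ((RingTheory.Sequence.isWeaklyRegular_cons_iff M x rs').mp hrs).1
        have hdep := idealDepth_quotSMulTop_add_one I M hIM x hxI hreg
        have hIQ := smul_top_quotSMulTop_ne_top hxI hIM
        have h' : (n : ℕ∞) ≤ LocCoh.idealDepth I (QuotSMulTop x M) := by
          rw [← hdep] at h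
          have h2 : ((n : ℕ∞) + 1) ≤ LocCoh.idealDepth I (QuotSMulTop x M) + 1 := by
            exact_mod_cast h
          exact (ENat.add_le_add_iff_right (by simp)).mp h2
        have hQ := (ih (QuotSMulTop x M) hIQ).mp h'
        intro i hi
        rcases Nat.eq_zero_or_pos i with rfl | hpos
        · exact H_zero_subsingleton_of_regular I M hxI hreg
        · obtain ⟨j, rfl⟩ : ∃ j, i = j + 1 := ⟨i - 1, by omega⟩
          have : Subsingleton (Groth.Agent.Helper8.LC.H I j (M ⧸ x • (⊤ : Submodule R M))) :=
            hQ j (by omega)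
          exact H_subsingleton_succ_of_regular I j M hxI hreg
    · intro h
      have h0 := h 0 (by omega)
      obtain ⟨x, hxI, hreg⟩ :=
        exists_regular_of_gam_eq_bot I M (gam_eq_bot_of_H_zero_subsingleton I M)
      have hdep := idealDepth_quotSMulTop_add_one I M hIM x hxI hreg
      have hIQ := smul_top_quotSMulTop_ne_top hxI hIM
      have hses := isSES_smul M hreg
      have hQ : ∀ i : ℕ, i < n → Subsingleton (Groth.Agent.Helper8.LC.H I i (QuotSMulTop x M)) := by
        intro i hi
        have := h i (by omega)
        have := h (i + 1) (by omega)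
        exact hses.subsingleton_right I i
      have h' := (ih (QuotSMulTop x M) hIQ).mpr hQ
      rw [← hdep]
      push_cast
      exact add_le_add_left h' 1


/-- Part (1): =(3): for a finite module M over a Noetherian ring and an ideal I with IM ≠ M, the I-depth
of M is the least degree in which the local cohomology of M with support in I is nonzero. -/
theorem result (R : Type u) [CommRing R] [IsNoetherianRing R] (I : Ideal R) (M : Type u) [AddCommGroup M] [Module R M] [Module.Finite R M] (hIM : I • (⊤ : Submodule R M) ≠ ⊤) (n : ℕ) : LocCoh.idealDepth I M = n ↔ ((∀ i : ℕ, i < n → Subsingleton (LocCoh.H I i M)) ∧ Nontrivial (LocCoh.H I n M)) := by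
  have h1 := le_idealDepth_iff_H I n M hIM
  have h2 := le_idealDepth_iff_H I (n + 1) M hIM
  constructor
  · intro h
    have hn : (n : ℕ∞) ≤ LocCoh.idealDepth I M := by rw [h]
    have hn1 : ¬ ((n + 1 : ℕ) : ℕ∞) ≤ LocCoh.idealDepth I M := by
      rw [h]
      intro hh
      have : n + 1 ≤ n := by exact_mod_cast hh
      omega
    refine ⟨h1.mp hn, ?_⟩
    by_contra hcon
    rw [not_nontrivial_iff_subsingleton] at hcon
    apply hn1
    rw [h2]
    intro i hi
    rcases Nat.lt_succ_iff_lt_or_eq.mp hi with hlt | rfl
    · exact h1.mp hn i hlt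
    · exact hcon
  · rintro ⟨hv, hnt⟩
    have hn : (n : ℕ∞) ≤ LocCoh.idealDepth I M := h1.mpr hv
    have hn1 : ¬ ((n + 1 : ℕ) : ℕ∞) ≤ LocCoh.idealDepth I M := by
      intro hh
      have := h2.mp hh n (by omega)
      exact not_subsingleton _ this
    apply le_antisymm _ hn
    by_contra hcon
    push Not at hcon
    apply hn1
    push_cast
    exact Order.add_one_le_of_lt hcon

end Groth.Agent.S0318
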