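import Groth.Statements.S0328
import Groth.Agent.Lib.Helper8.LCGNV2

set_option autoImplicit false
universe u v
open LocCoh

namespace Groth.Agent.S0328
open Groth.Agent.Helper8.LC

/-- In a Noetherian local ring, if a prime p and a proper ideal I together have radical the maximal
ideal and dim R/p = d ≥ 1, then local cohomology with support in I does not vanish in all degrees ≥
d. -/
theorem result (R : Type u) [CommRing R] [IsLocalRing R] [IsNoetherianRing R] (I : Ideal R) (hI : I ≠ ⊤) (p : Ideal R) [p.IsPrime] (hpI : (p ⊔ I).radical = IsLocalRing.maximalIdeal R) (d : ℕ) (hd : ringKrullDim (R ⧸ p) = d) (hd1 : 1 ≤ d) : ¬ LocCoh.CdLE R I (d - 1) := by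
  intro hcd
  have h1 : Nontrivial (LocCoh.H I d (R ⧸ p)) := nontrivial_H_quotient_prime I p hpI d hd
  have h2 : Subsingleton (LocCoh.H I d (R ⧸ p)) := hcd (R ⧸ p) d (by omega)
  exact not_subsingleton _ h2

end Groth.Agent.S0328
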