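import Groth.Statements.S0330
import Groth.Agent.Lib.Helper8.LCLocFin

set_option autoImplicit false
universe u v
open LocCoh

namespace Groth.Agent.S0330
open Groth.Agent.Helper8.LC


/-- For a finite module M over a Noetherian ring, finiteness of the local cohomology modules H^i_I(M)
for i ≤ n can be checked after localizing at each prime. -/
theorem result (R : Type u) [CommRing R] [IsNoetherianRing R] (I : Ideal R) (M : Type u) [AddCommGroup M] [Module R M] [Module.Finite R M] (n : ℕ) : (∀ i : ℕ, i ≤ n → Module.Finite R (LocCoh.H I i M)) ↔ ∀ (p : Ideal R) [p.IsPrime], ∀ i : ℕ, i ≤ n → Module.Finite (Localization.AtPrime p) (LocalizedModule p.primeCompl (LocCoh.H I i M)) := by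
  constructor
  · intro h p _ i hi
    have := h i hi
    infer_instance
  · intro h
    exact finite_H_of_forall_localized_finite I n M h

end Groth.Agent.S0330
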