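import Groth.Statements.S0354
import Groth.Agent.Lib.Helper12.GrpDim

set_option autoImplicit false
universe u v
open CategoryTheory MonoidalCategory CartesianMonoidalCategory MonObj GrpObj AlgebraicGeometry
open GrpSch

namespace Groth.Agent.S0354

/-- In a group scheme locally of finite type over a field, the local ring at every closed point has
Krull dimension equal to the dimension of the whole scheme. -/
theorem result (K : Type u) [Field K] (G : Over (Spec (CommRingCat.of K))) [GrpObj G] [LocallyOfFiniteType G.hom] (g : G.left) (hg : IsClosed ({g} : Set G.left)) : ringKrullDim (G.left.presheaf.stalk g) = topologicalKrullDim G.left := by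
  letI : G.left.Over (Spec (CommRingCat.of K)) := ⟨G.hom⟩
  haveI : LocallyOfFiniteType (G.left ↘ Spec (CommRingCat.of K)) :=
    ‹LocallyOfFiniteType G.hom›
  have h0 := Groth.Agent.Helper12.GrpDim.trdeg_eq_zero_of_isClosed K G.left g hg
  have h1 := Groth.Agent.Helper14.LocalDimSch.localDim_eq K G.left g 0 (by rw [h0]; rfl)
  rw [Groth.Agent.Helper12.GrpDim.localDim_eq_dim G g] at h1
  rw [h1]
  simp

end Groth.Agent.S0354
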