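import Groth.Statements.S0358
import Mathlib
import Groth.Agent.Lib.Lead.Flat7
import Groth.Agent.Lib.Lead.Bass5

set_option autoImplicit false
universe u v
open LocCoh

namespace Groth.Agent.S0358

/-- For a flat local homomorphism R → S of Noetherian local rings whose closed fibre S/m_R S is
Cohen–Macaulay, and a proper ideal I of S, the I-depth of S is at least dim(S/m_R S) − dim(S/(m_R S
+ I)); stated additively. -/
theorem result (R : Type u) [CommRing R] [IsLocalRing R] [IsNoetherianRing R] (S : Type u) [CommRing S] [IsLocalRing S] [IsNoetherianRing S] [Algebra R S] [IsLocalHom (algebraMap R S)] [Module.Flat R S] (hCM : LocCoh.IsCohenMacaulayLocalRing (S ⧸ (IsLocalRing.maximalIdeal R).map (algebraMap R S))) (I : Ideal S) (hI : I ≠ ⊤) : ringKrullDim (S ⧸ (IsLocalRing.maximalIdeal R).map (algebraMap R S)) ≤ ringKrullDim (S ⧸ ((IsLocalRing.maximalIdeal R).map (algebraMap R S) ⊔ I)) + ((LocCoh.idealDepth I S : ℕ∞) : WithBot ℕ∞) := by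
  classical
  haveI hloc : IsLocalRing (S ⧸ (IsLocalRing.maximalIdeal R).map (algebraMap R S)) :=
    hCM.toIsLocalRing
  set mS := (IsLocalRing.maximalIdeal R).map (algebraMap R S) with hmS
  set J : Ideal (S ⧸ mS) := I.map (Ideal.Quotient.mk mS) with hJ
  have hJtop : J ≠ ⊤ := by
    intro h
    have h1 := Ideal.comap_map_of_surjective (Ideal.Quotient.mk mS) Ideal.Quotient.mk_surjective I
    rw [← hJ, h, Ideal.comap_top, ← RingHom.ker_eq_comap_bot, Ideal.mk_ker] at h1
    have hle : I ⊔ mS ≤ IsLocalRing.maximalIdeal S :=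
      sup_le (IsLocalRing.le_maximalIdeal hI) (IsLocalRing.map_maximalIdeal_le _)
    exact (IsLocalRing.maximalIdeal.isMaximal S).ne_top (top_le_iff.mp (h1.le.trans hle))
  have h1 := Groth.Agent.Lead.Depth.supportDim_eq_add_idealDepth_of_CM J hJtop (S ⧸ mS)
    hCM.supportDim_eq_depth
  rw [Module.supportDim_self_eq_ringKrullDim] at h1
  have h2 : Module.supportDim (S ⧸ mS) ((S ⧸ mS) ⧸ J • (⊤ : Submodule (S ⧸ mS) (S ⧸ mS))) =
      ringKrullDim (S ⧸ (mS ⊔ I)) := by
    have : J • (⊤ : Submodule (S ⧸ mS) (S ⧸ mS)) = J := by simp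
    rw [this, Module.supportDim_quotient_eq_ringKrullDim]
    exact ringKrullDim_eq_of_ringEquiv (DoubleQuot.quotQuotEquivQuotSup mS I)
  have h3 : LocCoh.idealDepth J (S ⧸ mS) = LocCoh.idealDepth I (S ⧸ mS) :=
    (Groth.Agent.Helper21.DF.idealDepth_eq_map (A := S) (B := S ⧸ mS) I (S ⧸ mS)).symm
  have h4 : LocCoh.idealDepth I (S ⧸ mS) ≤ LocCoh.idealDepth I S := by
    have h5 := Groth.Agent.Lead.FlatDepth.idealDepth_fibre_le (R := R) I hI S
    have e : (S ⧸ mS • (⊤ : Submodule S S)) ≃ₗ[S] (S ⧸ mS) :=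
      Submodule.quotEquivOfEq _ _ (by simp)
    rwa [Groth.Agent.Lead.Depth.idealDepth_congr I e] at h5
  rw [h1, h2, h3]
  exact add_le_add_right (WithBot.coe_le_coe.mpr h4) _

end Groth.Agent.S0358
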