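import Groth.Statements.S2085
import Mathlib
import Groth.Agent.Lib.Helper9.Depth
-- import your own Groth.Agent.* helpers here

set_option autoImplicit false
universe u
open CAlg

namespace Groth.Agent.S2085

section
open IsLocalRing

variable {R M : Type u} [CommRing R] [AddCommGroup M] [Module R M]

lemma comap_mem_support (p : Ideal R) [p.IsPrime]
    (Q : PrimeSpectrum (Localization.AtPrime p))
    (hQ : Q ∈ Module.support (Localization.AtPrime p) (LocalizedModule p.primeCompl M)) :
    PrimeSpectrum.comap (algebraMap R (Localization.AtPrime p)) Q ∈ Module.support R M := by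
  rw [Module.mem_support_iff'] at hQ ⊢
  obtain ⟨y, hy⟩ := hQ
  induction y using LocalizedModule.induction_on with
  | _ m s =>
    refine ⟨m, fun a ha h0 => ?_⟩
    have ha' : algebraMap R (Localization.AtPrime p) a ∉ Q.asIdeal := ha
    apply hy _ ha'
    rw [algebraMap_smul, LocalizedModule.smul'_mk, h0, LocalizedModule.zero_mk]

lemma map_mem_support (p : Ideal R) [p.IsPrime] (q : PrimeSpectrum R)
    (hq : q ∈ Module.support R M) (hqp : q.asIdeal ≤ p) :
    ∃ Q ∈ Module.support (Localization.AtPrime p) (LocalizedModule p.primeCompl M),
      Q.asIdeal.comap (algebraMap R (Localization.AtPrime p)) = q.asIdeal := by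
  have hdisj : Disjoint (p.primeCompl : Set R) (q.asIdeal : Set R) := by
    rw [Set.disjoint_left]
    intro x hx hxq
    exact hx (hqp hxq)
  have hprime : (Ideal.map (algebraMap R (Localization.AtPrime p)) q.asIdeal).IsPrime :=
    IsLocalization.isPrime_of_isPrime_disjoint p.primeCompl _ _ q.2 hdisj
  refine ⟨⟨_, hprime⟩, ?_, ?_⟩
  · rw [Module.mem_support_iff'] at hq ⊢
    obtain ⟨m, hm⟩ := hq
    refine ⟨LocalizedModule.mk m 1, fun a ha h0 => ha ?_⟩
    obtain ⟨r, s, rfl⟩ := IsLocalization.exists_mk'_eq p.primeCompl a
    have h1 : IsLocalization.mk' (Localization.AtPrime p) r s • LocalizedModule.mk m (1 : p.primeCompl)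
        = LocalizedModule.mk (r • m) s := by
      rw [← Localization.mk_eq_mk', LocalizedModule.mk_smul_mk, mul_one]
    rw [h1, ← LocalizedModule.zero_mk s, LocalizedModule.mk_eq] at h0
    obtain ⟨u, hu⟩ := h0
    rw [smul_zero, smul_zero] at hu
    have ht : ((u * s : p.primeCompl) : R) • r • m = 0 := by
      rw [Submonoid.coe_mul, mul_smul]
      exact hu
    set t : p.primeCompl := u * s with htdef
    have hrq : r ∈ q.asIdeal := by
      by_contra hr
      have htq : (t : R) ∉ q.asIdeal := fun h => t.2 (hqp h)
      have : (t : R) * r ∉ q.asIdeal := fun h => (q.2.mem_or_mem h).elim htq hr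
      apply hm _ this
      rw [mul_smul]
      exact ht
    show IsLocalization.mk' (Localization.AtPrime p) r s ∈
      Ideal.map (algebraMap R (Localization.AtPrime p)) q.asIdeal
    rw [IsLocalization.mk'_mem_map_algebraMap_iff p.primeCompl]
    exact ⟨1, Submonoid.one_mem _, by simpa using hrq⟩
  · exact IsLocalization.under_map_of_isPrime_disjoint p.primeCompl _ q.2 hdisj

lemma depth_zero_iff [IsNoetherianRing R] [Module.Finite R M] (p : Ideal R) [p.IsPrime] :
    LocCoh.depth (Localization.AtPrime p) (LocalizedModule p.primeCompl M) = 0 ↔
      p ∈ associatedPrimes R M := by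
  rw [Groth.Agent.Helper9.Depth.depth_eq_zero_iff_mem_associatedPrimes]
  rw [← Module.associatedPrimes.preimage_comap_associatedPrimes_eq_associatedPrimes_of_isLocalizedModule
    p.primeCompl (Localization.AtPrime p) (LocalizedModule.mkLinearMap p.primeCompl M)]
  rw [Set.mem_preimage]
  have : Ideal.comap (algebraMap R (Localization.AtPrime p)) (maximalIdeal (Localization.AtPrime p)) = p :=
    Localization.AtPrime.under_maximalIdeal
  rw [this]

theorem main {R M : Type u} [CommRing R] [IsNoetherianRing R] [AddCommGroup M] [Module R M]
    [Module.Finite R M] :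
    (∀ p ∈ associatedPrimes R M, p ∈ (Module.annihilator R M).minimalPrimes) ↔
      LocCoh.HasSk 1 R M := by
  constructor
  · intro h p hp
    by_cases hd : LocCoh.depth (Localization.AtPrime p) (LocalizedModule p.primeCompl M) = 0
    · have hass := (depth_zero_iff p).mp hd
      have hmin := h p hass
      rw [hd]
      refine le_trans (min_le_right _ _) ?_
      -- support is a subsingleton
      have hsub : Subsingleton (Module.support (Localization.AtPrime p)
          (LocalizedModule p.primeCompl M)) := by
        have key : ∀ Q ∈ Module.support (Localization.AtPrime p)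
            (LocalizedModule p.primeCompl M), Q.asIdeal = maximalIdeal (Localization.AtPrime p) := by
          intro Q hQ
          have h1 := comap_mem_support p Q hQ
          have h2 : Module.annihilator R M ≤ Q.asIdeal.comap (algebraMap R (Localization.AtPrime p)) :=
            Module.annihilator_le_of_mem_support h1
          have h3 : Q.asIdeal.comap (algebraMap R (Localization.AtPrime p)) ≤ p := by
            have e0 : Ideal.comap (algebraMap R (Localization.AtPrime p))
                (maximalIdeal (Localization.AtPrime p)) = p :=
              Localization.AtPrime.under_maximalIdeal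
            exact le_trans (Ideal.comap_mono (IsLocalRing.le_maximalIdeal Q.2.ne_top)) (le_of_eq e0)
          have h4 : p ≤ Q.asIdeal.comap (algebraMap R (Localization.AtPrime p)) :=
            hmin.2 ⟨Q.2.comap _, h2⟩ h3
          have h5 : Q.asIdeal.comap (algebraMap R (Localization.AtPrime p)) = p := le_antisymm h3 h4
          refine le_antisymm (IsLocalRing.le_maximalIdeal Q.2.ne_top) ?_
          rw [← Localization.AtPrime.map_eq_maximalIdeal (I := p), Ideal.map_le_iff_le_comap]
          exact h4
        refine ⟨fun a b => Subtype.ext (PrimeSpectrum.ext ?_)⟩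
        rw [key a.1 a.2, key b.1 b.2]
      unfold Module.supportDim
      exact Order.krullDim_nonpos_of_subsingleton
    · have h1 : (1 : ℕ∞) ≤ LocCoh.depth (Localization.AtPrime p) (LocalizedModule p.primeCompl M) :=
        Order.one_le_iff_pos.mpr (pos_iff_ne_zero.mpr hd)
      refine le_trans (min_le_left _ _) ?_
      exact_mod_cast h1
  · intro h p hp
    have hprime : p.IsPrime := hp.isPrime
    have hd := (depth_zero_iff p).mpr hp
    have hS := h p
    rw [hd] at hS
    have hann : Module.annihilator R M ≤ p := by
      have := IsAssociatedPrime.annihilator_le hp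
      exact le_of_eq_of_le Submodule.annihilator_top.symm this
    refine ⟨⟨hprime, hann⟩, ?_⟩
    rintro q ⟨hqprime, hqann⟩ hqp
    have hqsupp : (⟨q, hqprime⟩ : PrimeSpectrum R) ∈ Module.support R M := by
      rw [Module.mem_support_iff_of_finite]
      exact hqann
    have hpsupp : (⟨p, hprime⟩ : PrimeSpectrum R) ∈ Module.support R M := by
      rw [Module.mem_support_iff_of_finite]
      exact hann
    obtain ⟨Q, hQ, hQq⟩ := map_mem_support p ⟨q, hqprime⟩ hqsupp hqp
    obtain ⟨P, hP, hPp⟩ := map_mem_support p ⟨p, hprime⟩ hpsupp le_rfl
    -- supportDim ≤ 0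
    have hdim : Module.supportDim (Localization.AtPrime p) (LocalizedModule p.primeCompl M) ≤ 0 := by
      by_contra hcon
      push Not at hcon
      have : min ((1 : ℕ) : WithBot ℕ∞)
          (Module.supportDim (Localization.AtPrime p) (LocalizedModule p.primeCompl M)) > 0 := by
        rw [gt_iff_lt, lt_min_iff]
        exact ⟨by norm_num, hcon⟩
      exact absurd hS (not_le.mpr (by simpa using this))
    -- Q ≤ P in support
    have hQP : Q.asIdeal ≤ P.asIdeal := by
      have : P.asIdeal = maximalIdeal (Localization.AtPrime p) := by
        refine le_antisymm (IsLocalRing.le_maximalIdeal P.2.ne_top) ?_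
        rw [← Localization.AtPrime.map_eq_maximalIdeal (I := p), Ideal.map_le_iff_le_comap, hPp]
      rw [this]
      exact IsLocalRing.le_maximalIdeal Q.2.ne_top
    by_contra hne
    have hlt : (⟨Q, hQ⟩ : Module.support (Localization.AtPrime p)
        (LocalizedModule p.primeCompl M)) < ⟨P, hP⟩ := by
      refine lt_of_le_of_ne hQP ?_
      intro heq
      have : Q = P := congrArg Subtype.val heq
      apply hne
      show p ≤ q
      have e1 : q = Q.asIdeal.comap (algebraMap R (Localization.AtPrime p)) := hQq.symm
      have e2 : p = P.asIdeal.comap (algebraMap R (Localization.AtPrime p)) := hPp.symm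
      exact le_of_eq (e2.trans ((congrArg (fun X : PrimeSpectrum (Localization.AtPrime p) =>
        X.asIdeal.comap (algebraMap R (Localization.AtPrime p))) this.symm).trans e1.symm))
    have : (1 : WithBot ℕ∞) ≤ Module.supportDim (Localization.AtPrime p)
        (LocalizedModule p.primeCompl M) := by
      unfold Module.supportDim
      exact Order.one_le_krullDim_iff.mpr ⟨_, _, hlt⟩
    exact absurd (le_trans this hdim) (by norm_num)

end

/-- Let `M` be a finite module over a Noetherian ring `R`. Then every associated prime of `M` is minimal
in the support of `M` (no embedded primes) if and only if `M` satisfies Serre's condition `(S_1)`. -/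
theorem result {R M : Type u} [CommRing R] [IsNoetherianRing R] [AddCommGroup M] [Module R M]
    [Module.Finite R M] :
    (∀ p ∈ associatedPrimes R M, p ∈ (Module.annihilator R M).minimalPrimes) ↔ LocCoh.HasSk 1 R M := by
  exact Groth.Agent.S2085.main

end Groth.Agent.S2085
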