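import Groth.Statements.S0359
import Groth.Agent.Lib.Lead.Depth19
import Groth.Agent.S2085

set_option autoImplicit false
universe u v
open LocCoh

namespace Groth.Agent.S0359

open LocCoh IsLocalRing Groth.Agent.Lead.Depth RingTheory.Sequence

variable {R : Type u} [CommRing R] [IsNoetherianRing R]

theorem depth_quot_add_one (q : Ideal R) [q.IsPrime] (a : R) (ha : a ∈ q) (M : Type u)
    [AddCommGroup M] [Module R M] [Module.Finite R M]
    (hreg : IsSMulRegular (LocalizedModule q.primeCompl M)
      (algebraMap R (Localization.AtPrime q) a)) :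
    LocCoh.depth (Localization.AtPrime q) (LocalizedModule q.primeCompl (QuotSMulTop a M)) + 1 =
      LocCoh.depth (Localization.AtPrime q) (LocalizedModule q.primeCompl M) := by
  rw [depth_congr (R := Localization.AtPrime q) (localizedQuotSMulTopEquiv q a M)]
  by_cases hM : Subsingleton (LocalizedModule q.primeCompl M)
  · haveI := hM
    haveI : Subsingleton (QuotSMulTop (algebraMap R (Localization.AtPrime q) a)
        (LocalizedModule q.primeCompl M)) := by
      refine ⟨fun x y => ?_⟩
      obtain ⟨x', rfl⟩ := Submodule.Quotient.mk_surjective _ x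
      obtain ⟨y', rfl⟩ := Submodule.Quotient.mk_surjective _ y
      rw [Subsingleton.elim x' y']
    rw [depth_eq_top_of_subsingleton, depth_eq_top_of_subsingleton]
    rfl
  · rw [not_subsingleton_iff_nontrivial] at hM
    haveI := hM
    exact idealDepth_quotSMulTop_add_one (maximalIdeal (Localization.AtPrime q))
      (LocalizedModule q.primeCompl M) (maximalIdeal_smul_top_ne_top _) _
      ((IsLocalization.AtPrime.to_map_mem_maximal_iff _ q a).mpr ha) hreg

theorem exists_regular_nhd (p : Ideal R) [p.IsPrime] (a : R) (M : Type u)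
    [AddCommGroup M] [Module R M] [Module.Finite R M]
    (hreg : IsSMulRegular (LocalizedModule p.primeCompl M)
      (algebraMap R (Localization.AtPrime p) a)) :
    ∃ g : R, g ∉ p ∧ ∀ (q : Ideal R) [q.IsPrime], g ∉ q →
      IsSMulRegular (LocalizedModule q.primeCompl M)
        (algebraMap R (Localization.AtPrime q) a) := by
  classical
  rw [isSMulRegular_localizedModule_iff] at hreg
  obtain ⟨K, hK⟩ : ∃ K : Submodule R M, K = LinearMap.ker (LinearMap.lsmul R M a) := ⟨_, rfl⟩
  have hKmem : ∀ m, m ∈ K ↔ a • m = 0 := by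
    intro m
    rw [hK, LinearMap.mem_ker, LinearMap.lsmul_apply]
  have hfg : K.FG := IsNoetherian.noetherian K
  obtain ⟨T, hT⟩ := hfg
  have h1 : ∀ m ∈ T, ∃ v : R, v ∉ p ∧ v • m = 0 := by
    intro m hm
    have hmK : m ∈ K := hT ▸ Submodule.subset_span hm
    obtain ⟨v, hv, hvm⟩ := hreg m ⟨1, Submonoid.one_mem _, by
      rw [one_smul]
      exact (hKmem m).1 hmK⟩
    exact ⟨v, hv, hvm⟩
  choose! v hv hvm using h1
  have hgK : ∀ k ∈ K, (∏ m ∈ T, v m) • k = 0 := by
    intro k hk
    rw [← hT] at hk
    induction hk using Submodule.span_induction with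
    | mem x hx =>
      obtain ⟨c, hc⟩ := Finset.dvd_prod_of_mem v hx
      rw [hc, mul_comm, mul_smul, hvm x hx, smul_zero]
    | zero => rw [smul_zero]
    | add x y _ _ hx hy => rw [smul_add, hx, hy, add_zero]
    | smul r x _ hx => rw [smul_comm, hx, smul_zero]
  refine ⟨∏ m ∈ T, v m, ?_, ?_⟩
  · have h2 : (∏ m ∈ T, v m) ∈ p.primeCompl :=
      Submonoid.prod_mem _ (fun m hm => hv m hm)
    exact h2
  · intro q _ hgq
    rw [isSMulRegular_localizedModule_iff]
    rintro m ⟨u, hu, hum⟩
    have hK' : u • m ∈ K := by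
      rw [hKmem, smul_comm]
      exact hum
    refine ⟨(∏ m ∈ T, v m) * u, q.primeCompl.mul_mem hgq hu, ?_⟩
    rw [mul_smul]
    exact hgK _ hK'

theorem exists_regular_of_one_le_depth (p : Ideal R) [p.IsPrime] (M : Type u)
    [AddCommGroup M] [Module R M] [Module.Finite R M]
    [Nontrivial (LocalizedModule p.primeCompl M)]
    (h : 1 ≤ LocCoh.depth (Localization.AtPrime p) (LocalizedModule p.primeCompl M)) :
    ∃ a ∈ p, IsSMulRegular (LocalizedModule p.primeCompl M)
      (algebraMap R (Localization.AtPrime p) a) := by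
  have h' : ((1 : ℕ) : ℕ∞) ≤ idealDepth (maximalIdeal (Localization.AtPrime p))
      (LocalizedModule p.primeCompl M) := by
    rw [← depth_def]
    exact_mod_cast h
  obtain ⟨rs, hlen, hreg, hmem⟩ := exists_of_le_idealDepth
    (maximalIdeal (Localization.AtPrime p)) (LocalizedModule p.primeCompl M)
    (maximalIdeal_smul_top_ne_top _) 1 h'
  obtain ⟨x', rfl⟩ := List.length_eq_one_iff.mp hlen
  have hx'mem : x' ∈ maximalIdeal (Localization.AtPrime p) := hmem x' (by simp)
  have hx'reg : IsSMulRegular (LocalizedModule p.primeCompl M) x' :=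
    ((isWeaklyRegular_cons_iff _ x' []).mp hreg).1
  rw [← Localization.AtPrime.map_eq_maximalIdeal] at hx'mem
  obtain ⟨⟨⟨a, ha⟩, ⟨t, ht⟩⟩, hat⟩ :=
    (IsLocalization.mem_map_algebraMap_iff p.primeCompl (Localization.AtPrime p)).mp hx'mem
  simp only at hat
  have hunit : IsUnit (algebraMap R (Localization.AtPrime p) t) :=
    IsLocalization.map_units _ ⟨t, ht⟩
  refine ⟨a, ha, ?_⟩
  rw [← hat]
  exact hx'reg.mul (hunit.isSMulRegular _)

theorem enat_cancel {x y : ℕ∞} (h : x + 1 = y + 1) : x = y :=
  le_antisymm ((ENat.add_le_add_iff_right ENat.one_ne_top).mp h.le)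
    ((ENat.add_le_add_iff_right ENat.one_ne_top).mp h.ge)

theorem main (p : Ideal R) [hp : p.IsPrime] : ∀ (e : ℕ) (M : Type u) [AddCommGroup M] [Module R M]
    [Module.Finite R M],
    LocCoh.depth (Localization.AtPrime p) (LocalizedModule p.primeCompl M) = e →
    ∃ f : R, f ∉ p ∧ (∀ (q : Ideal R) [q.IsPrime], p ≤ q → f ∉ q → (e : ℕ∞) ≤ LocCoh.depth (Localization.AtPrime q) (LocalizedModule q.primeCompl M)) ∧ {q : PrimeSpectrum R | p ≤ q.asIdeal ∧ f ∉ q.asIdeal ∧ LocCoh.depth (Localization.AtPrime q.asIdeal) (LocalizedModule q.asIdeal.primeCompl M) = e}.Finite := by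
  intro e
  induction e with
  | zero =>
    intro M _ _ _ he
    refine ⟨1, ?_, ?_, ?_⟩
    · exact fun h => hp.ne_top ((Ideal.eq_top_iff_one p).2 h)
    · intro q _ _ _
      rw [Nat.cast_zero]
      exact bot_le
    · refine ((associatedPrimes.finite R M).preimage (f := PrimeSpectrum.asIdeal)
        (fun a _ b _ h => PrimeSpectrum.ext h)).subset ?_
      rintro q ⟨_, _, hq⟩
      rw [Set.mem_preimage]
      rw [Nat.cast_zero] at hq
      exact (Groth.Agent.S2085.depth_zero_iff q.asIdeal).1 hq
  | succ e ih =>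
    intro M _ _ _ he
    have hnt : Nontrivial (LocalizedModule p.primeCompl M) := by
      by_contra hns
      rw [not_nontrivial_iff_subsingleton] at hns
      haveI := hns
      rw [depth_eq_top_of_subsingleton] at he
      exact ENat.top_ne_natCast _ he
    have h1 : 1 ≤ LocCoh.depth (Localization.AtPrime p) (LocalizedModule p.primeCompl M) := by
      rw [he]
      exact_mod_cast Nat.le_add_left 1 e
    obtain ⟨a, hap, hareg⟩ := exists_regular_of_one_le_depth p M h1
    obtain ⟨g, hgp, hg⟩ := exists_regular_nhd p a M hareg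
    have hN : LocCoh.depth (Localization.AtPrime p)
        (LocalizedModule p.primeCompl (QuotSMulTop a M)) = e := by
      have h2 := depth_quot_add_one p a hap M hareg
      rw [he] at h2
      push_cast at h2
      exact enat_cancel h2
    obtain ⟨f', hf'p, hf'1, hf'2⟩ := ih (QuotSMulTop a M) hN
    refine ⟨g * f', ?_, ?_, ?_⟩
    · exact fun h => (hp.mem_or_mem h).elim hgp hf'p
    · intro q _ hpq hfq
      have hgq : g ∉ q := fun h => hfq (q.mul_mem_right _ h)
      have hf'q : f' ∉ q := fun h => hfq (q.mul_mem_left _ h)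
      have h2 := depth_quot_add_one q a (hpq hap) M (hg q hgq)
      rw [← h2]
      push_cast
      exact add_le_add_left (hf'1 q hpq hf'q) 1
    · refine hf'2.subset ?_
      rintro q ⟨hpq, hfq, hq⟩
      have hgq : g ∉ q.asIdeal := fun h => hfq (q.asIdeal.mul_mem_right _ h)
      have hf'q : f' ∉ q.asIdeal := fun h => hfq (q.asIdeal.mul_mem_left _ h)
      refine ⟨hpq, hf'q, ?_⟩
      have h2 := depth_quot_add_one q.asIdeal a (hpq hap) M (hg q.asIdeal hgq)
      rw [hq] at h2
      push_cast at h2
      exact enat_cancel h2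

end Groth.Agent.S0359

namespace Groth.Agent.S0359

/-- For a finite module M over a Noetherian ring and a prime p with depth(M_p) = e finite, there is a
basic open neighbourhood of p in V(p) on which the depth of the localizations of M is at least e,
and it exceeds e at all but finitely many of those primes. -/
theorem result (R : Type u) [CommRing R] [IsNoetherianRing R] (M : Type u) [AddCommGroup M] [Module R M] [Module.Finite R M] (p : Ideal R) [p.IsPrime] (e : ℕ) (he : LocCoh.depth (Localization.AtPrime p) (LocalizedModule p.primeCompl M) = e) : ∃ f : R, f ∉ p ∧ (∀ (q : Ideal R) [q.IsPrime], p ≤ q → f ∉ q → (e : ℕ∞) ≤ LocCoh.depth (Localization.AtPrime q) (LocalizedModule q.primeCompl M)) ∧ {q : PrimeSpectrum R | p ≤ q.asIdeal ∧ f ∉ q.asIdeal ∧ LocCoh.depth (Localization.AtPrime q.asIdeal) (LocalizedModule q.asIdeal.primeCompl M) = e}.Finite := by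
  exact Groth.Agent.S0359.main p e M he

end Groth.Agent.S0359
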