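import Groth.Statements.S0370
import Groth.Agent.Lib.Helper8.DualMod1

set_option autoImplicit false
universe u v
open CategoryTheory
attribute [local instance] HasDerivedCategory.standard
open Dual

namespace Groth.Agent.S0370

/-- A Noetherian ring admitting a finite module which, placed in degree 0, is a dualizing complex, is
Cohen–Macaulay. -/
theorem result (A : Type u) [CommRing A] [IsNoetherianRing A] (W : Type u) [AddCommGroup W] [Module A W] [Module.Finite A W] (h : Dual.IsDualizing A (Dual.inD A W)) : LocCoh.IsCohenMacaulayRing A := by
  obtain ⟨a, b, hab⟩ := h.finite_injective_dimension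
  have hann : Module.annihilator A W = ⊥ := by
    rw [eq_bot_iff]
    intro r hr
    rw [Module.mem_annihilator] at hr
    rw [Submodule.mem_bot]
    apply h.toEnd_bijective.injective
    show r • CategoryTheory.CategoryStruct.id (Dual.inD A W) =
      (0 : A) • CategoryTheory.CategoryStruct.id (Dual.inD A W)
    rw [zero_smul]
    have h1 : r • CategoryTheory.CategoryStruct.id (ModuleCat.of A W) = 0 := by
      ext w
      exact hr w
    have h2 : CategoryTheory.CategoryStruct.id (Dual.inD A W) =
        (DerivedCategory.singleFunctor (ModuleCat.{u} A) 0).map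
          (CategoryTheory.CategoryStruct.id (ModuleCat.of A W)) :=
      (CategoryTheory.Functor.map_id _ _).symm
    rw [h2, ← CategoryTheory.Functor.map_smul, h1, CategoryTheory.Functor.map_zero]
  refine Groth.Agent.Helper8.DualMod.isCohenMacaulayRing_of_faithful A W hann b.toNat ?_
  intro M _ _ _ i hi
  haveI : Subsingleton (Dual.inD A M ⟶ (CategoryTheory.shiftFunctor (Dual.D A) (i : ℤ)).obj (Dual.inD A W)) :=
    hab M (i : ℤ) (Or.inr (by omega))
  exact (CategoryTheory.Abelian.Ext.homEquiv (X := ModuleCat.of A M) (Y := ModuleCat.of A W)
    (n := i)).subsingleton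

end Groth.Agent.S0370
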