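import Groth.Statements.S0380
import Groth.Agent.Lib.Helper8.LCFlat2
import Mathlib.RingTheory.Localization.BaseChange
import Mathlib.RingTheory.Support

set_option autoImplicit false
universe u v
open LocCoh

namespace Groth.Agent.S0380

open Groth.Agent.Helper8.LC in

/-- Local cohomology with support in I vanishes above degree d on all modules exactly when, for every
prime p, local cohomology over A_p with support in I A_p vanishes above degree d on all A_p-modules. -/
theorem result (R : Type u) [CommRing R] [IsNoetherianRing R] (I : Ideal R) (d : ℕ) : LocCoh.CdLE R I d ↔ ∀ (p : Ideal R) [p.IsPrime], LocCoh.CdLE (Localization.AtPrime p) (I.map (algebraMap R (Localization.AtPrime p))) d := by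
  constructor
  · intro h p _ N _ _ i hi
    have hN : IsNoetherianRing (Localization.AtPrime p) :=
      IsLocalization.isNoetherianRing p.primeCompl _ inferInstance
    letI : Module R N := Module.compHom N (algebraMap R (Localization.AtPrime p))
    haveI : IsScalarTower R (Localization.AtPrime p) N :=
      ⟨fun r r' e => by
        change (r • r') • e = algebraMap R (Localization.AtPrime p) r • r' • e
        rw [Algebra.smul_def, mul_smul]⟩
    obtain ⟨e⟩ := exists_equiv_base I i (BMod.mk (R := R) (R' := Localization.AtPrime p) N)
    have h1 : Subsingleton (Groth.Agent.Helper8.LC.H I i N) := h N i hi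
    have h2 : Subsingleton (HA I i (BMod.mk (R := R) (R' := Localization.AtPrime p) N)) :=
      e.injective.subsingleton
    exact h2
  · intro h M _ _ i hi
    rw [← Module.support_eq_empty_iff (R := R), Set.eq_empty_iff_forall_notMem]
    intro p
    rw [Module.notMem_support_iff]
    have hN : IsNoetherianRing (Localization.AtPrime p.asIdeal) :=
      IsLocalization.isNoetherianRing p.asIdeal.primeCompl _ inferInstance
    have hF : Module.Flat R (Localization.AtPrime p.asIdeal) :=
      IsLocalization.flat _ p.asIdeal.primeCompl
    obtain ⟨e⟩ := exists_equiv_baseChange (R' := Localization.AtPrime p.asIdeal) I i (RMod.mk M)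
    have e1 : TensorProduct R (Localization.AtPrime p.asIdeal) (Groth.Agent.Helper8.LC.H I i M)
        ≃ₗ[Localization.AtPrime p.asIdeal]
        LocalizedModule p.asIdeal.primeCompl (Groth.Agent.Helper8.LC.H I i M) :=
      (LocalizedModule.isBaseChange p.asIdeal.primeCompl (Groth.Agent.Helper8.LC.H I i M)).equiv
    have h1 : Subsingleton (Groth.Agent.Helper8.LC.H
        (I.map (algebraMap R (Localization.AtPrime p.asIdeal))) i
        (TensorProduct R (Localization.AtPrime p.asIdeal) M)) :=
      h p.asIdeal (TensorProduct R (Localization.AtPrime p.asIdeal) M) i hi
    have h2 : Subsingleton (TensorProduct R (Localization.AtPrime p.asIdeal)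
        (Groth.Agent.Helper8.LC.H I i M)) := e.injective.subsingleton
    exact e1.symm.injective.subsingleton

end Groth.Agent.S0380
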