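import Groth.Statements.S0394
import Groth.Agent.Lib.Helper1.LocalFlat

set_option autoImplicit false
universe u
open FlatMor

namespace Groth.Agent.S0394

open TensorProduct in
/-- For a local homomorphism R → S of Noetherian local rings and a nonzero finite S-module M flat over R
whose fibre M/mM is free over S/mS (m the maximal ideal of R), M is free over S and S is flat over
R. -/
theorem result {R S M : Type u} [CommRing R] [CommRing S] [IsLocalRing R] [IsLocalRing S] [IsNoetherianRing R] [IsNoetherianRing S] [Algebra R S] [IsLocalHom (algebraMap R S)]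
    [AddCommGroup M] [Module R M] [Module S M] [IsScalarTower R S M] [Module.Finite S M] [Nontrivial M] [Module.Flat R M]
    (h : Module.Free (S ⧸ ((IsLocalRing.maximalIdeal R).map (algebraMap R S))) ((S ⧸ ((IsLocalRing.maximalIdeal R).map (algebraMap R S))) ⊗[S] M)) :
    Module.Free S M ∧ Module.Flat R S := by
  classical
  set mS : Ideal S := (IsLocalRing.maximalIdeal R).map (algebraMap R S) with hmS
  have hmS_lt : mS < ⊤ := IsLocalRing.map_maximalIdeal_lt_top (algebraMap R S)
  have hmS_le : mS ≤ Ideal.jacobson ⊥ :=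
    (IsLocalRing.map_maximalIdeal_le (algebraMap R S)).trans (IsLocalRing.maximalIdeal_le_jacobson _)
  haveI : Nontrivial (S ⧸ mS) := Ideal.Quotient.nontrivial_iff.mpr hmS_lt.ne
  obtain ⟨⟨ι, b⟩⟩ := h
  have hx : ∀ i, ∃ x : M, (1 : S ⧸ mS) ⊗ₜ[S] x = b i :=
    fun i => Groth.Agent.Helper1.exists_one_tmul_eq mS (b i)
  choose x hx using hx
  haveI : Finite ι := Module.Finite.finite_basis b
  let v : (ι →₀ S) →ₗ[S] M := Finsupp.linearCombination S x
  let u : (ι →₀ S) →ₗ[R] M := v.restrictScalars R
  -- Step A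
  have hA : v.baseChange (S ⧸ mS) =
      (((Finsupp.basisSingleOne (R := S) (ι := ι)).baseChange (S ⧸ mS)).equiv b
        (Equiv.refl ι)).toLinearMap := by
    refine ((Finsupp.basisSingleOne (R := S) (ι := ι)).baseChange (S ⧸ mS)).ext ?_
    intro i
    rw [Module.Basis.baseChange_apply, LinearMap.baseChange_tmul, LinearEquiv.coe_coe,
      ← Module.Basis.baseChange_apply, Module.Basis.equiv_apply]
    simp [v, hx]
  have hbij : Function.Bijective (v.lTensor (S ⧸ mS)) := by
    have : (v.lTensor (S ⧸ mS) : _ → _) = v.baseChange (S ⧸ mS) := rfl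
    rw [this, hA]
    exact LinearEquiv.bijective _
  -- Step B
  have hB : ∀ y, v y ∈ mS • (⊤ : Submodule S M) → y ∈ mS • (⊤ : Submodule S (ι →₀ S)) :=
    (Groth.Agent.Helper1.lTensor_quotient_injective_iff v mS).mp hbij.1
  have hRS : ∀ (P : Type u) [AddCommGroup P] [Module R P] [Module S P] [IsScalarTower R S P],
      (mS • (⊤ : Submodule S P)).restrictScalars R =
        IsLocalRing.maximalIdeal R • (⊤ : Submodule R P) := by
    intro P _ _ _ _
    rw [hmS, Ideal.smul_restrictScalars, Submodule.restrictScalars_top]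
  have h : Function.Injective (u.lTensor (IsLocalRing.ResidueField R)) := by
    refine (Groth.Agent.Helper1.lTensor_quotient_injective_iff u (IsLocalRing.maximalIdeal R)).mpr ?_
    intro y hy
    rw [← hRS] at hy ⊢
    exact hB y hy
  -- Step C
  have hinj : Function.Injective v :=
    Groth.Agent.Helper1.injective_of_injective_residueField S u h
  -- Step D
  have hsurj : Function.Surjective v := by
    rw [← LinearMap.range_eq_top, eq_top_iff]
    refine Submodule.le_of_le_smul_of_le_jacobson_bot (Module.finite_def.mp inferInstance)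
      hmS_le ?_
    intro y _
    obtain ⟨z, hz⟩ := hbij.2 ((1 : S ⧸ mS) ⊗ₜ[S] y)
    obtain ⟨n, rfl⟩ := Groth.Agent.Helper1.exists_one_tmul_eq mS z
    rw [LinearMap.lTensor_tmul] at hz
    have h0 : (1 : S ⧸ mS) ⊗ₜ[S] (y - v n) = 0 := by
      rw [TensorProduct.tmul_sub, hz, sub_self]
    rw [Groth.Agent.Helper1.one_tmul_eq_zero_iff] at h0
    rw [Submodule.mem_sup]
    exact ⟨v n, LinearMap.mem_range_self v n, y - v n, h0, by abel⟩
  -- Step E
  let e : (ι →₀ S) ≃ₗ[S] M := LinearEquiv.ofBijective v ⟨hinj, hsurj⟩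
  refine ⟨Module.Free.of_equiv e, ?_⟩
  haveI : Nonempty ι := by
    by_contra hne
    rw [not_nonempty_iff] at hne
    haveI : Subsingleton (ι →₀ S) := inferInstance
    exact not_subsingleton M e.symm.toEquiv.subsingleton
  obtain ⟨i₀⟩ := ‹Nonempty ι›
  haveI : Module.Flat R (ι →₀ S) := Module.Flat.of_linearEquiv (e.restrictScalars R)
  exact Module.Flat.of_retract ((Finsupp.lsingle i₀ : S →ₗ[S] ι →₀ S).restrictScalars R)
    ((Finsupp.lapply i₀ : (ι →₀ S) →ₗ[S] S).restrictScalars R)
    (by ext; simp)

end Groth.Agent.S0394
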