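import Groth.Statements.S0397
import Groth.Agent.Lib.Helper1.NilNakayama
import Mathlib.RingTheory.LocalRing.Module

set_option autoImplicit false
universe u
open FlatMor

namespace Groth.Agent.S0397

open TensorProduct in
/-- Over a local ring whose maximal ideal is nilpotent, every flat module (not necessarily finitely
generated) is free. -/
theorem result {R M : Type u} [CommRing R] [IsLocalRing R] (hR : IsNilpotent (IsLocalRing.maximalIdeal R))
    [AddCommGroup M] [Module R M] [Module.Flat R M] : Module.Free R M := by
  let w := Module.Free.chooseBasis (IsLocalRing.ResidueField R) (IsLocalRing.ResidueField R ⊗[R] M)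
  obtain ⟨v, eq⟩ := (TensorProduct.mk_surjective R M (IsLocalRing.ResidueField R)
    Ideal.Quotient.mk_surjective).comp_left w
  have eq' : (TensorProduct.mk R (IsLocalRing.ResidueField R) M 1) ∘ v = w := eq
  have hli : LinearIndependent R v :=
    Module.IsLocalRing.linearIndependent_of_flat _ (eq' ▸ w.linearIndependent)
  have hmap : (Submodule.span R (Set.range v)).map
      (TensorProduct.mk R (IsLocalRing.ResidueField R) M 1) = ⊤ := by
    rw [Submodule.map_span, ← Submodule.restrictScalars_span R (IsLocalRing.ResidueField R)
      Ideal.Quotient.mk_surjective, Submodule.restrictScalars_eq_top_iff,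
      ← w.span_eq, ← Set.range_comp]
    congr 1
    rw [← eq']
  have hsup : Submodule.span R (Set.range v) ⊔
      IsLocalRing.maximalIdeal R • (⊤ : Submodule R M) = ⊤ := by
    rw [eq_top_iff]
    intro x _
    have hx : TensorProduct.mk R (IsLocalRing.ResidueField R) M 1 x ∈
        (Submodule.span R (Set.range v)).map
          (TensorProduct.mk R (IsLocalRing.ResidueField R) M 1) := by
      rw [hmap]; trivial
    obtain ⟨n, hn, hnx⟩ := hx
    have hker : x - n ∈ LinearMap.ker (TensorProduct.mk R (IsLocalRing.ResidueField R) M 1) := by
      rw [LinearMap.mem_ker, map_sub, hnx, sub_self]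
    have hker' : x - n ∈ IsLocalRing.maximalIdeal R • (⊤ : Submodule R M) := by
      have := LinearMap.ker_tensorProductMk (R := R) (Q := M) (I := IsLocalRing.maximalIdeal R)
      rw [← this]
      exact hker
    have : x = n + (x - n) := by abel
    rw [this]
    exact Submodule.add_mem_sup hn hker'
  have hsp : Submodule.span R (Set.range v) = ⊤ :=
    Groth.Agent.Helper1.eq_top_of_sup_smul_eq_top_of_isNilpotent _ hR _ hsup
  exact Module.Free.of_basis (Module.Basis.mk hli hsp.ge)

end Groth.Agent.S0397
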