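import Groth.Statements.S0399
import Groth.Agent.Lib.Helper1.LocalCriterion

set_option autoImplicit false
universe u
open FlatMor

namespace Groth.Agent.S0399

open TensorProduct in
/-- For a ring A, a module M and an element f that is a nonzerodivisor on A and on M, if M_f is flat
over A_f and M/fM is flat over A/fA then M is flat over A (the source's companion statement for
faithful flatness is not stated). -/
theorem result {A M : Type u} [CommRing A] [AddCommGroup M] [Module A M] (f : A) (hA : f ∈ nonZeroDivisors A) (hM : IsSMulRegular M f)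
    [Module.Flat (Localization.Away f) (LocalizedModule (Submonoid.powers f) M)]
    [Module.Flat (A ⧸ Ideal.span {f}) ((A ⧸ Ideal.span {f}) ⊗[A] M)] : Module.Flat A M := by
  classical
  -- `M_f` is flat over `A`
  have hMf : Module.Flat A (LocalizedModule (Submonoid.powers f) M) :=
    (Module.flat_iff_of_isLocalization (Localization.Away f) (Submonoid.powers f)
      (LocalizedModule (Submonoid.powers f) M)).mp inferInstance
  -- Tor₁(A/f, M) = 0
  have H1 : Function.Injective ((Ideal.span {f}).subtype.rTensor M) := by
    rw [injective_iff_map_eq_zero]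
    intro x hx
    have hsurj : ∀ x : (Ideal.span {f} : Ideal A) ⊗[A] M,
        ∃ m : M, (⟨f, Ideal.mem_span_singleton_self f⟩ : (Ideal.span {f} : Ideal A)) ⊗ₜ[A] m = x := by
      intro x
      induction x using TensorProduct.induction_on with
      | zero => exact ⟨0, TensorProduct.tmul_zero _ _⟩
      | tmul a m =>
        obtain ⟨c, hc⟩ := Ideal.mem_span_singleton'.mp a.2
        refine ⟨c • m, ?_⟩
        rw [← TensorProduct.smul_tmul]
        congr 1
        exact Subtype.ext (by simpa [mul_comm] using hc)
      | add x y hx hy =>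
        obtain ⟨m₁, rfl⟩ := hx
        obtain ⟨m₂, rfl⟩ := hy
        exact ⟨m₁ + m₂, TensorProduct.tmul_add _ _ _⟩
    obtain ⟨m, rfl⟩ := hsurj x
    rw [LinearMap.rTensor_tmul] at hx
    have h2 : f • m = 0 := by
      have := congrArg (TensorProduct.lid A M) hx
      simpa using this
    have : m = 0 := hM (by show f • m = f • 0; rw [h2, smul_zero])
    rw [this, TensorProduct.tmul_zero]
  rw [Module.Flat.iff_lTensor_injective']
  intro 𝔞
  rw [injective_iff_map_eq_zero]
  intro x hx
  -- `x` is killed by a power of `f`
  obtain ⟨n, hn⟩ : ∃ n : ℕ, f ^ n • x = 0 := by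
    let g := LocalizedModule.mkLinearMap (Submonoid.powers f) M
    have h1 : (𝔞.subtype.lTensor (LocalizedModule (Submonoid.powers f) M))
        ((TensorProduct.AlgebraTensorModule.rTensor A 𝔞 g) x) = 0 := by
      have : (𝔞.subtype.lTensor (LocalizedModule (Submonoid.powers f) M))
          ((TensorProduct.AlgebraTensorModule.rTensor A 𝔞 g) x) =
          (TensorProduct.AlgebraTensorModule.rTensor A A g) (𝔞.subtype.lTensor M x) := by
        change (LinearMap.lTensor _ 𝔞.subtype) (LinearMap.rTensor _ g x) =
          LinearMap.rTensor _ g (LinearMap.lTensor M 𝔞.subtype x)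
        rw [← LinearMap.comp_apply, ← LinearMap.comp_apply, LinearMap.lTensor_comp_rTensor,
          LinearMap.rTensor_comp_lTensor]
      rw [this, hx, map_zero]
    have h2 : (TensorProduct.AlgebraTensorModule.rTensor A 𝔞 g) x = 0 :=
      (Module.Flat.lTensor_preserves_injective_linearMap
        (M := LocalizedModule (Submonoid.powers f) M) 𝔞.subtype
        (Submodule.injective_subtype _)) (by rw [h1, map_zero])
    obtain ⟨⟨s, ⟨n, rfl⟩⟩, hs⟩ := (IsLocalizedModule.eq_zero_iff (Submonoid.powers f)
      (TensorProduct.AlgebraTensorModule.rTensor A 𝔞 g)).mp h2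
    exact ⟨n, hs⟩
  -- multiplication by `f ^ n` on `𝔞`
  let μ : 𝔞 →ₗ[A] 𝔞 := (f ^ n) • LinearMap.id
  have hμinj : Function.Injective μ := by
    intro a b hab
    have : f ^ n * (a : A) = f ^ n * (b : A) := congrArg Subtype.val hab
    exact Subtype.ext (mul_cancel_left_mem_nonZeroDivisors (pow_mem hA n) |>.mp this)
  have hQ : Ideal.span {f} ^ n • (⊤ : Submodule A (𝔞 ⧸ LinearMap.range μ)) = ⊥ := by
    rw [Ideal.span_singleton_pow, eq_bot_iff]
    intro y hy
    refine Submodule.smul_induction_on hy ?_ ?_
    · intro a ha y _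
      obtain ⟨c, rfl⟩ := Ideal.mem_span_singleton'.mp ha
      obtain ⟨b, rfl⟩ := Submodule.Quotient.mk_surjective _ y
      rw [Submodule.mem_bot, ← Submodule.Quotient.mk_smul, Submodule.Quotient.mk_eq_zero]
      exact ⟨c • b, by simp [μ, smul_smul]⟩
    · intro x y hx hy
      exact Submodule.add_mem _ hx hy
  have hTor := Groth.Agent.Helper1.TorVanish.of_pow_smul_eq_bot (M := M) (Ideal.span {f}) H1 n
    (𝔞 ⧸ LinearMap.range μ) hQ
  have hinj := hTor.rTensor_injective μ (LinearMap.range μ).mkQ hμinj
    (LinearMap.exact_map_mkQ_range μ) (Submodule.mkQ_surjective _)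
  rw [← LinearMap.lTensor_inj_iff_rTensor_inj] at hinj
  apply hinj
  rw [map_zero]
  have : μ.lTensor M x = f ^ n • x := by
    simp [μ, LinearMap.lTensor_smul]
  rw [this, hn]

end Groth.Agent.S0399
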