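import Groth.Statements.S0401
import Mathlib

set_option autoImplicit false
universe u
open FlatMor

namespace Groth.Agent.S0401

/-- For a finite type ring map R → S quasi-finite at a prime q lying over p, the dimension of S_q is at
most the dimension of R_p. -/
theorem result {R S : Type u} [CommRing R] [CommRing S] [Algebra R S] [Algebra.FiniteType R S] (q : Ideal S) [q.IsPrime] [Algebra.QuasiFiniteAt R q] :
    ringKrullDim (Localization.AtPrime q) ≤ ringKrullDim (Localization.AtPrime (q.under R)) := by
  classical
  obtain ⟨S', hfg, r, hr, hbij⟩ :=
    Algebra.QuasiFiniteAt.exists_fg_and_exists_notMem_and_awayMap_bijective (R := R) q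
  haveI : Module.Finite R S' := ⟨(Submodule.fg_top _).mpr hfg⟩
  haveI : Algebra.IsIntegral R S' := inferInstance
  rw [IsLocalization.AtPrime.ringKrullDim_eq_height q,
    IsLocalization.AtPrime.ringKrullDim_eq_height (q.under R), WithBot.coe_le_coe]
  have h5 : ∀ (Q : Ideal S') [Q.IsPrime], Q.height ≤ (Q.under R).height := by
    intro Q _
    have ha := PrimeSpectrum.height_eq_orderHeight (⟨Q, inferInstance⟩ : PrimeSpectrum S')
    have hb := PrimeSpectrum.height_eq_orderHeight
      (PrimeSpectrum.comap (algebraMap R S') (⟨Q, inferInstance⟩ : PrimeSpectrum S'))
    have hc := Order.height_le_height_apply_of_strictMono (PrimeSpectrum.comap (algebraMap R S'))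
      (fun a b hab => Ideal.IsIntegral.comap_lt_comap hab) (⟨Q, inferInstance⟩ : PrimeSpectrum S')
    rw [← ha, ← hb] at hc
    exact hc
  have hdisj : Disjoint (Submonoid.powers r.1 : Set S) q :=
    (Ideal.disjoint_powers_iff_notMem_of_isPrime r.1).2 hr
  have hPunder : (q.map (algebraMap S (Localization.Away r.1))).under S = q :=
    IsLocalization.under_map_of_isPrime_disjoint (Submonoid.powers r.1) _ inferInstance hdisj
  have hPprime : (q.map (algebraMap S (Localization.Away r.1))).IsPrime :=
    IsLocalization.isPrime_of_isPrime_disjoint (Submonoid.powers r.1) _ q inferInstance hdisj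
  have h1 : (q.map (algebraMap S (Localization.Away r.1))).height = q.height := by
    have := IsLocalization.height_under (Submonoid.powers r.1)
      (q.map (algebraMap S (Localization.Away r.1)))
    rw [hPunder] at this
    exact this.symm
  let e : Localization.Away r ≃+* Localization.Away r.1 := RingEquiv.ofBijective _ hbij
  have h2 : ((q.map (algebraMap S (Localization.Away r.1))).comap e).height =
      (q.map (algebraMap S (Localization.Away r.1))).height := RingEquiv.height_comap e _
  have h3 := IsLocalization.height_under (Submonoid.powers r)
    ((q.map (algebraMap S (Localization.Away r.1))).comap e)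
  have hq' : (((q.map (algebraMap S (Localization.Away r.1))).comap e).under S') =
      q.comap S'.val.toRingHom := by
    show ((q.map (algebraMap S (Localization.Away r.1))).comap
      (e : Localization.Away r →+* Localization.Away r.1)).comap
        (algebraMap S' (Localization.Away r)) = _
    rw [Ideal.comap_comap]
    have hcomp : (e : Localization.Away r →+* Localization.Away r.1).comp
        (algebraMap S' (Localization.Away r)) =
        (algebraMap S (Localization.Away r.1)).comp S'.val.toRingHom :=
      RingHom.ext fun x => by
        simp only [RingHom.comp_apply]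
        show Localization.awayMap S'.val.toRingHom r (algebraMap S' (Localization.Away r) x) = _
        simp only [Localization.awayMap, IsLocalization.Away.map, IsLocalization.map_eq]
        rfl
    rw [hcomp, ← Ideal.comap_comap]
    congr 1
  haveI : ((q.map (algebraMap S (Localization.Away r.1))).comap e).IsPrime :=
    Ideal.comap_isPrime _ _
  haveI : (q.comap S'.val.toRingHom).IsPrime := Ideal.comap_isPrime _ _
  have h6 := h5 (q.comap S'.val.toRingHom)
  have h7 : (q.comap S'.val.toRingHom).under R = q.under R := by
    show (q.comap S'.val.toRingHom).comap (algebraMap R S') = q.comap (algebraMap R S)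
    rw [Ideal.comap_comap]
    rfl
  rw [h7] at h6
  rw [hq'] at h3
  rw [← h1, ← h2, ← h3]
  exact h6

end Groth.Agent.S0401
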