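import Groth.Statements.S3387
import Mathlib
import Groth.Agent.Lib.Helper14.Chevalley
import Groth.Agent.Lib.Helper9.TopDim
import Groth.Agent.S0402
import Groth.Agent.Lib.Helper14.FibreGeneric
-- import your own Groth.Agent.* helpers here

set_option autoImplicit false
open CategoryTheory AlgebraicGeometry
universe u
open EGA43

namespace Groth.Agent.S3387

open AlgebraicGeometry CategoryTheory in
theorem mem_iff {X Y : Scheme.{u}} (f : X ⟶ Y) (m : ℕ) (y : Y) :
    ((m + 1 : ℕ) : WithBot ℕ∞) ≤ topologicalKrullDim ↥(f.fiber y) ↔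
      ∃ x : X, f x = y ∧ ¬ FlatMor.fibreDimAt f x ≤ (m : WithBot ℕ∞) := by
  rw [Groth.Agent.Helper9.TopDim.dim_eq_iSup_localDim]
  have hcast : ((m + 1 : ℕ) : WithBot ℕ∞) = (m : WithBot ℕ∞) + 1 := by push_cast; rfl
  constructor
  · intro h
    by_contra hne
    push Not at hne
    have hall : ∀ z : f.fiber y, FlatMor.localDim (f.fiber y) z ≤ (m : WithBot ℕ∞) := by
      intro z
      have hz : f (f.fiberι y z) = y := (f.fiberHomeo y z).2
      have h1 := hne (f.fiberι y z) hz
      rw [Groth.Agent.Helper14.FibreChart.localDim_asFiber_congr f (f.fiberι y z) y hz] at h1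
      have h2 : (f.fiberHomeo y).symm ⟨f.fiberι y z, hz⟩ = z :=
        (f.fiberHomeo y).symm_apply_apply z
      rwa [h2] at h1
    have : (⨆ z : f.fiber y, FlatMor.localDim (f.fiber y) z) ≤ (m : WithBot ℕ∞) := iSup_le hall
    rw [hcast] at h
    exact Groth.Agent.Helper14.Chevalley.not_add_one_le m (h.trans this)
  · rintro ⟨x, rfl, hx⟩
    have h1 : (m : WithBot ℕ∞) < FlatMor.fibreDimAt f x := lt_of_not_ge hx
    have h2 := Groth.Agent.Helper14.Chevalley.add_one_le_of_lt' m _ h1
    rw [hcast]
    refine h2.trans ?_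
    exact le_iSup (fun z : f.fiber (f x) => FlatMor.localDim (f.fiber (f x)) z) (f.asFiber x)

/-- Let f : X ⟶ Y be locally of finite type and closed (as a map of underlying spaces). Then for every
natural number n the set of points y of Y whose fibre has dimension at least n is closed; that is,
the dimension of the fibre is upper semicontinuous on Y. -/
theorem result {X Y : Scheme.{u}} (f : X ⟶ Y) [LocallyOfFiniteType f]
    (hf : IsClosedMap f.base) (n : ℕ) :
    IsClosed {y : Y | (n : WithBot ℕ∞) ≤ topologicalKrullDim ↥(f.fiber y)} := by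
  cases n with
  | zero =>
    have : {y : Y | ((0 : ℕ) : WithBot ℕ∞) ≤ topologicalKrullDim ↥(f.fiber y)} = Set.range f.base := by
      ext y
      constructor
      · intro hy
        by_contra hne
        have hemp : IsEmpty (f.fiber y) := ⟨fun z => hne ⟨f.fiberι y z, (f.fiberHomeo y z).2⟩⟩
        have hbot : topologicalKrullDim (f.fiber y) = ⊥ := by
          unfold topologicalKrullDim
          haveI : IsEmpty (TopologicalSpace.IrreducibleCloseds (f.fiber y)) :=
            ⟨fun Z => hemp.false Z.isIrreducible'.nonempty.some⟩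
          exact Order.krullDim_eq_bot
        have hy' : ((0 : ℕ) : WithBot ℕ∞) ≤ topologicalKrullDim ↥(f.fiber y) := hy
        rw [hbot, le_bot_iff] at hy'
        exact WithBot.coe_ne_bot (a := ((0 : ℕ) : ℕ∞)) hy'
      · rintro ⟨x, rfl⟩
        haveI : Nonempty (f.fiber (f x)) := ⟨f.asFiber x⟩
        show ((0 : ℕ) : WithBot ℕ∞) ≤ topologicalKrullDim ↥(f.fiber (f x))
        have h0 := Groth.Agent.Helper14.FibreGeneric.zero_le_localDim (f.asFiber x)
        exact (by exact_mod_cast h0 : ((0 : ℕ) : WithBot ℕ∞) ≤ _).trans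
          (Groth.Agent.Helper14.FibreGeneric.localDim_le_dim _)
    rw [this]
    exact hf.isClosed_range
  | succ m =>
    have : {y : Y | ((m + 1 : ℕ) : WithBot ℕ∞) ≤ topologicalKrullDim ↥(f.fiber y)} =
        f.base '' {x : X | ¬ FlatMor.fibreDimAt f x ≤ (m : WithBot ℕ∞)} := by
      ext y
      rw [Set.mem_ofPred_eq, mem_iff f m y]
      constructor
      · rintro ⟨x, hx, hx'⟩
        exact ⟨x, hx', hx⟩
      · rintro ⟨x, hx', hx⟩
        exact ⟨x, hx, hx'⟩
    rw [this]
    apply hf
    have hopen := Groth.Agent.S0402.result f m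
    have hc : {x : X | ¬ FlatMor.fibreDimAt f x ≤ (m : WithBot ℕ∞)} =
        {x : X | FlatMor.fibreDimAt f x ≤ (m : WithBot ℕ∞)}ᶜ := rfl
    rw [hc]
    exact hopen.isClosed_compl

end Groth.Agent.S3387
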