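import Groth.Statements.S0403
import Mathlib
import Groth.Agent.Lib.Helper14.Chevalley
import Groth.Agent.S3387
-- import your own Groth.Agent.* helpers here

set_option autoImplicit false
universe u
open FlatMor

namespace Groth.Agent.S0403

open AlgebraicGeometry CategoryTheory Limits in
/-- For a proper morphism the dimension of the fibre is an upper semicontinuous function on the target:
for every bound the set of points whose fibre has dimension at most that bound is open. -/
theorem result {X S : Scheme.{u}} (f : X ⟶ S) [IsProper f] (c : WithBot ℕ∞) :
    IsOpen {s : S | topologicalKrullDim (f.fiber s) ≤ c} := by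
  have hcl : IsClosedMap f.base := f.isClosedMap
  induction c using WithBot.recBotCoe with
  | bot =>
    have h0 := Groth.Agent.S3387.result f hcl 0
    have : {s : S | topologicalKrullDim (f.fiber s) ≤ ⊥} =
        {y : S | ((0 : ℕ) : WithBot ℕ∞) ≤ topologicalKrullDim ↥(f.fiber y)}ᶜ := by
      ext s
      simp only [Set.mem_ofPred_eq, Set.mem_compl_iff, le_bot_iff]
      constructor
      · intro h
        rw [h]
        exact fun h' => WithBot.coe_ne_bot (a := ((0 : ℕ) : ℕ∞)) (le_bot_iff.mp h')
      · intro h
        by_contra hne
        apply h
        obtain ⟨a, ha⟩ := WithBot.ne_bot_iff_exists.mp hne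
        rw [← ha]
        exact WithBot.coe_le_coe.mpr (zero_le)
    rw [this]
    exact h0.isOpen_compl
  | coe c =>
    induction c using ENat.recTopCoe with
    | top =>
      have : {s : S | topologicalKrullDim (f.fiber s) ≤ ((⊤ : ℕ∞) : WithBot ℕ∞)} = Set.univ := by
        ext s
        simp only [Set.mem_ofPred_eq, Set.mem_univ, iff_true]
        exact le_top
      rw [this]
      exact isOpen_univ
    | coe n =>
      have h0 := Groth.Agent.S3387.result f hcl (n + 1)
      have : {s : S | topologicalKrullDim (f.fiber s) ≤ ((n : ℕ∞) : WithBot ℕ∞)} =
          {y : S | ((n + 1 : ℕ) : WithBot ℕ∞) ≤ topologicalKrullDim ↥(f.fiber y)}ᶜ := by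
        ext s
        simp only [Set.mem_ofPred_eq, Set.mem_compl_iff]
        have hcast : ((n + 1 : ℕ) : WithBot ℕ∞) = (n : WithBot ℕ∞) + 1 := by push_cast; rfl
        constructor
        · intro h h'
          rw [hcast] at h'
          exact Groth.Agent.Helper14.Chevalley.not_add_one_le n (h'.trans h)
        · intro h
          by_contra hne
          apply h
          rw [hcast]
          exact Groth.Agent.Helper14.Chevalley.add_one_le_of_lt' n _ (lt_of_not_ge hne)
      rw [this]
      exact h0.isOpen_compl

end Groth.Agent.S0403
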