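import Groth.Statements.S0408
import Groth.Agent.Lib.Helper16.Sch.QFSch
import Groth.Agent.Lib.Helper16.Sch.PBRes

set_option autoImplicit false
universe u
open FlatMor

namespace Groth.Agent.S0408

open AlgebraicGeometry CategoryTheory Limits in
/-- Étale localization of a quasi-finite point (one-point case): for f separated and locally of finite
type and x isolated in its fibre, after base change along an étale morphism g with a point u over
f(x) having the same residue field, the base change splits off an open and closed piece V, finite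
over the base, whose fibre over u is a single point v lying over x with the same residue field as x,
and no other point over u lies over x. -/
theorem result {X S : Scheme.{u}} (f : X ⟶ S) [LocallyOfFiniteType f] [IsSeparated f] (x : X) (hx : f.QuasiFiniteAt x) :
    ∃ (U : Scheme.{u}) (g : U ⟶ S) (u : U), Etale g ∧ g u = f x ∧ Function.Surjective (g.residueFieldMap u) ∧
      ∃ (V : (pullback f g).Opens) (v : ↑(pullback f g)), IsClopen (V : Set ↑(pullback f g)) ∧
        IsFinite (V.ι ≫ pullback.snd f g) ∧ v ∈ V ∧ pullback.fst f g v = x ∧ pullback.snd f g v = u ∧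
        Function.Surjective ((pullback.fst f g).residueFieldMap v) ∧
        (∀ w : ↑(pullback f g), pullback.snd f g w = u → (w ∈ V ∨ pullback.fst f g w = x) → w = v) := by
  obtain ⟨R', g, u, hg, hgu, hsur, hpd, huniq⟩ :=
    Groth.Agent.Helper16.QFSch.qfMain_triv f (f x) (fun _ : Unit => x) (fun _ => rfl) (fun _ => hx)
  obtain ⟨J, hJ, V, v, h1, h2, h3⟩ := Groth.Agent.Helper16.QFSch.combineQF f R' g u
    (fun _ : Unit => x) (fun _ _ _ => rfl)
    (fun _ _ _ => True) (fun _ => True) (fun _ _ _ _ _ _ _ => trivial) hpd
  obtain ⟨w, hwx, hwu⟩ := Scheme.Pullback.exists_preimage_pullback x u hgu.symm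
  obtain ⟨j, rfl⟩ := h3 w () hwu hwx
  obtain ⟨hvV, hfinV, hvu, hVuniq, -, hvx⟩ := h1 () j
  refine ⟨Spec R', g, u, hg, hgu, hsur, V () j, v () j, ⟨?_, (V () j).2⟩, hfinV, hvV, hvx, hvu, ?_, ?_⟩
  · haveI : IsFinite (V () j).ι := IsFinite.of_comp (V () j).ι (pullback.snd f g)
    have := (V () j).ι.isClosedMap.isClosed_range
    rwa [Scheme.Opens.range_ι] at this
  · apply Groth.Agent.Helper16.PBRes.surjective_residueFieldMap_fst
    rw [hvu]
    exact hsur
  · intro w' hw'u hw'
    rcases hw' with hw' | hw'
    · exact hVuniq w' hw' hw'u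
    · exact huniq w' (v () j) () hw'u hvu hw' hvx

end Groth.Agent.S0408
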