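import Groth.Statements.S0415
import Groth.Agent.Lib.Helper11.UnivHomeo

set_option autoImplicit false
universe u
open FlatMor

namespace Groth.Agent.S0415

open AlgebraicGeometry CategoryTheory Limits in
/-- A morphism of schemes is a universal homeomorphism if and only if it is integral, universally
injective and surjective. -/
theorem result {X Y : Scheme.{u}} (f : X ⟶ Y) :
    FlatMor.IsUnivHomeo f ↔ IsIntegralHom f ∧ UniversallyInjective f ∧ Surjective f := by
  rw [Groth.Agent.Helper11.UH.isUnivHomeo_iff]
  constructor
  · intro h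
    obtain ⟨h1, h2, h3⟩ := h
    refine ⟨?_, h2, h3⟩
    have hUH : FlatMor.IsUnivHomeo f :=
      (Groth.Agent.Helper11.UH.isUnivHomeo_iff f).mpr ⟨h1, h2, h3⟩
    have hhom : IsHomeomorph f := hUH (𝟙 _) (𝟙 _) f IsPullback.of_id_snd
    have haff : IsAffineHom f := by
      apply isAffineHom_of_isInducing f hhom.isInducing
      rw [hhom.surjective.range_eq]
      exact isClosed_univ
    exact IsIntegralHom.iff_universallyClosed_and_isAffineHom.mpr ⟨h1, haff⟩
  · rintro ⟨h1, h2, h3⟩
    exact ⟨inferInstance, h2, h3⟩

end Groth.Agent.S0415
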