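import Groth.Statements.S0416
import Mathlib
-- import your own Groth.Agent.* helpers here

set_option autoImplicit false
universe u
open FlatMor

namespace Groth.Agent.S0416

section
open AlgebraicGeometry CategoryTheory Limits MorphismProperty

instance instComp : (topologically (fun f => IsHomeomorph f)).IsStableUnderComposition :=
  topologically_isStableUnderComposition _ (fun _ _ hf hg => hg.comp hf)

instance instBC : FlatMor.IsUnivHomeo.{u}.IsStableUnderBaseChange :=
  universally_isStableUnderBaseChange _

instance instComp' : FlatMor.IsUnivHomeo.{u}.IsStableUnderComposition :=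
  IsStableUnderComposition.universally _

instance instMul : FlatMor.IsUnivHomeo.{u}.IsMultiplicative where
  id_mem X := by
    intro X' Y' i₁ i₂ f' sq
    haveI : IsIso f' := sq.isIso_fst_of_isIso
    exact (TopCat.homeoOfIso (asIso f'.base)).isHomeomorph

lemma isHomeomorph_of_comp {α β γ : Type*} [TopologicalSpace α] [TopologicalSpace β]
    [TopologicalSpace γ] (a : α → β) (b : β → γ) (hba : IsHomeomorph (b ∘ a))
    (ha : IsHomeomorph a) : IsHomeomorph b := by
  have : b = (b ∘ a) ∘ (ha.homeomorph a).symm := by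
    ext y
    simp only [Function.comp_apply]
    congr 1
    exact ((ha.homeomorph a).apply_symm_apply y).symm
  rw [this]
  exact hba.comp (ha.homeomorph a).symm.isHomeomorph

lemma diag {Y Z : Scheme.{u}} (h : Y ⟶ Z) (hh : FlatMor.IsUnivHomeo h) :
    FlatMor.IsUnivHomeo (pullback.diagonal h) := by
  have hpr : IsHomeomorph (pullback.fst h h) := hh _ _ _ (IsPullback.of_hasPullback h h)
  have hsurj : Surjective (pullback.diagonal h) := ⟨fun w =>
    ⟨(pullback.fst h h) w, hpr.injective (by
      rw [← Scheme.Hom.comp_apply, pullback.diagonal_fst]; rfl)⟩⟩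
  intro T' T i₁ i₂ f' sq
  have h1 : IsImmersion f' := MorphismProperty.of_isPullback sq.flip inferInstance
  have h2 : Surjective f' := MorphismProperty.of_isPullback sq.flip hsurj
  exact isHomeomorph_iff_isEmbedding_surjective.mpr ⟨f'.isEmbedding, f'.surjective⟩

theorem main {X Y Z : Scheme.{u}} (g : X ⟶ Y) (h : Y ⟶ Z) :
    (FlatMor.IsUnivHomeo (g ≫ h) → FlatMor.IsUnivHomeo g → FlatMor.IsUnivHomeo h) ∧
    (FlatMor.IsUnivHomeo (g ≫ h) → FlatMor.IsUnivHomeo h → FlatMor.IsUnivHomeo g) := by
  constructor
  · intro hgh hg Y' Z' i₁ i₂ h' sq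
    have sq1 : IsPullback (pullback.snd g i₁) (pullback.fst g i₁) i₁ g :=
      (IsPullback.of_hasPullback g i₁).flip
    have sq2 := sq1.paste_horiz sq
    have e1 : IsHomeomorph (pullback.snd g i₁ ≫ h') := hgh _ _ _ sq2
    have e2 : IsHomeomorph (pullback.snd g i₁) := hg _ _ _ sq1
    have e1' : IsHomeomorph (h' ∘ (pullback.snd g i₁)) := by
      convert e1 using 1
      ext x
      simp
    exact isHomeomorph_of_comp _ _ e1' e2
  · intro hgh hh
    haveI : FlatMor.IsUnivHomeo.{u}.HasOfPostcompProperty FlatMor.IsUnivHomeo.{u} :=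
      hasOfPostcompProperty_iff_le_diagonal.mpr (fun _ _ h hh => diag h hh)
    exact MorphismProperty.of_postcomp (W := FlatMor.IsUnivHomeo.{u}) g h hh hgh

end

open AlgebraicGeometry CategoryTheory Limits in
/-- When a composite of two morphisms is a universal homeomorphism and so is either factor, the
remaining factor is a universal homeomorphism as well. -/
theorem result {X Y Z : Scheme.{u}} (g : X ⟶ Y) (h : Y ⟶ Z) :
    (FlatMor.IsUnivHomeo (g ≫ h) → FlatMor.IsUnivHomeo g → FlatMor.IsUnivHomeo h) ∧
    (FlatMor.IsUnivHomeo (g ≫ h) → FlatMor.IsUnivHomeo h → FlatMor.IsUnivHomeo g) := by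
  exact Groth.Agent.S0416.main g h

end Groth.Agent.S0416
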