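import Groth.Statements.S1315
import Groth.Statements.S1315
import Groth.Agent.S1314
import Mathlib.AlgebraicGeometry.Morphisms.IsIso
import Mathlib.AlgebraicGeometry.Morphisms.FormallyUnramified
import Mathlib.AlgebraicGeometry.Morphisms.UniversallyInjective
-- import your own Groth.Agent.* helpers here

set_option autoImplicit false
universe u
open FlatMor

namespace Groth.Agent.S1315

open AlgebraicGeometry CategoryTheory Limits

theorem aux {X X' Y Y' : Scheme.{u}} (iX : X ⟶ X') (iY : Y ⟶ Y') (f : X ⟶ Y) (f' : X' ⟶ Y')
    (hY : MoreMor.IsThickening iY) (hc : IsPullback iX f f' iY) [LocallyOfFiniteType f] [LocallyOfFiniteType f'] :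
    Mono f ↔ Mono f' := by
  constructor
  · intro hf
    have h0 : IsIso (pullback.diagonal f) := (pullback.isIso_diagonal_iff f).2 hf
    have h1 : FormallyUnramified f := inferInstance
    have h2 : FormallyUnramified f' := (Groth.Agent.S1314.result iX iY f f' hY hc).1 h1
    have hiX : MoreMor.IsThickening iX := Groth.Agent.Helper2.thick_of_isPullback hY hc.flip
    have : IsClosedImmersion iY := hY.1
    have : Surjective iX := hiX.2
    have h3 : UniversallyInjective (iX ≫ f') := by
      rw [hc.w]
      infer_instance
    have h4 : UniversallyInjective f' :=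
      Groth.Agent.Helper2.universallyInjective_of_comp_surjective iX f'
    have h5 : Surjective (pullback.diagonal f') := (UniversallyInjective.iff_diagonal f').1 h4
    have h6 : IsIso (pullback.diagonal f') :=
      (isIso_iff_isOpenImmersion_and_surjective _).2 ⟨inferInstance, h5⟩
    exact (pullback.isIso_diagonal_iff f').1 h6
  · intro h
    exact MorphismProperty.of_isPullback (P := MorphismProperty.monomorphisms Scheme.{u}) hc h

open AlgebraicGeometry CategoryTheory Limits in
/-- Let Y ⟶ Y' be a thickening, let X be the base change to Y of a scheme X' over Y', and assume both X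
⟶ Y and X' ⟶ Y' are locally of finite type. Then X ⟶ Y is a monomorphism if and only if X' ⟶ Y' is. -/
theorem result {X X' Y Y' : Scheme.{u}} (iX : X ⟶ X') (iY : Y ⟶ Y') (f : X ⟶ Y) (f' : X' ⟶ Y')
    (hY : MoreMor.IsThickening iY) (hc : IsPullback iX f f' iY) [LocallyOfFiniteType f] [LocallyOfFiniteType f'] :
    Mono f ↔ Mono f' := by
  exact aux iX iY f f' hY hc

end Groth.Agent.S1315
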