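import Groth.Statements.S0423
import Groth.Agent.Lib.Helper1.WeaklyEtaleScheme

set_option autoImplicit false
universe u
open FlatMor

namespace Groth.Agent.S0423

open AlgebraicGeometry CategoryTheory Limits in
/-- A weakly étale morphism of schemes (flat with flat diagonal) is formally unramified. -/
theorem result {X Y : Scheme.{u}} (f : X ⟶ Y) [WeaklyEtale f] : FormallyUnramified f := by
  exact Groth.Agent.Helper1.formallyUnramified_of_weaklyEtale_scheme f

end Groth.Agent.S0423
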