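import Mathlib
import Groth.Statements.S0433
import Groth.Agent.Lib.Helper19.FibProd.Sch

set_option autoImplicit false
universe u
open FlatMor

namespace Groth.Agent.S0433

open AlgebraicGeometry CategoryTheory Limits in
/-- For a surjective ring map A' → A and any ring map B → A, the spectra of A, A', B and of the fibre
product ring B ×_A A' form a pushout square of schemes. -/
theorem result {A A' B : Type u} [CommRing A] [CommRing A'] [CommRing B] (p : A' →+* A) (hp : Function.Surjective p) (q : B →+* A) :
    IsPushout (Spec.map (CommRingCat.ofHom p)) (Spec.map (CommRingCat.ofHom q))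
      (Spec.map (pullback.snd (CommRingCat.ofHom q) (CommRingCat.ofHom p)))
      (Spec.map (pullback.fst (CommRingCat.ofHom q) (CommRingCat.ofHom p))) := by
  have h0 := Groth.Agent.Helper19.FibProd.isPushout p q hp
  let c := CommRingCat.pullbackCone (CommRingCat.ofHom q) (CommRingCat.ofHom p)
  let e : pullback (CommRingCat.ofHom q) (CommRingCat.ofHom p) ≅ c.pt :=
    limit.isoLimitCone ⟨c, CommRingCat.pullbackConeIsLimit _ _⟩
  have e1 : e.hom ≫ c.fst = pullback.fst (CommRingCat.ofHom q) (CommRingCat.ofHom p) :=
    limit.isoLimitCone_hom_π _ _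
  have e2 : e.hom ≫ c.snd = pullback.snd (CommRingCat.ofHom q) (CommRingCat.ofHom p) :=
    limit.isoLimitCone_hom_π _ _
  haveI : IsIso (Spec.map e.hom) := inferInstance
  refine h0.of_iso (Iso.refl _) (Iso.refl _) (Iso.refl _) (asIso (Spec.map e.hom)) ?_ ?_ ?_ ?_
  · simp
  · simp
  · simp only [Iso.refl_hom, Category.id_comp, asIso_hom]
    rw [← e2, Spec.map_comp]
    rfl
  · simp only [Iso.refl_hom, Category.id_comp, asIso_hom]
    rw [← e1, Spec.map_comp]
    rfl

end Groth.Agent.S0433
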