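import Groth.Statements.S0443
import Mathlib.RingTheory.Ideal.GoingUp
import Mathlib.RingTheory.RingHom.Finite
-- import your own Groth.Agent.* helpers here

set_option autoImplicit false
universe u
open FlatMor

namespace Groth.Agent.S0443

section
open CategoryTheory AlgebraicGeometry

theorem isLocalization_map_primeCompl {A B : Type u} [CommRing A] [CommRing B] (φ : A →+* B)
    (hφ : φ.IsIntegral) (P : Ideal B) [P.IsPrime] (p : Ideal A) [p.IsPrime]
    (hp : p = P.comap φ)
    (huniq : ∀ Q : Ideal B, Q.IsPrime → Q.comap φ = p → Q = P) :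
    IsLocalization (p.primeCompl.map φ) (Localization.AtPrime P) := by
  set M := p.primeCompl.map φ with hM
  have hMN : M ≤ P.primeCompl := by
    rintro _ ⟨a, ha, rfl⟩
    intro h
    apply ha
    rw [hp]
    exact h
  have hS : IsLocalization P.primeCompl (Localization M) := by
    apply IsLocalization.of_le M _ hMN
    intro b hb
    by_contra hu
    obtain ⟨m, hm, hbm⟩ := exists_max_ideal_of_mem_nonunits hu
    set Q := m.comap (algebraMap B (Localization M)) with hQdef
    have hQ : Q.IsPrime := Ideal.comap_isPrime _ _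
    have hQM : ∀ x ∈ M, x ∉ Q := fun x hx hxQ =>
      hm.ne_top (Ideal.eq_top_of_isUnit_mem _ hxQ (IsLocalization.map_units (Localization M) ⟨x, hx⟩))
    have hQp : Q.comap φ ≤ p := by
      intro a ha
      by_contra hap
      exact hQM (φ a) ⟨a, hap, rfl⟩ ha
    letI := φ.toAlgebra
    haveI : Algebra.IsIntegral A B := ⟨hφ⟩
    obtain ⟨Q', hQQ', hQ'prime, hQ'p⟩ :=
      Ideal.exists_ideal_over_prime_of_isIntegral_of_isPrime p Q hQp
    have := huniq Q' hQ'prime hQ'p
    exact hb (this ▸ hQQ' hbm)
  exact IsLocalization.isLocalization_of_algEquiv M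
    (IsLocalization.algEquiv P.primeCompl (Localization M) (Localization.AtPrime P))

theorem localRingHom_finite {A B : Type u} [CommRing A] [CommRing B] (φ : A →+* B)
    (hφ : φ.Finite) (P : Ideal B) [P.IsPrime] (p : Ideal A) [p.IsPrime]
    (hp : p = P.comap φ)
    (huniq : ∀ Q : Ideal B, Q.IsPrime → Q.comap φ = p → Q = P) :
    (Localization.localRingHom p P φ hp).Finite := by
  haveI := isLocalization_map_primeCompl φ hφ.to_isIntegral P p hp huniq
  have := RingHom.finite_localizationPreserves φ p.primeCompl (Localization.AtPrime p)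
    (Localization.AtPrime P) hφ
  convert this using 1
  apply IsLocalization.ringHom_ext p.primeCompl
  ext a
  simp [Localization.localRingHom_to_map]

theorem main {X Y : Scheme.{u}} (π : X ⟶ Y) [IsFinite π] (x : X)
    (hx : ∀ x' : ↑X, π x' = π x → x' = x) :
    (π.stalkMap x).hom.Finite := by
  obtain ⟨_, ⟨V, hV', rfl⟩, hxV, -⟩ :=
    Y.isBasis_affineOpens.exists_subset_of_mem_open (Set.mem_univ (π x)) isOpen_univ
  have hV : IsAffineOpen V := hV'
  have hU : IsAffineOpen (π ⁻¹ᵁ V) := hV.preimage π
  have hxU : x ∈ π ⁻¹ᵁ V := hxV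
  rw [RingHom.finite_respectsIso.arrow_mk_iso_iff
    (IsAffineOpen.arrowStalkMapIso π V hV (π ⁻¹ᵁ V) hU le_rfl hxU)]
  rw [CommRingCat.hom_ofHom]
  apply localRingHom_finite
  · rw [← Scheme.Hom.app_eq_appLE]
    exact IsFinite.finite_app π V hV
  · intro Q hQ hQp
    set y : X := hU.fromSpec ⟨Q, hQ⟩ with hy
    have hyU : y ∈ π ⁻¹ᵁ V := by
      have : y ∈ Set.range hU.fromSpec := ⟨_, rfl⟩
      rw [hU.range_fromSpec] at this
      exact this
    have h1 : π y = hV.fromSpec ⟨Q.comap (π.appLE V (π ⁻¹ᵁ V) le_rfl).hom, inferInstance⟩ := by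
      have := IsAffineOpen.SpecMap_appLE_fromSpec π hV hU le_rfl
      have h2 := congrArg (fun φ : Spec Γ(X, π ⁻¹ᵁ V) ⟶ Y => φ ⟨Q, hQ⟩) this
      simp only [Scheme.Hom.comp_apply] at h2
      exact h2.symm
    have h3 : π y = π x := by
      rw [h1]
      have := hV.fromSpec_primeIdealOf ⟨π x, hxV⟩
      refine Eq.trans ?_ this
      congr 1
      exact PrimeSpectrum.ext hQp
    have h4 : y = x := hx y h3
    have h5 := hU.fromSpec_primeIdealOf ⟨x, hxU⟩
    have h6 : hU.fromSpec ⟨Q, hQ⟩ = hU.fromSpec (hU.primeIdealOf ⟨x, hxU⟩) := by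
      rw [h5]; exact h4
    have h7 := hU.fromSpec.isOpenEmbedding.injective h6
    exact congrArg PrimeSpectrum.asIdeal h7

end

open AlgebraicGeometry CategoryTheory Limits in
/-- For a finite morphism π : X → Y and a point x of X that is the only point of its fibre, the induced
homomorphism of local rings O_{Y,π(x)} → O_{X,x} is finite. (The published lemma has further parts,
not stated here.) -/
theorem result {X Y : Scheme.{u}} (π : X ⟶ Y) [IsFinite π] (x : X) (hx : ∀ x' : ↑X, π x' = π x → x' = x) :
    (π.stalkMap x).hom.Finite := by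
  exact Groth.Agent.S0443.main π x hx

end Groth.Agent.S0443
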