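import Groth.Statements.S0445
import Mathlib

set_option autoImplicit false
universe u
open FlatMor

namespace Groth.Agent.S0445

open AlgebraicGeometry CategoryTheory Limits in
/-- Two morphisms over S into an S-scheme unramified over S which agree at a point and induce the same
map on residue fields there agree on an open neighbourhood of that point. -/
theorem result {X Y S : Scheme.{u}} (p : Y ⟶ S) [FormallyUnramified p] [LocallyOfFiniteType p] (f g : X ⟶ Y) (hfg : f ≫ p = g ≫ p)
    (x : X) (h1 : f x = g x) (h2 : f.residueFieldMap x = (Y.residueFieldCongr h1).hom ≫ g.residueFieldMap x) :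
    ∃ U : X.Opens, x ∈ U ∧ U.ι ≫ f = U.ι ≫ g := by
  let Δ := pullback.diagonal p
  let h : X ⟶ pullback p p := pullback.lift f g hfg
  haveI : IsOpenImmersion Δ := inferInstance
  let U : X.Opens := h ⁻¹ᵁ Δ.opensRange
  have hxU : x ∈ U := by
    let ιx := X.fromSpecResidueField x
    have e1 : ιx ≫ f = Spec.map (f.residueFieldMap x) ≫ Y.fromSpecResidueField (f x) :=
      (Scheme.Hom.SpecMap_residueFieldMap_fromSpecResidueField f x).symm
    have e2 : ιx ≫ g = Spec.map (g.residueFieldMap x) ≫ Y.fromSpecResidueField (g x) :=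
      (Scheme.Hom.SpecMap_residueFieldMap_fromSpecResidueField g x).symm
    have e3 : ιx ≫ f = ιx ≫ g := by
      rw [e1, e2, h2, Spec.map_comp, Category.assoc, Scheme.residueFieldCongr_fromSpecResidueField]
    have e4 : ιx ≫ h = (ιx ≫ f) ≫ Δ := by
      apply pullback.hom_ext
      · rw [Category.assoc, Category.assoc, pullback.lift_fst, pullback.diagonal_fst, Category.comp_id]
      · rw [Category.assoc, Category.assoc, pullback.lift_snd, pullback.diagonal_snd, Category.comp_id, e3]
    obtain ⟨pt⟩ : Nonempty (Spec (X.residueField x)) := inferInstance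
    have e5 : h x = Δ ((ιx ≫ f) pt) := by
      have : (ιx ≫ h) pt = ((ιx ≫ f) ≫ Δ) pt := by rw [e4]
      rw [Scheme.Hom.comp_apply, Scheme.Hom.comp_apply] at this
      rw [← this]
      congr 1
      exact (Scheme.fromSpecResidueField_apply x pt).symm
    show h x ∈ Set.range Δ
    rw [e5]
    exact ⟨_, rfl⟩
  refine ⟨U, hxU, ?_⟩
  have hrange : Set.range (U.ι ≫ h) ⊆ Set.range Δ := by
    rintro _ ⟨z, rfl⟩
    rw [Scheme.Hom.comp_apply]
    exact z.2
  let k := IsOpenImmersion.lift Δ (U.ι ≫ h) hrange
  have hk : k ≫ Δ = U.ι ≫ h := IsOpenImmersion.lift_fac _ _ _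
  have h1' : U.ι ≫ f = k := by
    have : (U.ι ≫ h) ≫ pullback.fst p p = U.ι ≫ f := by
      rw [Category.assoc, pullback.lift_fst]
    rw [← this, ← hk, Category.assoc, pullback.diagonal_fst, Category.comp_id]
  have h2' : U.ι ≫ g = k := by
    have : (U.ι ≫ h) ≫ pullback.snd p p = U.ι ≫ g := by
      rw [Category.assoc, pullback.lift_snd]
    rw [← this, ← hk, Category.assoc, pullback.diagonal_snd, Category.comp_id]
  rw [h1', h2']

end Groth.Agent.S0445
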