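import Groth.Statements.S0465
import Mathlib
import Groth.Prelude.Def_CohTop
import Groth.Agent.Lib.Helper24.CechTop
import Groth.Agent.S0861

set_option autoImplicit false
universe u
open CategoryTheory
open CohTop

namespace Groth.Agent.S0465


open TopologicalSpace in

open TopologicalSpace in
/-- If for every family of opens of X the Cech cohomology of F in positive degrees vanishes, then
H^(p+1)(U, F) = 0 for every open U. -/
theorem result {X : TopCat.{u}} (F : CohTop.Ab X)
    (h : ∀ (ι : Type u) (U : ι → Opens X) (p : ℕ), CategoryTheory.Limits.IsZero (CohTop.cechH F.obj U (p + 1)))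
    (U : Opens X) (p : ℕ) : Subsingleton (CohTop.HU F (p + 1) U) := by
  exact Groth.Agent.S0861.result (Opens.grothendieckTopology X) Set.univ
    (fun U' ι Y => Sieve.ofArrows (fun i => (Y i).left) (fun i => (Y i).hom) ∈
      Opens.grothendieckTopology X U')
    (fun U' ι Y hc => ⟨Set.mem_univ _, hc, fun _ _ => Set.mem_univ _⟩)
    (fun U' _ T hT => ⟨_, Groth.Agent.Helper24.CechTop.famOfSieve T,
      Groth.Agent.Helper24.CechTop.famOfSieve_cover T hT, fun i => i.property⟩)
    F
    (fun U' ι Y _ p => (Groth.Agent.Helper24.CechTop.isZero_iff Y F.obj (p+1)).1 (h ι _ p))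
    U (Set.mem_univ _) p

end Groth.Agent.S0465
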