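import Groth.Statements.S0466
import Mathlib
import Groth.Prelude.Def_CohTop
import Groth.Agent.Lib.Helper24.CechTop
import Groth.Agent.Lib.Helper24.CechSurj

set_option autoImplicit false
universe u
open CategoryTheory
open CohTop

namespace Groth.Agent.S0466


open TopologicalSpace Opposite in

open TopologicalSpace Opposite in
/-- Consider a short exact sequence of abelian sheaves with kernel F, middle term G and quotient H, and
an open U. If every open covering of U admits a refinement on which the first Cech cohomology of F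
vanishes, then sections of G over U map onto sections of H over U. -/
theorem result {X : TopCat.{u}}
    (S : CategoryTheory.ShortComplex (CohTop.Ab X)) (hS : S.ShortExact) (U : Opens X)
    (h : ∀ (ι : Type u) (V : ι → Opens X), iSup V = U →
      ∃ (κ : Type u) (W : κ → Opens X) (r : κ → ι), iSup W = U ∧ (∀ k, W k ≤ V (r k)) ∧
        CategoryTheory.Limits.IsZero (CohTop.cechH S.X₁.obj W 1)) :
    Function.Surjective (S.g.hom.app (op U)) := by
  intro s
  have hepi : Epi S.g := hS.epi_g
  have hls : Sheaf.IsLocallySurjective S.g := (Sheaf.isLocallySurjective_iff_epi' (φ := S.g)).2 hepi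
  have hT : Presheaf.imageSieve S.g.hom s ∈ Opens.grothendieckTopology X U :=
    Presheaf.imageSieve_mem _ S.g.hom s
  obtain ⟨κ, W, r, hW, hle, hZ⟩ := h _ (fun f : (Presheaf.imageSieve S.g.hom s).arrows.category => f.obj.left)
    (Groth.Agent.Helper24.CechTop.iSup_eq_of_cover
      (Groth.Agent.Helper24.CechTop.famOfSieve (Presheaf.imageSieve S.g.hom s))
      (Groth.Agent.Helper24.CechTop.famOfSieve_cover _ hT))
  let Y : κ → Over U := fun k => Over.mk (homOfLE (hW ▸ le_iSup W k) : W k ⟶ U)
  have hY : Sieve.ofArrows (fun i => (Y i).left) (fun i => (Y i).hom) ∈ Opens.grothendieckTopology X U :=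
    Groth.Agent.Helper24.CechTop.cover_of_iSup_eq Y hW
  have hZ' : Limits.IsZero (CohCx.cechH S.X₁.obj Y 1) :=
    (Groth.Agent.Helper24.CechTop.isZero_iff Y S.X₁.obj 1).1 hZ
  obtain ⟨t, ht⟩ := Groth.Agent.Helper24.CechSurj.surj_of_cech_one_zero S hS Y hY hZ' s
    (fun k => Groth.Agent.Helper24.CechTop.mem_of_le (Presheaf.imageSieve S.g.hom s)
      (r k).obj.hom (r k).property (hle k) (Y k).hom)
  exact ⟨t, ht⟩

end Groth.Agent.S0466
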