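import Groth.Statements.S0473
import Groth.Statements.S0473
import Groth.Agent.Lib.Helper2.BrownRep
-- import your own Groth.Agent.* helpers here

set_option autoImplicit false
universe v u
open CategoryTheory
open CohDer

namespace Groth.Agent.S0473

section
open CategoryTheory.Limits CategoryTheory.Pretriangulated Groth.Agent.Helper2.Brown Opposite
open CategoryTheory.Pretriangulated.Opposite

theorem aux {D : Type u} [Category.{v} D] [Preadditive D] [Limits.HasZeroObject D] [HasShift D ℤ]
    [∀ n : ℤ, (shiftFunctor D n).Additive] [Pretriangulated D] [HasCoproducts.{v} D]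
    (hD : CohDer.IsCompactlyGenerated D) (H : Dᵒᵖ ⥤ AddCommGrpCat.{v}) [H.IsHomological]
    [∀ (ι : Type v), PreservesLimitsOfShape (Discrete ι) H] :
    (H ⋙ forget AddCommGrpCat.{v}).IsRepresentable := by
  haveI : HasColimitsOfShape (Discrete ℕ) D :=
    hasColimitsOfShape_of_equivalence (Discrete.equivalence Equiv.ulift.{v, 0})
  obtain ⟨ι, E, hc, hg⟩ := hD
  have hc' : ∀ i, FinFactor (E i) := fun i => finFactor_of_isCompactObject _ (hc i)
  let G := shiftFam E
  have hsmall : ∀ k, Small H G (G k) := by
    intro k g
    exact small_of_finFactor _ _ _ _ (isHocolim H G) _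
      (finFactor_shift _ (hc' k.1) k.2) (finFactor_shift _ (finFactor_shift _ (hc' k.1) k.2) (-1)) g
  have hbij : ∀ k, Function.Bijective (tau H (pi H G) (G k)) := by
    intro k
    refine ⟨?_, fun a => exists_lift H G k a⟩
    rw [tau_injective_iff]
    intro g hg'
    exact eq_zero_of_res_eq_zero H G k (hsmall k) g hg'
  have hshift : ∀ (k : ι × ℤ) (m : ℤ), ∃ k', Nonempty (G k' ≅ (G k)⟦m⟧) := by
    intro k m
    exact ⟨(k.1, k.2 + m), ⟨(shiftFunctorAdd' D k.2 m (k.2 + m) rfl).app (E k.1)⟩⟩
  have hall : ∀ Y, Function.Bijective (tau H (pi H G) Y) := fun Y =>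
    tau_bijective_of_presentation H G (pi H G) hshift hbij Y (isIso_piHom E hc' Y hg)
  refine ⟨hoc H G, ⟨?_⟩⟩
  exact
    { homEquiv := fun {Y} => Equiv.ofBijective (tau H (pi H G) Y) (hall Y)
      homEquiv_comp := fun {Y Y'} f g => by
        show tau H (pi H G) Y (f ≫ g) = _
        rw [tau_comp]
        rfl }

end

open CategoryTheory.Limits CategoryTheory.Pretriangulated.Opposite in
/-- Assume D is triangulated, has all small coproducts, and admits a set of compact objects that
generates it. Any cohomological functor from D^op to abelian groups that turns coproducts of D into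
products is of the form Hom(-, X) for some object X. -/
theorem result {D : Type u} [Category.{v} D] [Preadditive D] [Limits.HasZeroObject D] [HasShift D ℤ]
    [∀ n : ℤ, (shiftFunctor D n).Additive] [Pretriangulated D] [IsTriangulated D] [HasCoproducts.{v} D]
    (hD : CohDer.IsCompactlyGenerated D) (H : Dᵒᵖ ⥤ AddCommGrpCat.{v}) [H.IsHomological]
    [∀ (ι : Type v), PreservesLimitsOfShape (Discrete ι) H] :
    (H ⋙ forget AddCommGrpCat.{v}).IsRepresentable := by
  exact aux hD H

end Groth.Agent.S0473
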