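import Groth.Statements.S0474
import Groth.Statements.S0474
import Groth.Agent.S0473
import Mathlib
-- import your own Groth.Agent.* helpers here

set_option autoImplicit false
universe v u u'
open CategoryTheory
open CohDer

namespace Groth.Agent.S0474

section
open CategoryTheory.Limits CategoryTheory.Pretriangulated Opposite
open CategoryTheory.Pretriangulated.Opposite

theorem aux {D : Type u} [Category.{v} D] [Preadditive D] [Limits.HasZeroObject D] [HasShift D ℤ]
    [∀ n : ℤ, (shiftFunctor D n).Additive] [Pretriangulated D] [IsTriangulated D]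
    [HasCoproducts.{v} D]
    {D' : Type u'} [Category.{v} D'] [Preadditive D'] [Limits.HasZeroObject D'] [HasShift D' ℤ]
    [∀ n : ℤ, (shiftFunctor D' n).Additive] [Pretriangulated D']
    (hD : CohDer.IsCompactlyGenerated D) (F : D ⥤ D') [F.CommShift ℤ] [F.IsTriangulated]
    [∀ (ι : Type v), PreservesColimitsOfShape (Discrete ι) F] : F.IsLeftAdjoint := by
  have hpres : ∀ (κ : Type v), PreservesLimitsOfShape (Discrete κ) F.op := by
    intro κ
    haveI : PreservesColimitsOfShape (Discrete κ)ᵒᵖ F :=
      preservesColimitsOfShape_of_equiv (Discrete.opposite κ).symm F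
    exact preservesLimitsOfShape_op (Discrete κ) F
  have hrep : ∀ Y' : D', ((F.op ⋙ preadditiveYoneda.obj Y') ⋙
      forget AddCommGrpCat.{v}).IsRepresentable := by
    intro Y'
    haveI : ∀ (κ : Type v), PreservesLimitsOfShape (Discrete κ)
        (F.op ⋙ preadditiveYoneda.obj Y') := by
      intro κ
      haveI := hpres κ
      infer_instance
    exact Groth.Agent.S0473.result hD (F.op ⋙ preadditiveYoneda.obj Y')
  let Gobj : D' → D := fun Y' => ((F.op ⋙ preadditiveYoneda.obj Y') ⋙
      forget AddCommGrpCat.{v}).reprX
  let r : ∀ Y' : D', ((F.op ⋙ preadditiveYoneda.obj Y') ⋙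
      forget AddCommGrpCat.{v}).RepresentableBy (Gobj Y') := fun Y' =>
    ((F.op ⋙ preadditiveYoneda.obj Y') ⋙ forget AddCommGrpCat.{v}).representableBy
  let e : ∀ (X : D) (Y' : D'), (F.obj X ⟶ Y') ≃ (X ⟶ Gobj Y') := fun X Y' =>
    ((r Y').homEquiv (X := X)).symm
  have he : ∀ (X' X : D) (Y' : D') (f : X' ⟶ X) (g : F.obj X ⟶ Y'),
      e X' Y' (F.map f ≫ g) = f ≫ e X Y' g := by
    intro X' X Y' f g
    apply ((r Y').homEquiv (X := X')).injective
    rw [(r Y').homEquiv_comp]
    dsimp only [e]
    erw [Equiv.apply_symm_apply, Equiv.apply_symm_apply]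
    rfl
  exact (Adjunction.adjunctionOfEquivRight e he).isLeftAdjoint

end

open CategoryTheory.Limits in
/-- Let D be a compactly generated triangulated category with direct sums and F : D ⥤ D' an exact
functor of (pre)triangulated categories commuting with direct sums. Then F is a left adjoint. (The
source also shows the adjoint is exact; we only assert existence.) -/
theorem result {D : Type u} [Category.{v} D] [Preadditive D] [Limits.HasZeroObject D] [HasShift D ℤ]
    [∀ n : ℤ, (shiftFunctor D n).Additive] [Pretriangulated D] [IsTriangulated D] [HasCoproducts.{v} D]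
    {D' : Type u'} [Category.{v} D'] [Preadditive D'] [Limits.HasZeroObject D'] [HasShift D' ℤ]
    [∀ n : ℤ, (shiftFunctor D' n).Additive] [Pretriangulated D']
    (hD : CohDer.IsCompactlyGenerated D) (F : D ⥤ D') [F.CommShift ℤ] [F.IsTriangulated]
    [∀ (ι : Type v), PreservesColimitsOfShape (Discrete ι) F] : F.IsLeftAdjoint := by
  exact aux hD F

end Groth.Agent.S0474
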