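import Groth.Statements.S0475
import Groth.Statements.S0475
import Groth.Agent.Lib.Helper2.BrownCompact2
-- import your own Groth.Agent.* helpers here

set_option autoImplicit false
universe v u
open CategoryTheory
open CohDer

namespace Groth.Agent.S0475

section
open CategoryTheory.Limits CategoryTheory.Pretriangulated Groth.Agent.Helper2.Brown ZeroObject

variable {D : Type u} [Category.{v} D] [Preadditive D] [Limits.HasZeroObject D]

lemma homSum_of [HasCoproducts.{v} D] (K : D) {ι : Type v} (X : ι → D) [DecidableEq ι] (i : ι)
    (y : K ⟶ X i) :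
    CohDer.homSumToHomCoprod K X (DirectSum.of (fun i => K ⟶ X i) i y) = y ≫ Sigma.ι X i := by
  simp only [CohDer.homSumToHomCoprod]
  erw [DirectSum.toAddMonoid_of]
  rfl

lemma homSum_comp_π [HasCoproducts.{v} D] (K : D) {ι : Type v} (X : ι → D) [DecidableEq ι]
    (x : DirectSum ι (fun i => K ⟶ X i)) (j : ι) :
    CohDer.homSumToHomCoprod K X x ≫ Sigma.π X j = x j := by
  induction x using DirectSum.induction_on with
  | zero => simp
  | of i y =>
    rw [homSum_of, Category.assoc]
    by_cases hij : i = j
    · subst hij
      rw [Sigma.ι_π_eq_id, Category.comp_id, DirectSum.of_eq_same]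
    · rw [Sigma.ι_π_of_ne _ hij, comp_zero, DirectSum.of_eq_of_ne _ _ _ (Ne.symm hij)]
  | add x y hx hy =>
    rw [map_add, Preadditive.add_comp, hx, hy]
    rfl

lemma isCompactObject_of_finFactor [HasCoproducts.{v} D] (K : D) (h : FinFactor K) :
    CohDer.IsCompactObject K := by
  classical
  intro ι X
  constructor
  · rw [injective_iff_map_eq_zero]
    intro x hx
    ext j
    rw [← homSum_comp_π K X x j, hx, zero_comp]
    rfl
  · intro g
    obtain ⟨s, c, hc⟩ := h ι X g
    refine ⟨∑ i ∈ s, DirectSum.of (fun i => K ⟶ X i) i (c i), ?_⟩
    rw [map_sum, hc]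
    refine Finset.sum_congr rfl (fun i _ => ?_)
    exact homSum_of K X i (c i)

variable [HasShift D ℤ] [∀ n : ℤ, (shiftFunctor D n).Additive] [Pretriangulated D]
  [HasCoproducts.{v} D]

theorem aux : ObjectProperty.IsTriangulated (fun K : D => CohDer.IsCompactObject K) := by
  haveI : HasColimitsOfShape (Discrete ℕ) D :=
    hasColimitsOfShape_of_equivalence (Discrete.equivalence Equiv.ulift.{v, 0})
  haveI : ObjectProperty.IsClosedUnderIsomorphisms (fun K : D => CohDer.IsCompactObject K) := by
    constructor
    intro X Y e hX
    apply isCompactObject_of_finFactor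
    have hX' := finFactor_of_isCompactObject _ hX
    intro ι Z g
    obtain ⟨s, c, hc⟩ := hX' ι Z (e.hom ≫ g)
    refine ⟨s, fun i => e.inv ≫ c i, ?_⟩
    have : g = e.inv ≫ (e.hom ≫ g) := by rw [e.inv_hom_id_assoc]
    rw [this, hc, Preadditive.comp_sum]
    refine Finset.sum_congr rfl (fun i _ => ?_)
    rw [Category.assoc]
  haveI : ObjectProperty.ContainsZero (fun K : D => CohDer.IsCompactObject K) := by
    refine ⟨⟨(0 : D), isZero_zero D, ?_⟩⟩
    apply isCompactObject_of_finFactor
    intro ι X g
    exact ⟨∅, fun i => 0, by simpa using (isZero_zero D).eq_of_src g 0⟩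
  haveI : ObjectProperty.IsStableUnderShift (fun K : D => CohDer.IsCompactObject K) ℤ := by
    refine ⟨fun a => ObjectProperty.IsStableUnderShiftBy.mk ?_⟩
    intro K hK
    exact isCompactObject_of_finFactor _ (finFactor_shift K (finFactor_of_isCompactObject _ hK) a)
  haveI : ObjectProperty.IsTriangulatedClosed₂ (fun K : D => CohDer.IsCompactObject K) := by
    apply ObjectProperty.IsTriangulatedClosed₂.mk'
    intro T hT h1 h3
    exact isCompactObject_of_finFactor _ (finFactor_of_triangle T hT
      (finFactor_of_isCompactObject _ h1) (finFactor_of_isCompactObject _ h3))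
  exact {}

end

open CategoryTheory.Limits in
/-- In a pretriangulated category with direct sums the property of being a compact object contains zero,
is stable under all shifts and is closed under extensions in distinguished triangles (a triangulated
subcategory in Mathlib's sense). The source also shows it is Karoubian and saturated. -/
theorem result {D : Type u} [Category.{v} D] [Preadditive D] [Limits.HasZeroObject D] [HasShift D ℤ]
    [∀ n : ℤ, (shiftFunctor D n).Additive] [Pretriangulated D] [HasCoproducts.{v} D] :
    ObjectProperty.IsTriangulated (fun K : D => CohDer.IsCompactObject K) := by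
  exact aux

end Groth.Agent.S0475
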