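import Groth.Statements.S0479
import Mathlib
import Groth.Agent.Lib.Helper2.BrD5
import Groth.Agent.Lib.Helper29.DAdjB
-- import your own Groth.Agent.* helpers here

set_option autoImplicit false
universe v u
open CategoryTheory
open CohDer

namespace Groth.Agent.S0479

section

open CategoryTheory CategoryTheory.Limits AlgebraicGeometry Opposite Topology
open CategoryTheory.Pretriangulated.Opposite Groth.Agent.Helper2.BrD Groth.Agent.Helper29

theorem main {A : Type u} [Category.{v} A] [Abelian A]
    [IsGrothendieckAbelian.{v} A] [HasDerivedCategory.{v} A]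
    (H : (DerivedCategory A)ᵒᵖ ⥤ AddCommGrpCat.{v}) [H.IsHomological]
    [∀ (ι : Type v), PreservesLimitsOfShape (Discrete ι) H] :
    (H ⋙ forget AddCommGrpCat.{v}).IsRepresentable := by
  let U := separator A
  have hU : IsSeparator U := isSeparator_separator A
  letI : HasDerivedCategory.{v} (ModuleCat.{v} (End U)ᵐᵒᵖ) :=
    hasDerivedCategory (ModuleCat.{v} (End U)ᵐᵒᵖ)
  let F := IsGrothendieckAbelian.tensorObj U
  let G := preadditiveCoyonedaObj U
  let adj : F ⊣ G := IsGrothendieckAbelian.tensorObjPreadditiveCoyonedaObjAdjunction U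
  haveI : PreservesFiniteLimits F :=
    IsGrothendieckAbelian.GabrielPopescu.preservesFiniteLimits U hU
  haveI : PreservesFiniteColimits F := by
    haveI : PreservesColimitsOfSize.{0, 0} F := adj.leftAdjoint_preservesColimits
    exact PreservesColimitsOfSize.preservesFiniteColimits F
  haveI : G.Additive := inferInstance
  haveI : F.Additive := adj.left_adjoint_additive
  haveI : G.Full := IsGrothendieckAbelian.GabrielPopescu.full U hU
  haveI : G.Faithful := (isSeparator_iff_faithful_preadditiveCoyonedaObj U).1 hU
  haveI : IsIso adj.counit := inferInstance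
  haveI : ∀ Y, HasTerminal (CostructuredArrow F.mapDerivedCategory Y) :=
    DAdjA.hasTerminal_costructuredArrow adj
  haveI : F.mapDerivedCategory.IsLeftAdjoint := isLeftAdjoint_of_costructuredArrowTerminals _
  let LF := F.mapDerivedCategory
  let RG := LF.rightAdjoint
  let adjD : LF ⊣ RG := Adjunction.ofIsLeftAdjoint _
  haveI := DAdjB.isIso_counit adj adjD
  haveI : RG.Full := adjD.fullyFaithfulROfIsIsoCounit.full
  haveI : RG.Faithful := adjD.fullyFaithfulROfIsIsoCounit.faithful
  let H' := LF.op ⋙ H
  haveI : H'.IsHomological := inferInstance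
  haveI : ∀ (ι : Type v), PreservesLimitsOfShape (Discrete ι) H' := by
    intro κ
    haveI : PreservesColimitsOfSize.{v, v} LF := adjD.leftAdjoint_preservesColimits
    haveI : PreservesColimitsOfShape (Discrete κ)ᵒᵖ LF :=
      preservesColimitsOfShape_of_equiv (Discrete.opposite κ).symm LF
    haveI : PreservesLimitsOfShape (Discrete κ) LF.op := preservesLimitsOfShape_op (Discrete κ) LF
    infer_instance
  obtain ⟨Y', ⟨rep⟩⟩ := (brown_module (End U)ᵐᵒᵖ H').has_representation
  let u : (H ⋙ forget AddCommGrpCat.{v}).obj (op (LF.obj Y')) := rep.homEquiv (𝟙 Y')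
  have hu : ∀ M, Function.Bijective
      (fun g : M ⟶ Y' => (H ⋙ forget AddCommGrpCat.{v}).map (LF.map g).op u) := by
    intro M
    have h1 : (fun g : M ⟶ Y' => (H ⋙ forget AddCommGrpCat.{v}).map (LF.map g).op u) =
        rep.homEquiv := by
      funext g
      have := rep.homEquiv_comp g (𝟙 Y')
      rw [Category.comp_id] at this
      exact this.symm
    rw [h1]
    exact rep.homEquiv.bijective
  have hall := representable_of_adjunction LF RG adjD (H ⋙ forget AddCommGrpCat.{v}) Y' u hu
  refine ⟨LF.obj Y', ⟨?_⟩⟩
  exact
    { homEquiv := fun {X} => Equiv.ofBijective _ (hall X)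
      homEquiv_comp := fun {X X'} f g => by
        change (H ⋙ forget AddCommGrpCat.{v}).map (f ≫ g).op u =
          (H ⋙ forget AddCommGrpCat.{v}).map f.op ((H ⋙ forget AddCommGrpCat.{v}).map g.op u)
        rw [op_comp, Functor.map_comp]
        rfl }

end

open CategoryTheory.Limits CategoryTheory.Pretriangulated.Opposite in
/-- For A Grothendieck abelian, every cohomological functor from D(A)^op to abelian groups that turns
coproducts into products is of the form Hom(-, X) for some object X of D(A). -/
theorem result {A : Type u} [Category.{v} A] [Abelian A]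
    [IsGrothendieckAbelian.{v} A] [HasDerivedCategory.{v} A]
    (H : (DerivedCategory A)ᵒᵖ ⥤ AddCommGrpCat.{v}) [H.IsHomological]
    [∀ (ι : Type v), PreservesLimitsOfShape (Discrete ι) H] :
    (H ⋙ forget AddCommGrpCat.{v}).IsRepresentable := by
  exact Groth.Agent.S0479.main H

end Groth.Agent.S0479
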