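import Groth.Statements.S0480


set_option autoImplicit false
universe v u
open CategoryTheory
open CohDer

namespace Groth.Agent.S0480

open CategoryTheory.Limits in
/-- In an abelian category, if the product of a family of K-injective cochain complexes exists (it is
then the termwise product), it is again K-injective. -/
theorem result {A : Type u} [Category.{v} A] [Abelian A] {T : Type v} (I : T → CochainComplex A ℤ)
    [HasProduct I] (h : ∀ t, (I t).IsKInjective) : (∏ᶜ I).IsKInjective := by
  classical
  refine ⟨fun {K} f hK => ?_⟩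
  open CochainComplex HomComplex in
  -- for each t choose a homotopy of f ≫ π_t to zero
  have hα : ∀ t, ∃ α : Cochain K (I t) (-1), δ (-1) 0 α = Cochain.ofHom (f ≫ Pi.π I t) := by
    intro t
    haveI := h t
    obtain ⟨ho⟩ := IsKInjective.nonempty_homotopy_zero (f ≫ Pi.π I t) hK
    obtain ⟨z, hz⟩ := Cochain.equivHomotopy _ _ ho
    refine ⟨z, ?_⟩
    rw [hz]; simp
  choose α hα using hα
  let g : ∀ t, mappingCone (𝟙 K) ⟶ I t := fun t =>
    mappingCone.desc (𝟙 K) (α t) (f ≫ Pi.π I t) (by rw [hα t]; simp)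
  let G : mappingCone (𝟙 K) ⟶ ∏ᶜ I := Pi.lift g
  have hG : mappingCone.inr (𝟙 K) ≫ G = f := by
    apply Pi.hom_ext
    intro t
    simp [G, g]
  refine ⟨(Cochain.equivHomotopy f 0).symm
    ⟨(mappingCone.inl (𝟙 K)).comp (Cochain.ofHom G) (add_zero _), ?_⟩⟩
  rw [δ_comp_ofHom, mappingCone.δ_inl]
  simp [← hG]

end Groth.Agent.S0480
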