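import Groth.Statements.S0481


set_option autoImplicit false
universe v u
open CategoryTheory
open CohDer

namespace Groth.Agent.S0481

open CategoryTheory.Limits in
/-- Let u : A ⥤ B be right adjoint to an exact additive functor w : B ⥤ A between abelian categories.
Then u applied termwise sends K-injective complexes to K-injective complexes. -/
theorem result {A : Type u} [Category.{v} A] [Abelian A]
    {B : Type u} [Category.{v} B] [Abelian B] (u : A ⥤ B) (w : B ⥤ A) (adj : w ⊣ u)
    [u.Additive] [w.Additive] [PreservesFiniteLimits w] [PreservesFiniteColimits w]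
    (I : CochainComplex A ℤ) (h : I.IsKInjective) :
    CochainComplex.IsKInjective ((u.mapHomologicalComplex (ComplexShape.up ℤ)).obj I) := by
  classical
  refine ⟨fun {K} f hK => ?_⟩
  have := h
  have aux1 : ∀ {X X' : B} {Y Y' : A} (a : X ⟶ u.obj Y) (d : Y ⟶ Y') (a' : X' ⟶ u.obj Y')
      (d' : X ⟶ X'), a ≫ u.map d = d' ≫ a' →
      (w.map a ≫ adj.counit.app Y) ≫ d = w.map d' ≫ w.map a' ≫ adj.counit.app Y' := by
    intro X X' Y Y' a d a' d' hh
    rw [← Category.assoc, ← w.map_comp, ← hh]
    simp
  have aux2 : ∀ {X : B} {Y : A} (a : X ⟶ u.obj Y),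
      a = adj.unit.app X ≫ u.map (w.map a ≫ adj.counit.app Y) := by
    intro X Y a
    simp
  -- the adjoint morphism w(K) ⟶ I
  let f' : (w.mapHomologicalComplex (ComplexShape.up ℤ)).obj K ⟶ I :=
    { f := fun n => w.map (f.f n) ≫ adj.counit.app (I.X n)
      comm' := fun i j _ => aux1 (f.f i) (I.d i j) (f.f j) (K.d i j) (f.comm i j) }
  have hwK : ((w.mapHomologicalComplex (ComplexShape.up ℤ)).obj K).Acyclic := by
    intro n
    exact (hK n).map w
  obtain ⟨ho⟩ := CochainComplex.IsKInjective.nonempty_homotopy_zero f' hwK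
  have ho' := (u.mapHomotopy ho).compLeft
    ((NatTrans.mapHomologicalComplex adj.unit (ComplexShape.up ℤ)).app K)
  refine ⟨(Homotopy.ofEq ?_).trans (ho'.trans (Homotopy.ofEq ?_))⟩
  · ext n
    exact aux2 (f.f n)
  · ext n
    simp
    rfl

end Groth.Agent.S0481
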