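import Groth.Statements.S0482
import Mathlib
import Groth.Agent.Lib.Helper10.OverSite

set_option autoImplicit false
universe u
open CategoryTheory
open CohSite

namespace Groth.Agent.S0482

section helpers

open CategoryTheory.Limits Opposite Groth.Agent.Helper10.OverSite

/-- Two objects corepresenting the same functor are isomorphic. -/
def isoOfCorep {D : Type*} [Category D] {X Y : D} (T : D → Type*)
    (Tmap : ∀ {Z Z' : D}, (Z ⟶ Z') → T Z → T Z')
    (eX : ∀ Z, (X ⟶ Z) ≃ T Z) (eY : ∀ Z, (Y ⟶ Z) ≃ T Z)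
    (hX : ∀ {Z Z' : D} (g : X ⟶ Z) (f : Z ⟶ Z'), eX Z' (g ≫ f) = Tmap f (eX Z g))
    (hY : ∀ {Z Z' : D} (g : Y ⟶ Z) (f : Z ⟶ Z'), eY Z' (g ≫ f) = Tmap f (eY Z g)) : X ≅ Y :=
  Coyoneda.ext X Y (fun g => (eY _).symm (eX _ g)) (fun g => (eX _).symm (eY _ g))
    (fun f => by simp) (fun f => by simp)
    (fun f g => by
      apply (eX _).injective
      rw [hX, Equiv.apply_symm_apply, Equiv.apply_symm_apply, hY])

variable {C : Type u} [SmallCategory C] (J : GrothendieckTopology C) (U : C)

/-- The free abelian sheaf on `U`. -/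
noncomputable abbrev LU : Sheaf J AddCommGrpCat.{u} :=
  (presheafToSheaf J AddCommGrpCat.{u}).obj (yoneda.obj U ⋙ AddCommGrpCat.free.{u})

/-- The adjunction computing maps out of free abelian sheaves on presheaves of sets. -/
noncomputable abbrev adjL :
    (Functor.whiskeringRight Cᵒᵖ _ _).obj AddCommGrpCat.free.{u} ⋙
        presheafToSheaf J AddCommGrpCat.{u} ⊣
      sheafToPresheaf J AddCommGrpCat.{u} ⋙
        (Functor.whiskeringRight Cᵒᵖ _ _).obj (forget AddCommGrpCat.{u}) :=
  (AddCommGrpCat.adj.{u}.whiskerRight Cᵒᵖ).comp (sheafificationAdjunction J AddCommGrpCat.{u})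

/-- Maps out of the free abelian sheaf on `U` are sections over `U`. -/
noncomputable def e₁ (G : Sheaf J AddCommGrpCat.{u}) : (LU J U ⟶ G) ≃ G.obj.obj (op U) :=
  ((adjL J).homEquiv (yoneda.obj U) G).trans yonedaEquiv

lemma e₁_nat {G G' : Sheaf J AddCommGrpCat.{u}} (g : LU J U ⟶ G) (f : G ⟶ G') :
    e₁ J U G' (g ≫ f) = (f.hom.app (op U)) (e₁ J U G g) := by
  simp only [e₁, Equiv.trans_apply]
  rw [Adjunction.homEquiv_naturality_right, yonedaEquiv_comp]
  rfl

/-- The constant sheaf `ℤ` on `C/U` extended by zero. -/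
noncomputable abbrev MU : Sheaf J AddCommGrpCat.{u} :=
  (shriekAb J U).obj ((constantSheaf (J.over U) AddCommGrpCat.{u}).obj
    (AddCommGrpCat.of (ULift.{u} ℤ)))

/-- The adjunction computing maps out of `j_!` of constant sheaves. -/
noncomputable abbrev adjM :
    constantSheaf (J.over U) AddCommGrpCat.{u} ⋙ shriekAb J U ⊣
      resAb J U ⋙ (sheafSections (J.over U) AddCommGrpCat.{u}).obj (op (Over.mk (𝟙 U))) :=
  (constantSheafAdj (J.over U) AddCommGrpCat.{u} Over.mkIdTerminal).comp (adjAb J U)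

/-- Maps out of `j_! ℤ` are sections over `U`. -/
noncomputable def e₂ (G : Sheaf J AddCommGrpCat.{u}) : (MU J U ⟶ G) ≃ G.obj.obj (op U) :=
  ((adjM J U).homEquiv (AddCommGrpCat.of (ULift.{u} ℤ)) G).trans
    (AddCommGrpCat.uliftZMultiplesAddEquiv (G.obj.obj (op U))).toEquiv

lemma e₂_nat {G G' : Sheaf J AddCommGrpCat.{u}} (g : MU J U ⟶ G) (f : G ⟶ G') :
    e₂ J U G' (g ≫ f) = (f.hom.app (op U)) (e₂ J U G g) := by
  simp only [e₂, Equiv.trans_apply]
  rw [Adjunction.homEquiv_naturality_right]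
  rfl

/-- The free abelian sheaf on `U` is `j_! ℤ`. -/
noncomputable def isoLM : LU J U ≅ MU J U :=
  isoOfCorep (fun G : Sheaf J AddCommGrpCat.{u} => G.obj.obj (op U))
    (fun f t => (f.hom.app (op U)) t) (e₁ J U) (e₂ J U)
    (fun g f => e₁_nat J U g f) (fun g f => e₂_nat J U g f)

end helpers

/-- For a sheaf of abelian groups F on a small site and an object U, H^n(U, F) (Ext out of the free
abelian sheaf on U) is isomorphic to the cohomology of the restriction of F to the site of objects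
over U (existence of a group isomorphism). -/
theorem result {C : Type u} [SmallCategory C] (J : GrothendieckTopology C)
    (F : Sheaf J AddCommGrpCat.{u}) (U : C) (n : ℕ) :
    Nonempty (CohSite.HU F n U ≃+ Sheaf.H.{u} (F.over U) n) := by
  refine ⟨(Groth.Agent.Helper10.ExtAdj.extCongrLeft (isoLM J U) F n).symm.trans ?_⟩
  exact Groth.Agent.Helper10.OverSite.extEquiv J U _ F n

end Groth.Agent.S0482
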