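import Groth.Statements.S0485
import Mathlib

set_option autoImplicit false
universe u
open CategoryTheory
open CohSite

namespace Groth.Agent.S0485


open CategoryTheory.Limits in
lemma isSeparator_of_adjunction {𝒜 ℬ : Type*} [Category 𝒜] [Category ℬ] [HasZeroMorphisms 𝒜]
    [HasZeroMorphisms ℬ] {F : 𝒜 ⥤ ℬ} {G : ℬ ⥤ 𝒜} (adj : F ⊣ G) [G.Faithful] {X : 𝒜}
    (hX : IsSeparator X) : IsSeparator (F.obj X) := by
  rw [isSeparator_def]
  intro M N f g h
  apply G.map_injective
  rw [isSeparator_def] at hX
  apply hX
  intro h₀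
  have := h ((adj.homEquiv _ _).symm h₀)
  have h2 := congrArg (adj.homEquiv _ _) this
  rw [Adjunction.homEquiv_naturality_right, Adjunction.homEquiv_naturality_right,
    Equiv.apply_symm_apply] at h2
  exact h2

/-- For a sheaf of rings O on a small site, every O-module embeds into an injective O-module. -/
theorem result {C : Type u} [SmallCategory C] (J : GrothendieckTopology C)
    (R : Sheaf J RingCat.{u}) : EnoughInjectives (SheafOfModules.{u} R) := by
  have h5p : AB5OfSize.{u, u} (PresheafOfModules.{u} R.obj) :=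
    ⟨fun K _ _ => HasExactColimitsOfShape.domain_of_functor K (PresheafOfModules.toPresheaf R.obj)⟩
  have hsepP : HasSeparator (PresheafOfModules.{u} R.obj) := by
    have hS := PresheafOfModules.freeYoneda.isSeparating R.obj
    refine ⟨⟨Limits.sigmaObj (yoneda ⋙ PresheafOfModules.free R.obj).obj, ?_⟩⟩
    exact ObjectProperty.IsSeparating.isSeparator_coproduct hS
  let adj := PresheafOfModules.sheafificationAdjunction (𝟙 R.obj)
  have h5 : AB5OfSize.{u, u} (SheafOfModules.{u} R) :=
    ⟨fun K _ _ => adj.hasExactColimitsOfShape K⟩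
  have hsep : HasSeparator (SheafOfModules.{u} R) :=
    ⟨⟨_, isSeparator_of_adjunction adj (isSeparator_separator _)⟩⟩
  have : IsGrothendieckAbelian.{u} (SheafOfModules.{u} R) := { }
  infer_instance

end Groth.Agent.S0485
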