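import Groth.Statements.S0490
import Mathlib.CategoryTheory.Triangulated.Orthogonal
import Mathlib.CategoryTheory.Adjunction.Comma
import Mathlib.CategoryTheory.Adjunction.Additive
-- import your own Groth.Agent.* helpers here

set_option autoImplicit false
universe v u
open CategoryTheory
open CohDer

namespace Groth.Agent.S0490

section
open CategoryTheory CategoryTheory.Limits CategoryTheory.Pretriangulated

variable {D : Type u} [Category.{v} D] [Preadditive D] [Limits.HasZeroObject D] [HasShift D ℤ]
    [∀ n : ℤ, (shiftFunctor D n).Additive] [Pretriangulated D]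
    (P : ObjectProperty D) [P.IsTriangulated]

/-- from a decomposition triangle, a terminal costructured arrow -/
lemma hasTerminal_of_triangle (X : D) (A B : D) (f : A ⟶ X) (g : X ⟶ B)
    (h : B ⟶ (shiftFunctor D (1 : ℤ)).obj A)
    (hT : Triangle.mk f g h ∈ distinguishedTriangles) (hA : P A) (hB : P.rightOrthogonal B) :
    HasTerminal (CostructuredArrow P.ι X) := by
  have hB' : P.rightOrthogonal ((shiftFunctor D (-1 : ℤ)).obj B) :=
    P.rightOrthogonal.le_shift (-1 : ℤ) _ hB
  -- rotate the triangle backwards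
  have hT' := inv_rot_of_distTriang _ hT
  have key : ∀ (A' : D) (hA' : P A') (f' : A' ⟶ X), ∃! a : A' ⟶ A, a ≫ f = f' := by
    intro A' hA' f'
    have h0 : f' ≫ g = 0 := hB _ hA'
    obtain ⟨a, ha⟩ : ∃ a : A' ⟶ A, f' = a ≫ f := Triangle.coyoneda_exact₂ _ hT f' h0
    refine ⟨a, ha.symm, ?_⟩
    intro a' ha'
    have h1 : (a' - a) ≫ f = 0 := by
      rw [Preadditive.sub_comp, ha']
      have : a ≫ f = f' := ha.symm
      rw [this, sub_self]
    obtain ⟨b, hb⟩ : ∃ b : A' ⟶ (shiftFunctor D (-1 : ℤ)).obj B,
        a' - a = b ≫ (Triangle.mk f g h).invRotate.mor₁ :=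
      Triangle.coyoneda_exact₂ _ hT' (a' - a) h1
    have hb0 : b = 0 := hB' _ hA'
    rw [hb0, zero_comp] at hb
    exact sub_eq_zero.1 hb
  let T : CostructuredArrow P.ι X := CostructuredArrow.mk (Y := (⟨A, hA⟩ : P.FullSubcategory)) f
  have hterm : IsTerminal T := by
    refine IsTerminal.ofUniqueHom (fun Z => CostructuredArrow.homMk
      (ObjectProperty.homMk (key Z.left.obj Z.left.property Z.hom).exists.choose)
      (key Z.left.obj Z.left.property Z.hom).exists.choose_spec) (fun Z m => ?_)
    apply CostructuredArrow.hom_ext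
    apply ObjectProperty.hom_ext
    have h1 : m.left.hom ≫ f = Z.hom := CostructuredArrow.w m
    exact (key Z.left.obj Z.left.property Z.hom).unique h1
      (key Z.left.obj Z.left.property Z.hom).exists.choose_spec
  exact hterm.hasTerminal

theorem aux :
    P.ι.IsLeftAdjoint ↔ ∀ X : D, ∃ (A B : D) (f : A ⟶ X) (g : X ⟶ B) (h : B ⟶ (shiftFunctor D (1 : ℤ)).obj A),
      Triangle.mk f g h ∈ distinguishedTriangles ∧ P A ∧ P.rightOrthogonal B := by
  constructor
  · intro hL X
    let R := P.ι.rightAdjoint
    let adj : P.ι ⊣ R := Adjunction.ofIsLeftAdjoint P.ι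
    let ε : (R.obj X).obj ⟶ X := adj.counit.app X
    obtain ⟨B, g, h, hT⟩ := distinguished_cocone_triangle ε
    refine ⟨(R.obj X).obj, B, ε, g, h, hT, (R.obj X).property, ?_⟩
    -- every map from an object of `P` to `X` factors uniquely through `ε`
    have key : ∀ (A' : D) (hA' : P A') (f' : A' ⟶ X), ∃ a : A' ⟶ (R.obj X).obj, a ≫ ε = f' := by
      intro A' hA' f'
      let Z : P.FullSubcategory := ⟨A', hA'⟩
      refine ⟨(adj.homEquiv Z X f').hom, ?_⟩
      have := adj.homEquiv_counit Z X (adj.homEquiv Z X f')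
      simp only [Equiv.symm_apply_apply] at this
      exact this.symm
    have key2 : ∀ (A' : D) (hA' : P A') (a : A' ⟶ (R.obj X).obj), a ≫ ε = 0 → a = 0 := by
      intro A' hA' a ha
      let Z : P.FullSubcategory := ⟨A', hA'⟩
      let a' : Z ⟶ R.obj X := ObjectProperty.homMk a
      have h1 : (adj.homEquiv Z X).symm a' = 0 := by
        rw [adj.homEquiv_counit]
        exact ha
      have h2 : a' = adj.homEquiv Z X ((adj.homEquiv Z X).symm a') := by simp
      have h3 : a' = adj.homEquiv Z X 0 := by rw [h2, h1]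
      have h4 : adj.homEquiv Z X 0 = 0 := by
        rw [adj.homEquiv_unit]
        simp
      have h5 : a'.hom = 0 := by rw [h3, h4]; rfl
      exact h5
    intro A' ψ hA'
    -- ψ ≫ h = 0
    have h1 : ψ ≫ h = 0 := by
      let adj1 : shiftFunctor D (-1 : ℤ) ⊣ shiftFunctor D (1 : ℤ) :=
        (shiftEquiv' D (-1 : ℤ) 1 (by norm_num)).toAdjunction
      set χ := ψ ≫ h with hχ
      have h2 : χ ≫ (shiftFunctor D (1 : ℤ)).map ε = 0 := by
        rw [hχ, Category.assoc]
        have : h ≫ (shiftFunctor D (1 : ℤ)).map ε = 0 := comp_distTriang_mor_zero₃₁ _ hT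
        rw [this, comp_zero]
      have h3 : (adj1.homEquiv _ _).symm χ ≫ ε = 0 := by
        rw [← adj1.homEquiv_naturality_right_symm, h2]
        exact Adjunction.homAddEquiv_symm_zero adj1 _ _
      have h5 : (adj1.homEquiv _ _).symm χ = 0 :=
        key2 _ (P.le_shift (-1 : ℤ) _ hA') _ h3
      have h6 : χ = adj1.homEquiv _ _ ((adj1.homEquiv _ _).symm χ) := by simp
      rw [h6, h5]
      exact Adjunction.homAddEquiv_zero adj1 _ _
    obtain ⟨y, hy⟩ : ∃ y : A' ⟶ X, ψ = y ≫ g := Triangle.coyoneda_exact₃ _ hT ψ h1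
    obtain ⟨a, rfl⟩ := key A' hA' y
    rw [hy, Category.assoc]
    have : ε ≫ g = 0 := comp_distTriang_mor_zero₁₂ _ hT
    rw [this, comp_zero]
  · intro H
    rw [isLeftAdjoint_iff_hasTerminal_costructuredArrow]
    intro X
    obtain ⟨A, B, f, g, h, hT, hA, hB⟩ := H X
    exact hasTerminal_of_triangle P X A B f g h hT hA hB
end

open CategoryTheory.Pretriangulated in
/-- Let A be a full triangulated subcategory of a pretriangulated category D (an object property
containing zero, stable under shifts and closed under extensions). The inclusion A → D is a left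
adjoint (i.e. has a right adjoint) if and only if every object X of D fits in a distinguished
triangle A → X → B → A[1] with A in the subcategory and B right orthogonal to it. (The source's
further conclusions about saturation are not asserted.) -/
theorem result {D : Type u} [Category.{v} D] [Preadditive D] [Limits.HasZeroObject D] [HasShift D ℤ]
    [∀ n : ℤ, (shiftFunctor D n).Additive] [Pretriangulated D]
    (P : ObjectProperty D) [P.IsTriangulated] :
    P.ι.IsLeftAdjoint ↔ ∀ X : D, ∃ (A B : D) (f : A ⟶ X) (g : X ⟶ B) (h : B ⟶ (shiftFunctor D (1 : ℤ)).obj A),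
      Triangle.mk f g h ∈ distinguishedTriangles ∧ P A ∧ P.rightOrthogonal B := by
  exact aux P

end Groth.Agent.S0490
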