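import Groth.Statements.S0492
import Mathlib

set_option autoImplicit false
universe u
open CategoryTheory
open CohSite

namespace Groth.Agent.S0492

section helpers

open CategoryTheory.Limits Opposite

variable {C : Type u} [SmallCategory C] (J : GrothendieckTopology C)

/-- The sections functor to types. -/
noncomputable abbrev Γ (W : C) : Sheaf J AddCommGrpCat.{u} ⥤ Type u :=
  sheafToPresheaf J _ ⋙ (evaluation _ _).obj (op W) ⋙ forget AddCommGrpCat.{u}

lemma surj_of_wc {W : C} (hW : CohSite.IsWeaklyContractible J W)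
    {M N : Sheaf J AddCommGrpCat.{u}} (g : M ⟶ N) [Epi g] :
    Function.Surjective (g.hom.app (op W)) := by
  have h1 : Sheaf.IsLocallySurjective g := (Sheaf.isLocallySurjective_iff_epi' (φ := g)).2 inferInstance
  let g' := (sheafCompose J (forget AddCommGrpCat.{u})).map g
  have h2 : Sheaf.IsLocallySurjective g' :=
    (Presheaf.isLocallySurjective_iff_whisker_forget J g.hom).1 h1
  have h3 : Epi g' := inferInstance
  exact hW _ _ g' h3

lemma epi_limMap {α : Type u} (B : Set C) (hB : ∀ U ∈ B, CohSite.IsWeaklyContractible J U)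
    (hcov : ∀ V : C, ∃ (ι : Type u) (U : ι → C) (f : ∀ i, U i ⟶ V),
      (∀ i, U i ∈ B) ∧ Sieve.ofArrows U f ∈ J V)
    {X Y : Discrete α ⥤ Sheaf J AddCommGrpCat.{u}} (g : X ⟶ Y) [Epi g] :
    Epi (limMap g) := by
  have hg : ∀ a, Epi (g.app a) := fun a => inferInstance
  suffices h : Sheaf.IsLocallySurjective (limMap g) from inferInstance
  refine ⟨fun {V} s => ?_⟩
  obtain ⟨ι, U, f, hUB, hV⟩ := hcov V
  refine J.superset_covering ?_ hV
  rw [Sieve.generate_le_iff, Presieve.ofArrows_le_iff]
  intro k
  have hW := hB (U k) (hUB k)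
  let hcX := isLimitOfPreserves (Γ J (U k)) (limit.isLimit X)
  let hcY := isLimitOfPreserves (Γ J (U k)) (limit.isLimit Y)
  let s' : (Γ J (U k)).obj (limit Y) := (limit Y).obj.map (f k).op s
  have hch : ∀ a : Discrete α, ∃ t : (Γ J (U k)).obj (X.obj a),
      (Γ J (U k)).map (g.app a) t = (Γ J (U k)).map (limit.π Y a) s' := fun a =>
    surj_of_wc J hW (g.app a) _
  choose t ht using hch
  have hsec : t ∈ (X ⋙ Γ J (U k)).sections := by
    rintro ⟨a⟩ ⟨b⟩ φ
    obtain rfl : a = b := Discrete.eq_of_hom φ
    have : φ = 𝟙 _ := Subsingleton.elim _ _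
    rw [this, CategoryTheory.Functor.map_id]
    rfl
  refine ⟨(Types.isLimitEquivSections hcX).symm ⟨t, hsec⟩, ?_⟩
  apply (Types.isLimitEquivSections hcY).injective
  apply Subtype.ext
  funext a
  rw [Types.isLimitEquivSections_apply, Types.isLimitEquivSections_apply]
  have e1 : (Γ J (U k)).map (limit.π X a) ((Types.isLimitEquivSections hcX).symm ⟨t, hsec⟩) = t a :=
    Types.isLimitEquivSections_symm_apply hcX ⟨t, hsec⟩ a
  have e2 : limMap g ≫ limit.π Y a = limit.π X a ≫ g.app a := limMap_π g a
  change (Γ J (U k)).map (limit.π Y a) ((Γ J (U k)).map (limMap g)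
    ((Types.isLimitEquivSections hcX).symm ⟨t, hsec⟩)) = (Γ J (U k)).map (limit.π Y a) s'
  rw [← CategoryTheory.Functor.map_comp_apply, e2, CategoryTheory.Functor.map_comp_apply, e1]
  exact ht a

end helpers

open CategoryTheory.Limits in
/-- Part (4), for sheaves of abelian groups: let B be a set of weakly contractible objects of a small
site such that every object admits a covering family by members of B. Then products in the category
of abelian sheaves are exact (Grothendieck's AB4*). -/
theorem result {C : Type u} [SmallCategory C] (J : GrothendieckTopology C)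
    (B : Set C) (hB : ∀ U ∈ B, CohSite.IsWeaklyContractible J U)
    (hcov : ∀ V : C, ∃ (ι : Type u) (U : ι → C) (f : ∀ i, U i ⟶ V), (∀ i, U i ∈ B) ∧ Sieve.ofArrows U f ∈ J V) :
    AB4Star (Sheaf J AddCommGrpCat.{u}) := by
  refine ⟨fun α => ⟨?_⟩⟩
  have hcadd : (Functor.const (Discrete α) : Sheaf J AddCommGrpCat.{u} ⥤ _).Additive :=
    { map_add := by intros; ext; rfl }
  have hadd : (lim : (Discrete α ⥤ Sheaf J AddCommGrpCat.{u}) ⥤ _).Additive :=
    constLimAdj.right_adjoint_additive
  have hlim : PreservesFiniteLimits (lim : (Discrete α ⥤ Sheaf J AddCommGrpCat.{u}) ⥤ _) := by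
    have : PreservesLimitsOfSize.{0, 0} (lim : (Discrete α ⥤ Sheaf J AddCommGrpCat.{u}) ⥤ _) :=
      constLimAdj.rightAdjoint_preservesLimits
    exact PreservesLimitsOfSize.preservesFiniteLimits _
  rw [Functor.preservesFiniteColimits_iff_forall_exact_map_and_epi]
  intro S hS
  refine ⟨hS.exact.map_of_mono_of_preservesKernel _ hS.mono_f inferInstance, ?_⟩
  have := hS.epi_g
  exact epi_limMap J B hB hcov S.g

end Groth.Agent.S0492
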