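import Groth.Statements.S0495
import Groth.Agent.Lib.Helper1.Hensel
import Mathlib.RingTheory.KrullDimension.Zero

set_option autoImplicit false
universe u
open Hensel

namespace Groth.Agent.S0495

/-- A local ring whose Krull dimension is zero is henselian. -/
theorem result (R : Type u) [CommRing R] [IsLocalRing R]
    (h : ringKrullDim R = 0) : HenselianLocalRing R := by
  have hdim : Ring.KrullDimLE 0 R := by
    rw [Ring.krullDimLE_iff, h]; rfl
  have hnil : ∀ x ∈ IsLocalRing.maximalIdeal R, IsNilpotent x := by
    intro x hx
    rw [← Ring.KrullDimLE.nilradical_eq_maximalIdeal R] at hx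
    exact hx
  have hH : HenselianRing R (IsLocalRing.maximalIdeal R) :=
    Groth.Agent.Helper1.henselianRing_of_nil _ hnil
  refine { is_henselian := ?_ }
  intro f hf a₀ h₁ h₂
  exact Groth.Agent.Helper1.exists_root_of_henselianRing f hf a₀ h₁ h₂

end Groth.Agent.S0495
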