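import Groth.Statements.S0496
import Groth.Agent.Lib.Helper1.HenselRoot

set_option autoImplicit false
universe u
open Hensel

namespace Groth.Agent.S0496

/-- If every factorization of the reduction of a monic polynomial into two coprime factors over the
residue field lifts to a factorization over the local ring, then the local ring is henselian. -/
theorem result (R : Type u) [CommRing R] [IsLocalRing R]
    (h : ∀ f : Polynomial R, f.Monic →
      ∀ g₀ h₀ : Polynomial (IsLocalRing.ResidueField R), IsCoprime g₀ h₀ →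
      Polynomial.map (IsLocalRing.residue R) f = g₀ * h₀ →
      ∃ g h : Polynomial R, f = g * h ∧ Polynomial.map (IsLocalRing.residue R) g = g₀ ∧
        Polynomial.map (IsLocalRing.residue R) h = h₀) :
    HenselianLocalRing R := by
  open Polynomial IsLocalRing Groth.Agent.Helper1 in
  refine ((HenselianLocalRing.TFAE R).out 1 0).mp ?_
  intro f hf a₀ h₁ h₂
  have hroot : (f.map (residue R)).IsRoot a₀ := by rw [IsRoot.def, eval_map]; exact h₁
  have hder : (derivative (f.map (residue R))).eval a₀ ≠ 0 := by
    rw [derivative_map, eval_map]; exact h₂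
  have hcop := isCoprime_of_is_root_of_eval_derivative_ne_zero (f.map (residue R)) a₀ hder
  have hfac : f.map (residue R) = (X - C a₀) * (f.map (residue R) /ₘ (X - C a₀)) :=
    (mul_divByMonic_eq_iff_isRoot.mpr hroot).symm
  obtain ⟨g, hh, hfgh, hg, hhh⟩ := h f hf _ _ hcop hfac
  obtain ⟨a, rfl⟩ := IsLocalRing.residue_surjective a₀
  change aeval (residue R a) f = 0 at h₁
  let χ : AdjoinRoot f →ₐ[R] ResidueField R :=
    AdjoinRoot.liftAlgHom f (Algebra.ofId R _) (residue R a) h₁
  have hχmk : ∀ p : R[X], χ (AdjoinRoot.mk f p) = (p.map (residue R)).eval (residue R a) := by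
    intro p
    rw [eval_map]; rfl
  have hJ : ∀ p : R[X], p.map (residue R) = 0 →
      AdjoinRoot.mk f p ∈ (maximalIdeal R).map (algebraMap R (AdjoinRoot f)) :=
    mk_mem_map_maximalIdeal_of_map_eq_zero f
  have hmul : AdjoinRoot.mk f g * AdjoinRoot.mk f hh = 0 := by
    rw [← map_mul, ← hfgh, AdjoinRoot.mk_self]
  have : Module.Finite R (AdjoinRoot f) := hf.finite_adjoinRoot
  -- comaximality
  have htop : Ideal.span {AdjoinRoot.mk f g, AdjoinRoot.mk f hh} = ⊤ := by
    obtain ⟨u₀, v₀, huv⟩ := hcop
    obtain ⟨u, rfl⟩ := Polynomial.map_surjective (residue R) Ideal.Quotient.mk_surjective u₀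
    obtain ⟨v, rfl⟩ := Polynomial.map_surjective (residue R) Ideal.Quotient.mk_surjective v₀
    have h0 : (u * g + v * hh - 1).map (residue R) = 0 := by
      rw [Polynomial.map_sub, Polynomial.map_add, Polynomial.map_mul, Polynomial.map_mul, hg, hhh,
        huv, Polynomial.map_one, sub_self]
    have h3 := hJ _ h0
    set I : Ideal (AdjoinRoot f) := Ideal.span {AdjoinRoot.mk f g, AdjoinRoot.mk f hh} with hI
    have hle : (⊤ : Submodule R (AdjoinRoot f)) ≤
        I.restrictScalars R ⊔ maximalIdeal R • (⊤ : Submodule R (AdjoinRoot f)) := by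
      intro x _
      have hx : x = x * (AdjoinRoot.mk f u * AdjoinRoot.mk f g + AdjoinRoot.mk f v *
          AdjoinRoot.mk f hh) - x * AdjoinRoot.mk f (u * g + v * hh - 1) := by
        simp only [map_sub, map_add, map_mul, map_one]; ring
      rw [hx]
      refine Submodule.sub_mem _ (Submodule.mem_sup_left ?_) (Submodule.mem_sup_right ?_)
      · change _ ∈ I
        refine I.mul_mem_left _ (I.add_mem (I.mul_mem_left _ (Ideal.subset_span (by simp)))
          (I.mul_mem_left _ (Ideal.subset_span (by simp))))
      · rw [Ideal.smul_top_eq_map]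
        exact Ideal.mul_mem_left _ _ h3
    have := Submodule.le_of_le_smul_of_le_jacobson_bot Module.Finite.fg_top
      (IsLocalRing.maximalIdeal_le_jacobson _) hle
    rw [eq_top_iff]
    intro x _
    exact this trivial
  obtain ⟨u', v', huv'⟩ := Ideal.mem_span_pair.mp (htop ▸ Submodule.mem_top :
    (1 : AdjoinRoot f) ∈ Ideal.span {AdjoinRoot.mk f g, AdjoinRoot.mk f hh})
  have hχg : χ (AdjoinRoot.mk f g) = 0 := by rw [hχmk, hg]; simp
  have he : IsIdempotentElem (v' * AdjoinRoot.mk f hh) := by
    change _ * _ = _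
    have e1 : v' * AdjoinRoot.mk f hh = 1 - u' * AdjoinRoot.mk f g := by rw [← huv']; ring
    nth_rw 1 [e1]
    linear_combination (-u' * v') * hmul
  have hχe : χ (v' * AdjoinRoot.mk f hh) = 1 := by
    have := congr(χ $huv')
    rw [map_add, map_mul, hχg, mul_zero, zero_add, map_one] at this
    exact this
  have hJe : (AdjoinRoot.root f - algebraMap R _ a) * (v' * AdjoinRoot.mk f hh) ∈
      (maximalIdeal R).map (algebraMap R (AdjoinRoot f)) := by
    have h0 : (X - C a - g).map (residue R) = 0 := by
      rw [Polynomial.map_sub, hg]; simp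
    have h3 := hJ _ h0
    have : (AdjoinRoot.root f - algebraMap R _ a) * (v' * AdjoinRoot.mk f hh) =
        AdjoinRoot.mk f (X - C a - g) * (v' * AdjoinRoot.mk f hh) +
          v' * (AdjoinRoot.mk f g * AdjoinRoot.mk f hh) := by
      simp only [map_sub, AdjoinRoot.mk_X, AdjoinRoot.mk_C, AdjoinRoot.algebraMap_eq]; ring
    rw [this, hmul, mul_zero, add_zero]
    exact Ideal.mul_mem_right _ _ h3
  exact exists_root_of_idempotent f hf a χ (AdjoinRoot.liftAlgHom_root ..) _ he hχe hJe

end Groth.Agent.S0496
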