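import Groth.Statements.S0497
import Groth.Agent.Lib.Helper1.HenselWeier

set_option autoImplicit false
universe u
open Hensel

namespace Groth.Agent.S0497

/-- Over a henselian local ring, any factorization of the reduction of a polynomial (not necessarily
monic) into a monic factor and a factor coprime to it lifts to a factorization over the ring in
which the lift of the monic factor is again monic (so it has the same degree as its reduction). -/
theorem result (R : Type u) [CommRing R] [HenselianLocalRing R]
    (f : Polynomial R) (g₀ h₀ : Polynomial (IsLocalRing.ResidueField R)) (hg : g₀.Monic)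
    (hc : IsCoprime g₀ h₀) (hf : Polynomial.map (IsLocalRing.residue R) f = g₀ * h₀) :
    ∃ g h : Polynomial R, f = g * h ∧ g.Monic ∧ Polynomial.map (IsLocalRing.residue R) g = g₀ ∧
      Polynomial.map (IsLocalRing.residue R) h = h₀ := by
  open Polynomial IsLocalRing Groth.Agent.Helper1 in
  by_cases hh₀ : h₀ = 0
  · subst hh₀
    have hg1 : g₀ = 1 := hg.eq_one_of_isUnit (isCoprime_zero_right.mp hc)
    refine ⟨1, f, (one_mul f).symm, monic_one, ?_, ?_⟩
    · rw [Polynomial.map_one, hg1]
    · rw [hf, mul_zero]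
  · have hfb : f.map (residue R) ≠ 0 := by
      rw [hf]; exact mul_ne_zero hg.ne_zero hh₀
    obtain ⟨p, q, hpm, hfpq, c, hc0, hqc⟩ := exists_monic_mul_eq_of_map_ne_zero R f hfb
    have hcc : (C c : (ResidueField R)[X]) * C c⁻¹ = 1 := by
      rw [← C_mul, mul_inv_cancel₀ hc0, C_1]
    have hpb : p.map (residue R) = g₀ * (h₀ * C c⁻¹) := by
      have := congr(Polynomial.map (residue R) $hfpq)
      rw [Polynomial.map_mul, hf, hqc] at this
      calc p.map (residue R) = p.map (residue R) * (C c * C c⁻¹) := by rw [hcc, mul_one]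
        _ = (p.map (residue R) * C c) * C c⁻¹ := by ring
        _ = g₀ * (h₀ * C c⁻¹) := by rw [← this]; ring
    have hh₁m : (h₀ * C c⁻¹).Monic := hg.of_mul_monic_left (hpb ▸ hpm.map _)
    have hcop : IsCoprime g₀ (h₀ * C c⁻¹) := by
      refine hc.mul_right ?_
      exact ⟨0, C c, by rw [zero_mul, zero_add, hcc]⟩
    obtain ⟨g, h', hpgh, hgm, -, hgb, hh'b⟩ :=
      exists_monic_factor_lift R p hpm g₀ (h₀ * C c⁻¹) hg hh₁m hcop hpb
    refine ⟨g, h' * q, by rw [hfpq, hpgh, mul_assoc], hgm, hgb, ?_⟩
    rw [Polynomial.map_mul, hh'b, hqc, mul_assoc, mul_comm (C c⁻¹), hcc, mul_one]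

end Groth.Agent.S0497
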