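import Groth.Statements.S0498
import Groth.Agent.S0497

set_option autoImplicit false
universe u
open Hensel

namespace Groth.Agent.S0498

/-- Over a henselian local ring, a simple root in the residue field of the reduction of an arbitrary
polynomial (monic or not) lifts to a root in the ring. -/
theorem result (R : Type u) [CommRing R] [HenselianLocalRing R]
    (f : Polynomial R) (a₀ : IsLocalRing.ResidueField R)
    (h₁ : Polynomial.eval₂ (IsLocalRing.residue R) a₀ f = 0)
    (h₂ : Polynomial.eval₂ (IsLocalRing.residue R) a₀ (Polynomial.derivative f) ≠ 0) :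
    ∃ a : R, Polynomial.IsRoot f a ∧ IsLocalRing.residue R a = a₀ := by
  open Polynomial IsLocalRing in
  have hroot : (f.map (residue R)).IsRoot a₀ := by rw [IsRoot.def, eval_map]; exact h₁
  have hder : (derivative (f.map (residue R))).eval a₀ ≠ 0 := by
    rw [derivative_map, eval_map]; exact h₂
  have hcop := isCoprime_of_is_root_of_eval_derivative_ne_zero (f.map (residue R)) a₀ hder
  have hfac : f.map (residue R) = (X - C a₀) * (f.map (residue R) /ₘ (X - C a₀)) :=
    (mul_divByMonic_eq_iff_isRoot.mpr hroot).symm
  obtain ⟨g, h, hfgh, hgm, hgb, -⟩ :=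
    Groth.Agent.S0497.result R f _ _ (monic_X_sub_C a₀) hcop hfac
  have hgdeg : g.natDegree = 1 := by
    rw [← hgm.natDegree_map (residue R), hgb, natDegree_X_sub_C]
  have hg := hgm.eq_X_add_C hgdeg
  have hcoeff : residue R (g.coeff 0) = -a₀ := by
    rw [← coeff_map, hgb]; simp
  refine ⟨-(g.coeff 0), ?_, by rw [map_neg, hcoeff, neg_neg]⟩
  rw [IsRoot.def, hfgh, eval_mul]
  have : g.eval (-(g.coeff 0)) = 0 := by
    rw [hg]; simp
  rw [this, zero_mul]

end Groth.Agent.S0498
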