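import Groth.Statements.S0502
import Groth.Agent.Lib.Helper1.HenselLocal

set_option autoImplicit false
universe u
open Hensel

namespace Groth.Agent.S0502

/-- A local ring `R` is henselian as soon as every étale `R`-algebra having a prime over the maximal
ideal with trivial residue field extension admits an `R`-algebra retraction to `R`. -/
theorem result (R : Type u) [CommRing R] [IsLocalRing R]
    (h : ∀ (S : Type u) [CommRing S] [Algebra R S] [Algebra.Etale R S] (q : Ideal S) [q.IsPrime],
      q.LiesOver (IsLocalRing.maximalIdeal R) → Function.Surjective (algebraMap R q.ResidueField) →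
      Nonempty (S →ₐ[R] R)) :
    HenselianLocalRing R := by
  open Polynomial IsLocalRing in
  refine ((HenselianLocalRing.TFAE R).out 1 0).mp ?_
  intro f hf a₀ h₁ h₂
  -- factor `f̄ = (X - a₀) * h₀`
  have hroot : (f.map (residue R)).IsRoot a₀ := by
    rw [IsRoot.def, eval_map]; exact h₁
  obtain ⟨h₀, hh₀⟩ := dvd_iff_isRoot.mpr hroot
  have hder : h₀.eval a₀ ≠ 0 := by
    have : (derivative (f.map (residue R))).eval a₀ = h₀.eval a₀ := by
      rw [hh₀]; simp
    rw [← this, derivative_map, eval_map]
    exact h₂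
  obtain ⟨H, hH⟩ := Polynomial.map_surjective (residue R) Ideal.Quotient.mk_surjective h₀
  let P : StandardEtalePair R := ⟨f, hf, derivative f * H, ⟨H, 0, 1, by ring⟩⟩
  have hHa : aeval a₀ H = h₀.eval a₀ := by
    rw [← hH, eval_map, aeval_def]; rfl
  have hmap : P.HasMap a₀ := by
    refine ⟨h₁, ?_⟩
    change IsUnit (aeval a₀ (derivative f * H))
    rw [map_mul, isUnit_iff_ne_zero, hHa]
    exact mul_ne_zero h₂ hder
  let χ : P.Ring →ₐ[R] ResidueField R := P.lift a₀ hmap
  have hχsurj : Function.Surjective χ := by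
    intro y
    obtain ⟨r, rfl⟩ := Ideal.Quotient.mk_surjective y
    exact ⟨algebraMap R P.Ring r, by rw [AlgHom.commutes]; rfl⟩
  let q : Ideal P.Ring := RingHom.ker χ.toRingHom
  have hqmax : q.IsMaximal := RingHom.ker_isMaximal_of_surjective _ hχsurj
  have hqprime : q.IsPrime := hqmax.isPrime
  have hlies : q.LiesOver (maximalIdeal R) := by
    constructor
    ext r
    rw [Ideal.under, Ideal.mem_comap, RingHom.mem_ker]
    change _ ↔ χ (algebraMap R P.Ring r) = 0
    rw [AlgHom.commutes]
    exact (Ideal.Quotient.eq_zero_iff_mem).symm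
  have hsurj : Function.Surjective (algebraMap R q.ResidueField) := by
    rw [IsScalarTower.algebraMap_eq R (P.Ring ⧸ q) q.ResidueField, RingHom.coe_comp]
    refine (Ideal.bijective_algebraMap_quotient_residueField q).surjective.comp ?_
    intro y
    obtain ⟨y, rfl⟩ := Ideal.Quotient.mk_surjective y
    obtain ⟨r, hr⟩ := Ideal.Quotient.mk_surjective (χ y)
    refine ⟨r, ?_⟩
    rw [IsScalarTower.algebraMap_apply R P.Ring (P.Ring ⧸ q), Ideal.Quotient.algebraMap_eq,
      Ideal.Quotient.eq, RingHom.mem_ker]
    change χ (algebraMap R P.Ring r - y) = 0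
    rw [map_sub, AlgHom.commutes, sub_eq_zero, ← hr]; rfl
  obtain ⟨σ⟩ := h P.Ring q hlies hsurj
  have hσ : P.HasMap (σ P.X) := StandardEtalePair.hasMap_X.map σ
  refine ⟨σ P.X, ?_, ?_⟩
  · have := hσ.1
    change aeval (σ P.X) f = 0 at this
    rwa [IsRoot.def, ← coe_aeval_eq_eval]
  · have h3 : (f.map (residue R)).eval (residue R (σ P.X)) = 0 := by
      rw [eval_map, eval₂_hom]
      have := hσ.1
      change aeval (σ P.X) f = 0 at this
      rw [coe_aeval_eq_eval] at this
      rw [this, map_zero]
    have h4 : h₀.eval (residue R (σ P.X)) ≠ 0 := by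
      have hu := hσ.2
      change IsUnit (aeval (σ P.X) (derivative f * H)) at hu
      rw [map_mul] at hu
      have hu2 : IsUnit (aeval (σ P.X) H) := isUnit_of_mul_isUnit_right hu
      have := hu2.map (residue R)
      rw [coe_aeval_eq_eval, ← eval₂_hom, ← eval_map, hH] at this
      exact this.ne_zero
    rw [hh₀, eval_mul, mul_eq_zero] at h3
    rcases h3 with h3 | h3
    · simpa [sub_eq_zero] using h3
    · exact absurd h3 h4

end Groth.Agent.S0502
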