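import Groth.Statements.S0516
import Groth.Agent.Lib.Helper1.HenselQF
import Groth.Agent.S0503
import Mathlib.RingTheory.Unramified.LocalRing
import Mathlib.FieldTheory.IsSepClosed

set_option autoImplicit false
universe u
open Hensel

namespace Groth.Agent.S0516

/-- An unramified algebra `S` (formally unramified of finite type) over a strictly henselian local ring
`R` is isomorphic over `R` to a product of finitely many quotient rings of `R` and an `R`-algebra in
which the maximal ideal of `R` generates the unit ideal. -/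
theorem result (R : Type u) [CommRing R]
    [HenselianLocalRing R] [IsSepClosed (IsLocalRing.ResidueField R)] (S : Type u) [CommRing S] [Algebra R S]
    [Algebra.Unramified R S] :
    ∃ (ι : Type u) (_ : Fintype ι) (A : ι → Type u) (_ : ∀ i, CommRing (A i))
      (_ : ∀ i, Algebra R (A i)) (B : Type u) (_ : CommRing B) (_ : Algebra R B),
      (∀ i, Function.Surjective (algebraMap R (A i))) ∧
      Ideal.map (algebraMap R B) (IsLocalRing.maximalIdeal R) = ⊤ ∧
      Nonempty (S ≃ₐ[R] ((∀ i, A i) × B)) := by
  open IsLocalRing in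
  have hft : Algebra.FiniteType R S := inferInstance
  obtain ⟨e, he, hfin, hB⟩ := Groth.Agent.S0503.result R S
  -- the finite part
  have hunr : Algebra.FormallyUnramified R (S ⧸ Ideal.span ({1 - e} : Set S)) :=
    have : Algebra.FormallyUnramified S (S ⧸ Ideal.span ({1 - e} : Set S)) := .quotient _
    .comp R S _
  obtain ⟨hfintype, ε, hε, -, hloc⟩ :=
    Groth.Agent.Helper1.exists_completeOrthogonalIdempotents_forall_isLocalRing R
      (S ⧸ Ideal.span ({1 - e} : Set S))
  let S₁ := S ⧸ Ideal.span ({1 - e} : Set S)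
  let e₁ : S ≃ₐ[R] S₁ × (S ⧸ Ideal.span ({e} : Set S)) :=
    AlgEquiv.prodQuotientOfIsIdempotentElem R he.one_sub he (by ring)
      (by rw [sub_mul, one_mul, he.eq, sub_self])
  let e₂ : S₁ ≃ₐ[R] (∀ n : MaximalSpectrum S₁, S₁ ⧸ Ideal.span ({1 - ε n} : Set S₁)) :=
    AlgEquiv.ofBijective (AlgHom.pi fun n ↦ Ideal.Quotient.mkₐ R _) hε.bijective_pi
  refine ⟨MaximalSpectrum S₁, hfintype, fun n ↦ S₁ ⧸ Ideal.span ({1 - ε n} : Set S₁), inferInstance,
    inferInstance, S ⧸ Ideal.span ({e} : Set S), inferInstance, inferInstance, fun n ↦ ?_, hB,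
    ⟨e₁.trans (AlgEquiv.prodCongr e₂ AlgEquiv.refl)⟩⟩
  -- surjectivity
  set A := S₁ ⧸ Ideal.span ({1 - ε n} : Set S₁) with hA
  have hAloc : IsLocalRing A := hloc n
  have hAfin : Module.Finite R A := Module.Finite.of_surjective
    (Ideal.Quotient.mkₐ R (Ideal.span ({1 - ε n} : Set S₁))).toLinearMap
    (Ideal.Quotient.mkₐ_surjective R _)
  have hAunr : Algebra.FormallyUnramified R A :=
    have : Algebra.FormallyUnramified S₁ A := .quotient _
    .comp R S₁ _
  have hlocal : IsLocalHom (algebraMap R A) := by
    have h1 := Ideal.isMaximal_comap_of_isIntegral_of_isMaximal (R := R) (maximalIdeal A)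
    have h2 : (maximalIdeal A).comap (algebraMap R A) = maximalIdeal R := eq_maximalIdeal h1
    exact ((local_hom_TFAE (algebraMap R A)).out 0 4).mpr h2
  have hmax : (maximalIdeal R).map (algebraMap R A) = maximalIdeal A :=
    Algebra.FormallyUnramified.map_maximalIdeal
  have hsep : Algebra.IsSeparable (ResidueField R) (ResidueField A) := inferInstance
  have hbij : Function.Bijective (algebraMap (ResidueField R) (ResidueField A)) :=
    IsSepClosed.algebraMap_bijective _ _
  -- Nakayama
  have hle : (⊤ : Submodule R A) ≤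
      LinearMap.range (Algebra.linearMap R A) ⊔ maximalIdeal R • (⊤ : Submodule R A) := by
    intro x _
    obtain ⟨r, hr⟩ := hbij.2 (residue A x)
    obtain ⟨r, rfl⟩ := residue_surjective r
    have h3 : residue A (x - algebraMap R A r) = 0 := by
      rw [map_sub, ← hr, sub_eq_zero]; rfl
    rw [residue_eq_zero_iff, ← hmax] at h3
    have h3' : x - algebraMap R A r ∈ maximalIdeal R • (⊤ : Submodule R A) := by
      rw [Ideal.smul_top_eq_map]; exact h3
    have : x = algebraMap R A r + (x - algebraMap R A r) := by ring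
    rw [this]
    exact Submodule.add_mem_sup ⟨r, rfl⟩ h3'
  have hN := Submodule.le_of_le_smul_of_le_jacobson_bot Module.Finite.fg_top
    (IsLocalRing.maximalIdeal_le_jacobson _) hle
  intro x
  obtain ⟨r, hr⟩ := hN (Submodule.mem_top : x ∈ ⊤)
  exact ⟨r, hr⟩

end Groth.Agent.S0516
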