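import Groth.Statements.S0517
import Groth.Agent.Lib.Helper1.HenselStrict

set_option autoImplicit false
universe u
open Hensel

namespace Groth.Agent.S0517

/-- Given strictly henselian local rings `R` and `S`, a local ring map `φ` between them, and a square
system of `n` polynomial equations in `n` unknowns over `R` whose quotient algebra is étale over
`R`, applying `φ` coordinatewise matches the solutions of the system in `Rⁿ` bijectively with the
solutions of the transported system in `Sⁿ`. -/
theorem result (R : Type u) [CommRing R]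
    [HenselianLocalRing R] [IsSepClosed (IsLocalRing.ResidueField R)] (S : Type u) [CommRing S]
    [HenselianLocalRing S] [IsSepClosed (IsLocalRing.ResidueField S)] (φ : R →+* S) [IsLocalHom φ] (n : ℕ)
    (P : Fin n → MvPolynomial (Fin n) R)
    [Algebra.Etale R (MvPolynomial (Fin n) R ⧸ Ideal.span (Set.range P))] :
    Set.BijOn (fun r : Fin n → R => φ ∘ r)
      {r : Fin n → R | ∀ i, MvPolynomial.eval r (P i) = 0}
      {s : Fin n → S | ∀ i, MvPolynomial.eval s (MvPolynomial.map φ (P i)) = 0} := by
  classical
  let _ : Algebra R S := φ.toAlgebra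
  have : IsLocalHom (algebraMap R S) := ‹IsLocalHom φ›
  set I : Ideal (MvPolynomial (Fin n) R) := Ideal.span (Set.range P) with hI
  -- from solutions to algebra maps
  have toHom : ∀ {T : Type u} [CommRing T] [Algebra R T] (t : Fin n → T),
      (∀ i, MvPolynomial.aeval t (P i) = 0) →
      ∃ f : (MvPolynomial (Fin n) R ⧸ I) →ₐ[R] T, ∀ p, f (Ideal.Quotient.mk I p) =
        MvPolynomial.aeval t p := by
    intro T _ _ t ht
    have hker : ∀ p ∈ I, MvPolynomial.aeval t p = 0 := by
      intro p hp
      have : I ≤ RingHom.ker (MvPolynomial.aeval t : MvPolynomial (Fin n) R →ₐ[R] T) := by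
        rw [hI, Ideal.span_le]
        rintro _ ⟨i, rfl⟩
        exact ht i
      exact this hp
    exact ⟨Ideal.Quotient.liftₐ I (MvPolynomial.aeval t) hker, fun p ↦ rfl⟩
  -- from algebra maps to solutions
  have ofHom : ∀ {T : Type u} [CommRing T] [Algebra R T] (f : (MvPolynomial (Fin n) R ⧸ I) →ₐ[R] T)
      (p : MvPolynomial (Fin n) R),
      MvPolynomial.aeval (fun j ↦ f (Ideal.Quotient.mk I (MvPolynomial.X j))) p =
        f (Ideal.Quotient.mk I p) := by
    intro T _ _ f p
    have := MvPolynomial.aeval_unique (f.comp (Ideal.Quotient.mkₐ R I))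
    exact (DFunLike.congr_fun this p).symm
  have hmem : ∀ i, Ideal.Quotient.mk I (P i) = 0 := fun i ↦
    Ideal.Quotient.eq_zero_iff_mem.mpr (Ideal.subset_span ⟨i, rfl⟩)
  have hevalS : ∀ (s : Fin n → S) (p : MvPolynomial (Fin n) R),
      MvPolynomial.eval s (MvPolynomial.map φ p) = MvPolynomial.aeval s p := by
    intro s p
    rw [MvPolynomial.eval_map, MvPolynomial.aeval_def]; rfl
  have hevalR : ∀ (r : Fin n → R) (p : MvPolynomial (Fin n) R),
      MvPolynomial.eval r p = MvPolynomial.aeval r p := by
    intro r p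
    rw [MvPolynomial.aeval_def]; rfl
  have hbij := Groth.Agent.Helper1.bijective_ofId_comp_of_etale R S (MvPolynomial (Fin n) R ⧸ I)
  refine ⟨?_, ?_, ?_⟩
  · intro r hr i
    simp only [Set.mem_ofPred_eq] at hr ⊢
    have h1 := MvPolynomial.eval₂_comp_left φ (RingHom.id R) r (P i)
    rw [RingHom.comp_id] at h1
    have : MvPolynomial.eval₂ (RingHom.id R) r (P i) = 0 := hr i
    rw [MvPolynomial.eval_map, ← h1, this, map_zero]
  · intro r hr r' hr' h
    simp only [Set.mem_ofPred_eq] at hr hr'
    obtain ⟨f, hf⟩ := toHom r fun i ↦ by rw [← hevalR]; exact hr i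
    obtain ⟨f', hf'⟩ := toHom r' fun i ↦ by rw [← hevalR]; exact hr' i
    have hff' : f = f' := by
      apply hbij.1
      apply Ideal.Quotient.algHom_ext
      apply MvPolynomial.algHom_ext
      intro j
      change algebraMap R S (f (Ideal.Quotient.mk I (MvPolynomial.X j))) =
        algebraMap R S (f' (Ideal.Quotient.mk I (MvPolynomial.X j)))
      rw [hf, hf', MvPolynomial.aeval_X, MvPolynomial.aeval_X]
      exact congrFun h j
    funext j
    have := hf (MvPolynomial.X j)
    rw [hff', hf', MvPolynomial.aeval_X, MvPolynomial.aeval_X] at this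
    exact this.symm
  · intro s hs
    simp only [Set.mem_ofPred_eq] at hs
    obtain ⟨g, hg⟩ := toHom s fun i ↦ by rw [← hevalS]; exact hs i
    obtain ⟨f, hf⟩ := hbij.2 g
    refine ⟨fun j ↦ f (Ideal.Quotient.mk I (MvPolynomial.X j)), fun i ↦ ?_, ?_⟩
    · rw [hevalR, ofHom f (P i), hmem, map_zero]
    · funext j
      have := DFunLike.congr_fun hf (Ideal.Quotient.mk I (MvPolynomial.X j))
      rw [hg, MvPolynomial.aeval_X] at this
      exact this

end Groth.Agent.S0517
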