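import Groth.Statements.S0519
import Groth.Agent.Lib.Helper1.HenselFinEt

set_option autoImplicit false
universe u
open Hensel

namespace Groth.Agent.S0519

/-- Over a henselian local ring `R` with residue field `κ`, base change to `κ` gives a bijection between
`R`-algebra maps of two finite étale `R`-algebras and `κ`-algebra maps of their base changes. -/
theorem result (R : Type u) [CommRing R]
    [HenselianLocalRing R] (S₁ S₂ : Type u) [CommRing S₁] [CommRing S₂] [Algebra R S₁]
    [Algebra R S₂] [Module.Finite R S₁] [Algebra.Etale R S₁] [Module.Finite R S₂]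
    [Algebra.Etale R S₂] :
    Function.Bijective (fun φ : S₁ →ₐ[R] S₂ =>
      Algebra.TensorProduct.map (AlgHom.id (IsLocalRing.ResidueField R) (IsLocalRing.ResidueField R)) φ) := by
  open IsLocalRing TensorProduct in
  let K := ResidueField R
  let q : S₂ →ₐ[R] K ⊗[R] S₂ := Algebra.TensorProduct.includeRight
  have hq : Function.Surjective q :=
    Algebra.TensorProduct.includeRight_surjective S₂ residue_surjective
  have hker : RingHom.ker q.toRingHom = (maximalIdeal R).map (algebraMap R S₂) := by
    ext x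
    rw [RingHom.mem_ker]
    change (1 : R ⧸ maximalIdeal R) ⊗ₜ[R] x = 0 ↔ _
    rw [← (TensorProduct.quotTensorEquivQuotSMul S₂ (maximalIdeal R)).map_eq_zero_iff,
      TensorProduct.quotTensorEquivQuotSMul_mk_one_tmul, Submodule.Quotient.mk_eq_zero,
      Ideal.smul_top_eq_map]
    rfl
  have hbij := Groth.Agent.Helper1.bijective_comp_of_finite_of_etale R S₁ S₂ (K ⊗[R] S₂) q hq hker
  let Θ : (K ⊗[R] S₁ →ₐ[K] K ⊗[R] S₂) → (S₁ →ₐ[R] K ⊗[R] S₂) := fun g ↦
    (g.restrictScalars R).comp Algebra.TensorProduct.includeRight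
  have hΘ : Function.Injective Θ := by
    intro g g' h
    apply Algebra.TensorProduct.ext
    · ext
    · exact h
  have hcomp : ∀ φ : S₁ →ₐ[R] S₂,
      Θ (Algebra.TensorProduct.map (AlgHom.id K K) φ) = q.comp φ := by
    intro φ
    apply AlgHom.ext
    intro x
    simp [Θ, q]
  constructor
  · intro φ φ' h
    apply hbij.1
    change q.comp φ = q.comp φ'
    rw [← hcomp, ← hcomp]
    exact congrArg Θ h
  · intro g
    obtain ⟨φ, hφ⟩ := hbij.2 (Θ g)
    refine ⟨φ, hΘ ?_⟩
    rw [hcomp]
    exact hφ

end Groth.Agent.S0519
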