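import Groth.Statements.S0523
import Groth.Agent.Lib.Helper1.HPEtale

set_option autoImplicit false
universe u
open Hensel

namespace Groth.Agent.S0523

/-- `A` is Henselian at `I` exactly when for every étale `A`-algebra `A'` every `A`-algebra map `A' →
A/I` lifts to an `A`-algebra map `A' → A`. -/
theorem result (A : Type u) [CommRing A] (I : Ideal A) :
    HenselianRing A I ↔ ∀ (A' : Type u) [CommRing A'] [Algebra A A'] [Algebra.Etale A A']
      (σ : A' →ₐ[A] A ⧸ I), ∃ τ : A' →ₐ[A] A, (Ideal.Quotient.mkₐ A I).comp τ = σ := by
  open Groth.Agent.Helper1 in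
  constructor
  · intro h A' _ _ _ σ
    exact exists_algHom_lift_of_etale gabberProp_of_henselianRing A' σ
  · intro H
    exact henselianRing_of_etale_lift H

end Groth.Agent.S0523
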