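import Groth.Statements.S0526
import Groth.Agent.Lib.Helper1.HPIdem

set_option autoImplicit false
universe u
open Hensel

namespace Groth.Agent.S0526

/-- If `A` is Henselian at `I` and `B` is an integral `A`-algebra, then `B` is Henselian at `IB`. -/
theorem result (A : Type u) [CommRing A] (I : Ideal A) [HenselianRing A I] (B : Type u) [CommRing B]
    [Algebra A B] [Algebra.IsIntegral A B] : HenselianRing B (Ideal.map (algebraMap A B) I) := by
  open Groth.Agent.Helper1 in
  apply henselianRing_of_bijOn_finite
  intro C _ _ hCfin
  let _ : Algebra A C := ((algebraMap B C).comp (algebraMap A B)).toAlgebra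
  have : IsScalarTower A B C := .of_algebraMap_eq fun _ ↦ rfl
  have : Algebra.IsIntegral A C := Algebra.IsIntegral.trans B
  have hmap : Ideal.map (algebraMap B C) (Ideal.map (algebraMap A B) I) =
      Ideal.map (algebraMap A C) I := by
    rw [Ideal.map_map, ← IsScalarTower.algebraMap_eq]
  rw [hmap]
  exact bijOn_isIdempotentElem_of_isIntegral gabberProp_of_henselianRing C

end Groth.Agent.S0526
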