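import Groth.Statements.S0529
import Groth.Agent.Lib.Helper1.HPEquiv
import Mathlib.Algebra.Group.Pi.Units

set_option autoImplicit false
universe u
open Hensel

namespace Groth.Agent.S0529

/-- A product of rings, with the product ideal, is Henselian exactly when every factor is Henselian at
its ideal. -/
theorem result (J : Type u) (A : J → Type u) [∀ j, CommRing (A j)]
    (I : ∀ j, Ideal (A j)) :
    HenselianRing (∀ j, A j) (⨅ j, Ideal.comap (Pi.evalRingHom A j) (I j)) ↔
      ∀ j, HenselianRing (A j) (I j) := by
  open Polynomial Groth.Agent.Helper1 in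
  classical
  set IP : Ideal (∀ j, A j) := ⨅ j, Ideal.comap (Pi.evalRingHom A j) (I j) with hIP
  have hmemIP : ∀ x : ∀ j, A j, x ∈ IP ↔ ∀ j, x j ∈ I j := by
    intro x
    rw [hIP, Ideal.mem_iInf]
    exact Iff.rfl
  have hmapF : ∀ (n : ℕ) (P : (∀ j, A j)[X]) (j : J),
      (X ^ n * (X - 1) + P).map (Pi.evalRingHom A j) =
        X ^ n * (X - 1) + P.map (Pi.evalRingHom A j) := by
    intro n P j
    simp
  rw [henselianRing_iff_gabberProp]
  constructor
  · rintro ⟨hjac, hroot⟩ j₀
    rw [henselianRing_iff_gabberProp]
    constructor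
    · intro x hx
      rw [Ideal.mem_jacobson_bot]
      intro y
      have h1 : Pi.single j₀ x ∈ IP := by
        rw [hmemIP]
        intro j
        by_cases hj : j = j₀
        · subst hj; simpa using hx
        · rw [Pi.single_eq_of_ne hj]; exact Ideal.zero_mem _
      have h2 := (Ideal.mem_jacobson_bot.mp (hjac h1)) (Pi.single j₀ y)
      have h3 := h2.map (Pi.evalRingHom A j₀)
      simpa using h3
    · intro n hn p hpdeg hpI
      set P : (∀ j, A j)[X] := ∑ i ∈ Finset.range (n + 1), C (Pi.single j₀ (p.coeff i)) * X ^ i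
        with hP
      have hPmap : P.map (Pi.evalRingHom A j₀) = p := by
        rw [hP, Polynomial.map_sum]
        simp only [Polynomial.map_mul, Polynomial.map_C, Polynomial.map_pow, Polynomial.map_X,
          Pi.evalRingHom_apply, Pi.single_eq_same]
        rw [Finset.sum_congr rfl (fun i _ ↦ C_mul_X_pow_eq_monomial)]
        exact (p.as_sum_range' (n + 1) (Nat.lt_succ_of_le hpdeg)).symm
      have hPcoeff : ∀ i, P.coeff i ∈ IP := by
        intro i
        rw [hP, finsetSum_coeff]
        refine Ideal.sum_mem _ fun l _ ↦ ?_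
        rw [coeff_C_mul_X_pow]
        split_ifs
        · rw [hmemIP]
          intro j
          by_cases hj : j = j₀
          · subst hj; simpa using hpI l
          · rw [Pi.single_eq_of_ne hj]; exact Ideal.zero_mem _
        · exact Ideal.zero_mem _
      have hPdeg : P.natDegree ≤ n := by
        rw [hP]
        refine natDegree_sum_le_of_forall_le _ _ fun i hi ↦ ?_
        exact (natDegree_C_mul_X_pow_le _ _).trans (Nat.lt_succ_iff.mp (Finset.mem_range.mp hi))
      obtain ⟨α, hα1, hαr⟩ := hroot n hn P hPdeg hPcoeff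
      refine ⟨α j₀, ?_, ?_⟩
      · have := (hmemIP _).mp hα1 j₀
        simpa using this
      · have h0 : (X ^ n * (X - 1) + P).eval α = 0 := hαr
        have h1 : ((X ^ n * (X - 1) + P).map (Pi.evalRingHom A j₀)).eval (Pi.evalRingHom A j₀ α) =
            Pi.evalRingHom A j₀ ((X ^ n * (X - 1) + P).eval α) := eval_map_apply _ _
        rw [hmapF, hPmap, h0, map_zero] at h1
        exact h1
  · intro H
    have hGj : ∀ j, GabberProp (A j) (I j) := fun j ↦
      henselianRing_iff_gabberProp.mp (H j)
    constructor
    · intro x hx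
      rw [Ideal.mem_jacobson_bot]
      intro y
      rw [Pi.isUnit_iff]
      intro j
      exact Ideal.mem_jacobson_bot.mp ((hGj j).1 ((hmemIP x).mp hx j)) (y j)
    · intro n hn P hPdeg hPI
      have hPj : ∀ j, ∃ α : A j, α - 1 ∈ I j ∧
          IsRoot (X ^ n * (X - 1) + P.map (Pi.evalRingHom A j)) α := by
        intro j
        refine (hGj j).2 n hn _ (natDegree_map_le.trans hPdeg) fun i ↦ ?_
        rw [coeff_map]
        exact (hmemIP _).mp (hPI i) j
      choose α hα1 hαr using hPj
      refine ⟨α, ?_, ?_⟩
      · rw [hmemIP]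
        intro j
        simpa using hα1 j
      · rw [IsRoot.def]
        funext j
        have h1 : ((X ^ n * (X - 1) + P).map (Pi.evalRingHom A j)).eval (Pi.evalRingHom A j α) =
            Pi.evalRingHom A j ((X ^ n * (X - 1) + P).eval α) := eval_map_apply _ _
        rw [hmapF] at h1
        have h2 : (X ^ n * (X - 1) + P.map (Pi.evalRingHom A j)).eval (α j) = 0 := hαr j
        change Pi.evalRingHom A j ((X ^ n * (X - 1) + P).eval α) = 0
        rw [← h1]
        exact h2

end Groth.Agent.S0529
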