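import Groth.Statements.S0530
import Groth.Agent.Lib.Helper1.HPIdem
import Mathlib.RingTheory.Spectrum.Prime.Topology

set_option autoImplicit false
universe u
open Hensel

namespace Groth.Agent.S0530

/-- If `A` is Henselian at `I` and `p` is a prime ideal of `A`, then the spectrum of `A/(p + I)` is
connected. -/
theorem result (A : Type u) [CommRing A] (I : Ideal A) [HenselianRing A I]
    (p : Ideal A) [p.IsPrime] : ConnectedSpace (PrimeSpectrum (A ⧸ p ⊔ I)) := by
  open Groth.Agent.Helper1 in
  have hG : GabberProp A I := gabberProp_of_henselianRing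
  -- nontriviality
  have hne : p ⊔ I ≠ ⊤ := by
    obtain ⟨M, hM, hpM⟩ := Ideal.exists_le_maximal p (Ideal.IsPrime.ne_top ‹_›)
    have hIM : I ≤ M := by
      intro i hi
      have := hG.1 hi
      rw [Ideal.jacobson, Ideal.mem_sInf] at this
      exact this ⟨bot_le, hM⟩
    exact fun h ↦ hM.ne_top (top_le_iff.mp (h ▸ sup_le hpM hIM))
  have hnontriv : Nontrivial (A ⧸ p ⊔ I) := Ideal.Quotient.nontrivial_iff.mpr hne
  -- idempotents are trivial
  have hidem : ∀ x : A ⧸ p ⊔ I, IsIdempotentElem x → x = 0 ∨ x = 1 := by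
    intro x hx
    let E : (A ⧸ p) ⧸ I.map (algebraMap A (A ⧸ p)) ≃+* A ⧸ p ⊔ I :=
      DoubleQuot.quotQuotEquivQuotSup p I
    have hw : IsIdempotentElem (E.symm x) := hx.map E.symm
    obtain ⟨e, he, hew⟩ := exists_isIdempotentElem_lift_of_isIntegral hG (B := A ⧸ p) _ hw
    rcases IsIdempotentElem.iff_eq_zero_or_one.mp he with h0 | h1
    · left
      rw [h0, map_zero] at hew
      have := congrArg E hew
      rw [map_zero, RingEquiv.apply_symm_apply] at this
      exact this.symm
    · right
      rw [h1, map_one] at hew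
      have := congrArg E hew
      rw [map_one, RingEquiv.apply_symm_apply] at this
      exact this.symm
  rw [connectedSpace_iff_clopen]
  refine ⟨PrimeSpectrum.nonempty_iff_nontrivial.mpr hnontriv, fun s hs ↦ ?_⟩
  obtain ⟨e, he, rfl⟩ := PrimeSpectrum.isClopen_iff.mp hs
  rcases hidem e he with h0 | h1
  · left; rw [h0, PrimeSpectrum.basicOpen_zero]; rfl
  · right; rw [h1, PrimeSpectrum.basicOpen_one]; rfl

end Groth.Agent.S0530
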