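import Groth.Statements.S0533
import Groth.Agent.Lib.Helper1.HPFinEt

set_option autoImplicit false
universe u
open Hensel

namespace Groth.Agent.S0533

/-- If `A` is Henselian at `I`, base change to `A/I` gives a bijection between `A`-algebra maps of two
finite étale `A`-algebras and `A/I`-algebra maps of their reductions. -/
theorem result (A : Type u) [CommRing A] (I : Ideal A) [HenselianRing A I]
    (B₁ B₂ : Type u) [CommRing B₁] [CommRing B₂] [Algebra A B₁] [Algebra A B₂]
    [Module.Finite A B₁] [Algebra.Etale A B₁] [Module.Finite A B₂] [Algebra.Etale A B₂] :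
    Function.Bijective (fun φ : B₁ →ₐ[A] B₂ =>
      Algebra.TensorProduct.map (AlgHom.id (A ⧸ I) (A ⧸ I)) φ) := by
  open TensorProduct Groth.Agent.Helper1 in
  let k := A ⧸ I
  let q : B₂ →ₐ[A] k ⊗[A] B₂ := Algebra.TensorProduct.includeRight
  have hq : Function.Surjective q :=
    Algebra.TensorProduct.includeRight_surjective B₂ Ideal.Quotient.mk_surjective
  have hker : RingHom.ker q.toRingHom = I.map (algebraMap A B₂) := by
    ext x
    rw [RingHom.mem_ker]
    change (1 : A ⧸ I) ⊗ₜ[A] x = 0 ↔ _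
    rw [← (TensorProduct.quotTensorEquivQuotSMul B₂ I).map_eq_zero_iff,
      TensorProduct.quotTensorEquivQuotSMul_mk_one_tmul, Submodule.Quotient.mk_eq_zero,
      Ideal.smul_top_eq_map]
    rfl
  have hbij := bijective_comp_of_finite_of_etale_pair (I := I) gabberProp_of_henselianRing
    B₁ B₂ (k ⊗[A] B₂) q hq hker
  let Θ : (k ⊗[A] B₁ →ₐ[k] k ⊗[A] B₂) → (B₁ →ₐ[A] k ⊗[A] B₂) := fun g ↦
    (g.restrictScalars A).comp Algebra.TensorProduct.includeRight
  have hΘ : Function.Injective Θ := by
    intro g g' h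
    apply Algebra.TensorProduct.ext
    · ext
    · exact h
  have hcomp : ∀ φ : B₁ →ₐ[A] B₂,
      Θ (Algebra.TensorProduct.map (AlgHom.id k k) φ) = q.comp φ := by
    intro φ
    apply AlgHom.ext
    intro x
    simp [Θ, q]
  constructor
  · intro φ φ' h
    apply hbij.1
    change q.comp φ = q.comp φ'
    rw [← hcomp, ← hcomp]
    exact congrArg Θ h
  · intro g
    obtain ⟨φ, hφ⟩ := hbij.2 (Θ g)
    refine ⟨φ, hΘ ?_⟩
    rw [hcomp]
    exact hφ

end Groth.Agent.S0533
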