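import Groth.Statements.S0535
import Groth.Agent.Lib.Helper1.TorFree

set_option autoImplicit false
universe u
open Hensel

namespace Groth.Agent.S0535

/-- If `R` is Henselian at `I` and two finitely generated projective `R`-modules become isomorphic after
base change to `R/I`, then they are isomorphic. -/
theorem result (R : Type u) [CommRing R] (I : Ideal R)
    [HenselianRing R I] (P₁ P₂ : Type u) [AddCommGroup P₁] [Module R P₁] [AddCommGroup P₂]
    [Module R P₂] [Module.Finite R P₁] [Module.Projective R P₁] [Module.Finite R P₂]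
    [Module.Projective R P₂]
    (e : TensorProduct R (R ⧸ I) P₁ ≃ₗ[R ⧸ I] TensorProduct R (R ⧸ I) P₂) :
    Nonempty (P₁ ≃ₗ[R] P₂) := by
  classical
  have hjac : I ≤ Ideal.jacobson ⊥ := HenselianRing.jac
  -- the canonical maps `P → (R/I) ⊗ P`
  let π₁ : P₁ →ₗ[R] TensorProduct R (R ⧸ I) P₁ := TensorProduct.mk R (R ⧸ I) P₁ 1
  let π₂ : P₂ →ₗ[R] TensorProduct R (R ⧸ I) P₂ := TensorProduct.mk R (R ⧸ I) P₂ 1
  have hπ₁ : Function.Surjective π₁ := fun z => Groth.Agent.Helper1.exists_one_tmul_eq I z
  have hπ₂ : Function.Surjective π₂ := fun z => Groth.Agent.Helper1.exists_one_tmul_eq I z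
  obtain ⟨φ, hφ⟩ := Module.projective_lifting_property π₂
    ((e.toLinearMap.restrictScalars R) ∘ₗ π₁) hπ₂
  obtain ⟨ψ, hψ⟩ := Module.projective_lifting_property π₁
    ((e.symm.toLinearMap.restrictScalars R) ∘ₗ π₂) hπ₁
  have hφ' : ∀ x, π₂ (φ x) = e (π₁ x) := fun x => LinearMap.congr_fun hφ x
  have hψ' : ∀ y, π₁ (ψ y) = e.symm (π₂ y) := fun y => LinearMap.congr_fun hψ y
  -- a general Nakayama statement
  have key : ∀ (P : Type u) [AddCommGroup P] [Module R P] [Module.Finite R P]
      (θ : P →ₗ[R] P), (∀ x, (1 : R ⧸ I) ⊗ₜ[R] (θ x) = (1 : R ⧸ I) ⊗ₜ[R] x) →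
      Function.Bijective θ := by
    intro P _ _ _ θ hθ
    have hsurj : Function.Surjective θ := by
      rw [← LinearMap.range_eq_top, eq_top_iff]
      refine Submodule.le_of_le_smul_of_le_jacobson_bot (Module.finite_def.mp inferInstance)
        hjac ?_
      intro x _
      have h0 : (1 : R ⧸ I) ⊗ₜ[R] (x - θ x) = 0 := by
        rw [TensorProduct.tmul_sub, hθ, sub_self]
      rw [Groth.Agent.Helper1.one_tmul_eq_zero_iff] at h0
      rw [Submodule.mem_sup]
      exact ⟨θ x, LinearMap.mem_range_self θ x, x - θ x, h0, by abel⟩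
    exact ⟨OrzechProperty.injective_of_surjective_endomorphism θ hsurj, hsurj⟩
  have h1 : Function.Bijective (ψ ∘ₗ φ) := by
    apply key
    intro x
    have := hψ' (φ x)
    rw [hφ' x, LinearEquiv.symm_apply_apply] at this
    exact this
  have h2 : Function.Bijective (φ ∘ₗ ψ) := by
    apply key
    intro y
    have := hφ' (ψ y)
    rw [hψ' y, LinearEquiv.apply_symm_apply] at this
    exact this
  have hinj : Function.Injective φ := by
    have : Function.Injective (ψ ∘ φ) := h1.1
    exact this.of_comp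
  have hsurj : Function.Surjective φ := by
    have : Function.Surjective (φ ∘ ψ) := h2.2
    exact this.of_comp
  exact ⟨LinearEquiv.ofBijective φ ⟨hinj, hsurj⟩⟩

end Groth.Agent.S0535
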