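import Groth.Statements.S0557
import Groth.Agent.Lib.Helper1.KA2

set_option autoImplicit false
universe u
open CAlg

namespace Groth.Agent.S0557

/-- Let `R` be a Noetherian local domain of dimension one with fraction field `K`, `M` an `R`-submodule
of `K^r`, and `x` a nonzero element of `R`. Then `R/xR` has finite length and the length of `M/xM`
is at most `r` times the length of `R/xR`. -/
theorem result (R : Type u) [CommRing R] [IsDomain R]
    [IsNoetherianRing R] [IsLocalRing R] (hdim : ringKrullDim R = 1) (K : Type u) [Field K]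
    [Algebra R K] [IsFractionRing R K] (r : ℕ) (M : Submodule R (Fin r → K)) (x : R) (hx : x ≠ 0) :
    Module.length R (R ⧸ Ideal.span ({x} : Set R)) ≠ ⊤ ∧
      Module.length R (M ⧸ (Ideal.span ({x} : Set R) • (⊤ : Submodule R M))) ≤
        r * Module.length R (R ⧸ Ideal.span ({x} : Set R)) := by
  have hfin : ∀ a : R, a ≠ 0 → Module.length R (R ⧸ Ideal.span ({a} : Set R)) ≠ ⊤ :=
    fun a ha => Groth.Agent.Helper1.KA.length_quotient_span_singleton_ne_top hdim.le ha
  refine ⟨hfin x hx, ?_⟩
  have h1 := Groth.Agent.Helper1.KA.length_quotient_smul_top_le (K := K) (V := Fin r → K)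
    hfin M x hx
  rw [Module.finrank_fin_fun] at h1
  exact h1

end Groth.Agent.S0557
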