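import Groth.Statements.S0605
import Mathlib
import Groth.Agent.Lib.Lead.Depth8

set_option autoImplicit false
universe u
open CAlg

namespace Groth.Agent.S0605

/-- Over a regular local ring, a finitely generated module whose depth equals the dimension of the ring
(a maximal Cohen–Macaulay module) is free. -/
theorem result (R : Type u) [CommRing R]
    [IsRegularLocalRing R] (M : Type u) [AddCommGroup M] [Module R M] [Module.Finite R M]
    (h : ((LocCoh.depth R M : ℕ∞) : WithBot ℕ∞) = ringKrullDim R) : Module.Free R M := by
  exact Groth.Agent.Lead.Depth.free_of_depth_eq_ringKrullDim M h

end Groth.Agent.S0605
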