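import Groth.Statements.S0611
import Mathlib
import Groth.Agent.Lib.Helper5.RegGen

set_option autoImplicit false
universe u
open RRAlg

namespace Groth.Agent.S0611

/-- In a Noetherian local ring, any minimal generating set of an ideal generated by a regular sequence
is again a regular sequence: if a₁, …, aₙ is a regular sequence and b₁, …, bₙ are n elements
generating the same ideal, then b₁, …, bₙ is a regular sequence. (A regular sequence of length n
generating an ideal I is a minimal generating set of I, so "minimal" amounts to "of length n".) -/
theorem result {A : Type u} [CommRing A] [IsLocalRing A] [IsNoetherianRing A]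
    {n : ℕ} (a b : Fin n → A) (ha : RingTheory.Sequence.IsRegular A (List.ofFn a))
    (hab : Ideal.span (Set.range a) = Ideal.span (Set.range b)) :
    RingTheory.Sequence.IsRegular A (List.ofFn b) := by
  classical
  have hofa : Ideal.ofList (List.ofFn a) = Ideal.span (Set.range a) := by
    unfold Ideal.ofList
    congr 1
    ext x
    simp [List.mem_ofFn]
  have hofb : Ideal.ofList (List.ofFn b) = Ideal.span (Set.range b) := by
    unfold Ideal.ofList
    congr 1
    ext x
    simp [List.mem_ofFn]
  have hofab : Ideal.ofList (List.ofFn b) = Ideal.ofList (List.ofFn a) := by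
    rw [hofa, hofb, hab]
  have htop : (⊤ : Submodule A A) ≠ Ideal.ofList (List.ofFn a) • (⊤ : Submodule A A) :=
    ha.top_ne_smul
  have hI : Ideal.ofList (List.ofFn b) ≠ ⊤ := by
    intro h
    apply htop
    rw [← hofab, h]
    simp
  have hdepth : (n : ℕ∞) ≤ LocCoh.idealDepth (Ideal.ofList (List.ofFn b)) A := by
    have := Groth.Agent.Lead.Depth.le_idealDepth_of_isWeaklyRegular
      (Ideal.ofList (List.ofFn b)) A (List.ofFn a) ha.toIsWeaklyRegular (by
        intro r hr
        rw [hofab]
        exact Ideal.subset_span hr)
    simpa using this
  have hw := Groth.Agent.Helper5.RegGen.isWeaklyRegular_of_le_idealDepth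
    (Ideal.ofList (List.ofFn b)) hI n A (List.ofFn b) (by simp) le_rfl le_sup_left hdepth
  refine ⟨hw, ?_⟩
  rw [hofab]
  exact htop

end Groth.Agent.S0611
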