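import Groth.Statements.S0643


set_option autoImplicit false
universe u
open EtCore

namespace Groth.Agent.S0643

open Polynomial in
/-- Let A be a ring, assumed nonzero here (the published statement does not say so; over the zero ring
no polynomial has positive degree in Lean's sense), and a, b elements generating the unit ideal such
that some positive power of a is congruent to 1 modulo b. Then there is a monic polynomial P of
positive degree over A such that in B = A[y]/(P) the element a - b y is a unit. -/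
theorem result (A : Type u) [CommRing A] [Nontrivial A] (a b : A) (hab : IsCoprime a b)
    (hroot : ∃ n : ℕ, 0 < n ∧ a ^ n - 1 ∈ Ideal.span ({b} : Set A)) :
    ∃ P : A[X], P.Monic ∧ 0 < P.natDegree ∧
      IsUnit (algebraMap A (AdjoinRoot P) a - algebraMap A (AdjoinRoot P) b * AdjoinRoot.root P) := by
  classical
  obtain ⟨n, hn, hmem⟩ := hroot
  obtain ⟨c, hc⟩ := Ideal.mem_span_singleton'.mp hmem
  -- hc : c * b = a ^ n - 1
  -- work with d = 2 n
  set d : ℕ := 2 * n with hd
  have hd2 : 2 ≤ d := by omega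
  -- a ^ d = 1 + b * c'
  obtain ⟨c', hc'⟩ : ∃ c', a ^ d = 1 + b * c' := by
    refine ⟨2 * c + b * c ^ 2, ?_⟩
    have : a ^ n = 1 + c * b := by rw [hc]; ring
    rw [hd, pow_mul', this]; ring
  obtain ⟨u, v, huv⟩ := (hab.pow (m := d - 1) (n := d - 1))
  -- coefficients
  set α : A := -c' * u with hα
  set β : A := -c' * v with hβ
  have hαβ : α * a ^ (d - 1) + β * b ^ (d - 1) = -c' := by
    rw [hα, hβ]
    calc -c' * u * a ^ (d - 1) + -c' * v * b ^ (d - 1)
        = -c' * (u * a ^ (d - 1) + v * b ^ (d - 1)) := by ring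
      _ = -c' := by rw [huv]; ring
  have hkey : a ^ d + α * a ^ (d - 1) * b + β * b ^ d = 1 := by
    have hb : b ^ d = b ^ (d - 1) * b := by
      rw [← pow_succ]; congr 1; omega
    calc a ^ d + α * a ^ (d - 1) * b + β * b ^ d
        = a ^ d + b * (α * a ^ (d - 1) + β * b ^ (d - 1)) := by rw [hb]; ring
      _ = 1 := by rw [hαβ, hc']; ring
  set r : A[X] := C α * X ^ (d - 1) + C β with hr
  have hrdeg : r.degree < (d : WithBot ℕ) := by
    refine (degree_add_le _ _).trans_lt (max_lt ?_ ?_)
    · refine (degree_C_mul_X_pow_le _ _).trans_lt ?_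
      exact_mod_cast (by omega : d - 1 < d)
    · refine degree_C_le.trans_lt ?_
      exact_mod_cast (by omega : 0 < d)
  have hmonic : (X ^ d + r).Monic := monic_X_pow_add hrdeg
  refine ⟨X ^ d + r, hmonic, ?_, ?_⟩
  · have h1 : (X ^ d + r).degree = (d : WithBot ℕ) := by
      rw [degree_add_eq_left_of_degree_lt (by rwa [degree_X_pow]), degree_X_pow]
    rw [natDegree_eq_of_degree_eq_some h1]; omega
  · generalize hP : X ^ d + r = P
    rw [AdjoinRoot.algebraMap_eq]
    have h1 : AdjoinRoot.root P ^ d + (AdjoinRoot.of P α * AdjoinRoot.root P ^ (d - 1) +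
        AdjoinRoot.of P β) = 0 := by
      have : eval₂ (AdjoinRoot.of P) (AdjoinRoot.root P) (X ^ d + (C α * X ^ (d - 1) + C β)) = 0 := by
        rw [← hr, hP]; exact AdjoinRoot.eval₂_root P
      simpa [eval₂_add, eval₂_mul, eval₂_pow] using this
    have h2 : AdjoinRoot.of P a ^ d + AdjoinRoot.of P α * AdjoinRoot.of P a ^ (d - 1) *
        AdjoinRoot.of P b + AdjoinRoot.of P β * AdjoinRoot.of P b ^ d = 1 := by
      have := congrArg (AdjoinRoot.of P) hkey
      simpa using this
    generalize AdjoinRoot.root P = y at *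
    generalize AdjoinRoot.of P a = a' at *
    generalize AdjoinRoot.of P b = b' at *
    generalize AdjoinRoot.of P α = α' at *
    generalize AdjoinRoot.of P β = β' at *
    have h3 : (1 : AdjoinRoot P) = (a' ^ d - (b' * y) ^ d) +
        α' * b' * (a' ^ (d - 1) - (b' * y) ^ (d - 1)) := by
      have hb : b' ^ d = b' ^ (d - 1) * b' := by
        rw [← pow_succ]; congr 1; omega
      have : (a' ^ d - (b' * y) ^ d) + α' * b' * (a' ^ (d - 1) - (b' * y) ^ (d - 1)) =
          (a' ^ d + α' * a' ^ (d - 1) * b' + β' * b' ^ d) -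
            b' ^ d * (y ^ d + (α' * y ^ (d - 1) + β')) := by
        rw [mul_pow, mul_pow, hb]; ring
      rw [this, h1, h2]; ring
    have hdvd : a' - b' * y ∣ 1 := by
      rw [h3]
      exact dvd_add (sub_dvd_pow_sub_pow _ _ _) (Dvd.dvd.mul_left (sub_dvd_pow_sub_pow _ _ _) _)
    exact isUnit_of_dvd_one hdvd

end Groth.Agent.S0643
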