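import Groth.Statements.S0649
import Mathlib
import Groth.Agent.Lib.Helper10.OverBC

set_option autoImplicit false
open CategoryTheory CategoryTheory.Limits AlgebraicGeometry Opposite
universe u
open EtCore

namespace Groth.Agent.S0649

section helpers

open CategoryTheory.Limits AlgebraicGeometry

variable {V' V Y X : Scheme.{u}} (j : V ⟶ X) [AlgebraicGeometry.Etale j]
    (f : Y ⟶ X) (j' : V' ⟶ Y) [AlgebraicGeometry.Etale j'] (f' : V' ⟶ V)

/-- Base change of étale sites commutes with composition with étale maps. -/
noncomputable def siteBC (h : IsPullback j' f' f j) :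
    EtCoh.bc f' ⋙ EtShriek.compEtale j' ≅ EtShriek.compEtale j ⋙ EtCoh.bc f :=
  Functor.fullyFaithfulCancelRight (Scheme.Etale.forget Y)
    (Functor.isoWhiskerRight
        (MorphismProperty.Over.pullbackCompForgetIso (P := EtCoh.etaleMP) (Q := ⊤) f')
        (Over.map j') ≪≫
      Functor.isoWhiskerLeft (Scheme.Etale.forget V) (Groth.Agent.Helper10.OverBC.bcIso h) ≪≫
      Functor.isoWhiskerLeft (EtShriek.compEtale j)
        (MorphismProperty.Over.pullbackCompForgetIso (P := EtCoh.etaleMP) (Q := ⊤) f).symm)

variable [EtShriek.JCont j] [EtShriek.JCont j']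

noncomputable def rightIso (h : IsPullback j' f' f j) :
    EtShriek.restrAlong j' ⋙ EtCoh.push f' ≅ EtCoh.push f ⋙ EtShriek.restrAlong j := by
  haveI : (EtShriek.compEtale j ⋙ EtCoh.bc f).IsContinuous V.smallEtaleTopology
      Y.smallEtaleTopology :=
    Functor.isContinuous_comp (EtShriek.compEtale j) (EtCoh.bc f) V.smallEtaleTopology
      X.smallEtaleTopology Y.smallEtaleTopology
  exact Functor.sheafPushforwardContinuousComp' (F := EtCoh.bc f') (G := EtShriek.compEtale j')
      (FG := EtShriek.compEtale j ⋙ EtCoh.bc f) (siteBC j f j' f' h) AddCommGrpCat.{u + 1}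
      V.smallEtaleTopology V'.smallEtaleTopology Y.smallEtaleTopology ≪≫
    (Functor.sheafPushforwardContinuousComp' (F := EtShriek.compEtale j) (G := EtCoh.bc f)
      (FG := EtShriek.compEtale j ⋙ EtCoh.bc f) (Iso.refl _) AddCommGrpCat.{u + 1}
      V.smallEtaleTopology X.smallEtaleTopology Y.smallEtaleTopology).symm

end helpers

/-- Extension by zero commutes with pullback, for abelian sheaves. Let f : Y → X be a morphism of
schemes and j : V → X étale, and let V' = Y ×_X V with projections j' : V' → Y and f' : V' → V. Then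
the functors j'_! ∘ f'^(-1) and f^(-1) ∘ j_! from abelian sheaves on V_ét to abelian sheaves on Y_ét
are isomorphic. Only the existence of an isomorphism of functors is asserted; the published
statement gives the canonical one. (Continuity of the composition functor of étale sites, which
always holds, is carried as an instance hypothesis.) -/
theorem result {V' V Y X : Scheme.{u}} (j : V ⟶ X) [AlgebraicGeometry.Etale j] [EtShriek.JCont j]
    (f : Y ⟶ X) (j' : V' ⟶ Y) [AlgebraicGeometry.Etale j'] [EtShriek.JCont j'] (f' : V' ⟶ V)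
    (h : IsPullback j' f' f j) :
    Nonempty (EtCoh.pull f' ⋙ EtShriek.extZero j' ≅ EtShriek.extZero j ⋙ EtCoh.pull f) := by
  exact ⟨Adjunction.leftAdjointUniq ((EtCoh.pullPushAdj f').comp (EtShriek.extZeroAdj j'))
    (((EtShriek.extZeroAdj j).comp (EtCoh.pullPushAdj f)).ofNatIsoRight (rightIso j f j' f' h).symm)⟩

end Groth.Agent.S0649
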