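import Groth.Statements.S0659
import Groth.Agent.Lib.Helper24.EtOpen5
import Groth.Agent.Lib.Helper24.ExtMV

set_option autoImplicit false
open CategoryTheory CategoryTheory.Limits AlgebraicGeometry Opposite
universe u
open EtCore

namespace Groth.Agent.S0659

open Groth.Agent.Helper24.EtOpen
open Groth.Agent.Helper24.ExtMV
open CategoryTheory.Abelian

section Aux
variable {X' Y' Z' : Scheme.{u}} (f : X' ⟶ Y') (t : Y' ⟶ Z') (f₀ : X' ⟶ Z') (w : f ≫ t = f₀)
  [Etale f] [Etale t] [Etale f₀]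

/-- the morphism `(X' → Z') ⟶ (Y' → Z')` of the small étale site of `Z'` induced by `f` -/
noncomputable def iotaOf : objOf f₀ ⟶ objOf t :=
  MorphismProperty.Over.homMk f (by
    show f ≫ (𝟙 _ ≫ t) = 𝟙 _ ≫ f₀
    rw [Category.id_comp, Category.id_comp, w]) trivial

lemma mono_of_objOf [Mono f₀] {T : Z'.Etale} (m : objOf f₀ ⟶ T) : Mono m :=
  ⟨fun _ _ _ => hom_objOf_ext f₀ _ _⟩

end Aux

section Main
variable (X : Scheme.{u}) (U V : X.Opens) (hUV : U ⊔ V = ⊤)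

/-- `(U ⊓ V → X) ⟶ (U → X)` -/
noncomputable abbrev iU : objOf (U ⊓ V).ι ⟶ objOf U.ι :=
  iotaOf (X.homOfLE (inf_le_left : U ⊓ V ≤ U)) U.ι (U ⊓ V).ι (X.homOfLE_ι inf_le_left)

noncomputable abbrev iV : objOf (U ⊓ V).ι ⟶ objOf V.ι :=
  iotaOf (X.homOfLE (inf_le_right : U ⊓ V ≤ V)) V.ι (U ⊓ V).ι (X.homOfLE_ι inf_le_right)

noncomputable abbrev kU : PP (U ⊓ V).ι ⟶ PP U.ι :=
  kap (X.homOfLE (inf_le_left : U ⊓ V ≤ U)) U.ι (U ⊓ V).ι (X.homOfLE_ι inf_le_left)

noncomputable abbrev kV : PP (U ⊓ V).ι ⟶ PP V.ι :=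
  kap (X.homOfLE (inf_le_right : U ⊓ V ≤ V)) V.ι (U ⊓ V).ι (X.homOfLE_ι inf_le_right)

lemma secJ_kU (G : EtCoh.Ab X) (ψ : PP U.ι ⟶ G) :
    secJ (U ⊓ V).ι G (kU X U V ≫ ψ) = secJ U.ι G ψ ≫ G.obj.map (iU X U V).op :=
  K2 _ _ _ _ G ψ _

lemma secJ_kV (G : EtCoh.Ab X) (ψ : PP V.ι ⟶ G) :
    secJ (U ⊓ V).ι G (kV X U V ≫ ψ) = secJ V.ι G ψ ≫ G.obj.map (iV X U V).op :=
  K2 _ _ _ _ G ψ _

lemma hw : kU X U V ≫ eps U.ι = kV X U V ≫ eps V.ι := by
  apply (secJ (U ⊓ V).ι (EtCoh.const X ℤ)).injective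
  have h1 := K1 U.ι (EtCoh.const X ℤ) (𝟙 _)
  have h2 := K1 V.ι (EtCoh.const X ℤ) (𝟙 _)
  rw [Category.comp_id] at h1 h2
  rw [secJ_kU, secJ_kV, h1, h2, Category.assoc, Category.assoc, ← Functor.map_comp, ← Functor.map_comp,
    ← op_comp, ← op_comp]
  congr 3
  exact (EtCore.topIsTerminal X).hom_ext _ _

include hUV in
lemma mv_shortExact :
    (mvSC (eps U.ι) (eps V.ι) (kU X U V) (kV X U V) (hw X U V)).ShortExact := by
  apply shortExact_of_hom
  · -- injectivity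
    intro I _ φ hφ
    suffices h : ∀ φ' : EtCoh.const X ℤ ⟶ I, biprod.desc (eps U.ι) (eps V.ι) ≫ φ' = 0 → φ' = 0 from
      h φ hφ
    clear hφ φ
    intro φ hφ'
    have h1 : eps U.ι ≫ φ = 0 := by
      have := congrArg (fun k => biprod.inl ≫ k) hφ'
      simpa using this
    have h2 : eps V.ι ≫ φ = 0 := by
      have := congrArg (fun k => biprod.inr ≫ k) hφ'
      simpa using this
    apply (secX I).injective
    apply glue_unique U V hUV I
    · rw [← K1, ← K1, h1, comp_zero]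
    · rw [← K1, ← K1, h2, comp_zero]
  · -- exactness in the middle
    intro I _ ψ hψ
    have hψ' : biprod.lift (kU X U V) (-kV X U V) ≫ ψ = 0 := hψ
    have h0 : kU X U V ≫ (biprod.inl ≫ ψ) = kV X U V ≫ (biprod.inr ≫ ψ) := by
      rw [biprod.lift_eq, Preadditive.add_comp, Category.assoc, Category.assoc,
        Preadditive.neg_comp, ← sub_eq_add_neg, sub_eq_zero] at hψ'
      exact hψ'
    have hab : secJ U.ι I (biprod.inl ≫ ψ) ≫ I.obj.map (iU X U V).op =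
        secJ V.ι I (biprod.inr ≫ ψ) ≫ I.obj.map (iV X U V).op := by
      rw [← secJ_kU, ← secJ_kV, h0]
    obtain ⟨s, hs1, hs2⟩ := glue_exists U V hUV I _ _ (iU X U V) (iV X U V) hab
    refine ⟨(secX I).symm s, ?_⟩
    show biprod.desc (eps U.ι) (eps V.ι) ≫ (secX I).symm s = ψ
    apply biprod.hom_ext'
    · rw [biprod.inl_desc_assoc]
      apply (secJ U.ι I).injective
      rw [K1, Equiv.apply_symm_apply, hs1]
    · rw [biprod.inr_desc_assoc]
      apply (secJ V.ι I).injective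
      rw [K1, Equiv.apply_symm_apply, hs2]
  · -- surjectivity
    intro I _ χ
    have : Mono (iU X U V) := mono_of_objOf _ _
    obtain ⟨a, ha⟩ := sheaf_flasque I (iU X U V) (secJ (U ⊓ V).ι I χ)
    refine ⟨biprod.desc ((secJ U.ι I).symm a) 0, ?_⟩
    show biprod.lift (kU X U V) (-kV X U V) ≫ biprod.desc ((secJ U.ι I).symm a) 0 = χ
    rw [biprod.lift_desc, comp_zero, add_zero]
    apply (secJ (U ⊓ V).ι I).injective
    rw [secJ_kU, Equiv.apply_symm_apply, ha]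

end Main

/-- Let X = U ∪ V be a union of two open subschemes and F an abelian sheaf on the small etale site of X.
Writing r_U, r_V for the pullback maps H^n(X, F) -> H^n(U, F|_U), H^n(V, F|_V) and d for the
difference of the two further pullbacks to H^n(U ∩ V, F|_{U ∩ V}), there are connecting
homomorphisms δ_n : H^n(U ∩ V) -> H^{n+1}(X) making the Mayer-Vietoris sequence exact: (r_U, r_V) is
injective in degree 0 and has kernel the image of δ in positive degrees, d has kernel the image of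
(r_U, r_V), and δ has kernel the image of d. (Functoriality in F is not stated.) (Exactness of
pullback of abelian sheaves, which always holds, is carried as an instance hypothesis.) -/
theorem result (X : Scheme.{u}) (U V : X.Opens) (hUV : U ⊔ V = ⊤) (F : EtCoh.Ab X)
    [PreservesFiniteLimits (EtCoh.pull U.ι)] [PreservesFiniteLimits (EtCoh.pull V.ι)]
    [PreservesFiniteLimits (EtCoh.pull (X.homOfLE (inf_le_left : U ⊓ V ≤ U)))]
    [PreservesFiniteLimits (EtCoh.pull (X.homOfLE (inf_le_right : U ⊓ V ≤ V)))] :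
    ∃ δ : ∀ n : ℕ, EtCoh.H ↑(U ⊓ V) ((EtCoh.pull (U ⊓ V).ι).obj F) n →+ EtCoh.H X F (n + 1),
      (AddMonoidHom.prod (EtCore.Hpull U.ι F 0) (EtCore.Hpull V.ι F 0)).ker = ⊥ ∧
      (∀ n : ℕ, (AddMonoidHom.prod (EtCore.Hpull U.ι F (n + 1)) (EtCore.Hpull V.ι F (n + 1))).ker = (δ n).range) ∧
      (∀ n : ℕ, (((EtCore.HpullVia (X.homOfLE (inf_le_left : U ⊓ V ≤ U)) U.ι (U ⊓ V).ι (X.homOfLE_ι inf_le_left) F n)).comp (AddMonoidHom.fst _ _) - ((EtCore.HpullVia (X.homOfLE (inf_le_right : U ⊓ V ≤ V)) V.ι (U ⊓ V).ι (X.homOfLE_ι inf_le_right) F n)).comp (AddMonoidHom.snd _ _)).ker =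
        (AddMonoidHom.prod (EtCore.Hpull U.ι F n) (EtCore.Hpull V.ι F n)).range) ∧
      (∀ n : ℕ, (δ n).ker = (((EtCore.HpullVia (X.homOfLE (inf_le_left : U ⊓ V ≤ U)) U.ι (U ⊓ V).ι (X.homOfLE_ι inf_le_left) F n)).comp (AddMonoidHom.fst _ _) - ((EtCore.HpullVia (X.homOfLE (inf_le_right : U ⊓ V ≤ V)) V.ι (U ⊓ V).ι (X.homOfLE_ι inf_le_right) F n)).comp (AddMonoidHom.snd _ _)).range) := by
  have : PreservesFiniteLimits (EtCoh.pull (U ⊓ V).ι) := pull_pfl _
  exact ext_mv (mv_shortExact X U V hUV) F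
    (fun n => Phi U.ι F n) (fun n => Phi V.ι F n) (fun n => Phi (U ⊓ V).ι F n)
    (fun n => EtCore.Hpull U.ι F n) (fun n => EtCore.Hpull V.ι F n)
    (fun n => EtCore.HpullVia (X.homOfLE (inf_le_left : U ⊓ V ≤ U)) U.ι (U ⊓ V).ι
      (X.homOfLE_ι inf_le_left) F n)
    (fun n => EtCore.HpullVia (X.homOfLE (inf_le_right : U ⊓ V ≤ V)) V.ι (U ⊓ V).ι
      (X.homOfLE_ι inf_le_right) F n)
    (fun n x => Hpull_eq U.ι F n x) (fun n x => Hpull_eq V.ι F n x)
    (fun n y => HpullVia_eq _ _ _ _ F n y) (fun n y => HpullVia_eq _ _ _ _ F n y)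

end Groth.Agent.S0659
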