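import Groth.Statements.S0695
import Mathlib
import Groth.Agent.Lib.Helper2.WLoc1
import Groth.Agent.Lib.Helper2.WLoc4
import Groth.Agent.Lib.Helper2.WLocal2
import Groth.Agent.Lib.Helper2.LCHom
-- import your own Groth.Agent.* helpers here

set_option autoImplicit false
open CategoryTheory CategoryTheory.Limits AlgebraicGeometry Opposite Topology
universe u
open ProEtW

namespace Groth.Agent.S0695

section
open CategoryTheory CategoryTheory.Limits AlgebraicGeometry Opposite Topology
open Groth.Agent.Helper2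
open LocallyConstant

theorem continuous_Tc_map {A B : Type u} [CommRing A] [CommRing B] (f : A →+* B) :
    Continuous (fun t : WLoc.Tc B => WLoc.ι A (PrimeSpectrum.comap f (WLoc.o B t))) := by
  have hc : Continuous[constructibleTopology (PrimeSpectrum B),
      constructibleTopology (PrimeSpectrum A)] (PrimeSpectrum.comap f) := by
    change Continuous[constructibleTopology (PrimeSpectrum B), TopologicalSpace.generateFrom
      (constructibleTopologySubbasis (PrimeSpectrum A))] (PrimeSpectrum.comap f)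
    rw [continuous_generateFrom_iff]
    rintro u (⟨ho, hc⟩ | ⟨hcl, hc⟩)
    · exact IsCompact.isOpen_constructibleTopology_of_isOpen
        ((WLoc.isSpectralMap_comap f).isCompact_preimage_of_isOpen ho hc)
        (ho.preimage (PrimeSpectrum.continuous_comap f))
    · apply IsCompact.isOpen_constructibleTopology_of_isClosed
      · rw [← Set.preimage_compl]
        exact (WLoc.isSpectralMap_comap f).isCompact_preimage_of_isOpen hcl.isOpen_compl hc
      · exact hcl.preimage (PrimeSpectrum.continuous_comap f)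
  rw [continuous_def]
  intro s hs
  rw [WithConstructibleTopology.isOpen_iff] at hs ⊢
  exact (continuous_def.mp hc) _ hs

variable (A : Type u) [CommRing A] (B : Type u) [CommRing B] [Algebra A B]
  (hB : ProEtW.IsWLocal (PrimeSpectrum B))

/-- the map `Spec B → Tc A`, `y ↦` the image of the closed point of `y` -/
noncomputable def rho : C(PrimeSpectrum B, WLoc.Tc A) where
  toFun y := WLoc.ι A (PrimeSpectrum.comap (algebraMap A B) (WLocal.cpt hB y))
  continuous_toFun := by
    haveI := WLocal.totallySeparatedSpace_Xc hB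
    exact (continuous_Tc_map (algebraMap A B)).comp
      ((WLoc.continuous_ι_val B hB.2.1).comp (WLocal.continuous_cptXc hB))

theorem o_rho (y : PrimeSpectrum B) :
    WLoc.o A (rho A B hB y) = PrimeSpectrum.comap (algebraMap A B) (WLocal.cpt hB y) := rfl

/-- the ring map `LC(Tc A, A) → B` -/
noncomputable def psi : LocallyConstant (WLoc.Tc A) A →+* B := LCHom.glueHom (rho A B hB)

theorem psi_mem_iff (F : LocallyConstant (WLoc.Tc A) A) (y : PrimeSpectrum B) :
    psi A B hB F ∈ y.asIdeal ↔ algebraMap A B (F (rho A B hB y)) ∈ y.asIdeal :=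
  LCHom.glueHom_mem_iff _ F y

theorem isUnit_of_forall_notMem {b : B} (h : ∀ y : PrimeSpectrum B, b ∉ y.asIdeal) :
    IsUnit b := by
  by_contra hb
  obtain ⟨m, hm, hbm⟩ := exists_max_ideal_of_mem_nonunits hb
  exact h ⟨m, hm.isPrime⟩ hbm

theorem isUnit_psi (s : WLoc.Sw A) : IsUnit (psi A B hB s) := by
  obtain ⟨s, hs⟩ := s
  change IsUnit (psi A B hB s)
  induction hs using Submonoid.closure_induction with
  | mem s hs =>
    obtain ⟨f, rfl⟩ := hs
    apply isUnit_of_forall_notMem
    intro y
    rw [psi_mem_iff]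
    by_cases ht : rho A B hB y ∈ WLoc.Df A f
    · rw [WLoc.sEl_apply_mem A ht]
      rw [WLoc.mem_Df, o_rho] at ht
      intro hmem
      apply ht
      change algebraMap A B f ∈ (WLocal.cpt hB y).asIdeal
      exact (PrimeSpectrum.le_iff_specializes _ _).2 (WLocal.cpt_spec hB y) hmem
    · rw [WLoc.sEl_apply_notMem A ht, map_one]
      exact y.isPrime.one_notMem
  | one => rw [map_one]; exact isUnit_one
  | mul a b _ _ ha hb => rw [map_mul]; exact ha.mul hb

/-- the canonical map `Aw A → B` -/
noncomputable def phi : WLoc.Aw A →ₐ[A] B :=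
  { IsLocalization.lift (M := WLoc.Sw A) (g := psi A B hB) (isUnit_psi A B hB) with
    commutes' := by
      intro a
      change IsLocalization.lift (M := WLoc.Sw A) (g := psi A B hB) (isUnit_psi A B hB)
        (algebraMap A (WLoc.Aw A) a) = algebraMap A B a
      rw [IsScalarTower.algebraMap_apply A (LocallyConstant (WLoc.Tc A) A) (WLoc.Aw A),
        IsLocalization.lift_eq]
      exact LCHom.glueHom_algebraMap _ a }

theorem phi_algebraMap (F : LocallyConstant (WLoc.Tc A) A) :
    phi A B hB (algebraMap (LocallyConstant (WLoc.Tc A) A) (WLoc.Aw A) F) = psi A B hB F :=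
  IsLocalization.lift_eq _ F

/-- the `Tc A`-coordinate of `comap φ' y` when it is known on `charFn`s -/
theorem lm_snd_eq {φ' : WLoc.Aw A →ₐ[A] B} (y : PrimeSpectrum B) (t : WLoc.Tc A)
    (h : ∀ (U : Set (WLoc.Tc A)) (hU : IsClopen U), t ∈ U →
      φ' (algebraMap (LocallyConstant (WLoc.Tc A) A) (WLoc.Aw A) (charFn A hU)) ∉ y.asIdeal) :
    (WLoc.lm A (PrimeSpectrum.comap φ'.toRingHom y)).2 = t :=
  LCSpec.tau_eq (fun U hU htU => h U hU htU)

theorem lm_fst_comap (φ' : WLoc.Aw A →ₐ[A] B) (y : PrimeSpectrum B) :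
    (WLoc.lm A (PrimeSpectrum.comap φ'.toRingHom y)).1 =
      PrimeSpectrum.comap (algebraMap A B) y := by
  rw [WLoc.lm_fst]
  apply PrimeSpectrum.ext
  ext a
  change φ' (algebraMap A (WLoc.Aw A) a) ∈ y.asIdeal ↔ algebraMap A B a ∈ y.asIdeal
  rw [φ'.commutes]

theorem lm_snd_phi (y : PrimeSpectrum B) :
    (WLoc.lm A (PrimeSpectrum.comap (phi A B hB).toRingHom y)).2 = rho A B hB y := by
  apply lm_snd_eq
  intro U hU htU
  rw [phi_algebraMap, psi_mem_iff, LCSpec.charFn_apply_of_mem hU htU, map_one]
  exact y.isPrime.one_notMem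

theorem isWLocalMap_phi :
    ProEtW.IsWLocalMap (PrimeSpectrum.comap (phi A B hB).toRingHom) := by
  refine ⟨WLoc.isSpectralMap_comap _, ?_⟩
  intro z hz
  rw [WLoc.isClosed_singleton_iff, lm_fst_comap, lm_snd_phi, o_rho, WLocal.cpt_of_closed hB hz]

/-- for a w-local algebra map, the `Tc A`-coordinate is `rho` -/
theorem lm_snd_of_isWLocalMap (φ' : WLoc.Aw A →ₐ[A] B)
    (hφ' : ProEtW.IsWLocalMap (PrimeSpectrum.comap φ'.toRingHom)) (y : PrimeSpectrum B) :
    (WLoc.lm A (PrimeSpectrum.comap φ'.toRingHom y)).2 = rho A B hB y := by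
  have hspec : PrimeSpectrum.comap φ'.toRingHom y ⤳
      PrimeSpectrum.comap φ'.toRingHom (WLocal.cpt hB y) :=
    (WLocal.cpt_spec hB y).map (PrimeSpectrum.continuous_comap _)
  have h1 := ((WLoc.specializes_iff A _ _).1 hspec).2
  have hcl := hφ'.2 (WLocal.cpt hB y) (WLocal.cpt_closed hB y)
  rw [WLoc.isClosed_singleton_iff, lm_fst_comap] at hcl
  rw [h1]
  apply WithTopology.ofTopology_injective
  change WLoc.o A _ = WLoc.o A _
  rw [← hcl, o_rho]

theorem unique_phi (φ' : WLoc.Aw A →ₐ[A] B)
    (hφ' : ProEtW.IsWLocalMap (PrimeSpectrum.comap φ'.toRingHom)) : φ' = phi A B hB := by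
  have key : ∀ F : LocallyConstant (WLoc.Tc A) A,
      φ' (algebraMap (LocallyConstant (WLoc.Tc A) A) (WLoc.Aw A) F) = psi A B hB F := by
    intro F
    apply LCHom.eq_of_locEq_both (c := fun y => algebraMap A B (F (rho A B hB y)))
      (fun y => ?_) (fun y => LCHom.glueHom_spec _ F y)
    set t := rho A B hB y with ht
    let U : Set (WLoc.Tc A) := F ⁻¹' {F t}
    have hU : IsClopen U := F.isLocallyConstant.isClopen_fiber _
    have htU : t ∈ U := rfl
    refine ⟨φ' (algebraMap (LocallyConstant (WLoc.Tc A) A) (WLoc.Aw A) (charFn A hU)), ?_, ?_⟩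
    · have h1 := lm_snd_of_isWLocalMap A B hB φ' hφ' y
      have h2 : LCSpec.tau (PrimeSpectrum.comap
          (algebraMap (LocallyConstant (WLoc.Tc A) A) (WLoc.Aw A))
          (PrimeSpectrum.comap φ'.toRingHom y)) ∈ U := by
        change (WLoc.lm A (PrimeSpectrum.comap φ'.toRingHom y)).2 ∈ U
        rw [h1]
        exact htU
      exact (LCSpec.tau_spec _ U hU).1 h2
    · have e0 : charFn A hU * (F - algebraMap A (LocallyConstant (WLoc.Tc A) A) (F t)) = 0 := by
        ext x
        change charFn A hU x * (F x - F t) = 0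
        by_cases hx : x ∈ U
        · have : F x = F t := hx
          rw [this, sub_self, mul_zero]
        · rw [LCSpec.charFn_apply_of_notMem hU hx, zero_mul]
      have e1 := congrArg (fun G => φ' (algebraMap (LocallyConstant (WLoc.Tc A) A) (WLoc.Aw A) G)) e0
      simp only [map_mul, map_sub, map_zero] at e1
      rw [← IsScalarTower.algebraMap_apply A (LocallyConstant (WLoc.Tc A) A) (WLoc.Aw A),
        φ'.commutes] at e1
      exact e1
  have hring : φ'.toRingHom = (phi A B hB).toRingHom := by
    apply IsLocalization.ringHom_ext (WLoc.Sw A)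
    ext F
    change φ' (algebraMap _ _ F) = phi A B hB (algebraMap _ _ F)
    rw [key, phi_algebraMap]
  exact AlgHom.ext (fun x => RingHom.congr_fun hring x)

theorem main (A : Type u) [CommRing A] :
    ∃ (Aw : Type u) (_ : CommRing Aw) (_ : Algebra A Aw),
      Module.FaithfullyFlat A Aw ∧ EtPBC.IsIndZariski A Aw ∧ ProEtW.IsWLocal (PrimeSpectrum Aw) ∧
      ∀ (B : Type u) [CommRing B] [Algebra A B], ProEtW.IsWLocal (PrimeSpectrum B) →
        ∃! φ : Aw →ₐ[A] B, ProEtW.IsWLocalMap (PrimeSpectrum.comap φ.toRingHom) := by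
  refine ⟨WLoc.Aw A, inferInstance, inferInstance, WLoc.faithfullyFlat A, WLoc.isIndZariski A,
    WLoc.isWLocal A, ?_⟩
  intro B _ _ hB
  exact ⟨phi A B hB, isWLocalMap_phi A B hB, fun φ' hφ' => unique_phi A B hB φ' hφ'⟩

end

/-- For every ring A there is a faithfully flat ind-Zariski A-algebra A_w with w-local spectrum such
that for every A-algebra B whose spectrum is w-local there is exactly one A-algebra map A_w -> B for
which Spec B -> Spec A_w is w-local. -/
theorem result (A : Type u) [CommRing A] :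
    ∃ (Aw : Type u) (_ : CommRing Aw) (_ : Algebra A Aw),
      Module.FaithfullyFlat A Aw ∧ EtPBC.IsIndZariski A Aw ∧ ProEtW.IsWLocal (PrimeSpectrum Aw) ∧
      ∀ (B : Type u) [CommRing B] [Algebra A B], ProEtW.IsWLocal (PrimeSpectrum B) →
        ∃! φ : Aw →ₐ[A] B, ProEtW.IsWLocalMap (PrimeSpectrum.comap φ.toRingHom) := by
  exact Groth.Agent.S0695.main A

end Groth.Agent.S0695
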