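import Groth.Statements.S0696
import Mathlib
import Groth.Agent.Lib.Helper2.WLoc2
-- import your own Groth.Agent.* helpers here

set_option autoImplicit false
open CategoryTheory CategoryTheory.Limits AlgebraicGeometry Opposite Topology
universe u
open ProEtW

namespace Groth.Agent.S0696

section
open Topology Groth.Agent.Helper2.WLoc

theorem main (A : Type u) [CommRing A] :
    ∃ (B : Type u) (_ : CommRing B) (_ : Algebra A B),
      Module.FaithfullyFlat A B ∧ EtPBC.IsIndZariski A B ∧ ProEtW.IsWLocal (PrimeSpectrum B) ∧
        ExtremallyDisconnected (_root_.ConnectedComponents (PrimeSpectrum B)) := by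
  let D : Type u := WithTopology (PrimeSpectrum A) ⊥
  haveI : DiscreteTopology D := ⟨rfl⟩
  let g : D → Tc A := fun d => ι A (WithTopology.ofTopology d)
  have hg : Continuous g := continuous_of_discreteTopology
  haveI : ExtremallyDisconnected (StoneCech D) :=
    CompactT2.Projective.extremallyDisconnected StoneCech.projective
  let r : C(StoneCech D, Tc A) := ⟨stoneCechExtend hg, continuous_stoneCechExtend hg⟩
  have hr : Function.Surjective r := by
    intro t
    refine ⟨stoneCechUnit (WithTopology.toTopology ⊥ (o A t)), ?_⟩
    change stoneCechExtend hg (stoneCechUnit _) = t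
    rw [stoneCechExtend_stoneCechUnit]
  refine ⟨Br A r, inferInstance, inferInstance, faithfullyFlat_r A r hr, isIndZariski_r A r,
    isWLocal_r A r, ?_⟩
  exact extremallyDisconnected_of_homeo (pi0Homeo A r).symm

end

/-- Every ring A admits a faithfully flat ind-Zariski extension B whose spectrum is w-local with
extremally disconnected space of connected components. -/
theorem result (A : Type u) [CommRing A] :
    ∃ (B : Type u) (_ : CommRing B) (_ : Algebra A B),
      Module.FaithfullyFlat A B ∧ EtPBC.IsIndZariski A B ∧ ProEtW.IsWLocal (PrimeSpectrum B) ∧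
        ExtremallyDisconnected (_root_.ConnectedComponents (PrimeSpectrum B)) := by
  exact Groth.Agent.S0696.main A

end Groth.Agent.S0696
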