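import Groth.Statements.S0703
import Groth.Agent.Lib.Helper2.SpectralProd
-- import your own Groth.Agent.* helpers here

set_option autoImplicit false
open Topology
universe u
open ProEtW

namespace Groth.Agent.S0703

section
open Topology Set TopologicalSpace Groth.Agent.Helper2

variable (X T : Type u) [TopologicalSpace X] [SpectralSpace X]
    [TopologicalSpace T] [CompactSpace T] [T2Space T] [TotallyDisconnectedSpace T]
    (g : C(T, _root_.ConnectedComponents X))

theorem isClosed_fib : IsClosed {p : X × T | _root_.ConnectedComponents.mk p.1 = g p.2} := by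
  haveI : T2Space (_root_.ConnectedComponents X) := SpectralProd.t2_connectedComponents
  exact isClosed_eq (ConnectedComponents.continuous_coe.comp continuous_fst)
    (g.continuous.comp continuous_snd)

theorem spectral_fib :
    SpectralSpace {p : X × T // _root_.ConnectedComponents.mk p.1 = g p.2} := by
  haveI : SpectralSpace (X × T) := SpectralProd.spectralSpace_prod
  exact SpectralProd.spectralSpace_of_isClosedEmbedding Subtype.val
    (isClosed_fib X T g).isClosedEmbedding_subtypeVal

theorem fibre_connected
    (y y' : {p : X × T // _root_.ConnectedComponents.mk p.1 = g p.2}) (h : y.1.2 = y'.1.2) :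
    (_root_.ConnectedComponents.mk y : _root_.ConnectedComponents _) =
      _root_.ConnectedComponents.mk y' := by
  set t := y.1.2 with ht
  let C : Set X := connectedComponent y.1.1
  have hC : ∀ x' ∈ C, _root_.ConnectedComponents.mk x' = g t := by
    intro x' hx'
    rw [← y.2]
    exact (ConnectedComponents.coe_eq_coe'.mpr hx')
  let φ : C → {p : X × T // _root_.ConnectedComponents.mk p.1 = g p.2} :=
    fun x' => ⟨(x'.1, t), hC x'.1 x'.2⟩
  have hφ : Continuous φ := by
    refine Continuous.subtype_mk ?_ _
    exact (continuous_subtype_val.prodMk continuous_const)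
  haveI : PreconnectedSpace C :=
    isPreconnected_iff_preconnectedSpace.mp isPreconnected_connectedComponent
  have hpre : IsPreconnected (Set.range φ) := isPreconnected_range hφ
  have hy : y ∈ Set.range φ := ⟨⟨y.1.1, mem_connectedComponent⟩, by
    apply Subtype.ext
    rfl⟩
  have hy' : y' ∈ Set.range φ := by
    have hmem : y'.1.1 ∈ C := by
      apply ConnectedComponents.coe_eq_coe'.mp
      rw [y'.2, ← h, ← y.2]
    refine ⟨⟨y'.1.1, hmem⟩, ?_⟩
    apply Subtype.ext
    change (y'.1.1, t) = y'.1
    rw [h]
  symm
  exact ConnectedComponents.coe_eq_coe'.mpr (hpre.subset_connectedComponent hy hy')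

theorem main :
    SpectralSpace {p : X × T // _root_.ConnectedComponents.mk p.1 = g p.2} ∧
      ∃ e : _root_.ConnectedComponents {p : X × T // _root_.ConnectedComponents.mk p.1 = g p.2} ≃ₜ T,
        ∀ y : {p : X × T // _root_.ConnectedComponents.mk p.1 = g p.2}, e (_root_.ConnectedComponents.mk y) = y.1.2 := by
  refine ⟨spectral_fib X T g, ?_⟩
  haveI := spectral_fib X T g
  let q : {p : X × T // _root_.ConnectedComponents.mk p.1 = g p.2} → T := fun y => y.1.2
  have hq : Continuous q := continuous_snd.comp continuous_subtype_val
  let ℓ := hq.connectedComponentsLift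
  have hℓ : Continuous ℓ := hq.connectedComponentsLift_continuous
  have hℓ_apply : ∀ y, ℓ (_root_.ConnectedComponents.mk y) = y.1.2 := fun y =>
    hq.connectedComponentsLift_apply_coe y
  have hinj : Function.Injective ℓ := by
    intro a b hab
    obtain ⟨y, rfl⟩ := ConnectedComponents.surjective_coe a
    obtain ⟨y', rfl⟩ := ConnectedComponents.surjective_coe b
    have h1 := hℓ_apply y
    have h2 := hℓ_apply y'
    exact fibre_connected X T g y y' (by rw [← h1, ← h2]; exact hab)
  have hsurj : Function.Surjective ℓ := by
    intro t
    obtain ⟨x, hx⟩ := ConnectedComponents.surjective_coe (g t)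
    exact ⟨_root_.ConnectedComponents.mk ⟨(x, t), hx⟩, hℓ_apply _⟩
  let e0 : _root_.ConnectedComponents {p : X × T // _root_.ConnectedComponents.mk p.1 = g p.2} ≃ T :=
    Equiv.ofBijective ℓ ⟨hinj, hsurj⟩
  refine ⟨Continuous.homeoOfEquivCompactToT2 (f := e0) hℓ, fun y => hℓ_apply y⟩
end

/-- Let X be a spectral space, T a profinite space and g : T -> pi_0(X) continuous; let Y be the fibre
product of X and T over pi_0(X) (pairs (x, t) with [x] = g t, subspace topology). Then Y is spectral
and the projection Y -> T induces a homeomorphism pi_0(Y) = T. -/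
theorem result (X T : Type u) [TopologicalSpace X] [SpectralSpace X]
    [TopologicalSpace T] [CompactSpace T] [T2Space T] [TotallyDisconnectedSpace T]
    (g : C(T, _root_.ConnectedComponents X)) :
    SpectralSpace {p : X × T // _root_.ConnectedComponents.mk p.1 = g p.2} ∧
      ∃ e : _root_.ConnectedComponents {p : X × T // _root_.ConnectedComponents.mk p.1 = g p.2} ≃ₜ T,
        ∀ y : {p : X × T // _root_.ConnectedComponents.mk p.1 = g p.2}, e (_root_.ConnectedComponents.mk y) = y.1.2 := by
  exact Groth.Agent.S0703.main X T g

end Groth.Agent.S0703
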