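import Groth.Statements.S0697
import Mathlib
import Groth.Agent.Lib.Helper2.LCSpec1
import Groth.Agent.Lib.Helper2.LCSpec2
import Groth.Agent.Lib.Helper2.SpectralQC
import Groth.Agent.S0703
-- import your own Groth.Agent.* helpers here

set_option autoImplicit false
open CategoryTheory CategoryTheory.Limits AlgebraicGeometry Opposite Topology
universe u
open ProEtW

namespace Groth.Agent.S0697

section
open CategoryTheory CategoryTheory.Limits AlgebraicGeometry Opposite Topology
open Topology Set TopologicalSpace LocallyConstant Groth.Agent.Helper2 Groth.Agent.Helper2.LCSpec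

theorem preimage_mk_image {X : Type*} [TopologicalSpace X] {Z : Set X} (hZ : IsClopen Z) :
    (ConnectedComponents.mk : X → ConnectedComponents X) ⁻¹' (ConnectedComponents.mk '' Z) = Z := by
  apply Subset.antisymm
  · rintro x ⟨z, hz, hzx⟩
    have : x ∈ connectedComponent z := ConnectedComponents.coe_eq_coe'.mp hzx.symm
    exact hZ.connectedComponent_subset hz this
  · exact subset_preimage_image _ _

theorem isClopen_mk_image {X : Type*} [TopologicalSpace X] {Z : Set X} (hZ : IsClopen Z) :
    IsClopen ((ConnectedComponents.mk : X → ConnectedComponents X) '' Z) := by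
  rw [← ConnectedComponents.isQuotientMap_coe.isClopen_preimage]
  rw [preimage_mk_image hZ]
  exact hZ

variable (A : Type u) [CommRing A] (T : Type u) [TopologicalSpace T]
  (g : C(T, _root_.ConnectedComponents (PrimeSpectrum A)))

/-- the clopen subset of `T` attached to an idempotent -/
def UU (ε : A) : Set T :=
  g ⁻¹' (ConnectedComponents.mk '' (PrimeSpectrum.basicOpen ε : Set (PrimeSpectrum A)))

theorem isClopen_basicOpen {ε : A} (hε : IsIdempotentElem ε) :
    IsClopen (PrimeSpectrum.basicOpen ε : Set (PrimeSpectrum A)) :=
  PrimeSpectrum.isClopen_iff.mpr ⟨ε, hε, rfl⟩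

theorem isClopen_UU {ε : A} (hε : IsIdempotentElem ε) : IsClopen (UU A T g ε) :=
  (isClopen_mk_image (isClopen_basicOpen A hε)).preimage g.continuous

/-- the generators of the multiplicative set -/
noncomputable def sEl (ε : A) (hU : IsClopen (UU A T g ε)) : LocallyConstant T A :=
  algebraMap A (LocallyConstant T A) ε * charFn A hU +
    algebraMap A (LocallyConstant T A) (1 - ε) * charFn A hU.compl

theorem sEl_apply_mem {ε : A} (hU : IsClopen (UU A T g ε)) {t : T} (ht : t ∈ UU A T g ε) :
    sEl A T g ε hU t = ε := by
  have h' : t ∉ (UU A T g ε)ᶜ := fun hc => hc ht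
  change ε * charFn A hU t + (1 - ε) * charFn A hU.compl t = ε
  rw [charFn_apply_of_mem hU ht, charFn_apply_of_notMem hU.compl h']
  ring

theorem sEl_apply_notMem {ε : A} (hU : IsClopen (UU A T g ε)) {t : T} (ht : t ∉ UU A T g ε) :
    sEl A T g ε hU t = 1 - ε := by
  have h' : t ∈ (UU A T g ε)ᶜ := ht
  change ε * charFn A hU t + (1 - ε) * charFn A hU.compl t = 1 - ε
  rw [charFn_apply_of_notMem hU ht, charFn_apply_of_mem hU.compl h']
  ring

/-- the generating set -/
def gens : Set (LocallyConstant T A) :=
  {s | ∃ (ε : A) (_ : IsIdempotentElem ε) (hU : IsClopen (UU A T g ε)), s = sEl A T g ε hU}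

/-- the multiplicative set -/
def SS : Submonoid (LocallyConstant T A) := Submonoid.closure (gens A T g)

theorem range_eq :
    {x : PrimeSpectrum A × T | ∀ s ∈ SS A T g, s x.2 ∉ x.1.asIdeal} =
      {p | _root_.ConnectedComponents.mk p.1 = g p.2} := by
  ext ⟨x, t⟩
  simp only [Set.mem_ofPred_eq]
  constructor
  · intro H
    by_contra hne
    obtain ⟨x', hx'⟩ := ConnectedComponents.surjective_coe (g t)
    have hx : x ∉ connectedComponent x' := by
      intro hmem
      apply hne
      rw [← hx']
      exact ConnectedComponents.coe_eq_coe'.mpr hmem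
    rw [SpectralQC.connectedComponent_eq_iInter_isClopen x'] at hx
    simp only [mem_iInter, not_forall] at hx
    obtain ⟨⟨Z, hZ, hx'Z⟩, hxZ⟩ := hx
    obtain ⟨ε, hε, hZε⟩ := PrimeSpectrum.exists_idempotent_basicOpen_eq_of_isClopen hZ
    have hU := isClopen_UU A T g hε
    have ht : t ∈ UU A T g ε := by
      change g t ∈ ConnectedComponents.mk '' (PrimeSpectrum.basicOpen ε : Set (PrimeSpectrum A))
      rw [← hx', ← hZε]
      exact ⟨x', hx'Z, rfl⟩
    have hs : sEl A T g ε hU ∈ SS A T g := Submonoid.subset_closure ⟨ε, hε, hU, rfl⟩
    have := H _ hs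
    rw [sEl_apply_mem A T g hU ht] at this
    apply hxZ
    change x ∈ Z
    rw [hZε]
    exact this
  · intro H s hs
    induction hs using Submonoid.closure_induction with
    | mem s hs =>
      obtain ⟨ε, hε, hU, rfl⟩ := hs
      by_cases ht : t ∈ UU A T g ε
      · rw [sEl_apply_mem A T g hU ht]
        have h1 : g t ∈ ConnectedComponents.mk '' (PrimeSpectrum.basicOpen ε : Set (PrimeSpectrum A)) := ht
        rw [← H] at h1
        have h2 : x ∈ (ConnectedComponents.mk : PrimeSpectrum A → _) ⁻¹'
            (ConnectedComponents.mk '' (PrimeSpectrum.basicOpen ε : Set (PrimeSpectrum A))) := h1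
        rw [preimage_mk_image (isClopen_basicOpen A hε)] at h2
        exact h2
      · rw [sEl_apply_notMem A T g hU ht]
        intro hmem
        apply ht
        have hεx : ε ∉ x.asIdeal := by
          intro hε'
          have := x.asIdeal.add_mem hmem hε'
          rw [sub_add_cancel] at this
          exact x.isPrime.one_notMem this
        change g t ∈ ConnectedComponents.mk '' (PrimeSpectrum.basicOpen ε : Set (PrimeSpectrum A))
        rw [← H]
        exact ⟨x, hεx, rfl⟩
    | one => exact x.isPrime.one_notMem
    | mul a b _ _ ha hb =>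
      intro hmem
      rcases x.isPrime.mem_or_mem hmem with h | h
      exacts [ha h, hb h]

variable [CompactSpace T] [T2Space T] [TotallyDisconnectedSpace T]

theorem main :
    ∃ (B : Type u) (_ : CommRing B) (_ : Algebra A B)
      (e : _root_.ConnectedComponents (PrimeSpectrum B) ≃ₜ T),
      EtPBC.IsIndZariski A B ∧
      (∀ y : PrimeSpectrum B,
        g (e (_root_.ConnectedComponents.mk y)) =
          _root_.ConnectedComponents.mk (PrimeSpectrum.comap (algebraMap A B) y)) ∧
      Topology.IsEmbedding (fun y : PrimeSpectrum B =>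
        (PrimeSpectrum.comap (algebraMap A B) y, e (_root_.ConnectedComponents.mk y))) ∧
      Set.range (fun y : PrimeSpectrum B =>
        (PrimeSpectrum.comap (algebraMap A B) y, e (_root_.ConnectedComponents.mk y))) =
        {p : PrimeSpectrum A × T | _root_.ConnectedComponents.mk p.1 = g p.2} := by
  have hemb := isEmbedding_locMap (SS A T g)
  have hrange : Set.range (locMap (SS A T g)) =
      {p : PrimeSpectrum A × T | _root_.ConnectedComponents.mk p.1 = g p.2} :=
    (range_locMap (SS A T g)).trans (range_eq A T g)
  let h₁ : PrimeSpectrum (Localization (SS A T g)) ≃ₜ Set.range (locMap (SS A T g)) :=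
    hemb.toHomeomorph
  let h₂ : Set.range (locMap (SS A T g)) ≃ₜ
      {p : PrimeSpectrum A × T // _root_.ConnectedComponents.mk p.1 = g p.2} :=
    Homeomorph.setCongr hrange
  let h := h₁.trans h₂
  have hval : ∀ y, (h y).1 = locMap (SS A T g) y := fun y => rfl
  obtain ⟨-, e₀, he₀⟩ := Groth.Agent.S0703.result (PrimeSpectrum A) T g
  have hconn : ∀ y, _root_.IsConnected (h ⁻¹' {y}) := by
    intro y
    have : (h : _ → _) ⁻¹' {y} = {h.symm y} := by
      ext z
      simp only [mem_preimage, mem_singleton_iff]
      exact (h.toEquiv.eq_symm_apply).symm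
    rw [this]
    exact isConnected_singleton
  let e₁ := (h.isQuotientMap.isCoinducing).connectedComponentsHomeomorph hconn
  let e := e₁.trans e₀
  have he : ∀ y, e (_root_.ConnectedComponents.mk y) = (locMap (SS A T g) y).2 := by
    intro y
    change e₀ (e₁ (_root_.ConnectedComponents.mk y)) = _
    rw [Topology.IsCoinducing.connectedComponentsHomeomorph_mk, he₀, hval]
  have hfun : (fun y : PrimeSpectrum (Localization (SS A T g)) =>
      (PrimeSpectrum.comap (algebraMap A (Localization (SS A T g))) y,
        e (_root_.ConnectedComponents.mk y))) = locMap (SS A T g) := by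
    funext y
    rw [he]
    rfl
  refine ⟨Localization (SS A T g), inferInstance, inferInstance, e,
    isIndZariski_localization (SS A T g), ?_, ?_, ?_⟩
  · intro y
    rw [he]
    have := (h y).2
    rw [hval] at this
    exact this.symm
  · rw [hfun]
    exact hemb
  · rw [hfun]
    exact hrange

end

/-- Let A be a ring, X = Spec A, T a profinite space and g : T -> pi_0(X) continuous. Then there is an
ind-Zariski A-algebra B, with Y = Spec B, and a homeomorphism e : pi_0(Y) -> T over pi_0(X) such
that Y -> X x T, y |-> (image of y, e [y]) is a topological embedding with image the fibre product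
of X and T over pi_0(X); that is, the square Y -> pi_0(Y) = T, Y -> X is cartesian in topological
spaces. -/
theorem result (A : Type u) [CommRing A] (T : Type u)
    [TopologicalSpace T] [CompactSpace T] [T2Space T] [TotallyDisconnectedSpace T]
    (g : C(T, _root_.ConnectedComponents (PrimeSpectrum A))) :
    ∃ (B : Type u) (_ : CommRing B) (_ : Algebra A B) (e : _root_.ConnectedComponents (PrimeSpectrum B) ≃ₜ T),
      EtPBC.IsIndZariski A B ∧
      (∀ y : PrimeSpectrum B,
        g (e (_root_.ConnectedComponents.mk y)) = _root_.ConnectedComponents.mk (PrimeSpectrum.comap (algebraMap A B) y)) ∧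
      Topology.IsEmbedding (fun y : PrimeSpectrum B =>
        (PrimeSpectrum.comap (algebraMap A B) y, e (_root_.ConnectedComponents.mk y))) ∧
      Set.range (fun y : PrimeSpectrum B =>
        (PrimeSpectrum.comap (algebraMap A B) y, e (_root_.ConnectedComponents.mk y))) =
        {p : PrimeSpectrum A × T | _root_.ConnectedComponents.mk p.1 = g p.2} := by
  exact Groth.Agent.S0697.main A T g

end Groth.Agent.S0697
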