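import Groth.Statements.S0698
import Mathlib
import Groth.Agent.Lib.Helper2.SpectralProd
import Groth.Agent.Lib.Helper26.IndEtRec2
-- import your own Groth.Agent.* helpers here

set_option autoImplicit false
open CategoryTheory CategoryTheory.Limits AlgebraicGeometry Opposite Topology
universe u
open ProEtW

namespace Groth.Agent.S0698

section
open CategoryTheory Limits PrimeSpectrum

variable (A : Type u) [CommRing A] (Z : Set (PrimeSpectrum A))

/-- idempotents vanishing on `Z` -/
def Idem : Type u := {e : A // IsIdempotentElem e ∧ Z ⊆ zeroLocus {e}}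

variable {A Z}

instance : Preorder (Idem A Z) where
  le e e' := e.1 * e'.1 = e.1
  le_refl e := e.2.1
  le_trans a b c hab hbc := by
    show a.1 * c.1 = a.1
    have hab' : a.1 * b.1 = a.1 := hab
    have hbc' : b.1 * c.1 = b.1 := hbc
    calc a.1 * c.1 = (a.1 * b.1) * c.1 := by rw [hab']
      _ = a.1 * (b.1 * c.1) := by ring
      _ = a.1 := by rw [hbc', hab']

theorem Idem.le_def (e e' : Idem A Z) : e ≤ e' ↔ e.1 * e'.1 = e.1 := Iff.rfl

/-- the join of two idempotents -/
def Idem.sup (e e' : Idem A Z) : Idem A Z :=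
  ⟨e.1 + e'.1 - e.1 * e'.1, by
    have h1 : e.1 * e.1 = e.1 := e.2.1
    have h2 : e'.1 * e'.1 = e'.1 := e'.2.1
    refine ⟨?_, ?_⟩
    · show (e.1 + e'.1 - e.1 * e'.1) * (e.1 + e'.1 - e.1 * e'.1) = e.1 + e'.1 - e.1 * e'.1
      linear_combination (1 - 2 * e'.1 + e'.1 * e'.1) * h1 + (1 - 2 * e.1 + e.1) * h2
    · intro x hx
      have hx1 := e.2.2 hx
      have hx2 := e'.2.2 hx
      simp only [mem_zeroLocus, Set.singleton_subset_iff, SetLike.mem_coe] at hx1 hx2 ⊢
      exact sub_mem (add_mem hx1 hx2) (Ideal.mul_mem_right _ _ hx1)⟩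

theorem Idem.le_sup_left (e e' : Idem A Z) : e ≤ e.sup e' := by
  have h1 : e.1 * e.1 = e.1 := e.2.1
  show e.1 * (e.1 + e'.1 - e.1 * e'.1) = e.1
  linear_combination (1 - e'.1) * h1

theorem Idem.le_sup_right (e e' : Idem A Z) : e' ≤ e.sup e' := by
  have h2 : e'.1 * e'.1 = e'.1 := e'.2.1
  show e'.1 * (e.1 + e'.1 - e.1 * e'.1) = e'.1
  linear_combination (1 - e.1) * h2

instance : IsDirected (Idem A Z) (· ≤ ·) :=
  ⟨fun e e' => ⟨e.sup e', e.le_sup_left e', e.le_sup_right e'⟩⟩

instance : Nonempty (Idem A Z) :=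
  ⟨⟨0, IsIdempotentElem.zero, fun x _ => by simp⟩⟩

theorem Idem.span_le {e e' : Idem A Z} (h : e ≤ e') :
    Ideal.span {e.1} ≤ Ideal.span {e'.1} := by
  rw [Ideal.span_singleton_le_iff_mem, Ideal.mem_span_singleton']
  exact ⟨e.1, h⟩

variable (A Z)

/-- the ideal generated by the idempotents vanishing on `Z` -/
def J : Ideal A := Ideal.span {e : A | IsIdempotentElem e ∧ Z ⊆ zeroLocus {e}}

variable {A Z}

theorem Idem.span_le_J (e : Idem A Z) : Ideal.span {e.1} ≤ J A Z := by
  rw [Ideal.span_singleton_le_iff_mem]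
  exact Ideal.subset_span e.2

/-- every element of `J` lies in the ideal of a single idempotent -/
theorem exists_idem_of_mem_J {a : A} (ha : a ∈ J A Z) : ∃ e : Idem A Z, a ∈ Ideal.span {e.1} := by
  refine Submodule.span_induction (p := fun a _ => ∃ e : Idem A Z, a ∈ Ideal.span {e.1})
    ?_ ?_ ?_ ?_ ha
  · intro x hx
    exact ⟨⟨x, hx⟩, Ideal.subset_span rfl⟩
  · exact ⟨Classical.arbitrary _, Ideal.zero_mem _⟩
  · rintro x y _ _ ⟨e, he⟩ ⟨e', he'⟩
    exact ⟨e.sup e', add_mem (Idem.span_le (e.le_sup_left e') he)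
      (Idem.span_le (e.le_sup_right e') he')⟩
  · rintro r x _ ⟨e, he⟩
    exact ⟨e, Ideal.mul_mem_left _ _ he⟩

variable (A Z)

/-- the diagram of quotients `A/(e)` -/
noncomputable def diag : Idem A Z ⥤ Under (CommRingCat.of A) where
  obj e := Under.mk (CommRingCat.ofHom (algebraMap A (A ⧸ Ideal.span {e.1})))
  map {e e'} f := Under.homMk
    (CommRingCat.ofHom (Ideal.Quotient.factor (Idem.span_le (leOfHom f)))) (by
      ext r
      rfl)
  map_id e := by
    ext x
    obtain ⟨x, rfl⟩ := Ideal.Quotient.mk_surjective x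
    rfl
  map_comp f g := by
    ext x
    obtain ⟨x, rfl⟩ := Ideal.Quotient.mk_surjective x
    rfl

/-- the cocone with vertex `A/J` -/
noncomputable def cocone : Cocone (diag A Z) where
  pt := Under.mk (CommRingCat.ofHom (algebraMap A (A ⧸ J A Z)))
  ι :=
    { app := fun e => Under.homMk
        (CommRingCat.ofHom (Ideal.Quotient.factor (Idem.span_le_J e))) (by
          ext r
          rfl)
      naturality := by
        intro e e' f
        ext x
        obtain ⟨x, rfl⟩ := Ideal.Quotient.mk_surjective x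
        rfl }

/-- the cocone is a colimit -/
noncomputable def isColimit : IsColimit (cocone A Z) := by
  apply Groth.Agent.Helper26.IndEtRec.isColimitOfUnder
  · intro x
    obtain ⟨a, rfl⟩ := Ideal.Quotient.mk_surjective (I := J A Z) x
    exact ⟨Classical.arbitrary _, Ideal.Quotient.mk _ a, rfl⟩
  · intro e x y hxy
    obtain ⟨a, rfl⟩ := Ideal.Quotient.mk_surjective (I := Ideal.span {e.1}) x
    obtain ⟨b, rfl⟩ := Ideal.Quotient.mk_surjective (I := Ideal.span {e.1}) y
    have h1 : Ideal.Quotient.mk (J A Z) a = Ideal.Quotient.mk (J A Z) b := hxy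
    rw [Ideal.Quotient.eq] at h1
    obtain ⟨e', he'⟩ := exists_idem_of_mem_J h1
    refine ⟨e.sup e', homOfLE (e.le_sup_left e'), ?_⟩
    show Ideal.Quotient.mk (Ideal.span {(e.sup e').1}) a =
      Ideal.Quotient.mk (Ideal.span {(e.sup e').1}) b
    rw [Ideal.Quotient.eq]
    exact Idem.span_le (e.le_sup_right e') he'

theorem isIndZariski : EtPBC.IsIndZariski A (A ⧸ J A Z) := by
  refine ⟨Idem A Z, inferInstance, inferInstance, diag A Z, cocone A Z, isColimit A Z, ?_,
    ⟨Iso.refl _⟩⟩
  intro e
  have h : ((diag A Z).obj e).hom.hom.toAlgebra =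
      (inferInstance : Algebra A (A ⧸ Ideal.span {e.1})) :=
    Algebra.algebra_ext _ _ (fun r => rfl)
  rw [h]
  have hloc : IsLocalization.Away (1 - e.1) (A ⧸ Ideal.span {e.1}) := by
    apply IsLocalization.away_of_isIdempotentElem e.2.1.one_sub
    · rw [Ideal.Quotient.algebraMap_eq, Ideal.mk_ker]
      simp
    · exact Ideal.Quotient.mk_surjective
  haveI : Algebra.IsStandardOpenImmersion A (A ⧸ Ideal.span {e.1}) := ⟨1 - e.1, hloc⟩
  exact (inferInstance : Algebra.IsLocalIso A (A ⧸ Ideal.span {e.1}))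

theorem zeroLocus_J (T : Set (_root_.ConnectedComponents (PrimeSpectrum A))) (hT : IsClosed T) :
    zeroLocus (J A (_root_.ConnectedComponents.mk ⁻¹' T) : Set A) =
      _root_.ConnectedComponents.mk ⁻¹' T := by
  haveI : T2Space (_root_.ConnectedComponents (PrimeSpectrum A)) :=
    Groth.Agent.Helper2.SpectralProd.t2_connectedComponents
  apply Set.Subset.antisymm
  · intro x hx
    by_contra hxZ
    have hy : _root_.ConnectedComponents.mk x ∈ Tᶜ := hxZ
    obtain ⟨V, hV, hxV, hVT⟩ := compact_exists_isClopen_in_isOpen hT.isOpen_compl hy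
    have hW : IsClopen (_root_.ConnectedComponents.mk ⁻¹' V : Set (PrimeSpectrum A)) :=
      hV.preimage ConnectedComponents.continuous_coe
    obtain ⟨e, he, hWe⟩ := PrimeSpectrum.isClopen_iff.mp hW
    have heJ : e ∈ J A (_root_.ConnectedComponents.mk ⁻¹' T) := by
      refine Ideal.subset_span ⟨he, ?_⟩
      intro z hz
      simp only [mem_zeroLocus, Set.singleton_subset_iff, SetLike.mem_coe]
      by_contra hez
      have hzW : z ∈ (_root_.ConnectedComponents.mk ⁻¹' V : Set (PrimeSpectrum A)) := by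
        rw [hWe]
        exact hez
      exact hVT hzW hz
    have hxe : x ∈ (basicOpen e : Set (PrimeSpectrum A)) := by
      rw [← hWe]
      exact hxV
    exact hxe (hx heJ)
  · intro z hz
    rw [J, zeroLocus_span]
    intro e he
    have := he.2 hz
    simpa using this

theorem main (T : Set (_root_.ConnectedComponents (PrimeSpectrum A))) (hT : IsClosed T) :
    ∃ (B : Type u) (_ : CommRing B) (_ : Algebra A B),
      EtPBC.IsIndZariski A B ∧ Function.Surjective (algebraMap A B) ∧
      Topology.IsEmbedding (PrimeSpectrum.comap (algebraMap A B)) ∧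
      Set.range (PrimeSpectrum.comap (algebraMap A B)) = _root_.ConnectedComponents.mk ⁻¹' T := by
  refine ⟨A ⧸ J A (_root_.ConnectedComponents.mk ⁻¹' T), inferInstance, inferInstance,
    isIndZariski A _, Ideal.Quotient.mk_surjective, ?_, ?_⟩
  · exact (PrimeSpectrum.isClosedEmbedding_comap_of_surjective _ _
      Ideal.Quotient.mk_surjective).isEmbedding
  · rw [Ideal.Quotient.algebraMap_eq,
      _root_.range_comap_of_surjective _ _ Ideal.Quotient.mk_surjective, Ideal.mk_ker]
    exact zeroLocus_J A T hT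

end

/-- Let A be a ring, X = Spec A and T a closed subset of pi_0(X). Then A has an ind-Zariski quotient
ring B (the map A -> B is surjective) whose spectrum maps homeomorphically onto the preimage of T in
X. -/
theorem result (A : Type u) [CommRing A]
    (T : Set (_root_.ConnectedComponents (PrimeSpectrum A))) (hT : IsClosed T) :
    ∃ (B : Type u) (_ : CommRing B) (_ : Algebra A B),
      EtPBC.IsIndZariski A B ∧ Function.Surjective (algebraMap A B) ∧
      Topology.IsEmbedding (PrimeSpectrum.comap (algebraMap A B)) ∧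
      Set.range (PrimeSpectrum.comap (algebraMap A B)) = _root_.ConnectedComponents.mk ⁻¹' T := by
  exact Groth.Agent.S0698.main A T hT

end Groth.Agent.S0698
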