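import Groth.Statements.S0702
import Groth.Agent.Lib.Helper2.ZeroDimSpec
import Mathlib.RingTheory.Algebraic.Integral
-- import your own Groth.Agent.* helpers here

set_option autoImplicit false
open CategoryTheory CategoryTheory.Limits AlgebraicGeometry Opposite Topology
universe u
open ProEtW

namespace Groth.Agent.S0702

theorem aux (A B : Type u) [CommRing A] [CommRing B]
    [Algebra A B] [T2Space (PrimeSpectrum A)] [TotallyDisconnectedSpace (PrimeSpectrum A)]
    (h : ProEtW.AlgebraicResidueExtensions A B) :
    ProEtW.IsProfinite (PrimeSpectrum B) := by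
  have hdim : ∀ q q' : PrimeSpectrum B, q ≤ q' → q = q' := by
    intro q q' hle
    have hmax : (q.asIdeal.comap (algebraMap A B)).IsMaximal := by
      have : IsClosed ({PrimeSpectrum.comap (algebraMap A B) q} : Set (PrimeSpectrum A)) :=
        isClosed_singleton
      exact (PrimeSpectrum.isClosed_singleton_iff_isMaximal _).1 this
    have halg := h q.asIdeal
    let _ : Field (A ⧸ q.asIdeal.comap (algebraMap A B)) := Ideal.Quotient.field _
    have hf : IsField (B ⧸ q.asIdeal) := by
      have : IsDomain (B ⧸ q.asIdeal) := Ideal.Quotient.isDomain _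
      exact isField_of_isIntegral_of_isField' (R := A ⧸ q.asIdeal.comap (algebraMap A B))
        (Field.toIsField _)
    have hqmax : q.asIdeal.IsMaximal := Ideal.Quotient.maximal_of_isField _ hf
    exact PrimeSpectrum.ext (hqmax.eq_of_le q'.2.ne_top hle)
  have := Groth.Agent.Helper2.totallySeparatedSpace_of_dimZero B hdim
  exact ⟨inferInstance, inferInstance, inferInstance⟩

/-- Let Spec A be profinite and A -> B induce algebraic extensions of residue fields at all primes. Then
Spec B is profinite. -/
theorem result (A B : Type u) [CommRing A] [CommRing B]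
    [Algebra A B] [T2Space (PrimeSpectrum A)] [TotallyDisconnectedSpace (PrimeSpectrum A)]
    (h : ProEtW.AlgebraicResidueExtensions A B) :
    ProEtW.IsProfinite (PrimeSpectrum B) := by
  exact aux A B h

end Groth.Agent.S0702
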