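import Groth.Statements.S0704
import Groth.Agent.Lib.Helper2.SpectralProd
import Groth.Agent.S0703
-- import your own Groth.Agent.* helpers here

set_option autoImplicit false
open Topology
universe u
open ProEtW

namespace Groth.Agent.S0704

section
open Topology Set TopologicalSpace Groth.Agent.Helper2

theorem isClosed_singleton_iff_spec {Z : Type*} [TopologicalSpace Z] (z : Z) :
    IsClosed ({z} : Set Z) ↔ ∀ z', z ⤳ z' → z' = z := by
  constructor
  · intro h z' hz'
    have := specializes_iff_mem_closure.mp hz'
    rw [h.closure_eq] at this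
    exact this
  · intro h
    have : closure ({z} : Set Z) = {z} := by
      apply Subset.antisymm
      · intro z' hz'
        exact h z' (specializes_iff_mem_closure.mpr hz')
      · exact subset_closure
    rw [← this]
    exact isClosed_closure

theorem mk_eq_of_specializes {X : Type*} [TopologicalSpace X] {x x' : X} (h : x ⤳ x') :
    (_root_.ConnectedComponents.mk x : _root_.ConnectedComponents X) =
      _root_.ConnectedComponents.mk x' := by
  symm
  apply ConnectedComponents.coe_eq_coe'.mpr
  have hpre : IsPreconnected (closure ({x} : Set X)) := isPreconnected_singleton.closure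
  exact hpre.subset_connectedComponent (subset_closure rfl) (specializes_iff_mem_closure.mp h)

variable (X T : Type u) [TopologicalSpace X]
    [TopologicalSpace T] [CompactSpace T] [T2Space T] [TotallyDisconnectedSpace T]
    (g : C(T, _root_.ConnectedComponents X))

theorem spec_iff (y y' : {p : X × T // _root_.ConnectedComponents.mk p.1 = g p.2}) :
    y ⤳ y' ↔ y.1.1 ⤳ y'.1.1 ∧ y.1.2 = y'.1.2 := by
  rw [subtype_specializes_iff]
  obtain ⟨⟨x, t⟩, h⟩ := y
  obtain ⟨⟨x', t'⟩, h'⟩ := y'
  change (x, t) ⤳ (x', t') ↔ _
  rw [specializes_prod, specializes_iff_eq (x := t)]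

theorem closed_iff (y : {p : X × T // _root_.ConnectedComponents.mk p.1 = g p.2}) :
    IsClosed ({y} : Set _) ↔ IsClosed ({y.1.1} : Set X) := by
  rw [isClosed_singleton_iff_spec, isClosed_singleton_iff_spec]
  constructor
  · intro h x' hx'
    have hmem : _root_.ConnectedComponents.mk x' = g y.1.2 := by
      rw [← mk_eq_of_specializes hx']
      exact y.2
    have := h ⟨(x', y.1.2), hmem⟩ ((spec_iff X T g _ _).mpr ⟨hx', rfl⟩)
    exact congrArg (fun z : {p : X × T // _root_.ConnectedComponents.mk p.1 = g p.2} => z.1.1) this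
  · intro h y' hy'
    obtain ⟨h1, h2⟩ := (spec_iff X T g _ _).mp hy'
    apply Subtype.ext
    apply Prod.ext
    · exact h _ h1
    · exact h2.symm

theorem main (hX : ProEtW.IsWLocal X) :
    ProEtW.IsWLocal {p : X × T // _root_.ConnectedComponents.mk p.1 = g p.2} ∧
      ProEtW.IsWLocalMap (fun y : {p : X × T // _root_.ConnectedComponents.mk p.1 = g p.2} => y.1.1) ∧
      ProEtW.closedPoints {p : X × T // _root_.ConnectedComponents.mk p.1 = g p.2} =
        (fun y : {p : X × T // _root_.ConnectedComponents.mk p.1 = g p.2} => y.1.1) ⁻¹' ProEtW.closedPoints X := by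
  obtain ⟨hsp, hcl, huniq⟩ := hX
  haveI := hsp
  have hYsp := (Groth.Agent.S0703.main X T g).1
  have hcont : Continuous (fun y : {p : X × T // _root_.ConnectedComponents.mk p.1 = g p.2} => y.1.1) :=
    continuous_fst.comp continuous_subtype_val
  have hpts : ProEtW.closedPoints {p : X × T // _root_.ConnectedComponents.mk p.1 = g p.2} =
      (fun y : {p : X × T // _root_.ConnectedComponents.mk p.1 = g p.2} => y.1.1) ⁻¹' ProEtW.closedPoints X := by
    ext y
    exact closed_iff X T g y
  refine ⟨⟨hYsp, ?_, ?_⟩, ⟨⟨hcont, ?_⟩, ?_⟩, hpts⟩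
  · -- closed points form a closed set
    have : {y : {p : X × T // _root_.ConnectedComponents.mk p.1 = g p.2} | IsClosed ({y} : Set _)} =
        (fun y : {p : X × T // _root_.ConnectedComponents.mk p.1 = g p.2} => y.1.1) ⁻¹'
          {x : X | IsClosed ({x} : Set X)} := hpts
    rw [this]
    exact hcl.preimage hcont
  · -- unique closed specialization
    intro y
    obtain ⟨x', ⟨hx'cl, hx'sp⟩, hx'uniq⟩ := huniq y.1.1
    have hmem : _root_.ConnectedComponents.mk x' = g y.1.2 := by
      rw [← mk_eq_of_specializes hx'sp]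
      exact y.2
    refine ⟨⟨(x', y.1.2), hmem⟩, ⟨?_, ?_⟩, ?_⟩
    · exact (closed_iff X T g _).mpr hx'cl
    · exact (spec_iff X T g _ _).mpr ⟨hx'sp, rfl⟩
    · rintro y'' ⟨h1, h2⟩
      obtain ⟨h3, h4⟩ := (spec_iff X T g _ _).mp h2
      have h5 := hx'uniq y''.1.1 ⟨(closed_iff X T g _).mp h1, h3⟩
      apply Subtype.ext
      apply Prod.ext
      · exact h5
      · exact h4.symm
  · -- spectral map
    intro U hUo hUc
    have hcl' : IsClosed {p : X × T | _root_.ConnectedComponents.mk p.1 = g p.2} :=
      Groth.Agent.S0703.isClosed_fib X T g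
    have h1 : IsCompact ((U ×ˢ (Set.univ : Set T)) ∩ {p : X × T | _root_.ConnectedComponents.mk p.1 = g p.2}) :=
      (hUc.prod isCompact_univ).inter_right hcl'
    have h2 : (fun y : {p : X × T // _root_.ConnectedComponents.mk p.1 = g p.2} => y.1.1) ⁻¹' U =
        Subtype.val ⁻¹' ((U ×ˢ (Set.univ : Set T)) ∩ {p : X × T | _root_.ConnectedComponents.mk p.1 = g p.2}) := by
      ext y
      simp only [Set.mem_preimage, Set.mem_inter_iff, Set.mem_prod, Set.mem_univ, and_true,
        Set.mem_ofPred_eq]
      exact ⟨fun h => ⟨h, y.2⟩, fun h => h.1⟩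
    rw [h2]
    exact hcl'.isClosedEmbedding_subtypeVal.isCompact_preimage h1
  · intro y hy
    exact (closed_iff X T g y).mp hy
end

/-- With X, T, g and the fibre product Y of X and T over pi_0(X) as in the first part, if X is moreover
w-local then Y is w-local, the projection Y -> X is w-local, and the closed points of Y are exactly
the points mapping to closed points of X. -/
theorem result (X T : Type u) [TopologicalSpace X]
    [TopologicalSpace T] [CompactSpace T] [T2Space T] [TotallyDisconnectedSpace T]
    (hX : ProEtW.IsWLocal X) (g : C(T, _root_.ConnectedComponents X)) :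
    ProEtW.IsWLocal {p : X × T // _root_.ConnectedComponents.mk p.1 = g p.2} ∧
      ProEtW.IsWLocalMap (fun y : {p : X × T // _root_.ConnectedComponents.mk p.1 = g p.2} => y.1.1) ∧
      ProEtW.closedPoints {p : X × T // _root_.ConnectedComponents.mk p.1 = g p.2} =
        (fun y : {p : X × T // _root_.ConnectedComponents.mk p.1 = g p.2} => y.1.1) ⁻¹' ProEtW.closedPoints X := by
  exact Groth.Agent.S0704.main X T g hX

end Groth.Agent.S0704
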