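import Groth.Statements.S0706
-- import your own Groth.Agent.* helpers here

set_option autoImplicit false
open CategoryTheory CategoryTheory.Limits AlgebraicGeometry Opposite Topology
universe u
open ProEtW

namespace Groth.Agent.S0706

def S0 (A : Type u) [CommRing A] (f : A) (I : Ideal A) : Submonoid A where
  carrier := {a | ∃ (n : ℕ) (i : A), i ∈ I ∧ a = f ^ n + i}
  one_mem' := ⟨0, 0, I.zero_mem, by simp⟩
  mul_mem' := by
    rintro a b ⟨n, i, hi, rfl⟩ ⟨m, j, hj, rfl⟩
    refine ⟨n + m, f ^ n * j + i * f ^ m + i * j, ?_, by ring⟩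
    exact I.add_mem (I.add_mem (I.mul_mem_left _ hj) (I.mul_mem_right _ hi)) (I.mul_mem_left _ hj)

theorem aux (A : Type u) [CommRing A] (f : A) (I : Ideal A) :
    ∃ S : Submonoid A,
      Set.range (PrimeSpectrum.comap (algebraMap A (Localization S))) =
        {x | ∃ z : PrimeSpectrum A,
          z ∈ (PrimeSpectrum.basicOpen f : Set (PrimeSpectrum A)) ∩ PrimeSpectrum.zeroLocus I ∧ x ⤳ z} := by
  refine ⟨S0 A f I, ?_⟩
  rw [PrimeSpectrum.localization_comap_range (Localization (S0 A f I)) (S0 A f I)]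
  ext x
  simp only [Set.mem_ofPred_eq]
  constructor
  · intro hd
    have hf : f ∉ (x.asIdeal ⊔ I).radical := by
      rintro ⟨n, hn⟩
      obtain ⟨a, ha, i, hi, hai⟩ := Submodule.mem_sup.1 hn
      have hmem : a ∈ (S0 A f I : Set A) := ⟨n, -i, I.neg_mem hi, by rw [← hai]; ring⟩
      exact Set.disjoint_left.1 hd hmem ha
    rw [Ideal.radical_eq_sInf, Submodule.mem_sInf] at hf
    push Not at hf
    obtain ⟨z, ⟨hz1, hz2⟩, hfz⟩ := hf
    refine ⟨⟨z, hz2⟩, ⟨?_, ?_⟩, ?_⟩
    · exact hfz
    · intro i hi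
      exact hz1 (Ideal.mem_sup_right hi)
    · rw [← PrimeSpectrum.le_iff_specializes]
      intro a ha
      exact hz1 (Ideal.mem_sup_left ha)
  · rintro ⟨z, ⟨hz1, hz2⟩, hxz⟩
    rw [← PrimeSpectrum.le_iff_specializes] at hxz
    rw [Set.disjoint_left]
    rintro a ⟨n, i, hi, rfl⟩ ha
    have h1 : f ^ n + i ∈ z.asIdeal := hxz ha
    have h2 : i ∈ z.asIdeal := hz2 hi
    have h3 : f ^ n ∈ z.asIdeal := by
      have := z.asIdeal.sub_mem h1 h2
      simpa using this
    exact hz1 (z.2.mem_of_pow_mem _ h3)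

/-- Let f be an element and I an ideal of A, and Z the intersection of D(f) and V(I) in Spec A. There is
a multiplicative subset S of A for which the image of Spec(S^{-1}A) in Spec A consists precisely of
the points having a specialization in Z. -/
theorem result (A : Type u) [CommRing A] (f : A) (I : Ideal A) :
    ∃ S : Submonoid A,
      Set.range (PrimeSpectrum.comap (algebraMap A (Localization S))) =
        {x | ∃ z : PrimeSpectrum A,
          z ∈ (PrimeSpectrum.basicOpen f : Set (PrimeSpectrum A)) ∩ PrimeSpectrum.zeroLocus I ∧ x ⤳ z} := by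
  exact aux A f I

end Groth.Agent.S0706
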