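import Groth.Statements.S0707
import Mathlib
import Groth.Agent.Lib.Helper2.WEt1
-- import your own Groth.Agent.* helpers here

set_option autoImplicit false
open CategoryTheory CategoryTheory.Limits AlgebraicGeometry Opposite Topology
universe u
open ProEtW

namespace Groth.Agent.S0707

section
open PrimeSpectrum Groth.Agent.Helper2

/-- the product of the localizations away from the elements of `E` -/
abbrev Cfam (A : Type u) [CommRing A] (E : Finset A) : Type u :=
  ∀ i : E, Localization.Away (i : A)

theorem main (A B : Type u) [CommRing A] [CommRing B]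
    [Algebra A B] (S : Submonoid A) [IsLocalization S B] (E : Finset A)
    (hB : Set.range (PrimeSpectrum.comap (algebraMap A B)) =
      {x | ∃ z : PrimeSpectrum A, z ∈ PrimeSpectrum.zeroLocus (R := A) E ∧ x ⤳ z})
    (hA : EtPBC.IsWContractible A) : EtPBC.IsWContractible B := by
  classical
  intro B' _ _ hff hwe
  letI : Algebra A B' := ((algebraMap B B').comp (algebraMap A B)).toAlgebra
  haveI : IsScalarTower A B B' := IsScalarTower.of_algebraMap_eq (fun _ => rfl)
  haveI : Algebra.WeaklyEtale A B := WEt.weaklyEtale_of_isLocalization S B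
  haveI : Algebra.WeaklyEtale A B' := Algebra.WeaklyEtale.trans A B B'
  haveI : Algebra.Etale A (Cfam A E) := inferInstance
  haveI : Algebra.WeaklyEtale A (Cfam A E) := inferInstance
  haveI : Algebra.WeaklyEtale A (B' × Cfam A E) := WEt.weaklyEtale_prod B' (Cfam A E)
  have hsurj : Function.Surjective (PrimeSpectrum.comap (algebraMap A (B' × Cfam A E))) := by
    intro p
    by_cases hp : p ∈ Set.range (PrimeSpectrum.comap (algebraMap A B))
    · obtain ⟨q, rfl⟩ := hp
      obtain ⟨q', rfl⟩ := PrimeSpectrum.comap_surjective_of_faithfullyFlat (A := B) (B := B') q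
      refine ⟨PrimeSpectrum.comap (RingHom.fst B' (Cfam A E)) q', ?_⟩
      apply PrimeSpectrum.ext
      show Ideal.comap (algebraMap A (B' × Cfam A E)) (Ideal.comap (RingHom.fst B' (Cfam A E)) q'.asIdeal) =
        Ideal.comap (algebraMap A B) (Ideal.comap (algebraMap B B') q'.asIdeal)
      rw [Ideal.comap_comap, Ideal.comap_comap]
      rfl
    · have hpZ : p ∉ zeroLocus (E : Set A) := fun h =>
        hp (by rw [hB]; exact ⟨p, h, specializes_rfl⟩)
      rw [mem_zeroLocus, Set.not_subset] at hpZ
      obtain ⟨i, hiE, hip⟩ := hpZ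
      have hdisj : Disjoint (Submonoid.powers i : Set A) (p.asIdeal : Set A) :=
        (Ideal.disjoint_powers_iff_notMem i p.isPrime.isRadical).mpr hip
      have hprime : (p.asIdeal.map (algebraMap A (Localization.Away i))).IsPrime :=
        IsLocalization.isPrime_of_isPrime_disjoint (Submonoid.powers i) _ _ p.isPrime hdisj
      have hcomap : (p.asIdeal.map (algebraMap A (Localization.Away i))).comap
          (algebraMap A (Localization.Away i)) = p.asIdeal :=
        IsLocalization.under_map_of_isPrime_disjoint (Submonoid.powers i) _ p.isPrime hdisj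
      let ev : (B' × Cfam A E) →+* Localization.Away i :=
        (Pi.evalRingHom (fun j : E => Localization.Away (j : A)) ⟨i, hiE⟩).comp (RingHom.snd B' (Cfam A E))
      refine ⟨PrimeSpectrum.comap ev ⟨_, hprime⟩, ?_⟩
      apply PrimeSpectrum.ext
      show Ideal.comap (algebraMap A (B' × Cfam A E)) (Ideal.comap ev _) = p.asIdeal
      rw [Ideal.comap_comap]
      have : ev.comp (algebraMap A (B' × Cfam A E)) = algebraMap A (Localization.Away i) := rfl
      rw [this]
      exact hcomap
  have hAff' : Module.FaithfullyFlat A (B' × Cfam A E) := Module.FaithfullyFlat.of_comap_surjective hsurj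
  obtain ⟨r⟩ := hA (B' × Cfam A E) hAff' inferInstance
  let ρ : (B' × Cfam A E) →ₐ[A] B := (Algebra.ofId A B).comp r
  -- the idempotents of the second factor
  let δ : E → (B' × Cfam A E) := fun i => (0, Pi.single i 1)
  have hδidem : ∀ i, IsIdempotentElem (δ i) := by
    intro i
    show δ i * δ i = δ i
    ext
    · simp [δ]
    · simp [δ, ← Pi.single_mul_left]
  have hδ0 : ∀ i, ρ (δ i) = 0 := by
    intro i
    by_contra hne
    have hidem : IsIdempotentElem (ρ (δ i)) := (hδidem i).map ρ
    obtain ⟨q, hq, -, hεq⟩ := Ideal.exists_le_prime_notMem_of_isIdempotentElem (⊥ : Ideal B)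
      (ρ (δ i)) hidem (by simpa using hne)
    have h1 : PrimeSpectrum.comap (algebraMap A B) ⟨q, hq⟩ ∈
        Set.range (PrimeSpectrum.comap (algebraMap A B)) := ⟨_, rfl⟩
    rw [hB] at h1
    obtain ⟨z, hz, hspec⟩ := h1
    have hzr : z ∈ Set.range (PrimeSpectrum.comap (algebraMap A B)) := by
      rw [hB]
      exact ⟨z, hz, specializes_rfl⟩
    obtain ⟨q', rfl⟩ := hzr
    have hle : (PrimeSpectrum.comap (algebraMap A B) ⟨q, hq⟩).asIdeal ≤
        (PrimeSpectrum.comap (algebraMap A B) q').asIdeal :=
      (PrimeSpectrum.le_iff_specializes _ _).mpr hspec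
    have hqq' : q ≤ q'.asIdeal := by
      rw [← IsLocalization.map_under S B q, ← IsLocalization.map_under S B q'.asIdeal]
      exact Ideal.map_mono hle
    -- `ρ (δ i) ∉ q'`
    have hεq' : ρ (δ i) ∉ q'.asIdeal := by
      intro hmem
      have h2 : ρ (δ i) * (1 - ρ (δ i)) = 0 := by
        rw [mul_sub, mul_one, hidem.eq, sub_self]
      have h3 : ρ (δ i) * (1 - ρ (δ i)) ∈ q := by
        rw [h2]
        exact zero_mem _
      have h4 : 1 - ρ (δ i) ∈ q := (hq.mem_or_mem h3).resolve_left hεq
      apply q'.isPrime.ne_top
      rw [Ideal.eq_top_iff_one]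
      have : (1 : B) = ρ (δ i) + (1 - ρ (δ i)) := by ring
      rw [this]
      exact Ideal.add_mem _ hmem (hqq' h4)
    -- but `ρ (δ i)` is a multiple of `i`
    apply hεq'
    have hiz : (i : A) ∈ (PrimeSpectrum.comap (algebraMap A B) q').asIdeal := hz i.2
    have hiq' : algebraMap A B (i : A) ∈ q'.asIdeal := hiz
    let w : (B' × Cfam A E) := (0, Pi.single i (IsLocalization.Away.invSelf (i : A)))
    have hw : δ i = (i : A) • w := by
      ext
      · simp [δ, w]
      · rename_i j
        by_cases hj : j = i
        · subst hj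
          simp [δ, w, Algebra.smul_def]
        · simp [δ, w, Pi.single_apply, hj]
    rw [hw, map_smul, Algebra.smul_def]
    exact Ideal.mul_mem_right _ _ hiq'
  have hone : ρ ((1, 0) : (B' × Cfam A E)) = 1 := by
    have h1 : ((1, 0) : (B' × Cfam A E)) = 1 - ∑ i, δ i := by
      rw [eq_sub_iff_add_eq]
      ext
      · simp [δ, Prod.fst_sum]
      · rename_i j
        simp [δ, Prod.snd_sum, Finset.sum_apply, Pi.single_apply]
    rw [h1, map_sub, map_one, map_sum]
    simp [hδ0]
  let σ : B' →+* B :=
    { toFun := fun b' => ρ ((b', 0) : (B' × Cfam A E))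
      map_one' := hone
      map_mul' := fun x y => by
        rw [← map_mul]
        congr 1
        ext <;> simp
      map_zero' := by
        show ρ ((0, 0) : (B' × Cfam A E)) = 0
        exact map_zero ρ
      map_add' := fun x y => by
        rw [← map_add]
        congr 1
        ext <;> simp }
  have hσ : σ.comp (algebraMap B B') = RingHom.id B := by
    apply IsLocalization.ringHom_ext S
    ext a
    show ρ ((algebraMap B B' (algebraMap A B a), 0) : (B' × Cfam A E)) = algebraMap A B a
    have h2 : ((algebraMap B B' (algebraMap A B a), 0) : (B' × Cfam A E)) = a • ((1, 0) : (B' × Cfam A E)) := by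
      ext
      · simp [Algebra.smul_def]
        rfl
      · simp
    rw [h2, map_smul, hone, Algebra.smul_def, mul_one]
  exact ⟨{ σ with commutes' := fun b => RingHom.congr_fun hσ b }⟩

end

/-- Let A be w-contractible, E a finite set of elements of A with zero set Z in Spec A, and B a
localization of A at a multiplicative subset S such that the image of Spec B → Spec A is precisely
the set of points of Spec A specializing to some point of Z. Then B is w-contractible. -/
theorem result (A B : Type u) [CommRing A] [CommRing B]
    [Algebra A B] (S : Submonoid A) [IsLocalization S B] (E : Finset A)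
    (hB : Set.range (PrimeSpectrum.comap (algebraMap A B)) =
      {x | ∃ z : PrimeSpectrum A, z ∈ PrimeSpectrum.zeroLocus (R := A) E ∧ x ⤳ z})
    (hA : EtPBC.IsWContractible A) : EtPBC.IsWContractible B := by
  exact Groth.Agent.S0707.main A B S E hB hA

end Groth.Agent.S0707
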