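import Groth.Statements.S0717
import Mathlib
import Groth.Agent.Lib.Helper2.EpsU9
-- import your own Groth.Agent.* helpers here

set_option autoImplicit false
open CategoryTheory CategoryTheory.Limits AlgebraicGeometry Opposite
universe u
open ProEtS

namespace Groth.Agent.S0717

section

open CategoryTheory CategoryTheory.Limits AlgebraicGeometry Opposite Topology

set_option backward.isDefEq.respectTransparency.types false in
theorem main (X : Scheme.{u}) [ProEtS.EpsCont X] (F : EtCoh.Ab X) :
    IsIso ((ProEtS.epsAdj X).unit.app F) := by
  haveI : IsFiltered (CostructuredArrow (ProEtS.eps X).op (op (ProEtS.topP X))) := inferInstance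
  haveI : ∀ Z : X.ProEtᵒᵖ, IsFiltered (CostructuredArrow (ProEtS.eps X).op Z) := fun Z => inferInstance
  haveI : (ProEtS.eps X).op.HasPointwiseLeftKanExtension F.obj := inferInstance
  haveI : PreservesFilteredColimitsOfSize.{u, u + 1} (forget AddCommGrpCat.{u + 1}) :=
    preservesFilteredColimitsOfSize_shrink.{u + 1, u + 1, u, u + 1} _
  haveI : ∀ Z : X.ProEtᵒᵖ, PreservesColimit (CostructuredArrow.proj (ProEtS.eps X).op Z ⋙ F.obj)
      (forget AddCommGrpCat.{u + 1}) := fun Z => inferInstance
  exact Groth.Agent.Helper2.EpsU.eps_unit_isIso AddCommGrpCat.{u + 1} F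

end

/-- Pulling an abelian sheaf F on X_et back to X_proet and restricting it again to X_et gives back F:
the unit of the adjunction between eps^{-1} and eps_* is an isomorphism at F (continuity of X_et ->
X_proet assumed as a binder). -/
theorem result (X : Scheme.{u}) [ProEtS.EpsCont X] (F : EtCoh.Ab X) :
    IsIso ((ProEtS.epsAdj X).unit.app F) := by
  exact Groth.Agent.S0717.main X F

end Groth.Agent.S0717
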