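import Groth.Statements.S0722
import Mathlib
import Groth.Agent.S0757
import Groth.Agent.Lib.Helper2.CILift4
-- import your own Groth.Agent.* helpers here

set_option autoImplicit false
open CategoryTheory CategoryTheory.Limits AlgebraicGeometry Opposite
universe u
open ProEtS

namespace Groth.Agent.S0722

section

open CategoryTheory CategoryTheory.Limits AlgebraicGeometry Opposite Topology

set_option backward.isDefEq.respectTransparency.types false in
theorem affine_cover_proet {X : Scheme.{u}} (U : X.ProEt) :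
    ∃ R : Presieve U, Sieve.generate R ∈ Scheme.ProEt.topology X U ∧
      ∀ ⦃V : X.ProEt⦄ (f : V ⟶ U), R f → IsAffine V.left := by
  let 𝒰 := U.left.affineCover
  let V : 𝒰.I₀ → X.ProEt := fun i => Scheme.ProEt.mk (𝒰.f i ≫ U.hom)
  let f : ∀ i, V i ⟶ U := fun i => MorphismProperty.Over.homMk (𝒰.f i) rfl
  refine ⟨Presieve.ofArrows V f, ?_, ?_⟩
  · apply Precoverage.generate_mem_toGrothendieck
    change (Presieve.ofArrows V f).map (Scheme.ProEt.forget X ⋙ Over.forget X) ∈
      Scheme.proetalePrecoverage _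
    rw [Presieve.map_ofArrows]
    exact Scheme.zariskiPrecoverage_le_propQCPrecoverage _ 𝒰.mem₀
  · rintro _ _ ⟨i⟩
    change IsAffine (𝒰.X i)
    infer_instance

set_option backward.isDefEq.respectTransparency.types false in
theorem subsingleton_of_isEmpty {Z : Scheme.{u}} (G : ProEtS.AbP Z) (E : Z.ProEt)
    [IsEmpty E.left] : Subsingleton (G.obj.obj (op E)) := by
  have hQ : Presieve.IsSheaf (Scheme.ProEt.topology Z) (G.obj ⋙ forget AddCommGrpCat.{u + 1}) :=
    (isSheaf_iff_isSheaf_of_type _ _).1
      ((sheafCompose (Scheme.ProEt.topology Z) (forget AddCommGrpCat.{u + 1})).obj G).2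
  refine ⟨fun a b => ?_⟩
  refine (hQ.isSeparated _ (Scheme.ProEt.bot_mem_topology E)).ext ?_
  intro W f hf
  exact hf.elim

set_option backward.isDefEq.respectTransparency.types false in
theorem push_locSurj {Z X : Scheme.{u}} (i : Z ⟶ X) [IsClosedImmersion i]
    (hr : IsRetrocompact (Set.range i.base)ᶜ) [ProEtS.PCont i] {F G : ProEtS.AbP Z} (φ : F ⟶ G)
    [Sheaf.IsLocallySurjective φ] :
    Sheaf.IsLocallySurjective ((ProEtS.pushP i).map φ) := by
  constructor
  intro V s
  obtain ⟨R₀, hR₀, hR₀aff⟩ := affine_cover_proet V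
  refine (Scheme.ProEt.topology X).transitive hR₀ _ ?_
  intro V' f' hf'
  obtain ⟨V₀, g, f₀, hf₀, rfl⟩ := hf'
  haveI : IsAffine V₀.left := hR₀aff f₀ hf₀
  rw [Sieve.pullback_comp]
  apply (Scheme.ProEt.topology X).pullback_stable
  -- the restricted section
  let s₀ : G.obj.obj (op ((ProEtS.bcP i).obj V₀)) := G.obj.map ((ProEtS.bcP i).map f₀).op s
  have hS := Presheaf.imageSieve_mem (Scheme.ProEt.topology Z) φ.hom s₀
  obtain ⟨R, hR, hRprop⟩ := Groth.Agent.Helper2.CILift.exists_cover_lift i hr V₀ _ hS
  refine (Scheme.ProEt.topology X).superset_covering ?_ hR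
  rw [Sieve.generate_le_iff]
  intro W w hw
  rcases hRprop w hw with h1 | h2
  · obtain ⟨t, ht⟩ := h1
    refine ⟨t, ?_⟩
    refine ht.trans ?_
    change G.obj.map ((ProEtS.bcP i).map w).op (G.obj.map ((ProEtS.bcP i).map f₀).op s) =
      G.obj.map ((ProEtS.bcP i).map (w ≫ f₀)).op s
    rw [Functor.map_comp, op_comp, Functor.map_comp, ConcreteCategory.comp_apply]
  · haveI := h2
    have hsub := subsingleton_of_isEmpty G ((ProEtS.bcP i).obj W)
    exact ⟨0, @Subsingleton.elim _ hsub _ _⟩

set_option backward.isDefEq.respectTransparency.types false in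
theorem main {Z X : Scheme.{u}} (i : Z ⟶ X)
    [IsClosedImmersion i] (hr : IsRetrocompact (Set.range i.base)ᶜ) [ProEtS.PCont i] :
    PreservesFiniteLimits (ProEtS.pushP i) ∧ PreservesFiniteColimits (ProEtS.pushP i) := by
  haveI : (ProEtS.pushP i).IsRightAdjoint := (ProEtS.pullPushAdjP i).isRightAdjoint
  have hlim : PreservesFiniteLimits (ProEtS.pushP i) := inferInstance
  refine ⟨hlim, ?_⟩
  apply ((Functor.preservesFiniteColimits_tfae (ProEtS.pushP i)).out 0 3).mp
  intro S hS
  have h30 := ((Functor.preservesFiniteLimits_tfae (ProEtS.pushP i)).out 3 0).mp hlim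
  refine ⟨(h30 S hS).1, ?_⟩
  haveI := hS.epi_g
  haveI : Sheaf.IsLocallySurjective S.g :=
    (Sheaf.isLocallySurjective_iff_epi' (φ := S.g)).mpr inferInstance
  haveI := push_locSurj i hr S.g
  infer_instance

end

/-- Let i : Z -> X be a closed immersion such that the complement of i(Z) is a retrocompact open subset
of X. Then i_{proet,*} on abelian sheaves is exact (continuity of base change assumed as a binder). -/
theorem result {Z X : Scheme.{u}} (i : Z ⟶ X)
    [IsClosedImmersion i] (hr : IsRetrocompact (Set.range i.base)ᶜ) [ProEtS.PCont i] :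
    PreservesFiniteLimits (ProEtS.pushP i) ∧ PreservesFiniteColimits (ProEtS.pushP i) := by
  exact Groth.Agent.S0722.main i hr

end Groth.Agent.S0722
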