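import Groth.Statements.S7285
import Mathlib
import Groth.Agent.S0725
import Groth.Agent.S0730
import Groth.Agent.Lib.Helper2.LanProd
import Groth.Agent.Lib.Helper2.WCov5
-- import your own Groth.Agent.* helpers here

set_option autoImplicit false
open CategoryTheory CategoryTheory.Limits AlgebraicGeometry Opposite
universe u
open ProEtS

namespace Groth.Agent.S7285

section

open CategoryTheory CategoryTheory.Limits AlgebraicGeometry Opposite Topology

set_option backward.isDefEq.respectTransparency.types false in
instance flat_bcP {X Y : Scheme.{u}} (f : X ⟶ Y) : RepresentablyFlat (ProEtS.bcP f) := by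
  haveI : PreservesFiniteLimits (ProEtS.bcP f) := Groth.Agent.S0730.preservesFiniteLimits_bcP f
  exact flat_of_preservesFiniteLimits _

set_option backward.isDefEq.respectTransparency.types false in
theorem main {X Y : Scheme.{u}} (f : X ⟶ Y) [ProEtS.PCont f]
    (F : Sheaf (Scheme.ProEt.topology Y) (Type (u + 1))) (W : X.ProEt) [IsAffine W.left]
    (hW : ProEtS.IsWC W) :
    Function.Bijective
      ((toSheafify (Scheme.ProEt.topology X) ((ProEtS.bcP f).op.lan.obj F.obj)).app (op W)) := by
  apply Groth.Agent.S0725.toSheafify_bijective_of_refinement
  intro R hR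
  obtain ⟨n, W', -, h2, h3, h4⟩ := Groth.Agent.S0757.fwd W (Groth.Agent.S0715.bwd W hW) R hR
  refine ⟨Fin n, fun k => Scheme.ProEt.mk ((W' k).ι ≫ W.hom),
    fun k => MorphismProperty.Over.homMk (W' k).ι, h4, Groth.Agent.S0725.cover_mem' W W' h3, ?_⟩
  let E : Functor.LeftExtension (ProEtS.bcP f).op F.obj :=
    Functor.LeftExtension.mk _ ((ProEtS.bcP f).op.lanUnit.app F.obj)
  have hE : E.IsPointwiseLeftKanExtension :=
    Functor.isPointwiseLeftKanExtensionOfIsLeftKanExtension _ _
  exact Groth.Agent.Helper2.LanProd.existsUnique_of_pointwise (ProEtS.bcP f) hE
    (fun V => Groth.Agent.Helper2.WCov.exists_weak_coproduct V F) _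
    (Groth.Agent.Helper2.WCov.isColimitCofanOfDisjointCover W W' h2 h3)

end

/-- Let f be a morphism of schemes from X to Y and F a sheaf of sets on the small pro-etale site of Y.
For an affine weakly contractible object W of the small pro-etale site of X, the value at W of the
pullback of F along f is the colimit of the values F(V) over morphisms from W to the base change of
V, V ranging over the pro-etale site of Y; equivalently, the left Kan extension presheaf of F along
base change has the same sections over W as its sheafification. (Continuity of base change between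
the small pro-etale sites is carried as a binder.) -/
theorem result {X Y : Scheme.{u}} (f : X ⟶ Y) [ProEtS.PCont f]
    (F : Sheaf (Scheme.ProEt.topology Y) (Type (u + 1))) (W : X.ProEt) [IsAffine W.left]
    (hW : ProEtS.IsWC W) :
    Function.Bijective
      ((toSheafify (Scheme.ProEt.topology X) ((ProEtS.bcP f).op.lan.obj F.obj)).app (op W)) := by
  exact Groth.Agent.S7285.main f F W hW

end Groth.Agent.S7285
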