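import Groth.Statements.S0741
import Mathlib
import Groth.Agent.S7285
import Groth.Agent.S0714
import Groth.Agent.Lib.Helper2.Counit1
import Groth.Agent.Lib.Helper2.CILift6
-- import your own Groth.Agent.* helpers here

set_option autoImplicit false
open CategoryTheory CategoryTheory.Limits AlgebraicGeometry Opposite
universe u
open ProEtS

namespace Groth.Agent.S0741

section

open CategoryTheory CategoryTheory.Limits AlgebraicGeometry Opposite Topology

theorem generate_ofArrows_comp_mem {C : Type*} [Category C] (J : GrothendieckTopology C)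
    {ι : Type*} {U : C} (Y : ι → C) (b : ∀ k, Y k ⟶ U)
    (hb : Sieve.generate (Presieve.ofArrows Y b) ∈ J U)
    (V : ι → C) (a : ∀ k, V k ⟶ Y k)
    (ha : ∀ k, Sieve.generate (Presieve.singleton (a k)) ∈ J (Y k)) :
    Sieve.generate (Presieve.ofArrows V (fun k => a k ≫ b k)) ∈ J U := by
  refine J.transitive hb _ ?_
  intro Z f hf
  obtain ⟨W, h, b', hb', rfl⟩ := hf
  obtain ⟨k⟩ := hb'
  refine J.superset_covering ?_ (J.pullback_stable h (ha k))
  intro Z' m hm
  obtain ⟨W', n, a', ha', hna⟩ := hm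
  obtain ⟨⟩ := ha'
  exact ⟨_, n, a k ≫ b k, Presieve.ofArrows.mk k,
    by rw [← Category.assoc n, hna, Category.assoc]⟩

set_option backward.isDefEq.respectTransparency.types false in
theorem singleton_mem' {X : Scheme.{u}} {V U : X.ProEt} (g : V ⟶ U)
    [Surjective g.left] [QuasiCompact g.left] :
    Sieve.generate (Presieve.singleton g) ∈ Scheme.ProEt.topology X U := by
  haveI : WeaklyEtale g.left := by
    have h1 : WeaklyEtale (g.left ≫ U.hom) := by
      rw [MorphismProperty.Over.w g]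
      infer_instance
    exact WeaklyEtale.of_comp g.left U.hom
  apply Precoverage.generate_mem_toGrothendieck
  change (Presieve.singleton g).map (Scheme.ProEt.forget X ⋙ Over.forget X) ∈
    Scheme.proetalePrecoverage _
  rw [Presieve.map_singleton]
  exact Scheme.Hom.singleton_mem_propQCPrecoverage (f := g.left) ‹_›

set_option backward.isDefEq.respectTransparency.types false in
set_option backward.isDefEq.respectTransparency false in
theorem geo {Z X : Scheme.{u}} (i : Z ⟶ X) [IsClosedImmersion i] (T : Z.ProEt) (V : X.ProEt)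
    (t : T ⟶ (ProEtS.bcP i).obj V) :
    ∃ S ∈ Scheme.ProEt.topology Z T, ∀ ⦃T' : Z.ProEt⦄ (f : T' ⟶ T), S f →
      ∃ (W : X.ProEt) (w : W ⟶ V) (h : T' ⟶ (ProEtS.bcP i).obj W)
        (r : (ProEtS.bcP i).obj W ⟶ T), h ≫ r = f ∧ r ≫ t = (ProEtS.bcP i).map w := by
  let 𝒰 : V.left.OpenCover := V.left.affineCover
  let q : T.left ⟶ V.left := t.left ≫ pullback.fst V.hom i
  have hq : q ≫ V.hom = T.hom ≫ i := by
    have h1 : t.left ≫ pullback.snd V.hom i = T.hom := MorphismProperty.Over.w t
    have hc := pullback.condition (f := V.hom) (g := i)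
    calc q ≫ V.hom = t.left ≫ (pullback.fst V.hom i ≫ V.hom) := Category.assoc _ _ _
      _ = t.left ≫ (pullback.snd V.hom i ≫ i) := congrArg (fun z => t.left ≫ z) hc
      _ = (t.left ≫ pullback.snd V.hom i) ≫ i := (Category.assoc _ _ _).symm
      _ = T.hom ≫ i := congrArg (fun z => z ≫ i) h1
  let 𝒬 : T.left.OpenCover := 𝒰.pullback₁ q
  let 𝒯 : T.left.OpenCover := 𝒬.bind (fun a => (𝒬.X a).affineCover)
  let Tk : 𝒯.I₀ → Z.ProEt := fun k => Scheme.ProEt.mk (𝒯.f k ≫ T.hom)
  let ιk : ∀ k, Tk k ⟶ T := fun k => MorphismProperty.Over.homMk (𝒯.f k) rfl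
  have hcov : Sieve.generate (Presieve.ofArrows Tk ιk) ∈ Scheme.ProEt.topology Z T :=
    Groth.Agent.S0714.openCover_mem T 𝒯
  let Vk : 𝒯.I₀ → X.ProEt := fun k => Scheme.ProEt.mk (𝒰.f k.1 ≫ V.hom)
  let vk : ∀ k, Vk k ⟶ V := fun k => MorphismProperty.Over.homMk (𝒰.f k.1) rfl
  haveI : ∀ k, IsAffine (Vk k).left := fun k => by
    change IsAffine (𝒰.X k.1)
    infer_instance
  haveI : ∀ k, IsAffine (Tk k).left := fun k => by
    change IsAffine (((𝒬.X k.1).affineCover).X k.2)
    infer_instance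
  let αk : ∀ k, (Tk k).left ⟶ (Vk k).left := fun k =>
    ((𝒬.X k.1).affineCover).f k.2 ≫ pullback.snd q (𝒰.f k.1)
  have hα : ∀ k, αk k ≫ 𝒰.f k.1 = 𝒯.f k ≫ q := by
    intro k
    change (((𝒬.X k.1).affineCover).f k.2 ≫ pullback.snd q (𝒰.f k.1)) ≫ 𝒰.f k.1 =
      (((𝒬.X k.1).affineCover).f k.2 ≫ pullback.fst q (𝒰.f k.1)) ≫ q
    rw [Category.assoc, Category.assoc, pullback.condition]
  have hlift : ∀ k, αk k ≫ (Vk k).hom = (𝒯.f k ≫ T.hom) ≫ i := by
    intro k
    change αk k ≫ (𝒰.f k.1 ≫ V.hom) = _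
    rw [← Category.assoc, hα, Category.assoc, hq, Category.assoc]
  let tkl : ∀ k, (Tk k).left ⟶ pullback (Vk k).hom i := fun k =>
    pullback.lift (αk k) (𝒯.f k ≫ T.hom) (hlift k)
  let tk : ∀ k, Tk k ⟶ (ProEtS.bcP i).obj (Vk k) := fun k =>
    MorphismProperty.Over.homMk (tkl k) (pullback.lift_snd _ _ _)
  have hbw1 : ∀ k, ((ProEtS.bcP i).map (vk k)).left ≫ pullback.fst V.hom i =
      pullback.fst (Vk k).hom i ≫ 𝒰.f k.1 := by
    intro k
    dsimp [ProEtS.bcP]
    exact pullback.lift_fst _ _ _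
  have hbw2 : ∀ k, ((ProEtS.bcP i).map (vk k)).left ≫ pullback.snd V.hom i =
      pullback.snd (Vk k).hom i := by
    intro k
    dsimp [ProEtS.bcP]
    exact pullback.lift_snd _ _ _
  have compat : ∀ k, tk k ≫ (ProEtS.bcP i).map (vk k) = ιk k ≫ t := by
    intro k
    apply MorphismProperty.Over.Hom.ext
    change tkl k ≫ ((ProEtS.bcP i).map (vk k)).left = 𝒯.f k ≫ t.left
    apply pullback.hom_ext
    · rw [Category.assoc, hbw1 k, ← Category.assoc, pullback.lift_fst, hα k, Category.assoc]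
    · rw [Category.assoc, hbw2 k, pullback.lift_snd, Category.assoc]
      congr 1
      exact (MorphismProperty.Over.w t).symm
  have key := fun k => Groth.Agent.Helper2.CILift.exists_lift_proet' i (Vk k) (Tk k) (tk k)
  choose W w h hWaff hh hsurj _ using key
  haveI := hWaff
  have hmem : ∀ k, Sieve.generate (Presieve.singleton (h k)) ∈ Scheme.ProEt.topology Z (Tk k) := by
    intro k
    haveI : Surjective (h k).left := ⟨hsurj k⟩
    haveI : IsAffine ((ProEtS.bcP i).obj (W k)).left := by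
      change IsAffine (pullback (W k).hom i)
      haveI : IsAffine (W k).left := hWaff k
      exact (IsClosedImmersion.isAffine_surjective_of_isAffine
        (Y := (W k).left) (pullback.fst (W k).hom i)).1
    haveI : QuasiCompact (h k).left := inferInstance
    exact singleton_mem' (h k)
  refine ⟨Sieve.generate (Presieve.ofArrows (fun k => (ProEtS.bcP i).obj (W k))
    (fun k => h k ≫ ιk k)), generate_ofArrows_comp_mem _ Tk ιk hcov _ h hmem, ?_⟩
  intro T' f hf
  obtain ⟨Y, m, r, hr, rfl⟩ := hf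
  obtain ⟨k⟩ := hr
  refine ⟨W k, w k ≫ vk k, m, h k ≫ ιk k, rfl, ?_⟩
  rw [Category.assoc, ← compat k, ← Category.assoc, hh k, Functor.map_comp]

set_option backward.isDefEq.respectTransparency.types false in
theorem main {Z X : Scheme.{u}} (i : Z ⟶ X) [IsClosedImmersion i]
    [ProEtS.PCont i] (F : ProEtS.AbP Z) :
    IsIso ((ProEtS.pullPushAdjP i).counit.app F) := by
  haveI : RepresentablyFlat (ProEtS.bcP i) := Groth.Agent.S7285.flat_bcP i
  haveI : ∀ T : Z.ProEtᵒᵖ, IsFiltered (CostructuredArrow (ProEtS.bcP i).op T) :=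
    fun T => inferInstance
  haveI : (ProEtS.bcP i).op.HasPointwiseLeftKanExtension ((ProEtS.bcP i).op ⋙ F.obj) :=
    inferInstance
  haveI : PreservesFilteredColimitsOfSize.{u, u + 1} (forget AddCommGrpCat.{u + 1}) :=
    preservesFilteredColimitsOfSize_shrink.{u + 1, u + 1, u, u + 1} _
  haveI : ∀ T : Z.ProEtᵒᵖ, PreservesColimit
      (CostructuredArrow.proj (ProEtS.bcP i).op T ⋙ ((ProEtS.bcP i).op ⋙ F.obj))
      (forget AddCommGrpCat.{u + 1}) := fun T => inferInstance
  apply Groth.Agent.Helper2.CounitC.isIso_counit_app (ProEtS.bcP i) (Scheme.ProEt.topology X)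
    (Scheme.ProEt.topology Z) AddCommGrpCat.{u + 1} F
  · -- local surjectivity
    intro T g
    let t₀ : T ⟶ (ProEtS.bcP i).obj (ProEtS.topP X) :=
      MorphismProperty.Over.homMk (pullback.lift (T.hom ≫ i) T.hom
        (by rw [Category.assoc]; congr 1))
        (pullback.lift_snd _ _ _)
    obtain ⟨S, hS, hS'⟩ := geo i T (ProEtS.topP X) t₀
    refine ⟨S, hS, fun T' f hf => ?_⟩
    obtain ⟨W, w, h, r, hhr, -⟩ := hS' f hf
    refine ⟨W, h, F.obj.map r.op g, ?_⟩
    rw [← hhr, op_comp, Functor.map_comp, ConcreteCategory.comp_apply]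
  · -- local injectivity
    intro T V t s s' hss'
    obtain ⟨S, hS, hS'⟩ := geo i T V t
    refine ⟨S, hS, fun T' f hf => ?_⟩
    obtain ⟨W, w, h, r, hhr, hrt⟩ := hS' f hf
    refine ⟨W, w, h, ?_, ?_⟩
    · rw [← hrt, ← Category.assoc, hhr]
    · rw [← hrt, op_comp, Functor.map_comp, ConcreteCategory.comp_apply,
        ConcreteCategory.comp_apply, hss']

end

/-- For a closed immersion i : Z -> X the counit i^{-1} i_* F -> F is an isomorphism for every abelian
pro-etale sheaf F on Z; equivalently i_* is fully faithful (continuity of base change assumed as a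
binder). -/
theorem result {Z X : Scheme.{u}} (i : Z ⟶ X) [IsClosedImmersion i]
    [ProEtS.PCont i] (F : ProEtS.AbP Z) :
    IsIso ((ProEtS.pullPushAdjP i).counit.app F) := by
  exact Groth.Agent.S0741.main i F

end Groth.Agent.S0741
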