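import Groth.Statements.S0726
import Mathlib
import Groth.Agent.S7285
import Groth.Agent.S0714
import Groth.Agent.S0722
import Groth.Agent.S0741
import Groth.Agent.Lib.Helper2.Counit1
import Groth.Agent.Lib.Helper2.Counit2
import Groth.Agent.Lib.Helper2.CILift7
import Groth.Agent.Lib.Helper2.ExtZ1
import Groth.Agent.Lib.Helper2.ExtZ3
import Groth.Agent.Lib.Helper2.ShLoc1
import Groth.Agent.Lib.Helper2.EpsU3
-- import your own Groth.Agent.* helpers here

set_option autoImplicit false
open CategoryTheory CategoryTheory.Limits AlgebraicGeometry Opposite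
universe u
open ProEtS

namespace Groth.Agent.S0726

section

open CategoryTheory CategoryTheory.Limits AlgebraicGeometry Opposite Topology

instance compP_faithful {U X : Scheme.{u}} (j : U ⟶ X) [WeaklyEtale j] :
    (ProEtS.compP j).Faithful where
  map_injective {A B} f g h := by
    apply MorphismProperty.Over.Hom.ext
    exact congrArg (fun m => m.left) h

set_option backward.isDefEq.respectTransparency.types false in
instance compP_full {U X : Scheme.{u}} (j : U ⟶ X) [WeaklyEtale j] [Mono j] :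
    (ProEtS.compP j).Full where
  map_surjective {A B} f := by
    have hw : f.left ≫ (B.hom ≫ j) = A.hom ≫ j := MorphismProperty.Over.w f
    have hw' : f.left ≫ B.hom = A.hom := by
      rw [← cancel_mono j, Category.assoc]
      exact hw
    refine ⟨MorphismProperty.Over.homMk f.left hw', ?_⟩
    apply MorphismProperty.Over.Hom.ext
    rfl

set_option backward.isDefEq.respectTransparency.types false in
theorem dichotomy {U X : Scheme.{u}} (j : U ⟶ X) [WeaklyEtale j] (V : X.ProEt) :
    (∀ W' : U.ProEt, IsEmpty (V ⟶ (ProEtS.compP j).obj W')) ∨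
      ∃ V₀ : U.ProEt, Nonempty (V ≅ (ProEtS.compP j).obj V₀) := by
  by_cases h : ∃ W' : U.ProEt, Nonempty (V ⟶ (ProEtS.compP j).obj W')
  · right
    obtain ⟨W', ⟨t⟩⟩ := h
    have hw : t.left ≫ (W'.hom ≫ j) = V.hom := MorphismProperty.Over.w t
    haveI : WeaklyEtale (t.left ≫ W'.hom) := by
      have h1 : WeaklyEtale ((t.left ≫ W'.hom) ≫ j) := by
        rw [Category.assoc, hw]
        infer_instance
      exact WeaklyEtale.of_comp _ j
    let V₀ : U.ProEt := Scheme.ProEt.mk (t.left ≫ W'.hom)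
    refine ⟨V₀, ⟨?_⟩⟩
    refine ⟨MorphismProperty.Over.homMk (𝟙 _) ?_, MorphismProperty.Over.homMk (𝟙 _) ?_, ?_, ?_⟩
    · change 𝟙 _ ≫ ((t.left ≫ W'.hom) ≫ j) = V.hom
      rw [Category.id_comp, Category.assoc, hw]
    · change 𝟙 _ ≫ V.hom = (t.left ≫ W'.hom) ≫ j
      rw [Category.id_comp, Category.assoc, hw]
    · apply MorphismProperty.Over.Hom.ext
      exact Category.id_comp _
    · apply MorphismProperty.Over.Hom.ext
      exact Category.id_comp _
  · left
    intro W'
    exact ⟨fun t => h ⟨W', ⟨t⟩⟩⟩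

set_option backward.isDefEq.respectTransparency.types false in
theorem isEmpty_bcP_of_hom {X Z U : Scheme.{u}} (i : Z ⟶ X) (j : U ⟶ X) [WeaklyEtale j]
    (hc : Set.range j.base = (Set.range i.base)ᶜ) (V : X.ProEt) (V₀ : U.ProEt)
    (t : V ⟶ (ProEtS.compP j).obj V₀) : IsEmpty ((ProEtS.bcP i).obj V).left := by
  change IsEmpty ↥(pullback V.hom i)
  refine ⟨fun z => ?_⟩
  have hw : t.left ≫ (V₀.hom ≫ j) = V.hom := MorphismProperty.Over.w t
  have hcond := pullback.condition (f := V.hom) (g := i)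
  have h1 : V.hom.base ((pullback.fst V.hom i).base z) =
      i.base ((pullback.snd V.hom i).base z) :=
    congrArg (fun m => m.base z) hcond
  have h2 : V.hom.base ((pullback.fst V.hom i).base z) ∈ Set.range j.base := by
    have h3 : V.hom.base ((pullback.fst V.hom i).base z) =
        (t.left ≫ (V₀.hom ≫ j)).base ((pullback.fst V.hom i).base z) :=
      congrArg (fun m => m.base ((pullback.fst V.hom i).base z)) hw.symm
    rw [h3]
    exact ⟨(t.left ≫ V₀.hom).base ((pullback.fst V.hom i).base z), rfl⟩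
  rw [hc] at h2
  exact h2 ⟨_, h1.symm⟩

set_option backward.isDefEq.respectTransparency.types false in
theorem exists_iso_compP {X Z U : Scheme.{u}} (i : Z ⟶ X) (j : U ⟶ X) [IsOpenImmersion j]
    (hc : Set.range j.base = (Set.range i.base)ᶜ) (W : X.ProEt)
    (hW : IsEmpty ((ProEtS.bcP i).obj W).left) :
    ∃ W₀ : U.ProEt, Nonempty (W ≅ (ProEtS.compP j).obj W₀) := by
  have hrange : Set.range W.hom.base ⊆ Set.range j.base := by
    rintro _ ⟨w, rfl⟩
    rw [hc]
    rintro ⟨ζ, hζ⟩
    obtain ⟨z, -, -⟩ := Scheme.Pullback.exists_preimage_pullback (f := W.hom) (g := i) w ζ hζ.symm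
    exact hW.false z
  let v : W.left ⟶ U := IsOpenImmersion.lift j W.hom hrange
  have hv : v ≫ j = W.hom := IsOpenImmersion.lift_fac _ _ _
  haveI : WeaklyEtale v := by
    have h1 : WeaklyEtale (v ≫ j) := by
      rw [hv]
      infer_instance
    exact WeaklyEtale.of_comp v j
  let W₀ : U.ProEt := Scheme.ProEt.mk v
  have t : W ⟶ (ProEtS.compP j).obj W₀ := MorphismProperty.Over.homMk (𝟙 _) (by
    change 𝟙 _ ≫ (v ≫ j) = W.hom
    rw [Category.id_comp, hv])
  rcases dichotomy j W with h | h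
  · exact ((h W₀).false t).elim
  · exact h

set_option backward.isDefEq.respectTransparency.types false in
theorem lanCounit_bijective_or {X U : Scheme.{u}} (j : U ⟶ X) [IsOpenImmersion j]
    (F : ProEtS.AbP X) (V : X.ProEt) :
    (Subsingleton (ToType (((ProEtS.compP j).op.lan.obj ((ProEtS.compP j).op ⋙ F.obj)).obj (op V))) ∧
      ∀ W' : U.ProEt, IsEmpty (V ⟶ (ProEtS.compP j).obj W')) ∨
    (Function.Bijective ((((ProEtS.compP j).op.lanAdjunction AddCommGrpCat.{u + 1}).counit.app
      F.obj).app (op V)) ∧ ∃ V₀ : U.ProEt, Nonempty (V ≅ (ProEtS.compP j).obj V₀)) := by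
  haveI : (ProEtS.compP j).op.HasPointwiseLeftKanExtension ((ProEtS.compP j).op ⋙ F.obj) :=
    inferInstance
  rcases dichotomy j V with h | ⟨V₀, ⟨e⟩⟩
  · left
    exact ⟨AddCommGrpCat.subsingleton_of_isZero
      (Groth.Agent.Helper2.ExtZ.isZero_lan_of_isEmpty (ProEtS.compP j)
        ((ProEtS.compP j).op ⋙ F.obj) V h), h⟩
  · right
    haveI := Groth.Agent.Helper2.ExtZ.isIso_lanCounit_app (ProEtS.compP j) F.obj e
    exact ⟨(ConcreteCategory.isIso_iff_bijective _).mp this, V₀, ⟨e⟩⟩

set_option backward.isDefEq.respectTransparency.types false in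
theorem mono_counit_c {X U : Scheme.{u}} (j : U ⟶ X) [IsOpenImmersion j] [ProEtS.JPCont j]
    (F : ProEtS.AbP X) :
    Mono ((Functor.sheafPullbackConstruction.sheafAdjunctionContinuous (ProEtS.compP j)
      AddCommGrpCat.{u + 1} (Scheme.ProEt.topology U) (Scheme.ProEt.topology X)).counit.app F) := by
  have hfac := Groth.Agent.Helper2.CounitC.counit_hom (ProEtS.compP j)
    (Scheme.ProEt.topology U) (Scheme.ProEt.topology X) AddCommGrpCat.{u + 1} F
  have h1 := Presheaf.comp_isLocallyInjective_iff (Scheme.ProEt.topology X)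
    (toSheafify (Scheme.ProEt.topology X)
      ((ProEtS.compP j).op.lan.obj ((ProEtS.compP j).op ⋙ F.obj)))
    ((Functor.sheafPullbackConstruction.sheafAdjunctionContinuous (ProEtS.compP j)
      AddCommGrpCat.{u + 1} (Scheme.ProEt.topology U) (Scheme.ProEt.topology X)).counit.app F).hom
  rw [hfac] at h1
  haveI : Sheaf.IsLocallyInjective
      ((Functor.sheafPullbackConstruction.sheafAdjunctionContinuous (ProEtS.compP j)
      AddCommGrpCat.{u + 1} (Scheme.ProEt.topology U) (Scheme.ProEt.topology X)).counit.app F) := by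
    apply h1.mp
    apply Presheaf.isLocallyInjective_of_injective
    rintro ⟨V⟩
    rcases lanCounit_bijective_or j F V with ⟨h, -⟩ | ⟨h, -⟩
    · haveI := h
      exact Function.injective_of_subsingleton _
    · exact h.1
  exact Sheaf.mono_of_isLocallyInjective _

set_option backward.isDefEq.respectTransparency.types false in
theorem comp_zero_c {X Z U : Scheme.{u}} (i : Z ⟶ X) (j : U ⟶ X) [IsOpenImmersion j]
    (hc : Set.range j.base = (Set.range i.base)ᶜ) [ProEtS.JPCont j] [ProEtS.PCont i]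
    (F : ProEtS.AbP X) :
    (Functor.sheafPullbackConstruction.sheafAdjunctionContinuous (ProEtS.compP j)
      AddCommGrpCat.{u + 1} (Scheme.ProEt.topology U) (Scheme.ProEt.topology X)).counit.app F ≫
    (Functor.sheafPullbackConstruction.sheafAdjunctionContinuous (ProEtS.bcP i)
      AddCommGrpCat.{u + 1} (Scheme.ProEt.topology X) (Scheme.ProEt.topology Z)).unit.app F = 0 := by
  have hfac := Groth.Agent.Helper2.CounitC.counit_hom (ProEtS.compP j)
    (Scheme.ProEt.topology U) (Scheme.ProEt.topology X) AddCommGrpCat.{u + 1} F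
  let Gi : ProEtS.AbP Z := (Functor.sheafPullbackConstruction.sheafPullback (ProEtS.bcP i)
      AddCommGrpCat.{u + 1} (Scheme.ProEt.topology X) (Scheme.ProEt.topology Z)).obj F
  let bc := (Functor.sheafPullbackConstruction.sheafAdjunctionContinuous (ProEtS.bcP i)
      AddCommGrpCat.{u + 1} (Scheme.ProEt.topology X) (Scheme.ProEt.topology Z)).unit.app F
  apply Sheaf.hom_ext
  refine sheafify_hom_ext _ _ _ ((ProEtS.pushP i).obj Gi).2 ?_
  change toSheafify _ _ ≫ (_ ≫ bc.hom) = toSheafify _ _ ≫ 0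
  rw [← Category.assoc]
  erw [hfac]
  rw [comp_zero]
  ext V x
  rcases lanCounit_bijective_or j F V.unop with ⟨h, -⟩ | ⟨-, V₀, ⟨e⟩⟩
  · have hx : x = 0 := h.elim _ _
    rw [hx, map_zero, map_zero]
  · haveI : IsEmpty ((ProEtS.bcP i).obj V.unop).left := isEmpty_bcP_of_hom i j hc V.unop V₀ e.hom
    haveI : Subsingleton (Gi.obj.obj (op ((ProEtS.bcP i).obj V.unop))) :=
      Groth.Agent.S0722.subsingleton_of_isEmpty Gi _
    exact Subsingleton.elim (α := Gi.obj.obj (op ((ProEtS.bcP i).obj V.unop))) _ _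

theorem isRetrocompact_compl {X Z U : Scheme.{u}} (i : Z ⟶ X) (j : U ⟶ X) [QuasiCompact j]
    (hc : Set.range j.base = (Set.range i.base)ᶜ) : IsRetrocompact (Set.range i.base)ᶜ := by
  rw [← hc]
  intro K hKc hKo
  have h1 := QuasiCompact.isCompact_preimage (f := j) K hKo hKc
  rw [Set.inter_comm, ← Set.image_preimage_eq_inter_range]
  exact h1.image j.continuous

set_option backward.isDefEq.respectTransparency.types false in
theorem exact_c {X Z U : Scheme.{u}} (i : Z ⟶ X) [IsClosedImmersion i] (j : U ⟶ X)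
    [IsOpenImmersion j] [QuasiCompact j]
    (hc : Set.range j.base = (Set.range i.base)ᶜ) [ProEtS.JPCont j] [ProEtS.PCont i]
    (F : ProEtS.AbP X) (V : X.ProEt) (y : F.obj.obj (op V))
    (hy : ((Functor.sheafPullbackConstruction.sheafAdjunctionContinuous (ProEtS.bcP i)
      AddCommGrpCat.{u + 1} (Scheme.ProEt.topology X) (Scheme.ProEt.topology Z)).unit.app
        F).hom.app (op V) y = 0) :
    ∃ R ∈ Scheme.ProEt.topology X V, ∀ ⦃W' : X.ProEt⦄ (k : W' ⟶ V), R k →
      ∃ x : ((Functor.sheafPullbackConstruction.sheafPullback (ProEtS.compP j)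
          AddCommGrpCat.{u + 1} (Scheme.ProEt.topology U) (Scheme.ProEt.topology X)).obj
          ((ProEtS.restrP j).obj F)).obj.obj (op W'),
        ((Functor.sheafPullbackConstruction.sheafAdjunctionContinuous (ProEtS.compP j)
          AddCommGrpCat.{u + 1} (Scheme.ProEt.topology U) (Scheme.ProEt.topology X)).counit.app
            F).hom.app (op W') x = F.obj.map k.op y := by
  have hr := isRetrocompact_compl i j hc
  haveI : RepresentablyFlat (ProEtS.bcP i) := Groth.Agent.S7285.flat_bcP i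
  haveI : ∀ T : Z.ProEtᵒᵖ, IsFiltered (CostructuredArrow (ProEtS.bcP i).op T) :=
    fun T => inferInstance
  haveI : (ProEtS.bcP i).op.HasPointwiseLeftKanExtension F.obj := inferInstance
  haveI : PreservesFilteredColimitsOfSize.{u, u + 1} (forget AddCommGrpCat.{u + 1}) :=
    preservesFilteredColimitsOfSize_shrink.{u + 1, u + 1, u, u + 1} _
  haveI : ∀ T : Z.ProEtᵒᵖ, PreservesColimit
      (CostructuredArrow.proj (ProEtS.bcP i).op T ⋙ F.obj)
      (forget AddCommGrpCat.{u + 1}) := fun T => inferInstance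
  let ac := (Functor.sheafPullbackConstruction.sheafAdjunctionContinuous (ProEtS.compP j)
          AddCommGrpCat.{u + 1} (Scheme.ProEt.topology U) (Scheme.ProEt.topology X)).counit.app F
  let bc := (Functor.sheafPullbackConstruction.sheafAdjunctionContinuous (ProEtS.bcP i)
      AddCommGrpCat.{u + 1} (Scheme.ProEt.topology X) (Scheme.ProEt.topology Z)).unit.app F
  have hfac := Groth.Agent.Helper2.CounitC.counit_hom (ProEtS.compP j)
    (Scheme.ProEt.topology U) (Scheme.ProEt.topology X) AddCommGrpCat.{u + 1} F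
  let Q : Sieve V :=
    { arrows := fun W' k => ∃ x, ac.hom.app (op W') x = F.obj.map k.op y
      downward_closed := by
        rintro W₁ W₂ k ⟨x, hx⟩ g
        refine ⟨_, (NatTrans.naturality_apply ac.hom g.op x).trans ?_⟩
        rw [hx, op_comp, Functor.map_comp, ConcreteCategory.comp_apply]
        rfl }
  refine ⟨Q, ?_, fun W' k hk => hk⟩
  obtain ⟨R₀, hR₀, hR₀aff⟩ := Groth.Agent.S0722.affine_cover_proet V
  refine (Scheme.ProEt.topology X).transitive hR₀ _ ?_
  intro V' f' hf'
  obtain ⟨V₁, g, f₁, hf₁, rfl⟩ := hf'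
  haveI : IsAffine V₁.left := hR₀aff f₁ hf₁
  rw [Sieve.pullback_comp]
  apply (Scheme.ProEt.topology X).pullback_stable
  let y₁ : F.obj.obj (op V₁) := F.obj.map f₁.op y
  have hy₁ : bc.hom.app (op V₁) y₁ = bc.hom.app (op V₁) 0 := by
    rw [map_zero]
    refine (NatTrans.naturality_apply bc.hom f₁.op y).trans ?_
    rw [hy, map_zero]
  obtain ⟨S, hS, hSprop⟩ := Groth.Agent.Helper2.CounitC.unit_eq_locally (ProEtS.bcP i)
    (Scheme.ProEt.topology X) (Scheme.ProEt.topology Z) AddCommGrpCat.{u + 1} F V₁ y₁ 0 hy₁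
  obtain ⟨R, hR, hRprop⟩ := Groth.Agent.Helper2.CILift.exists_cover_of_family i hr V₁ S hS
    (fun W w => F.obj.map w.op y₁ = 0) (by
      intro T t ht
      obtain ⟨W, w, h, hh, hw⟩ := hSprop t ht
      refine ⟨W, w, h, ?_, hh⟩
      rw [hw, map_zero])
  refine (Scheme.ProEt.topology X).superset_covering ?_ hR
  rw [Sieve.generate_le_iff]
  intro W' g hg
  change ∃ x, ac.hom.app (op W') x = F.obj.map (g ≫ f₁).op y
  have hsplit : F.obj.map (g ≫ f₁).op y = F.obj.map g.op y₁ := by
    rw [op_comp, Functor.map_comp, ConcreteCategory.comp_apply]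
  rw [hsplit]
  rcases hRprop g hg with ⟨W, w, k, hPw, rfl⟩ | hempty
  · refine ⟨0, ?_⟩
    rw [map_zero, op_comp, Functor.map_comp, ConcreteCategory.comp_apply, hPw, map_zero]
  · obtain ⟨W₀, ⟨e⟩⟩ := exists_iso_compP i j hc W' hempty
    haveI : (ProEtS.compP j).op.HasPointwiseLeftKanExtension ((ProEtS.compP j).op ⋙ F.obj) :=
      inferInstance
    haveI := Groth.Agent.Helper2.ExtZ.isIso_lanCounit_app (ProEtS.compP j) F.obj e
    obtain ⟨x₀, hx₀⟩ := ((ConcreteCategory.isIso_iff_bijective _).mp this).2 (F.obj.map g.op y₁)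
    refine ⟨(toSheafify (Scheme.ProEt.topology X)
      ((ProEtS.compP j).op.lan.obj ((ProEtS.compP j).op ⋙ F.obj))).app (op W') x₀, ?_⟩
    rw [← hx₀, ← hfac]
    rfl

set_option backward.isDefEq.respectTransparency.types false in
theorem locSurj_c {X Z U : Scheme.{u}} (i : Z ⟶ X) [IsClosedImmersion i] (j : U ⟶ X)
    [IsOpenImmersion j] [QuasiCompact j]
    (hc : Set.range j.base = (Set.range i.base)ᶜ) [ProEtS.PCont i]
    (F : ProEtS.AbP X) :
    Sheaf.IsLocallySurjective
      ((Functor.sheafPullbackConstruction.sheafAdjunctionContinuous (ProEtS.bcP i)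
      AddCommGrpCat.{u + 1} (Scheme.ProEt.topology X) (Scheme.ProEt.topology Z)).unit.app F) := by
  have hr := isRetrocompact_compl i j hc
  haveI : RepresentablyFlat (ProEtS.bcP i) := Groth.Agent.S7285.flat_bcP i
  haveI : ∀ T : Z.ProEtᵒᵖ, IsFiltered (CostructuredArrow (ProEtS.bcP i).op T) :=
    fun T => inferInstance
  haveI : (ProEtS.bcP i).op.HasPointwiseLeftKanExtension F.obj := inferInstance
  haveI : PreservesFilteredColimitsOfSize.{u, u + 1} (forget AddCommGrpCat.{u + 1}) :=
    preservesFilteredColimitsOfSize_shrink.{u + 1, u + 1, u, u + 1} _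
  haveI : ∀ T : Z.ProEtᵒᵖ, PreservesColimit
      (CostructuredArrow.proj (ProEtS.bcP i).op T ⋙ F.obj)
      (forget AddCommGrpCat.{u + 1}) := fun T => inferInstance
  let Gi : ProEtS.AbP Z := (Functor.sheafPullbackConstruction.sheafPullback (ProEtS.bcP i)
      AddCommGrpCat.{u + 1} (Scheme.ProEt.topology X) (Scheme.ProEt.topology Z)).obj F
  let G' : X.ProEtᵒᵖ ⥤ AddCommGrpCat.{u + 1} := (ProEtS.bcP i).op ⋙ Gi.obj
  let bc := (Functor.sheafPullbackConstruction.sheafAdjunctionContinuous (ProEtS.bcP i)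
      AddCommGrpCat.{u + 1} (Scheme.ProEt.topology X) (Scheme.ProEt.topology Z)).unit.app F
  have hbc : ∀ {W₁ W₂ : X.ProEt} (w : W₂ ⟶ W₁) (y : F.obj.obj (op W₁)),
      bc.hom.app (op W₂) (F.obj.map w.op y) = G'.map w.op (bc.hom.app (op W₁) y) :=
    fun w y => NatTrans.naturality_apply bc.hom w.op y
  have hG' : ∀ {W₁ W₂ W₃ : X.ProEt} (a : W₃ ⟶ W₂) (b : W₂ ⟶ W₁) (x : G'.obj (op W₁)),
      G'.map (a ≫ b).op x = G'.map a.op (G'.map b.op x) := by
    intro W₁ W₂ W₃ a b x
    rw [op_comp, Functor.map_comp, ConcreteCategory.comp_apply]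
  constructor
  intro V z
  obtain ⟨R₀, hR₀, hR₀aff⟩ := Groth.Agent.S0722.affine_cover_proet V
  refine (Scheme.ProEt.topology X).transitive hR₀ _ ?_
  intro V' f' hf'
  obtain ⟨V₁, g, f₁, hf₁, rfl⟩ := hf'
  haveI : IsAffine V₁.left := hR₀aff f₁ hf₁
  rw [Sieve.pullback_comp]
  apply (Scheme.ProEt.topology X).pullback_stable
  let z₁ : G'.obj (op V₁) := G'.map f₁.op z
  obtain ⟨S₁, hS₁, hS₁prop⟩ := Groth.Agent.Helper2.CounitC.unit_locally_surj (ProEtS.bcP i)
    (Scheme.ProEt.topology X) (Scheme.ProEt.topology Z) AddCommGrpCat.{u + 1} F V₁ z₁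
  let S : Sieve ((ProEtS.bcP i).obj V₁) :=
    { arrows := fun T t => ∃ (W : X.ProEt) (w : W ⟶ V₁) (h : T ⟶ (ProEtS.bcP i).obj W),
        (∃ y : F.obj.obj (op W), bc.hom.app (op W) y = G'.map w.op z₁) ∧
          h ≫ (ProEtS.bcP i).map w = t
      downward_closed := by
        rintro T₁ T₂ t ⟨W, w, h, hP, rfl⟩ g
        exact ⟨W, w, g ≫ h, hP, Category.assoc _ _ _⟩ }
  have hS : S ∈ Scheme.ProEt.topology Z ((ProEtS.bcP i).obj V₁) := by
    refine (Scheme.ProEt.topology Z).transitive hS₁ _ ?_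
    intro T t ht
    obtain ⟨W₁, w₁, h₁, s₁, hh₁, hz⟩ := hS₁prop t ht
    obtain ⟨S₂, hS₂, hS₂prop⟩ := Groth.Agent.S0741.geo i T W₁ h₁
    refine (Scheme.ProEt.topology Z).superset_covering ?_ hS₂
    intro T' f hf
    obtain ⟨W, w, h, r, hhr, hrh⟩ := hS₂prop f hf
    have e1 : (ProEtS.bcP i).map (w ≫ w₁) = r ≫ t := by
      rw [Functor.map_comp, ← hrh, Category.assoc, hh₁]
    refine ⟨W, w ≫ w₁, h, ⟨F.obj.map w.op s₁, ?_⟩, ?_⟩
    · rw [hbc, hG']
      change Gi.obj.map ((ProEtS.bcP i).map w).op _ = Gi.obj.map ((ProEtS.bcP i).map w).op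
        (Gi.obj.map ((ProEtS.bcP i).map w₁).op z₁)
      have e2 : Gi.obj.map ((ProEtS.bcP i).map w).op (Gi.obj.map ((ProEtS.bcP i).map w₁).op z₁) =
          Gi.obj.map (r ≫ t).op z₁ := by
        rw [← e1, Functor.map_comp, op_comp, Functor.map_comp, ConcreteCategory.comp_apply]
      rw [e2, op_comp, Functor.map_comp, ConcreteCategory.comp_apply, hz,
        ← ConcreteCategory.comp_apply, ← Functor.map_comp, ← op_comp, hrh]
    · rw [e1, ← Category.assoc, hhr]
  obtain ⟨R, hR, hRprop⟩ := Groth.Agent.Helper2.CILift.exists_cover_of_family i hr V₁ S hS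
    (fun W w => ∃ y : F.obj.obj (op W), bc.hom.app (op W) y = G'.map w.op z₁)
    (fun T t ht => ht)
  refine (Scheme.ProEt.topology X).superset_covering ?_ hR
  rw [Sieve.generate_le_iff]
  intro W' g hg
  change ∃ y : F.obj.obj (op W'), bc.hom.app (op W') y = G'.map (g ≫ f₁).op z
  rw [hG']
  rcases hRprop g hg with ⟨W, w, k, ⟨y, hy⟩, rfl⟩ | hempty
  · refine ⟨F.obj.map k.op y, ?_⟩
    rw [hbc, hy, hG']
  · haveI := hempty
    haveI : Subsingleton (Gi.obj.obj (op ((ProEtS.bcP i).obj W'))) :=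
      Groth.Agent.S0722.subsingleton_of_isEmpty Gi _
    exact ⟨0, Subsingleton.elim (α := Gi.obj.obj (op ((ProEtS.bcP i).obj W'))) _ _⟩

set_option backward.isDefEq.respectTransparency.types false in
theorem shortExact_c {X Z U : Scheme.{u}} (i : Z ⟶ X) [IsClosedImmersion i] (j : U ⟶ X)
    [IsOpenImmersion j] [QuasiCompact j]
    (hc : Set.range j.base = (Set.range i.base)ᶜ) [ProEtS.JPCont j] [ProEtS.PCont i]
    (F : ProEtS.AbP X) :
    (ShortComplex.mk _ _ (comp_zero_c i j hc F)).ShortExact := by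
  haveI : Mono (ShortComplex.mk _ _ (comp_zero_c i j hc F)).f := mono_counit_c j F
  exact Groth.Agent.Helper2.ShLoc.shortExact_of_local
    (ShortComplex.mk _ _ (comp_zero_c i j hc F)) (locSurj_c i j hc F)
    (fun W y hy => exact_c i j hc F W y hy)

set_option backward.isDefEq.respectTransparency.types false in
theorem main {X Z U : Scheme.{u}} (i : Z ⟶ X) [IsClosedImmersion i]
    (j : U ⟶ X) [IsOpenImmersion j] [QuasiCompact j]
    (hc : Set.range j.base = (Set.range i.base)ᶜ) [ProEtS.JPCont j] [ProEtS.PCont i]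
    (F : ProEtS.AbP X) :
    ∃ h : (ProEtS.extZeroPAdj j).counit.app F ≫ (ProEtS.pullPushAdjP i).unit.app F = 0,
      (ShortComplex.mk _ _ h).ShortExact := by
  let adjJc := Functor.sheafPullbackConstruction.sheafAdjunctionContinuous (ProEtS.compP j)
      AddCommGrpCat.{u + 1} (Scheme.ProEt.topology U) (Scheme.ProEt.topology X)
  let adjIc := Functor.sheafPullbackConstruction.sheafAdjunctionContinuous (ProEtS.bcP i)
      AddCommGrpCat.{u + 1} (Scheme.ProEt.topology X) (Scheme.ProEt.topology Z)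
  let e₁ := (Adjunction.leftAdjointUniq (ProEtS.extZeroPAdj j) adjJc).app ((ProEtS.restrP j).obj F)
  let e₃ := (ProEtS.pushP i).mapIso ((Adjunction.leftAdjointUniq (ProEtS.pullPushAdjP i) adjIc).app F)
  have h₁ : e₁.hom ≫ adjJc.counit.app F = (ProEtS.extZeroPAdj j).counit.app F :=
    Adjunction.leftAdjointUniq_hom_app_counit (ProEtS.extZeroPAdj j) adjJc F
  have h₃ : (ProEtS.pullPushAdjP i).unit.app F ≫ e₃.hom = adjIc.unit.app F :=
    Adjunction.unit_leftAdjointUniq_hom_app (ProEtS.pullPushAdjP i) adjIc F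
  have h₃' : (ProEtS.pullPushAdjP i).unit.app F = adjIc.unit.app F ≫ e₃.inv := by
    rw [← h₃, Category.assoc, Iso.hom_inv_id, Category.comp_id]
  have hzero : (ProEtS.extZeroPAdj j).counit.app F ≫ (ProEtS.pullPushAdjP i).unit.app F = 0 := by
    rw [← h₁, h₃', Category.assoc, ← Category.assoc (adjJc.counit.app F)]
    have := comp_zero_c i j hc F
    change adjJc.counit.app F ≫ adjIc.unit.app F = 0 at this
    rw [this, zero_comp, comp_zero]
  refine ⟨hzero, ?_⟩
  refine ShortComplex.shortExact_of_iso ?_ (shortExact_c i j hc F)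
  refine ShortComplex.isoMk e₁.symm (Iso.refl _) e₃.symm ?_ ?_
  · change e₁.inv ≫ (ProEtS.extZeroPAdj j).counit.app F = adjJc.counit.app F ≫ 𝟙 _
    rw [Category.comp_id, ← h₁, Iso.inv_hom_id_assoc]
  · change 𝟙 _ ≫ (ProEtS.pullPushAdjP i).unit.app F = adjIc.unit.app F ≫ e₃.inv
    rw [Category.id_comp, h₃']

end

/-- Let i : Z -> X be a closed immersion and j : U -> X an open immersion with image the complement of
i(Z), j quasi-compact. For every abelian sheaf F on X_proet the sequence 0 -> j_! j^{-1} F -> F ->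
i_* i^{-1} F -> 0 (counit of j_! -| j^{-1}, unit of i^{-1} -| i_*) is short exact (continuity of the
site functors assumed as binders). -/
theorem result {X Z U : Scheme.{u}} (i : Z ⟶ X) [IsClosedImmersion i]
    (j : U ⟶ X) [IsOpenImmersion j] [QuasiCompact j]
    (hc : Set.range j.base = (Set.range i.base)ᶜ) [ProEtS.JPCont j] [ProEtS.PCont i]
    (F : ProEtS.AbP X) :
    ∃ h : (ProEtS.extZeroPAdj j).counit.app F ≫ (ProEtS.pullPushAdjP i).unit.app F = 0,
      (ShortComplex.mk _ _ h).ShortExact := by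
  exact Groth.Agent.S0726.main i j hc F

end Groth.Agent.S0726
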