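import Groth.Statements.S0728
import Groth.Agent.Lib.Helper10.PbPoint
import Groth.Agent.Lib.Helper10.EtLoc

set_option autoImplicit false
open CategoryTheory CategoryTheory.Limits AlgebraicGeometry Opposite
universe u
open EtShriek

namespace Groth.Agent.S0728

section helpers

open Groth.Agent.Helper10

variable {X : Scheme.{u}}

/-- fibre product in the small étale site -/
noncomputable def pb {A B C : X.Etale} (a : A ⟶ B) (b : C ⟶ B) : X.Etale :=
  Scheme.Etale.mk (pullback.fst a.left b.left ≫ A.hom)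

noncomputable def pbFst {A B C : X.Etale} (a : A ⟶ B) (b : C ⟶ B) : pb a b ⟶ A :=
  MorphismProperty.Over.homMk (pullback.fst a.left b.left) rfl trivial

noncomputable def pbSnd {A B C : X.Etale} (a : A ⟶ B) (b : C ⟶ B) : pb a b ⟶ C :=
  MorphismProperty.Over.homMk (pullback.snd a.left b.left) (by
    have ha : a.left ≫ B.hom = A.hom := Over.w a.hom
    have hb : b.left ≫ B.hom = C.hom := Over.w b.hom
    change pullback.snd a.left b.left ≫ C.hom = pullback.fst a.left b.left ≫ A.hom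
    rw [← ha, ← hb, ← Category.assoc, ← Category.assoc, pullback.condition]) trivial

lemma pb_condition {A B C : X.Etale} (a : A ⟶ B) (b : C ⟶ B) :
    pbFst a b ≫ a = pbSnd a b ≫ b := by
  apply MorphismProperty.Over.Hom.ext
  exact pullback.condition

lemma pb_exists {A B C : X.Etale} (a : A ⟶ B) (b : C ⟶ B) (x : A.left) (y : C.left)
    (h : a.left x = b.left y) :
    ∃ z : (pb a b).left, (pbFst a b).left z = x ∧ (pbSnd a b).left z = y :=
  Scheme.Pullback.exists_preimage_pullback (f := a.left) (g := b.left) x y h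

lemma eq_of_locally_eq (F : EtCoh.Ab X) {T : X.Etale} (s₁ s₂ : EtCoh.sect F T)
    (h : ∀ t : T.left, ∃ (W : X.Etale) (g : W ⟶ T) (w : W.left), g.left w = t ∧
      F.obj.map g.op s₁ = F.obj.map g.op s₂) : s₁ = s₂ := by
  let S : Sieve T :=
    { arrows := fun V φ => F.obj.map φ.op s₁ = F.obj.map φ.op s₂
      downward_closed := by
        intro V V' φ hφ ψ
        rw [op_comp, Functor.map_comp, ConcreteCategory.comp_apply, ConcreteCategory.comp_apply]
        have hφ' : F.obj.map φ.op s₁ = F.obj.map φ.op s₂ := hφ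
        rw [hφ'] }
  have hS : S ∈ X.smallEtaleTopology T := by
    rw [EtLoc.mem_iff]
    intro t
    obtain ⟨W, g, w, hw, h0⟩ := h t
    exact ⟨W, g, w, h0, hw⟩
  exact Sheaf.isSeparated F T S hS s₁ s₂ (fun V φ hφ => hφ)

lemma not_mem_sectSupp_iff (F : EtCoh.Ab X) (U : X.Etale) (s : EtCoh.sect F U) (x : U.left) :
    x ∉ sectSupp F U s ↔ ∃ (W : X.Etale) (g : W ⟶ U) (w : W.left), g.left w = x ∧
      F.obj.map g.op s = 0 := by
  simp only [EtShriek.sectSupp, Set.mem_ofPred_eq, not_forall, not_not]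
  constructor
  · rintro ⟨W, g, ⟨w, hw⟩, h0⟩
    exact ⟨W, g, w, hw, h0⟩
  · rintro ⟨W, g, w, hw, h0⟩
    exact ⟨W, g, ⟨w, hw⟩, h0⟩

lemma map_map_apply (F : EtCoh.Ab X) {A B C : X.Etale} (a : A ⟶ B) (b : B ⟶ C)
    (s : EtCoh.sect F C) : F.obj.map a.op (F.obj.map b.op s) = F.obj.map (a ≫ b).op s := by
  rw [op_comp, Functor.map_comp, ConcreteCategory.comp_apply]

/-- Claim B: a section restricted along a map avoiding its support vanishes. -/
lemma map_eq_zero_of_avoid (F : EtCoh.Ab X) {T U' : X.Etale} (h : T ⟶ U')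
    (s' : EtCoh.sect F U') (hh : ∀ t : T.left, h.left t ∉ sectSupp F U' s') :
    F.obj.map h.op s' = 0 := by
  apply eq_of_locally_eq
  intro t
  obtain ⟨W, g, w, hw, h0⟩ := (not_mem_sectSupp_iff F U' s' _).1 (hh t)
  obtain ⟨z, hz1, -⟩ := pb_exists h g t w hw.symm
  refine ⟨pb h g, pbFst h g, z, hz1, ?_⟩
  rw [map_map_apply, pb_condition, ← map_map_apply, h0, map_zero, map_zero]

/-- the support of a restricted section lies over the support -/
lemma sectSupp_map_subset (F : EtCoh.Ab X) {U U' : X.Etale} (φ : U' ⟶ U) (s : EtCoh.sect F U) :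
    sectSupp F U' (F.obj.map φ.op s) ⊆ φ.left.base ⁻¹' sectSupp F U s := by
  intro x' hx'
  by_contra hx
  obtain ⟨W, g, w, hw, h0⟩ := (not_mem_sectSupp_iff F U s _).1 hx
  obtain ⟨z, hz1, -⟩ := pb_exists φ g x' w hw.symm
  apply hx' (pb φ g) (pbFst φ g) ⟨z, hz1⟩
  rw [map_map_apply, pb_condition, ← map_map_apply, h0, map_zero]

lemma injOn_aux (F : EtCoh.Ab X) {U U' : X.Etale} (φ : U' ⟶ U) (Z : Set ↥U.left)
    (hsurj : Set.SurjOn φ.left.base (φ.left.base ⁻¹' Z) Z)
    (s₁ s₂ : EtCoh.sect F U) (h₁ : sectSupp F U s₁ ⊆ Z) (h₂ : sectSupp F U s₂ ⊆ Z)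
    (h : F.obj.map φ.op s₁ = F.obj.map φ.op s₂) : s₁ = s₂ := by
  apply eq_of_locally_eq
  intro x
  by_cases hx : x ∈ Z
  · obtain ⟨x', -, hx'⟩ := hsurj hx
    exact ⟨U', φ, x', hx', h⟩
  · obtain ⟨W₁, g₁, w₁, hw₁, h0₁⟩ := (not_mem_sectSupp_iff F U s₁ x).1 (fun hh => hx (h₁ hh))
    obtain ⟨W₂, g₂, w₂, hw₂, h0₂⟩ := (not_mem_sectSupp_iff F U s₂ x).1 (fun hh => hx (h₂ hh))
    obtain ⟨z, hz1, -⟩ := pb_exists g₁ g₂ w₁ w₂ (hw₁.trans hw₂.symm)
    refine ⟨pb g₁ g₂, pbFst g₁ g₂ ≫ g₁, z, ?_, ?_⟩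
    · have e : (pbFst g₁ g₂ ≫ g₁).left = (pbFst g₁ g₂).left ≫ g₁.left := rfl
      rw [e, Scheme.Hom.comp_apply, hz1, hw₁]
    · rw [← map_map_apply, h0₁, map_zero, pb_condition, ← map_map_apply, h0₂, map_zero]

/-- open subobject of `T` in the étale site -/
noncomputable def opn (T : X.Etale) (E : T.left.Opens) : X.Etale :=
  Scheme.Etale.mk (E.ι ≫ T.hom)

noncomputable def opnι (T : X.Etale) (E : T.left.Opens) : opn T E ⟶ T :=
  MorphismProperty.Over.homMk E.ι rfl trivial

lemma comp_left_apply {A B C : X.Etale} (a : A ⟶ B) (b : B ⟶ C) (x : A.left) :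
    (a ≫ b).left x = b.left (a.left x) := by
  have e : (a ≫ b).left = a.left ≫ b.left := rfl
  rw [e, Scheme.Hom.comp_apply]

/-- Claim A: two lifts of the same map give the same restriction. -/
lemma lifts_agree (F : EtCoh.Ab X) {U U' T : X.Etale} (φ : U' ⟶ U) (Z : Set ↥U.left)
    (hZ : IsClosed Z)
    (hinj : Set.InjOn φ.left.base (φ.left.base ⁻¹' Z))
    (hres : ∀ x ∈ φ.left.base ⁻¹' Z, Function.Surjective (φ.left.residueFieldMap x))
    (s' : EtCoh.sect F U') (hs' : sectSupp F U' s' ⊆ φ.left.base ⁻¹' Z)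
    (h₁ h₂ : T ⟶ U') (h : h₁ ≫ φ = h₂ ≫ φ) :
    F.obj.map h₁.op s' = F.obj.map h₂.op s' := by
  apply eq_of_locally_eq
  intro t
  have hφall : ∀ t : T.left, φ.left (h₁.left t) = φ.left (h₂.left t) := by
    intro t
    rw [← comp_left_apply, ← comp_left_apply, h]
  have hφ := hφall t
  by_cases ht : h₁.left t ∈ φ.left.base ⁻¹' Z
  · have ht2 : h₂.left t ∈ φ.left.base ⁻¹' Z := by
      change φ.left (h₂.left t) ∈ Z
      rw [← hφ]
      exact ht
    have heq : h₁.left t = h₂.left t := hinj ht ht2 hφ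
    have hcomp : h₁.left ≫ φ.left = h₂.left ≫ φ.left := congrArg (fun k => k.left) h
    let pr : T.left ⟶ pullback φ.left φ.left := pullback.lift h₁.left h₂.left hcomp
    let Δ : U'.left ⟶ pullback φ.left φ.left := pullback.diagonal φ.left
    have hΔ : IsOpenImmersion Δ := inferInstance
    have hq : pr t = Δ (h₁.left t) := by
      apply PbPoint.eq_of_fst_snd
      · rw [← Scheme.Hom.comp_apply, ← Scheme.Hom.comp_apply, pullback.lift_fst,
          pullback.diagonal_fst]
        rfl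
      · rw [← Scheme.Hom.comp_apply, ← Scheme.Hom.comp_apply, pullback.lift_snd,
          pullback.diagonal_snd]
        exact heq.symm
      · have e : pullback.fst φ.left φ.left (Δ (h₁.left t)) = h₁.left t := by
          rw [← Scheme.Hom.comp_apply, pullback.diagonal_fst]
          rfl
        rw [e]
        exact hres _ ht
    let E : T.left.Opens := pr ⁻¹ᵁ Δ.opensRange
    have htE : t ∈ E := by
      change pr t ∈ Set.range Δ
      rw [hq]
      exact ⟨_, rfl⟩
    have hrange : Set.range (E.ι ≫ pr) ⊆ Set.range Δ := by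
      rintro _ ⟨e, rfl⟩
      rw [Scheme.Hom.comp_apply]
      exact e.2
    let l : E.toScheme ⟶ U'.left := IsOpenImmersion.lift Δ (E.ι ≫ pr) hrange
    have hl : l ≫ Δ = E.ι ≫ pr := IsOpenImmersion.lift_fac _ _ _
    have e₁ : E.ι ≫ h₁.left = l := by
      have : E.ι ≫ h₁.left = (E.ι ≫ pr) ≫ pullback.fst _ _ := by
        rw [Category.assoc, pullback.lift_fst]
      rw [this, ← hl, Category.assoc, pullback.diagonal_fst, Category.comp_id]
    have e₂ : E.ι ≫ h₂.left = l := by
      have : E.ι ≫ h₂.left = (E.ι ≫ pr) ≫ pullback.snd _ _ := by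
        rw [Category.assoc, pullback.lift_snd]
      rw [this, ← hl, Category.assoc, pullback.diagonal_snd, Category.comp_id]
    have e₃ : opnι T E ≫ h₁ = opnι T E ≫ h₂ := by
      apply MorphismProperty.Over.Hom.ext
      exact e₁.trans e₂.symm
    refine ⟨opn T E, opnι T E, ⟨t, htE⟩, rfl, ?_⟩
    rw [map_map_apply, map_map_apply, e₃]
  · have ht2 : h₂.left t ∉ φ.left.base ⁻¹' Z := by
      intro hh
      apply ht
      change φ.left (h₁.left t) ∈ Z
      rw [hφ]
      exact hh
    let Zc : U.left.Opens := ⟨Zᶜ, hZ.isOpen_compl⟩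
    let E : T.left.Opens := (h₁.left ≫ φ.left) ⁻¹ᵁ Zc
    have htE : t ∈ E := by
      change (h₁.left ≫ φ.left) t ∈ Zᶜ
      rw [Scheme.Hom.comp_apply]
      exact ht
    refine ⟨opn T E, opnι T E, ⟨t, htE⟩, rfl, ?_⟩
    rw [map_map_apply, map_map_apply]
    rw [map_eq_zero_of_avoid F (opnι T E ≫ h₁) s', map_eq_zero_of_avoid F (opnι T E ≫ h₂) s']
    · intro e he
      have he' := hs' he
      have h3 : (h₁.left ≫ φ.left) (E.ι e) ∈ Zᶜ := e.2
      apply h3
      rw [Scheme.Hom.comp_apply, hφall]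
      exact he'
    · intro e he
      have he' := hs' he
      have h3 : (h₁.left ≫ φ.left) (E.ι e) ∈ Zᶜ := e.2
      apply h3
      rw [Scheme.Hom.comp_apply]
      exact he'

theorem main {X : Scheme.{u}} (F : EtCoh.Ab X) {U U' : X.Etale}
    (φ : U' ⟶ U) (Z : Set ↥U.left) (hZ : IsClosed Z)
    (hbij : Set.BijOn φ.left.base (φ.left.base ⁻¹' Z) Z)
    (hres : ∀ x ∈ φ.left.base ⁻¹' Z, Function.Bijective (φ.left.residueFieldMap x)) :
    Set.BijOn (F.obj.map φ.op) {s | EtShriek.sectSupp F U s ⊆ Z}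
      {s' | EtShriek.sectSupp F U' s' ⊆ φ.left.base ⁻¹' Z} := by
  have hsurjres : ∀ x ∈ φ.left.base ⁻¹' Z, Function.Surjective (φ.left.residueFieldMap x) :=
    fun x hx => (hres x hx).2
  refine ⟨?_, ?_, ?_⟩
  · intro s hs
    exact (sectSupp_map_subset F φ s).trans (Set.preimage_mono hs)
  · intro s₁ h₁ s₂ h₂ h
    exact injOn_aux F φ Z hbij.surjOn s₁ s₂ h₁ h₂ h
  · intro s' hs'
    let Zc : U.left.Opens := ⟨Zᶜ, hZ.isOpen_compl⟩
    let V := opn U Zc
    let ι : V ⟶ U := opnι U Zc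
    let S : Sieve U :=
      { arrows := fun Y g => (∃ h : Y ⟶ U', h ≫ φ = g) ∨ (∃ k : Y ⟶ V, k ≫ ι = g)
        downward_closed := by
          rintro Y Y' g (⟨h, hh⟩ | ⟨k, hk⟩) m
          · exact Or.inl ⟨m ≫ h, by rw [Category.assoc, hh]⟩
          · exact Or.inr ⟨m ≫ k, by rw [Category.assoc, hk]⟩ }
    have hS : S ∈ X.smallEtaleTopology U := by
      rw [EtLoc.mem_iff]
      intro x
      by_cases hx : x ∈ Z
      · obtain ⟨x', -, hx'⟩ := hbij.surjOn hx
        exact ⟨U', φ, x', Or.inl ⟨𝟙 _, Category.id_comp _⟩, hx'⟩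
      · exact ⟨V, ι, ⟨x, hx⟩, Or.inr ⟨𝟙 _, Category.id_comp _⟩, rfl⟩
    have hsh : Presieve.IsSheafFor (F.obj ⋙ forget AddCommGrpCat) S.arrows :=
      ((Presheaf.isSheaf_iff_isSheaf_forget _ F.obj (forget AddCommGrpCat)).1 F.property).isSheafFor
        S hS
    classical
    let x : Presieve.FamilyOfElements (F.obj ⋙ forget AddCommGrpCat) S.arrows :=
      fun Y g _ => if H : ∃ h : Y ⟶ U', h ≫ φ = g then F.obj.map H.choose.op s' else
        (0 : F.obj.obj (op Y))
    have key1 : ∀ {Y : X.Etale} (g : Y ⟶ U) (hg : S g) (h : Y ⟶ U') (hh : h ≫ φ = g),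
        x g hg = F.obj.map h.op s' := by
      intro Y g hg h hh
      have H : ∃ h : Y ⟶ U', h ≫ φ = g := ⟨h, hh⟩
      simp only [x, dif_pos H]
      exact lifts_agree F φ Z hZ hbij.injOn hsurjres s' hs' _ _ (H.choose_spec.trans hh.symm)
    have key2 : ∀ {Y : X.Etale} (g : Y ⟶ U) (hg : S g) (k : Y ⟶ V) (hk : k ≫ ι = g),
        x g hg = (0 : F.obj.obj (op Y)) := by
      intro Y g hg k hk
      by_cases H : ∃ h : Y ⟶ U', h ≫ φ = g
      · obtain ⟨h, hh⟩ := H
        rw [key1 g hg h hh]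
        apply map_eq_zero_of_avoid
        intro y hy
        have h1 : φ.left (h.left y) ∈ Z := hs' hy
        have h2 : φ.left (h.left y) = ι.left (k.left y) := by
          rw [← comp_left_apply, ← comp_left_apply, hh, hk]
        rw [h2] at h1
        exact (k.left y).2 h1
      · simp only [x, dif_neg H]
    have hcomp : x.Compatible := by
      rw [Presieve.compatible_iff_sieveCompatible]
      intro Y Y' g k hg
      have hg' := hg
      rcases hg' with ⟨h, hh⟩ | ⟨k', hk'⟩
      · rw [key1 g hg h hh, key1 (k ≫ g) (S.downward_closed hg k) (k ≫ h)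
          (by rw [Category.assoc, hh])]
        exact (map_map_apply F k h s').symm
      · rw [key2 g hg k' hk', key2 (k ≫ g) (S.downward_closed hg k) (k ≫ k')
          (by rw [Category.assoc, hk'])]
        exact (map_zero (F.obj.map k.op).hom).symm
    let s : F.obj.obj (op U) := hsh.amalgamate x hcomp
    have hs : ∀ {Y : X.Etale} (g : Y ⟶ U) (hg : S g), F.obj.map g.op s = x g hg :=
      fun g hg => hsh.valid_glue hcomp g hg
    refine ⟨s, ?_, ?_⟩
    · intro y hy
      by_contra hyZ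
      apply hy V ι ⟨⟨y, hyZ⟩, rfl⟩
      rw [hs ι (Or.inr ⟨𝟙 _, Category.id_comp _⟩)]
      exact key2 ι (Or.inr ⟨𝟙 _, Category.id_comp _⟩) (𝟙 _) (Category.id_comp _)
    · rw [hs φ (Or.inl ⟨𝟙 _, Category.id_comp _⟩),
        key1 φ (Or.inl ⟨𝟙 _, Category.id_comp _⟩) (𝟙 _) (Category.id_comp _)]
      simp

end helpers

/-- In the case where the inverse image of Z is Z' (so that the bijection is restriction): let phi : U'
-> U be a morphism of the small etale site of X and Z a closed subset of U such that phi restricted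
to the inverse image Z' of Z is a bijection onto Z inducing isomorphisms of residue fields (so Z' ->
U is a closed immersion with image Z, for the reduced structures). Then restriction along phi is a
bijection from the sections of F over U supported in Z to the sections of F over U' supported in Z'. -/
theorem result {X : Scheme.{u}} (F : EtCoh.Ab X) {U U' : X.Etale}
    (φ : U' ⟶ U) (Z : Set ↥U.left) (hZ : IsClosed Z)
    (hbij : Set.BijOn φ.left.base (φ.left.base ⁻¹' Z) Z)
    (hres : ∀ x ∈ φ.left.base ⁻¹' Z, Function.Bijective (φ.left.residueFieldMap x)) :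
    Set.BijOn (F.obj.map φ.op) {s | EtShriek.sectSupp F U s ⊆ Z}
      {s' | EtShriek.sectSupp F U' s' ⊆ φ.left.base ⁻¹' Z} := by
  exact main F φ Z hZ hbij hres

end Groth.Agent.S0728
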