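import Groth.Statements.S0732
import Mathlib
import Groth.Agent.Lib.Helper2.ExtZ1
import Groth.Agent.Lib.Helper2.ExtZ2
-- import your own Groth.Agent.* helpers here

set_option autoImplicit false
open CategoryTheory CategoryTheory.Limits AlgebraicGeometry Opposite
universe u
open ProEtS

namespace Groth.Agent.S0732

section

open CategoryTheory CategoryTheory.Limits AlgebraicGeometry Opposite Topology

theorem main {U X Z : Scheme.{u}} (j : U ⟶ X) [WeaklyEtale j] (i : Z ⟶ X)
    [IsClosedImmersion i] (hUZ : Disjoint (Set.range j.base) (Set.range i.base)) [ProEtS.JPCont j]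
    (V : X.ProEt) [IsAffine V.left]
    (hV : ∀ v : ↥V.left, ∃ z : ↥V.left, V.hom.base z ∈ Set.range i.base ∧ v ⤳ z)
    (F : ProEtS.AbP U) :
    Subsingleton (ProEtS.sectP ((ProEtS.extZeroP j).obj F) V) := by
  haveI : (ProEtS.compP j).op.HasPointwiseLeftKanExtension F.obj := inferInstance
  exact Groth.Agent.Helper2.ExtZ.subsingleton_sheafPullback (ProEtS.compP j)
    (Scheme.ProEt.topology U) (Scheme.ProEt.topology X) F V
    (fun S hS => Groth.Agent.Helper2.ExtZ.exists_refinement j i hUZ V hV S hS)

end

/-- Let j : U -> X be weakly etale and i : Z -> X a closed immersion with U x_X Z empty. Let V be an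
affine object of X_proet in which each point has some specialization lying over Z. Then j_! F (V) =
0 for every abelian sheaf F on U_proet (continuity of the site functor of j assumed as a binder). -/
theorem result {U X Z : Scheme.{u}} (j : U ⟶ X) [WeaklyEtale j] (i : Z ⟶ X)
    [IsClosedImmersion i] (hUZ : Disjoint (Set.range j.base) (Set.range i.base)) [ProEtS.JPCont j]
    (V : X.ProEt) [IsAffine V.left]
    (hV : ∀ v : ↥V.left, ∃ z : ↥V.left, V.hom.base z ∈ Set.range i.base ∧ v ⤳ z)
    (F : ProEtS.AbP U) :
    Subsingleton (ProEtS.sectP ((ProEtS.extZeroP j).obj F) V) := by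
  exact Groth.Agent.S0732.main j i hUZ V hV F

end Groth.Agent.S0732
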