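import Groth.Statements.S0738
-- import your own Groth.Agent.* helpers here

set_option autoImplicit false
open Topology
universe u
open ProEtW

namespace Groth.Agent.S0738

theorem spectral_of_isClosed (X : Type u) [TopologicalSpace X] [SpectralSpace X]
    (Y : Set X) (hY : IsClosed Y) : SpectralSpace ↥Y := by
  have hf : IsClosedEmbedding (Subtype.val : Y → X) := hY.isClosedEmbedding_subtypeVal
  have : CompactSpace Y := isCompact_iff_compactSpace.1 hY.isCompact
  have : QuasiSober Y := hf.quasiSober
  have : PrespectralSpace Y := PrespectralSpace.of_isClosedEmbedding _ hf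
  have : QuasiSeparatedSpace Y := by
    have hb := (PrespectralSpace.isTopologicalBasis (X := X)).isInducing hf.isInducing
    let b : {W : Set X // IsOpen W ∧ IsCompact W} → Set Y := fun W => Subtype.val ⁻¹' W.1
    have hb' : TopologicalSpace.IsTopologicalBasis (Set.range b) := by
      convert hb using 1
      ext s
      simp only [Set.mem_range, Subtype.exists, Set.mem_image, Set.mem_ofPred_eq, b]
      constructor
      · rintro ⟨W, hW, rfl⟩; exact ⟨W, hW, rfl⟩
      · rintro ⟨W, hW, rfl⟩; exact ⟨W, hW, rfl⟩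
    refine QuasiSeparatedSpace.of_isTopologicalBasis hb' ?_
    rintro ⟨W, hW1, hW2⟩ ⟨W', hW1', hW2'⟩
    simp only [b, ← Set.preimage_inter]
    exact hf.isProperMap.isCompact_preimage
      (QuasiSeparatedSpace.inter_isCompact W W' hW1 hW2 hW1' hW2')
  exact { }

theorem aux (X : Type u) [TopologicalSpace X] (hX : ProEtW.IsWLocal X)
    (Y : Set X) (hY : IsClosed Y) : ProEtW.IsWLocal ↥Y := by
  obtain ⟨h1, h2, h3⟩ := hX
  have hcl : ∀ y : Y, IsClosed ({y} : Set Y) ↔ IsClosed ({(y : X)} : Set X) := by
    intro y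
    have hf : IsClosedEmbedding (Subtype.val : Y → X) := hY.isClosedEmbedding_subtypeVal
    rw [hf.isClosed_iff_image_isClosed, Set.image_singleton]
  refine ⟨spectral_of_isClosed X Y hY, ?_, ?_⟩
  · have : {x : Y | IsClosed ({x} : Set Y)} = Subtype.val ⁻¹' {x : X | IsClosed ({x} : Set X)} := by
      ext y; exact hcl y
    rw [this]
    exact h2.preimage continuous_subtype_val
  · intro y
    obtain ⟨c, ⟨hc1, hc2⟩, hc3⟩ := h3 y
    have hcY : c ∈ Y := by
      have := hc2.mem_closed hY y.2
      exact this
    refine ⟨⟨c, hcY⟩, ⟨(hcl _).2 hc1, ?_⟩, ?_⟩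
    · rw [subtype_specializes_iff]; exact hc2
    · rintro ⟨c', hc'Y⟩ ⟨h1', h2'⟩
      have := hc3 c' ⟨(hcl ⟨c', hc'Y⟩).1 h1', (subtype_specializes_iff _ _).1 h2'⟩
      exact Subtype.ext this

/-- A closed subset of a w-local spectral space is w-local (with the subspace topology). -/
theorem result (X : Type u) [TopologicalSpace X] (hX : ProEtW.IsWLocal X)
    (Y : Set X) (hY : IsClosed Y) : ProEtW.IsWLocal ↥Y := by
  exact aux X hX Y hY

end Groth.Agent.S0738
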