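import Groth.Statements.S0739
import Mathlib
import Groth.Agent.Lib.Helper2.Oli6
import Groth.Agent.Lib.Helper3.WEStalk
-- import your own Groth.Agent.* helpers here

set_option autoImplicit false
open CategoryTheory CategoryTheory.Limits AlgebraicGeometry Opposite
universe u
open ProEtS

namespace Groth.Agent.S0739

section
open CategoryTheory CategoryTheory.Limits AlgebraicGeometry Opposite Topology
open Groth.Agent.Helper2.Oli

/-- lifting geometric points along weakly étale morphisms -/
theorem exists_lift_geometric_point {V U : Scheme.{u}} (g : V ⟶ U) [WeaklyEtale g]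
    {k : Type u} [Field k] [IsSepClosed k] (ξ : Spec (CommRingCat.of k) ⟶ U) (v : V)
    (hv : g v = ξ (IsLocalRing.closedPoint k)) :
    ∃ ξ' : Spec (CommRingCat.of k) ⟶ V, ξ' ≫ g = ξ := by
  let A := U.presheaf.stalk (g v)
  let B := V.presheaf.stalk v
  letI : Algebra A B := (g.stalkMap v).hom.toAlgebra
  haveI : IsLocalHom (algebraMap A B) := by
    change IsLocalHom (g.stalkMap v).hom
    infer_instance
  have hQ := Groth.Agent.Helper3.WEStalk.stalkMap (f := g) inferInstance v
  haveI : Algebra.WeaklyEtale A B := (Groth.Agent.Helper3.WEStalk.q_iff _).mp hQ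
  haveI : Algebra.IsSeparable (IsLocalRing.ResidueField A) (IsLocalRing.ResidueField B) :=
    isSeparable_residueField A B
  let φ : U.residueField (ξ (IsLocalRing.closedPoint k)) ⟶ CommRingCat.of k :=
    U.descResidueField (Scheme.stalkClosedPointTo ξ)
  have hξ : Spec.map φ ≫ U.fromSpecResidueField (ξ (IsLocalRing.closedPoint k)) = ξ :=
    Scheme.descResidueField_stalkClosedPointTo_fromSpecResidueField k U ξ
  let φ' : U.residueField (g v) ⟶ CommRingCat.of k := (U.residueFieldCongr hv).hom ≫ φ
  have hξ' : Spec.map φ' ≫ U.fromSpecResidueField (g v) = ξ := by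
    rw [Spec.map_comp, Category.assoc, Scheme.residueFieldCongr_fromSpecResidueField, hξ]
  letI : Algebra (IsLocalRing.ResidueField A) k := φ'.hom.toAlgebra
  let ψ : IsLocalRing.ResidueField B →ₐ[IsLocalRing.ResidueField A] k := IsSepClosed.lift
  let ψ' : V.residueField v ⟶ CommRingCat.of k := CommRingCat.ofHom ψ.toRingHom
  have hcomp : g.residueFieldMap v ≫ ψ' = φ' := by
    ext x
    exact ψ.commutes x
  refine ⟨Spec.map ψ' ≫ V.fromSpecResidueField v, ?_⟩
  rw [Category.assoc, ← Scheme.Hom.SpecMap_residueFieldMap_fromSpecResidueField,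
    ← Spec.map_comp_assoc, hcomp, hξ']

set_option backward.isDefEq.respectTransparency.types false in
instance (Y : Scheme.{u}) :
    PreservesLimitsOfShape WalkingCospan (Scheme.ProEt.forget Y ⋙ Over.forget Y) := by
  have : PreservesLimitsOfShape WalkingCospan (Over.forget Y) := inferInstance
  have : PreservesLimitsOfShape WalkingCospan (Scheme.ProEt.forget Y) := inferInstance
  infer_instance

/-- the lifting property for a sieve -/
def LiftProp {X : Scheme.{u}} (k : Type u) [Field k] (U : X.ProEt) (R : Sieve U) : Prop :=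
  ∀ ξ : Spec (CommRingCat.of k) ⟶ U.left,
    ∃ (V : X.ProEt) (g : V ⟶ U) (ξ' : Spec (CommRingCat.of k) ⟶ V.left), R g ∧ ξ' ≫ g.left = ξ

set_option backward.isDefEq.respectTransparency.types false in
theorem liftProp_of_saturate {X : Scheme.{u}} {k : Type u} [Field k] [IsSepClosed k]
    (U : X.ProEt) (R : Sieve U) (hR : (Scheme.ProEt.precoverage X).Saturate U R) :
    LiftProp k U R := by
  induction hR with
  | of U S hS =>
    intro ξ
    obtain ⟨ι, V, g, rfl⟩ := S.exists_eq_ofArrows
    change (Presieve.ofArrows V g).map (Scheme.ProEt.forget X ⋙ Over.forget X) ∈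
      Scheme.proetalePrecoverage _ at hS
    rw [Presieve.map_ofArrows] at hS
    have hS' := Scheme.propQCPrecoverage_le_precoverage _ hS
    rw [Scheme.ofArrows_mem_precoverage_iff] at hS'
    obtain ⟨hsurj, hwe⟩ := hS'
    obtain ⟨i, v, hv⟩ := hsurj (ξ (IsLocalRing.closedPoint k))
    haveI : WeaklyEtale ((g i).left) := hwe i
    obtain ⟨ξ', hξ'⟩ := exists_lift_geometric_point (g i).left ξ v hv
    exact ⟨V i, g i, ξ', Sieve.le_generate _ _ _ (Presieve.ofArrows.mk i), hξ'⟩
  | top U =>
    intro ξ
    exact ⟨U, 𝟙 U, ξ, trivial, Category.comp_id ξ⟩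
  | pullback U S hS Y f ih =>
    intro ξ
    obtain ⟨V, g, ξ', hg, hξ'⟩ := ih (ξ ≫ f.left)
    have hpb : IsPullback (pullback.fst g f).left (pullback.snd g f).left g.left f.left :=
      (IsPullback.of_hasPullback g f).map (Scheme.ProEt.forget X ⋙ Over.forget X)
    refine ⟨pullback g f, pullback.snd g f, hpb.lift ξ' ξ hξ', ?_, hpb.lift_snd _ _ _⟩
    change S (pullback.snd g f ≫ f)
    rw [← pullback.condition]
    exact S.downward_closed hg _
  | transitive U S R hS hR ih1 ih2 =>
    intro ξ
    obtain ⟨V, g, ξ', hg, hξ'⟩ := ih1 ξ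
    obtain ⟨W, h, ξ'', hh, hξ''⟩ := ih2 hg ξ'
    refine ⟨W, h ≫ g, ξ'', hh, ?_⟩
    change ξ'' ≫ (h.left ≫ g.left) = ξ
    rw [← Category.assoc, hξ'', hξ']

theorem main {X : Scheme.{u}} (U : X.ProEt) (R : Sieve U)
    (hR : R ∈ Scheme.ProEt.topology X U) {k : Type u} [Field k] [IsSepClosed k]
    (ξ : Spec (CommRingCat.of k) ⟶ U.left) :
    ∃ (V : X.ProEt) (g : V ⟶ U) (ξ' : Spec (CommRingCat.of k) ⟶ V.left), R g ∧ ξ' ≫ g.left = ξ :=
  liftProp_of_saturate U R hR ξ

end

/-- Let U be an object of X_proet, R a covering sieve on U, and xi : Spec k -> U a geometric point (k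
separably closed). Then there is a morphism V -> U in R and a geometric point of V with the same
field mapping to xi. -/
theorem result {X : Scheme.{u}} (U : X.ProEt) (R : Sieve U)
    (hR : R ∈ Scheme.ProEt.topology X U) {k : Type u} [Field k] [IsSepClosed k]
    (ξ : Spec (CommRingCat.of k) ⟶ U.left) :
    ∃ (V : X.ProEt) (g : V ⟶ U) (ξ' : Spec (CommRingCat.of k) ⟶ V.left), R g ∧ ξ' ≫ g.left = ξ := by
  exact Groth.Agent.S0739.main U R hR ξ

end Groth.Agent.S0739
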