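import Groth.Statements.S0742
import Mathlib.CategoryTheory.Adjunction.Triple
import Mathlib.CategoryTheory.Adjunction.Restrict
import Mathlib.CategoryTheory.Adjunction.Whiskering
-- import your own Groth.Agent.* helpers here

set_option autoImplicit false
open CategoryTheory CategoryTheory.Limits AlgebraicGeometry Opposite
universe u
open ProEtS

namespace Groth.Agent.S0742

variable {U X : Scheme.{u}} (j : U ⟶ X) [hj : WeaklyEtale j]

set_option backward.isDefEq.respectTransparency.types false in
noncomputable def adjS : compP j ⊣ bcP j :=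
  MorphismProperty.Over.mapPullbackAdj (@WeaklyEtale) ⊤ j hj trivial

set_option backward.isDefEq.respectTransparency.types false in
instance unit_isIso [Mono j] (A : U.ProEt) : IsIso ((adjS j).unit.app A) := by
  have : (Scheme.ProEt.forget U ⋙ Over.forget U).ReflectsIsomorphisms := inferInstance
  suffices h : IsIso ((Scheme.ProEt.forget U ⋙ Over.forget U).map ((adjS j).unit.app A)) from
    isIso_of_reflects_iso _ (Scheme.ProEt.forget U ⋙ Over.forget U)
  dsimp [adjS]
  have h1 : pullback.lift (𝟙 A.left) A.hom (by simp) ≫ pullback.fst (A.hom ≫ j) j = 𝟙 _ :=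
    pullback.lift_fst _ _ _
  have : IsSplitEpi (pullback.fst (A.hom ≫ j) j) := IsSplitEpi.mk' ⟨_, h1⟩
  have : IsIso (pullback.fst (A.hom ≫ j) j) := isIso_of_mono_of_isSplitEpi _
  have h2 : IsIso (pullback.lift (𝟙 A.left) A.hom (by simp) ≫ pullback.fst (A.hom ≫ j) j) := by
    rw [h1]; infer_instance
  have h3 := this
  exact @IsIso.of_isIso_comp_right _ _ _ _ _ (pullback.lift (𝟙 A.left) A.hom (by simp)) (pullback.fst (A.hom ≫ j) j) h3 h2


variable [JPCont j] [PCont j]

set_option backward.isDefEq.respectTransparency.types false in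
noncomputable def adjRP : restrP j ⊣ pushP j :=
  Adjunction.restrictFullyFaithful
    (Adjunction.whiskerLeft AddCommGrpCat.{u+1} (adjS j).op)
    (fullyFaithfulSheafToPresheaf _ _) (fullyFaithfulSheafToPresheaf _ _)
    (Iso.refl _) (Iso.refl _)


set_option backward.isDefEq.respectTransparency.types false in
lemma map_counit (G : AbP U) : (sheafToPresheaf _ _).map ((adjRP j).counit.app G) =
    (Adjunction.whiskerLeft AddCommGrpCat.{u+1} (adjS j).op).counit.app G.obj := by
  rw [adjRP, Adjunction.map_restrictFullyFaithful_counit_app]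
  simp only [Iso.refl_inv, NatTrans.id_app]
  erw [CategoryTheory.Functor.map_id, Category.id_comp, Category.id_comp]
  rfl

set_option backward.isDefEq.respectTransparency.types false in
instance counit_isIso [Mono j] (G : AbP U) : IsIso ((adjRP j).counit.app G) := by
  suffices h : IsIso ((sheafToPresheaf _ _).map ((adjRP j).counit.app G)) from
    isIso_of_reflects_iso _ (sheafToPresheaf _ _)
  rw [map_counit, NatTrans.isIso_iff_isIso_app]
  intro V
  rw [Adjunction.whiskerLeft_counit_app_app]
  dsimp
  have h1 : IsIso ((adjS j).unit.app (unop V)) := inferInstance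
  have h2 : IsIso ((adjS j).op.counit.app V) := by
    change IsIso ((adjS j).unit.app (unop V)).op
    infer_instance
  exact Functor.map_isIso G.obj _


set_option backward.isDefEq.respectTransparency.types false in
theorem aux {U X : Scheme.{u}} (j : U ⟶ X) [IsOpenImmersion j]
    [ProEtS.JPCont j] [ProEtS.PCont j] (F G : ProEtS.AbP U) :
    IsIso ((ProEtS.extZeroPAdj j).unit.app F) ∧ IsIso ((ProEtS.pullPushAdjP j).counit.app G) := by
  have hc : IsIso (adjRP j).counit := by
    rw [NatTrans.isIso_iff_isIso_app]; intro G; infer_instance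
  let t : Adjunction.Triple (extZeroP j) (restrP j) (pushP j) := ⟨extZeroPAdj j, adjRP j⟩
  have hu : IsIso (extZeroPAdj j).unit := t.isIso_unit_iff_isIso_counit.2 hc
  have ff : (pushP j).FullyFaithful := (adjRP j).fullyFaithfulROfIsIsoCounit
  have := ff.full
  have := ff.faithful
  exact ⟨inferInstance, inferInstance⟩

/-- For an open immersion j : U -> X, the unit F -> j^{-1} j_! F and the counit j^{-1} j_* G -> G are
isomorphisms on abelian pro-etale sheaves (so j_! and j_* are fully faithful; continuity binders
assumed). -/
theorem result {U X : Scheme.{u}} (j : U ⟶ X) [IsOpenImmersion j]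
    [ProEtS.JPCont j] [ProEtS.PCont j] (F G : ProEtS.AbP U) :
    IsIso ((ProEtS.extZeroPAdj j).unit.app F) ∧ IsIso ((ProEtS.pullPushAdjP j).counit.app G) := by
  exact aux j F G

end Groth.Agent.S0742
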