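import Groth.Statements.S0743
-- import your own Groth.Agent.* helpers here

set_option autoImplicit false
open CategoryTheory CategoryTheory.Limits AlgebraicGeometry Opposite
universe u
open ProEtS

namespace Groth.Agent.S0743

variable {U X : Scheme.{u}} (j : U ⟶ X) [Etale j] [EtShriek.JCont j]
    [ProEtS.JPCont j] [ProEtS.EpsCont U] [ProEtS.EpsCont X]

noncomputable def adj1 : EtShriek.extZero j ⋙ epsPull X ⊣ epsPush X ⋙ EtShriek.restrAlong j :=
  (EtShriek.extZeroAdj j).comp (epsAdj X)

noncomputable def adj2 : epsPull U ⋙ extZeroP j ⊣ restrP j ⋙ epsPush U :=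
  (epsAdj U).comp (extZeroPAdj j)

set_option backward.isDefEq.respectTransparency.types false in
noncomputable def isoR : epsPush X ⋙ EtShriek.restrAlong j ≅ restrP j ⋙ epsPush U :=
  Iso.refl _


theorem aux (G : EtCoh.Ab U) :
    Nonempty ((ProEtS.epsPull X).obj ((EtShriek.extZero j).obj G) ≅
      (ProEtS.extZeroP j).obj ((ProEtS.epsPull U).obj G)) :=
  ⟨((adj1 j).leftAdjointUniq ((adj2 j).ofNatIsoRight (isoR j).symm)).app G⟩

/-- For an etale morphism j : U -> X and an abelian sheaf G on U_et, eps^{-1} (j_! G) and j_! (eps^{-1}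
G) are isomorphic as abelian sheaves on X_proet (existence of an isomorphism; continuity binders
assumed). -/
theorem result {U X : Scheme.{u}} (j : U ⟶ X) [Etale j] [EtShriek.JCont j]
    [ProEtS.JPCont j] [ProEtS.EpsCont U] [ProEtS.EpsCont X] (G : EtCoh.Ab U) :
    Nonempty ((ProEtS.epsPull X).obj ((EtShriek.extZero j).obj G) ≅
      (ProEtS.extZeroP j).obj ((ProEtS.epsPull U).obj G)) := by
  exact aux j G

end Groth.Agent.S0743
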