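import Groth.Statements.S0778
import Mathlib
import Groth.Agent.S0176
import Groth.Agent.S0736
-- import your own Groth.Agent.* helpers here

set_option autoImplicit false
open CategoryTheory CategoryTheory.Limits AlgebraicGeometry Opposite Topology
universe u
open ProEtW

namespace Groth.Agent.S0778

section
open CategoryTheory CategoryTheory.Limits AlgebraicGeometry Opposite Topology

theorem main (A : Type u) [CommRing A] :
    EtPBC.IsWContractible A ↔ ProEtW.HasIndEtaleRetractions A := by
  constructor
  · intro h B _ _ hff hind
    exact h B hff (Groth.Agent.S0736.result A B hind)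
  · intro h B _ _ hff hwe
    haveI := hwe
    haveI := hff
    obtain ⟨B', _, _, _, _, hff', hBB', hAB'⟩ := Groth.Agent.S0176.result A B
    haveI := hff'
    have hAff : Module.FaithfullyFlat A B' := Module.FaithfullyFlat.trans A B B'
    obtain ⟨r⟩ := h B' hAff hAB'
    exact ⟨r.comp (IsScalarTower.toAlgHom A B B')⟩

end

/-- A ring A is w-contractible (retractions for faithfully flat weakly etale algebras) if and only if
every faithfully flat ind-etale A-algebra has an A-algebra retraction. -/
theorem result (A : Type u) [CommRing A] :
    EtPBC.IsWContractible A ↔ ProEtW.HasIndEtaleRetractions A := by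
  exact Groth.Agent.S0778.main A

end Groth.Agent.S0778
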