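import Groth.Statements.S0781
import Mathlib.AlgebraicGeometry.Morphisms.FormallyUnramified
-- import your own Groth.Agent.* helpers here

set_option autoImplicit false
open CategoryTheory CategoryTheory.Limits AlgebraicGeometry Opposite
universe u
open Desc

namespace Groth.Agent.S0781

set_option backward.isDefEq.respectTransparency false in
theorem isOpenImmersion_equalizer_ι_left {S : Scheme.{u}} {X Y : Over S}
    [IsOpenImmersion (pullback.diagonal Y.hom)]
    (f g : X ⟶ Y) : IsOpenImmersion (equalizer.ι f g).left := by
  refine MorphismProperty.of_isPullback (P := @IsOpenImmersion)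
    ((Limits.isPullback_equalizer_prod f g).map (Over.forget _)).flip ?_
  rw [← MorphismProperty.cancel_right_of_respectsIso @IsOpenImmersion _
    (Over.prodLeftIsoPullback Y Y).hom]
  convert! (inferInstance : IsOpenImmersion (pullback.diagonal Y.hom))
  ext1 <;> simp [← Over.comp_left]

set_option backward.isDefEq.respectTransparency false in
set_option backward.isDefEq.respectTransparency.types false in
theorem snd_comp_eq {X S : Scheme.{u}} (p : X ⟶ S) {U U' : Over S} (f₁ f₂ : U ⟶ U')
    (h : (Desc.toDD p).map f₁ = (Desc.toDD p).map f₂) :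
    pullback.snd p U.hom ≫ f₁.left = pullback.snd p U.hom ≫ f₂.left := by
  have h1 : ((Desc.toDD p).map f₁).hom.left = ((Desc.toDD p).map f₂).hom.left := by rw [h]
  have h2 := congrArg (fun t => t ≫ pullback.snd p U'.hom) h1
  simpa [Desc.toDD] using h2

/-- Two `S`-morphisms into an `S`-scheme with open diagonal that agree after precomposition with a
surjective morphism are equal. -/
theorem eq_of_surjective_comp_eq {S : Scheme.{u}} {U₁ U₂ : Over S}
    [IsOpenImmersion (pullback.diagonal U₂.hom)] (f₁ f₂ : U₁ ⟶ U₂) {W : Scheme.{u}}
    (s : W ⟶ U₁.left) [Surjective s] (h : s ≫ f₁.left = s ≫ f₂.left) : f₁ = f₂ := by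
  let W' : Over S := Over.mk (s ≫ U₁.hom)
  let s' : W' ⟶ U₁ := Over.homMk s
  have hs' : s' ≫ f₁ = s' ≫ f₂ := by ext1; exact h
  have h1 : IsOpenImmersion (equalizer.ι f₁ f₂).left := isOpenImmersion_equalizer_ι_left f₁ f₂
  have h2 : Surjective (equalizer.ι f₁ f₂).left := by
    have e : (equalizer.lift s' hs').left ≫ (equalizer.ι f₁ f₂).left = s := by
      rw [← Over.comp_left, equalizer.lift_ι]
      rfl
    have : Surjective ((equalizer.lift s' hs').left ≫ (equalizer.ι f₁ f₂).left) := by
      rw [e]; infer_instance
    exact Surjective.of_comp (equalizer.lift s' hs').left _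
  have h3 : IsIso (equalizer.ι f₁ f₂).left := by
    have : Epi (equalizer.ι f₁ f₂).left.base := by
      rw [TopCat.epi_iff_surjective]
      exact h2.surj
    exact IsOpenImmersion.isIso _
  ext1
  rw [← cancel_epi (equalizer.ι f₁ f₂).left]
  exact congr($(equalizer.condition f₁ f₂).left)

theorem aux {X S : Scheme.{u}} (p : X ⟶ S) [Surjective p] (U₁ U₂ : Over S)
    [Etale U₁.hom] [Etale U₂.hom] : Function.Injective ((Desc.toDD p).map : (U₁ ⟶ U₂) → _) := by
  intro f₁ f₂ h
  exact eq_of_surjective_comp_eq f₁ f₂ (pullback.snd p U₁.hom) (snd_comp_eq p f₁ f₂ h)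

/-- If p : X → S is a surjective morphism of schemes, then for schemes U₁, U₂ étale over S, two
S-morphisms U₁ → U₂ whose base changes to X agree, as morphisms of canonical descent data relative
to p, are equal; that is, the canonical-descent-datum functor is faithful on schemes étale over S.
(Descent data are taken in functor-of-points form, equivalent by the Yoneda lemma to an isomorphism
over X ×_S X satisfying the cocycle condition.) -/
theorem result {X S : Scheme.{u}} (p : X ⟶ S) [Surjective p] (U₁ U₂ : Over S)
    [Etale U₁.hom] [Etale U₂.hom] : Function.Injective ((Desc.toDD p).map : (U₁ ⟶ U₂) → _) := by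
  exact aux p U₁ U₂

end Groth.Agent.S0781
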