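import Groth.Statements.S0790
import Groth.Agent.Lib.Helper2.ProperOver
-- import your own Groth.Agent.* helpers here

set_option autoImplicit false
universe u
open Coherent

namespace Groth.Agent.S0790

open CategoryTheory AlgebraicGeometry Limits in
theorem aux {X Y S : Scheme.{u}} (p : X ⟶ S) (q : Y ⟶ S)
    [LocallyOfFiniteType p] [LocallyOfFiniteType q] (f : X ⟶ Y) [IsProper f] (w : f ≫ q = p)
    (Z : Set Y) (hZ : ClSub.IsProperOver q Z) : ClSub.IsProperOver p (⇑f ⁻¹' Z) := by
  obtain ⟨h, hp⟩ := hZ
  let ι := (Scheme.IdealSheafData.vanishingIdeal ⟨Z, h⟩).subschemeι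
  have hr : Set.range (pullback.fst f ι) = ⇑f ⁻¹' Z := by
    rw [Scheme.Pullback.range_fst, Groth.Agent.Helper2.range_red]
  rw [Groth.Agent.Helper2.isProperOver_iff_of_closedImmersion p (pullback.fst f ι) _ hr]
  have e : pullback.fst f ι ≫ p = pullback.snd f ι ≫ ι ≫ q := by
    rw [← w, ← Category.assoc, pullback.condition, Category.assoc]
  rw [e]
  infer_instance

open CategoryTheory AlgebraicGeometry in
/-- Let X and Y be schemes locally of finite type over S and f : X → Y a proper morphism over S. If Z ⊆
Y is closed and proper over S, its preimage in X is again closed and proper over S. -/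
theorem result {X Y S : Scheme.{u}} (p : X ⟶ S) (q : Y ⟶ S)
    [LocallyOfFiniteType p] [LocallyOfFiniteType q] (f : X ⟶ Y) [IsProper f] (w : f ≫ q = p)
    (Z : Set Y) (hZ : ClSub.IsProperOver q Z) : ClSub.IsProperOver p (⇑f ⁻¹' Z) := by
  exact aux p q f w Z hZ

end Groth.Agent.S0790
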