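import Groth.Statements.S0794
import Groth.Agent.Lib.Helper13.PullbackEpi
import Groth.Agent.Lib.Helper13.ProperOverH2

set_option autoImplicit false
universe u
open Coherent

namespace Groth.Agent.S0794

open CategoryTheory AlgebraicGeometry Limits in

open CategoryTheory AlgebraicGeometry in
/-- Consider a cartesian square with X' = X ×_S S', projections g' : X' → X and f' : X' → S', where f :
X → S is locally of finite type. If F is a quasi-coherent O_X-module of finite type whose support is
proper over S, then the support of the pullback (g')^* F is proper over S'. -/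
theorem result {X S X' S' : Scheme.{u}} (f : X ⟶ S) [LocallyOfFiniteType f]
    (g : S' ⟶ S) (g' : X' ⟶ X) (f' : X' ⟶ S') (sq : IsPullback g' f' f g)
    (F : X.Modules) (hq : Coh.IsQCoh F) (hft : CohB1.IsFT F)
    (hF : ClSub.IsProperOver f (CohB1.support F)) :
    ClSub.IsProperOver f' (CohB1.support ((Scheme.Modules.pullback g').obj F)) := by
  haveI : F.IsQuasicoherent := hq
  haveI : SheafOfModules.IsFiniteType (R := X.ringCatSheaf) F := hft
  obtain ⟨hcl, hproper⟩ := hF
  rw [Groth.Agent.Helper13.Pullback.support_pullback g' F]
  set i := (Scheme.IdealSheafData.vanishingIdeal ⟨CohB1.support F, hcl⟩).subschemeι with hi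
  haveI : LocallyOfFiniteType f' := MorphismProperty.of_isPullback sq inferInstance
  have hrange : Set.range (pullback.snd i g') = g' ⁻¹' (CohB1.support F) := by
    rw [Scheme.Pullback.range_snd, Groth.Agent.Helper13.H2.range_red]
  rw [Groth.Agent.Helper13.H2.isProperOver_iff_of_closedImmersion f' (pullback.snd i g') _ hrange]
  -- the big square is a pullback
  have hbig : IsPullback (pullback.fst i g') (pullback.snd i g' ≫ f') (i ≫ f) g :=
    (IsPullback.of_hasPullback i g').paste_vert sq
  exact MorphismProperty.of_isPullback hbig hproper

end Groth.Agent.S0794
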