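import Groth.Statements.S0797
import Mathlib
import Groth.Agent.Lib.Helper12.LimComplete

set_option autoImplicit false
universe u
open Formal2

namespace Groth.Agent.S0797

/-- The module-theoretic heart, over a base that is already complete (so that the completion of A is A).
Let A be Noetherian and I-adically complete, and let (M_n, f_n : M_{n+1} → M_n) be an inverse system
of finite A-modules with M_n annihilated by I^(n+1) and f_n surjective with kernel I^(n+1) M_{n+1}
(indices shifted by one). Then the A-module of compatible sequences is finitely generated, each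
projection to M_n is surjective, and its kernel is I^(n+1) times the module of compatible sequences. -/
theorem result (A : Type u) [CommRing A] [IsNoetherianRing A] (I : Ideal A)
    [IsAdicComplete I A] (M : ℕ → Type u) [∀ n, AddCommGroup (M n)] [∀ n, Module A (M n)]
    [∀ n, Module.Finite A (M n)] (f : ∀ n, M (n + 1) →ₗ[A] M n) (hf : ∀ n, Function.Surjective (f n))
    (hk : ∀ n, I ^ (n + 1) • (⊤ : Submodule A (M n)) = ⊥)
    (hker : ∀ n, LinearMap.ker (f n) = I ^ (n + 1) • (⊤ : Submodule A (M (n + 1))))
    (L : Submodule A (∀ n, M n)) (hL : ∀ x : ∀ n, M n, x ∈ L ↔ ∀ n, f n (x (n + 1)) = x n) :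
    Module.Finite A L ∧ ∀ n, Function.Surjective ((LinearMap.proj n).comp L.subtype : L →ₗ[A] M n) ∧
      LinearMap.ker ((LinearMap.proj n).comp L.subtype : L →ₗ[A] M n) = I ^ (n + 1) • (⊤ : Submodule A L) := by
  have hπ : ∀ n, f n ∘ₗ ((LinearMap.proj (n + 1)).comp L.subtype : L →ₗ[A] M (n + 1)) =
      ((LinearMap.proj n).comp L.subtype : L →ₗ[A] M n) := by
    intro n
    ext x
    exact (hL x.1).mp x.2 n
  have hinj : ∀ x : L, (∀ n, ((LinearMap.proj n).comp L.subtype : L →ₗ[A] M n) x = 0) → x = 0 := by
    intro x hx
    apply Subtype.ext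
    funext n
    exact hx n
  have hlift : ∀ y : (∀ n, M n), (∀ n, f n (y (n + 1)) = y n) →
      ∃ x : L, ∀ n, ((LinearMap.proj n).comp L.subtype : L →ₗ[A] M n) x = y n := by
    intro y hy
    exact ⟨⟨y, (hL y).mpr hy⟩, fun n => rfl⟩
  have key := Groth.Agent.Helper12.LimComplete.main I f
    (fun n => ((LinearMap.proj n).comp L.subtype : L →ₗ[A] M n)) hf hk hker hπ hinj hlift
    inferInstance
  exact ⟨key.1, key.2.2⟩

end Groth.Agent.S0797
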