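import Groth.Statements.S0813
import Mathlib
import Groth.Agent.Lib.Helper6.PicDescA
import Groth.Agent.Lib.Helper23.DepthExt11
import Groth.Agent.Lib.Helper23.DepthExt9

set_option autoImplicit false
universe u
open Formal2

namespace Groth.Agent.S0813

open CategoryTheory AlgebraicGeometry in
/-- Let (A, 𝔪) be a Noetherian local ring of depth at least 2, A^ its 𝔪-adic completion, U the punctured
spectrum of A and U^ its preimage in Spec A^ (the punctured spectrum of A^). Then an invertible
O_U-module whose pullback to U^ is trivial is trivial. -/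
theorem result (A : Type u) [CommRing A] [IsNoetherianRing A]
    [IsLocalRing A] (hdepth : (2 : ℕ∞) ≤ LocCoh.depth A A) :
    Formal2.PicPullbackInjective
      (Spec.map (CommRingCat.ofHom (algebraMap A (AdicCompletion (IsLocalRing.maximalIdeal A) A))) ∣_
        FEt.puncturedSpec A) := by
  intro L hL htriv
  haveI : Module.FaithfullyFlat A (AdicCompletion (IsLocalRing.maximalIdeal A) A) :=
    Module.FaithfullyFlat.of_flat_of_isLocalHom
  have hff := (AlgebraicGeometry.flat_and_surjective_SpecMap_iff
    (CommRingCat.ofHom (algebraMap A (AdicCompletion (IsLocalRing.maximalIdeal A) A)))).2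
    ((RingHom.faithfullyFlat_algebraMap_iff).2 inferInstance)
  haveI := hff.1
  haveI := hff.2
  have hbij := Groth.Agent.Helper23.DepthExt.bijective_ι_appTop (FEt.puncturedSpec A)
    (Groth.Agent.Helper23.DepthExt.hasRegPair_puncturedSpec A hdepth)
  have hsl : Finite (MaximalSpectrum Γ(↑(FEt.puncturedSpec A), ⊤)) := by
    let e1 : A ≃+* Γ(Spec (CommRingCat.of A), ⊤) :=
      (Scheme.ΓSpecIso (CommRingCat.of A)).symm.commRingCatIsoToRingEquiv
    let e2 : Γ(Spec (CommRingCat.of A), ⊤) ≃+* Γ(↑(FEt.puncturedSpec A), ⊤) :=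
      RingEquiv.ofBijective (FEt.puncturedSpec A).ι.appTop.hom hbij
    haveI : IsLocalRing Γ(↑(FEt.puncturedSpec A), ⊤) := (e1.trans e2).isLocalRing
    infer_instance
  exact Groth.Agent.Helper6.PicDesc.nonempty_iso_of_pullback_iso
    (isPullback_morphismRestrict _ (FEt.puncturedSpec A)) hsl L hL htriv

end Groth.Agent.S0813
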