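import Groth.Statements.S0820
import Groth.Agent.Lib.Helper13.PushPushUnit
import Groth.Agent.Lib.Helper13.CohSupp
import Groth.Agent.Lib.Helper16.Sch.GenND2

set_option autoImplicit false
universe u
open Coherent

namespace Groth.Agent.S0820

open CategoryTheory AlgebraicGeometry in
/-- Let f : Y → X be finite and surjective with X locally Noetherian, and let i : Z → X be a closed
immersion from an integral scheme, ξ the image of the generic point of Z. Then some coherent
O_Y-module F has f_* F supported exactly on i(Z), with the stalk of f_* F at ξ killed by every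
element of 𝔪_{X,ξ}, the maximal ideal of O_{X,ξ}. -/
theorem result {Y X : Scheme.{u}} (f : Y ⟶ X) [IsFinite f]
    [Surjective f] [IsLocallyNoetherian X] (Z : Scheme.{u}) (i : Z ⟶ X) [IsClosedImmersion i] [IsIntegral Z] :
    ∃ F : Y.Modules, Coh.IsCoh F ∧ CohB1.support ((Coh.push f).obj F) = Set.range ⇑i ∧
      ∀ a ∈ IsLocalRing.maximalIdeal (X.presheaf.stalk (i (genericPoint Z))),
        ∀ m : ↑(((Coh.push f).obj F).presheaf.stalk (i (genericPoint Z))), a • m = 0 := by
  classical
  have hT : IsClosed (f ⁻¹' Set.range i) :=
    (i.isClosedEmbedding.isClosed_range).preimage f.continuous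
  obtain ⟨I, hI⟩ : ∃ I : Y.IdealSheafData,
      I = Scheme.IdealSheafData.vanishingIdeal ⟨f ⁻¹' Set.range i, hT⟩ := ⟨_, rfl⟩
  have hrange : Set.range I.subschemeι = f ⁻¹' Set.range i := by
    rw [hI, Scheme.IdealSheafData.range_subschemeι,
      Scheme.IdealSheafData.coe_support_vanishingIdeal]
    rfl
  haveI : IsReduced I.subscheme := by
    rw [hI]
    exact Groth.Agent.Helper16.GenND.isReduced_vanishingIdeal_subscheme _
  have hmem : ∀ w : I.subscheme, f (I.subschemeι w) ∈ Set.range i := fun w =>
    hrange.le ⟨w, rfl⟩
  have hcl : closure ({i (genericPoint Z)} : Set X) = Set.range i := by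
    have h1 : ({i (genericPoint Z)} : Set X) = i '' {genericPoint Z} := by
      rw [Set.image_singleton]
    rw [h1, i.isClosedEmbedding.closure_image_eq, (genericPoint_spec Z).def, Set.image_univ]
  refine ⟨(Scheme.Modules.pushforward I.subschemeι).obj (Coh.structureModule I.subscheme),
    ⟨inferInstance, ?_⟩, ?_, ?_⟩
  · haveI : SheafOfModules.IsFiniteType (R := Y.ringCatSheaf) (Coh.structureModule Y) :=
      (Groth.Agent.Helper13.CohRoof.isCoh_structureModule Y).2
    exact Groth.Agent.Helper13.FinType.isFiniteType_of_epi (ClSub.unitToPush I.subschemeι)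
  · apply Set.Subset.antisymm
    · exact Groth.Agent.Helper13.PushPushUnit.support_subset f I.subschemeι _ (Set.range i)
        i.isClosedEmbedding.isClosed_range hmem
    · rintro _ ⟨z, rfl⟩
      obtain ⟨y, hy⟩ := f.surjective (i z)
      have hyr : y ∈ Set.range I.subschemeι := by
        rw [hrange]
        exact ⟨z, hy.symm⟩
      obtain ⟨w, rfl⟩ := hyr
      rw [← hy]
      exact Groth.Agent.Helper13.PushPushUnit.mem_support f I.subschemeι w
  · intro a ha m
    refine Groth.Agent.Helper13.PushPushUnit.smul_stalk_eq_zero f I.subschemeι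
      (i (genericPoint Z)) ?_ a ha m
    intro w
    rw [hcl]
    exact hmem w

end Groth.Agent.S0820
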