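import Groth.Statements.S7260
import Groth.Agent.Lib.Helper24.RlimLimMod
import Groth.Agent.Lib.Helper13.AffineVanish
import Groth.Agent.Lib.Helper13.QCohKer
import Groth.Agent.Lib.Helper13.RestrCoh

set_option autoImplicit false
universe u
open CategoryTheory CategoryTheory.Limits AlgebraicGeometry
attribute [local instance] HasDerivedCategory.standard
open Perf

namespace Groth.Agent.S7260


open TopologicalSpace Opposite

theorem affine_cover (X : Scheme.{u}) (U : X.Opens) :
    ∃ (ι : Type u) (Y : ι → X.Opens) (f : ∀ i, Y i ⟶ U),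
      Sieve.ofArrows Y f ∈ (Opens.grothendieckTopology X) U ∧ ∀ i, Y i ∈ {V : X.Opens | IsAffineOpen V} := by
  refine ⟨{V : X.Opens // IsAffineOpen V ∧ V ≤ U}, fun V => V.1, fun V => homOfLE V.2.2, ?_,
    fun V => V.2.1⟩
  intro x hx
  obtain ⟨_, ⟨V, hV, rfl⟩, hxV, hVU⟩ := X.isBasis_affineOpens.exists_subset_of_mem_open hx U.2
  exact ⟨V, homOfLE hVU, Sieve.ofArrows_mk (fun W : {V : X.Opens // IsAffineOpen V ∧ V ≤ U} => W.1)
    (fun W => homOfLE W.2.2) ⟨V, hV, hVU⟩, hxV⟩

open Groth.Agent.Helper24.RlimLimMod Groth.Agent.Helper24.RlimTrunc Groth.Agent.Helper24.HDMod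
  Groth.Agent.Helper24.FrMod

theorem h1 {X : Scheme.{u}} (M : X.Modules) [M.IsQuasicoherent] (U : X.Opens) (hU : IsAffineOpen U)
    (p : ℕ) : Subsingleton (Abelian.Ext (ZM X.sheaf U) (M : ModSite.Mod X.sheaf) (p + 1)) := by
  apply subsingleton_ext_ZM X.sheaf U M (p + 1)
  exact Groth.Agent.Helper13.AffineVanish.HU_subsingleton_of_isAffineOpen M U hU p

/-- Let X be a scheme and (F_n)_{n ≥ 0} an inverse system of quasi-coherent O_X-modules whose transition
maps F_{n+1} ⟶ F_n are surjective for n ≥ 1. Then R lim F_n = lim F_n, that is, lim F_n placed in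
degree 0 is a derived limit in D(O_X) of the system (F_n[0]) (granted the countable product exists
there), and H^p(U, lim F_n) = 0 for every affine open U ⊆ X and every p > 0. (The published
statement is phrased for the system of q-th cohomology sheaves of an inverse system in D_QCoh(O_X);
the proof uses only that these form an inverse system of quasi-coherent modules with surjective
transition maps, which is the form stated here.) -/
theorem result {X : Scheme.{u}} (F : ℕ → X.Modules)
    (hF : ∀ n, Coh.IsQCoh (F n)) (t : ∀ n, F (n + 1) ⟶ F n) (ht : ∀ n, 1 ≤ n → Epi (t n))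
    [HasProduct fun n => DCoh.inD X (F n)] :
    DCoh.IsRlim (fun n => DCoh.inD X (F n)) (fun n => (DerivedCategory.singleFunctor X.Modules 0).map (t n))
        (DCoh.inD X (Limits.limit (Functor.ofOpSequence t))) ∧
      ∀ (U : X.Opens), IsAffineOpen U → ∀ p : ℕ, 0 < p →
        Subsingleton (Coh.HHon X (Limits.limit (Functor.ofOpSequence t)) U p) := by
  let F' : ℕ → ModSite.Mod X.sheaf := F
  let t' : ∀ n, F' (n + 1) ⟶ F' n := t
  haveI inst : HasProduct fun n => (DerivedCategory.singleFunctor (ModSite.Mod X.sheaf) 0).obj (F' n) := ‹_›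
  let B : Set X.Opens := {V | IsAffineOpen V}
  have hB := affine_cover X
  have hh1 : ∀ U ∈ B, ∀ (p n : ℕ), Subsingleton (Abelian.Ext (ZM X.sheaf U) (F' n) (p + 1)) :=
    fun U hU p n => by
      haveI : (F n).IsQuasicoherent := hF n
      exact h1 (F n) U hU p
  have hsurj : ∀ U ∈ B, ∀ n, 1 ≤ n →
      Function.Surjective (((toAbF X.sheaf).map (t' n)).hom.app (op U)).hom := by
    intro U hU n hn
    haveI : Epi (t' n) := ht n hn
    apply surjective_sections_of_epi X.sheaf (t' n) U
    haveI : (F n).IsQuasicoherent := hF n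
    haveI : (F (n + 1)).IsQuasicoherent := hF (n + 1)
    haveI : (kernel (t n)).IsQuasicoherent :=
      Groth.Agent.Helper13.QCohLocal.isQuasicoherent_kernel (t n)
    exact h1 (kernel (t n)) U hU 0
  have hh2 : ∀ U ∈ B, CohCx.LimOneIsZero (fun n => ((toAbF X.sheaf).obj (F' n)).obj.obj (op U))
      (fun n => (((toAbF X.sheaf).map (t' n)).hom.app (op U)).hom) :=
    fun U hU => limOneIsZero_of_surjective_ge 1 _ _ (hsurj U hU)
  refine ⟨isRlim_limitM X.sheaf F' t' B hB hh1 hh2, ?_⟩
  intro U hU p hp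
  obtain ⟨p, rfl⟩ : ∃ q, p = q + 1 := ⟨p - 1, by omega⟩
  have hs := subsingleton_ext_limitM X.sheaf F' t' B hB hh1 hh2 U hU p
  obtain ⟨e⟩ := nonempty_ext_ZM_iso X.sheaf U (limit (CohCx.opSequence F' t')) (p + 1)
  have hs2 : Subsingleton (CohTop.HU (X := X.toTopCat)
      (Coh.toAb (limit (Functor.ofOpSequence t))) (p + 1) U) :=
    e.symm.addCommGroupIsoToAddEquiv.toEquiv.subsingleton
  obtain ⟨e₃⟩ := Groth.Agent.Helper13.RestrCoh.main (X := X.toTopCat) U
    (Coh.toAb (limit (Functor.ofOpSequence t))) (p + 1)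
  exact e₃.symm.injective.subsingleton

end Groth.Agent.S7260
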