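import Groth.Statements.S0826
import Groth.Agent.S7260
import Groth.Agent.Lib.Helper24.DProd3
import Groth.Agent.Lib.Helper24.ModGroth

set_option autoImplicit false
universe u
open Formal2

namespace Groth.Agent.S0826


open CategoryTheory CategoryTheory.Limits AlgebraicGeometry Opposite

attribute [local instance] HasDerivedCategory.standard

theorem subsingleton_H_of_iso {C : Type u} [SmallCategory C] {J : GrothendieckTopology C}
    {F F' : Sheaf J AddCommGrpCat.{u}} (e : F ≅ F') (p : ℕ)
    (h : Subsingleton (Sheaf.H F p)) : Subsingleton (Sheaf.H F' p) := by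
  have hf : Function.Injective (Sheaf.H.map e.inv p) := by
    intro x y hxy
    have h1 := congrArg (Sheaf.H.map e.hom p) hxy
    rw [← Sheaf.H.map_comp_apply, ← Sheaf.H.map_comp_apply, e.inv_hom_id, Sheaf.H.map_id_apply,
      Sheaf.H.map_id_apply] at h1
    exact h1
  exact hf.subsingleton

/-- transport of vanishing of cohomology over an open along an isomorphism of modules -/
theorem subsingleton_HHon_of_iso {X : Scheme.{u}} {M M' : X.Modules} (e : M ≅ M') (U : X.Opens) (p : ℕ)
    (h : Subsingleton (Coh.HHon X M U p)) : Subsingleton (Coh.HHon X M' U p) :=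
  subsingleton_H_of_iso
    ((SheafOfModules.toSheaf _).mapIso ((Scheme.Modules.restrictFunctor U.ι).mapIso e)) p h

theorem epi_of_cokernel_desc_iso {C : Type*} [Category C] [Abelian C] {P M N : C} (s : P ⟶ M) (g : M ⟶ N)
    (h : s ≫ g = 0) (hiso : IsIso (cokernel.desc s g h)) : Epi g := by
  have h1 : cokernel.π s ≫ cokernel.desc s g h = g := cokernel.π_desc _ _ h
  rw [← h1]
  infer_instance

open CategoryTheory CategoryTheory.Limits AlgebraicGeometry in
/-- Part (2), for the ideal sheaf generated by an ideal I of a base ring A. Let X be a scheme over Spec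
A and (G_n) an inverse system of quasi-coherent O_X-modules with G_n killed by I^(n+1) and G_n =
G_{n+1}/I^(n+1)G_{n+1} (indices shifted by one). Then the limit O_X-module lim G_n has vanishing
cohomology in positive degrees over every affine open of X. -/
theorem result (A : Type u) [CommRing A] (I : Ideal A) (X : Scheme.{u})
    [X.Over (Spec (CommRingCat.of A))] (G : ℕᵒᵖ ⥤ X.Modules) (hG : Formal2.IsQCohFormal I G)
    (U : X.Opens) (hU : IsAffineOpen U) (p : ℕ) (hp : 0 < p) :
    Subsingleton (Coh.HHon X (limit G) U p) := by
  let F : ℕ → X.Modules := fun n => G.obj (op n)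
  let t : ∀ n, F (n + 1) ⟶ F n := fun n => G.map (homOfLE (Nat.le_succ n)).op
  have ht : ∀ n, Epi (t n) := by
    intro n
    obtain ⟨h, hiso⟩ := hG.2.2 n
    exact epi_of_cokernel_desc_iso _ _ h hiso
  haveI : EnoughInjectives X.Modules :=
    Groth.Agent.Helper24.ModGroth.enoughInjectives_sheafOfModules X.ringCatSheaf
  haveI : HasProduct fun n => DCoh.inD X (F n) :=
    Groth.Agent.Helper24.DProd.hasProduct_of_isGE _ (fun _ => 0) (fun n => inferInstance)
  have key := (Groth.Agent.S7260.result F hG.1 t (fun n _ => ht n)).2 U hU p hp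
  let φ : Functor.ofOpSequence t ⟶ G := NatTrans.ofOpSequence (fun n => 𝟙 _) (fun n => by
    rw [Functor.ofOpSequence_map_homOfLE_succ]
    exact (Category.comp_id _).trans (Category.id_comp _).symm)
  haveI : IsIso φ := by
    haveI : ∀ n, IsIso (φ.app n) := fun n => by
      change IsIso (𝟙 _)
      infer_instance
    exact NatIso.isIso_of_isIso_app φ
  exact subsingleton_HHon_of_iso (lim.mapIso (asIso φ)) U p key

end Groth.Agent.S0826
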