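import Groth.Statements.S0827
import Groth.Agent.S7260
import Groth.Agent.Lib.Helper24.DProd3
import Groth.Agent.Lib.Helper24.RlimMilnor

set_option autoImplicit false
universe u
open Formal2

namespace Groth.Agent.S0827


open CategoryTheory CategoryTheory.Limits AlgebraicGeometry Opposite

attribute [local instance] HasDerivedCategory.standard

open Groth.Agent.Helper24.RlimLimMod Groth.Agent.Helper24.RlimTrunc Groth.Agent.Helper24.HDMod
  Groth.Agent.Helper24.FrMod Groth.Agent.Helper24.RlimLim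

theorem epi_of_cokernel_desc_iso {C : Type*} [Category C] [Abelian C] {P M N : C} (s : P ⟶ M) (g : M ⟶ N)
    (h : s ≫ g = 0) (hiso : IsIso (cokernel.desc s g h)) : Epi g := by
  have h1 : cokernel.π s ≫ cokernel.desc s g h = g := cokernel.π_desc _ _ h
  rw [← h1]
  infer_instance

/-- pure algebra: assembling the Milnor sequence -/
theorem assemble (A B : ℕ → Type u) [∀ n, AddCommGroup (A n)] [∀ n, AddCommGroup (B n)]
    (tA : ∀ n, A (n + 1) →+ A n) (tB : ∀ n, B (n + 1) →+ B n)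
    (L L' : Type u) [AddCommGroup L] [AddCommGroup L']
    (E : L →+ L') (E' : L' →+ L) (hE'E : ∀ x, E' (E x) = x) (hEE' : ∀ y, E (E' y) = y)
    (αm : (∀ n, A n) →+ L') (βm : L' →+ ∀ n, B n)
    (hα0 : ∀ y, αm y = 0 ↔ y ∈ (Formal2.towerDiff A tA).range)
    (hβ0 : ∀ x, βm x = 0 ↔ x ∈ αm.range)
    (hw : ∀ w, Formal2.towerDiff B tB w = 0 ↔ w ∈ βm.range) :
    ∃ (α : Formal2.limOne A tA →+ L) (β : L →+ Formal2.limZero B tB),
      Function.Injective α ∧ Function.Surjective β ∧ α.range = β.ker ∧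
      ∀ (x : L), (β x : ∀ n, B n) = βm (E x) := by
  let α₀ : (∀ n, A n) →+ L := E'.comp αm
  have hα₀ : (Formal2.towerDiff A tA).range ≤ α₀.ker := by
    rintro y hy
    rw [AddMonoidHom.mem_ker]
    change E' (αm y) = 0
    rw [(hα0 y).2 hy, map_zero]
  let α : Formal2.limOne A tA →+ L := QuotientAddGroup.lift _ α₀ hα₀
  let β : L →+ Formal2.limZero B tB :=
    AddMonoidHom.codRestrict (βm.comp E) _ (fun x => by
      rw [AddMonoidHom.mem_ker]
      exact (hw _).2 ⟨E x, rfl⟩)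
  refine ⟨α, β, ?_, ?_, ?_, fun x => rfl⟩
  · rw [injective_iff_map_eq_zero]
    intro q hq
    obtain ⟨y, rfl⟩ := QuotientAddGroup.mk_surjective q
    have h1 : E' (αm y) = 0 := hq
    have h2 : αm y = 0 := by
      rw [← hEE' (αm y), h1, map_zero]
    rw [QuotientAddGroup.eq_zero_iff]
    exact (hα0 y).1 h2
  · rintro ⟨w, hw'⟩
    have h1 : Formal2.towerDiff B tB w = 0 := hw'
    obtain ⟨x', hx'⟩ := (hw w).1 h1
    refine ⟨E' x', Subtype.ext ?_⟩
    change βm (E (E' x')) = w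
    rw [hEE', hx']
  · ext x
    constructor
    · rintro ⟨q, rfl⟩
      obtain ⟨y, rfl⟩ := QuotientAddGroup.mk_surjective q
      rw [AddMonoidHom.mem_ker]
      apply Subtype.ext
      change βm (E (E' (αm y))) = 0
      rw [hEE']
      exact (hβ0 _).2 ⟨y, rfl⟩
    · intro hx
      rw [AddMonoidHom.mem_ker] at hx
      have h1 : βm (E x) = 0 := congrArg Subtype.val hx
      obtain ⟨y, hy⟩ := (hβ0 _).1 h1
      refine ⟨QuotientAddGroup.mk y, ?_⟩
      change E' (αm y) = x
      rw [hy, hE'E]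

section Sheaves

variable {X : Scheme.{u}} (G : ℕᵒᵖ ⥤ X.Modules)

/-- the underlying abelian sheaves of the system -/
noncomputable def FF (n : ℕ) : Sheaf (Opens.grothendieckTopology X) AddCommGrpCat.{u} :=
  Coh.toAb (G.obj (op n))

/-- the transition maps of the underlying abelian sheaves -/
noncomputable def tt (n : ℕ) : FF G (n + 1) ⟶ FF G n :=
  (SheafOfModules.toSheaf _).map (G.map (homOfLE (Nat.le_succ n)).op)

variable (X) in
/-- the constant sheaf `ℤ` -/
noncomputable def ZZ : Sheaf (Opens.grothendieckTopology X) AddCommGrpCat.{u} :=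
  (constantSheaf (Opens.grothendieckTopology X) AddCommGrpCat.{u}).obj (AddCommGrpCat.of (ULift ℤ))

theorem towerDiff_eq (q : ℕ) (y : ∀ n, Coh.HH X (G.obj (op n)) q) :
    Formal2.towerDiff (fun n => Coh.HH X (G.obj (op n)) q) (Formal2.HHsysMap G q) y =
      Groth.Agent.Helper24.RlimMilnor.towerDiff (FF G) (tt G) (ZZ X) q y := by
  funext n
  rfl

theorem tower_conditions {A : Type u} [CommRing A] (I : Ideal A) (X : Scheme.{u})
    [X.Over (Spec (CommRingCat.of A))] (G : ℕᵒᵖ ⥤ X.Modules) (hG : Formal2.IsQCohFormal I G) :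
    (∀ U ∈ {V : X.Opens | IsAffineOpen V}, ∀ (p n : ℕ),
      Subsingleton (Abelian.Ext (CohCx.freeSheaf (Opens.grothendieckTopology X) U)
        (FF G n) (p + 1))) ∧
    (∀ U ∈ {V : X.Opens | IsAffineOpen V},
      CohCx.LimOneIsZero (fun n => (FF G n).obj.obj (op U))
        (fun n => ((tt G n).hom.app (op U)).hom)) := by
  constructor
  · intro U hU p n
    have : (G.obj (op n)).IsQuasicoherent := hG.1 n
    exact Groth.Agent.Helper13.AffineVanish.HU_subsingleton_of_isAffineOpen (G.obj (op n)) U hU p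
  · intro U hU
    refine limOneIsZero_of_surjective_ge 0 _ _ (fun n _ => ?_)
    obtain ⟨h, hiso⟩ := hG.2.2 n
    have : Epi (G.map (homOfLE (Nat.le_succ n)).op) := epi_of_cokernel_desc_iso _ _ h hiso
    have : (G.obj (op n)).IsQuasicoherent := hG.1 n
    have : (G.obj (op (n + 1))).IsQuasicoherent := hG.1 (n + 1)
    have : (kernel (G.map (homOfLE (Nat.le_succ n)).op)).IsQuasicoherent :=
      Groth.Agent.Helper13.QCohLocal.isQuasicoherent_kernel _
    let M1 : ModSite.Mod X.sheaf := G.obj (op (n + 1))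
    let M0 : ModSite.Mod X.sheaf := G.obj (op n)
    let g' : M1 ⟶ M0 := G.map (homOfLE (Nat.le_succ n)).op
    have : Epi g' := ‹Epi (G.map (homOfLE (Nat.le_succ n)).op)›
    apply surjective_sections_of_epi X.sheaf g' U
    exact Groth.Agent.S7260.h1 (kernel (G.map (homOfLE (Nat.le_succ n)).op)) U hU 0

theorem step1 {A : Type u} [CommRing A] (I : Ideal A) (X : Scheme.{u})
    [X.Over (Spec (CommRingCat.of A))] (G : ℕᵒᵖ ⥤ X.Modules) (hG : Formal2.IsQCohFormal I G) (p : ℕ) :
    ∃ (αm : (∀ n, Coh.HH X (G.obj (op n)) p) →+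
        Abelian.Ext (ZZ X) (limit (CohCx.opSequence (FF G) (tt G))) (p + 1))
      (βm : Abelian.Ext (ZZ X) (limit (CohCx.opSequence (FF G) (tt G))) (p + 1) →+
        ∀ n, Coh.HH X (G.obj (op n)) (p + 1)),
      (∀ x n, βm x n = x.comp (Abelian.Ext.mk₀ (πL (FF G) (tt G) n)) (add_zero (p + 1))) ∧
      (∀ y, αm y = 0 ↔
        y ∈ (Formal2.towerDiff (fun n => Coh.HH X (G.obj (op n)) p) (Formal2.HHsysMap G p)).range) ∧
      (∀ x, βm x = 0 ↔ x ∈ αm.range) ∧
      (∀ w, Formal2.towerDiff (fun n => Coh.HH X (G.obj (op n)) (p + 1)) (Formal2.HHsysMap G (p + 1)) w = 0 ↔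
        w ∈ βm.range) := by
  obtain ⟨hh1, hh2⟩ := tower_conditions I X G hG
  have : HasProduct fun n => (DerivedCategory.singleFunctor
      (Sheaf (Opens.grothendieckTopology X) AddCommGrpCat.{u}) 0).obj (FF G n) :=
    Groth.Agent.Helper24.DProd.hasProduct_of_isGE _ (fun _ => 0) (fun n => inferInstance)
  have : Epi (δ (FF G) (tt G)) := epi_δ (FF G) (tt G) _ (Groth.Agent.S7260.affine_cover X) hh2
  have : IsIso (c (FF G)) := isIso_c (FF G) _ (Groth.Agent.S7260.affine_cover X) hh1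
  obtain ⟨αm, βm, hβ, hα0, hβ0, hw⟩ :=
    Groth.Agent.Helper24.RlimMilnor.milnor (FF G) (tt G) (ZZ X) p
  refine ⟨αm, βm, hβ, fun y => (hα0 y).trans ?_, hβ0, fun w => Iff.trans ?_ (hw w)⟩
  · constructor
    · rintro ⟨z, hz⟩
      exact ⟨z, (towerDiff_eq G p z).trans hz⟩
    · rintro ⟨z, hz⟩
      exact ⟨z, (towerDiff_eq G p z).symm.trans hz⟩
  · rw [towerDiff_eq G (p + 1) w]
    exact Iff.rfl

theorem step2 (X : Scheme.{u}) (G : ℕᵒᵖ ⥤ X.Modules) :
    ∃ e : Coh.toAb (limit G) ≅ limit (CohCx.opSequence (FF G) (tt G)),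
      ∀ n, e.hom ≫ πL (FF G) (tt G) n =
        (SheafOfModules.toSheaf X.ringCatSheaf).map (limit.π G (op n)) := by
  haveI : PreservesLimitsOfSize.{0, 0} (toAbF X.sheaf) :=
    (frAdj X.sheaf).rightAdjoint_preservesLimits
  let G' : ℕᵒᵖ ⥤ ModSite.Mod X.sheaf := G
  haveI hpl : PreservesLimit G' (toAbF X.sheaf) := inferInstance
  haveI : PreservesLimit G (SheafOfModules.toSheaf X.ringCatSheaf) := hpl
  let e₁ : Coh.toAb (limit G) ≅ limit (G ⋙ SheafOfModules.toSheaf X.ringCatSheaf) :=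
    preservesLimitIso (SheafOfModules.toSheaf X.ringCatSheaf) G
  let φ : (G ⋙ SheafOfModules.toSheaf X.ringCatSheaf) ⟶ CohCx.opSequence (FF G) (tt G) :=
    NatTrans.ofOpSequence (fun n => 𝟙 _) (fun n => by
      rw [Functor.ofOpSequence_map_homOfLE_succ]
      exact (Category.comp_id _).trans (Category.id_comp _).symm)
  haveI : IsIso φ := by
    haveI : ∀ n, IsIso (φ.app n) := fun n => by
      change IsIso (𝟙 _)
      infer_instance
    exact NatIso.isIso_of_isIso_app φ
  refine ⟨e₁ ≪≫ lim.mapIso (asIso φ), fun n => ?_⟩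
  change (e₁.hom ≫ limMap φ) ≫ limit.π _ (op n) = _
  rw [Category.assoc, limMap_π]
  change e₁.hom ≫ limit.π _ (op n) ≫ 𝟙 _ = _
  rw [Category.comp_id]
  exact preservesLimitIso_hom_π _ _ _

end Sheaves

open CategoryTheory CategoryTheory.Limits AlgebraicGeometry Opposite in
/-- Part (3), for the ideal sheaf generated by an ideal I of a base ring A. Let X be a scheme over Spec
A and (G_n) an inverse system of quasi-coherent O_X-modules with G_n killed by I^(n+1) and G_n =
G_{n+1}/I^(n+1)G_{n+1}. Then for every p there is a short exact sequence 0 → R^1 lim_n H^p(X, G_n) →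
H^(p+1)(X, lim G_n) → lim_n H^(p+1)(X, G_n) → 0 of abelian groups, the second map being induced by
the projections lim G_n → G_n (the degree-0 statement is not restated). -/
theorem result (A : Type u) [CommRing A] (I : Ideal A) (X : Scheme.{u})
    [X.Over (Spec (CommRingCat.of A))] (G : ℕᵒᵖ ⥤ X.Modules) (hG : Formal2.IsQCohFormal I G) (p : ℕ) :
    ∃ (α : Formal2.limOne (fun n => Coh.HH X (G.obj (op n)) p) (Formal2.HHsysMap G p) →+
        Coh.HH X (limit G) (p + 1))
      (β : Coh.HH X (limit G) (p + 1) →+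
        Formal2.limZero (fun n => Coh.HH X (G.obj (op n)) (p + 1)) (Formal2.HHsysMap G (p + 1))),
      Function.Injective α ∧ Function.Surjective β ∧ α.range = β.ker ∧
      ∀ (x : Coh.HH X (limit G) (p + 1)) (n : ℕ),
        (β x : ∀ n, Coh.HH X (G.obj (op n)) (p + 1)) n =
          Sheaf.H.map ((SheafOfModules.toSheaf _).map (limit.π G (op n))) (p + 1) x := by
  obtain ⟨αm, βm, hβ, hα0, hβ0, hw⟩ := step1 I X G hG p
  obtain ⟨e, he⟩ := step2 X G
  have hE'E : ∀ x : Coh.HH X (limit G) (p + 1),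
      Sheaf.H.map e.inv (p + 1) (Sheaf.H.map e.hom (p + 1) x) = x := by
    intro x
    rw [← Sheaf.H.map_comp_apply, e.hom_inv_id, Sheaf.H.map_id_apply]
  have hEE' : ∀ y : Abelian.Ext (ZZ X) (limit (CohCx.opSequence (FF G) (tt G))) (p + 1),
      Sheaf.H.map e.hom (p + 1) (Sheaf.H.map e.inv (p + 1) y) = y := by
    intro y
    rw [← Sheaf.H.map_comp_apply, e.inv_hom_id, Sheaf.H.map_id_apply]
  obtain ⟨α, β, h1, h2, h3, h4⟩ := assemble (fun n => Coh.HH X (G.obj (op n)) p)
    (fun n => Coh.HH X (G.obj (op n)) (p + 1)) (Formal2.HHsysMap G p) (Formal2.HHsysMap G (p + 1))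
    (Coh.HH X (limit G) (p + 1)) (Abelian.Ext (ZZ X) (limit (CohCx.opSequence (FF G) (tt G))) (p + 1))
    (Sheaf.H.map e.hom (p + 1)) (Sheaf.H.map e.inv (p + 1)) hE'E hEE' αm βm hα0 hβ0 hw
  refine ⟨α, β, h1, h2, h3, fun x n => ?_⟩
  rw [h4 x, hβ, ← he n]
  change Sheaf.H.map (πL (FF G) (tt G) n) (p + 1) (Sheaf.H.map e.hom (p + 1) x) = _
  rw [← Sheaf.H.map_comp_apply]
  rfl

end Groth.Agent.S0827
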