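import Groth.Statements.S0828
import Groth.Agent.Lib.Helper28.ReflDepth
import Groth.Agent.Lib.Helper13.LocFree2
import Groth.Agent.Lib.Helper13.FlatOverAffine

set_option autoImplicit false
universe u
open Coherent


namespace Groth.Agent.S0828

open CategoryTheory Abelian LocCoh IsLocalRing
open Groth.Agent.Lead.Depth Groth.Agent.Lead

section Alg

/-- If `M` is the localization at `p` of a finite module `MA` whose annihilator is nilpotent, and the
local ring is a domain, then `M` is a faithful module. -/
theorem annihilator_eq_bot_of_isLocalizedModule {A : Type u} [CommRing A] (p : Ideal A) [p.IsPrime]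
    {R : Type u} [CommRing R] [Algebra A R] [IsLocalization.AtPrime R p] [IsDomain R]
    {MA : Type u} [AddCommGroup MA] [Module A MA] [Module.Finite A MA]
    {M : Type u} [AddCommGroup M] [Module A M] [Module R M] [IsScalarTower A R M]
    (f : MA →ₗ[A] M) [IsLocalizedModule p.primeCompl f]
    (h : Module.annihilator A MA ≤ nilradical A) : Module.annihilator R M = ⊥ := by
  classical
  rw [eq_bot_iff]
  intro r hr
  rw [Module.mem_annihilator] at hr
  obtain ⟨⟨a, s⟩, hrs0⟩ := IsLocalization.surj p.primeCompl r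
  have hrs : r * algebraMap A R (s : A) = algebraMap A R a := hrs0
  have h1 : ∀ m : MA, ∃ c : p.primeCompl, c • (a • m) = 0 := by
    intro m
    have h0 : f (a • m) = 0 := by
      rw [map_smul, ← algebraMap_smul R a (f m), ← hrs, mul_comm, mul_smul, hr, smul_zero]
    exact (IsLocalizedModule.eq_zero_iff p.primeCompl f).mp h0
  choose c hc using h1
  obtain ⟨S, hS⟩ := (Module.Finite.fg_top : (⊤ : Submodule A MA).FG)
  have h2 : (∏ m ∈ S, (c m : A)) * a ∈ Module.annihilator A MA := by
    rw [Module.mem_annihilator]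
    intro m
    have hm : m ∈ Submodule.span A (S : Set MA) := by rw [hS]; trivial
    induction hm using Submodule.span_induction with
    | mem x hx =>
      have hx' : x ∈ S := hx
      rw [← Finset.prod_erase_mul S _ hx', mul_assoc, mul_smul, mul_smul]
      have h3 := hc x
      rw [Submonoid.smul_def] at h3
      rw [h3, smul_zero]
    | zero => rw [smul_zero]
    | add x y _ _ hx hy => rw [smul_add, hx, hy, add_zero]
    | smul t x _ hx => rw [smul_comm, hx, smul_zero]
  have h3 : IsNilpotent ((∏ m ∈ S, (c m : A)) * a) := mem_nilradical.mp (h h2)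
  have h4 : algebraMap A R ((∏ m ∈ S, (c m : A)) * a) = 0 := (h3.map (algebraMap A R)).eq_zero
  rw [map_mul] at h4
  have hCmem : (∏ m ∈ S, (c m : A)) ∈ p.primeCompl :=
    Submonoid.prod_mem _ (fun m _ => (c m).2)
  have hCu : IsUnit (algebraMap A R (∏ m ∈ S, (c m : A))) :=
    IsLocalization.map_units R (⟨_, hCmem⟩ : p.primeCompl)
  have h5 : algebraMap A R a = 0 := by
    rcases mul_eq_zero.mp h4 with h | h
    · exact absurd h hCu.ne_zero
    · exact h
  rw [h5] at hrs
  have hsu : IsUnit (algebraMap A R (s : A)) := IsLocalization.map_units R s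
  rcases mul_eq_zero.mp hrs with h | h
  · exact Ideal.mem_bot.mpr h
  · exact absurd h hsu.ne_zero

theorem supportDim_eq_of_annihilator_eq_bot {R : Type u} [CommRing R] {M : Type u}
    [AddCommGroup M] [Module R M] [Module.Finite R M]
    (h : Module.annihilator R M = ⊥) : Module.supportDim R M = ringKrullDim R := by
  rw [Module.supportDim_eq_ringKrullDim_quotient_annihilator, h]
  exact ringKrullDim_eq_of_ringEquiv (RingEquiv.quotientBot R)

/-- A Cohen–Macaulay module of full dimension over a regular local ring is free. -/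
theorem free_of_cm {R : Type u} [CommRing R] [IsRegularLocalRing R] (M : Type u)
    [AddCommGroup M] [Module R M] [Module.Finite R M]
    (hCM : LocCoh.IsCohenMacaulayModule R M) (hdim : Module.supportDim R M = ringKrullDim R) :
    Module.Free R M ∧ Nontrivial M := by
  haveI hnt : Nontrivial M := nontrivial_of_isCohenMacaulayModule M hCM
  obtain ⟨n, hn, -⟩ := RLR.exists_nat_of_le (ringKrullDim_nonneg_of_nontrivial (R := R))
    (ringKrullDim_le_spanFinrank_maximalIdeal R)
  have hdepthR : LocCoh.depth R R = n := depth_eq_of_isRegularLocalRing hn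
  have hpd := Hom.hasProjectiveDimensionLT_of_finite hn M
  have hnz : ¬ Limits.IsZero (ModuleCat.of R M) := fun hz =>
    not_subsingleton M (ModuleCat.subsingleton_of_isZero hz)
  obtain ⟨e, he, hen⟩ := exists_nat_projectiveDimension_eq hpd hnz
  have hAB := auslander_buchsbaum M e he
  rw [hdepthR] at hAB
  unfold LocCoh.IsCohenMacaulayModule at hCM
  rw [hdim, hn] at hCM
  obtain ⟨t, ht⟩ := ENat.ne_top_iff_exists.mp (depth_ne_top (R := R) M)
  rw [← ht] at hAB hCM
  have e1 : n = e + t := by exact_mod_cast hAB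
  have e2 : n = t := by exact_mod_cast hCM
  have he0 : e = 0 := by omega
  subst he0
  rw [Nat.cast_zero, projectiveDimension_eq_zero_iff] at he
  haveI : Module.Projective R M := (IsProjective.iff_projective _).mpr he.1
  exact ⟨Module.free_of_flat_of_isLocalRing, hnt⟩

end Alg

end Groth.Agent.S0828

namespace Groth.Agent.S0828

open IsLocalRing Groth.Agent.Lead.Depth Groth.Agent.Lead
open Groth.Agent.Helper13.QCoh Groth.Agent.Helper13.FinType Groth.Agent.Helper13.QCohLocal
open Groth.Agent.Helper13.QCohLoc Groth.Agent.Helper13.LocTransfer Groth.Agent.Helper13.LocFree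


open CategoryTheory AlgebraicGeometry in
/-- Let X be a regular scheme (locally Noetherian with regular local rings) and F a coherent O_X-module.
Then F has support all of X and Cohen–Macaulay stalks if and only if F is finite locally free of
positive rank near every point. -/
theorem result (X : Scheme.{u}) [IsLocallyNoetherian X]
    (hreg : ∀ x : X, IsRegularLocalRing (X.presheaf.stalk x)) (F : X.Modules) (hF : Coh.IsCoh F) :
    (CohB1.support F = Set.univ ∧
        ∀ x : X, LocCoh.IsCohenMacaulayModule (X.presheaf.stalk x) ↑(F.presheaf.stalk x)) ↔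
      ∀ x : X, ∃ (U : X.Opens) (n : ℕ), x ∈ U ∧ 0 < n ∧
        Nonempty (F.restrict U.ι ≅ FlatMod.freeMod (↑U) n) := by
  obtain ⟨hqc, hft⟩ := hF
  haveI : F.IsQuasicoherent := hqc
  haveI : SheafOfModules.IsFiniteType (R := X.ringCatSheaf) F := hft
  constructor
  · rintro ⟨hsupp, hCM⟩ x
    obtain ⟨_, ⟨U, hU, rfl⟩, hxU, -⟩ :=
      X.isBasis_affineOpens.exists_subset_of_mem_open (Set.mem_univ x) isOpen_univ
    haveI : IsNoetherianRing Γ(X, U) := IsLocallyNoetherian.component_noetherian ⟨U, hU⟩
    haveI : Module.Finite Γ(X, U) Γ(F, U) := finite_sections_of_isFiniteType F hU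
    haveI : Module.FinitePresentation Γ(X, U) Γ(F, U) := Module.finitePresentation_of_finite _ _
    haveI := hreg x
    haveI : Module.Finite (X.presheaf.stalk x) (F.presheaf.stalk x) :=
      finite_stalk_of_isFiniteType F x
    have hann : Module.annihilator Γ(X, U) Γ(F, U) ≤ nilradical Γ(X, U) := by
      rw [nilradical_eq_sInf]
      refine le_sInf ?_
      intro q hq
      have hq' : q.IsPrime := hq
      have hy : hU.fromSpec ⟨q, hq'⟩ ∈ U := by
        have : hU.fromSpec ⟨q, hq'⟩ ∈ hU.fromSpec.opensRange := ⟨_, rfl⟩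
        rwa [hU.opensRange_fromSpec] at this
      letI := modStalk F (⟨hU.fromSpec ⟨q, hq'⟩, hy⟩ : U)
      haveI := isScalarTower_stalk F (⟨hU.fromSpec ⟨q, hq'⟩, hy⟩ : U)
      have hloc := isLocalizedModule_germ F hU (⟨hU.fromSpec ⟨q, hq'⟩, hy⟩ : U)
      have hqq : hU.primeIdealOf (⟨hU.fromSpec ⟨q, hq'⟩, hy⟩ : U) = ⟨q, hq'⟩ :=
        Groth.Agent.Helper13.FlatOver.primeIdealOf_fromSpec' hU _ _
      rw [hqq] at hloc
      haveI := hloc
      have hnt : ¬ Subsingleton (F.presheaf.stalk (hU.fromSpec ⟨q, hq'⟩)) := by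
        have hmem : hU.fromSpec ⟨q, hq'⟩ ∈ CohB1.support F := by rw [hsupp]; trivial
        exact hmem
      have e := IsLocalizedModule.iso q.primeCompl (germLin F (⟨hU.fromSpec ⟨q, hq'⟩, hy⟩ : U))
      haveI : Nontrivial (F.presheaf.stalk (hU.fromSpec ⟨q, hq'⟩)) :=
        not_subsingleton_iff_nontrivial.mp hnt
      haveI : Nontrivial (LocalizedModule q.primeCompl Γ(F, U)) := e.toEquiv.nontrivial
      have hmem : (⟨q, hq'⟩ : PrimeSpectrum Γ(X, U)) ∈ Module.support Γ(X, U) Γ(F, U) :=
        Module.mem_support_iff.mpr inferInstance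
      exact Module.mem_support_iff_of_finite.mp hmem
    letI : Algebra Γ(X, U) (X.presheaf.stalk x) :=
      TopCat.Presheaf.algebra_section_stalk X.presheaf (⟨x, hxU⟩ : U)
    letI := modStalk F (⟨x, hxU⟩ : U)
    haveI := isScalarTower_stalk F (⟨x, hxU⟩ : U)
    haveI := isLocalizedModule_germ F hU (⟨x, hxU⟩ : U)
    haveI : IsLocalization.AtPrime (X.presheaf.stalk x) (hU.primeIdealOf (⟨x, hxU⟩ : U)).asIdeal :=
      hU.isLocalization_stalk ⟨x, hxU⟩
    haveI : IsDomain (X.presheaf.stalk x) := RLR.isDomain _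
    have hbot : Module.annihilator (X.presheaf.stalk x) (F.presheaf.stalk x) = ⊥ :=
      annihilator_eq_bot_of_isLocalizedModule (hU.primeIdealOf (⟨x, hxU⟩ : U)).asIdeal
        (germLin F (⟨x, hxU⟩ : U)) hann
    have hdim := supportDim_eq_of_annihilator_eq_bot hbot
    obtain ⟨hfree, hnt⟩ := free_of_cm (F.presheaf.stalk x) (hCM x) hdim
    haveI := hfree
    obtain ⟨r, hxr, n, ⟨b⟩⟩ := exists_basicOpen_basis F hU (⟨x, hxU⟩ : U)
    refine ⟨X.basicOpen r, n, hxr, ?_, restrict_iso_freeMod_of_basis F (hU.basicOpen r) b⟩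
    by_contra hn0
    have hn : n = 0 := by omega
    subst hn
    haveI : Subsingleton Γ(F, X.basicOpen r) := b.repr.toEquiv.subsingleton
    letI := modStalk F (⟨x, hxr⟩ : (X.basicOpen r : X.Opens))
    haveI := isScalarTower_stalk F (⟨x, hxr⟩ : (X.basicOpen r : X.Opens))
    haveI := isLocalizedModule_germ F (hU.basicOpen r) (⟨x, hxr⟩ : (X.basicOpen r : X.Opens))
    have hz : ∀ z : F.presheaf.stalk x, z = 0 := by
      intro z
      obtain ⟨⟨m, s⟩, hzs⟩ := IsLocalizedModule.surj
        ((hU.basicOpen r).primeIdealOf (⟨x, hxr⟩ : (X.basicOpen r : X.Opens))).asIdeal.primeCompl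
        (germLin F (⟨x, hxr⟩ : (X.basicOpen r : X.Opens))) z
      have hm : m = 0 := Subsingleton.elim _ _
      have h1 : s • z = 0 := by
        have h2 : s • z = germLin F (⟨x, hxr⟩ : (X.basicOpen r : X.Opens)) m := hzs
        rw [h2, hm, map_zero]
      exact IsLocalizedModule.smul_injective
        (germLin F (⟨x, hxr⟩ : (X.basicOpen r : X.Opens))) s
        (show s • z = s • (0 : F.presheaf.stalk x) by rw [h1, smul_zero])
    obtain ⟨z, w, hzw⟩ := hnt
    exact hzw (by rw [hz z, hz w])
  · intro h
    have key : ∀ x : X, Nontrivial (F.presheaf.stalk x) ∧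
        LocCoh.IsCohenMacaulayModule (X.presheaf.stalk x) (F.presheaf.stalk x) := by
      intro x
      obtain ⟨W, n, hxW, hn, ⟨e⟩⟩ := h x
      obtain ⟨_, ⟨V, hV, rfl⟩, hxV, hVW⟩ :=
        X.isBasis_affineOpens.exists_subset_of_mem_open hxW W.2
      obtain ⟨b⟩ := nonempty_basis_of_restrict_iso F e hVW
      letI : Algebra Γ(X, V) (X.presheaf.stalk x) :=
        TopCat.Presheaf.algebra_section_stalk X.presheaf (⟨x, hxV⟩ : V)
      letI := modStalk F (⟨x, hxV⟩ : V)
      haveI := isScalarTower_stalk F (⟨x, hxV⟩ : V)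
      haveI := isLocalizedModule_germ F hV (⟨x, hxV⟩ : V)
      haveI : IsLocalization (hV.primeIdealOf (⟨x, hxV⟩ : V)).asIdeal.primeCompl
          (X.presheaf.stalk x) := hV.isLocalization_stalk ⟨x, hxV⟩
      let bs : Module.Basis (Fin n) (X.presheaf.stalk x) (F.presheaf.stalk x) :=
        b.ofIsLocalizedModule (X.presheaf.stalk x)
          (hV.primeIdealOf (⟨x, hxV⟩ : V)).asIdeal.primeCompl (germLin F (⟨x, hxV⟩ : V))
      haveI := hreg x
      haveI : Module.Free (X.presheaf.stalk x) (F.presheaf.stalk x) := Module.Free.of_basis bs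
      haveI : Module.Finite (X.presheaf.stalk x) (F.presheaf.stalk x) := Module.Finite.of_basis bs
      haveI : Nonempty (Fin n) := ⟨⟨0, hn⟩⟩
      haveI : Nontrivial (F.presheaf.stalk x) := bs.equivFun.toEquiv.nontrivial
      refine ⟨inferInstance, ?_⟩
      obtain ⟨d, hd, -⟩ := RLR.exists_nat_of_le
        (ringKrullDim_nonneg_of_nontrivial (R := X.presheaf.stalk x))
        (ringKrullDim_le_spanFinrank_maximalIdeal _)
      have h1 : LocCoh.depth (X.presheaf.stalk x) (F.presheaf.stalk x) = d := by
        rw [depth_free (F.presheaf.stalk x), depth_eq_of_isRegularLocalRing hd]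
      have h2 : Module.supportDim (X.presheaf.stalk x) (F.presheaf.stalk x) =
          ringKrullDim (X.presheaf.stalk x) :=
        supportDim_eq_of_annihilator_eq_bot (Module.annihilator_eq_bot.mpr inferInstance)
      unfold LocCoh.IsCohenMacaulayModule
      rw [h1, h2, hd]
      rfl
    refine ⟨?_, fun x => (key x).2⟩
    rw [Set.eq_univ_iff_forall]
    intro x
    haveI := (key x).1
    show ¬ Subsingleton (F.presheaf.stalk x)
    exact not_subsingleton _

end Groth.Agent.S0828
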