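import Groth.Statements.S0857
import Mathlib

set_option autoImplicit false
universe u
open CategoryTheory
open CohSite

namespace Groth.Agent.S0857

section helpers

open CategoryTheory.Limits CategoryTheory.Abelian

variable {A : Type*} [Category A] [Abelian A] [HasExt.{u} A] [EnoughInjectives A]

lemma ext_one_pi_injective {I : Type*} [HasProductsOfShape I A] (F : I → A) (Z : A)
    (x : Abelian.Ext.{u} Z (∏ᶜ F) 1)
    (hx : ∀ i, x.comp (Ext.mk₀ (Pi.π F i)) (add_zero 1) = 0) : x = 0 := by
  -- injective presentations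
  let P : ∀ i, InjectivePresentation (F i) := fun i => Classical.arbitrary _
  let Si : ∀ i, ShortComplex A := fun i => ShortComplex.mk _ _ (cokernel.condition (P i).f)
  have hSi : ∀ i, (Si i).ShortExact := fun i =>
    { exact := ShortComplex.exact_cokernel (P i).f }
  have hinj : ∀ i, Injective (P i).J := fun i => (P i).injective
  let j : ∏ᶜ F ⟶ ∏ᶜ (fun i => (P i).J) := Limits.Pi.map (fun i => (P i).f)
  have hjm : Mono j := inferInstance
  let S := ShortComplex.mk _ _ (cokernel.condition j)
  have hS : S.ShortExact := { exact := ShortComplex.exact_cokernel j }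
  have hIinj : Injective S.X₂ := inferInstanceAs (Injective (∏ᶜ (fun i => (P i).J)))
  obtain ⟨y, hy⟩ := Ext.covariant_sequence_exact₁ Z hS x (Ext.eq_zero_of_injective _) rfl
  obtain ⟨s, rfl⟩ := (Ext.mk₀_bijective _ _).2 y
  -- the maps Q' → Q_i
  let qi : ∀ i, S.X₃ ⟶ (Si i).X₃ := fun i =>
    cokernel.desc j (Pi.π _ i ≫ (Si i).g) (by
      change Limits.Pi.map (fun i => (P i).f) ≫ Pi.π _ i ≫ (Si i).g = 0
      rw [Limits.Pi.map_π_assoc]
      exact (by rw [(Si i).zero, comp_zero] : Pi.π F i ≫ (Si i).f ≫ (Si i).g = 0))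
  let φ : ∀ i, S ⟶ Si i := fun i =>
    ShortComplex.homMk (Pi.π F i) (Pi.π _ i) (qi i)
      (Limits.Pi.map_π (fun i => (P i).f) i).symm
      (cokernel.π_desc _ _ _).symm
  have hl : ∀ i, ∃ l : Z ⟶ (Si i).X₂, l ≫ (Si i).g = s ≫ qi i := by
    intro i
    have hnat := ShortComplex.ShortExact.extClass_naturality hS (hSi i) (φ i)
    have h0 : (Ext.mk₀ (s ≫ qi i)).comp (hSi i).extClass (zero_add 1) = 0 := by
      rw [← Ext.mk₀_comp_mk₀, Ext.comp_assoc_of_second_deg_zero]
      have : (Ext.mk₀ (qi i)).comp (hSi i).extClass (zero_add 1) =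
          hS.extClass.comp (Ext.mk₀ (Pi.π F i)) (add_zero 1) := hnat.symm
      rw [this, ← Ext.comp_assoc_of_third_deg_zero, hy]
      exact hx i
    obtain ⟨x₂, hx₂⟩ := Ext.covariant_sequence_exact₃ Z (hSi i) (Ext.mk₀ (s ≫ qi i)) rfl h0
    obtain ⟨l, rfl⟩ := (Ext.mk₀_bijective _ _).2 x₂
    rw [Ext.mk₀_comp_mk₀] at hx₂
    exact ⟨l, (Ext.mk₀_bijective _ _).1 hx₂⟩
  choose l hl using hl
  -- the comparison Q' → ∏ Q_i is mono
  let m : S.X₃ ⟶ ∏ᶜ (fun i => (Si i).X₃) := Pi.lift qi
  have hm : Mono m := by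
    refine Preadditive.mono_of_cancel_zero _ (fun {T} t ht => ?_)
    have hepi : Epi S.g := hS.epi_g
    obtain ⟨T', e, he, t', ht'⟩ := (epi_iff_surjective_up_to_refinements S.g).1 hepi t
    have hk : ∀ i, ∃ w : T' ⟶ F i, w ≫ (P i).f = t' ≫ Pi.π _ i := by
      intro i
      have hz : (t' ≫ Pi.π _ i) ≫ (Si i).g = 0 := by
        have h1 : Pi.π _ i ≫ (Si i).g = S.g ≫ qi i := (cokernel.π_desc _ _ _).symm
        rw [Category.assoc, h1, ← Category.assoc, ← ht', Category.assoc]
        have : t ≫ qi i = (t ≫ m) ≫ Pi.π _ i := by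
          rw [Category.assoc, Pi.lift_π]
        rw [this, ht, zero_comp, comp_zero]
      exact ⟨(hSi i).exact.lift _ hz, (hSi i).exact.lift_f _ hz⟩
    choose w hw using hk
    have : t' = Pi.lift w ≫ j := by
      apply Pi.hom_ext
      intro i
      rw [Category.assoc, Limits.Pi.map_π, Pi.lift_π_assoc, hw]
    have h2 : e ≫ t = 0 := by
      rw [ht', this, Category.assoc]
      have : j ≫ S.g = 0 := S.zero
      rw [this, comp_zero]
    exact (cancel_epi e).1 (h2.trans comp_zero.symm)
  have hls : Pi.lift l ≫ S.g = s := by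
    rw [← cancel_mono m]
    apply Pi.hom_ext
    intro i
    have h1 : S.g ≫ qi i = Pi.π _ i ≫ (Si i).g := cokernel.π_desc _ _ _
    have h2 : m ≫ Pi.π _ i = qi i := Pi.lift_π _ _
    rw [Category.assoc, Category.assoc, h2, h1, Pi.lift_π_assoc, hl, Category.assoc, h2]
  rw [← hy, ← hls, ← Ext.mk₀_comp_mk₀, Ext.comp_assoc_of_second_deg_zero,
    ShortComplex.ShortExact.comp_extClass, Ext.comp_zero]

end helpers

open Opposite CategoryTheory.Limits in
/-- For a family of abelian sheaves F_i on a site and an object U, the map H^1(U, ∏ F_i) -> ∏ H^1(U,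
F_i) induced by the projections is injective. (The degree-zero part of the published statement, that
sections of a product are the product of sections, is not restated.) -/
theorem result {C : Type u} [SmallCategory C] {J : GrothendieckTopology C}
    {I : Type u} (F : I → Sheaf J AddCommGrpCat.{u}) (U : C) :
    Function.Injective (fun (x : CohSite.HU (∏ᶜ F) 1 U) (i : I) =>
      (((Sheaf.cohomologyPresheafFunctor J 1).map (Pi.π F i)).app (op U)).hom x) := by
  let Φ : HU (∏ᶜ F) 1 U →+ (∀ i, HU (F i) 1 U) := AddMonoidHom.pi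
    (fun i => (((Sheaf.cohomologyPresheafFunctor J 1).map (Pi.π F i)).app (op U)).hom)
  have hΦ : Function.Injective Φ := by
    rw [injective_iff_map_eq_zero]
    intro x hx
    apply ext_one_pi_injective F _ x
    intro i
    exact congrFun hx i
  exact hΦ

end Groth.Agent.S0857
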