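import Groth.Statements.S0937
import Mathlib
import Groth.Agent.Lib.Helper10.ExtAdj
import Groth.Agent.Lib.Helper10.LanExact
import Groth.Agent.S0482

set_option autoImplicit false
universe u
open CategoryTheory
open CohSite

namespace Groth.Agent.S0937

section helpers

open CategoryTheory.Limits Opposite

variable {C D : Type u} [SmallCategory C] [SmallCategory D]
    (J : GrothendieckTopology C) (K : GrothendieckTopology D) (u : C ⥤ D) (U : C)

/-- The composite `C/U ⥤ C ⥤ D`. -/
abbrev hh : Over U ⥤ D := Over.forget U ⋙ u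

instance hh_cont [u.IsContinuous J K] : (hh u U).IsContinuous (J.over U) K :=
  Functor.isContinuous_comp _ _ (J.over U) J K

instance hh_cocont [u.IsCocontinuous J K] : (hh u U).IsCocontinuous (J.over U) K :=
  isCocontinuous_comp _ _ (J.over U) J

theorem hasEqualizers_over [HasPullbacks C] : HasEqualizers (Over U) := by
  have : HasFiniteLimits (Over U) := hasFiniteLimits_of_hasTerminal_and_pullbacks
  infer_instance

theorem hh_preservesEqualizers [HasPullbacks C] [PreservesLimitsOfShape WalkingCospan u] :
    PreservesLimitsOfShape WalkingParallelPair (hh u U) := by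
  have h0 : PreservesLimitsOfShape WalkingCospan (Over.post (X := U) u ⋙ Over.forget (u.obj U)) :=
    (inferInstance : PreservesLimitsOfShape WalkingCospan (Over.forget U ⋙ u))
  have h1 : PreservesLimitsOfShape WalkingCospan (Over.post (X := U) u) :=
    preservesLimitsOfShape_of_reflects_of_preserves (Over.post (X := U) u) (Over.forget (u.obj U))
  have h2 : PreservesLimit (Functor.empty.{0} (Over U)) (Over.post (X := U) u) := by
    have hT' : IsTerminal ((Over.post (X := U) u).obj (Over.mk (𝟙 U))) :=
      IsTerminal.ofIso Over.mkIdTerminal (Over.isoMk (Iso.refl _) (by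
        show 𝟙 (u.obj U) ≫ u.map (𝟙 U) = 𝟙 (u.obj U)
        simp))
    exact preservesLimit_of_preserves_limit_cone Over.mkIdTerminal
      ((isLimitMapConeEmptyConeEquiv _ _).symm hT')
  have : HasFiniteLimits (Over U) := hasFiniteLimits_of_hasTerminal_and_pullbacks
  have hpe : PreservesLimitsOfShape (Discrete PEmpty.{1}) (Over.post (X := U) u) :=
    preservesLimitsOfShape_pempty_of_preservesTerminal _
  have h3 : PreservesFiniteLimits (Over.post (X := U) u) :=
    preservesFiniteLimits_of_preservesTerminal_and_pullbacks _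
  exact (inferInstance :
    PreservesLimitsOfShape WalkingParallelPair (Over.post (X := U) u ⋙ Over.forget (u.obj U)))

variable [u.IsContinuous J K]

/-- `h_!`. -/
noncomputable abbrev shriek : Sheaf (J.over U) AddCommGrpCat.{u} ⥤ Sheaf K AddCommGrpCat.{u} :=
  (hh u U).sheafPullback AddCommGrpCat.{u} (J.over U) K

/-- `h⁻¹`. -/
noncomputable abbrev pull : Sheaf K AddCommGrpCat.{u} ⥤ Sheaf (J.over U) AddCommGrpCat.{u} :=
  (hh u U).sheafPushforwardContinuous AddCommGrpCat.{u} (J.over U) K

noncomputable abbrev adj : shriek J K u U ⊣ pull J K u U :=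
  (hh u U).sheafAdjunctionContinuous AddCommGrpCat.{u} (J.over U) K

/-- `h_! ℤ`. -/
noncomputable abbrev MU : Sheaf K AddCommGrpCat.{u} :=
  (shriek J K u U).obj ((constantSheaf (J.over U) AddCommGrpCat.{u}).obj
    (AddCommGrpCat.of (ULift.{u} ℤ)))

noncomputable abbrev adjM :
    constantSheaf (J.over U) AddCommGrpCat.{u} ⋙ shriek J K u U ⊣
      pull J K u U ⋙ (sheafSections (J.over U) AddCommGrpCat.{u}).obj (op (Over.mk (𝟙 U))) :=
  (constantSheafAdj (J.over U) AddCommGrpCat.{u} Over.mkIdTerminal).comp (adj J K u U)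

/-- Maps out of `h_! ℤ` are sections over `u U`. -/
noncomputable def e₂ (G : Sheaf K AddCommGrpCat.{u}) :
    (MU J K u U ⟶ G) ≃ G.obj.obj (op (u.obj U)) :=
  ((adjM J K u U).homEquiv (AddCommGrpCat.of (ULift.{u} ℤ)) G).trans
    (AddCommGrpCat.uliftZMultiplesAddEquiv (G.obj.obj (op (u.obj U)))).toEquiv

lemma e₂_nat {G G' : Sheaf K AddCommGrpCat.{u}} (g : MU J K u U ⟶ G) (f : G ⟶ G') :
    e₂ J K u U G' (g ≫ f) = (f.hom.app (op (u.obj U))) (e₂ J K u U G g) := by
  simp only [e₂, Equiv.trans_apply]
  rw [Adjunction.homEquiv_naturality_right]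
  rfl

/-- The free abelian sheaf on `u U` is `h_! ℤ`. -/
noncomputable def isoLM : Groth.Agent.S0482.LU K (u.obj U) ≅ MU J K u U :=
  Groth.Agent.S0482.isoOfCorep (fun G : Sheaf K AddCommGrpCat.{u} => G.obj.obj (op (u.obj U)))
    (fun f t => (f.hom.app (op (u.obj U))) t) (Groth.Agent.S0482.e₁ K (u.obj U)) (e₂ J K u U)
    (fun g f => Groth.Agent.S0482.e₁_nat K (u.obj U) g f) (fun g f => e₂_nat J K u U g f)

theorem main [HasPullbacks C] [PreservesLimitsOfShape WalkingCospan u] [u.IsCocontinuous J K]
    (F : Sheaf K AddCommGrpCat.{u}) (p : ℕ) :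
    Nonempty (CohSite.HU ((CohSite.push K J u).obj F) p U ≃+ CohSite.HU F p (u.obj U)) := by
  have := hasEqualizers_over (C := C) U
  have := hh_preservesEqualizers u U
  have h1 : PreservesFiniteLimits (shriek J K u U) :=
    Groth.Agent.Helper10.LanExact.preservesFiniteLimits_sheafPullback_ab (hh u U) (J.over U) K
  have h2 : PreservesFiniteColimits (shriek J K u U) := by
    have : PreservesColimitsOfSize.{0, 0} (shriek J K u U) :=
      (adj J K u U).leftAdjoint_preservesColimits
    exact PreservesColimitsOfSize.preservesFiniteColimits _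
  have h3 : PreservesFiniteLimits (pull J K u U) := by
    have : PreservesLimitsOfSize.{0, 0} (pull J K u U) :=
      (adj J K u U).rightAdjoint_preservesLimits
    exact PreservesLimitsOfSize.preservesFiniteLimits _
  have h4 : PreservesFiniteColimits (pull J K u U) := by
    have : PreservesColimitsOfSize.{0, 0} (pull J K u U) :=
      ((hh u U).sheafAdjunctionCocontinuous AddCommGrpCat.{u} (J.over U)
        K).leftAdjoint_preservesColimits
    exact PreservesColimitsOfSize.preservesFiniteColimits _
  have : (shriek J K u U).Additive := (adj J K u U).left_adjoint_additive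
  obtain ⟨e0⟩ := Groth.Agent.S0482.result J ((CohSite.push K J u).obj F) U p
  let i0 : ((CohSite.push K J u).obj F).over U ≅ (pull J K u U).obj F := Iso.refl _
  refine ⟨e0.trans ((Groth.Agent.Helper10.ExtAdj.extCongrRight _ i0 p).trans ?_)⟩
  refine ((Groth.Agent.Helper10.ExtAdj.extAdjEquiv (adj J K u U) _ F p).symm).trans ?_
  exact (Groth.Agent.Helper10.ExtAdj.extCongrLeft (isoLM J K u U) F p)


end helpers

/-- Part (1), for a single abelian sheaf: let u : C -> D be a functor between sites which is continuous
(preserving coverings and commuting with fibre products, which exist in C) and cocontinuous, F an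
abelian sheaf on D and U an object of C. Then H^p(U, g^{-1}F) ≅ H^p(u(U), F) for all p, where
g^{-1}F is the sheaf V ↦ F(u(V)). -/
theorem result {C D : Type u} [SmallCategory C] [SmallCategory D]
    [Limits.HasPullbacks C] (J : GrothendieckTopology C) (K : GrothendieckTopology D) (u : C ⥤ D)
    [u.IsContinuous J K] (hu : CoverPreserving J K u) [Limits.PreservesLimitsOfShape Limits.WalkingCospan u]
    [u.IsCocontinuous J K]
    (F : Sheaf K AddCommGrpCat.{u}) (U : C) (p : ℕ) :
    Nonempty (CohSite.HU ((CohSite.push K J u).obj F) p U ≃+ CohSite.HU F p (u.obj U)) := by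
  exact main J K u U F p
end Groth.Agent.S0937
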