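import Groth.Statements.S0863
import Groth.Agent.Lib.Helper24.FrRing2
import Groth.Agent.Lib.Helper24.LerayFree

set_option autoImplicit false
universe u
open CategoryTheory
open CohSite

namespace Groth.Agent.S0863

open Groth.Agent.Helper24 Groth.Agent.Helper24.GSS Groth.Agent.Helper24.FrRing
open Groth.Agent.Helper24.FrMod (TF tf_of_mono enough_tf tf_free)

open CategoryTheory.Limits in
/-- Let C and D be small sites, D having finite limits, and u : D → C a continuous functor that
preserves finite limits and sends coverings to coverings, so that u defines a morphism of sites f :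
C → D. Let O_C be a sheaf of rings on C and I an injective object of the category of sheaves of
O_C-modules. Then the abelian sheaf on D underlying f_* I, namely V ↦ I(u(V)), is totally acyclic:
its cohomology with respect to every sheaf of sets on D vanishes in positive degrees. The published
statement is for a morphism of ringed sites (C, O_C) → (D, O_D); stated here in the case O_D = f_*
O_C, where only the underlying abelian sheaf of f_* I matters. -/
theorem result {C D : Type u} [SmallCategory C] [SmallCategory D]
    [HasFiniteLimits D] (J : GrothendieckTopology C) (K : GrothendieckTopology D) (u : D ⥤ C)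
    (hu : CoverPreserving K J u) [PreservesFiniteLimits u] [u.IsContinuous K J]
    (R : Sheaf J RingCat.{u}) (I : SheafOfModules.{u} R) [Injective I] :
    CohCx.IsTotallyAcyclic ((CohSite.push J K u).obj ((SheafOfModules.toSheaf R).obj I)) := by
  have hflat : RepresentablyFlat u := flat_of_preservesFiniteLimits u
  let pull := u.sheafPullback AddCommGrpCat.{u} K J
  have hlim : PreservesFiniteLimits pull := by
    have := @reflectsLimits_of_reflectsIsomorphisms
    apply Functor.sheafPullbackConstruction.preservesFiniteLimits
  let adj : pull ⊣ CohSite.push J K u := LerayFree.adj J K u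
  have hcolim : PreservesFiniteColimits pull := by
    have : PreservesColimitsOfSize.{0, 0} pull := adj.leftAdjoint_preservesColimits
    exact PreservesColimitsOfSize.preservesFiniteColimits _
  have hadd : pull.Additive := adj.left_adjoint_additive
  intro L p
  refine subsingleton_of_forall_eq 0 fun ξ => ?_
  refine ExtVanish.ext_eq_zero ((CohSite.push J K u).obj ((SheafOfModules.toSheaf R).obj I)) TF
    (fun X => enough_tf X)
    (fun S hS h2 _ => by
      have := hS.mono_f
      exact tf_of_mono S.f h2)
    (fun S hS h3 η => ?_) p _ (tf_free L.obj) ξ
  have hS' : (S.map pull).ShortExact := hS.map_of_exact pull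
  have h3' : TF (S.map pull).X₃ := by
    intro n hn
    have := h3 n hn
    have e : pull.map (n • 𝟙 S.X₃) = n • 𝟙 (pull.obj S.X₃) := by
      rw [Functor.map_nsmul, CategoryTheory.Functor.map_id]
    show Mono (n • 𝟙 (pull.obj S.X₃))
    rw [← e]
    infer_instance
  let η' : (S.map pull).X₁ ⟶ (toAbF R).obj I := (adj.homEquiv _ _).symm η
  obtain ⟨ζ', hζ'⟩ := extend_toAb I hS' h3' η'
  refine ⟨adj.homEquiv _ _ ζ', ?_⟩
  have h1 : pull.map S.f ≫ ζ' = η' := hζ'
  have h2 := adj.homEquiv_naturality_left S.f ζ'
  rw [h1] at h2
  rw [← h2]
  exact Equiv.apply_symm_apply _ _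

end Groth.Agent.S0863
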