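import Groth.Statements.S0864
import Mathlib.CategoryTheory.Sites.Adjunction
-- import your own Groth.Agent.* helpers here

set_option autoImplicit false
universe u
open CategoryTheory
open CohSite

namespace Groth.Agent.S0864

open Abelian in
lemma subsingleton_ext_of_iso {A : Type*} [Category A] [Abelian A] [HasExt A]
    {X X' F : A} (e : X ≅ X') (n : ℕ) [h : Subsingleton (Ext X' F n)] :
    Subsingleton (Ext X F n) := by
  refine ⟨fun x y => ?_⟩
  have key : ∀ z : Ext X F n, z = (Ext.mk₀ e.hom).comp ((Ext.mk₀ e.inv).comp z (zero_add n)) (zero_add n) := by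
    intro z
    rw [Ext.mk₀_comp_mk₀_assoc, e.hom_inv_id, Ext.mk₀_id_comp]
  rw [key x, key y, Subsingleton.elim ((Ext.mk₀ e.inv).comp x (zero_add n)) ((Ext.mk₀ e.inv).comp y (zero_add n))]

variable {C : Type u} [SmallCategory C] (J : GrothendieckTopology C)

/-- free-sheaf functor on presheaves of sets -/
noncomputable abbrev freeA : (Cᵒᵖ ⥤ Type u) ⥤ Sheaf J AddCommGrpCat.{u} :=
  (Functor.whiskeringRight Cᵒᵖ _ _).obj AddCommGrpCat.free.{u} ⋙ presheafToSheaf J AddCommGrpCat.{u}

noncomputable def adjA : freeA J ⊣ sheafToPresheaf J AddCommGrpCat.{u} ⋙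
    (Functor.whiskeringRight Cᵒᵖ _ _).obj (forget AddCommGrpCat.{u}) :=
  (Adjunction.whiskerRight Cᵒᵖ AddCommGrpCat.adj.{u}).comp (sheafificationAdjunction J AddCommGrpCat.{u})

noncomputable abbrev freeB : (Cᵒᵖ ⥤ Type u) ⥤ Sheaf J AddCommGrpCat.{u} :=
  presheafToSheaf J (Type u) ⋙ Sheaf.composeAndSheafify J AddCommGrpCat.free.{u}

noncomputable def adjB : freeB J ⊣ sheafCompose J (forget AddCommGrpCat.{u}) ⋙ sheafToPresheaf J (Type u) :=
  (sheafificationAdjunction J (Type u)).comp (Sheaf.adjunction J AddCommGrpCat.adj.{u})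

noncomputable def freeIso : freeA J ≅ freeB J :=
  (adjA J).leftAdjointUniq ((adjB J).ofNatIsoRight (Iso.refl _))

theorem aux {J : GrothendieckTopology C}
    (F : Sheaf J AddCommGrpCat.{u}) (hF : CohCx.IsTotallyAcyclic F) (U : C) (p : ℕ) :
    Subsingleton (CohSite.HU F (p + 1) U) := by
  have h := hF ((presheafToSheaf J (Type u)).obj (yoneda.obj U)) p
  have e := (freeIso J).app (yoneda.obj U)
  exact subsingleton_ext_of_iso e (p + 1) (h := h)

/-- A totally acyclic abelian sheaf F on a site satisfies H^p(U, F) = 0 for every object U and every p >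
0. -/
theorem result {C : Type u} [SmallCategory C] {J : GrothendieckTopology C}
    (F : Sheaf J AddCommGrpCat.{u}) (hF : CohCx.IsTotallyAcyclic F) (U : C) (p : ℕ) :
    Subsingleton (CohSite.HU F (p + 1) U) := by
  exact aux F hF U p

end Groth.Agent.S0864
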