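import Groth.Statements.S0869
import Groth.Agent.Lib.Helper24.RlimLim8

set_option autoImplicit false
universe u
open CategoryTheory
open CohTop

namespace Groth.Agent.S0869


open TopologicalSpace Opposite CategoryTheory.Limits in

open TopologicalSpace Opposite CategoryTheory.Limits in
/-- Let (K_n) be an inverse system in the derived category of abelian sheaves on X with a derived limit
L, and B a basis of opens such that for U in B and all q: H^p(U, H^q(K_n)) = 0 for p > 0, and the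
inverse system of sections H^q(K_n)(U) has vanishing R^1 lim. Then H^q(L) is isomorphic to lim_n
H^q(K_n) for every q. -/
theorem result {X : TopCat.{u}} [HasDerivedCategory.{u} (CohTop.Ab X)]
    (K : ℕ → DerivedCategory (CohTop.Ab X)) (t : ∀ n, K (n + 1) ⟶ K n) [HasProduct K]
    (L : DerivedCategory (CohTop.Ab X)) (hL : DCoh.IsRlim K t L)
    (B : Set (Opens X)) (hB : Opens.IsBasis B)
    (h1 : ∀ U ∈ B, ∀ (p : ℕ) (q : ℤ) (n : ℕ), Subsingleton (CohTop.HU (CohCx.HD (K n) q) (p + 1) U))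
    (h2 : ∀ U ∈ B, ∀ (q : ℤ), CohCx.LimOneIsZero (fun n => (CohCx.HD (K n) q).obj.obj (op U))
      (fun n => (((DerivedCategory.homologyFunctor (CohTop.Ab X) q).map (t n)).hom.app (op U)).hom))
    (q : ℤ) :
    Nonempty (CohCx.HD L q ≅ limit (CohCx.opSequence (fun n => CohCx.HD (K n) q)
      (fun n => (DerivedCategory.homologyFunctor (CohTop.Ab X) q).map (t n)))) := by
  have hB' : ∀ U : Opens X, ∃ (ι : Type u) (Y : ι → Opens X) (f : ∀ i, Y i ⟶ U),
      Sieve.ofArrows Y f ∈ Opens.grothendieckTopology X U ∧ ∀ i, Y i ∈ B := by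
    intro U
    refine ⟨{V : Opens X // V ∈ B ∧ V ≤ U}, fun i => i.1, fun i => homOfLE i.2.2, ?_, fun i => i.2.1⟩
    intro x hxU
    obtain ⟨V, hV, hxV, hVU⟩ := Opens.isBasis_iff_nbhd.1 hB hxU
    exact ⟨V, homOfLE hVU, Sieve.ofArrows_mk _ _ (⟨V, hV, hVU⟩ : {V : Opens X // V ∈ B ∧ V ≤ U}), hxV⟩
  obtain ⟨a, c, hc⟩ := hL
  have hL' : CohCx.IsRlimVia K t L (fun n => a ≫ Pi.π K n) := by
    refine ⟨c, ?_⟩
    have : Pi.lift (fun n => a ≫ Pi.π K n) = a := by
      apply Pi.hom_ext
      intro n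
      rw [Pi.lift_π]
    rw [this]
    exact hc
  have := Groth.Agent.Helper24.RlimLim.isIso_Φ K t L _ hL' B hB' h1 h2 q
  exact ⟨asIso (Groth.Agent.Helper24.RlimLim.Φ K t L _ hL' q)⟩

end Groth.Agent.S0869
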