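import Groth.Statements.S0870
import Groth.Agent.Lib.Helper24.RlimLim6

set_option autoImplicit false
universe u
open CategoryTheory
open CohTop

namespace Groth.Agent.S0870


open TopologicalSpace Opposite CategoryTheory.Limits in

open TopologicalSpace Opposite CategoryTheory.Limits in
/-- Let (F_n) be an inverse system of abelian sheaves on X and B a basis of opens such that H^p(U, F_n)
= 0 for p > 0 and U in B, and the system of sections F_n(U) has vanishing R^1 lim for U in B. Then
lim F_n (placed in degree zero) is a derived limit of the system (F_n) in the derived category, and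
H^p(U, lim F_n) = 0 for p > 0 and U in B. -/
theorem result {X : TopCat.{u}} [HasDerivedCategory.{u} (CohTop.Ab X)]
    (F : ℕ → CohTop.Ab X) (t : ∀ n, F (n + 1) ⟶ F n)
    [HasProduct fun n => (DerivedCategory.singleFunctor (CohTop.Ab X) 0).obj (F n)]
    (B : Set (Opens X)) (hB : Opens.IsBasis B)
    (h1 : ∀ U ∈ B, ∀ (p n : ℕ), Subsingleton (CohTop.HU (F n) (p + 1) U))
    (h2 : ∀ U ∈ B, CohCx.LimOneIsZero (fun n => (F n).obj.obj (op U))
      (fun n => ((t n).hom.app (op U)).hom)) :
    DCoh.IsRlim (fun n => (DerivedCategory.singleFunctor (CohTop.Ab X) 0).obj (F n))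
      (fun n => (DerivedCategory.singleFunctor (CohTop.Ab X) 0).map (t n))
      ((DerivedCategory.singleFunctor (CohTop.Ab X) 0).obj (limit (CohCx.opSequence F t))) ∧
    ∀ U ∈ B, ∀ p : ℕ, Subsingleton (CohTop.HU (limit (CohCx.opSequence F t)) (p + 1) U) := by
  have hB' : ∀ U : Opens X, ∃ (ι : Type u) (Y : ι → Opens X) (f : ∀ i, Y i ⟶ U),
      Sieve.ofArrows Y f ∈ Opens.grothendieckTopology X U ∧ ∀ i, Y i ∈ B := by
    intro U
    refine ⟨{V : Opens X // V ∈ B ∧ V ≤ U}, fun i => i.1, fun i => homOfLE i.2.2, ?_, fun i => i.2.1⟩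
    intro x hxU
    obtain ⟨V, hV, hxV, hVU⟩ := Opens.isBasis_iff_nbhd.1 hB hxU
    exact ⟨V, homOfLE hVU, Sieve.ofArrows_mk _ _ (⟨V, hV, hVU⟩ : {V : Opens X // V ∈ B ∧ V ≤ U}), hxV⟩
  have h1' : ∀ U ∈ B, ∀ (p n : ℕ),
      Subsingleton (Abelian.Ext.{u} (CohCx.freeSheaf (Opens.grothendieckTopology X) U) (F n) (p + 1)) :=
    fun U hU p n => h1 U hU p n
  refine ⟨Groth.Agent.Helper24.RlimLim.isRlim_limit F t B hB' h1' h2, fun U hU p => ?_⟩
  exact Groth.Agent.Helper24.RlimLim.subsingleton_ext_limit F t B hB' h1' h2 U hU p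

end Groth.Agent.S0870
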