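import Groth.Statements.S0873
import Groth.Agent.Lib.Helper24.DerMV
import Groth.Agent.Lib.Helper24.ShExact
import Groth.Agent.Lib.Helper24.GlueTwo
import Groth.Agent.Lib.Helper24.Flasque

set_option autoImplicit false
universe u
open CategoryTheory
open CohTop

namespace Groth.Agent.S0873

open CategoryTheory.Limits
open TopologicalSpace
open Opposite
open Groth.Agent.Helper24
open Groth.Agent.Helper24.GlueTwo

variable {X Y : TopCat.{u}} (f : X ⟶ Y)

/-- the open `U ∩ f⁻¹ W` as it appears in the restricted pushforward -/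
noncomputable abbrev OU (U : Opens X) (W : Opens Y) : Opens X :=
  (U.isOpenEmbedding.isOpenMap.functor).obj ((Opens.map (CohCx.incl U ≫ f)).obj W)

lemma mem_OU (U : Opens X) (W : Opens Y) (x : X) : x ∈ OU f U W ↔ x ∈ U ∧ f x ∈ W := by
  constructor
  · rintro ⟨y, hy, rfl⟩
    exact ⟨y.2, hy⟩
  · rintro ⟨h1, h2⟩
    exact ⟨⟨x, h1⟩, h2, rfl⟩

lemma OU_le (U : Opens X) (W : Opens Y) : OU f U W ≤ (Opens.map f).obj W := by
  intro x hx
  exact ((mem_OU f U W x).1 hx).2

lemma OU_mono {U V : Opens X} (h : V ≤ U) (W : Opens Y) : OU f V W ≤ OU f U W := by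
  intro x hx
  rw [mem_OU] at hx ⊢
  exact ⟨h hx.1, hx.2⟩

lemma le_sup_OU {U V : Opens X} (hUV : U ⊔ V = ⊤) (W : Opens Y) :
    (Opens.map f).obj W ≤ OU f U W ⊔ OU f V W := by
  intro x hx
  have hx' : x ∈ U ⊔ V := by rw [hUV]; trivial
  rcases hx' with h | h
  · exact Or.inl ((mem_OU f U W x).2 ⟨h, hx⟩)
  · exact Or.inr ((mem_OU f V W x).2 ⟨h, hx⟩)

lemma inf_OU_le (U V : Opens X) (W : Opens Y) : OU f U W ⊓ OU f V W ≤ OU f (U ⊓ V) W := by
  rintro x ⟨h1, h2⟩
  rw [SetLike.mem_coe, mem_OU] at h1 h2
  exact (mem_OU f (U ⊓ V) W x).2 ⟨⟨h1.1, h2.1⟩, h1.2⟩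

lemma pushTo_app (U : Opens X) (F : CohTop.Ab X) (W : Opens Y) (s) :
    (((CohCx.pushToRestrPush f U).app F).hom.app (op W)).hom s = res F (OU_le f U W) s := rfl

lemma restrTo_app {U V : Opens X} (h : V ≤ U) (F : CohTop.Ab X) (W : Opens Y) (s) :
    (((CohCx.restrPushToRestrPush f h).app F).hom.app (op W)).hom s = res F (OU_mono f h W) s := rfl

section Biprod
variable {C : Type u} [SmallCategory C] {J : GrothendieckTopology C}

/-- evaluation of abelian sheaves at an object -/
noncomputable abbrev EW (W : Cᵒᵖ) : Sheaf J AddCommGrpCat.{u} ⥤ AddCommGrpCat.{u} :=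
  sheafToPresheaf J AddCommGrpCat.{u} ⋙ (evaluation _ _).obj W

variable {A B T : Sheaf J AddCommGrpCat.{u}} (W : Cᵒᵖ)

lemma sec_total (y : (A ⊞ B).obj.obj W) :
    y = ((biprod.inl : A ⟶ A ⊞ B).hom.app W).hom (((biprod.fst : A ⊞ B ⟶ A).hom.app W).hom y) +
      ((biprod.inr : B ⟶ A ⊞ B).hom.app W).hom (((biprod.snd : A ⊞ B ⟶ B).hom.app W).hom y) := by
  have h := congrArg (fun t => ((EW (J := J) W).map t).hom y) (biprod.total (X := A) (Y := B))
  simp only [Functor.map_add, Functor.map_comp] at h
  exact h.symm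

lemma sec_lift_fst (φ : T ⟶ A) (ψ : T ⟶ B) (x : T.obj.obj W) :
    ((biprod.fst : A ⊞ B ⟶ A).hom.app W).hom (((biprod.lift φ ψ).hom.app W).hom x) =
      (φ.hom.app W).hom x :=
  congrArg (fun t => ((EW (J := J) W).map t).hom x) (biprod.lift_fst φ ψ)

lemma sec_lift_snd (φ : T ⟶ A) (ψ : T ⟶ B) (x : T.obj.obj W) :
    ((biprod.snd : A ⊞ B ⟶ B).hom.app W).hom (((biprod.lift φ ψ).hom.app W).hom x) =
      (ψ.hom.app W).hom x :=
  congrArg (fun t => ((EW (J := J) W).map t).hom x) (biprod.lift_snd φ ψ)

lemma sec_inl_desc (φ : A ⟶ T) (ψ : B ⟶ T) (a : A.obj.obj W) :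
    ((biprod.desc φ ψ).hom.app W).hom (((biprod.inl : A ⟶ A ⊞ B).hom.app W).hom a) =
      (φ.hom.app W).hom a :=
  congrArg (fun t => ((EW (J := J) W).map t).hom a) (biprod.inl_desc φ ψ)

lemma sec_inr_desc (φ : A ⟶ T) (ψ : B ⟶ T) (b : B.obj.obj W) :
    ((biprod.desc φ ψ).hom.app W).hom (((biprod.inr : B ⟶ A ⊞ B).hom.app W).hom b) =
      (ψ.hom.app W).hom b :=
  congrArg (fun t => ((EW (J := J) W).map t).hom b) (biprod.inr_desc φ ψ)

lemma sec_neg (φ : A ⟶ T) (a : A.obj.obj W) :
    ((-φ).hom.app W).hom a = -(φ.hom.app W).hom a := by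
  have h := congrArg (fun t : (EW (J := J) W).obj A ⟶ (EW (J := J) W).obj T => t.hom a)
    ((EW (J := J) W).map_neg (f := φ))
  exact h

lemma sec_ext (y z : (A ⊞ B).obj.obj W)
    (h1 : ((biprod.fst : A ⊞ B ⟶ A).hom.app W).hom y = ((biprod.fst : A ⊞ B ⟶ A).hom.app W).hom z)
    (h2 : ((biprod.snd : A ⊞ B ⟶ B).hom.app W).hom y = ((biprod.snd : A ⊞ B ⟶ B).hom.app W).hom z) :
    y = z := by
  rw [sec_total W y, sec_total W z, h1, h2]

end Biprod

open TopologicalSpace CategoryTheory.Limits in
/-- Let f : X -> Y be continuous, X = U ∪ V an open covering, and a, b, c the restrictions of f to U, V,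
U ∩ V. For an abelian sheaf F there are connecting maps making the long sequence 0 -> f_* F ->
a_*(F|_U) ⊕ b_*(F|_V) -> c_*(F|_{U ∩ V}) -> R^1 f_* F -> R^1 a_*(F|_U) ⊕ R^1 b_*(F|_V) -> ... exact,
where the unnamed maps are induced (sum, resp. difference) by restriction of sections and R^n
a_*(F|_U) denotes the n-th right derived functor of F ↦ a_*(F|_U) (and similarly for b, c).
Functoriality in F is not asserted. -/
theorem result {X Y : TopCat.{u}} (f : X ⟶ Y) (U V : Opens X) (hUV : U ⊔ V = ⊤)
    (F : CohTop.Ab X) :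
    ∃ δ : ∀ n : ℕ, (CohCx.RpushOn f (U ⊓ V) n).obj F ⟶ (CohTop.Rpush f (n + 1)).obj F,
      Mono (biprod.lift ((NatTrans.rightDerived (CohCx.pushToRestrPush f U) 0).app F)
        ((NatTrans.rightDerived (CohCx.pushToRestrPush f V) 0).app F)) ∧
      ∀ n : ℕ,
        (ComposableArrows.mk₂
          (biprod.lift ((NatTrans.rightDerived (CohCx.pushToRestrPush f U) n).app F)
            ((NatTrans.rightDerived (CohCx.pushToRestrPush f V) n).app F))
          (biprod.desc
            ((NatTrans.rightDerived (CohCx.restrPushToRestrPush f (inf_le_left : U ⊓ V ≤ U)) n).app F)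
            (-((NatTrans.rightDerived (CohCx.restrPushToRestrPush f (inf_le_right : U ⊓ V ≤ V)) n).app F)))).Exact ∧
        (ComposableArrows.mk₂
          (biprod.desc
            ((NatTrans.rightDerived (CohCx.restrPushToRestrPush f (inf_le_left : U ⊓ V ≤ U)) n).app F)
            (-((NatTrans.rightDerived (CohCx.restrPushToRestrPush f (inf_le_right : U ⊓ V ≤ V)) n).app F)))
          (δ n)).Exact ∧
        (ComposableArrows.mk₂ (δ n)
          (biprod.lift ((NatTrans.rightDerived (CohCx.pushToRestrPush f U) (n + 1)).app F)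
            ((NatTrans.rightDerived (CohCx.pushToRestrPush f V) (n + 1)).app F))).Exact := by
  have h : DerMV.Hyp (CohCx.pushToRestrPush f U) (CohCx.pushToRestrPush f V)
      (CohCx.restrPushToRestrPush f (inf_le_left : U ⊓ V ≤ U))
      (CohCx.restrPushToRestrPush f (inf_le_right : U ⊓ V ≤ V)) := by
    constructor
    · ext I W : 5
      induction W using Opposite.rec with | _ W => ?_
      ext s
      show res I (OU_mono f inf_le_left W) (res I (OU_le f U W) s) =
        res I (OU_mono f inf_le_right W) (res I (OU_le f V W) s)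
      rw [res_res, res_res]
    · intro I hI w
      have hfl := Flasque.isFlasque_of_injective I
      apply ShExact.shortExact_of_sections
      · intro W
        induction W using Opposite.rec with | _ W => ?_
        rw [injective_iff_map_eq_zero]
        intro x hx
        have h1 := sec_lift_fst (op W) ((CohCx.pushToRestrPush f U).app I)
          ((CohCx.pushToRestrPush f V).app I) x
        have h2 := sec_lift_snd (op W) ((CohCx.pushToRestrPush f U).app I)
          ((CohCx.pushToRestrPush f V).app I) x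
        erw [hx, map_zero] at h1 h2
        rw [pushTo_app] at h1 h2
        refine ext_two I (OU_le f U W) (OU_le f V W) (le_sup_OU f hUV W) x 0 ?_ ?_
        · exact h1.symm.trans (map_zero _).symm
        · exact h2.symm.trans (map_zero _).symm
      · intro W y hy
        induction W using Opposite.rec with | _ W => ?_
        let A' := (CohTop.restrFunctor U ⋙ CohTop.push (CohCx.incl U ≫ f)).obj I
        let B' := (CohTop.restrFunctor V ⋙ CohTop.push (CohCx.incl V ≫ f)).obj I
        let a : I.obj.obj (op (OU f U W)) :=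
          ((biprod.fst : A' ⊞ B' ⟶ A').hom.app (op W)).hom y
        let b : I.obj.obj (op (OU f V W)) :=
          ((biprod.snd : A' ⊞ B' ⟶ B').hom.app (op W)).hom y
        have hy' := hy
        have htot := sec_total (A := A') (B := B') (op W) y
        erw [htot, map_add, sec_inl_desc, sec_inr_desc, sec_neg] at hy'
        have hab : res I (OU_mono f inf_le_left W) a = res I (OU_mono f inf_le_right W) b :=
          add_neg_eq_zero.1 hy'
        have hab' : res I (inf_le_left : OU f U W ⊓ OU f V W ≤ OU f U W) a =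
            res I (inf_le_right : OU f U W ⊓ OU f V W ≤ OU f V W) b := by
          have := congrArg (res I (inf_OU_le f U V W)) hab
          rw [res_res, res_res] at this
          exact this
        obtain ⟨c, hc1, hc2⟩ := glue_two I (OU_le f U W) (OU_le f V W) (le_sup_OU f hUV W) a b hab'
        refine ⟨c, ?_⟩
        apply sec_ext (A := A') (B := B') (op W)
        · erw [sec_lift_fst, pushTo_app]
          exact hc1
        · erw [sec_lift_snd, pushTo_app]
          exact hc2
      · intro W c
        induction W using Opposite.rec with | _ W => ?_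
        let A' := (CohTop.restrFunctor U ⋙ CohTop.push (CohCx.incl U ≫ f)).obj I
        let B' := (CohTop.restrFunctor V ⋙ CohTop.push (CohCx.incl V ≫ f)).obj I
        have : Mono (homOfLE (OU_mono f (inf_le_left : U ⊓ V ≤ U) W)) :=
          ⟨fun _ _ _ => Subsingleton.elim _ _⟩
        obtain ⟨a, ha⟩ := Flasque.restrict_surjective_of_injective (Opens.grothendieckTopology X) I
          (homOfLE (OU_mono f (inf_le_left : U ⊓ V ≤ U) W)) c
        refine ⟨((biprod.inl : A' ⟶ A' ⊞ B').hom.app (op W)).hom a, ?_⟩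
        erw [sec_inl_desc, restrTo_app]
        exact ha
  let P := injectiveResolution F
  refine ⟨fun n => DerMV.δ h P n, DerMV.mono_zero h P, fun n => ⟨?_, ?_, ?_⟩⟩
  · exact (DerMV.exact₁ h P n).exact_toComposableArrows
  · exact (DerMV.exact₂ h P n).exact_toComposableArrows
  · exact (DerMV.exact₃ h P n).exact_toComposableArrows

end Groth.Agent.S0873
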