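import Groth.Statements.S0874
import Groth.Agent.Lib.Helper24.HDSheaf
import Groth.Agent.Lib.Helper24.RlimSeq2

set_option autoImplicit false
universe u
open CategoryTheory
open CohTop

namespace Groth.Agent.S0874

open Groth.Agent.Helper24.HDSheaf Groth.Agent.Helper24.RlimSeq
open Opposite TopologicalSpace CategoryTheory.Limits

open TopologicalSpace CategoryTheory.Limits in
/-- Let (K_n) be an inverse system in D(Ab X), the derived category of sheaves of abelian groups on X,
with derived limit L (through maps a_n : L -> K_n), x a point and m an integer. Suppose there are an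
index n(x) and a fundamental system of open neighbourhoods U of x such that (1) the inverse system
H^{m-1}(U, K_n) has vanishing R^1 lim and (2) for every n >= n(x), the transition map from H^m(U,
K_n) to H^m(U, K_{n(x)}) is one-to-one. Then a_{n(x)} induces an injection of stalks at x, from
H^m(L) into H^m(K_{n(x)}). -/
theorem result {X : TopCat.{u}} [HasDerivedCategory.{u} (CohTop.Ab X)]
    (K : ℕ → DerivedCategory (CohTop.Ab X)) (t : ∀ n, K (n + 1) ⟶ K n) [HasProduct K]
    (L : DerivedCategory (CohTop.Ab X)) (a : ∀ n, L ⟶ K n) (hL : CohCx.IsRlimVia K t L a)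
    (x : X) (m : ℤ) (nx : ℕ)
    (h : ∀ V : Opens X, x ∈ V → ∃ U : Opens X, x ∈ U ∧ U ≤ V ∧
      CohCx.LimOneIsZero (fun n => CohCx.HDU (K n) (m - 1) U)
        (fun n => Preadditive.rightComp _ ((shiftFunctor _ (m - 1)).map (t n))) ∧
      ∀ k : ℕ, Function.Injective
        (Preadditive.rightComp _ ((shiftFunctor _ m).map (CohCx.transition K t nx k)) :
          CohCx.HDU (K (nx + k)) m U → CohCx.HDU (K nx) m U)) :
    Function.Injective ((TopCat.Presheaf.stalkFunctor AddCommGrpCat.{u} x).map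
      ((DerivedCategory.homologyFunctor (CohTop.Ab X) m).map (a nx)).hom) := by
  let α := ((DerivedCategory.homologyFunctor (CohTop.Ab X) m).map (a nx)).hom
  let F : TopCat.Presheaf AddCommGrpCat.{u} X := (CohCx.HD L m).obj
  let G : TopCat.Presheaf AddCommGrpCat.{u} X := (CohCx.HD (K nx) m).obj
  change Function.Injective ((TopCat.Presheaf.stalkFunctor AddCommGrpCat.{u} x).map α).hom
  rw [injective_iff_map_eq_zero]
  intro ξ hξ
  obtain ⟨V₀, hx₀, γ, rfl⟩ := F.exists_germ_eq ξ
  have h1 : G.germ V₀ x hx₀ ((α.app (op V₀)).hom γ) = G.germ V₀ x hx₀ 0 := by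
    rw [map_zero]
    have := TopCat.Presheaf.stalkFunctor_map_germ_apply V₀ x hx₀ α γ
    exact this.symm.trans hξ
  obtain ⟨V₁, hx₁, i₁, i₁', h2⟩ := G.germ_eq x hx₀ hx₀ _ _ h1
  -- restrict to `V₁`
  let γ₁ := (F.map i₁.op).hom γ
  have hγ₁ : (α.app (op V₁)).hom γ₁ = 0 := by
    have hnat : (α.app (op V₁)).hom ((F.map i₁.op).hom γ) = (G.map i₁.op).hom ((α.app (op V₀)).hom γ) :=
      ConcreteCategory.congr_hom (α.naturality i₁.op) γ
    rw [hnat]
    have h2' : (G.map i₁.op).hom ((α.app (op V₀)).hom γ) = (G.map i₁'.op).hom 0 := h2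
    rw [h2', map_zero]
  obtain ⟨S₁, hS₁, h3⟩ := cSec_locally_surj L m V₁ γ₁
  obtain ⟨W, g, hg, hxW⟩ := hS₁ x hx₁
  obtain ⟨φ, hφ⟩ := h3 g hg
  have h4 : cSec (K nx) m W (φ ≫ (shiftFunctor _ m).map (a nx)) = 0 := by
    rw [cSec_postcomp, hφ]
    have hnat : (α.app (op W)).hom ((F.map g.op).hom γ₁) = (G.map g.op).hom ((α.app (op V₁)).hom γ₁) :=
      ConcreteCategory.congr_hom (α.naturality g.op) γ₁
    exact hnat.trans (by rw [hγ₁, map_zero])
  obtain ⟨S₂, hS₂, h5⟩ := cSec_locally_inj (K nx) m W _ h4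
  obtain ⟨W', g', hg', hxW'⟩ := hS₂ x hxW
  obtain ⟨U, hxU, hUW', hlim, hinj⟩ := h W' hxW'
  let j : U ⟶ W := homOfLE hUW' ≫ g'
  let φU : CohCx.HDU L m U := CohCx.HDUres L m j φ
  have h6 : (φU ≫ (shiftFunctor _ m).map (a nx) : CohCx.HDU (K nx) m U) = 0 := by
    have h7 := S₂.downward_closed hg' (homOfLE hUW')
    have h8 := h5 j h7
    change (DerivedCategory.singleFunctor _ 0).map (CohCx.freeSheafMap _ j) ≫
      (φ ≫ (shiftFunctor _ m).map (a nx)) = 0 at h8
    change ((DerivedCategory.singleFunctor _ 0).map (CohCx.freeSheafMap _ j) ≫ φ) ≫ _ = 0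
    rw [Category.assoc]
    exact h8
  have hφU : φU = 0 :=
    rlim_unique' hL ((DerivedCategory.singleFunctor _ 0).obj (CohCx.freeSheaf _ U)) m hlim nx hinj φU h6
  have h9 : (F.map j.op).hom ((F.map g.op).hom γ₁) = 0 := by
    rw [← hφ]
    have := cSec_res L m j φ
    rw [← this]
    change cSec L m U φU = 0
    rw [hφU, map_zero]
  -- conclude
  have e1 : F.germ V₀ x hx₀ γ = F.germ V₁ x hx₁ γ₁ := (F.germ_res_apply i₁ x hx₁ γ).symm
  have e2 : F.germ V₁ x hx₁ γ₁ = F.germ W x hxW ((F.map g.op).hom γ₁) :=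
    (F.germ_res_apply g x hxW γ₁).symm
  have e3 : F.germ W x hxW ((F.map g.op).hom γ₁) =
      F.germ U x hxU ((F.map j.op).hom ((F.map g.op).hom γ₁)) :=
    (F.germ_res_apply j x hxU _).symm
  rw [e1, e2, e3, h9, map_zero]
  try rfl

end Groth.Agent.S0874
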