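import Groth.Statements.S0875
import Groth.Agent.S0874
import Groth.Agent.Lib.Helper24.RlimTrunc2

set_option autoImplicit false
universe u
open CategoryTheory
open CohTop

namespace Groth.Agent.S0875


open Groth.Agent.Helper24.RlimTrunc

lemma isIso_of_comp_of_mono {D : Type*} [Category D] {X Y Z : D} (α : X ⟶ Y) (β : Y ⟶ Z)
    [Mono β] (h : IsIso (α ≫ β)) : IsIso α := by
  refine ⟨β ≫ inv (α ≫ β), ?_, ?_⟩
  · rw [← Category.assoc, IsIso.hom_inv_id]
  · apply (cancel_mono β).1
    rw [Category.assoc, Category.assoc, IsIso.inv_hom_id, Category.comp_id, Category.id_comp]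

open TopologicalSpace CategoryTheory.Limits in

open TopologicalSpace CategoryTheory.Limits in
/-- Let E be an object of the derived category of abelian sheaves on X. Assume every point x has a
function p(x, -) and a fundamental system of open neighbourhoods U with H^p(U, H^{m-p}(E)) = 0 for
all m and all p > p(x, m). Then E is a derived limit of the tower of its truncations τ_{≥ -n} E
through the canonical maps E -> τ_{≥ -n} E (equivalently, E -> R lim τ_{≥ -n} E is an isomorphism).
The existence of the countable product of the truncations is assumed. -/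
theorem result {X : TopCat.{u}}
    [HasDerivedCategory.{u} (CohTop.Ab X)] (E : DerivedCategory (CohTop.Ab X))
    [HasProduct (CohCx.truncTower E)]
    (h : ∀ x : X, ∃ p : ℤ → ℤ, ∀ V : Opens X, x ∈ V → ∃ U : Opens X, x ∈ U ∧ U ≤ V ∧
      ∀ (m : ℤ) (k : ℕ), p m < k → Subsingleton (CohTop.HU (CohCx.HD E (m - k)) k U)) :
    CohCx.IsRlimVia (CohCx.truncTower E) (CohCx.truncTowerMap E) E (CohCx.toTruncTower E) := by
  refine isRlimVia_truncTower_of_homology E (fun L a' hL ψ hψ m => ?_)
  have hst : ∀ x : X, IsIso ((TopCat.Presheaf.stalkFunctor AddCommGrpCat.{u} x).map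
      ((DerivedCategory.homologyFunctor (CohTop.Ab X) m).map ψ).hom) := by
    intro x
    obtain ⟨p, hp⟩ := h x
    obtain ⟨nx, h0, h1, h2, h3⟩ : ∃ nV : ℕ, -m ≤ nV ∧ p (m - 1) < nV + m ∧ p m < nV + m + 1 ∧
        p (m + 1) < nV + m + 2 := by
      refine ⟨(|m| + |p (m - 1)| + |p m| + |p (m + 1)| + 1).toNat, ?_⟩
      have e0 := abs_nonneg m
      have e1 := abs_nonneg (p (m - 1))
      have e2 := abs_nonneg (p m)
      have e3 := abs_nonneg (p (m + 1))
      have f0 := neg_abs_le m
      have f0' := le_abs_self m
      have f1 := le_abs_self (p (m - 1))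
      have f2 := le_abs_self (p m)
      have f3 := le_abs_self (p (m + 1))
      rw [Int.toNat_of_nonneg (by omega)]
      refine ⟨?_, ?_, ?_, ?_⟩ <;> omega
    have hinj := Groth.Agent.S0874.result (CohCx.truncTower E) (CohCx.truncTowerMap E) L a' hL x m nx
      (fun V hxV => by
        obtain ⟨U, hxU, hUV, hv⟩ := hp V hxV
        exact ⟨U, hxU, hUV, tower_conditions E (CohCx.freeSheaf _ U) p hv m nx h0 h1 h2 h3⟩)
    have hmono : Mono ((TopCat.Presheaf.stalkFunctor AddCommGrpCat.{u} x).map
        ((DerivedCategory.homologyFunctor (CohTop.Ab X) m).map (a' nx)).hom) :=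
      (AddCommGrpCat.mono_iff_injective _).2 hinj
    have hiso : IsIso ((DerivedCategory.homologyFunctor (CohTop.Ab X) m).map
        (CohCx.toTruncTower E nx)) :=
      isIso_homologyMap_truncGEπ E (-(nx : ℤ)) m (by omega)
    have hiso2 : IsIso ((TopCat.Presheaf.stalkFunctor AddCommGrpCat.{u} x).map
        ((DerivedCategory.homologyFunctor (CohTop.Ab X) m).map (CohCx.toTruncTower E nx)).hom) := by
      have : IsIso ((sheafToPresheaf _ AddCommGrpCat.{u}).map
        ((DerivedCategory.homologyFunctor (CohTop.Ab X) m).map (CohCx.toTruncTower E nx))) :=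
        Functor.map_isIso _ _
      exact Functor.map_isIso (TopCat.Presheaf.stalkFunctor AddCommGrpCat.{u} x)
        ((sheafToPresheaf _ AddCommGrpCat.{u}).map
          ((DerivedCategory.homologyFunctor (CohTop.Ab X) m).map (CohCx.toTruncTower E nx)))
    refine isIso_of_comp_of_mono _ ((TopCat.Presheaf.stalkFunctor AddCommGrpCat.{u} x).map
        ((DerivedCategory.homologyFunctor (CohTop.Ab X) m).map (a' nx)).hom) ?_
    rw [← Functor.map_comp]
    have : ((DerivedCategory.homologyFunctor (CohTop.Ab X) m).map ψ).hom ≫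
        ((DerivedCategory.homologyFunctor (CohTop.Ab X) m).map (a' nx)).hom =
        ((DerivedCategory.homologyFunctor (CohTop.Ab X) m).map (CohCx.toTruncTower E nx)).hom := by
      rw [← hψ nx, Functor.map_comp]
      rfl
    rw [this]
    exact hiso2
  exact TopCat.Presheaf.isIso_of_stalkFunctor_map_iso _

end Groth.Agent.S0875
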