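import Groth.Statements.S0876

set_option autoImplicit false
universe u
open CategoryTheory
open CohSite

namespace Groth.Agent.S0876

open CategoryTheory.Limits
open CategoryTheory.Pretriangulated

section Tri
variable {D : Type*} [Category D] [Preadditive D] [HasZeroObject D] [HasShift D ℤ]
  [∀ n : ℤ, (shiftFunctor D n).Additive] [Pretriangulated D]

/-- connecting map -/
noncomputable def del (T : Triangle D) (K : D) (n : ℤ) :
    (T.obj₁ ⟶ K⟦n⟧) →+ (T.obj₃ ⟶ K⟦n + 1⟧) where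
  toFun x := T.mor₃ ≫ x⟦(1 : ℤ)⟧' ≫ (shiftFunctorAdd' D n 1 (n + 1) rfl).inv.app K
  map_zero' := by simp
  map_add' x y := by simp [Functor.map_add]

lemma del_apply (T : Triangle D) (K : D) (n : ℤ) (x : T.obj₁ ⟶ K⟦n⟧) :
    del T K n x = T.mor₃ ≫ x⟦(1 : ℤ)⟧' ≫ (shiftFunctorAdd' D n 1 (n + 1) rfl).inv.app K := rfl

lemma e1 (T : Triangle D) (hT : T ∈ distTriang D) (K : D) (n : ℤ) (φ : T.obj₂ ⟶ K⟦n⟧)
    (h : T.mor₁ ≫ φ = 0) : ∃ ψ : T.obj₃ ⟶ K⟦n⟧, T.mor₂ ≫ ψ = φ := by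
  obtain ⟨ψ, hψ⟩ := Triangle.yoneda_exact₂ T hT φ h
  exact ⟨ψ, hψ.symm⟩

lemma e2 (T : Triangle D) (hT : T ∈ distTriang D) (K : D) (n : ℤ) (x : T.obj₁ ⟶ K⟦n⟧)
    (h : del T K n x = 0) : ∃ ψ : T.obj₂ ⟶ K⟦n⟧, T.mor₁ ≫ ψ = x := by
  rw [del_apply] at h
  have h' : T.mor₃ ≫ x⟦(1 : ℤ)⟧' = 0 := by
    have := congrArg (fun z => z ≫ (shiftFunctorAdd' D n 1 (n + 1) rfl).hom.app K) h
    simpa using this
  have hex : ∃ ψ : (T.obj₂)⟦(1 : ℤ)⟧ ⟶ (K⟦n⟧)⟦(1 : ℤ)⟧,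
      x⟦(1 : ℤ)⟧' = (-(T.mor₁⟦(1 : ℤ)⟧')) ≫ ψ :=
    Triangle.yoneda_exact₃ T.rotate (rot_of_distTriang _ hT) (x⟦(1 : ℤ)⟧') h'
  obtain ⟨ψ, hψ⟩ := hex
  obtain ⟨ψ', rfl⟩ := (shiftFunctor D (1 : ℤ)).map_surjective ψ
  refine ⟨-ψ', ?_⟩
  apply (shiftFunctor D (1 : ℤ)).map_injective
  rw [hψ, Functor.map_comp, Functor.map_neg, Preadditive.comp_neg, Preadditive.neg_comp]

lemma e3 (T : Triangle D) (hT : T ∈ distTriang D) (K : D) (n : ℤ) (y : T.obj₃ ⟶ K⟦n + 1⟧)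
    (h : T.mor₂ ≫ y = 0) : ∃ x : T.obj₁ ⟶ K⟦n⟧, del T K n x = y := by
  obtain ⟨ψ, hψ⟩ := Triangle.yoneda_exact₃ T hT y h
  obtain ⟨x, hx⟩ := (shiftFunctor D (1 : ℤ)).map_surjective
    (ψ ≫ (shiftFunctorAdd' D n 1 (n + 1) rfl).hom.app K)
  refine ⟨x, ?_⟩
  rw [del_apply, hx, hψ]
  simp

lemma z2 (T : Triangle D) (hT : T ∈ distTriang D) (K : D) (n : ℤ) (ψ : T.obj₂ ⟶ K⟦n⟧) :
    del T K n (T.mor₁ ≫ ψ) = 0 := by
  rw [del_apply, Functor.map_comp, ← Category.assoc, ← Category.assoc,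
    comp_distTriang_mor_zero₃₁ T hT]
  simp

lemma z3 (T : Triangle D) (hT : T ∈ distTriang D) (K : D) (n : ℤ) (x : T.obj₁ ⟶ K⟦n⟧) :
    T.mor₂ ≫ del T K n x = 0 := by
  rw [del_apply, ← Category.assoc, comp_distTriang_mor_zero₂₃ T hT]
  simp

end Tri

lemma exact_mk₂ {A B C : Type u} [AddCommGroup A] [AddCommGroup B] [AddCommGroup C]
    (f : A →+ B) (g : B →+ C)
    (h0 : ∀ a, g (f a) = 0) (h1 : ∀ b, g b = 0 → ∃ a, f a = b) :
    (ComposableArrows.mk₂ (AddCommGrpCat.ofHom f) (AddCommGrpCat.ofHom g)).Exact := by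
  refine ComposableArrows.exact₂_mk _ ?_ ?_
  · ext a; exact h0 a
  · rw [ShortComplex.ab_exact_iff]; intro b hb; exact h1 b hb

section MV
variable {𝒜 : Type*} [Category 𝒜] [Abelian 𝒜] [HasDerivedCategory 𝒜] {A₁ A₂ A₃ A₄ : 𝒜}
  (a₁₂ : A₁ ⟶ A₂) (a₁₃ : A₁ ⟶ A₃) (a₂₄ : A₂ ⟶ A₄) (a₃₄ : A₃ ⟶ A₄)
  (w : biprod.lift a₁₂ (-a₁₃) ≫ biprod.desc a₂₄ a₃₄ = 0)
  (hS : (ShortComplex.mk (biprod.lift a₁₂ (-a₁₃)) (biprod.desc a₂₄ a₃₄) w).ShortExact)
  (K : DerivedCategory 𝒜)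

local notation "sg" => DerivedCategory.singleFunctor 𝒜 0

include hS in
theorem mv : ∃ δ : ∀ n : ℤ, ((sg).obj A₁ ⟶ K⟦n⟧) →+ ((sg).obj A₄ ⟶ K⟦n + 1⟧), ∀ n : ℤ,
    (∀ (a : (sg).obj A₂ ⟶ K⟦n⟧) (b : (sg).obj A₃ ⟶ K⟦n⟧),
      (sg).map a₁₂ ≫ a - (sg).map a₁₃ ≫ b = 0 →
        ∃ ψ : (sg).obj A₄ ⟶ K⟦n⟧, (sg).map a₂₄ ≫ ψ = a ∧ (sg).map a₃₄ ≫ ψ = b) ∧
    (∀ x : (sg).obj A₁ ⟶ K⟦n⟧, δ n x = 0 →
      ∃ (a : (sg).obj A₂ ⟶ K⟦n⟧) (b : (sg).obj A₃ ⟶ K⟦n⟧),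
        (sg).map a₁₂ ≫ a - (sg).map a₁₃ ≫ b = x) ∧
    (∀ y : (sg).obj A₄ ⟶ K⟦n + 1⟧, (sg).map a₂₄ ≫ y = 0 → (sg).map a₃₄ ≫ y = 0 →
      ∃ x, δ n x = y) ∧
    (∀ (a : (sg).obj A₂ ⟶ K⟦n⟧) (b : (sg).obj A₃ ⟶ K⟦n⟧),
      δ n ((sg).map a₁₂ ≫ a - (sg).map a₁₃ ≫ b) = 0) ∧
    (∀ x, (sg).map a₂₄ ≫ δ n x = 0 ∧ (sg).map a₃₄ ≫ δ n x = 0) := by
  let T := hS.singleTriangle
  have hT : T ∈ distTriang _ := hS.singleTriangle_distinguished
  let f' : A₁ ⟶ A₂ ⊞ A₃ := biprod.lift a₁₂ (-a₁₃)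
  let g' : A₂ ⊞ A₃ ⟶ A₄ := biprod.desc a₂₄ a₃₄
  have hm1 : T.mor₁ = (sg).map f' := rfl
  have hm2 : T.mor₂ = (sg).map g' := rfl
  have hf1 : f' ≫ biprod.fst = a₁₂ := biprod.lift_fst _ _
  have hf2 : f' ≫ biprod.snd = -a₁₃ := biprod.lift_snd _ _
  have hg1 : biprod.inl ≫ g' = a₂₄ := biprod.inl_desc _ _
  have hg2 : biprod.inr ≫ g' = a₃₄ := biprod.inr_desc _ _
  have hfd : f' = a₁₂ ≫ biprod.inl - a₁₃ ≫ biprod.inr := by
    apply biprod.hom_ext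
    · rw [hf1]; simp
    · rw [hf2]; simp
  have hgd : g' = biprod.fst ≫ a₂₄ + biprod.snd ≫ a₃₄ := by
    apply biprod.hom_ext'
    · rw [hg1]; simp
    · rw [hg2]; simp
  have key : ∀ (n : ℤ) (φ : (sg).obj (A₂ ⊞ A₃) ⟶ K⟦n⟧),
      (sg).map f' ≫ φ = (sg).map a₁₂ ≫ (sg).map biprod.inl ≫ φ -
        (sg).map a₁₃ ≫ (sg).map biprod.inr ≫ φ := by
    intro n φ
    rw [hfd, Functor.map_sub, Preadditive.sub_comp, Functor.map_comp, Functor.map_comp,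
      Category.assoc, Category.assoc]
  have key2 : ∀ (n : ℤ) (a : (sg).obj A₂ ⟶ K⟦n⟧) (b : (sg).obj A₃ ⟶ K⟦n⟧),
      (sg).map a₁₂ ≫ a - (sg).map a₁₃ ≫ b =
        (sg).map f' ≫ ((sg).map biprod.fst ≫ a + (sg).map biprod.snd ≫ b) := by
    intro n a b
    rw [Preadditive.comp_add, ← Category.assoc, ← Category.assoc, ← Functor.map_comp,
      ← Functor.map_comp, hf1, hf2, Functor.map_neg, Preadditive.neg_comp, sub_eq_add_neg]
  have key3 : ∀ (m : ℤ) (y : (sg).obj A₄ ⟶ K⟦m⟧),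
      (sg).map g' ≫ y = (sg).map biprod.fst ≫ (sg).map a₂₄ ≫ y +
        (sg).map biprod.snd ≫ (sg).map a₃₄ ≫ y := by
    intro m y
    rw [hgd, Functor.map_add, Preadditive.add_comp, Functor.map_comp, Functor.map_comp,
      Category.assoc, Category.assoc]
  refine ⟨fun n => del T K n, fun n => ⟨?_, ?_, ?_, ?_, ?_⟩⟩
  · intro a b hab
    obtain ⟨ψ, hψ⟩ := e1 T hT K n ((sg).map biprod.fst ≫ a + (sg).map biprod.snd ≫ b)
      ((key2 n a b).symm.trans hab)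
    have hψ' : (sg).map g' ≫ ψ = (sg).map biprod.fst ≫ a + (sg).map biprod.snd ≫ b := hψ
    refine ⟨ψ, ?_, ?_⟩
    · rw [← hg1, Functor.map_comp, Category.assoc, hψ', Preadditive.comp_add, ← Category.assoc,
        ← Category.assoc, ← Functor.map_comp, ← Functor.map_comp]
      simp
    · rw [← hg2, Functor.map_comp, Category.assoc, hψ', Preadditive.comp_add, ← Category.assoc,
        ← Category.assoc, ← Functor.map_comp, ← Functor.map_comp]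
      simp
  · intro x hx
    obtain ⟨ψ, hψ⟩ := e2 T hT K n x hx
    have hψ' : (sg).map f' ≫ ψ = x := hψ
    rw [key] at hψ'
    exact ⟨_, _, hψ'⟩
  · intro y h1 h2
    refine e3 T hT K n y ?_
    show (sg).map g' ≫ y = 0
    rw [key3, h1, h2]
    simp
  · intro a b
    rw [key2]
    exact z2 T hT K n _
  · intro x
    have this : (sg).map g' ≫ del T K n x = 0 := z3 T hT K n x
    constructor
    · rw [← hg1, Functor.map_comp, Category.assoc]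
      erw [this, comp_zero]
    · rw [← hg2, Functor.map_comp, Category.assoc]
      erw [this, comp_zero]

end MV

open CategoryTheory.Limits in
/-- As a long exact sequence of cohomology groups rather than a triangle of complexes: let S be a
Mayer-Vietoris square of a site, with corners X₁ (playing the role of the intersection), X₂, X₃ and
X₄ (the union). For every object K of the derived category of abelian sheaves there are connecting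
homomorphisms H^n(X₁, K) -> H^{n+1}(X₄, K) which together with the restriction maps (sum into
H^n(X₂, K) ⊕ H^n(X₃, K), difference out of it) form a long exact sequence ... -> H^n(X₄, K) ->
H^n(X₂, K) ⊕ H^n(X₃, K) -> H^n(X₁, K) -> H^{n+1}(X₄, K) -> .... Here H^n(U, K) is the group of maps
from the free abelian sheaf on U to K[n]. -/
theorem result {C : Type u} [SmallCategory C] {J : GrothendieckTopology C}
    [HasWeakSheafify J (Type u)] [HasDerivedCategory.{u} (Sheaf J AddCommGrpCat.{u})]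
    (S : J.MayerVietorisSquare) (K : DerivedCategory (Sheaf J AddCommGrpCat.{u})) :
    ∃ δ : ∀ n : ℤ, CohCx.HDU K n S.X₁ →+ CohCx.HDU K (n + 1) S.X₄,
      ∀ n : ℤ,
        (ComposableArrows.mk₂
          (AddCommGrpCat.ofHom ((CohCx.HDUres K n S.f₂₄).prod (CohCx.HDUres K n S.f₃₄)))
          (AddCommGrpCat.ofHom ((CohCx.HDUres K n S.f₁₂).coprod (-(CohCx.HDUres K n S.f₁₃))))).Exact ∧
        (ComposableArrows.mk₂
          (AddCommGrpCat.ofHom ((CohCx.HDUres K n S.f₁₂).coprod (-(CohCx.HDUres K n S.f₁₃))))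
          (AddCommGrpCat.ofHom (δ n))).Exact ∧
        (ComposableArrows.mk₂ (AddCommGrpCat.ofHom (δ n))
          (AddCommGrpCat.ofHom ((CohCx.HDUres K (n + 1) S.f₂₄).prod (CohCx.HDUres K (n + 1) S.f₃₄)))).Exact := by
  let sg := DerivedCategory.singleFunctor (Sheaf J AddCommGrpCat.{u}) 0
  obtain ⟨δ, hδ⟩ := mv (CohCx.freeSheafMap J S.f₁₂) (CohCx.freeSheafMap J S.f₁₃)
    (CohCx.freeSheafMap J S.f₂₄) (CohCx.freeSheafMap J S.f₃₄) S.shortComplex.zero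
    S.shortComplex_shortExact K
  have hres : ∀ (n : ℤ) {U V : C} (f : V ⟶ U) (x : CohCx.HDU K n U),
      CohCx.HDUres K n f x = sg.map (CohCx.freeSheafMap J f) ≫ x := fun _ _ _ _ _ => rfl
  have hsq : ∀ (n : ℤ) (x : CohCx.HDU K n S.X₄),
      sg.map (CohCx.freeSheafMap J S.f₁₂) ≫ sg.map (CohCx.freeSheafMap J S.f₂₄) ≫ x =
        sg.map (CohCx.freeSheafMap J S.f₁₃) ≫ sg.map (CohCx.freeSheafMap J S.f₃₄) ≫ x := by
    intro n x
    rw [← Category.assoc, ← Category.assoc, ← sg.map_comp, ← sg.map_comp]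
    congr 2
    simp only [CohCx.freeSheafMap, ← Functor.map_comp, ← Functor.whiskerRight_comp, S.fac]
  refine ⟨δ, fun n => ?_⟩
  obtain ⟨h1, h2, h3, h4, h5⟩ := hδ n
  obtain ⟨h1', -, -, -, -⟩ := hδ (n + 1)
  refine ⟨?_, ?_, ?_⟩
  · refine exact_mk₂ _ _ ?_ ?_
    · intro x
      simp only [AddMonoidHom.prod_apply, AddMonoidHom.coprod_apply, AddMonoidHom.neg_apply, hres]
      rw [← sub_eq_add_neg, sub_eq_zero]
      exact hsq n x
    · rintro ⟨a, b⟩ hab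
      simp only [AddMonoidHom.coprod_apply, AddMonoidHom.neg_apply, hres, ← sub_eq_add_neg] at hab
      obtain ⟨ψ, hψ1, hψ2⟩ := h1 a b hab
      refine ⟨ψ, ?_⟩
      simp only [AddMonoidHom.prod_apply, hres]
      exact Prod.ext hψ1 hψ2
  · refine exact_mk₂ _ _ ?_ ?_
    · rintro ⟨a, b⟩
      simp only [AddMonoidHom.coprod_apply, AddMonoidHom.neg_apply, hres, ← sub_eq_add_neg]
      exact h4 a b
    · intro x hx
      obtain ⟨a, b, hab⟩ := h2 x hx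
      refine ⟨⟨a, b⟩, ?_⟩
      simp only [AddMonoidHom.coprod_apply, AddMonoidHom.neg_apply, hres, ← sub_eq_add_neg]
      exact hab
  · refine exact_mk₂ _ _ ?_ ?_
    · intro x
      simp only [AddMonoidHom.prod_apply, hres]
      exact Prod.ext (h5 x).1 (h5 x).2
    · intro y hy
      simp only [AddMonoidHom.prod_apply, hres] at hy
      exact h3 y (congrArg Prod.fst hy) (congrArg Prod.snd hy)

end Groth.Agent.S0876
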