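import Groth.Statements.S0886
import Mathlib
import Groth.Agent.Lib.Helper10.ExtAdj
import Groth.Agent.Lib.Helper10.LanExact

set_option autoImplicit false
universe u
open CategoryTheory
open CohSite

namespace Groth.Agent.S0886

section helpers

open CategoryTheory.Limits Opposite

variable {C D : Type u} [SmallCategory C] [SmallCategory D]
    (J : GrothendieckTopology C) (K : GrothendieckTopology D) (u : C ⥤ D)
    [u.IsContinuous J K]

/-- `g_!`. -/
noncomputable abbrev shriek : Sheaf J AddCommGrpCat.{u} ⥤ Sheaf K AddCommGrpCat.{u} :=
  u.sheafPullback AddCommGrpCat.{u} J K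

noncomputable abbrev adj : shriek J K u ⊣ CohSite.push K J u :=
  u.sheafAdjunctionContinuous AddCommGrpCat.{u} J K

variable [HasTerminal C] [PreservesLimit (Functor.empty.{0} C) u]

noncomputable def termD : IsTerminal (u.obj (⊤_ C)) :=
  IsTerminal.isTerminalObj u (⊤_ C) terminalIsTerminal

noncomputable abbrev gsecC : Sheaf J AddCommGrpCat.{u} ⥤ AddCommGrpCat.{u} :=
  (sheafSections J AddCommGrpCat.{u}).obj (op (⊤_ C))

noncomputable abbrev gsecD : Sheaf K AddCommGrpCat.{u} ⥤ AddCommGrpCat.{u} :=
  (sheafSections K AddCommGrpCat.{u}).obj (op (u.obj (⊤_ C)))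

noncomputable def pushGsecIso : CohSite.push K J u ⋙ gsecC J ≅ gsecD K u :=
  NatIso.ofComponents (fun F => Iso.refl _) (fun {F G} φ => by
    simp only [Iso.refl_hom]
    rfl)

noncomputable def shriekConstIso :
    constantSheaf J AddCommGrpCat.{u} ⋙ shriek J K u ≅ constantSheaf K AddCommGrpCat.{u} :=
  Adjunction.leftAdjointUniq
    (((constantSheafAdj J AddCommGrpCat.{u} terminalIsTerminal).comp (adj J K u)).ofNatIsoRight
      (pushGsecIso J K u)) (constantSheafAdj K AddCommGrpCat.{u} (termD u))

end helpers

open CategoryTheory.Limits in
/-- Let u : C → D be a functor between sites which is cocontinuous, continuous (it sends coverings to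
coverings and commutes with fibre products, which exist in C), fully faithful, and sends a final
object of C to a final object of D. For an abelian sheaf F on D let g^{-1}F be the sheaf U ↦ F(u(U))
on C. Then H^p(C, g^{-1}F) ≅ H^p(D, F) for all p. This is the comparison of global cohomology; the
comparison object by object holds under weaker hypotheses and is a separate statement. -/
theorem result {C D : Type u} [SmallCategory C] [SmallCategory D]
    (J : GrothendieckTopology C) (K : GrothendieckTopology D) (u : C ⥤ D)
    [u.IsCocontinuous J K] [u.IsContinuous J K] (hu : CoverPreserving J K u) [u.Full] [u.Faithful]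
    [HasPullbacks C] [PreservesLimitsOfShape WalkingCospan u]
    [HasTerminal C] [PreservesLimit (Functor.empty.{0} C) u]
    (F : Sheaf K AddCommGrpCat.{u}) (p : ℕ) :
    Nonempty (Sheaf.H ((CohSite.push K J u).obj F) p ≃+ Sheaf.H F p) := by
  have hfl : HasFiniteLimits C := hasFiniteLimits_of_hasTerminal_and_pullbacks
  have hpe : PreservesLimitsOfShape (Discrete PEmpty.{1}) u :=
    preservesLimitsOfShape_pempty_of_preservesTerminal u
  have hpl : PreservesFiniteLimits u := preservesFiniteLimits_of_preservesTerminal_and_pullbacks u
  have h1 : PreservesFiniteLimits (shriek J K u) :=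
    Groth.Agent.Helper10.LanExact.preservesFiniteLimits_sheafPullback_ab u J K
  have h2 : PreservesFiniteColimits (shriek J K u) := by
    have : PreservesColimitsOfSize.{0, 0} (shriek J K u) :=
      (adj J K u).leftAdjoint_preservesColimits
    exact PreservesColimitsOfSize.preservesFiniteColimits _
  have h3 : PreservesFiniteLimits (CohSite.push K J u) := by
    have : PreservesLimitsOfSize.{0, 0} (CohSite.push K J u) :=
      (adj J K u).rightAdjoint_preservesLimits
    exact PreservesLimitsOfSize.preservesFiniteLimits _
  have h4 : PreservesFiniteColimits (CohSite.push K J u) := by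
    have : PreservesColimitsOfSize.{0, 0} (CohSite.push K J u) :=
      (u.sheafAdjunctionCocontinuous AddCommGrpCat.{u} J K).leftAdjoint_preservesColimits
    exact PreservesColimitsOfSize.preservesFiniteColimits _
  have : (shriek J K u).Additive := (adj J K u).left_adjoint_additive
  refine ⟨((Groth.Agent.Helper10.ExtAdj.extAdjEquiv (adj J K u) _ F p).symm).trans ?_⟩
  exact (Groth.Agent.Helper10.ExtAdj.extCongrLeft
    ((shriekConstIso J K u).app (AddCommGrpCat.of (ULift.{u} ℤ))) F p).symm

end Groth.Agent.S0886
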