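import Groth.Statements.S0905
import Mathlib.CategoryTheory.Sites.Adjunction
import Mathlib.CategoryTheory.Sites.EpiMono
import Mathlib.Algebra.Homology.ShortComplex.ExactFunctor
import Mathlib.Algebra.Homology.DerivedCategory.Ext.EnoughProjectives
-- import your own Groth.Agent.* helpers here

set_option autoImplicit false
universe u
open CategoryTheory
open CohSite

namespace Groth.Agent.S0905

open Opposite CategoryTheory.Limits

variable {C : Type u} [SmallCategory C] (J : GrothendieckTopology C)

lemma surj_of_epi (U : C) (hU : CohSite.IsWeaklyContractible J U)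
    {F G : Sheaf J AddCommGrpCat.{u}} (φ : F ⟶ G) [Epi φ] :
    Function.Surjective (φ.hom.app (op U)) := by
  have h1 : Sheaf.IsLocallySurjective φ := (Sheaf.isLocallySurjective_iff_epi' AddCommGrpCat.{u} φ).2 inferInstance
  have h2 : Epi ((sheafCompose J (forget AddCommGrpCat.{u})).map φ) := inferInstance
  exact hU _ _ _ h2

noncomputable abbrev Γ (U : C) : Sheaf J AddCommGrpCat.{u} ⥤ AddCommGrpCat.{u} :=
  sheafToPresheaf J AddCommGrpCat.{u} ⋙ (evaluation Cᵒᵖ AddCommGrpCat.{u}).obj (op U)

instance (U : C) : (Γ J U).Additive where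

lemma part1 (U : C) (hU : CohSite.IsWeaklyContractible J U) :
    PreservesFiniteColimits (Γ J U) := by
  rw [Functor.preservesFiniteColimits_iff_forall_exact_map_and_epi]
  intro S hS
  have hlim : PreservesFiniteLimits (Γ J U) := inferInstance
  refine ⟨((Functor.preservesFiniteLimits_iff_forall_exact_map_and_mono (Γ J U)).1 hlim S hS).1, ?_⟩
  have := hS.epi_g
  rw [AddCommGrpCat.epi_iff_surjective]
  exact surj_of_epi J U hU S.g


noncomputable abbrev freeA : (Cᵒᵖ ⥤ Type u) ⥤ Sheaf J AddCommGrpCat.{u} :=
  (Functor.whiskeringRight Cᵒᵖ _ _).obj AddCommGrpCat.free.{u} ⋙ presheafToSheaf J AddCommGrpCat.{u}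

noncomputable def adjA : freeA J ⊣ sheafToPresheaf J AddCommGrpCat.{u} ⋙
    (Functor.whiskeringRight Cᵒᵖ _ _).obj (forget AddCommGrpCat.{u}) :=
  (Adjunction.whiskerRight Cᵒᵖ AddCommGrpCat.adj.{u}).comp (sheafificationAdjunction J AddCommGrpCat.{u})

lemma projective_free (U : C) (hU : CohSite.IsWeaklyContractible J U) :
    Projective ((freeA J).obj (yoneda.obj U)) := by
  refine ⟨fun {E X} f e he => ?_⟩
  -- f : free U ⟶ X, e : E ⟶ X epi
  let s := yonedaEquiv ((adjA J).homEquiv _ _ f)
  obtain ⟨t, ht⟩ := surj_of_epi J U hU e s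
  refine ⟨((adjA J).homEquiv _ _).symm (yonedaEquiv.symm t), ?_⟩
  apply ((adjA J).homEquiv _ _).injective
  rw [Adjunction.homEquiv_naturality_right, Equiv.apply_symm_apply]
  apply yonedaEquiv.injective
  rw [yonedaEquiv_comp, Equiv.apply_symm_apply]
  exact ht


theorem aux (U : C) (hU : CohSite.IsWeaklyContractible J U) :
    PreservesFiniteColimits (sheafToPresheaf J AddCommGrpCat.{u} ⋙ (evaluation Cᵒᵖ AddCommGrpCat.{u}).obj (op U)) ∧
    ∀ (F : Sheaf J AddCommGrpCat.{u}) (p : ℕ), Subsingleton (CohSite.HU F (p + 1) U) := by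
  refine ⟨part1 J U hU, fun F p => ?_⟩
  have hP := projective_free J U hU
  exact subsingleton_of_forall_eq 0 fun x =>
    Abelian.Ext.eq_zero_of_projective (P := (freeA J).obj (yoneda.obj U)) x

open Opposite CategoryTheory.Limits in
/-- Parts (1) and (2), for a weakly contractible object U of a site (one over which every epimorphism of
sheaves of sets is surjective on sections): (1) the functor F ↦ F(U) from abelian sheaves to abelian
groups preserves finite colimits (it is exact, finite limits being automatic), and (2) H^p(U, F) = 0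
for every abelian sheaf F and every p > 0. (Part (3) about torsors is not included.) -/
theorem result {C : Type u} [SmallCategory C] (J : GrothendieckTopology C)
    (U : C) (hU : CohSite.IsWeaklyContractible J U) :
    PreservesFiniteColimits (sheafToPresheaf J AddCommGrpCat.{u} ⋙ (evaluation Cᵒᵖ AddCommGrpCat.{u}).obj (op U)) ∧
    ∀ (F : Sheaf J AddCommGrpCat.{u}) (p : ℕ), Subsingleton (CohSite.HU F (p + 1) U) := by
  exact aux J U hU

end Groth.Agent.S0905
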