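import Groth.Statements.S6525
import Groth.Agent.S13799

set_option autoImplicit false
set_option linter.unusedSectionVars false
set_option linter.unusedVariables false
universe u
open CategoryTheory
open Hyper

namespace Groth.Agent.S6525

open Opposite CategoryTheory.Limits
open Groth.Agent.S13799 (sep glue res_comp typeSheaf)

variable {C : Type u} [SmallCategory C] {J : GrothendieckTopology C}

section Abstract

variable (F : Sheaf J AddCommGrpCat.{u})

/-- the underlying presheaf of sets -/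
abbrev Fs : Cᵒᵖ ⥤ Type u := F.obj ⋙ forget AddCommGrpCat.{u}

variable {F} {P P₁ : Cᵒᵖ ⥤ Type u} (ev : P ⟶ Fs F)

lemma ev_nat {V W : C} (f : W ⟶ V) (t : P.obj (op V)) :
    ev.app (op W) (P.map f.op t) = (F.obj.map f.op).hom (ev.app (op V) t) :=
  NatTrans.naturality_apply ev f.op t

lemma indep_of_locallySurjective (a b : P₁ ⟶ P)
    (hab : Presheaf.IsLocallySurjective J (prod.lift a b)) (h : a ≫ ev = b ≫ ev)
    {V : C} (t t' : P.obj (op V)) : ev.app (op V) t = ev.app (op V) t' := by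
  let w : (P ⨯ P).obj (op V) :=
    yonedaEquiv (prod.lift (yonedaEquiv.symm t) (yonedaEquiv.symm t'))
  have hw1 : (prod.fst : P ⨯ P ⟶ P).app (op V) w = t := by
    have := yonedaEquiv_comp (prod.lift (yonedaEquiv.symm t) (yonedaEquiv.symm t'))
      (prod.fst : P ⨯ P ⟶ P)
    rw [prod.lift_fst, Equiv.apply_symm_apply] at this
    exact this.symm
  have hw2 : (prod.snd : P ⨯ P ⟶ P).app (op V) w = t' := by
    have := yonedaEquiv_comp (prod.lift (yonedaEquiv.symm t) (yonedaEquiv.symm t'))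
      (prod.snd : P ⨯ P ⟶ P)
    rw [prod.lift_snd, Equiv.apply_symm_apply] at this
    exact this.symm
  refine sep J F _ (Presheaf.imageSieve_mem J (prod.lift a b) w) _ _ ?_
  rintro W f ⟨ξ, hξ⟩
  have h1 : a.app (op W) ξ = P.map f.op t := by
    have := congrArg ((prod.fst : P ⨯ P ⟶ P).app (op W)) hξ
    rw [← NatTrans.comp_app_apply, prod.lift_fst, NatTrans.naturality_apply, hw1] at this
    exact this
  have h2 : b.app (op W) ξ = P.map f.op t' := by
    have := congrArg ((prod.snd : P ⨯ P ⟶ P).app (op W)) hξ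
    rw [← NatTrans.comp_app_apply, prod.lift_snd, NatTrans.naturality_apply, hw2] at this
    exact this
  rw [← ev_nat, ← ev_nat, ← h1, ← h2]
  exact congrArg (fun (m : P₁ ⟶ Fs F) => m.app (op W) ξ) h

end Abstract

section Glue

variable {F : Sheaf J AddCommGrpCat.{u}} {P : Cᵒᵖ ⥤ Type u} (ev : P ⟶ Fs F)

/-- the sieve of arrows whose source carries a section of `P` -/
def neSieve (P : Cᵒᵖ ⥤ Type u) (X : C) : Sieve X where
  arrows V f := Nonempty (P.obj (op V))
  downward_closed := by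
    rintro V W f ⟨t⟩ g
    exact ⟨P.map g.op t⟩

lemma neSieve_mem (h₀ : Presheaf.IsLocallySurjective J (terminal.from P)) (X : C) :
    neSieve P X ∈ J X := by
  let u : (⊤_ (Cᵒᵖ ⥤ Type u)).obj (op X) :=
    (terminal.from ((Functor.const Cᵒᵖ).obj PUnit.{u + 1})).app (op X) PUnit.unit
  refine J.superset_covering ?_ (Presheaf.imageSieve_mem J (terminal.from P) u)
  rintro V f ⟨t, _⟩
  exact ⟨t⟩

/-- the characterising property of the glued section -/
def Q (X : C) (s : F.obj.obj (op X)) : Prop :=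
  ∀ ⦃V : C⦄ (f : V ⟶ X) (t : P.obj (op V)), (F.obj.map f.op).hom s = ev.app (op V) t

variable (h₀ : Presheaf.IsLocallySurjective J (terminal.from P))
  (hind : ∀ {V : C} (t t' : P.obj (op V)), ev.app (op V) t = ev.app (op V) t')

include h₀ hind in
lemma Q_exists (X : C) : ∃ s, Q ev X s := by
  have hS := neSieve_mem h₀ X
  obtain ⟨s, hs⟩ := glue J F (neSieve P X) hS
    (fun V f hf => ev.app (op V) (Classical.choice hf)) (by
      intro V₁ V₂ Y f₁ f₂ h₁ h₂ g₁ g₂ e
      rw [← ev_nat, ← ev_nat]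
      exact hind _ _)
  refine ⟨s, fun V f t => ?_⟩
  refine sep J F _ (J.pullback_stable f hS) _ _ (fun W h hh => ?_)
  rw [← res_comp, hs (h ≫ f) hh, ← ev_nat]
  exact hind _ _

include h₀ in
lemma Q_unique (X : C) (s s' : F.obj.obj (op X)) (h : Q ev X s) (h' : Q ev X s') : s = s' := by
  refine sep J F _ (neSieve_mem h₀ X) _ _ (fun V f hf => ?_)
  obtain ⟨t⟩ := hf
  rw [h f t, h' f t]

lemma Q_map {X X' : C} (g : X' ⟶ X) (s : F.obj.obj (op X)) (h : Q ev X s) :
    Q ev X' ((F.obj.map g.op).hom s) := by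
  intro V f t
  rw [← res_comp]
  exact h (f ≫ g) t

include h₀ hind in
lemma exists_family : ∃ s : ∀ X : C, F.obj.obj (op X),
    (∀ {X Y : C} (f : X ⟶ Y), (F.obj.map f.op).hom (s Y) = s X) ∧
    ∀ (V : C) (t : P.obj (op V)), s V = ev.app (op V) t := by
  choose s hs using Q_exists ev h₀ hind
  refine ⟨s, fun {X Y} f => Q_unique ev h₀ X _ _ (Q_map ev f _ (hs Y)) (hs X), fun V t => ?_⟩
  have := hs V (𝟙 V) t
  rw [op_id, CategoryTheory.Functor.map_id] at this
  exact this

end Glue

section Ev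

variable {F : Sheaf J AddCommGrpCat.{u}}

/-- evaluation of a family of sections on the coproduct of representables -/
noncomputable def evx (L : FormalCoproduct.{u} C) (x : ∀ i : L.I, F.obj.obj (op (L.obj i))) :
    FormalCoproduct.yoneda.obj L ⟶ Fs F :=
  Sigma.desc (fun i => yonedaEquiv.symm (show (Fs F).obj (op (L.obj i)) from x i))

lemma ι_evx (L : FormalCoproduct.{u} C) (x : ∀ i : L.I, F.obj.obj (op (L.obj i))) (i : L.I) :
    Sigma.ι (fun i => yoneda.obj (L.obj i)) i ≫ evx L x =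
      yonedaEquiv.symm (show (Fs F).obj (op (L.obj i)) from x i) :=
  Sigma.ι_desc _ _

lemma evx_ι_apply (L : FormalCoproduct.{u} C) (x : ∀ i : L.I, F.obj.obj (op (L.obj i))) (i : L.I)
    {V : C} (y : V ⟶ L.obj i) :
    (evx L x).app (op V) ((Sigma.ι (fun i => yoneda.obj (L.obj i)) i).app (op V) y) =
      (F.obj.map y.op).hom (x i) :=
  congrArg (fun (m : yoneda.obj (L.obj i) ⟶ Fs F) => m.app (op V) y) (ι_evx L x i)

lemma map_evx {L' L : FormalCoproduct.{u} C} (g : L' ⟶ L)
    (x : ∀ i : L.I, F.obj.obj (op (L.obj i))) :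
    FormalCoproduct.yoneda.map g ≫ evx L x =
      evx L' (fun j => (F.obj.map (g.φ j).op).hom (x (g.f j))) := by
  apply Sigma.hom_ext
  intro j
  have h1 : Sigma.ι (fun i => yoneda.obj (L'.obj i)) j ≫ FormalCoproduct.yoneda.map g =
      yoneda.map (g.φ j) ≫ Sigma.ι (fun i => yoneda.obj (L.obj i)) (g.f j) :=
    Sigma.ι_desc _ _
  calc Sigma.ι (fun i => yoneda.obj (L'.obj i)) j ≫ (FormalCoproduct.yoneda.map g ≫ evx L x)
      = (Sigma.ι (fun i => yoneda.obj (L'.obj i)) j ≫ FormalCoproduct.yoneda.map g) ≫ evx L x :=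
        (Category.assoc _ _ _).symm
    _ = (yoneda.map (g.φ j) ≫ Sigma.ι (fun i => yoneda.obj (L.obj i)) (g.f j)) ≫ evx L x :=
        congrArg (fun m => m ≫ evx L x) h1
    _ = yoneda.map (g.φ j) ≫ (Sigma.ι (fun i => yoneda.obj (L.obj i)) (g.f j) ≫ evx L x) :=
        Category.assoc _ _ _
    _ = yoneda.map (g.φ j) ≫
          yonedaEquiv.symm (show (Fs F).obj (op (L.obj (g.f j))) from x (g.f j)) :=
        congrArg (fun m => yoneda.map (g.φ j) ≫ m) (ι_evx L x (g.f j))
    _ = yonedaEquiv.symm (show (Fs F).obj (op (L'.obj j)) from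
          (F.obj.map (g.φ j).op).hom (x (g.f j))) :=
        yonedaEquiv_symm_naturality_left _ _ _
    _ = _ := (ι_evx (F := F) L' (fun j => (F.obj.map (g.φ j).op).hom (x (g.f j))) j).symm

end Ev

section Main

variable (K : SimplicialObject (FormalCoproduct.{u} C)) (F : Sheaf J AddCommGrpCat.{u})

/-- degree zero part -/
abbrev K₀ : FormalCoproduct.{u} C := K.obj (op (SimplexCategory.mk 0))

/-- degree one part -/
abbrev K₁ : FormalCoproduct.{u} C := K.obj (op (SimplexCategory.mk 1))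

/-- the cosimplicial object -/
noncomputable abbrev XX : CosimplicialObject AddCommGrpCat.{u} :=
  (FormalCoproduct.cosimplicialObjectFunctor K).obj F.obj

/-- the Cech complex -/
noncomputable abbrev Cx : CochainComplex AddCommGrpCat.{u} ℕ := Hyper.cechCxSite K F.obj

/-- projections in degree zero -/
noncomputable def p0 (i : (K₀ K).I) : (Cx K F).X 0 ⟶ F.obj.obj (op ((K₀ K).obj i)) :=
  Pi.π (fun i : (K₀ K).I => F.obj.obj (op ((K₀ K).obj i))) i

/-- projections in degree one -/
noncomputable def p1 (j : (K₁ K).I) : (Cx K F).X 1 ⟶ F.obj.obj (op ((K₁ K).obj j)) :=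
  Pi.π (fun j : (K₁ K).I => F.obj.obj (op ((K₁ K).obj j))) j

/-- lifting to degree zero -/
noncomputable def lift0 {A : AddCommGrpCat.{u}}
    (f : ∀ i : (K₀ K).I, A ⟶ F.obj.obj (op ((K₀ K).obj i))) : A ⟶ (Cx K F).X 0 :=
  Pi.lift f

lemma lift0_p0 {A : AddCommGrpCat.{u}}
    (f : ∀ i : (K₀ K).I, A ⟶ F.obj.obj (op ((K₀ K).obj i))) (i : (K₀ K).I) :
    lift0 K F f ≫ p0 K F i = f i := Pi.lift_π _ _

lemma hom_ext1 {A : AddCommGrpCat.{u}} (f g : A ⟶ (Cx K F).X 1)
    (h : ∀ j, f ≫ p1 K F j = g ≫ p1 K F j) : f = g :=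
  Pi.hom_ext _ _ h

lemma ext0 (x y : (Cx K F).X 0) (h : ∀ i, (p0 K F i).hom x = (p0 K F i).hom y) : x = y :=
  Concrete.limit_ext (Discrete.functor (fun i : (K₀ K).I => F.obj.obj (op ((K₀ K).obj i)))) x y
    (fun ⟨i⟩ => h i)

/-- the coface maps in degree zero -/
noncomputable def dl (a : Fin 2) : (Cx K F).X 0 ⟶ (Cx K F).X 1 := (XX K F).δ a

lemma δ_p1 (a : Fin 2) (j : (K₁ K).I) :
    dl K F a ≫ p1 K F j = p0 K F ((K.δ a).f j) ≫ F.obj.map ((K.δ a).φ j).op :=
  Pi.lift_π _ _

lemma d01 : (Cx K F).d 0 1 = dl K F 0 - dl K F 1 := by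
  have h : AlgebraicTopology.AlternatingCofaceMapComplex.objD (XX K F) 0 =
      (XX K F).δ 0 - (XX K F).δ 1 := by
    rw [AlgebraicTopology.AlternatingCofaceMapComplex.objD, Fin.sum_univ_two]
    simp
    exact (sub_eq_add_neg _ _).symm
  exact (CochainComplex.of_d _ _ 0).trans h

lemma d_p1 (j : (K₁ K).I) : (Cx K F).d 0 1 ≫ p1 K F j =
    p0 K F ((K.δ 0).f j) ≫ F.obj.map ((K.δ 0).φ j).op -
      p0 K F ((K.δ 1).f j) ≫ F.obj.map ((K.δ 1).φ j).op := by
  rw [d01, Preadditive.sub_comp, δ_p1, δ_p1]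

end Main

section Main2

variable (K : SimplicialObject (FormalCoproduct.{u} C)) (F : Sheaf J AddCommGrpCat.{u})

/-- the canonical map from global sections to degree zero cochains -/
noncomputable def ψ : limit F.obj ⟶ (Cx K F).X 0 :=
  lift0 K F (fun i => limit.π F.obj (op ((K₀ K).obj i)))

lemma ψ_p0 (i : (K₀ K).I) : ψ K F ≫ p0 K F i = limit.π F.obj (op ((K₀ K).obj i)) :=
  lift0_p0 K F _ i

lemma ψ_d : ψ K F ≫ (Cx K F).d 0 1 = 0 := by
  apply hom_ext1
  intro j
  rw [Category.assoc, d_p1, Preadditive.comp_sub, reassoc_of% (ψ_p0 K F), reassoc_of% (ψ_p0 K F),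
    limit.w, limit.w, sub_self, zero_comp]

/-- the comparison map -/
noncomputable def φ : limit F.obj ⟶ (Cx K F).cycles 0 :=
  (Cx K F).liftCycles (ψ K F) 1 (by simp) (ψ_d K F)

lemma φ_i : φ K F ≫ (Cx K F).iCycles 0 = ψ K F := HomologicalComplex.liftCycles_i _ _ _ _ _

/-- the group of global sections -/
noncomputable abbrev Lim : AddCommGrpCat.{u} := limit F.obj

/-- the family of sections attached to an element of the limit -/
noncomputable def fam (s : Lim F) (X : C) : F.obj.obj (op X) := (limit.π F.obj (op X)).hom s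

lemma fam_map (s : Lim F) {X Y : C} (f : X ⟶ Y) :
    (F.obj.map f.op).hom (fam F s Y) = fam F s X := by
  have := ConcreteCategory.congr_hom (limit.w F.obj f.op) s
  exact this

lemma fam_ext (s s' : Lim F) (h : ∀ X, fam F s X = fam F s' X) : s = s' :=
  Concrete.limit_ext F.obj s s' (fun X => h X.unop)

lemma exists_of_fam (t : ∀ X : C, F.obj.obj (op X))
    (ht : ∀ {X Y : C} (f : X ⟶ Y), (F.obj.map f.op).hom (t Y) = t X) :
    ∃ s : Lim F, ∀ X, fam F s X = t X := by
  have hl : IsLimit ((forget AddCommGrpCat.{u}).mapCone (limit.cone F.obj)) :=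
    isLimitOfPreserves _ (limit.isLimit _)
  let e := Types.isLimitEquivSections hl
  let sec : (F.obj ⋙ forget AddCommGrpCat.{u}).sections :=
    ⟨fun X => t X.unop, fun {X Y} f => ht f.unop⟩
  refine ⟨e.symm sec, fun X => ?_⟩
  exact Types.isLimitEquivSections_symm_apply hl sec (op X)

lemma p0_ψ (s : Lim F) (i : (K₀ K).I) :
    (p0 K F i).hom ((ψ K F).hom s) = fam F s ((K₀ K).obj i) :=
  ConcreteCategory.congr_hom (ψ_p0 K F i) s

end Main2

section Main3

variable (K : SimplicialObject (FormalCoproduct.{u} C)) (F : Sheaf J AddCommGrpCat.{u})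
  (h₀ : Presheaf.IsLocallySurjective J
    (terminal.from (FormalCoproduct.yoneda.obj (K.obj (op (SimplexCategory.mk 0))))))
  (h₁ : Presheaf.IsLocallySurjective J
    (prod.lift (FormalCoproduct.yoneda.map (K.δ (1 : Fin 2)))
      (FormalCoproduct.yoneda.map (K.δ (0 : Fin 2)))))

lemma fam_eq_evx (s : Lim F) {V : C} (t : (FormalCoproduct.yoneda.obj (K₀ K)).obj (op V)) :
    fam F s V = (evx (K₀ K) (fun i => fam F s ((K₀ K).obj i))).app (op V) t := by
  let c : FormalCoproduct.yoneda.obj (K₀ K) ⟶ Fs F :=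
    { app := fun V => TypeCat.ofHom (fun _ => fam F s V.unop)
      naturality := fun X Y f => by
        ext t
        exact (fam_map F s f.unop).symm }
  have hc : c = evx (K₀ K) (fun i => fam F s ((K₀ K).obj i)) := by
    apply Sigma.hom_ext
    intro i
    rw [ι_evx]
    apply yonedaEquiv.injective
    rw [Equiv.apply_symm_apply]
    rfl
  exact congrArg (fun (m : FormalCoproduct.yoneda.obj (K₀ K) ⟶ Fs F) => m.app (op V) t) hc

include h₀ in
lemma φ_inj : Function.Injective (φ K F).hom := by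
  intro s s' h
  have h1 : (ψ K F).hom s = (ψ K F).hom s' := by
    have e := congrArg ((Cx K F).iCycles 0).hom h
    have a1 := ConcreteCategory.congr_hom (φ_i K F) s
    have a2 := ConcreteCategory.congr_hom (φ_i K F) s'
    exact a1.symm.trans (e.trans a2)
  have h2 : ∀ i, fam F s ((K₀ K).obj i) = fam F s' ((K₀ K).obj i) := fun i => by
    rw [← p0_ψ, ← p0_ψ, h1]
  apply fam_ext
  intro X
  refine sep J F _ (neSieve_mem h₀ X) _ _ ?_
  rintro V f ⟨t⟩
  rw [fam_map, fam_map, fam_eq_evx K F s t, fam_eq_evx K F s' t]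
  have : (fun i => fam F s ((K₀ K).obj i)) = (fun i => fam F s' ((K₀ K).obj i)) := funext h2
  rw [this]

include h₀ h₁ in
lemma φ_surj : Function.Surjective (φ K F).hom := by
  intro z
  let xel : (Cx K F).X 0 := ((Cx K F).iCycles 0).hom z
  let x : ∀ i : (K₀ K).I, F.obj.obj (op ((K₀ K).obj i)) := fun i => (p0 K F i).hom xel
  have hd : ((Cx K F).d 0 1).hom xel = 0 :=
    ConcreteCategory.congr_hom ((Cx K F).iCycles_d 0 1) z
  have hco : ∀ j : (K₁ K).I, (F.obj.map ((K.δ 0).φ j).op).hom (x ((K.δ 0).f j)) =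
      (F.obj.map ((K.δ 1).φ j).op).hom (x ((K.δ 1).f j)) := by
    intro j
    have e := ConcreteCategory.congr_hom (d_p1 K F j) xel
    have e' : (p1 K F j).hom (((Cx K F).d 0 1).hom xel) =
        (F.obj.map ((K.δ 0).φ j).op).hom (x ((K.δ 0).f j)) -
          (F.obj.map ((K.δ 1).φ j).op).hom (x ((K.δ 1).f j)) := e
    rw [hd, map_zero] at e'
    exact (sub_eq_zero.mp e'.symm)
  have hcoc : FormalCoproduct.yoneda.map (K.δ (1 : Fin 2)) ≫ evx (K₀ K) x =
      FormalCoproduct.yoneda.map (K.δ (0 : Fin 2)) ≫ evx (K₀ K) x := by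
    rw [map_evx, map_evx]
    congr 1
    funext j
    exact (hco j).symm
  have hind : ∀ {V : C} (t t' : (FormalCoproduct.yoneda.obj (K₀ K)).obj (op V)),
      (evx (K₀ K) x).app (op V) t = (evx (K₀ K) x).app (op V) t' :=
    fun t t' => indep_of_locallySurjective (evx (K₀ K) x) _ _ h₁ hcoc t t'
  obtain ⟨sf, hsf1, hsf2⟩ := exists_family (evx (K₀ K) x) h₀ hind
  obtain ⟨σ, hσ⟩ := exists_of_fam F sf hsf1
  refine ⟨σ, ?_⟩
  have hmono : Function.Injective ((Cx K F).iCycles 0).hom :=
    (AddCommGrpCat.mono_iff_injective _).1 inferInstance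
  apply hmono
  have e1 : ((Cx K F).iCycles 0).hom ((φ K F).hom σ) = (ψ K F).hom σ :=
    ConcreteCategory.congr_hom (φ_i K F) σ
  rw [e1]
  apply ext0
  intro i
  rw [p0_ψ, hσ, hsf2 _ ((Sigma.ι (fun i => yoneda.obj ((K₀ K).obj i)) i).app
    (op ((K₀ K).obj i)) (𝟙 _)), evx_ι_apply]
  simp only [x, op_id, F.obj.map_id, AddCommGrpCat.hom_id, AddMonoidHom.id_apply]
  rfl

end Main3

open Opposite CategoryTheory.Limits in
/-- For a hypercovering K of the final object of the topos (Verdier's sense) on a small site with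
equalizers, fibre products and binary products and every abelian sheaf F the Čech cohomology group
Ȟ^0(K, F) is isomorphic to H^0(F), the group of global sections (the limit of F over the site).
Existence of an isomorphism only. -/
theorem result {C : Type u} [SmallCategory C]
    [HasEqualizers C] [HasPullbacks C] [HasBinaryProducts C]
    (J : GrothendieckTopology C) (K : SimplicialObject (FormalCoproduct.{u} C))
    [∀ (n : ℕ) (F : (SimplexCategory.Truncated n)ᵒᵖ ⥤ Limits.FormalCoproduct.{u} C),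
      (SimplexCategory.Truncated.inclusion n).op.HasRightKanExtension F]
    (hK : Hyper.IsHypercoveringSite J K) (F : Sheaf J AddCommGrpCat.{u}) :
    Nonempty ((Hyper.cechCxSite K F.obj).homology 0 ≅ limit F.obj) := by
  obtain ⟨h₀, h₁, _⟩ := hK
  have hiso : IsIso (φ K F) :=
    (ConcreteCategory.isIso_iff_bijective _).2 ⟨φ_inj K F h₀, φ_surj K F h₀ h₁⟩
  exact ⟨(CochainComplex.isoHomologyπ₀ (Cx K F)).symm ≪≫ (asIso (φ K F)).symm⟩

end Groth.Agent.S6525
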