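import Groth.Statements.S0906
import Groth.Agent.S6525

set_option autoImplicit false
set_option linter.unusedSectionVars false
set_option linter.unusedVariables false
universe u
open CategoryTheory
open Hyper

namespace Groth.Agent.S0906

open Opposite CategoryTheory.Limits

section Tensor

variable {D : Type u} [SmallCategory D]

/-- `V ⊗ Δ[1]` as a simplicial object of formal coproducts -/
def SS (V : D) : SimplicialObject (FormalCoproduct.{u} D) where
  obj n := ⟨ULift.{u} (n.unop ⟶ SimplexCategory.mk 1), fun _ => V⟩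
  map {n m} f := ⟨fun v => ⟨f.unop ≫ v.down⟩, fun _ => 𝟙 V⟩
  map_id n := by
    refine FormalCoproduct.hom_ext ?_ ?_
    · funext v; simp
    · intro i; simp
  map_comp f g := by
    refine FormalCoproduct.hom_ext ?_ ?_
    · funext v; simp
    · intro i; simp

/-- the inclusion of a component -/
abbrev ιc (L : FormalCoproduct.{u} D) (i : L.I) : (FormalCoproduct.incl D).obj (L.obj i) ⟶ L :=
  FormalCoproduct.Hom.fromIncl i (𝟙 _)

lemma hom_ext_ιc {L L' : FormalCoproduct.{u} D} (f g : L ⟶ L')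
    (h : ∀ i : L.I, ιc L i ≫ f = ιc L i ≫ g) : f = g := by
  rw [FormalCoproduct.hom_ext_iff']
  intro i
  obtain ⟨h₁, h₂⟩ := (FormalCoproduct.hom_ext_iff' _ _).1 (h i) PUnit.unit
  refine ⟨h₁, ?_⟩
  have h3 : (𝟙 _ ≫ f.φ i) ≫ eqToHom (by rw [show f.f i = g.f i from h₁]) = 𝟙 _ ≫ g.φ i := h₂
  rw [Category.id_comp, Category.id_comp] at h3
  exact h3

variable {K : SimplicialObject (FormalCoproduct.{u} D)} {V : D}
  (p : Fin 2 → ((FormalCoproduct.incl D).obj V ⟶ K.obj (op (SimplexCategory.mk 0))))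

/-- the component of `V ⊗ Δ[1]` indexed by a simplex of `Δ[1]` -/
abbrev ιS (V : D) (n : SimplexCategory) (v : n ⟶ SimplexCategory.mk 1) :
    (FormalCoproduct.incl D).obj V ⟶ (SS V).obj (op n) :=
  FormalCoproduct.Hom.fromIncl (ULift.up v) (𝟙 V)

lemma ιS_map (V : D) {n m : SimplexCategory} (f : m ⟶ n) (v : n ⟶ SimplexCategory.mk 1) :
    ιS V n v ≫ (SS V).map f.op = ιS V m (f ≫ v) := by
  refine FormalCoproduct.hom_ext rfl ?_
  intro i
  simp [SS]

lemma hom_ext_ιS {n : SimplexCategory} {L : FormalCoproduct.{u} D} (f g : (SS V).obj (op n) ⟶ L)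
    (h : ∀ v, ιS V n v ≫ f = ιS V n v ≫ g) : f = g :=
  hom_ext_ιc f g (fun i => h i.down)

/-- the map to `K₀` determined by the two vertices -/
def base (n : SimplexCategory) : (SS V).obj (op n) ⟶ K.obj (op (SimplexCategory.mk 0)) :=
  ⟨fun v => (p (v.down.toOrderHom 0)).f PUnit.unit, fun v => (p (v.down.toOrderHom 0)).φ PUnit.unit⟩

lemma ιS_base (n : SimplexCategory) (v : n ⟶ SimplexCategory.mk 1) :
    ιS V n v ≫ base p n = p (v.toOrderHom 0) := by
  refine FormalCoproduct.hom_ext rfl ?_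
  intro i
  show (𝟙 V ≫ (p (v.toOrderHom 0)).φ PUnit.unit) ≫ eqToHom rfl = (p (v.toOrderHom 0)).φ i
  rw [eqToHom_refl, Category.comp_id, Category.id_comp]
  rfl

end Tensor

section Elements

variable {D : Type u} [SmallCategory D]

/-- the element of the coproduct of representables attached to a morphism from an object -/
noncomputable def el {L : FormalCoproduct.{u} D} {W : D}
    (w : (FormalCoproduct.incl D).obj W ⟶ L) : (FormalCoproduct.yoneda.obj L).obj (op W) :=
  (Sigma.ι (fun i => yoneda.obj (L.obj i)) (w.f PUnit.unit)).app (op W) (w.φ PUnit.unit)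

lemma el_comp {L L' : FormalCoproduct.{u} D} {W : D}
    (w : (FormalCoproduct.incl D).obj W ⟶ L) (g : L ⟶ L') :
    (FormalCoproduct.yoneda.map g).app (op W) (el w) = el (w ≫ g) := by
  have h1 : Sigma.ι (fun i => yoneda.obj (L.obj i)) (w.f PUnit.unit) ≫
      FormalCoproduct.yoneda.map g =
      yoneda.map (g.φ (w.f PUnit.unit)) ≫
        Sigma.ι (fun i => yoneda.obj (L'.obj i)) (g.f (w.f PUnit.unit)) :=
    Sigma.ι_desc _ _
  exact congrArg (fun (m : yoneda.obj (L.obj (w.f PUnit.unit)) ⟶ FormalCoproduct.yoneda.obj L') =>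
    m.app (op W) (w.φ PUnit.unit)) h1

lemma el_map {L : FormalCoproduct.{u} D} {W W' : D} (h : W' ⟶ W)
    (w : (FormalCoproduct.incl D).obj W ⟶ L) :
    (FormalCoproduct.yoneda.obj L).map h.op (el w) = el ((FormalCoproduct.incl D).map h ≫ w) :=
  (NatTrans.naturality_apply (Sigma.ι (fun i => yoneda.obj (L.obj i)) (w.f PUnit.unit)) h.op
    (w.φ PUnit.unit)).symm

lemma el_surj {L : FormalCoproduct.{u} D} {W : D} (t : (FormalCoproduct.yoneda.obj L).obj (op W)) :
    ∃ w : (FormalCoproduct.incl D).obj W ⟶ L, el w = t := by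
  have hc := isColimitOfPreserves ((evaluation Dᵒᵖ (Type u)).obj (op W))
    (colimit.isColimit (Discrete.functor (fun i : L.I => yoneda.obj (L.obj i))))
  obtain ⟨⟨i⟩, y, hy⟩ := Types.jointly_surjective_of_isColimit hc t
  exact ⟨FormalCoproduct.Hom.fromIncl i y, hy⟩

lemma prod_ext {P Q : Dᵒᵖ ⥤ Type u} {W : D} (x y : (P ⨯ Q).obj (op W))
    (h1 : (prod.fst : P ⨯ Q ⟶ P).app (op W) x = (prod.fst : P ⨯ Q ⟶ P).app (op W) y)
    (h2 : (prod.snd : P ⨯ Q ⟶ Q).app (op W) x = (prod.snd : P ⨯ Q ⟶ Q).app (op W) y) : x = y := by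
  have hx : ∀ {R : Dᵒᵖ ⥤ Type u} (z : (P ⨯ Q).obj (op W)) (π : P ⨯ Q ⟶ R),
      π.app (op W) z = yonedaEquiv (yonedaEquiv.symm z ≫ π) := by
    intro R z π
    rw [yonedaEquiv_comp, Equiv.apply_symm_apply]
  apply yonedaEquiv.symm.injective
  apply Limits.prod.hom_ext
  · apply yonedaEquiv.injective
    rw [← hx, ← hx]
    exact h1
  · apply yonedaEquiv.injective
    rw [← hx, ← hx]
    exact h2

end Elements

section Cosk

variable {D : Type u} [SmallCategory D]
  [∀ (n : ℕ) (F : (SimplexCategory.Truncated n)ᵒᵖ ⥤ FormalCoproduct.{u} D),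
      (SimplexCategory.Truncated.inclusion n).op.HasRightKanExtension F]
  (K : SimplicialObject (FormalCoproduct.{u} D)) {V : D}
  (p : Fin 2 → ((FormalCoproduct.incl D).obj V ⟶ K.obj (op (SimplexCategory.mk 0))))

/-- components of the map of truncated objects -/
def gApp (n : SimplexCategory) : (SS V).obj (op n) ⟶ K.obj (op n) :=
  base p n ≫ K.map (SimplexCategory.const n (SimplexCategory.mk 0) 0).op

lemma gApp_nat {n m : SimplexCategory} (hn : n.len ≤ 0) (φ : m ⟶ n) :
    (SS V).map φ.op ≫ gApp K p m = gApp K p n ≫ K.map φ.op := by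
  apply hom_ext_ιS
  intro v
  have h0 : φ.toOrderHom 0 = 0 := by
    apply Fin.ext
    have := (φ.toOrderHom 0).isLt
    simp only [Fin.val_zero]
    omega
  have h1 : (φ ≫ v).toOrderHom 0 = v.toOrderHom 0 := by
    show v.toOrderHom (φ.toOrderHom 0) = v.toOrderHom 0
    rw [h0]
  have h2 : φ ≫ SimplexCategory.const n (SimplexCategory.mk 0) 0 =
      SimplexCategory.const m (SimplexCategory.mk 0) 0 := Subsingleton.elim _ _
  calc ιS V n v ≫ (SS V).map φ.op ≫ gApp K p m
      = (ιS V n v ≫ (SS V).map φ.op) ≫ gApp K p m := (Category.assoc _ _ _).symm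
    _ = ιS V m (φ ≫ v) ≫ gApp K p m := by rw [ιS_map]
    _ = (ιS V m (φ ≫ v) ≫ base p m) ≫
          K.map (SimplexCategory.const m (SimplexCategory.mk 0) 0).op :=
        (Category.assoc _ _ _).symm
    _ = p (v.toOrderHom 0) ≫ K.map (SimplexCategory.const m (SimplexCategory.mk 0) 0).op := by
        rw [ιS_base, h1]
    _ = p (v.toOrderHom 0) ≫ K.map (SimplexCategory.const n (SimplexCategory.mk 0) 0).op ≫
          K.map φ.op := by
        rw [← K.map_comp, ← op_comp, h2]
    _ = (ιS V n v ≫ base p n) ≫ K.map (SimplexCategory.const n (SimplexCategory.mk 0) 0).op ≫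
          K.map φ.op := by rw [ιS_base]
    _ = ιS V n v ≫ gApp K p n ≫ K.map φ.op := by
        simp only [gApp, Category.assoc]

/-- the map of `0`-truncated simplicial objects -/
def gT : (SimplicialObject.truncation 0).obj (SS V) ⟶ (SimplicialObject.truncation 0).obj K where
  app n := gApp K p n.unop.obj
  naturality n m f := gApp_nat K p n.unop.property f.unop.hom

/-- the coskeleton -/
noncomputable abbrev EE : SimplicialObject (FormalCoproduct.{u} D) :=
  (SimplicialObject.Truncated.cosk 0).obj ((SimplicialObject.truncation 0).obj K)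

/-- the unit -/
noncomputable abbrev uu : K ⟶ EE K := (SimplicialObject.coskAdj 0).unit.app K

/-- the adjoint map -/
noncomputable def gHat : SS V ⟶ EE K :=
  (SimplicialObject.coskAdj 0).homEquiv _ _ (gT K p)

/-- the counit in degree zero -/
noncomputable def cc : (EE K).obj (op (SimplexCategory.mk 0)) ⟶ K.obj (op (SimplexCategory.mk 0)) :=
  ((SimplicialObject.coskAdj 0).counit.app ((SimplicialObject.truncation 0).obj K)).app
    (op ⟨SimplexCategory.mk 0, le_refl _⟩)

lemma uu_cc : (uu K).app (op (SimplexCategory.mk 0)) ≫ cc K = 𝟙 _ := by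
  have h := (SimplicialObject.coskAdj 0).left_triangle_components K
  exact congrArg (fun (m : (SimplicialObject.truncation 0).obj K ⟶
    (SimplicialObject.truncation 0).obj K) => m.app (op ⟨SimplexCategory.mk 0, le_refl _⟩)) h

lemma gHat_cc : (gHat K p).app (op (SimplexCategory.mk 0)) ≫ cc K =
    base p (SimplexCategory.mk 0) := by
  have h : (SimplicialObject.truncation 0).map (gHat K p) ≫
      (SimplicialObject.coskAdj 0).counit.app ((SimplicialObject.truncation 0).obj K) = gT K p := by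
    refine Eq.trans ((SimplicialObject.coskAdj 0).homEquiv_counit (SS V) _ (gHat K p)).symm ?_
    exact Equiv.symm_apply_apply _ _
  have h' := congrArg (fun (m : (SimplicialObject.truncation 0).obj (SS V) ⟶
    (SimplicialObject.truncation 0).obj K) => m.app (op ⟨SimplexCategory.mk 0, le_refl _⟩)) h
  refine Eq.trans h' ?_
  show gApp K p (SimplexCategory.mk 0) = _
  rw [gApp, SimplexCategory.const_eq_id, op_id, K.map_id, Category.comp_id]

variable (J' : GrothendieckTopology D)

lemma face_eq {W : D} (h : W ⟶ V)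
    (w : (FormalCoproduct.incl D).obj W ⟶ K.obj (op (SimplexCategory.mk 1)))
    (hw : w ≫ (uu K).app (op (SimplexCategory.mk 1)) =
      (FormalCoproduct.incl D).map h ≫ ιS V (SimplexCategory.mk 1) (𝟙 _) ≫
        (gHat K p).app (op (SimplexCategory.mk 1))) (a : Fin 2) :
    w ≫ K.map (SimplexCategory.δ a).op =
      (FormalCoproduct.incl D).map h ≫ p ((SimplexCategory.δ a).toOrderHom 0) := by
  have n1 : K.map (SimplexCategory.δ a).op ≫ (uu K).app (op (SimplexCategory.mk 0)) =
      (uu K).app (op (SimplexCategory.mk 1)) ≫ (EE K).map (SimplexCategory.δ a).op :=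
    (uu K).naturality (SimplexCategory.δ a).op
  have n2 : (SS V).map (SimplexCategory.δ a).op ≫ (gHat K p).app (op (SimplexCategory.mk 0)) =
      (gHat K p).app (op (SimplexCategory.mk 1)) ≫ (EE K).map (SimplexCategory.δ a).op :=
    (gHat K p).naturality (SimplexCategory.δ a).op
  calc w ≫ K.map (SimplexCategory.δ a).op
      = w ≫ K.map (SimplexCategory.δ a).op ≫ (uu K).app (op (SimplexCategory.mk 0)) ≫ cc K := by
        rw [uu_cc, Category.comp_id]
    _ = w ≫ ((uu K).app (op (SimplexCategory.mk 1)) ≫ (EE K).map (SimplexCategory.δ a).op) ≫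
          cc K := by rw [← n1, Category.assoc]
    _ = (w ≫ (uu K).app (op (SimplexCategory.mk 1))) ≫ (EE K).map (SimplexCategory.δ a).op ≫
          cc K := by simp only [Category.assoc]
    _ = (FormalCoproduct.incl D).map h ≫ ιS V (SimplexCategory.mk 1) (𝟙 _) ≫
          ((gHat K p).app (op (SimplexCategory.mk 1)) ≫ (EE K).map (SimplexCategory.δ a).op) ≫
          cc K := by rw [hw]; simp only [Category.assoc]
    _ = (FormalCoproduct.incl D).map h ≫ (ιS V (SimplexCategory.mk 1) (𝟙 _) ≫
          (SS V).map (SimplexCategory.δ a).op) ≫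
          (gHat K p).app (op (SimplexCategory.mk 0)) ≫ cc K := by
        rw [← n2]; simp only [Category.assoc]
    _ = (FormalCoproduct.incl D).map h ≫ p ((SimplexCategory.δ a).toOrderHom 0) := by
        rw [gHat_cc, ιS_map, ιS_base, Category.comp_id]

lemma lift_faces
    (hcov : Hyper.IsSRCovering J' ((uu K).app (op (SimplexCategory.mk (0 + 1))))) :
    ∃ S ∈ J' V, ∀ ⦃W : D⦄ (h : W ⟶ V), S h →
      ∃ w : (FormalCoproduct.incl D).obj W ⟶ K.obj (op (SimplexCategory.mk 1)),
        w ≫ K.map (SimplexCategory.δ (1 : Fin 2)).op = (FormalCoproduct.incl D).map h ≫ p 0 ∧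
        w ≫ K.map (SimplexCategory.δ (0 : Fin 2)).op = (FormalCoproduct.incl D).map h ≫ p 1 := by
  let g1 := (gHat K p).app (op (SimplexCategory.mk 1))
  let e := g1.f ⟨𝟙 _⟩
  let m : V ⟶ ((EE K).obj (op (SimplexCategory.mk 1))).obj e := g1.φ ⟨𝟙 _⟩
  have hS := J'.pullback_stable m (hcov e)
  refine ⟨_, hS, ?_⟩
  intro W h hh
  obtain ⟨k, c', hc⟩ := (Sieve.mem_ofArrows_iff _ _ _).1 hh
  let w : (FormalCoproduct.incl D).obj W ⟶ K.obj (op (SimplexCategory.mk 1)) :=
    FormalCoproduct.Hom.fromIncl k.1 c'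
  have hw : w ≫ (uu K).app (op (SimplexCategory.mk 1)) =
      (FormalCoproduct.incl D).map h ≫ ιS V (SimplexCategory.mk 1) (𝟙 _) ≫ g1 := by
    refine FormalCoproduct.hom_ext (funext fun _ => k.2) ?_
    intro i
    show (c' ≫ ((uu K).app (op (SimplexCategory.mk 1))).φ k.1) ≫ eqToHom _ = h ≫ 𝟙 V ≫ m
    rw [Category.id_comp, hc, Category.assoc]
  have f1 := face_eq K p h w hw 1
  have f0 := face_eq K p h w hw 0
  exact ⟨w, f1, f0⟩

lemma h1_of_cov
    (hcov : Hyper.IsSRCovering J' ((uu K).app (op (SimplexCategory.mk (0 + 1))))) :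
    Presheaf.IsLocallySurjective J'
      (prod.lift (FormalCoproduct.yoneda.map (K.δ (1 : Fin 2)))
        (FormalCoproduct.yoneda.map (K.δ (0 : Fin 2)))) := by
  constructor
  intro U s
  obtain ⟨w1, hw1⟩ := el_surj ((prod.fst : FormalCoproduct.yoneda.obj (K.obj (op (SimplexCategory.mk 0))) ⨯
    FormalCoproduct.yoneda.obj (K.obj (op (SimplexCategory.mk 0))) ⟶ _).app (op U) s)
  obtain ⟨w2, hw2⟩ := el_surj ((prod.snd : FormalCoproduct.yoneda.obj (K.obj (op (SimplexCategory.mk 0))) ⨯
    FormalCoproduct.yoneda.obj (K.obj (op (SimplexCategory.mk 0))) ⟶ _).app (op U) s)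
  let p : Fin 2 → ((FormalCoproduct.incl D).obj U ⟶ K.obj (op (SimplexCategory.mk 0))) :=
    fun t => if t = 0 then w1 else w2
  obtain ⟨S, hS, hl⟩ := lift_faces K p J' hcov
  refine J'.superset_covering ?_ hS
  intro W h hh
  obtain ⟨w, e1, e0⟩ := hl h hh
  have e1' : w ≫ K.δ (1 : Fin 2) = (FormalCoproduct.incl D).map h ≫ w1 := e1
  have e0' : w ≫ K.δ (0 : Fin 2) = (FormalCoproduct.incl D).map h ≫ w2 := e0
  refine ⟨el w, ?_⟩
  apply prod_ext
  · rw [← NatTrans.comp_app_apply, prod.lift_fst, NatTrans.naturality_apply, ← hw1, el_comp, el_map,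
      e1']
  · rw [← NatTrans.comp_app_apply, prod.lift_snd, NatTrans.naturality_apply, ← hw2, el_comp, el_map,
      e0']

end Cosk

section Final

variable {C : Type u} [SmallCategory C]

lemma terminal_elem_eq {D : Type u} [SmallCategory D] {W : D}
    (x y : (⊤_ (Dᵒᵖ ⥤ Type u)).obj (op W)) : x = y := by
  apply yonedaEquiv.symm.injective
  exact terminal.hom_ext _ _

lemma h0_of_cov (J : GrothendieckTopology C) (X : C)
    (K : SimplicialObject (FormalCoproduct.{u} (Over X)))
    (h : Sieve.ofArrows (fun i => ((K.obj (op (SimplexCategory.mk 0))).obj i).left)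
      (fun i => ((K.obj (op (SimplexCategory.mk 0))).obj i).hom) ∈ J X) :
    Presheaf.IsLocallySurjective (J.over X)
      (terminal.from (FormalCoproduct.yoneda.obj (K.obj (op (SimplexCategory.mk 0))))) := by
  constructor
  intro U s
  rw [GrothendieckTopology.mem_over_iff]
  refine J.superset_covering ?_ (J.pullback_stable U.hom h)
  intro V g hg
  obtain ⟨i, a, ha⟩ := (Sieve.mem_ofArrows_iff _ _ _).1 hg
  rw [Sieve.overEquiv_iff]
  let a' : Over.mk (g ≫ U.hom) ⟶ (K.obj (op (SimplexCategory.mk 0))).obj i := Over.homMk a ha.symm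
  exact ⟨el (FormalCoproduct.Hom.fromIncl i a'), terminal_elem_eq _ _⟩

end Final

open Opposite CategoryTheory.Limits in
/-- For a hypercovering K of an object X of a site with fibre products and an abelian sheaf F, the
degree-zero Cech cohomology group of F with respect to K is isomorphic to F(X). -/
theorem result {C : Type u} [SmallCategory C] [HasPullbacks C]
    (J : GrothendieckTopology C) (X : C) (K : SimplicialObject (FormalCoproduct.{u} (Over X)))
    [∀ (n : ℕ) (F : (SimplexCategory.Truncated n)ᵒᵖ ⥤ Limits.FormalCoproduct.{u} (Over X)),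
      (SimplexCategory.Truncated.inclusion n).op.HasRightKanExtension F]
    (hK : Hyper.IsHypercovering J X K) (F : Sheaf J AddCommGrpCat.{u}) :
    Nonempty (Hyper.cechH X K F.obj 0 ≅ F.obj.obj (op X)) := by
  obtain ⟨h0, hn⟩ := hK
  have h₀ := h0_of_cov J X K h0
  have h₁ := h1_of_cov K (J.over X) (hn 0)
  have hiso : IsIso (Groth.Agent.S6525.φ K (F.over X)) :=
    (ConcreteCategory.isIso_iff_bijective _).2
      ⟨Groth.Agent.S6525.φ_inj K (F.over X) h₀, Groth.Agent.S6525.φ_surj K (F.over X) h₀ h₁⟩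
  let e1 : limit (F.over X).obj ≅ (F.over X).obj.obj (op (Over.mk (𝟙 X))) :=
    (limit.isLimit (F.over X).obj).conePointUniqueUpToIso
      (limitOfDiagramInitial (initialOpOfTerminal Over.mkIdTerminal) (F.over X).obj)
  exact ⟨(CochainComplex.isoHomologyπ₀ (Groth.Agent.S6525.Cx K (F.over X))).symm ≪≫
    (asIso (Groth.Agent.S6525.φ K (F.over X))).symm ≪≫ e1⟩

end Groth.Agent.S0906
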