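import Groth.Statements.S0910
import Groth.Agent.Lib.Helper5.PC3
open Groth.Agent.Helper5.LDer Groth.Agent.Helper5.PC

set_option autoImplicit false
universe u
open CategoryTheory
attribute [local instance] HasDerivedCategory.standard
open DCoh

namespace Groth.Agent.S0910

open AlgebraicGeometry in
/-- Let f : X → Y be a morphism of schemes and E an m-pseudo-coherent object of D(O_Y). Then Lf^*E is
m-pseudo-coherent. Here Lf^* is the total left derived functor of f^*, whose existence is assumed as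
an instance argument. (The published statement is for morphisms of ringed spaces; stated here for
schemes.) -/
theorem result {X Y : Scheme.{u}} (f : X ⟶ Y) [DCoh.HasLpull f] (m : ℤ) (E : DCoh.D Y)
    (hE : DCoh.IsPseudoCoherentD m E) : DCoh.IsPseudoCoherentD m ((DCoh.Lpull f).obj E) := by
  intro x
  obtain ⟨V, hxV, hV⟩ := hE (f.base x)
  refine ⟨f ⁻¹ᵁ V, hxV, ?_⟩
  rintro F ⟨eF⟩
  obtain ⟨G, hG, ⟨eG⟩⟩ := exists_kflat_repr E
  obtain ⟨E₁, α, hE₁, hiso, hepi⟩ := hV G ⟨eG⟩
  have eF' : DerivedCategory.Q.obj F ≅ DerivedCategory.Q.obj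
      (((Scheme.Modules.pullback f).mapHomologicalComplex (ComplexShape.up ℤ)).obj G) :=
    eF ≪≫ (DCoh.Lpull f).mapIso eG.symm ≪≫ LpullObjIso f G hG
  have r1 := restrictQIso (f ⁻¹ᵁ V).ι eF'
  have r2 := (NatIso.mapHomologicalComplex (pullbackRestrictIso f V) (ComplexShape.up ℤ)).app G
  have hGV := isKFlat_restrict V.ι G hG
  have hE₁K := isKFlat_of_isStrictlyPerfect E₁ hE₁
  have := hasLpull (f ∣_ V)
  have hconn : IsConn m α := ⟨hiso, hepi⟩
  have hconn' := isConn_Lpull_map (f ∣_ V) α m hconn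
  have r3 := LpullObjIso (f ∣_ V) _ hGV ≪≫ (DerivedCategory.Q.mapIso r2).symm ≪≫ r1.symm
  have hfin : IsConn m ((LpullObjIso (f ∣_ V) E₁ hE₁K).inv ≫ (DCoh.Lpull (f ∣_ V)).map α ≫ r3.hom) :=
    hconn'.of_arrow_iso (Arrow.isoMk (LpullObjIso (f ∣_ V) E₁ hE₁K) r3 (by simp))
  exact ⟨_, _, isStrictlyPerfect_pullback (f ∣_ V) E₁ hE₁, hfin.1, hfin.2⟩

end Groth.Agent.S0910
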