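import Groth.Statements.S0913
import Groth.Agent.Lib.Helper5.FPC4

set_option autoImplicit false
universe u
open CategoryTheory
attribute [local instance] HasDerivedCategory.standard
open DCoh

namespace Groth.Agent.S0913

open AlgebraicGeometry in
/-- Let a ≤ b and let E in D(O_X) be represented by a complex of flat modules vanishing outside [a, b]
(tor-amplitude in [a, b]) and be (a-1)-pseudo-coherent. Then E is perfect. -/
theorem result {X : Scheme.{u}} (E : DCoh.D X) (a b : ℤ) (hab : a ≤ b)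
    (h1 : DCoh.HasFlatAmplitudeIn a b E) (h2 : DCoh.IsPseudoCoherentD (a - 1) E) : DCoh.IsPerfect E := by
  obtain ⟨F₀, hv, hfl, ⟨e₀⟩⟩ := h1
  intro x
  obtain ⟨V, hxV, hV⟩ := h2 x
  obtain ⟨P, α, ⟨⟨aP, bP, hvP⟩, hfP⟩, hiso, hepi⟩ := hV F₀ ⟨e₀⟩
  obtain ⟨W, hxW, P₃, hP₃, -, ⟨e₃⟩⟩ := Groth.Agent.Helper5.FPC.exists_local_model F₀ a b hv hfl V x hxV P
    aP bP hvP hfP α ⟨hiso, hepi⟩
  refine ⟨(W.ι ≫ V.ι).opensRange, ⟨⟨⟨x, hxV⟩, hxW⟩, rfl⟩, ?_⟩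
  rintro F ⟨eF⟩
  have e2 := Groth.Agent.Helper5.LDer.restrictQIso (W.ι ≫ V.ι) (eF ≪≫ e₀.symm) ≪≫ e₃
  exact ⟨(Groth.Agent.Helper5.RT.rCx (W.ι ≫ V.ι).isoOpensRange.inv).obj P₃,
    Groth.Agent.Helper5.RT.isStrictlyPerfect_restrict _ P₃ hP₃,
    ⟨Groth.Agent.Helper5.RT.transferIso (W.ι ≫ V.ι) e2⟩⟩

end Groth.Agent.S0913
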