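import Groth.Statements.S0919
import Mathlib.CategoryTheory.Limits.Preserves.Basic
import Mathlib.CategoryTheory.Adjunction.AdjointFunctorTheorems
import Mathlib.CategoryTheory.Adjunction.PartialAdjoint
import Mathlib.CategoryTheory.Abelian.Subobject
import Mathlib.CategoryTheory.Limits.Yoneda
import Mathlib.CategoryTheory.Generator.Basic
-- import your own Groth.Agent.* helpers here

set_option autoImplicit false
universe v u
open CategoryTheory
open CohDer

namespace Groth.Agent.S0919

open CategoryTheory.Limits Opposite in
theorem aux {A : Type u} [Category.{v} A] [Abelian A]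
    [IsGrothendieckAbelian.{v} A] (F : Aᵒᵖ ⥤ Type v) :
    F.IsRepresentable ↔ PreservesLimitsOfSize.{v, v} F := by
  constructor
  · intro h
    have e := F.reprW
    exact preservesLimits_of_natIso e
  · intro h
    have hsep : (ObjectProperty.singleton (op (separator A))).IsCoseparating :=
      (isCoseparator_op_iff _).2 (isSeparator_separator A)
    have : F.IsRightAdjoint :=
      isRightAdjoint_of_preservesLimits_of_isCoseparating hsep F
    have h1 : F.leftAdjointObjIsDefined PUnit :=
      Functor.leftAdjointObjIsDefined_of_adjunction (Adjunction.ofIsRightAdjoint F) _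
    rw [Functor.leftAdjointObjIsDefined_iff] at h1
    have e : F ⋙ coyoneda.obj (op PUnit) ≅ F :=
      Functor.isoWhiskerLeft F Coyoneda.punitIso ≪≫ F.rightUnitor
    have h2 : F.IsCorepresentable := by
      obtain ⟨Y, ⟨hY⟩⟩ := h1
      exact ⟨Y, ⟨hY.ofIso e⟩⟩
    obtain ⟨Y, ⟨hY⟩⟩ := h2
    refine ⟨Y.unop, ⟨?_⟩⟩
    exact
      { homEquiv := fun {Z} => (opEquiv Y (op Z)).symm.trans (hY.homEquiv)
        homEquiv_comp := by
          intro Z Z' f g
          exact hY.homEquiv_comp f.op g.op }

open CategoryTheory.Limits in
/-- Let A be a Grothendieck abelian category and F a contravariant functor from A to sets (a functor on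
the opposite category). Then F is representable if and only if F turns all small colimits of A into
limits, i.e. preserves small limits as a functor on the opposite category. -/
theorem result {A : Type u} [Category.{v} A] [Abelian A]
    [IsGrothendieckAbelian.{v} A] (F : Aᵒᵖ ⥤ Type v) :
    F.IsRepresentable ↔ PreservesLimitsOfSize.{v, v} F := by
  exact aux F

end Groth.Agent.S0919
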