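import Groth.Statements.S0923
import Groth.Agent.Lib.Helper5.RT2
open Groth.Agent.Helper5.RT Groth.Agent.Helper5.LDer

set_option autoImplicit false
universe u
open CategoryTheory
attribute [local instance] HasDerivedCategory.standard
open DCoh

namespace Groth.Agent.S0923

open AlgebraicGeometry CategoryTheory.Limits in
/-- On a scheme X, an object E of D(𝒪_X) is perfect if and only if every point has an open neighbourhood
V such that the restriction to V of any complex representing E is isomorphic in D(𝒪_V) to a bounded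
complex each of whose terms is isomorphic to a finite free 𝒪_V-module. (The published statement is
for ringed spaces whose stalks are local rings and lists further equivalent conditions; here X is a
scheme and only this equivalence is stated.) -/
theorem result {X : Scheme.{u}} (E : DCoh.D X) :
    DCoh.IsPerfect E ↔ ∀ x : X, ∃ V : X.Opens, x ∈ V ∧
      ∀ F : CochainComplex X.Modules ℤ, Nonempty (DCoh.toD X F ≅ E) →
        ∃ (P : CochainComplex (V : Scheme.{u}).Modules ℤ) (a b : ℤ), DCoh.VanishesOutside P a b ∧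
          (∀ i : ℤ, ∃ n : ℕ, Nonempty (P.X i ≅ FlatMod.freeMod (V : Scheme.{u}) n)) ∧
          Nonempty (DerivedCategory.Q.obj ((DCoh.restrictCx V).obj F) ≅ DerivedCategory.Q.obj P) := by
  constructor
  · intro hE x
    obtain ⟨V, hxV, hV⟩ := hE x
    obtain ⟨E₁, hE₁, ⟨e₁⟩⟩ := hV (DerivedCategory.Q.objPreimage E)
      ⟨DerivedCategory.Q.objObjPreimageIso E⟩
    obtain ⟨W, hxW, hW⟩ := exists_open_free_of_isStrictlyPerfect E₁ hE₁ ⟨x, hxV⟩
    obtain ⟨⟨a, b, hv⟩, -⟩ := hE₁
    refine ⟨(W.ι ≫ V.ι).opensRange, ⟨⟨⟨x, hxV⟩, hxW⟩, rfl⟩, ?_⟩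
    rintro F ⟨eF⟩
    have e0 : DerivedCategory.Q.obj F ≅ DerivedCategory.Q.obj (DerivedCategory.Q.objPreimage E) :=
      eF ≪≫ (DerivedCategory.Q.objObjPreimageIso E).symm
    have e2 : DerivedCategory.Q.obj ((rCx (W.ι ≫ V.ι)).obj F) ≅
        DerivedCategory.Q.obj ((rCx W.ι).obj E₁) :=
      restrictQIso (W.ι ≫ V.ι) e0 ≪≫
        DerivedCategory.Q.mapIso ((NatIso.mapHomologicalComplex
          (Scheme.Modules.restrictFunctorComp W.ι V.ι) (ComplexShape.up ℤ)).app _) ≪≫
        restrictQIso W.ι e₁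
    refine ⟨(rCx (W.ι ≫ V.ι).isoOpensRange.inv).obj ((rCx W.ι).obj E₁), a, b, ?_, ?_,
      ⟨transferIso (W.ι ≫ V.ι) e2⟩⟩
    · intro i hi
      exact (Scheme.Modules.restrictFunctor _).map_isZero
        ((Scheme.Modules.restrictFunctor _).map_isZero (hv i hi))
    · intro i
      obtain ⟨n, ⟨en⟩⟩ := hW i
      exact ⟨n, ⟨(Scheme.Modules.restrictFunctor _).mapIso en ≪≫ restrictFreeModIso _ n⟩⟩
  · intro h x
    obtain ⟨V, hxV, hV⟩ := h x
    refine ⟨V, hxV, ?_⟩
    intro F hF
    obtain ⟨P, a, b, hv, hfree, ⟨e⟩⟩ := hV F hF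
    refine ⟨P, ⟨⟨a, b, hv⟩, fun i => ?_⟩, ⟨e⟩⟩
    obtain ⟨n, ⟨en⟩⟩ := hfree i
    exact Groth.Agent.Helper13.LocFree.isFinLocFree_of_iso en.symm
      (Groth.Agent.Helper13.LocFree.isFinLocFree_freeMod n)

end Groth.Agent.S0923
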