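import Groth.Statements.S0927
import Groth.Agent.Lib.Helper13.ProjFormulaLF
import Groth.Agent.Lib.Helper13.RpushCmp

set_option autoImplicit false
universe u
open CategoryTheory
open Coh

namespace Groth.Agent.S0927

open AlgebraicGeometry CategoryTheory.Limits in
/-- Projection formula, for schemes and one degree at a time: let f : X → Y be a morphism of schemes, F
an O_X-module and E a finite locally free O_Y-module. Then for every q the O_Y-module E ⊗ R^q f_* F
is isomorphic to R^q f_* (f^* E ⊗ F). The higher direct images are the right derived functors of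
f_*, under the instance argument recording that O_X-modules have injective resolutions. (The
published statement treats ringed spaces and also gives a version for bounded-below complexes.) -/
theorem result {X Y : Scheme.{u}} (f : X ⟶ Y) [HasInjectiveResolutions X.Modules]
    (F : X.Modules) (E : Y.Modules) (hE : FlatMod.IsFinLocFree E) (q : ℕ) :
    Nonempty (CohB1.tensorMod E ((Coh.Rpush f q).obj F) ≅
      (Coh.Rpush f q).obj (CohB1.tensorMod ((Scheme.Modules.pullback f).obj E) F)) := by
  haveI : EnoughInjectives X.Modules :=
    Groth.Agent.Helper13.RpushCmp.enoughInjectives_of_hasInjectiveResolutions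
  obtain ⟨Δ⟩ := Groth.Agent.S16463.result (Scheme.Modules.pushforward f)
  have hE' := Groth.Agent.Helper13.ResAffine.isFinLocFree_pullback f E hE
  obtain ⟨hY1, hY2⟩ := Groth.Agent.Helper13.TensorFunctor.exact_tensorRight E
    (Groth.Agent.Helper13.DualFinLocFree.flat_stalk E hE)
  obtain ⟨hX1, hX2⟩ := Groth.Agent.Helper13.TensorFunctor.exact_tensorRight
    ((Scheme.Modules.pullback f).obj E)
    (Groth.Agent.Helper13.DualFinLocFree.flat_stalk _ hE')
  let T := Groth.Agent.Helper13.DeltaPsh.postcomp Δ.toCohDeltaFunctor
    (Groth.Agent.Helper13.TensorFunctor.tensorRight E)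
  let T' := Groth.Agent.Helper13.RpushCmp.precomp
    (Groth.Agent.Helper13.TensorFunctor.tensorRight ((Scheme.Modules.pullback f).obj E))
    Δ.toCohDeltaFunctor
  have hT : T.IsUniversal := by
    apply Groth.Agent.S6773.result
    apply Groth.Agent.Helper13.DeltaPsh.effaceable_of_injective
    intro k I hI
    exact Functor.map_isZero (Groth.Agent.Helper13.TensorFunctor.tensorRight E)
      (Functor.isZero_rightDerived_obj_injective_succ (Scheme.Modules.pushforward f) k I)
  have hT' : T'.IsUniversal := by
    apply Groth.Agent.S6773.result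
    apply Groth.Agent.Helper13.DeltaPsh.effaceable_of_injective
    intro k I hI
    haveI : Injective ((Groth.Agent.Helper13.TensorFunctor.tensorRight
        ((Scheme.Modules.pullback f).obj E)).obj I) :=
      Groth.Agent.Helper13.DualFinLocFree.injective_tensorMod_right I _ hE'
    exact Functor.isZero_rightDerived_obj_injective_succ (Scheme.Modules.pushforward f) k _
  let e0 : T.F 0 ≅ T'.F 0 :=
    Functor.isoWhiskerRight (Scheme.Modules.pushforward f).rightDerivedZeroIsoSelf
        (Groth.Agent.Helper13.TensorFunctor.tensorRight E) ≪≫
      Groth.Agent.Helper13.ProjFormulaLF.νIso f E hE ≪≫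
      Functor.isoWhiskerLeft
        (Groth.Agent.Helper13.TensorFunctor.tensorRight ((Scheme.Modules.pullback f).obj E))
        (Scheme.Modules.pushforward f).rightDerivedZeroIsoSelf.symm
  obtain ⟨e⟩ := Groth.Agent.Helper13.DeltaPsh.iso_of_universal T T' hT hT' e0 q
  exact ⟨Groth.Agent.Helper13.Tensor.braid _ _ ≪≫ e.app F ≪≫
    (Coh.Rpush f q).mapIso (Groth.Agent.Helper13.Tensor.braid _ _)⟩

end Groth.Agent.S0927
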