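import Groth.Statements.S0929
import Groth.Statements.S0929
import Mathlib.CategoryTheory.Abelian.GrothendieckCategory.EnoughInjectives
import Mathlib.CategoryTheory.Abelian.GrothendieckAxioms.FunctorCategory
import Mathlib.Algebra.Category.ModuleCat.Presheaf.Generator
import Mathlib.Algebra.Category.Grp.AB
import Mathlib.CategoryTheory.Functor.ReflectsIso.Balanced
-- import your own Groth.Agent.* helpers here

set_option autoImplicit false
universe u
open CategoryTheory
open CohDer

namespace Groth.Agent.S0929

open CategoryTheory Limits ZeroObject

/-- Functorial injective embeddings in a Grothendieck abelian category. -/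
theorem exists_functorial_injective_embedding {C : Type*} [Category C] [Abelian C]
    [IsGrothendieckAbelian.{u} C] :
    ∃ (J : C ⥤ C) (j : 𝟭 _ ⟶ J), ∀ F : C, Injective (J.obj F) ∧ Mono (j.app F) := by
  let data := MorphismProperty.functorialFactorizationData
    (MorphismProperty.monomorphisms C) (MorphismProperty.monomorphisms C).rlp
  let Arr : C ⥤ Arrow C :=
    { obj := fun X => Arrow.mk (0 : X ⟶ 0)
      map := fun f => Arrow.homMk f (𝟙 0) (by simp) }
  refine ⟨Arr ⋙ data.Z, { app := fun X => data.i.app (Arr.obj X), naturality := ?_ }, ?_⟩
  · intro X Y f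
    exact data.i.naturality (Arr.map f)
  · intro F
    constructor
    · exact inferInstanceAs (Injective (IsGrothendieckAbelian.monoMapFactorizationDataRlp (0 : F ⟶ 0)).Z)
    · exact inferInstanceAs (Mono (IsGrothendieckAbelian.monoMapFactorizationDataRlp (0 : F ⟶ 0)).i)

theorem isGrothendieckAbelian_presheafOfModules {C : Type u} [SmallCategory C]
    (O : Cᵒᵖ ⥤ RingCat.{u}) : IsGrothendieckAbelian.{u} (PresheafOfModules.{u} O) where
  locallySmall := inferInstance
  hasFilteredColimitsOfSize := inferInstance
  ab5OfSize := ⟨fun J _ _ =>
    HasExactColimitsOfShape.domain_of_functor J (PresheafOfModules.toPresheaf O)⟩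
  hasSeparator := ⟨∐ (fun X : C => (PresheafOfModules.free O).obj (yoneda.obj X)),
    ObjectProperty.IsSeparating.isSeparator_coproduct
      (PresheafOfModules.freeYoneda.isSeparating (R := O))⟩

theorem aux {C : Type u} [SmallCategory C]
    (O : Cᵒᵖ ⥤ RingCat.{u}) :
    ∃ (J : PresheafOfModules.{u} O ⥤ PresheafOfModules.{u} O) (j : 𝟭 _ ⟶ J),
      ∀ F : PresheafOfModules.{u} O, Injective (J.obj F) ∧ Mono (j.app F) := by
  have := isGrothendieckAbelian_presheafOfModules O
  exact exists_functorial_injective_embedding.{u}

/-- For a presheaf of rings O on a small category C, the category of presheaves of O-modules has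
functorial injective embeddings (an endofunctor J with a natural transformation from the identity
whose components are monomorphisms into injective objects). -/
theorem result {C : Type u} [SmallCategory C]
    (O : Cᵒᵖ ⥤ RingCat.{u}) :
    ∃ (J : PresheafOfModules.{u} O ⥤ PresheafOfModules.{u} O) (j : 𝟭 _ ⟶ J),
      ∀ F : PresheafOfModules.{u} O, Injective (J.obj F) ∧ Mono (j.app F) := by
  exact aux O

end Groth.Agent.S0929
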