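import Groth.Statements.S0930
import Mathlib
import Groth.Agent.S6624
import Groth.Agent.S12541
import Groth.Agent.Lib.Helper24.Flasque

set_option autoImplicit false
universe u
open CategoryTheory
attribute [local instance] HasDerivedCategory.standard
open CohTop

namespace Groth.Agent.S0930

/-- For continuous maps f : X -> Y and g : Y -> Z, the composite of the right derived functors Rf_* :
D^+(X) -> D^+(Y) and Rg_* : D^+(Y) -> D^+(Z) is isomorphic to R(g ∘ f)_* (existence of an
isomorphism of functors between bounded below derived categories). -/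
theorem result {X Y Z : TopCat.{u}} (f : X ⟶ Y) (g : Y ⟶ Z) :
    Nonempty ((CohTop.push f).rightDerivedFunctorPlus ⋙ (CohTop.push g).rightDerivedFunctorPlus ≅
      (CohTop.push (f ≫ g)).rightDerivedFunctorPlus) := by
  have e : CohTop.push f ⋙ CohTop.push g ≅ CohTop.push (f ≫ g) := Iso.refl _
  have hFG : ∀ I : CohTop.Ab X, Injective I →
      IsIso ((CohTop.push g).rightDerivedFunctorPlusUnit.app
        ((HomotopyCategory.Plus.singleFunctor (CohTop.Ab Y) 0).obj ((CohTop.push f).obj I))) := by
    intro I hI
    refine (Groth.Agent.S6624.result (CohTop.push g) ((CohTop.push f).obj I)).2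
      ⟨inferInstance, fun i hi => ?_⟩
    obtain ⟨q, rfl⟩ : ∃ q, i = q + 1 := ⟨i - 1, by omega⟩
    haveI := Groth.Agent.Helper24.Flasque.isFlasque_of_injective I
    exact Groth.Agent.Helper24.Flasque.Rpush_succ_isZero g q ((CohTop.push f).obj I)
      (TopCat.Sheaf.IsFlasque.pushforward_isFlasque I f)
  let α := (Functor.whiskerRight (Functor.mapHomotopyCategoryPlusCompIso
        (Iso.refl (CohTop.push f ⋙ CohTop.push g))).inv DerivedCategory.Plus.Qh
        ≫ (Functor.associator _ _ _).hom
        ≫ Functor.whiskerLeft (CohTop.push f).mapHomotopyCategoryPlus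
            (CohTop.push g).rightDerivedFunctorPlusUnit
        ≫ (Functor.associator _ _ _).inv
        ≫ Functor.whiskerRight (CohTop.push f).rightDerivedFunctorPlusUnit
            (CohTop.push g).rightDerivedFunctorPlus
        ≫ (Functor.associator _ _ _).hom)
  haveI h1 : ((CohTop.push f).rightDerivedFunctorPlus ⋙
      (CohTop.push g).rightDerivedFunctorPlus).IsRightDerivedFunctor α
      (HomotopyCategory.Plus.quasiIso (CohTop.Ab X)) :=
    Groth.Agent.S12541.result (CohTop.push f) (CohTop.push g) hFG
  exact ⟨Functor.rightDerivedNatIso _ _ α (CohTop.push (f ≫ g)).rightDerivedFunctorPlusUnit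
    (HomotopyCategory.Plus.quasiIso (CohTop.Ab X))
    (Functor.isoWhiskerRight ((Functor.mapHomotopyCategoryPlusCompIso
      (Iso.refl (CohTop.push f ⋙ CohTop.push g))).symm ≪≫
        Functor.mapHomotopyCategoryPlusCompIso e) DerivedCategory.Plus.Qh)⟩

end Groth.Agent.S0930
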