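import Groth.Statements.S0953
import Groth.Agent.Lib.Helper5.StalkCx3
import Groth.Agent.Lib.Helper5.KFlat2

set_option autoImplicit false
universe u
open CategoryTheory
attribute [local instance] HasDerivedCategory.standard
open DCoh

namespace Groth.Agent.S0953

open AlgebraicGeometry in
/-- A bounded above complex of O_X-modules all of whose terms are flat (stalkwise) is K-flat. -/
theorem result {X : Scheme.{u}} (K : CochainComplex X.Modules ℤ) (b : ℤ) (hb : K.IsStrictlyLE b)
    (hflat : ∀ n : ℤ, FlatMod.IsFlat (K.X n)) : DCoh.IsKFlat K := by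
  apply Groth.Agent.Helper5.StalkCx.isKFlat_of_stalks
  intro x L hL i
  rw [← HomologicalComplex.exactAt_iff_isZero_homology]
  refine Groth.Agent.Helper5.KF.exactAt_tensor_of_flat_bddAbove L
    (Groth.Agent.Helper5.StalkCx.stalkCx x K) b ?_ ?_ ?_ i
  · intro j hj
    exact (DerSch.stalkFunctor X x).map_isZero (K.isZero_of_isStrictlyLE b j hj)
  · intro j
    exact hflat j x
  · intro j
    exact (HomologicalComplex.exactAt_iff_isZero_homology _ _).mpr (hL j)

end Groth.Agent.S0953
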