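import Groth.Statements.S0957
import Groth.Agent.Lib.Helper5.StalkCx4

set_option autoImplicit false
universe u
open CategoryTheory
attribute [local instance] HasDerivedCategory.standard
open DCoh

namespace Groth.Agent.S0957

open AlgebraicGeometry in
/-- Let 0 -> K₁ -> K₂ -> K₃ -> 0 be a short exact sequence of complexes of O_X-modules such that every
term of K₃ is a flat O_X-module. If two of K₁, K₂, K₃ are K-flat then so is the third. -/
theorem result {X : Scheme.{u}} (S : ShortComplex (CochainComplex X.Modules ℤ))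
    (hS : S.ShortExact) (h3 : ∀ n : ℤ, FlatMod.IsFlat (S.X₃.X n)) :
    (DCoh.IsKFlat S.X₁ → DCoh.IsKFlat S.X₂ → DCoh.IsKFlat S.X₃) ∧
    (DCoh.IsKFlat S.X₁ → DCoh.IsKFlat S.X₃ → DCoh.IsKFlat S.X₂) ∧
    (DCoh.IsKFlat S.X₂ → DCoh.IsKFlat S.X₃ → DCoh.IsKFlat S.X₁) := by
  have key : ∀ L : CochainComplex X.Modules ℤ,
      (Groth.Agent.Helper5.KFA.tensSC (DCoh.tensorBi (X := X)) L S).ShortExact :=
    fun L => Groth.Agent.Helper5.StalkCx.shortExact_tensSC_of_flat S hS h3 L
  refine ⟨fun h1 h2 L hL => ?_, fun h1 h3' L hL => ?_, fun h2 h3' L hL => ?_⟩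
  · exact (Groth.Agent.Helper5.KFA.acyclic_of_shortExact _ (key L)).1 (h1 L hL) (h2 L hL)
  · exact (Groth.Agent.Helper5.KFA.acyclic_of_shortExact _ (key L)).2.1 (h1 L hL) (h3' L hL)
  · exact (Groth.Agent.Helper5.KFA.acyclic_of_shortExact _ (key L)).2.2 (h2 L hL) (h3' L hL)

end Groth.Agent.S0957
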