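import Groth.Statements.S0970
import Mathlib
import Groth.Agent.Lib.Helper9.PRes3

set_option autoImplicit false
universe v u
open CategoryTheory
open CohDer

namespace Groth.Agent.S0970

/-- Let P be a class of objects in an abelian category containing a zero object and such that every
object is a quotient of an object in P. For a cochain complex K vanishing in degrees above a there
is a quasi-isomorphism Q ⟶ K, surjective in each degree, where Q has all terms in P and also
vanishes above degree a. -/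
theorem result {A : Type u} [Category.{v} A] [Abelian A] (P : A → Prop)
    (hP0 : ∃ Z : A, Limits.IsZero Z ∧ P Z) (hP : ∀ X : A, ∃ (Y : A) (π : Y ⟶ X), P Y ∧ Epi π)
    (K : CochainComplex A ℤ) (a : ℤ) [K.IsStrictlyLE a] :
    ∃ (Q : CochainComplex A ℤ) (α : Q ⟶ K), Q.IsStrictlyLE a ∧ (∀ n, P (Q.X n)) ∧ (∀ n, Epi (α.f n)) ∧ QuasiIso α := by
  classical
  obtain ⟨Z, hZ0, hZ⟩ := hP0
  have hQ₀ : ∀ j : ℤ, Limits.IsZero ((HomologicalComplex.zero : CochainComplex A ℤ).X j) := fun j =>
    Limits.isZero_zero A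
  obtain ⟨Q, ι, π, -, hQa, hsplit, hepi, hqi⟩ :=
    Groth.Agent.Helper9.PRes.exists_relative_resolution P (0 : (HomologicalComplex.zero : CochainComplex A ℤ) ⟶ K) a hP Z hZ0 hZ
      (fun j _ => hQ₀ j) (fun j hj => CochainComplex.isZero_of_isStrictlyLE K a j hj)
  have hch : ∀ j : ℤ, ∃ (Y : A), P Y ∧ Nonempty (Q.X j ≅ Y) := fun j => by
    obtain ⟨T, hT, hsp⟩ := hsplit j
    exact ⟨T, hT, hsp.nonempty_iso_of_isZero (hQ₀ j)⟩
  choose Y hY e using hch
  let e' : ∀ j, Q.X j ≅ Y j := fun j => (e j).some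
  let Q' : CochainComplex A ℤ :=
    { X := Y
      d := fun i j => (e' i).inv ≫ Q.d i j ≫ (e' j).hom
      shape := fun i j h => by simp [Q.shape i j h]
      d_comp_d' := fun i j k _ _ => by simp }
  let φ : Q' ≅ Q := HomologicalComplex.Hom.isoOfComponents (fun j => (e' j).symm)
    (fun i j _ => by simp [Q'])
  refine ⟨Q', φ.hom ≫ π, ?_, hY, fun n => ?_, ?_⟩
  · rw [CochainComplex.isStrictlyLE_iff]
    intro i hi
    exact (hQa i hi).of_iso (e' i).symm
  · haveI : IsIso (φ.hom.f n) :=
      (inferInstance : IsIso ((HomologicalComplex.eval A (ComplexShape.up ℤ) n).map φ.hom))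
    haveI := hepi n
    rw [HomologicalComplex.comp_f]
    exact epi_comp _ _
  · infer_instance

end Groth.Agent.S0970
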