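import Groth.Statements.S0971
import Mathlib
import Groth.Agent.Lib.Helper9.PCoh18

set_option autoImplicit false
universe v u
open CategoryTheory
open CohDer

namespace Groth.Agent.S0971

/-- Let P be a class of objects in an abelian category containing a zero object and such that every
object is a quotient of an object in P. A cochain complex whose cohomology vanishes in degrees above
a receives a quasi-isomorphism from a complex with all terms in P which vanishes above degree a. -/
theorem result {A : Type u} [Category.{v} A] [Abelian A] (P : A → Prop)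
    (hP0 : ∃ Z : A, Limits.IsZero Z ∧ P Z) (hP : ∀ X : A, ∃ (Y : A) (π : Y ⟶ X), P Y ∧ Epi π)
    (K : CochainComplex A ℤ) (a : ℤ) (hK : ∀ n : ℤ, a < n → Limits.IsZero (K.homology n)) :
    ∃ (Q : CochainComplex A ℤ) (α : Q ⟶ K), Q.IsStrictlyLE a ∧ (∀ n, P (Q.X n)) ∧ QuasiIso α := by
  classical
  let P' : ObjectProperty A := ObjectProperty.isoClosure P
  haveI : P'.IsClosedUnderIsomorphisms := inferInstance
  obtain ⟨Z, hZ0, hZ⟩ := hP0
  haveI : P'.ContainsZero := ⟨⟨Z, hZ0, ObjectProperty.le_isoClosure P _ hZ⟩⟩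
  have hft : ∀ X : A, PCoh.IsOfFiniteType P' X := by
    intro X
    obtain ⟨Y, π, hY, hπ⟩ := hP X
    exact ⟨Y, π, ObjectProperty.le_isoClosure P _ hY, hπ⟩
  have hql : PCoh.IsQuasiLiftable P' := by
    intro E F u hu _
    obtain ⟨Y, π, hY, hπ⟩ := hP E
    exact ⟨Y, π, ObjectProperty.le_isoClosure P _ hY, epi_comp _ _⟩
  have hX : Groth.Agent.Helper9.PCohLib.HasFTCones P' K := fun m G w _ _ _ => hft _
  obtain ⟨E, d, hd, hE, hEa⟩ :=
    Groth.Agent.Helper9.PCohLib.exists_strictPCAll_resolution' P' hql a hX hK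
  have hch : ∀ j : ℤ, ∃ (Y : A), P Y ∧ Nonempty (E.X j ≅ Y) := by
    intro j
    obtain ⟨Y, hY, ⟨e⟩⟩ := hE j
    exact ⟨Y, hY, ⟨e⟩⟩
  choose Y hY e using hch
  let e' : ∀ j, E.X j ≅ Y j := fun j => (e j).some
  let Q : CochainComplex A ℤ :=
    { X := Y
      d := fun i j => (e' i).inv ≫ E.d i j ≫ (e' j).hom
      shape := fun i j h => by simp [E.shape i j h]
      d_comp_d' := fun i j k _ _ => by simp }
  let φ : Q ≅ E := HomologicalComplex.Hom.isoOfComponents (fun j => (e' j).symm)
    (fun i j _ => by simp [Q])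
  refine ⟨Q, φ.hom ≫ d, ?_, hY, ?_⟩
  · rw [CochainComplex.isStrictlyLE_iff]
    intro i hi
    exact (hEa i hi).of_iso (e' i).symm
  · infer_instance

end Groth.Agent.S0971
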