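import Groth.Statements.S0973
import Groth.Agent.Lib.Helper2.DerTrunc
import Mathlib.Algebra.Homology.DerivedCategory.FullyFaithful
-- import your own Groth.Agent.* helpers here

set_option autoImplicit false
universe w v u
open CategoryTheory CategoryTheory.Limits
open CohDer

namespace Groth.Agent.S0973

open DerivedCategory Pretriangulated

variable {A : Type u} [Category.{v} A] [Abelian A] [HasDerivedCategory.{w} A]

/-- (A) vanishing of maps between singles from vanishing of the corresponding Ext group. -/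
theorem hom_single_single_eq_zero (M N : A) (i c p : ℤ) (hp : p = i - c)
    (hV : ∀ f : (singleFunctor A 0).obj M ⟶ ((singleFunctor A 0).obj N)⟦p⟧, f = 0)
    (f : (singleFunctor A i).obj M ⟶ (singleFunctor A c).obj N) : f = 0 := by
  let u : ((singleFunctor A 0).obj M)⟦-i⟧ ≅ (singleFunctor A i).obj M :=
    ((singleFunctors A).shiftIso (-i) i 0 (by simp)).app M
  let v : ((singleFunctor A 0).obj N)⟦-c⟧ ≅ (singleFunctor A c).obj N :=
    ((singleFunctors A).shiftIso (-c) c 0 (by simp)).app N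
  let f' : ((singleFunctor A 0).obj M)⟦-i⟧ ⟶ ((singleFunctor A 0).obj N)⟦-c⟧ := u.hom ≫ f ≫ v.inv
  let α : (((singleFunctor A 0).obj M)⟦-i⟧)⟦i⟧ ≅ (singleFunctor A 0).obj M :=
    (shiftFunctorCompIsoId (DerivedCategory A) (-i) i (by simp)).app _
  let β : (((singleFunctor A 0).obj N)⟦-c⟧)⟦i⟧ ≅ ((singleFunctor A 0).obj N)⟦p⟧ :=
    ((shiftFunctorAdd' (DerivedCategory A) (-c) i p (by omega)).app _).symm
  have hg : α.inv ≫ f'⟦i⟧' ≫ β.hom = 0 := hV _
  have h1 : f'⟦i⟧' = 0 := by
    have := congrArg (fun t => α.hom ≫ t ≫ β.inv) hg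
    simpa using this
  have h2 : f' = 0 := (shiftFunctor (DerivedCategory A) i).map_injective (by rw [h1, Functor.map_zero])
  have h3 := congrArg (fun t => u.inv ≫ t ≫ v.hom) h2
  simpa [f'] using h3

/-- `H^q(Q f)` is an iso iff `f` is a quasi-iso at `q`. -/
theorem isIso_homology_Q_map_iff {K L : CochainComplex A ℤ} (f : K ⟶ L) (q : ℤ) :
    IsIso ((homologyFunctor A q).map (Q.map f)) ↔ QuasiIsoAt f q := by
  rw [quasiIsoAt_iff_isIso_homologyMap]
  exact NatIso.isIso_map_iff (homologyFunctorFactors A q) f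

theorem isIso_homology_ιTruncLE (K : CochainComplex A ℤ) (n q : ℤ) (hq : q ≤ n) :
    IsIso ((homologyFunctor A q).map (Q.map (K.ιTruncLE n))) :=
  (isIso_homology_Q_map_iff _ _).2 (K.quasiIsoAt_ιTruncLE n q hq)

theorem isIso_homology_πTruncGE (K : CochainComplex A ℤ) (n q : ℤ) (hq : n ≤ q) :
    IsIso ((homologyFunctor A q).map (Q.map (K.πTruncGE n))) :=
  (isIso_homology_Q_map_iff _ _).2 (K.quasiIsoAt_πTruncGE n q hq)

/-- `Q (τ≤n K)` is `≥ a` if `Q K` is. -/
theorem isGE_Q_truncLE (K : CochainComplex A ℤ) (n a : ℤ) [(Q.obj K).IsGE a] :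
    (Q.obj (K.truncLE n)).IsGE a := by
  rw [DerivedCategory.isGE_iff]
  intro i hi
  by_cases hin : i ≤ n
  · have := isIso_homology_ιTruncLE K n i hin
    exact ((Q.obj K).isZero_of_isGE a i hi).of_iso
      (asIso ((homologyFunctor A i).map (Q.map (K.ιTruncLE n))))
  · exact (Q.obj (K.truncLE n)).isZero_of_isLE n i (by omega)

/-- `Q (τ≥n K)` is `≤ c` if `Q K` is. -/
theorem isLE_Q_truncGE (K : CochainComplex A ℤ) (n c : ℤ) [(Q.obj K).IsLE c] :
    (Q.obj (K.truncGE n)).IsLE c := by
  rw [DerivedCategory.isLE_iff]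
  intro i hi
  by_cases hin : n ≤ i
  · have := isIso_homology_πTruncGE K n i hin
    exact ((Q.obj K).isZero_of_isLE c i hi).of_iso
      (asIso ((homologyFunctor A i).map (Q.map (K.πTruncGE n)))).symm
  · exact (Q.obj (K.truncGE n)).isZero_of_isGE n i (by omega)

/-- vanishing of `Ext^p(M, N)` for `p ≥ 2`. -/
def V (M N : A) : Prop := ∀ (p : ℤ), 2 ≤ p →
  ∀ f : (singleFunctor A 0).obj M ⟶ ((singleFunctor A 0).obj N)⟦p⟧, f = 0

theorem V_of_iso {M N N' : A} (e : N ≅ N') (h : V M N) : V M N' := by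
  intro p hp f
  let ε : ((singleFunctor A 0).obj N')⟦p⟧ ≅ ((singleFunctor A 0).obj N)⟦p⟧ :=
    (shiftFunctor (DerivedCategory A) p).mapIso ((singleFunctor A 0).mapIso e.symm)
  have := h p hp (f ≫ ε.hom)
  rw [← cancel_mono ε.hom, this, zero_comp]

theorem V_of_isZero {M N : A} (h : IsZero N) : V M N := by
  intro p hp f
  have h1 : IsZero ((singleFunctor A 0).obj N) := Functor.map_isZero _ h
  have h2 : IsZero (((singleFunctor A 0).obj N)⟦p⟧) := Functor.map_isZero _ h1
  exact h2.eq_of_tgt _ _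

theorem hom_single_eq_zero (M : A) : ∀ (n : ℕ) (L : DerivedCategory A) (a c i : ℤ),
    L.IsGE a → L.IsLE c → c < a + n → c + 2 ≤ i →
    (∀ j : ℤ, V M ((homologyFunctor A j).obj L)) →
    ∀ f : (singleFunctor A i).obj M ⟶ L, f = 0 := by
  intro n
  induction n with
  | zero =>
    intro L a c i _ _ hca _ _ f
    have : IsZero L := TStructure.t.isZero L c a (by simpa using hca)
    exact this.eq_of_tgt _ _
  | succ n ih =>
    intro L a c i hGE hLE hca hci hV f
    let K' := Q.objPreimage L
    let e : L ≅ Q.obj K' := (Q.objObjPreimageIso L).symm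
    have : (Q.obj K').IsGE a := TStructure.t.isGE_of_iso e a
    have : (Q.obj K').IsLE c := TStructure.t.isLE_of_iso e c
    have hL₂LE : (Q.obj (K'.truncGE c)).IsLE c := isLE_Q_truncGE K' c c
    have hL₂GE : (Q.obj (K'.truncGE c)).IsGE c := inferInstance
    obtain ⟨N, ⟨eN⟩⟩ := exists_iso_singleFunctor_obj_of_isGE_of_isLE (Q.obj (K'.truncGE c)) c
    have hiso := isIso_homology_πTruncGE K' c c le_rfl
    let iN : N ≅ (homologyFunctor A c).obj L :=
      ((singleFunctorCompHomologyFunctorIso A c).app N).symm ≪≫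
        (homologyFunctor A c).mapIso eN.symm ≪≫
        (asIso ((homologyFunctor A c).map (Q.map (K'.πTruncGE c)))).symm ≪≫
        (homologyFunctor A c).mapIso e.symm
    have hVN : V M N := V_of_iso iN.symm (hV c)
    have h1 : (f ≫ e.hom ≫ Q.map (K'.πTruncGE c)) ≫ eN.hom = 0 :=
      hom_single_single_eq_zero M N i c (i - c) rfl (hVN (i - c) (by omega)) _
    have h2 : (f ≫ e.hom) ≫ Q.map (K'.πTruncGE c) = 0 := by
      rw [← cancel_mono eN.hom, zero_comp, ← h1]
      simp
    obtain ⟨φ, hφ⟩ := Helper2.exists_lift_truncLE K' (c - 1) c (by omega) (f ≫ e.hom) h2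
    have hL₁GE : (Q.obj (K'.truncLE (c - 1))).IsGE a := isGE_Q_truncLE K' (c - 1) a
    have hL₁LE : (Q.obj (K'.truncLE (c - 1))).IsLE (c - 1) := inferInstance
    have hφ0 : φ = 0 := by
      apply ih (Q.obj (K'.truncLE (c - 1))) a (c - 1) i hL₁GE hL₁LE (by push_cast at hca; omega)
        (by omega)
      intro j
      by_cases hj : j ≤ c - 1
      · have := isIso_homology_ιTruncLE K' (c - 1) j hj
        exact V_of_iso ((asIso ((homologyFunctor A j).map (Q.map (K'.ιTruncLE (c - 1))))) ≪≫
          (homologyFunctor A j).mapIso e.symm).symm (hV j)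
      · exact V_of_isZero ((Q.obj (K'.truncLE (c - 1))).isZero_of_isLE (c - 1) j (by omega))
    rw [hφ0, zero_comp] at hφ
    rw [← cancel_mono e.hom, zero_comp, ← hφ]

theorem V_of_iso_left {M M' N : A} (e : M ≅ M') (h : V M N) : V M' N := by
  intro p hp f
  let ε : (singleFunctor A 0).obj M ≅ (singleFunctor A 0).obj M' := (singleFunctor A 0).mapIso e
  have := h p hp (ε.hom ≫ f)
  rw [← cancel_epi ε.hom, this, comp_zero]

/-- Step 1: a map from the `i`-th cohomology (placed in degree `i`) inducing an iso on `H^i`. -/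
theorem exists_section (K : DerivedCategory A) (a i : ℤ) [K.IsGE a]
    (hV : ∀ j : ℤ, j < i → V ((homologyFunctor A i).obj K) ((homologyFunctor A j).obj K)) :
    ∃ s : (singleFunctor A i).obj ((homologyFunctor A i).obj K) ⟶ K,
      IsIso ((homologyFunctor A i).map s) := by
  let K' := Q.objPreimage K
  let e : K ≅ Q.obj K' := (Q.objObjPreimageIso K).symm
  have : (Q.obj K').IsGE a := TStructure.t.isGE_of_iso e a
  let T := K'.truncLE i
  have hTGE : (Q.obj T).IsGE a := isGE_Q_truncLE K' i a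
  have hTLE : (Q.obj T).IsLE i := inferInstance
  obtain ⟨δ, hδ⟩ := Helper2.exists_truncTriangle T (i - 1) i (by omega)
  have hWLE : (Q.obj (T.truncGE i)).IsLE i := isLE_Q_truncGE T i i
  have hWGE : (Q.obj (T.truncGE i)).IsGE i := inferInstance
  obtain ⟨N, ⟨eN⟩⟩ := exists_iso_singleFunctor_obj_of_isGE_of_isLE (Q.obj (T.truncGE i)) i
  have hiso1 := isIso_homology_πTruncGE T i i le_rfl
  have hiso2 := isIso_homology_ιTruncLE K' i i le_rfl
  let iN : N ≅ (homologyFunctor A i).obj K :=
    ((singleFunctorCompHomologyFunctorIso A i).app N).symm ≪≫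
      (homologyFunctor A i).mapIso eN.symm ≪≫
      (asIso ((homologyFunctor A i).map (Q.map (T.πTruncGE i)))).symm ≪≫
      (asIso ((homologyFunctor A i).map (Q.map (K'.ιTruncLE i)))) ≪≫
      (homologyFunctor A i).mapIso e.symm
  -- δ = 0
  have hL₁GE : (Q.obj (T.truncLE (i - 1))).IsGE a := isGE_Q_truncLE T (i - 1) a
  have hL₁LE : (Q.obj (T.truncLE (i - 1))).IsLE (i - 1) := inferInstance
  have hδ0 : δ = 0 := by
    let L₁ := Q.obj (T.truncLE (i - 1))
    let ψ : ((singleFunctor A i).obj N)⟦(-1 : ℤ)⟧ ⟶ L₁ :=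
      (eN.inv ≫ δ)⟦(-1 : ℤ)⟧' ≫ (shiftFunctorCompIsoId (DerivedCategory A) (1 : ℤ) (-1) (by simp)).hom.app L₁
    let κ : ((singleFunctor A i).obj N)⟦(-1 : ℤ)⟧ ≅ (singleFunctor A (i + 1)).obj N :=
      ((singleFunctors A).shiftIso (-1) (i + 1) i (by omega)).app N
    have h0 : κ.inv ≫ ψ = 0 := by
      apply hom_single_eq_zero N (i - a).toNat L₁ a (i - 1) (i + 1) hL₁GE hL₁LE (by omega) (by omega)
      intro j
      by_cases hj : j ≤ i - 1
      · have h1 := isIso_homology_ιTruncLE T (i - 1) j hj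
        have h2 := isIso_homology_ιTruncLE K' i j (by omega)
        exact V_of_iso_left iN.symm (V_of_iso
          ((asIso ((homologyFunctor A j).map (Q.map (T.ιTruncLE (i - 1))))) ≪≫
            (asIso ((homologyFunctor A j).map (Q.map (K'.ιTruncLE i)))) ≪≫
            (homologyFunctor A j).mapIso e.symm).symm (hV j (by omega)))
      · exact V_of_isZero (L₁.isZero_of_isLE (i - 1) j (by omega))
    have h1 : ψ = 0 := by rw [← cancel_epi κ.inv, h0, comp_zero]
    have h2 : (eN.inv ≫ δ)⟦(-1 : ℤ)⟧' = 0 := by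
      rw [← cancel_mono ((shiftFunctorCompIsoId (DerivedCategory A) (1 : ℤ) (-1) (by simp)).hom.app L₁),
        zero_comp]
      exact h1
    have h3 : eN.inv ≫ δ = 0 :=
      (shiftFunctor (DerivedCategory A) (-1 : ℤ)).map_injective (by rw [h2, Functor.map_zero])
    rw [← cancel_epi eN.inv, h3, comp_zero]
  obtain ⟨σ, hσ⟩ : ∃ σ : Q.obj (T.truncGE i) ⟶ Q.obj T, 𝟙 _ = σ ≫ Q.map (T.πTruncGE i) :=
    Triangle.coyoneda_exact₃ _ hδ (𝟙 _) (by
      change 𝟙 _ ≫ δ = 0
      rw [hδ0, comp_zero])
  have hσiso : IsIso ((homologyFunctor A i).map σ) := by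
    have h : (homologyFunctor A i).map σ ≫ (homologyFunctor A i).map (Q.map (T.πTruncGE i)) = 𝟙 _ := by
      rw [← CategoryTheory.Functor.map_comp, ← hσ, CategoryTheory.Functor.map_id]
    exact IsIso.of_isIso_fac_right h
  refine ⟨(singleFunctor A i).map iN.inv ≫ eN.inv ≫ σ ≫ Q.map (K'.ιTruncLE i) ≫ e.inv, ?_⟩
  simp only [CategoryTheory.Functor.map_comp]
  infer_instance

section biprod

variable {D : Type*} [Category D] [Preadditive D] {B : Type*} [Category B] [Preadditive B]
  (H : D ⥤ B) [H.Additive] {ι : Type} [Fintype ι] (f : ι → D) [HasBiproduct f]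

theorem map_total :
    ∑ j, H.map (biproduct.π f j) ≫ H.map (biproduct.ι f j) = 𝟙 (H.obj (⨁ f)) := by
  simp only [← H.map_comp, ← H.map_sum]
  rw [biproduct.total, H.map_id]

theorem isIso_map_ι (i₀ : ι) (hz : ∀ j, j ≠ i₀ → IsZero (H.obj (f j))) :
    IsIso (H.map (biproduct.ι f i₀)) := by
  refine ⟨⟨H.map (biproduct.π f i₀), ?_, ?_⟩⟩
  · rw [← H.map_comp, biproduct.ι_π_self, H.map_id]
  · rw [← map_total H f]
    symm
    apply Finset.sum_eq_single i₀
    · intro j _ hj
      rw [(hz j hj).eq_of_tgt (H.map (biproduct.π f j)) 0, zero_comp]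
    · intro h
      exact absurd (Finset.mem_univ _) h

theorem isZero_map_biproduct (hz : ∀ j, IsZero (H.obj (f j))) : IsZero (H.obj (⨁ f)) := by
  rw [IsZero.iff_id_eq_zero, ← map_total H f]
  apply Finset.sum_eq_zero
  intro j _
  rw [(hz j).eq_of_tgt (H.map (biproduct.π f j)) 0, zero_comp]

end biprod

theorem isZero_homology_single (M : A) (i n : ℤ) (h : n ≠ i) :
    IsZero ((homologyFunctor A n).obj ((singleFunctor A i).obj M)) := by
  rcases lt_or_gt_of_ne h with h | h
  · exact ((singleFunctor A i).obj M).isZero_of_isGE i n h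
  · exact ((singleFunctor A i).obj M).isZero_of_isLE i n h

theorem aux (K : DerivedCategory A) (a b : ℤ) [K.IsGE a] [K.IsLE b]
    (hExt : ∀ (i j : ℤ) (p : ℕ), j < i → 2 ≤ p →
      ∀ f : (DerivedCategory.singleFunctor A 0).obj ((DerivedCategory.homologyFunctor A i).obj K) ⟶
        ((DerivedCategory.singleFunctor A 0).obj ((DerivedCategory.homologyFunctor A j).obj K))⟦(p : ℤ)⟧, f = 0)
    [HasBiproduct (fun i : Finset.Icc a b => (DerivedCategory.singleFunctor A (i : ℤ)).obj ((DerivedCategory.homologyFunctor A (i : ℤ)).obj K))] :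
    Nonempty (K ≅ ⨁ (fun i : Finset.Icc a b => (DerivedCategory.singleFunctor A (i : ℤ)).obj ((DerivedCategory.homologyFunctor A (i : ℤ)).obj K))) := by
  have hV : ∀ i j : ℤ, j < i → V ((homologyFunctor A i).obj K) ((homologyFunctor A j).obj K) := by
    intro i j hji p hp f
    obtain ⟨q, rfl⟩ : ∃ q : ℕ, p = (q : ℤ) := ⟨p.toNat, by omega⟩
    exact hExt i j q hji (by omega) f
  choose s hs using fun i : ℤ => exists_section K a i (fun j hj => hV i j hj)
  let f : Finset.Icc a b → DerivedCategory A :=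
    fun i => (singleFunctor A (i : ℤ)).obj ((homologyFunctor A (i : ℤ)).obj K)
  let φ : ⨁ f ⟶ K := biproduct.desc (fun i => s (i : ℤ))
  have hφ : IsIso φ := by
    rw [DerivedCategory.isIso_iff]
    intro n
    by_cases hn : n ∈ Finset.Icc a b
    · let i₀ : Finset.Icc a b := ⟨n, hn⟩
      have h1 : IsIso ((homologyFunctor A n).map (biproduct.ι f i₀)) := by
        apply isIso_map_ι
        intro j hj
        apply isZero_homology_single
        intro h
        exact hj (Subtype.ext h.symm)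
      have h2 : (homologyFunctor A n).map (biproduct.ι f i₀) ≫ (homologyFunctor A n).map φ =
          (homologyFunctor A n).map (s n) := by
        rw [← CategoryTheory.Functor.map_comp, biproduct.ι_desc]
      have h3 : IsIso ((homologyFunctor A n).map (s n)) := hs n
      rw [← h2] at h3
      exact IsIso.of_isIso_comp_left ((homologyFunctor A n).map (biproduct.ι f i₀)) _
    · have hz1 : IsZero ((homologyFunctor A n).obj (⨁ f)) := by
        apply isZero_map_biproduct
        intro j
        apply isZero_homology_single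
        intro h
        exact hn (h ▸ j.2)
      have hz2 : IsZero ((homologyFunctor A n).obj K) := by
        rw [Finset.mem_Icc, not_and_or, not_le, not_le] at hn
        rcases hn with hn | hn
        · exact K.isZero_of_isGE a n hn
        · exact K.isZero_of_isLE b n hn
      exact ⟨⟨0, hz1.eq_of_src _ _, hz2.eq_of_src _ _⟩⟩
  exact ⟨(asIso φ).symm⟩

/-- Let K be an object of the derived category of an abelian category with cohomology concentrated in
degrees a, …, b. Suppose that for all i > j and p ≥ 2 every morphism H^i(K) ⟶ H^j(K)[p] in the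
derived category (an element of Ext^p) vanishes. Then K splits: it is isomorphic to ⨁_{a ≤ i ≤ b}
Hⁱ(K)[-i]. -/
theorem result {A : Type u} [Category.{v} A] [Abelian A] [HasDerivedCategory.{w} A]
    (K : DerivedCategory A) (a b : ℤ) [K.IsGE a] [K.IsLE b]
    (hExt : ∀ (i j : ℤ) (p : ℕ), j < i → 2 ≤ p →
      ∀ f : (DerivedCategory.singleFunctor A 0).obj ((DerivedCategory.homologyFunctor A i).obj K) ⟶
        ((DerivedCategory.singleFunctor A 0).obj ((DerivedCategory.homologyFunctor A j).obj K))⟦(p : ℤ)⟧, f = 0)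
    [HasBiproduct (fun i : Finset.Icc a b => (DerivedCategory.singleFunctor A (i : ℤ)).obj ((DerivedCategory.homologyFunctor A (i : ℤ)).obj K))] :
    Nonempty (K ≅ ⨁ (fun i : Finset.Icc a b => (DerivedCategory.singleFunctor A (i : ℤ)).obj ((DerivedCategory.homologyFunctor A (i : ℤ)).obj K))) := by
  exact aux K a b hExt

end Groth.Agent.S0973
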