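import Groth.Statements.S0975
import Groth.Statements.S0975
import Groth.Agent.S0974
-- import your own Groth.Agent.* helpers here

set_option autoImplicit false
universe v u u'
open CategoryTheory
open CohDer

namespace Groth.Agent.S0975

section
open CategoryTheory.Limits CategoryTheory.Pretriangulated Opposite
open CategoryTheory.Pretriangulated.Opposite

theorem aux {D : Type u} [Category.{v} D] [Preadditive D] [Limits.HasZeroObject D] [HasShift D ℤ]
    [∀ n : ℤ, (shiftFunctor D n).Additive] [Pretriangulated D] [IsTriangulated D]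
    [HasCoproducts.{v} D] [HasColimitsOfShape (Discrete ℕ) D]
    {D' : Type u'} [Category.{v} D'] [Preadditive D'] [Limits.HasZeroObject D'] [HasShift D' ℤ]
    [∀ n : ℤ, (shiftFunctor D' n).Additive] [Pretriangulated D']
    {ι : Type v} (E : ι → D)
    (h1 : ∀ X : D, ¬ IsZero X → ∃ (i : ι) (f : E i ⟶ X), f ≠ 0)
    (h2 : ∀ (X : ℕ → D) (i : ι) (α : E i ⟶ ∐ X), ∃ (j : ℕ → ι) (β : ∀ n, E (j n) ⟶ X n)
      (γ : E i ⟶ ∐ (fun n => E (j n))), α = γ ≫ Limits.Sigma.map β)
    (F : D ⥤ D') [F.CommShift ℤ] [F.IsTriangulated]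
    [∀ (κ : Type v), PreservesColimitsOfShape (Discrete κ) F] : F.IsLeftAdjoint := by
  have hpres : ∀ (κ : Type v), PreservesLimitsOfShape (Discrete κ) F.op := by
    intro κ
    haveI : PreservesColimitsOfShape (Discrete κ)ᵒᵖ F :=
      preservesColimitsOfShape_of_equiv (Discrete.opposite κ).symm F
    exact preservesLimitsOfShape_op (Discrete κ) F
  have hrep : ∀ Y' : D', ((F.op ⋙ preadditiveYoneda.obj Y') ⋙
      forget AddCommGrpCat.{v}).IsRepresentable := by
    intro Y'
    haveI : ∀ (κ : Type v), PreservesLimitsOfShape (Discrete κ)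
        (F.op ⋙ preadditiveYoneda.obj Y') := by
      intro κ
      haveI := hpres κ
      infer_instance
    exact Groth.Agent.S0974.result E h1 h2 (F.op ⋙ preadditiveYoneda.obj Y')
  let Gobj : D' → D := fun Y' => ((F.op ⋙ preadditiveYoneda.obj Y') ⋙
      forget AddCommGrpCat.{v}).reprX
  let r : ∀ Y' : D', ((F.op ⋙ preadditiveYoneda.obj Y') ⋙
      forget AddCommGrpCat.{v}).RepresentableBy (Gobj Y') := fun Y' =>
    ((F.op ⋙ preadditiveYoneda.obj Y') ⋙ forget AddCommGrpCat.{v}).representableBy
  let e : ∀ (X : D) (Y' : D'), (F.obj X ⟶ Y') ≃ (X ⟶ Gobj Y') := fun X Y' =>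
    ((r Y').homEquiv (X := X)).symm
  have he : ∀ (X' X : D) (Y' : D') (f : X' ⟶ X) (g : F.obj X ⟶ Y'),
      e X' Y' (F.map f ≫ g) = f ≫ e X Y' g := by
    intro X' X Y' f g
    apply ((r Y').homEquiv (X := X')).injective
    rw [(r Y').homEquiv_comp]
    dsimp only [e]
    erw [Equiv.apply_symm_apply, Equiv.apply_symm_apply]
    rfl
  exact (Adjunction.adjunctionOfEquivRight e he).isLeftAdjoint

end

open CategoryTheory.Limits in
/-- Let D be a triangulated category with all small direct sums and E a small family of objects such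
that (1) E detects nonzero objects: every nonzero object receives a nonzero map from some member of
E; and (2) every map from a member of E into a countable direct sum ⨁ X_n factors as a map into a
direct sum ⨁ E_(j_n) of members of E followed by a direct sum of maps E_(j_n) → X_n. Then every
exact functor from D to a triangulated category which commutes with direct sums is a left adjoint.
(The published statement also proves that the right adjoint is exact; that is not asserted here.) -/
theorem result {D : Type u} [Category.{v} D] [Preadditive D] [Limits.HasZeroObject D] [HasShift D ℤ]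
    [∀ n : ℤ, (shiftFunctor D n).Additive] [Pretriangulated D] [IsTriangulated D] [HasCoproducts.{v} D]
    [HasColimitsOfShape (Discrete ℕ) D]
    {D' : Type u'} [Category.{v} D'] [Preadditive D'] [Limits.HasZeroObject D'] [HasShift D' ℤ]
    [∀ n : ℤ, (shiftFunctor D' n).Additive] [Pretriangulated D']
    [IsTriangulated D'] {ι : Type v} (E : ι → D)
    (h1 : ∀ X : D, ¬ IsZero X → ∃ (i : ι) (f : E i ⟶ X), f ≠ 0)
    (h2 : ∀ (X : ℕ → D) (i : ι) (α : E i ⟶ ∐ X), ∃ (j : ℕ → ι) (β : ∀ n, E (j n) ⟶ X n)
      (γ : E i ⟶ ∐ (fun n => E (j n))), α = γ ≫ Limits.Sigma.map β)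
    (F : D ⥤ D') [F.CommShift ℤ] [F.IsTriangulated]
    [∀ (κ : Type v), PreservesColimitsOfShape (Discrete κ) F] : F.IsLeftAdjoint := by
  exact aux E h1 h2 F

end Groth.Agent.S0975
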