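import Groth.Statements.S0976
import Mathlib.CategoryTheory.Triangulated.Orthogonal
-- import your own Groth.Agent.* helpers here

set_option autoImplicit false
universe v u
open CategoryTheory
open CohDer

namespace Groth.Agent.S0976

set_option backward.isDefEq.respectTransparency.types false in
set_option backward.defeqAttrib.useBackward true in
open CategoryTheory.Pretriangulated Limits ObjectProperty ZeroObject in
theorem aux {D : Type u} [Category.{v} D] [Preadditive D] [Limits.HasZeroObject D] [HasShift D ℤ]
    [∀ n : ℤ, (shiftFunctor D n).Additive] [Pretriangulated D] [IsTriangulated D]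
    (P : ObjectProperty D) [P.IsTriangulated] :
    (extensionProduct P P.rightOrthogonal).IsTriangulated := by
  have hQP : extensionProduct P.rightOrthogonal P ≤ extensionProduct P P.rightOrthogonal := by
    rintro X ⟨B, A, f, g, h, hT, hB, hA⟩
    have h0 : h = 0 := (P.rightOrthogonal.le_shift (1:ℤ) _ hB) h hA
    subst h0
    obtain ⟨e, he1, he2⟩ : ∃ (e : X ≅ B ⊞ A), f ≫ e.hom = biprod.inl ∧ g = e.hom ≫ biprod.snd :=
      exists_iso_binaryBiproduct_of_distTriang _ hT rfl
    refine ⟨A, B, biprod.inr ≫ e.inv, e.hom ≫ biprod.fst, 0, ?_, hA, hB⟩
    refine isomorphic_distinguished _ (binaryBiproductTriangle_distinguished A B) _ ?_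
    exact Triangle.isoMk _ _ (Iso.refl _) (e ≪≫ biprod.braiding _ _) (Iso.refl _)
      (by simp [binaryBiproductTriangle]; ext <;> simp) (by simp [binaryBiproductTriangle]) (by simp [binaryBiproductTriangle])
  have hPP : extensionProduct P P ≤ P.isoClosure :=
    extensionProduct_le_of_isTriangulatedClosed₂' le_rfl le_rfl
  have hQQ : extensionProduct P.rightOrthogonal P.rightOrthogonal ≤ P.rightOrthogonal :=
    extensionProduct_le_of_isTriangulatedClosed₂ le_rfl le_rfl
  have key : extensionProduct (extensionProduct P P.rightOrthogonal) (extensionProduct P P.rightOrthogonal)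
      ≤ extensionProduct P P.rightOrthogonal := by
    rw [extensionProduct_assoc]
    have h1 : extensionProduct P.rightOrthogonal (extensionProduct P P.rightOrthogonal) ≤
        extensionProduct P P.rightOrthogonal := by
      rw [← extensionProduct_assoc]
      refine (monotone_extensionProduct_left _ hQP).trans ?_
      rw [extensionProduct_assoc]
      exact monotone_extensionProduct_right _ hQQ
    refine (monotone_extensionProduct_right _ h1).trans ?_
    rw [← extensionProduct_assoc]
    refine (monotone_extensionProduct_left _ hPP).trans ?_
    rw [extensionProduct_isoClosure_left]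
  have : (extensionProduct P P.rightOrthogonal).ContainsZero := by
    obtain ⟨Z, hZ, hPZ⟩ := P.exists_prop_of_containsZero
    exact ⟨Z, hZ, ⟨Z, (0 : D), 𝟙 Z, 0, 0, contractible_distinguished Z, hPZ, fun W f _ => (isZero_zero D).eq_of_tgt _ _⟩⟩
  exact { ext₂' := fun T hT h₁ h₃ => le_isoClosure _ _ (key _ ⟨_, _, _, _, _, hT, h₁, h₃⟩) }

open CategoryTheory.Pretriangulated in
/-- Let P be a triangulated subcategory of a triangulated category D (an object property containing
zero, stable under shifts, closed under extensions). Consider the class of objects X sitting in a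
distinguished triangle A → X → B → A[1] with P A and B right orthogonal to P. This class is again
stable under shifts and closed under extensions, i.e. satisfies two-out-of-three in distinguished
triangles. -/
theorem result {D : Type u} [Category.{v} D] [Preadditive D] [Limits.HasZeroObject D] [HasShift D ℤ]
    [∀ n : ℤ, (shiftFunctor D n).Additive] [Pretriangulated D] [IsTriangulated D]
    (P : ObjectProperty D) [P.IsTriangulated] :
    ObjectProperty.IsTriangulated (fun X : D => ∃ (A B : D) (f : A ⟶ X) (g : X ⟶ B) (h : B ⟶ (shiftFunctor D (1 : ℤ)).obj A),
      Triangle.mk f g h ∈ distinguishedTriangles ∧ P A ∧ P.rightOrthogonal B) := by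
  exact aux P

end Groth.Agent.S0976
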