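import Groth.Statements.S0984
import Groth.Statements.S0984
import Groth.Agent.Lib.Helper2.BrownPresent
-- import your own Groth.Agent.* helpers here

set_option autoImplicit false
universe v u
open CategoryTheory
open DerLim

namespace Groth.Agent.S0984

section
open CategoryTheory.Limits CategoryTheory.Pretriangulated Groth.Agent.Helper2.Brown
open CategoryTheory.Pretriangulated.Opposite

theorem aux {D : Type u} [Category.{v} D] [Preadditive D] [Limits.HasZeroObject D] [HasShift D ℤ]
    [∀ n : ℤ, (shiftFunctor D n).Additive] [Pretriangulated D] [HasCoproducts.{v} D]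
    [HasColimitsOfShape (Discrete ℕ) D]
    {ι : Type v} (E : ι → D) (hc : ∀ i, CohDer.IsCompactObject (E i)) (hg : CohDer.Generates E)
    (X : D) :
    ∃ (K : ℕ → D) (f : ∀ n, K n ⟶ K (n + 1)) (i : ∀ n, K n ⟶ X),
      DerLim.IsHocolim K f X i ∧
      (∃ (κ : Type v) (a : κ → ι) (m : κ → ℤ),
        Nonempty (K 0 ≅ ∐ (fun k => (shiftFunctor D (m k)).obj (E (a k))))) ∧
      ∀ n, ∃ (κ : Type v) (a : κ → ι) (m : κ → ℤ)
        (y : (∐ fun k => (shiftFunctor D (m k)).obj (E (a k))) ⟶ K n)
        (z : K (n + 1) ⟶ (shiftFunctor D (1 : ℤ)).obj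
          (∐ fun k => (shiftFunctor D (m k)).obj (E (a k)))),
        Triangle.mk y (f n) z ∈ distTriang D := by
  have hc' : ∀ i, FinFactor (E i) := fun i => finFactor_of_isCompactObject _ (hc i)
  let H := preadditiveYoneda.obj X
  let G := shiftFam E
  haveI := isIso_piHom E hc' X hg
  refine ⟨TX H G, Tf H G, fun n => Ti H G n ≫ piHom E X, ?_, ?_, ?_⟩
  · obtain ⟨c, hT⟩ := isHocolim H G
    refine ⟨inv (piHom E X) ≫ c, ?_⟩
    have c1 : (𝟙 (∐ TX H G) - DerLim.shiftMap (TX H G) (Tf H G)) ≫ 𝟙 _ =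
        𝟙 _ ≫ (𝟙 (∐ TX H G) - DerLim.shiftMap (TX H G) (Tf H G)) := by
      rw [Category.comp_id, Category.id_comp]
    have c2 : Sigma.desc (fun n => Ti H G n ≫ piHom E X) ≫ inv (piHom E X) =
        𝟙 _ ≫ Sigma.desc (Ti H G) := by
      rw [Category.id_comp]
      apply Sigma.hom_ext
      intro n
      rw [Sigma.ι_desc_assoc, Category.assoc, IsIso.hom_inv_id, Category.comp_id, Sigma.ι_desc]
    have c3 : (inv (piHom E X) ≫ c) ≫ (shiftFunctor D (1 : ℤ)).map (𝟙 _) =
        inv (piHom E X) ≫ c := by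
      rw [CategoryTheory.Functor.map_id, Category.comp_id]
    exact isomorphic_distinguished _ hT _ (Triangle.isoMk _ _ (Iso.refl _) (Iso.refl _)
      (asIso (piHom E X)).symm c1 c2 c3)
  · exact ⟨J0 H G, fun j => j.1.1, fun j => j.1.2, ⟨Iso.refl _⟩⟩
  · intro n
    exact ⟨TJ H G n, fun j => j.1.1, fun j => j.1.2, Tlam H G n, Tdel H G n, Ttri H G n⟩

end

open CategoryTheory.Limits CategoryTheory.Pretriangulated in
/-- Let D be a triangulated category with all small direct sums and E a small family of compact objects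
which generates D. Every object X of D is a homotopy colimit of a sequential system X₀ → X₁ → X₂ → …
in which X₀ is a direct sum of shifts of members of E and each transition map Xₙ → Xₙ₊₁ sits in a
distinguished triangle Yₙ → Xₙ → Xₙ₊₁ → Yₙ[1] with Yₙ a direct sum of shifts of members of E. -/
theorem result {D : Type u} [Category.{v} D] [Preadditive D] [Limits.HasZeroObject D] [HasShift D ℤ]
    [∀ n : ℤ, (shiftFunctor D n).Additive] [Pretriangulated D] [IsTriangulated D] [HasCoproducts.{v} D]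
    [HasColimitsOfShape (Discrete ℕ) D]
    {ι : Type v} (E : ι → D) (hc : ∀ i, CohDer.IsCompactObject (E i)) (hg : CohDer.Generates E) (X : D) :
    ∃ (K : ℕ → D) (f : ∀ n, K n ⟶ K (n + 1)) (i : ∀ n, K n ⟶ X),
      DerLim.IsHocolim K f X i ∧
      (∃ (κ : Type v) (a : κ → ι) (m : κ → ℤ), Nonempty (K 0 ≅ ∐ (fun k => (shiftFunctor D (m k)).obj (E (a k))))) ∧
      ∀ n, ∃ (κ : Type v) (a : κ → ι) (m : κ → ℤ) (y : (∐ fun k => (shiftFunctor D (m k)).obj (E (a k))) ⟶ K n)
        (z : K (n + 1) ⟶ (shiftFunctor D (1 : ℤ)).obj (∐ fun k => (shiftFunctor D (m k)).obj (E (a k)))),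
        Triangle.mk y (f n) z ∈ distinguishedTriangles := by
  exact aux E hc hg X

end Groth.Agent.S0984
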