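import Groth.Statements.S1076
import Groth.Statements.S1076
import Groth.Agent.Lib.Helper2.BrownCompact2
-- import your own Groth.Agent.* helpers here

set_option autoImplicit false
universe v u
open CategoryTheory
open DerLim

namespace Groth.Agent.S1076

section
open CategoryTheory.Limits CategoryTheory.Pretriangulated Groth.Agent.Helper2.Brown

variable {D : Type u} [Category.{v} D] [Preadditive D] [Limits.HasZeroObject D] [HasShift D ℤ]
  [∀ n : ℤ, (shiftFunctor D n).Additive] [Pretriangulated D] [IsTriangulated D]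
  {ι : Type v} (E : ι → D)

attribute [local instance] Classical.propDecidable

/-- the finite subfamilies -/
def PS (s : Finset ι) : ObjectProperty D := fun Y => ∃ i ∈ s, Y = E i

/-- the envelope of a finite subfamily -/
abbrev Env (s : Finset ι) : ObjectProperty D := (PS E s).triangEnvelope

lemma Env_mono {s t : Finset ι} (h : s ⊆ t) : Env E s ≤ Env E t :=
  ObjectProperty.monotone_triangEnvelope (fun _ ⟨i, hi, e⟩ => ⟨i, h hi, e⟩)

instance (s : Finset ι) (i0 : ι) : (PS E (insert i0 s)).Nonempty :=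
  ⟨E i0, i0, Finset.mem_insert_self _ _, rfl⟩

/-- a morphism factors through the envelope of a finite subfamily -/
def Facs {C Z : D} (φ : C ⟶ Z) : Prop :=
  ∃ (s : Finset ι) (E' : D) (g : C ⟶ E') (h : E' ⟶ Z), Env E s E' ∧ g ≫ h = φ

lemma facs_zero [Nonempty ι] {C Z : D} : Facs E (0 : C ⟶ Z) := by
  obtain ⟨i0⟩ := ‹Nonempty ι›
  exact ⟨{i0}, E i0, 0, 0, ObjectProperty.le_triangEnvelope _ _ ⟨i0, Finset.mem_singleton_self _, rfl⟩,
    zero_comp⟩

lemma facs_comp_right {C Z Z' : D} {φ : C ⟶ Z} (h : Facs E φ) (ψ : Z ⟶ Z') : Facs E (φ ≫ ψ) := by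
  obtain ⟨s, E', g, h', hE, rfl⟩ := h
  exact ⟨s, E', g, h' ≫ ψ, hE, by rw [Category.assoc]⟩

lemma facs_comp_left {C C' Z : D} {φ : C ⟶ Z} (h : Facs E φ) (χ : C' ⟶ C) : Facs E (χ ≫ φ) := by
  obtain ⟨s, E', g, h', hE, rfl⟩ := h
  exact ⟨s, E', χ ≫ g, h', hE, by rw [Category.assoc]⟩

lemma facs_add [Nonempty ι] {C Z : D} {φ₁ φ₂ : C ⟶ Z} (h₁ : Facs E φ₁) (h₂ : Facs E φ₂) :
    Facs E (φ₁ + φ₂) := by
  obtain ⟨i0⟩ := ‹Nonempty ι›
  obtain ⟨s₁, E₁, g₁, k₁, hE₁, rfl⟩ := h₁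
  obtain ⟨s₂, E₂, g₂, k₂, hE₂, rfl⟩ := h₂
  refine ⟨insert i0 (s₁ ∪ s₂), E₁ ⊞ E₂, biprod.lift g₁ g₂, biprod.desc k₁ k₂, ?_, ?_⟩
  · have h1 : Env E (insert i0 (s₁ ∪ s₂)) E₁ :=
      Env_mono E (Finset.subset_union_left.trans (Finset.subset_insert _ _)) _ hE₁
    have h2 : Env E (insert i0 (s₁ ∪ s₂)) E₂ :=
      Env_mono E (Finset.subset_union_right.trans (Finset.subset_insert _ _)) _ hE₂
    exact (Env E (insert i0 (s₁ ∪ s₂))).prop_of_isLimit_binaryFan
      (BinaryBiproduct.isLimit E₁ E₂) h1 h2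
  · simp

lemma facs_sum [Nonempty ι] {C Z : D} {α : Type*} (t : Finset α) (φ : α → (C ⟶ Z))
    (h : ∀ a ∈ t, Facs E (φ a)) : Facs E (∑ a ∈ t, φ a) := by
  classical
  induction t using Finset.induction_on with
  | empty => simpa using facs_zero E
  | insert a t ha ih =>
    rw [Finset.sum_insert ha]
    exact facs_add E (h a (Finset.mem_insert_self _ _))
      (ih (fun b hb => h b (Finset.mem_insert_of_mem hb)))

lemma env_shift (i : ι) (m : ℤ) : Env E {i} ((E i)⟦m⟧) :=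
  (Env E {i}).le_shift m _
    (ObjectProperty.le_triangEnvelope _ _ ⟨i, Finset.mem_singleton_self _, rfl⟩)

lemma facs_to_gen {C : D} (i : ι) (m : ℤ) (c : C ⟶ (E i)⟦m⟧) : Facs E c :=
  ⟨{i}, _, c, 𝟙 _, env_shift E i m, Category.comp_id _⟩

variable [HasCoproducts.{v} D]

/-- maps from compact objects into a coproduct of shifted generators factor -/
lemma facs_coprod [Nonempty ι] {κ : Type v} (a : κ → ι) (m : κ → ℤ) (C : D) (hC : FinFactor C)
    (φ : C ⟶ ∐ (fun k => (shiftFunctor D (m k)).obj (E (a k)))) : Facs E φ := by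
  obtain ⟨t, c, hc⟩ := hC κ _ φ
  rw [hc]
  exact facs_sum E t _ (fun k _ => facs_comp_right E (facs_to_gen E (a k) (m k) (c k)) _)

set_option maxHeartbeats 1000000 in
/-- the inductive step -/
lemma facs_step [Nonempty ι] (hc : ∀ i, FinFactor (E i)) {κ : Type v} (a : κ → ι) (m : κ → ℤ)
    {X X' : D} (y : (∐ (fun k => (shiftFunctor D (m k)).obj (E (a k)))) ⟶ X) (f : X ⟶ X')
    (z : X' ⟶ (shiftFunctor D (1 : ℤ)).obj (∐ (fun k => (shiftFunctor D (m k)).obj (E (a k)))))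
    (hT : Triangle.mk y f z ∈ distTriang D)
    (IH : ∀ (C : D), FinFactor C → ∀ φ : C ⟶ X, Facs E φ)
    (C : D) (hC : FinFactor C) (φ : C ⟶ X') : Facs E φ := by
  obtain ⟨i0⟩ := ‹Nonempty ι›
  let G : κ → D := fun k => (shiftFunctor D (m k)).obj (E (a k))
  obtain ⟨t, c, hc'⟩ := finFactor_shift_target C hC G (1 : ℤ) (φ ≫ z)
  -- the finite subsum
  let W : D := ⨁ (fun k : t => G k.1)
  let j : W ⟶ ∐ G := biproduct.desc (fun k : t => Sigma.ι G k.1)
  let ψ : C ⟶ W⟦(1 : ℤ)⟧ :=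
    ∑ k ∈ t.attach, c k.1 ≫ (shiftFunctor D (1 : ℤ)).map (biproduct.ι (fun k : t => G k.1) k)
  have hψ : ψ ≫ (shiftFunctor D (1 : ℤ)).map j = φ ≫ z := by
    rw [hc', Preadditive.sum_comp, ← Finset.sum_attach t]
    refine Finset.sum_congr rfl (fun k _ => ?_)
    rw [Category.assoc, ← Functor.map_comp, biproduct.ι_desc]
  let s' : Finset ι := insert i0 (t.image a)
  have hW : Env E s' W := by
    refine (Env E s').prop_of_isLimit_fan (biproduct.isLimit (fun k : t => G k.1)) (fun k => ?_)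
    exact Env_mono E (Finset.singleton_subset_iff.2 (Finset.mem_insert_of_mem
      (Finset.mem_image_of_mem a k.2))) _ (env_shift E (a k.1) (m k.1))
  have hWc : FinFactor W :=
    finFactor_biproduct (fun k : t => G k.1) (fun k => finFactor_shift _ (hc (a k.1)) (m k.1))
  -- the triangle W → C' → C → W[1]
  obtain ⟨C', w, α, hT₁⟩ := distinguished_cocone_triangle₂ ψ
  have hC' : FinFactor C' := finFactor_of_triangle _ hT₁ hWc hC
  obtain ⟨b, hb₁, hb₂⟩ : ∃ b : C' ⟶ X, w ≫ b = j ≫ y ∧ α ≫ φ = b ≫ f :=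
    complete_distinguished_triangle_morphism₂ _ _ hT₁ hT j φ hψ
  obtain ⟨s'', E'', γ, β', hE'', hγβ⟩ := IH C' hC' b
  -- the cone of W → E''
  let s3 : Finset ι := insert i0 (s' ∪ s'')
  have hW3 : Env E s3 W :=
    Env_mono E (Finset.subset_union_left.trans (Finset.subset_insert _ _)) _ hW
  have hE3 : Env E s3 E'' :=
    Env_mono E (Finset.subset_union_right.trans (Finset.subset_insert _ _)) _ hE''
  obtain ⟨E3, hE3', e, d, hT₃⟩ :=
    (Env E s3).distinguished_cocone_triangle (w ≫ γ) hW3 hE3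
  obtain ⟨g₃, hg₃₁, hg₃₂⟩ : ∃ g₃ : C ⟶ E3, α ≫ g₃ = γ ≫ e ∧
      ψ ≫ (shiftFunctor D (1 : ℤ)).map (𝟙 W) = g₃ ≫ d :=
    complete_distinguished_triangle_morphism _ _ hT₁ hT₃ (𝟙 W) γ
      (by change w ≫ γ = 𝟙 W ≫ (w ≫ γ); rw [Category.id_comp])
  rw [CategoryTheory.Functor.map_id, Category.comp_id] at hg₃₂
  obtain ⟨h₃, hh₃₁, hh₃₂⟩ : ∃ h₃ : E3 ⟶ X', e ≫ h₃ = β' ≫ f ∧
      d ≫ (shiftFunctor D (1 : ℤ)).map j = h₃ ≫ z :=
    complete_distinguished_triangle_morphism _ _ hT₃ hT j β'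
      (by change (w ≫ γ) ≫ β' = j ≫ y; rw [Category.assoc, hγβ, hb₁])
  -- the difference
  have hδ : (φ - g₃ ≫ h₃) ≫ z = 0 := by
    rw [Preadditive.sub_comp, Category.assoc, ← hh₃₂, ← Category.assoc, ← hg₃₂, hψ, sub_self]
  obtain ⟨δ', hδ'⟩ : ∃ δ' : C ⟶ X, φ - g₃ ≫ h₃ = δ' ≫ f :=
    Triangle.coyoneda_exact₃ _ hT (φ - g₃ ≫ h₃) hδ
  have h1 : φ = g₃ ≫ h₃ + δ' ≫ f := by rw [← hδ']; abel
  rw [h1]
  exact facs_add E ⟨s3, E3, g₃, h₃, hE3', rfl⟩ (facs_comp_right E (IH C hC δ') f)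

theorem aux [Nonempty ι] (hc : ∀ i, CohDer.IsCompactObject (E i))
    (K : ℕ → D) (f : ∀ n, K n ⟶ K (n + 1))
    (h0 : ∃ (κ : Type v) (a : κ → ι) (m : κ → ℤ),
      Nonempty (K 0 ≅ ∐ (fun k => (shiftFunctor D (m k)).obj (E (a k)))))
    (hstep : ∀ n, ∃ (κ : Type v) (a : κ → ι) (m : κ → ℤ)
      (y : (∐ fun k => (shiftFunctor D (m k)).obj (E (a k))) ⟶ K n)
      (z : K (n + 1) ⟶ (shiftFunctor D (1 : ℤ)).obj
        (∐ fun k => (shiftFunctor D (m k)).obj (E (a k)))),
      Triangle.mk y (f n) z ∈ distTriang D)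
    (C : D) (hC : CohDer.IsCompactObject C) (n : ℕ) (φ : C ⟶ K n) :
    ∃ (s : Finset ι) (E' : D) (g : C ⟶ E') (h : E' ⟶ K n),
      ObjectProperty.triangEnvelope (fun Y : D => ∃ i ∈ s, Y = E i) E' ∧ g ≫ h = φ := by
  haveI : HasColimitsOfShape (Discrete ℕ) D :=
    hasColimitsOfShape_of_equivalence (Discrete.equivalence Equiv.ulift.{v, 0})
  have hc' : ∀ i, FinFactor (E i) := fun i => finFactor_of_isCompactObject _ (hc i)
  have key : ∀ n, ∀ (C : D), FinFactor C → ∀ φ : C ⟶ K n, Facs E φ := by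
    intro n
    induction n with
    | zero =>
      intro C hC φ
      obtain ⟨κ, a, m, ⟨e⟩⟩ := h0
      have h1 := facs_comp_right E (facs_coprod E a m C hC (φ ≫ e.hom)) e.inv
      rwa [Category.assoc, e.hom_inv_id, Category.comp_id] at h1
    | succ n ih =>
      intro C hC φ
      obtain ⟨κ, a, m, y, z, hT⟩ := hstep n
      exact facs_step E hc' a m y (f n) z hT ih C hC φ
  exact key n C (finFactor_of_isCompactObject _ hC) φ

end

open CategoryTheory.Limits CategoryTheory.Pretriangulated in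
/-- Let D be a triangulated category with all small direct sums and E a small nonempty family of compact
objects (nonempty so that the envelope of a finite subfamily can contain a zero object). Let X₀ → X₁
→ … be a sequential system in which X₀ is a direct sum of shifts of members of E and each Xₙ → Xₙ₊₁
sits in a distinguished triangle Yₙ → Xₙ → Xₙ₊₁ → Yₙ[1] with Yₙ a direct sum of shifts of members of
E. Then every morphism from a compact object C to some Xₙ factors through an object of the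
triangulated envelope (closure under shifts, finite sums, summands and extensions) of finitely many
members of E. -/
theorem result {D : Type u} [Category.{v} D] [Preadditive D] [Limits.HasZeroObject D] [HasShift D ℤ]
    [∀ n : ℤ, (shiftFunctor D n).Additive] [Pretriangulated D] [IsTriangulated D] [HasCoproducts.{v} D]
    {ι : Type v} [Nonempty ι] (E : ι → D) (hc : ∀ i, CohDer.IsCompactObject (E i))
    (K : ℕ → D) (f : ∀ n, K n ⟶ K (n + 1))
    (h0 : ∃ (κ : Type v) (a : κ → ι) (m : κ → ℤ), Nonempty (K 0 ≅ ∐ (fun k => (shiftFunctor D (m k)).obj (E (a k)))))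
    (hstep : ∀ n, ∃ (κ : Type v) (a : κ → ι) (m : κ → ℤ) (y : (∐ fun k => (shiftFunctor D (m k)).obj (E (a k))) ⟶ K n)
      (z : K (n + 1) ⟶ (shiftFunctor D (1 : ℤ)).obj (∐ fun k => (shiftFunctor D (m k)).obj (E (a k)))),
      Triangle.mk y (f n) z ∈ distinguishedTriangles)
    (C : D) (hC : CohDer.IsCompactObject C) (n : ℕ) (φ : C ⟶ K n) :
    ∃ (s : Finset ι) (E' : D) (g : C ⟶ E') (h : E' ⟶ K n),
      ObjectProperty.triangEnvelope (fun Y : D => ∃ i ∈ s, Y = E i) E' ∧ g ≫ h = φ := by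
  exact aux E hc K f h0 hstep C hC n φ

end Groth.Agent.S1076
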