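import Groth.Statements.S0978
import Groth.Statements.S0978
import Groth.Agent.S1076
import Groth.Agent.S0984
import Groth.Agent.Lib.Helper2.BrownCompact2
-- import your own Groth.Agent.* helpers here

set_option autoImplicit false
universe v u
open CategoryTheory
open CohDer

namespace Groth.Agent.S0978

section
open CategoryTheory.Limits CategoryTheory.Pretriangulated Groth.Agent.Helper2.Brown ZeroObject

variable {D : Type u} [Category.{v} D] [Preadditive D] [Limits.HasZeroObject D] [HasShift D ℤ]
  [∀ n : ℤ, (shiftFunctor D n).Additive] [Pretriangulated D] [IsTriangulated D]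

/-- objects with no nonzero maps to shifts of `K` -/
def Q (K : D) : ObjectProperty D := fun Y => ∀ (n : ℤ) (f : Y ⟶ (shiftFunctor D n).obj K), f = 0

instance (K : D) : (Q K).IsStableUnderRetracts where
  of_retract := by
    intro X Y r hY n f
    have h1 : f = r.i ≫ (r.r ≫ f) := by rw [← Category.assoc, r.retract, Category.id_comp]
    rw [h1, hY n (r.r ≫ f), comp_zero]

instance (K : D) : (Q K).ContainsZero where
  exists_zero := ⟨(0 : D), isZero_zero D, fun n f => (isZero_zero D).eq_of_src _ _⟩

instance (K : D) : (Q K).IsStableUnderShift ℤ where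
  isStableUnderShiftBy a := ObjectProperty.IsStableUnderShiftBy.mk <| by
    intro Y hY n f
    let adj : shiftFunctor D a ⊣ shiftFunctor D (-a) := (shiftEquiv D a).toAdjunction
    have h1 : adj.homEquiv Y _ f ≫ ((shiftFunctorAdd' D n (-a) (n - a) (by ring)).symm.app K).hom = 0 :=
      hY (n - a) _
    have h2 : adj.homEquiv Y _ f = 0 := by
      have := congrArg (fun x => x ≫ ((shiftFunctorAdd' D n (-a) (n - a) (by ring)).symm.app K).inv) h1
      simpa using this
    have h3 : f = (adj.homEquiv Y _).symm 0 := by rw [← h2, Equiv.symm_apply_apply]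
    rw [h3]
    exact Adjunction.homAddEquiv_symm_zero adj _ _

instance (K : D) : (Q K).IsTriangulatedClosed₂ := by
  apply ObjectProperty.IsTriangulatedClosed₂.mk'
  intro T hT h1 h3 n f
  obtain ⟨g, hg⟩ := Triangle.yoneda_exact₂ T hT f (h1 n _)
  rw [hg, h3 n g, comp_zero]

instance (K : D) : (Q K).IsTriangulated where

variable [HasCoproducts.{v} D] [HasColimitsOfShape (Discrete ℕ) D]

theorem aux (E : D) (hE : CohDer.IsCompactObject E) :
    CohDer.Generates (fun _ : Unit => E) ↔
      (CohDer.IsCompactlyGenerated D ∧ ∀ X : D, CohDer.IsCompactObject X →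
        ObjectProperty.triangEnvelope (fun Y : D => Y = E) X) := by
  constructor
  · intro hg
    have hg' : CohDer.Generates (fun _ : PUnit.{v+1} => E) :=
      fun K hK => hg K (fun _ n f => hK PUnit.unit n f)
    refine ⟨⟨PUnit.{v+1}, fun _ => E, fun _ => hE, hg'⟩, ?_⟩
    intro X hX
    obtain ⟨K, f, i, hL, h0, hstep⟩ :=
      Groth.Agent.S0984.result (fun _ : PUnit.{v+1} => E) (fun _ => hE) hg' X
    have hXf : FinFactor X := finFactor_of_isCompactObject _ hX
    obtain ⟨n, g', hg'⟩ := small_of_finFactor K f X i hL X hXf (finFactor_shift _ hXf _) (𝟙 X)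
    obtain ⟨s, E', g, h, hE', hgh⟩ :=
      Groth.Agent.S1076.result (fun _ : PUnit.{v+1} => E) (fun _ => hE) K f h0 hstep X hX n g'
    have hE'' : ObjectProperty.triangEnvelope (fun Y : D => Y = E) E' :=
      ObjectProperty.monotone_triangEnvelope (fun _ ⟨_, _, e⟩ => e) _ hE'
    refine ObjectProperty.prop_of_retract _ ⟨g, h ≫ i n, ?_⟩ hE''
    rw [← Category.assoc, hgh, ← hg']
  · rintro ⟨⟨ι', E', hc', hg'⟩, hX⟩ K hK
    have hle : ObjectProperty.triangEnvelope (fun Y : D => Y = E) ≤ Q K := by
      rw [ObjectProperty.triangEnvelope_le_iff]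
      rintro Y rfl
      exact fun n f => hK () n f
    exact hg' K (fun j n f => hle _ (hX _ (hc' j)) n f)

end

open CategoryTheory.Limits in
/-- Let D be a triangulated category with all small direct sums and E a compact object. Then E generates
D (an object admitting only zero maps from all shifts of E is zero) if and only if D is compactly
generated and every compact object lies in the triangulated envelope of E (objects reachable from E
by shifts, finite sums, direct summands and extensions). -/
theorem result {D : Type u} [Category.{v} D] [Preadditive D] [Limits.HasZeroObject D] [HasShift D ℤ]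
    [∀ n : ℤ, (shiftFunctor D n).Additive] [Pretriangulated D] [IsTriangulated D] [HasCoproducts.{v} D]
    [HasColimitsOfShape (Discrete ℕ) D]
    (E : D) (hE : CohDer.IsCompactObject E) :
    CohDer.Generates (fun _ : Unit => E) ↔
      (CohDer.IsCompactlyGenerated D ∧ ∀ X : D, CohDer.IsCompactObject X → ObjectProperty.triangEnvelope (fun Y : D => Y = E) X) := by
  exact aux E hE

end Groth.Agent.S0978
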