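import Groth.Statements.S0982
import Groth.Agent.Lib.Helper2.DerTrunc
-- import your own Groth.Agent.* helpers here

set_option autoImplicit false
universe w v u
open CategoryTheory CategoryTheory.Limits
open CohDer

namespace Groth.Agent.S0982

open CategoryTheory CategoryTheory.Limits DerivedCategory Groth.Agent.Helper2

theorem aux {A : Type u} [Category.{v} A] [Abelian A] [HasDerivedCategory.{w} A]
    (K : ℕ ⥤ CochainComplex A ℤ) (n : ℕ)
    (h0 : ∀ i : ℤ, 0 < i → IsZero ((K.obj 0).homology i))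
    (hz : ∀ j : ℕ, j < n → HomologicalComplex.homologyMap (K.map (homOfLE (Nat.le_succ j))) (-(j : ℤ)) = 0) :
    ∃ φ : DerivedCategory.Q.obj (K.obj 0) ⟶ DerivedCategory.Q.obj ((K.obj n).truncLE (-(n : ℤ))),
      φ ≫ DerivedCategory.Q.map ((K.obj n).ιTruncLE (-(n : ℤ))) = DerivedCategory.Q.map (K.map (homOfLE (Nat.zero_le n))) := by
  induction n with
  | zero =>
    have hLE : (K.obj 0).IsLE 0 := by
      rw [CochainComplex.isLE_iff]
      intro i hi
      rw [HomologicalComplex.exactAt_iff_isZero_homology]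
      exact h0 i hi
    have hq : QuasiIso ((K.obj 0).ιTruncLE 0) := (CochainComplex.quasiIso_ιTruncLE_iff _ _).2 hLE
    have hiso : IsIso (Q.map ((K.obj 0).ιTruncLE 0)) := by
      rw [isIso_Q_map_iff_quasiIso]; exact hq
    refine ⟨inv (Q.map ((K.obj 0).ιTruncLE 0)), ?_⟩
    have e : K.map (homOfLE (Nat.zero_le 0)) = 𝟙 _ := by
      rw [← K.map_id]; rfl
    rw [e, Q.map_id]
    exact IsIso.inv_hom_id _
  | succ n ih =>
    obtain ⟨φ, hφ⟩ := ih (fun j hj => hz j (Nat.lt_succ_of_lt hj))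
    have hm := hz n (Nat.lt_succ_self n)
    set m := K.map (homOfLE (Nat.le_succ n)) with hm_def
    have hcomp : K.map (homOfLE (Nat.zero_le (n + 1))) = K.map (homOfLE (Nat.zero_le n)) ≫ m := by
      rw [hm_def, ← K.map_comp]; rfl
    have hab : (-((n + 1 : ℕ) : ℤ)) + 1 = -(n : ℤ) := by push_cast; omega
    -- the vanishing
    have hθ : Q.map ((K.obj n).ιTruncLE (-(n : ℤ))) ≫ Q.map m ≫
        Q.map ((K.obj (n + 1)).πTruncGE (-(n : ℤ))) = 0 := by
      rw [← Q.map_comp, ← Q.map_comp]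
      apply Q_hom_eq_zero_of_homology_map_eq_zero (-(n : ℤ))
      have nat := (homologyFunctorFactors A (-(n : ℤ))).hom.naturality
        ((K.obj n).ιTruncLE (-(n : ℤ)) ≫ m ≫ (K.obj (n + 1)).πTruncGE (-(n : ℤ)))
      have hzero : HomologicalComplex.homologyMap
          ((K.obj n).ιTruncLE (-(n : ℤ)) ≫ m ≫ (K.obj (n + 1)).πTruncGE (-(n : ℤ))) (-(n : ℤ)) = 0 := by
        rw [HomologicalComplex.homologyMap_comp, HomologicalComplex.homologyMap_comp, hm,
          zero_comp, comp_zero]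
      simp only [Functor.comp_map, HomologicalComplex.homologyFunctor_map, hzero] at nat
      exact (cancel_mono ((homologyFunctorFactors A (-(n : ℤ))).hom.app _)).1
        ((nat.trans comp_zero).trans zero_comp.symm)
    obtain ⟨ψ, hψ⟩ := exists_lift_truncLE (K.obj (n + 1)) (-((n + 1 : ℕ) : ℤ)) (-(n : ℤ)) hab
      (Q.map (K.map (homOfLE (Nat.zero_le (n + 1))))) (by
        rw [hcomp, Q.map_comp, ← hφ, Category.assoc, Category.assoc, hθ, comp_zero])
    exact ⟨ψ, hψ⟩

/-- Let K : ℕ ⥤ CochainComplex A ℤ be a sequence of cochain maps K₀ → K₁ → K₂ → … in an abelian category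
with Hⁱ(K₀) = 0 for i > 0 and such that for every j < n the map H⁻ʲ(Kⱼ) → H⁻ʲ(Kⱼ₊₁) is zero. Then in
the derived category the composite K₀ → Kₙ factors through the canonical truncation τ_{≤ -n}Kₙ → Kₙ. -/
theorem result {A : Type u} [Category.{v} A] [Abelian A] [HasDerivedCategory.{w} A]
    (K : ℕ ⥤ CochainComplex A ℤ) (n : ℕ)
    (h0 : ∀ i : ℤ, 0 < i → IsZero ((K.obj 0).homology i))
    (hz : ∀ j : ℕ, j < n → HomologicalComplex.homologyMap (K.map (homOfLE (Nat.le_succ j))) (-(j : ℤ)) = 0) :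
    ∃ φ : DerivedCategory.Q.obj (K.obj 0) ⟶ DerivedCategory.Q.obj ((K.obj n).truncLE (-(n : ℤ))),
      φ ≫ DerivedCategory.Q.map ((K.obj n).ιTruncLE (-(n : ℤ))) = DerivedCategory.Q.map (K.map (homOfLE (Nat.zero_le n))) := by
  exact aux K n h0 hz

end Groth.Agent.S0982
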