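import Groth.Statements.S0983
import Mathlib

set_option autoImplicit false
universe v u
open CategoryTheory
open CohDer

namespace Groth.Agent.S0983

open CategoryTheory.Pretriangulated in
/-- In a triangulated category, a commutative square f ≫ v = u ≫ f' (with f : X ⟶ Y, f' : X' ⟶ Y', u : X
⟶ X', v : Y ⟶ Y') extends to a diagram with three distinguished rows (X, Y, Z), (X', Y', Z'), (X'',
Y'', Z'') and three distinguished columns (X, X', X''), (Y, Y', Y''), (Z, Z', Z''), in which all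
squares commute except the one formed by the third morphisms of the last row and last column, which
anticommutes; the fourth row and column are the shifts of the first ones. -/
theorem result {D : Type u} [Category.{v} D] [Preadditive D] [Limits.HasZeroObject D] [HasShift D ℤ]
    [∀ n : ℤ, (shiftFunctor D n).Additive] [Pretriangulated D] [IsTriangulated D]
    {X Y X' Y' : D} (f : X ⟶ Y) (f' : X' ⟶ Y') (u : X ⟶ X') (v : Y ⟶ Y') (comm : f ≫ v = u ≫ f') :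
    ∃ (Z Z' X'' Y'' Z'' : D) (g : Y ⟶ Z) (h : Z ⟶ (shiftFunctor D (1 : ℤ)).obj X)
      (g' : Y' ⟶ Z') (h' : Z' ⟶ (shiftFunctor D (1 : ℤ)).obj X')
      (f'' : X'' ⟶ Y'') (g'' : Y'' ⟶ Z'') (h'' : Z'' ⟶ (shiftFunctor D (1 : ℤ)).obj X'')
      (u' : X' ⟶ X'') (u'' : X'' ⟶ (shiftFunctor D (1 : ℤ)).obj X)
      (v' : Y' ⟶ Y'') (v'' : Y'' ⟶ (shiftFunctor D (1 : ℤ)).obj Y)
      (w : Z ⟶ Z') (w' : Z' ⟶ Z'') (w'' : Z'' ⟶ (shiftFunctor D (1 : ℤ)).obj Z),
      Triangle.mk f g h ∈ distinguishedTriangles ∧ Triangle.mk f' g' h' ∈ distinguishedTriangles ∧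
      Triangle.mk f'' g'' h'' ∈ distinguishedTriangles ∧
      Triangle.mk u u' u'' ∈ distinguishedTriangles ∧ Triangle.mk v v' v'' ∈ distinguishedTriangles ∧
      Triangle.mk w w' w'' ∈ distinguishedTriangles ∧
      g ≫ w = v ≫ g' ∧ h ≫ (shiftFunctor D (1 : ℤ)).map u = w ≫ h' ∧
      f' ≫ v' = u' ≫ f'' ∧ g' ≫ w' = v' ≫ g'' ∧ h' ≫ (shiftFunctor D (1 : ℤ)).map u' = w' ≫ h'' ∧
      f'' ≫ v'' = u'' ≫ (shiftFunctor D (1 : ℤ)).map f ∧ g'' ≫ w'' = v'' ≫ (shiftFunctor D (1 : ℤ)).map g ∧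
      h'' ≫ (shiftFunctor D (1 : ℤ)).map u'' = -(w'' ≫ (shiftFunctor D (1 : ℤ)).map h) := by
  obtain ⟨Z, g, h, hT⟩ := distinguished_cocone_triangle f
  obtain ⟨Z', g', h', hT'⟩ := distinguished_cocone_triangle f'
  obtain ⟨X'', u', u'', hU⟩ := distinguished_cocone_triangle u
  obtain ⟨Y'', v', v'', hV⟩ := distinguished_cocone_triangle v
  obtain ⟨A, p, q, hA⟩ := distinguished_cocone_triangle (f ≫ v)
  have hA' : Triangle.mk (u ≫ f') p q ∈ distTriang D := by rw [← comm]; exact hA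
  have O1 := Triangulated.someOctahedron (rfl : f ≫ v = f ≫ v) hT hV hA
  have O2 := Triangulated.someOctahedron (rfl : u ≫ f' = u ≫ f') hU hT' hA'
  have hO2 : Triangle.mk O2.m₁ O2.m₃ (h' ≫ (shiftFunctor D (1 : ℤ)).map u') ∈ distTriang D := O2.mem
  have hrot : Triangle.mk O1.m₃ (v'' ≫ (shiftFunctor D (1 : ℤ)).map g)
      (-(shiftFunctor D (1 : ℤ)).map O1.m₁) ∈ distTriang D := rot_of_distTriang _ O1.mem
  obtain ⟨Z'', g'', h'', hT''⟩ := distinguished_cocone_triangle (O2.m₁ ≫ O1.m₃)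
  have O3 := Triangulated.someOctahedron (rfl : O2.m₁ ≫ O1.m₃ = O2.m₁ ≫ O1.m₃) hO2 hrot hT''
  have hO3 : Triangle.mk O3.m₁ O3.m₃ ((-(shiftFunctor D (1 : ℤ)).map O1.m₁) ≫
      (shiftFunctor D (1 : ℤ)).map O2.m₃) ∈ distTriang D := O3.mem
  have hW : Triangle.mk (O1.m₁ ≫ O2.m₃) O3.m₁ O3.m₃ ∈ distTriang D := by
    rw [rotate_distinguished_triangle]
    have : (Triangle.mk (O1.m₁ ≫ O2.m₃) O3.m₁ O3.m₃).rotate =
        Triangle.mk O3.m₁ O3.m₃ ((-(shiftFunctor D (1 : ℤ)).map O1.m₁) ≫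
          (shiftFunctor D (1 : ℤ)).map O2.m₃) := by
      show Triangle.mk O3.m₁ O3.m₃ (-(shiftFunctor D (1 : ℤ)).map (O1.m₁ ≫ O2.m₃)) = _
      rw [Functor.map_comp, Preadditive.neg_comp]
    rw [this]
    exact hO3
  refine ⟨Z, Z', X'', Y'', Z'', g, h, g', h', O2.m₁ ≫ O1.m₃, g'', h'', u', u'', v', v'',
    O1.m₁ ≫ O2.m₃, O3.m₁, O3.m₃, hT, hT', hT'', hU, hV, hW, ?_, ?_, ?_, ?_, ?_, ?_, ?_, ?_⟩
  · have h1 := O1.comm₁
    have h2 := O2.comm₃
    rw [reassoc_of% h1, h2]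
  · have h1 := O1.comm₂
    have h2 := O2.comm₄
    rw [Category.assoc, ← h2, reassoc_of% h1]
  · have h1 := O2.comm₁
    have h2 := O1.comm₃
    rw [reassoc_of% h1, h2]
  · have h1 := O3.comm₁
    have h2 := O2.comm₃
    have h3 := O1.comm₃
    calc g' ≫ O3.m₁ = (p ≫ O2.m₃) ≫ O3.m₁ := by rw [h2]
      _ = p ≫ O1.m₃ ≫ g'' := by rw [Category.assoc, h1]
      _ = v' ≫ g'' := by rw [reassoc_of% h3]
  · have h1 := O3.comm₂
    exact h1.symm
  · have h1 := O1.comm₄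
    have h2 := O2.comm₂
    rw [Category.assoc, ← h1, reassoc_of% h2]
  · have h1 := O3.comm₃
    exact h1
  · have h1 := O3.comm₄
    have h2 := O2.comm₂
    have h3 := O1.comm₂
    calc h'' ≫ (shiftFunctor D (1 : ℤ)).map u''
        = h'' ≫ (shiftFunctor D (1 : ℤ)).map (O2.m₁ ≫ q) := by rw [h2]
      _ = (h'' ≫ (shiftFunctor D (1 : ℤ)).map O2.m₁) ≫ (shiftFunctor D (1 : ℤ)).map q := by
          rw [Functor.map_comp, Category.assoc]
      _ = (O3.m₃ ≫ (-(shiftFunctor D (1 : ℤ)).map O1.m₁)) ≫ (shiftFunctor D (1 : ℤ)).map q := by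
          rw [h1]
      _ = -O3.m₃ ≫ (shiftFunctor D (1 : ℤ)).map (O1.m₁ ≫ q) := by
          simp [Functor.map_comp]
      _ = -O3.m₃ ≫ (shiftFunctor D (1 : ℤ)).map h := by rw [h3]

end Groth.Agent.S0983
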