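import Groth.Statements.S0986
import Groth.Statements.S0986
import Mathlib
-- import your own Groth.Agent.* helpers here

set_option autoImplicit false
universe v u
open CategoryTheory CategoryTheory.Limits
open DerLim

namespace Groth.Agent.S0986

variable {A : Type u} [Category.{v} A] [Abelian A] (F : ℕ ⥤ A) [HasCoproduct F.obj]

/-- transition maps -/
abbrev fm (n : ℕ) : F.obj n ⟶ F.obj (n + 1) := F.map (homOfLE (Nat.le_succ n))

/-- the shift endomorphism -/
noncomputable abbrev sh : (∐ F.obj) ⟶ ∐ F.obj := DerLim.shiftMap F.obj (fm F)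

/-- `1 - shift` -/
noncomputable abbrev dd : (∐ F.obj) ⟶ ∐ F.obj := 𝟙 _ - sh F

@[reassoc]
lemma ι_sh (n : ℕ) : Sigma.ι F.obj n ≫ sh F = fm F n ≫ Sigma.ι F.obj (n + 1) := by
  simp [sh, DerLim.shiftMap]

lemma sh_π_zero : sh F ≫ Sigma.π F.obj 0 = 0 := by
  apply Sigma.hom_ext
  intro n
  rw [ι_sh_assoc, Sigma.ι_π_of_ne _ (Nat.succ_ne_zero n), comp_zero, comp_zero]

lemma sh_π_succ (m : ℕ) : sh F ≫ Sigma.π F.obj (m + 1) = Sigma.π F.obj m ≫ fm F m := by
  apply Sigma.hom_ext
  intro n
  rw [ι_sh_assoc]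
  by_cases h : n = m
  · subst h
    rw [Sigma.ι_π_eq_id, Sigma.ι_π_eq_id_assoc, Category.comp_id]
  · rw [Sigma.ι_π_of_ne _ (fun e => h (Nat.succ_injective e)), Sigma.ι_π_of_ne_assoc _ h,
      comp_zero, zero_comp]

lemma comp_π_eq_zero {K : A} (k : K ⟶ ∐ F.obj) (hk : k ≫ dd F = 0) (m : ℕ) :
    k ≫ Sigma.π F.obj m = 0 := by
  have h1 : k = k ≫ sh F := by
    have := hk
    rw [Preadditive.comp_sub, Category.comp_id, sub_eq_zero] at this
    exact this
  induction m with
  | zero => rw [h1, Category.assoc, sh_π_zero, comp_zero]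
  | succ m ih => rw [h1, Category.assoc, sh_π_succ, reassoc_of% ih, zero_comp]

/-- partial sums -/
noncomputable def P : ℕ → A
  | 0 => F.obj 0
  | (n + 1) => P n ⊞ F.obj (n + 1)

noncomputable def inl' (N : ℕ) : P F N ⟶ P F (N + 1) := (biprod.inl : P F N ⟶ P F N ⊞ F.obj (N + 1))
noncomputable def inr' (N : ℕ) : F.obj (N + 1) ⟶ P F (N + 1) :=
  (biprod.inr : F.obj (N + 1) ⟶ P F N ⊞ F.obj (N + 1))
noncomputable def fst' (N : ℕ) : P F (N + 1) ⟶ P F N := (biprod.fst : P F N ⊞ F.obj (N + 1) ⟶ P F N)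
noncomputable def snd' (N : ℕ) : P F (N + 1) ⟶ F.obj (N + 1) :=
  (biprod.snd : P F N ⊞ F.obj (N + 1) ⟶ F.obj (N + 1))
noncomputable def desc' (N : ℕ) {T : A} (g : P F N ⟶ T) (h : F.obj (N + 1) ⟶ T) : P F (N + 1) ⟶ T :=
  (biprod.desc g h : P F N ⊞ F.obj (N + 1) ⟶ T)

@[reassoc (attr := simp)]
lemma inl'_desc' (N : ℕ) {T : A} (g : P F N ⟶ T) (h : F.obj (N + 1) ⟶ T) :
    inl' F N ≫ desc' F N g h = g := biprod.inl_desc _ _
@[reassoc (attr := simp)]
lemma inr'_desc' (N : ℕ) {T : A} (g : P F N ⟶ T) (h : F.obj (N + 1) ⟶ T) :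
    inr' F N ≫ desc' F N g h = h := biprod.inr_desc _ _
lemma hom_ext'' (N : ℕ) {T : A} (g h : P F (N + 1) ⟶ T) (h1 : inl' F N ≫ g = inl' F N ≫ h)
    (h2 : inr' F N ≫ g = inr' F N ≫ h) : g = h :=
  biprod.hom_ext' (X := P F N) (Y := F.obj (N + 1)) g h h1 h2
lemma total' (N : ℕ) : fst' F N ≫ inl' F N + snd' F N ≫ inr' F N = 𝟙 (P F (N + 1)) :=
  biprod.total (X := P F N) (Y := F.obj (N + 1))
@[reassoc (attr := simp)]
lemma inl'_fst' (N : ℕ) : inl' F N ≫ fst' F N = 𝟙 _ := biprod.inl_fst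
@[reassoc (attr := simp)]
lemma inl'_snd' (N : ℕ) : inl' F N ≫ snd' F N = 0 := biprod.inl_snd
@[reassoc (attr := simp)]
lemma inr'_fst' (N : ℕ) : inr' F N ≫ fst' F N = 0 := biprod.inr_fst
@[reassoc (attr := simp)]
lemma inr'_snd' (N : ℕ) : inr' F N ≫ snd' F N = 𝟙 _ := biprod.inr_snd

noncomputable def i0 : F.obj 0 ⟶ P F 0 := 𝟙 (F.obj 0)
noncomputable def r0 : P F 0 ⟶ F.obj 0 := 𝟙 (F.obj 0)
@[reassoc (attr := simp)]
lemma i0_r0 : i0 F ≫ r0 F = 𝟙 _ := Category.id_comp (𝟙 (F.obj 0))
@[reassoc (attr := simp)]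
lemma r0_i0 : r0 F ≫ i0 F = 𝟙 _ := Category.id_comp (𝟙 (F.obj 0))

/-- inclusion of the partial sums -/
noncomputable def a : ∀ N, P F N ⟶ ∐ F.obj
  | 0 => r0 F ≫ Sigma.ι F.obj 0
  | (N + 1) => desc' F N (a N) (Sigma.ι F.obj (N + 1))

lemma a_zero : a F 0 = r0 F ≫ Sigma.ι F.obj 0 := rfl
lemma a_succ (N : ℕ) : a F (N + 1) = desc' F N (a F N) (Sigma.ι F.obj (N + 1)) := rfl

/-- inclusion of the last summand -/
noncomputable def b : ∀ n, F.obj n ⟶ P F n
  | 0 => i0 F
  | (n + 1) => inr' F n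

lemma b_zero : b F 0 = i0 F := rfl
lemma b_succ (n : ℕ) : b F (n + 1) = inr' F n := rfl

lemma b_a (n : ℕ) : b F n ≫ a F n = Sigma.ι F.obj n := by
  cases n with
  | zero => rw [b_zero, a_zero, i0_r0_assoc]
  | succ n => rw [b_succ, a_succ, inr'_desc']

/-- the functor of partial sums -/
noncomputable def PF : ℕ ⥤ A :=
  Functor.ofSequence (X := P F) (inl' F)

lemma PF_map_succ (N : ℕ) : (PF F).map (homOfLE (Nat.le_succ N)) = inl' F N :=
  Functor.ofSequence_map_homOfLE_succ _ N

lemma inl'_a (N : ℕ) : inl' F N ≫ a F (N + 1) = a F N := by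
  rw [a_succ, inl'_desc']

lemma fac_aux {T : A} (t : ∀ n, P F n ⟶ T) (ht : ∀ N, inl' F N ≫ t (N + 1) = t N) (N : ℕ) :
    a F N ≫ Sigma.desc (fun n => b F n ≫ t n) = t N := by
  induction N with
  | zero =>
    rw [a_zero, Category.assoc, Sigma.ι_desc, b_zero, r0_i0_assoc]
  | succ N ih =>
    apply hom_ext''
    · rw [a_succ, inl'_desc'_assoc, ih, ht]
    · rw [a_succ, inr'_desc'_assoc, Sigma.ι_desc, b_succ]

/-- the cocone of partial sums -/
noncomputable def cP : Cocone (PF F) where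
  pt := ∐ F.obj
  ι := NatTrans.ofSequence (F := PF F) (G := (Functor.const ℕ).obj (∐ F.obj)) (a F) (by
    intro N
    refine (congrArg (fun x => x ≫ a F (N + 1)) (PF_map_succ F N)).trans ?_
    refine (inl'_a F N).trans ?_
    exact (Category.comp_id _).symm)

lemma cP_ι_app (N : ℕ) : (cP F).ι.app N = a F N := rfl

/-- it is a colimit -/
noncomputable def hcP : IsColimit (cP F) where
  desc s := Sigma.desc (fun n => b F n ≫ s.ι.app n)
  fac s N := by
    refine fac_aux F (fun n => s.ι.app n) (fun N => ?_) N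
    have h1 := s.ι.naturality (homOfLE (Nat.le_succ N))
    refine (congrArg (fun x => x ≫ s.ι.app (N + 1)) (PF_map_succ F N)).symm.trans ?_
    refine h1.trans ?_
    exact Category.comp_id _
  uniq s m hm := by
    apply Sigma.hom_ext
    intro n
    refine Eq.trans ?_ (Sigma.ι_desc _ _).symm
    rw [← b_a, Category.assoc]
    congr 1
    exact hm n

lemma a_π_of_lt (N m : ℕ) (h : N < m) : a F N ≫ Sigma.π F.obj m = 0 := by
  induction N with
  | zero =>
    rw [a_zero, Category.assoc, Sigma.ι_π_of_ne _ (by omega), comp_zero]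
  | succ N ih =>
    rw [a_succ]
    apply hom_ext''
    · rw [inl'_desc'_assoc, ih (by omega), comp_zero]
    · rw [inr'_desc'_assoc, Sigma.ι_π_of_ne _ (by omega), comp_zero]

lemma eq_zero_of_comp_a_π (N : ℕ) {T : A} (y : T ⟶ P F N)
    (hy : ∀ m, y ≫ a F N ≫ Sigma.π F.obj m = 0) : y = 0 := by
  induction N with
  | zero =>
    have := hy 0
    rw [a_zero, Category.assoc, Sigma.ι_π_eq_id, Category.comp_id] at this
    have h4 : y = y ≫ 𝟙 _ := (Category.comp_id _).symm
    rw [h4, ← r0_i0, reassoc_of% this, zero_comp]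
  | succ N ih =>
    have h1 : ∀ m, (a F (N + 1)) ≫ Sigma.π F.obj m =
        fst' F N ≫ a F N ≫ Sigma.π F.obj m +
          snd' F N ≫ Sigma.ι F.obj (N + 1) ≫ Sigma.π F.obj m := by
      intro m
      rw [a_succ]
      apply hom_ext''
      · rw [inl'_desc'_assoc, Preadditive.comp_add, inl'_fst'_assoc, inl'_snd'_assoc, zero_comp,
          add_zero]
      · rw [inr'_desc'_assoc, Preadditive.comp_add, inr'_fst'_assoc, inr'_snd'_assoc, zero_comp,
          zero_add]
    have h2 : y ≫ snd' F N = 0 := by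
      have := hy (N + 1)
      rw [h1, a_π_of_lt F N (N + 1) (by omega), comp_zero, zero_add, Sigma.ι_π_eq_id,
        Category.comp_id] at this
      exact this
    have h3 : y ≫ fst' F N = 0 := by
      apply ih
      intro m
      have := hy m
      rw [h1, Preadditive.comp_add, reassoc_of% h2, zero_comp, add_zero] at this
      rw [Category.assoc]
      exact this
    have h4 : y = y ≫ 𝟙 _ := (Category.comp_id _).symm
    rw [h4, ← total', Preadditive.comp_add, reassoc_of% h2, reassoc_of% h3, zero_comp, zero_comp,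
      add_zero]

lemma mono_dd [HasColimitsOfShape ℕ A] [HasExactColimitsOfShape ℕ A] : Mono (dd F) := by
  haveI := IsFiltered.isConnected ℕ
  refine Preadditive.mono_of_cancel_zero _ (fun {K} k hk => ?_)
  have key : k ≫ 𝟙 _ = 0 := by
    refine IsColimit.pullback_zero_ext (hcP F) (f := k) (g := 𝟙 _) (fun N => ?_)
    rw [Category.comp_id, ← pullback.condition]
    have h0 : pullback.fst ((cP F).ι.app N) k = 0 := by
      apply eq_zero_of_comp_a_π F N
      intro m
      have h1 : (pullback.fst ((cP F).ι.app N) k ≫ a F N) ≫ dd F = 0 := by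
        have : pullback.fst ((cP F).ι.app N) k ≫ a F N = pullback.snd ((cP F).ι.app N) k ≫ k :=
          pullback.condition
        rw [this, Category.assoc, hk, comp_zero]
      have := comp_π_eq_zero F _ h1 m
      rw [Category.assoc] at this
      exact this
    rw [h0, zero_comp]
  rwa [Category.comp_id] at key

lemma w_aux [HasColimitsOfShape ℕ A] : dd F ≫ Sigma.desc (fun n => colimit.ι F n) = 0 := by
  apply Sigma.hom_ext
  intro n
  rw [Preadditive.sub_comp, Category.id_comp, Preadditive.comp_sub, Sigma.ι_desc,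
    ι_sh_assoc, Sigma.ι_desc, comp_zero, sub_eq_zero]
  exact (colimit.w F (homOfLE (Nat.le_succ n))).symm

/-- `colim F` is the cokernel of `1 - shift`. -/
noncomputable def isCokernel [HasColimitsOfShape ℕ A] :
    IsColimit (CokernelCofork.ofπ (Sigma.desc (fun n => colimit.ι F n)) (w_aux F)) :=
  CokernelCofork.IsColimit.ofπ _ _
    (fun {T} t ht => colimit.desc F
      { pt := T
        ι := NatTrans.ofSequence (F := F) (G := (Functor.const ℕ).obj T)
          (fun n => Sigma.ι F.obj n ≫ t) (by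
            intro n
            have h1 : Sigma.ι F.obj n ≫ dd F ≫ t = 0 := by rw [ht, comp_zero]
            rw [Preadditive.sub_comp, Category.id_comp, Preadditive.comp_sub, ι_sh_assoc,
              sub_eq_zero] at h1
            dsimp
            rw [Category.comp_id, h1]) })
    (fun {T} t ht => by
      apply Sigma.hom_ext
      intro n
      rw [Sigma.ι_desc_assoc, colimit.ι_desc]
      rfl)
    (fun {T} t ht m hm => by
      subst hm
      apply colimit.hom_ext
      intro n
      rw [colimit.ι_desc]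
      dsimp
      rw [NatTrans.ofSequence_app, Sigma.ι_desc_assoc])

theorem aux [HasColimitsOfShape ℕ A] [HasExactColimitsOfShape ℕ A] :
    ∃ w : (𝟙 (∐ F.obj) - DerLim.shiftMap F.obj (fun n => F.map (homOfLE (Nat.le_succ n)))) ≫
        Sigma.desc (fun n => colimit.ι F n) = 0,
      (ShortComplex.mk _ _ w).ShortExact := by
  refine ⟨w_aux F, ?_⟩
  haveI : Mono (ShortComplex.mk _ _ (w_aux F)).f := mono_dd F
  haveI : Epi (ShortComplex.mk _ _ (w_aux F)).g := by
    constructor
    intro Z g h hgh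
    apply colimit.hom_ext
    intro n
    have := congrArg (fun t => Sigma.ι F.obj n ≫ t) hgh
    simp only [Sigma.ι_desc_assoc] at this
    exact this
  exact ShortComplex.ShortExact.mk'
    (ShortComplex.exact_of_g_is_cokernel (ShortComplex.mk _ _ (w_aux F)) (isCokernel F))
    inferInstance inferInstance

/-- Let A be an abelian category in which colimits of sequences ℕ ⥤ A exist and are exact, and F : ℕ ⥤ A
a sequence whose direct sum ⨁ Fₙ exists. Then the map 1 - shift on ⨁ Fₙ followed by the canonical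
map ⨁ Fₙ → colim F is a short exact sequence 0 → ⨁ Fₙ → ⨁ Fₙ → colim F → 0. -/
theorem result {A : Type u} [Category.{v} A] [Abelian A]
    [HasColimitsOfShape ℕ A] [HasExactColimitsOfShape ℕ A] (F : ℕ ⥤ A) [HasCoproduct F.obj] :
    ∃ w : (𝟙 (∐ F.obj) - DerLim.shiftMap F.obj (fun n => F.map (homOfLE (Nat.le_succ n)))) ≫
        Sigma.desc (fun n => colimit.ι F n) = 0,
      (ShortComplex.mk _ _ w).ShortExact := by
  exact aux F

end Groth.Agent.S0986
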