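import Groth.Statements.S0985
import Groth.Statements.S0985
import Groth.Agent.S0986
import Mathlib
-- import your own Groth.Agent.* helpers here

set_option autoImplicit false
universe w v u
open CategoryTheory CategoryTheory.Limits
open DerLim

namespace Groth.Agent.S0985

open CategoryTheory.Pretriangulated DerivedCategory

theorem aux {A : Type u} [Category.{v} A] [Abelian A] [HasDerivedCategory.{w} A]
    [HasColimitsOfShape ℕ A] [HasExactColimitsOfShape ℕ A]
    (L : ℕ ⥤ CochainComplex A ℤ) [HasCoproduct L.obj]
    [PreservesColimit (Discrete.functor L.obj) (DerivedCategory.Q (C := A))]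
    [HasCoproduct (fun n => DerivedCategory.Q.obj (L.obj n))] :
    DerLim.IsHocolim (fun n => DerivedCategory.Q.obj (L.obj n))
      (fun n => DerivedCategory.Q.map (L.map (homOfLE (Nat.le_succ n))))
      (DerivedCategory.Q.obj (colimit L)) (fun n => DerivedCategory.Q.map (colimit.ι L n)) := by
  obtain ⟨w, hses⟩ := Groth.Agent.S0986.result L
  have hdist := DerivedCategory.triangleOfSES_distinguished hses
  let K : ℕ → DerivedCategory A := fun n => DerivedCategory.Q.obj (L.obj n)
  let φ : (∐ K) ≅ DerivedCategory.Q.obj (∐ L.obj) :=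
    (PreservesCoproduct.iso DerivedCategory.Q L.obj).symm
  have hφ : ∀ n, Sigma.ι K n ≫ φ.hom = DerivedCategory.Q.map (Sigma.ι L.obj n) := by
    intro n
    simp [φ, K]
  have c1 : (𝟙 (∐ K) - DerLim.shiftMap K
      (fun n => DerivedCategory.Q.map (L.map (homOfLE (Nat.le_succ n))))) ≫ φ.hom =
      φ.hom ≫ DerivedCategory.Q.map
        (𝟙 (∐ L.obj) - DerLim.shiftMap L.obj (fun n => L.map (homOfLE (Nat.le_succ n)))) := by
    apply Sigma.hom_ext
    intro n
    rw [Preadditive.sub_comp, Category.id_comp, Preadditive.comp_sub, reassoc_of% (hφ n),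
      ← Functor.map_comp, Preadditive.comp_sub, Category.comp_id, Functor.map_sub, hφ]
    congr 1
    simp only [DerLim.shiftMap, Sigma.ι_desc_assoc, Category.assoc, hφ, Sigma.ι_desc,
      Functor.map_comp]
  have c2 : Sigma.desc (fun n => DerivedCategory.Q.map (colimit.ι L n)) ≫ 𝟙 _ =
      φ.hom ≫ DerivedCategory.Q.map (Sigma.desc (fun n => colimit.ι L n)) := by
    apply Sigma.hom_ext
    intro n
    rw [Category.comp_id, Sigma.ι_desc, reassoc_of% (hφ n), ← Functor.map_comp, Sigma.ι_desc]
  have c3 : (DerivedCategory.triangleOfSESδ hses ≫ (shiftFunctor _ (1 : ℤ)).map φ.inv) ≫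
      (shiftFunctor _ (1 : ℤ)).map φ.hom = 𝟙 _ ≫ DerivedCategory.triangleOfSESδ hses := by
    rw [Category.assoc, ← CategoryTheory.Functor.map_comp, Iso.inv_hom_id,
      CategoryTheory.Functor.map_id, Category.comp_id, Category.id_comp]
  refine ⟨DerivedCategory.triangleOfSESδ hses ≫ (shiftFunctor _ (1 : ℤ)).map φ.inv, ?_⟩
  exact isomorphic_distinguished _ hdist _ (Triangle.isoMk _ _ φ φ (Iso.refl _) c1 c2 c3)

/-- Let A be an abelian category in which colimits of sequences ℕ ⥤ A exist and are exact, and let L : ℕ
⥤ CochainComplex A ℤ be a sequence of complexes. Then the image in the derived category of the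
termwise colimit of L, with the canonical maps from the Lₙ, is a homotopy colimit of the images of
the Lₙ — assuming the termwise direct sum of the Lₙ exists and is preserved by the localization
functor to D(A) (a known result, carried here as a hypothesis rather than proved), and that the
direct sum of the images exists in D(A). -/
theorem result {A : Type u} [Category.{v} A] [Abelian A] [HasDerivedCategory.{w} A]
    [HasColimitsOfShape ℕ A] [HasExactColimitsOfShape ℕ A]
    (L : ℕ ⥤ CochainComplex A ℤ) [HasCoproduct L.obj] [PreservesColimit (Discrete.functor L.obj) (DerivedCategory.Q (C := A))]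
    [HasCoproduct (fun n => DerivedCategory.Q.obj (L.obj n))] :
    DerLim.IsHocolim (fun n => DerivedCategory.Q.obj (L.obj n)) (fun n => DerivedCategory.Q.map (L.map (homOfLE (Nat.le_succ n))))
      (DerivedCategory.Q.obj (colimit L)) (fun n => DerivedCategory.Q.map (colimit.ι L n)) := by
  exact aux L

end Groth.Agent.S0985
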