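import Groth.Statements.S0989
import Mathlib.CategoryTheory.Abelian.Refinements
-- import your own Groth.Agent.* helpers here

set_option autoImplicit false
universe w v u
open CategoryTheory CategoryTheory.Limits
open CohDer

namespace Groth.Agent.S0989

section
variable {A : Type u} [Category.{v} A] [Abelian A]
    (P : ObjectProperty A) [P.IsClosedUnderIsomorphisms] (h0 : ∃ Z : A, IsZero Z ∧ P Z)
    (hP : ∀ S : ComposableArrows A 4, S.Exact → P (S.obj 0) → P (S.obj 1) → P (S.obj 3) → P (S.obj 4) → P (S.obj 2))

include h0 in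
lemma prop_of_isZero {Z : A} (hZ : IsZero Z) : P Z := by
  obtain ⟨Z0, hZ0, hPZ0⟩ := h0
  exact P.prop_of_iso (hZ0.iso hZ) hPZ0

include h0 hP in
open ComposableArrows ZeroObject in
lemma prop_of_retract {X Y : A} (r : Retract X Y) (hY : P Y) : P X := by
  have hz : P (0 : A) := prop_of_isZero P h0 (isZero_zero A)
  have e1 : (ShortComplex.mk (𝟙 Y - r.r ≫ r.i) r.r (by simp [Preadditive.sub_comp])).Exact := by
    rw [ShortComplex.exact_iff_exact_up_to_refinements]
    intro B x₂ hx₂
    refine ⟨B, 𝟙 B, inferInstance, x₂, ?_⟩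
    dsimp at hx₂ ⊢
    rw [Category.id_comp, Preadditive.comp_sub, Category.comp_id, ← Category.assoc, hx₂, zero_comp, sub_zero]
  have e2 : (ShortComplex.mk r.r (0 : X ⟶ (0 : A)) (by simp)).Exact := by
    have : Epi r.r := inferInstance
    exact (ShortComplex.exact_iff_epi _ (by simp)).2 this
  have e3 : (ShortComplex.mk (0 : X ⟶ (0 : A)) (0 : (0 : A) ⟶ (0 : A)) (by simp)).Exact :=
    ShortComplex.exact_of_isZero_X₂ _ (isZero_zero A)
  exact hP (mk₄ (𝟙 Y - r.r ≫ r.i) r.r (0 : X ⟶ (0 : A)) (0 : (0 : A) ⟶ (0 : A)))
    (exact_of_δ₀ e1.exact_toComposableArrows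
      (exact_of_δ₀ e2.exact_toComposableArrows e3.exact_toComposableArrows)) hY hY hz hz

end

section
variable {A : Type u} [Category.{v} A] [Abelian A] [HasDerivedCategory.{w} A]
    (P : ObjectProperty A) [P.IsClosedUnderIsomorphisms] (h0 : ∃ Z : A, IsZero Z ∧ P Z)
    (hP : ∀ S : ComposableArrows A 4, S.Exact → P (S.obj 0) → P (S.obj 1) → P (S.obj 3) → P (S.obj 4) → P (S.obj 2))

include h0 hP in
open DerivedCategory Pretriangulated ComposableArrows ZeroObject in
theorem aux :
    ObjectProperty.IsTriangulated (fun X : DerivedCategory A => ∀ n : ℤ, P ((DerivedCategory.homologyFunctor A n).obj X)) ∧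
    ObjectProperty.IsStableUnderRetracts (fun X : DerivedCategory A => ∀ n : ℤ, P ((DerivedCategory.homologyFunctor A n).obj X)) := by
  constructor
  · have hz : ObjectProperty.ContainsZero (fun X : DerivedCategory A => ∀ n : ℤ, P ((DerivedCategory.homologyFunctor A n).obj X)) :=
      ⟨0, isZero_zero _, fun n => prop_of_isZero P h0 ((homologyFunctor A n).map_isZero (isZero_zero _))⟩
    have hs : ObjectProperty.IsStableUnderShift (fun X : DerivedCategory A => ∀ n : ℤ, P ((DerivedCategory.homologyFunctor A n).obj X)) ℤ :=
      { isStableUnderShiftBy := fun a => ⟨fun X hX n =>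
          P.prop_of_iso (((homologyFunctor A 0).shiftIso a n (a + n) rfl).app X).symm (hX (a + n))⟩ }
    exact
      { ext₂' := fun T hT h₁ h₃ => ObjectProperty.le_isoClosure _ _ (fun n => by
          have e1 := HomologySequence.exact₁ T hT (n - 1) n (by lia)
          have e2 := HomologySequence.exact₂ T hT n
          have e3 := HomologySequence.exact₃ T hT n (n + 1) rfl
          exact hP (mk₄ (HomologySequence.δ T (n - 1) n (by lia)) ((homologyFunctor A n).map T.mor₁)
            ((homologyFunctor A n).map T.mor₂) (HomologySequence.δ T n (n + 1) rfl))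
            (exact_of_δ₀ e1.exact_toComposableArrows (exact_of_δ₀ e2.exact_toComposableArrows
              e3.exact_toComposableArrows)) (h₃ (n - 1)) (h₁ n) (h₃ n) (h₁ (n + 1))) }
  · exact ⟨fun {X Y} r hY n => prop_of_retract P h0 hP (r.map (homologyFunctor A n)) (hY n)⟩

end

/-- Let P be a weak Serre class in an abelian category A: P is closed under isomorphisms, holds for a
zero object, and whenever X₀ → X₁ → X₂ → X₃ → X₄ is exact with P holding for X₀, X₁, X₃, X₄ it holds
for X₂. Then the class of objects of the derived category all of whose cohomology objects satisfy P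
is a triangulated subcategory (contains zero, stable under shifts, closed under extensions) which is
moreover closed under retracts (saturated). -/
theorem result {A : Type u} [Category.{v} A] [Abelian A] [HasDerivedCategory.{w} A]
    (P : ObjectProperty A) [P.IsClosedUnderIsomorphisms] (h0 : ∃ Z : A, IsZero Z ∧ P Z)
    (hP : ∀ S : ComposableArrows A 4, S.Exact → P (S.obj 0) → P (S.obj 1) → P (S.obj 3) → P (S.obj 4) → P (S.obj 2)) :
    ObjectProperty.IsTriangulated (fun X : DerivedCategory A => ∀ n : ℤ, P ((DerivedCategory.homologyFunctor A n).obj X)) ∧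
    ObjectProperty.IsStableUnderRetracts (fun X : DerivedCategory A => ∀ n : ℤ, P ((DerivedCategory.homologyFunctor A n).obj X)) := by
  exact aux P h0 hP

end Groth.Agent.S0989
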