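import Groth.Statements.S0992
import Mathlib.Algebra.Homology.ShortComplex.Ab
import Mathlib.Algebra.Category.Grp.ZModuleEquivalence
-- import your own Groth.Agent.* helpers here

set_option autoImplicit false
universe w
open CategoryTheory CategoryTheory.Limits Opposite
open CohDer

namespace Groth.Agent.S0992

section
variable {I : Type w} [LinearOrder I] (K : Iᵒᵖ ⥤ CochainComplex AddCommGrpCat.{w} ℤ)

/-- The restriction maps. -/
def res {δ γ : I} (h : δ ≤ γ) (n : ℤ) : (K.obj (op γ)).X n →+ (K.obj (op δ)).X n :=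
  ((K.map (homOfLE h).op).f n).hom

/-- The differentials. -/
def dd (γ : I) (i j : ℤ) : (K.obj (op γ)).X i →+ (K.obj (op γ)).X j :=
  ((K.obj (op γ)).d i j).hom

lemma res_res {δ' δ γ : I} (h₁ : δ' ≤ δ) (h₂ : δ ≤ γ) (n : ℤ) (x : (K.obj (op γ)).X n) :
    res K h₁ n (res K h₂ n x) = res K (h₁.trans h₂) n x := by
  have : K.map (homOfLE (h₁.trans h₂)).op = K.map (homOfLE h₂).op ≫ K.map (homOfLE h₁).op := by
    rw [← K.map_comp, ← op_comp]; rfl
  simp only [res, this, HomologicalComplex.comp_f, AddCommGrpCat.hom_comp, AddMonoidHom.comp_apply]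

lemma res_self (γ : I) (n : ℤ) (x : (K.obj (op γ)).X n) : res K (le_refl γ) n x = x := by
  have : K.map (homOfLE (le_refl γ)).op = 𝟙 _ := by
    rw [← K.map_id]; rfl
  simp only [res, this, HomologicalComplex.id_f, AddCommGrpCat.hom_id, AddMonoidHom.id_apply]

lemma res_dd {δ γ : I} (h : δ ≤ γ) (i j : ℤ) (x : (K.obj (op γ)).X i) :
    res K h j (dd K γ i j x) = dd K δ i j (res K h i x) := by
  have := (K.map (homOfLE h).op).comm i j
  have h2 := congrArg (fun f => f.hom x) this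
  simp only [AddCommGrpCat.hom_comp, AddMonoidHom.comp_apply] at h2
  exact h2.symm

lemma dd_dd (γ : I) (i j k : ℤ) (x : (K.obj (op γ)).X i) : dd K γ j k (dd K γ i j x) = 0 := by
  have := (K.obj (op γ)).d_comp_d i j k
  have h2 := congrArg (fun f => f.hom x) this
  simp only [AddCommGrpCat.hom_comp, AddMonoidHom.comp_apply] at h2
  exact h2

lemma exists_of_exactAt (γ : I) (i j : ℤ) (hij : i + 1 = j) (h : (K.obj (op γ)).ExactAt j)
    (x : (K.obj (op γ)).X j) (hx : dd K γ j (j + 1) x = 0) :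
    ∃ y : (K.obj (op γ)).X i, dd K γ i j y = x := by
  rw [HomologicalComplex.exactAt_iff' _ i j (j + 1) (by simp [← hij]) (by simp),
    ShortComplex.ab_exact_iff] at h
  exact h x hx

end

section
variable {I : Type w} [LinearOrder I] [WellFoundedLT I]
  (K : Iᵒᵖ ⥤ CochainComplex AddCommGrpCat.{w} ℤ)

/-- Solvability of the lifting problem over a set of indices. -/
def Sol (D : Set I) : Prop :=
  ∀ (i j : ℤ) (_ : i + 1 = j) (x : ∀ γ : I, (K.obj (op γ)).X j),
    (∀ γ ∈ D, dd K γ j (j + 1) (x γ) = 0) →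
    (∀ γ ∈ D, ∀ δ (h : δ ≤ γ), res K h j (x γ) = x δ) →
    ∃ y : ∀ γ : I, (K.obj (op γ)).X i,
      (∀ γ ∈ D, dd K γ i j (y γ) = x γ) ∧ (∀ γ ∈ D, ∀ δ (h : δ ≤ γ), res K h i (y γ) = y δ)

variable (hac : ∀ (β : I) (n : ℤ), (K.obj (op β)).ExactAt n)
  (hsurj : ∀ (β : I) (n : ℤ) (x : ∀ γ : {γ : I // γ < β}, (K.obj (op γ.1)).X n),
      (∀ (γ γ' : {γ : I // γ < β}) (h : γ.1 ≤ γ'.1), ((K.map (homOfLE h).op).f n).hom (x γ') = x γ) →
      ∃ y : (K.obj (op β)).X n, ∀ γ : {γ : I // γ < β}, ((K.map (homOfLE γ.2.le).op).f n).hom y = x γ)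

include hsurj in
/-- Lifting compatible families defined below `γ`. -/
lemma exists_lift (γ : I) (n : ℤ) (x : ∀ δ : I, δ < γ → (K.obj (op δ)).X n)
    (hx : ∀ δ (hδ : δ < γ) δ' (h : δ' ≤ δ), res K h n (x δ hδ) = x δ' (lt_of_le_of_lt h hδ)) :
    ∃ y : (K.obj (op γ)).X n, ∀ δ (hδ : δ < γ), res K hδ.le n y = x δ hδ := by
  obtain ⟨y, hy⟩ := hsurj γ n (fun δ => x δ.1 δ.2) (fun δ δ' h => hx δ'.1 δ'.2 δ.1 h)
  exact ⟨y, fun δ hδ => hy ⟨δ, hδ⟩⟩

include hac hsurj in
/-- The one-step extension. -/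
lemma stage (γ : I) (hγ : Sol K {δ | δ < γ}) (i j : ℤ) (hij : i + 1 = j)
    (xγ : (K.obj (op γ)).X j) (hxγ : dd K γ j (j + 1) xγ = 0)
    (prev : ∀ δ : I, δ < γ → (K.obj (op δ)).X i)
    (hprev_d : ∀ δ (hδ : δ < γ), dd K δ i j (prev δ hδ) = res K hδ.le j xγ)
    (hprev_c : ∀ δ (hδ : δ < γ) δ' (h : δ' ≤ δ),
      res K h i (prev δ hδ) = prev δ' (lt_of_le_of_lt h hδ)) :
    ∃ y : (K.obj (op γ)).X i, dd K γ i j y = xγ ∧ ∀ δ (hδ : δ < γ), res K hδ.le i y = prev δ hδ := by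
  subst hij
  -- Step 1: lift the previous choices
  obtain ⟨y', hy'⟩ := exists_lift K hsurj γ i prev hprev_c
  -- Step 2: the error term
  set w := xγ - dd K γ i (i + 1) y' with hw
  have hw_d : dd K γ (i + 1) (i + 1 + 1) w = 0 := by
    rw [hw, map_sub, hxγ, dd_dd, sub_zero]
  have hw_res : ∀ δ (hδ : δ < γ), res K hδ.le (i + 1) w = 0 := by
    intro δ hδ
    rw [hw, map_sub, res_dd, hy' δ hδ, hprev_d δ hδ, sub_self]
  -- Step 3: exactness
  obtain ⟨z', hz'⟩ := exists_of_exactAt K γ i (i + 1) rfl (hac γ (i + 1)) w hw_d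
  -- Step 4: the restrictions of `z'` form a compatible family of cycles
  have hi' : (i - 1) + 1 = i := by ring
  obtain ⟨t, ht_d, ht_c⟩ := hγ (i - 1) i hi'
    (fun δ => if hδ : δ < γ then res K hδ.le i z' else 0)
    (by
      intro δ hδ
      have hδ' : δ < γ := hδ
      rw [dif_pos hδ']
      rw [← res_dd, hz', hw_res δ hδ'])
    (by
      intro δ hδ δ' h
      have hδ' : δ < γ := hδ
      rw [dif_pos hδ', dif_pos (lt_of_le_of_lt h hδ'), res_res])
  -- Step 5: lift `t`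
  obtain ⟨t', ht'⟩ := exists_lift K hsurj γ (i - 1) (fun δ _ => t δ)
    (fun δ hδ δ' h => ht_c δ hδ δ' h)
  refine ⟨y' + (z' - dd K γ (i - 1) i t'), ?_, ?_⟩
  · rw [map_add, map_sub, dd_dd, sub_zero, hz', hw]
    abel
  · intro δ hδ
    rw [map_add, map_sub, hy' δ hδ, res_dd, ht' δ hδ, ht_d δ hδ, dif_pos hδ, sub_self, add_zero]

include hac hsurj in
lemma main_step (D : Set I) (hD : ∀ γ ∈ D, ∀ δ, δ ≤ γ → δ ∈ D)
    (hSol : ∀ γ ∈ D, Sol K {δ | δ < γ}) : Sol K D := by
  intro i j hij x hx_d hx_c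
  let P : ∀ γ : I, (∀ δ, δ < γ → (K.obj (op δ)).X i) → Prop := fun γ prev =>
    γ ∈ D ∧ (∀ δ (hδ : δ < γ), dd K δ i j (prev δ hδ) = res K hδ.le j (x γ)) ∧
      (∀ δ (hδ : δ < γ) δ' (h : δ' ≤ δ), res K h i (prev δ hδ) = prev δ' (lt_of_le_of_lt h hδ))
  have hstage : ∀ γ prev, P γ prev → ∃ y : (K.obj (op γ)).X i, dd K γ i j y = x γ ∧
      ∀ δ (hδ : δ < γ), res K hδ.le i y = prev δ hδ := fun γ prev h =>
    stage K hac hsurj γ (hSol γ h.1) i j hij (x γ) (hx_d γ h.1) prev h.2.1 h.2.2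
  classical
  let F : ∀ γ : I, (∀ δ, δ < γ → (K.obj (op δ)).X i) → (K.obj (op γ)).X i := fun γ prev =>
    if h : P γ prev then Classical.choose (hstage γ prev h) else 0
  let Y : ∀ γ : I, (K.obj (op γ)).X i := (wellFounded_lt (α := I)).fix F
  have hY : ∀ γ, Y γ = F γ (fun δ _ => Y δ) := fun γ => WellFounded.fix_eq _ F γ
  have hinv : ∀ γ, γ ∈ D → dd K γ i j (Y γ) = x γ ∧
      ∀ δ (hδ : δ < γ), res K hδ.le i (Y γ) = Y δ := by
    intro γ
    induction γ using WellFoundedLT.induction with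
    | ind γ ih =>
      intro hγD
      have hP : P γ (fun δ _ => Y δ) := by
        refine ⟨hγD, ?_, ?_⟩
        · intro δ hδ
          rw [(ih δ hδ (hD γ hγD δ hδ.le)).1, hx_c γ hγD δ hδ.le]
        · intro δ hδ δ' h
          rcases h.eq_or_lt with rfl | hlt
          · exact res_self K _ _ _
          · exact (ih δ hδ (hD γ hγD δ hδ.le)).2 δ' hlt
      rw [hY γ]
      simp only [F, dif_pos hP]
      exact Classical.choose_spec (hstage γ _ hP)
  refine ⟨Y, fun γ hγ => (hinv γ hγ).1, fun γ hγ δ h => ?_⟩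
  rcases h.eq_or_lt with rfl | hlt
  · exact res_self K _ _ _
  · exact (hinv γ hγ).2 δ hlt

include hac hsurj in
lemma sol_lt (β : I) : Sol K {δ | δ < β} := by
  induction β using WellFoundedLT.induction with
  | ind β ih =>
    exact main_step K hac hsurj _ (fun γ hγ δ h => lt_of_le_of_lt h hγ) (fun γ hγ => ih γ hγ)

include hac hsurj in
lemma sol_univ : Sol K Set.univ :=
  main_step K hac hsurj _ (fun _ _ _ _ => trivial) (fun γ _ => sol_lt K hac hsurj γ)

end

section limit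
variable {I : Type w} [LinearOrder I] (K : Iᵒᵖ ⥤ CochainComplex AddCommGrpCat.{w} ℤ)

lemma limit_ext (m : ℤ) (a b : (limit K).X m)
    (h : ∀ γ : I, ((limit.π K (op γ)).f m).hom a = ((limit.π K (op γ)).f m).hom b) : a = b := by
  let cm := (HomologicalComplex.eval _ _ m).mapCone (limit.cone K)
  have hcm : IsLimit cm := isLimitOfPreserves _ (limit.isLimit K)
  exact Concrete.isLimit_ext (K ⋙ HomologicalComplex.eval _ _ m) hcm a b (fun j => h j.unop)

lemma exists_of_compatible (m : ℤ) (fam : ∀ γ : I, (K.obj (op γ)).X m)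
    (hfam : ∀ γ δ (h : δ ≤ γ), res K h m (fam γ) = fam δ) :
    ∃ y : (limit K).X m, ∀ γ, ((limit.π K (op γ)).f m).hom y = fam γ := by
  let cm := (HomologicalComplex.eval _ _ m).mapCone (limit.cone K)
  have hcm : IsLimit cm := isLimitOfPreserves _ (limit.isLimit K)
  have hcm' := isLimitOfPreserves (forget AddCommGrpCat.{w}) hcm
  let s : ((K ⋙ HomologicalComplex.eval _ _ m) ⋙ forget AddCommGrpCat.{w}).sections :=
    ⟨fun j => fam j.unop, by
      intro j j' f
      have hf : f = (homOfLE (leOfHom f.unop)).op := Subsingleton.elim _ _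
      rw [hf]
      exact hfam j.unop j'.unop (leOfHom f.unop)⟩
  refine ⟨(Types.isLimitEquivSections hcm').symm s, fun γ => ?_⟩
  exact Types.isLimitEquivSections_symm_apply hcm' s (op γ)

end limit

theorem aux {I : Type w} [LinearOrder I] [WellFoundedLT I]
    (K : Iᵒᵖ ⥤ CochainComplex AddCommGrpCat.{w} ℤ)
    (hac : ∀ (β : I) (n : ℤ), (K.obj (op β)).ExactAt n)
    (hsurj : ∀ (β : I) (n : ℤ) (x : ∀ γ : {γ : I // γ < β}, (K.obj (op γ.1)).X n),
      (∀ (γ γ' : {γ : I // γ < β}) (h : γ.1 ≤ γ'.1), ((K.map (homOfLE h).op).f n).hom (x γ') = x γ) →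
      ∃ y : (K.obj (op β)).X n, ∀ γ : {γ : I // γ < β}, ((K.map (homOfLE γ.2.le).op).f n).hom y = x γ)
    (n : ℤ) : (limit K).ExactAt n := by
  rw [HomologicalComplex.exactAt_iff' _ (n - 1) n (n + 1) (by simp) (by simp),
    ShortComplex.ab_exact_iff]
  intro x hx
  -- the family of components of `x`
  let fam : ∀ γ : I, (K.obj (op γ)).X n := fun γ => ((limit.π K (op γ)).f n).hom x
  have hπ_d : ∀ (γ : I) (i j : ℤ) (a : (limit K).X i),
      ((limit.π K (op γ)).f j).hom (((limit K).d i j).hom a) =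
        dd K γ i j (((limit.π K (op γ)).f i).hom a) := by
    intro γ i j a
    have := (limit.π K (op γ)).comm i j
    have h2 := congrArg (fun f => f.hom a) this
    simp only [AddCommGrpCat.hom_comp, AddMonoidHom.comp_apply] at h2
    exact h2.symm
  have hπ_res : ∀ (γ δ : I) (h : δ ≤ γ) (i : ℤ) (a : (limit K).X i),
      res K h i (((limit.π K (op γ)).f i).hom a) = ((limit.π K (op δ)).f i).hom a := by
    intro γ δ h i a
    have := limit.w K (homOfLE h).op
    have h2 := congrArg (fun f => (f.f i).hom a) this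
    simp only [HomologicalComplex.comp_f, AddCommGrpCat.hom_comp, AddMonoidHom.comp_apply] at h2
    exact h2
  have hfam_d : ∀ γ ∈ (Set.univ : Set I), dd K γ n (n + 1) (fam γ) = 0 := by
    intro γ _
    have hx' : ((limit K).d n (n + 1)).hom x = 0 := hx
    rw [← hπ_d, hx', map_zero]
  have hfam_c : ∀ γ ∈ (Set.univ : Set I), ∀ δ (h : δ ≤ γ), res K h n (fam γ) = fam δ :=
    fun γ _ δ h => hπ_res γ δ h n x
  obtain ⟨y, hy_d, hy_c⟩ := sol_univ K hac hsurj (n - 1) n (by ring) fam hfam_d hfam_c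
  obtain ⟨z, hz⟩ := exists_of_compatible K (n - 1) y (fun γ δ h => hy_c γ trivial δ h)
  refine ⟨z, ?_⟩
  apply limit_ext K n
  intro γ
  have : ((limit.π K (op γ)).f n).hom (((limit K).d (n - 1) n).hom z) = fam γ := by
    rw [hπ_d, hz γ, hy_d γ trivial]
  exact this

/-- Let I be a well-ordered type and K : Iᵒᵖ ⥤ CochainComplex Ab an inverse system of acyclic complexes
of abelian groups such that for every β and every degree n, each family of elements of the Kⁿ_γ (γ <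
β) compatible under the transition maps lifts to an element of Kⁿ_β (i.e. Kⁿ_β → lim_{γ<β} Kⁿ_γ is
surjective). Then the limit complex lim K is acyclic. -/
theorem result {I : Type w} [LinearOrder I] [WellFoundedLT I]
    (K : Iᵒᵖ ⥤ CochainComplex AddCommGrpCat.{w} ℤ)
    (hac : ∀ (β : I) (n : ℤ), (K.obj (op β)).ExactAt n)
    (hsurj : ∀ (β : I) (n : ℤ) (x : ∀ γ : {γ : I // γ < β}, (K.obj (op γ.1)).X n),
      (∀ (γ γ' : {γ : I // γ < β}) (h : γ.1 ≤ γ'.1), ((K.map (homOfLE h).op).f n).hom (x γ') = x γ) →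
      ∃ y : (K.obj (op β)).X n, ∀ γ : {γ : I // γ < β}, ((K.map (homOfLE γ.2.le).op).f n).hom y = x γ)
    (n : ℤ) : (limit K).ExactAt n := by
  exact aux K hac hsurj n

end Groth.Agent.S0992
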