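import Groth.Statements.S10013
import Groth.Agent.Lib.Helper15.AlgSpLim21
import Groth.Agent.Lib.Helper15.AlgSpUnram

set_option autoImplicit false
universe u
open CategoryTheory CategoryTheory.Limits AlgebraicGeometry
open AlgSp

namespace Groth.Agent.S10013

/-- Let `S` be a quasi-separated scheme and `B` the limit, in fppf sheaves over `S`, of a cofiltered
system `(B_i)` of algebraic spaces over `S` whose transition maps are affine; fix an index `i₀` such
that `B_{i₀}` is quasi-compact and quasi-separated over `S`, and a morphism `f₀ : X₀ ⟶ Y₀` of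
algebraic spaces over `B_{i₀}` whose source and target are quasi-compact and quasi-separated over
`S`. Write `f_i` (for `i` mapping to `i₀`) and `f` for the base changes of `f₀` to `B_i` and to `B`,
given by pullback squares. If `f` is etale and `f₀` locally of finite presentation, then for some
`i` mapping to `i₀` every such base change `f_i` is etale. (The published statement allows any base
scheme and uses absolute quasi-separatedness; this row assumes the base quasi-separated, over which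
quasi-separatedness relative to the base is the absolute notion.) -/
theorem result (S : Scheme.{u}) [QuasiSeparatedSpace S] {I : Type u} [SmallCategory I] [IsCofiltered I]
    (D : I ⥤ AlgSp.Sp S) (hD : ∀ i, AlgSp.IsAlgSpace (D.obj i))
    (hDa : ∀ (i j : I) (φ : i ⟶ j), AlgSp.IsAffineMor (D.map φ))
    (c : Cone D) (hc : IsLimit c) (i₀ : I)
    (hBqc : AlgSp.IsQuasiCompactSp (D.obj i₀)) (hBqs : AlgSp.IsQuasiSeparatedSp (D.obj i₀))
    (X₀ Y₀ : AlgSp.Space S) (f₀ : X₀.obj ⟶ Y₀.obj) (b₀ : Y₀.obj ⟶ D.obj i₀)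
    (hXqc : AlgSp.IsQuasiCompactSp X₀.obj) (hXqs : AlgSp.IsQuasiSeparatedSp X₀.obj)
    (hYqc : AlgSp.IsQuasiCompactSp Y₀.obj) (hYqs : AlgSp.IsQuasiSeparatedSp Y₀.obj)
    (X Y : AlgSp.Sp S) (f : X ⟶ Y) (pY : Y ⟶ Y₀.obj) (qY : Y ⟶ c.pt)
    (hY : IsPullback pY qY b₀ (c.π.app i₀)) (pX : X ⟶ X₀.obj) (hX : IsPullback pX f f₀ pY)
    (hf : AlgSp.IsEtaleMor f) (hf₀ : AlgSp.LocP @LocallyOfFinitePresentation f₀) :
    ∃ (i : I) (φ : i ⟶ i₀), ∀ (Xi Yi : AlgSp.Sp S) (fi : Xi ⟶ Yi) (pYi : Yi ⟶ Y₀.obj) (qYi : Yi ⟶ D.obj i)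
      (_ : IsPullback pYi qYi b₀ (D.map φ)) (pXi : Xi ⟶ X₀.obj) (_ : IsPullback pXi fi f₀ pYi),
      AlgSp.IsEtaleMor fi := by
  obtain ⟨M⟩ := Groth.Agent.Helper15.AlgSpLim.nonempty_morChart f₀ hXqc hYqc hYqs
  obtain ⟨k₁, hk₁⟩ := Groth.Agent.Helper15.AlgSpLim.exists_stage_of_chart D hD hDa c hc i₀
    X₀.property Y₀.property f₀ b₀ hf₀ M (fun {A B} g => AlgSp.IsEtaleMor g) @Etale
    Groth.Agent.Helper15.AlgSpLim.descendsAffine_etale
    (fun hXa hYa _ _ f' hX' _ g' z sqV =>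
      ⟨fun h => (M.locP_baseChange_iff @Etale (Or.inr (Or.inr (Or.inr (Or.inr (Or.inl rfl))))) hXa
          hYa hX' g' z sqV).1 (Groth.Agent.Helper15.locP_etale_of_isEtaleMor hYa f' h),
        fun h => Groth.Agent.Helper15.isEtaleMor_of_locP_etale hYa f'
          ((M.locP_baseChange_iff @Etale (Or.inr (Or.inr (Or.inr (Or.inr (Or.inl rfl))))) hXa
            hYa hX' g' z sqV).2 h)⟩)
    f pY qY hY pX hX hf
  exact ⟨k₁.left, k₁.hom, fun Xi Yi fi pYi qYi hYi pXi hXi =>
    hk₁ k₁ (𝟙 _) Xi Yi fi pYi qYi hYi pXi hXi⟩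

end Groth.Agent.S10013
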