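import Groth.Statements.S10058
import Groth.Agent.Lib.Helper15.AlgSpLim9

set_option autoImplicit false
universe u
open CategoryTheory CategoryTheory.Limits AlgebraicGeometry
open AlgSp

namespace Groth.Agent.S10058

/-- Let `X` be the limit, in fppf sheaves over `S`, of a cofiltered system `(X_i)` of decent algebraic
spaces over `S` with affine transition morphisms. Then `|X| = lim |X_i|` as topological spaces: the
topology of `|X|` is the one induced by the projections `|X| → |X_i|`. -/
theorem result (S : Scheme.{u}) {I : Type u} [SmallCategory I] [IsCofiltered I]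
    (D : I ⥤ AlgSp.Sp S) (hD : ∀ i, AlgSp.IsAlgSpace (D.obj i))
    (hDa : ∀ (i j : I) (φ : i ⟶ j), AlgSp.IsAffineMor (D.map φ))
    (c : Cone D) (hc : IsLimit c)
    (hdec : ∀ i, AlgSp.IsDecent (D.obj i)) :
    AlgSp.Points.topologicalSpace c.pt =
      ⨅ i, TopologicalSpace.induced (AlgSp.Points.map (c.π.app i)) (AlgSp.Points.topologicalSpace (D.obj i)) := by
  refine le_antisymm (le_iInf fun i => (continuous_iff_le_induced.1 (AlgSp.Points.continuous_map _))) ?_
  intro O hO
  refine (@isOpen_iff_forall_mem_open _ (⨅ i, TopologicalSpace.induced (AlgSp.Points.map (c.π.app i))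
    (AlgSp.Points.topologicalSpace (D.obj i))) O).2 ?_
  intro x hx
  obtain ⟨i, Oi, hOi, hxi, hsub⟩ :=
    Groth.Agent.Helper15.AlgSpLim.exists_open_nbhd_of_limit D hD hDa c hc O hO x hx
  refine ⟨AlgSp.Points.map (c.π.app i) ⁻¹' Oi, hsub, ?_, hxi⟩
  have h1 : @IsOpen _ (TopologicalSpace.induced (AlgSp.Points.map (c.π.app i))
      (AlgSp.Points.topologicalSpace (D.obj i))) (AlgSp.Points.map (c.π.app i) ⁻¹' Oi) :=
    ⟨Oi, hOi, rfl⟩
  exact (iInf_le (fun i => TopologicalSpace.induced (AlgSp.Points.map (c.π.app i))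
    (AlgSp.Points.topologicalSpace (D.obj i))) i) _ h1

end Groth.Agent.S10058
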