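import Mathlib
import Groth.Statements.S10327
import Groth.Agent.Lib.Helper19.FpqcSep.Val
import Groth.Agent.Lib.Helper19.FpqcSep.ValCopy
import Groth.Agent.S10289

set_option autoImplicit false
universe u
open CategoryTheory CategoryTheory.Limits AlgebraicGeometry
open AlgSp

namespace Groth.Agent.S10327

/-- For f quasi-compact and quasi-separated, f is separated and universally closed if and only if the
valuative criterion holds, if and only if every valuative square has a unique lift. -/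
theorem result {S : Scheme.{u}} {X Y : AlgSp.Space S} (f : X ⟶ Y)
    (hqc : AlgSp.IsQuasiCompactMor f.hom) (hqs : AlgSp.IsQuasiSeparatedMor f.hom) :
    ((AlgSp.IsSeparatedMor f.hom ∧ AlgSp.IsUnivClosedMor f.hom) ↔ AlgSp.VC f.hom) ∧
    ((AlgSp.IsSeparatedMor f.hom ∧ AlgSp.IsUnivClosedMor f.hom) ↔
      (AlgSp.UniqVC f.hom ∧ AlgSp.ExistVCStrict f.hom)) := by
  have hsep : AlgSp.UniqVC f.hom → AlgSp.IsSeparatedMor f.hom := fun hu =>
    Groth.Agent.Helper19.ValCopy.isSeparatedMor_of_quasiSeparated_uniqVC X.property f.hom hqs hu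
  have huc : AlgSp.ExistVC f.hom → AlgSp.IsUnivClosedMor f.hom := fun he =>
    Groth.Agent.Helper19.ValCopy.isUnivClosedMor_of_quasiCompact_existVC X.property Y.property f.hom hqc he
  have hex : AlgSp.IsUnivClosedMor f.hom → AlgSp.ExistVC f.hom := fun hc =>
    Groth.Agent.S10289.result f hqs hc
  refine ⟨⟨fun h => ⟨Groth.Agent.Helper19.ValCopy.uniqVC_of_isSeparatedMor f.hom h.1, hex h.2⟩,
    fun h => ⟨hsep h.1, huc h.2⟩⟩, ⟨fun h => ⟨Groth.Agent.Helper19.ValCopy.uniqVC_of_isSeparatedMor f.hom h.1,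
      fun sq => ?_⟩, fun h => ⟨hsep h.1, huc (Groth.Agent.Helper19.ValCopy.existVC_of_existVCStrict f.hom h.2)⟩⟩⟩
  obtain ⟨e, he⟩ := hex h.2 sq
  exact Groth.Agent.Helper19.FpqcSep.hasLift_of_domExt_of_separated X.2 Y.2 f.hom h.1 sq e he

end Groth.Agent.S10327
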