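import Groth.Statements.S9873
import Groth.Agent.Lib.Helper15.FppfBridge4

set_option autoImplicit false
universe u
open CategoryTheory CategoryTheory.Limits AlgebraicGeometry
open AlgSp

namespace Groth.Agent.S9873

/-- Let `X` be an algebraic space over `S`, `F` an fppf sheaf of sets over `S`, and `f : X ⟶ F` a map of
sheaves which is representable by schemes, etale and surjective (in the representable sense). Then
`F` is an algebraic space over `S`; in particular an fppf sheaf receiving a representable etale
surjective map from a scheme is an algebraic space. -/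
theorem result (S : Scheme.{u}) (X : AlgSp.Space S) (F : AlgSp.Sp S)
    (f : X.obj ⟶ F) (he : AlgSp.RepWith @Etale f) (hs : AlgSp.RepWith @Surjective f) :
    AlgSp.IsAlgSpace F := by
  obtain ⟨U, q, hqe, hqs⟩ := X.property.atlas
  have hpe : RepWith @Etale (q ≫ f) := (RepWith @Etale).comp_mem _ _ hqe he
  have hps : RepWith @Surjective (q ≫ f) := (RepWith @Surjective).comp_mem _ _ hqs hs
  haveI : Sheaf.IsLocallySurjective (q ≫ f) :=
    Groth.Agent.Helper15.isLocallySurjective_of_etale_surjective _ hpe hps
  haveI : Epi (q ≫ f) := Sheaf.epi_of_isLocallySurjective _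
  have hrep := hpe.rep
  have sq := hrep.isPullback' (q ≫ f)
  refine ⟨Groth.Agent.Helper15.Bridge.representable_diag_of_chart (q ≫ f) (hrep.fst' (q ≫ f))
    (hrep.snd (q ≫ f)) sq ?_, U, q ≫ f, hpe, hps⟩
  have het : Etale (hrep.snd (q ≫ f)).left := hpe.property_snd (q ≫ f)
  have e : (prod.lift (hrep.fst' (q ≫ f)) (hrep.snd (q ≫ f))).left ≫
      (prod.snd : U ⨯ U ⟶ U).left = (hrep.snd (q ≫ f)).left := by
    rw [← Over.comp_left, prod.lift_snd]
  haveI : LocallyOfFiniteType ((prod.lift (hrep.fst' (q ≫ f)) (hrep.snd (q ≫ f))).left ≫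
      (prod.snd : U ⨯ U ⟶ U).left) := by
    rw [e]; infer_instance
  exact locallyOfFiniteType_of_comp _ (prod.snd : U ⨯ U ⟶ U).left

end Groth.Agent.S9873
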