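import Groth.Statements.S10113
import Mathlib.CategoryTheory.Sites.RegularEpi

set_option autoImplicit false
universe u
open CategoryTheory CategoryTheory.Limits AlgebraicGeometry
open AlgSp

namespace Groth.Agent.S10113

/-- Let `s, t : R ⟶ U` be a pre-relation of algebraic spaces, `M` an algebraic space and `U ⟶ M` a
morphism which coequalizes `s, t`, is a surjection of sheaves, and for which `(t, s) : R ⟶ U ×_M U`
is a surjection of sheaves. Then the induced map `U/R ⟶ M` is an isomorphism: `M` represents the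
quotient sheaf. -/
theorem result (S : Scheme.{u}) (R U M : AlgSp.Sp S)
    (hR : AlgSp.IsAlgSpace R) (hU : AlgSp.IsAlgSpace U) (hM : AlgSp.IsAlgSpace M) (s t : R ⟶ U)
    (q : U ⟶ M) (w : s ≫ q = t ≫ q) [Epi q] [Epi (pullback.lift t s w.symm : R ⟶ pullback q q)] :
    IsIso (AlgSp.quotSpDesc q w) := by
  have hreg := regularEpiOfEpi q
  -- the kernel pair condition
  have hker : ∀ {N : AlgSp.Sp S} (f : U ⟶ N), s ≫ f = t ≫ f →
      pullback.fst q q ≫ f = pullback.snd q q ≫ f := by
    intro N f hf
    rw [← cancel_epi (pullback.lift t s w.symm : R ⟶ pullback q q), ← Category.assoc,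
      ← Category.assoc, pullback.lift_fst, pullback.lift_snd, hf]
  have hπ : hreg.left ≫ AlgSp.quotSpπ s t = hreg.right ≫ AlgSp.quotSpπ s t := by
    have h1 : pullback.lift hreg.left hreg.right hreg.w ≫ pullback.fst q q = hreg.left :=
      pullback.lift_fst _ _ _
    have h2 : pullback.lift hreg.left hreg.right hreg.w ≫ pullback.snd q q = hreg.right :=
      pullback.lift_snd _ _ _
    calc hreg.left ≫ AlgSp.quotSpπ s t
        = pullback.lift hreg.left hreg.right hreg.w ≫ pullback.fst q q ≫ AlgSp.quotSpπ s t := by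
          rw [← Category.assoc, h1]
      _ = pullback.lift hreg.left hreg.right hreg.w ≫ pullback.snd q q ≫ AlgSp.quotSpπ s t := by
          rw [hker (AlgSp.quotSpπ s t) (AlgSp.quotSp_condition s t)]
      _ = hreg.right ≫ AlgSp.quotSpπ s t := by rw [← Category.assoc, h2]
  obtain ⟨g, hg⟩ := hreg.desc' (AlgSp.quotSpπ s t) hπ
  refine ⟨⟨g, ?_, ?_⟩⟩
  · apply coequalizer.hom_ext
    change AlgSp.quotSpπ s t ≫ AlgSp.quotSpDesc q w ≫ g = AlgSp.quotSpπ s t ≫ 𝟙 _
    rw [← Category.assoc, AlgSp.quotSpπ_desc, hg, Category.comp_id]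
  · rw [← cancel_epi q, ← Category.assoc, hg, AlgSp.quotSpπ_desc, Category.comp_id]

end Groth.Agent.S10113
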