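import Groth.Statements.S10115
import Groth.Agent.Lib.Helper15.AlgSpQuotEff

set_option autoImplicit false
universe u
open CategoryTheory CategoryTheory.Limits AlgebraicGeometry
open AlgSp AlgSp.GroupoidSp Groth.Agent.Helper15

namespace Groth.Agent.S10115

/-- For a groupoid `(U, R, s, t, c)` in algebraic spaces over `B`, let `(U', R', s', t', c')` be its
restriction along a morphism `g : U' ⟶ U` over `B`. Then `U'/R' ⟶ U/R` is injective; if the
composite `h : U' ×_{g, U, t} R ⟶ R ⟶ U` of the projection with `s` is a surjection of fppf sheaves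
(for instance if `g` is), then it is bijective. -/
theorem result (S : Scheme.{u}) (B : AlgSp.Sp S) (hB : AlgSp.IsAlgSpace B)
    (G G' : AlgSp.GroupoidSp B) (hU : AlgSp.IsAlgSpace G.U) (hR : AlgSp.IsAlgSpace G.R)
    (hU' : AlgSp.IsAlgSpace G'.U) (hR' : AlgSp.IsAlgSpace G'.R) (φ : AlgSp.GroupoidSp.Hom G' G)
    (hφ : φ.IsRestriction) (ψ : G'.quot ⟶ G.quot) (hψ : G'.quotπ ≫ ψ = φ.fU ≫ G.quotπ) :
    Mono ψ ∧ (Epi (pullback.snd φ.fU G.t ≫ G.s) → IsIso ψ) := by
  have hmono : Mono ψ := by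
    refine mono_quotSp_map G.s G.t (isPreEqvRelSp_of_groupoid G) G'.s G'.t φ.fU ψ hψ ?_
    intro T a b ρ h1 h2
    have hab : a ≫ G'.pU = b ≫ G'.pU := by
      rw [← φ.fU_over, ← Category.assoc, ← Category.assoc, ← h1, ← h2, Category.assoc,
        Category.assoc, G.t_over, G.s_over]
    have hw : ρ ≫ G.j = pullback.lift a b hab ≫ φ.prodMap := by
      apply pullback.hom_ext
      · rw [Category.assoc, Category.assoc, G.j_fst, h1]
        unfold AlgSp.GroupoidSp.Hom.prodMap
        rw [pullback.lift_fst, pullback.lift_fst_assoc]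
      · rw [Category.assoc, Category.assoc, G.j_snd, h2]
        unfold AlgSp.GroupoidSp.Hom.prodMap
        rw [pullback.lift_snd, pullback.lift_snd_assoc]
    have hφ' : IsPullback φ.fR G'.j G.j φ.prodMap := hφ
    refine ⟨hφ'.lift _ _ hw, ?_, ?_⟩
    · rw [← G'.j_fst, ← Category.assoc, hφ'.lift_snd, pullback.lift_fst]
    · rw [← G'.j_snd, ← Category.assoc, hφ'.lift_snd, pullback.lift_snd]
  refine ⟨hmono, fun hg => ?_⟩
  have : Epi G.quotπ := coequalizer.π_epi
  have hcomm : (pullback.fst φ.fU G.t ≫ G'.quotπ) ≫ ψ =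
      (pullback.snd φ.fU G.t ≫ G.s) ≫ G.quotπ := by
    rw [Category.assoc, hψ, ← Category.assoc, pullback.condition, Category.assoc, Category.assoc]
    congr 1
    exact (AlgSp.quotSp_condition G.s G.t).symm
  have : Epi ((pullback.fst φ.fU G.t ≫ G'.quotπ) ≫ ψ) := by rw [hcomm]; exact epi_comp _ _
  have : Epi ψ := epi_of_epi (pullback.fst φ.fU G.t ≫ G'.quotπ) ψ
  exact isIso_of_mono_of_epi ψ

end Groth.Agent.S10115
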