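import Groth.Statements.S10116
import Groth.Agent.Lib.Helper12.GrpSchSep
import Groth.Agent.Lib.Helper15.AlgSpDiagMor
import Groth.Agent.Lib.Helper15.AlgSpUniv

set_option autoImplicit false
universe u
open CategoryTheory CategoryTheory.Limits AlgebraicGeometry MonoidalCategory MonObj
open AlgSp

namespace Groth.Agent.S10116

/-- Let `G` be a group algebraic space over an algebraic space `B` with unit `e : B ⟶ G`. Then `G ⟶ B`
is separated if and only if `e` is a closed immersion, quasi-separated if and only if `e` is
quasi-compact, and if `G ⟶ B` is locally separated then `e` is an immersion. (The published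
statement makes the last part an equivalence as well; this row states only that a locally separated
`G ⟶ B` has `e` an immersion.) -/
theorem result (S : Scheme.{u}) (B : AlgSp.Sp S) (hB : AlgSp.IsAlgSpace B)
    (G : Over B) [GrpObj G] (hG : AlgSp.IsAlgSpace G.left) :
    (AlgSp.IsSeparatedMor G.hom ↔ AlgSp.RepWith @IsClosedImmersion (η[G]).left) ∧
      (AlgSp.IsQuasiSeparatedMor G.hom ↔ AlgSp.IsQuasiCompactMor (η[G]).left) ∧
      (AlgSp.IsLocallySeparatedMor G.hom → AlgSp.RepWith @IsImmersion (η[G]).left) := by
  have hpb := (Groth.Agent.Helper12.isPullback_diag_unit G).map (Over.forget B)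
  have e1 : (Over.forget B).map (CartesianMonoidalCategory.lift (𝟙 G) (𝟙 G)) =
      pullback.diagonal G.hom := rfl
  have e2 : (Over.forget B).map η[G] = (η[G]).left := rfl
  have hs : (η[G]).left ≫ G.hom = 𝟙 B := Over.w η[G]
  rw [e1, e2] at hpb
  have hrepη : AlgSp.Representable (η[G]).left :=
    (Groth.Agent.Helper15.repWith_section G.hom (η[G]).left hs
      (Groth.Agent.Helper15.diagonal_properties hG G.hom).2.1).rep
  refine ⟨⟨fun h => Groth.Agent.Helper15.repWith_section G.hom (η[G]).left hs h,
    fun h => (AlgSp.RepWith @IsClosedImmersion).of_isPullback hpb.flip h⟩,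
    ⟨fun h => Groth.Agent.Helper15.isQuasiCompactMor_of_repWith _
      (Groth.Agent.Helper15.repWith_section G.hom (η[G]).left hs h),
    fun h => (AlgSp.RepWith @QuasiCompact).of_isPullback hpb.flip
      (Groth.Agent.Helper15.repWith_quasiCompact_of_isQuasiCompactMor _ hrepη h)⟩,
    fun h => Groth.Agent.Helper15.repWith_section G.hom (η[G]).left hs h⟩

end Groth.Agent.S10116
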