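import Groth.Statements.S10121
import Groth.Agent.Lib.Helper15.AlgSpPoints

set_option autoImplicit false
universe u
open CategoryTheory CategoryTheory.Limits AlgebraicGeometry
open AlgSp Groth.Agent.Helper15

namespace Groth.Agent.S10121

/-- For a pre-equivalence relation `s, t : R ⟶ U` of algebraic spaces, the relation on points of `U`
given by `x ∼ y` when some point `r` of `R` has `t(r) = x` and `s(r) = y` is an equivalence relation
on `|U|`. -/
theorem result (S : Scheme.{u}) (R U : AlgSp.Sp S)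
    (hR : AlgSp.IsAlgSpace R) (hU : AlgSp.IsAlgSpace U) (s t : R ⟶ U) (h : AlgSp.IsPreEqvRelSp s t) :
    _root_.Equivalence (fun x y : AlgSp.Points U =>
      ∃ r : AlgSp.Points R, AlgSp.Points.map t r = x ∧ AlgSp.Points.map s r = y) := by
  refine ⟨fun x => ?_, fun {x y} hxy => ?_, fun {x y z} hxy hyz => ?_⟩
  · obtain ⟨K, _, str, ξ, rfl⟩ := exists_ofField x
    obtain ⟨r, hr1, hr2⟩ := (h (Over.mk str)).refl ξ
    exact ⟨ofField r, by rw [map_ofField, hr1], by rw [map_ofField, hr2]⟩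
  · obtain ⟨ρ, rfl, rfl⟩ := hxy
    obtain ⟨K, _, str, r, rfl⟩ := exists_ofField ρ
    obtain ⟨r', hr1, hr2⟩ := (h (Over.mk str)).symm ⟨r, rfl, rfl⟩
    exact ⟨ofField r', by rw [map_ofField, map_ofField, hr1],
      by rw [map_ofField, map_ofField, hr2]⟩
  · obtain ⟨ρ₁, rfl, rfl⟩ := hxy
    obtain ⟨ρ₂, h2, rfl⟩ := hyz
    obtain ⟨K₁, _, str₁, r₁, rfl⟩ := exists_ofField ρ₁
    obtain ⟨K₂, _, str₂, r₂, rfl⟩ := exists_ofField ρ₂
    rw [map_ofField, map_ofField, ofField_eq_iff] at h2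
    obtain ⟨Ω, _, w, b, a, hab⟩ := h2
    obtain ⟨r₃, hr1, hr2⟩ := (h (Over.mk w)).trans
      (⟨(AlgSp.yon S).map a ≫ r₁, rfl, rfl⟩ :
        ∃ r : (AlgSp.yon S).obj (Over.mk w) ⟶ R, r ≫ t = ((AlgSp.yon S).map a ≫ r₁) ≫ t ∧
          r ≫ s = ((AlgSp.yon S).map a ≫ r₁) ≫ s)
      (⟨(AlgSp.yon S).map b ≫ r₂, by rw [Category.assoc, Category.assoc, hab], rfl⟩ :
        ∃ r : (AlgSp.yon S).obj (Over.mk w) ⟶ R, r ≫ t = ((AlgSp.yon S).map a ≫ r₁) ≫ s ∧
          r ≫ s = ((AlgSp.yon S).map b ≫ r₂) ≫ s)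
    refine ⟨ofField r₃, ?_, ?_⟩
    · rw [map_ofField, map_ofField, hr1, Category.assoc, ofField_comp]
    · rw [map_ofField, map_ofField, hr2, Category.assoc, ofField_comp]

end Groth.Agent.S10121
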