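import Groth.Statements.S10124
import Groth.Agent.Lib.Helper15.GpdSp

set_option autoImplicit false
universe u
open CategoryTheory CategoryTheory.Limits AlgebraicGeometry
open AlgSp AlgSp.GroupoidSp Groth.Agent.Helper15

namespace Groth.Agent.S10124

/-- Let `(U, R, s, t, c)` be a groupoid in algebraic spaces over `B`, `K` a field and `r, r' : Spec K ⟶
R` with `t ∘ r = t ∘ r'`; put `u = s ∘ r`, `u' = s ∘ r'`. Then the fibres `Spec K ×_{u, U, s} R` and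
`Spec K ×_{u', U, s} R` are isomorphic as spaces over `Spec K` (existence of an isomorphism over
`Spec K`). -/
theorem result (S : Scheme.{u}) (B : AlgSp.Sp S) (hB : AlgSp.IsAlgSpace B)
    (G : AlgSp.GroupoidSp B) (hU : AlgSp.IsAlgSpace G.U) (hR : AlgSp.IsAlgSpace G.R)
    (K : Type u) [Field K] (σ : Spec (CommRingCat.of K) ⟶ S)
    (r r' : (AlgSp.yon S).obj (Over.mk σ) ⟶ G.R) (h : r ≫ G.t = r' ≫ G.t) :
    Nonempty (Over.mk (pullback.fst (r ≫ G.s) G.s) ≅ Over.mk (pullback.fst (r' ≫ G.s) G.s)) := by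
  have key : ∀ (r r' : (AlgSp.yon S).obj (Over.mk σ) ⟶ G.R) (_ : r ≫ G.t = r' ≫ G.t),
      ∃ Φ : pullback (r ≫ G.s) G.s ⟶ pullback (r' ≫ G.s) G.s,
        Φ ≫ pullback.fst (r' ≫ G.s) G.s = pullback.fst (r ≫ G.s) G.s ∧
        ∃ (h₁ : pullback.snd (r ≫ G.s) G.s ≫ G.s =
            ((pullback.fst (r ≫ G.s) G.s ≫ r) ≫ G.i) ≫ G.t)
          (h₂ : gcomp G (pullback.snd (r ≫ G.s) G.s) ((pullback.fst (r ≫ G.s) G.s ≫ r) ≫ G.i) h₁ ≫
            G.s = (pullback.fst (r ≫ G.s) G.s ≫ r') ≫ G.t),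
          Φ ≫ pullback.snd (r' ≫ G.s) G.s =
            gcomp G (gcomp G (pullback.snd (r ≫ G.s) G.s)
              ((pullback.fst (r ≫ G.s) G.s ≫ r) ≫ G.i) h₁) (pullback.fst (r ≫ G.s) G.s ≫ r') h₂ := by
    intro r r' h
    have h₁ : pullback.snd (r ≫ G.s) G.s ≫ G.s =
        ((pullback.fst (r ≫ G.s) G.s ≫ r) ≫ G.i) ≫ G.t := by
      rw [Category.assoc, G.i_t, Category.assoc, pullback.condition]
    have h₂ : gcomp G (pullback.snd (r ≫ G.s) G.s) ((pullback.fst (r ≫ G.s) G.s ≫ r) ≫ G.i) h₁ ≫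
        G.s = (pullback.fst (r ≫ G.s) G.s ≫ r') ≫ G.t := by
      rw [gcomp_s, Category.assoc, G.i_s, Category.assoc, Category.assoc, h]
    refine ⟨pullback.lift (pullback.fst (r ≫ G.s) G.s) (gcomp G (gcomp G _ _ h₁) _ h₂) ?_, ?_,
      h₁, h₂, ?_⟩
    · rw [gcomp_s, Category.assoc]
    · rw [pullback.lift_fst]
    · rw [pullback.lift_snd]
  have inv_key : ∀ (r r' : (AlgSp.yon S).obj (Over.mk σ) ⟶ G.R) (_ : r ≫ G.t = r' ≫ G.t)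
      (Φ : pullback (r ≫ G.s) G.s ⟶ pullback (r' ≫ G.s) G.s)
      (Ψ : pullback (r' ≫ G.s) G.s ⟶ pullback (r ≫ G.s) G.s)
      (_ : Φ ≫ pullback.fst (r' ≫ G.s) G.s = pullback.fst (r ≫ G.s) G.s)
      (_ : Ψ ≫ pullback.fst (r ≫ G.s) G.s = pullback.fst (r' ≫ G.s) G.s)
      (h₁ : pullback.snd (r ≫ G.s) G.s ≫ G.s =
            ((pullback.fst (r ≫ G.s) G.s ≫ r) ≫ G.i) ≫ G.t)
      (h₂ : gcomp G (pullback.snd (r ≫ G.s) G.s) ((pullback.fst (r ≫ G.s) G.s ≫ r) ≫ G.i) h₁ ≫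
            G.s = (pullback.fst (r ≫ G.s) G.s ≫ r') ≫ G.t)
      (_ : Φ ≫ pullback.snd (r' ≫ G.s) G.s =
            gcomp G (gcomp G (pullback.snd (r ≫ G.s) G.s)
              ((pullback.fst (r ≫ G.s) G.s ≫ r) ≫ G.i) h₁) (pullback.fst (r ≫ G.s) G.s ≫ r') h₂)
      (h₁' : pullback.snd (r' ≫ G.s) G.s ≫ G.s =
            ((pullback.fst (r' ≫ G.s) G.s ≫ r') ≫ G.i) ≫ G.t)
      (h₂' : gcomp G (pullback.snd (r' ≫ G.s) G.s) ((pullback.fst (r' ≫ G.s) G.s ≫ r') ≫ G.i) h₁' ≫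
            G.s = (pullback.fst (r' ≫ G.s) G.s ≫ r) ≫ G.t)
      (_ : Ψ ≫ pullback.snd (r ≫ G.s) G.s =
            gcomp G (gcomp G (pullback.snd (r' ≫ G.s) G.s)
              ((pullback.fst (r' ≫ G.s) G.s ≫ r') ≫ G.i) h₁') (pullback.fst (r' ≫ G.s) G.s ≫ r) h₂'),
      Φ ≫ Ψ = 𝟙 _ := by
    intro r r' h Φ Ψ hΦ1 hΨ1 h₁ h₂ hΦ2 h₁' h₂' hΨ2
    apply pullback.hom_ext
    · rw [Category.assoc, hΨ1, hΦ1, Category.id_comp]
    · rw [Category.assoc, hΨ2, precomp_gcomp G, Category.id_comp]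
      have e1 : Φ ≫ gcomp G (pullback.snd (r' ≫ G.s) G.s)
          ((pullback.fst (r' ≫ G.s) G.s ≫ r') ≫ G.i) h₁' =
          gcomp G (gcomp G (gcomp G (pullback.snd (r ≫ G.s) G.s)
              ((pullback.fst (r ≫ G.s) G.s ≫ r) ≫ G.i) h₁) (pullback.fst (r ≫ G.s) G.s ≫ r') h₂)
            ((pullback.fst (r ≫ G.s) G.s ≫ r') ≫ G.i)
            (by rw [gcomp_s]; simp only [Category.assoc, G.i_t]) := by
        rw [precomp_gcomp G]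
        refine gcomp_congr G _ hΦ2 ?_
        rw [← Category.assoc, ← Category.assoc, hΦ1]
      have e2 := gcomp_gcomp_i G (gcomp G (pullback.snd (r ≫ G.s) G.s)
        ((pullback.fst (r ≫ G.s) G.s ≫ r) ≫ G.i) h₁) (pullback.fst (r ≫ G.s) G.s ≫ r') h₂
      have e3 := gcomp_i_gcomp G (pullback.snd (r ≫ G.s) G.s) (pullback.fst (r ≫ G.s) G.s ≫ r)
        (by rw [Category.assoc, pullback.condition])
      refine (gcomp_congr G _ (e1.trans e2) ?_).trans e3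
      rw [← Category.assoc, hΦ1]
  obtain ⟨Φ, hΦ1, h₁, h₂, hΦ2⟩ := key r r' h
  obtain ⟨Ψ, hΨ1, h₁', h₂', hΨ2⟩ := key r' r h.symm
  have hΦΨ := inv_key r r' h Φ Ψ hΦ1 hΨ1 h₁ h₂ hΦ2 h₁' h₂' hΨ2
  have hΨΦ := inv_key r' r h.symm Ψ Φ hΨ1 hΦ1 h₁' h₂' hΨ2 h₁ h₂ hΦ2
  exact ⟨Over.isoMk ⟨Φ, Ψ, hΦΨ, hΨΦ⟩ hΦ1⟩

end Groth.Agent.S10124
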