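import Groth.Statements.S10127
import Groth.Agent.Lib.Helper15.AlgSpSectionClosed
import Groth.Agent.S10116

set_option autoImplicit false
universe u
open CategoryTheory CategoryTheory.Limits AlgebraicGeometry MonoidalCategory MonObj
open AlgSp Groth.Agent.Helper15

namespace Groth.Agent.S10127

/-- A group algebraic space over a field `k` which is a decent algebraic space is separated. (The
published situation allows any base scheme `S` with `k` a field over `S`; this row takes `S = Spec
k`.) -/
theorem result (k : Type u) [Field k]
    (G : Over ((AlgSp.yon (Spec (CommRingCat.of k))).obj (Over.mk (𝟙 _)))) [GrpObj G]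
    (hG : AlgSp.IsAlgSpace G.left) (hd : AlgSp.IsDecent G.left) : AlgSp.IsSeparatedSp G.left := by
  have hB : AlgSp.IsAlgSpace ((AlgSp.yon (Spec (CommRingCat.of k))).obj (Over.mk (𝟙 _))) :=
    IsAlgSpace.yon_obj _
  have hη : AlgSp.RepWith @IsClosedImmersion (η[G]).left :=
    repWith_isClosedImmersion_of_section_field hG hd (k := k) (𝟙 _) G.hom (η[G]).left (Over.w η[G])
  have hsep : AlgSp.IsSeparatedMor G.hom :=
    (Groth.Agent.S10116.result _ _ hB G hG).1.2 hη
  exact isSeparatedSp_of_isSeparatedMor G.hom hsep (isSeparatedSp_yon_field (k := k) (𝟙 _))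

end Groth.Agent.S10127
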