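import Groth.Statements.S10130
import Groth.Agent.Lib.Helper15.GpdSp
import Groth.Agent.Lib.Helper15.AlgSpOpen

set_option autoImplicit false
universe u
open CategoryTheory CategoryTheory.Limits AlgebraicGeometry
open AlgSp AlgSp.GroupoidSp Groth.Agent.Helper15

namespace Groth.Agent.S10130

/-- Let `(U, R, s, t, c)` be a groupoid in algebraic spaces over `B` with `s, t` open. For every open
subspace `W ⊂ U`, the open subspace `s(t⁻¹(W))` of `U` is `R`-invariant. -/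
theorem result (S : Scheme.{u}) (B : AlgSp.Sp S) (hB : AlgSp.IsAlgSpace B)
    (G : AlgSp.GroupoidSp B) (hU : AlgSp.IsAlgSpace G.U) (hR : AlgSp.IsAlgSpace G.R)
    (hs : AlgSp.IsOpenMor G.s) (ht : AlgSp.IsOpenMor G.t)
    (W W' : AlgSp.Sp S) (w : W ⟶ G.U) (w' : W' ⟶ G.U)
    (hw : AlgSp.RepWith @IsOpenImmersion w) (hw' : AlgSp.RepWith @IsOpenImmersion w')
    (himg : Set.range (AlgSp.Points.map w') =
      AlgSp.Points.map G.s '' (AlgSp.Points.map G.t ⁻¹' Set.range (AlgSp.Points.map w))) :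
    G.IsInvariant w' := by
  classical
  have hct : G.c ≫ G.t = pullback.fst G.s G.t ≫ G.t := by rw [c_eq_gcomp G, gcomp_t]
  have hcs : G.c ≫ G.s = pullback.snd G.s G.t ≫ G.s := by rw [c_eq_gcomp G, gcomp_s]
  -- composition on points
  have hcomp : ∀ ρ' ρ : AlgSp.Points G.R, AlgSp.Points.map G.s ρ' = AlgSp.Points.map G.t ρ →
      ∃ γ : AlgSp.Points G.R, AlgSp.Points.map G.t γ = AlgSp.Points.map G.t ρ' ∧
        AlgSp.Points.map G.s γ = AlgSp.Points.map G.s ρ := by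
    intro ρ' ρ h
    obtain ⟨p, hp1, hp2⟩ := exists_point_of_isPullback (IsPullback.of_hasPullback G.s G.t) ρ' ρ h
    refine ⟨AlgSp.Points.map G.c p, ?_, ?_⟩
    · rw [← AlgSp.Points.map_comp, hct, AlgSp.Points.map_comp, hp1]
    · rw [← AlgSp.Points.map_comp, hcs, AlgSp.Points.map_comp, hp2]
  set O : Set (AlgSp.Points G.U) :=
    AlgSp.Points.map G.s '' (AlgSp.Points.map G.t ⁻¹' Set.range (AlgSp.Points.map w)) with hO
  have hinv : ∀ ρ : AlgSp.Points G.R, AlgSp.Points.map G.t ρ ∈ O ↔ AlgSp.Points.map G.s ρ ∈ O := by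
    intro ρ
    constructor
    · rintro ⟨ρ', hρ', hst⟩
      obtain ⟨γ, hγ1, hγ2⟩ := hcomp ρ' ρ hst
      have hmem : γ ∈ AlgSp.Points.map G.t ⁻¹' Set.range (AlgSp.Points.map w) := by
        rw [Set.mem_preimage, hγ1]; exact hρ'
      exact ⟨γ, hmem, hγ2⟩
    · rintro ⟨ρ', hρ', hss⟩
      have h1 : AlgSp.Points.map G.s ρ' = AlgSp.Points.map G.t (AlgSp.Points.map G.i ρ) := by
        rw [← AlgSp.Points.map_comp, G.i_t, hss]
      obtain ⟨γ, hγ1, hγ2⟩ := hcomp ρ' _ h1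
      have hmem : γ ∈ AlgSp.Points.map G.t ⁻¹' Set.range (AlgSp.Points.map w) := by
        rw [Set.mem_preimage, hγ1]; exact hρ'
      refine ⟨γ, hmem, ?_⟩
      rw [hγ2, ← AlgSp.Points.map_comp, G.i_s]
  intro T r
  rw [factors_through_open_iff w' hw' (r ≫ G.t), factors_through_open_iff w' hw' (r ≫ G.s), himg]
  constructor
  · rintro h _ ⟨x, rfl⟩
    rw [AlgSp.Points.map_comp]
    apply (hinv _).1
    rw [← AlgSp.Points.map_comp]
    exact h ⟨x, rfl⟩
  · rintro h _ ⟨x, rfl⟩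
    rw [AlgSp.Points.map_comp]
    apply (hinv _).2
    rw [← AlgSp.Points.map_comp]
    exact h ⟨x, rfl⟩

end Groth.Agent.S10130
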