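import Groth.Statements.S10142
import Groth.Agent.Lib.Helper15.GpdSp

set_option autoImplicit false
universe u
open CategoryTheory CategoryTheory.Limits AlgebraicGeometry
open AlgSp AlgSp.GroupoidSp Groth.Agent.Helper15

namespace Groth.Agent.S10142

/-- For a groupoid in algebraic spaces `(U, R, s, t, c, e, i)` over `B`: the square with sides `c : R
×_{s,U,t} R ⟶ R`, `pr_1 : R ×_{s,U,t} R ⟶ R`, `s` and `s` is cartesian, and the morphism `R
×_{t,U,t} R ⟶ R ×_{s,U,t} R`, `(α, β) ↦ (α, i(α) ∘ β)`, is an isomorphism whose composite with `c`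
is the second projection `pr_1 : R ×_{t,U,t} R ⟶ R`. (The published statement also lists the square
formed by `pr_0`, `pr_1`, `s`, `t`, which is cartesian by definition of the fibre product.) -/
theorem result (S : Scheme.{u}) (B : AlgSp.Sp S) (hB : AlgSp.IsAlgSpace B)
    (G : AlgSp.GroupoidSp B) (hU : AlgSp.IsAlgSpace G.U) (hR : AlgSp.IsAlgSpace G.R) :
    IsPullback G.c (pullback.snd G.s G.t) G.s G.s ∧
      ∀ φ : pullback G.t G.t ⟶ pullback G.s G.t,
        φ ≫ pullback.fst G.s G.t = pullback.fst G.t G.t →
        φ ≫ pullback.snd G.s G.t =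
          pullback.lift (pullback.fst G.t G.t ≫ G.i) (pullback.snd G.t G.t)
            ((Category.assoc _ _ _).trans ((congrArg (pullback.fst G.t G.t ≫ ·) G.i_s).trans pullback.condition)) ≫ G.c →
        IsIso φ ∧ φ ≫ G.c = pullback.snd G.t G.t := by
  refine ⟨?_, ?_⟩
  · have hcs : G.c ≫ G.s = pullback.snd G.s G.t ≫ G.s := by
      rw [c_eq_gcomp G, gcomp_s]
    refine IsPullback.of_isLimit' ⟨hcs⟩ (PullbackCone.IsLimit.mk _
      (fun sc => pullback.lift (gcomp G sc.fst (sc.snd ≫ G.i)
        (by rw [Category.assoc, G.i_t]; exact sc.condition)) sc.snd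
        (by rw [gcomp_s, Category.assoc, G.i_s])) ?_ ?_ ?_)
    · intro sc
      rw [comp_c_eq G]
      have h1 := gcomp_i_gcomp G sc.fst sc.snd sc.condition
      refine (gcomp_congr G _ ?_ ?_).trans h1
      · rw [pullback.lift_fst]
      · rw [pullback.lift_snd]
    · intro sc
      rw [pullback.lift_snd]
    · intro sc m hm1 hm2
      have hm1' : gcomp G (m ≫ pullback.fst G.s G.t) (m ≫ pullback.snd G.s G.t)
          (by rw [Category.assoc, Category.assoc, pullback.condition]) = sc.fst := by
        rw [← comp_c_eq G]; exact hm1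
      apply pullback.hom_ext
      · rw [pullback.lift_fst]
        have h2 := gcomp_gcomp_i G (m ≫ pullback.fst G.s G.t) (m ≫ pullback.snd G.s G.t)
          (by rw [Category.assoc, Category.assoc, pullback.condition])
        rw [← h2]
        exact gcomp_congr G _ hm1' (by rw [hm2])
      · rw [pullback.lift_snd]; exact hm2
  · intro φ h1 h2
    have hφc : φ ≫ G.c = pullback.snd G.t G.t := by
      rw [comp_c_eq G]
      have h3 := gcomp_i_gcomp' G (pullback.fst G.t G.t) (pullback.snd G.t G.t) pullback.condition
      refine (gcomp_congr G _ h1 ?_).trans h3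
      rw [h2]; rfl
    refine ⟨?_, hφc⟩
    have hct : pullback.fst G.s G.t ≫ G.t = G.c ≫ G.t := by
      rw [c_eq_gcomp G, gcomp_t]
    refine ⟨⟨pullback.lift (pullback.fst G.s G.t) G.c hct, ?_, ?_⟩⟩
    · apply pullback.hom_ext
      · rw [Category.assoc, pullback.lift_fst, h1, Category.id_comp]
      · rw [Category.assoc, pullback.lift_snd, hφc, Category.id_comp]
    · apply pullback.hom_ext
      · rw [Category.assoc, h1, pullback.lift_fst, Category.id_comp]
      · rw [Category.assoc, h2, Category.id_comp]
        change pullback.lift (pullback.fst G.s G.t) G.c hct ≫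
          gcomp G (pullback.fst G.t G.t ≫ G.i) (pullback.snd G.t G.t) _ = _
        rw [precomp_gcomp G]
        have h4 := i_gcomp_gcomp G (pullback.fst G.s G.t) (pullback.snd G.s G.t) pullback.condition
        refine (gcomp_congr G _ ?_ ?_).trans h4
        · rw [← Category.assoc, pullback.lift_fst]
        · rw [pullback.lift_snd]; exact c_eq_gcomp G

end Groth.Agent.S10142
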