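import Groth.Statements.S10145
import Groth.Agent.Lib.Helper15.GpdSp

set_option autoImplicit false
universe u
open CategoryTheory CategoryTheory.Limits AlgebraicGeometry
open AlgSp AlgSp.GroupoidSp Groth.Agent.Helper15

namespace Groth.Agent.S10145

/-- Let `(U, R, s, t, c)` be a groupoid in algebraic spaces over `B` whose object space is `U = Spec k`,
and let `r : Spec k ⟶ R` be such that `s ∘ r` and `t ∘ r` are automorphisms of `Spec k`; write `a =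
r ∘ (s ∘ r)⁻¹`, so that `s ∘ a = id` and `t ∘ a` is an automorphism. Then `R ⟶ R`, `f ↦ c(a ∘ t ∘ f,
f)`, is an automorphism of `R` mapping `e` to `a` (the point `r`). -/
theorem result (S : Scheme.{u}) (B : AlgSp.Sp S) (hB : AlgSp.IsAlgSpace B)
    (G : AlgSp.GroupoidSp B) (hR : AlgSp.IsAlgSpace G.R) (k : Type u) [Field k]
    (σ : Spec (CommRingCat.of k) ⟶ S) (eU : G.U ≅ (AlgSp.yon S).obj (Over.mk σ))
    (a : G.U ⟶ G.R) (ha : a ≫ G.s = 𝟙 G.U) [IsIso (a ≫ G.t)] :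
    IsIso (pullback.lift (G.t ≫ a) (𝟙 G.R) (((Category.assoc _ _ _).trans (congrArg (G.t ≫ ·) ha)).trans ((Category.comp_id _).trans (Category.id_comp _).symm)) ≫ G.c) ∧
      G.e ≫ (pullback.lift (G.t ≫ a) (𝟙 G.R) (((Category.assoc _ _ _).trans (congrArg (G.t ≫ ·) ha)).trans ((Category.comp_id _).trans (Category.id_comp _).symm)) ≫ G.c) = a := by
  have hτs : (G.t ≫ a) ≫ G.s = 𝟙 G.R ≫ G.t := by
    rw [Category.assoc, ha, Category.comp_id, Category.id_comp]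
  change IsIso (gcomp G (G.t ≫ a) (𝟙 G.R) hτs) ∧ G.e ≫ gcomp G (G.t ≫ a) (𝟙 G.R) hτs = a
  set τ := gcomp G (G.t ≫ a) (𝟙 G.R) hτs with hτ
  have hθ : (a ≫ G.t) ≫ inv (a ≫ G.t) = 𝟙 _ := IsIso.hom_inv_id _
  have hθ' : inv (a ≫ G.t) ≫ a ≫ G.t = 𝟙 _ := IsIso.inv_hom_id _
  set α₀ : G.R ⟶ G.R := G.t ≫ inv (a ≫ G.t) ≫ a with hα₀
  have hα₀t : α₀ ≫ G.t = G.t := by
    rw [hα₀, Category.assoc, Category.assoc, hθ', Category.comp_id]
  have hα₀s : α₀ ≫ G.s = G.t ≫ inv (a ≫ G.t) := by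
    rw [hα₀, Category.assoc, Category.assoc, ha, Category.comp_id]
  have hτ's : (α₀ ≫ G.i) ≫ G.s = 𝟙 G.R ≫ G.t := by
    rw [Category.assoc, G.i_s, hα₀t, Category.id_comp]
  set τ' := gcomp G (α₀ ≫ G.i) (𝟙 G.R) hτ's with hτ'
  have hτt : τ ≫ G.t = G.t ≫ a ≫ G.t := by rw [hτ, gcomp_t, Category.assoc]
  have hτ't : τ' ≫ G.t = G.t ≫ inv (a ≫ G.t) := by
    rw [hτ', gcomp_t, Category.assoc, G.i_t, hα₀s]
  refine ⟨⟨⟨τ', ?_, ?_⟩⟩, ?_⟩
  · rw [hτ', precomp_gcomp G]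
    have h1 := i_gcomp_gcomp G (G.t ≫ a) (𝟙 G.R) hτs
    refine (gcomp_congr G _ ?_ ?_).trans h1
    · have hτα : τ ≫ α₀ = G.t ≫ a := by
        calc τ ≫ α₀ = (τ ≫ G.t) ≫ inv (a ≫ G.t) ≫ a := by rw [hα₀, Category.assoc]
          _ = G.t ≫ ((a ≫ G.t) ≫ inv (a ≫ G.t)) ≫ a := by rw [hτt]; simp only [Category.assoc]
          _ = G.t ≫ a := by rw [hθ, Category.id_comp]
      rw [← Category.assoc, hτα]
    · rw [Category.comp_id]
  · rw [hτ, precomp_gcomp G]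
    have h1 := gcomp_i_gcomp' G α₀ (𝟙 G.R) (by rw [hα₀t, Category.id_comp])
    refine (gcomp_congr G _ ?_ ?_).trans h1
    · rw [← Category.assoc, hτ't, Category.assoc]
    · rw [Category.comp_id]
  · rw [hτ, precomp_gcomp G]
    refine (gcomp_congr G _ ?_ (Category.comp_id _)).trans (gcomp_e G a G.e ?_)
    · rw [← Category.assoc, G.e_t, Category.id_comp]
    · rw [ha, Category.id_comp]

end Groth.Agent.S10145
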