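import Groth.Statements.S10147

set_option autoImplicit false
universe u v w
open LinTop

namespace Groth.Agent.S10147

/-- Let M be a topological module over a ring R whose additive group is a topological group, and let
(M_i) be a family of submodules of M forming a fundamental system of neighbourhoods of 0. For every
submodule N of M, the closure of N is the intersection over i of the submodules N + M_i. -/
theorem result
    {R : Type u} [Ring R] {M : Type v} [AddCommGroup M] [Module R M] [TopologicalSpace M]
    [IsTopologicalAddGroup M] {ι : Type w} (B : ι → Submodule R M)
    (hB : (nhds (0 : M)).HasBasis (fun _ => True) (fun i => (B i : Set M)))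
    (N : Submodule R M) :
    closure (N : Set M) = ⋂ i, ((N ⊔ B i : Submodule R M) : Set M) := by
  ext x
  simp only [Set.mem_iInter, SetLike.mem_coe]
  have hx : (nhds x).HasBasis (fun _ : ι => True) (fun i => {y | y - x ∈ B i}) := by
    have := hB.comap (fun y => y - x)
    rw [← nhds_translation_sub x]
    exact this
  rw [mem_closure_iff_nhds_basis hx]
  constructor
  · intro h i
    obtain ⟨y, hyN, hy⟩ := h i trivial
    rw [Submodule.mem_sup]
    refine ⟨y, hyN, x - y, ?_, by abel⟩
    have : x - y = -(y - x) := by abel
    rw [this]
    exact (B i).neg_mem hy
  · intro h i _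
    obtain ⟨n, hn, b, hb, rfl⟩ := Submodule.mem_sup.1 (h i)
    refine ⟨n, hn, ?_⟩
    show n - (n + b) ∈ B i
    have : n - (n + b) = -b := by abel
    rw [this]
    exact (B i).neg_mem hb

end Groth.Agent.S10147
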