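import Groth.Statements.S10148
import Groth.Agent.Lib.Helper15.LinTopComplete
import Mathlib.RingTheory.Henselian
import Mathlib.Topology.Algebra.Polynomial

set_option autoImplicit false
universe u
open LinTop

namespace Groth.Agent.S10148

open Polynomial Filter Topology
open scoped Ring

/-- Newton iteration (purely algebraic part, adapted from Mathlib's proof that adically complete
rings are henselian). -/
theorem newton {R : Type u} [CommRing R] (T : Ideal R) (f : R[X]) (a₀ : R)
    (h₁ : f.eval a₀ ∈ T) (hunit : ∀ b : R, b - a₀ ∈ T → IsUnit (f.derivative.eval b)) :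
    ∃ c : ℕ → R, c 0 = a₀ ∧ (∀ n, c n - a₀ ∈ T) ∧ (∀ n, f.eval (c n) ∈ T ^ (n + 1)) ∧
      ∀ n, c (n + 1) - c n ∈ T ^ (n + 1) := by
  classical
  let f' := derivative f
  let c : ℕ → R := fun n => Nat.recOn n a₀ fun _ b => b - f.eval b * (f'.eval b)⁻¹ʳ
  have hc : ∀ n, c (n + 1) = c n - f.eval (c n) * (f'.eval (c n))⁻¹ʳ := by
    intro n
    simp only [c]
  have hc_mod : ∀ n, c n ≡ a₀ [SMOD T] := by
    intro n
    induction n with
    | zero => rfl
    | succ n ih => ?_
    rw [hc, sub_eq_add_neg, ← add_zero a₀]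
    refine ih.add ?_
    rw [SModEq.zero, Ideal.neg_mem_iff]
    refine T.mul_mem_right _ ?_
    rw [← SModEq.zero] at h₁ ⊢
    exact (ih.eval f).trans h₁
  have hf'c : ∀ n, IsUnit (f'.eval (c n)) := by
    intro n
    apply hunit
    exact SModEq.sub_mem.mp (hc_mod n)
  have hfcI : ∀ n, f.eval (c n) ∈ T ^ (n + 1) := by
    intro n
    induction n with
    | zero => simpa only [Nat.rec_zero, zero_add, pow_one] using! h₁
    | succ n ih => ?_
    rw [← taylor_eval_sub (c n), hc, sub_eq_add_neg, sub_eq_add_neg,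
      add_neg_cancel_comm]
    rw [eval_eq_sum, sum_over_range' _ _ _ (lt_add_of_pos_right _ zero_lt_two), ←
      Finset.sum_range_add_sum_Ico _ (Nat.le_add_left _ _)]
    swap
    · intro i
      rw [zero_mul]
    refine Ideal.add_mem _ ?_ ?_
    · rw [← one_add_one_eq_two, Finset.sum_range_succ, Finset.range_one, Finset.sum_singleton,
        taylor_coeff_zero, taylor_coeff_one, pow_zero, pow_one, mul_one, mul_neg,
        mul_left_comm, Ring.mul_inverse_cancel _ (hf'c n), mul_one, add_neg_cancel]
      exact Ideal.zero_mem _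
    · refine Submodule.sum_mem _ ?_
      simp only [Finset.mem_Ico]
      rintro i ⟨h2i, _⟩
      have aux : n + 2 ≤ i * (n + 1) := by trans 2 * (n + 1) <;> nlinarith only [h2i]
      refine Ideal.mul_mem_left _ _ (Ideal.pow_le_pow_right aux ?_)
      rw [pow_mul']
      exact Ideal.pow_mem_pow ((Ideal.neg_mem_iff _).2 <| Ideal.mul_mem_right _ _ ih) _
  refine ⟨c, rfl, fun n => SModEq.sub_mem.mp (hc_mod n), hfcI, fun n => ?_⟩
  rw [hc, sub_sub_cancel_left, Ideal.neg_mem_iff]
  exact Ideal.mul_mem_right _ _ (hfcI n)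

section top
variable {A : Type u} [CommRing A] [UniformSpace A] [IsUniformAddGroup A] [IsTopologicalRing A]
  [IsLinearTopology A A]

open Groth.Agent.Helper15

/-- elements of powers of a principal ideal generated by a topologically nilpotent element tend
to zero -/
theorem tendsto_zero_of_mem_span_pow {t : A} (ht : IsTopologicallyNilpotent t) (z : ℕ → A)
    (hz : ∀ n, z n ∈ (Ideal.span {t}) ^ (n + 1)) : Tendsto z atTop (𝓝 0) := by
  intro W hW
  obtain ⟨J, hJ, hJW⟩ := (IsLinearTopology.hasBasis_open_ideal (R := A)).mem_iff.1 hW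
  have hJ0 : (J : Set A) ∈ 𝓝 (0 : A) := hJ.mem_nhds (zero_mem _)
  have h1 : ∀ᶠ n in atTop, t ^ n ∈ J := ht hJ0
  rw [Filter.eventually_atTop] at h1
  obtain ⟨N, hN⟩ := h1
  rw [Filter.mem_map, Filter.mem_atTop_sets]
  refine ⟨N, fun n hn => hJW ?_⟩
  have h2 : (Ideal.span {t}) ^ (n + 1) ≤ J := by
    rw [Ideal.span_singleton_pow, Ideal.span_singleton_le_iff_mem]
    exact hN (n + 1) (by omega)
  exact h2 (hz n)

variable [T2Space A] [CompleteSpace A]

theorem isUnit_one_sub_of_topNilp {z : A} (hz : IsTopologicallyNilpotent z) :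
    IsUnit (1 - z) := by
  have : NonarchimedeanAddGroup A := nonarchimedeanAddGroup_of_isLinearTopology
  have hsum : Summable (fun n : ℕ => z ^ n) := by
    apply NonarchimedeanAddGroup.summable_of_tendsto_cofinite_zero
    rw [Nat.cofinite_eq_atTop]
    exact hz
  have h1 : ∑' n : ℕ, z ^ n = 1 + z * ∑' n : ℕ, z ^ n := by
    have e1 := hsum.tsum_eq_zero_add
    have e2 : ∑' n : ℕ, z ^ (n + 1) = z * ∑' n : ℕ, z ^ n := by
      rw [← hsum.tsum_mul_left]
      exact tsum_congr (fun n => pow_succ' z n)
    rw [e2, pow_zero] at e1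
    exact e1
  refine IsUnit.of_mul_eq_one (∑' n : ℕ, z ^ n) ?_
  rw [sub_mul, one_mul]
  nth_rw 1 [h1]
  ring

end top

/-- Let A be a weakly admissible topological ring (linearly topologized, Hausdorff and complete, having
a weak ideal of definition) and let I be a weak ideal of definition of A, that is, an open ideal
consisting of topologically nilpotent elements. Then (A, I) is a henselian pair. -/
theorem result
    (A : Type u) [CommRing A] [UniformSpace A] [IsUniformAddGroup A] [IsTopologicalRing A]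
    (hA : LinTop.IsWeaklyAdmissible A) (I : Ideal A) (hI : LinTop.IsWeakIdealOfDefinition A I) :
    HenselianRing A I := by
  obtain ⟨⟨hlin, -⟩, hT2, hcomp⟩ := hA
  obtain ⟨hIopen, hInil⟩ := hI
  have : NonarchimedeanAddGroup A := Groth.Agent.Helper15.nonarchimedeanAddGroup_of_isLinearTopology
  have hjac : I ≤ Ideal.jacobson ⊥ := by
    intro x hx
    rw [Ideal.mem_jacobson_bot]
    intro y
    have hz : IsTopologicallyNilpotent (-(x * y)) :=
      hInil _ (I.neg_mem (I.mul_mem_right y hx))
    have := isUnit_one_sub_of_topNilp hz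
    have e : 1 - -(x * y) = x * y + 1 := by ring
    rwa [e] at this
  refine ⟨hjac, ?_⟩
  intro f _ a₀ h₁ h₂
  set t := f.eval a₀ with ht
  have htnil : IsTopologicallyNilpotent t := hInil t h₁
  have hTI : Ideal.span {t} ≤ I := (Ideal.span_singleton_le_iff_mem I).2 h₁
  have hunit : ∀ b : A, b - a₀ ∈ Ideal.span {t} → IsUnit (f.derivative.eval b) := by
    intro b hb
    have := isLocalHom_of_le_jacobson_bot I hjac
    apply IsUnit.of_map (Ideal.Quotient.mk I)
    convert! h₂ using 1
    exact SModEq.def.mp ((SModEq.sub_mem.mpr (hTI hb)).eval _)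
  obtain ⟨c, hc0, hcmod, hfc, hdiff⟩ :=
    newton (Ideal.span {t}) f a₀ (Ideal.subset_span rfl) hunit
  have htend0 : Tendsto (fun n => c (n + 1) - c n) atTop (𝓝 0) :=
    tendsto_zero_of_mem_span_pow htnil _ hdiff
  have hsum : Summable (fun n => c (n + 1) - c n) := by
    apply NonarchimedeanAddGroup.summable_of_tendsto_cofinite_zero
    rw [Nat.cofinite_eq_atTop]
    exact htend0
  set a : A := a₀ + ∑' n, (c (n + 1) - c n) with ha
  have hclim : Tendsto c atTop (𝓝 a) := by
    have h1 := hsum.hasSum.tendsto_sum_nat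
    have h2 : Tendsto (fun n => a₀ + ∑ i ∈ Finset.range n, (c (i + 1) - c i)) atTop (𝓝 a) :=
      tendsto_const_nhds.add h1
    refine h2.congr (fun n => ?_)
    rw [Finset.sum_range_sub, hc0]; ring
  refine ⟨a, ?_, ?_⟩
  · change f.eval a = 0
    have hf1 : Tendsto (fun n => f.eval (c n)) atTop (𝓝 (f.eval a)) :=
      (f.continuous.tendsto a).comp hclim
    have hf2 : Tendsto (fun n => f.eval (c n)) atTop (𝓝 0) :=
      tendsto_zero_of_mem_span_pow htnil _ hfc
    exact tendsto_nhds_unique hf1 hf2
  · have hIclosed : IsClosed (I : Set A) :=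
      AddSubgroup.isClosed_of_isOpen I.toAddSubgroup hIopen
    have hlim : Tendsto (fun n => c n - a₀) atTop (𝓝 (a - a₀)) :=
      hclim.sub tendsto_const_nhds
    exact hIclosed.mem_of_tendsto hlim (Filter.Eventually.of_forall (fun n => hTI (hcmod n)))

end Groth.Agent.S10148
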