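import Groth.Statements.S10149

set_option autoImplicit false
universe u v
open LinTop

namespace Groth.Agent.S10149

/-- In a linearly topologized ring B the ideal of topologically nilpotent elements is closed. Moreover,
if φ : A → B is a continuous homomorphism of linearly topologized rings and I is an ideal of A
consisting of topologically nilpotent elements, then every element of the closure of the ideal φ(I)B
is topologically nilpotent. -/
theorem result
    (A : Type u) [CommRing A] [TopologicalSpace A] [IsTopologicalRing A] [IsLinearTopology A A]
    (B : Type v) [CommRing B] [TopologicalSpace B] [IsTopologicalRing B] [IsLinearTopology B B] :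
    IsClosed ((topologicalNilradical B : Ideal B) : Set B) ∧
      ∀ (φ : A →+* B), Continuous φ → ∀ I : Ideal A, (∀ f ∈ I, IsTopologicallyNilpotent f) →
        ∀ g ∈ (I.map φ).closure, IsTopologicallyNilpotent g := by
  have hclosed : ∀ g : B, g ∈ closure ((topologicalNilradical B : Ideal B) : Set B) →
      IsTopologicallyNilpotent g := by
    intro g hg
    unfold IsTopologicallyNilpotent
    rw [(IsLinearTopology.hasBasis_open_ideal (R := B)).tendsto_right_iff]
    intro J hJ
    have hJ0 : (J : Set B) ∈ nhds (0 : B) := hJ.mem_nhds J.zero_mem
    have hopen : IsOpen {y : B | y - g ∈ J} :=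
      hJ.preimage (continuous_id.sub continuous_const)
    have hmem : g ∈ {y : B | y - g ∈ J} := by simp
    obtain ⟨a, ha1, ha2⟩ := mem_closure_iff.1 hg _ hopen hmem
    have ha : IsTopologicallyNilpotent a := ha2
    filter_upwards [ha.eventually_mem hJ0] with n hn
    have hdvd : a - g ∣ a ^ n - g ^ n := sub_dvd_pow_sub_pow a g n
    have h1 : a ^ n - g ^ n ∈ J := J.mem_of_dvd hdvd ha1
    have : g ^ n = a ^ n - (a ^ n - g ^ n) := by ring
    rw [this]
    exact J.sub_mem hn h1
  refine ⟨?_, ?_⟩
  · apply isClosed_of_closure_subset
    intro g hg
    exact hclosed g hg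
  · intro φ hφ I hI g hg
    apply hclosed g
    have hle : I.map φ ≤ topologicalNilradical B := by
      rw [Ideal.map_le_iff_le_comap]
      intro f hf
      exact (hI f hf).map hφ
    have : ((I.map φ).closure : Set B) ⊆ closure ((topologicalNilradical B : Ideal B) : Set B) := by
      rw [Ideal.coe_closure]
      exact closure_mono hle
    exact this hg

end Groth.Agent.S10149
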