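import Groth.Statements.S1015
import Groth.Agent.Lib.Helper24.RFQc6

set_option autoImplicit false
universe u
open CategoryTheory CategoryTheory.Limits AlgebraicGeometry
attribute [local instance] HasDerivedCategory.standard
open Perf

namespace Groth.Agent.S1015

/-- Let U ⊆ X be an open subscheme whose inclusion is quasi-compact. Every object F of D(O_U) with
quasi-coherent cohomology sheaves is the restriction of such an object on X: there is a complex G of
O_X-modules with quasi-coherent cohomology sheaves whose termwise restriction to U is isomorphic to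
F in D(O_U). -/
theorem result (X : Scheme.{u}) (U : X.Opens) [QuasiCompact U.ι]
    (F : DCoh.D (U : Scheme.{u})) (hF : DCoh.IsQCohD F) :
    ∃ G : CochainComplex X.Modules ℤ, DCoh.IsQCohD (DCoh.toD X G) ∧
      Nonempty (DerivedCategory.Q.obj ((DCoh.restrictCx U).obj G) ≅ F) := by
  open DerivedCategory Groth.Agent.Helper24.RFQc Groth.Agent.Helper29.LRAdj in
  haveI : DCoh.HasRpush U.ι :=
    Groth.Agent.Helper11.KI.hasRightDerivedFunctor.{u + 1} (DCoh.pushKh U.ι)
  let C : CochainComplex (U : Scheme.{u}).Modules ℤ := Q.objPreimage F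
  let I : CochainComplex (U : Scheme.{u}).Modules ℤ :=
    Groth.Agent.Helper11.KI.IO ((Groth.Agent.Helper11.KI.quo _).obj C)
  haveI : I.IsKInjective := inferInstanceAs (Groth.Agent.Helper11.KI.IO _).IsKInjective
  have hW := Groth.Agent.Helper11.KI.im_W ((Groth.Agent.Helper11.KI.quo _).obj C)
  haveI : IsIso (Qh.map (Groth.Agent.Helper11.KI.im ((Groth.Agent.Helper11.KI.quo _).obj C))) :=
    Localization.inverts Qh (HomotopyCategory.quasiIso _ _) _ hW
  have e1 : Q.obj I ≅ F :=
    (asIso (Qh.map (Groth.Agent.Helper11.KI.im ((Groth.Agent.Helper11.KI.quo _).obj C)))).symm ≪≫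
      Q.objObjPreimageIso F
  let G : CochainComplex X.Modules ℤ :=
    ((Scheme.Modules.pushforward U.ι).mapHomologicalComplex (ComplexShape.up ℤ)).obj I
  refine ⟨G, ?_, ⟨?_⟩⟩
  · have hu := Groth.Agent.Helper11.KI.isIso_unit.{u + 1} (DCoh.pushKh U.ι) (DCoh.Rpush U.ι) (βf U.ι) I
    have e2 : Q.obj G ≅ (DCoh.Rpush U.ι).obj (Q.obj I) :=
      @asIso _ _ _ _ ((βf U.ι).app ((Groth.Agent.Helper11.KI.quo _).obj I)) hu
    have hI : DCoh.IsQCohD (Q.obj I) := fun j =>
      (qc (U : Scheme.{u})).prop_of_iso ((homologyFunctor _ j).mapIso e1.symm) (hF j)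
    intro j
    exact (qc X).prop_of_iso ((homologyFunctor _ j).mapIso e2.symm)
      (qc_homology_Rpush_general U.ι (Q.obj I) hI j)
  · refine Q.mapIso (HomologicalComplex.Hom.isoOfComponents
      (fun i => (Scheme.Modules.restrictFunctorAdjCounitIso U.ι).app (I.X i)) ?_) ≪≫ e1
    intro i j _
    exact ((Scheme.Modules.restrictFunctorAdjCounitIso U.ι).hom.naturality (I.d i j)).symm

end Groth.Agent.S1015
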