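import Groth.Statements.S10151

set_option autoImplicit false
universe u v w
open LinTop

namespace Groth.Agent.S10151

/-- Given linearly topologized rings A, B, C and continuous ring maps ψ : B → C and φ : A → B, tautness
of the composite A → C implies that ψ is taut. -/
theorem result
    (A : Type u) [CommRing A] [TopologicalSpace A] [IsTopologicalRing A] [IsLinearTopology A A]
    (B : Type v) [CommRing B] [TopologicalSpace B] [IsTopologicalRing B] [IsLinearTopology B B]
    (C : Type w) [CommRing C] [TopologicalSpace C] [IsTopologicalRing C] [IsLinearTopology C C]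
    (φ : A →+* B) (ψ : B →+* C) (hφ : Continuous φ) (hψ : Continuous ψ)
    (h : LinTop.IsTaut (ψ.comp φ)) : LinTop.IsTaut ψ := by
  obtain ⟨-, h1, h2⟩ := h
  refine ⟨hψ, ?_, ?_⟩
  · intro J hJ
    have hIopen : IsOpen ((J.comap φ : Ideal A) : Set A) := by
      rw [Ideal.coe_comap]
      exact hJ.preimage hφ
    have hopen := h1 _ hIopen
    have hle : ((J.comap φ).map (ψ.comp φ)).closure ≤ (J.map ψ).closure := by
      intro x hx
      have : ((((J.comap φ).map (ψ.comp φ)).closure : Ideal C) : Set C) ⊆ ((J.map ψ).closure : Set C) := by
        rw [Ideal.coe_closure, Ideal.coe_closure]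
        apply closure_mono
        rw [← Ideal.map_map]
        exact Ideal.map_mono Ideal.map_comap_le
      exact this hx
    rw [← Ideal.coe_closure] at hopen ⊢
    exact Submodule.isOpen_mono hle hopen
  · intro U hU
    obtain ⟨I, hI, hIU⟩ := h2 U hU
    have hK := h1 I hI
    rw [← Ideal.coe_closure] at hK hIU
    refine ⟨(I.map (ψ.comp φ)).closure.comap ψ, ?_, ?_⟩
    · rw [Ideal.coe_comap]
      exact hK.preimage hψ
    · refine Set.Subset.trans ?_ hIU
      have hcl : IsClosed (((I.map (ψ.comp φ)).closure : Ideal C) : Set C) := by
        rw [Ideal.coe_closure]; exact isClosed_closure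
      apply closure_minimal _ hcl
      exact Ideal.map_comap_le

end Groth.Agent.S10151
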