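import Groth.Statements.S10152

set_option autoImplicit false
universe u v
open LinTop

namespace Groth.Agent.S10152

/-- Let φ : A → B be a taut homomorphism of linearly topologized rings. If A has a countable fundamental
system of open ideals, then so does B (equivalently, the neighbourhood filters of 0 are countably
generated). -/
theorem result
    (A : Type u) [CommRing A] [TopologicalSpace A] [IsTopologicalRing A] [IsLinearTopology A A]
    (B : Type v) [CommRing B] [TopologicalSpace B] [IsTopologicalRing B] [IsLinearTopology B B]
    (φ : A →+* B) (hφ : LinTop.IsTaut φ) (hA : (nhds (0 : A)).IsCountablyGenerated) :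
    (nhds (0 : B)).IsCountablyGenerated := by
  obtain ⟨-, h1, h2⟩ := hφ
  haveI := hA
  obtain ⟨x, hx1, hx2⟩ := (IsLinearTopology.hasBasis_open_ideal (R := A)).exists_antitone_subbasis
  have hbasis : (nhds (0 : B)).HasBasis (fun _ : ℕ => True)
      (fun n => closure (((x n).map φ : Ideal B) : Set B)) := by
    constructor
    intro U
    constructor
    · intro hU
      obtain ⟨I, hI, hIU⟩ := h2 U hU
      have hI0 : (I : Set A) ∈ nhds (0 : A) := hI.mem_nhds I.zero_mem
      obtain ⟨n, -, hn⟩ := hx2.1.mem_iff.1 hI0
      refine ⟨n, trivial, Set.Subset.trans (closure_mono ?_) hIU⟩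
      exact Ideal.map_mono (fun a ha => hn ha)
    · rintro ⟨n, -, hn⟩
      refine Filter.mem_of_superset ?_ hn
      apply (h1 _ (hx1 n)).mem_nhds
      exact subset_closure (Ideal.zero_mem _)
  exact hbasis.isCountablyGenerated

end Groth.Agent.S10152
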