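import Groth.Statements.S10154
import Groth.Agent.Lib.Helper15.LinTop

set_option autoImplicit false
universe u v
open LinTop

namespace Groth.Agent.S10154

/-- Let φ : A → B be a taut homomorphism of linearly topologized rings. If A is pre-admissible, then B
is pre-admissible. -/
theorem result
    (A : Type u) [CommRing A] [TopologicalSpace A] [IsTopologicalRing A] [IsLinearTopology A A]
    (B : Type v) [CommRing B] [TopologicalSpace B] [IsTopologicalRing B] [IsLinearTopology B B]
    (φ : A →+* B) (hφ : LinTop.IsTaut φ) (hA : LinTop.IsPreadmissible A) :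
    LinTop.IsPreadmissible B := by
  obtain ⟨hc, h1, h2⟩ := hφ
  obtain ⟨-, I, hIopen, hIpow⟩ := hA
  refine ⟨inferInstance, (I.map φ).closure, ?_, ?_⟩
  · rw [Ideal.coe_closure]
    exact h1 I hIopen
  · intro U hU
    obtain ⟨K, hK, hKU⟩ := (IsLinearTopology.hasBasis_open_ideal (R := B)).mem_iff.1 hU
    obtain ⟨I', hI', hI'K⟩ := h2 K (hK.mem_nhds K.zero_mem)
    obtain ⟨n, hn, hnI'⟩ := hIpow I' (hI'.mem_nhds I'.zero_mem)
    refine ⟨n, hn, Set.Subset.trans ?_ hKU⟩
    refine Set.Subset.trans ?_ hI'K
    rw [← Ideal.coe_closure]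
    intro x hx
    have h3 := Groth.Agent.Helper15.closure_pow_le (I.map φ) n hx
    refine Groth.Agent.Helper15.ideal_closure_mono ?_ h3
    rw [← Ideal.map_pow]
    exact Ideal.map_mono (fun a ha => hnI' ha)

end Groth.Agent.S10154
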