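import Groth.Statements.S10155
import Groth.Agent.Lib.Helper15.LinTopComplete

set_option autoImplicit false
universe u v
open LinTop

namespace Groth.Agent.S10155

/-- Let φ : A → B be a taut homomorphism of linearly topologized rings with dense image. Assume A is
Hausdorff and complete with a countable fundamental system of open ideals and B is Hausdorff. Then φ
is surjective and open, so that B is the quotient of A by the closed ideal ker φ with the quotient
topology, and B is complete. -/
theorem result
    (A : Type u) [CommRing A] [UniformSpace A] [IsUniformAddGroup A] [IsTopologicalRing A]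
    [IsLinearTopology A A] [T2Space A] [CompleteSpace A] (hA : (nhds (0 : A)).IsCountablyGenerated)
    (B : Type v) [CommRing B] [UniformSpace B] [IsUniformAddGroup B] [IsTopologicalRing B]
    [IsLinearTopology B B] [T2Space B]
    (φ : A →+* B) (hφ : LinTop.IsTaut φ) (hd : DenseRange φ) :
    Function.Surjective φ ∧ IsOpenQuotientMap φ ∧ CompleteSpace B := by
  classical
  obtain ⟨hc, h1, h2⟩ := hφ
  haveI : NonarchimedeanAddGroup A := Groth.Agent.Helper15.nonarchimedeanAddGroup_of_isLinearTopology
  haveI := hA
  obtain ⟨x, hx1, hx2⟩ := (IsLinearTopology.hasBasis_open_ideal (R := A)).exists_antitone_subbasis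
  have hxanti : ∀ {m n : ℕ}, m ≤ n → x n ≤ x m := fun h a ha => hx2.antitone h ha
  -- the ideals J n
  have hJopen : ∀ n, IsOpen ((((x n).map φ).closure : Ideal B) : Set B) := by
    intro n; rw [Ideal.coe_closure]; exact h1 _ (hx1 n)
  have hJbasis : ∀ U ∈ nhds (0 : B), ∃ n, ((((x n).map φ).closure : Ideal B) : Set B) ⊆ U := by
    intro U hU
    obtain ⟨I, hI, hIU⟩ := h2 U hU
    obtain ⟨n, -, hn⟩ := hx2.1.mem_iff.1 (hI.mem_nhds I.zero_mem)
    refine ⟨n, Set.Subset.trans ?_ hIU⟩
    rw [Ideal.coe_closure]
    exact closure_mono (Ideal.map_mono (fun a ha => hn ha))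
  -- density
  have hdense : ∀ (K : Ideal B), IsOpen (K : Set B) → ∀ b : B, ∃ c : A, b - φ c ∈ K := by
    intro K hK b
    have hopen : IsOpen {y : B | b - y ∈ K} := hK.preimage (continuous_const.sub continuous_id)
    have hmem : b ∈ {y : B | b - y ∈ K} := by simp
    obtain ⟨_, hy, c, rfl⟩ := mem_closure_iff.1 (hd b) _ hopen hmem
    exact ⟨c, hy⟩
  -- approximation of elements of I.map φ
  have happrox : ∀ (I : Ideal A) (K : Ideal B), IsOpen (K : Set B) → ∀ p ∈ I.map φ,
      ∃ a ∈ I, p - φ a ∈ K := by
    intro I K hK p hp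
    refine Submodule.span_induction (p := fun p _ => ∃ a ∈ I, p - φ a ∈ K) ?_ ?_ ?_ ?_ hp
    · rintro _ ⟨a, ha, rfl⟩
      exact ⟨a, ha, by simp⟩
    · exact ⟨0, I.zero_mem, by simp⟩
    · rintro p q _ _ ⟨a, ha, hpa⟩ ⟨a', ha', hqa⟩
      refine ⟨a + a', I.add_mem ha ha', ?_⟩
      have : p + q - φ (a + a') = (p - φ a) + (q - φ a') := by rw [map_add]; ring
      rw [this]; exact K.add_mem hpa hqa
    · rintro b p _ ⟨a, ha, hpa⟩
      obtain ⟨c, hcK⟩ := hdense K hK b
      refine ⟨c * a, I.mul_mem_left c ha, ?_⟩
      have : b • p - φ (c * a) = φ c * (p - φ a) + (b - φ c) * p := by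
        rw [map_mul, smul_eq_mul]; ring
      rw [this]
      exact K.add_mem (K.mul_mem_left _ hpa) (K.mul_mem_right _ hcK)
  -- one step
  have step : ∀ k : ℕ, ∀ b : B, b ∈ ((x k).map φ).closure →
      ∃ a : A, a ∈ x k ∧ b - φ a ∈ ((x (k + 1)).map φ).closure := by
    intro k b hb
    have hb' : b ∈ closure (((x k).map φ : Ideal B) : Set B) := by
      rw [← Ideal.coe_closure]; exact hb
    have h3 := (Groth.Agent.Helper15.mem_closure_iff_forall_open_ideal _ b).1 hb' _ (hJopen (k + 1))
    obtain ⟨p, hp, q, hq, hpq⟩ := Submodule.mem_sup.1 h3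
    obtain ⟨a, ha, hpa⟩ := happrox (x k) _ (hJopen (k + 1)) p hp
    refine ⟨a, ha, ?_⟩
    have : b - φ a = (p - φ a) + q := by rw [← hpq]; ring
    rw [this]
    exact Ideal.add_mem _ hpa hq
  -- successive approximation
  have hsurjJ : ∀ n : ℕ, ∀ b : B, b ∈ ((x n).map φ).closure → ∃ a : A, a ∈ x n ∧ φ a = b := by
    intro n b hb
    choose! next hnext using step
    let y : ℕ → B := fun k => Nat.rec b (fun k yk => yk - φ (next (n + k) yk)) k
    have hy : ∀ k, y k ∈ ((x (n + k)).map φ).closure := by
      intro k
      induction k with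
      | zero => exact hb
      | succ k ih => exact (hnext (n + k) (y k) ih).2
    have ha : ∀ k, next (n + k) (y k) ∈ x (n + k) := fun k => (hnext (n + k) (y k) (hy k)).1
    have hyc : ∀ k, y (k + 1) = y k - φ (next (n + k) (y k)) := fun k => rfl
    have htend0 : Filter.Tendsto (fun k => next (n + k) (y k)) Filter.atTop (nhds 0) := by
      rw [hx2.1.tendsto_right_iff]
      intro i _
      filter_upwards [Filter.eventually_ge_atTop i] with k hk
      exact hxanti (by omega : i ≤ n + k) (ha k)
    have hsum : Summable (fun k => next (n + k) (y k)) := by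
      apply NonarchimedeanAddGroup.summable_of_tendsto_cofinite_zero
      rw [Nat.cofinite_eq_atTop]
      exact htend0
    have hpart : ∀ K, b - y K = φ (∑ k ∈ Finset.range K, next (n + k) (y k)) := by
      intro K
      induction K with
      | zero =>
        simp only [Finset.range_zero, Finset.sum_empty, map_zero]
        show b - b = 0
        ring
      | succ K ih =>
        rw [hyc K, Finset.sum_range_succ, map_add, ← ih]
        ring
    have hy0 : Filter.Tendsto y Filter.atTop (nhds 0) := by
      intro U hU
      obtain ⟨m, hm⟩ := hJbasis U hU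
      rw [Filter.mem_map, Filter.mem_atTop_sets]
      refine ⟨m, fun k hk => hm ?_⟩
      have := hy k
      refine Groth.Agent.Helper15.ideal_closure_mono (Ideal.map_mono (hxanti ?_)) this
      omega
    have hlim1 : Filter.Tendsto (fun K => b - y K) Filter.atTop (nhds b) := by
      have := (tendsto_const_nhds (x := b)).sub hy0
      simpa using this
    have hlim2 : Filter.Tendsto (fun K => φ (∑ k ∈ Finset.range K, next (n + k) (y k))) Filter.atTop
        (nhds (φ (∑' k, next (n + k) (y k)))) :=
      (hc.tendsto _).comp hsum.hasSum.tendsto_sum_nat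
    refine ⟨∑' k, next (n + k) (y k), ?_, ?_⟩
    · have hclosed : IsClosed ((x n : Ideal A) : Set A) :=
        Groth.Agent.Helper15.isClosed_of_isOpen_ideal _ (hx1 n)
      refine hclosed.mem_of_tendsto hsum.hasSum.tendsto_sum_nat (Filter.Eventually.of_forall ?_)
      intro K
      exact Submodule.sum_mem _ (fun k _ => hxanti (Nat.le_add_right n k) (ha k))
    · refine tendsto_nhds_unique hlim2 ?_
      simp only [← hpart]
      exact hlim1
  -- surjectivity
  have hsurj : Function.Surjective φ := by
    intro b
    obtain ⟨c, hcK⟩ := hdense _ (hJopen 0) b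
    obtain ⟨a, -, haK⟩ := hsurjJ 0 _ hcK
    exact ⟨c + a, by rw [map_add, haK]; ring⟩
  -- open map
  have hopenmap : IsOpenMap φ := by
    rw [isOpenMap_iff_nhds_le]
    intro a s hs
    rw [Filter.mem_map] at hs
    have hs0 : {z : A | a + z ∈ φ ⁻¹' s} ∈ nhds (0 : A) := by
      have hcont : Continuous (fun z : A => a + z) := continuous_const.add continuous_id
      exact hcont.continuousAt.preimage_mem_nhds (by simpa using hs)
    obtain ⟨n, -, hn⟩ := hx2.1.mem_iff.1 hs0
    have hopen : IsOpen {y : B | y - φ a ∈ ((x n).map φ).closure} :=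
      (hJopen n).preimage (continuous_id.sub continuous_const)
    refine Filter.mem_of_superset (hopen.mem_nhds (by simp)) ?_
    intro y hy
    obtain ⟨z, hz, hzy⟩ := hsurjJ n _ hy
    have := hn hz
    simp only [Set.mem_setOf_eq, Set.mem_preimage, map_add, hzy] at this
    simpa using this
  refine ⟨hsurj, ⟨hsurj, hc, hopenmap⟩, ?_⟩
  -- completeness of B
  haveI : FirstCountableTopology A := by
    constructor
    intro a
    have : nhds a = Filter.map (fun z => a + z) (nhds (0 : A)) := by
      rw [map_add_left_nhds, add_zero]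
    rw [this]
    infer_instance
  let N : AddSubgroup A := φ.toAddMonoidHom.ker
  letI : UniformSpace (A ⧸ N) := IsTopologicalAddGroup.rightUniformSpace (A ⧸ N)
  haveI : IsUniformAddGroup (A ⧸ N) := isUniformAddGroup_of_addCommGroup
  have hcompl : CompleteSpace (A ⧸ N) := QuotientAddGroup.completeSpace_right A N
  let e : A ⧸ N →+ B := QuotientAddGroup.kerLift φ.toAddMonoidHom
  have he_mk : ∀ a : A, e (QuotientAddGroup.mk a) = φ a := fun a => rfl
  have he_inj : Function.Injective e := QuotientAddGroup.kerLift_injective _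
  have he_surj : Function.Surjective e := by
    intro b
    obtain ⟨a, rfl⟩ := hsurj b
    exact ⟨QuotientAddGroup.mk a, he_mk a⟩
  have he_cont : Continuous e := by
    apply (QuotientAddGroup.isQuotientMap_mk N).continuous_iff.2
    exact hc
  have he_open : IsOpenMap e := by
    intro V hV
    have : e '' V = φ '' ((QuotientAddGroup.mk : A → A ⧸ N) ⁻¹' V) := by
      ext b
      constructor
      · rintro ⟨q, hq, rfl⟩
        obtain ⟨a, rfl⟩ := QuotientAddGroup.mk_surjective q
        exact ⟨a, hq, (he_mk a).symm⟩
      · rintro ⟨a, ha, rfl⟩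
        exact ⟨QuotientAddGroup.mk a, ha, he_mk a⟩
    rw [this]
    exact hopenmap _ (hV.preimage QuotientAddGroup.continuous_mk)
  have he_ind : Topology.IsInducing e :=
    (Topology.IsOpenEmbedding.of_continuous_injective_isOpenMap he_cont he_inj he_open).isInducing
  have he_unif : IsUniformInducing e := AddMonoidHom.isUniformInducing_of_isInducing he_ind
  exact (he_unif.completeSpace_congr he_surj).1 hcompl

end Groth.Agent.S10155
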