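import Groth.Statements.S10156
import Groth.Agent.Lib.Helper15.LinTop

set_option autoImplicit false
universe u v w
open LinTop

namespace Groth.Agent.S10156

/-- Given pre-adic rings A, B, C and continuous ring maps ψ : B → C and φ : A → B, adicness of the
composite A → C implies that ψ is adic. -/
theorem result
    (A : Type u) [CommRing A] [TopologicalSpace A] [IsTopologicalRing A] (hA : LinTop.IsPreadic A)
    (B : Type v) [CommRing B] [TopologicalSpace B] [IsTopologicalRing B] (hB : LinTop.IsPreadic B)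
    (C : Type w) [CommRing C] [TopologicalSpace C] [IsTopologicalRing C] (hC : LinTop.IsPreadic C)
    (φ : A →+* B) (ψ : B →+* C) (hφ : Continuous φ) (hψ : Continuous ψ)
    (h : LinTop.IsAdicHom (ψ.comp φ)) : LinTop.IsAdicHom ψ := by
  obtain ⟨I, hI, hK⟩ := h
  obtain ⟨J₀, hJ₀⟩ := hB
  have hJ₀def := Groth.Agent.Helper15.isIdealOfDefinition_of_isAdic hJ₀
  -- the ideal J
  have hopen : IsOpen ((J₀.comap φ : Ideal A) : Set A) := by
    rw [Ideal.coe_comap]; exact hJ₀def.1.preimage hφ
  obtain ⟨m, hm0, hm⟩ := Groth.Agent.Helper15.IsIdealOfDefinition.exists_pow_le hI hopen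
  have hPm : (I.map φ) ^ m ≤ J₀ := by
    rw [← Ideal.map_pow, Ideal.map_le_iff_le_comap]; exact hm
  have hJdef : LinTop.IsIdealOfDefinition B (J₀ ⊔ I.map φ) := by
    refine Groth.Agent.Helper15.isIdealOfDefinition_of_le_of_pow_le hJ₀def le_sup_left
      (r := 1 + m) (by omega) ?_
    refine (Ideal.sup_pow_add_le_pow_sup_pow (n := 1) (m := m)).trans ?_
    rw [pow_one]
    exact sup_le le_rfl hPm
  refine ⟨J₀ ⊔ I.map φ, hJdef, ?_⟩
  have hKeq : I.map (ψ.comp φ) = (I.map φ).map ψ := (Ideal.map_map φ ψ).symm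
  have hKopen : IsOpen ((I.map (ψ.comp φ) : Ideal C) : Set C) := by
    have := (isAdic_iff.1 hK).1 1
    simpa using this
  have hopen2 : IsOpen (((I.map (ψ.comp φ)).comap ψ : Ideal B) : Set B) := by
    rw [Ideal.coe_comap]; exact hKopen.preimage hψ
  obtain ⟨r, -, hr⟩ := Groth.Agent.Helper15.IsIdealOfDefinition.exists_pow_le hJdef hopen2
  refine Groth.Agent.Helper15.isAdic_of_le_of_pow_le hK ?_ (r := r) ?_
  · rw [hKeq]; exact Ideal.map_mono le_sup_right
  · rw [← Ideal.map_pow, Ideal.map_le_iff_le_comap]; exact hr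

end Groth.Agent.S10156
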