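import Groth.Statements.S10157
import Groth.Agent.Lib.Helper15.LinTop

set_option autoImplicit false
universe u v
open LinTop

namespace Groth.Agent.S10157

/-- A continuous adic homomorphism φ : A → B between pre-adic topological rings is taut. -/
theorem result
    (A : Type u) [CommRing A] [TopologicalSpace A] [IsTopologicalRing A] (hA : LinTop.IsPreadic A)
    (B : Type v) [CommRing B] [TopologicalSpace B] [IsTopologicalRing B] (hB : LinTop.IsPreadic B)
    (φ : A →+* B) (hφ : Continuous φ) (h : LinTop.IsAdicHom φ) : LinTop.IsTaut φ := by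
  obtain ⟨I, hI, hK⟩ := h
  obtain ⟨IA, hIA⟩ := hA
  have hK' := isAdic_iff.1 hK
  have hIA' := isAdic_iff.1 hIA
  have hIpow_open : ∀ n : ℕ, IsOpen ((I ^ n : Ideal A) : Set A) := by
    intro n
    obtain ⟨m, hm⟩ := hIA'.2 I (hI.1.mem_nhds I.zero_mem)
    have hle : IA ^ (m * n) ≤ I ^ n := by
      rw [pow_mul]; exact Ideal.pow_right_mono (fun x hx => hm hx) n
    exact Submodule.isOpen_mono hle (hIA'.1 _)
  refine ⟨hφ, ?_, ?_⟩
  · intro I' hI'
    obtain ⟨n, -, hn⟩ := Groth.Agent.Helper15.IsIdealOfDefinition.exists_pow_le hI hI'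
    have hle : (I.map φ) ^ n ≤ I'.map φ := by
      rw [← Ideal.map_pow]; exact Ideal.map_mono hn
    have h1 : IsOpen ((I'.map φ : Ideal B) : Set B) := Submodule.isOpen_mono hle (hK'.1 n)
    have := Groth.Agent.Helper15.isOpen_ideal_closure h1
    rwa [Ideal.coe_closure] at this
  · intro U hU
    obtain ⟨n, hn⟩ := hK'.2 U hU
    refine ⟨I ^ n, hIpow_open n, Set.Subset.trans ?_ hn⟩
    rw [Ideal.map_pow]
    exact closure_minimal le_rfl (Groth.Agent.Helper15.isClosed_of_isOpen_ideal _ (hK'.1 n))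

end Groth.Agent.S10157
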