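import Groth.Statements.S10158
import Groth.Agent.Lib.Helper15.LinTopComplete

set_option autoImplicit false
universe u v
open LinTop

namespace Groth.Agent.S10158

/-- Let φ : A → B be a taut homomorphism of linearly topologized rings. Assume A is pre-adic with a
finitely generated ideal of definition I and B is Hausdorff and complete. Then the topology of B is
the φ(I)B-adic topology; in particular B is adic with a finitely generated ideal of definition and φ
is adic. -/
theorem result
    (A : Type u) [CommRing A] [TopologicalSpace A] [IsTopologicalRing A] (hA : LinTop.IsPreadic A)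
    (I : Ideal A) (hI : LinTop.IsIdealOfDefinition A I) (hfg : I.FG)
    (B : Type v) [CommRing B] [UniformSpace B] [IsUniformAddGroup B] [IsTopologicalRing B]
    [IsLinearTopology B B] [T2Space B] [CompleteSpace B]
    (φ : A →+* B) (hφ : LinTop.IsTaut φ) :
    IsAdic (I.map φ) := by
  obtain ⟨hc, h1, h2⟩ := hφ
  obtain ⟨IA, hIA⟩ := hA
  have hIA' := isAdic_iff.1 hIA
  have hIpow_open : ∀ n : ℕ, IsOpen ((I ^ n : Ideal A) : Set A) := by
    intro n
    obtain ⟨m, hm⟩ := hIA'.2 I (hI.1.mem_nhds I.zero_mem)
    have hle : IA ^ (m * n) ≤ I ^ n := by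
      rw [pow_mul]; exact Ideal.pow_right_mono (fun x hx => hm hx) n
    exact Submodule.isOpen_mono hle (hIA'.1 _)
  have hopen : ∀ n : ℕ, IsOpen (closure (((I.map φ) ^ n : Ideal B) : Set B)) := by
    intro n
    rw [← Ideal.map_pow]
    exact h1 _ (hIpow_open n)
  have hbasis : ∀ U ∈ nhds (0 : B), ∃ n : ℕ, closure (((I.map φ) ^ n : Ideal B) : Set B) ⊆ U := by
    intro U hU
    obtain ⟨I', hI', hI'U⟩ := h2 U hU
    obtain ⟨n, -, hn⟩ := Groth.Agent.Helper15.IsIdealOfDefinition.exists_pow_le hI hI'
    refine ⟨n, Set.Subset.trans (closure_mono ?_) hI'U⟩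
    rw [← Ideal.map_pow]
    exact Ideal.map_mono hn
  have key := Groth.Agent.Helper15.closure_pow_subset_pow_of_complete (I.map φ)
    (hfg.map φ) hopen hbasis
  have heq : ∀ n : ℕ, closure (((I.map φ) ^ n : Ideal B) : Set B) = (((I.map φ) ^ n : Ideal B) : Set B) :=
    fun n => subset_antisymm (key n) subset_closure
  rw [isAdic_iff]
  refine ⟨fun n => ?_, fun U hU => ?_⟩
  · rw [← heq n]; exact hopen n
  · obtain ⟨n, hn⟩ := hbasis U hU
    exact ⟨n, by rw [← heq n]; exact hn⟩

end Groth.Agent.S10158
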