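import Groth.Statements.S10165
import Groth.Agent.Lib.Helper15.LinTop

set_option autoImplicit false
universe u v
open LinTop

namespace Groth.Agent.S10165

/-- Let φ : A → B be a taut homomorphism of linearly topologized rings. If A is weakly pre-adic, then B
is weakly pre-adic. -/
theorem result
    (A : Type u) [CommRing A] [TopologicalSpace A] [IsTopologicalRing A] [IsLinearTopology A A]
    (B : Type v) [CommRing B] [TopologicalSpace B] [IsTopologicalRing B] [IsLinearTopology B B]
    (φ : A →+* B) (hφ : LinTop.IsTaut φ) (hA : LinTop.IsWeaklyPreadic A) :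
    LinTop.IsWeaklyPreadic B := by
  obtain ⟨hc, h1, h2⟩ := hφ
  obtain ⟨-, I, hI1, hI2⟩ := hA
  refine ⟨inferInstance, I.map φ, ?_, ?_⟩
  · intro n
    have hopen : IsOpen (((I ^ n).closure : Ideal A) : Set A) := by
      rw [Ideal.coe_closure]; exact hI1 n
    have h3 := h1 _ hopen
    rw [← Ideal.coe_closure, Groth.Agent.Helper15.closure_map_closure_eq φ hc, Ideal.map_pow,
      Ideal.coe_closure] at h3
    exact h3
  · intro U hU
    obtain ⟨I', hI', hI'U⟩ := h2 U hU
    obtain ⟨n, hn⟩ := hI2 I' (hI'.mem_nhds I'.zero_mem)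
    refine ⟨n, Set.Subset.trans (closure_mono ?_) hI'U⟩
    rw [← Ideal.map_pow]
    exact Ideal.map_mono (fun x hx => hn (subset_closure hx))

end Groth.Agent.S10165
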