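import Groth.Statements.S10159
import Groth.Agent.Lib.Helper15.LinTop
import Groth.Agent.S10165

set_option autoImplicit false
universe u
open LinTop

namespace Groth.Agent.S10159

/-- For a ring A carrying a linear topology, the following four conditions are equivalent: (1) A is
weakly pre-adic; (2) there exist a pre-adic topological ring A' and a taut continuous ring
homomorphism A' → A (A' is taken in the universe of A, which suffices since A with an adic topology
serves); (3) A has an ideal of definition, and for at least one ideal of definition I every closure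
cl(I^n) with n ≥ 1 is open; (4) A has an ideal of definition, and for each of its ideals of
definition I every closure cl(I^n) with n ≥ 1 is open. -/
theorem result
    (A : Type u) [CommRing A] [TopologicalSpace A] [IsTopologicalRing A] [IsLinearTopology A A] :
    List.TFAE [LinTop.IsWeaklyPreadic A,
      ∃ (A' : Type u) (_ : CommRing A') (_ : TopologicalSpace A') (_ : IsTopologicalRing A')
        (φ : A' →+* A), LinTop.IsPreadic A' ∧ LinTop.IsTaut φ,
      LinTop.IsPreadmissible A ∧ ∃ I : Ideal A, LinTop.IsIdealOfDefinition A I ∧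
        ∀ n : ℕ, 0 < n → IsOpen (closure ((I ^ n : Ideal A) : Set A)),
      LinTop.IsPreadmissible A ∧ ∀ I : Ideal A, LinTop.IsIdealOfDefinition A I →
        ∀ n : ℕ, 0 < n → IsOpen (closure ((I ^ n : Ideal A) : Set A))] := by
  tfae_have 1 → 4 := by
    rintro ⟨hlin, I, h1, h2⟩
    refine ⟨⟨hlin, I.closure, ?_, ?_⟩, ?_⟩
    · rw [Ideal.coe_closure]
      simpa using h1 1
    · intro U hU
      obtain ⟨n, hn⟩ := h2 U hU
      refine ⟨n + 1, Nat.succ_pos n, Set.Subset.trans ?_ hn⟩
      intro x hx
      have h3 := Groth.Agent.Helper15.closure_pow_le I (n + 1) hx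
      have h4 := Groth.Agent.Helper15.ideal_closure_mono
        (Ideal.pow_le_pow_right (I := I) (Nat.le_succ n)) h3
      rw [← Ideal.coe_closure]
      exact h4
    · intro K hK n _
      exact Groth.Agent.Helper15.isOpen_closure_pow_of_weaklyPreadic h1 h2 K hK.1 n
  tfae_have 4 → 3 := by
    rintro ⟨hpre, h⟩
    obtain ⟨-, I, hI⟩ := id hpre
    exact ⟨hpre, I, hI, h I hI⟩
  tfae_have 3 → 1 := by
    rintro ⟨hpre, I, hI, h⟩
    refine ⟨hpre.1, I, ?_, ?_⟩
    · intro n
      rcases Nat.eq_zero_or_pos n with rfl | hn
      · simp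
      · exact h n hn
    · intro U hU
      obtain ⟨K, hK, hKU⟩ := (IsLinearTopology.hasBasis_open_ideal (R := A)).mem_iff.1 hU
      obtain ⟨n, -, hn⟩ := Groth.Agent.Helper15.IsIdealOfDefinition.exists_pow_le hI hK
      exact ⟨n, Set.Subset.trans
        (closure_minimal hn (Groth.Agent.Helper15.isClosed_of_isOpen_ideal K hK)) hKU⟩
  tfae_have 1 → 2 := by
    rintro ⟨hlin, I, h1, h2⟩
    refine ⟨A, inferInstance, I.adicTopology, (Ideal.nonarchimedean I).toIsTopologicalRing,
      RingHom.id A, ⟨I, rfl⟩, ?_⟩
    refine @Groth.Agent.Helper15.isTaut_of_adic_source A _ I.adicTopology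
      (Ideal.nonarchimedean I).toIsTopologicalRing A _ _ _ (RingHom.id A) I rfl ?_ ?_
    · rw [Ideal.map_id]; exact h1
    · rw [Ideal.map_id]; exact h2
  tfae_have 2 → 1 := by
    rintro ⟨A', i1, i2, i3, φ, ⟨I', hI'⟩, hφ⟩
    have hlin : IsLinearTopology A' A' := by
      have : i2 = I'.adicTopology := hI'
      subst this
      exact Ideal.isLinearTopology I'
    have hA' := Groth.Agent.Helper15.isWeaklyPreadic_of_isAdic I' hI'
    exact Groth.Agent.S10165.result A' A φ hφ hA'
  tfae_finish

end Groth.Agent.S10159
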