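import Groth.Statements.S10160
import Groth.Agent.Lib.Helper15.LinTop

set_option autoImplicit false
universe u
open LinTop

namespace Groth.Agent.S10160

/-- A weakly adic topological ring is admissible and has a countable fundamental system of open ideals. -/
theorem result
    (A : Type u) [CommRing A] [UniformSpace A] [IsUniformAddGroup A] [IsTopologicalRing A] (hA : LinTop.IsWeaklyAdic A) :
    LinTop.IsAdmissible A ∧ (nhds (0 : A)).IsCountablyGenerated := by
  obtain ⟨⟨hlin, I, h1, h2⟩, hT2, hC⟩ := hA
  refine ⟨⟨⟨hlin, I.closure, ?_, ?_⟩, hT2, hC⟩, ?_⟩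
  · rw [Ideal.coe_closure]
    simpa using h1 1
  · intro U hU
    obtain ⟨n, hn⟩ := h2 U hU
    refine ⟨n + 1, Nat.succ_pos n, Set.Subset.trans ?_ hn⟩
    intro x hx
    have h3 := Groth.Agent.Helper15.closure_pow_le I (n + 1) hx
    have h4 := Groth.Agent.Helper15.ideal_closure_mono
      (Ideal.pow_le_pow_right (I := I) (Nat.le_succ n)) h3
    rw [← Ideal.coe_closure]
    exact h4
  · have hbasis : (nhds (0 : A)).HasBasis (fun _ : ℕ => True)
        (fun n => closure ((I ^ n : Ideal A) : Set A)) := by
      constructor
      intro U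
      constructor
      · intro hU
        obtain ⟨n, hn⟩ := h2 U hU
        exact ⟨n, trivial, hn⟩
      · rintro ⟨n, -, hn⟩
        refine Filter.mem_of_superset ?_ hn
        exact (h1 n).mem_nhds (subset_closure (Ideal.zero_mem _))
    exact hbasis.isCountablyGenerated

end Groth.Agent.S10160
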