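import Groth.Statements.S10162
import Groth.Agent.Lib.Helper15.LinTop

set_option autoImplicit false
universe u
open LinTop

namespace Groth.Agent.S10162

/-- For a linearly topologized ring A, the canonical map from A to its (separated) completion is taut. -/
theorem result
    (A : Type u) [CommRing A] [UniformSpace A] [IsUniformAddGroup A] [IsTopologicalRing A] [IsLinearTopology A A] :
    LinTop.IsTaut (UniformSpace.Completion.coeRingHom : A →+* UniformSpace.Completion A) := by
  have hd : DenseRange (UniformSpace.Completion.coeRingHom : A →+* UniformSpace.Completion A) :=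
    UniformSpace.Completion.denseRange_coe
  have hcont : Continuous (UniformSpace.Completion.coeRingHom : A →+* UniformSpace.Completion A) :=
    UniformSpace.Completion.continuous_coe A
  refine ⟨hcont, ?_, ?_⟩
  · intro I hI
    have hnhd : closure ((UniformSpace.Completion.coeRingHom : A →+* UniformSpace.Completion A) ''
        (I : Set A)) ∈ nhds (0 : UniformSpace.Completion A) := by
      have := (UniformSpace.Completion.isDenseInducing_coe (α := A)).closure_image_mem_nhds
        (hI.mem_nhds I.zero_mem)
      rw [← UniformSpace.Completion.coe_zero] 
      exact this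
    rw [← Groth.Agent.Helper15.closure_map_eq_closure_image _ hd, ← Ideal.coe_closure] at hnhd
    have := AddSubgroup.isOpen_of_mem_nhds ((I.map (UniformSpace.Completion.coeRingHom :
      A →+* UniformSpace.Completion A)).closure).toAddSubgroup hnhd
    rw [← Ideal.coe_closure]
    exact this
  · intro U hU
    obtain ⟨V, ⟨hV, hVc⟩, hVU⟩ := (closed_nhds_basis (0 : UniformSpace.Completion A)).mem_iff.1 hU
    have hpre : (UniformSpace.Completion.coeRingHom : A →+* UniformSpace.Completion A) ⁻¹' V
        ∈ nhds (0 : A) := by
      apply hcont.continuousAt.preimage_mem_nhds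
      simpa using hV
    obtain ⟨I, hI, hIV⟩ := (IsLinearTopology.hasBasis_open_ideal (R := A)).mem_iff.1 hpre
    refine ⟨I, hI, ?_⟩
    rw [Groth.Agent.Helper15.closure_map_eq_closure_image _ hd]
    refine Set.Subset.trans (closure_minimal ?_ hVc) hVU
    rintro _ ⟨a, ha, rfl⟩
    exact hIV ha

end Groth.Agent.S10162
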