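import Groth.Statements.S10164
import Groth.Agent.Lib.Helper15.LinTopComplete
import Groth.Agent.S10163

set_option autoImplicit false
universe u
open LinTop

namespace Groth.Agent.S10164

/-- Let A be weakly adic and I an ideal of definition of A with I/I₂ finitely generated, where I₂
denotes the closure of I^2 (here: I maps onto a finitely generated ideal of A/I₂). Then A is adic,
and some finitely generated ideal of A is an ideal of definition. -/
theorem result
    (A : Type u) [CommRing A] [UniformSpace A] [IsUniformAddGroup A] [IsTopologicalRing A] (hA : LinTop.IsWeaklyAdic A)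
    (I : Ideal A) (hI : LinTop.IsIdealOfDefinition A I)
    (hfg : (I.map (Ideal.Quotient.mk ((I ^ 2).closure))).FG) :
    LinTop.IsAdicRing A ∧ ∃ J : Ideal A, LinTop.IsIdealOfDefinition A J ∧ J.FG := by
  classical
  obtain ⟨⟨hlin, I₀, h1, h2⟩, hT2, hC⟩ := hA
  haveI := hlin
  haveI := hT2
  haveI := hC
  -- closures of powers of I are open and form a basis
  have hIopen : ∀ n : ℕ, IsOpen (closure ((I ^ n : Ideal A) : Set A)) :=
    fun n => Groth.Agent.Helper15.isOpen_closure_pow_of_weaklyPreadic h1 h2 I hI.1 n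
  have hIbasis : ∀ U ∈ nhds (0 : A), ∃ n : ℕ, closure ((I ^ n : Ideal A) : Set A) ⊆ U := by
    intro U hU
    obtain ⟨K, hK, hKU⟩ := (IsLinearTopology.hasBasis_open_ideal (R := A)).mem_iff.1 hU
    obtain ⟨n, -, hn⟩ := Groth.Agent.Helper15.IsIdealOfDefinition.exists_pow_le hI hK
    exact ⟨n, Set.Subset.trans
      (closure_minimal hn (Groth.Agent.Helper15.isClosed_of_isOpen_ideal K hK)) hKU⟩
  -- lift generators
  have hmap : I.map (Ideal.Quotient.mk ((I ^ 2).closure)) =
      Ideal.span ((Ideal.Quotient.mk ((I ^ 2).closure)) '' (I : Set A)) := rfl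
  rw [hmap] at hfg
  obtain ⟨s', hs', hspan⟩ := (Submodule.fg_span_iff_fg_span_finset_subset _).1 hfg
  obtain ⟨T, hT, hTs'⟩ := Finset.subset_set_image_iff.1 hs'
  set J : Ideal A := Ideal.span (T : Set A) with hJdef
  have hJI : J ≤ I := Ideal.span_le.2 hT
  have hJfg : J.FG := ⟨T, rfl⟩
  have hJmap : J.map (Ideal.Quotient.mk ((I ^ 2).closure)) =
      I.map (Ideal.Quotient.mk ((I ^ 2).closure)) := by
    rw [hJdef, Ideal.map_span, hmap]
    have : ((Ideal.Quotient.mk ((I ^ 2).closure)) '' (T : Set A)) = (s' : Set _) := by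
      rw [← hTs', Finset.coe_image]
    rw [this]
    exact hspan.symm
  have hIJ : I ≤ J ⊔ (I ^ 2).closure := by
    have h3 : I ≤ (I.map (Ideal.Quotient.mk ((I ^ 2).closure))).comap
        (Ideal.Quotient.mk ((I ^ 2).closure)) := Ideal.le_comap_map
    rw [← hJmap, Ideal.comap_map_of_surjective _ Ideal.Quotient.mk_surjective] at h3
    refine h3.trans (sup_le_sup_left ?_ _)
    rw [← RingHom.ker_eq_comap_bot, Ideal.mk_ker]
  -- notation: cl n = closure of I^n as an ideal
  have hclmul : ∀ a b : ℕ, (I ^ a).closure * (I ^ b).closure ≤ (I ^ (a + b)).closure := by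
    intro a b
    rw [pow_add]
    exact Groth.Agent.Helper15.closure_mul_le _ _
  have hclmono : ∀ {a b : ℕ}, a ≤ b → (I ^ b).closure ≤ (I ^ a).closure := fun h =>
    Groth.Agent.Helper15.ideal_closure_mono (Ideal.pow_le_pow_right h)
  have hle_cl : ∀ a : ℕ, I ^ a ≤ (I ^ a).closure := fun a => Groth.Agent.Helper15.ideal_le_closure _
  have claim : ∀ n : ℕ, I ^ n ≤ J ^ n ⊔ (I ^ (n + 1)).closure := by
    intro n
    induction n with
    | zero => simp
    | succ n ih =>
      calc I ^ (n + 1) = I ^ n * I := pow_succ I n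
        _ ≤ (J ^ n ⊔ (I ^ (n + 1)).closure) * (J ⊔ (I ^ 2).closure) := Ideal.mul_mono ih hIJ
        _ ≤ J ^ (n + 1) ⊔ (I ^ (n + 1 + 1)).closure := by
          rw [Ideal.sup_mul, Ideal.mul_sup, Ideal.mul_sup]
          refine sup_le (sup_le ?_ ?_) (sup_le ?_ ?_)
          · rw [← pow_succ]; exact le_sup_left
          · refine le_sup_of_le_right ?_
            calc J ^ n * (I ^ 2).closure ≤ (I ^ n).closure * (I ^ 2).closure :=
                  Ideal.mul_mono_left ((Ideal.pow_right_mono hJI n).trans (hle_cl n))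
              _ ≤ (I ^ (n + 2)).closure := hclmul n 2
          · refine le_sup_of_le_right ?_
            calc (I ^ (n + 1)).closure * J ≤ (I ^ (n + 1)).closure * (I ^ 1).closure := by
                  refine Ideal.mul_mono_right ?_
                  rw [pow_one]
                  exact hJI.trans (Groth.Agent.Helper15.ideal_le_closure I)
              _ ≤ (I ^ (n + 1 + 1)).closure := hclmul (n + 1) 1
          · refine le_sup_of_le_right ?_
            calc (I ^ (n + 1)).closure * (I ^ 2).closure ≤ (I ^ (n + 1 + 2)).closure :=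
                  hclmul (n + 1) 2
              _ ≤ (I ^ (n + 1 + 1)).closure := hclmono (by omega)
  have hcl_step : ∀ m : ℕ, (I ^ m).closure ≤ I ^ m ⊔ (I ^ (m + 1)).closure := by
    intro m x hx
    have hx' : x ∈ closure ((I ^ m : Ideal A) : Set A) := by
      rw [← Ideal.coe_closure]; exact hx
    refine (Groth.Agent.Helper15.mem_closure_iff_forall_open_ideal _ x).1 hx' _ ?_
    rw [Ideal.coe_closure]; exact hIopen _
  have claim2 : ∀ n k : ℕ, I ^ n ≤ J ^ n ⊔ (I ^ (n + 1 + k)).closure := by
    intro n k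
    induction k with
    | zero => exact claim n
    | succ k ih =>
      refine ih.trans (sup_le le_sup_left ?_)
      refine (hcl_step _).trans (sup_le ?_ ?_)
      · refine (claim (n + 1 + k)).trans (sup_le ?_ ?_)
        · exact le_sup_of_le_left (Ideal.pow_le_pow_right (by omega))
        · exact le_sup_of_le_right (hclmono (by omega))
      · exact le_sup_of_le_right (hclmono (by omega))
  have hIJcl : ∀ n : ℕ, ((I ^ n : Ideal A) : Set A) ⊆ closure ((J ^ n : Ideal A) : Set A) := by
    intro n x hx
    rw [Groth.Agent.Helper15.mem_closure_iff_forall_open_ideal]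
    intro K hK
    obtain ⟨m, hm⟩ := hIbasis K (hK.mem_nhds K.zero_mem)
    have h4 := claim2 n m hx
    refine (sup_le_sup_left ?_ _ : J ^ n ⊔ (I ^ (n + 1 + m)).closure ≤ J ^ n ⊔ K) h4
    intro z hz
    apply hm
    have hz' : z ∈ closure ((I ^ (n + 1 + m) : Ideal A) : Set A) := by
      rw [← Ideal.coe_closure]; exact hz
    exact closure_mono (Ideal.pow_le_pow_right (I := I) (by omega)) hz'
  have hcleq : ∀ n : ℕ, closure ((J ^ n : Ideal A) : Set A) = closure ((I ^ n : Ideal A) : Set A) := by
    intro n
    apply subset_antisymm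
    · exact closure_mono (Ideal.pow_right_mono hJI n)
    · exact closure_minimal (hIJcl n) isClosed_closure
  have hJadic : IsAdic J := by
    apply Groth.Agent.S10163.result A J hJfg
    · intro n; rw [hcleq n]; exact hIopen n
    · intro U hU
      obtain ⟨n, hn⟩ := hIbasis U hU
      exact ⟨n, by rw [hcleq n]; exact hn⟩
  exact ⟨⟨⟨J, hJadic⟩, hT2, hC⟩, J, Groth.Agent.Helper15.isIdealOfDefinition_of_isAdic hJadic, hJfg⟩

end Groth.Agent.S10164
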