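import Groth.Statements.S10166
import Groth.Agent.Lib.Helper15.LinTop

set_option autoImplicit false
universe u v
open LinTop

namespace Groth.Agent.S10166

/-- Let φ : A → B be a taut homomorphism of linearly topologized rings such that for every open ideal I
of A, with J the closure of φ(I)B, the induced map A/I → B/J is faithfully flat. If B has a
countable fundamental system of open ideals, then so does A. -/
theorem result
    (A : Type u) [CommRing A] [TopologicalSpace A] [IsTopologicalRing A] [IsLinearTopology A A]
    (B : Type v) [CommRing B] [TopologicalSpace B] [IsTopologicalRing B] [IsLinearTopology B B]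
    (φ : A →+* B) (hφ : LinTop.IsTautFFlat φ) (hB : (nhds (0 : B)).IsCountablyGenerated) :
    (nhds (0 : A)).IsCountablyGenerated := by
  have hcomap := Groth.Agent.Helper15.comap_closure_map_of_isTautFFlat hφ
  obtain ⟨⟨hc, h1, h2⟩, -⟩ := hφ
  have := hB
  -- basis of nhds 0 in B indexed by open ideals of A
  have hbasisB : (nhds (0 : B)).HasBasis (fun I : Ideal A => IsOpen (I : Set A))
      (fun I => closure ((I.map φ : Ideal B) : Set B)) := by
    constructor
    intro U
    constructor
    · intro hU
      obtain ⟨I, hI, hIU⟩ := h2 U hU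
      exact ⟨I, hI, hIU⟩
    · rintro ⟨I, hI, hIU⟩
      refine Filter.mem_of_superset ?_ hIU
      exact (h1 I hI).mem_nhds (subset_closure (Ideal.zero_mem _))
  obtain ⟨x, hx1, hx2⟩ := hbasisB.exists_antitone_subbasis
  have hbasisA : (nhds (0 : A)).HasBasis (fun _ : ℕ => True) (fun n => ((x n : Ideal A) : Set A)) := by
    constructor
    intro U
    constructor
    · intro hU
      obtain ⟨I, hI, hIU⟩ := (IsLinearTopology.hasBasis_open_ideal (R := A)).mem_iff.1 hU
      have hJ : closure ((I.map φ : Ideal B) : Set B) ∈ nhds (0 : B) :=
        (h1 I hI).mem_nhds (subset_closure (Ideal.zero_mem _))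
      obtain ⟨n, -, hn⟩ := hx2.1.mem_iff.1 hJ
      refine ⟨n, trivial, Set.Subset.trans ?_ hIU⟩
      intro a ha
      have h3 : φ a ∈ closure ((I.map φ : Ideal B) : Set B) :=
        hn (subset_closure (Ideal.mem_map_of_mem φ ha))
      rw [← Ideal.coe_closure] at h3
      have h4 : a ∈ ((I.map φ).closure).comap φ := h3
      rw [hcomap I hI] at h4
      exact h4
    · rintro ⟨n, -, hn⟩
      exact Filter.mem_of_superset ((hx1 n).mem_nhds (Ideal.zero_mem _)) hn
  exact hbasisA.isCountablyGenerated

end Groth.Agent.S10166
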