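import Groth.Statements.S10167
import Groth.Agent.Lib.Helper15.LinTop

set_option autoImplicit false
universe u v
open LinTop

namespace Groth.Agent.S10167

/-- Let φ : A → B be a taut homomorphism of linearly topologized rings such that for every open ideal I
of A the induced ring map A/I → B/J, where J denotes the closure of φ(I)B, is faithfully flat. If B
has a weak ideal of definition (B is weakly pre-admissible), then so does A. -/
theorem result
    (A : Type u) [CommRing A] [TopologicalSpace A] [IsTopologicalRing A] [IsLinearTopology A A]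
    (B : Type v) [CommRing B] [TopologicalSpace B] [IsTopologicalRing B] [IsLinearTopology B B]
    (φ : A →+* B) (hφ : LinTop.IsTautFFlat φ) (hB : LinTop.IsWeaklyPreadmissible B) :
    LinTop.IsWeaklyPreadmissible A := by
  have hcomap := Groth.Agent.Helper15.comap_closure_map_of_isTautFFlat hφ
  obtain ⟨⟨hc, h1, h2⟩, -⟩ := hφ
  obtain ⟨-, J, hJopen, hJnil⟩ := hB
  obtain ⟨I, hI, hIJ⟩ := h2 J (hJopen.mem_nhds J.zero_mem)
  refine ⟨inferInstance, I, hI, ?_⟩
  intro f hf
  unfold IsTopologicallyNilpotent
  rw [(IsLinearTopology.hasBasis_open_ideal (R := A)).tendsto_right_iff]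
  intro I' hI'
  have hφf : IsTopologicallyNilpotent (φ f) :=
    hJnil _ (hIJ (subset_closure (Ideal.mem_map_of_mem φ hf)))
  have hnhd : closure ((I'.map φ : Ideal B) : Set B) ∈ nhds (0 : B) :=
    (h1 I' hI').mem_nhds (subset_closure (Ideal.zero_mem _))
  filter_upwards [hφf.eventually_mem hnhd] with n hn
  rw [← map_pow, ← Ideal.coe_closure] at hn
  have h4 : f ^ n ∈ ((I'.map φ).closure).comap φ := hn
  rw [hcomap I' hI'] at h4
  exact h4

end Groth.Agent.S10167
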