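import Groth.Statements.S10168
import Groth.Agent.Lib.Helper15.LinTop

set_option autoImplicit false
universe u v
open LinTop

namespace Groth.Agent.S10168

/-- Let φ : A → B be a taut homomorphism of linearly topologized rings such that for every open ideal I
of A, with J the closure of φ(I)B, the induced map A/I → B/J is faithfully flat. If B is
pre-admissible, then A is pre-admissible. -/
theorem result
    (A : Type u) [CommRing A] [TopologicalSpace A] [IsTopologicalRing A] [IsLinearTopology A A]
    (B : Type v) [CommRing B] [TopologicalSpace B] [IsTopologicalRing B] [IsLinearTopology B B]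
    (φ : A →+* B) (hφ : LinTop.IsTautFFlat φ) (hB : LinTop.IsPreadmissible B) :
    LinTop.IsPreadmissible A := by
  have hcomap := Groth.Agent.Helper15.comap_closure_map_of_isTautFFlat hφ
  obtain ⟨⟨hc, h1, h2⟩, -⟩ := hφ
  obtain ⟨-, J, hJopen, hJpow⟩ := hB
  obtain ⟨I, hI, hIJ⟩ := h2 J (hJopen.mem_nhds J.zero_mem)
  refine ⟨inferInstance, I, hI, ?_⟩
  intro U hU
  obtain ⟨I', hI', hI'U⟩ := (IsLinearTopology.hasBasis_open_ideal (R := A)).mem_iff.1 hU
  have hnhd : closure ((I'.map φ : Ideal B) : Set B) ∈ nhds (0 : B) :=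
    (h1 I' hI').mem_nhds (subset_closure (Ideal.zero_mem _))
  obtain ⟨n, hn0, hn⟩ := hJpow _ hnhd
  refine ⟨n, hn0, Set.Subset.trans ?_ hI'U⟩
  intro a ha
  have h3 : φ a ∈ (I.map φ) ^ n := by
    rw [← Ideal.map_pow]; exact Ideal.mem_map_of_mem φ ha
  have hle : (I.map φ) ^ n ≤ J ^ n :=
    Ideal.pow_right_mono (fun x hx => hIJ (subset_closure hx)) n
  have h4 := hn (hle h3)
  rw [← Ideal.coe_closure] at h4
  have h5 : a ∈ ((I'.map φ).closure).comap φ := h4
  rw [hcomap I' hI'] at h5
  exact h5

end Groth.Agent.S10168
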