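import Groth.Statements.S10169
import Groth.Agent.Lib.Helper15.LinTop

set_option autoImplicit false
universe u v
open LinTop

namespace Groth.Agent.S10169

/-- Let φ : A → B be a taut homomorphism of linearly topologized rings such that for every open ideal I
of A the induced ring map A/I → B/J, where J denotes the closure of φ(I)B, is faithfully flat. Weak
pre-adicness then descends: when B is weakly pre-adic, A is as well. -/
theorem result
    (A : Type u) [CommRing A] [TopologicalSpace A] [IsTopologicalRing A] [IsLinearTopology A A]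
    (B : Type v) [CommRing B] [TopologicalSpace B] [IsTopologicalRing B] [IsLinearTopology B B]
    (φ : A →+* B) (hφ : LinTop.IsTautFFlat φ) (hB : LinTop.IsWeaklyPreadic B) :
    LinTop.IsWeaklyPreadic A := by
  have hcomap := Groth.Agent.Helper15.comap_closure_map_of_isTautFFlat hφ
  obtain ⟨⟨hc, h1, h2⟩, -⟩ := hφ
  obtain ⟨-, J, hJ1, hJ2⟩ := hB
  have hJ1nhd : closure ((J ^ 1 : Ideal B) : Set B) ∈ nhds (0 : B) :=
    (hJ1 1).mem_nhds (subset_closure (Ideal.zero_mem _))
  obtain ⟨I, hI, hIJ⟩ := h2 _ hJ1nhd
  rw [pow_one] at hIJ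
  refine ⟨inferInstance, I, ?_, ?_⟩
  · intro n
    -- K = closure of I.map φ is an open ideal of B
    have hKopen : IsOpen (((I.map φ).closure : Ideal B) : Set B) := by
      rw [Ideal.coe_closure]; exact h1 I hI
    have hKn := Groth.Agent.Helper15.isOpen_closure_pow_of_weaklyPreadic hJ1 hJ2 _ hKopen n
    -- W = closure ((I.map φ)^n) is open
    have hWopen : IsOpen ((((I.map φ) ^ n).closure : Ideal B) : Set B) := by
      rw [← Ideal.coe_closure] at hKn
      refine Submodule.isOpen_mono ?_ hKn
      have h3 := Groth.Agent.Helper15.ideal_closure_mono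
        (Groth.Agent.Helper15.closure_pow_le (I.map φ) n)
      refine h3.trans ?_
      intro x hx
      have hx' : x ∈ closure (((((I.map φ) ^ n).closure : Ideal B)) : Set B) := by
        rw [← Ideal.coe_closure]; exact hx
      rw [Ideal.coe_closure, closure_closure, ← Ideal.coe_closure] at hx'
      exact hx'
    obtain ⟨I'', hI'', hI''W⟩ := h2 _ (hWopen.mem_nhds (Ideal.zero_mem _))
    have hle : I'' ≤ (I ^ n).closure := by
      intro x hx
      have : x ∈ closure ((I ^ n : Ideal A) : Set A) := by
        rw [Groth.Agent.Helper15.mem_closure_iff_forall_open_ideal]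
        intro K' hK'
        have hopen : IsOpen ((I ^ n ⊔ K' : Ideal A) : Set A) :=
          Submodule.isOpen_mono le_sup_right hK'
        rw [← hcomap _ hopen]
        show φ x ∈ ((I ^ n ⊔ K').map φ).closure
        have h5 : φ x ∈ (((I.map φ) ^ n).closure : Ideal B) :=
          hI''W (subset_closure (Ideal.mem_map_of_mem φ hx))
        refine Groth.Agent.Helper15.ideal_closure_mono ?_ h5
        rw [← Ideal.map_pow]
        exact Ideal.map_mono le_sup_left
      rw [← Ideal.coe_closure] at this
      exact this
    have := Submodule.isOpen_mono hle hI''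
    rwa [Ideal.coe_closure] at this
  · intro U hU
    obtain ⟨I', hI', hI'U⟩ := (IsLinearTopology.hasBasis_open_ideal (R := A)).mem_iff.1 hU
    have hnhd : closure ((I'.map φ : Ideal B) : Set B) ∈ nhds (0 : B) :=
      (h1 I' hI').mem_nhds (subset_closure (Ideal.zero_mem _))
    obtain ⟨n, hn⟩ := hJ2 _ hnhd
    refine ⟨n, Set.Subset.trans ?_ hI'U⟩
    apply closure_minimal _ (Groth.Agent.Helper15.isClosed_of_isOpen_ideal _ hI')
    intro a ha
    have h3 : φ a ∈ (I.map φ) ^ n := by
      rw [← Ideal.map_pow]; exact Ideal.mem_map_of_mem φ ha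
    have hle : (I.map φ) ^ n ≤ J.closure ^ n := by
      refine Ideal.pow_right_mono (fun x hx => ?_) n
      have : x ∈ closure ((J : Ideal B) : Set B) := hIJ (subset_closure hx)
      rw [← Ideal.coe_closure] at this
      exact this
    have h4 := Groth.Agent.Helper15.closure_pow_le J n (hle h3)
    have h4' : φ a ∈ closure ((J ^ n : Ideal B) : Set B) := by
      rw [← Ideal.coe_closure]; exact h4
    have h5 := hn h4'
    rw [← Ideal.coe_closure] at h5
    have h6 : a ∈ ((I'.map φ).closure).comap φ := h5
    rw [hcomap I' hI'] at h6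
    exact h6

end Groth.Agent.S10169
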