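import Groth.Statements.S10170
import Groth.Agent.Lib.Helper15.LinTopComplete
import Groth.Agent.S10163

set_option autoImplicit false
universe u v
open LinTop

namespace Groth.Agent.S10170

/-- Let φ : A → B be a taut homomorphism of linearly topologized rings such that for every open ideal I
of A the induced ring map A/I → B/J, where J denotes the closure of φ(I)B, is faithfully flat.
Suppose A is Hausdorff and complete, and B is adic with some finitely generated ideal of definition.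
Then A is adic, and some finitely generated ideal of A is an ideal of definition. -/
theorem result
    (A : Type u) [CommRing A] [UniformSpace A] [IsUniformAddGroup A] [IsTopologicalRing A] [IsLinearTopology A A] [T2Space A] [CompleteSpace A]
    (B : Type v) [CommRing B] [UniformSpace B] [IsUniformAddGroup B] [IsTopologicalRing B] (hB : LinTop.IsAdicRing B)
    (hJ : ∃ J : Ideal B, LinTop.IsIdealOfDefinition B J ∧ J.FG)
    (φ : A →+* B) (hφ : LinTop.IsTautFFlat φ) :
    LinTop.IsAdicRing A ∧ ∃ I : Ideal A, LinTop.IsIdealOfDefinition A I ∧ I.FG := by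
  have hcomap := Groth.Agent.Helper15.comap_closure_map_of_isTautFFlat hφ
  obtain ⟨⟨hc, h1, h2⟩, -⟩ := hφ
  obtain ⟨⟨JB, hJB⟩, -, -⟩ := hB
  obtain ⟨J₀, hJ₀def, hJ₀fg⟩ := hJ
  have hJB' := isAdic_iff.1 hJB
  haveI hlinB : IsLinearTopology B B := by
    have : (inferInstance : TopologicalSpace B) = JB.adicTopology := hJB
    rw [isLinearTopology_iff_hasBasis_open_ideal]
    constructor
    intro U
    constructor
    · intro hU
      obtain ⟨n, hn⟩ := hJB'.2 U hU
      exact ⟨JB ^ n, hJB'.1 n, hn⟩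
    · rintro ⟨K, hK, hKU⟩
      exact Filter.mem_of_superset (hK.mem_nhds K.zero_mem) hKU
  -- powers of J₀ are open
  have hJ₀open : ∀ n : ℕ, IsOpen ((J₀ ^ n : Ideal B) : Set B) := by
    intro n
    obtain ⟨a, ha⟩ := hJB'.2 J₀ (hJ₀def.1.mem_nhds J₀.zero_mem)
    have hle : JB ^ (a * n) ≤ J₀ ^ n := by
      rw [pow_mul]; exact Ideal.pow_right_mono (fun x hx => ha hx) n
    exact Submodule.isOpen_mono hle (hJB'.1 _)
  -- choose I
  obtain ⟨I, hI, hIJ⟩ := h2 J₀ (hJ₀def.1.mem_nhds J₀.zero_mem)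
  have hKopen : IsOpen (((I.map φ).closure : Ideal B) : Set B) := by
    rw [Ideal.coe_closure]; exact h1 I hI
  obtain ⟨n, -, hn⟩ := Groth.Agent.Helper15.IsIdealOfDefinition.exists_pow_le hJ₀def hKopen
  -- J₀^n ≤ I.map φ ⊔ J₀^(n+1)
  have hstep0 : J₀ ^ n ≤ I.map φ ⊔ J₀ ^ (n + 1) := by
    intro x hx
    have hx' : x ∈ closure ((I.map φ : Ideal B) : Set B) := by
      rw [← Ideal.coe_closure]; exact hn hx
    exact (Groth.Agent.Helper15.mem_closure_iff_forall_open_ideal _ x).1 hx' _ (hJ₀open _)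
  obtain ⟨𝔞, h𝔞fg, h𝔞I, h𝔞⟩ := Groth.Agent.Helper15.exists_fg_le_map_sup φ I (J₀ ^ n) (J₀ ^ (n + 1))
    (Ideal.FG.pow hJ₀fg) hstep0
  have hPJ₀ : 𝔞.map φ ≤ J₀ := by
    refine (Ideal.map_mono h𝔞I).trans ?_
    intro x hx
    exact hIJ (subset_closure hx)
  -- J₀^n ≤ 𝔞.map φ ⊔ J₀^(n+k)
  have hstepk : ∀ k : ℕ, J₀ ^ n ≤ 𝔞.map φ ⊔ J₀ ^ (n + k) := by
    intro k
    induction k with
    | zero => exact le_sup_right
    | succ k ih =>
      refine ih.trans (sup_le le_sup_left ?_)
      calc J₀ ^ (n + k) = J₀ ^ k * J₀ ^ n := by rw [← pow_add, add_comm]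
        _ ≤ J₀ ^ k * (𝔞.map φ ⊔ J₀ ^ (n + 1)) := Ideal.mul_mono_right h𝔞
        _ ≤ 𝔞.map φ ⊔ J₀ ^ (n + (k + 1)) := by
          rw [Ideal.mul_sup]
          refine sup_le_sup Ideal.mul_le_right ?_
          rw [← pow_add]
          exact Ideal.pow_le_pow_right (by omega)
  have hJ₀n_le : J₀ ^ n ≤ (𝔞.map φ).closure := by
    intro x hx
    have : x ∈ closure ((𝔞.map φ : Ideal B) : Set B) := by
      rw [Groth.Agent.Helper15.mem_closure_iff_forall_open_ideal]
      intro K hK
      obtain ⟨k, -, hk⟩ := Groth.Agent.Helper15.IsIdealOfDefinition.exists_pow_le hJ₀def hK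
      refine (sup_le_sup_left ?_ _ : 𝔞.map φ ⊔ J₀ ^ (n + k) ≤ 𝔞.map φ ⊔ K) (hstepk k hx)
      exact (Ideal.pow_le_pow_right (by omega)).trans hk
    rw [← Ideal.coe_closure] at this
    exact this
  -- closure of powers of P open in B
  have hWopen : ∀ m : ℕ, IsOpen ((((𝔞.map φ) ^ m).closure : Ideal B) : Set B) := by
    intro m
    have hle : J₀ ^ (n * m) ≤ ((𝔞.map φ) ^ m).closure := by
      rw [pow_mul]
      refine (Ideal.pow_right_mono hJ₀n_le m).trans ?_
      exact Groth.Agent.Helper15.closure_pow_le _ m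
    exact Submodule.isOpen_mono hle (hJ₀open _)
  -- now in A
  have hAopen : ∀ m : ℕ, IsOpen (closure ((𝔞 ^ m : Ideal A) : Set A)) := by
    intro m
    obtain ⟨I'', hI'', hI''W⟩ := h2 _ ((hWopen m).mem_nhds (Ideal.zero_mem _))
    have hle : I'' ≤ (𝔞 ^ m).closure := by
      intro x hx
      have : x ∈ closure ((𝔞 ^ m : Ideal A) : Set A) := by
        rw [Groth.Agent.Helper15.mem_closure_iff_forall_open_ideal]
        intro K' hK'
        have hopen : IsOpen ((𝔞 ^ m ⊔ K' : Ideal A) : Set A) :=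
          Submodule.isOpen_mono le_sup_right hK'
        rw [← hcomap _ hopen]
        show φ x ∈ ((𝔞 ^ m ⊔ K').map φ).closure
        have h5 : φ x ∈ (((𝔞.map φ) ^ m).closure : Ideal B) :=
          hI''W (subset_closure (Ideal.mem_map_of_mem φ hx))
        refine Groth.Agent.Helper15.ideal_closure_mono ?_ h5
        rw [← Ideal.map_pow]
        exact Ideal.map_mono le_sup_left
      rw [← Ideal.coe_closure] at this
      exact this
    have := Submodule.isOpen_mono hle hI''
    rwa [Ideal.coe_closure] at this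
  have hAbasis : ∀ U ∈ nhds (0 : A), ∃ m : ℕ, closure ((𝔞 ^ m : Ideal A) : Set A) ⊆ U := by
    intro U hU
    obtain ⟨I', hI', hI'U⟩ := (IsLinearTopology.hasBasis_open_ideal (R := A)).mem_iff.1 hU
    have hopen' : IsOpen (((I'.map φ).closure : Ideal B) : Set B) := by
      rw [Ideal.coe_closure]; exact h1 I' hI'
    obtain ⟨k, -, hk⟩ := Groth.Agent.Helper15.IsIdealOfDefinition.exists_pow_le hJ₀def hopen'
    refine ⟨k, Set.Subset.trans ?_ hI'U⟩
    apply closure_minimal _ (Groth.Agent.Helper15.isClosed_of_isOpen_ideal _ hI')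
    intro a ha
    have h3 : φ a ∈ (𝔞.map φ) ^ k := by
      rw [← Ideal.map_pow]; exact Ideal.mem_map_of_mem φ ha
    have h4 : φ a ∈ (I'.map φ).closure := hk (Ideal.pow_right_mono hPJ₀ k h3)
    have h6 : a ∈ ((I'.map φ).closure).comap φ := h4
    rw [hcomap I' hI'] at h6
    exact h6
  have hadic : IsAdic 𝔞 := Groth.Agent.S10163.result A 𝔞 h𝔞fg hAopen hAbasis
  exact ⟨⟨⟨𝔞, hadic⟩, inferInstance, inferInstance⟩, 𝔞,
    Groth.Agent.Helper15.isIdealOfDefinition_of_isAdic hadic, h𝔞fg⟩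

end Groth.Agent.S10170
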