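import Groth.Statements.S10171

set_option autoImplicit false
universe u v
open LinTop

namespace Groth.Agent.S10171

open UniformSpace Topology in
/-- Let M be a linearly topologized module over a ring R and N a submodule. Write M^ for the separated
completion of M and (M/N)^ for that of M/N (quotient topology, additive uniform structure). Then the
kernel of the induced map M^ → (M/N)^ is the closure of the image of N in M^; that closure is the
completion of N, so this is the exactness of 0 → N^ → M^ → (M/N)^ at M^. -/
theorem result
    {R : Type u} [Ring R] {M : Type v} [AddCommGroup M] [Module R M] [UniformSpace M]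
    [IsUniformAddGroup M] [IsLinearTopology R M] (N : Submodule R M) :
    (@UniformSpace.Completion.map M _ (M ⧸ N.toAddSubgroup)
        (IsTopologicalAddGroup.rightUniformSpace (M ⧸ N.toAddSubgroup))
        (QuotientAddGroup.mk' N.toAddSubgroup)) ⁻¹' {0} =
      closure (Set.range (fun n : N => ((n : M) : UniformSpace.Completion M))) := by
  let _ : UniformSpace (M ⧸ N.toAddSubgroup) :=
    IsTopologicalAddGroup.rightUniformSpace (M ⧸ N.toAddSubgroup)
  have : IsUniformAddGroup (M ⧸ N.toAddSubgroup) := isUniformAddGroup_of_addCommGroup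
  set π : M →+ M ⧸ N.toAddSubgroup := QuotientAddGroup.mk' N.toAddSubgroup with hπ
  have hπc : Continuous π := QuotientAddGroup.continuous_mk
  set F : Completion M →+ Completion (M ⧸ N.toAddSubgroup) :=
    AddMonoidHom.completion π hπc with hF
  have hFc : Continuous F := AddMonoidHom.continuous_completion π hπc
  have hFcoe : ∀ m : M, F (m : Completion M) = ((π m : M ⧸ N.toAddSubgroup) :
      Completion (M ⧸ N.toAddSubgroup)) := fun m => AddMonoidHom.completion_coe π hπc m
  change (F : Completion M → Completion (M ⧸ N.toAddSubgroup)) ⁻¹' {0} = _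
  apply Set.Subset.antisymm
  · -- kernel ⊆ closure
    intro x hx
    have hx0 : F x = 0 := hx
    rw [mem_closure_iff_nhds]
    intro W' hW'
    -- W = {y | y + x ∈ W'} is a nbhd of 0
    have hW : {y : Completion M | y + x ∈ W'} ∈ 𝓝 (0 : Completion M) := by
      have hc : ContinuousAt (fun y : Completion M => y + x) 0 := by fun_prop
      exact hc.preimage_mem_nhds (by simpa using hW')
    -- closed nbhd V ⊆ W
    obtain ⟨V, hV0, hVcl, hVW⟩ := exists_mem_nhds_isClosed_subset hW
    -- open submodule U of M with ι U ⊆ V
    have hVM : ((↑) : M → Completion M) ⁻¹' V ∈ 𝓝 (0 : M) := by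
      have hc : ContinuousAt ((↑) : M → Completion M) 0 :=
        (Completion.continuous_coe M).continuousAt
      exact hc.preimage_mem_nhds (by rwa [Completion.coe_zero])
    obtain ⟨U, hU0, hUV⟩ := (IsLinearTopology.hasBasis_submodule R (M := M)).mem_iff.mp hVM
    -- Û = closure (ι U)
    set Uhat : AddSubgroup (Completion M) :=
      (U.toAddSubgroup.map (Completion.toCompl : M →+ Completion M)).topologicalClosure with hUhat
    have hUhatV : (Uhat : Set (Completion M)) ⊆ V := by
      rw [hUhat, AddSubgroup.topologicalClosure_coe]
      refine closure_minimal ?_ hVcl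
      rintro _ ⟨u, hu, rfl⟩
      exact hUV hu
    have hUhat0 : (Uhat : Set (Completion M)) ∈ 𝓝 (0 : Completion M) := by
      rw [hUhat, AddSubgroup.topologicalClosure_coe]
      have := (Completion.isDenseInducing_coe (α := M)).closure_image_mem_nhds hU0
      rw [Completion.coe_zero] at this
      convert this using 2
      rfl
    -- pick m with ι m - x ∈ Û
    have hnx : {y : Completion M | y - x ∈ Uhat} ∈ 𝓝 x := by
      have hc : ContinuousAt (fun y : Completion M => y - x) x := by fun_prop
      exact hc.preimage_mem_nhds (by simpa using hUhat0)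
    obtain ⟨m, hm⟩ := Completion.denseRange_coe.mem_nhds hnx
    have hm' : (m : Completion M) - x ∈ Uhat := hm
    -- F (ι m - x) = ι (π m)
    have hFm : F ((m : Completion M) - x) = ((π m : M ⧸ N.toAddSubgroup) :
        Completion (M ⧸ N.toAddSubgroup)) := by
      rw [map_sub, hx0, sub_zero, hFcoe]
    -- F Û ⊆ closure (ι_Q (π U))
    have hmem : ((π m : M ⧸ N.toAddSubgroup) : Completion (M ⧸ N.toAddSubgroup)) ∈
        closure (((↑) : M ⧸ N.toAddSubgroup → Completion (M ⧸ N.toAddSubgroup)) ''
          (π '' (U : Set M))) := by
      rw [← hFm]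
      have h1 : F ((m : Completion M) - x) ∈ F '' (Uhat : Set (Completion M)) :=
        ⟨_, hm', rfl⟩
      rw [hUhat, AddSubgroup.topologicalClosure_coe] at h1
      have h2 := image_closure_subset_closure_image hFc h1
      refine closure_mono ?_ h2
      rintro _ ⟨_, ⟨u, hu, rfl⟩, rfl⟩
      exact ⟨π u, ⟨u, hu, rfl⟩, (hFcoe u).symm⟩
    have hind : IsInducing ((↑) : M ⧸ N.toAddSubgroup → Completion (M ⧸ N.toAddSubgroup)) :=
      (Completion.isUniformInducing_coe _).isInducing
    have hmem2 : π m ∈ closure (π '' (U : Set M)) := by
      rw [hind.closure_eq_preimage_closure_image]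
      exact hmem
    -- π U is an open subgroup, hence closed
    have hUopen : IsOpen (U : Set M) := by
      have : IsOpen ((U.toAddSubgroup : AddSubgroup M) : Set M) :=
        AddSubgroup.isOpen_of_mem_nhds _ hU0
      exact this
    have hπUopen : IsOpen (((U.toAddSubgroup).map π : AddSubgroup (M ⧸ N.toAddSubgroup)) :
        Set (M ⧸ N.toAddSubgroup)) := by
      rw [AddSubgroup.coe_map]
      exact QuotientAddGroup.isOpenMap_coe _ hUopen
    have hπUclosed := AddSubgroup.isClosed_of_isOpen _ hπUopen
    have hmem3 : π m ∈ π '' (U : Set M) := by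
      have : closure (π '' (U : Set M)) = π '' (U : Set M) := by
        have h := hπUclosed.closure_eq
        rw [AddSubgroup.coe_map] at h
        exact h
      rwa [this] at hmem2
    obtain ⟨u, hu, hum⟩ := hmem3
    have hn : m - u ∈ N := by
      have : π (m - u) = 0 := by rw [map_sub, hum, sub_self]
      exact (QuotientAddGroup.eq_zero_iff _).mp this
    refine ⟨((m - u : M) : Completion M), ?_, ⟨⟨m - u, hn⟩, rfl⟩⟩
    have hu' : (u : Completion M) ∈ Uhat :=
      AddSubgroup.le_topologicalClosure _ ⟨u, hu, rfl⟩
    have h3 : ((m - u : M) : Completion M) - x ∈ Uhat := by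
      have : ((m - u : M) : Completion M) - x = ((m : Completion M) - x) - (u : Completion M) := by
        rw [Completion.coe_sub]; abel
      rw [this]
      exact Uhat.sub_mem hm' hu'
    have h4 := hVW (hUhatV h3)
    simpa using h4
  · -- closure ⊆ kernel
    have hcl : IsClosed ((F : Completion M → Completion (M ⧸ N.toAddSubgroup)) ⁻¹' {0}) :=
      isClosed_singleton.preimage hFc
    refine closure_minimal ?_ hcl
    rintro _ ⟨n, rfl⟩
    change F ((n : M) : Completion M) = 0
    rw [hFcoe]
    have : π (n : M) = 0 := (QuotientAddGroup.eq_zero_iff _).mpr n.2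
    rw [this, Completion.coe_zero]

end Groth.Agent.S10171
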