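import Groth.Statements.S10172
import Mathlib.Topology.Algebra.InfiniteSum.Nonarchimedean
import Mathlib.Topology.Algebra.Nonarchimedean.Completion

set_option autoImplicit false
universe u v
open LinTop

namespace Groth.Agent.S10172

open UniformSpace Topology Filter

section
variable {R : Type u} [Ring R] {M : Type v} [AddCommGroup M] [Module R M] [UniformSpace M]
    [IsUniformAddGroup M] [IsLinearTopology R M]

theorem nonarchimedeanAddGroup_of_isLinearTopology (R : Type u) [Ring R] {M : Type v}
    [AddCommGroup M] [Module R M] [UniformSpace M] [IsUniformAddGroup M] [IsLinearTopology R M] :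
    NonarchimedeanAddGroup M where
  is_nonarchimedean := by
    intro U hU
    obtain ⟨K, hK, hKU⟩ := (IsLinearTopology.hasBasis_submodule R (M := M)).mem_iff.1 hU
    exact ⟨⟨K.toAddSubgroup, AddSubgroup.isOpen_of_mem_nhds _ hK⟩, hKU⟩

/-- The uniform structure on the quotient. -/
@[reducible] def quotUniform (N : Submodule R M) : UniformSpace (M ⧸ N.toAddSubgroup) :=
  IsTopologicalAddGroup.rightUniformSpace (M ⧸ N.toAddSubgroup)

attribute [local instance] quotUniform

instance (N : Submodule R M) : IsUniformAddGroup (M ⧸ N.toAddSubgroup) :=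
  isUniformAddGroup_of_addCommGroup

/-- Key claim: the image of the closure of an open submodule `U` contains the closure of the
image of `U` in the completion of the quotient (first countable case). -/
theorem key (hc : (nhds (0 : M)).IsCountablyGenerated) (N : Submodule R M)
    (F : Completion M →+ Completion (M ⧸ N.toAddSubgroup)) (hFc : Continuous F)
    (hFcoe : ∀ m : M, F (m : Completion M) =
      ((QuotientAddGroup.mk' N.toAddSubgroup m : M ⧸ N.toAddSubgroup) :
        Completion (M ⧸ N.toAddSubgroup)))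
    (U : Submodule R M) (hU : (U : Set M) ∈ 𝓝 (0 : M)) :
    closure (((↑) : M ⧸ N.toAddSubgroup → Completion (M ⧸ N.toAddSubgroup)) ''
      (QuotientAddGroup.mk' N.toAddSubgroup '' (U : Set M))) ⊆
      F '' closure (((↑) : M → Completion M) '' (U : Set M)) := by
  have : NonarchimedeanAddGroup M := nonarchimedeanAddGroup_of_isLinearTopology R
  set π : M →+ M ⧸ N.toAddSubgroup := QuotientAddGroup.mk' N.toAddSubgroup with hπ
  set ιQ : M ⧸ N.toAddSubgroup → Completion (M ⧸ N.toAddSubgroup) := (↑) with hιQ
  -- antitone basis of open submodules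
  obtain ⟨B, hB0, hBanti⟩ :=
    (IsLinearTopology.hasBasis_submodule R (M := M)).exists_antitone_subbasis
  let Un : ℕ → Submodule R M := fun n => U ⊓ B n
  have hUn0 : ∀ n, ((Un n : Submodule R M) : Set M) ∈ 𝓝 (0 : M) := fun n => by
    change ((U : Set M) ∩ (B n : Set M)) ∈ 𝓝 (0 : M)
    exact Filter.inter_mem hU (hB0 n)
  have hUnU : ∀ n, Un n ≤ U := fun n => inf_le_left
  have hUnanti : Antitone Un := fun a b hab => inf_le_inf_left U (hBanti.antitone hab)
  have hUnbasis : ∀ W ∈ 𝓝 (0 : M), ∃ n, ((Un n : Submodule R M) : Set M) ⊆ W := by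
    intro W hW
    obtain ⟨n, -, hn⟩ := hBanti.toHasBasis.mem_iff.1 hW
    exact ⟨n, fun x hx => hn hx.2⟩
  -- π is open (w.r.t. the uniform topology on the quotient)
  have hπopen : ∀ S : Set M, S ∈ 𝓝 (0 : M) → π '' S ∈ 𝓝 (0 : M ⧸ N.toAddSubgroup) := by
    intro S hS
    exact (QuotientAddGroup.isOpenMap_coe (N := N.toAddSubgroup)).image_mem_nhds hS
  have hπc : Continuous π := QuotientAddGroup.continuous_mk
  let V : ℕ → Set (Completion (M ⧸ N.toAddSubgroup)) := fun n =>
    closure (ιQ '' (π '' (Un n : Set M)))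
  have hV0 : ∀ n, V n ∈ 𝓝 (0 : Completion (M ⧸ N.toAddSubgroup)) := by
    intro n
    have := (Completion.isDenseInducing_coe (α := M ⧸ N.toAddSubgroup)).closure_image_mem_nhds
      (hπopen _ (hUn0 n))
    rwa [Completion.coe_zero] at this
  have hVanti : ∀ {m n}, m ≤ n → V n ⊆ V m := fun {m n} hmn =>
    closure_mono (Set.image_mono (Set.image_mono (hUnanti hmn)))
  have hVsmall : ∀ W ∈ 𝓝 (0 : Completion (M ⧸ N.toAddSubgroup)), ∃ n, V n ⊆ W := by
    intro W hW
    obtain ⟨W', hW'0, hW'cl, hW'W⟩ := exists_mem_nhds_isClosed_subset hW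
    have h1 : (fun m : M => ιQ (π m)) ⁻¹' W' ∈ 𝓝 (0 : M) := by
      have hc : ContinuousAt (fun m : M => ιQ (π m)) 0 :=
        ((Completion.continuous_coe _).comp hπc).continuousAt
      refine hc.preimage_mem_nhds ?_
      have h0 : ιQ (π 0) = 0 := by rw [map_zero, hιQ, Completion.coe_zero]
      rw [h0]; exact hW'0
    obtain ⟨n, hn⟩ := hUnbasis _ h1
    refine ⟨n, subset_trans (closure_minimal ?_ hW'cl) hW'W⟩
    rintro _ ⟨_, ⟨u, hu, rfl⟩, rfl⟩
    exact hn hu
  intro y hy
  -- predicate on partial sums
  let P : ℕ → M → Prop := fun n s => s ∈ U ∧ y - ιQ (π s) ∈ V n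
  have base : ∃ s, P 0 s := by
    have hnb : {z | y - z ∈ V 0} ∈ 𝓝 y := by
      have hc : ContinuousAt (fun z : Completion (M ⧸ N.toAddSubgroup) => y - z) y := by fun_prop
      exact hc.preimage_mem_nhds (by simpa using hV0 0)
    obtain ⟨z, hz1, hz2⟩ := mem_closure_iff_nhds.1 hy _ hnb
    obtain ⟨_, ⟨s, hs, rfl⟩, rfl⟩ := hz2
    exact ⟨s, hs, hz1⟩
  have step : ∀ n (s : {s : M // P n s}), ∃ s' : {s : M // P (n + 1) s}, s'.1 - s.1 ∈ Un n := by
    rintro n ⟨s, hsU, hsV⟩
    set z := y - ιQ (π s) with hz
    have hnb : {w | z - w ∈ V (n + 1)} ∈ 𝓝 z := by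
      have hc : ContinuousAt (fun w : Completion (M ⧸ N.toAddSubgroup) => z - w) z := by fun_prop
      exact hc.preimage_mem_nhds (by simpa using hV0 (n + 1))
    obtain ⟨w, hw1, hw2⟩ := mem_closure_iff_nhds.1 hsV _ hnb
    obtain ⟨_, ⟨u, hu, rfl⟩, rfl⟩ := hw2
    refine ⟨⟨s + u, U.add_mem hsU (hUnU n hu), ?_⟩, by simpa using hu⟩
    have : y - ιQ (π (s + u)) = z - ιQ (π u) := by
      rw [hz, map_add, hιQ, Completion.coe_add]; abel
    rw [this]
    exact hw1
  choose f hf using step
  obtain ⟨s0, hs0⟩ := base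
  let S : ∀ n, {s : M // P n s} := fun n => Nat.rec ⟨s0, hs0⟩ (fun n s => f n s) n
  have hSsucc : ∀ n, S (n + 1) = f n (S n) := fun n => rfl
  let s : ℕ → M := fun n => (S n).1
  have hsP : ∀ n, P n (s n) := fun n => (S n).2
  have hdiff : ∀ n, s (n + 1) - s n ∈ Un n := fun n => by
    change (S (n + 1)).1 - (S n).1 ∈ Un n
    rw [hSsucc]; exact hf n (S n)
  -- the series of differences converges in the completion
  have htend0 : Tendsto (fun n => ((s (n + 1) - s n : M) : Completion M)) atTop (𝓝 0) := by
    have h1 : Tendsto (fun n => s (n + 1) - s n) atTop (𝓝 (0 : M)) := by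
      intro W hW
      obtain ⟨n, hn⟩ := hUnbasis W hW
      rw [Filter.mem_map, Filter.mem_atTop_sets]
      exact ⟨n, fun k hk => hn (hUnanti hk (hdiff k))⟩
    have := ((Completion.continuous_coe M).tendsto 0).comp h1
    rwa [Completion.coe_zero] at this
  have hsum : Summable (fun n => ((s (n + 1) - s n : M) : Completion M)) := by
    apply NonarchimedeanAddGroup.summable_of_tendsto_cofinite_zero
    rw [Nat.cofinite_eq_atTop]
    exact htend0
  set x : Completion M := (s 0 : Completion M) + ∑' n, ((s (n + 1) - s n : M) : Completion M)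
    with hx
  have hpart : ∀ n, ∑ i ∈ Finset.range n, ((s (i + 1) - s i : M) : Completion M) =
      (s n : Completion M) - (s 0 : Completion M) := by
    intro n
    have : ∀ i, ((s (i + 1) - s i : M) : Completion M) =
        (fun j => (s j : Completion M)) (i + 1) - (fun j => (s j : Completion M)) i := by
      intro i; simp [Completion.coe_sub]
    simp_rw [this]
    exact Finset.sum_range_sub (fun j => (s j : Completion M)) n
  have hslim : Tendsto (fun n => (s n : Completion M)) atTop (𝓝 x) := by
    have h1 := hsum.hasSum.tendsto_sum_nat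
    have h2 : Tendsto (fun n => (s 0 : Completion M) +
        ∑ i ∈ Finset.range n, ((s (i + 1) - s i : M) : Completion M)) atTop (𝓝 x) :=
      tendsto_const_nhds.add h1
    refine h2.congr (fun n => ?_)
    rw [hpart]; abel
  refine ⟨x, ?_, ?_⟩
  · exact mem_closure_of_tendsto hslim (Filter.Eventually.of_forall
      (fun n => ⟨s n, (hsP n).1, rfl⟩))
  · -- F x = y by uniqueness of limits
    have hF1 : Tendsto (fun n => F (s n : Completion M)) atTop (𝓝 (F x)) :=
      (hFc.tendsto x).comp hslim
    have hF2 : Tendsto (fun n => F (s n : Completion M)) atTop (𝓝 y) := by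
      have h0 : Tendsto (fun n => y - ιQ (π (s n))) atTop (𝓝 0) := by
        intro W hW
        obtain ⟨n, hn⟩ := hVsmall W hW
        rw [Filter.mem_map, Filter.mem_atTop_sets]
        exact ⟨n, fun k hk => hn (hVanti hk (hsP k).2)⟩
      have h1 : Tendsto (fun n => y - (y - ιQ (π (s n)))) atTop (𝓝 (y - 0)) :=
        tendsto_const_nhds.sub h0
      rw [sub_zero] at h1
      refine h1.congr (fun n => ?_)
      rw [hFcoe]; abel
    exact tendsto_nhds_unique hF1 hF2

end

/-- Let M be a linearly topologized module over a ring R having a countable fundamental system of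
neighbourhoods of 0, and N a submodule. With M^ and (M/N)^ the separated completions of M and of M/N
(quotient topology, additive uniform structure), the induced map M^ → (M/N)^ is surjective and open
(so, its kernel being the completion of N, the sequence 0 → N^ → M^ → (M/N)^ → 0 is exact). -/
theorem result
    {R : Type u} [Ring R] {M : Type v} [AddCommGroup M] [Module R M] [UniformSpace M]
    [IsUniformAddGroup M] [IsLinearTopology R M] (hc : (nhds (0 : M)).IsCountablyGenerated)
    (N : Submodule R M) :
    Function.Surjective (@UniformSpace.Completion.map M _ (M ⧸ N.toAddSubgroup)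
        (IsTopologicalAddGroup.rightUniformSpace (M ⧸ N.toAddSubgroup))
        (QuotientAddGroup.mk' N.toAddSubgroup)) ∧
      IsOpenMap (@UniformSpace.Completion.map M _ (M ⧸ N.toAddSubgroup)
        (IsTopologicalAddGroup.rightUniformSpace (M ⧸ N.toAddSubgroup))
        (QuotientAddGroup.mk' N.toAddSubgroup)) := by
  let _ : UniformSpace (M ⧸ N.toAddSubgroup) := quotUniform N
  set π : M →+ M ⧸ N.toAddSubgroup := QuotientAddGroup.mk' N.toAddSubgroup with hπ
  have hπc : Continuous π := QuotientAddGroup.continuous_mk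
  set F : Completion M →+ Completion (M ⧸ N.toAddSubgroup) :=
    AddMonoidHom.completion π hπc with hF
  have hFc : Continuous F := AddMonoidHom.continuous_completion π hπc
  have hFcoe : ∀ m : M, F (m : Completion M) = ((π m : M ⧸ N.toAddSubgroup) :
      Completion (M ⧸ N.toAddSubgroup)) := fun m => AddMonoidHom.completion_coe π hπc m
  change Function.Surjective (F : Completion M → Completion (M ⧸ N.toAddSubgroup)) ∧
    IsOpenMap (F : Completion M → Completion (M ⧸ N.toAddSubgroup))
  have hπopen : ∀ S : Set M, S ∈ 𝓝 (0 : M) → π '' S ∈ 𝓝 (0 : M ⧸ N.toAddSubgroup) := by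
    intro S hS
    exact (QuotientAddGroup.isOpenMap_coe (N := N.toAddSubgroup)).image_mem_nhds hS
  have hnhds : ∀ W : Set (Completion (M ⧸ N.toAddSubgroup)),
      (F : Completion M → Completion (M ⧸ N.toAddSubgroup)) ⁻¹' W ∈ 𝓝 (0 : Completion M) →
      W ∈ 𝓝 (0 : Completion (M ⧸ N.toAddSubgroup)) := by
    intro W hW
    obtain ⟨V, hV0, hVcl, hVW⟩ := exists_mem_nhds_isClosed_subset hW
    have hVM : ((↑) : M → Completion M) ⁻¹' V ∈ 𝓝 (0 : M) := by
      have hc : ContinuousAt ((↑) : M → Completion M) 0 :=
        (Completion.continuous_coe M).continuousAt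
      exact hc.preimage_mem_nhds (by rwa [Completion.coe_zero])
    obtain ⟨U, hU0, hUV⟩ := (IsLinearTopology.hasBasis_submodule R (M := M)).mem_iff.mp hVM
    have hcl : closure (((↑) : M → Completion M) '' (U : Set M)) ⊆ V := by
      refine closure_minimal ?_ hVcl
      rintro _ ⟨u, hu, rfl⟩
      exact hUV hu
    have h1 := key hc N F hFc hFcoe U hU0
    have h2 : closure (((↑) : M ⧸ N.toAddSubgroup → Completion (M ⧸ N.toAddSubgroup)) ''
        (π '' (U : Set M))) ∈ 𝓝 (0 : Completion (M ⧸ N.toAddSubgroup)) := by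
      have := (Completion.isDenseInducing_coe (α := M ⧸ N.toAddSubgroup)).closure_image_mem_nhds
        (hπopen _ hU0)
      rwa [Completion.coe_zero] at this
    refine Filter.mem_of_superset h2 (h1.trans ?_)
    rintro _ ⟨x, hx, rfl⟩
    exact hVW (hcl hx)
  have hopen : IsOpenMap (F : Completion M → Completion (M ⧸ N.toAddSubgroup)) := by
    rw [IsTopologicalAddGroup.isOpenMap_iff_nhds_zero]
    intro W hW
    exact hnhds W hW
  refine ⟨?_, hopen⟩
  -- range of F is an open subgroup, hence closed, and dense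
  have hrange0 : (F.range : Set (Completion (M ⧸ N.toAddSubgroup))) ∈
      𝓝 (0 : Completion (M ⧸ N.toAddSubgroup)) := by
    apply hnhds
    have : (F : Completion M → Completion (M ⧸ N.toAddSubgroup)) ⁻¹'
        (F.range : Set (Completion (M ⧸ N.toAddSubgroup))) = Set.univ := by
      ext x; simp
    rw [this]; exact Filter.univ_mem
  have hrangeopen : IsOpen (F.range : Set (Completion (M ⧸ N.toAddSubgroup))) :=
    AddSubgroup.isOpen_of_mem_nhds _ hrange0
  have hrangeclosed : IsClosed (F.range : Set (Completion (M ⧸ N.toAddSubgroup))) :=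
    AddSubgroup.isClosed_of_isOpen _ hrangeopen
  have hdense : Dense (F.range : Set (Completion (M ⧸ N.toAddSubgroup))) := by
    refine (Completion.denseRange_coe (α := M ⧸ N.toAddSubgroup)).mono ?_
    rintro _ ⟨q, rfl⟩
    obtain ⟨m, rfl⟩ := QuotientAddGroup.mk'_surjective N.toAddSubgroup q
    exact ⟨(m : Completion M), hFcoe m⟩
  intro y
  have : y ∈ (F.range : Set (Completion (M ⧸ N.toAddSubgroup))) := by
    rw [← hrangeclosed.closure_eq]; exact hdense y
  exact this

end Groth.Agent.S10172
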