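import Groth.Statements.S10173
import Mathlib.Topology.Algebra.InfiniteSum.Nonarchimedean
import Mathlib.Topology.Algebra.Nonarchimedean.Completion
import Mathlib.RingTheory.Finiteness.Ideal

set_option autoImplicit false
universe u v
open LinTop

namespace Groth.Agent.S10173

open UniformSpace Topology Filter

section
variable {R : Type u} [CommRing R] {M : Type v} [AddCommGroup M] [Module R M] [UniformSpace M]
  [IsUniformAddGroup M] [UniformContinuousConstSMul R M]

/-- The canonical linear map to the completion. -/
noncomputable def ιL : M →ₗ[R] Completion M where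
  toFun := (↑)
  map_add' := Completion.coe_add
  map_smul' := fun c m => Completion.coe_smul c m

@[simp] theorem ιL_apply (m : M) : (ιL (R := R) m : Completion M) = (m : Completion M) := rfl

/-- closure of the image of a submodule in the completion -/
noncomputable def cl (P : Submodule R M) : Submodule R (Completion M) :=
  (P.map (ιL (R := R))).topologicalClosure

theorem coe_cl (P : Submodule R M) :
    ((cl P : Submodule R (Completion M)) : Set (Completion M)) =
      closure (((↑) : M → Completion M) '' (P : Set M)) := by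
  rw [cl, Submodule.topologicalClosure_coe]
  rfl

theorem mem_cl_of_mem {P : Submodule R M} {m : M} (hm : m ∈ P) :
    (m : Completion M) ∈ cl P := by
  have : (m : Completion M) ∈ ((cl P : Submodule R (Completion M)) : Set (Completion M)) := by
    rw [coe_cl]; exact subset_closure ⟨m, hm, rfl⟩
  exact this

theorem cl_mono {P Q : Submodule R M} (h : P ≤ Q) : cl P ≤ cl Q := by
  intro x hx
  have hx' : x ∈ ((cl P : Submodule R (Completion M)) : Set (Completion M)) := hx
  rw [coe_cl] at hx'
  have : x ∈ ((cl Q : Submodule R (Completion M)) : Set (Completion M)) := by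
    rw [coe_cl]; exact closure_mono (Set.image_mono h) hx'
  exact this

theorem cl_mem_nhds {P : Submodule R M} (hP : (P : Set M) ∈ 𝓝 (0 : M)) :
    ((cl P : Submodule R (Completion M)) : Set (Completion M)) ∈ 𝓝 (0 : Completion M) := by
  rw [coe_cl]
  have := (Completion.isDenseInducing_coe (α := M)).closure_image_mem_nhds hP
  rwa [Completion.coe_zero] at this

theorem isOpen_cl {P : Submodule R M} (hP : (P : Set M) ∈ 𝓝 (0 : M)) :
    IsOpen ((cl P : Submodule R (Completion M)) : Set (Completion M)) :=
  AddSubgroup.isOpen_of_mem_nhds (cl P).toAddSubgroup (cl_mem_nhds hP)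

/-- approximation: every element of the completion is congruent to an element of `M` modulo
the closure of an open submodule -/
theorem exists_sub_mem_cl {P : Submodule R M} (hP : (P : Set M) ∈ 𝓝 (0 : M))
    (z : Completion M) : ∃ m : M, z - (m : Completion M) ∈ cl P := by
  have hnb : {w : Completion M | z - w ∈ cl P} ∈ 𝓝 z := by
    have hc : ContinuousAt (fun w : Completion M => z - w) z := by fun_prop
    exact hc.preimage_mem_nhds (by simpa using cl_mem_nhds hP)
  obtain ⟨m, hm⟩ := Completion.denseRange_coe.mem_nhds hnb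
  exact ⟨m, hm⟩

/-- approximation inside the closure -/
theorem exists_mem_sub_mem_cl {P Q : Submodule R M} (hQ : (Q : Set M) ∈ 𝓝 (0 : M))
    (z : Completion M) (hz : z ∈ cl P) : ∃ m ∈ P, z - (m : Completion M) ∈ cl Q := by
  have hnb : {w : Completion M | z - w ∈ cl Q} ∈ 𝓝 z := by
    have hc : ContinuousAt (fun w : Completion M => z - w) z := by fun_prop
    exact hc.preimage_mem_nhds (by simpa using cl_mem_nhds hQ)
  have hz' : z ∈ ((cl P : Submodule R (Completion M)) : Set (Completion M)) := hz
  rw [coe_cl] at hz'
  obtain ⟨w, hw1, hw2⟩ := mem_closure_iff_nhds.1 hz' _ hnb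
  obtain ⟨m, hm, rfl⟩ := hw2
  exact ⟨m, hm, hw1⟩

theorem mem_of_coe_mem_cl {P : Submodule R M} (hP : IsOpen (P : Set M)) {m : M}
    (hm : (m : Completion M) ∈ cl P) : m ∈ P := by
  have hm' : (m : Completion M) ∈ ((cl P : Submodule R (Completion M)) : Set (Completion M)) := hm
  rw [coe_cl] at hm'
  have hind : IsInducing ((↑) : M → Completion M) :=
    (Completion.isUniformInducing_coe _).isInducing
  have h2 : m ∈ closure (P : Set M) := by
    rw [hind.closure_eq_preimage_closure_image]; exact hm'
  have hcl : IsClosed (P : Set M) := AddSubgroup.isClosed_of_isOpen P.toAddSubgroup hP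
  rwa [hcl.closure_eq] at h2

theorem smul_cl_le (J : Ideal R) (P : Submodule R M) : J • cl P ≤ cl (J • P) := by
  rw [Submodule.smul_le]
  intro a ha x hx
  have hx' : x ∈ ((cl P : Submodule R (Completion M)) : Set (Completion M)) := hx
  rw [coe_cl] at hx'
  have : a • x ∈ ((cl (J • P) : Submodule R (Completion M)) : Set (Completion M)) := by
    rw [coe_cl]
    have hmaps : Set.MapsTo (fun y : Completion M => a • y)
        (((↑) : M → Completion M) '' (P : Set M))
        (((↑) : M → Completion M) '' ((J • P : Submodule R M) : Set M)) := by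
      rintro _ ⟨m, hm, rfl⟩
      refine ⟨a • m, Submodule.smul_mem_smul ha hm, ?_⟩
      exact Completion.coe_smul a m
    exact map_mem_closure (continuous_const_smul a) hx' hmaps
  exact this

/-- elements of `span (range g) • P` are combinations `∑ g j • c j` with `c j ∈ P` -/
theorem exists_sum_of_mem_span_smul {N : Type*} [AddCommGroup N] [Module R N] {s : ℕ}
    (g : Fin s → R) (P : Submodule R N) (x : N)
    (hx : x ∈ (Ideal.span (Set.range g)) • P) :
    ∃ c : Fin s → N, (∀ j, c j ∈ P) ∧ x = ∑ j, g j • c j := by
  refine Submodule.smul_induction_on hx ?_ ?_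
  · intro r hr m hm
    obtain ⟨a, rfl⟩ := (Submodule.mem_span_range_iff_exists_fun R).1 hr
    refine ⟨fun j => a j • m, fun j => P.smul_mem _ hm, ?_⟩
    rw [Finset.sum_smul]
    refine Finset.sum_congr rfl (fun j _ => ?_)
    simp only [smul_eq_mul]
    rw [mul_smul, smul_comm]
  · rintro x y ⟨c, hc, rfl⟩ ⟨d, hd, rfl⟩
    refine ⟨fun j => c j + d j, fun j => P.add_mem (hc j) (hd j), ?_⟩
    rw [← Finset.sum_add_distrib]
    simp [smul_add]


section key
variable (I : Ideal R) (M' : Submodule R M)

theorem smul_pow_anti {a b : ℕ} (h : a ≤ b) : I ^ b • M' ≤ I ^ a • M' :=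
  Submodule.smul_mono_left (Ideal.pow_le_pow_right h)

theorem smul_pow_le (a : ℕ) : I ^ a • M' ≤ M' := Submodule.smul_le_right

variable (hopen : ∀ n : ℕ, IsOpen ((I ^ n • M' : Submodule R M) : Set M))
  (hbasis : ∀ U ∈ nhds (0 : M), ∃ n : ℕ, ((I ^ n • M' : Submodule R M) : Set M) ⊆ U)

include hopen in
theorem P_mem_nhds (k : ℕ) : ((I ^ k • M' : Submodule R M) : Set M) ∈ 𝓝 (0 : M) :=
  (hopen k).mem_nhds (zero_mem _)

include hopen hbasis in
theorem nonarch : NonarchimedeanAddGroup M where
  is_nonarchimedean := by
    intro U hU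
    obtain ⟨k, hk⟩ := hbasis U hU
    exact ⟨⟨(I ^ k • M').toAddSubgroup, hopen k⟩, hk⟩

include hbasis in
theorem cl_basis (W : Set (Completion M)) (hW : W ∈ 𝓝 (0 : Completion M)) :
    ∃ k, ((cl (I ^ k • M') : Submodule R (Completion M)) : Set (Completion M)) ⊆ W := by
  obtain ⟨V, hV0, hVcl, hVW⟩ := exists_mem_nhds_isClosed_subset hW
  have hVM : ((↑) : M → Completion M) ⁻¹' V ∈ 𝓝 (0 : M) := by
    have hc : ContinuousAt ((↑) : M → Completion M) 0 :=
      (Completion.continuous_coe M).continuousAt
    exact hc.preimage_mem_nhds (by rwa [Completion.coe_zero])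
  obtain ⟨k, hk⟩ := hbasis _ hVM
  refine ⟨k, subset_trans ?_ hVW⟩
  rw [coe_cl]
  refine closure_minimal ?_ hVcl
  rintro _ ⟨u, hu, rfl⟩
  exact hk hu

include hbasis in
theorem tendsto_zero_of_mem_cl (z : ℕ → Completion M) (a : ℕ)
    (hz : ∀ k, z k ∈ cl (I ^ (a + k) • M')) : Tendsto z atTop (𝓝 0) := by
  intro W hW
  obtain ⟨m, hm⟩ := cl_basis I M' hbasis W hW
  rw [Filter.mem_map, Filter.mem_atTop_sets]
  refine ⟨m, fun k hk => hm ?_⟩
  exact cl_mono (smul_pow_anti I M' (by omega)) (hz k)

include hopen hbasis in
theorem cl_smul_le (hI : I.FG) (n : ℕ) : cl (I ^ n • M') ≤ I ^ n • cl M' := by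
  have hP0 := P_mem_nhds I M' hopen
  have : NonarchimedeanAddGroup M := nonarch I M' hopen hbasis
  obtain ⟨s, g, hg⟩ := Submodule.fg_iff_exists_fin_generating_family.1 (Ideal.FG.pow (n := n) hI)
  have step : ∀ k : ℕ, ∀ y : Completion M, y ∈ cl (I ^ (n + k) • M') →
      ∃ c : Fin s → M, (∀ j, c j ∈ I ^ k • M') ∧
        y - ∑ j, g j • (c j : Completion M) ∈ cl (I ^ (n + k + 1) • M') := by
    intro k y hy
    obtain ⟨p, hp, hyp⟩ := exists_mem_sub_mem_cl (hP0 (n + k + 1)) y hy
    have hp' : p ∈ (Ideal.span (Set.range g)) • (I ^ k • M') := by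
      have : (Ideal.span (Set.range g)) = I ^ n := hg
      rw [this, ← Submodule.mul_smul, ← pow_add]; exact hp
    obtain ⟨c, hc, rfl⟩ := exists_sum_of_mem_span_smul g _ p hp'
    refine ⟨c, hc, ?_⟩
    have : ((∑ j, g j • c j : M) : Completion M) = ∑ j, g j • (c j : Completion M) := by
      rw [← ιL_apply (R := R), map_sum]
      simp
    rw [← this]; exact hyp
  intro x hx
  choose! next hnext using step
  let y : ℕ → Completion M := fun k =>
    Nat.rec x (fun k yk => yk - ∑ j, g j • ((next k yk j : M) : Completion M)) k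
  have hy : ∀ k, y k ∈ cl (I ^ (n + k) • M') := by
    intro k
    induction k with
    | zero => exact hx
    | succ k ih => exact (hnext k (y k) ih).2
  have hc : ∀ k j, next k (y k) j ∈ I ^ k • M' := fun k j => (hnext k (y k) (hy k)).1 j
  have hyc : ∀ k, y (k + 1) = y k - ∑ j, g j • ((next k (y k) j : M) : Completion M) :=
    fun k => rfl
  have htend : ∀ j, Tendsto (fun k => ((next k (y k) j : M) : Completion M)) atTop (𝓝 0) := by
    intro j
    refine tendsto_zero_of_mem_cl I M' hbasis _ 0 (fun k => ?_)
    rw [zero_add]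
    exact mem_cl_of_mem (hc k j)
  have hsum : ∀ j, Summable (fun k => ((next k (y k) j : M) : Completion M)) := by
    intro j
    apply NonarchimedeanAddGroup.summable_of_tendsto_cofinite_zero
    rw [Nat.cofinite_eq_atTop]
    exact htend j
  have hpart : ∀ K, x - y K =
      ∑ j, g j • (∑ k ∈ Finset.range K, ((next k (y k) j : M) : Completion M)) := by
    intro K
    induction K with
    | zero =>
      have : y 0 = x := rfl
      simp [this]
    | succ K ih =>
      rw [hyc]
      have : x - (y K - ∑ j, g j • ((next K (y K) j : M) : Completion M)) =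
          (x - y K) + ∑ j, g j • ((next K (y K) j : M) : Completion M) := by abel
      rw [this, ih, ← Finset.sum_add_distrib]
      refine Finset.sum_congr rfl (fun j _ => ?_)
      rw [Finset.sum_range_succ, smul_add]
  have hy0 : Tendsto y atTop (𝓝 0) := tendsto_zero_of_mem_cl I M' hbasis y n hy
  have hlim1 : Tendsto (fun K => x - y K) atTop (𝓝 x) := by
    have := (tendsto_const_nhds (x := x)).sub hy0
    simpa using this
  have hlim2 : Tendsto (fun K => ∑ j, g j •
      (∑ k ∈ Finset.range K, ((next k (y k) j : M) : Completion M))) atTop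
      (𝓝 (∑ j, g j • ∑' k, ((next k (y k) j : M) : Completion M))) := by
    refine tendsto_finset_sum _ (fun j _ => ?_)
    exact ((hsum j).hasSum.tendsto_sum_nat).const_smul (g j)
  have hx_eq : x = ∑ j, g j • ∑' k, ((next k (y k) j : M) : Completion M) := by
    refine tendsto_nhds_unique hlim1 ?_
    refine hlim2.congr (fun K => ?_)
    rw [hpart]
  rw [hx_eq]
  refine Submodule.sum_mem _ (fun j _ => ?_)
  refine Submodule.smul_mem_smul ?_ ?_
  · rw [← hg]; exact Submodule.subset_span ⟨j, rfl⟩
  · have hclosed : IsClosed ((cl M' : Submodule R (Completion M)) : Set (Completion M)) := by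
      rw [coe_cl]; exact isClosed_closure
    refine hclosed.mem_of_tendsto ((hsum j).hasSum.tendsto_sum_nat)
      (Filter.Eventually.of_forall (fun K => ?_))
    refine Submodule.sum_mem _ (fun k _ => ?_)
    exact mem_cl_of_mem (smul_pow_le I M' k (hc k j))

include hopen hbasis in
theorem cl_smul_eq (hI : I.FG) (n : ℕ) : I ^ n • cl M' = cl (I ^ n • M') :=
  le_antisymm (smul_cl_le _ _) (cl_smul_le I M' hopen hbasis hI n)

end key

end

/-- Let R be a commutative ring, I a finitely generated ideal and M a topological R-module (additive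
uniform structure, each scalar acting uniformly continuously) having an open submodule M' whose
topology is the I-adic one, i.e. the I^n M' are open in M and form a fundamental system of
neighbourhoods of 0. Then the separated completion M^ has an open submodule whose topology is I-adic
in the same sense, and for every n ≥ 1 the map M → M^/I^n M^ is surjective with kernel I^n M,
identifying M^/I^n M^ with M/I^n M. -/
theorem result
    {R : Type u} [CommRing R] (I : Ideal R) (hI : I.FG)
    {M : Type v} [AddCommGroup M] [Module R M] [UniformSpace M] [IsUniformAddGroup M]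
    [UniformContinuousConstSMul R M]
    (M' : Submodule R M) (hopen : ∀ n : ℕ, IsOpen ((I ^ n • M' : Submodule R M) : Set M))
    (hbasis : ∀ U ∈ nhds (0 : M), ∃ n : ℕ, ((I ^ n • M' : Submodule R M) : Set M) ⊆ U) :
    (∃ M'' : Submodule R (UniformSpace.Completion M),
        (∀ n : ℕ, IsOpen ((I ^ n • M'' : Submodule R (UniformSpace.Completion M)) :
          Set (UniformSpace.Completion M))) ∧
        ∀ U ∈ nhds (0 : UniformSpace.Completion M), ∃ n : ℕ,
          ((I ^ n • M'' : Submodule R (UniformSpace.Completion M)) :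
            Set (UniformSpace.Completion M)) ⊆ U) ∧
      ∀ n : ℕ, 0 < n →
        Function.Surjective ((QuotientAddGroup.mk' (I ^ n • ⊤ : Submodule R (UniformSpace.Completion M)).toAddSubgroup).comp
          (UniformSpace.Completion.toCompl : M →+ UniformSpace.Completion M)) ∧
        ((QuotientAddGroup.mk' (I ^ n • ⊤ : Submodule R (UniformSpace.Completion M)).toAddSubgroup).comp
          (UniformSpace.Completion.toCompl : M →+ UniformSpace.Completion M)).ker = (I ^ n • ⊤ : Submodule R M).toAddSubgroup := by
  have hP0 := P_mem_nhds I M' hopen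
  have hkey := cl_smul_eq I M' hopen hbasis hI
  refine ⟨⟨cl M', fun n => ?_, fun U hU => ?_⟩, fun n _ => ⟨?_, ?_⟩⟩
  · rw [hkey]; exact isOpen_cl (hP0 n)
  · obtain ⟨k, hk⟩ := cl_basis I M' hbasis U hU
    exact ⟨k, by rw [hkey]; exact hk⟩
  · -- surjectivity
    intro q
    obtain ⟨z, rfl⟩ := QuotientAddGroup.mk'_surjective _ q
    obtain ⟨m, hm⟩ := exists_sub_mem_cl (hP0 n) z
    refine ⟨m, ?_⟩
    have hle : cl (I ^ n • M') ≤ (I ^ n • ⊤ : Submodule R (Completion M)) := by
      rw [← hkey]; exact Submodule.smul_mono le_rfl le_top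
    have hm' : z - (m : Completion M) ∈ (I ^ n • ⊤ : Submodule R (Completion M)) := hle hm
    change (QuotientAddGroup.mk' _) ((m : Completion M)) = (QuotientAddGroup.mk' _) z
    rw [eq_comm, ← sub_eq_zero, ← map_sub]
    exact (QuotientAddGroup.eq_zero_iff _).2 hm'
  · -- kernel
    ext m
    rw [AddMonoidHom.mem_ker]
    change (QuotientAddGroup.mk' _) ((m : Completion M)) = 0 ↔ m ∈ (I ^ n • ⊤ : Submodule R M)
    rw [QuotientAddGroup.mk'_apply, QuotientAddGroup.eq_zero_iff]
    change (m : Completion M) ∈ (I ^ n • ⊤ : Submodule R (Completion M)) ↔ _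
    constructor
    · intro hm
      obtain ⟨s, g, hg⟩ :=
        Submodule.fg_iff_exists_fin_generating_family.1 (Ideal.FG.pow (n := n) hI)
      have hg' : Ideal.span (Set.range g) = I ^ n := hg
      have hm' : (m : Completion M) ∈
          (Ideal.span (Set.range g)) • (⊤ : Submodule R (Completion M)) := by rwa [hg']
      obtain ⟨x, -, hx⟩ := exists_sum_of_mem_span_smul g _ _ hm'
      choose a ha using fun j => exists_sub_mem_cl (hP0 0) (x j)
      -- m - ∑ g j • a j ∈ I^n • M'
      have h1 : ((m - ∑ j, g j • a j : M) : Completion M) ∈ cl (I ^ n • M') := by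
        have e1 : ((m - ∑ j, g j • a j : M) : Completion M) =
            ∑ j, g j • (x j - (a j : Completion M)) := by
          have : ((∑ j, g j • a j : M) : Completion M) = ∑ j, g j • (a j : Completion M) := by
            rw [← ιL_apply (R := R), map_sum]
            simp
          rw [Completion.coe_sub, this, hx, ← Finset.sum_sub_distrib]
          simp [smul_sub]
        rw [e1, ← hkey]
        refine Submodule.sum_mem _ (fun j _ => ?_)
        refine Submodule.smul_mem_smul ?_ ?_
        · rw [← hg']; exact Submodule.subset_span ⟨j, rfl⟩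
        · have := ha j
          have h0 : I ^ 0 • M' = M' := by simp
          rwa [h0] at this
      have h2 : m - ∑ j, g j • a j ∈ I ^ n • M' := mem_of_coe_mem_cl (hopen n) h1
      have h3 : m - ∑ j, g j • a j ∈ (I ^ n • ⊤ : Submodule R M) :=
        Submodule.smul_mono le_rfl le_top h2
      have h4 : ∑ j, g j • a j ∈ (I ^ n • ⊤ : Submodule R M) := by
        refine Submodule.sum_mem _ (fun j _ => ?_)
        refine Submodule.smul_mem_smul ?_ Submodule.mem_top
        rw [← hg']; exact Submodule.subset_span ⟨j, rfl⟩
      have := Submodule.add_mem _ h3 h4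
      simpa using this
    · intro hm
      have h1 : (ιL (R := R) m) ∈ (I ^ n • ⊤ : Submodule R M).map (ιL (R := R)) :=
        Submodule.mem_map_of_mem hm
      rw [Submodule.map_smul''] at h1
      exact Submodule.smul_mono le_rfl le_top h1

end Groth.Agent.S10173
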