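import Groth.Statements.S10179
import Groth.Agent.Lib.Helper15.AlgSpTop

set_option autoImplicit false
universe u
open CategoryTheory CategoryTheory.Limits AlgebraicGeometry Topology TopologicalSpace
open AlgSp AlgSp.Points

namespace Groth.Agent.S10179

/-- For an algebraic space X over a scheme S, every point x of |X| has a fundamental system of
quasi-compact open neighbourhoods: every open subset of |X| containing x contains a quasi-compact
open subset containing x. In particular |X| is locally quasi-compact. -/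
theorem result {S : Scheme.{u}} (X : AlgSp.Space S) (x : AlgSp.Points X.obj)
    (W : Set (AlgSp.Points X.obj)) (hW : IsOpen W) (hx : x ∈ W) :
    ∃ V : Set (AlgSp.Points X.obj), IsOpen V ∧ IsCompact V ∧ x ∈ V ∧ V ⊆ W := by
  obtain ⟨V₀, q₀, hqe, hqs⟩ := X.property.atlas
  obtain ⟨v, rfl⟩ := Groth.Agent.Helper15.surjective_ofPt q₀ hqs x
  have hpre : IsOpen (AlgSp.Points.ofPt q₀ ⁻¹' W) := hW.preimage (AlgSp.Points.continuous_ofPt q₀)
  obtain ⟨_, ⟨O, hO, rfl⟩, hvO, hOV⟩ :=
    (V₀.left.isBasis_affineOpens).exists_subset_of_mem_open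
      (show v ∈ AlgSp.Points.ofPt q₀ ⁻¹' W from hx) hpre
  refine ⟨AlgSp.Points.ofPt q₀ '' (O : Set V₀.left),
    Groth.Agent.Helper15.isOpenMap_ofPt_of_etale q₀ hqe _ O.isOpen,
    (IsAffineOpen.isCompact hO).image (AlgSp.Points.continuous_ofPt q₀), ⟨v, hvO, rfl⟩, ?_⟩
  rintro _ ⟨w, hw, rfl⟩
  exact hOV hw

end Groth.Agent.S10179
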