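import Groth.Statements.S10185
import Groth.Agent.Lib.Helper15.AlgSpLocal

set_option autoImplicit false
universe u
open CategoryTheory CategoryTheory.Limits AlgebraicGeometry Topology TopologicalSpace
open AlgSp

namespace Groth.Agent.S10185

/-- Let S be a quasi-separated scheme and X an algebraic space over S whose diagonal over S is
quasi-compact. Then for all quasi-compact schemes U, V over S mapping to X, every scheme P over S
representing the fibre product h_U ×_X h_V is quasi-compact. (The published statement uses absolute
quasi-separatedness of X; over a quasi-separated base this is the same as quasi-separatedness over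
S, and without a hypothesis on S the relative notion does not suffice: take X = h_S for S
quasi-compact and not quasi-separated.) -/
theorem result {S : Scheme.{u}} [QuasiSeparatedSpace ↥S]
    (X : AlgSp.Space S) (hX : AlgSp.IsQuasiSeparatedSp X.obj) (U V P : Over S) (a : (AlgSp.yon S).obj U ⟶ X.obj) (b : (AlgSp.yon S).obj V ⟶ X.obj)
      (fst : P ⟶ U) (snd : P ⟶ V)
    [CompactSpace ↥U.left] [CompactSpace ↥V.left]
    (h : IsPullback ((AlgSp.yon S).map fst) ((AlgSp.yon S).map snd) a b) :
    CompactSpace ↥P.left := by
  have h1 : QuasiCompact (prod.lift fst snd).left :=
    Groth.Agent.Helper15.prod_lift_of_repWith_diag hX h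
  haveI : CompactSpace (U ⨯ V).left := by
    have e := (Over.prodLeftIsoPullback U V)
    haveI : CompactSpace ↥(pullback U.hom V.hom) := inferInstance
    exact (TopCat.homeoOfIso (Scheme.forgetToTop.mapIso e)).symm.compactSpace
  have := QuasiCompact.isCompact_preimage (f := (prod.lift fst snd).left) Set.univ isOpen_univ
    isCompact_univ
  rw [Set.preimage_univ] at this
  exact isCompact_univ_iff.1 this

end Groth.Agent.S10185
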