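import Groth.Statements.S10188
import Groth.Agent.Lib.Helper15.AlgSpLocal

set_option autoImplicit false
universe u
open CategoryTheory CategoryTheory.Limits AlgebraicGeometry Topology TopologicalSpace
open AlgSp

namespace Groth.Agent.S10188

/-- Let P be a property of schemes that is local in the etale topology (for every scheme V and every
etale covering family of V, V has P if and only if all members have P), and let X be an algebraic
space over a scheme S. Then X has P etale locally (some surjective etale chart from a scheme with P)
if and only if every scheme admitting a representable etale map to X has P. -/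
theorem result {S : Scheme.{u}} (P : Scheme.{u} → Prop)
    (hP : ∀ (V : Scheme.{u}) (𝒰 : Scheme.Cover.{u} (Scheme.precoverage @Etale) V), P V ↔ ∀ i, P (𝒰.X i))
    (X : AlgSp.Space S) :
    AlgSp.EtaleLocally P X.obj ↔
      ∀ (U : Over S) (a : (AlgSp.yon S).obj U ⟶ X.obj), AlgSp.RepWith @Etale a → P U.left := by
  constructor
  · rintro ⟨U₀, p, hpe, hps, hPU₀⟩ U a ha
    have hrep := hpe.rep
    have sq := hrep.isPullback' a
    have h1 : Etale (hrep.snd a).left := hpe.property_snd a
    have h2 : Surjective (hrep.snd a).left := hps.property_snd a
    have h3 : Etale (hrep.fst' a).left := ha.property p _ (hrep.fst' a) sq.flip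
    let 𝒰₀ : Scheme.Cover.{u} (Scheme.precoverage @Etale) U₀.left :=
      Scheme.Cover.mkOfCovers (Option PUnit.{u + 1})
        (fun j => match j with | none => U₀.left | some _ => (hrep.pullback a).left)
        (fun j => match j with | none => 𝟙 _ | some _ => (hrep.fst' a).left)
        (fun x => ⟨none, x, rfl⟩)
        (fun j => match j with | none => (inferInstance : Etale (𝟙 _)) | some _ => h3)
    have hW : P (hrep.pullback a).left := ((hP _ 𝒰₀).1 hPU₀) (some PUnit.unit)
    let 𝒰 : Scheme.Cover.{u} (Scheme.precoverage @Etale) U.left :=
      Scheme.Cover.mkOfCovers PUnit.{u + 1} (fun _ => (hrep.pullback a).left)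
        (fun _ => (hrep.snd a).left)
        (fun x => by obtain ⟨w, hw⟩ := h2.surj x; exact ⟨PUnit.unit, w, hw⟩)
        (fun _ => h1)
    exact (hP _ 𝒰).2 (fun _ => hW)
  · intro h
    obtain ⟨U₀, p, hpe, hps⟩ := X.property.atlas
    exact ⟨U₀, p, hpe, hps, h U₀ p hpe⟩

end Groth.Agent.S10188
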