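import Groth.Statements.S10198
import Groth.Agent.Lib.Helper15.QsCharts
import Groth.Agent.S10182

set_option autoImplicit false
universe u
open CategoryTheory CategoryTheory.Limits AlgebraicGeometry Topology TopologicalSpace
open AlgSp

namespace Groth.Agent.S10198

/-- (1) if and only if (3): for an algebraic space X over a scheme S, X is Zariski locally
quasi-separated over S (it has a Zariski covering by open subspaces whose diagonals over S are
quasi-compact) if and only if X has a Zariski covering by open subspaces each of which admits a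
quasi-compact, etale, surjective map from an affine scheme. Since the second condition does not
mention S, being Zariski locally quasi-separated does not depend on the base. -/
theorem result {S : Scheme.{u}} (X : AlgSp.Space S) :
    (∃ (ι : Type u) (Xi : ι → AlgSp.Space S) (j : ∀ i, Xi i ⟶ X),
        AlgSp.IsZarCover (fun i => (Xi i).obj) (fun i => (j i).hom) ∧ ∀ i, AlgSp.IsQuasiSeparatedSp (Xi i).obj) ↔
      (∃ (ι : Type u) (Xi : ι → AlgSp.Space S) (j : ∀ i, Xi i ⟶ X),
        AlgSp.IsZarCover (fun i => (Xi i).obj) (fun i => (j i).hom) ∧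
          ∀ i, ∃ (U : Over S) (p : (AlgSp.yon S).obj U ⟶ (Xi i).obj), IsAffine U.left ∧
            AlgSp.RepWith @QuasiCompact p ∧ AlgSp.RepWith @Etale p ∧ AlgSp.RepWith @Surjective p) := by
  constructor
  · rintro ⟨ι, Xi, j, ⟨hjo, hjs⟩, hqs⟩
    choose κ Y jj hY hcov hch using
      fun i => Groth.Agent.Helper15.exists_isZarCover_affine_charts (Xi i).property
    refine ⟨Σ i, κ i, fun ik => ⟨Y ik.1 ik.2, hY ik.1 ik.2⟩,
      fun ik => ObjectProperty.homMk (jj ik.1 ik.2 ≫ (j ik.1).hom), ⟨fun ik => ?_, fun x => ?_⟩,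
      fun ik => ?_⟩
    · exact (AlgSp.RepWith @IsOpenImmersion).comp_mem _ _ ((hcov ik.1).1 ik.2) (hjo ik.1)
    · obtain ⟨i, y, rfl⟩ := hjs x
      obtain ⟨k, z, rfl⟩ := (hcov i).2 y
      exact ⟨⟨i, k⟩, z, by rw [← AlgSp.Points.map_comp]; rfl⟩
    · obtain ⟨U, p, hU, hpe, hps, W, hW, hUW⟩ := hch ik.1 ik.2
      haveI : Mono (jj ik.1 ik.2) :=
        Groth.Agent.Helper15.mono_of_repWith Groth.Agent.Helper15.isOpenImmersion_le_mono _
          ((hcov ik.1).1 ik.2)
      have hqs' : AlgSp.IsQuasiSeparatedSp (Y ik.1 ik.2) :=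
        Groth.Agent.Helper15.AlgSpLim.isQuasiSeparatedSp_of_mono (jj ik.1 ik.2) (hqs ik.1)
      exact ⟨U, p, hU,
        Groth.Agent.Helper15.QsCharts.repWith_quasiCompact_chart hqs' hU p hpe hps W hW hUW,
        hpe, hps⟩
  · rintro ⟨ι, Xi, j, hcov, hch⟩
    refine ⟨ι, Xi, j, hcov, fun i => ?_⟩
    obtain ⟨U, p, hU, hpq, hpe, hps⟩ := hch i
    have hrep := hpe.rep
    have sq := hrep.isPullback' p
    haveI : QuasiCompact (hrep.snd p).left := hpq.property_snd p
    exact Groth.Agent.S10182.result (Xi i) p hpe hps (hrep.fst' p) (hrep.snd p) sq.flip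

end Groth.Agent.S10198
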