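import Groth.Statements.S10215
import Groth.Agent.Lib.Helper15.AlgSpField

set_option autoImplicit false
universe u
open CategoryTheory CategoryTheory.Limits AlgebraicGeometry Topology TopologicalSpace
open AlgSp

namespace Groth.Agent.S10215

/-- Let X be an algebraic space over a scheme S and p : Spec K ⟶ X, q : Spec L ⟶ X morphisms from
spectra of fields over S which determine the same point of |X|, with p a monomorphism. Then q
factors uniquely through p. -/
theorem result {S : Scheme.{u}} (X : AlgSp.Space S) (p q : AlgSp.FieldPt X.obj)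
    (h : AlgSp.Points.mk p = AlgSp.Points.mk q) [Mono p.toHom] :
    ∃! c : q.pt ⟶ p.pt, (AlgSp.yon S).map c ≫ p.toHom = q.toHom := by
  obtain ⟨Ω, _, w, a, b, hab⟩ := AlgSp.Points.mk_eq_mk_iff.1 h
  have hab' : (AlgSp.yon S).map a ≫ p.toHom = (AlgSp.yon S).map b ≫ q.toHom := by
    apply (AlgSp.J S).uliftYonedaEquiv.injective
    rw [← GrothendieckTopology.uliftYonedaEquiv_naturality,
      ← GrothendieckTopology.uliftYonedaEquiv_naturality]
    simpa using hab
  have hrep : AlgSp.Representable p.toHom := X.property.representable_from_yon p.toHom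
  have sq := hrep.isPullback' q.toHom
  haveI : Mono ((AlgSp.yon S).map (hrep.snd q.toHom)) := sq.mono_snd_of_mono
  haveI : Mono (hrep.snd q.toHom) := (AlgSp.yon S).mono_of_mono_map inferInstance
  haveI : Mono (hrep.snd q.toHom).left := inferInstance
  haveI : Nonempty (hrep.pullback q.toHom).left :=
    ⟨(hrep.lift' a b hab').left (IsLocalRing.closedPoint Ω)⟩
  haveI : IsIso (hrep.snd q.toHom).left :=
    Groth.Agent.Helper15.isIso_of_mono_to_field (K := q.K) (hrep.snd q.toHom).left
  haveI : IsIso ((Over.forget S).map (hrep.snd q.toHom)) := ‹_›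
  haveI : IsIso (hrep.snd q.toHom) := isIso_of_reflects_iso (hrep.snd q.toHom) (Over.forget S)
  refine ⟨inv (hrep.snd q.toHom) ≫ hrep.fst' q.toHom, ?_, ?_⟩
  · change (AlgSp.yon S).map (inv (hrep.snd q.toHom) ≫ hrep.fst' q.toHom) ≫ p.toHom = q.toHom
    rw [Functor.map_comp, Category.assoc, sq.w, ← Category.assoc, ← Functor.map_comp,
      IsIso.inv_hom_id, CategoryTheory.Functor.map_id, Category.id_comp]
  · intro c' hc'
    apply (AlgSp.yon S).map_injective
    rw [← cancel_mono p.toHom, hc', Functor.map_comp, Category.assoc, sq.w, ← Category.assoc,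
      ← Functor.map_comp, IsIso.inv_hom_id, CategoryTheory.Functor.map_id, Category.id_comp]

end Groth.Agent.S10215
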