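import Groth.Statements.S10233
import Groth.Agent.Lib.Helper15.AlgSpCD3

set_option autoImplicit false
universe u
open CategoryTheory CategoryTheory.Limits AlgebraicGeometry Topology TopologicalSpace
open AlgSp

namespace Groth.Agent.S10233

/-- Let X be an algebraic space over a scheme S with a presentation (U, R, s, t, p), and let i' : Z' ⟶ U
be an immersion of schemes that is R-invariant, meaning that one locally closed subscheme R' of R is
at the same time the inverse image of Z' under s and under t. Then Z' descends to a locally closed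
subspace of X: there is a morphism of algebraic spaces i : Z ⟶ X representable by immersions
together with a map h_{Z'} ⟶ Z making h_{Z'} the fibre product Z ×_X h_U; moreover i is a closed
(resp. open) immersion when i' is. -/
theorem result {S : Scheme.{u}} (X : AlgSp.Space S) {R U : Over S} (s t : R ⟶ U)
    (p : (AlgSp.yon S).obj U ⟶ X.obj) (hp : AlgSp.IsPresentation s t p)
    {Z' R' : Scheme.{u}} (i' : Z' ⟶ U.left) [IsImmersion i'] (k : R' ⟶ R.left) (s' t' : R' ⟶ Z')
    (hs : IsPullback k s' s.left i') (ht : IsPullback k t' t.left i') :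
    ∃ (Z : AlgSp.Space S) (i : Z ⟶ X) (q : (AlgSp.yon S).obj (Over.mk (i' ≫ U.hom)) ⟶ Z.obj),
      AlgSp.RepWith @IsImmersion i.hom ∧
      IsPullback q ((AlgSp.yon S).map (Over.homMk i' rfl : Over.mk (i' ≫ U.hom) ⟶ U)) i.hom p ∧
      (IsClosedImmersion i' → AlgSp.RepWith @IsClosedImmersion i.hom) ∧
      (IsOpenImmersion i' → AlgSp.RepWith @IsOpenImmersion i.hom) := by
  let Z'S : Over S := Over.mk (i' ≫ U.hom)
  let i'S : Z'S ⟶ U := Over.homMk i' rfl
  haveI : Mono i'S := by
    haveI : Mono i'S.left := (inferInstance : Mono i')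
    exact Over.mono_of_mono_left i'S
  have hinv : ∀ (T₁ : Over S) (a b : T₁ ⟶ U), (AlgSp.yon S).map a ≫ p = (AlgSp.yon S).map b ≫ p →
      (∃ a' : T₁ ⟶ Z'S, a' ≫ i'S = a) → ∃ b' : T₁ ⟶ Z'S, b' ≫ i'S = b := by
    rintro T₁ _ b hab ⟨a', rfl⟩
    obtain ⟨r, hr⟩ := (AlgSp.yon S).map_surjective
      (hp.isPullback.lift ((AlgSp.yon S).map (a' ≫ i'S)) ((AlgSp.yon S).map b) hab)
    have hr1 : r ≫ t = a' ≫ i'S := (AlgSp.yon S).map_injective (by
      rw [Functor.map_comp, hr]; exact hp.isPullback.lift_fst _ _ _)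
    have hr2 : r ≫ s = b := (AlgSp.yon S).map_injective (by
      rw [Functor.map_comp, hr]; exact hp.isPullback.lift_snd _ _ _)
    have hr1' : r.left ≫ t.left = a'.left ≫ i' := congrArg (fun k => k.left) hr1
    have hr2' : r.left ≫ s.left = b.left := congrArg (fun k => k.left) hr2
    let ρ : T₁.left ⟶ R' := ht.lift r.left a'.left hr1'
    have hρ1 : ρ ≫ k = r.left := ht.lift_fst _ _ _
    have hb : (ρ ≫ s') ≫ i' = b.left := by
      rw [Category.assoc, ← hs.w, ← Category.assoc, hρ1, hr2']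
    refine ⟨Over.homMk (ρ ≫ s') (by
      change (ρ ≫ s') ≫ i' ≫ U.hom = T₁.hom
      rw [← Category.assoc, hb, Over.w b]), ?_⟩
    ext1
    exact hb
  have hp₁ := Groth.Agent.Helper15.repWith_mono Groth.Agent.Helper15.etale_le_flat hp.etale
  have hp₂ := Groth.Agent.Helper15.repWith_mono Groth.Agent.Helper15.etale_le_lfp hp.etale
  have sqD := Groth.Agent.Helper15.isPullback_image_of_invariant p i'S hinv
  have him : AlgSp.RepWith @IsImmersion (Sheaf.imageι ((AlgSp.yon S).map i'S ≫ p)) :=
    Groth.Agent.Helper15.repWith_isImmersion_of_chart _ p hp₁ hp₂ hp.surjective _ _ sqD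
      ((AlgSp.repWith_yon_map_iff _ i'S).2 (inferInstance : IsImmersion i'))
  have hZ : AlgSp.IsAlgSpace (Sheaf.image ((AlgSp.yon S).map i'S ≫ p)) :=
    Groth.Agent.Helper15.isAlgSpace_of_representable _ him.rep X.property
  refine ⟨⟨_, hZ⟩, ⟨Sheaf.imageι ((AlgSp.yon S).map i'S ≫ p)⟩,
    Sheaf.toImage ((AlgSp.yon S).map i'S ≫ p), him, sqD, ?_, ?_⟩
  · intro hcl
    exact Groth.Agent.Helper15.repWith_isClosedImmersion_of_chart _ p hp₁ hp₂ hp.surjective _ _ sqD
      ((AlgSp.repWith_yon_map_iff _ i'S).2 hcl)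
  · intro hop
    exact Groth.Agent.Helper15.repWith_isOpenImmersion_of_chart _ p hp₁ hp₂ hp.surjective _ _ sqD
      ((AlgSp.repWith_yon_map_iff _ i'S).2 hop)

end Groth.Agent.S10233
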