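import Groth.Statements.S1024
import Mathlib.CategoryTheory.Adjunction.PartialAdjoint
import Mathlib.CategoryTheory.Abelian.Exact
-- import your own Groth.Agent.* helpers here

set_option autoImplicit false
universe v u u'
open CategoryTheory Opposite
open CohDer

namespace Groth.Agent.S1024

open Limits in
theorem aux {A : Type u} [Category.{v} A] [Abelian A] {B : Type u'} [Category.{v} B] [Abelian B]
    (u : A ⥤ B) {ι : Type*} (P : ι → B)
    (h1 : ∀ X : B, ∃ (i : ι) (π : P i ⟶ X), Epi π)
    (h2 : ∀ i : ι, ∃ Q : A, Nonempty (coyoneda.obj (op Q) ≅ u ⋙ coyoneda.obj (op (P i)))) :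
    u.IsRightAdjoint := by
  have hP : ∀ i, u.leftAdjointObjIsDefined (P i) := fun i => by
    obtain ⟨Q, ⟨e⟩⟩ := h2 i
    exact Functor.IsCorepresentable.mk' e
  apply Functor.isRightAdjoint_of_leftAdjointObjIsDefined_eq_top
  ext X
  simp only [Pi.top_apply, Prop.top_eq_true, iff_true]
  obtain ⟨i, π, hπ⟩ := h1 X
  obtain ⟨j, ρ, hρ⟩ := h1 (kernel π)
  have w : (ρ ≫ kernel.ι π) ≫ π = (0 : P j ⟶ P i) ≫ π := by simp
  have h0 : IsColimit (CokernelCofork.ofπ π (kernel.condition π)) :=
      Abelian.epiIsCokernelOfKernel (KernelFork.ofι (kernel.ι π) (kernel.condition π))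
        (kernelIsKernel π)
  -- X is the coequalizer of (ρ ≫ kernel.ι π, 0)
  let c : Cofork (ρ ≫ kernel.ι π) (0 : P j ⟶ P i) := Cofork.ofπ π w
  have hc : IsColimit c := by
    refine Cofork.IsColimit.mk _ (fun s => ?_) (fun s => ?_) (fun s m hm => ?_)
    · refine h0.desc (CokernelCofork.ofπ s.π ?_)
      have := s.condition
      rw [Category.assoc, zero_comp] at this
      rw [← cancel_epi ρ, this, comp_zero]
    · exact h0.fac _ WalkingParallelPair.one
    · rw [← cancel_epi π]
      have := h0.fac (CokernelCofork.ofπ s.π (by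
        have := s.condition
        rw [Category.assoc, zero_comp] at this
        rw [← cancel_epi ρ, this, comp_zero])) WalkingParallelPair.one
      exact hm.trans this.symm
  have := Functor.leftAdjointObjIsDefined_of_isColimit (F := u) hc (fun k => by
    cases k
    · exact hP j
    · exact hP i)
  exact this

/-- Let u : A ⥤ B be a functor between abelian categories and P a family of objects of B such that each
object of B receives an epimorphism from some member of P, and such that for every member Pᵢ there
is an object Q of A with Hom_A(Q, -) ≅ Hom_B(Pᵢ, u(-)) naturally. Then u is a right adjoint (has a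
left adjoint). -/
theorem result {A : Type u} [Category.{v} A] [Abelian A] {B : Type u'} [Category.{v} B] [Abelian B]
    (u : A ⥤ B) {ι : Type*} (P : ι → B)
    (h1 : ∀ X : B, ∃ (i : ι) (π : P i ⟶ X), Epi π)
    (h2 : ∀ i : ι, ∃ Q : A, Nonempty (coyoneda.obj (op Q) ≅ u ⋙ coyoneda.obj (op (P i)))) :
    u.IsRightAdjoint := by
  exact aux u P h1 h2

end Groth.Agent.S1024
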