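import Groth.Statements.S10250
import Groth.Agent.Lib.Helper15.AlgSpDimEt

set_option autoImplicit false
universe u
open CategoryTheory CategoryTheory.Limits AlgebraicGeometry Topology TopologicalSpace
open AlgSp Groth.Agent.Helper15

namespace Groth.Agent.S10250

/-- Let f : X ⟶ Y be an etale and surjective morphism of algebraic spaces over a scheme S. Then X and Y
have the same dimension (the dimension of an algebraic space being the supremum of the Krull
dimensions of the schemes etale over it). -/
theorem result {S : Scheme.{u}} {X Y : AlgSp.Space S} (f : X ⟶ Y)
    (hf : AlgSp.IsEtaleMor f.hom) (hs : AlgSp.IsSurjectiveMor f.hom) :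
    AlgSp.dim X.obj = AlgSp.dim Y.obj := by
  exact dim_eq_of_isEtaleMor_of_isSurjectiveMor X.property f.hom hf hs

end Groth.Agent.S10250
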