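import Groth.Statements.S10254
import Groth.Agent.Lib.Helper15.AlgSpEtOverPb

set_option autoImplicit false
universe u
open CategoryTheory CategoryTheory.Limits AlgebraicGeometry Topology TopologicalSpace
open AlgSp Groth.Agent.Helper15

namespace Groth.Agent.S10254

/-- On the small etale site with scheme objects: let X be an algebraic space over a scheme S, F an
abelian sheaf on the small etale site of X, U an object of that site and σ ∈ F(U). Then there is an
open subset W of U such that: for every morphism φ : V ⟶ U of the site, σ|_V = 0 if and only if φ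
maps V into W (in particular W is the largest open subscheme of U on which σ restricts to zero); and
for every geometric point x̄ of X and every lift ū of x̄ to U, the image of σ in the stalk F_x̄
through the etale neighbourhood (U, ū) vanishes if and only if the point of U under ū lies in W.
(The published statement is for abelian sheaves on the site of algebraic spaces etale over X; this
row is its restriction to the site of schemes etale over X, where V ranges over schemes.) -/
theorem result {S : Scheme.{u}} (X : AlgSp.Space S) (F : AlgSp.AbEt X.obj)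
    (U : AlgSp.EtOver X.obj) (σ : ↥(F.obj.obj (Opposite.op U))) :
    ∃ W : TopologicalSpace.Opens ↥U.obj.left.left,
      (∀ (V : AlgSp.EtOver X.obj) (φ : V ⟶ U),
          (F.obj.map φ.op).hom σ = 0 ↔ Set.range (fun v => φ.hom.left.left v) ⊆ (W : Set ↥U.obj.left.left)) ∧
      (∀ p : AlgSp.FieldPt X.obj, p.IsGeometric → ∀ l : (AlgSp.FieldPt.liftsTo p).obj U,
          (AlgSp.stalkEtι p F ⟨U, l⟩).hom σ = 0 ↔ l.1.left (IsLocalRing.closedPoint p.K) ∈ W) := by
  let Wset : Set ↥U.obj.left.left := {u | ∃ (V : AlgSp.EtOver X.obj) (φ : V ⟶ U),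
    (F.obj.map φ.op).hom σ = 0 ∧ u ∈ Set.range φ.hom.left.left}
  have hWopen : IsOpen Wset := by
    rw [isOpen_iff_forall_mem_open]
    rintro u ⟨V, φ, h0, hu⟩
    haveI : Etale φ.hom.left.left := AlgSp.EtOver.etale_left φ
    exact ⟨Set.range φ.hom.left.left, fun u' hu' => ⟨V, φ, h0, hu'⟩,
      φ.hom.left.left.isOpenMap.isOpen_range, hu⟩
  refine ⟨⟨Wset, hWopen⟩, ?_, ?_⟩
  · intro V φ
    constructor
    · rintro h0 _ ⟨v, rfl⟩
      exact ⟨V, φ, h0, ⟨v, rfl⟩⟩
    · intro hsub
      have key : ∀ v : ↥V.obj.left.left, ∃ (V' : AlgSp.EtOver X.obj) (ψ : V' ⟶ U),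
          (F.obj.map ψ.op).hom σ = 0 ∧ φ.hom.left.left v ∈ Set.range ψ.hom.left.left :=
        fun v => hsub ⟨v, rfl⟩
      choose V' ψ hψ0 hψr using key
      refine abEt_eq_zero_of_cover F (fun v => etOverPb φ (ψ v)) (fun v => etOverPbFst φ (ψ v))
        (fun v => ?_) _ (fun v => ?_)
      · obtain ⟨v', hv'⟩ := hψr v
        obtain ⟨q, hq1, -⟩ := etOverPb_exists_point φ (ψ v) v v' hv'.symm
        exact ⟨v, q, hq1⟩
      · have h1 : (F.obj.map (etOverPbFst φ (ψ v)).op).hom ((F.obj.map φ.op).hom σ) =
            (F.obj.map (etOverPbFst φ (ψ v) ≫ φ).op).hom σ := by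
          rw [op_comp, Functor.map_comp]; rfl
        have h2 : (F.obj.map (etOverPbSnd φ (ψ v)).op).hom ((F.obj.map (ψ v).op).hom σ) =
            (F.obj.map (etOverPbSnd φ (ψ v) ≫ ψ v).op).hom σ := by
          rw [op_comp, Functor.map_comp]; rfl
        rw [h1, etOverPb_condition, ← h2, hψ0 v, map_zero]
  · intro p hp l
    exact stalkEtι_ab_eq_zero_iff' X.property p hp F l σ

end Groth.Agent.S10254
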