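import Groth.Statements.S10257
import Groth.Agent.Lib.Helper15.AlgSpEtStalkRing

set_option autoImplicit false
universe u
open CategoryTheory CategoryTheory.Limits AlgebraicGeometry Topology TopologicalSpace
open AlgSp Groth.Agent.Helper15

namespace Groth.Agent.S10257

/-- Let X be an algebraic space over a scheme S and O' a sheaf of commutative rings on the small etale
site of X. Then the support of O', the set of points x ∈ |X| such that the stalk O'_x̄ is not the
zero ring for some geometric point x̄ over x, is closed in |X|. (The published definition of the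
support allows any, equivalently some, geometric point over x; this row uses the existential form
and does not assert that the two readings agree.) -/
theorem result {S : Scheme.{u}} (X : AlgSp.Space S)
    (O' : AlgSp.EtSh X.obj CommRingCat.{u + 1}) :
    IsClosed {x : AlgSp.Points X.obj |
      ∃ p : AlgSp.FieldPt X.obj, p.IsGeometric ∧ AlgSp.Points.mk p = x ∧ Nontrivial ↥(AlgSp.stalkEt p O')} := by
  rw [← isOpen_compl_iff, isOpen_iff_forall_mem_open]
  intro x hx
  obtain ⟨p, hp, hpx⟩ := exists_geometric_point_mk x
  have hsub : Subsingleton ↥(AlgSp.stalkEt p O') := by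
    rw [← not_nontrivial_iff_subsingleton]
    intro hnt
    exact hx ⟨p, hp, hpx, hnt⟩
  obtain ⟨N, hN⟩ := exists_subsingleton_of_subsingleton_stalkEt X.property p hp O' hsub
  refine ⟨Set.range (AlgSp.Points.ofPt N.1.obj.hom), ?_,
    (isOpenMap_ofPt_of_etale N.1.obj.hom N.1.property).isOpen_range,
    ⟨N.2.1.left (IsLocalRing.closedPoint p.K), (ofPt_liftsTo p N.2).trans hpx⟩⟩
  rintro _ ⟨v', rfl⟩ ⟨p', hp', hp'x, hnt⟩
  obtain ⟨l', hl', -⟩ := exists_lift_geometric_point_of_repWith_etale N.1.obj.hom N.1.property
    p' hp' v' hp'x.symm
  have := subsingleton_stalkEt_of_subsingleton p' O' ⟨N.1, ⟨l', hl'⟩⟩ hN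
  exact not_nontrivial_iff_subsingleton.2 this hnt

end Groth.Agent.S10257
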