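import Groth.Statements.S10259
import Groth.Agent.Lib.Helper15.LqfSepSch3

set_option autoImplicit false
universe u
open CategoryTheory CategoryTheory.Limits AlgebraicGeometry
open AlgSp

namespace Groth.Agent.S10259

/-- If an algebraic space maps to a scheme by a separated, locally quasi-finite morphism, then it is
itself a scheme. -/
theorem result {S : Scheme.{u}} (T : Over S) (X : AlgSp.Space S)
    (f : X ⟶ (AlgSp.ofScheme S).obj T)
    (hqf : AlgSp.LocP (@LocallyQuasiFinite ⊓ @LocallyOfFiniteType) f.hom) (hsep : AlgSp.IsSeparatedMor f.hom) :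
    X.obj.obj.IsRepresentable := by
  obtain ⟨V, ⟨e⟩⟩ := Groth.Agent.Helper15.LqfSep.exists_rep_of_lqf_separated X.property f.hom hqf hsep
  exact ⟨⟨V, ⟨representableByOfIso e⟩⟩⟩

end Groth.Agent.S10259
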