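import Groth.Statements.S10271
import Groth.Agent.Lib.Helper15.AlgSpFinite2

set_option autoImplicit false
universe u
open CategoryTheory CategoryTheory.Limits AlgebraicGeometry
open AlgSp

namespace Groth.Agent.S10271

/-- A morphism of algebraic spaces is finite if and only if it is affine and proper. -/
theorem result {S : Scheme.{u}} {X Y : AlgSp.Space S} (f : X ⟶ Y) :
    AlgSp.IsFiniteMor f.hom ↔ (AlgSp.IsAffineMor f.hom ∧ AlgSp.IsProperMor f.hom) := by
  exact Groth.Agent.Helper15.isFiniteMor_iff_affine_proper X.property Y.property f.hom

end Groth.Agent.S10271
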