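import Groth.Statements.S10277
import Groth.Agent.Lib.Helper15.AlgSpLocP

set_option autoImplicit false
universe u
open CategoryTheory CategoryTheory.Limits AlgebraicGeometry
open AlgSp

namespace Groth.Agent.S10277

/-- A closed immersion of algebraic spaces is proper. -/
theorem result {S : Scheme.{u}} {X Y : AlgSp.Space S} (i : X ⟶ Y)
    (hi : AlgSp.RepWith @IsClosedImmersion i.hom) : AlgSp.IsProperMor i.hom := by
  haveI : Mono i.hom := Groth.Agent.Helper15.mono_of_repWith
    (le_trans Groth.Agent.Helper15.isClosedImmersion_le_isImmersion Groth.Agent.Helper15.isImmersion_le_mono) i.hom hi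
  refine ⟨Groth.Agent.Helper15.isSeparatedMor_of_mono i.hom, ⟨?_, ?_⟩, ?_⟩
  · exact Groth.Agent.Helper15.locP_of_repWith Groth.Agent.Helper15.etale_le_lft i.hom
      (Groth.Agent.Helper15.repWith_mono (le_trans Groth.Agent.Helper15.isClosedImmersion_le_isImmersion Groth.Agent.Helper15.isImmersion_le_lft) hi)
  · exact Groth.Agent.Helper15.isQuasiCompactMor_of_repWith i.hom (Groth.Agent.Helper15.repWith_mono Groth.Agent.Helper15.isClosedImmersion_le_quasiCompact hi)
  · exact Groth.Agent.Helper15.isUnivClosedMor_of_repWith i.hom (Groth.Agent.Helper15.repWith_mono Groth.Agent.Helper15.isClosedImmersion_le_universallyClosed hi)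

end Groth.Agent.S10277
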