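import Groth.Statements.S10278
import Groth.Agent.Lib.Helper15.AlgSpProper2

set_option autoImplicit false
universe u
open CategoryTheory CategoryTheory.Limits AlgebraicGeometry
open AlgSp

namespace Groth.Agent.S10278

/-- Over a separated Y -> B, a morphism X -> Y from a space universally closed (resp. proper) over B is
universally closed with closed image (resp. proper). -/
theorem result {S : Scheme.{u}} {X Y B : AlgSp.Space S} (f : X ⟶ Y) (p : X ⟶ B)
    (q : Y ⟶ B) (comm : f ≫ q = p) (hq : AlgSp.IsSeparatedMor q.hom) :
    (AlgSp.IsUnivClosedMor p.hom →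
      AlgSp.IsUnivClosedMor f.hom ∧ IsClosed (Set.range (AlgSp.Points.map f.hom))) ∧
    (AlgSp.IsProperMor p.hom → AlgSp.IsProperMor f.hom) := by
  have hf : AlgSp.IsUnivClosedMor p.hom → AlgSp.IsUnivClosedMor f.hom := fun hp =>
    Groth.Agent.Helper15.isUnivClosedMor_of_comp_separated X.property Y.property B.property.diag
      f.hom p.hom q.hom (congrArg (fun φ => φ.hom) comm) hq hp
  refine ⟨fun hp => ⟨hf hp, ?_⟩, fun hp =>
    Groth.Agent.Helper15.isProperMor_of_comp_separated X.property Y.property B.property
      f.hom p.hom q.hom (congrArg (fun φ => φ.hom) comm) hq hp⟩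
  have := Groth.Agent.Helper15.isClosedMor_of_isUnivClosedMor Y.property f.hom (hf hp)
  rw [← Set.image_univ]
  exact this _ isClosed_univ

end Groth.Agent.S10278
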