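import Groth.Statements.S10281
import Groth.Agent.S9965
import Groth.Agent.Lib.Helper15.AlgSpProper2
import Groth.Agent.Lib.Helper15.AlgSpCD6
import Groth.Agent.Lib.Helper16.AlgSp.ProperSp3

set_option autoImplicit false
universe u
open CategoryTheory CategoryTheory.Limits AlgebraicGeometry
open AlgSp Groth.Agent.Helper15 Groth.Agent.Helper16.AS

namespace Groth.Agent.S10281

/-- The scheme theoretic image of a space proper over B in a space separated and locally of finite type
over B is proper over B, and the source surjects onto it. -/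
theorem result {S : Scheme.{u}} {X Y Z B : AlgSp.Space S} (h : X ⟶ Y) (f : X ⟶ B)
    (g : Y ⟶ B) (comm : h ≫ g = f) (hf : AlgSp.IsProperMor f.hom) (hg : AlgSp.IsSeparatedMor g.hom)
    (hg' : AlgSp.LocP @LocallyOfFiniteType g.hom) (i : Z ⟶ Y) (hZ : AlgSp.IsSchImage h.hom i.hom)
    (h' : X ⟶ Z) (fac : h' ≫ i = h) :
    AlgSp.IsProperMor (i ≫ g).hom ∧ AlgSp.IsSurjectiveMor h'.hom := by
  have hh : AlgSp.IsProperMor h.hom := isProperMor_of_comp_separated X.property Y.property
    B.property h.hom f.hom g.hom (by rw [← comm]; rfl) hg hf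
  have hcl : AlgSp.RepWith @IsClosedImmersion i.hom := hZ.1
  haveI : Mono i.hom := mono_of_repWith isClosedImmersion_le_mono i.hom hcl
  have hfac : h'.hom ≫ i.hom = h.hom := by rw [← fac]; rfl
  have hh' : AlgSp.IsProperMor h'.hom := isProperMor_of_comp_separated X.property Z.property
    Y.property h'.hom h.hom i.hom hfac (isSeparatedMor_of_mono i.hom) hh
  have hdense := (Groth.Agent.S9965.result h i hh.2.1.2 hZ).2
  have hsurj : AlgSp.IsSurjectiveMor h'.hom := by
    intro z
    have hc1 : IsClosed (Set.range (AlgSp.Points.map h'.hom)) := by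
      rw [← Set.image_univ]
      exact isClosedMor_of_isUnivClosedMor Z.property h'.hom hh'.2.2 _ isClosed_univ
    have hiclosed : IsClosedMap (AlgSp.Points.map i.hom) :=
      isClosedMor_of_isUnivClosedMor Y.property i.hom (isProperMor_of_closedImmersion i.hom hcl).2.2
    have hc2 : IsClosed (AlgSp.Points.map i.hom '' Set.range (AlgSp.Points.map h'.hom)) :=
      hiclosed _ hc1
    have h3 : AlgSp.Points.map i.hom z ∈ closure (Set.range (AlgSp.Points.map h.hom)) :=
      hdense ⟨z, rfl⟩
    rw [← hfac, range_points_map_comp, hc2.closure_eq] at h3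
    obtain ⟨z', hz', hzz⟩ := h3
    have h4 := (injOnFieldPts_of_mono i.hom).injective_points_map hzz
    rw [← h4]; exact hz'
  refine ⟨?_, hsurj⟩
  have hlft : AlgSp.LocP @LocallyOfFiniteType (i.hom ≫ g.hom) :=
    locP_comp goodP_lft srcEtLoc_lft Z.property Y.property B.property i.hom g.hom
      (isProperMor_of_closedImmersion i.hom hcl).2.1.1 hg'
  have hfin : AlgSp.IsProperMor (h'.hom ≫ i.hom ≫ g.hom) := by
    rw [← Category.assoc, hfac]
    have : h.hom ≫ g.hom = f.hom := by rw [← comm]; rfl
    rw [this]; exact hf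
  exact isProperMor_of_jointly_surjective (ι := Unit) (R := fun _ => X.obj) (fun _ => X.property)
    Z.property B.property (fun _ => h'.hom) (i.hom ≫ g.hom) (fun _ => hh'.2.2) (fun y => by
      obtain ⟨x, hx⟩ := hsurj y
      exact ⟨(), x, hx⟩) hlft (fun _ => hfin)

end Groth.Agent.S10281
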