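import Groth.Statements.S10290
import Groth.Agent.Lib.Helper15.AlgSpVal

set_option autoImplicit false
universe u
open CategoryTheory CategoryTheory.Limits AlgebraicGeometry
open AlgSp

namespace Groth.Agent.S10290

/-- A separated morphism of algebraic spaces satisfies the uniqueness part of the valuative criterion. -/
theorem result {S : Scheme.{u}} {X Y : AlgSp.Space S} (f : X ⟶ Y)
    (hf : AlgSp.IsSeparatedMor f.hom) : AlgSp.UniqVC f.hom := by
  exact Groth.Agent.Helper15.uniqVC_of_isSeparatedMor f.hom hf

end Groth.Agent.S10290
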