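import Groth.Statements.S10292
import Groth.Agent.Lib.Helper15.ValLift
import Groth.Agent.Lib.Helper15.AlgSpField
import Groth.Agent.Lib.Helper16.AlgSp.LocPEngine
import Groth.Agent.Lib.Helper16.AlgSp.FlatSp

set_option autoImplicit false
universe u
open CategoryTheory CategoryTheory.Limits AlgebraicGeometry
open AlgSp

namespace Groth.Agent.S10292

/-- Along a flat morphism of algebraic spaces, a morphism from the spectrum of a valuation ring to the
target whose closed point is hit lifts to the source after an extension of valuation rings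
(injective and local). -/
theorem result {S : Scheme.{u}} {X Y : AlgSp.Space S} (f : X ⟶ Y)
    (hf : AlgSp.LocP @Flat f.hom) (A : Type u) [CommRing A] [IsDomain A] [ValuationRing A]
    (str : Spec (.of A) ⟶ S) (b : (AlgSp.yon S).obj (Over.mk str) ⟶ Y.obj)
    (hb : AlgSp.Points.ofPt b (IsLocalRing.closedPoint A) ∈ Set.range (AlgSp.Points.map f.hom)) :
    ∃ (A' : Type u) (_ : CommRing A') (_ : IsDomain A') (_ : ValuationRing A') (φ : A →+* A'),
      Function.Injective φ ∧ IsLocalHom φ ∧
      ∃ l : (AlgSp.yon S).obj (Over.mk (Spec.map (CommRingCat.ofHom φ) ≫ str)) ⟶ X.obj,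
        l ≫ f.hom = (AlgSp.yon S).map (Over.homMk (Spec.map (CommRingCat.ofHom φ)) rfl :
          Over.mk (Spec.map (CommRingCat.ofHom φ) ≫ str) ⟶ Over.mk str) ≫ b := by
  obtain ⟨x₀, hx₀⟩ := hb
  have sq : IsPullback (pullback.fst f.hom b) (pullback.snd f.hom b) f.hom b :=
    IsPullback.of_hasPullback _ _
  have hP : AlgSp.IsAlgSpace (pullback f.hom b) :=
    Groth.Agent.Helper15.isAlgSpace_of_isPullback Y.property.diag X.property
      (AlgSp.IsAlgSpace.yon_obj _) sq
  obtain ⟨p', hp'1, hp'2⟩ := Groth.Agent.Helper15.exists_point_of_isPullback sq x₀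
    (AlgSp.Points.ofScheme (Over.mk str) (IsLocalRing.closedPoint A))
    (by rw [hx₀, ← AlgSp.Points.ofPt_eq_map_ofScheme])
  obtain ⟨U, hU, a, u', hae, hu'⟩ := Groth.Agent.Helper15.exists_affine_etale_nbhd hP p'
  obtain ⟨g, hg⟩ := (AlgSp.yon S).map_surjective (a ≫ pullback.snd f.hom b)
  have hflat : AlgSp.LocP @Flat (pullback.snd f.hom b) :=
    Groth.Agent.Helper16.AS.locP_of_isPullback Groth.Agent.Helper15.goodP_flat
      Groth.Agent.Helper16.AS.srcEtLoc_flat X.property Y.property (AlgSp.IsAlgSpace.yon_obj _) sq hf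
  haveI hgflat : Flat g.left := by
    refine hflat a (𝟙 _) g hae ?_ ?_
    · exact Groth.Agent.Helper15.repWith_of_isIso @Etale (𝟙 _)
    · rw [Category.comp_id, hg]
  have hgu' : g.left u' = IsLocalRing.closedPoint A := by
    have h1 : AlgSp.Points.ofPt ((AlgSp.yon S).map g) u' =
        AlgSp.Points.ofScheme (Over.mk str) (IsLocalRing.closedPoint A) := by
      rw [hg, ← AlgSp.Points.map_ofPt, hu', hp'2]
    have h2 := congrArg (AlgSp.Points.toScheme (Over.mk str)) h1
    rw [AlgSp.Points.toScheme_ofPt] at h2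
    rw [h2]
    exact (AlgSp.Points.schemeEquiv (Over.mk str)).left_inv _
  obtain ⟨A', _, _, _, φ, β, hinj, hloc, hβg, -⟩ :=
    Groth.Agent.Helper15.ValLift.exists_valuationRing_lift_of_flat (A := A) g.left u' hgu'
  refine ⟨A', inferInstance, inferInstance, inferInstance, φ, hinj, hloc, ?_⟩
  have hw : β ≫ U.hom = Spec.map (CommRingCat.ofHom φ) ≫ str := by
    rw [← Over.w g, ← Category.assoc, hβg]
    rfl
  let β' : Over.mk (Spec.map (CommRingCat.ofHom φ) ≫ str) ⟶ U := Over.homMk β hw
  have hβ'g : β' ≫ g = (Over.homMk (Spec.map (CommRingCat.ofHom φ)) rfl :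
      Over.mk (Spec.map (CommRingCat.ofHom φ) ≫ str) ⟶ Over.mk str) := by
    ext
    exact hβg
  refine ⟨(AlgSp.yon S).map β' ≫ a ≫ pullback.fst f.hom b, ?_⟩
  rw [Category.assoc, Category.assoc, sq.w, ← Category.assoc a, ← hg, ← Category.assoc,
    ← Functor.map_comp, hβ'g]

end Groth.Agent.S10292
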