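import Groth.Statements.S10293
import Groth.Agent.Lib.Helper15.AffDesc6
import Groth.Agent.Lib.Helper15.AlgSpFinite
import Groth.Agent.Lib.Helper15.AlgSpFinLocFree
import Groth.Agent.Lib.Helper15.AlgSpLocP2

set_option autoImplicit false
universe u
open CategoryTheory CategoryTheory.Limits AlgebraicGeometry
open AlgSp

namespace Groth.Agent.S10293

/-- (3) ⇒ (1): being finite locally free descends along a surjective etale base change from a scheme. -/
theorem result {S : Scheme.{u}} {X Y : AlgSp.Space S} (f : X ⟶ Y) (V : Over S)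
    (p : (AlgSp.yon S).obj V ⟶ Y.obj) (hp : AlgSp.RepWith @Etale p) (hps : AlgSp.RepWith @Surjective p)
    {P : AlgSp.Sp S} (fst : P ⟶ X.obj) (snd : P ⟶ (AlgSp.yon S).obj V) (sq : IsPullback fst snd f.hom p)
    (h : AlgSp.IsFinLocFreeMor snd) : AlgSp.IsFinLocFreeMor f.hom := by
  have hp₁ := Groth.Agent.Helper15.repWith_mono Groth.Agent.Helper15.etale_le_flat hp
  have hp₂ := Groth.Agent.Helper15.repWith_mono Groth.Agent.Helper15.etale_le_lfp hp
  have hY : AlgSp.IsAlgSpace Y.obj := Y.property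
  have hV := AlgSp.IsAlgSpace.yon_obj V
  obtain ⟨h1, h2, h3⟩ := ((Groth.Agent.Helper15.isFinLocFreeMor_iff hV snd).1).1 h
  refine ((Groth.Agent.Helper15.isFinLocFreeMor_iff hY f.hom).1).2 ⟨?_,
    Groth.Agent.Helper15.locP_of_target_cover _ f.hom p hp hps fst snd sq h2,
    Groth.Agent.Helper15.locP_of_target_cover _ f.hom p hp hps fst snd sq h3⟩
  rw [Groth.Agent.Helper15.isFiniteMor_iff_affRep] at h1 ⊢
  exact Groth.Agent.Helper15.AffDesc.affRep_of_chart
    Groth.Agent.Helper15.isFinite_le_isAffineHom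
    Groth.Agent.Helper15.AffDesc.descAff_isFinite f.hom p hp₁ hp₂ hps fst snd sq h1

end Groth.Agent.S10293
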