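import Groth.Statements.S10296
import Groth.Agent.Lib.Helper15.AlgSpFinite2

set_option autoImplicit false
universe u
open CategoryTheory CategoryTheory.Limits AlgebraicGeometry
open AlgSp

namespace Groth.Agent.S10296

/-- The induced morphism from the normalization of X in Y to any integral Z -> X through which Y -> X
factors is the normalization of Z in Y. -/
theorem result {S : Scheme.{u}} {Y X X' Z : AlgSp.Space S} (f : Y ⟶ X)
    (hqc : AlgSp.IsQuasiCompactMor f.hom) (hqs : AlgSp.IsQuasiSeparatedMor f.hom) (ν : X' ⟶ X) (f' : Y ⟶ X')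
    (hn : AlgSp.IsRelNormalization f.hom ν.hom f'.hom) (π : Z ⟶ X) (hπ : AlgSp.IsIntegralMor π.hom) (g : Y ⟶ Z)
    (hg : g ≫ π = f) (h : X' ⟶ Z) (h1 : f' ≫ h = g) (h2 : h ≫ π = ν) :
    AlgSp.IsRelNormalization g.hom h.hom f'.hom := by
  open Groth.Agent.Helper15 in
  obtain ⟨hn1, hn2, hn3⟩ := hn
  have hπi : AffRep @IsIntegralHom π.hom := (isIntegralMor_iff_affRep π.hom).1 hπ
  have hπsep : IsSeparatedMor π.hom :=
    isSeparatedMor_of_affRep_isAffineHom Z.property π.hom (hπi.mono isIntegralHom_le_isAffineHom)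
  have e1 : f'.hom ≫ h.hom = g.hom := congrArg (·.hom) h1
  have e2 : h.hom ≫ π.hom = ν.hom := congrArg (·.hom) h2
  have e3 : g.hom ≫ π.hom = f.hom := congrArg (·.hom) hg
  refine ⟨e1, ?_, ?_⟩
  · have : IsIntegralMor (h.hom ≫ π.hom) := by rw [e2]; exact hn2
    exact (finite_integral_of_comp_separated h.hom π.hom hπsep).2 this
  · intro Z' hZ' π' g' hπ' hg'
    have hcomp : IsIntegralMor (π' ≫ π.hom) := by
      rw [isIntegralMor_iff_affRep] at hπ' ⊢
      exact (AffRep (S := S) @IsIntegralHom).comp_mem _ _ hπ' hπi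
    obtain ⟨h', ⟨hh1, hh2⟩, huniq⟩ := hn3 hZ' (π' ≫ π.hom) g' hcomp (by
      rw [← Category.assoc, hg', e3])
    obtain ⟨h₀, -, huniq₀⟩ := hn3 Z.property π.hom g.hom hπ e3
    have k1 : h.hom = h₀ := huniq₀ _ ⟨e1, e2⟩
    have k2 : h' ≫ π' = h₀ := huniq₀ _ ⟨by rw [← Category.assoc, hh1, hg'], by
      rw [Category.assoc, hh2]⟩
    refine ⟨h', ⟨hh1, k2.trans k1.symm⟩, ?_⟩
    rintro h'' ⟨a1, a2⟩
    exact huniq _ ⟨a1, by rw [← Category.assoc, a2, e2]⟩

end Groth.Agent.S10296
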