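import Groth.Statements.S10300
import Groth.Agent.Lib.Helper15.NormZmt

set_option autoImplicit false
universe u
open CategoryTheory CategoryTheory.Limits AlgebraicGeometry
open AlgSp

namespace Groth.Agent.S10300

/-- For f quasi-finite and separated, the map from X to the normalization of Y in X is a quasi-compact
open immersion, and f is quasi-affine. -/
theorem result {S : Scheme.{u}} {X Y Y' : AlgSp.Space S}
    (f : X ⟶ Y) (hqf : AlgSp.LocP (@LocallyQuasiFinite ⊓ @LocallyOfFiniteType) f.hom)
    (hqc : AlgSp.IsQuasiCompactMor f.hom) (hsep : AlgSp.IsSeparatedMor f.hom) (ν : Y' ⟶ Y) (f' : X ⟶ Y')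
    (hn : AlgSp.IsRelNormalization f.hom ν.hom f'.hom) :
    AlgSp.RepWith @IsOpenImmersion f'.hom ∧ AlgSp.IsQuasiCompactMor f'.hom ∧ AlgSp.IsQuasiAffineMor f.hom := by
  have hνaff : Groth.Agent.Helper15.AffRep @IsAffineHom ν.hom :=
    Groth.Agent.Helper15.AffRep.mono (fun _ _ _ h => by haveI : IsIntegralHom _ := h; infer_instance)
      ((Groth.Agent.Helper15.isIntegralMor_iff_affRep _).1 hn.2.1)
  have hsepν : AlgSp.IsSeparatedMor ν.hom :=
    Groth.Agent.Helper15.isSeparatedMor_of_affRep_isAffineHom Y'.property ν.hom hνaff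
  have hqsν : AlgSp.IsQuasiSeparatedMor ν.hom :=
    Groth.Agent.Helper15.repWith_mono Groth.Agent.Helper15.isClosedImmersion_le_quasiCompact hsepν
  refine ⟨Groth.Agent.Helper15.Norm.repWith_isOpenImmersion_toNorm X.property Y.property f.hom
      hqf hqc hsep Y'.property ν.hom f'.hom hn, ?_,
    Groth.Agent.Helper15.Norm.isQuasiAffineMor_of_lqf_separated X.property Y.property f.hom
      hqf hqc hsep⟩
  exact Groth.Agent.Helper15.isQuasiCompactMor_of_comp f'.hom ν.hom (by rw [hn.1]; exact hqc) hqsν

end Groth.Agent.S10300
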