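import Groth.Statements.S10304
import Groth.Agent.Lib.Helper15.LocFinIrrSp

set_option autoImplicit false
universe u
open CategoryTheory CategoryTheory.Limits AlgebraicGeometry
open AlgSp

namespace Groth.Agent.S10304

/-- Equivalent forms of the condition that the schemes etale over X have locally finitely many
irreducible components: one etale surjective chart, every etale chart, finiteness of codimension-0
points of quasi-compact spaces etale over X, finiteness of irreducible components of such spaces. -/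
theorem result {S : Scheme.{u}} (X : AlgSp.Space S) :
    (AlgSp.EtaleLocally (fun U => ∀ W : U.Opens, IsCompact (W : Set ↥U) → (irreducibleComponents ↥W).Finite) X.obj ↔
      ∀ (U : Over S) (a : (AlgSp.yon S).obj U ⟶ X.obj), AlgSp.RepWith @Etale a →
        ∀ W : U.left.Opens, IsCompact (W : Set ↥U.left) → (irreducibleComponents ↥W).Finite) ∧
    (AlgSp.EtaleLocally (fun U => ∀ W : U.Opens, IsCompact (W : Set ↥U) → (irreducibleComponents ↥W).Finite) X.obj ↔
      ∀ (Y : AlgSp.Space S) (g : Y ⟶ X), AlgSp.IsEtaleMor g.hom → AlgSp.IsQuasiCompactSp Y.obj →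
        {y : AlgSp.Points Y.obj |
          AlgSp.HasAt (fun U u => ringKrullDim ↥(U.presheaf.stalk u) = 0) Y.obj y}.Finite) ∧
    (AlgSp.EtaleLocally (fun U => ∀ W : U.Opens, IsCompact (W : Set ↥U) → (irreducibleComponents ↥W).Finite) X.obj ↔
      ∀ (Y : AlgSp.Space S) (g : Y ⟶ X), AlgSp.IsEtaleMor g.hom → AlgSp.IsQuasiCompactSp Y.obj →
        (irreducibleComponents (AlgSp.Points Y.obj)).Finite) := by
  have h12 : AlgSp.EtaleLocally Groth.Agent.Helper15.LocFinIrr.LocFin X.obj ↔
      ∀ (U : Over S) (a : (AlgSp.yon S).obj U ⟶ X.obj), AlgSp.RepWith @Etale a →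
        Groth.Agent.Helper15.LocFinIrr.LocFin U.left :=
    ⟨fun h U a ha => Groth.Agent.Helper15.LocFinIrr.locFin_of_etaleLocally h a ha, fun h => by
      obtain ⟨U, p, hpe, hps⟩ := X.property.atlas
      exact ⟨U, p, hpe, hps, h U p hpe⟩⟩
  refine ⟨h12, ?_, ?_⟩
  · refine h12.trans ⟨fun h Y g hg hY => ?_, fun h U a ha => ?_⟩
    · exact Groth.Agent.Helper15.LocFinIrr.finite_codimZero h g.hom hg hY
    · exact Groth.Agent.Helper15.LocFinIrr.locFin_of_forall_codimZero
        (fun Y hYa g hg hqc => h ⟨Y, hYa⟩ (ObjectProperty.homMk g) hg hqc) a ha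
  · refine h12.trans ⟨fun h Y g hg hY => ?_, fun h U a ha => ?_⟩
    · exact Groth.Agent.Helper15.LocFinIrr.finite_irreducibleComponents_points h g.hom hg hY
    · exact Groth.Agent.Helper15.LocFinIrr.locFin_of_forall_irreducibleComponents
        (fun Y hYa g hg hqc => h ⟨Y, hYa⟩ (ObjectProperty.homMk g) hg hqc) a ha

end Groth.Agent.S10304
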