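import Groth.Statements.S1031
-- import your own Groth.Agent.* helpers here

set_option autoImplicit false
universe v u
open CategoryTheory
open CohDer

namespace Groth.Agent.S1031

open CategoryTheory.Limits CategoryTheory.ObjectProperty Pretriangulated

variable {C : Type u} [Category.{v} C] [Preadditive C] [Limits.HasZeroObject C] [HasShift C ℤ]
    [∀ n : ℤ, (shiftFunctor C n).Additive] [Pretriangulated C]

/-- Lemma A: extension products of product-closed properties are product-closed. -/
theorem extensionProduct_closed (P Q : ObjectProperty C) (J : Type) [Finite J]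
    [P.IsClosedUnderLimitsOfShape (Discrete J)] [Q.IsClosedUnderLimitsOfShape (Discrete J)] :
    (extensionProduct P Q).IsClosedUnderLimitsOfShape (Discrete J) := by
  apply IsClosedUnderLimitsOfShape.mk'
  rintro _ ⟨F, hF⟩
  choose Y Z f g h hT hY hZ using fun j : J => hF ⟨j⟩
  let T : J → Triangle C := fun j => Triangle.mk (f j) (g j) (h j)
  have hdist := productTriangle_distinguished T hT
  have hP : P (∏ᶜ fun j => (T j).obj₁) := P.prop_pi _ hY
  have hQ : Q (∏ᶜ fun j => (T j).obj₃) := Q.prop_pi _ hZ
  have h2 : extensionProduct P Q (∏ᶜ fun j => (T j).obj₂) :=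
    ⟨_, _, _, _, _, hdist, hP, hQ⟩
  let e : (∏ᶜ fun j => (T j).obj₂) ≅ limit F :=
    (HasLimit.isoOfNatIso (Discrete.natIsoFunctor (F := F))).symm
  exact (extensionProduct P Q).prop_of_iso e h2

/-- Lemma B: retract closures of product-closed properties are product-closed. -/
theorem retractClosure_closed (P : ObjectProperty C) (J : Type) [Finite J]
    [P.IsClosedUnderLimitsOfShape (Discrete J)] :
    (P.retractClosure).IsClosedUnderLimitsOfShape (Discrete J) := by
  apply IsClosedUnderLimitsOfShape.mk'
  rintro _ ⟨F, hF⟩
  choose Y hY r using fun j : J => hF ⟨j⟩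
  have hP : P (∏ᶜ Y) := P.prop_pi _ hY
  let ρ : Retract (∏ᶜ fun j => F.obj ⟨j⟩) (∏ᶜ Y) :=
    { i := Limits.Pi.map (fun j => (r j).some.i)
      r := Limits.Pi.map (fun j => (r j).some.r)
      retract := by
        apply Limits.Pi.hom_ext
        intro j
        simp }
  have h2 : P.retractClosure (∏ᶜ fun j => F.obj ⟨j⟩) := ⟨_, hP, ⟨ρ⟩⟩
  let e : (∏ᶜ fun j => F.obj ⟨j⟩) ≅ limit F :=
    (HasLimit.isoOfNatIso (Discrete.natIsoFunctor (F := F))).symm
  exact (P.retractClosure).prop_of_iso e h2

theorem triangEnvelopeIter_closed (P : ObjectProperty C) (n : ℕ) :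
    (P.triangEnvelopeIter n).IsClosedUnderBinaryProducts := by
  induction n with
  | zero =>
    rw [triangEnvelopeIter_zero]
    exact retractClosure_closed _ _
  | succ n ih =>
    rw [triangEnvelopeIter_succ]
    have h0 : ((P.shiftClosure ℤ).binaryProductsClosure.retractClosure).IsClosedUnderBinaryProducts :=
      retractClosure_closed _ _
    have := extensionProduct_closed ((P.shiftClosure ℤ).binaryProductsClosure.retractClosure)
      (P.triangEnvelopeIter n) WalkingPair
    exact retractClosure_closed _ _

theorem closure_eq_self (R : ObjectProperty C) [R.Nonempty] [R.IsStableUnderShift ℤ]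
    [R.IsClosedUnderBinaryProducts] [R.IsStableUnderRetracts] :
    (R.shiftClosure ℤ).binaryProductsClosure.retractClosure = R := by
  apply le_antisymm
  · rw [retractClosure_le_iff, binaryProductsClosure_le_iff, shiftClosure_le_iff]
  · exact ((le_shiftClosure (A := ℤ) R).trans (le_limitsClosure _ _)).trans (le_retractClosure _)

theorem iter_iter_le [IsTriangulated C] (P : ObjectProperty C) [P.Nonempty] (m k : ℕ) :
    (P.triangEnvelopeIter m).triangEnvelopeIter k ≤ P.triangEnvelopeIter ((m + 1) * k + m) := by
  have : (P.triangEnvelopeIter m).IsClosedUnderBinaryProducts := triangEnvelopeIter_closed P m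
  have h0 := closure_eq_self (P.triangEnvelopeIter m)
  induction k with
  | zero =>
    rw [triangEnvelopeIter_zero, h0]
    simp
  | succ k ih =>
    rw [triangEnvelopeIter_succ, h0]
    have e : (m + 1) * (k + 1) + m = (m + 1) + ((m + 1) * k + m) := by ring
    rw [e, triangEnvelopeIter_add P (n' := m) rfl]
    exact monotone_retractClosure (monotone_extensionProduct_right _ ih)

theorem aux {D : Type u} [Category.{v} D] [Preadditive D] [Limits.HasZeroObject D] [HasShift D ℤ]
    [∀ n : ℤ, (shiftFunctor D n).Additive] [Pretriangulated D] [IsTriangulated D]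
    (G E : D) (hG : ObjectProperty.IsStrongTriangulatedGenerator (fun X : D => X = G))
    (hE : ObjectProperty.IsClassicalTriangulatedGenerator (fun X : D => X = E)) :
    ObjectProperty.IsStrongTriangulatedGenerator (fun X : D => X = E) := by
  obtain ⟨n, hn⟩ := hG
  have hE' : ObjectProperty.triangEnvelope (fun X : D => X = E) = ⊤ := hE
  have hGE : ObjectProperty.triangEnvelope (fun X : D => X = E) G := by
    rw [hE']
    trivial
  rw [prop_triangEnvelope_iff] at hGE
  obtain ⟨m, hm⟩ := hGE
  have : ObjectProperty.Nonempty (fun X : D => X = E) := ⟨E, rfl⟩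
  have h1 : (fun X : D => X = G) ≤ ObjectProperty.triangEnvelopeIter (fun X : D => X = E) m := by
    rintro X rfl
    exact hm
  refine ⟨(m + 1) * n + m, ?_⟩
  rw [eq_top_iff, ← hn]
  exact (monotone_triangEnvelopeIter h1 n).trans (iter_iter_le _ m n)

/-- Let D be a triangulated category admitting a strong generator G (every object is reached from G by
shifts, finite sums, summands and a uniformly bounded number of extensions). Then every classical
generator E of D (every object reached from E with some finite number of extensions) is itself a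
strong generator. -/
theorem result {D : Type u} [Category.{v} D] [Preadditive D] [Limits.HasZeroObject D] [HasShift D ℤ]
    [∀ n : ℤ, (shiftFunctor D n).Additive] [Pretriangulated D] [IsTriangulated D]
    (G E : D) (hG : ObjectProperty.IsStrongTriangulatedGenerator (fun X : D => X = G))
    (hE : ObjectProperty.IsClassicalTriangulatedGenerator (fun X : D => X = E)) :
    ObjectProperty.IsStrongTriangulatedGenerator (fun X : D => X = E) := by
  exact aux G E hG hE

end Groth.Agent.S1031
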