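import Groth.Statements.S10317
import Groth.Agent.Lib.Helper15.NormLoc3

set_option autoImplicit false
universe u
open CategoryTheory CategoryTheory.Limits AlgebraicGeometry
open AlgSp

namespace Groth.Agent.S10317

/-- A codimension-0 point of the normalization X' of X in Y is the image of a codimension-0 point of Y.
(The published statement is phrased for a morphism of schemes; this row states it for a
quasi-compact quasi-separated morphism of algebraic spaces.) -/
theorem result {S : Scheme.{u}} {Y X X' : AlgSp.Space S} (f : Y ⟶ X)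
    (hqc : AlgSp.IsQuasiCompactMor f.hom) (hqs : AlgSp.IsQuasiSeparatedMor f.hom) (ν : X' ⟶ X) (f' : Y ⟶ X')
    (hn : AlgSp.IsRelNormalization f.hom ν.hom f'.hom) (x' : AlgSp.Points X'.obj) (hx' : AlgSp.HasAt (fun U u => ringKrullDim ↥(U.presheaf.stalk u) = 0) X'.obj x') :
    ∃ y : AlgSp.Points Y.obj, AlgSp.HasAt (fun U u => ringKrullDim ↥(U.presheaf.stalk u) = 0) Y.obj y ∧ AlgSp.Points.map f'.hom y = x' := by
  obtain ⟨M, a, hae, has, hloc⟩ := Groth.Agent.Helper15.Norm.exists_local_charts X.property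
    X'.property hqc hqs hn
  obtain ⟨m, hm⟩ := Groth.Agent.Helper15.surjective_ofPt a has x'
  have hQ := Groth.Agent.Helper15.etInv_ringKrullDim_stalk (0 : WithBot ℕ∞)
  have hdm : ringKrullDim ↥(M.left.presheaf.stalk m) = 0 :=
    Groth.Agent.Helper15.hasAt_forall_chart hQ x' hx' M a m hae hm
  obtain ⟨A', B, β, s, j, b, hinj, hj, ⟨m', hm'⟩, hbe, hcomm⟩ := hloc m
  haveI := hj
  have hdm' : ringKrullDim ↥((Spec A').presheaf.stalk m') = 0 :=
    (hQ j.left inferInstance m').2 (by rw [hm']; exact hdm)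
  obtain ⟨w₀, hw₀, hw₀m⟩ := Groth.Agent.Helper15.Norm.exists_codimZero_lift_spec β hinj m' hdm'
  refine ⟨Points.ofPt b w₀, ⟨_, b, w₀, hbe, rfl, hw₀⟩, ?_⟩
  rw [Points.map_ofPt, hcomm, Groth.Agent.Helper15.ofPt_comp_yon_map, ← hm]
  congr 1
  change j.left ((Spec.map β) w₀) = m
  rw [hw₀m, hm']

end Groth.Agent.S10317
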