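import Groth.Statements.S10321
import Groth.Agent.Lib.Helper15.ZmtSp2

set_option autoImplicit false
universe u
open CategoryTheory CategoryTheory.Limits AlgebraicGeometry
open AlgSp

namespace Groth.Agent.S10321

/-- Let X be separated and locally quasi-finite over an affine scheme T, let T' -> T be etale with T'
affine, and let V' be an open subspace of T' ×_T X that is quasi-affine over T'. Then V' maps onto a
quasi-compact open subspace of X that is itself a scheme. -/
theorem result {S : Scheme.{u}} {T T' : Over S} [IsAffine T.left]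
    [IsAffine T'.left] (e : T' ⟶ T) [Etale e.left] {X P V' : AlgSp.Space S} (f : X ⟶ (AlgSp.ofScheme S).obj T)
    (hsep : AlgSp.IsSeparatedMor f.hom) (hqf : AlgSp.LocP (@LocallyQuasiFinite ⊓ @LocallyOfFiniteType) f.hom)
    (p1 : P ⟶ (AlgSp.ofScheme S).obj T') (p2 : P ⟶ X)
    (sq : IsPullback p2.hom p1.hom f.hom ((AlgSp.yon S).map e)) (j : V' ⟶ P)
    (hj : AlgSp.RepWith @IsOpenImmersion j.hom) (hqa : AlgSp.IsQuasiAffineMor (j ≫ p1).hom) :
    ∃ (W : Over S) (i : (AlgSp.yon S).obj W ⟶ X.obj), AlgSp.RepWith @IsOpenImmersion i ∧ CompactSpace ↥W.left ∧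
      Set.range (AlgSp.Points.map i) = Set.range (AlgSp.Points.map (j ≫ p2).hom) := by
  obtain ⟨W₀, i₀, φ, sqφ, hW₀⟩ := hqa (inferInstance : IsAffine T'.left) (𝟙 _)
  haveI : W₀.left.IsQuasiAffine := hW₀
  haveI : IsIso φ := sqφ.isIso_fst_of_isIso (IsIso.id _)
  have he : Etale e.left := inferInstance
  -- the open immersion `W₀ ⟶ P`
  have hj' : RepWith @IsOpenImmersion (φ ≫ j.hom) := MorphismProperty.RespectsIso.precomp _ _ _ hj
  have hp2 : RepWith @Etale p2.hom :=
    (RepWith @Etale).of_isPullback sq.flip ((repWith_yon_map_iff _ e).2 he)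
  have ha : RepWith @Etale ((φ ≫ j.hom) ≫ p2.hom) :=
    (RepWith @Etale).comp_mem _ _
      (Groth.Agent.Helper15.repWith_mono Groth.Agent.Helper15.isOpenImmersion_le_etale hj') hp2
  obtain ⟨hI, hι, hg'e, hg's, hrange⟩ :=
    Groth.Agent.Helper15.openSubspace_of_etale X.property _ ha
  have hfac := Sheaf.toImage_ι ((φ ≫ j.hom) ≫ p2.hom)
  obtain ⟨jI, hjI, hjI1, -⟩ := Groth.Agent.Helper15.Zmt.exists_restrict sq (φ ≫ j.hom) hj'
    (Sheaf.imageι ((φ ≫ j.hom) ≫ p2.hom)) (Sheaf.toImage ((φ ≫ j.hom) ≫ p2.hom)) hfac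
  haveI : LocallyQuasiFinite e.left := Groth.Agent.Helper15.locallyQuasiFinite_of_etale _
  obtain ⟨N, hN⟩ := Groth.Agent.Helper15.UbfSch.exists_schLiftsLE_of_compactSpace e.left
  have hlisted : (@LocallyQuasiFinite ⊓ @LocallyOfFiniteType : MorphismProperty Scheme.{u}) =
      @LocallyOfFiniteType ∨ (@LocallyQuasiFinite ⊓ @LocallyOfFiniteType :
        MorphismProperty Scheme.{u}) = @LocallyOfFinitePresentation ∨
      (@LocallyQuasiFinite ⊓ @LocallyOfFiniteType : MorphismProperty Scheme.{u}) = @Flat ∨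
      (@LocallyQuasiFinite ⊓ @LocallyOfFiniteType : MorphismProperty Scheme.{u}) = @Smooth ∨
      (@LocallyQuasiFinite ⊓ @LocallyOfFiniteType : MorphismProperty Scheme.{u}) = @Etale ∨
      (∀ ⦃A B : Scheme.{u}⦄ (g : A ⟶ B), (@LocallyQuasiFinite ⊓ @LocallyOfFiniteType :
        MorphismProperty Scheme.{u}) g ↔ (LocallyQuasiFinite g ∧ LocallyOfFiniteType g)) ∨
      (∀ ⦃A B : Scheme.{u}⦄ (g : A ⟶ B), (@LocallyQuasiFinite ⊓ @LocallyOfFiniteType :
        MorphismProperty Scheme.{u}) g ↔ (LocallyOfFiniteType g ∧ FormallyUnramified g)) :=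
    Or.inr (Or.inr (Or.inr (Or.inr (Or.inr (Or.inl (fun _ _ _ => Iff.rfl))))))
  obtain ⟨W, ⟨eW⟩⟩ := Groth.Agent.Helper15.Zmt.claim N e he inferInstance hN _ hI
    (Sheaf.imageι ((φ ≫ j.hom) ≫ p2.hom) ≫ f.hom)
    (Groth.Agent.Helper15.Zmt.isSeparatedMor_mono_comp _ f.hom hsep)
    (Groth.Agent.Helper15.Zmt.locP_etale_comp _
      (Groth.Agent.Helper15.repWith_mono Groth.Agent.Helper15.isOpenImmersion_le_etale hι)
      f.hom hqf) _
    (pullback.snd _ _) (pullback.fst _ _) (IsPullback.of_hasPullback _ _) _ jI hjI (by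
      rw [hjI1]; exact Groth.Agent.Helper15.isSurjectiveMor_of_isLocallySurjective _)
  refine ⟨W, eW.hom ≫ Sheaf.imageι ((φ ≫ j.hom) ≫ p2.hom),
    MorphismProperty.RespectsIso.precomp _ _ _ hι, ?_, ?_⟩
  · -- compactness
    obtain ⟨w, hw⟩ := (yon S).map_surjective (Sheaf.toImage ((φ ≫ j.hom) ≫ p2.hom) ≫ eW.inv)
    have hws : RepWith @Surjective ((yon S).map w) := by
      rw [hw]
      exact MorphismProperty.RespectsIso.postcomp _ _ _ hg's
    have hsurj : Surjective w.left := (repWith_yon_map_iff _ w).1 hws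
    have : Function.Surjective w.left := hsurj.surj
    exact ⟨by
      rw [← Set.range_eq_univ.2 this]
      exact isCompact_range w.left.continuous⟩
  · -- the image
    have h1 : Set.range (Points.map (eW.hom ≫ Sheaf.imageι ((φ ≫ j.hom) ≫ p2.hom))) =
        Set.range (Points.map (Sheaf.imageι ((φ ≫ j.hom) ≫ p2.hom))) := by
      ext x
      constructor
      · rintro ⟨y, rfl⟩
        exact ⟨Points.map eW.hom y, (Points.map_comp _ _ _).symm⟩
      · rintro ⟨y, rfl⟩
        refine ⟨Points.map eW.inv y, ?_⟩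
        rw [← Points.map_comp, Iso.inv_hom_id_assoc]
    rw [h1, hrange]
    ext x
    constructor
    · rintro ⟨t, rfl⟩
      rw [Points.ofPt_eq_map_ofScheme, Category.assoc, Points.map_comp]
      exact ⟨_, rfl⟩
    · rintro ⟨y, rfl⟩
      obtain ⟨t, ht⟩ := (Points.schemeEquiv W₀).surjective (Points.map (inv φ) y)
      refine ⟨t, ?_⟩
      rw [Points.ofPt_eq_map_ofScheme]
      change Points.map _ (Points.schemeEquiv W₀ t) = _
      rw [ht, ← Points.map_comp]
      congr 1
      simp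

end Groth.Agent.S10321
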