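import Groth.Statements.S10322
import Groth.Agent.Lib.Helper15.AlgSpLocP2

set_option autoImplicit false
universe u
open CategoryTheory CategoryTheory.Limits AlgebraicGeometry
open AlgSp

namespace Groth.Agent.S10322

/-- Unramified at a point implies quasi-finite at that point; an unramified morphism of algebraic spaces
is locally quasi-finite. -/
theorem result {S : Scheme.{u}} {X Y : AlgSp.Space S} (f : X ⟶ Y) :
    (∀ x : AlgSp.Points X.obj, AlgSp.HasAtMor (fun U _ h u => ∃ W : U.Opens, u ∈ W ∧ LocallyOfFiniteType (W.ι ≫ h) ∧ FormallyUnramified (W.ι ≫ h)) f.hom x → AlgSp.HasAtMor (fun U _ h u => ∃ W : U.Opens, u ∈ W ∧ LocallyQuasiFinite (W.ι ≫ h) ∧ LocallyOfFiniteType (W.ι ≫ h)) f.hom x) ∧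
    (AlgSp.LocP (@LocallyOfFiniteType ⊓ @FormallyUnramified) f.hom →
      AlgSp.LocP (@LocallyQuasiFinite ⊓ @LocallyOfFiniteType) f.hom) := by
  constructor
  · rintro x ⟨U, V, a, b, h, u, ha, hb, comm, hu, W, huW, h1, h2⟩
    refine ⟨U, V, a, b, h, u, ha, hb, comm, hu, W, huW, ?_, h1⟩
    haveI := h1
    haveI := h2
    exact Groth.Agent.Helper15.locallyQuasiFinite_of_formallyUnramified _
  · intro h
    refine Groth.Agent.Helper15.locP_mono ?_ h
    rintro A B φ ⟨h1, h2⟩
    haveI : LocallyOfFiniteType φ := h1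
    haveI : FormallyUnramified φ := h2
    exact ⟨Groth.Agent.Helper15.locallyQuasiFinite_of_formallyUnramified φ, h1⟩

end Groth.Agent.S10322
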