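import Groth.Statements.S1033
import Mathlib.Algebra.Homology.DerivedCategory.Ext.ExactSequences
import Mathlib.Algebra.Homology.DerivedCategory.Fractions
-- import your own Groth.Agent.* helpers here

set_option autoImplicit false
universe w v u
open CategoryTheory CategoryTheory.Abelian
open CohDer

namespace Groth.Agent.S1033

universe w'

open CategoryTheory CategoryTheory.Limits CategoryTheory.Abelian DerivedCategory

variable {A : Type u} [Category.{v} A] [Abelian A]

/-- If `s : M ⟶ L` is a quasi-isomorphism with `M` in degrees `≤ 0` and the differentials of `L`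
into and out of degree `0` vanish, then `s` is an epimorphism in degree `0`. -/
theorem epi_f_zero_of_quasiIso (M L : CochainComplex A ℤ) [M.IsStrictlyLE 0]
    (s : M ⟶ L) [QuasiIso s] (hL1 : L.d 0 1 = 0) (hL2 : L.d (-1) 0 = 0) : Epi (s.f 0) := by
  have h1 : IsIso (M.iCycles 0) :=
    M.isIso_iCycles 0 1 (by simp) ((M.isZero_of_isStrictlyLE 0 1 (by lia)).eq_of_tgt _ _)
  have h2 : IsIso (L.iCycles 0) := L.isIso_iCycles 0 1 (by simp) hL1
  have h3 : IsIso (L.homologyπ 0) := L.isIso_homologyπ (-1) 0 (by simp) hL2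
  have h4 : Epi (HomologicalComplex.cyclesMap s 0 ≫ L.homologyπ 0) := by
    rw [← HomologicalComplex.homologyπ_naturality]
    infer_instance
  have h5 : Epi (HomologicalComplex.cyclesMap s 0) := by
    have : HomologicalComplex.cyclesMap s 0 =
        (HomologicalComplex.cyclesMap s 0 ≫ L.homologyπ 0) ≫ inv (L.homologyπ 0) := by simp
    rw [this]; infer_instance
  have h6 : s.f 0 = inv (M.iCycles 0) ≫ HomologicalComplex.cyclesMap s 0 ≫ L.iCycles 0 := by
    rw [HomologicalComplex.cyclesMap_i, IsIso.inv_hom_id_assoc]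
  rw [h6]
  infer_instance

set_option backward.isDefEq.respectTransparency false in
/-- Effaceability of morphisms `B[0] ⟶ C[n]`, `n ≠ 0`, in the derived category. -/
theorem exists_epi_comp_eq_zero [HasDerivedCategory.{w'} A] {B C : A} (n : ℤ) (hn : n ≠ 0)
    (f : (singleFunctor A 0).obj B ⟶ ((singleFunctor A 0).obj C)⟦n⟧) :
    ∃ (B' : A) (π : B' ⟶ B), Epi π ∧ (singleFunctor A 0).map π ≫ f = 0 := by
  let SB : CochainComplex A ℤ := (CochainComplex.singleFunctor A 0).obj B
  let SC : CochainComplex A ℤ := (CochainComplex.singleFunctor A 0).obj C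
  let e : (Q.obj SC)⟦n⟧ ≅ Q.obj (SC⟦n⟧) := ((Q.commShiftIso n).app SC).symm
  let f' : Q.obj SB ⟶ Q.obj (SC⟦n⟧) := f ≫ e.hom
  obtain ⟨M, hM, s, hs, g, hfac⟩ := right_fac_of_isStrictlyLE f' 0
  have hqs : QuasiIso s := by rw [← isIso_Q_map_iff_quasiIso]; exact hs
  have hepi : Epi (s.f 0) := epi_f_zero_of_quasiIso M SB s
    ((HomologicalComplex.isZero_single_obj_X (ComplexShape.up ℤ) 0 B 1 (by lia)).eq_of_tgt _ _)
    ((HomologicalComplex.isZero_single_obj_X (ComplexShape.up ℤ) 0 B (-1) (by lia)).eq_of_src _ _)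
  let j : (CochainComplex.singleFunctor A 0).obj (M.X 0) ⟶ M :=
    HomologicalComplex.mkHomFromSingle (𝟙 (M.X 0)) (fun k hk => by
      have hk' : k = 1 := by simpa using hk.symm
      subst hk'
      exact (M.isZero_of_isStrictlyLE 0 1 (by lia)).eq_of_tgt _ _)
  let π : M.X 0 ⟶ B := s.f 0 ≫ (HomologicalComplex.singleObjXSelf (ComplexShape.up ℤ) 0 B).hom
  have hπ : (CochainComplex.singleFunctor A 0).map π = j ≫ s := by
    apply HomologicalComplex.from_single_hom_ext
    rw [HomologicalComplex.comp_f, HomologicalComplex.mkHomFromSingle_f]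
    change ((HomologicalComplex.single A (ComplexShape.up ℤ) 0).map π).f 0 = _
    rw [HomologicalComplex.single_map_f_self]
    simp only [π, Category.assoc, Iso.hom_inv_id, Category.comp_id]
  have hjg : j ≫ g = 0 := by
    apply HomologicalComplex.from_single_hom_ext
    apply IsZero.eq_of_tgt
    change IsZero (SC.X (0 + n))
    exact HomologicalComplex.isZero_single_obj_X (ComplexShape.up ℤ) 0 C _ (by lia)
  refine ⟨M.X 0, π, show Epi (s.f 0 ≫ _) from inferInstance, ?_⟩
  have h1 : (singleFunctor A 0).map π ≫ f' = 0 := by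
    change Q.map ((CochainComplex.singleFunctor A 0).map π) ≫ f' = 0
    rw [hπ, hfac, Q.map_comp, Category.assoc, IsIso.hom_inv_id_assoc, ← Q.map_comp, hjg, Q.map_zero]
  have h2 : ((singleFunctor A 0).map π ≫ f) ≫ e.hom = 0 ≫ e.hom := by
    rw [Category.assoc, zero_comp]; exact h1
  exact (cancel_mono e.hom).1 h2

theorem ext_succ_eq_zero [HasExt.{w} A] (p : ℕ) (h : ∀ (B C : A) (x : Ext B C p), x = 0)
    (B C : A) (x : Ext B C (p + 1)) : x = 0 := by
  let _ := HasDerivedCategory.standard A
  obtain ⟨B', π, hπ, hzero⟩ := exists_epi_comp_eq_zero (n := ((p + 1 : ℕ) : ℤ)) (by omega) x.hom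
  let S := ShortComplex.mk (kernel.ι π) π (kernel.condition π)
  have hS : S.ShortExact :=
    { exact := ShortComplex.exact_kernel π
      mono_f := inferInstanceAs (Mono (kernel.ι π))
      epi_g := hπ }
  have hx : (Ext.mk₀ S.g).comp x (zero_add _) = 0 := by
    apply Ext.ext
    rw [Ext.comp_hom, Ext.mk₀_hom, Ext.zero_hom, ShiftedHom.mk₀_comp]
    exact hzero
  obtain ⟨x₁, hx₁⟩ := Ext.contravariant_sequence_exact₃ hS _ x hx (n₀ := p) (by omega)
  rw [← hx₁, h _ _ x₁, Ext.comp_zero]

theorem aux [HasExt.{w} A] (p : ℕ)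
    (h : ∀ (B C : A) (x : Ext B C p), x = 0) (i : ℕ) (hi : p ≤ i) (B C : A) (x : Ext B C i) : x = 0 := by
  induction i, hi using Nat.le_induction generalizing B C with
  | base => exact h B C x
  | succ n hn ih => exact ext_succ_eq_zero n (fun B C x => ih B C x) B C x

/-- Let A be an abelian category (with Ext groups in some universe) and p ≥ 0. If Extᵖ(B, C) = 0 for all
objects B, C, then Extⁱ(B, C) = 0 for all i ≥ p and all B, C. -/
theorem result {A : Type u} [Category.{v} A] [Abelian A] [HasExt.{w} A] (p : ℕ)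
    (h : ∀ (B C : A) (x : Ext B C p), x = 0) (i : ℕ) (hi : p ≤ i) (B C : A) (x : Ext B C i) : x = 0 := by
  exact aux p h i hi B C x

end Groth.Agent.S1033
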