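import Groth.Statements.S10333
import Groth.Agent.Lib.Helper15.NormLoc3
import Groth.Agent.Lib.Helper16.AlgSp.RedSp

set_option autoImplicit false
universe u
open CategoryTheory CategoryTheory.Limits AlgebraicGeometry
open AlgSp

namespace Groth.Agent.S10333

/-- Let f : Y -> X be a morphism of algebraic spaces over S that is quasi-compact and quasi-separated,
and X' -> X the normalization of X in Y (an integral morphism through which f factors, initial among
such factorizations). If Y is reduced then X' is reduced. -/
theorem result {S : Scheme.{u}} {Y X X' : AlgSp.Space S} (f : Y ⟶ X)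
    (hqc : AlgSp.IsQuasiCompactMor f.hom) (hqs : AlgSp.IsQuasiSeparatedMor f.hom) (ν : X' ⟶ X) (f' : Y ⟶ X')
    (hn : AlgSp.IsRelNormalization f.hom ν.hom f'.hom) (hY : AlgSp.IsReducedSp Y.obj) :
    AlgSp.IsReducedSp X'.obj := by
  obtain ⟨M, a, hae, has, hloc⟩ := Groth.Agent.Helper15.Norm.exists_local_charts X.property
    X'.property hqc hqs hn
  refine ⟨M, a, hae, has, ?_⟩
  refine @isReduced_of_isReduced_stalk M.left (fun m => ?_)
  obtain ⟨A', B, β, s, j, b, hinj, hj, ⟨m', hm'⟩, hbe, -⟩ := hloc m
  haveI := hj
  have hB : IsReduced (Spec B) :=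
    Groth.Agent.Helper16.AS.isReduced_of_etale_of_isReducedSp hY b hbe
  haveI hA' : IsReduced (Spec A') := Groth.Agent.Helper15.Norm.isReduced_spec_of_injective β hinj hB
  rw [← hm']
  haveI : _root_.IsReduced ↑((Over.mk s).left.presheaf.stalk m') :=
    @isReduced_stalk_of_isReduced (Spec A') hA' m'
  exact isReduced_of_injective _
    (asIso (j.left.stalkMap m')).commRingCatIsoToRingEquiv.injective

end Groth.Agent.S10333
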