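import Groth.Statements.S1034
import Groth.Statements.S1034
import Groth.Agent.S0986
import Mathlib
-- import your own Groth.Agent.* helpers here

set_option autoImplicit false
universe v v' u u'
open CategoryTheory CategoryTheory.Limits
open DerLim

namespace Groth.Agent.S1034

open CategoryTheory.Pretriangulated

section
variable {A : Type u'} [Category.{v'} A] [Abelian A] [HasColimitsOfShape ℕ A]
  [HasExactColimitsOfShape ℕ A]

theorem key' (F' : ℕ ⥤ A) (Sg : A) (j : ∀ n, F'.obj n ⟶ Sg)
    (hj : IsColimit (Cofan.mk Sg j)) (δ : Sg ⟶ Sg)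
    (hδ : ∀ n, j n ≫ δ = j n - F'.map (homOfLE (Nat.le_succ n)) ≫ j (n + 1)) :
    Mono δ ∧ ∃ (π : Sg ⟶ colimit F') (w : δ ≫ π = 0),
      (∀ n, j n ≫ π = colimit.ι F' n) ∧ Nonempty (IsColimit (CokernelCofork.ofπ π w)) := by
  haveI : HasCoproduct F'.obj := ⟨⟨⟨_, hj⟩⟩⟩
  obtain ⟨w, hses⟩ := Groth.Agent.S0986.result F'
  let e0 : (∐ F'.obj) ≅ Sg := (coproductIsCoproduct F'.obj).coconePointUniqueUpToIso hj
  have he0 : ∀ n, Sigma.ι F'.obj n ≫ e0.hom = j n := fun n =>
    IsColimit.comp_coconePointUniqueUpToIso_hom (coproductIsCoproduct F'.obj) hj ⟨n⟩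
  set dd' := (𝟙 (∐ F'.obj) - DerLim.shiftMap F'.obj (fun n => F'.map (homOfLE (Nat.le_succ n))))
    with hdd'
  have hconj : dd' ≫ e0.hom = e0.hom ≫ δ := by
    apply Sigma.hom_ext
    intro n
    rw [reassoc_of% (he0 n), hδ, hdd', Preadditive.sub_comp, Category.id_comp,
      Preadditive.comp_sub, he0]
    congr 1
    simp only [DerLim.shiftMap, Sigma.ι_desc_assoc, Category.assoc, he0]
  haveI h1 : Mono dd' := hses.mono_f
  haveI h2 : Epi (Sigma.desc (fun n => colimit.ι F' n)) := hses.epi_g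
  have hδ' : δ = e0.inv ≫ dd' ≫ e0.hom := by rw [hconj, Iso.inv_hom_id_assoc]
  have hδ'' : δ ≫ e0.inv = e0.inv ≫ dd' := by
    rw [hδ', Category.assoc, Category.assoc, Iso.hom_inv_id, Category.comp_id]
  have w' : δ ≫ e0.inv ≫ Sigma.desc (fun n => colimit.ι F' n) = 0 := by
    rw [reassoc_of% hδ'', w, comp_zero]
  refine ⟨?_, e0.inv ≫ Sigma.desc (fun n => colimit.ι F' n), w', ?_, ⟨?_⟩⟩
  · rw [hδ']
    infer_instance
  · intro n
    rw [← he0, Category.assoc, Iso.hom_inv_id_assoc]
    exact Sigma.ι_desc _ _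
  · have hc : IsColimit (CokernelCofork.ofπ (Sigma.desc (fun n => colimit.ι F' n)) w) :=
      hses.exact.gIsCokernel
    refine CokernelCofork.IsColimit.ofπ _ _
      (fun {T} t ht => hc.desc (CokernelCofork.ofπ (e0.hom ≫ t) (by
        rw [reassoc_of% hconj, ht, comp_zero])))
      (fun {T} t ht => ?_) (fun {T} t ht m hm => ?_)
    · rw [Category.assoc]
      have := hc.fac (CokernelCofork.ofπ (e0.hom ≫ t) (by
        rw [reassoc_of% hconj, ht, comp_zero])) WalkingParallelPair.one
      dsimp at this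
      rw [this, Iso.inv_hom_id_assoc]
    · apply Cofork.IsColimit.hom_ext hc
      have := hc.fac (CokernelCofork.ofπ (e0.hom ≫ t) (by
        rw [reassoc_of% hconj, ht, comp_zero])) WalkingParallelPair.one
      dsimp at this ⊢
      rw [this, ← hm, Category.assoc, Iso.hom_inv_id_assoc]

end

section
variable {D : Type u} [Category.{v} D] [Preadditive D]
  {A : Type u'} [Category.{v'} A] [Abelian A] [HasColimitsOfShape ℕ A] [HasExactColimitsOfShape ℕ A]
  (G : D ⥤ A) [G.Additive] [PreservesColimitsOfShape (Discrete ℕ) G]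
  (K : ℕ → D) (f : ∀ n, K n ⟶ K (n + 1)) [HasCoproduct K]

/-- the image cofan is a coproduct -/
noncomputable def isColimitMapCofan :
    IsColimit (Cofan.mk (G.obj (∐ K)) (fun n => G.map (Sigma.ι K n)) : Cofan (fun n => G.obj (K n))) :=
  isColimitCofanMkObjOfIsColimit G K _ (coproductIsCoproduct K)

theorem key :
    Mono (G.map (𝟙 _ - DerLim.shiftMap K f)) ∧
    ∃ (π : G.obj (∐ K) ⟶ colimit (Functor.ofSequence (fun n => G.map (f n))))
      (w : G.map (𝟙 _ - DerLim.shiftMap K f) ≫ π = 0),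
      (∀ n, G.map (Sigma.ι K n) ≫ π = colimit.ι (Functor.ofSequence (fun n => G.map (f n))) n) ∧
      Nonempty (IsColimit (CokernelCofork.ofπ π w)) := by
  have hmap : ∀ n, (Functor.ofSequence (fun n => G.map (f n))).map (homOfLE (Nat.le_succ n)) =
      G.map (f n) :=
    fun n => Functor.ofSequence_map_homOfLE_succ _ n
  have h : ∀ n, G.map (Sigma.ι K n) ≫ G.map (𝟙 _ - DerLim.shiftMap K f) =
      G.map (Sigma.ι K n) - G.map (f n) ≫ G.map (Sigma.ι K (n + 1)) := by
    intro n
    rw [← G.map_comp, Preadditive.comp_sub, Category.comp_id, G.map_sub, DerLim.shiftMap,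
      Sigma.ι_desc, G.map_comp]
  exact key' (Functor.ofSequence (fun n => G.map (f n))) (G.obj (∐ K))
    (fun n => G.map (Sigma.ι K n)) (isColimitMapCofan G K) (G.map (𝟙 _ - DerLim.shiftMap K f))
    (fun n => (h n).trans (congrArg (fun x => G.map (Sigma.ι K n) - x ≫ G.map (Sigma.ι K (n + 1)))
      (hmap n).symm))

end

theorem aux {D : Type u} [Category.{v} D] [Preadditive D] [Limits.HasZeroObject D] [HasShift D ℤ]
    [∀ n : ℤ, (shiftFunctor D n).Additive] [Pretriangulated D] [IsTriangulated D]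
    [HasColimitsOfShape (Discrete ℕ) D]
    {A : Type u'} [Category.{v'} A] [Abelian A] [HasColimitsOfShape ℕ A]
    [HasExactColimitsOfShape ℕ A]
    (H : D ⥤ A) [H.IsHomological] [PreservesColimitsOfShape (Discrete ℕ) H]
    (K : ℕ → D) (f : ∀ n, K n ⟶ K (n + 1)) (L : D) (i : ∀ n, K n ⟶ L)
    (hL : DerLim.IsHocolim K f L i) :
    ∃ e : colimit (Functor.ofSequence (fun n => H.map (f n))) ≅ H.obj L,
      ∀ n : ℕ, colimit.ι (Functor.ofSequence (fun n => H.map (f n))) n ≫ e.hom = H.map (i n) := by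
  obtain ⟨c, hT⟩ := hL
  set d := (𝟙 (∐ K) - DerLim.shiftMap K f) with hd
  set T := Triangle.mk d (Sigma.desc i) c with hTdef
  -- the shifted functor
  obtain ⟨hmono1, -⟩ := key (shiftFunctor D (1 : ℤ) ⋙ H) K f
  obtain ⟨-, π, w, hπ, ⟨hcok⟩⟩ := key H K f
  have ex1 := H.map_distinguished_exact T hT
  have ex2 := H.map_distinguished_exact T.rotate (rot_of_distTriang _ hT)
  have ex3 := H.map_distinguished_exact T.rotate.rotate
    (rot_of_distTriang _ (rot_of_distTriang _ hT))
  -- H c = 0
  have hc0 : H.map c = 0 := by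
    have hz : H.map c ≫ H.map (-(shiftFunctor D (1 : ℤ)).map d) = 0 :=
      ((shortComplexOfDistTriangle T.rotate.rotate
        (rot_of_distTriang _ (rot_of_distTriang _ hT))).map H).zero
    rw [Functor.map_neg, Preadditive.comp_neg, neg_eq_zero] at hz
    haveI : Mono (H.map ((shiftFunctor D (1 : ℤ)).map d)) := hmono1
    rw [← cancel_mono (H.map ((shiftFunctor D (1 : ℤ)).map d)), hz, zero_comp]
  haveI hepi : Epi (H.map (Sigma.desc i)) := by
    have := (ShortComplex.exact_iff_epi _ (show ((shortComplexOfDistTriangle T.rotate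
      (rot_of_distTriang _ hT)).map H).g = 0 from hc0)).1 ex2
    exact this
  have hcok2 : IsColimit (CokernelCofork.ofπ (H.map (Sigma.desc i))
      ((shortComplexOfDistTriangle T hT).map H).zero) :=
    haveI : Epi ((shortComplexOfDistTriangle T hT).map H).g := hepi
    ex1.gIsCokernel
  let e := IsColimit.coconePointUniqueUpToIso hcok hcok2
  refine ⟨e, fun n => ?_⟩
  have h1 : π ≫ e.hom = H.map (Sigma.desc i) :=
    IsColimit.comp_coconePointUniqueUpToIso_hom hcok hcok2 WalkingParallelPair.one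
  refine (congrArg (fun x => x ≫ e.hom) (hπ n).symm).trans ?_
  refine (Category.assoc _ _ _).trans ?_
  refine (congrArg (fun x => H.map (Sigma.ι K n) ≫ x) h1).trans ?_
  refine (H.map_comp _ _).symm.trans ?_
  rw [Sigma.ι_desc]

open CategoryTheory.Pretriangulated in
/-- Let D be a pretriangulated category with countable direct sums, A an abelian category with exact
colimits of shape ℕ, and H : D ⥤ A a homological functor that preserves countable direct sums. If L
(with maps iₙ : Kₙ ⟶ L) is a homotopy colimit of a system (Kₙ, fₙ), then H(L) is the colimit of the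
H(Kₙ): there is an isomorphism colimₙ H(Kₙ) ≅ H(L) compatible with the maps H(iₙ). -/
theorem result {D : Type u} [Category.{v} D] [Preadditive D] [Limits.HasZeroObject D] [HasShift D ℤ]
    [∀ n : ℤ, (shiftFunctor D n).Additive] [Pretriangulated D] [IsTriangulated D] [HasColimitsOfShape (Discrete ℕ) D]
    {A : Type u'} [Category.{v'} A] [Abelian A] [HasColimitsOfShape ℕ A] [HasExactColimitsOfShape ℕ A]
    (H : D ⥤ A) [H.IsHomological] [PreservesColimitsOfShape (Discrete ℕ) H]
    (K : ℕ → D) (f : ∀ n, K n ⟶ K (n + 1)) (L : D) (i : ∀ n, K n ⟶ L) (hL : DerLim.IsHocolim K f L i) :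
    ∃ e : colimit (Functor.ofSequence (fun n => H.map (f n))) ≅ H.obj L,
      ∀ n : ℕ, colimit.ι (Functor.ofSequence (fun n => H.map (f n))) n ≫ e.hom = H.map (i n) := by
  exact aux H K f L i hL

end Groth.Agent.S1034
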