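import Groth.Statements.S10353
import Groth.Agent.Lib.Helper15.DenseSch1

set_option autoImplicit false
universe u
open CategoryTheory CategoryTheory.Limits AlgebraicGeometry Topology TopologicalSpace
open AlgSp Groth.Agent.Helper15

namespace Groth.Agent.S10353

/-- Let X be an algebraic space over a scheme S and suppose there is a finite, etale, surjective map h_U
⟶ X from a scheme U. Then some dense open subspace of X is a scheme: an open subspace X' ⟶ X with
representable underlying sheaf and |X'| dense in |X|. -/
theorem result {S : Scheme.{u}} (X : AlgSp.Space S)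
    {U : Over S} (a : (AlgSp.yon S).obj U ⟶ X.obj) (hf : AlgSp.RepWith @IsFinite a) (he : AlgSp.RepWith @Etale a)
    (hs : AlgSp.RepWith @Surjective a) :
    ∃ (X' : AlgSp.Space S) (j : X' ⟶ X), AlgSp.RepWith @IsOpenImmersion j.hom ∧ X'.obj.obj.IsRepresentable ∧
      Dense (Set.range (AlgSp.Points.map j.hom)) := by
  have hq : DenseSch.HasQcPts X.obj := by
    intro x
    obtain ⟨u, rfl⟩ := surjective_ofPt a hs x
    refine ⟨FieldPt.ofPt a u, rfl, ?_⟩
    rw [FieldPt.toHom_ofPt]
    refine (RepWith @QuasiCompact).comp_mem _ _ ((repWith_yon_map_iff _ _).2 ?_)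
      (repWith_mono (fun _ _ f hf => by haveI : IsFinite f := hf; infer_instance) hf)
    change QuasiCompact (U.left.fromSpecResidueField u)
    refine ⟨fun V _ _ => ?_⟩
    exact (Set.toFinite _).isCompact
  obtain ⟨X', j, hX', hj, hrep, hd⟩ := DenseSch.exists_dense_open_subscheme X.property hq
  exact ⟨⟨X', hX'⟩, ObjectProperty.homMk j, hj, hrep, hd⟩

end Groth.Agent.S10353
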