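import Groth.Statements.S10355
import Groth.Agent.Lib.Helper15.DenseSch1

set_option autoImplicit false
universe u
open CategoryTheory CategoryTheory.Limits AlgebraicGeometry Topology TopologicalSpace
open AlgSp Groth.Agent.Helper15

namespace Groth.Agent.S10355

/-- A decent algebraic space X over a scheme S whose space of points is a single point is a scheme (the
underlying sheaf of X is representable). -/
theorem result {S : Scheme.{u}} (X : AlgSp.Space S)
    (hX : AlgSp.IsDecent X.obj) [Nonempty (AlgSp.Points X.obj)] [Subsingleton (AlgSp.Points X.obj)] :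
    X.obj.obj.IsRepresentable := by
  obtain ⟨X', j, hX', hj, hrep, hd⟩ := DenseSch.exists_dense_open_subscheme X.property
    (DenseSch.hasQcPts_of_isDecent hX)
  have hs : RepWith @Surjective j := by
    apply repWith_surjective_of_isSurjectiveMor j hj.rep
    intro x
    obtain ⟨y, hy⟩ := hd.nonempty
    obtain ⟨z, rfl⟩ := hy
    exact ⟨z, Subsingleton.elim _ _⟩
  haveI : IsIso j := isIso_of_repWith_isOpenImmersion_surjective j hj hs
  obtain ⟨V, ⟨r⟩⟩ := hrep.has_representation
  let e := isoOfRepresentableBy r
  exact ⟨⟨V, ⟨representableByOfIso (e ≪≫ asIso j)⟩⟩⟩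

end Groth.Agent.S10355
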