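import Groth.Statements.S10370
import Groth.Agent.Lib.Helper15.ResidualSp2

set_option autoImplicit false
universe u
open CategoryTheory CategoryTheory.Limits AlgebraicGeometry Topology TopologicalSpace
open AlgSp

namespace Groth.Agent.S10370

/-- For an algebraic space X over a scheme S and x ∈ |X| there is a monomorphism Z ⟶ X of algebraic
spaces with image {x} in |X| such that Z admits a locally finitely presented, flat, surjective
morphism from the spectrum of a field (so Z is a reduced, locally Noetherian, one-point space). -/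
theorem result {S : Scheme.{u}} (X : AlgSp.Space S) (x : AlgSp.Points X.obj) :
    ∃ (Z : AlgSp.Space S) (i : Z ⟶ X), Mono i.hom ∧ Set.range (AlgSp.Points.map i.hom) = {x} ∧
      ∃ (k : Type u) (_ : Field k) (str : Spec (CommRingCat.of k) ⟶ S) (p : (AlgSp.yon S).obj (Over.mk str) ⟶ Z.obj),
        AlgSp.LocP @LocallyOfFinitePresentation p ∧ AlgSp.LocP @Flat p ∧ AlgSp.IsSurjectiveMor p := by
  obtain ⟨Z, hZ, i, hi, hr, k, hk, str, p, h1, h2⟩ :=
    Groth.Agent.Helper15.ResidualSp2.exists_residual_space X.2 x
  refine ⟨⟨Z, hZ⟩, ObjectProperty.homMk i, hi, hr, k, hk, str, p, ?_, ?_, ?_⟩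
  · exact Groth.Agent.Helper15.locP_of_repWith Groth.Agent.Helper15.goodP_lfp.etale_le p
      (Groth.Agent.Helper15.repWith_mono Groth.Agent.Helper15.goodP_lfp.etale_le h1)
  · exact Groth.Agent.Helper15.locP_of_repWith Groth.Agent.Helper15.goodP_flat.etale_le p
      (Groth.Agent.Helper15.repWith_mono Groth.Agent.Helper15.goodP_flat.etale_le h1)
  · exact Groth.Agent.Helper15.isSurjectiveMor_of_repWith_surjective p h2

end Groth.Agent.S10370
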