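import Groth.Statements.S10397
import Groth.Agent.Lib.Helper15.DecentIrr1
import Groth.Agent.Lib.Helper15.DenseSch1

set_option autoImplicit false
universe u
open CategoryTheory CategoryTheory.Limits AlgebraicGeometry Topology TopologicalSpace
open AlgSp Groth.Agent.Helper15

namespace Groth.Agent.S10397

/-- (1) ⇔ (3): an algebraic space X over a scheme S is decent with |X| having finitely many irreducible
components if and only if X has a dense open subscheme X' with finitely many irreducible components
whose generic points x'_j give quasi-compact morphisms Spec κ(x'_j) ⟶ X. -/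
theorem result {S : Scheme.{u}} (X : AlgSp.Space S) :
    (AlgSp.IsDecent X.obj ∧ (irreducibleComponents (AlgSp.Points X.obj)).Finite) ↔
      ∃ (X' : Over S) (j : (AlgSp.yon S).obj X' ⟶ X.obj), AlgSp.RepWith @IsOpenImmersion j ∧
        Dense (Set.range (AlgSp.Points.ofPt j)) ∧ (irreducibleComponents ↥X'.left).Finite ∧
        ∀ x' : ↥X'.left, (∃ T ∈ irreducibleComponents ↥X'.left, IsGenericPoint x' T) →
          AlgSp.RepWith @QuasiCompact (AlgSp.FieldPt.ofPt j x').toHom := by
  classical
  have hXa := X.property
  constructor
  · rintro ⟨hd, hfin⟩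
    obtain ⟨X'', j'', hX'', hj'', hrep, hdense⟩ :=
      DenseSch.exists_dense_open_subscheme hXa (DenseSch.hasQcPts_of_isDecent hd)
    obtain ⟨V, ⟨r⟩⟩ := hrep.has_representation
    let e := isoOfRepresentableBy r
    let j : (yon S).obj V ⟶ X.obj := e.hom ≫ j''
    have hj : RepWith @IsOpenImmersion j :=
      (RepWith @IsOpenImmersion).comp_mem _ _ (repWith_of_isIso _ e.hom) hj''
    have hje : RepWith @Etale j := repWith_mono isOpenImmersion_le_etale hj
    have hrange : Set.range (Points.ofPt j) = Set.range (Points.map j'') := by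
      ext x
      constructor
      · rintro ⟨v, rfl⟩
        refine ⟨Points.map e.hom (Points.ofScheme V v), ?_⟩
        rw [← Points.map_comp, ← Points.ofPt_eq_map_ofScheme]
      · rintro ⟨y, rfl⟩
        obtain ⟨v, hv⟩ := (Points.schemeEquiv V).surjective (Points.map e.inv y)
        refine ⟨v, ?_⟩
        rw [Points.ofPt_eq_map_ofScheme]
        change Points.map (e.hom ≫ j'') (Points.schemeEquiv V v) = _
        rw [hv, ← Points.map_comp, Iso.inv_hom_id_assoc]
    haveI : Mono j := mono_of_repWith isOpenImmersion_le_mono j hj
    have hinj : Function.Injective (Points.ofPt j) := by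
      intro v v' hvv'
      have h1 := Strat.points_map_injective_of_isOpenImmersion hXa j hj
      rw [Points.ofPt_eq_map_ofScheme, Points.ofPt_eq_map_ofScheme] at hvv'
      exact (Points.schemeEquiv V).injective (h1 hvv')
    have hopen : IsOpenMap (Points.ofPt j) := isOpenMap_ofPt_of_etale j hje
    have hemb : Topology.IsOpenEmbedding (Points.ofPt j) :=
      Topology.IsOpenEmbedding.of_continuous_injective_isOpenMap (Points.continuous_ofPt j)
        hinj hopen
    haveI : QuasiSober (Points X.obj) := SoberDecent.quasiSober_points_of_isDecent hXa hd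
    -- generic points of the components of `|X|`
    have hgenX : ∀ D ∈ irreducibleComponents (Points X.obj), ∃ d, IsGenericPoint d D :=
      fun D hD => QuasiSober.sober hD.1 (isClosed_of_mem_irreducibleComponents D hD)
    choose d hd' using fun D : irreducibleComponents (Points X.obj) => hgenX D.1 D.2
    haveI : Finite (irreducibleComponents (Points X.obj)) := hfin.to_subtype
    let FX : Set (Points X.obj) := Set.range d
    have hFX : FX.Finite := Set.finite_range d
    let F' : Set V.left := Points.ofPt j ⁻¹' FX
    have hF' : F'.Finite := hFX.preimage hinj.injOn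
    refine ⟨V, j, hj, ?_, ?_, ?_⟩
    · rw [hrange]; exact hdense
    · apply DecentIrr.finite_irreducibleComponents_of_specializes F' hF'
      intro x'
      have hD := irreducibleComponent_mem_irreducibleComponents (Points.ofPt j x')
      have hmem : Points.ofPt j x' ∈ irreducibleComponent (Points.ofPt j x') :=
        mem_irreducibleComponent
      have hsp : d ⟨irreducibleComponent (Points.ofPt j x'), hD⟩ ⤳ Points.ofPt j x' := by
        rw [specializes_iff_mem_closure, (hd' ⟨_, hD⟩).def]
        exact hmem
      obtain ⟨ξ, hξ⟩ : d ⟨irreducibleComponent (Points.ofPt j x'), hD⟩ ∈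
          Set.range (Points.ofPt j) := hsp.mem_open hopen.isOpen_range ⟨x', rfl⟩
      refine ⟨ξ, ?_, ?_⟩
      · change Points.ofPt j ξ ∈ FX
        rw [hξ]
        exact ⟨_, rfl⟩
      · rw [← hemb.isInducing.specializes_iff, hξ]
        exact hsp
    · intro x' _
      obtain ⟨p, hp, -, hq⟩ := hd (Points.ofPt j x')
      exact QcLocal.repWith_quasiCompact_of_mk_eq hXa p (FieldPt.ofPt j x') hp.symm hq
  · rintro ⟨V, j, hj, hdense, hfin', hgen⟩
    have hje : RepWith @Etale j := repWith_mono isOpenImmersion_le_etale hj
    have hgenV : ∀ C ∈ irreducibleComponents V.left, ∃ ξ, IsGenericPoint ξ C :=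
      fun C hC => QuasiSober.sober hC.1 (isClosed_of_mem_irreducibleComponents C hC)
    choose ξ hξ using fun C : irreducibleComponents V.left => hgenV C.1 C.2
    haveI : Finite (irreducibleComponents V.left) := hfin'.to_subtype
    let F' : Set V.left := Set.range ξ
    have hF' : F'.Finite := Set.finite_range ξ
    let F : Set (Points X.obj) := Points.ofPt j '' F'
    have hF : F.Finite := hF'.image _
    have hFq : ∀ x ∈ F, ∃ p : FieldPt X.obj, Points.mk p = x ∧ RepWith @QuasiCompact p.toHom := by
      rintro _ ⟨_, ⟨C, rfl⟩, rfl⟩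
      exact ⟨FieldPt.ofPt j (ξ C), rfl, hgen (ξ C) ⟨C.1, C.2, hξ C⟩⟩
    have hcov : ∀ z : Points X.obj, ∃ x ∈ F, x ⤳ z := by
      intro z
      let K : Set (Points X.obj) := ⋃ x ∈ F, closure {x}
      have hK : IsClosed K := hF.isClosed_biUnion (fun _ _ => isClosed_closure)
      have hsub : Set.range (Points.ofPt j) ⊆ K := by
        rintro _ ⟨v, rfl⟩
        have hC := irreducibleComponent_mem_irreducibleComponents v
        have hsp : ξ ⟨irreducibleComponent v, hC⟩ ⤳ v := by
          rw [specializes_iff_mem_closure, (hξ ⟨_, hC⟩).def]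
          exact mem_irreducibleComponent
        have hsp' := hsp.map (Points.continuous_ofPt j)
        refine Set.mem_biUnion (x := Points.ofPt j (ξ ⟨irreducibleComponent v, hC⟩)) ?_
          (specializes_iff_mem_closure.1 hsp')
        exact ⟨_, ⟨_, rfl⟩, rfl⟩
      have hz : z ∈ K := by
        have h1 : closure (Set.range (Points.ofPt j)) ⊆ K := closure_minimal hsub hK
        rw [hdense.closure_eq] at h1
        exact h1 (Set.mem_univ z)
      obtain ⟨x, hx, hxz⟩ := Set.mem_iUnion₂.1 hz
      exact ⟨x, hx, specializes_iff_mem_closure.2 hxz⟩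
    exact ⟨DecentIrr.isDecent_of_generic hXa F hF hFq hcov,
      DecentIrr.finite_irreducibleComponents_of_specializes F hF hcov⟩

end Groth.Agent.S10397
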