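import Groth.Statements.S10400
import Groth.Agent.Lib.Helper15.GenFin12

set_option autoImplicit false
universe u
open CategoryTheory CategoryTheory.Limits AlgebraicGeometry Topology TopologicalSpace
open AlgSp

namespace Groth.Agent.S10400

/-- Let f : X ⟶ Y be a morphism locally of finite type of algebraic spaces over a scheme S with Y
decent. Assume the codimension 0 points of X and of Y form finite sets, that a point of X has
codimension 0 exactly when its image does, and that f is quasi-compact or separated. Then there is a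
dense open subspace V ⊆ Y with f⁻¹(V) ⟶ V finite. -/
theorem result {S : Scheme.{u}} {X Y : AlgSp.Space S} (f : X ⟶ Y)
    (hf : AlgSp.LocP @LocallyOfFiniteType f.hom) (hY : AlgSp.IsDecent Y.obj)
    (hX0 : {x : AlgSp.Points X.obj | AlgSp.HasAt (fun U u => ringKrullDim ↥(U.presheaf.stalk u) = 0) X.obj x}.Finite)
    (hY0 : {y : AlgSp.Points Y.obj | AlgSp.HasAt (fun U u => ringKrullDim ↥(U.presheaf.stalk u) = 0) Y.obj y}.Finite)
    (hpre : ∀ x : AlgSp.Points X.obj, AlgSp.HasAt (fun U u => ringKrullDim ↥(U.presheaf.stalk u) = 0) X.obj x ↔ AlgSp.HasAt (fun U u => ringKrullDim ↥(U.presheaf.stalk u) = 0) Y.obj (AlgSp.Points.map f.hom x))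
    (hqs : AlgSp.IsQuasiCompactMor f.hom ∨ AlgSp.IsSeparatedMor f.hom) :
    ∃ (V X' : AlgSp.Space S) (j : V ⟶ Y) (fst : X' ⟶ V) (snd : X' ⟶ X), AlgSp.RepWith @IsOpenImmersion j.hom ∧
      Dense (Set.range (AlgSp.Points.map j.hom)) ∧ IsPullback fst.hom snd.hom j.hom f.hom ∧
      AlgSp.IsFiniteMor fst.hom := by
  obtain ⟨Y', j, hY', hj, hdense, hfin⟩ := Groth.Agent.Helper15.GenFin.exists_dense_open_finite
    X.property Y.property f.hom hf hY hX0 hY0 hpre hqs
  have sq : IsPullback (pullback.fst j f.hom) (pullback.snd j f.hom) j f.hom :=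
    IsPullback.of_hasPullback _ _
  have hX' : AlgSp.IsAlgSpace (pullback j f.hom) :=
    Groth.Agent.Helper15.isAlgSpace_of_isPullback Y.property.diag hY' X.property sq
  exact ⟨⟨Y', hY'⟩, ⟨pullback j f.hom, hX'⟩, ObjectProperty.homMk j,
    ObjectProperty.homMk (pullback.fst j f.hom), ObjectProperty.homMk (pullback.snd j f.hom),
    hj, hdense, sq, hfin _ _ _ sq⟩

end Groth.Agent.S10400
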