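import Groth.Statements.S10401
import Groth.Agent.Lib.Helper16.AlgSp.LocPEngine

set_option autoImplicit false
universe u
open CategoryTheory CategoryTheory.Limits AlgebraicGeometry Topology TopologicalSpace
open AlgSp
open Groth.Agent.Helper15 Groth.Agent.Helper16.AS

namespace Groth.Agent.S10401

/-- If Y is a Jacobson algebraic space and X is an algebraic space that is locally of finite type over
Y, then X is Jacobson. -/
theorem result {S : Scheme.{u}} {X Y : AlgSp.Space S} (hX : AlgSp.EtaleLocally (fun U => JacobsonSpace ↥U) X.obj)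
    (f : Y ⟶ X) (hf : AlgSp.LocP @LocallyOfFiniteType f.hom) : AlgSp.EtaleLocally (fun U => JacobsonSpace ↥U) Y.obj := by
  obtain ⟨U, q, hqe, hqs, hJ⟩ := hX
  have hXV : IsAlgSpace (pullback f.hom q) :=
    isAlgSpace_of_isPullback X.property.diag Y.property (IsAlgSpace.yon_obj U)
      (IsPullback.of_hasPullback f.hom q)
  obtain ⟨V, r, hre, hrs⟩ := hXV.atlas
  obtain ⟨h₀, hh⟩ := (yon S).map_surjective (r ≫ pullback.snd f.hom q)
  have hfst : RepWith @Etale (pullback.fst f.hom q) :=
    (RepWith @Etale).of_isPullback (IsPullback.of_hasPullback f.hom q).flip hqe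
  have hfsts : RepWith @Surjective (pullback.fst f.hom q) :=
    (RepWith @Surjective).of_isPullback (IsPullback.of_hasPullback f.hom q).flip hqs
  have hlft : LocallyOfFiniteType h₀.left :=
    hf (r ≫ pullback.fst f.hom q) q h₀ ((RepWith @Etale).comp_mem _ _ hre hfst) hqe
      (by rw [Category.assoc, pullback.condition, ← Category.assoc, hh])
  refine ⟨V, r ≫ pullback.fst f.hom q, (RepWith @Etale).comp_mem _ _ hre hfst,
    (RepWith @Surjective).comp_mem _ _ hrs hfsts, ?_⟩
  haveI := hJ
  exact LocallyOfFiniteType.jacobsonSpace h₀.left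

end Groth.Agent.S10401
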