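import Groth.Statements.S10403
import Groth.Agent.Lib.Helper15.AlgSpFTPoint
import Groth.Agent.Lib.Helper15.AlgSpDecent2

set_option autoImplicit false
universe u
open CategoryTheory CategoryTheory.Limits AlgebraicGeometry Topology TopologicalSpace
open AlgSp

namespace Groth.Agent.S10403
open Groth.Agent.Helper15

/-- For a decent Jacobson algebraic space X over a scheme S, the finite type points of |X| are exactly
the closed points. -/
theorem result {S : Scheme.{u}} (X : AlgSp.Space S) (hd : AlgSp.IsDecent X.obj)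
    (hX : AlgSp.EtaleLocally (fun U => JacobsonSpace ↥U) X.obj) (x : AlgSp.Points X.obj) :
    AlgSp.HasAt (fun U u => IsClosed ({u} : Set ↥U)) X.obj x ↔ IsClosed ({x} : Set (AlgSp.Points X.obj)) := by
  obtain ⟨U₀, p, hpe, hps, hJ⟩ := hX
  haveI : JacobsonSpace U₀.left := hJ
  constructor
  · rintro ⟨U, a, u, hae, rfl, hu⟩
    rw [← closure_eq_iff_isClosed]
    refine Set.Subset.antisymm (fun x' hx' => ?_) subset_closure
    have hx : Points.ofPt a u ⤳ x' := specializes_iff_mem_closure.2 hx'
    obtain ⟨u₀', rfl⟩ := surjective_ofPt p hps x'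
    obtain ⟨w, hwu, hw⟩ := exists_specializes_lift_of_isDecent hd p hpe u₀' _ hx
    -- `w` is a locally closed point of `U₀`
    have hlft := locP_lft_ofPt_of_isClosed a hae u hu
    have hw' : Points.ofPt p w =
        Points.ofPt (FieldPt.ofPt a u).toHom (IsLocalRing.closedPoint (FieldPt.ofPt a u).K) := by
      rw [hw, Points.ofPt_toHom]; rfl
    obtain ⟨U', h1, h2⟩ := exists_closed_point_chart_of_lft p hpe _ _ _ hlft w hw'
    have hlc : IsLocallyClosed ({w} : Set U₀.left) := by
      have : ({w} : Set U₀.left) = (U' : Set U₀.left) ∩ closure {w} := by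
        ext y
        simp only [Set.mem_singleton_iff, Set.mem_inter_iff, SetLike.mem_coe]
        constructor
        · rintro rfl; exact ⟨h1, subset_closure rfl⟩
        · rintro ⟨hy1, hy2⟩
          exact h2 y hy1 (specializes_iff_mem_closure.2 hy2)
      rw [this]
      exact U'.2.isLocallyClosed.inter isClosed_closure.isLocallyClosed
    have hwc : IsClosed ({w} : Set U₀.left) := isClosed_singleton_of_isLocallyClosed_singleton hlc
    have : u₀' = w := hwu.mem_closed hwc rfl
    rw [this, hw]
    exact Set.mem_singleton _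
  · intro hx
    obtain ⟨u₀, hu₀⟩ := surjective_ofPt p hps x
    obtain ⟨_, ⟨O, hO, rfl⟩, huO, -⟩ :=
      (U₀.left.isBasis_affineOpens).exists_subset_of_mem_open (Set.mem_univ u₀) isOpen_univ
    let O' : U₀.left.Opens := O
    let V : Over S := Over.mk (O'.ι ≫ U₀.hom)
    let j : V ⟶ U₀ := Over.homMk O'.ι rfl
    haveI : IsAffine V.left := hO
    have hj : Etale j.left := (inferInstance : Etale O'.ι)
    have ha : RepWith @Etale ((yon S).map j ≫ p) :=
      (RepWith @Etale).comp_mem _ _ ((repWith_yon_map_iff _ j).2 hj) hpe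
    let T : Set V.left := Points.ofPt ((yon S).map j ≫ p) ⁻¹' {x}
    have hTcl : IsClosed T := by
      have hc : Continuous (Points.ofPt ((yon S).map j ≫ p)) := Points.continuous_ofPt _
      exact hx.preimage hc
    have hTne : T.Nonempty := by
      refine ⟨⟨u₀, huO⟩, ?_⟩
      change Points.ofPt ((yon S).map j ≫ p) _ = x
      rw [ofPt_comp_yon_map]; exact hu₀
    obtain ⟨v, hvT, hv⟩ := hTcl.exists_closed_singleton hTne
    exact ⟨V, (yon S).map j ≫ p, v, ha, hvT, hv⟩


end Groth.Agent.S10403
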