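import Groth.Statements.S10404
import Groth.Agent.S10403
import Groth.Agent.Lib.Helper15.AlgSpFTPoint
import Groth.Agent.Lib.Helper15.AlgSpDecent2

set_option autoImplicit false
universe u
open CategoryTheory CategoryTheory.Limits AlgebraicGeometry Topology TopologicalSpace
open AlgSp

namespace Groth.Agent.S10404
open Groth.Agent.Helper15

/-- A decent algebraic space X over a scheme S is Jacobson if and only if the topological space |X| is
Jacobson. -/
theorem result {S : Scheme.{u}} (X : AlgSp.Space S) (hd : AlgSp.IsDecent X.obj) :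
    AlgSp.EtaleLocally (fun U => JacobsonSpace ↥U) X.obj ↔ JacobsonSpace (AlgSp.Points X.obj) := by
  constructor
  · intro hX
    rw [jacobsonSpace_iff_locallyClosed]
    intro Z hZne hZ
    obtain ⟨U₀, p, hpe, hps, hJ⟩ := id hX
    haveI : JacobsonSpace U₀.left := hJ
    have hc : Continuous (Points.ofPt p) := Points.continuous_ofPt _
    have hne : (Points.ofPt p ⁻¹' Z).Nonempty := by
      obtain ⟨z, hz⟩ := hZne
      obtain ⟨u, rfl⟩ := surjective_ofPt p hps z
      exact ⟨u, hz⟩
    obtain ⟨u, huZ, hu⟩ := nonempty_inter_closedPoints hne (hZ.preimage hc)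
    refine ⟨Points.ofPt p u, huZ, ?_⟩
    exact (Groth.Agent.S10403.result X hd hX (Points.ofPt p u)).1 ⟨U₀, p, u, hpe, rfl, hu⟩
  · intro hJ
    obtain ⟨U₀, p, hpe, hps⟩ := X.2.atlas
    refine ⟨U₀, p, hpe, hps, ?_⟩
    change JacobsonSpace U₀.left
    rw [jacobsonSpace_iff_locallyClosed]
    rintro L ⟨u, huL⟩ hL
    obtain ⟨W, T, hW, hT, rfl⟩ := hL
    -- affine open neighbourhood of `u`
    obtain ⟨_, ⟨O, hO, rfl⟩, huO, -⟩ :=
      (U₀.left.isBasis_affineOpens).exists_subset_of_mem_open (Set.mem_univ u) isOpen_univ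
    let O' : U₀.left.Opens := O
    let V : Over S := Over.mk (O'.ι ≫ U₀.hom)
    let j : V ⟶ U₀ := Over.homMk O'.ι rfl
    haveI : IsAffine V.left := hO
    have hj : Etale j.left := (inferInstance : Etale O'.ι)
    let a := (yon S).map j ≫ p
    have ha : RepWith @Etale a :=
      (RepWith @Etale).comp_mem _ _ ((repWith_yon_map_iff _ j).2 hj) hpe
    have haj : ∀ v : V.left, Points.ofPt a v = Points.ofPt p (j.left v) := fun v =>
      ofPt_comp_yon_map j p v
    let ũ : V.left := ⟨u, huO⟩
    have hjũ : j.left ũ = u := rfl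
    set x := Points.ofPt a ũ with hx
    have hF : (Points.ofPt a ⁻¹' {x}).Finite := finite_fibre_of_isDecent hd x a ha
    -- the open neighbourhood `W'` of `ũ`
    let B : Set V.left := ⋃ v ∈ (Points.ofPt a ⁻¹' {x}) \ {ũ}, closure {v}
    have hB : IsClosed B := (hF.subset Set.sdiff_subset).isClosed_biUnion fun _ _ => isClosed_closure
    let W' : Set V.left := (j.left ⁻¹' W) ∩ Bᶜ
    have hW' : IsOpen W' := (hW.preimage j.left.continuous).inter hB.isOpen_compl
    have hũW' : ũ ∈ W' := by
      refine ⟨huL.1, ?_⟩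
      simp only [B, Set.mem_compl_iff, Set.mem_iUnion, not_exists]
      rintro v ⟨hv1, hv2⟩ hv3
      have hs : v ⤳ ũ := specializes_iff_mem_closure.2 hv3
      exact hv2 (eq_of_specializes_of_ofPt_eq_of_isDecent hd a ha ũ v hv1.symm hs).symm
    -- a closed point of `|X|` in the closure of `x` and in the image of `W'`
    have hopen : IsOpenMap (Points.ofPt a) := isOpenMap_ofPt_of_etale a ha
    have hlc : IsLocallyClosed (Points.ofPt a '' W' ∩ closure {x}) :=
      (hopen _ hW').isLocallyClosed.inter isClosed_closure.isLocallyClosed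
    have hne : (Points.ofPt a '' W' ∩ closure {x}).Nonempty :=
      ⟨x, ⟨ũ, hũW', rfl⟩, subset_closure rfl⟩
    obtain ⟨y, ⟨⟨w, hwW', rfl⟩, hy2⟩, hy3⟩ := nonempty_inter_closedPoints hne hlc
    have hxy : x ⤳ Points.ofPt a w := specializes_iff_mem_closure.2 hy2
    obtain ⟨u'', hu''w, hu''x⟩ := exists_specializes_lift_of_isDecent hd a ha w x hxy
    have hu''eq : u'' = ũ := by
      by_contra hne'
      apply hwW'.2
      simp only [B, Set.mem_iUnion]
      exact ⟨u'', ⟨hu''x, hne'⟩, specializes_iff_mem_closure.1 hu''w⟩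
    rw [hu''eq] at hu''w
    have huw : u ⤳ j.left w := hu''w.map j.left.continuous
    refine ⟨j.left w, ⟨hwW'.1, huw.mem_closed hT huL.2⟩, ?_⟩
    -- `j w` is a closed point
    change IsClosed ({j.left w} : Set U₀.left)
    rw [← closure_eq_iff_isClosed]
    refine Set.Subset.antisymm (fun z hz => ?_) subset_closure
    have hs : j.left w ⤳ z := specializes_iff_mem_closure.2 hz
    have hs' : Points.ofPt p (j.left w) ⤳ Points.ofPt p z :=
      hs.map (Points.continuous_ofPt p)
    rw [← haj] at hs'
    have hzy : Points.ofPt p z = Points.ofPt a w := hs'.mem_closed hy3 rfl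
    rw [haj] at hzy
    exact eq_of_specializes_of_ofPt_eq_of_isDecent hd p hpe z (j.left w) hzy hs


end Groth.Agent.S10404
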