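import Groth.Statements.S10409
import Groth.Agent.Lib.Helper15.GpdGeom
import Groth.Agent.Lib.Helper15.AlgSpLocP

set_option autoImplicit false
universe u
open CategoryTheory CategoryTheory.Limits AlgebraicGeometry Topology TopologicalSpace
open AlgSp

namespace Groth.Agent.S10409
open Groth.Agent.Helper15

/-- (3) ⇔ (4): for an algebraic space X over a scheme S and x ∈ |X|, there is a monomorphism Spec k ⟶ X
representing x if and only if there is a morphism Spec k' ⟶ X representing x whose
self-fibre-product has etale and quasi-compact projections to Spec k'. -/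
theorem result {S : Scheme.{u}} (X : AlgSp.Space S)
    (x : AlgSp.Points X.obj) :
    (∃ p : AlgSp.FieldPt X.obj, AlgSp.Points.mk p = x ∧ Mono p.toHom) ↔
      ∃ q : AlgSp.FieldPt X.obj, AlgSp.Points.mk q = x ∧
        ∀ (P : AlgSp.Sp S) (fst snd : P ⟶ (AlgSp.yon S).obj q.pt), IsPullback fst snd q.toHom q.toHom →
          AlgSp.RepWith @Etale fst ∧ AlgSp.RepWith @QuasiCompact fst := by
  constructor
  · rintro ⟨p, hp, hm⟩
    refine ⟨p, hp, fun P fst snd sq => ?_⟩
    haveI := hm
    haveI : IsIso fst := IsKernelPair.isIso_of_mono sq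
    exact ⟨repWith_of_isIso _ fst, repWith_of_isIso _ fst⟩
  · rintro ⟨q, hq, h⟩
    have hrep : Representable q.toHom := X.2.representable_from_yon q.toHom
    have sq := hrep.isPullback' q.toHom
    obtain ⟨h1, h2⟩ := h _ _ _ sq
    obtain ⟨p, c, hc, hm, -, -⟩ := GpdGeom.exists_mono_fieldPt_of_etale_qc q
      (hrep.fst' q.toHom) (hrep.snd q.toHom) sq ((repWith_yon_map_iff _ _).1 h1)
      ((repWith_yon_map_iff _ _).1 h2)
    refine ⟨p, ?_, hm⟩
    rw [← hq, ← Points.ofPt_toHom q (IsLocalRing.closedPoint q.K), ← hc, ofPt_comp_yon_map,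
      Points.ofPt_toHom]


end Groth.Agent.S10409
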