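import Groth.Statements.S10413
import Groth.Agent.Lib.Helper16.AlgSp.FibNoeth2

set_option autoImplicit false
universe u
open CategoryTheory CategoryTheory.Limits AlgebraicGeometry Topology TopologicalSpace
open AlgSp
open Groth.Agent.Helper15 Groth.Agent.Helper16.AS

namespace Groth.Agent.S10413

/-- Let S be a scheme, X and Y algebraic spaces over S, and X ⟶ Y a representable morphism. If every
point of Y can be represented by a monomorphism into Y from the spectrum of a field, then every
point of X can likewise be represented by such a monomorphism into X. -/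
theorem result {S : Scheme.{u}} {X Y : AlgSp.Space S} (f : X ⟶ Y) (hf : AlgSp.Representable f.hom)
    (hY : ∀ y : AlgSp.Points Y.obj, ∃ q : AlgSp.FieldPt Y.obj, AlgSp.Points.mk q = y ∧ Mono q.toHom)
    (x : AlgSp.Points X.obj) : ∃ p : AlgSp.FieldPt X.obj, AlgSp.Points.mk p = x ∧ Mono p.toHom := by
  obtain ⟨q, hq, hqm⟩ := hY (Points.map f.hom x)
  have sq := hf.isPullback q.toHom
  let s : ↥(Spec (CommRingCat.of q.K)) := IsLocalRing.closedPoint q.K
  have hs : Points.ofPt q.toHom s = Points.mk q := Points.ofPt_toHom q s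
  obtain ⟨p, hp1, hp2⟩ := exists_point_of_isPullback sq x (Points.ofScheme q.pt s) (by
    rw [← Points.ofPt_eq_map_ofScheme, hs, hq])
  obtain ⟨t, rfl⟩ := (Points.schemeHomeo (hf.pullback q.toHom)).surjective p
  refine ⟨FieldPt.ofPt (hf.fst q.toHom) t, ?_, ?_⟩
  · rw [← hp1]
    exact Points.ofPt_eq_map_ofScheme _ _
  · rw [FieldPt.toHom_ofPt]
    have h1 : Mono (hf.fst q.toHom) :=
      MorphismProperty.of_isPullback (P := MorphismProperty.monomorphisms (Sp S)) sq.flip hqm
    have h2 : Mono (Over.homMk ((hf.pullback q.toHom).left.fromSpecResidueField t) rfl :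
        Over.mk ((hf.pullback q.toHom).left.fromSpecResidueField t ≫ (hf.pullback q.toHom).hom) ⟶
          hf.pullback q.toHom) :=
      CategoryTheory.Over.mono_of_mono_left _
    have h3 := @Functor.map_mono _ _ _ _ (yon S) _ _ _ _ h2
    exact @mono_comp _ _ _ _ _ _ h3 _ h1

end Groth.Agent.S10413
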