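import Groth.Statements.S10414
import Groth.Agent.Lib.Helper15.AlgSpResidual
import Groth.Agent.Lib.Helper15.AlgSpGrpField
import Groth.Agent.Lib.Helper15.AlgSpLocP

set_option autoImplicit false
universe u
open CategoryTheory CategoryTheory.Limits AlgebraicGeometry Topology TopologicalSpace
open AlgSp

namespace Groth.Agent.S10414
open Groth.Agent.Helper15

/-- Let S be a scheme, X an algebraic space over S, x ∈ |X|, and Z_x ⟶ X the residual space of x (a
monomorphism with image {x} from a space which admits a locally finitely presented, flat, surjective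
morphism whose source is the spectrum of a field). Then Z_x is isomorphic to Spec k' for some field
k' if and only if the point x is represented by some monomorphism Spec k ⟶ X. (The decent case, in
which the right side holds at every point, is not part of this row.) -/
theorem result {S : Scheme.{u}} (X : AlgSp.Space S) (x : AlgSp.Points X.obj)
    {Z : AlgSp.Space S} (i : Z ⟶ X) [Mono i.hom] (hi : Set.range (AlgSp.Points.map i.hom) = {x})
    (hZ : ∃ (k : Type u) (_ : Field k) (str : Spec (CommRingCat.of k) ⟶ S) (p : (AlgSp.yon S).obj (Over.mk str) ⟶ Z.obj),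
        AlgSp.LocP @LocallyOfFinitePresentation p ∧ AlgSp.LocP @Flat p ∧ AlgSp.IsSurjectiveMor p) :
    (∃ (k : Type u) (_ : Field k) (str : Spec (CommRingCat.of k) ⟶ S), Nonempty (Z.obj ≅ (AlgSp.yon S).obj (Over.mk str))) ↔
      ∃ p : AlgSp.FieldPt X.obj, AlgSp.Points.mk p = x ∧ Mono p.toHom := by
  constructor
  · rintro ⟨k, _, str, ⟨e⟩⟩
    let q : (yon S).obj (Over.mk str) ⟶ X.obj := e.inv ≫ i.hom
    let p : FieldPt X.obj := { K := k, str := str, val := (J S).uliftYonedaEquiv q }
    have hp : p.toHom = q := Equiv.symm_apply_apply _ _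
    refine ⟨p, ?_, ?_⟩
    · have h1 : Points.mk p = Points.ofPt p.toHom (IsLocalRing.closedPoint k) :=
        (Points.ofPt_toHom p _).symm
      have h2 : Points.mk p ∈ Set.range (Points.map i.hom) := by
        rw [h1, hp]
        exact ⟨Points.ofPt e.inv (IsLocalRing.closedPoint k), Points.map_ofPt _ _ _⟩
      rw [hi] at h2
      exact h2
    · rw [hp]
      exact mono_comp _ _
  · rintro ⟨p, hp, hm⟩
    haveI := hm
    have hi' : Set.range (Points.map p.toHom) = {x} := by
      ext y
      simp only [Set.mem_range, Set.mem_singleton_iff]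
      constructor
      · rintro ⟨t, rfl⟩
        obtain ⟨t', rfl⟩ := (Points.schemeEquiv p.pt).surjective t
        change Points.map p.toHom (Points.ofScheme p.pt t') = x
        rw [← Points.ofPt_eq_map_ofScheme, Points.ofPt_toHom, hp]
      · rintro rfl
        refine ⟨Points.ofScheme p.pt (IsLocalRing.closedPoint p.K), ?_⟩
        rw [← Points.ofPt_eq_map_ofScheme, Points.ofPt_toHom, hp]
    have hc' : ∃ (k : Type u) (_ : Field k) (str : Spec (CommRingCat.of k) ⟶ S)
        (q : (AlgSp.yon S).obj (Over.mk str) ⟶ (yon S).obj p.pt),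
        AlgSp.LocP @LocallyOfFinitePresentation q ∧ AlgSp.LocP @Flat q ∧
          AlgSp.IsSurjectiveMor q := by
      refine ⟨p.K, inferInstance, p.str, 𝟙 _, ?_, ?_, ?_⟩
      · exact locP_of_repWith (fun _ _ f hf => by haveI : Etale f := hf; infer_instance) _
          (repWith_of_isIso _ (𝟙 _))
      · exact locP_flat_to_field p.str _
      · exact fun y => ⟨y, Points.map_id y⟩
    obtain ⟨e, -⟩ := exists_iso_of_mono_of_fppf_field_cover X.2 (IsAlgSpace.yon_obj _) Z.2 x
      p.toHom i.hom hi' hi hc' hZ
    exact ⟨p.K, inferInstance, p.str, ⟨e⟩⟩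


end Groth.Agent.S10414
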