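import Groth.Statements.S10418
import Groth.Agent.Lib.Helper15.StratNC4
import Groth.Agent.Lib.Helper15.AlgSpTop

set_option autoImplicit false
universe u
open CategoryTheory CategoryTheory.Limits AlgebraicGeometry Topology TopologicalSpace
open AlgSp Groth.Agent.Helper15

namespace Groth.Agent.S10418

/-- Let S be a scheme and X an algebraic space over S which is quasi-compact. There are open subspaces X
= U_1 ⊇ U_2 ⊇ U_3 ⊇ ⋯ such that (1) with T_p = U_p ∖ U_{p+1} (reduced induced subspace structure)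
there is a separated scheme V_p with a surjective etale f_p : V_p ⟶ U_p for which the map f_p⁻¹(T_p)
⟶ T_p is an isomorphism, and (2) every x ∈ |X| admitting a representative given by a quasi-compact
morphism from the spectrum of a field lies in T_p for some p. -/
theorem result {S : Scheme.{u}} (X : AlgSp.Space S)
    (hX : AlgSp.IsQuasiCompactSp X.obj) :
    ∃ (Uo : ℕ → AlgSp.Space S) (j : ∀ p, Uo p ⟶ X) (k : ∀ p, Uo (p + 1) ⟶ Uo p)
      (T : ℕ → AlgSp.Space S) (i : ∀ p, T p ⟶ Uo p),
      (∀ p, AlgSp.RepWith @IsOpenImmersion (j p).hom) ∧ (∀ p, k p ≫ j p = j (p + 1)) ∧ IsIso (j 1) ∧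
      (∀ p, AlgSp.IsRedInduced (Set.range (AlgSp.Points.map (k p).hom))ᶜ (i p).hom) ∧
      (∀ p, 1 ≤ p → ∃ (V : Over S) (f : (AlgSp.yon S).obj V ⟶ (Uo p).obj), V.left.IsSeparated ∧
        AlgSp.RepWith @Etale f ∧ AlgSp.RepWith @Surjective f ∧
        ∀ (P : AlgSp.Sp S) (fst : P ⟶ (T p).obj) (snd : P ⟶ (AlgSp.yon S).obj V),
          IsPullback fst snd (i p).hom f → IsIso fst) ∧
      (∀ x : AlgSp.Points X.obj, (∃ q : AlgSp.FieldPt X.obj, AlgSp.Points.mk q = x ∧ AlgSp.RepWith @QuasiCompact q.toHom) →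
        ∃ p, 1 ≤ p ∧ x ∈ Set.range (AlgSp.Points.map ((i p) ≫ (j p)).hom)) := by
  classical
  obtain ⟨U, p, hUaff, hpe, hps⟩ :=
    Groth.Agent.Helper15.exists_affine_chart_of_isQuasiCompactSp hX
  haveI := hUaff
  have hXa := X.property
  have hU : IsSeparated U.hom := inferInstance
  choose W pr hW using fun n => StratNC.exists_isConf p hXa hpe hU n
  have hg : ∀ n, RepWith @Etale (hW n).g := fun n => (hW n).repWith_etale_g hpe
  -- the open subspaces
  have hopen := fun n => openSubspace_of_etale hXa (hW n).g (hg n)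
  let Uo' : ℕ → AlgSp.Space S := fun n => ⟨Sheaf.image (hW n).g, (hopen n).1⟩
  let j' : ∀ n, Uo' n ⟶ X := fun n => ObjectProperty.homMk (Sheaf.imageι (hW n).g)
  have hj' : ∀ n, RepWith @IsOpenImmersion (j' n).hom := fun n => (hopen n).2.1
  have hjr' : ∀ n, Set.range (Points.map (j' n).hom) = Set.range (Points.ofPt (hW n).g) :=
    fun n => (hopen n).2.2.2.2
  have hmono : ∀ n, Mono (j' n).hom := fun n =>
    mono_of_repWith isOpenImmersion_le_mono _ (hj' n)
  have hsub : ∀ n, Set.range (Points.map (j' (n + 1)).hom) ⊆ Set.range (Points.map (j' n).hom) := by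
    intro n
    rw [hjr', hjr']
    obtain ⟨m, hm⟩ := (hW n).exists_forget (hW (n + 1))
    rintro _ ⟨w, rfl⟩
    refine ⟨m.left w, ?_⟩
    rw [← ofPt_comp_yon_map]
    congr 1
    unfold StratNC.IsConf.g
    rw [← Category.assoc, ← Functor.map_comp, hm 0, Fin.castSucc_zero]
  choose k₀ hk₀ using fun n => (factors_through_open_iff (j' n).hom (hj' n) (j' (n + 1)).hom).2 (hsub n)
  let k' : ∀ n, Uo' (n + 1) ⟶ Uo' n := fun n => ObjectProperty.homMk (k₀ n)
  have hk' : ∀ n, k' n ≫ j' n = j' (n + 1) := fun n => ObjectProperty.hom_ext _ (hk₀ n)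
  -- the shifted sequences
  let Uo : ℕ → AlgSp.Space S := fun q => Nat.rec X (fun n _ => Uo' n) q
  let j : ∀ q, Uo q ⟶ X := fun q => Nat.rec (motive := fun q => Uo q ⟶ X) (𝟙 X) (fun n _ => j' n) q
  let k : ∀ q, Uo (q + 1) ⟶ Uo q := fun q =>
    Nat.rec (motive := fun q => Uo (q + 1) ⟶ Uo q) (j' 0) (fun n _ => k' n) q
  have hj : ∀ q, RepWith @IsOpenImmersion (j q).hom := by
    intro q
    cases q with
    | zero => exact (RepWith @IsOpenImmersion).id_mem _
    | succ n => exact hj' n
  have hk : ∀ q, k q ≫ j q = j (q + 1) := by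
    intro q
    cases q with
    | zero => exact Category.comp_id _
    | succ n => exact hk' n
  have hko : ∀ q, RepWith @IsOpenImmersion (k q).hom := by
    intro q
    haveI : Mono (j q).hom := mono_of_repWith isOpenImmersion_le_mono _ (hj q)
    apply repWith_of_comp_mono (k q).hom (j q).hom
    have := congrArg (fun f => f.hom) (hk q)
    change (k q).hom ≫ (j q).hom = (j (q + 1)).hom at this
    rw [this]
    exact hj (q + 1)
  choose T₀ i₀ hT₀ hi₀ using fun q => exists_isRedInduced (Uo q).property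
    (Set.range (Points.map (k q).hom))ᶜ
    (Norm.isOpen_range_of_isOpenImmersion (Uo q).property _ (hko q)).isClosed_compl
  let T : ℕ → AlgSp.Space S := fun q => ⟨T₀ q, hT₀ q⟩
  let i : ∀ q, T q ⟶ Uo q := fun q => ObjectProperty.homMk (i₀ q)
  -- every point is in the image of the first chart
  have hall : ∀ x : Points X.obj, x ∈ Set.range (Points.ofPt (hW 0).g) := by
    intro x
    obtain ⟨u, rfl⟩ := surjective_ofPt p hps x
    obtain ⟨l, hl⟩ := (hW 0).lift U (fun _ => 𝟙 U) (fun _ _ => rfl)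
      (fun a b hab => absurd ((Fin.eq_zero a).trans (Fin.eq_zero b).symm) hab)
    refine ⟨l.left u, ?_⟩
    rw [← ofPt_comp_yon_map]
    congr 1
    unfold StratNC.IsConf.g
    rw [← Category.assoc, ← Functor.map_comp, hl 0, CategoryTheory.Functor.map_id,
      Category.id_comp]
  refine ⟨Uo, j, k, T, i, hj, hk, ?_, hi₀, ?_, ?_⟩
  · -- `j 1` is an isomorphism
    change IsIso (j' 0)
    have hs : RepWith @Surjective (j' 0).hom := by
      apply repWith_surjective_of_isSurjectiveMor _ (hj' 0).rep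
      intro x
      have : x ∈ Set.range (Points.map (j' 0).hom) := by
        rw [hjr']
        exact hall x
      exact this
    have hiso : IsIso (j' 0).hom := isIso_of_repWith_isOpenImmersion_surjective _ (hj' 0) hs
    haveI : IsIso ((ObjectProperty.ι (AlgSp.IsAlgSpace (S := S))).map (j' 0)) := hiso
    exact isIso_of_reflects_iso (j' 0) (ObjectProperty.ι _)
  · intro q hq
    obtain ⟨n, rfl⟩ : ∃ n, q = n + 1 := ⟨q - 1, by omega⟩
    exact StratNC.exists_stage hXa hpe hU (hW n) (hW (n + 1)) (j' n).hom (hj' n) (hjr' n)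
      (j' (n + 1)).hom (hjr' (n + 1)) (k' n).hom (congrArg (fun f => f.hom) (hk' n)) (i (n + 1)).hom
      (hi₀ (n + 1))
  · -- points with quasi-compact representatives
    rintro x ⟨q, rfl, hqc⟩
    obtain ⟨N, hN⟩ := StratNC.exists_bound_of_quasiCompact hpe q hqc
    have hex : ∃ n, Points.mk q ∉ Set.range (Points.ofPt (hW n).g) := by
      refine ⟨N, ?_⟩
      rintro ⟨w, hw⟩
      have := hN N (W N) (pr N) (hW N) w hw
      omega
    have hm0 : Nat.find hex ≠ 0 := by
      intro h0
      have := Nat.find_spec hex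
      rw [h0] at this
      exact this (hall _)
    obtain ⟨n, hn⟩ : ∃ n, Nat.find hex = n + 1 := ⟨Nat.find hex - 1, by omega⟩
    have hPn : Points.mk q ∈ Set.range (Points.ofPt (hW n).g) := by
      have := Nat.find_min hex (m := n) (by omega)
      exact not_not.1 this
    have hPn1 : Points.mk q ∉ Set.range (Points.ofPt (hW (n + 1)).g) := by
      have := Nat.find_spec hex
      rwa [hn] at this
    refine ⟨n + 1, by omega, ?_⟩
    rw [← hjr' n] at hPn
    rw [← hjr' (n + 1)] at hPn1
    obtain ⟨y, hy⟩ := hPn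
    have hy' : y ∈ (Set.range (Points.map (k' n).hom))ᶜ := by
      rintro ⟨y', rfl⟩
      apply hPn1
      refine ⟨y', ?_⟩
      rw [← hy, ← Points.map_comp]
      congr 1
      exact (congrArg (fun f => f.hom) (hk' n)).symm
    have hi2 : Set.range (Points.map (i₀ (n + 1))) = (Set.range (Points.map (k' n).hom))ᶜ :=
      (hi₀ (n + 1)).2.1
    rw [← hi2] at hy'
    obtain ⟨t, rfl⟩ := hy'
    refine ⟨t, ?_⟩
    rw [← hy]
    exact Points.map_comp _ _ t

end Groth.Agent.S10418
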