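import Groth.Statements.S10419
import Groth.Agent.Lib.Helper15.Strat5
import Groth.Agent.Lib.Helper15.AlgSpTop

set_option autoImplicit false
universe u
open CategoryTheory CategoryTheory.Limits AlgebraicGeometry Topology TopologicalSpace
open AlgSp Groth.Agent.Helper15

namespace Groth.Agent.S10419

/-- Let S be a scheme with quasi-separated underlying space and X an algebraic space over S that is
quasi-compact and quasi-separated (X quasi-separated over S). There are an integer n and open
subspaces X = U_1 ⊇ U_2 ⊇ ⋯ ⊇ U_{n+1} = ∅ such that, with T_p = U_p ∖ U_{p+1} (reduced induced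
structure), there is a quasi-compact separated scheme V_p with a surjective etale f_p : V_p ⟶ U_p
for which f_p⁻¹(T_p) ⟶ T_p is an isomorphism. -/
theorem result {S : Scheme.{u}} [QuasiSeparatedSpace ↥S] (X : AlgSp.Space S)
    (hqc : AlgSp.IsQuasiCompactSp X.obj) (hqs : AlgSp.IsQuasiSeparatedSp X.obj) :
    ∃ (n : ℕ) (Uo : ℕ → AlgSp.Space S) (j : ∀ p, Uo p ⟶ X) (k : ∀ p, Uo (p + 1) ⟶ Uo p)
      (T : ℕ → AlgSp.Space S) (i : ∀ p, T p ⟶ Uo p),
      (∀ p, AlgSp.RepWith @IsOpenImmersion (j p).hom) ∧ (∀ p, k p ≫ j p = j (p + 1)) ∧ IsIso (j 1) ∧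
      IsEmpty (AlgSp.Points (Uo (n + 1)).obj) ∧
      (∀ p, AlgSp.IsRedInduced (Set.range (AlgSp.Points.map (k p).hom))ᶜ (i p).hom) ∧
      (∀ p, 1 ≤ p → ∃ (V : Over S) (f : (AlgSp.yon S).obj V ⟶ (Uo p).obj), V.left.IsSeparated ∧ CompactSpace ↥V.left ∧
        AlgSp.RepWith @Etale f ∧ AlgSp.RepWith @Surjective f ∧
        ∀ (P : AlgSp.Sp S) (fst : P ⟶ (T p).obj) (snd : P ⟶ (AlgSp.yon S).obj V),
          IsPullback fst snd (i p).hom f → IsIso fst) := by
  classical
  obtain ⟨U, p, hUaff, hpe, hps⟩ :=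
    Groth.Agent.Helper15.exists_affine_chart_of_isQuasiCompactSp hqc
  haveI := hUaff
  have hX := X.property
  have hU : IsSeparated U.hom := inferInstance
  have hUq : QuasiCompact U.hom := quasiCompact_of_compactSpace _
  choose W pr hW using fun n => Strat.exists_isConf p hX hqs hpe hU hUq n
  have hg : ∀ n, RepWith @Etale (hW n).g := fun n => (hW n).repWith_etale_g hpe
  -- the open subspaces
  have hopen := fun n => openSubspace_of_etale hX (hW n).g (hg n)
  let Uo' : ℕ → AlgSp.Space S := fun n => ⟨Sheaf.image (hW n).g, (hopen n).1⟩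
  let j' : ∀ n, Uo' n ⟶ X := fun n => ObjectProperty.homMk (Sheaf.imageι (hW n).g)
  have hj' : ∀ n, RepWith @IsOpenImmersion (j' n).hom := fun n => (hopen n).2.1
  have hjr' : ∀ n, Set.range (Points.map (j' n).hom) = Set.range (Points.ofPt (hW n).g) :=
    fun n => (hopen n).2.2.2.2
  have hmono : ∀ n, Mono (j' n).hom := fun n =>
    mono_of_repWith isOpenImmersion_le_mono _ (hj' n)
  have hsub : ∀ n, Set.range (Points.map (j' (n + 1)).hom) ⊆ Set.range (Points.map (j' n).hom) := by
    intro n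
    rw [hjr', hjr']
    obtain ⟨m, hm⟩ := (hW n).exists_forget (hW (n + 1))
    rintro _ ⟨w, rfl⟩
    refine ⟨m.left w, ?_⟩
    rw [← ofPt_comp_yon_map]
    congr 1
    unfold Strat.IsConf.g
    rw [← Category.assoc, ← Functor.map_comp, hm 0, Fin.castSucc_zero]
  choose k₀ hk₀ using fun n => (factors_through_open_iff (j' n).hom (hj' n) (j' (n + 1)).hom).2 (hsub n)
  let k' : ∀ n, Uo' (n + 1) ⟶ Uo' n := fun n => ObjectProperty.homMk (k₀ n)
  have hk' : ∀ n, k' n ≫ j' n = j' (n + 1) := fun n => ObjectProperty.hom_ext _ (hk₀ n)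
  -- the shifted sequences
  let Uo : ℕ → AlgSp.Space S := fun q => Nat.rec X (fun n _ => Uo' n) q
  let j : ∀ q, Uo q ⟶ X := fun q => Nat.rec (motive := fun q => Uo q ⟶ X) (𝟙 X) (fun n _ => j' n) q
  let k : ∀ q, Uo (q + 1) ⟶ Uo q := fun q =>
    Nat.rec (motive := fun q => Uo (q + 1) ⟶ Uo q) (j' 0) (fun n _ => k' n) q
  have hj : ∀ q, RepWith @IsOpenImmersion (j q).hom := by
    intro q
    cases q with
    | zero => exact (RepWith @IsOpenImmersion).id_mem _
    | succ n => exact hj' n
  have hk : ∀ q, k q ≫ j q = j (q + 1) := by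
    intro q
    cases q with
    | zero => exact Category.comp_id _
    | succ n => exact hk' n
  have hko : ∀ q, RepWith @IsOpenImmersion (k q).hom := by
    intro q
    haveI : Mono (j q).hom := mono_of_repWith isOpenImmersion_le_mono _ (hj q)
    apply repWith_of_comp_mono (k q).hom (j q).hom
    have := congrArg (fun f => f.hom) (hk q)
    change (k q).hom ≫ (j q).hom = (j (q + 1)).hom at this
    rw [this]
    exact hj (q + 1)
  choose T₀ i₀ hT₀ hi₀ using fun q => exists_isRedInduced (Uo q).property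
    (Set.range (Points.map (k q).hom))ᶜ
    (Norm.isOpen_range_of_isOpenImmersion (Uo q).property _ (hko q)).isClosed_compl
  let T : ℕ → AlgSp.Space S := fun q => ⟨T₀ q, hT₀ q⟩
  let i : ∀ q, T q ⟶ Uo q := fun q => ObjectProperty.homMk (i₀ q)
  obtain ⟨N, hN⟩ := Strat.exists_isEmpty_conf hX hqs hpe hU hUq
  refine ⟨N, Uo, j, k, T, i, hj, hk, ?_, ?_, hi₀, ?_⟩
  · -- `j 1` is an isomorphism
    change IsIso (j' 0)
    have hs : RepWith @Surjective (j' 0).hom := by
      apply repWith_surjective_of_isSurjectiveMor _ (hj' 0).rep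
      intro x
      obtain ⟨u, rfl⟩ := surjective_ofPt p hps x
      have : Points.ofPt p u ∈ Set.range (Points.map (j' 0).hom) := by
        rw [hjr']
        obtain ⟨l, hl⟩ := (hW 0).lift U (fun _ => 𝟙 U) (fun _ _ => rfl)
          (fun a b hab => absurd ((Fin.eq_zero a).trans (Fin.eq_zero b).symm) hab)
        refine ⟨l.left u, ?_⟩
        rw [← ofPt_comp_yon_map]
        congr 1
        unfold Strat.IsConf.g
        rw [← Category.assoc, ← Functor.map_comp, hl 0, CategoryTheory.Functor.map_id,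
          Category.id_comp]
      exact this
    have hiso : IsIso (j' 0).hom := isIso_of_repWith_isOpenImmersion_surjective _ (hj' 0) hs
    haveI : IsIso ((ObjectProperty.ι (AlgSp.IsAlgSpace (S := S))).map (j' 0)) := hiso
    exact isIso_of_reflects_iso (j' 0) (ObjectProperty.ι _)
  · -- eventually empty
    change IsEmpty (AlgSp.Points (Uo' N).obj)
    refine ⟨fun y => ?_⟩
    have : Points.map (j' N).hom y ∈ Set.range (Points.ofPt (hW N).g) := by
      rw [← hjr']; exact ⟨y, rfl⟩
    obtain ⟨w, -⟩ := this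
    exact (hN (W N) (pr N) (hW N)).false w
  · intro q hq
    obtain ⟨n, rfl⟩ : ∃ n, q = n + 1 := ⟨q - 1, by omega⟩
    exact Strat.exists_stage hX hpe hU (hW n) (hW (n + 1)) (j' n).hom (hj' n) (hjr' n)
      (j' (n + 1)).hom (hjr' (n + 1)) (k' n).hom (congrArg (fun f => f.hom) (hk' n)) (i (n + 1)).hom
      (hi₀ (n + 1))

end Groth.Agent.S10419
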