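import Groth.Statements.S10422
import Groth.Agent.Lib.Helper15.TensorDiag

set_option autoImplicit false
universe u
open Topology TopologicalSpace TensorProduct
open AlgSp

namespace Groth.Agent.S10422

/-- Let A be a ring, k a field, (p_n) a sequence of primes of A which are pairwise distinct, and k →
κ(p_n) field embeddings. Then the closure in Spec(A ⊗ A) of the image of ∐_{n ≠ m} Spec(κ(p_n) ⊗_k
κ(p_m)) meets the diagonal. Here κ(p_n) is any A-algebra K_n which is a field whose structure map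
has kernel p_n and whose elements are quotients of images of elements of A. -/
theorem result (A : Type u) [CommRing A] (k : Type u) [Field k]
    (p : ℕ → PrimeSpectrum A) (hp : Function.Injective p) (K : ℕ → Type u) [∀ n, Field (K n)]
    [∀ n, Algebra A (K n)] [∀ n, Algebra k (K n)]
    (hker : ∀ n, RingHom.ker (algebraMap A (K n)) = (p n).asIdeal)
    (hfrac : ∀ n (x : K n), ∃ a b : A, algebraMap A (K n) b ≠ 0 ∧ x * algebraMap A (K n) b = algebraMap A (K n) a) :
    (closure (⋃ (n : ℕ) (m : ℕ) (_ : n ≠ m),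
        Set.range (PrimeSpectrum.comap
          (Algebra.TensorProduct.lift
            ((Algebra.TensorProduct.includeLeft (R := k) (S := ℤ) (A := K n) (B := K m)).toRingHom.toIntAlgHom.comp
              (Algebra.ofId A (K n)).toRingHom.toIntAlgHom)
            ((Algebra.TensorProduct.includeRight (R := k) (A := K n) (B := K m)).toRingHom.toIntAlgHom.comp
              (Algebra.ofId A (K m)).toRingHom.toIntAlgHom)
            (fun _ _ => Commute.all _ _)).toRingHom)) ∩
      Set.range (PrimeSpectrum.comap (Algebra.TensorProduct.lmul' (S := A) ℤ).toRingHom)).Nonempty := by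
  classical
  let φ : ∀ n m, A ⊗[ℤ] A →+* K n ⊗[k] K m := fun n m =>
    (Algebra.TensorProduct.lift
      ((Algebra.TensorProduct.includeLeft (R := k) (S := ℤ) (A := K n) (B := K m)).toRingHom.toIntAlgHom.comp
        (Algebra.ofId A (K n)).toRingHom.toIntAlgHom)
      ((Algebra.TensorProduct.includeRight (R := k) (A := K n) (B := K m)).toRingHom.toIntAlgHom.comp
        (Algebra.ofId A (K m)).toRingHom.toIntAlgHom)
      (fun _ _ => Commute.all _ _)).toRingHom
  have hφ : ∀ n m a b, φ n m (a ⊗ₜ b) = algebraMap A (K n) a ⊗ₜ algebraMap A (K m) b := by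
    intro n m a b
    simp [φ, Algebra.ofId_apply]
  let Sg : Set (PrimeSpectrum (A ⊗[ℤ] A)) :=
    ⋃ (n : ℕ) (m : ℕ) (_ : n ≠ m), Set.range (PrimeSpectrum.comap (φ n m))
  let mult : A ⊗[ℤ] A →+* A := (Algebra.TensorProduct.lmul' (S := A) ℤ).toRingHom
  change (closure Sg ∩ Set.range (PrimeSpectrum.comap mult)).Nonempty
  have hsurj : Function.Surjective mult := fun a => ⟨a ⊗ₜ 1, by simp [mult]⟩
  let J := PrimeSpectrum.vanishingIdeal Sg
  have hne : Ideal.map mult J ≠ ⊤ := by
    intro htop
    have h1 : (1 : A) ∈ Ideal.map mult J := by rw [htop]; trivial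
    obtain ⟨g, hgJ, hg1⟩ := (Ideal.mem_map_iff_of_surjective mult hsurj).1 h1
    refine Groth.Agent.Helper15.TensorDiag.lmul_ne_one A k K φ hφ g ?_ hg1
    intro n m hnm
    rw [← mem_nilradical, nilradical_eq_sInf, Ideal.mem_sInf]
    intro P hP
    have hmem : PrimeSpectrum.comap (φ n m) ⟨P, hP⟩ ∈ Sg := by
      simp only [Sg, Set.mem_iUnion]
      exact ⟨n, m, hnm, ⟨P, hP⟩, rfl⟩
    exact (PrimeSpectrum.mem_vanishingIdeal _ _).1 hgJ _ hmem
  obtain ⟨𝔯, h𝔯max, h𝔯le⟩ := Ideal.exists_le_maximal _ hne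
  refine ⟨PrimeSpectrum.comap mult ⟨𝔯, h𝔯max.isPrime⟩, ?_, ⟨_, rfl⟩⟩
  rw [← PrimeSpectrum.zeroLocus_vanishingIdeal_eq_closure, PrimeSpectrum.mem_zeroLocus]
  intro g hg
  change mult g ∈ 𝔯
  exact h𝔯le (Ideal.mem_map_of_mem mult hg)

end Groth.Agent.S10422
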