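import Groth.Statements.S10424
import Groth.Agent.Lib.Helper15.UbfComp
import Groth.Agent.Lib.Helper15.UbfSp

set_option autoImplicit false
universe u
open CategoryTheory CategoryTheory.Limits AlgebraicGeometry Topology TopologicalSpace
open AlgSp

namespace Groth.Agent.S10424

/-- Let X be an algebraic space over a scheme S, V ⟶ U a morphism of schemes over S and U ⟶ X a
morphism. Suppose that the fibres of V ⟶ U and of U ⟶ X are universally bounded. Then V ⟶ X also has
universally bounded fibres. -/
theorem result {S : Scheme.{u}} (X : AlgSp.Space S) {U V : Over S} (f : V ⟶ U)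
    (g : (AlgSp.yon S).obj U ⟶ X.obj) (hf : W4dec.HasUnivBddFibres ((AlgSp.yon S).map f)) (hg : W4dec.HasUnivBddFibres g) :
    W4dec.HasUnivBddFibres ((AlgSp.yon S).map f ≫ g) := by
  obtain ⟨n, hn⟩ := hf
  obtain ⟨m, hm⟩ := hg
  refine ⟨n * m, ?_⟩
  intro q T c snd sq
  obtain ⟨sndV, rfl⟩ := (AlgSp.yon S).map_surjective snd
  have hrep : AlgSp.Representable g := X.property.representable_from_yon g
  have sq' := (hrep.isPullback' q.toHom).flip
  set c' := hrep.snd q.toHom with hc'
  set b := hrep.fst' q.toHom with hb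
  obtain ⟨hc'fin, hc'rk⟩ := hm q _ _ _ sq'
  have hw : (AlgSp.yon S).map c ≫ q.toHom = ((AlgSp.yon S).map sndV ≫ (AlgSp.yon S).map f) ≫ g := by
    rw [sq.w, Category.assoc]
  obtain ⟨d, hd⟩ := (AlgSp.yon S).map_surjective (sq'.lift _ _ hw)
  have hd1 : (AlgSp.yon S).map d ≫ (AlgSp.yon S).map c' = (AlgSp.yon S).map c := by
    rw [hd, sq'.lift_fst]
  have hd2 : (AlgSp.yon S).map d ≫ (AlgSp.yon S).map b =
      (AlgSp.yon S).map sndV ≫ (AlgSp.yon S).map f := by
    rw [hd, sq'.lift_snd]
  have outer : IsPullback ((AlgSp.yon S).map d ≫ (AlgSp.yon S).map c') ((AlgSp.yon S).map sndV)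
      q.toHom ((AlgSp.yon S).map f ≫ g) := by
    rw [hd1]; exact sq
  have left := IsPullback.of_right outer hd2 sq'
  have sqO : IsPullback d sndV b f := IsPullback.of_map (AlgSp.yon S)
    ((AlgSp.yon S).map_injective (by rw [Functor.map_comp, Functor.map_comp, hd2])) left
  have sqL : IsPullback d.left sndV.left b.left f.left := sqO.map (Over.forget S)
  have hdc : d ≫ c' = c := (AlgSp.yon S).map_injective (by rw [Functor.map_comp, hd1])
  -- the fibres of `d` over field points
  have H : ∀ (L : Type u) [Field L] (x : Spec (CommRingCat.of L) ⟶ (hrep.pullback q.toHom).left)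
      (P : Scheme.{u}) (fst : P ⟶ T.left) (snd : P ⟶ Spec (CommRingCat.of L)),
      IsPullback fst snd d.left x → IsFinite snd ∧ ∀ s, snd.finrank s ≤ n := by
    intro L _ x P fst snd hP
    let xO : Over.mk (x ≫ (hrep.pullback q.toHom).hom) ⟶ hrep.pullback q.toHom := Over.homMk x rfl
    let PO : Over S := Over.mk (snd ≫ x ≫ (hrep.pullback q.toHom).hom)
    let cP : PO ⟶ Over.mk (x ≫ (hrep.pullback q.toHom).hom) := Over.homMk snd rfl
    let fstO : PO ⟶ T := Over.homMk fst (by
      change fst ≫ T.hom = snd ≫ x ≫ (hrep.pullback q.toHom).hom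
      rw [← Over.w d, ← Category.assoc, hP.w, Category.assoc])
    have big : IsPullback snd (fst ≫ sndV.left) (x ≫ b.left) f.left := hP.flip.paste_vert sqL
    have bigO : IsPullback cP (fstO ≫ sndV) (xO ≫ b) f :=
      IsPullback.of_map_of_faithful (Over.forget S) big
    have bigY := bigO.map (AlgSp.yon S)
    have := hn (Groth.Agent.Helper15.UbfLifts.fieldPtOf ((AlgSp.yon S).map (xO ≫ b))) PO cP
      ((AlgSp.yon S).map (fstO ≫ sndV)) (by
        rw [Groth.Agent.Helper15.UbfLifts.toHom_fieldPtOf]
        exact bigY)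
    exact this
  haveI : IsFinite c'.left := hc'fin
  haveI : IsFinite d.left := by
    refine Groth.Agent.Helper15.UbfField.isFinite_of_fibres (K := q.K) c'.left d.left (fun t => ?_)
    exact (H _ _ _ _ _ (IsPullback.of_hasPullback _ _)).1
  have hrk := fun s => Groth.Agent.Helper15.UbfField.finrank_comp_le_of_fibres (K := q.K)
    c'.left d.left n (fun L _ x P fst snd hP _ => (H L x P fst snd hP).2) s
  have hcl : c.left = d.left ≫ c'.left := by rw [← hdc]; rfl
  rw [hcl]
  refine ⟨inferInstance, fun s => (hrk s).trans (Nat.mul_le_mul_left n (hc'rk s))⟩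

end Groth.Agent.S10424
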