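import Groth.Statements.S10426
import Groth.Agent.Lib.Helper15.UbfField2
import Groth.Agent.Lib.Helper15.UbfSp

set_option autoImplicit false
universe u
open CategoryTheory CategoryTheory.Limits AlgebraicGeometry Topology TopologicalSpace
open AlgSp

namespace Groth.Agent.S10426

/-- Let S be a scheme, X and Y algebraic spaces over S, and g : Y ⟶ X a representable morphism; let U be
a scheme, f : U ⟶ X a morphism, and f′ : U ×_X Y ⟶ Y its base change. Assume the image of |U| → |X|
is contained in the image of |Y| → |X| and that f′ has universally bounded fibres. Then the morphism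
f also has universally bounded fibres. -/
theorem result {S : Scheme.{u}} {X Y : AlgSp.Space S} (g : Y ⟶ X)
    (hg : AlgSp.Representable g.hom) {U V : Over S} (f : (AlgSp.yon S).obj U ⟶ X.obj)
    (fst : (AlgSp.yon S).obj V ⟶ (AlgSp.yon S).obj U) (f' : (AlgSp.yon S).obj V ⟶ Y.obj) (h : IsPullback fst f' f g.hom)
    (him : Set.range (AlgSp.Points.ofPt f) ⊆ Set.range (AlgSp.Points.map g.hom)) (hf' : W4dec.HasUnivBddFibres f') :
    W4dec.HasUnivBddFibres f := by
  obtain ⟨n, hn⟩ := hf'
  refine ⟨n, ?_⟩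
  intro q T c snd sq
  rcases isEmpty_or_nonempty T.left with hE | ⟨⟨t⟩⟩
  · obtain ⟨h1, h2⟩ := Groth.Agent.Helper15.UbfField.isFinite_of_isEmpty (K := q.K) c.left
    exact ⟨h1, fun s => by rw [h2 s]; exact Nat.zero_le _⟩
  · obtain ⟨sndU, rfl⟩ := (AlgSp.yon S).map_surjective snd
    have hu : AlgSp.Points.ofPt f (sndU.left t) = AlgSp.Points.mk q := by
      rw [← Groth.Agent.Helper15.ofPt_comp_yon_map, ← sq.w,
        Groth.Agent.Helper15.ofPt_comp_yon_map, AlgSp.Points.ofPt_toHom]
    obtain ⟨y, hy⟩ := him ⟨sndU.left t, rfl⟩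
    obtain ⟨L, _, strL, η, rfl⟩ := Groth.Agent.Helper15.exists_ofField y
    have hq : AlgSp.Points.mk q = Groth.Agent.Helper15.ofField q.toHom := by
      simp only [Groth.Agent.Helper15.ofField, AlgSp.FieldPt.toHom, Equiv.apply_symm_apply]
      rfl
    rw [Groth.Agent.Helper15.map_ofField, hu, hq, Groth.Agent.Helper15.ofField_eq_iff] at hy
    obtain ⟨Ω, _, w, b, a, hab⟩ := hy
    have sqΩ := IsPullback.of_hasPullback a c
    have big := (sqΩ.map (AlgSp.yon S)).paste_vert sq
    have hw : ((AlgSp.yon S).map (pullback.snd a c) ≫ (AlgSp.yon S).map sndU) ≫ f =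
        ((AlgSp.yon S).map (pullback.fst a c) ≫ (AlgSp.yon S).map b ≫ η) ≫ g.hom := by
      rw [← big.w, Category.assoc, Category.assoc, hab]
    let lV := h.lift _ _ hw
    have hl1 : lV ≫ fst = (AlgSp.yon S).map (pullback.snd a c) ≫ (AlgSp.yon S).map sndU :=
      h.lift_fst _ _ hw
    have hl2 : lV ≫ f' = (AlgSp.yon S).map (pullback.fst a c) ≫ (AlgSp.yon S).map b ≫ η :=
      h.lift_snd _ _ hw
    have s' : IsPullback (lV ≫ fst) ((AlgSp.yon S).map (pullback.fst a c)) f
        (((AlgSp.yon S).map b ≫ η) ≫ g.hom) := by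
      rw [hl1, Category.assoc, hab]
      exact big.flip
    have left := IsPullback.of_right s' hl2 h
    have hdeg := hn (Groth.Agent.Helper15.UbfLifts.fieldPtOf ((AlgSp.yon S).map b ≫ η))
      (pullback a c) (pullback.fst a c) lV (by
        rw [Groth.Agent.Helper15.UbfLifts.toHom_fieldPtOf]
        exact left.flip)
    obtain ⟨hfin, hrk⟩ := hdeg
    haveI : IsFinite (pullback.fst a c).left := hfin
    obtain ⟨h1, h2⟩ := Groth.Agent.Helper15.UbfField.isFinite_of_fieldExt (K := q.K) (Ω := Ω)
      a.left c.left (pullback.fst a c).left (pullback.snd a c).left (sqΩ.map (Over.forget S))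
    exact ⟨h1, fun s => by rw [h2 s]; exact hrk _⟩

end Groth.Agent.S10426
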