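import Groth.Statements.S10427
import Groth.Agent.Lib.Helper15.UbfField

set_option autoImplicit false
universe u
open CategoryTheory CategoryTheory.Limits AlgebraicGeometry Topology TopologicalSpace
open AlgSp

namespace Groth.Agent.S10427

/-- Let X be an algebraic space over a scheme S and U ⟶ V ⟶ X with U, V schemes, U ⟶ V surjective and
flat. If U ⟶ X has universally bounded fibres, then so does V ⟶ X. -/
theorem result {S : Scheme.{u}} (X : AlgSp.Space S) {U V : Over S} (f : U ⟶ V)
    [Surjective f.left] [Flat f.left] (h : (AlgSp.yon S).obj V ⟶ X.obj) (hg : W4dec.HasUnivBddFibres ((AlgSp.yon S).map f ≫ h)) :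
    W4dec.HasUnivBddFibres h := by
  obtain ⟨n, hn⟩ := hg
  refine ⟨n, ?_⟩
  intro q T c snd sq
  obtain ⟨sndV, rfl⟩ := (AlgSp.yon S).map_surjective snd
  have sqP := IsPullback.of_hasPullback sndV f
  have big := (sqP.map (AlgSp.yon S)).paste_horiz sq
  rw [← Functor.map_comp] at big
  obtain ⟨hfin, hrk⟩ := hn q _ _ _ big
  have sqL := (sqP.map (Over.forget S)).flip
  haveI : Flat (pullback.fst sndV f).left :=
    MorphismProperty.of_isPullback (P := @Flat) sqL (inferInstance : Flat f.left)
  haveI : Surjective (pullback.fst sndV f).left :=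
    MorphismProperty.of_isPullback (P := @Surjective) sqL (inferInstance : Surjective f.left)
  haveI : IsFinite ((pullback.fst sndV f).left ≫ c.left) := hfin
  obtain ⟨h1, h2⟩ := Groth.Agent.Helper15.UbfField.isFinite_of_flat_surjective (K := q.K)
    ((pullback.fst sndV f).left ≫ c.left) (pullback.fst sndV f).left c.left rfl
  exact ⟨h1, fun s => (h2 s).trans (hrk s)⟩

end Groth.Agent.S10427
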