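import Groth.Statements.S10439
import Groth.Agent.Lib.Helper15.SoberDecent

set_option autoImplicit false
universe u
open CategoryTheory CategoryTheory.Limits AlgebraicGeometry Topology TopologicalSpace
open AlgSp

namespace Groth.Agent.S10439

/-- A birational morphism between decent algebraic spaces over a scheme S, each with only finitely many
irreducible components, is dominant: the image of |X| is dense in |Y|. -/
theorem result {S : Scheme.{u}} {X Y : AlgSp.Space S} (f : X ⟶ Y)
    (hX : AlgSp.IsDecent X.obj) (hY : AlgSp.IsDecent Y.obj)
    (hXf : (irreducibleComponents (AlgSp.Points X.obj)).Finite)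
    (hYf : (irreducibleComponents (AlgSp.Points Y.obj)).Finite)
    (hf : W4stk3decentspacesp2.IsBirational f.hom) : AlgSp.IsDominantMor f.hom := by
  haveI := Groth.Agent.Helper15.SoberDecent.quasiSober_points_of_isDecent Y.property hY
  change DenseRange (AlgSp.Points.map f.hom)
  rw [DenseRange, dense_iff_closure_eq]
  apply Set.eq_univ_of_univ_subset
  rw [← genericPoints.closure (α := AlgSp.Points Y.obj)]
  apply closure_mono
  intro y hy
  obtain ⟨x, -, rfl⟩ := hf.bijOn.surjOn hy
  exact ⟨x, rfl⟩

end Groth.Agent.S10439
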