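import Groth.Statements.S10449
import Groth.Agent.Lib.Helper16.AlgSp.DimInt

set_option autoImplicit false
universe u
open CategoryTheory CategoryTheory.Limits AlgebraicGeometry Topology TopologicalSpace
open AlgSp

namespace Groth.Agent.S10449

/-- For an integral surjective morphism f : X ⟶ Y of algebraic spaces over a scheme S, the dimension of
Y is at most the dimension of X (together with the inequality dim X ≤ dim Y, which holds for every
integral morphism, the two dimensions are equal). -/
theorem result {S : Scheme.{u}} {X Y : AlgSp.Space S} (f : X ⟶ Y)
    (hf : AlgSp.IsIntegralMor f.hom) (hs : AlgSp.IsSurjectiveMor f.hom) :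
    AlgSp.dim Y.obj ≤ AlgSp.dim X.obj := by
  exact Groth.Agent.Helper16.AS.dim_le_of_isIntegralMor_of_isSurjectiveMor f.hom hf hs

end Groth.Agent.S10449
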