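import Mathlib
import Groth.Statements.S10459
import Groth.Agent.S10324
import Groth.Agent.Lib.Helper19.QfCodim.Variants
import Groth.Agent.Lib.Helper15.AlgSpDecent2
import Groth.Agent.Lib.Helper15.TrdegQF
import Groth.Agent.Lib.Helper15.AlgSpLocP2

set_option autoImplicit false
universe u
open CategoryTheory CategoryTheory.Limits AlgebraicGeometry Topology TopologicalSpace
open AlgSp

namespace Groth.Agent.S10459

/-- Let f : X ⟶ Y be a dominant morphism locally of finite type between integral algebraic spaces over a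
scheme S, with Y locally Noetherian, and let r be the transcendence degree of the generic point of X
over its image (the generic point of Y). Then dim X ≤ dim Y + r. -/
theorem result {S : Scheme.{u}} {X Y : AlgSp.Space S} (f : X ⟶ Y)
    (hY : AlgSp.IsLocNoethSp Y.obj) (hXi : AlgSp.IsIntegralSp X.obj) (hYi : AlgSp.IsIntegralSp Y.obj)
    (hd : AlgSp.IsDominantMor f.hom) (hft : AlgSp.LocP @LocallyOfFiniteType f.hom)
    (x : AlgSp.Points X.obj) (hx : IsGenericPoint x (Set.univ : Set (AlgSp.Points X.obj))) (r : ℕ)
    (hr : AlgSp.HasAtMor (fun _ _ h u => Dual3.resTrdeg h u = (r : Cardinal.{u})) f.hom x) :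
    AlgSp.dim X.obj ≤ AlgSp.dim Y.obj + ((r : ℕ∞) : WithBot ℕ∞) := by
  have hXa := X.property
  have hXn : AlgSp.IsLocNoethSp X.obj :=
    Groth.Agent.Helper15.isLocNoethSp_of_locP_lft hXa f.hom hft hY
  have key := Groth.Agent.S10324.result f hY hft (r : Cardinal.{u}) ?_
  · simpa using key
  intro ξ hξ s hs
  have hξx : ξ = x := by
    haveI := Groth.Agent.Helper15.t0Space_points_of_isDecent hXa hXi.2.1
    haveI := hXi.2.2
    apply Inseparable.eq
    rw [inseparable_iff_specializes_and]
    refine ⟨?_, hx.specializes (Set.mem_univ _)⟩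
    rw [specializes_iff_forall_open]
    intro Q hQ hxQ
    exact Groth.Agent.Helper19.QfCodim.mem_of_dense_open_of_codimZero hXn Q hQ
      (hQ.dense ⟨x, hxQ⟩) ξ hξ
  subst hξx
  exact (Groth.Agent.Helper15.Trdeg.hasAtMor_resTrdeg_unique f.hom ξ s r hs hr).le

end Groth.Agent.S10459
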