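import Mathlib
import Groth.Statements.S10460
import Groth.Agent.S10459
import Groth.Agent.S10345
import Groth.Agent.Lib.Helper19.DimProper.Sp
import Groth.Agent.Lib.Helper15.AlgSpProper2

set_option autoImplicit false
universe u
open CategoryTheory CategoryTheory.Limits AlgebraicGeometry Topology TopologicalSpace
open AlgSp

namespace Groth.Agent.S10460

/-- Let f : X ⟶ Y be a proper dominant morphism between integral algebraic spaces over a scheme S, with
Y locally Noetherian, and let r be the transcendence degree of the generic point of X over the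
generic point of Y. Then dim X = dim Y + r. -/
theorem result {S : Scheme.{u}} {X Y : AlgSp.Space S} (f : X ⟶ Y)
    (hY : AlgSp.IsLocNoethSp Y.obj) (hXi : AlgSp.IsIntegralSp X.obj) (hYi : AlgSp.IsIntegralSp Y.obj)
    (hd : AlgSp.IsDominantMor f.hom) (hp : AlgSp.IsProperMor f.hom)
    (x : AlgSp.Points X.obj) (hx : IsGenericPoint x (Set.univ : Set (AlgSp.Points X.obj))) (r : ℕ)
    (hr : AlgSp.HasAtMor (fun _ _ h u => Dual3.resTrdeg h u = (r : Cardinal.{u})) f.hom x) :
    AlgSp.dim X.obj = AlgSp.dim Y.obj + ((r : ℕ∞) : WithBot ℕ∞) := by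
  have hXa := X.property
  have hYa := Y.property
  have hXd : AlgSp.IsDecent X.obj := hXi.2.1
  have hYd : AlgSp.IsDecent Y.obj := hYi.2.1
  apply le_antisymm
  · exact Groth.Agent.S10459.result f hY hXi hYi hd hp.2.1.1 x hx r hr
  · rw [← Groth.Agent.S10345.result X hXd, ← Groth.Agent.S10345.result Y hYd]
    refine Groth.Agent.Helper19.DimProper.topDim_add_le_of_closed hXa hYa hXd hYd f.hom hp.2.1.1
      (Groth.Agent.Helper15.isClosedMor_of_isUnivClosedMor hYa f.hom hp.2.2) x ?_ r hr
    intro y
    rw [specializes_iff_mem_closure]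
    have h1 : Set.range (AlgSp.Points.map f.hom) ⊆ closure {AlgSp.Points.map f.hom x} := by
      rintro _ ⟨x', rfl⟩
      have h2 : x' ∈ closure ({x} : Set (AlgSp.Points X.obj)) := by
        rw [hx.def]; exact Set.mem_univ _
      have h3 := image_closure_subset_closure_image (AlgSp.Points.continuous_map f.hom)
        (Set.mem_image_of_mem _ h2)
      rwa [Set.image_singleton] at h3
    have h4 : closure (Set.range (AlgSp.Points.map f.hom)) ⊆
        closure {AlgSp.Points.map f.hom x} := closure_minimal h1 isClosed_closure
    exact h4 (hd y)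

end Groth.Agent.S10460
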