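import Mathlib
import Groth.Statements.S10466
import Groth.Agent.Lib.Helper19.ConnBC.Apps

set_option autoImplicit false
universe u
open CategoryTheory CategoryTheory.Limits AlgebraicGeometry Topology TopologicalSpace
open AlgSp

namespace Groth.Agent.S10466

/-- Let k be a field and X, Y algebraic spaces over k with X geometrically connected over k. Then the
projection X ×_k Y ⟶ Y induces a bijection between connected components of |X ×_k Y| and of |Y|. -/
theorem result (k : Type u) [Field k]
    (X Y : AlgSp.Space (Spec (CommRingCat.of k))) (hX : (∀ (K : Type u) [Field K] [Algebra k K], ConnectedSpace (AlgSp.Points (X.obj ⨯ (AlgSp.yon (Spec (CommRingCat.of k))).obj (Over.mk (Spec.map (CommRingCat.ofHom (algebraMap k K)))))))) :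
    Function.Bijective (Continuous.connectedComponentsMap
      (AlgSp.Points.continuous_map (Limits.prod.snd : X.obj ⨯ Y.obj ⟶ Y.obj))) := by
  have t := Groth.Agent.Helper15.AlgSpLim.isTerminalYonBase (S := Spec (CommRingCat.of k))
  have sq : CategoryTheory.IsPullback (Limits.prod.snd : X.obj ⨯ Y.obj ⟶ Y.obj)
      (Limits.prod.fst : X.obj ⨯ Y.obj ⟶ X.obj) (t.from Y.obj) (t.from X.obj) :=
    (CategoryTheory.IsPullback.of_is_product' (CategoryTheory.Limits.prodIsProd X.obj Y.obj) t).flip
  refine Groth.Agent.Helper19.ConnBC.bijective_connectedComponentsMap (K := k)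
    (str := 𝟙 (Spec (CommRingCat.of k))) Y.property X.property sq ?_
  intro L _ strL e GE q₁ q₂ h
  obtain ⟨φ, rfl⟩ := Spec.map_surjective strL
  letI : Algebra k L := φ.hom.toAlgebra
  haveI hc : ConnectedSpace (AlgSp.Points (X.obj ⨯ (AlgSp.yon (Spec (CommRingCat.of k))).obj
      (Over.mk (Spec.map φ)))) := hX L
  let ι : X.obj ⨯ (AlgSp.yon (Spec (CommRingCat.of k))).obj (Over.mk (Spec.map φ)) ⟶ GE :=
    h.lift Limits.prod.snd Limits.prod.fst (t.hom_ext _ _)
  let ρ : GE ⟶ X.obj ⨯ (AlgSp.yon (Spec (CommRingCat.of k))).obj (Over.mk (Spec.map φ)) :=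
    Limits.prod.lift q₂ q₁
  have hρι : ρ ≫ ι = 𝟙 GE := by
    apply h.hom_ext
    · rw [Category.assoc, h.lift_fst, Limits.prod.lift_snd, Category.id_comp]
    · rw [Category.assoc, h.lift_snd, Limits.prod.lift_fst, Category.id_comp]
  have hsurj : Function.Surjective (AlgSp.Points.map ι) := by
    intro x
    refine ⟨AlgSp.Points.map ρ x, ?_⟩
    rw [← AlgSp.Points.map_comp, hρι, AlgSp.Points.map_id]
  exact hsurj.connectedSpace (AlgSp.Points.continuous_map ι)

end Groth.Agent.S10466
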