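import Mathlib
import Groth.Statements.S10467
import Groth.Agent.Lib.Helper19.ConnBC.Apps

set_option autoImplicit false
universe u
open CategoryTheory CategoryTheory.Limits AlgebraicGeometry Topology TopologicalSpace
open AlgSp

namespace Groth.Agent.S10467

/-- Let k be a separably closed field, K an extension field of k and X an algebraic space over k. Then
X_K ⟶ X induces a bijection of connected components. -/
theorem result (k : Type u) [Field k] [IsSepClosed k]
    (X : AlgSp.Space (Spec (CommRingCat.of k))) (K : Type u) [Field K] [Algebra k K] :
    Function.Bijective (Continuous.connectedComponentsMap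
      (AlgSp.Points.continuous_map (Limits.prod.fst : (X.obj ⨯ (AlgSp.yon (Spec (CommRingCat.of k))).obj (Over.mk (Spec.map (CommRingCat.ofHom (algebraMap k K))))) ⟶ X.obj))) := by
  have t := Groth.Agent.Helper15.AlgSpLim.isTerminalYonBase (S := Spec (CommRingCat.of k))
  exact Groth.Agent.Helper19.ConnBC.bijective_connectedComponentsMap_of_isSepClosed
    (K₁ := k) (K₂ := K) (str₁ := 𝟙 (Spec (CommRingCat.of k)))
    (str₂ := Spec.map (CommRingCat.ofHom (algebraMap k K))) X.property
    (CategoryTheory.IsPullback.of_is_product' (CategoryTheory.Limits.prodIsProd _ _) t)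

end Groth.Agent.S10467
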