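import Mathlib
import Groth.Statements.S10468
import Groth.Agent.Lib.Helper19.ConnBC.Apps
import Groth.Agent.S10465

set_option autoImplicit false
universe u
open CategoryTheory CategoryTheory.Limits AlgebraicGeometry Topology TopologicalSpace
open AlgSp

namespace Groth.Agent.S10468

/-- Let k be a field with separable algebraic closure k̄ and X an algebraic space over k. Then X is
geometrically connected if and only if X_{k̄} is connected. -/
theorem result (k : Type u) [Field k] (X : AlgSp.Space (Spec (CommRingCat.of k)))
    (kbar : Type u) [Field kbar] [Algebra k kbar] [IsSepClosure k kbar] :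
    (∀ (K : Type u) [Field K] [Algebra k K], ConnectedSpace (AlgSp.Points (X.obj ⨯ (AlgSp.yon (Spec (CommRingCat.of k))).obj (Over.mk (Spec.map (CommRingCat.ofHom (algebraMap k K))))))) ↔ ConnectedSpace (AlgSp.Points (X.obj ⨯ (AlgSp.yon (Spec (CommRingCat.of k))).obj (Over.mk (Spec.map (CommRingCat.ofHom (algebraMap k kbar)))))) := by
  haveI : IsSepClosed kbar := IsSepClosure.sep_closed k
  constructor
  · intro h
    exact h kbar
  · intro h
    rw [Groth.Agent.S10465.result k X kbar]
    intro K _ _ _ _
    have sq := Groth.Agent.Helper15.isPullback_prod_id_map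
      ((AlgSp.yon (Spec (CommRingCat.of k))).map (Groth.Agent.Helper16.AS.fieldOverMap k kbar K)) X.obj
    exact (Groth.Agent.Helper19.ConnBC.connectedSpace_iff_of_isSepClosed
      (K₁ := kbar) (K₂ := K)
      (Groth.Agent.Helper19.ConnBC.isAlgSpace_prod X.property (AlgSp.IsAlgSpace.yon_obj _)) sq).2 h

end Groth.Agent.S10468
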