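import Mathlib
import Groth.Statements.S10485
import Groth.Agent.Lib.Helper19.GenFib.Generic

set_option autoImplicit false
universe u
open CategoryTheory CategoryTheory.Limits AlgebraicGeometry Topology TopologicalSpace
open AlgSp

namespace Groth.Agent.S10485

/-- (4) ⇔ (5): let f : X ⟶ Y be a dominant morphism locally of finite type between integral algebraic
spaces over a scheme S, with generic points x and y. Then f is quasi-finite at x if and only if x is
the only point of X mapping to y. -/
theorem result {S : Scheme.{u}} {X Y : AlgSp.Space S} (hXi : AlgSp.IsIntegralSp X.obj) (hYi : AlgSp.IsIntegralSp Y.obj)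
    (f : X ⟶ Y) (hft : AlgSp.LocP @LocallyOfFiniteType f.hom) (hd : AlgSp.IsDominantMor f.hom)
    (x : AlgSp.Points X.obj) (hx : IsGenericPoint x (Set.univ : Set (AlgSp.Points X.obj)))
    (y : AlgSp.Points Y.obj) (hy : IsGenericPoint y (Set.univ : Set (AlgSp.Points Y.obj))) :
    AlgSp.HasAtMor (fun U _ h u => ∃ W : U.Opens, u ∈ W ∧ LocallyQuasiFinite (W.ι ≫ h) ∧ LocallyOfFiniteType (W.ι ≫ h)) f.hom x ↔ (∀ x' : AlgSp.Points X.obj, AlgSp.Points.map f.hom x' = y → x' = x) := by
  have hXa := X.property
  have hYa := Y.property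
  have hXd : AlgSp.IsDecent X.obj := hXi.2.1
  have hYd : AlgSp.IsDecent Y.obj := hYi.2.1
  have hfx : AlgSp.Points.map f.hom x = y :=
    Groth.Agent.Helper19.GenFib.map_generic_eq hYa hYd f.hom hd x hx y hy
  constructor
  · intro hq x' hx'
    exact Groth.Agent.Helper19.GenFib.unique_of_trdeg_zero hXa hYa hXd hYd f.hom hft x
      (fun x' => hx.specializes (Set.mem_univ _))
      (Groth.Agent.Helper19.QfCodim.hasAtMor_resTrdeg_zero_of_qfAt f.hom x hq) x'
      (hx'.trans hfx.symm)
  · intro huniq
    exact Groth.Agent.Helper19.GenFib.qfAt_of_trdeg_zero_of_maximal hXd f.hom hft x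
      (Groth.Agent.Helper19.GenFib.eq_of_specializes_generic hXa hXd x hx)
      (Groth.Agent.Helper19.GenFib.trdeg_zero_of_unique hXa hYa hXd f.hom hft x
        (fun x' hx' => huniq x' (hx'.trans hfx)))

end Groth.Agent.S10485
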