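import Groth.Statements.S10487
import Groth.Agent.Lib.Helper15.GenFinInt3

set_option autoImplicit false
universe u
open CategoryTheory CategoryTheory.Limits AlgebraicGeometry Topology TopologicalSpace
open AlgSp

namespace Groth.Agent.S10487

/-- (3) ⇔ (5): let f : X ⟶ Y be a dominant morphism locally of finite type between integral algebraic
spaces over a scheme S, with generic points x and y. Then there are nonempty affine opens U ⊂ X and
V ⊂ Y with f(U) ⊂ V and f|_U : U ⟶ V finite, if and only if x is the only point of X mapping to y. -/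
theorem result {S : Scheme.{u}} {X Y : AlgSp.Space S} (hXi : AlgSp.IsIntegralSp X.obj) (hYi : AlgSp.IsIntegralSp Y.obj)
    (f : X ⟶ Y) (hft : AlgSp.LocP @LocallyOfFiniteType f.hom) (hd : AlgSp.IsDominantMor f.hom)
    (x : AlgSp.Points X.obj) (hx : IsGenericPoint x (Set.univ : Set (AlgSp.Points X.obj)))
    (y : AlgSp.Points Y.obj) (hy : IsGenericPoint y (Set.univ : Set (AlgSp.Points Y.obj))) :
    (∃ (U V : Over S) (a : (AlgSp.yon S).obj U ⟶ X.obj) (b : (AlgSp.yon S).obj V ⟶ Y.obj) (g : U ⟶ V),
      IsAffine U.left ∧ IsAffine V.left ∧ Nonempty ↥U.left ∧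
        AlgSp.RepWith @IsOpenImmersion a ∧ AlgSp.RepWith @IsOpenImmersion b ∧
          a ≫ f.hom = (AlgSp.yon S).map g ≫ b ∧ IsFinite g.left) ↔ (∀ x' : AlgSp.Points X.obj, AlgSp.Points.map f.hom x' = y → x' = x) := by
  have hXa := X.property
  have hYa := Y.property
  have hXd : AlgSp.IsDecent X.obj := hXi.2.1
  have hYd : AlgSp.IsDecent Y.obj := hYi.2.1
  have hfx : AlgSp.Points.map f.hom x = y :=
    Groth.Agent.Helper19.GenFib.map_generic_eq hYa hYd f.hom hd x hx y hy
  constructor
  · intro h
    exact Groth.Agent.Helper15.GenFinInt.unique_of_exists_affine_finite hXa hYa hXd hYd f.hom hft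
      x hx y hfx h
  · intro huniq
    exact Groth.Agent.Helper15.GenFinInt.exists_affine_finite_of_unique hXa hYa hXd hYd f.hom hft
      x hx y hy hfx huniq

end Groth.Agent.S10487
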