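import Groth.Statements.S10489
import Groth.Agent.Lib.Helper3.SmoothRegSch

set_option autoImplicit false
universe u
open CategoryTheory CategoryTheory.Limits AlgebraicGeometry Topology TopologicalSpace
open AlgSp

namespace Groth.Agent.S10489

/-- Let k be a field and X an algebraic space which is smooth over k. Then X is regular as an algebraic
space. -/
theorem result (k : Type u) [Field k] (X : AlgSp.Space (Spec (CommRingCat.of k))) (p : X.obj ⟶ (AlgSp.yon (Spec (CommRingCat.of k))).obj (Over.mk (𝟙 _))) (hp : AlgSp.LocP @Smooth p) :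
    AlgSp.EtaleLocally (fun U => IsLocallyNoetherian U ∧ ∀ u : ↥U, IsRegularLocalRing ↥(U.presheaf.stalk u)) X.obj := by
  obtain ⟨U, a, hae, has⟩ := X.property.atlas
  refine ⟨U, a, hae, has, ?_⟩
  let one : Over (Spec (CommRingCat.of k)) := Over.mk (𝟙 _)
  have hone : IsTerminal ((AlgSp.yon (Spec (CommRingCat.of k))).obj one) :=
    IsTerminal.isTerminalObj (AlgSp.yon _) _ Over.mkIdTerminal
  let h : U ⟶ one := Over.homMk U.hom
  have hsm : Smooth h.left :=
    hp a (𝟙 _) h hae (AlgSp.repWith_id @Etale one) (hone.hom_ext _ _)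
  letI : U.left.Over (Spec (CommRingCat.of k)) := ⟨U.hom⟩
  haveI : Smooth (U.left ↘ Spec (CommRingCat.of k)) := hsm
  constructor
  · exact LocallyOfFiniteType.isLocallyNoetherian (U.left ↘ Spec (CommRingCat.of k))
  · intro u
    exact Groth.Agent.Helper3.SmoothRegSch.main k U.left u

end Groth.Agent.S10489
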