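import Groth.Statements.S11161
import Mathlib

set_option autoImplicit false
universe w w' v v' u u'
open CategoryTheory CategoryTheory.Limits
open CohDer

namespace Groth.Agent.S11161

section Ess

variable {A' : Type u'} [Category.{v'} A'] [Abelian A'] {A : Type u} [Category.{v} A] [Abelian A]
  (ι : A' ⥤ A) [ι.Additive] [PreservesFiniteLimits ι] [PreservesFiniteColimits ι] [ι.Full] [ι.Faithful]

include ι in
lemma ess_homology (S : ShortComplex A) (h₁ : ι.essImage S.X₁) (h₂ : ι.essImage S.X₂)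
    (h₃ : ι.essImage S.X₃) : ι.essImage S.homology := by
  obtain ⟨X₁, ⟨e₁⟩⟩ := h₁
  obtain ⟨X₂, ⟨e₂⟩⟩ := h₂
  obtain ⟨X₃, ⟨e₃⟩⟩ := h₃
  let f' : X₁ ⟶ X₂ := ι.preimage (e₁.hom ≫ S.f ≫ e₂.inv)
  let g' : X₂ ⟶ X₃ := ι.preimage (e₂.hom ≫ S.g ≫ e₃.inv)
  have w : f' ≫ g' = 0 := by
    apply ι.map_injective
    simp [f', g']
  let S' : ShortComplex A' := ShortComplex.mk f' g' w
  let e : S'.map ι ≅ S := ShortComplex.isoMk e₁ e₂ e₃
    (by show e₁.hom ≫ S.f = ι.map f' ≫ e₂.hom; simp [f'])
    (by show e₂.hom ≫ S.g = ι.map g' ≫ e₃.hom; simp [g'])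
  exact ⟨S'.homology, ⟨(S'.mapHomologyIso ι).symm ≪≫ ShortComplex.homologyMapIso e⟩⟩

include ι in
lemma ess_cokernel {X Y : A} (g : X ⟶ Y) (hX : ι.essImage X) (hY : ι.essImage Y) :
    ι.essImage (cokernel g) := by
  let S : ShortComplex A := ShortComplex.mk g (0 : Y ⟶ Y) comp_zero
  have h := ess_homology ι S hX hY hY
  let hd : S.RightHomologyData :=
    ShortComplex.RightHomologyData.ofIsColimitCokernelCofork S rfl _ (cokernelIsCokernel g)
  exact Functor.essImage.ofIso hd.homologyIso h

include ι in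
/-- four-term exact sequence `X → Y → M → Z → 0` with `X, Y, Z` in the essential image. -/
lemma ess_of_exact4
    (hext : ∀ S : ShortComplex A, S.ShortExact → ι.essImage S.X₁ → ι.essImage S.X₃ → ι.essImage S.X₂)
    {X Y M Z : A} (u : X ⟶ Y) (v : Y ⟶ M) (w : M ⟶ Z) (huv : u ≫ v = 0) (hvw : v ≫ w = 0)
    (h₁ : (ShortComplex.mk u v huv).Exact) (h₂ : (ShortComplex.mk v w hvw).Exact) (hw : Epi w)
    (hX : ι.essImage X) (hY : ι.essImage Y) (hZ : ι.essImage Z) : ι.essImage M := by
  have hm : Mono (cokernel.desc u v huv) := (ShortComplex.exact_iff_mono_cokernel_desc _).1 h₁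
  have hw' : cokernel.desc u v huv ≫ w = 0 := by
    rw [← cancel_epi (cokernel.π u)]; simp [hvw]
  let T : ShortComplex A := ShortComplex.mk (cokernel.desc u v huv) w hw'
  let φ : ShortComplex.mk v w hvw ⟶ T :=
    { τ₁ := cokernel.π u, τ₂ := 𝟙 _, τ₃ := 𝟙 _ }
  have hT : T.Exact := by
    have : Epi φ.τ₁ := by dsimp [φ]; infer_instance
    have : IsIso φ.τ₂ := by dsimp [φ]; infer_instance
    have : Mono φ.τ₃ := by dsimp [φ]; infer_instance
    exact (ShortComplex.exact_iff_of_epi_of_isIso_of_mono φ).1 h₂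
  have hTs : T.ShortExact := { exact := hT, mono_f := hm, epi_g := hw }
  exact hext T hTs (ess_cokernel ι u hX hY) hZ

end Ess


section Step

open HomologicalComplex CochainComplex HomComplex

variable {A : Type u} [Category.{v} A] [Abelian A]
  {K L : CochainComplex A ℤ} (f : K ⟶ L) (n : ℤ) {J : A} (φ : (mappingCone f).opcycles n ⟶ J)

namespace step

/-- The single complex -/
noncomputable abbrev S (n : ℤ) (J : A) : CochainComplex A ℤ := (single A (.up ℤ) n).obj J

/-- the map from the cone to the single complex -/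
noncomputable def p : mappingCone f ⟶ S n J :=
  mkHomToSingle ((mappingCone f).pOpcycles n ≫ φ) (by
    intro i hi
    simp)

lemma p_f : (p f n φ).f n = (mappingCone f).pOpcycles n ≫ φ ≫ (singleObjXSelf (.up ℤ) n J).inv := by
  simp [p]

/-- the map from `L` to the single complex -/
noncomputable def α : L ⟶ S n J := mappingCone.inr f ≫ p f n φ

/-- the cochain -/
noncomputable def β : Cochain K (S n J) (-1) :=
  (mappingCone.inl f).comp (Cochain.ofHom (p f n φ)) (add_zero _)

lemma hβ : δ (-1) 0 (-(β f n φ)) + Cochain.ofHom (f ≫ α f n φ) = 0 := by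
  rw [δ_neg, β, δ_comp_ofHom, mappingCone.δ_inl, α]
  simp [Cochain.ofHom_comp]

/-- The new complex. -/
noncomputable abbrev mid : CochainComplex A ℤ := mappingCocone (α f n φ)

/-- The new map. -/
noncomputable def f' : K ⟶ mid f n φ := mappingCocone.lift (α f n φ) f (-(β f n φ)) (hβ f n φ)

/-- The projection. -/
noncomputable abbrev π : mid f n φ ⟶ L := mappingCocone.fst (α f n φ)

@[reassoc (attr := simp)]
lemma f'_π : f' f n φ ≫ π f n φ = f := by simp [f', π]

lemma isIso_π_f (i : ℤ) (hi : i ≤ n) : IsIso ((π f n φ).f i) := by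
  refine ⟨(mappingCocone.inl (α f n φ)).v i i (add_zero i), ?_, by simp⟩
  simp [← mappingCocone.id_X (α f n φ) i (i - 1) (by lia),
    (isZero_single_obj_X _ _ _ _ (by lia)).eq_of_src
      ((mappingCocone.inr (α f n φ)).1.v (i - 1) i (by lia)) 0]

section

variable [HasDerivedCategory.{w} A]

lemma mono_homologyMap_π (q : ℤ) (hq : q ≤ n) : Mono (homologyMap (π f n φ) q) :=
  (CochainComplex.homologyMap_exact₁_of_distTriang _
    (DerivedCategory.mappingCocone_triangle_distinguished (α f n φ)) (q - 1) q (by lia)).mono_g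
      ((ExactAt.isZero_homology (exactAt_single_obj _ _ _ _ (by lia))).eq_of_src _ _)

lemma epi_homologyMap_π (q : ℤ) (hq : q < n) : Epi (homologyMap (π f n φ) q) :=
  (CochainComplex.homologyMap_exact₂_of_distTriang _
    (DerivedCategory.mappingCocone_triangle_distinguished (α f n φ)) q).epi_f
      ((ExactAt.isZero_homology (exactAt_single_obj _ _ _ _ (by lia))).eq_of_tgt _ _)

lemma quasiIsoAt_π (q : ℤ) (hq : q < n) : QuasiIsoAt (π f n φ) q := by
  have := mono_homologyMap_π.{w} f n φ q (by lia)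
  have := epi_homologyMap_π.{w} f n φ q hq
  rw [quasiIsoAt_iff_isIso_homologyMap]
  apply Balanced.isIso_of_mono_of_epi

end

lemma mono_homologyMap_p (hφ : Mono ((mappingCone f).homologyι n ≫ φ)) :
    Mono (homologyMap (p f n φ) n) := by
  have h1 : homologyMap (p f n φ) n ≫ (S n J).homologyι n =
      (mappingCone f).homologyι n ≫ opcyclesMap (p f n φ) n := homologyι_naturality _ _
  have h2 : opcyclesMap (p f n φ) n =
      φ ≫ (singleObjXSelf (.up ℤ) n J).inv ≫ (S n J).pOpcycles n := by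
    rw [← cancel_epi ((mappingCone f).pOpcycles n), p_opcyclesMap, p_f]
    simp
  have : IsIso ((S n J).pOpcycles n) := (S n J).isIso_pOpcycles (n - 1) n (by simp) (by simp)
  have : Mono (homologyMap (p f n φ) n ≫ (S n J).homologyι n) := by
    rw [h1, h2, ← Category.assoc]
    infer_instance
  exact mono_of_mono _ ((S n J).homologyι n)

section

variable [HasDerivedCategory.{w} A]

lemma homologyMap_f_inr : homologyMap f n ≫ homologyMap (mappingCone.inr f) n = 0 :=
  CochainComplex.homologyMap_comp_eq_zero_of_distTriang (mappingCone.triangle f)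
      (DerivedCategory.mappingCone_triangle_distinguished f) n

lemma exact_f_inr : (ShortComplex.mk (homologyMap f n) (homologyMap (mappingCone.inr f) n)
    (homologyMap_f_inr.{w} f n)).Exact :=
  CochainComplex.homologyMap_exact₂_of_distTriang (mappingCone.triangle f)
      (DerivedCategory.mappingCone_triangle_distinguished f) n

lemma homologyMap_f_α : homologyMap f n ≫ homologyMap (α f n φ) n = 0 := by
  rw [α, homologyMap_comp, ← Category.assoc, homologyMap_f_inr.{w} f n, zero_comp]

lemma exact_homologyShortComplex (hφ : Mono ((mappingCone f).homologyι n ≫ φ)) :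
    (ShortComplex.mk (homologyMap f n) (homologyMap (α f n φ) n)
      (homologyMap_f_α.{w} f n φ)).Exact := by
  have hT := exact_f_inr.{w} f n
  let ψ : ShortComplex.mk (homologyMap f n) (homologyMap (mappingCone.inr f) n)
      (homologyMap_f_inr.{w} f n) ⟶
      ShortComplex.mk (homologyMap f n) (homologyMap (α f n φ) n) (homologyMap_f_α.{w} f n φ) :=
    { τ₁ := 𝟙 _
      τ₂ := 𝟙 _
      τ₃ := homologyMap (p f n φ) n
      comm₂₃ := by
        dsimp
        rw [Category.id_comp, ← homologyMap_comp, α] }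
  have := mono_homologyMap_p f n φ hφ
  obtain ⟨_, _, _⟩ : Mono ψ.τ₃ ∧ IsIso ψ.τ₂ ∧ Epi ψ.τ₁ := by
    dsimp [ψ]
    exact ⟨inferInstance, inferInstance, inferInstance⟩
  rw [← ShortComplex.exact_iff_of_epi_of_isIso_of_mono ψ]
  exact hT

lemma homologyMap_π_α : homologyMap (π f n φ) n ≫ homologyMap (α f n φ) n = 0 :=
  CochainComplex.homologyMap_comp_eq_zero_of_distTriang (mappingCocone.triangle (α f n φ))
    (DerivedCategory.mappingCocone_triangle_distinguished (α f n φ)) n

lemma exact_π_α : (ShortComplex.mk (homologyMap (π f n φ) n) (homologyMap (α f n φ) n)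
    (homologyMap_π_α.{w} f n φ)).Exact :=
  CochainComplex.homologyMap_exact₂_of_distTriang (mappingCocone.triangle (α f n φ))
    (DerivedCategory.mappingCocone_triangle_distinguished (α f n φ)) n

lemma quasiIsoAt_f'_n (hφ : Mono ((mappingCone f).homologyι n ≫ φ)) [Mono (homologyMap f n)] :
    QuasiIsoAt (f' f n φ) n := by
  have := mono_homologyMap_π.{w} f n φ n (by lia)
  have h₁ : IsLimit (KernelFork.ofι (homologyMap f n) (homologyMap_f_α.{w} f n φ)) :=
    (exact_homologyShortComplex.{w} f n φ hφ).fIsKernel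
  have h₂ : IsLimit (KernelFork.ofι (homologyMap (π f n φ) n) (homologyMap_π_α.{w} f n φ)) :=
    (exact_π_α.{w} f n φ).fIsKernel
  have e : (h₁.conePointUniqueUpToIso h₂).hom ≫ homologyMap (π f n φ) n = homologyMap f n :=
    IsLimit.conePointUniqueUpToIso_hom_comp h₁ h₂ WalkingParallelPair.zero
  have : homologyMap (f' f n φ) n = (IsLimit.conePointUniqueUpToIso h₁ h₂).hom := by
    rw [← cancel_mono (homologyMap (π f n φ) n), e, ← homologyMap_comp, f'_π]
  rw [quasiIsoAt_iff_isIso_homologyMap, this]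
  infer_instance

lemma quasiIsoAt_f' (hφ : Mono ((mappingCone f).homologyι n ≫ φ)) [Mono (homologyMap f n)]
    (hf : ∀ i < n, QuasiIsoAt f i) (q : ℤ) (hq : q ≤ n) :
    QuasiIsoAt (f' f n φ) q := by
  obtain hq | rfl := hq.lt_or_eq'
  · have := quasiIsoAt_π.{w} f n φ q hq
    rw [← quasiIsoAt_iff_comp_right _ (π f n φ), f'_π]
    exact hf q hq
  · exact quasiIsoAt_f'_n.{w} f _ φ hφ

end

set_option backward.isDefEq.respectTransparency false in
lemma cocone_d_snd_v {K L : CochainComplex A ℤ} (φ : K ⟶ L) (p q : ℤ) (hpq : p + 1 = q)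
    (r : ℤ) (hr : p + -1 = r) :
    (mappingCocone φ).d p q ≫ (mappingCocone.snd φ).v q p (by lia) =
      -(mappingCocone.fst φ).f p ≫ φ.f p - (mappingCocone.snd φ).v p r hr ≫ L.d r p := by
  subst hpq hr
  simp [mappingCocone, mappingCocone.snd, mappingCocone.fst,
    Cochain.leftShift_v (n := 0) _ _ _ _ _ _ _ _ (add_zero _),
    Cochain.leftShift_v (n := 1) _ _ _ _ _ p _ (p + -1) (by lia),
    mappingCone.d_snd_v φ (p + -1) p (by lia), Int.negOnePow_even 2 ⟨1, rfl⟩]
  abel

lemma mono_homologyMap_f' (hφ : Mono ((mappingCone f).homologyι n ≫ φ))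
    (hL : IsZero (L.X (n + 1))) :
    Mono (homologyMap (f' f n φ) (n + 1)) := by
  rw [mono_homologyMap_iff_up_to_refinements _ n (n + 1) (n + 1 + 1) (by simp) (by simp)]
  intro B x₁ hx₁ y₀ hy₀
  have h1 := hy₀ =≫ (mappingCocone.snd (α f n φ)).v (n + 1) n (by lia)
  simp only [Category.assoc] at h1
  rw [f', mappingCocone.lift_f_snd_v,
    cocone_d_snd_v (α f n φ) n (n + 1) rfl (n - 1) (by lia)] at h1
  have hβ' : (β f n φ).v (n + 1) n (by lia) =
      (mappingCone.inl f).v (n + 1) n (by lia) ≫ (p f n φ).f n := by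
    simp [β]
  have hSd : (S n J).d (n - 1) n = 0 := by simp
  rw [Cochain.neg_v, hβ', hSd] at h1
  let y : B ⟶ L.X n := y₀ ≫ (π f n φ).f n
  let c : B ⟶ (mappingCone f).X n :=
    x₁ ≫ (mappingCone.inl f).v (n + 1) n (by lia) - y ≫ (mappingCone.inr f).f n
  have hc : c ≫ (p f n φ).f n = 0 := by
    simp only [comp_zero, sub_zero, Preadditive.comp_neg, neg_inj] at h1
    simp only [c, y, Preadditive.sub_comp, Category.assoc, sub_eq_zero]
    have hα : (α f n φ).f n = (mappingCone.inr f).f n ≫ (p f n φ).f n := by simp [α]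
    rw [h1, hα]
  have hc' : c ≫ (mappingCone f).pOpcycles n ≫ φ = 0 := by
    rw [p_f] at hc
    rw [← cancel_mono (singleObjXSelf (.up ℤ) n J).inv]
    simpa using hc
  have hcd : c ≫ (mappingCone f).d n (n + 1) = 0 := by
    apply mappingCone.ext_to f (n + 1) (n + 1 + 1) rfl
    · simp [c, mappingCone.d_fst_v f n (n + 1) (n + 1 + 1) rfl rfl, hx₁]
    · apply hL.eq_of_tgt
  have hz : (mappingCone f).liftCycles c (n + 1) (by simp) hcd ≫
      (mappingCone f).homologyπ n = 0 := by
    rw [← cancel_mono ((mappingCone f).homologyι n ≫ φ)]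
    simp [hc']
  rw [liftCycles_comp_homologyπ_eq_zero_iff_up_to_refinements _ (n - 1) n (n + 1)
    (by simp) (by simp)] at hz
  obtain ⟨B', π', hπ', x₀, hx₀⟩ := hz
  refine ⟨B', π', hπ', -x₀ ≫ (mappingCone.fst f).1.v (n - 1) n (by lia), ?_⟩
  have h2 := hx₀ =≫ (mappingCone.fst f).1.v n (n + 1) rfl
  simpa [c, mappingCone.d_fst_v f (n - 1) n (n + 1) (by lia) rfl] using h2

/-- the degreewise splitting of the mapping cocone -/
noncomputable def coconeSplitting {K L : CochainComplex A ℤ} (φ : K ⟶ L) (i j : ℤ)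
    (hij : j + 1 = i) :
    (ShortComplex.mk ((mappingCocone.inr φ).1.v j i hij) ((mappingCocone.fst φ).f i)
      (by simp)).Splitting where
  r := (mappingCocone.snd φ).v i j (by lia)
  s := (mappingCocone.inl φ).v i i (add_zero i)
  f_r := by simp
  s_g := by simp
  id := (add_comm _ _).trans (by simp [mappingCocone.id_X φ i j (by lia)])

lemma injective_cocone_X {K L : CochainComplex A ℤ} (φ : K ⟶ L) (i j : ℤ) (hij : j + 1 = i)
    (h₁ : Injective (L.X j)) (h₂ : Injective (K.X i)) : Injective ((mappingCocone φ).X i) :=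
  Injective.of_iso (coconeSplitting φ i j hij).isoBinaryBiproduct.symm inferInstance

lemma isZero_cocone_X {K L : CochainComplex A ℤ} (φ : K ⟶ L) (i j : ℤ) (hij : j + 1 = i)
    (h₁ : IsZero (L.X j)) (h₂ : IsZero (K.X i)) : IsZero ((mappingCocone φ).X i) := by
  rw [IsZero.iff_id_eq_zero, ← mappingCocone.id_X φ i j (by lia),
    h₂.eq_of_tgt ((mappingCocone.fst φ).f i) 0, h₁.eq_of_tgt ((mappingCocone.snd φ).v i j _) 0]
  simp

lemma prop_cocone_X {K L : CochainComplex A ℤ} (φ : K ⟶ L) (i j : ℤ) (hij : j + 1 = i)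
    (P : A → Prop) (hP : ∀ S : ShortComplex A, S.ShortExact → P S.X₁ → P S.X₃ → P S.X₂)
    (h₁ : P (L.X j)) (h₂ : P (K.X i)) : P ((mappingCocone φ).X i) :=
  hP _ (coconeSplitting φ i j hij).shortExact h₁ h₂

end step

end Step


section Tower

open HomologicalComplex CochainComplex HomComplex ZeroObject

variable {A' : Type u'} [Category.{v'} A'] [Abelian A'] {A : Type u} [Category.{v} A] [Abelian A]
  (ι : A' ⥤ A) [ι.Additive] [PreservesFiniteLimits ι] [PreservesFiniteColimits ι] [ι.Full] [ι.Faithful]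
  (K : CochainComplex A ℤ) (a : ℤ)

/-- A stage of the construction -/
structure Stage (n : ℤ) where
  /-- the complex -/
  L : CochainComplex A ℤ
  /-- the map -/
  f : K ⟶ L
  ge : L.IsStrictlyGE a
  le : L.IsStrictlyLE n
  inj : ∀ i, Injective (L.X i)
  ess : ∀ i, ι.essImage (L.X i)
  qi : ∀ i < n, QuasiIsoAt f i
  mono : Mono (homologyMap f n)

omit [PreservesFiniteLimits ι] [PreservesFiniteColimits ι] [ι.Full] [ι.Faithful] in
include ι in
lemma ess_of_isZero {Z : A} (hZ : IsZero Z) : ι.essImage Z :=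
  ⟨0, ⟨(ι.mapZeroObject) ≪≫ hZ.isoZero.symm⟩⟩

lemma ess_single_X (n : ℤ) (Y' : A') (i : ℤ) :
    ι.essImage ((step.S n (ι.obj Y')).X i) := by
  by_cases hi : i = n
  · subst hi
    exact ⟨Y', ⟨(singleObjXSelf (.up ℤ) i (ι.obj Y')).symm⟩⟩
  · exact ess_of_isZero ι (isZero_single_obj_X (.up ℤ) _ _ _ hi)

lemma injective_single_X (n : ℤ) (J : A) [Injective J] (i : ℤ) :
    Injective ((step.S n J).X i) := by
  by_cases hi : i = n
  · subst hi
    exact Injective.of_iso (singleObjXSelf (.up ℤ) i J).symm inferInstance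
  · exact (isZero_single_obj_X (.up ℤ) _ _ _ hi).injective

variable [HasDerivedCategory.{w} A]

variable {ι K a} in
lemma Stage.exists_next
    (hext : ∀ S : ShortComplex A, S.ShortExact → ι.essImage S.X₁ → ι.essImage S.X₃ → ι.essImage S.X₂)
    (hinj : ∀ X' : A', ∃ (Y' : A') (i : X' ⟶ Y'), Mono i ∧ Injective (ι.obj Y'))
    (hK : ∀ i, ι.essImage (K.homology i))
    {n₀ : ℤ} (F : Stage ι K a n₀) (n₁ : ℤ) (hn₁ : n₀ + 1 = n₁) (ha : a ≤ n₁) :
    ∃ (F' : Stage ι K a n₁) (g : F'.L ⟶ F.L), F'.f ≫ g = F.f ∧ ∀ i ≤ n₀, IsIso (g.f i) := by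
  subst hn₁
  have := F.ge
  have := F.le
  have := F.mono
  let T := mappingCone.triangle F.f
  have hT := DerivedCategory.mappingCone_triangle_distinguished.{w} F.f
  -- the homology of the cone in degree n₀ is in the essential image
  have hM : ι.essImage ((mappingCone F.f).homology n₀) := by
    have e₃ := CochainComplex.homologyMap_exact₃_of_distTriang T hT n₀ (n₀ + 1) rfl
    have e₁ := CochainComplex.homologyMap_exact₁_of_distTriang T hT n₀ (n₀ + 1) rfl
    have : Epi (homologyδOfTriangle T n₀ (n₀ + 1) rfl) :=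
      e₁.epi_f ((ShortComplex.isZero_homology_of_isZero_X₂ _
        (F.L.isZero_of_isStrictlyLE n₀ (n₀ + 1))).eq_of_tgt _ _)
    exact ess_of_exact4 ι hext (homologyMap F.f n₀) (homologyMap (mappingCone.inr F.f) n₀)
      (homologyδOfTriangle T n₀ (n₀ + 1) rfl) (step.homologyMap_f_inr.{w} F.f n₀)
      (CochainComplex.homologyMap_homologyδOfTriangle T hT n₀ (n₀ + 1) rfl)
      (step.exact_f_inr.{w} F.f n₀) e₃ this (hK n₀)
      (ess_homology ι (F.L.sc n₀) (F.ess _) (F.ess _) (F.ess _)) (hK (n₀ + 1))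
  obtain ⟨M', ⟨eM⟩⟩ := hM
  obtain ⟨Y', i, hi, hY'⟩ := hinj M'
  let m : (mappingCone F.f).homology n₀ ⟶ ι.obj Y' := eM.inv ≫ ι.map i
  have hm : Mono m := by dsimp [m]; infer_instance
  let φ : (mappingCone F.f).opcycles n₀ ⟶ ι.obj Y' :=
    Injective.factorThru m ((mappingCone F.f).homologyι n₀)
  have hφ : Mono ((mappingCone F.f).homologyι n₀ ≫ φ) := by
    dsimp [φ]
    rw [Injective.comp_factorThru]
    exact hm
  refine ⟨{ L := step.mid F.f n₀ φ
            f := step.f' F.f n₀ φ
            ge := ?_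
            le := ?_
            inj := ?_
            ess := ?_
            qi := ?_
            mono := ?_ }, step.π F.f n₀ φ, step.f'_π F.f n₀ φ, step.isIso_π_f F.f n₀ φ⟩
  · rw [isStrictlyGE_iff]
    intro i hi
    exact step.isZero_cocone_X _ i (i - 1) (by lia)
      (isZero_single_obj_X (.up ℤ) _ _ _ (by lia)) (F.L.isZero_of_isStrictlyGE a i)
  · rw [isStrictlyLE_iff]
    intro i hi
    exact step.isZero_cocone_X _ i (i - 1) (by lia)
      (isZero_single_obj_X (.up ℤ) _ _ _ (by lia)) (F.L.isZero_of_isStrictlyLE n₀ i)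
  · intro i
    exact step.injective_cocone_X _ i (i - 1) (by lia)
      (injective_single_X n₀ (ι.obj Y') (i - 1)) (F.inj i)
  · intro i
    exact step.prop_cocone_X _ i (i - 1) (by lia) ι.essImage hext
      (ess_single_X ι n₀ Y' (i - 1)) (F.ess i)
  · intro i hi
    exact step.quasiIsoAt_f'.{w} F.f n₀ φ hφ F.qi i (by lia)
  · exact step.mono_homologyMap_f' F.f n₀ φ hφ (F.L.isZero_of_isStrictlyLE n₀ (n₀ + 1))

section Seq

variable
    (hext : ∀ S : ShortComplex A, S.ShortExact → ι.essImage S.X₁ → ι.essImage S.X₃ → ι.essImage S.X₂)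
    (hinj : ∀ X' : A', ∃ (Y' : A') (i : X' ⟶ Y'), Mono i ∧ Injective (ι.obj Y'))
    (hK : ∀ i, ι.essImage (K.homology i))

/-- The initial stage -/
noncomputable def Stage.zero [K.IsStrictlyGE a] : Stage ι K a (a - 1 + (0 : ℕ)) where
  L := HomologicalComplex.zero
  f := 0
  ge := by rw [isStrictlyGE_iff]; intro i hi; exact isZero_zero A
  le := by rw [isStrictlyLE_iff]; intro i hi; exact isZero_zero A
  inj i := (isZero_zero A).injective
  ess i := ess_of_isZero ι (isZero_zero A)
  qi i hi := by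
    rw [quasiIsoAt_iff_isIso_homologyMap]
    apply IsZero.isIso
    · exact (K.exactAt_of_isGE a i (by simp at hi; lia)).isZero_homology
    · exact ShortComplex.isZero_homology_of_isZero_X₂ _ (isZero_zero A)
  mono := ((K.exactAt_of_isGE a _ (by simp)).isZero_homology).mono _

variable {ι K a}

/-- next stage -/
noncomputable def Stage.next {n₀ : ℤ} (F : Stage ι K a n₀) (n₁ : ℤ) (hn₁ : n₀ + 1 = n₁)
    (ha : a ≤ n₁) : Stage ι K a n₁ :=
  (F.exists_next hext hinj hK n₁ hn₁ ha).choose

/-- the transition map -/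
noncomputable def Stage.fromNext {n₀ : ℤ} (F : Stage ι K a n₀) (n₁ : ℤ) (hn₁ : n₀ + 1 = n₁)
    (ha : a ≤ n₁) : (F.next hext hinj hK n₁ hn₁ ha).L ⟶ F.L :=
  (F.exists_next hext hinj hK n₁ hn₁ ha).choose_spec.choose

lemma Stage.next_fac {n₀ : ℤ} (F : Stage ι K a n₀) (n₁ : ℤ) (hn₁ : n₀ + 1 = n₁)
    (ha : a ≤ n₁) :
    (F.next hext hinj hK n₁ hn₁ ha).f ≫ F.fromNext hext hinj hK n₁ hn₁ ha = F.f :=
  (F.exists_next hext hinj hK n₁ hn₁ ha).choose_spec.choose_spec.1

lemma Stage.isIso_fromNext_f {n₀ : ℤ} (F : Stage ι K a n₀) (n₁ : ℤ) (hn₁ : n₀ + 1 = n₁)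
    (ha : a ≤ n₁) (i : ℤ) (hi : i ≤ n₀) :
    IsIso ((F.fromNext hext hinj hK n₁ hn₁ ha).f i) :=
  (F.exists_next hext hinj hK n₁ hn₁ ha).choose_spec.choose_spec.2 i hi

variable (ι K a) [K.IsStrictlyGE a]

/-- the sequence of stages -/
noncomputable def sequence : ∀ (q : ℕ), Stage ι K a (a - 1 + q)
  | 0 => Stage.zero ι K a
  | q + 1 => (sequence q).next hext hinj hK _ (by push_cast; ring) (by lia)

/-- the sequence of objects under `K` -/
noncomputable def U (q : ℕ) : Under K := Under.mk (sequence ι K a hext hinj hK q).f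

/-- the transition maps -/
noncomputable def toNext (q : ℕ) : U ι K a hext hinj hK (q + 1) ⟶ U ι K a hext hinj hK q :=
  Under.homMk ((sequence ι K a hext hinj hK q).fromNext hext hinj hK _ (by push_cast; ring) (by lia))
    ((sequence ι K a hext hinj hK q).next_fac hext hinj hK _ _ _)

/-- the tower -/
noncomputable def functor : ℕᵒᵖ ⥤ Under K :=
  (Functor.ofSequence (fun q ↦ (toNext ι K a hext hinj hK q).op)).leftOp

lemma isIso_functor_map_f {q₁ q₂ : ℕ} (hq : q₁ ≤ q₂) (i : ℤ) (hi : i ≤ a - 1 + q₁) :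
    IsIso (((functor ι K a hext hinj hK).map (homOfLE hq).op).right.f i) := by
  wlog hq' : q₁ + 1 = q₂ generalizing q₁ q₂
  · clear hq'
    obtain ⟨k, hk⟩ := Nat.le.dest hq
    induction k generalizing q₁ q₂ with
    | zero =>
      obtain rfl : q₁ = q₂ := by simpa using hk
      simp only [homOfLE_refl, op_id, CategoryTheory.Functor.map_id, Under.id_right, id_f]
      infer_instance
    | succ k h =>
      rw [← homOfLE_comp (show q₁ ≤ q₁ + k by lia) (show q₁ + k ≤ q₂ by lia),
        op_comp, Functor.map_comp]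
      exact IsIso.comp_isIso' (this _ (by lia) (by lia)) (h _ (by lia) rfl)
  subst hq'
  dsimp [functor]
  rw [Functor.ofSequence_map_homOfLE_succ]
  exact Stage.isIso_fromNext_f hext hinj hK _ _ _ _ _ hi

/-- the tower of complexes -/
noncomputable abbrev cochainComplexFunctor : ℕᵒᵖ ⥤ CochainComplex A ℤ :=
  functor ι K a hext hinj hK ⋙ Under.forget K

lemma isEventuallyConstantTo (i : ℤ) (q : ℕ) (h : i ≤ a - 1 + q) :
    (cochainComplexFunctor ι K a hext hinj hK ⋙
      HomologicalComplex.eval _ _ i).IsEventuallyConstantTo (Opposite.op q) :=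
  fun _ _ ↦ isIso_functor_map_f _ _ _ _ _ _ _ _ (by lia)

instance (i : ℤ) : HasLimit (cochainComplexFunctor ι K a hext hinj hK ⋙
    HomologicalComplex.eval _ _ i) :=
  (isEventuallyConstantTo ι K a hext hinj hK i (a - 1 - i).natAbs (by lia)).hasLimit

/-- the limit complex -/
noncomputable abbrev mid : CochainComplex A ℤ := limit (cochainComplexFunctor ι K a hext hinj hK)

/-- the projections -/
noncomputable def midπ (q : ℕ) : mid ι K a hext hinj hK ⟶ (sequence ι K a hext hinj hK q).L :=
  limit.π (cochainComplexFunctor ι K a hext hinj hK) (Opposite.op q)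

lemma isIso_midπ_f (q : ℕ) (i : ℤ) (h : i ≤ a - 1 + q) :
    IsIso ((midπ ι K a hext hinj hK q).f i) :=
  isIso_π_f_of_isLimit_of_isEventuallyConstantTo _ (limit.isLimit _) _ _
    (isEventuallyConstantTo ι K a hext hinj hK _ _ h)

lemma quasiIsoAt_midπ (q : ℕ) (i : ℤ) (h : i + 1 ≤ a - 1 + q) :
    QuasiIsoAt (midπ ι K a hext hinj hK q) i :=
  quasiIsoAt_π_of_isLimit_of_isEventuallyConstantTo _ (limit.isLimit _)
    (i - 1) i (i + 1) (by simp) (by simp) _
    (isEventuallyConstantTo ι K a hext hinj hK _ _ (by lia))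
    (isEventuallyConstantTo ι K a hext hinj hK _ _ (by lia))
    (isEventuallyConstantTo ι K a hext hinj hK _ _ (by lia))

/-- the map to the limit -/
noncomputable def toMid : K ⟶ mid ι K a hext hinj hK :=
  limit.lift (cochainComplexFunctor ι K a hext hinj hK) (Cone.mk K
    { app := fun q => ((functor ι K a hext hinj hK).obj q).hom
      naturality := fun q₁ q₂ g => by
        have := Under.w ((functor ι K a hext hinj hK).map g)
        dsimp at this ⊢
        rw [Category.id_comp, this] })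

@[reassoc (attr := simp)]
lemma toMid_midπ (q : ℕ) :
    toMid ι K a hext hinj hK ≫ midπ ι K a hext hinj hK q = (sequence ι K a hext hinj hK q).f :=
  limit.lift_π _ _

instance : (mid ι K a hext hinj hK).IsStrictlyGE a := by
  rw [isStrictlyGE_iff]
  intro i hi
  have := isIso_midπ_f ι K a hext hinj hK 0 i (by simp; lia)
  have := (sequence ι K a hext hinj hK 0).ge
  exact ((sequence ι K a hext hinj hK 0).L.isZero_of_isStrictlyGE a i).of_iso
    (asIso ((midπ ι K a hext hinj hK 0).f i))

lemma injective_mid_X (i : ℤ) : Injective ((mid ι K a hext hinj hK).X i) := by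
  have := isIso_midπ_f ι K a hext hinj hK (i - a + 1).toNat i (by lia)
  exact Injective.of_iso (asIso ((midπ ι K a hext hinj hK (i - a + 1).toNat).f i)).symm
    ((sequence ι K a hext hinj hK _).inj i)

lemma ess_mid_X (i : ℤ) : ι.essImage ((mid ι K a hext hinj hK).X i) := by
  have := isIso_midπ_f ι K a hext hinj hK (i - a + 1).toNat i (by lia)
  exact Functor.essImage.ofIso (asIso ((midπ ι K a hext hinj hK (i - a + 1).toNat).f i)).symm
    ((sequence ι K a hext hinj hK _).ess i)

instance : QuasiIso (toMid ι K a hext hinj hK) where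
  quasiIsoAt i := by
    obtain ⟨q, hq⟩ : ∃ (q : ℕ), i + 1 ≤ a - 1 + q := ⟨(i + 1 - (a - 1)).toNat, by lia⟩
    have := quasiIsoAt_midπ ι K a hext hinj hK q i hq
    rw [← quasiIsoAt_iff_comp_right _ (midπ ι K a hext hinj hK q), toMid_midπ]
    exact (sequence ι K a hext hinj hK q).qi i (by lia)

end Seq

end Tower


section Final

open HomologicalComplex CochainComplex

variable {A' : Type u'} [Category.{v'} A'] [Abelian A'] {A : Type u} [Category.{v} A] [Abelian A]
  (ι : A' ⥤ A) [ι.Additive] [ι.Full] [ι.Faithful]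

lemma exists_complex_of_ess (L : CochainComplex A ℤ) (hL : ∀ i, ι.essImage (L.X i)) :
    ∃ (I : CochainComplex A' ℤ),
      Nonempty ((ι.mapHomologicalComplex (ComplexShape.up ℤ)).obj I ≅ L) := by
  choose Y e using hL
  let e' : ∀ i, ι.obj (Y i) ≅ L.X i := fun i => (e i).some
  let I : CochainComplex A' ℤ :=
    { X := Y
      d := fun i j => ι.preimage ((e' i).hom ≫ L.d i j ≫ (e' j).inv)
      shape := fun i j h => by
        apply ι.map_injective
        simp [L.shape i j h]
      d_comp_d' := fun i j k _ _ => by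
        apply ι.map_injective
        simp }
  exact ⟨I, ⟨HomologicalComplex.Hom.isoOfComponents (fun i => e' i) (by
    intro i j _
    show (e' i).hom ≫ L.d i j = ι.map (ι.preimage ((e' i).hom ≫ L.d i j ≫ (e' j).inv)) ≫ (e' j).hom
    rw [ι.map_preimage, Category.assoc, Category.assoc, Iso.inv_hom_id, Category.comp_id])⟩⟩

omit [ι.Additive] [ι.Full] in
lemma isZero_of_faithful {X : A'} (h : IsZero (ι.obj X)) : IsZero X := by
  rw [IsZero.iff_id_eq_zero]
  apply ι.map_injective
  exact h.eq_of_src _ _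

end Final


/-- Let ι : A' ⥤ A be an exact fully faithful functor of abelian categories whose essential image is
closed under extensions, and suppose every object of A' admits a monomorphism into an object of A'
whose image in A is injective. Then every object Z of D(A) with H^i(Z) = 0 for i < a and all
cohomology objects in the essential image of ι is isomorphic to the image under D(A') ⥤ D(A) of a
complex I of objects of A', zero in degrees < a, whose terms are injective in A. -/
theorem result {A' : Type u'} [Category.{v'} A'] [Abelian A'] [HasDerivedCategory.{w'} A']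
    {A : Type u} [Category.{v} A] [Abelian A] [HasDerivedCategory.{w} A]
    (ι : A' ⥤ A) [ι.Additive] [PreservesFiniteLimits ι] [PreservesFiniteColimits ι] [ι.Full] [ι.Faithful]
    (hext : ∀ S : ShortComplex A, S.ShortExact → ι.essImage S.X₁ → ι.essImage S.X₃ → ι.essImage S.X₂)
    (hinj : ∀ X' : A', ∃ (Y' : A') (i : X' ⟶ Y'), Mono i ∧ Injective (ι.obj Y'))
    (Z : DerivedCategory A) (a : ℤ) [Z.IsGE a]
    (hZ : ∀ i : ℤ, ι.essImage ((DerivedCategory.homologyFunctor A i).obj Z)) :
    ∃ (I : CochainComplex A' ℤ), I.IsStrictlyGE a ∧ (∀ n : ℤ, Injective (ι.obj (I.X n))) ∧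
      Nonempty (ι.mapDerivedCategory.obj (DerivedCategory.Q.obj I) ≅ Z) := by
  obtain ⟨K, hKa, ⟨eZ⟩⟩ := DerivedCategory.exists_iso_Q_obj_of_isGE Z a
  have hK : ∀ i, ι.essImage (K.homology i) := fun i =>
    Functor.essImage.ofIso ((DerivedCategory.homologyFunctor A i).mapIso eZ ≪≫
      (DerivedCategory.homologyFunctorFactors A i).app K) (hZ i)
  let L := mid.{w} ι K a hext hinj hK
  let f : K ⟶ L := toMid.{w} ι K a hext hinj hK
  have hf : QuasiIso f := inferInstance
  have hLa : L.IsStrictlyGE a := inferInstance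
  obtain ⟨I, ⟨e⟩⟩ := exists_complex_of_ess ι L (ess_mid_X.{w} ι K a hext hinj hK)
  refine ⟨I, ?_, ?_, ⟨?_⟩⟩
  · rw [CochainComplex.isStrictlyGE_iff]
    intro i hi
    apply isZero_of_faithful ι
    exact (L.isZero_of_isStrictlyGE a i hi).of_iso
      ((HomologicalComplex.eval A (ComplexShape.up ℤ) i).mapIso e)
  · intro n
    exact Injective.of_iso ((HomologicalComplex.eval A (ComplexShape.up ℤ) n).mapIso e).symm
      (injective_mid_X.{w} ι K a hext hinj hK n)
  · exact (ι.mapDerivedCategoryFactors).app I ≪≫ DerivedCategory.Q.mapIso e ≪≫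
      (asIso (DerivedCategory.Q.map f)).symm ≪≫ eZ.symm

end Groth.Agent.S11161
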