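import Groth.Statements.S1050
import Groth.Agent.S11161
import Mathlib

set_option autoImplicit false
set_option linter.unusedSectionVars false
universe w w' v u
universe v' u'
open CategoryTheory CategoryTheory.Limits
open CohDer

namespace Groth.Agent.S1050

open Groth.Agent.S11161

section DStep

open HomologicalComplex CochainComplex HomComplex

variable {A : Type u} [Category.{v} A] [Abelian A]
  {L K : CochainComplex A ℤ} (f : L ⟶ K) (n : ℤ) {X' : A} (ψ : X' ⟶ (mappingCocone f).cycles n)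

namespace dstep

/-- The single complex -/
noncomputable abbrev S (n : ℤ) (X' : A) : CochainComplex A ℤ := (single A (.up ℤ) n).obj X'

/-- the map from the single complex to the cocone -/
noncomputable def s : S n X' ⟶ mappingCocone f :=
  mkHomFromSingle (ψ ≫ (mappingCocone f).iCycles n) (by
    intro j hj
    simp)

lemma s_f : (s f n ψ).f n =
    (singleObjXSelf (.up ℤ) n X').hom ≫ ψ ≫ (mappingCocone f).iCycles n := by
  simp [s]

/-- the map from the single complex to `L` -/
noncomputable def σ : S n X' ⟶ L := s f n ψ ≫ mappingCocone.fst f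

lemma δ_snd {K L : CochainComplex A ℤ} (φ : K ⟶ L) :
    δ (-1) 0 (mappingCocone.snd φ) = -Cochain.ofHom (mappingCocone.fst φ ≫ φ) := by
  ext p
  rw [δ_v (-1) 0 (neg_add_cancel 1) _ p p (add_zero p) (p - 1) (p + 1) rfl rfl,
    step.cocone_d_snd_v φ p (p + 1) rfl (p - 1) (by lia)]
  simp

/-- the cochain -/
noncomputable def γ : Cochain (S n X') K (-1) :=
  (Cochain.ofHom (s f n ψ)).comp (mappingCocone.snd f) (zero_add _)

lemma hγ : δ (-1) 0 (-(γ f n ψ)) = Cochain.ofHom (σ f n ψ ≫ f) := by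
  rw [δ_neg, γ, δ_ofHom_comp, δ_snd, σ]
  simp [Cochain.ofHom_comp]

/-- The new complex. -/
noncomputable abbrev mid : CochainComplex A ℤ := mappingCone (σ f n ψ)

/-- The new map. -/
noncomputable def f' : mid f n ψ ⟶ K :=
  mappingCone.desc (σ f n ψ) (-(γ f n ψ)) f (hγ f n ψ)

/-- The inclusion. -/
noncomputable abbrev ι' : L ⟶ mid f n ψ := mappingCone.inr (σ f n ψ)

@[reassoc (attr := simp)]
lemma ι'_f' : ι' f n ψ ≫ f' f n ψ = f := by simp [f', ι']

lemma isIso_ι'_f (i : ℤ) (hi : n ≤ i) : IsIso ((ι' f n ψ).f i) := by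
  refine ⟨(mappingCone.snd (σ f n ψ)).v i i (add_zero i), by simp, ?_⟩
  rw [← mappingCone.id_X (σ f n ψ) i (i + 1) rfl,
    (isZero_single_obj_X (.up ℤ) n X' (i + 1) (by lia)).eq_of_tgt
      ((mappingCone.fst (σ f n ψ)).1.v i (i + 1) rfl) 0]
  simp

section

variable [HasDerivedCategory.{w} A]

lemma mono_homologyMap_ι' (q : ℤ) (hq : n < q) : Mono (homologyMap (ι' f n ψ) q) :=
  (CochainComplex.homologyMap_exact₂_of_distTriang _
    (DerivedCategory.mappingCone_triangle_distinguished (σ f n ψ)) q).mono_g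
      ((ExactAt.isZero_homology (exactAt_single_obj _ _ _ _ (by lia))).eq_of_src _ _)

lemma epi_homologyMap_ι' (q : ℤ) (hq : n ≤ q) : Epi (homologyMap (ι' f n ψ) q) :=
  (CochainComplex.homologyMap_exact₃_of_distTriang _
    (DerivedCategory.mappingCone_triangle_distinguished (σ f n ψ)) q (q + 1) rfl).epi_f
      ((ExactAt.isZero_homology (exactAt_single_obj _ _ _ _ (by lia))).eq_of_tgt _ _)

lemma quasiIsoAt_ι' (q : ℤ) (hq : n < q) : QuasiIsoAt (ι' f n ψ) q := by
  have := mono_homologyMap_ι'.{w} f n ψ q hq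
  have := epi_homologyMap_ι'.{w} f n ψ q (by lia)
  rw [quasiIsoAt_iff_isIso_homologyMap]
  apply Balanced.isIso_of_mono_of_epi

end

lemma epi_homologyMap_s (hψ : Epi (ψ ≫ (mappingCocone f).homologyπ n)) :
    Epi (homologyMap (s f n ψ) n) := by
  have h1 : (S n X').homologyπ n ≫ homologyMap (s f n ψ) n =
      cyclesMap (s f n ψ) n ≫ (mappingCocone f).homologyπ n := homologyπ_naturality _ _
  have h2 : cyclesMap (s f n ψ) n =
      (S n X').iCycles n ≫ (singleObjXSelf (.up ℤ) n X').hom ≫ ψ := by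
    rw [← cancel_mono ((mappingCocone f).iCycles n), cyclesMap_i, s_f]
    simp
  have : IsIso ((S n X').iCycles n) := (S n X').isIso_iCycles n (n + 1) (by simp) (by simp)
  have : Epi ((S n X').homologyπ n ≫ homologyMap (s f n ψ) n) := by
    rw [h1, h2, Category.assoc, Category.assoc]
    infer_instance
  exact epi_of_epi ((S n X').homologyπ n) _

section

variable [HasDerivedCategory.{w} A]

lemma homologyMap_fst_f : homologyMap (mappingCocone.fst f) n ≫ homologyMap f n = 0 :=
  CochainComplex.homologyMap_comp_eq_zero_of_distTriang (mappingCocone.triangle f)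
    (DerivedCategory.mappingCocone_triangle_distinguished f) n

lemma exact_fst_f : (ShortComplex.mk (homologyMap (mappingCocone.fst f) n) (homologyMap f n)
    (homologyMap_fst_f.{w} f n)).Exact :=
  CochainComplex.homologyMap_exact₂_of_distTriang (mappingCocone.triangle f)
    (DerivedCategory.mappingCocone_triangle_distinguished f) n

lemma homologyMap_σ_f : homologyMap (σ f n ψ) n ≫ homologyMap f n = 0 := by
  rw [σ, homologyMap_comp, Category.assoc, homologyMap_fst_f.{w} f n, comp_zero]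

lemma exact_σ_f (hψ : Epi (ψ ≫ (mappingCocone f).homologyπ n)) :
    (ShortComplex.mk (homologyMap (σ f n ψ) n) (homologyMap f n)
      (homologyMap_σ_f.{w} f n ψ)).Exact := by
  let ψ' : ShortComplex.mk (homologyMap (σ f n ψ) n) (homologyMap f n)
      (homologyMap_σ_f.{w} f n ψ) ⟶
      ShortComplex.mk (homologyMap (mappingCocone.fst f) n) (homologyMap f n)
        (homologyMap_fst_f.{w} f n) :=
    { τ₁ := homologyMap (s f n ψ) n
      τ₂ := 𝟙 _
      τ₃ := 𝟙 _
      comm₁₂ := by
        dsimp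
        rw [Category.comp_id, ← homologyMap_comp, σ] }
  have := epi_homologyMap_s f n ψ hψ
  obtain ⟨_, _, _⟩ : Mono ψ'.τ₃ ∧ IsIso ψ'.τ₂ ∧ Epi ψ'.τ₁ := by
    dsimp [ψ']
    exact ⟨inferInstance, inferInstance, inferInstance⟩
  rw [ShortComplex.exact_iff_of_epi_of_isIso_of_mono ψ']
  exact exact_fst_f.{w} f n

lemma homologyMap_σ_ι' : homologyMap (σ f n ψ) n ≫ homologyMap (ι' f n ψ) n = 0 :=
  CochainComplex.homologyMap_comp_eq_zero_of_distTriang (mappingCone.triangle (σ f n ψ))
    (DerivedCategory.mappingCone_triangle_distinguished (σ f n ψ)) n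

lemma exact_σ_ι' : (ShortComplex.mk (homologyMap (σ f n ψ) n) (homologyMap (ι' f n ψ) n)
    (homologyMap_σ_ι'.{w} f n ψ)).Exact :=
  CochainComplex.homologyMap_exact₂_of_distTriang (mappingCone.triangle (σ f n ψ))
    (DerivedCategory.mappingCone_triangle_distinguished (σ f n ψ)) n

lemma quasiIsoAt_f'_n (hψ : Epi (ψ ≫ (mappingCocone f).homologyπ n)) [Epi (homologyMap f n)] :
    QuasiIsoAt (f' f n ψ) n := by
  have := epi_homologyMap_ι'.{w} f n ψ n le_rfl
  have h₁ : IsColimit (CokernelCofork.ofπ (homologyMap f n) (homologyMap_σ_f.{w} f n ψ)) :=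
    (exact_σ_f.{w} f n ψ hψ).gIsCokernel
  have h₂ : IsColimit (CokernelCofork.ofπ (homologyMap (ι' f n ψ) n)
      (homologyMap_σ_ι'.{w} f n ψ)) :=
    (exact_σ_ι'.{w} f n ψ).gIsCokernel
  have e : homologyMap (ι' f n ψ) n ≫ (h₂.coconePointUniqueUpToIso h₁).hom = homologyMap f n :=
    IsColimit.comp_coconePointUniqueUpToIso_hom h₂ h₁ WalkingParallelPair.one
  have : homologyMap (f' f n ψ) n = (h₂.coconePointUniqueUpToIso h₁).hom := by
    rw [← cancel_epi (homologyMap (ι' f n ψ) n), e, ← homologyMap_comp, ι'_f']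
  rw [quasiIsoAt_iff_isIso_homologyMap, this]
  infer_instance

lemma quasiIsoAt_f' (hψ : Epi (ψ ≫ (mappingCocone f).homologyπ n)) [Epi (homologyMap f n)]
    (hf : ∀ i, n < i → QuasiIsoAt f i) (q : ℤ) (hq : n ≤ q) :
    QuasiIsoAt (f' f n ψ) q := by
  obtain hq | rfl := hq.lt_or_eq
  · have := quasiIsoAt_ι'.{w} f n ψ q hq
    rw [← quasiIsoAt_iff_comp_left (ι' f n ψ) (f' f n ψ), ι'_f']
    exact hf q hq
  · exact quasiIsoAt_f'_n.{w} f _ ψ hψ

end

lemma inr_v_d {K L : CochainComplex A ℤ} (φ : K ⟶ L) (p q q' p' : ℤ) (hpq : p + 1 = q)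
    (hq : q + 1 = q') (hp : p + 1 = p') :
    (mappingCocone.inr φ).1.v p q hpq ≫ (mappingCocone φ).d q q' =
      -L.d p p' ≫ (mappingCocone.inr φ).1.v p' q' (by lia) := by
  have h := Cochain.congr_v (Cocycle.δ_eq_zero (mappingCocone.inr φ) 2) p q' (by lia)
  rw [δ_v 1 2 rfl _ p q' (by lia) q p' (by lia) (by lia)] at h
  simp only [Int.negOnePow_even 2 ⟨1, rfl⟩, one_smul, Cochain.zero_v] at h
  rw [← add_eq_zero_iff_eq_neg]
  exact h

lemma epi_homologyMap_f' (hψ : Epi (ψ ≫ (mappingCocone f).homologyπ n))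
    (hL : IsZero (L.X (n - 1))) :
    Epi (homologyMap (f' f n ψ) (n - 1)) := by
  rw [epi_homologyMap_iff_up_to_refinements _ (n - 2) (n - 1) n (by simp; lia) (by simp)]
  intro B y hy
  let c : B ⟶ (mappingCocone f).X n := y ≫ (mappingCocone.inr f).1.v (n - 1) n (by lia)
  have hc : c ≫ (mappingCocone f).d n (n + 1) = 0 := by
    simp only [c, Category.assoc]
    rw [inr_v_d f (n - 1) n (n + 1) n (by lia) rfl (by lia)]
    simp [reassoc_of% hy]
  obtain ⟨B₁, π₁, hπ₁, x', hx'⟩ :=
    surjective_up_to_refinements_of_epi (ψ ≫ (mappingCocone f).homologyπ n)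
      ((mappingCocone f).liftCycles c (n + 1) (by simp) hc ≫ (mappingCocone f).homologyπ n)
  rw [← Category.assoc, ← Category.assoc x' ψ,
    comp_homologyπ_eq_iff_up_to_refinements _ (n - 1) n (by simp)] at hx'
  obtain ⟨B₂, π₂, hπ₂, c₀, hc₀⟩ := hx'
  have h0 := hc₀ =≫ (mappingCocone f).iCycles n
  simp only [Category.assoc, Preadditive.add_comp, liftCycles_i, toCycles_i] at h0
  have hfst0 : (mappingCocone.fst f).f (n - 1) = 0 := hL.eq_of_tgt _ _
  have hd : (mappingCocone f).d (n - 1) n ≫ (mappingCocone.fst f).f n = 0 := by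
    rw [← HomologicalComplex.Hom.comm, hfst0, zero_comp]
  have h1 := h0 =≫ (mappingCocone.fst f).f n
  simp only [c, Category.assoc, Preadditive.add_comp, mappingCocone.inr_v_fst_f, comp_zero,
    hd, add_zero] at h1
  have h2 := h0 =≫ (mappingCocone.snd f).v n (n - 1) (by lia)
  simp only [c, Category.assoc, Preadditive.add_comp, mappingCocone.inr_v_snd_v, Category.comp_id,
    step.cocone_d_snd_v f (n - 1) n (by lia) (n - 2) (by lia), hfst0, zero_comp, neg_zero,
    zero_sub, Preadditive.comp_neg] at h2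
  have key : (singleObjXSelf (.up ℤ) n X').inv ≫ (σ f n ψ).f n =
      ψ ≫ (mappingCocone f).iCycles n ≫ (mappingCocone.fst f).f n := by
    rw [σ, HomologicalComplex.comp_f, s_f]
    simp
  let x : B₂ ⟶ (mid f n ψ).X (n - 1) :=
    π₂ ≫ x' ≫ (singleObjXSelf (.up ℤ) n X').inv ≫ (mappingCone.inl (σ f n ψ)).v n (n - 1) (by lia)
  have hx : x ≫ (mid f n ψ).d (n - 1) n = 0 := by
    simp only [x, Category.assoc]
    rw [mappingCone.inl_v_d (σ f n ψ) n (n - 1) (n + 1) (by lia) (by lia)]
    have hSd : (S n X').d n (n + 1) = 0 := by simp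
    rw [hSd, zero_comp, sub_zero, reassoc_of% key, ← reassoc_of% h1, zero_comp]
  have hxf : x ≫ (f' f n ψ).f (n - 1) =
      -(π₂ ≫ x' ≫ ψ ≫ (mappingCocone f).iCycles n ≫ (mappingCocone.snd f).v n (n - 1) (by lia)) := by
    simp only [x, Category.assoc, f']
    rw [mappingCone.inl_v_desc_f]
    simp [γ, s_f]
  refine ⟨B₂, π₂ ≫ π₁, inferInstance, -x, by rw [Preadditive.neg_comp, hx, neg_zero],
    -c₀ ≫ (mappingCocone.snd f).v (n - 1) (n - 2) (by lia), ?_⟩
  rw [Category.assoc, h2, Preadditive.neg_comp, hxf, neg_neg, Preadditive.neg_comp, Category.assoc]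

/-- the degreewise splitting of the mapping cone -/
noncomputable def coneSplitting {F G : CochainComplex A ℤ} (φ : F ⟶ G) (i j : ℤ)
    (hij : i + 1 = j) :
    (ShortComplex.mk ((mappingCone.inr φ).f i) ((mappingCone.fst φ).1.v i j hij)
      (by simp)).Splitting where
  r := (mappingCone.snd φ).v i i (add_zero i)
  s := (mappingCone.inl φ).v j i (by lia)
  f_r := by simp
  s_g := by simp
  id := (add_comm _ _).trans (by simp [mappingCone.id_X φ i j hij])

lemma isZero_cone_X {F G : CochainComplex A ℤ} (φ : F ⟶ G) (i j : ℤ) (hij : i + 1 = j)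
    (h₁ : IsZero (G.X i)) (h₂ : IsZero (F.X j)) : IsZero ((mappingCone φ).X i) := by
  rw [IsZero.iff_id_eq_zero, ← mappingCone.id_X φ i j hij,
    h₂.eq_of_tgt ((mappingCone.fst φ).1.v i j hij) 0,
    h₁.eq_of_tgt ((mappingCone.snd φ).v i i (add_zero i)) 0]
  simp

lemma prop_cone_X {F G : CochainComplex A ℤ} (φ : F ⟶ G) (i j : ℤ) (hij : i + 1 = j)
    (P : ObjectProperty A) [P.IsClosedUnderExtensions]
    (h₁ : P (G.X i)) (h₂ : P (F.X j)) : P ((mappingCone φ).X i) :=
  P.prop_X₂_of_shortExact (coneSplitting φ i j hij).shortExact h₁ h₂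

end dstep

end DStep



section ColimLemmas

variable {C J ι : Type*} [Category C] [Category J]
  {c : ComplexShape ι} [IsFiltered J]
  [HasZeroMorphisms C] (F : J ⥤ HomologicalComplex C c)
  [∀ (j : ι), HasColimit (F ⋙ HomologicalComplex.eval C c j)]
  {cF : Cocone F} (hcF : IsColimit cF)

include hcF

lemma isIso_ι_f_of_isColimit_of_isEventuallyConstantFrom
    (q : ι) (j : J) (hq : (F ⋙ HomologicalComplex.eval C c q).IsEventuallyConstantFrom j) :
    IsIso ((cF.ι.app j).f q) :=
  hq.isIso_ι_of_isColimit (isColimitOfPreserves (HomologicalComplex.eval C c q) hcF)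

lemma quasiIsoAt_ι_of_isColimit_of_isEventuallyConstantFrom
    [CategoryWithHomology C] (q₀ q₁ q₂ : ι)
    (h₀ : c.prev q₁ = q₀) (h₂ : c.next q₁ = q₂) (j : J)
    (hq₀ : (F ⋙ HomologicalComplex.eval C c q₀).IsEventuallyConstantFrom j)
    (hq₁ : (F ⋙ HomologicalComplex.eval C c q₁).IsEventuallyConstantFrom j)
    (hq₂ : (F ⋙ HomologicalComplex.eval C c q₂).IsEventuallyConstantFrom j) :
    QuasiIsoAt (cF.ι.app j) q₁ := by
  rw [quasiIsoAt_iff' _ q₀ q₁ q₂ h₀ h₂]
  let φ := (HomologicalComplex.shortComplexFunctor' C c q₀ q₁ q₂).map (cF.ι.app j)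
  have : IsIso φ.τ₁ := isIso_ι_f_of_isColimit_of_isEventuallyConstantFrom F hcF _ _ hq₀
  have : IsIso φ.τ₂ := isIso_ι_f_of_isColimit_of_isEventuallyConstantFrom F hcF _ _ hq₁
  have : IsIso φ.τ₃ := isIso_ι_f_of_isColimit_of_isEventuallyConstantFrom F hcF _ _ hq₂
  apply ShortComplex.quasiIso_of_epi_of_isIso_of_mono

end ColimLemmas


section Reflect

open HomologicalComplex

variable {B : Type u'} [Category.{v'} B] [Abelian B] {A : Type u} [Category.{v} A] [Abelian A]
  (ι : B ⥤ A) [ι.Additive] [ι.Full] [ι.Faithful]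

lemma exists_preimage_chainMap {I J : CochainComplex B ℤ}
    (g : (ι.mapHomologicalComplex (ComplexShape.up ℤ)).obj I ⟶
      (ι.mapHomologicalComplex (ComplexShape.up ℤ)).obj J) :
    ∃ g' : I ⟶ J, (ι.mapHomologicalComplex (ComplexShape.up ℤ)).map g' = g := by
  refine ⟨{ f := fun i => ι.preimage (g.f i)
            comm' := fun i j _ => ?_ }, ?_⟩
  · apply ι.map_injective
    have := g.comm i j
    simp only [Functor.map_comp, Functor.map_preimage]
    exact this
  · ext i
    simp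

/-- reflecting homotopies along a fully faithful functor -/
noncomputable def homotopyOfMap {I J : CochainComplex B ℤ} (f g : I ⟶ J)
    (h : Homotopy ((ι.mapHomologicalComplex (ComplexShape.up ℤ)).map f)
      ((ι.mapHomologicalComplex (ComplexShape.up ℤ)).map g)) : Homotopy f g where
  hom i j := ι.preimage (h.hom i j)
  zero i j hij := ι.map_injective (by
    rw [ι.map_preimage, h.zero i j hij, ι.map_zero]
    rfl)
  comm i := ι.map_injective (by
    have := h.comm i
    simp only [Functor.mapHomologicalComplex_map_f] at this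
    rw [this]
    simp [dNext, prevD]
    rfl)

end Reflect


section QZero

open DerivedCategory

variable {A : Type u} [Category.{v} A] [Abelian A] [HasDerivedCategory.{w} A]

lemma exists_homotopy_of_Q_map_eq_zero {Y Z : CochainComplex A ℤ} (h : Y ⟶ Z)
    (hh : DerivedCategory.Q.map h = 0) :
    ∃ (X : CochainComplex A ℤ) (t : X ⟶ Y), QuasiIso t ∧ Nonempty (Homotopy (t ≫ h) 0) := by
  have h1 : Qh.map ((HomotopyCategory.quotient _ _).map h) =
      Qh.map (0 : (HomotopyCategory.quotient _ _).obj Y ⟶ (HomotopyCategory.quotient _ _).obj Z) := by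
    rw [Functor.map_zero, ← cancel_mono ((quotientCompQhIso A).hom.app Z),
      quotientCompQhIso_hom_naturality, hh]
    simp
  rw [MorphismProperty.map_eq_iff_precomp Qh (HomotopyCategory.quasiIso A (.up ℤ))] at h1
  obtain ⟨X', t', ht', eq⟩ := h1
  obtain ⟨X, rfl⟩ := HomotopyCategory.quotient_obj_surjective X'
  obtain ⟨t, rfl⟩ := (HomotopyCategory.quotient _ _).map_surjective t'
  refine ⟨X, t, ?_, ⟨HomotopyCategory.homotopyOfEq _ _ ?_⟩⟩
  · rwa [HomotopyCategory.quotient_map_mem_quasiIso_iff,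
      HomologicalComplex.mem_quasiIso_iff] at ht'
  · rw [Functor.map_comp, eq]
    simp

end QZero

section DTower

open HomologicalComplex CochainComplex HomComplex ZeroObject

variable {A : Type u} [Category.{v} A] [Abelian A] (P : ObjectProperty A) [P.IsSerreClass]
  (K : CochainComplex A ℤ) (b : ℤ)

/-- A stage of the construction -/
structure DStage (n : ℤ) where
  /-- the complex -/
  L : CochainComplex A ℤ
  /-- the map -/
  f : L ⟶ K
  le : L.IsStrictlyLE b
  ge : L.IsStrictlyGE n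
  prop : ∀ i, P (L.X i)
  qi : ∀ i, n < i → QuasiIsoAt f i
  epi : Epi (homologyMap f n)

lemma prop_single_X (n : ℤ) (X' : A) (hX' : P X') (i : ℤ) : P ((dstep.S n X').X i) := by
  by_cases hi : i = n
  · subst hi
    exact P.prop_of_iso (singleObjXSelf (.up ℤ) i X').symm hX'
  · exact P.prop_of_isZero (isZero_single_obj_X (.up ℤ) _ _ _ hi)

variable [HasDerivedCategory.{w} A]

variable {P K b} in
lemma DStage.exists_next
    (hlift : ∀ (X Y : A) (π : X ⟶ Y), Epi π → P Y →
      ∃ (X' : A) (i : X' ⟶ X), Mono i ∧ P X' ∧ Epi (i ≫ π))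
    (hK : ∀ i, P (K.homology i))
    {n₀ : ℤ} (F : DStage P K b n₀) (n₁ : ℤ) (hn₁ : n₁ + 1 = n₀) (hb : n₀ ≤ b + 1) :
    ∃ (F' : DStage P K b n₁) (g : F.L ⟶ F'.L), g ≫ F'.f = F.f ∧ ∀ i, n₀ ≤ i → IsIso (g.f i) := by
  obtain rfl : n₁ = n₀ - 1 := by lia
  have := F.ge
  have := F.le
  have := F.epi
  have hT := DerivedCategory.mappingCocone_triangle_distinguished.{w} F.f
  have hM : P ((mappingCocone F.f).homology n₀) := by
    have e₁ := CochainComplex.homologyMap_exact₁_of_distTriang (mappingCocone.triangle F.f) hT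
      (n₀ - 1) n₀ (by lia)
    have hL : P (F.L.homology n₀) :=
      P.prop_of_epi (F.L.homologyπ n₀) (P.prop_of_mono (F.L.iCycles n₀) (F.prop n₀))
    exact P.prop_X₂_of_exact e₁ (hK (n₀ - 1)) hL
  obtain ⟨X', i, hi, hX', hψ⟩ := hlift _ _ ((mappingCocone F.f).homologyπ n₀) inferInstance hM
  refine ⟨{ L := dstep.mid F.f n₀ i
            f := dstep.f' F.f n₀ i
            le := ?_
            ge := ?_
            prop := ?_
            qi := ?_
            epi := ?_ }, dstep.ι' F.f n₀ i, dstep.ι'_f' F.f n₀ i, dstep.isIso_ι'_f F.f n₀ i⟩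
  · rw [isStrictlyLE_iff]
    intro k hk
    exact dstep.isZero_cone_X _ k (k + 1) rfl (F.L.isZero_of_isStrictlyLE b k)
      (isZero_single_obj_X (.up ℤ) _ _ _ (by lia))
  · rw [isStrictlyGE_iff]
    intro k hk
    exact dstep.isZero_cone_X _ k (k + 1) rfl (F.L.isZero_of_isStrictlyGE n₀ k)
      (isZero_single_obj_X (.up ℤ) _ _ _ (by lia))
  · intro k
    exact dstep.prop_cone_X _ k (k + 1) rfl P (F.prop k) (prop_single_X P n₀ X' hX' (k + 1))
  · intro k hk
    exact dstep.quasiIsoAt_f'.{w} F.f n₀ i hψ F.qi k (by lia)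
  · exact dstep.epi_homologyMap_f' F.f n₀ i hψ (F.L.isZero_of_isStrictlyGE n₀ (n₀ - 1))

section DSeq

variable
    (hlift : ∀ (X Y : A) (π : X ⟶ Y), Epi π → P Y →
      ∃ (X' : A) (i : X' ⟶ X), Mono i ∧ P X' ∧ Epi (i ≫ π))
    (hK : ∀ i, P (K.homology i))

/-- The initial stage -/
noncomputable def DStage.zero [K.IsStrictlyLE b] : DStage P K b (b + 1 - (0 : ℕ)) where
  L := HomologicalComplex.zero
  f := 0
  le := by rw [isStrictlyLE_iff]; intro i hi; exact isZero_zero A
  ge := by rw [isStrictlyGE_iff]; intro i hi; exact isZero_zero A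
  prop i := P.prop_of_isZero (isZero_zero A)
  qi i hi := by
    rw [quasiIsoAt_iff_isIso_homologyMap]
    apply IsZero.isIso
    · exact ShortComplex.isZero_homology_of_isZero_X₂ _ (isZero_zero A)
    · exact (K.exactAt_of_isLE b i (by simp at hi; lia)).isZero_homology
  epi := ((K.exactAt_of_isLE b _ (by simp)).isZero_homology).epi _

variable {P K b}

/-- next stage -/
noncomputable def DStage.next {n₀ : ℤ} (F : DStage P K b n₀) (n₁ : ℤ) (hn₁ : n₁ + 1 = n₀)
    (hb : n₀ ≤ b + 1) : DStage P K b n₁ :=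
  (F.exists_next hlift hK n₁ hn₁ hb).choose

/-- the transition map -/
noncomputable def DStage.toNext {n₀ : ℤ} (F : DStage P K b n₀) (n₁ : ℤ) (hn₁ : n₁ + 1 = n₀)
    (hb : n₀ ≤ b + 1) : F.L ⟶ (F.next hlift hK n₁ hn₁ hb).L :=
  (F.exists_next hlift hK n₁ hn₁ hb).choose_spec.choose

lemma DStage.next_fac {n₀ : ℤ} (F : DStage P K b n₀) (n₁ : ℤ) (hn₁ : n₁ + 1 = n₀)
    (hb : n₀ ≤ b + 1) :
    F.toNext hlift hK n₁ hn₁ hb ≫ (F.next hlift hK n₁ hn₁ hb).f = F.f :=
  (F.exists_next hlift hK n₁ hn₁ hb).choose_spec.choose_spec.1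

lemma DStage.isIso_toNext_f {n₀ : ℤ} (F : DStage P K b n₀) (n₁ : ℤ) (hn₁ : n₁ + 1 = n₀)
    (hb : n₀ ≤ b + 1) (i : ℤ) (hi : n₀ ≤ i) :
    IsIso ((F.toNext hlift hK n₁ hn₁ hb).f i) :=
  (F.exists_next hlift hK n₁ hn₁ hb).choose_spec.choose_spec.2 i hi

variable (P K b) [K.IsStrictlyLE b]

/-- the sequence of stages -/
noncomputable def dsequence : ∀ (q : ℕ), DStage P K b (b + 1 - q)
  | 0 => DStage.zero P K b
  | q + 1 => (dsequence q).next hlift hK _ (by push_cast; ring) (by lia)

/-- the sequence of objects over `K` -/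
noncomputable def dU (q : ℕ) : Over K := Over.mk (dsequence P K b hlift hK q).f

/-- the transition maps -/
noncomputable def dToNext (q : ℕ) : dU P K b hlift hK q ⟶ dU P K b hlift hK (q + 1) :=
  Over.homMk ((dsequence P K b hlift hK q).toNext hlift hK _ (by push_cast; ring) (by lia))
    ((dsequence P K b hlift hK q).next_fac hlift hK _ _ _)

/-- the tower -/
noncomputable def dfunctor : ℕ ⥤ Over K :=
  Functor.ofSequence (fun q ↦ dToNext P K b hlift hK q)

lemma isIso_dfunctor_map_f {q₁ q₂ : ℕ} (hq : q₁ ≤ q₂) (i : ℤ) (hi : b + 1 - q₁ ≤ i) :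
    IsIso (((dfunctor P K b hlift hK).map (homOfLE hq)).left.f i) := by
  wlog hq' : q₁ + 1 = q₂ generalizing q₁ q₂
  · clear hq'
    obtain ⟨k, hk⟩ := Nat.le.dest hq
    induction k generalizing q₁ q₂ with
    | zero =>
      obtain rfl : q₁ = q₂ := by simpa using hk
      simp only [homOfLE_refl, CategoryTheory.Functor.map_id, Over.id_left, id_f]
      infer_instance
    | succ k h =>
      rw [← homOfLE_comp (show q₁ ≤ q₁ + 1 by lia) (show q₁ + 1 ≤ q₂ by lia),
        Functor.map_comp]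
      exact IsIso.comp_isIso' (this _ (by lia) rfl) (h _ (by push_cast; lia) (by lia))
  subst hq'
  dsimp [dfunctor]
  rw [Functor.ofSequence_map_homOfLE_succ]
  exact DStage.isIso_toNext_f hlift hK _ _ _ _ _ hi

/-- the tower of complexes -/
noncomputable abbrev dCochainComplexFunctor : ℕ ⥤ CochainComplex A ℤ :=
  dfunctor P K b hlift hK ⋙ Over.forget K

lemma isEventuallyConstantFrom (i : ℤ) (q : ℕ) (h : b + 1 - q ≤ i) :
    (dCochainComplexFunctor P K b hlift hK ⋙
      HomologicalComplex.eval _ _ i).IsEventuallyConstantFrom q :=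
  fun _ g ↦ isIso_dfunctor_map_f _ _ _ _ _ (leOfHom g) _ (by lia)

instance (i : ℤ) : HasColimit (dCochainComplexFunctor P K b hlift hK ⋙
    HomologicalComplex.eval _ _ i) :=
  (isEventuallyConstantFrom P K b hlift hK i (b + 1 - i).toNat (by lia)).hasColimit

/-- the colimit complex -/
noncomputable abbrev dmid : CochainComplex A ℤ := colimit (dCochainComplexFunctor P K b hlift hK)

/-- the inclusions -/
noncomputable def dmidι (q : ℕ) : (dsequence P K b hlift hK q).L ⟶ dmid P K b hlift hK :=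
  colimit.ι (dCochainComplexFunctor P K b hlift hK) q

lemma isIso_dmidι_f (q : ℕ) (i : ℤ) (h : b + 1 - q ≤ i) :
    IsIso ((dmidι P K b hlift hK q).f i) :=
  isIso_ι_f_of_isColimit_of_isEventuallyConstantFrom _ (colimit.isColimit _) _ _
    (isEventuallyConstantFrom P K b hlift hK _ _ h)

lemma quasiIsoAt_dmidι (q : ℕ) (i : ℤ) (h : b + 1 - q ≤ i - 1) :
    QuasiIsoAt (dmidι P K b hlift hK q) i :=
  quasiIsoAt_ι_of_isColimit_of_isEventuallyConstantFrom _ (colimit.isColimit _)
    (i - 1) i (i + 1) (by simp) (by simp) _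
    (isEventuallyConstantFrom P K b hlift hK _ _ (by lia))
    (isEventuallyConstantFrom P K b hlift hK _ _ (by lia))
    (isEventuallyConstantFrom P K b hlift hK _ _ (by lia))

/-- the map from the colimit -/
noncomputable def fromMid : dmid P K b hlift hK ⟶ K :=
  colimit.desc (dCochainComplexFunctor P K b hlift hK) (Cocone.mk K
    { app := fun q => ((dfunctor P K b hlift hK).obj q).hom
      naturality := fun q₁ q₂ g => by
        have := Over.w ((dfunctor P K b hlift hK).map g)
        dsimp at this ⊢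
        rw [Category.comp_id, this] })

@[reassoc (attr := simp)]
lemma dmidι_fromMid (q : ℕ) :
    dmidι P K b hlift hK q ≫ fromMid P K b hlift hK = (dsequence P K b hlift hK q).f :=
  colimit.ι_desc _ _

instance : (dmid P K b hlift hK).IsStrictlyLE b := by
  rw [isStrictlyLE_iff]
  intro i hi
  have := isIso_dmidι_f P K b hlift hK 0 i (by simp; lia)
  have := (dsequence P K b hlift hK 0).le
  exact ((dsequence P K b hlift hK 0).L.isZero_of_isStrictlyLE b i).of_iso
    (asIso ((dmidι P K b hlift hK 0).f i)).symm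

lemma prop_dmid_X (i : ℤ) : P ((dmid P K b hlift hK).X i) := by
  have := isIso_dmidι_f P K b hlift hK (b + 1 - i).toNat i (by lia)
  exact P.prop_of_iso (asIso ((dmidι P K b hlift hK (b + 1 - i).toNat).f i))
    ((dsequence P K b hlift hK _).prop i)

instance : QuasiIso (fromMid P K b hlift hK) where
  quasiIsoAt i := by
    obtain ⟨q, hq⟩ : ∃ (q : ℕ), b + 1 - q ≤ i - 1 := ⟨(b + 2 - i).toNat, by lia⟩
    have := quasiIsoAt_dmidι P K b hlift hK q i hq
    rw [← quasiIsoAt_iff_comp_left (dmidι P K b hlift hK q), dmidι_fromMid]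
    exact (dsequence P K b hlift hK q).qi i (by lia)

end DSeq

end DTower


section Final

open HomologicalComplex CochainComplex DerivedCategory

variable {A : Type u} [Category.{v} A] [Abelian A] [HasDerivedCategory.{w} A]
    (P : ObjectProperty A) [P.IsSerreClass] [P.IsClosedUnderKernels] [P.IsClosedUnderCokernels]
    [P.IsClosedUnderFiniteProducts] [HasDerivedCategory.{w'} P.FullSubcategory]
    [PreservesFiniteLimits P.ι] [PreservesFiniteColimits P.ι]
    (hlift : ∀ (X Y : A) (π : X ⟶ Y), Epi π → P Y →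
      ∃ (X' : A) (i : X' ⟶ X), Mono i ∧ P X' ∧ Epi (i ≫ π))

omit [HasDerivedCategory.{w} A] [HasDerivedCategory.{w'} P.FullSubcategory]
  [PreservesFiniteLimits P.ι] [PreservesFiniteColimits P.ι] in
lemma prop_homology_map (I : CochainComplex P.FullSubcategory ℤ) (i : ℤ) :
    P (((P.ι.mapHomologicalComplex (ComplexShape.up ℤ)).obj I).homology i) :=
  P.prop_of_epi (((P.ι.mapHomologicalComplex (ComplexShape.up ℤ)).obj I).homologyπ i)
    (P.prop_of_mono (((P.ι.mapHomologicalComplex (ComplexShape.up ℤ)).obj I).iCycles i)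
      (I.X i).property)

omit [HasDerivedCategory.{w} A] [HasDerivedCategory.{w'} P.FullSubcategory]
  [PreservesFiniteLimits P.ι] [PreservesFiniteColimits P.ι] in
lemma isStrictlyLE_map (I : CochainComplex P.FullSubcategory ℤ) (b : ℤ) [I.IsStrictlyLE b] :
    CochainComplex.IsStrictlyLE ((P.ι.mapHomologicalComplex (ComplexShape.up ℤ)).obj I) b := by
  rw [isStrictlyLE_iff]
  intro i hi
  exact P.ι.map_isZero (I.isZero_of_isStrictlyLE b i hi)

include hlift in
omit [HasDerivedCategory.{w'} P.FullSubcategory]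
  [PreservesFiniteLimits P.ι] [PreservesFiniteColimits P.ι] in
lemma lemR (b : ℤ) (X : CochainComplex A ℤ) [X.IsStrictlyLE b] (hX : ∀ i, P (X.homology i)) :
    ∃ (I : CochainComplex P.FullSubcategory ℤ)
      (t : (P.ι.mapHomologicalComplex (ComplexShape.up ℤ)).obj I ⟶ X),
      I.IsStrictlyLE b ∧ QuasiIso t := by
  let L := dmid.{w} P X b hlift hX
  obtain ⟨I, ⟨e⟩⟩ := exists_complex_of_ess P.ι L
    (fun i => ⟨⟨_, prop_dmid_X.{w} P X b hlift hX i⟩, ⟨Iso.refl _⟩⟩)
  refine ⟨I, e.hom ≫ fromMid.{w} P X b hlift hX, ?_, inferInstance⟩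
  rw [isStrictlyLE_iff]
  intro i hi
  apply isZero_of_faithful P.ι
  exact (L.isZero_of_isStrictlyLE b i hi).of_iso
    ((HomologicalComplex.eval A (ComplexShape.up ℤ) i).mapIso e)

include hlift in
lemma part2 (K : DerivedCategory A) (b : ℤ) (hKb : K.IsLE b)
    (hK : ∀ n : ℤ, P ((DerivedCategory.homologyFunctor A n).obj K)) :
    ∃ M : DerivedCategory P.FullSubcategory, M.IsLE b ∧
      Nonempty (P.ι.mapDerivedCategory.obj M ≅ K) := by
  obtain ⟨K₀, hK₀, ⟨e⟩⟩ := DerivedCategory.exists_iso_Q_obj_of_isLE K b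
  have hK₀' : ∀ i, P (K₀.homology i) := fun i =>
    P.prop_of_iso ((DerivedCategory.homologyFunctor A i).mapIso e ≪≫
      (DerivedCategory.homologyFunctorFactors A i).app K₀) (hK i)
  obtain ⟨I, t, hI, ht⟩ := lemR.{w} P hlift b K₀ hK₀'
  refine ⟨Q.obj I, inferInstance, ⟨?_⟩⟩
  exact (P.ι.mapDerivedCategoryFactors).app I ≪≫ asIso (Q.map t) ≪≫ e.symm

include hlift in
lemma surj (b : ℤ) (M₀ N₀ : CochainComplex P.FullSubcategory ℤ) [M₀.IsStrictlyLE b]
    (φ : P.ι.mapDerivedCategory.obj (Q.obj M₀) ⟶ P.ι.mapDerivedCategory.obj (Q.obj N₀)) :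
    ∃ ψ : Q.obj M₀ ⟶ Q.obj N₀, P.ι.mapDerivedCategory.map ψ = φ := by
  have := isStrictlyLE_map P M₀ b
  let φ' : Q.obj ((P.ι.mapHomologicalComplex (ComplexShape.up ℤ)).obj M₀) ⟶
      Q.obj ((P.ι.mapHomologicalComplex (ComplexShape.up ℤ)).obj N₀) :=
    (P.ι.mapDerivedCategoryFactors).inv.app M₀ ≫ φ ≫ (P.ι.mapDerivedCategoryFactors).hom.app N₀
  have hφ : φ ≫ (P.ι.mapDerivedCategoryFactors).hom.app N₀ =
      (P.ι.mapDerivedCategoryFactors).hom.app M₀ ≫ φ' := by
    simp [φ']
  obtain ⟨X, hX, s, hs, g, hφ'⟩ := DerivedCategory.right_fac_of_isStrictlyLE φ' b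
  have hsq : QuasiIso s := by rwa [isIso_Q_map_iff_quasiIso] at hs
  have hXP : ∀ i, P (X.homology i) := fun i =>
    P.prop_of_iso (asIso (homologyMap s i)).symm (prop_homology_map P M₀ i)
  obtain ⟨I, t, hI, ht⟩ := lemR.{w} P hlift b X hXP
  obtain ⟨s', hs'⟩ := exists_preimage_chainMap P.ι (t ≫ s)
  obtain ⟨g', hg'⟩ := exists_preimage_chainMap P.ι (t ≫ g)
  have hs'q : QuasiIso s' := by
    rw [← quasiIso_map_iff_of_preservesHomology s' P.ι, hs']
    infer_instance
  have n1 := P.ι.mapDerivedCategoryFactors_hom_naturality s'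
  have n2 := P.ι.mapDerivedCategoryFactors_hom_naturality g'
  rw [hs', Functor.map_comp] at n1
  rw [hg', Functor.map_comp] at n2
  refine ⟨inv (Q.map s') ≫ Q.map g', ?_⟩
  rw [Functor.map_comp, Functor.map_inv, IsIso.inv_comp_eq,
    ← cancel_mono ((P.ι.mapDerivedCategoryFactors).hom.app N₀), Category.assoc, hφ,
    reassoc_of% n1, n2, hφ']
  simp

include hlift in
lemma inj (b : ℤ) (M₀ N₀ : CochainComplex P.FullSubcategory ℤ) [M₀.IsStrictlyLE b]
    (ψ : Q.obj M₀ ⟶ Q.obj N₀) (hψ : P.ι.mapDerivedCategory.map ψ = 0) : ψ = 0 := by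
  obtain ⟨I₀, hI₀, s', hs', g', rfl⟩ := DerivedCategory.right_fac_of_isStrictlyLE ψ b
  rw [Functor.map_comp, Functor.map_inv, IsIso.inv_comp_eq, comp_zero] at hψ
  have hg : Q.map ((P.ι.mapHomologicalComplex (ComplexShape.up ℤ)).map g') = 0 := by
    have n2 := P.ι.mapDerivedCategoryFactors_hom_naturality g'
    rw [hψ, zero_comp] at n2
    rw [← cancel_epi ((P.ι.mapDerivedCategoryFactors).hom.app I₀), ← n2, comp_zero]
  obtain ⟨X, t₀, ht₀, ⟨H⟩⟩ := exists_homotopy_of_Q_map_eq_zero _ hg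
  have := isStrictlyLE_map P I₀ b
  have hXb : X.IsLE b := by
    rw [CochainComplex.isLE_iff]
    intro i hi
    rw [exactAt_iff_isZero_homology]
    exact (CochainComplex.exactAt_of_isLE
      ((P.ι.mapHomologicalComplex (ComplexShape.up ℤ)).obj I₀) b i
      hi).isZero_homology.of_iso (asIso (homologyMap t₀ i))
  have hj : QuasiIso (X.ιTruncLE b) := (X.quasiIso_ιTruncLE_iff b).2 hXb
  have hXP : ∀ i, P ((X.truncLE b).homology i) := fun i =>
    P.prop_of_iso (asIso (homologyMap (X.ιTruncLE b ≫ t₀) i)).symm (prop_homology_map P I₀ i)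
  obtain ⟨I₁, u, hI₁, hu⟩ := lemR.{w} P hlift b (X.truncLE b) hXP
  obtain ⟨c', hc'⟩ := exists_preimage_chainMap P.ι (u ≫ X.ιTruncLE b ≫ t₀)
  have hc'q : QuasiIso c' := by
    rw [← quasiIso_map_iff_of_preservesHomology c' P.ι, hc']
    infer_instance
  have H' : Homotopy ((P.ι.mapHomologicalComplex (ComplexShape.up ℤ)).map (c' ≫ g'))
      ((P.ι.mapHomologicalComplex (ComplexShape.up ℤ)).map 0) :=
    (Homotopy.ofEq (by rw [Functor.map_comp, hc']; simp)).trans
      ((H.compLeft (u ≫ X.ιTruncLE b)).trans (Homotopy.ofEq (by simp)))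
  have h0 : Q.map (c' ≫ g') = 0 := by
    rw [Q_map_eq_of_homotopy (h := homotopyOfMap P.ι _ _ H'), Functor.map_zero]
  rw [Functor.map_comp] at h0
  have : IsIso (Q.map c') := by rw [isIso_Q_map_iff_quasiIso]; exact hc'q
  have hg0 : Q.map g' = 0 := by
    rw [← cancel_epi (Q.map c'), h0, comp_zero]
  rw [hg0, comp_zero]

end Final


lemma bijective_map_of_iso {C₀ : Type*} [Category C₀] {D : Type*} [Category D] (F : C₀ ⥤ D)
    {X X₁ Y Y₁ : C₀} (eX : X ≅ X₁) (eY : Y ≅ Y₁)
    (h : Function.Bijective (fun f : X₁ ⟶ Y₁ => F.map f)) :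
    Function.Bijective (fun f : X ⟶ Y => F.map f) := by
  have heq : (fun f : X ⟶ Y => F.map f) =
      (Iso.homCongr (F.mapIso eX).symm (F.mapIso eY).symm) ∘ (fun f : X₁ ⟶ Y₁ => F.map f) ∘
        (Iso.homCongr eX eY) := by
    funext f
    simp [Iso.homCongr]
  rw [heq]
  exact (Equiv.bijective _).comp (h.comp (Equiv.bijective _))

/-- Let P be a Serre class in an abelian category A (so that the full subcategory on P is abelian; its
closure under kernels, cokernels, finite products and the exactness of the inclusion are carried as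
instance hypotheses) such that for every epimorphism X ⟶ Y with P Y there is a subobject X' of X
with P X' mapping onto Y. Then the induced functor D(P) ⥤ D(A) is fully faithful on bounded above
objects, and every bounded above object of D(A) all of whose cohomology objects satisfy P is in its
essential image from a bounded above object; that is, D⁻(P) ≃ D⁻_P(A). -/
theorem result {A : Type u} [Category.{v} A] [Abelian A] [HasDerivedCategory.{w} A]
    (P : ObjectProperty A) [P.IsSerreClass] [P.IsClosedUnderKernels] [P.IsClosedUnderCokernels]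
    [P.IsClosedUnderFiniteProducts] [HasDerivedCategory.{w'} P.FullSubcategory]
    [PreservesFiniteLimits P.ι] [PreservesFiniteColimits P.ι]
    (hlift : ∀ (X Y : A) (π : X ⟶ Y), Epi π → P Y → ∃ (X' : A) (i : X' ⟶ X), Mono i ∧ P X' ∧ Epi (i ≫ π)) :
    (∀ (M N : DerivedCategory P.FullSubcategory) (b : ℤ), M.IsLE b → N.IsLE b →
      Function.Bijective (fun φ : M ⟶ N => P.ι.mapDerivedCategory.map φ)) ∧
    ∀ (K : DerivedCategory A) (b : ℤ), K.IsLE b → (∀ n : ℤ, P ((DerivedCategory.homologyFunctor A n).obj K)) →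
      ∃ M : DerivedCategory P.FullSubcategory, M.IsLE b ∧ Nonempty (P.ι.mapDerivedCategory.obj M ≅ K) := by
  refine ⟨fun M N b hM hN => ?_, fun K b hK hKP => part2.{w, w'} P hlift K b hK hKP⟩
  obtain ⟨M₀, hM₀, ⟨eM⟩⟩ := DerivedCategory.exists_iso_Q_obj_of_isLE M b
  obtain ⟨N₀, hN₀, ⟨eN⟩⟩ := DerivedCategory.exists_iso_Q_obj_of_isLE N b
  apply bijective_map_of_iso P.ι.mapDerivedCategory eM eN
  constructor
  · intro ψ₁ ψ₂ h
    have h' : P.ι.mapDerivedCategory.map ψ₁ = P.ι.mapDerivedCategory.map ψ₂ := h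
    have := inj.{w, w'} P hlift b M₀ N₀ (ψ₁ - ψ₂) (by rw [Functor.map_sub]; exact sub_eq_zero.2 h')
    exact sub_eq_zero.1 this
  · intro φ
    exact surj.{w, w'} P hlift b M₀ N₀ φ

end Groth.Agent.S1050
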