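import Groth.Statements.S1051
-- import your own Groth.Agent.* helpers here

set_option autoImplicit false
universe v u
open CategoryTheory
open CohDer

namespace Groth.Agent.S1051

open CategoryTheory.Pretriangulated CategoryTheory.Limits ZeroObject

variable {D : Type u} [Category.{v} D] [Preadditive D] [Limits.HasZeroObject D] [HasShift D ℤ]
    [∀ n : ℤ, (shiftFunctor D n).Additive] [Pretriangulated D]

/-- The "good" property of a stage `(Y, a)` at level `k`. -/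
def Good (X : ChainComplex D ℕ) (n k : ℕ) (Y : D) (a : Y ⟶ X.X k) : Prop :=
  (k + 1 ≤ n → ∃ b : X.X (k + 1) ⟶ Y, b ≫ a = X.d (k + 1) k) ∧
  (k + 2 ≤ n → ∀ ψ : X.X (k + 2) ⟶ Y, ψ ≫ a = 0 → ψ = 0) ∧
  (∀ (i : ℕ) (s : ℤ), s = (i : ℤ) - k - 2 → k + 2 < i → i ≤ n →
    ∀ ψ : (shiftFunctor D s).obj (X.X i) ⟶ Y, ψ = 0)

structure Stage (X : ChainComplex D ℕ) (n k : ℕ) where
  Y : D
  a : Y ⟶ X.X k
  good : Good X n k Y a

structure StepData (X : ChainComplex D ℕ) (n k : ℕ) (s : Stage X n k) where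
  s' : Stage X n (k + 1)
  b : X.X (k + 1) ⟶ s.Y
  c : s.Y ⟶ (shiftFunctor D (1 : ℤ)).obj s'.Y
  h : k < n → (Triangle.mk s'.a b c ∈ distinguishedTriangles ∧ b ≫ s.a = X.d (k + 1) k)

theorem nonempty_stepData (X : ChainComplex D ℕ) (n : ℕ)
    (hX : ∀ i j : ℕ, j + 2 < i → i ≤ n → ∀ φ : (shiftFunctor D ((i : ℤ) - j - 2)).obj (X.X i) ⟶ X.X j, φ = 0)
    (k : ℕ) (s : Stage X n k) : Nonempty (StepData X n k s) := by
  by_cases hk : k < n
  · obtain ⟨b, hb⟩ := s.good.1 hk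
    obtain ⟨Y', a', c, hT⟩ := distinguished_cocone_triangle₁ b
    -- hT : Triangle.mk a' b c ∈ distTriang  where a' : Y' ⟶ X.X (k+1), c : s.Y ⟶ Y'⟦1⟧
    refine ⟨⟨⟨Y', a', ?_, ?_, ?_⟩, b, c, fun _ => ⟨hT, hb⟩⟩⟩
    · -- L(k+1)
      intro hk2
      have h0 : (X.d (k + 1 + 1) (k + 1) ≫ b) ≫ s.a = 0 := by
        rw [Category.assoc, hb, X.d_comp_d]
      have h1 : X.d (k + 1 + 1) (k + 1) ≫ b = 0 := s.good.2.1 hk2 _ h0
      obtain ⟨b', hb'⟩ := Triangle.coyoneda_exact₂ _ hT (X.d (k + 1 + 1) (k + 1)) h1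
      exact ⟨b', hb'.symm⟩
    · -- (i)(k+1)
      intro hk3 ψ hψ
      have h0 : ψ⟦(1 : ℤ)⟧' ≫ a'⟦(1 : ℤ)⟧' = 0 := by
        rw [← Functor.map_comp, hψ, Functor.map_zero]
      obtain ⟨g, hg⟩ := Triangle.coyoneda_exact₁ _ hT (ψ⟦(1 : ℤ)⟧') h0
      have hg0 : g = 0 := s.good.2.2 (k + 1 + 2) 1 (by push_cast; ring) (by omega) hk3 g
      have h2 : ψ⟦(1 : ℤ)⟧' = 0 := hg.trans (by rw [hg0, zero_comp]; rfl)
      exact (shiftFunctor D (1 : ℤ)).map_injective (by rw [h2, Functor.map_zero])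
    · -- C(k+1)
      intro i t ht hi hin ψ
      have ha0 : ψ ≫ a' = 0 := by
        have := hX i (k + 1) hi hin
        subst ht
        exact this _
      have h0 : ψ⟦(1 : ℤ)⟧' ≫ a'⟦(1 : ℤ)⟧' = 0 := by
        rw [← Functor.map_comp, ha0, Functor.map_zero]
      obtain ⟨g, hg⟩ := Triangle.coyoneda_exact₁ _ hT (ψ⟦(1 : ℤ)⟧') h0
      let e := (shiftFunctorAdd' D t 1 (t + 1) rfl).app (X.X i)
      have hg0 : e.hom ≫ g = 0 :=
        s.good.2.2 i (t + 1) (by rw [ht]; push_cast; ring) (by omega) hin _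
      have hg1 : g = 0 := by
        rw [← cancel_epi e.hom, hg0, comp_zero]
      have h2 : ψ⟦(1 : ℤ)⟧' = 0 := hg.trans (by rw [hg1, zero_comp]; rfl)
      exact (shiftFunctor D (1 : ℤ)).map_injective (by rw [h2, Functor.map_zero])
  · refine ⟨⟨⟨0, 0, ?_, ?_, ?_⟩, 0, 0, fun h => absurd h hk⟩⟩
    · intro h; omega
    · intro h; omega
    · intro i t _ _ hin; omega

theorem stage_zero (X : ChainComplex D ℕ) (n : ℕ)
    (hX : ∀ i j : ℕ, j + 2 < i → i ≤ n → ∀ φ : (shiftFunctor D ((i : ℤ) - j - 2)).obj (X.X i) ⟶ X.X j, φ = 0) :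
    Good X n 0 (X.X 0) (𝟙 _) := by
  refine ⟨fun _ => ⟨X.d 1 0, Category.comp_id _⟩, fun _ ψ hψ => by simpa using hψ, ?_⟩
  intro i t ht hi hin ψ
  have := hX i 0 hi hin
  subst ht
  exact this _

noncomputable def stage (X : ChainComplex D ℕ) (n : ℕ)
    (hX : ∀ i j : ℕ, j + 2 < i → i ≤ n → ∀ φ : (shiftFunctor D ((i : ℤ) - j - 2)).obj (X.X i) ⟶ X.X j, φ = 0) :
    ∀ k : ℕ, Stage X n k
  | 0 => ⟨X.X 0, 𝟙 _, stage_zero X n hX⟩
  | k + 1 => (nonempty_stepData X n hX k (stage X n hX k)).some.s'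

theorem aux {D : Type u} [Category.{v} D] [Preadditive D] [Limits.HasZeroObject D] [HasShift D ℤ]
    [∀ n : ℤ, (shiftFunctor D n).Additive] [Pretriangulated D]
    (X : ChainComplex D ℕ) (n : ℕ)
    (hX : ∀ i j : ℕ, j + 2 < i → i ≤ n → ∀ φ : (shiftFunctor D ((i : ℤ) - j - 2)).obj (X.X i) ⟶ X.X j, φ = 0) :
    ∃ (Y : ℕ → D) (a : ∀ k, Y k ⟶ X.X k) (b : ∀ k, X.X (k + 1) ⟶ Y k) (c : ∀ k, Y k ⟶ (shiftFunctor D (1 : ℤ)).obj (Y (k + 1))),
      IsIso (a 0) ∧ ∀ k, k < n → Triangle.mk (a (k + 1)) (b k) (c k) ∈ distinguishedTriangles ∧ b k ≫ a k = X.d (k + 1) k := by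
  refine ⟨fun k => (stage X n hX k).Y, fun k => (stage X n hX k).a,
    fun k => (nonempty_stepData X n hX k (stage X n hX k)).some.b,
    fun k => (nonempty_stepData X n hX k (stage X n hX k)).some.c, ?_, ?_⟩
  · change IsIso (𝟙 (X.X 0))
    infer_instance
  · intro k hk
    exact (nonempty_stepData X n hX k (stage X n hX k)).some.h hk

open CategoryTheory.Pretriangulated in
/-- Let X be a chain complex in a triangulated category D and n a natural number; consider the finite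
complex Xₙ → Xₙ₋₁ → … → X₀. If every morphism Xᵢ[i - j - 2] ⟶ Xⱼ with j + 2 < i ≤ n vanishes, then
there is a Postnikov system for it: objects Yₖ (k ≤ n), an isomorphism Y₀ ⟶ X₀, and for each k < n a
distinguished triangle Yₖ₊₁ ⟶ Xₖ₊₁ ⟶ Yₖ ⟶ Yₖ₊₁[1] such that Xₖ₊₁ ⟶ Yₖ ⟶ Xₖ is the differential of X. -/
theorem result {D : Type u} [Category.{v} D] [Preadditive D] [Limits.HasZeroObject D] [HasShift D ℤ]
    [∀ n : ℤ, (shiftFunctor D n).Additive] [Pretriangulated D] [IsTriangulated D]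
    (X : ChainComplex D ℕ) (n : ℕ)
    (hX : ∀ i j : ℕ, j + 2 < i → i ≤ n → ∀ φ : (shiftFunctor D ((i : ℤ) - j - 2)).obj (X.X i) ⟶ X.X j, φ = 0) :
    ∃ (Y : ℕ → D) (a : ∀ k, Y k ⟶ X.X k) (b : ∀ k, X.X (k + 1) ⟶ Y k) (c : ∀ k, Y k ⟶ (shiftFunctor D (1 : ℤ)).obj (Y (k + 1))),
      IsIso (a 0) ∧ ∀ k, k < n → Triangle.mk (a (k + 1)) (b k) (c k) ∈ distinguishedTriangles ∧ b k ≫ a k = X.d (k + 1) k := by
  exact aux X n hX

end Groth.Agent.S1051
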