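import Groth.Statements.S10528
import Groth.Agent.Lib.Helper16.AlgSp.LftSp
import Groth.Agent.Lib.Helper16.AlgSp.FpqcQc

set_option autoImplicit false
universe u
open CategoryTheory CategoryTheory.Limits AlgebraicGeometry
open AlgSp

namespace Groth.Agent.S10528

theorem isLocalOnBase_and {S : Scheme.{u}} {τ : AlgSp.CovNotion S}
    {P Q : MorphismProperty (AlgSp.Sp S)}
    (hP : AlgSp.IsLocalOnBase τ P) (hQ : AlgSp.IsLocalOnBase τ Q) :
    AlgSp.IsLocalOnBase τ (fun _ _ f => P f ∧ Q f) := by
  intro ι Y Yi g hY hYi hcov X f hX Xi p q hXi sq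
  have h1 := hP Yi g hY hYi hcov f hX Xi p q hXi sq
  have h2 := hQ Yi g hY hYi hcov f hX Xi p q hXi sq
  constructor
  · intro h i
    exact ⟨h1.1 h.1 i, h2.1 h.2 i⟩
  · intro h
    exact ⟨h1.2 fun i => (h i).1, h2.2 fun i => (h i).2⟩

/-- The property of morphisms of algebraic spaces over S given by f is of finite type (locally of finite
type on etale charts and quasi-compact) is fpqc local on the base: for an fpqc covering of an
algebraic space Y by algebraic spaces Y_i, a morphism f : X ⟶ Y of algebraic spaces and cartesian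
squares X_i = Y_i ×_Y X, f has the property if and only if every X_i ⟶ Y_i has it. -/
theorem result (S : Scheme.{u}) :
    AlgSp.IsLocalOnBase (AlgSp.IsFpqcCover (S := S)) AlgSp.IsFiniteTypeMor := by
  exact isLocalOnBase_and Groth.Agent.Helper16.AS.isLocalOnBase_fpqc_locP_lft
    Groth.Agent.Helper16.AS.isLocalOnBase_fpqc_isQuasiCompactMor

end Groth.Agent.S10528
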