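import Groth.Statements.S1053
import Mathlib.Algebra.Homology.DerivedCategory.KProjective
import Mathlib.Algebra.Homology.HomotopyCategory.KProjective
-- import your own Groth.Agent.* helpers here

set_option autoImplicit false
universe w v u
open CategoryTheory CategoryTheory.Limits
open CohDer

namespace Groth.Agent.S1053

open DerivedCategory in
theorem aux {A : Type u} [Category.{v} A] [Abelian A] [HasDerivedCategory.{w} A]
    (P K : CochainComplex A ℤ) (n b : ℤ) [P.IsStrictlyGE n] [P.IsStrictlyLE b] (hP : ∀ i : ℤ, Projective (P.X i))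
    (hK : ∀ i : ℤ, n ≤ i → IsZero (K.homology i)) :
    (∀ φ : (HomotopyCategory.quotient A (ComplexShape.up ℤ)).obj P ⟶ (HomotopyCategory.quotient A (ComplexShape.up ℤ)).obj K, φ = 0) ∧
    (∀ φ : DerivedCategory.Q.obj P ⟶ DerivedCategory.Q.obj K, φ = 0) := by
  have : P.IsKProjective := CochainComplex.isKProjective_of_projective P b
  have key : ∀ φ : DerivedCategory.Q.obj P ⟶ DerivedCategory.Q.obj K, φ = 0 := by
    intro φ
    have hLE : K.IsLE (n - 1) := by
      rw [CochainComplex.isLE_iff]
      intro i hi
      rw [HomologicalComplex.exactAt_iff_isZero_homology]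
      exact hK i (by lia)
    have hq : QuasiIso (K.ιTruncLE (n - 1)) := inferInstance
    have : IsIso (Q.map (K.ιTruncLE (n - 1))) := by
      rw [DerivedCategory.isIso_Q_map_iff_quasiIso]; exact hq
    suffices h : ∀ ψ : Q.obj P ⟶ Q.obj (K.truncLE (n - 1)), ψ = 0 by
      have := h (φ ≫ inv (Q.map (K.ιTruncLE (n - 1))))
      rw [← cancel_mono (inv (Q.map (K.ιTruncLE (n - 1)))), this, zero_comp]
    intro ψ
    obtain ⟨g, hg⟩ := (CochainComplex.IsKProjective.Qh_map_bijective P
      ((HomotopyCategory.quotient _ _).obj (K.truncLE (n - 1)))).surjective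
      ((quotientCompQhIso A).hom.app P ≫ ψ ≫ (quotientCompQhIso A).inv.app _)
    obtain ⟨g', rfl⟩ := (HomotopyCategory.quotient _ _).map_surjective g
    have hg' : g' = 0 := by
      ext i
      by_cases hi : i < n
      · exact (P.isZero_of_isStrictlyGE n i hi).eq_of_src _ _
      · exact ((K.truncLE (n - 1)).isZero_of_isStrictlyLE (n - 1) i (by lia)).eq_of_tgt _ _
    rw [hg', Functor.map_zero, Functor.map_zero] at hg
    have h2 : ψ = (quotientCompQhIso A).inv.app P ≫ ((quotientCompQhIso A).hom.app P ≫ ψ ≫ (quotientCompQhIso A).inv.app _) ≫ (quotientCompQhIso A).hom.app _ := by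
      simp
    rw [h2, ← hg]; simp
  refine ⟨?_, key⟩
  intro φ
  apply (CochainComplex.IsKProjective.Qh_map_bijective P _).injective
  rw [Functor.map_zero]
  have := key ((quotientCompQhIso A).inv.app P ≫ Qh.map φ ≫ (quotientCompQhIso A).hom.app K)
  rw [← cancel_epi ((quotientCompQhIso A).inv.app P), ← cancel_mono ((quotientCompQhIso A).hom.app K)]
  simpa using this

/-- Let P and K be cochain complexes in an abelian category with P bounded, consisting of projective
objects and zero in degrees below n, and with Hⁱ(K) = 0 for all i ≥ n. Then every morphism P ⟶ K in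
the homotopy category and every morphism P ⟶ K in the derived category is zero. -/
theorem result {A : Type u} [Category.{v} A] [Abelian A] [HasDerivedCategory.{w} A]
    (P K : CochainComplex A ℤ) (n b : ℤ) [P.IsStrictlyGE n] [P.IsStrictlyLE b] (hP : ∀ i : ℤ, Projective (P.X i))
    (hK : ∀ i : ℤ, n ≤ i → IsZero (K.homology i)) :
    (∀ φ : (HomotopyCategory.quotient A (ComplexShape.up ℤ)).obj P ⟶ (HomotopyCategory.quotient A (ComplexShape.up ℤ)).obj K, φ = 0) ∧
    (∀ φ : DerivedCategory.Q.obj P ⟶ DerivedCategory.Q.obj K, φ = 0) := by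
  exact aux P K n b hP hK

end Groth.Agent.S1053
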