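import Groth.Statements.S10562
import Groth.Agent.Lib.Helper16.AlgSp.SrcLoc

set_option autoImplicit false
universe u
open CategoryTheory CategoryTheory.Limits AlgebraicGeometry
open AlgSp

namespace Groth.Agent.S10562

/-- Let f : X ⟶ Y be a morphism of algebraic spaces over S which is locally of finite presentation, flat
and surjective. If X is locally Noetherian then Y is locally Noetherian. -/
theorem result {S : Scheme.{u}} {X Y : AlgSp.Space S} (f : X ⟶ Y)
    (hfp : AlgSp.LocP @LocallyOfFinitePresentation f.hom) (hfl : AlgSp.LocP @Flat f.hom)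
    (hs : AlgSp.IsSurjectiveMor f.hom) (hX : AlgSp.IsLocNoethSp X.obj) :
    AlgSp.IsLocNoethSp Y.obj := by
  obtain ⟨V, q, hqe, hqs⟩ := Y.property.atlas
  have sqE := IsPullback.of_hasPullback f.hom q
  have hE : IsAlgSpace (pullback f.hom q) :=
    Groth.Agent.Helper15.isAlgSpace_of_isPullback Y.property.diag X.property (IsAlgSpace.yon_obj V) sqE
  obtain ⟨U', r, hre, hrs⟩ := hE.atlas
  obtain ⟨h₀, hh⟩ := (yon S).map_surjective (r ≫ pullback.snd f.hom q)
  have hfstE : RepWith @Etale (pullback.fst f.hom q) :=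
    (RepWith @Etale).of_isPullback sqE.flip hqe
  have hae : RepWith @Etale (r ≫ pullback.fst f.hom q) := Groth.Agent.Helper16.AS.repWith_etale_comp _ _ hre hfstE
  have hcomm : (r ≫ pullback.fst f.hom q) ≫ f.hom = (yon S).map h₀ ≫ q := by
    rw [Category.assoc, pullback.condition, ← Category.assoc, hh]
  haveI : IsLocallyNoetherian U'.left :=
    Groth.Agent.Helper15.isLocallyNoetherian_of_etale_of_isLocNoethSp hX (r ≫ pullback.fst f.hom q) hae
  haveI : Flat h₀.left := hfl _ q h₀ hae hqe hcomm
  haveI : LocallyOfFinitePresentation h₀.left := hfp _ q h₀ hae hqe hcomm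
  haveI : Surjective h₀.left := by
    refine ⟨fun v => ?_⟩
    obtain ⟨x, hx⟩ := hs (Points.ofPt q v)
    rw [Points.ofPt_eq_map_ofScheme] at hx
    obtain ⟨y, hy1, hy2⟩ := Groth.Agent.Helper15.exists_point_of_isPullback sqE x (Points.ofScheme V v) hx
    obtain ⟨w, rfl⟩ := Groth.Agent.Helper15.surjective_ofPt r hrs y
    refine ⟨w, ?_⟩
    apply (Points.schemeEquiv V).injective
    change Points.ofScheme V (h₀.left w) = Points.ofScheme V v
    rw [← hy2, Points.map_ofPt, ← hh]
    exact (Groth.Agent.Helper15.ofPt_comp_yon_map h₀ (𝟙 _) w).symm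
  exact ⟨V, q, hqe, hqs, Groth.Agent.Helper15.isLocallyNoetherian_of_flat_open_surjective h₀.left⟩

end Groth.Agent.S10562
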