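import Groth.Statements.S10583
import Groth.Agent.Lib.Helper16.AlgSp.ThickOpen

set_option autoImplicit false
universe u
open CategoryTheory CategoryTheory.Limits AlgebraicGeometry
open AlgSp

namespace Groth.Agent.S10583

/-- Let i : X ⟶ X' be a thickening of algebraic spaces (representable, every base change to a scheme a
surjective closed immersion) and let u : U ⟶ X be an open immersion. Then there is an open immersion
u' : U' ⟶ X' with U = X ×_{X'} U' (a pullback square), and any two open subspaces of X' with this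
property are isomorphic over X'. -/
theorem result {S : Scheme.{u}} {X X' U : AlgSp.Space S} (i : X ⟶ X')
    (hi : AlgSp.IsThickMor i.hom)
    (u : U ⟶ X) (hu : AlgSp.RepWith @IsOpenImmersion u.hom) :
    (∃ (U' : AlgSp.Space S) (u' : U' ⟶ X') (k : U ⟶ U'),
      AlgSp.RepWith @IsOpenImmersion u'.hom ∧ IsPullback u.hom k.hom i.hom u'.hom) ∧
    (∀ (U₁ U₂ : AlgSp.Space S) (u₁ : U₁ ⟶ X') (u₂ : U₂ ⟶ X') (k₁ : U ⟶ U₁) (k₂ : U ⟶ U₂),
      AlgSp.RepWith @IsOpenImmersion u₁.hom → IsPullback u.hom k₁.hom i.hom u₁.hom →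
      AlgSp.RepWith @IsOpenImmersion u₂.hom → IsPullback u.hom k₂.hom i.hom u₂.hom →
      ∃ e : U₁ ≅ U₂, e.hom ≫ u₂ = u₁) := by
  constructor
  · obtain ⟨U', u', k, hU', hu', sq⟩ :=
      Groth.Agent.Helper16.AS.exists_open_of_thick X.property X'.property i.hom hi u.hom hu
    exact ⟨⟨U', hU'⟩, ObjectProperty.homMk u', ObjectProperty.homMk k, hu', sq⟩
  · intro U₁ U₂ u₁ u₂ k₁ k₂ h₁ sq₁ h₂ sq₂
    obtain ⟨e, he⟩ := Groth.Agent.Helper16.AS.open_of_thick_unique X'.property i.hom hi u.hom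
      u₁.hom u₂.hom k₁.hom k₂.hom h₁ sq₁ h₂ sq₂
    refine ⟨⟨ObjectProperty.homMk e.hom, ObjectProperty.homMk e.inv, ?_, ?_⟩, ?_⟩
    · apply ObjectProperty.hom_ext
      exact e.hom_inv_id
    · apply ObjectProperty.hom_ext
      exact e.inv_hom_id
    · apply ObjectProperty.hom_ext
      exact he

end Groth.Agent.S10583
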