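import Groth.Statements.S1059
import Groth.Agent.Lib.Helper5.EC4
import Groth.Agent.S0923
open Groth.Agent.Helper5.EC Groth.Agent.Helper5.LDer

set_option autoImplicit false
universe u
open CategoryTheory CategoryTheory.Limits AlgebraicGeometry Opposite
attribute [local instance] HasDerivedCategory.standard
open Perf

namespace Groth.Agent.S1059

/-- Let E be a perfect object of D(O_X). Assuming the derived pullbacks to the points Spec κ(x) ⟶ X
exist, the function x ↦ χ_E(x) = Σᵢ (-1)ⁱ dim_{κ(x)} Hⁱ(E ⊗^L κ(x)) is locally constant on X. -/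
theorem result (X : Scheme.{u}) [∀ x : X, DCoh.HasLpull (X.fromSpecResidueField x)]
    (E : DCoh.D X) (hE : DCoh.IsPerfect E) :
    IsLocallyConstant (fun x : X => PerfD.eulerChar E x) := by
  rw [IsLocallyConstant.iff_exists_open]
  intro x
  obtain ⟨F, hF, ⟨eF⟩⟩ := exists_kflat_repr E
  obtain ⟨V, hxV, hV⟩ := (Groth.Agent.S0923.result E).mp hE x
  obtain ⟨P, a, b, hv, hfree, ⟨e⟩⟩ := hV F ⟨eF⟩
  choose n hn using hfree
  refine ⟨V, V.2, hxV, fun y hy => ?_⟩
  rw [eulerChar_eq_of_model y E V hy F hF eF P a b hv n hn e,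
    eulerChar_eq_of_model x E V hxV F hF eF P a b hv n hn e]

end Groth.Agent.S1059
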