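import Groth.Statements.S10593
import Groth.Agent.Lib.Helper16.AlgSp.ThickUnramSp

set_option autoImplicit false
universe u
open CategoryTheory CategoryTheory.Limits AlgebraicGeometry
open AlgSp
open Groth.Agent.Helper15 Groth.Agent.Helper16.AS

namespace Groth.Agent.S10593

/-- Consider a morphism (f, f') from the thickening X ⊂ X' to the thickening Y ⊂ Y' of algebraic spaces
over S, meaning: i : X ⟶ X' and j : Y ⟶ Y' are thickenings (representable, every base change to a
scheme a surjective closed immersion) and i ≫ f' = f ≫ j. Assume moreover that the square is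
cartesian (X = Y ×_{Y'} X') and that f and f' are locally of finite type. Then f is locally
quasi-finite, resp. unramified, if and only if f' is (etale-local sense, both notions including
locally of finite type). -/
theorem result {S : Scheme.{u}} {X X' Y Y' : AlgSp.Space S} (i : X ⟶ X') (j : Y ⟶ Y')
    (f : X ⟶ Y) (f' : X' ⟶ Y')
    (hi : AlgSp.IsThickMor i.hom)
    (hj : AlgSp.IsThickMor j.hom) (w : i ≫ f' = f ≫ j)
    (hcart : IsPullback i.hom f.hom f'.hom j.hom)
    (hft : AlgSp.LocP @LocallyOfFiniteType f.hom) (hft' : AlgSp.LocP @LocallyOfFiniteType f'.hom) :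
    (AlgSp.LocP (@LocallyQuasiFinite ⊓ @LocallyOfFiniteType) f.hom ↔
      AlgSp.LocP (@LocallyQuasiFinite ⊓ @LocallyOfFiniteType) f'.hom) ∧
    (AlgSp.LocP (@LocallyOfFiniteType ⊓ @FormallyUnramified) f.hom ↔
      AlgSp.LocP (@LocallyOfFiniteType ⊓ @FormallyUnramified) f'.hom) := by
  refine ⟨⟨fun hf => ?_, fun hf' => ?_⟩, ⟨fun hf => ?_, fun hf' => ?_⟩⟩
  · refine locP_of_thick_cart (P := @LocallyQuasiFinite ⊓ @LocallyOfFiniteType) ?_ hi hj
      (congrArg (fun t => t.hom) w) hcart hft' hf
    intro U U' V V' i₀ h h' j₀ sq hc hs hlft hP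
    haveI := hc
    haveI := hs
    haveI := hlft
    haveI : LocallyQuasiFinite h := hP.1
    exact ⟨Groth.Agent.Helper16.ThickUnram.locallyQuasiFinite_of_thickening_bc sq, hlft⟩
  · exact locP_of_isPullback goodP_lqf_lft srcEtLoc_lqf_lft X'.property Y'.property Y.property
      hcart hf'
  · refine locP_of_thick_cart (P := @LocallyOfFiniteType ⊓ @FormallyUnramified) ?_ hi hj
      (congrArg (fun t => t.hom) w) hcart hft' hf
    intro U U' V V' i₀ h h' j₀ sq hc hs hlft hP
    haveI := hc
    haveI := hs
    haveI := hlft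
    haveI : FormallyUnramified h := hP.2
    exact ⟨hlft, Groth.Agent.Helper16.ThickUnram.formallyUnramified_of_thickening_bc sq⟩
  · exact locP_of_isPullback goodP_lft_unramified srcEtLoc_unramified X'.property Y'.property
      Y.property hcart hf'

end Groth.Agent.S10593
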