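import Groth.Statements.S10605
import Groth.Agent.Lib.Helper19.FpqcAff.Props
import Groth.Agent.Lib.Helper16.AlgSp.FlatSrcSp
import Groth.Agent.Lib.Helper15.AlgSpDiag
import Groth.Agent.Lib.Helper15.AlgSpPoints

set_option autoImplicit false
universe u
open CategoryTheory CategoryTheory.Limits AlgebraicGeometry
open AlgSp

namespace Groth.Agent.S10605

/-- The property of a morphism of algebraic spaces over S of being a thickening (representable, every
base change to a scheme a surjective closed immersion) is local on the base for the fpqc topology.
(The published statement also claims the same for first order thickenings; this row states only the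
thickening clause.) -/
theorem result {S : Scheme.{u}} :
    AlgSp.IsLocalOnBase (S := S) AlgSp.IsFpqcCover
      AlgSp.IsThickMor := by
  intro ι Y Yi g hY hYi hcov X f hX Xi p q hXi sq
  have hci := Groth.Agent.Helper16.AS.isLocalOnBase_fpqc_of_std
    Groth.Agent.Helper19.FpqcAff.isLocalOnBase_std_repWith_isClosedImmersion Yi g hY hYi hcov f hX
    Xi p q hXi sq
  have hpt := (Groth.Agent.Helper16.AS.isStdRefinable_of_isFpqcCover hcov).exists_point
  constructor
  · intro hf i
    exact (RepWith thick).of_isPullback (sq i) hf
  · intro hp
    have h1 : RepWith @IsClosedImmersion f :=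
      hci.2 (fun i => Groth.Agent.Helper15.repWith_mono
        (inf_le_left : thick ≤ @IsClosedImmersion) (hp i))
    have h2 : IsSurjectiveMor f := by
      intro y
      obtain ⟨i, yi, rfl⟩ := hpt y
      obtain ⟨xi, hxi⟩ := Groth.Agent.Helper15.isSurjectiveMor_of_repWith_surjective (p i)
        (Groth.Agent.Helper15.repWith_mono (inf_le_right : thick ≤ @Surjective) (hp i)) yi
      exact ⟨Points.map (q i) xi, by
        rw [← Points.map_comp, (sq i).w, Points.map_comp, hxi]⟩
    exact Groth.Agent.Helper15.repWith_inf h1
      ((Groth.Agent.Helper15.repWith_surjective_iff_of_representable f h1.1).2 h2)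

end Groth.Agent.S10605
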