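import Groth.Statements.S10613
import Groth.Agent.Lib.Helper15.LqfSepSch4
import Groth.Agent.Lib.Helper15.AlgSpUnram
import Groth.Agent.Lib.Helper15.AlgSpField
import Groth.Agent.Lib.Helper16.AlgSp.FormalSp3

set_option autoImplicit false
universe u
open CategoryTheory CategoryTheory.Limits AlgebraicGeometry
open AlgSp

namespace Groth.Agent.S10613

/-- For a morphism f : X ⟶ Y of algebraic spaces over S, these four conditions on f are equivalent: (a)
unramified plus monomorphism; (b) unramified plus universally injective; (c) a monomorphism that is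
locally of finite type; (d) universally injective, locally of finite type and formally unramified
(lifting sense). In that case f is representable by schemes, separated and locally quasi-finite.
(Unramified is the etale-local condition locally of finite type and formally unramified on charts;
monomorphisms are taken in fppf sheaves.) -/
theorem result {S : Scheme.{u}} {X Y : AlgSp.Space S} (f : X ⟶ Y) :
    ((AlgSp.LocP (@LocallyOfFiniteType ⊓ @FormallyUnramified) f.hom ∧ Mono f.hom) ↔
      (AlgSp.LocP (@LocallyOfFiniteType ⊓ @FormallyUnramified) f.hom ∧ AlgSp.IsUnivInjectiveMor f.hom)) ∧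
    ((AlgSp.LocP (@LocallyOfFiniteType ⊓ @FormallyUnramified) f.hom ∧ Mono f.hom) ↔
      (AlgSp.LocP @LocallyOfFiniteType f.hom ∧ Mono f.hom)) ∧
    ((AlgSp.LocP (@LocallyOfFiniteType ⊓ @FormallyUnramified) f.hom ∧ Mono f.hom) ↔
      (AlgSp.IsUnivInjectiveMor f.hom ∧ AlgSp.LocP @LocallyOfFiniteType f.hom ∧ AlgSp.IsFormallyUnramifiedMor f.hom)) ∧
    (AlgSp.LocP @LocallyOfFiniteType f.hom ∧ Mono f.hom →
      AlgSp.Representable f.hom ∧ AlgSp.IsSeparatedMor f.hom ∧
        AlgSp.LocP (@LocallyQuasiFinite ⊓ @LocallyOfFiniteType) f.hom) := by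
  have hX := X.property
  have hY := Y.property
  -- basic implications
  have mono_inj : Mono f.hom → AlgSp.IsUnivInjectiveMor f.hom := by
    intro hm
    apply Groth.Agent.Helper15.InjOnFieldPts.isUnivInjectiveMor
    intro K _ str a b hab
    exact (cancel_mono f.hom).1 hab
  have unram_inj_mono : AlgSp.LocP (@LocallyOfFiniteType ⊓ @FormallyUnramified) f.hom →
      AlgSp.IsUnivInjectiveMor f.hom → Mono f.hom := by
    intro hu hi
    exact Groth.Agent.Helper15.mono_of_openImmersion_diagonal_of_univInjective hX f.hom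
      (Groth.Agent.Helper15.repWith_isOpenImmersion_diagonal_of_locP_unramified hX hY f.hom hu) hi
  have lft_of_unram : AlgSp.LocP (@LocallyOfFiniteType ⊓ @FormallyUnramified) f.hom →
      AlgSp.LocP @LocallyOfFiniteType f.hom := by
    intro hu U V a b φ ha hb comm
    exact (hu a b φ ha hb comm).1
  have fu_of_unram : AlgSp.LocP (@LocallyOfFiniteType ⊓ @FormallyUnramified) f.hom →
      AlgSp.LocP @FormallyUnramified f.hom := by
    intro hu U V a b φ ha hb comm
    exact (hu a b φ ha hb comm).2
  have unram_of_lft_mono : AlgSp.LocP @LocallyOfFiniteType f.hom → Mono f.hom →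
      AlgSp.LocP (@LocallyOfFiniteType ⊓ @FormallyUnramified) f.hom := by
    intro hl hm
    refine Groth.Agent.Helper15.locP_unramified_of_diagonal hX f.hom hl ?_
    haveI : IsIso (pullback.diagonal f.hom) := (pullback.isIso_diagonal_iff f.hom).2 hm
    exact Groth.Agent.Helper15.repWith_of_isIso _ _
  refine ⟨⟨fun h => ⟨h.1, mono_inj h.2⟩, fun h => ⟨h.1, unram_inj_mono h.1 h.2⟩⟩,
    ⟨fun h => ⟨lft_of_unram h.1, h.2⟩, fun h => ⟨unram_of_lft_mono h.1 h.2, h.2⟩⟩,
    ⟨fun h => ⟨mono_inj h.2, lft_of_unram h.1,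
      (Groth.Agent.Helper16.AS.isFormallyUnramifiedMor_iff_locP hX hY f.hom).2 (fu_of_unram h.1)⟩,
      fun h => ?_⟩, ?_⟩
  · have hfu := (Groth.Agent.Helper16.AS.isFormallyUnramifiedMor_iff_locP hX hY f.hom).1 h.2.2
    have hu : AlgSp.LocP (@LocallyOfFiniteType ⊓ @FormallyUnramified) f.hom :=
      fun U V a b φ ha hb comm => ⟨h.2.1 a b φ ha hb comm, hfu a b φ ha hb comm⟩
    exact ⟨hu, unram_inj_mono hu h.1⟩
  · rintro ⟨hl, hm⟩
    have hu := unram_of_lft_mono hl hm
    haveI := hm
    have hsep : AlgSp.IsSeparatedMor f.hom := Groth.Agent.Helper15.isSeparatedMor_of_mono f.hom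
    have hqf : AlgSp.LocP (@LocallyQuasiFinite ⊓ @LocallyOfFiniteType) f.hom := by
      intro U V a b φ ha hb comm
      obtain ⟨h1, h2⟩ := hu a b φ ha hb comm
      haveI : LocallyOfFiniteType φ.left := h1
      haveI : FormallyUnramified φ.left := h2
      exact ⟨Groth.Agent.Helper15.locallyQuasiFinite_of_formallyUnramified φ.left, h1⟩
    exact ⟨Groth.Agent.Helper15.LqfSep.representable_of_lqf_separated hX hY f.hom hqf hsep, hsep, hqf⟩

end Groth.Agent.S10613
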