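import Groth.Statements.S10614
import Groth.Agent.S10613
import Groth.Agent.Lib.Helper15.AlgSpUniv
import Groth.Agent.Lib.Helper15.AlgSpLocPRep
import Groth.Agent.Lib.Helper15.AlgSpLocP

set_option autoImplicit false
universe u
open CategoryTheory CategoryTheory.Limits AlgebraicGeometry
open AlgSp

namespace Groth.Agent.S10614

/-- For a morphism f : X ⟶ Y of algebraic spaces over S, being a closed immersion (representable by
closed immersions) is equivalent to each of: (a) universally closed plus unramified plus
monomorphism; (b) universally closed plus unramified plus universally injective; (c) a universally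
closed monomorphism that is locally of finite type; (d) universally closed, universally injective,
locally of finite type and formally unramified (lifting sense). (Unramified is the etale-local
condition locally of finite type and formally unramified on charts; monomorphisms are taken in fppf
sheaves.) -/
theorem result {S : Scheme.{u}} {X Y : AlgSp.Space S} (f : X ⟶ Y) :
    (AlgSp.RepWith @IsClosedImmersion f.hom ↔
      (AlgSp.IsUnivClosedMor f.hom ∧ AlgSp.LocP (@LocallyOfFiniteType ⊓ @FormallyUnramified) f.hom ∧ Mono f.hom)) ∧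
    (AlgSp.RepWith @IsClosedImmersion f.hom ↔
      (AlgSp.IsUnivClosedMor f.hom ∧ AlgSp.LocP (@LocallyOfFiniteType ⊓ @FormallyUnramified) f.hom ∧ AlgSp.IsUnivInjectiveMor f.hom)) ∧
    (AlgSp.RepWith @IsClosedImmersion f.hom ↔
      (AlgSp.IsUnivClosedMor f.hom ∧ AlgSp.LocP @LocallyOfFiniteType f.hom ∧ Mono f.hom)) ∧
    (AlgSp.RepWith @IsClosedImmersion f.hom ↔
      (AlgSp.IsUnivClosedMor f.hom ∧ AlgSp.IsUnivInjectiveMor f.hom ∧ AlgSp.LocP @LocallyOfFiniteType f.hom ∧
        AlgSp.IsFormallyUnramifiedMor f.hom)) := by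
  have hX := X.property
  have hY := Y.property
  obtain ⟨e1, e2, e3, e4⟩ := Groth.Agent.S10613.result f
  -- the core equivalence (c)
  have core : AlgSp.RepWith @IsClosedImmersion f.hom ↔
      (AlgSp.IsUnivClosedMor f.hom ∧ AlgSp.LocP @LocallyOfFiniteType f.hom ∧ Mono f.hom) := by
    constructor
    · intro h
      refine ⟨Groth.Agent.Helper15.isUnivClosedMor_of_repWith f.hom
        (Groth.Agent.Helper15.repWith_mono Groth.Agent.Helper15.isClosedImmersion_le_universallyClosed h), ?_, ?_⟩
      · have h1 : AlgSp.RepWith @LocallyOfFiniteType f.hom :=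
          Groth.Agent.Helper15.repWith_mono (Groth.Agent.Helper15.isClosedImmersion_le_isImmersion.trans
            Groth.Agent.Helper15.isImmersion_le_lft) h
        exact Groth.Agent.Helper15.locP_of_repWith Groth.Agent.Helper15.etale_le_lft f.hom h1
      · exact Groth.Agent.Helper15.mono_of_repWith (P := @IsClosedImmersion)
          (fun _ _ g hg => by haveI := hg; exact (inferInstance : Mono g)) f.hom h
    · rintro ⟨huc, hlft, hm⟩
      obtain ⟨hrep, -, -⟩ := e4 ⟨hlft, hm⟩
      have h1 : AlgSp.RepWith @UniversallyClosed f.hom :=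
        (Groth.Agent.Helper15.repWith_universallyClosed_iff f.hom hrep).2 huc
      have h2 : AlgSp.RepWith @LocallyOfFiniteType f.hom :=
        Groth.Agent.Helper15.repWith_of_locP Groth.Agent.Helper15.goodP_lft hY f.hom hrep hlft
      refine ⟨hrep, fun T V g fst snd sq => ?_⟩
      haveI : UniversallyClosed snd.left := h1.2 g fst snd sq
      haveI : LocallyOfFiniteType snd.left := h2.2 g fst snd sq
      haveI : Mono ((AlgSp.yon S).map snd) := by
        haveI := hm
        exact ⟨fun {Z} a b hab => sq.hom_ext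
          ((cancel_mono f.hom).1 (by rw [Category.assoc, Category.assoc, sq.w, ← Category.assoc,
            ← Category.assoc, hab])) hab⟩
      haveI : Mono snd := (AlgSp.yon S).mono_of_mono_map inferInstance
      haveI : Mono snd.left := inferInstance
      haveI : IsProper snd.left := {}
      exact (IsClosedImmersion.iff_isProper_and_mono snd.left).2 ⟨inferInstance, inferInstance⟩
  refine ⟨?_, ?_, core, ?_⟩
  · rw [core]
    constructor
    · rintro ⟨huc, hlft, hm⟩; exact ⟨huc, e2.2 ⟨hlft, hm⟩⟩
    · rintro ⟨huc, hu, hm⟩; exact ⟨huc, e2.1 ⟨hu, hm⟩⟩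
  · rw [core]
    constructor
    · rintro ⟨huc, hlft, hm⟩; exact ⟨huc, e1.1 (e2.2 ⟨hlft, hm⟩)⟩
    · rintro ⟨huc, hu, hi⟩; exact ⟨huc, e2.1 (e1.2 ⟨hu, hi⟩)⟩
  · rw [core]
    constructor
    · rintro ⟨huc, hlft, hm⟩; exact ⟨huc, e3.1 (e2.2 ⟨hlft, hm⟩)⟩
    · rintro ⟨huc, hi, hl, hfu⟩; exact ⟨huc, e2.1 (e3.2 ⟨hi, hl, hfu⟩)⟩

end Groth.Agent.S10614
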