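import Groth.Statements.S10615
import Groth.Agent.Lib.Helper15.EtLift3

set_option autoImplicit false
universe u
open CategoryTheory CategoryTheory.Limits AlgebraicGeometry
open AlgSp

namespace Groth.Agent.S10615

open Groth.Agent.Helper15 Groth.Agent.Helper15.EtLift

theorem result {S : Scheme.{u}} {X Y T T' : AlgSp.Space S} (f : X ⟶ Y)
    (hf : AlgSp.LocP @Smooth f.hom) (i : T ⟶ T')
    (hi : AlgSp.IsThickMor i.hom)
    (a : T ⟶ X) (b : T' ⟶ Y) (w : a ≫ f = i ≫ b) (t' : AlgSp.Points T'.obj) :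
    ∃ (V : Over S) (e : (AlgSp.yon S).obj V ⟶ T'.obj) (ℓ : (AlgSp.yon S).obj V ⟶ X.obj),
      AlgSp.RepWith @Etale e ∧ t' ∈ Set.range (AlgSp.Points.ofPt e) ∧ ℓ ≫ f.hom = e ≫ b.hom ∧
      ∀ (P : AlgSp.Sp S) (p₁ : P ⟶ T.obj) (p₂ : P ⟶ (AlgSp.yon S).obj V),
        IsPullback p₁ p₂ i.hom e → p₂ ≫ ℓ = p₁ ≫ a.hom := by
  classical
  have w' : a.hom ≫ f.hom = i.hom ≫ b.hom := congrArg (fun k => k.hom) w
  -- charts
  obtain ⟨V₀, d, hde, hds⟩ := Y.property.atlas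
  obtain ⟨U₁, c₁, β₁, hc₁e, hc₁s, hc₁⟩ := exists_chart_lift T'.property b.hom d hde hds
  obtain ⟨u₁, hu₁⟩ := surjective_ofPt c₁ hc₁s t'
  obtain ⟨N, hN, hu₁N, -⟩ :=
    exists_isAffineOpen_mem_and_subset (TopologicalSpace.Opens.mem_top u₁)
  let A : Type u := Γ(U₁.left, N)
  let s : Spec (.of A) ⟶ S := hN.fromSpec ≫ U₁.hom
  let ιO : ovA s ⟶ U₁ := Over.homMk hN.fromSpec rfl
  have hιe : RepWith @Etale ((yon S).map ιO) :=
    (repWith_yon_map_iff _ _).2 (show Etale hN.fromSpec from inferInstance)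
  obtain ⟨cA, hcA⟩ : ∃ cA : (yon S).obj (ovA s) ⟶ T'.obj, cA = (yon S).map ιO ≫ c₁ := ⟨_, rfl⟩
  have hcAe : RepWith @Etale cA := by
    rw [hcA]; exact (RepWith @Etale).comp_mem _ _ hιe hc₁e
  obtain ⟨βA, hβA⟩ : ∃ βA : ovA s ⟶ V₀, βA = ιO ≫ β₁ := ⟨_, rfl⟩
  have hcAb : cA ≫ b.hom = (yon S).map βA ≫ d := by
    rw [hcA, hβA, Category.assoc, hc₁, Functor.map_comp, Category.assoc]
  -- pull back the thickening
  have sqZ := hi.rep.isPullback cA
  set Z := hi.rep.pullback cA with hZ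
  set fZ := hi.rep.fst cA with hfZ
  set jZ := hi.rep.snd cA with hjZdef
  have hjZ : thick jZ.left := hi.property_snd cA
  haveI : IsClosedImmersion jZ.left := hjZ.1
  obtain ⟨I, ε, hε, hI⟩ := exists_iso_spec_quot_of_thick (A := A) jZ.left hjZ.2.surj
  have hεw : ε.hom ≫ (ovAI I s).hom = Z.hom := by
    show ε.hom ≫ Spec.map _ ≫ s = _
    rw [← Category.assoc, ← hε]
    exact Over.w jZ
  let εO : Z ≅ ovAI I s := Over.isoMk ε hεw
  have hεj : εO.hom ≫ jA I s = jZ := by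
    apply Over.OverMorphism.ext
    exact hε.symm
  obtain ⟨α₀, hα₀⟩ : ∃ α₀ : (yon S).obj (ovAI I s) ⟶ T.obj, α₀ = (yon S).map εO.inv ≫ fZ :=
    ⟨_, rfl⟩
  have sqZ' : IsPullback α₀ ((yon S).map (jA I s)) i.hom cA := by
    refine IsPullback.of_iso sqZ ((yon S).mapIso εO) (Iso.refl _) (Iso.refl _) (Iso.refl _)
      ?_ ?_ ?_ ?_
    · rw [hα₀, Iso.refl_hom, Category.comp_id, Functor.mapIso_hom, ← Functor.map_comp_assoc,
        Iso.hom_inv_id, (yon S).map_id, Category.id_comp]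
    · rw [Iso.refl_hom, Category.comp_id, Functor.mapIso_hom, ← Functor.map_comp, hεj]
    · simp
    · simp
  obtain ⟨α, hαdef⟩ : ∃ α : (yon S).obj (ovAI I s) ⟶ X.obj, α = α₀ ≫ a.hom := ⟨_, rfl⟩
  have hα : α ≫ f.hom = (yon S).map (jA I s) ≫ (yon S).map βA ≫ d := by
    rw [hαdef, Category.assoc, w', ← Category.assoc, sqZ'.w, Category.assoc, hcAb]
  -- the point
  obtain ⟨z₀, hz₀⟩ := hjZ.2.surj (hN.primeIdealOf ⟨u₁, hu₁N⟩)
  have hz : Spec.map (CommRingCat.ofHom (Ideal.Quotient.mk I)) (ε.hom z₀) =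
      hN.primeIdealOf ⟨u₁, hu₁N⟩ := by
    rw [← Scheme.Hom.comp_apply, ← hε, hz₀]
  obtain ⟨B, _, _, _, ℓ, hℓ1, hℓ2, ⟨x, hx⟩⟩ :=
    exists_lift_affine_thick X.property Y.property f.hom hf d hde I hI s βA α hα (ε.hom z₀)
  refine ⟨ovA (sB s B), (yon S).map (eB s B) ≫ cA, ℓ, ?_, ?_, ?_, ?_⟩
  · exact (RepWith @Etale).comp_mem _ _ (etale_eB s B) hcAe
  · refine ⟨Spec.map (CommRingCat.ofHom (Ideal.Quotient.mk (I.map (algebraMap A B)))) x, ?_⟩
    have h1 : (yon S).map (eB s B) ≫ cA = (yon S).map (eB s B ≫ ιO) ≫ c₁ := by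
      rw [hcA, Functor.map_comp, Category.assoc]
    rw [h1, ofPt_comp_yon_map, ← hu₁]
    congr 1
    show hN.fromSpec (Spec.map (CommRingCat.ofHom (algebraMap A B))
      (Spec.map (CommRingCat.ofHom (Ideal.Quotient.mk (I.map (algebraMap A B)))) x)) = u₁
    rw [← Scheme.Hom.comp_apply (Spec.map (CommRingCat.ofHom
      (Ideal.Quotient.mk (I.map (algebraMap A B))))), ← (isPullback_spec_quot I B).w,
      Scheme.Hom.comp_apply, hx, hz, hN.fromSpec_primeIdealOf]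
  · rw [hℓ1, Category.assoc, hcAb]
  · intro P p₁ p₂ sqP
    have big := (isPullback_yon_quot I s B).paste_horiz sqZ'
    have hκ1 : big.lift p₁ p₂ sqP.w ≫ ((yon S).map (qB I s B) ≫ α₀) = p₁ := big.lift_fst _ _ _
    have hκ2 : big.lift p₁ p₂ sqP.w ≫ (yon S).map (jA (I.map (algebraMap A B)) (sB s B)) = p₂ :=
      big.lift_snd _ _ _
    rw [← hκ2, Category.assoc, hℓ2, hαdef, ← Category.assoc, ← Category.assoc, Category.assoc _ _ α₀,
      hκ1]

end Groth.Agent.S10615
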