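import Groth.Statements.S10616
import Groth.Agent.Lib.Helper15.FSm2
import Groth.Agent.Lib.Helper16.AlgSp.FormalSp

set_option autoImplicit false
universe u
open CategoryTheory CategoryTheory.Limits AlgebraicGeometry
open AlgSp

namespace Groth.Agent.S10616

/-- Let a : F ⟶ G be a morphism of fppf sheaves on (Sch/S). If a is representable and smooth, then a is
formally smooth; if a is representable and etale, then a is formally etale; if a is representable
and unramified, then a is formally unramified (lifting conditions against square-zero thickenings of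
affine schemes). (The published statement is for transformations of arbitrary presheaves of sets on
(Sch/S)_fppf; this row takes fppf sheaves, the case of algebraic spaces.) -/
theorem result {S : Scheme.{u}} {F G : AlgSp.Sp S} (a : F ⟶ G) :
    (AlgSp.RepWith @Smooth a → AlgSp.IsFormallySmoothMor a) ∧
    (AlgSp.RepWith @Etale a → AlgSp.IsFormallyEtaleMor a) ∧
    (AlgSp.RepWith (@LocallyOfFiniteType ⊓ @FormallyUnramified) a → AlgSp.IsFormallyUnramifiedMor a) := by
  refine ⟨fun h sq => ?_, Groth.Agent.Helper16.AS.isFormallyEtaleMor_of_repWith, fun h => ?_⟩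
  · have hsm : Smooth (h.1.snd sq.bot).left := h.2 _ _ _ (h.1.isPullback sq.bot)
    refine Groth.Agent.Helper16.AS.hasLift_of_isPullback sq (h.1.isPullback sq.bot) ?_
    apply Groth.Agent.Helper15.FSm.isFormallySmoothHom_of_appLE
    intro U V hU hV hUV
    rw [HasRingHomProperty.iff_appLE (P := @Smooth)] at hsm
    exact (RingHom.smooth_def.mp (hsm ⟨V, hV⟩ ⟨U, hU⟩ hUV)).1
  · exact Groth.Agent.Helper16.AS.isFormallyUnramifiedMor_of_repWith
      ⟨h.1, fun _ _ g fst snd pb => (h.2 g fst snd pb).2⟩

end Groth.Agent.S10616
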