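import Groth.Statements.S10627
import Groth.Agent.Lib.Helper16.AlgSp.FormalSp6
import Groth.Agent.Lib.Helper15.AlgSpUnram

set_option autoImplicit false
universe u
open CategoryTheory CategoryTheory.Limits AlgebraicGeometry
open AlgSp

namespace Groth.Agent.S10627

/-- A morphism f : X ⟶ Y of algebraic spaces over S is etale if and only if it is locally of finite
presentation and formally etale (lifting sense). -/
theorem result {S : Scheme.{u}} {X Y : AlgSp.Space S} (f : X ⟶ Y) :
    AlgSp.IsEtaleMor f.hom ↔ AlgSp.LocP @LocallyOfFinitePresentation f.hom ∧ AlgSp.IsFormallyEtaleMor f.hom := by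
  rw [Groth.Agent.Helper16.AS.isFormallyEtaleMor_iff_locP X.property Y.property f.hom]
  constructor
  · intro hf
    have h := Groth.Agent.Helper15.locP_etale_of_isEtaleMor Y.property f.hom hf
    refine ⟨fun U V a b φ ha hb w => ?_, fun U V a b φ ha hb w => ?_⟩
    · exact ((Groth.Agent.Helper3.FormEt.etale_iff _).1 (h a b φ ha hb w)).1
    · exact ((Groth.Agent.Helper3.FormEt.etale_iff _).1 (h a b φ ha hb w)).2
  · rintro ⟨h1, h2⟩
    refine Groth.Agent.Helper15.isEtaleMor_of_locP_etale Y.property f.hom ?_
    intro U V a b φ ha hb w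
    exact (Groth.Agent.Helper3.FormEt.etale_iff _).2 ⟨h1 a b φ ha hb w, h2 a b φ ha hb w⟩

end Groth.Agent.S10627
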