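import Groth.Statements.S10632
import Groth.Agent.Lib.Helper16.AlgSp.FormalSp9
import Groth.Agent.S10627

set_option autoImplicit false
universe u
open CategoryTheory CategoryTheory.Limits AlgebraicGeometry
open AlgSp

namespace Groth.Agent.S10632

/-- Let e : Z ⟶ Y be an etale morphism of algebraic spaces over S, hY : Y ⟶ X, and let (iY : Y ⟶ Y', hY'
: Y' ⟶ X) be a universal first order thickening of Y over X. Let e' : Z' ⟶ Y' be etale with iZ : Z ⟶
Z' making Z = Y ×_{Y'} Z' a pullback square. Then (iZ, e' ≫ hY') is a universal first order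
thickening of Z over X. -/
theorem result {S : Scheme.{u}} {Z Y Y' Z' X : AlgSp.Space S} (e : Z ⟶ Y)
    (he : AlgSp.IsEtaleMor e.hom) (hY : Y ⟶ X) (iY : Y ⟶ Y') (hY' : Y' ⟶ X)
    (HU : AlgSp.IsUnivFOThick hY.hom iY.hom hY'.hom) (iZ : Z ⟶ Z') (e' : Z' ⟶ Y') (he' : AlgSp.IsEtaleMor e'.hom)
    (sq : IsPullback e.hom iZ.hom iY.hom e'.hom) :
    AlgSp.IsUnivFOThick (e ≫ hY).hom iZ.hom (e' ≫ hY').hom := by
  obtain ⟨h1, h2, h3⟩ := HU
  have hiZ := Groth.Agent.Helper16.AS.isFOThickMor_of_isPullback sq he' h1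
  have he'f : AlgSp.IsFormallyEtaleMor e'.hom := ((Groth.Agent.S10627.result e').1 he').2
  refine ⟨hiZ, ?_, ?_⟩
  · change iZ.hom ≫ e'.hom ≫ hY'.hom = e.hom ≫ hY.hom
    rw [← Category.assoc, ← sq.w, Category.assoc, h2]
  · intro T T' hT hT' j a b hj hw
    have hw1 : j ≫ b = (a ≫ e.hom) ≫ hY.hom := by rw [Category.assoc]; exact hw
    obtain ⟨b₁, ⟨hb1, hb2⟩, hbu⟩ := h3 hT hT' j (a ≫ e.hom) b hj hw1
    have hw2 : (a ≫ iZ.hom) ≫ e'.hom = j ≫ b₁ := by
      rw [Category.assoc, ← sq.w, ← Category.assoc, hb1]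
    obtain ⟨a', ⟨ha1, ha2⟩, hau⟩ :=
      Groth.Agent.Helper16.AS.existsUnique_lift_of_foThick hT' hj he'f hw2
    refine ⟨a', ⟨ha1, ?_⟩, ?_⟩
    · change a' ≫ e'.hom ≫ hY'.hom = b
      rw [← Category.assoc, ha2, hb2]
    · rintro a'' ⟨h4, h5⟩
      have h5' : a'' ≫ e'.hom ≫ hY'.hom = b := h5
      have : a'' ≫ e'.hom = b₁ := by
        apply hbu
        refine ⟨?_, by rw [Category.assoc]; exact h5'⟩
        rw [← Category.assoc, h4, Category.assoc, ← sq.w, Category.assoc]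
      exact hau a'' ⟨h4, this⟩

end Groth.Agent.S10632
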