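import Groth.Statements.S10636
import Groth.Agent.Lib.Helper15.UThick1

set_option autoImplicit false
universe u
open CategoryTheory CategoryTheory.Limits AlgebraicGeometry
open AlgSp

namespace Groth.Agent.S10636

open Groth.Agent.Helper15 Groth.Agent.Helper15.EtLift Groth.Agent.Helper15.UThick

theorem result {S : Scheme.{u}} {Z Z' X : AlgSp.Space S} (h : Z ⟶ X)
    (hh : AlgSp.IsFormallyUnramifiedMor h.hom) (i : Z ⟶ Z') (h' : Z' ⟶ X) (HU : AlgSp.IsUnivFOThick h.hom i.hom h'.hom) :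
    AlgSp.IsFormallyUnramifiedMor h'.hom := by
  classical
  obtain ⟨hi, hw, huniv⟩ := HU
  have hcl : RepWith @IsClosedImmersion i.hom :=
    repWith_mono Groth.Agent.Helper15.Thick.thick_le_isClosedImmersion' hi.1
  haveI hmono : Mono i.hom := mono_of_repWith
    (fun _ _ f (hf : IsClosedImmersion f) => (inferInstance : Mono f)) i.hom hcl
  intro sq l l' hl1 hl2 hl1' hl2'
  obtain ⟨A, I, sqz, str, top, bot, comm⟩ := sq
  change (yon S).obj (ovA str) ⟶ Z'.obj at l l'
  change (yon S).map (jA I str) ≫ l = top at hl1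
  change (yon S).map (jA I str) ≫ l' = top at hl1'
  change l ≫ h'.hom = bot at hl2
  change l' ≫ h'.hom = bot at hl2'
  -- the ideals
  obtain ⟨Ja, αa, sqa, -⟩ := exists_ideal_pullback i.hom str l hi.1
  obtain ⟨Jb, αb, sqb, -⟩ := exists_ideal_pullback i.hom str l' hi.1
  have hJa : Ja ^ 2 = ⊥ := sq_eq_bot_of_isFOThickMor Z'.property hi sqa
  have hJb : Jb ^ 2 = ⊥ := sq_eq_bot_of_isFOThickMor Z'.property hi sqb
  -- key: equality on `Spec (A ⧸ (Ja ⊔ Jb))`
  obtain ⟨K, hK⟩ : ∃ K : Ideal A, K = Ja ⊔ Jb := ⟨_, rfl⟩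
  have hJaK : Ja ≤ K := hK ▸ le_sup_left
  have hJbK : Jb ≤ K := hK ▸ le_sup_right
  obtain ⟨ca, hcadef⟩ : ∃ ca, ca = (yon S).map (facO str hJaK) ≫ αa := ⟨_, rfl⟩
  obtain ⟨cb, hcbdef⟩ : ∃ cb, cb = (yon S).map (facO str hJbK) ≫ αb := ⟨_, rfl⟩
  have hca : ca ≫ i.hom = (yon S).map (jA K str) ≫ l := by
    rw [hcadef]; exact factor_of_le sqa hJaK
  have hcb : cb ≫ i.hom = (yon S).map (jA K str) ≫ l' := by
    rw [hcbdef]; exact factor_of_le sqb hJbK
  -- Step 2: `ca = cb` by formal unramifiedness of `h`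
  have hcab : ca = cb := by
    have hsqz : (I.map (algebraMap A (A ⧸ K))) ^ 2 = ⊥ := by
      rw [← Ideal.map_pow, sqz, Ideal.map_bot]
    have hres : (yon S).map (jA (I.map (algebraMap A (A ⧸ K))) (sB str (A ⧸ K))) ≫ cb =
        (yon S).map (jA (I.map (algebraMap A (A ⧸ K))) (sB str (A ⧸ K))) ≫ ca := by
      rw [← cancel_mono i.hom, Category.assoc, Category.assoc, hca, hcb]
      have e := qB_jA I str (A ⧸ K)
      have e' : jA (I.map (algebraMap A (A ⧸ K))) (sB str (A ⧸ K)) ≫ jA K str =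
          qB I str (A ⧸ K) ≫ jA I str := e.symm
      rw [← Functor.map_comp_assoc, ← Functor.map_comp_assoc, e', Functor.map_comp,
        Category.assoc, Category.assoc, hl1, hl1']
    have hcomp : cb ≫ h.hom = ca ≫ h.hom := by
      have hw' : i.hom ≫ h'.hom = h.hom := hw
      rw [← hw', ← Category.assoc, ← Category.assoc, hca, hcb, Category.assoc, Category.assoc,
        hl2, hl2']
    let sq₁ : InfSq h.hom :=
      { A := A ⧸ K
        I := I.map (algebraMap A (A ⧸ K))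
        sq_zero := hsqz
        str := sB str (A ⧸ K)
        top := (yon S).map (jA (I.map (algebraMap A (A ⧸ K))) (sB str (A ⧸ K))) ≫ ca
        bot := ca ≫ h.hom
        comm := by rw [Category.assoc] }
    exact hh sq₁ ca cb rfl rfl hres hcomp
  have e1 : (yon S).map (jA K str) ≫ l = (yon S).map (jA K str) ≫ l' := by
    rw [← hca, ← hcb, hcab]
  -- Step 3: the universal property on `Spec (A ⧸ K ^ 2)`
  have e2 : (yon S).map (jA (K ^ 2) str) ≫ l = (yon S).map (jA (K ^ 2) str) ≫ l' := by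
    have hK2 : (K.map (algebraMap A (A ⧸ K ^ 2))) ^ 2 = ⊥ := by
      rw [← Ideal.map_pow]
      exact (Ideal.map_eq_bot_iff_le_ker _).2 (by rw [Ideal.Quotient.algebraMap_eq, Ideal.mk_ker])
    have hFO := isFOThickMor_jA (S := S) (K.map (algebraMap A (A ⧸ K ^ 2))) (sB str (A ⧸ K ^ 2)) hK2
    have e := qB_jA K str (A ⧸ K ^ 2)
    have e' : jA (K.map (algebraMap A (A ⧸ K ^ 2))) (sB str (A ⧸ K ^ 2)) ≫ jA (K ^ 2) str =
        qB K str (A ⧸ K ^ 2) ≫ jA K str := e.symm
    have e'' : ∀ {G : Sp S} (m : (yon S).obj (ovA str) ⟶ G),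
        (yon S).map (jA (K.map (algebraMap A (A ⧸ K ^ 2))) (sB str (A ⧸ K ^ 2))) ≫
          (yon S).map (jA (K ^ 2) str) ≫ m =
        (yon S).map (qB K str (A ⧸ K ^ 2)) ≫ (yon S).map (jA K str) ≫ m := by
      intro G m
      rw [← Functor.map_comp_assoc, e', Functor.map_comp, Category.assoc]
    have hca' : ∀ {G : Sp S} (m : Z'.obj ⟶ G),
        ca ≫ i.hom ≫ m = (yon S).map (jA K str) ≫ l ≫ m := by
      intro G m
      rw [← Category.assoc, hca, Category.assoc]
    have hw' : i.hom ≫ h'.hom = h.hom := hw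
    have hbc : (yon S).map (jA (K.map (algebraMap A (A ⧸ K ^ 2))) (sB str (A ⧸ K ^ 2))) ≫
        (((yon S).map (jA (K ^ 2) str) ≫ l) ≫ h'.hom) =
        ((yon S).map (qB K str (A ⧸ K ^ 2)) ≫ ca) ≫ h.hom := by
      rw [← hw']
      simp only [Category.assoc]
      rw [e'' (l ≫ h'.hom), hca']
    obtain ⟨a', -, huq⟩ := huniv (IsAlgSpace.yon_obj _) (IsAlgSpace.yon_obj _)
      ((yon S).map (jA (K.map (algebraMap A (A ⧸ K ^ 2))) (sB str (A ⧸ K ^ 2))))
      ((yon S).map (qB K str (A ⧸ K ^ 2)) ≫ ca)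
      (((yon S).map (jA (K ^ 2) str) ≫ l) ≫ h'.hom) hFO hbc
    have h1 := huq ((yon S).map (jA (K ^ 2) str) ≫ l) ⟨by
      rw [Category.assoc, hca, e'' l], rfl⟩
    have h2 := huq ((yon S).map (jA (K ^ 2) str) ≫ l') ⟨by
      rw [Category.assoc, hca, e1, e'' l'], by
      rw [Category.assoc, Category.assoc, hl2', hl2]⟩
    rw [h1, h2]
  -- Step 4: `Ja = Jb`
  have hK2le : ∀ {J₁ J₂ : Ideal A}, J₁ ^ 2 = ⊥ → J₂ ^ 2 = ⊥ → (J₁ ⊔ J₂) ^ 2 ≤ J₂ := by
    intro J₁ J₂ h₁ h₂
    rw [sq, Ideal.sup_mul, Ideal.mul_sup, Ideal.mul_sup, ← sq, ← sq, h₁, h₂]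
    simp only [bot_sup_eq, sup_bot_eq]
    exact sup_le Ideal.mul_le_right Ideal.mul_le_left
  have hJab : Ja ≤ Jb := by
    have hle : Jb ≤ Jb ⊔ K ^ 2 := le_sup_left
    have hle2 : K ^ 2 ≤ Jb ⊔ K ^ 2 := le_sup_right
    have hc := factor_of_le sqb hle
    have hfac : (yon S).map (jA (Jb ⊔ K ^ 2) str) ≫ l' = (yon S).map (jA (Jb ⊔ K ^ 2) str) ≫ l := by
      rw [← facO_jA (s := str) hle2, Functor.map_comp, Category.assoc, Category.assoc, e2]
    rw [hfac] at hc
    have := le_of_factor sqa _ hc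
    refine this.trans (sup_le le_rfl ?_)
    rw [hK]
    exact hK2le hJa hJb
  have hJba : Jb ≤ Ja := by
    have hle : Ja ≤ Ja ⊔ K ^ 2 := le_sup_left
    have hle2 : K ^ 2 ≤ Ja ⊔ K ^ 2 := le_sup_right
    have hc := factor_of_le sqa hle
    have hfac : (yon S).map (jA (Ja ⊔ K ^ 2) str) ≫ l = (yon S).map (jA (Ja ⊔ K ^ 2) str) ≫ l' := by
      rw [← facO_jA (s := str) hle2, Functor.map_comp, Category.assoc, Category.assoc, e2]
    rw [hfac] at hc
    have := le_of_factor sqb _ hc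
    refine this.trans (sup_le le_rfl ?_)
    rw [hK, sup_comm]
    exact hK2le hJb hJa
  have hKsq : K ^ 2 = ⊥ := by
    rw [hK, le_antisymm hJab hJba, sup_idem, hJb]
  -- conclusion
  have hiso : IsIso (jA (K ^ 2) str) := by
    have : IsIso (jA (K ^ 2) str).left := by
      show IsIso (Spec.map (CommRingCat.ofHom (Ideal.Quotient.mk (K ^ 2))))
      have hb : Function.Bijective (Ideal.Quotient.mk (K ^ 2)) := by
        refine ⟨?_, Ideal.Quotient.mk_surjective⟩
        rw [injective_iff_map_eq_zero]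
        intro x hx
        have := Ideal.Quotient.eq_zero_iff_mem.1 hx
        rw [hKsq] at this
        exact this
      have : IsIso (CommRingCat.ofHom (Ideal.Quotient.mk (K ^ 2))) :=
        (ConcreteCategory.isIso_iff_bijective _).2 hb
      infer_instance
    haveI : IsIso ((Over.forget S).map (jA (K ^ 2) str)) := this
    exact isIso_of_reflects_iso (jA (K ^ 2) str) (Over.forget S)
  exact (cancel_epi ((yon S).map (jA (K ^ 2) str))).1 e2

end Groth.Agent.S10636
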