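import Groth.Statements.S10638
import Groth.Agent.Lib.Helper15.UThick4

set_option autoImplicit false
universe u
open CategoryTheory CategoryTheory.Limits AlgebraicGeometry
open AlgSp

namespace Groth.Agent.S10638

open Groth.Agent.Helper15 Groth.Agent.Helper15.UThick Groth.Agent.Helper16.AS

/-- Take a formally unramified morphism h : Z ⟶ X of algebraic spaces over S with universal first order
thickening (iZ : Z ⟶ Z', hZ' : Z' ⟶ X). Let v : V ⟶ Z and w : U ⟶ X be etale morphisms of algebraic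
spaces and ψ : V ⟶ U with ψ ≫ w = v ≫ h. Then ψ is formally unramified, and for a universal first
order thickening (iV : V ⟶ V', hV' : V' ⟶ U) of V over U, every e' : V' ⟶ Z' with iV ≫ e' = v ≫ iZ
and e' ≫ hZ' = hV' ≫ w (there is exactly one) is etale. (The published statement also identifies the
conormal sheaf of V over U with the restriction of that of Z over X; this row omits that clause.) -/
theorem result {S : Scheme.{u}} {Z X Z' V U V' : AlgSp.Space S} (h : Z ⟶ X)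
    (hh : AlgSp.IsFormallyUnramifiedMor h.hom) (iZ : Z ⟶ Z') (hZ' : Z' ⟶ X) (HZ : AlgSp.IsUnivFOThick h.hom iZ.hom hZ'.hom)
    (v : V ⟶ Z) (w : U ⟶ X) (hv : AlgSp.IsEtaleMor v.hom) (hw : AlgSp.IsEtaleMor w.hom) (ψ : V ⟶ U)
    (c : ψ ≫ w = v ≫ h) :
    AlgSp.IsFormallyUnramifiedMor ψ.hom ∧
    ∀ (iV : V ⟶ V') (hV' : V' ⟶ U), AlgSp.IsUnivFOThick ψ.hom iV.hom hV'.hom →
      ∀ e' : V' ⟶ Z', iV ≫ e' = v ≫ iZ → e' ≫ hZ' = hV' ≫ w → AlgSp.IsEtaleMor e'.hom := by
  have hc : ψ.hom ≫ w.hom = v.hom ≫ h.hom := congrArg (fun k => k.hom) c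
  have hwf : IsFormallyEtaleMor w.hom := isFormallyEtaleMor_of_isEtaleMor U.property hw
  have hvf : IsFormallyEtaleMor v.hom := isFormallyEtaleMor_of_isEtaleMor V.property hv
  refine ⟨?_, ?_⟩
  · have h1 : IsFormallyUnramifiedMor (v.hom ≫ h.hom) :=
      isFormallyUnramifiedMor_comp ((isFormallyEtaleMor_iff.1 hvf).2) hh
    rw [← hc] at h1
    exact isFormallyUnramifiedMor_of_comp_right h1
  · intro iV hV' HV e' he1 he2 W' φ hφ
    have hhe1 : iV.hom ≫ e'.hom = v.hom ≫ iZ.hom := congrArg (fun k => k.hom) he1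
    have hhe2 : e'.hom ≫ hZ'.hom = hV'.hom ≫ w.hom := congrArg (fun k => k.hom) he2
    -- pull back `iV` along `φ`
    have sqV := HV.1.1.rep.isPullback φ
    obtain ⟨W, hWdef⟩ : ∃ W, W = HV.1.1.rep.pullback φ := ⟨_, rfl⟩
    have hfstV : RepWith @Etale (HV.1.1.rep.fst φ) := (RepWith @Etale).of_isPullback sqV.flip hφ
    have hφM : IsEtaleMor φ := fun U χ hχ => (RepWith @Etale).comp_mem _ _ hχ hφ
    have H1 := isUnivFOThick_etale_bc (IsAlgSpace.yon_obj W') HV hφM sqV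
    have H2 := isUnivFOThick_comp_formallyEtale H1 hwf
    have hvW : RepWith @Etale (HV.1.1.rep.fst φ ≫ v.hom) := hv _ hfstV
    have hε : (yon S).map (HV.1.1.rep.snd φ) ≫ (φ ≫ e'.hom)
        = (HV.1.1.rep.fst φ ≫ v.hom) ≫ iZ.hom := by
      rw [← Category.assoc, ← sqV.w, Category.assoc, hhe1, Category.assoc]
    have e3 : (HV.1.1.rep.fst φ ≫ ψ.hom) ≫ w.hom = (HV.1.1.rep.fst φ ≫ v.hom) ≫ h.hom := by
      rw [Category.assoc, hc, Category.assoc]
    have e4 : (φ ≫ hV'.hom) ≫ w.hom = (φ ≫ e'.hom) ≫ hZ'.hom := by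
      rw [Category.assoc, Category.assoc, hhe2]
    have H3 : IsUnivFOThick ((HV.1.1.rep.fst φ ≫ v.hom) ≫ h.hom)
        ((yon S).map (HV.1.1.rep.snd φ)) ((φ ≫ e'.hom) ≫ hZ'.hom) := by
      rw [← e3, ← e4]; exact H2
    exact repWith_etale_of_univ Z'.property HZ (HV.1.1.rep.snd φ) (HV.1.1.rep.fst φ ≫ v.hom) hvW
      (φ ≫ e'.hom) hε H3

end Groth.Agent.S10638
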