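import Mathlib
import Groth.Statements.S10642
import Groth.Agent.Lib.Helper19.Where.Flat

set_option autoImplicit false
universe u
open CategoryTheory CategoryTheory.Limits AlgebraicGeometry
open AlgSp

namespace Groth.Agent.S10642

/-- For morphisms f : X ⟶ Y, p : X ⟶ Z and q : Y ⟶ Z of algebraic spaces over S with f ≫ q = p, where p
is flat, closed and locally of finite presentation and q is locally of finite type, there is an open
subspace W of Z with the following property: a morphism of algebraic spaces g : Z' ⟶ Z factors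
through W exactly when the base change X' ⟶ Y' of f along g is flat. Here the base change of f along
g is any f' : X' ⟶ Y' obtained from pullback squares Y' = Y ×_Z Z' and X' = X ×_Y Y' of algebraic
spaces over S, and W ⊂ Z is given as a representable open immersion w : W ⟶ Z. -/
theorem result {S : Scheme.{u}} {X Y Z : AlgSp.Space S}
    (f : X ⟶ Y) (p : X ⟶ Z) (q : Y ⟶ Z) (hc : f ≫ q = p)
    (hp1 : AlgSp.LocP @LocallyOfFinitePresentation p.hom) (hp2 : AlgSp.LocP @Flat p.hom)
    (hp3 : AlgSp.IsClosedMor p.hom) (hq : AlgSp.LocP @LocallyOfFiniteType q.hom) :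
    ∃ (W : AlgSp.Space S) (w : W ⟶ Z), AlgSp.RepWith @IsOpenImmersion w.hom ∧
      ∀ (Z' : AlgSp.Space S) (g : Z' ⟶ Z),
        (∃ k : Z' ⟶ W, k ≫ w = g) ↔
          ∀ (Y' : AlgSp.Space S) (gY : Y' ⟶ Y) (q' : Y' ⟶ Z'),
            IsPullback gY.hom q'.hom q.hom g.hom →
            ∀ (X' : AlgSp.Space S) (gX : X' ⟶ X) (f' : X' ⟶ Y'),
              IsPullback gX.hom f'.hom f.hom gY.hom →
                AlgSp.LocP @Flat f'.hom := by
  subst hc
  obtain ⟨W, w, hW, hw, H⟩ := Groth.Agent.Helper19.Where.where_flat X.property Y.property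
    Z.property f.hom q.hom hp1 hp2 hp3 hq
  refine ⟨⟨W, hW⟩, ObjectProperty.homMk w, hw, fun Z' g => ?_⟩
  constructor
  · rintro ⟨k, hk⟩ Y' gY q' sqY X' gX f' sqX
    exact ((H Z'.obj g.hom Z'.property).1 ⟨k.hom, congrArg (fun m => m.hom) hk⟩) Y'.obj gY.hom
      q'.hom Y'.property sqY X'.obj gX.hom f'.hom X'.property sqX
  · intro h
    obtain ⟨k, hk⟩ := (H Z'.obj g.hom Z'.property).2 (fun Y' gY q' hY' sqY X' gX f' hX' sqX =>
      h ⟨Y', hY'⟩ (ObjectProperty.homMk gY) (ObjectProperty.homMk q') sqY ⟨X', hX'⟩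
        (ObjectProperty.homMk gX) (ObjectProperty.homMk f') sqX)
    exact ⟨ObjectProperty.homMk k, ObjectProperty.hom_ext _ hk⟩

end Groth.Agent.S10642
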