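import Groth.Statements.S10660
import Mathlib
import Groth.Agent.S2103
import Groth.Agent.Lib.Helper2.H1Desc2
import Groth.Agent.Lib.Helper21.KL5
-- import your own Groth.Agent.* helpers here

set_option autoImplicit false
universe u
open CategoryTheory CategoryTheory.Limits AlgebraicGeometry
open AlgSp

namespace Groth.Agent.S10660

section

open CategoryTheory CategoryTheory.Limits AlgebraicGeometry
open AlgSp

theorem seq_h1_of_koszul {R : Type u} [CommRing R] (rs : List R)
    (h : RegImm.Kind.koszul.Seq R rs) : RegImm.Kind.h1.Seq R rs := by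
  have h1 : LCI.IsKoszulRegularSeq R rs := h
  rw [Groth.Agent.Helper21.KL.isKoszulRegularSeq_iff] at h1
  exact (Groth.Agent.Helper2.H1Desc.h1_iff_acycAt rs).mpr (h1 (-1) (by norm_num))

theorem seq_quasi_of_h1 {R : Type u} [CommRing R] (rs : List R)
    (h : RegImm.Kind.h1.Seq R rs) : RegImm.Kind.quasi.Seq R rs :=
  Groth.Agent.S2103.result rs.get h

theorem regImm_mono {k k' : RegImm.Kind}
    (hkk' : ∀ (R : Type u) [CommRing R] (rs : List R), k.Seq R rs → k'.Seq R rs)
    {Z X : Scheme.{u}} (i : Z ⟶ X) (h : RegImm.IsRegularImmersion k i) :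
    RegImm.IsRegularImmersion k' i := by
  refine ⟨h.1, fun z => ?_⟩
  obtain ⟨U, hzU, hcl, rs, hrs, hker⟩ := h.2 z
  exact ⟨U, hzU, hcl, rs, hkk' _ rs hrs, hker⟩

theorem main {S : Scheme.{u}} {Z X : AlgSp.Space S} (i : Z ⟶ X)
    (hi : AlgSp.RepWith @IsImmersion i.hom) :
    (AlgSp.IsRegImmMor RegImm.Kind.koszul i.hom → AlgSp.IsRegImmMor RegImm.Kind.h1 i.hom) ∧
      (AlgSp.IsRegImmMor RegImm.Kind.h1 i.hom → AlgSp.IsRegImmMor RegImm.Kind.quasi i.hom) := by
  constructor
  · rintro ⟨hrep, h⟩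
    exact ⟨hrep, fun V W b fst snd hb sq =>
      regImm_mono (fun R _ rs => seq_h1_of_koszul rs) _ (h b fst snd hb sq)⟩
  · rintro ⟨hrep, h⟩
    exact ⟨hrep, fun V W b fst snd hb sq =>
      regImm_mono (fun R _ rs => seq_quasi_of_h1 rs) _ (h b fst snd hb sq)⟩

end

/-- For an immersion i : Z ⟶ X of algebraic spaces over S: if i is a Koszul-regular immersion then it is
an H_1-regular immersion, and if it is an H_1-regular immersion then it is a quasi-regular immersion
(all in the representable, etale-local-on-the-target sense). -/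
theorem result {S : Scheme.{u}} {Z X : AlgSp.Space S} (i : Z ⟶ X) (hi : AlgSp.RepWith @IsImmersion i.hom) :
    (AlgSp.IsRegImmMor RegImm.Kind.koszul i.hom → AlgSp.IsRegImmMor RegImm.Kind.h1 i.hom) ∧
      (AlgSp.IsRegImmMor RegImm.Kind.h1 i.hom → AlgSp.IsRegImmMor RegImm.Kind.quasi i.hom) := by
  exact Groth.Agent.S10660.main i hi

end Groth.Agent.S10660
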