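import Groth.Statements.S10661
import Mathlib
import Groth.Agent.S10660
import Groth.Agent.S5003
import Groth.Agent.S15821
import Groth.Agent.Lib.Helper15.AlgSpNoeth
-- import your own Groth.Agent.* helpers here

set_option autoImplicit false
universe u
open CategoryTheory CategoryTheory.Limits AlgebraicGeometry
open AlgSp

namespace Groth.Agent.S10661

section

open CategoryTheory CategoryTheory.Limits AlgebraicGeometry
open AlgSp

theorem seq_koszul_of_regular {R : Type u} [CommRing R] (rs : List R)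
    (h : RegImm.Kind.regular.Seq R rs) : RegImm.Kind.koszul.Seq R rs := by
  have h1 : RingTheory.Sequence.IsRegular R rs := h
  exact (Groth.Agent.S15821.result R rs h1.toIsWeaklyRegular).1

theorem koszul_of_quasi {S : Scheme.{u}} {Z X : AlgSp.Space S} (i : Z ⟶ X)
    (hX : AlgSp.IsLocNoethSp X.obj)
    (h : AlgSp.IsRegImmMor RegImm.Kind.quasi i.hom) :
    AlgSp.IsRegImmMor RegImm.Kind.koszul i.hom := by
  obtain ⟨hrep, h⟩ := h
  refine ⟨hrep, fun V W b fst snd hb sq => ?_⟩
  haveI : IsLocallyNoetherian V.left :=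
    Groth.Agent.Helper15.isLocallyNoetherian_of_etale_of_isLocNoethSp hX b hb
  have hq : RegImm.IsRegularImmersion RegImm.Kind.quasi snd.left := h b fst snd hb sq
  have hr : RegImm.IsRegularImmersion RegImm.Kind.regular snd.left :=
    (Groth.Agent.S5003.result snd.left).mpr hq
  exact Groth.Agent.S10660.regImm_mono (fun R _ rs => seq_koszul_of_regular rs) _ hr

theorem main {S : Scheme.{u}} {Z X : AlgSp.Space S} (i : Z ⟶ X) (hi : AlgSp.RepWith @IsImmersion i.hom)
    (hX : AlgSp.IsLocNoethSp X.obj) :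
    (AlgSp.IsRegImmMor RegImm.Kind.koszul i.hom ↔ AlgSp.IsRegImmMor RegImm.Kind.h1 i.hom) ∧
      (AlgSp.IsRegImmMor RegImm.Kind.h1 i.hom ↔ AlgSp.IsRegImmMor RegImm.Kind.quasi i.hom) := by
  have h0 := Groth.Agent.S10660.main i hi
  refine ⟨⟨h0.1, fun h => koszul_of_quasi i hX (h0.2 h)⟩, ⟨h0.2, fun h => h0.1 (koszul_of_quasi i hX h)⟩⟩

end

/-- For an immersion i : Z ⟶ X of algebraic spaces over S with X locally Noetherian (some etale
surjective chart is a locally Noetherian scheme), the three conditions Koszul-regular immersion,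
H_1-regular immersion and quasi-regular immersion on i are equivalent. -/
theorem result {S : Scheme.{u}} {Z X : AlgSp.Space S} (i : Z ⟶ X) (hi : AlgSp.RepWith @IsImmersion i.hom)
    (hX : AlgSp.IsLocNoethSp X.obj) :
    (AlgSp.IsRegImmMor RegImm.Kind.koszul i.hom ↔ AlgSp.IsRegImmMor RegImm.Kind.h1 i.hom) ∧
      (AlgSp.IsRegImmMor RegImm.Kind.h1 i.hom ↔ AlgSp.IsRegImmMor RegImm.Kind.quasi i.hom) := by
  exact Groth.Agent.S10661.main i hi hX

end Groth.Agent.S10661
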