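import Groth.Statements.S10662
import Mathlib
import Groth.Agent.Lib.Helper2.KindDescOpen
import Groth.Agent.Lib.Helper15.AlgSpLocP
import Groth.Agent.Lib.Helper28.RegBC4
import Groth.Agent.S1125
-- import your own Groth.Agent.* helpers here

set_option autoImplicit false
universe u
open CategoryTheory CategoryTheory.Limits AlgebraicGeometry
open AlgSp

namespace Groth.Agent.S10662

section

open CategoryTheory CategoryTheory.Limits AlgebraicGeometry
open AlgSp Groth.Agent.Helper15

theorem main {S : Scheme.{u}} (k : RegImm.Kind)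
    (hk : k = RegImm.Kind.koszul ∨ k = RegImm.Kind.h1 ∨ k = RegImm.Kind.quasi)
    {Z X X' : AlgSp.Space S} (i : Z ⟶ X) (g : X' ⟶ X)
    (hi : AlgSp.IsRegImmMor k i.hom) (hg : AlgSp.LocP @Flat g.hom)
    (P : AlgSp.Space S) (fst : P ⟶ Z) (i' : P ⟶ X')
    (sq : IsPullback fst.hom i'.hom i.hom g.hom) :
    AlgSp.IsRegImmMor k i'.hom := by
  have hk' : k ≠ RegImm.Kind.regular := by
    rcases hk with rfl | rfl | rfl <;> simp
  obtain ⟨hrep, h⟩ := hi
  have hrep' : Representable i'.hom := MorphismProperty.of_isPullback (P := Representable) sq hrep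
  refine ⟨hrep', fun V' W' b' fst' snd' hb' sq' => ?_⟩
  obtain ⟨U₀, p, hpe, hps⟩ := X.property.atlas
  have hprep := hpe.rep
  have sqT := hprep.isPullback (b' ≫ g.hom)
  haveI he : Etale (hprep.snd (b' ≫ g.hom)).left := hpe.property_snd _
  haveI hs : Surjective (hprep.snd (b' ≫ g.hom)).left := hps.property_snd _
  obtain ⟨r, hr⟩ := (yon S).map_surjective (hprep.fst (b' ≫ g.hom))
  have hνrep : RepWith @Etale ((yon S).map (hprep.snd (b' ≫ g.hom))) :=
    (repWith_yon_map_iff _ _).2 he
  have ha : RepWith @Etale ((yon S).map (hprep.snd (b' ≫ g.hom)) ≫ b') :=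
    (RepWith @Etale).comp_mem _ _ hνrep hb'
  have hcomm : ((yon S).map (hprep.snd (b' ≫ g.hom)) ≫ b') ≫ g.hom = (yon S).map r ≫ p := by
    rw [hr, Category.assoc]
    exact sqT.w.symm
  haveI hrflat : Flat r.left := hg _ p r ha hpe hcomm
  -- the base change of `i` to the atlas
  have hi₀ : RegImm.IsRegularImmersion k (hrep.snd p).left :=
    h p (hrep.fst p) (hrep.snd p) hpe (hrep.isPullback p)
  -- the big pullback square over `T`
  have sqB1 : IsPullback ((yon S).map (pullback.fst snd' (hprep.snd (b' ≫ g.hom))) ≫ fst')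
      ((yon S).map (pullback.snd snd' (hprep.snd (b' ≫ g.hom)))) i'.hom
      ((yon S).map (hprep.snd (b' ≫ g.hom)) ≫ b') :=
    ((IsPullback.of_hasPullback snd' (hprep.snd (b' ≫ g.hom))).map (yon S)).paste_horiz sq'
  have sqB2 : IsPullback
      (((yon S).map (pullback.fst snd' (hprep.snd (b' ≫ g.hom))) ≫ fst') ≫ fst.hom)
      ((yon S).map (pullback.snd snd' (hprep.snd (b' ≫ g.hom)))) i.hom
      (((yon S).map (hprep.snd (b' ≫ g.hom)) ≫ b') ≫ g.hom) :=
    sqB1.paste_horiz sq
  rw [hcomm] at sqB2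
  -- the comparison to the base change over the atlas
  have hw : (((yon S).map (pullback.fst snd' (hprep.snd (b' ≫ g.hom))) ≫ fst') ≫ fst.hom) ≫ i.hom =
      ((yon S).map (pullback.snd snd' (hprep.snd (b' ≫ g.hom)) ≫ r)) ≫ p := by
    rw [Functor.map_comp, Category.assoc]
    exact sqB2.w
  obtain ⟨q, hq⟩ := (yon S).map_surjective ((hrep.isPullback p).lift _ _ hw)
  have hq1 : (yon S).map q ≫ hrep.fst p =
      ((yon S).map (pullback.fst snd' (hprep.snd (b' ≫ g.hom))) ≫ fst') ≫ fst.hom := by
    rw [hq]; exact (hrep.isPullback p).lift_fst _ _ hw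
  have hq2 : (yon S).map q ≫ (yon S).map (hrep.snd p) =
      (yon S).map (pullback.snd snd' (hprep.snd (b' ≫ g.hom))) ≫ (yon S).map r := by
    rw [hq, (hrep.isPullback p).lift_snd _ _ hw, Functor.map_comp]
  have sqL : IsPullback ((yon S).map q) ((yon S).map (pullback.snd snd' (hprep.snd (b' ≫ g.hom))))
      ((yon S).map (hrep.snd p)) ((yon S).map r) := by
    refine IsPullback.of_right ?_ hq2 (hrep.isPullback p)
    rw [hq1]
    exact sqB2
  have sqL' : IsPullback q (pullback.snd snd' (hprep.snd (b' ≫ g.hom))) (hrep.snd p) r :=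
    IsPullback.of_map (yon S) ((yon S).map_injective (by
      rw [Functor.map_comp, Functor.map_comp]; exact hq2)) sqL
  have sqL'' : IsPullback q.left (pullback.snd snd' (hprep.snd (b' ≫ g.hom))).left
      (hrep.snd p).left r.left := sqL'.map (Over.forget S)
  have h1 : RegImm.IsRegularImmersion k (pullback.snd snd' (hprep.snd (b' ≫ g.hom))).left :=
    Groth.Agent.Helper28.RegBC.base_change _ _ _ _ sqL'' k hi₀
  -- descent along the etale surjective `T ⟶ V'`
  have sqD : IsPullback (pullback.fst snd' (hprep.snd (b' ≫ g.hom))).left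
      (pullback.snd snd' (hprep.snd (b' ≫ g.hom))).left snd'.left
      (hprep.snd (b' ≫ g.hom)).left :=
    (IsPullback.of_hasPullback snd' (hprep.snd (b' ≫ g.hom))).map (Over.forget S)
  haveI himm : IsImmersion snd'.left := by
    haveI := Groth.Agent.S1125.result.{u}
    refine MorphismProperty.of_isPullback_of_descendsAlong (P := @IsImmersion)
      (Q := (@Surjective ⊓ @Flat ⊓ @LocallyOfFinitePresentation : MorphismProperty Scheme.{u}))
      sqD.flip ⟨⟨hs, inferInstance⟩, inferInstance⟩ h1.1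
  have hopen : IsOpenMap (hprep.snd (b' ≫ g.hom)).left :=
    (hprep.snd (b' ≫ g.hom)).left.isOpenMap
  exact Groth.Agent.Helper2.KindDescOpen.main_open k hk' snd'.left
    (hprep.snd (b' ≫ g.hom)).left hopen _ _ sqD h1

end

/-- Let k be one of the kinds Koszul-regular, H_1-regular, quasi-regular; let i : Z ⟶ X be a regular
immersion of algebraic spaces over S of kind k and g : X' ⟶ X a flat morphism of algebraic spaces.
Then the base change Z ×_X X' ⟶ X' (any pullback square of algebraic spaces) is a regular immersion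
of kind k. -/
theorem result {S : Scheme.{u}} (k : RegImm.Kind) (hk : k = RegImm.Kind.koszul ∨ k = RegImm.Kind.h1 ∨ k = RegImm.Kind.quasi)
    {Z X X' : AlgSp.Space S} (i : Z ⟶ X) (g : X' ⟶ X)
    (hi : AlgSp.IsRegImmMor k i.hom) (hg : AlgSp.LocP @Flat g.hom)
    (P : AlgSp.Space S) (fst : P ⟶ Z) (i' : P ⟶ X') (sq : IsPullback fst.hom i'.hom i.hom g.hom) :
    AlgSp.IsRegImmMor k i'.hom := by
  exact Groth.Agent.S10662.main k hk i g hi hg P fst i' sq

end Groth.Agent.S10662
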