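import Groth.Statements.S10664
import Mathlib
import Groth.Agent.Lib.Helper2.KosBridge5
import Groth.Agent.Lib.Helper15.AlgSpLocP
import Groth.Agent.S8656
-- import your own Groth.Agent.* helpers here

set_option autoImplicit false
universe u
open CategoryTheory CategoryTheory.Limits AlgebraicGeometry
open AlgSp

namespace Groth.Agent.S10664

section

open CategoryTheory CategoryTheory.Limits AlgebraicGeometry
open AlgSp Groth.Agent.Helper15 Groth.Agent.Helper2.KosBridge

theorem main {S : Scheme.{u}} {X Y P U : AlgSp.Space S} (f : X ⟶ Y) (g : P ⟶ Y) (e : U ⟶ X)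
    (i : U ⟶ P)
    (hc : i ≫ g = e ≫ f) (hf : AlgSp.IsLCIMor f.hom) (hg : AlgSp.LocP @Smooth g.hom)
    (he : AlgSp.IsEtaleMor e.hom) (hi : AlgSp.RepWith @IsImmersion i.hom) :
    AlgSp.IsRegImmMor RegImm.Kind.koszul i.hom := by
  refine ⟨hi.rep, fun V W b fst snd hb sq => ?_⟩
  haveI hsnd : IsImmersion snd.left := hi.2 b fst snd sq
  have hfst : RepWith @Etale fst := (RepWith @Etale).of_isPullback sq.flip hb
  have ha₁ : RepWith @Etale (fst ≫ e.hom) := he fst hfst
  obtain ⟨T, c, hce, hcs⟩ := Y.property.atlas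
  have hcrep := hce.rep
  have sqc := hcrep.isPullback (b ≫ g.hom)
  haveI hνe : Etale (hcrep.snd (b ≫ g.hom)).left := hce.property_snd _
  haveI hνs : Surjective (hcrep.snd (b ≫ g.hom)).left := hcs.property_snd _
  obtain ⟨r, hr⟩ := (yon S).map_surjective (hcrep.fst (b ≫ g.hom))
  have hνrep : RepWith @Etale ((yon S).map (hcrep.snd (b ≫ g.hom))) :=
    (repWith_yon_map_iff _ _).2 hνe
  have ha' : RepWith @Etale ((yon S).map (hcrep.snd (b ≫ g.hom)) ≫ b) :=
    (RepWith @Etale).comp_mem _ _ hνrep hb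
  have hcomm1 : ((yon S).map (hcrep.snd (b ≫ g.hom)) ≫ b) ≫ g.hom = (yon S).map r ≫ c := by
    rw [hr, Category.assoc]
    exact sqc.w.symm
  haveI hrs : Smooth r.left := hg _ c r ha' hce hcomm1
  have sqO : IsPullback (pullback.fst snd (hcrep.snd (b ≫ g.hom))).left
      (pullback.snd snd (hcrep.snd (b ≫ g.hom))).left snd.left (hcrep.snd (b ≫ g.hom)).left :=
    (IsPullback.of_hasPullback snd (hcrep.snd (b ≫ g.hom))).map (Over.forget S)
  haveI hfe : Etale (pullback.fst snd (hcrep.snd (b ≫ g.hom))).left :=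
    MorphismProperty.of_isPullback (P := @Etale) sqO.flip hνe
  haveI hsi : IsImmersion (pullback.snd snd (hcrep.snd (b ≫ g.hom))).left :=
    MorphismProperty.of_isPullback (P := @IsImmersion) sqO hsnd
  have hfrep : RepWith @Etale ((yon S).map (pullback.fst snd (hcrep.snd (b ≫ g.hom)))) :=
    (repWith_yon_map_iff _ _).2 hfe
  have ha₂ : RepWith @Etale
      ((yon S).map (pullback.fst snd (hcrep.snd (b ≫ g.hom))) ≫ fst ≫ e.hom) :=
    (RepWith @Etale).comp_mem _ _ hfrep ha₁
  have hcomm2 : ((yon S).map (pullback.fst snd (hcrep.snd (b ≫ g.hom))) ≫ fst ≫ e.hom) ≫ f.hom =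
      (yon S).map (pullback.snd snd (hcrep.snd (b ≫ g.hom)) ≫ r) ≫ c := by
    have hig : e.hom ≫ f.hom = i.hom ≫ g.hom := by
      have := congrArg (fun φ => φ.hom) hc
      exact this.symm
    have e1 : (yon S).map (pullback.fst snd (hcrep.snd (b ≫ g.hom))) ≫ (yon S).map snd =
        (yon S).map (pullback.snd snd (hcrep.snd (b ≫ g.hom))) ≫
          (yon S).map (hcrep.snd (b ≫ g.hom)) := by
      rw [← Functor.map_comp, ← Functor.map_comp, pullback.condition]
    calc ((yon S).map (pullback.fst snd (hcrep.snd (b ≫ g.hom))) ≫ fst ≫ e.hom) ≫ f.hom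
        = (yon S).map (pullback.fst snd (hcrep.snd (b ≫ g.hom))) ≫ fst ≫ (e.hom ≫ f.hom) := by
          simp only [Category.assoc]
      _ = (yon S).map (pullback.fst snd (hcrep.snd (b ≫ g.hom))) ≫ (fst ≫ i.hom) ≫ g.hom := by
          rw [hig]; simp only [Category.assoc]
      _ = ((yon S).map (pullback.fst snd (hcrep.snd (b ≫ g.hom))) ≫ (yon S).map snd) ≫
            b ≫ g.hom := by
          rw [sq.w]; simp only [Category.assoc]
      _ = ((yon S).map (pullback.snd snd (hcrep.snd (b ≫ g.hom))) ≫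
            (yon S).map (hcrep.snd (b ≫ g.hom))) ≫ b ≫ g.hom := by rw [e1]
      _ = (yon S).map (pullback.snd snd (hcrep.snd (b ≫ g.hom))) ≫
            (((yon S).map (hcrep.snd (b ≫ g.hom)) ≫ b) ≫ g.hom) := by
          simp only [Category.assoc]
      _ = (yon S).map (pullback.snd snd (hcrep.snd (b ≫ g.hom)) ≫ r) ≫ c := by
          rw [hcomm1, Functor.map_comp, Category.assoc]
  have hlci : ∀ x, Synt.IsKoszulAt (pullback.snd snd (hcrep.snd (b ≫ g.hom)) ≫ r).left x :=
    hf _ c _ ha₂ hce hcomm2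
  have hKR' : RegImm.IsRegularImmersion .koszul
      (pullback.snd snd (hcrep.snd (b ≫ g.hom))).left :=
    Groth.Agent.S8656.main _ hlci r.left (pullback.snd snd (hcrep.snd (b ≫ g.hom))).left
      (by rw [← Over.comp_left])
  have hopen : IsOpenMap (hcrep.snd (b ≫ g.hom)).left :=
    (hcrep.snd (b ≫ g.hom)).left.isOpenMap
  exact kr_of_baseChange_surjective snd.left (hcrep.snd (b ≫ g.hom)).left hopen
    (pullback.snd snd (hcrep.snd (b ≫ g.hom))).left (pullback.fst snd (hcrep.snd (b ≫ g.hom))).left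
    sqO hKR'

end

/-- For a local complete intersection (Koszul) morphism f : X ⟶ Y of algebraic spaces over S, a smooth g
: P ⟶ Y, an etale e : U ⟶ X and a representable immersion i : U ⟶ P with i ≫ g = e ≫ f, the
immersion i is Koszul-regular as an immersion of algebraic spaces. -/
theorem result {S : Scheme.{u}} {X Y P U : AlgSp.Space S} (f : X ⟶ Y) (g : P ⟶ Y) (e : U ⟶ X) (i : U ⟶ P)
    (hc : i ≫ g = e ≫ f) (hf : AlgSp.IsLCIMor f.hom) (hg : AlgSp.LocP @Smooth g.hom)
    (he : AlgSp.IsEtaleMor e.hom) (hi : AlgSp.RepWith @IsImmersion i.hom) :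
    AlgSp.IsRegImmMor RegImm.Kind.koszul i.hom := by
  exact Groth.Agent.S10664.main f g e i hc hf hg he hi

end Groth.Agent.S10664
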