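import Groth.Statements.S10665
import Mathlib
import Groth.Agent.Lib.Helper2.KosBridge5
import Groth.Agent.Lib.Helper15.AlgSpLocP
import Groth.Agent.S8661
-- import your own Groth.Agent.* helpers here

set_option autoImplicit false
universe u
open CategoryTheory CategoryTheory.Limits AlgebraicGeometry
open AlgSp

namespace Groth.Agent.S10665

section

open CategoryTheory CategoryTheory.Limits AlgebraicGeometry
open AlgSp Groth.Agent.Helper15 Groth.Agent.Helper2.KosBridge

theorem main {S : Scheme.{u}} {X Y : AlgSp.Space S} (i : X ⟶ Y)
    (hi : AlgSp.IsRegImmMor RegImm.Kind.koszul i.hom) :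
    AlgSp.IsLCIMor i.hom := by
  obtain ⟨hrep, hloc⟩ := hi
  intro U V a b h ha hb comm
  have sq := hrep.isPullback b
  have hfst : RepWith @Etale (hrep.fst b) := (RepWith @Etale).of_isPullback sq.flip hb
  obtain ⟨u, hu⟩ := (yon S).map_surjective (sq.lift a ((yon S).map h) comm)
  have hu1 : (yon S).map u ≫ hrep.fst b = a := by rw [hu, sq.lift_fst]
  have hu2 : u ≫ hrep.snd b = h := by
    apply (yon S).map_injective
    rw [Functor.map_comp, hu, sq.lift_snd]
  haveI hue : Etale u.left := etale_of_comp_repWith a (hrep.fst b) u hu1 ha hfst
  have hh : h.left = u.left ≫ (hrep.snd b).left := by rw [← Over.comp_left, hu2]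
  show ∀ x, Synt.IsKoszulAt h.left x
  rw [hh]
  have hKR : RegImm.IsRegularImmersion .koszul (hrep.snd b).left :=
    hloc b (hrep.fst b) (hrep.snd b) hb sq
  exact Groth.Agent.S8661.main u.left (hrep.snd b).left
    (fun x => isKoszulAt_of_smooth u.left x)
    (fun y => Groth.Agent.Helper28.RegImmIso.isKoszulAt_of_koszul _ hKR y)

end

/-- A Koszul-regular immersion between algebraic spaces over S (representable, Koszul-regular immersion
on every etale scheme chart of the target) is a local complete intersection morphism (Koszul at
every point, etale locally on source and target). -/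
theorem result {S : Scheme.{u}} {X Y : AlgSp.Space S} (i : X ⟶ Y) (hi : AlgSp.IsRegImmMor RegImm.Kind.koszul i.hom) :
    AlgSp.IsLCIMor i.hom := by
  exact Groth.Agent.S10665.main i hi

end Groth.Agent.S10665
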