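import Groth.Statements.S10666
import Mathlib
import Groth.Agent.Lib.Helper2.KosBridge5
import Groth.Agent.Lib.Helper15.AlgSpLocP
import Groth.Agent.S9729
-- import your own Groth.Agent.* helpers here

set_option autoImplicit false
universe u
open CategoryTheory CategoryTheory.Limits AlgebraicGeometry
open AlgSp

namespace Groth.Agent.S10666

section

open CategoryTheory CategoryTheory.Limits AlgebraicGeometry
open AlgSp Groth.Agent.Helper15 Groth.Agent.Helper2.KosBridge

theorem main {S : Scheme.{u}} {X Y Z : AlgSp.Space S} (f : X ⟶ Y) (p : X ⟶ Z) (q : Y ⟶ Z)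
    (hc : f ≫ q = p)
    (hq : AlgSp.LocP @Smooth q.hom) (hp : AlgSp.IsLCIMor p.hom) :
    AlgSp.IsLCIMor f.hom := by
  intro U V a b h ha hb comm
  obtain ⟨W, c, hce, hcs⟩ := Z.property.atlas
  have hcrep := hce.rep
  have sq := hcrep.isPullback (b ≫ q.hom)
  haveI hνe : Etale (hcrep.snd (b ≫ q.hom)).left := hce.property_snd _
  haveI hνs : Surjective (hcrep.snd (b ≫ q.hom)).left := hcs.property_snd _
  obtain ⟨r, hr⟩ := (yon S).map_surjective (hcrep.fst (b ≫ q.hom))
  have hνrep : RepWith @Etale ((yon S).map (hcrep.snd (b ≫ q.hom))) :=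
    (repWith_yon_map_iff _ _).2 hνe
  have ha' : RepWith @Etale ((yon S).map (hcrep.snd (b ≫ q.hom)) ≫ b) :=
    (RepWith @Etale).comp_mem _ _ hνrep hb
  have hcomm1 : ((yon S).map (hcrep.snd (b ≫ q.hom)) ≫ b) ≫ q.hom = (yon S).map r ≫ c := by
    rw [hr, Category.assoc]
    exact sq.w.symm
  haveI hrs : Smooth r.left := hq _ c r ha' hce hcomm1
  have sqO : IsPullback (pullback.fst h (hcrep.snd (b ≫ q.hom))).left
      (pullback.snd h (hcrep.snd (b ≫ q.hom))).left h.left (hcrep.snd (b ≫ q.hom)).left :=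
    (IsPullback.of_hasPullback h (hcrep.snd (b ≫ q.hom))).map (Over.forget S)
  haveI hfe : Etale (pullback.fst h (hcrep.snd (b ≫ q.hom))).left :=
    MorphismProperty.of_isPullback (P := @Etale) sqO.flip hνe
  have hfrep : RepWith @Etale ((yon S).map (pullback.fst h (hcrep.snd (b ≫ q.hom)))) :=
    (repWith_yon_map_iff _ _).2 hfe
  have ha'' : RepWith @Etale ((yon S).map (pullback.fst h (hcrep.snd (b ≫ q.hom))) ≫ a) :=
    (RepWith @Etale).comp_mem _ _ hfrep ha
  have hcomm2 : ((yon S).map (pullback.fst h (hcrep.snd (b ≫ q.hom))) ≫ a) ≫ p.hom =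
      (yon S).map (pullback.snd h (hcrep.snd (b ≫ q.hom)) ≫ r) ≫ c := by
    have hpq : p.hom = f.hom ≫ q.hom := by rw [← hc]; rfl
    have e1 : (yon S).map (pullback.fst h (hcrep.snd (b ≫ q.hom))) ≫ (yon S).map h =
        (yon S).map (pullback.snd h (hcrep.snd (b ≫ q.hom))) ≫
          (yon S).map (hcrep.snd (b ≫ q.hom)) := by
      rw [← Functor.map_comp, ← Functor.map_comp, pullback.condition]
    calc ((yon S).map (pullback.fst h (hcrep.snd (b ≫ q.hom))) ≫ a) ≫ p.hom
        = (yon S).map (pullback.fst h (hcrep.snd (b ≫ q.hom))) ≫ (a ≫ f.hom) ≫ q.hom := by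
          rw [hpq]; simp only [Category.assoc]
      _ = ((yon S).map (pullback.fst h (hcrep.snd (b ≫ q.hom))) ≫ (yon S).map h) ≫ b ≫ q.hom := by
          rw [comm]; simp only [Category.assoc]
      _ = ((yon S).map (pullback.snd h (hcrep.snd (b ≫ q.hom))) ≫
            (yon S).map (hcrep.snd (b ≫ q.hom))) ≫ b ≫ q.hom := by rw [e1]
      _ = (yon S).map (pullback.snd h (hcrep.snd (b ≫ q.hom))) ≫
            (((yon S).map (hcrep.snd (b ≫ q.hom)) ≫ b) ≫ q.hom) := by
          simp only [Category.assoc]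
      _ = (yon S).map (pullback.snd h (hcrep.snd (b ≫ q.hom)) ≫ r) ≫ c := by
          rw [hcomm1, Functor.map_comp, Category.assoc]
  have hlci : ∀ x, Synt.IsKoszulAt (pullback.snd h (hcrep.snd (b ≫ q.hom)) ≫ r).left x :=
    hp _ c _ ha'' hce hcomm2
  have hlci' : ∀ x, Synt.IsKoszulAt (pullback.snd h (hcrep.snd (b ≫ q.hom))).left x := by
    intro x
    refine Groth.Agent.S9729.main (pullback.snd h (hcrep.snd (b ≫ q.hom))).left r.left ?_ x
    rw [← Over.comp_left]
    exact hlci
  have hopen : IsOpenMap (hcrep.snd (b ≫ q.hom)).left :=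
    (hcrep.snd (b ≫ q.hom)).left.isOpenMap
  exact isKoszulAt_of_baseChange_surjective h.left (hcrep.snd (b ≫ q.hom)).left hopen
    (pullback.snd h (hcrep.snd (b ≫ q.hom))).left (pullback.fst h (hcrep.snd (b ≫ q.hom))).left
    sqO hlci'

end

/-- For morphisms f : X ⟶ Y, p : X ⟶ Z, q : Y ⟶ Z of algebraic spaces over S with f ≫ q = p: if q is
smooth and p is a local complete intersection morphism, then so is f. -/
theorem result {S : Scheme.{u}} {X Y Z : AlgSp.Space S} (f : X ⟶ Y) (p : X ⟶ Z) (q : Y ⟶ Z) (hc : f ≫ q = p)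
    (hq : AlgSp.LocP @Smooth q.hom) (hp : AlgSp.IsLCIMor p.hom) :
    AlgSp.IsLCIMor f.hom := by
  exact Groth.Agent.S10666.main f p q hc hq hp

end Groth.Agent.S10666
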