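import Mathlib
import Groth.Statements.S10670
import Groth.Agent.Lib.Helper19.ConnBC.Apps
import Groth.Agent.Lib.Helper15.AlgSpLim8

set_option autoImplicit false
universe u
open CategoryTheory CategoryTheory.Limits AlgebraicGeometry
open AlgSp

namespace Groth.Agent.S10670

/-- For morphisms f : X ⟶ Y and g : Y' ⟶ Y between algebraic spaces over S, f' : X' ⟶ Y' the base change
of f along g, an algebraically closed field point k' of Y' and an algebraically closed field point k
of Y whose class in |Y| is the image of the class of k', the fibres X'_{k'} and X_k (pullbacks in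
fppf sheaves) have the same number of connected components of their spaces of points, counted in ℕ∞.
With g the identity this says the number of geometric connected components of the fibre over a point
of |Y| is well defined. -/
theorem result {S : Scheme.{u}} {X Y X' Y' : AlgSp.Space S} (f : X ⟶ Y) (g : Y' ⟶ Y) (gX : X' ⟶ X) (f' : X' ⟶ Y')
    (hsq : IsPullback gX.hom f'.hom f.hom g.hom)
    (k' : AlgSp.FieldPt Y'.obj) (hk' : k'.IsGeometric) (k : AlgSp.FieldPt Y.obj) (hk : k.IsGeometric)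
    (hkk : AlgSp.Points.mk k = AlgSp.Points.map g.hom (AlgSp.Points.mk k'))
    (Xk' : AlgSp.Sp S) (a' : Xk' ⟶ X'.obj) (b' : Xk' ⟶ (AlgSp.yon S).obj k'.pt) (h' : IsPullback a' b' f'.hom k'.toHom)
    (Xk : AlgSp.Sp S) (a : Xk ⟶ X.obj) (b : Xk ⟶ (AlgSp.yon S).obj k.pt) (h : IsPullback a b f.hom k.toHom) :
    ENat.card (_root_.ConnectedComponents (AlgSp.Points Xk')) = ENat.card (_root_.ConnectedComponents (AlgSp.Points Xk)) := by
  have h'' : CategoryTheory.IsPullback (a' ≫ gX.hom) b' f.hom (k'.toHom ≫ g.hom) := h'.paste_horiz hsq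
  rw [← Groth.Agent.Helper15.AlgSpLim.ofField_toHom, ← Groth.Agent.Helper15.AlgSpLim.ofField_toHom,
    Groth.Agent.Helper15.map_ofField, Groth.Agent.Helper15.ofField_eq_iff] at hkk
  obtain ⟨Ω, _, w, α, β, hαβ⟩ := hkk
  haveI : IsAlgClosed k.K := hk
  haveI : IsAlgClosed k'.K := hk'
  have hΩ := CategoryTheory.IsPullback.of_hasPullback f.hom ((AlgSp.yon S).map α ≫ k.toHom)
  set pΩ₁ := pullback.fst f.hom ((AlgSp.yon S).map α ≫ k.toHom)
  set pΩ₂ := pullback.snd f.hom ((AlgSp.yon S).map α ≫ k.toHom)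
  -- the map to `Xk`
  have wc : pΩ₁ ≫ f.hom = (pΩ₂ ≫ (AlgSp.yon S).map α) ≫ k.toHom := by
    rw [Category.assoc]; exact hΩ.w
  have hc : CategoryTheory.IsPullback (h.lift pΩ₁ (pΩ₂ ≫ (AlgSp.yon S).map α) wc) pΩ₂ b
      ((AlgSp.yon S).map α) := by
    refine CategoryTheory.IsPullback.of_right ?_ (h.lift_snd _ _ _) h
    rw [h.lift_fst]
    exact hΩ
  have wc' : pΩ₁ ≫ f.hom = (pΩ₂ ≫ (AlgSp.yon S).map β) ≫ k'.toHom ≫ g.hom := by
    rw [Category.assoc, ← hαβ]; exact hΩ.w
  have hc' : CategoryTheory.IsPullback (h''.lift pΩ₁ (pΩ₂ ≫ (AlgSp.yon S).map β) wc') pΩ₂ b'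
      ((AlgSp.yon S).map β) := by
    refine CategoryTheory.IsPullback.of_right ?_ (h''.lift_snd _ _ _) h''
    rw [h''.lift_fst, ← hαβ]
    exact hΩ
  have hXk : AlgSp.IsAlgSpace Xk :=
    Groth.Agent.Helper15.isAlgSpace_of_isPullback Y.property.diag X.property
      (AlgSp.IsAlgSpace.yon_obj _) h
  have hXk' : AlgSp.IsAlgSpace Xk' :=
    Groth.Agent.Helper15.isAlgSpace_of_isPullback Y'.property.diag X'.property
      (AlgSp.IsAlgSpace.yon_obj _) h'
  have e1 := Groth.Agent.Helper19.ConnBC.bijective_connectedComponentsMap_of_isSepClosed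
    (K₁ := k.K) (K₂ := Ω) hXk hc
  have e2 := Groth.Agent.Helper19.ConnBC.bijective_connectedComponentsMap_of_isSepClosed
    (K₁ := k'.K) (K₂ := Ω) hXk' hc'
  rw [← ENat.card_congr (Equiv.ofBijective _ e2), ← ENat.card_congr (Equiv.ofBijective _ e1)]

end Groth.Agent.S10670
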