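import Groth.Statements.S10676
import Groth.Agent.Lib.Helper15.QfMulti5

set_option autoImplicit false
universe u
open CategoryTheory CategoryTheory.Limits AlgebraicGeometry
open AlgSp

namespace Groth.Agent.S10676

/-- For a separated morphism f : X ⟶ Y of algebraic spaces over S which is locally of finite type, a
point y of |Y| and a finite set xs of points of |X| mapping to y at each of which f is quasi-finite
(some etale chart diagram through the point has top arrow locally quasi-finite and locally of finite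
type on an open neighbourhood), assuming moreover that f is quasi-compact or Y is decent: there are
an etale morphism of algebraic spaces a : U ⟶ Y and a point u of |U| over y such that for the base
change P = U ×_Y X there is an open and closed subspace V ⊂ P, finite over U, such that every point
of |V| over u maps into xs and no point of |P| outside |V| lying over u maps into xs. -/
theorem result {S : Scheme.{u}} {X Y : AlgSp.Space S} (f : X ⟶ Y) (y : AlgSp.Points Y.obj)
    (xs : Finset (AlgSp.Points X.obj)) (hxs : ∀ x ∈ xs, AlgSp.Points.map f.hom x = y)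
    (hf1 : AlgSp.LocP @LocallyOfFiniteType f.hom) (hf2 : AlgSp.IsSeparatedMor f.hom)
    (hf3 : ∀ x ∈ xs, AlgSp.HasAtMor (fun U _ h u => ∃ W : U.Opens, u ∈ W ∧ LocallyQuasiFinite (W.ι ≫ h) ∧ LocallyOfFiniteType (W.ι ≫ h)) f.hom x)
    (hf4 : AlgSp.IsQuasiCompactMor f.hom ∨ AlgSp.IsDecent Y.obj) :
    ∃ (U : AlgSp.Space S) (a : U ⟶ Y) (u : AlgSp.Points U.obj), AlgSp.IsEtaleMor a.hom ∧ AlgSp.Points.map a.hom u = y ∧
      ∀ (P : AlgSp.Space S) (prX : P ⟶ X) (prU : P ⟶ U), IsPullback prX.hom prU.hom f.hom a.hom →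
        ∃ (V : AlgSp.Space S) (jV : V ⟶ P), AlgSp.RepWith @IsOpenImmersion jV.hom ∧ AlgSp.RepWith @IsClosedImmersion jV.hom ∧
          AlgSp.IsFiniteMor (jV ≫ prU).hom ∧
          (∀ v : AlgSp.Points V.obj, AlgSp.Points.map (jV ≫ prU).hom v = u → AlgSp.Points.map (jV ≫ prX).hom v ∈ xs) ∧
          ∀ w : AlgSp.Points P.obj, w ∉ Set.range (AlgSp.Points.map jV.hom) → AlgSp.Points.map prU.hom w = u →
            AlgSp.Points.map prX.hom w ∉ xs := by
  obtain ⟨T₁, Vo, a, t₁, ψ, b, comm, hae, hay, hfin, hVin, hP⟩ :=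
    Groth.Agent.Helper15.QfMulti.exists_etale_split_multi X.property Y.property f.hom hf1 hf2 y xs
      hxs hf3 hf4
  refine ⟨⟨(yon S).obj T₁, IsAlgSpace.yon_obj T₁⟩, ObjectProperty.homMk a,
    Points.ofScheme T₁ t₁, Groth.Agent.Helper15.isEtaleMor_of_repWith_etale a hae, ?_, ?_⟩
  · change Points.map a (Points.ofScheme T₁ t₁) = y
    rw [← Points.ofPt_eq_map_ofScheme, hay]
  · intro P prX prU sq
    obtain ⟨hopen, hclosed, hout⟩ := hP P.obj prX.hom prU.hom sq
    refine ⟨⟨(yon S).obj Vo, IsAlgSpace.yon_obj Vo⟩,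
      ObjectProperty.homMk (sq.lift b ((yon S).map ψ) comm), hopen, hclosed, ?_, ?_, hout⟩
    · change IsFiniteMor (sq.lift b ((yon S).map ψ) comm ≫ prU.hom)
      rw [sq.lift_snd, Groth.Agent.Helper15.isFiniteMor_iff_affRep]
      exact Groth.Agent.Helper15.affRep_of_repWith ((repWith_yon_map_iff _ _).2 hfin)
    · intro v hv
      obtain ⟨v₀, rfl⟩ := (Points.schemeEquiv Vo).surjective v
      change Points.map (sq.lift b ((yon S).map ψ) comm ≫ prU.hom) (Points.ofScheme Vo v₀) =
        Points.ofScheme T₁ t₁ at hv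
      rw [sq.lift_snd, ← Points.ofPt_eq_map_ofScheme, Groth.Agent.Helper15.ofPt_yon_map] at hv
      have hv' : ψ.left v₀ = t₁ := (Points.schemeEquiv T₁).injective hv
      change Points.map (sq.lift b ((yon S).map ψ) comm ≫ prX.hom) (Points.ofScheme Vo v₀) ∈ xs
      rw [sq.lift_fst, ← Points.ofPt_eq_map_ofScheme]
      exact hVin v₀ hv'

end Groth.Agent.S10676
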