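import Groth.Statements.S10677
import Groth.Agent.Lib.Helper15.QfSplit

set_option autoImplicit false
universe u
open CategoryTheory CategoryTheory.Limits AlgebraicGeometry
open AlgSp

namespace Groth.Agent.S10677

/-- For a separated morphism f : X ⟶ Y of algebraic spaces over S which is locally of finite type and a
point x of |X| with image y at which f is quasi-finite (some etale chart diagram through x has top
arrow locally quasi-finite and locally of finite type on an open neighbourhood), there are an etale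
morphism a : U ⟶ Y and a point u of |U| over y such that for the base change P = U ×_Y X there is an
open and closed subspace V ⊂ P, finite over U, containing a point mapping to x in |X| and to u in
|U|. -/
theorem result {S : Scheme.{u}} {X Y : AlgSp.Space S} (f : X ⟶ Y) (x : AlgSp.Points X.obj)
    (hf1 : AlgSp.LocP @LocallyOfFiniteType f.hom) (hf2 : AlgSp.IsSeparatedMor f.hom)
    (hf3 : AlgSp.HasAtMor (fun U _ h u => ∃ W : U.Opens, u ∈ W ∧ LocallyQuasiFinite (W.ι ≫ h) ∧ LocallyOfFiniteType (W.ι ≫ h)) f.hom x) :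
    ∃ (U : AlgSp.Space S) (a : U ⟶ Y) (u : AlgSp.Points U.obj), AlgSp.IsEtaleMor a.hom ∧
      AlgSp.Points.map a.hom u = AlgSp.Points.map f.hom x ∧
      ∀ (P : AlgSp.Space S) (prX : P ⟶ X) (prU : P ⟶ U), IsPullback prX.hom prU.hom f.hom a.hom →
        ∃ (V : AlgSp.Space S) (jV : V ⟶ P), AlgSp.RepWith @IsOpenImmersion jV.hom ∧ AlgSp.RepWith @IsClosedImmersion jV.hom ∧
          AlgSp.IsFiniteMor (jV ≫ prU).hom ∧
          ∃ v : AlgSp.Points V.obj, AlgSp.Points.map (jV ≫ prX).hom v = x ∧ AlgSp.Points.map (jV ≫ prU).hom v = u := by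
  obtain ⟨T₁, Vo, a, ψ, b, v, comm, hae, hfin, hbv, hP⟩ :=
    Groth.Agent.Helper15.Norm.exists_etale_split X.property Y.property f.hom hf2 x hf3
  refine ⟨⟨(yon S).obj T₁, IsAlgSpace.yon_obj T₁⟩, ObjectProperty.homMk a,
    Points.ofScheme T₁ (ψ.left v), Groth.Agent.Helper15.isEtaleMor_of_repWith_etale a hae, ?_, ?_⟩
  · change Points.map a (Points.ofScheme T₁ (ψ.left v)) = Points.map f.hom x
    rw [← Points.ofPt_eq_map_ofScheme, ← Groth.Agent.Helper15.ofPt_comp_yon_map, ← comm,
      ← Points.map_ofPt, hbv]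
  · intro P prX prU sq
    obtain ⟨hopen, hclosed⟩ := hP P.obj prX.hom prU.hom sq
    refine ⟨⟨(yon S).obj Vo, IsAlgSpace.yon_obj Vo⟩,
      ObjectProperty.homMk (sq.lift b ((yon S).map ψ) comm), hopen, hclosed, ?_,
      Points.ofScheme Vo v, ?_, ?_⟩
    · change IsFiniteMor (sq.lift b ((yon S).map ψ) comm ≫ prU.hom)
      rw [sq.lift_snd, Groth.Agent.Helper15.isFiniteMor_iff_affRep]
      exact Groth.Agent.Helper15.affRep_of_repWith ((repWith_yon_map_iff _ _).2 hfin)
    · change Points.map (sq.lift b ((yon S).map ψ) comm ≫ prX.hom) (Points.ofScheme Vo v) = x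
      rw [sq.lift_fst, ← Points.ofPt_eq_map_ofScheme, hbv]
    · change Points.map (sq.lift b ((yon S).map ψ) comm ≫ prU.hom) (Points.ofScheme Vo v) = _
      rw [sq.lift_snd, ← Points.ofPt_eq_map_ofScheme, Groth.Agent.Helper15.ofPt_yon_map]

end Groth.Agent.S10677
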