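import Groth.Statements.S10695
import Groth.Agent.Lib.Helper15.ElemSq1

set_option autoImplicit false
universe u
open CategoryTheory CategoryTheory.Limits AlgebraicGeometry
open AlgSp

namespace Groth.Agent.S10695

/-- Suppose `(U ⊂ W, f : V → W)`, a square of algebraic spaces over `S`, is elementary distinguished
(`j` an open immersion, `f` etale and an isomorphism over the reduced closed complement of `U`) and
let `P` with its two projections be a fibre product `U ×_W V`. Then `W` is the pushout of `U` and
`V` along `P` among algebraic spaces over `S`. -/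
theorem result {S : Scheme.{u}} {U V W P : AlgSp.Space S} (j : U ⟶ W) (f : V ⟶ W)
    (hsq : AlgSp.IsElemDistSq j.hom f.hom) (p : P ⟶ U) (q : P ⟶ V)
    (hP : IsPullback p.hom q.hom j.hom f.hom) : IsPushout p q j f := by
  have hw : p ≫ j = q ≫ f := ObjectProperty.hom_ext _ hP.w
  refine ⟨⟨hw⟩, ⟨?_⟩⟩
  have hdesc : ∀ s : PushoutCocone p q, ∃ d : W ⟶ s.pt, j ≫ d = s.inl ∧ f ≫ d = s.inr := by
    intro s
    have hs : p.hom ≫ s.inl.hom = q.hom ≫ s.inr.hom := congrArg (fun m => m.hom) s.condition
    obtain ⟨d, h1, h2⟩ := Groth.Agent.Helper15.ElemSq.exists_desc V.property W.property hsq hP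
      s.inl.hom s.inr.hom hs
    exact ⟨ObjectProperty.homMk d, ObjectProperty.hom_ext _ h1, ObjectProperty.hom_ext _ h2⟩
  choose d hd1 hd2 using hdesc
  refine PushoutCocone.IsColimit.mk _ d hd1 hd2 ?_
  intro s m hm1 hm2
  apply ObjectProperty.hom_ext
  refine Groth.Agent.Helper15.ElemSq.hom_ext V.property hsq ?_ ?_
  · exact congrArg (fun m => m.hom) (hm1.trans (hd1 s).symm)
  · exact congrArg (fun m => m.hom) (hm2.trans (hd2 s).symm)

end Groth.Agent.S10695
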