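import Groth.Statements.S10698
import Groth.Agent.Lib.Helper15.ElemSq2

set_option autoImplicit false
universe u
open CategoryTheory CategoryTheory.Limits AlgebraicGeometry
open AlgSp Groth.Agent.Helper15

namespace Groth.Agent.S10698

/-- Let `g : X → Y` be a morphism of algebraic spaces over `S` and `(U ⊂ X, f : V → X)` an elementary
distinguished square. Suppose `U → Y` and `V → Y` are both separated, that the canonical morphism `c
: U ×_X V → U ×_Y V` (between chosen fibre products `PX`, `PY`) is closed on points, and that the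
canonical morphism `d : V ×_X V → V ×_Y V` (between chosen fibre products `QX`, `QY`) is
representable and a closed immersion. Then `g` is separated. (The published statement omits the
condition on `V ×_X V → V ×_Y V`; its proof identifies the piece of `X ×_Y X` over `V ×_Y V` with
`V`, which is `V ×_X V`, and without that condition the affine line with doubled origin over a
field, with `U` the complement of the two origins and `V` the disjoint union of the two standard
charts, satisfies every other hypothesis and is not separated. With it, the diagonal of `g` is a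
closed immersion over each of the four pieces `U ×_Y U`, `U ×_Y V`, `V ×_Y U`, `V ×_Y V` of an etale
cover of `X ×_Y X`; for `c`, which is an immersion because `U → X` is an open immersion and `U → Y`
is separated, closedness on points suffices.) -/
theorem result {S : Scheme.{u}} {U V X Y PX PY QX QY : AlgSp.Space S} (g : X ⟶ Y)
    (j : U ⟶ X) (f : V ⟶ X) (hsq : AlgSp.IsElemDistSq j.hom f.hom)
    (hU : AlgSp.IsSeparatedMor (j ≫ g).hom) (hV : AlgSp.IsSeparatedMor (f ≫ g).hom)
    (pX : PX ⟶ U) (qX : PX ⟶ V) (hPX : IsPullback pX.hom qX.hom j.hom f.hom)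
    (pY : PY ⟶ U) (qY : PY ⟶ V) (hPY : IsPullback pY.hom qY.hom (j ≫ g).hom (f ≫ g).hom)
    (c : PX ⟶ PY) (hc₁ : c ≫ pY = pX) (hc₂ : c ≫ qY = qX) (hcl : AlgSp.IsClosedMor c.hom)
    (rX₁ rX₂ : QX ⟶ V) (hQX : IsPullback rX₁.hom rX₂.hom f.hom f.hom)
    (rY₁ rY₂ : QY ⟶ V) (hQY : IsPullback rY₁.hom rY₂.hom (f ≫ g).hom (f ≫ g).hom)
    (d : QX ⟶ QY) (hd₁ : d ≫ rY₁ = rX₁) (hd₂ : d ≫ rY₂ = rX₂)
    (hdcl : AlgSp.RepWith @IsClosedImmersion d.hom) : AlgSp.IsSeparatedMor g.hom := by
  have hXa := X.property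
  have hVa := V.property
  have hPX' : IsPullback pX.hom qX.hom j.hom f.hom := hPX
  have hPY' : IsPullback pY.hom qY.hom (j.hom ≫ g.hom) (f.hom ≫ g.hom) := hPY
  have hQX' : IsPullback rX₁.hom rX₂.hom f.hom f.hom := hQX
  have hQY' : IsPullback rY₁.hom rY₂.hom (f.hom ≫ g.hom) (f.hom ≫ g.hom) := hQY
  have hc₁' : c.hom ≫ pY.hom = pX.hom := congrArg (fun t => t.hom) hc₁
  have hc₂' : c.hom ≫ qY.hom = qX.hom := congrArg (fun t => t.hom) hc₂
  have hd₁' : d.hom ≫ rY₁.hom = rX₁.hom := congrArg (fun t => t.hom) hd₁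
  have hd₂' : d.hom ≫ rY₂.hom = rX₂.hom := congrArg (fun t => t.hom) hd₂
  have key : ∀ {A B PA PB : Sp S} (a : A ⟶ X.obj) (b : B ⟶ X.obj) (p₁ : PA ⟶ A) (p₂ : PA ⟶ B)
      (q₁ : PB ⟶ A) (q₂ : PB ⟶ B) (h1 : IsPullback p₁ p₂ a b)
      (h2 : IsPullback q₁ q₂ (a ≫ g.hom) (b ≫ g.hom)) (e : PA ⟶ PB) (he1 : e ≫ q₁ = p₁)
      (he2 : e ≫ q₂ = p₂),
      pullback.mapDesc a b g.hom = h1.isoPullback.inv ≫ e ≫ h2.isoPullback.hom := by
    intro A B PA PB a b p₁ p₂ q₁ q₂ h1 h2 e he1 he2
    rw [Iso.eq_inv_comp]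
    have m1 : pullback.mapDesc a b g.hom ≫ pullback.fst (a ≫ g.hom) (b ≫ g.hom) =
        pullback.fst a b := (pullback.lift_fst _ _ _).trans (Category.comp_id _)
    have m2 : pullback.mapDesc a b g.hom ≫ pullback.snd (a ≫ g.hom) (b ≫ g.hom) =
        pullback.snd a b := (pullback.lift_snd _ _ _).trans (Category.comp_id _)
    apply pullback.hom_ext
    · rw [Category.assoc, m1, h1.isoPullback_hom_fst, Category.assoc, h2.isoPullback_hom_fst, he1]
    · rw [Category.assoc, m2, h1.isoPullback_hom_snd, Category.assoc, h2.isoPullback_hom_snd, he2]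
  refine ElemSq.isSeparatedMor_of_isElemDistSq hXa hVa g.hom j.hom f.hom hsq hU ?_ ?_
  · rw [key j.hom f.hom pX.hom qX.hom pY.hom qY.hom hPX' hPY' c.hom hc₁' hc₂']
    have h1 : IsClosedMap (Points.map (hPX'.isoPullback.inv ≫ c.hom ≫ hPY'.isoPullback.hom)) := by
      have e1 := ElemSq.isClosedMap_points_map_of_iso hPX'.isoPullback.symm
      have e2 := ElemSq.isClosedMap_points_map_of_iso hPY'.isoPullback
      have h3 : Points.map (hPX'.isoPullback.inv ≫ c.hom ≫ hPY'.isoPullback.hom) =
          Points.map hPY'.isoPullback.hom ∘ Points.map c.hom ∘ Points.map hPX'.isoPullback.inv := by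
        funext x
        rw [Points.map_comp, Points.map_comp]
        rfl
      rw [h3]
      exact e2.comp (hcl.comp e1)
    exact h1.isClosed_range
  · rw [key f.hom f.hom rX₁.hom rX₂.hom rY₁.hom rY₂.hom hQX' hQY' d.hom hd₁' hd₂']
    exact ((RepWith @IsClosedImmersion).cancel_left_of_respectsIso _ _).2
      (((RepWith @IsClosedImmersion).cancel_right_of_respectsIso _ _).2 hdcl)

end Groth.Agent.S10698
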