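import Groth.Statements.S10702
import Groth.Agent.Lib.Helper16.AlgSp.StdIso
import Groth.Agent.Lib.Helper16.AlgSp.FppfFpqc
import Groth.Agent.Lib.Helper16.AlgSp.FlatSp

set_option autoImplicit false
universe u
open CategoryTheory CategoryTheory.Limits AlgebraicGeometry
open AlgSp

namespace Groth.Agent.S10702

/-- Consider a commutative diagram of algebraic spaces over `S` with top row `A → C → E`, bottom row `B
→ D → F` and vertical maps `A → B`, `C → D`, `E → F`. If the left square and the outer rectangle are
cartesian and `B → D` is surjective etale, then the right square is cartesian. -/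
theorem result {S : Scheme.{u}} {A B C D E F : AlgSp.Space S} (ac : A ⟶ C) (ab : A ⟶ B)
    (cd : C ⟶ D) (bd : B ⟶ D) (ce : C ⟶ E) (df : D ⟶ F) (ef : E ⟶ F)
    (hl : IsPullback ac.hom ab.hom cd.hom bd.hom) (hcomm : cd ≫ df = ce ≫ ef)
    (hout : IsPullback (ac ≫ ce).hom ab.hom ef.hom (bd ≫ df).hom) (hsurj : AlgSp.IsSurjectiveMor bd.hom)
    (het : AlgSp.IsEtaleMor bd.hom) : IsPullback ce.hom cd.hom ef.hom df.hom := by
  have hcomm' : ce.hom ≫ ef.hom = cd.hom ≫ df.hom := by
    have := congrArg (fun m => m.hom) hcomm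
    exact this.symm
  -- the fibre product `P = E ×_F D`
  have sqP := IsPullback.of_hasPullback ef.hom df.hom
  have hP : IsAlgSpace (pullback ef.hom df.hom) :=
    Groth.Agent.Helper15.isAlgSpace_of_isPullback F.property.diag E.property D.property sqP
  let φ : C.obj ⟶ pullback ef.hom df.hom := pullback.lift ce.hom cd.hom hcomm'
  -- the covering `Q = P ×_D B ⟶ P`
  have sqQ := IsPullback.of_hasPullback (pullback.snd ef.hom df.hom) bd.hom
  have hQ : IsAlgSpace (pullback (pullback.snd ef.hom df.hom) bd.hom) :=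
    Groth.Agent.Helper15.isAlgSpace_of_isPullback D.property.diag hP B.property sqQ
  have hcovB : IsFpqcCover (fun _ : PUnit.{u+1} => B.obj) (fun _ => bd.hom) := by
    refine Groth.Agent.Helper16.AS.isFpqcCover_of_isFppfCover D.property (fun _ => B.property) ?_
    have h1 := Groth.Agent.Helper15.locP_etale_of_isEtaleMor D.property bd.hom het
    refine ⟨fun _ => ⟨?_, ?_⟩, fun x => ?_⟩
    · intro U V a b h ha hb e
      exact Groth.Agent.Helper15.etale_le_flat _ _ _ (h1 a b h ha hb e)
    · intro U V a b h ha hb e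
      exact Groth.Agent.Helper15.etale_le_lfp _ _ _ (h1 a b h ha hb e)
    · exact ⟨PUnit.unit, hsurj x⟩
  have hcovQ : IsFpqcCover (fun _ : PUnit.{u+1} => pullback (pullback.snd ef.hom df.hom) bd.hom)
      (fun _ => pullback.fst (pullback.snd ef.hom df.hom) bd.hom) :=
    Groth.Agent.Helper16.AS.isFpqcCover_of_isPullback D.property hP (pullback.snd ef.hom df.hom)
      (fun _ => B.property) (fun _ => sqQ) hcovB
  -- the map `A ⟶ Q`
  have hw : (ac.hom ≫ φ) ≫ pullback.snd ef.hom df.hom = ab.hom ≫ bd.hom := by
    rw [Category.assoc, pullback.lift_snd]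
    exact hl.w
  let p : A.obj ⟶ pullback (pullback.snd ef.hom df.hom) bd.hom := sqQ.lift _ _ hw
  have sqA : IsPullback ac.hom p φ (pullback.fst (pullback.snd ef.hom df.hom) bd.hom) := by
    have h1 : IsPullback ab.hom ac.hom bd.hom cd.hom := hl.flip
    have : IsPullback p ac.hom (pullback.fst (pullback.snd ef.hom df.hom) bd.hom) φ := by
      refine IsPullback.of_right ?_ ?_ sqQ.flip
      · rw [sqQ.lift_snd, pullback.lift_snd]
        exact hl.flip
      · exact sqQ.lift_fst _ _ hw
    exact this.flip
  -- `p` is an isomorphism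
  have sqQE : IsPullback (pullback.fst (pullback.snd ef.hom df.hom) bd.hom ≫ pullback.fst ef.hom df.hom)
      (pullback.snd (pullback.snd ef.hom df.hom) bd.hom) ef.hom (bd.hom ≫ df.hom) := by
    have := sqQ.flip.paste_vert sqP.flip
    exact this.flip
  have hp : IsIso p := by
    have e1 : p ≫ (pullback.fst (pullback.snd ef.hom df.hom) bd.hom ≫ pullback.fst ef.hom df.hom)
        = (ac ≫ ce).hom := by
      rw [← Category.assoc, sqQ.lift_fst, Category.assoc, pullback.lift_fst]
      rfl
    have e2 : p ≫ pullback.snd (pullback.snd ef.hom df.hom) bd.hom = ab.hom := sqQ.lift_snd _ _ hw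
    have : p = (hout.isoIsPullback _ _ sqQE).hom := by
      apply sqQE.hom_ext
      · rw [e1, IsPullback.isoIsPullback_hom_fst]
      · rw [e2, IsPullback.isoIsPullback_hom_snd]
    rw [this]
    infer_instance
  have hφ : IsIso φ := by
    have := Groth.Agent.Helper16.AS.isLocalOnBase_std_isomorphisms
      (fun _ : PUnit.{u+1} => pullback (pullback.snd ef.hom df.hom) bd.hom)
      (fun _ => pullback.fst (pullback.snd ef.hom df.hom) bd.hom) hP (fun _ => hQ)
      (Groth.Agent.Helper16.AS.isStdRefinable_of_isFpqcCover hcovQ) φ C.property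
      (fun _ => A.obj) (fun _ => p) (fun _ => ac.hom) (fun _ => A.property) (fun _ => sqA)
    exact this.2 (fun _ => hp)
  exact IsPullback.of_iso_pullback ⟨hcomm'⟩ (asIso φ) (pullback.lift_fst _ _ _)
    (pullback.lift_snd _ _ _)

end Groth.Agent.S10702
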