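import Groth.Statements.S10708
import Groth.Agent.Lib.Helper15.Strat11
import Groth.Agent.Lib.Helper15.AlgSpNoeth2

set_option autoImplicit false
universe u
open CategoryTheory CategoryTheory.Limits AlgebraicGeometry
open AlgSp Groth.Agent.Helper15

namespace Groth.Agent.S10708

/-- Let `X` be a Noetherian algebraic space over a quasi-separated base scheme `S` (quasi-compact,
quasi-separated over `S`, locally Noetherian) and `U ⊂ X` a dense open subspace different from `X`.
Then one can find an etale morphism `V → X` from an affine scheme `V` for which `W = U ∪ Im(V → X)`,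
an open subspace, properly contains `U`, the pair `(U ⊂ W, V → W)` forms an elementary distinguished
square, and `U ×_W V → U` has dense image. (The base scheme is taken quasi-separated so that
quasi-separatedness over `S` is the absolute notion.) -/
theorem result {S : Scheme.{u}} [QuasiSeparatedSpace S] {X U : AlgSp.Space S}
    (hqc : AlgSp.IsQuasiCompactSp X.obj) (hqs : AlgSp.IsQuasiSeparatedSp X.obj) (hN : AlgSp.IsLocNoethSp X.obj)
    (j : U ⟶ X) (hj : AlgSp.RepWith @IsOpenImmersion j.hom) (hdense : Dense (Set.range (AlgSp.Points.map j.hom)))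
    (hne : Set.range (AlgSp.Points.map j.hom) ≠ Set.univ) :
    ∃ (V : Over S) (_ : IsAffine V.left) (W : AlgSp.Space S) (jW : W ⟶ X) (jU : U ⟶ W) (φ : (AlgSp.ofScheme S).obj V ⟶ W)
      (P : AlgSp.Space S) (p : P ⟶ U) (q : P ⟶ (AlgSp.ofScheme S).obj V),
      AlgSp.RepWith @Etale (φ ≫ jW).hom ∧ AlgSp.RepWith @IsOpenImmersion jW.hom ∧ jU ≫ jW = j ∧
        Set.range (AlgSp.Points.map jW.hom) =
          Set.range (AlgSp.Points.map j.hom) ∪ Set.range (AlgSp.Points.map (φ ≫ jW).hom) ∧
        Set.range (AlgSp.Points.map jW.hom) ≠ Set.range (AlgSp.Points.map j.hom) ∧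
        AlgSp.IsElemDistSq jU.hom φ.hom ∧ IsPullback p.hom q.hom jU.hom φ.hom ∧ AlgSp.IsDominantMor p.hom := by
  classical
  have hX := X.property
  haveI : TopologicalSpace.NoetherianSpace (Points X.obj) :=
    noetherianSpace_points_of_quasiCompact_isLocNoethSp hqc hN
  set ΩU := Set.range (Points.map j.hom) with hΩU
  have hΩUo : IsOpen ΩU := Strat.isOpen_range_map hX _ hj
  have hΩUc : IsCompact ΩU := TopologicalSpace.NoetherianSpace.isCompact ΩU
  haveI hjm : Mono j.hom := mono_of_repWith isOpenImmersion_le_mono _ hj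
  obtain ⟨N, Ω, Vf, f, h0, hN', hanti, hV, hinj⟩ := Strat.exists_filtration hX hqc hqs
  -- the last stage not contained in `U`
  have hex : ∃ n, Ω n ⊆ ΩU := ⟨N, by rw [hN']; exact Set.empty_subset _⟩
  have hfind := Nat.find_spec hex
  have hpos : Nat.find hex ≠ 0 := by
    intro h0'
    rw [h0', h0] at hfind
    exact hne (Set.eq_univ_of_univ_subset hfind)
  obtain ⟨n, hn⟩ := Nat.exists_eq_succ_of_ne_zero hpos
  have hn1 : Ω (n + 1) ⊆ ΩU := by rw [← Nat.succ_eq_add_one, ← hn]; exact hfind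
  have hn0 : ¬ Ω n ⊆ ΩU := Nat.find_min hex (by omega)
  obtain ⟨x, hxn, hxU⟩ := Set.not_subset.1 hn0
  rw [← (hV n).2.2.2] at hxn
  obtain ⟨v, rfl⟩ := hxn
  -- an affine open neighbourhood of `v`
  obtain ⟨_, ⟨Uo, hUo, rfl⟩, hvU, -⟩ :=
    (Vf n).left.isBasis_affineOpens.exists_subset_of_mem_open (Set.mem_univ v) isOpen_univ
  let A : Over S := Strat.opSub (Vf n) Uo
  haveI hAaff : IsAffine A.left := hUo
  let a : (yon S).obj A ⟶ X.obj := (yon S).map (Strat.opι (Vf n) Uo) ≫ f n
  have hae : RepWith @Etale a :=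
    (RepWith @Etale).comp_mem _ _ ((repWith_yon_map_iff _ _).2 (inferInstance : Etale (Scheme.Opens.ι (X := (Vf n).left) Uo)))
      (hV n).2.2.1
  -- an affine chart of `U`
  have hUqc : IsQuasiCompactSp U.obj :=
    Strat.isQuasiCompactSp_of_isCompact_range hX j.hom hj hΩUc
  obtain ⟨A', p', hA'aff, hp'e, hp's⟩ := exists_affine_chart_of_isQuasiCompactSp hUqc
  haveI := hA'aff
  let a' : (yon S).obj A' ⟶ X.obj := p' ≫ j.hom
  have ha'e : RepWith @Etale a' :=
    (RepWith @Etale).comp_mem _ _ hp'e (repWith_mono isOpenImmersion_le_etale hj)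
  have ha'r : Set.range (Points.ofPt a') = ΩU := by
    ext y
    constructor
    · rintro ⟨u, rfl⟩
      exact ⟨Points.ofPt p' u, Points.map_ofPt _ _ _⟩
    · rintro ⟨z, rfl⟩
      obtain ⟨u, rfl⟩ := surjective_ofPt p' hp's z
      exact ⟨u, (Points.map_ofPt _ _ _).symm⟩
  -- the coproduct chart
  obtain ⟨V, inl, inr, c, hl, hr, hcompl, hc1, hc2, hVaff, hce⟩ :=
    Strat.exists_coprod_chart hX A A' a a'
  have hVaff' : IsAffine V.left := hVaff hAaff hA'aff
  have hce' : RepWith @Etale c := hce hae ha'e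
  have hcr : Set.range (Points.ofPt c) = Set.range (Points.ofPt a) ∪ ΩU := by
    rw [← ha'r]
    ext y
    constructor
    · rintro ⟨w, rfl⟩
      have hw : w ∈ Set.range inl.left ∪ Set.range inr.left := by
        have := hcompl.sup_eq_top
        change Set.range inl.left ∪ Set.range inr.left = Set.univ at this
        rw [this]; trivial
      rcases hw with ⟨u, rfl⟩ | ⟨u, rfl⟩
      · left; exact ⟨u, by rw [← hc1, ofPt_comp_yon_map]⟩
      · right; exact ⟨u, by rw [← hc2, ofPt_comp_yon_map]⟩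
    · rintro (⟨u, rfl⟩ | ⟨u, rfl⟩)
      · exact ⟨inl.left u, by rw [← hc1, ofPt_comp_yon_map]⟩
      · exact ⟨inr.left u, by rw [← hc2, ofPt_comp_yon_map]⟩
  -- the open subspace `W`
  have hWo : IsOpen (ΩU ∪ Set.range (Points.ofPt c)) :=
    hΩUo.union (isOpenMap_ofPt_of_etale c hce').isOpen_range
  obtain ⟨W₀, jW₀, hW₀, hjW₀, hrW₀⟩ := exists_open_subspace_of_isOpen hX _ hWo
  haveI : Mono jW₀ := mono_of_repWith isOpenImmersion_le_mono _ hjW₀
  obtain ⟨jU₀, hjU₀⟩ := (factors_through_open_iff jW₀ hjW₀ j.hom).2 (by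
    rw [hrW₀]; exact Set.subset_union_left)
  obtain ⟨φ₀, hφ₀⟩ := (factors_through_open_iff jW₀ hjW₀ c).2 (by
    rw [hrW₀, Strat.range_map_yon]; exact Set.subset_union_right)
  -- the elementary distinguished square
  have heds : IsElemDistSq jU₀ φ₀ := by
    refine Strat.isElemDistSq_of_injOn hX j.hom jW₀ hj hjW₀ jU₀ hjU₀ φ₀ (by rw [hφ₀]; exact hce')
      (by rw [hrW₀, hφ₀]) ?_
    intro T α β hαβ havoid
    rw [hφ₀] at hαβ havoid
    -- `α` and `β` land in `A`
    have hland : ∀ γ : T ⟶ V, (∀ t : T.left, Points.ofPt ((yon S).map γ ≫ c) t ∉ ΩU) →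
        Set.range γ.left ⊆ Set.range inl.left := by
      intro γ hγ
      rintro _ ⟨t, rfl⟩
      by_contra hcon
      have hw : γ.left t ∈ Set.range inr.left := by
        have := hcompl.compl_eq
        rw [← this]; exact hcon
      obtain ⟨u, hu⟩ := hw
      apply hγ t
      rw [ofPt_comp_yon_map, ← hu, ← ofPt_comp_yon_map, hc2, ← ha'r]
      exact ⟨u, rfl⟩
    obtain ⟨α', rfl⟩ := Strat.exists_factor_of_range_subset inl hl α (hland α havoid)
    obtain ⟨β', rfl⟩ := Strat.exists_factor_of_range_subset inl hl β (hland β (by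
      rw [← hαβ]; exact havoid))
    have hαβ' : (yon S).map α' ≫ a = (yon S).map β' ≫ a := by
      rw [← hc1, ← Category.assoc, ← Category.assoc, ← Functor.map_comp, ← Functor.map_comp]
      exact hαβ
    have hι : Mono (Strat.opι (Vf n) Uo) := inferInstance
    have : α' = β' := by
      apply (cancel_mono (Strat.opι (Vf n) Uo)).1
      apply hinj n T (α' ≫ Strat.opι (Vf n) Uo) (β' ≫ Strat.opι (Vf n) Uo)
      · rw [Functor.map_comp, Functor.map_comp, Category.assoc, Category.assoc]
        exact hαβ'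
      · intro t ht
        apply havoid t
        apply hn1
        rw [Functor.map_comp, Category.assoc, hc1]
        rw [Functor.map_comp, Category.assoc] at ht
        exact ht
    rw [this]
  -- the fibre product
  have sq : IsPullback (pullback.fst jU₀ φ₀) (pullback.snd jU₀ φ₀) jU₀ φ₀ :=
    IsPullback.of_hasPullback _ _
  have hP : IsAlgSpace (pullback jU₀ φ₀) :=
    Strat.isAlgSpace_of_isOpenImmersion (IsAlgSpace.yon_obj V) (pullback.snd jU₀ φ₀)
      ((RepWith @IsOpenImmersion).of_isPullback sq heds.1)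
  refine ⟨V, hVaff', ⟨W₀, hW₀⟩, ObjectProperty.homMk jW₀, ObjectProperty.homMk jU₀,
    ObjectProperty.homMk φ₀, ⟨pullback jU₀ φ₀, hP⟩, ObjectProperty.homMk (pullback.fst jU₀ φ₀),
    ObjectProperty.homMk (pullback.snd jU₀ φ₀), ?_, hjW₀, ObjectProperty.hom_ext _ hjU₀, ?_, ?_,
    heds, sq, ?_⟩
  · change RepWith @Etale (φ₀ ≫ jW₀)
    rw [hφ₀]; exact hce'
  · change Set.range (Points.map jW₀) = ΩU ∪ Set.range (Points.map (φ₀ ≫ jW₀))
    rw [hrW₀, hφ₀, Strat.range_map_yon]
  · change Set.range (Points.map jW₀) ≠ ΩU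
    rw [hrW₀, hcr]
    intro heq
    apply hxU
    rw [← heq]
    refine Or.inr (Or.inl ⟨⟨v, hvU⟩, ?_⟩)
    exact ofPt_comp_yon_map (Strat.opι (Vf n) Uo) (f n) ⟨v, hvU⟩
  · -- dominance: the projection is even surjective on points
    change DenseRange (Points.map (pullback.fst jU₀ φ₀))
    apply Function.Surjective.denseRange
    intro u
    obtain ⟨u', rfl⟩ := surjective_ofPt p' hp's u
    have hcomm : (yon S).map inr ≫ φ₀ = p' ≫ jU₀ := by
      apply (cancel_mono jW₀).1
      rw [Category.assoc, hφ₀, hc2, Category.assoc, hjU₀]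
    obtain ⟨q, hq1, -⟩ := exists_point_of_isPullback sq (Points.ofPt p' u')
      (Points.ofScheme V (inr.left u')) (by
        rw [Points.map_ofPt, ← hcomm, ← Points.ofPt_eq_map_ofScheme, ofPt_comp_yon_map])
    exact ⟨q, hq1⟩

end Groth.Agent.S10708
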