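import Mathlib
import Groth.Statements.S6434

set_option autoImplicit false
open CategoryTheory
universe v u v' u'
open CatLoc

namespace Groth.Agent.S6434

section Aux
variable {C : Type u} [Category.{v} C] {D : Type u'} [Category.{v'} D] (W : MorphismProperty C)
  (L : C ⥤ D) [L.IsLocalization W] [W.HasLeftCalculusOfFractions]

/-- common denominator for finitely many morphisms in the localization -/
lemma common_den {α : Type} [Finite α] (X : α → C) (Y : C) (m : ∀ a, L.obj (X a) ⟶ L.obj Y) :
    ∃ (Y' : C) (s : Y ⟶ Y') (_ : W s) (f : ∀ a, X a ⟶ Y'), ∀ a, m a ≫ L.map s = L.map (f a) := by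
  classical
  have := Fintype.ofFinite α
  suffices H : ∀ t : Finset α, ∃ (Y' : C) (s : Y ⟶ Y') (_ : W s),
      ∀ a ∈ t, ∃ f : X a ⟶ Y', m a ≫ L.map s = L.map f by
    obtain ⟨Y', s, hs, h⟩ := H Finset.univ
    choose f hf using fun a => h a (Finset.mem_univ a)
    exact ⟨Y', s, hs, f, hf⟩
  intro t
  induction t using Finset.induction_on with
  | empty => exact ⟨Y, 𝟙 Y, W.id_mem Y, by simp⟩
  | insert a t ha ih =>
    obtain ⟨Y', s, hs, h⟩ := ih
    obtain ⟨φ, hφ⟩ := Localization.exists_leftFraction L W (m a)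
    obtain ⟨ψ, hψ⟩ := MorphismProperty.HasLeftCalculusOfFractions.exists_leftFraction
      (MorphismProperty.RightFraction.mk s hs φ.s)
    dsimp at hψ
    -- ψ.f : Y' ⟶ ψ.Y', ψ.s : φ.Y' ⟶ ψ.Y', φ.s ≫ ψ.s = s ≫ ψ.f
    refine ⟨ψ.Y', φ.s ≫ ψ.s, W.comp_mem _ _ φ.hs ψ.hs, fun b hb => ?_⟩
    rw [Finset.mem_insert] at hb
    by_cases hba : b = a
    · subst hba
      refine ⟨φ.f ≫ ψ.s, ?_⟩
      rw [hφ, L.map_comp, L.map_comp, ← Category.assoc,
        MorphismProperty.LeftFraction.map_comp_map_s]
    · obtain ⟨f, hf⟩ := h b (hb.resolve_left hba)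
      refine ⟨f ≫ ψ.f, ?_⟩
      rw [hψ, L.map_comp, L.map_comp, ← Category.assoc, hf]

/-- common equalizing denominator for finitely many parallel pairs -/
lemma common_eq {β : Type} [Finite β] (X : β → C) (Y : C) (p q : ∀ b, X b ⟶ Y)
    (h : ∀ b, L.map (p b) = L.map (q b)) :
    ∃ (Y' : C) (r : Y ⟶ Y') (_ : W r), ∀ b, p b ≫ r = q b ≫ r := by
  classical
  have := Fintype.ofFinite β
  suffices H : ∀ t : Finset β, ∃ (Y' : C) (r : Y ⟶ Y') (_ : W r),
      ∀ b ∈ t, p b ≫ r = q b ≫ r by
    obtain ⟨Y', r, hr, h⟩ := H Finset.univ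
    exact ⟨Y', r, hr, fun b => h b (Finset.mem_univ b)⟩
  intro t
  induction t using Finset.induction_on with
  | empty => exact ⟨Y, 𝟙 Y, W.id_mem Y, by simp⟩
  | insert b t hb ih =>
    obtain ⟨Y', r, hr, h'⟩ := ih
    have e : L.map (p b ≫ r) = L.map (q b ≫ r) := by
      rw [L.map_comp, L.map_comp, h b]
    obtain ⟨Z, s, hs, hps⟩ := (MorphismProperty.map_eq_iff_postcomp L W _ _).1 e
    refine ⟨Z, r ≫ s, W.comp_mem _ _ hr hs, fun b' hb' => ?_⟩
    rw [Finset.mem_insert] at hb'
    rcases hb' with rfl | hb'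
    · simpa using hps
    · rw [← Category.assoc, h' b' hb', Category.assoc]

end Aux

/-- The localization functor at a left multiplicative system commutes with finite colimits. -/
theorem result {C : Type u} [Category.{v} C] {D : Type u'} [Category.{v'} D] (W : MorphismProperty C) (L : C ⥤ D) [L.IsLocalization W] [W.HasLeftCalculusOfFractions] :
    Limits.PreservesFiniteColimits L := by
  classical
  refine ⟨fun J _ _ => ⟨fun {K} => ⟨fun {c} hc => ?_⟩⟩⟩
  have := Localization.essSurj L W
  -- uniqueness for targets of the form L Y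
  have huniq : ∀ (Y : C) (m m' : L.obj c.pt ⟶ L.obj Y),
      (∀ j, L.map (c.ι.app j) ≫ m = L.map (c.ι.app j) ≫ m') → m = m' := by
    intro Y m m' hmm
    obtain ⟨Y', s, hs, f, hf⟩ := common_den W L (fun _ : Bool => c.pt) Y
      (fun b => bif b then m else m')
    have hft : m ≫ L.map s = L.map (f true) := hf true
    have hff : m' ≫ L.map s = L.map (f false) := hf false
    obtain ⟨Y'', r, hr, hpr⟩ := common_eq W L (fun j : J => K.obj j) Y'
      (fun j => c.ι.app j ≫ f true) (fun j => c.ι.app j ≫ f false) (by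
        intro j
        rw [L.map_comp, L.map_comp, ← hft, ← hff, ← Category.assoc, ← Category.assoc, hmm j])
    have e1 : f true ≫ r = f false ≫ r := by
      apply hc.hom_ext
      intro j
      simpa using hpr j
    have : IsIso (L.map r) := Localization.inverts L W r hr
    have : IsIso (L.map s) := Localization.inverts L W s hs
    have e2 : L.map (f true) = L.map (f false) := by
      rw [← cancel_mono (L.map r), ← L.map_comp, ← L.map_comp, e1]
    rw [← cancel_mono (L.map s), hft, hff, e2]
  -- existence for targets of the form L Y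
  have hex : ∀ (Y : C) (σ : ∀ j, L.obj (K.obj j) ⟶ L.obj Y),
      (∀ {j j' : J} (u : j ⟶ j'), L.map (K.map u) ≫ σ j' = σ j) →
      ∃ m : L.obj c.pt ⟶ L.obj Y, ∀ j, L.map (c.ι.app j) ≫ m = σ j := by
    intro Y σ hσ
    obtain ⟨Y', s, hs, f, hf⟩ := common_den W L (fun j : J => K.obj j) Y σ
    obtain ⟨Y'', r, hr, hpr⟩ := common_eq W L
      (fun u : (Σ j : J, Σ j' : J, (j ⟶ j')) => K.obj u.1) Y'
      (fun u => K.map u.2.2 ≫ f u.2.1) (fun u => f u.1) (by
        rintro ⟨j, j', u⟩
        dsimp
        rw [L.map_comp, ← hf j', ← hf j, ← Category.assoc, hσ u])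
    let s' : Limits.Cocone K :=
      { pt := Y''
        ι := { app := fun j => f j ≫ r
               naturality := by
                intro j j' u
                have := hpr ⟨j, j', u⟩
                dsimp at this ⊢
                simp only [Category.assoc, Category.comp_id] at this ⊢
                exact this } }
    have : IsIso (L.map r) := Localization.inverts L W r hr
    have : IsIso (L.map s) := Localization.inverts L W s hs
    refine ⟨L.map (hc.desc s') ≫ inv (L.map r) ≫ inv (L.map s), fun j => ?_⟩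
    rw [← Category.assoc, ← L.map_comp, hc.fac]
    dsimp [s']
    rw [L.map_comp, Category.assoc, IsIso.hom_inv_id_assoc, ← hf j, Category.assoc,
      IsIso.hom_inv_id, Category.comp_id]
  refine ⟨Limits.IsColimit.ofExistsUnique fun s => ?_⟩
  let Y := L.objPreimage s.pt
  let e : L.obj Y ≅ s.pt := L.objObjPreimageIso s.pt
  obtain ⟨m, hm⟩ := hex Y (fun j => s.ι.app j ≫ e.inv) (by
    intro j j' u
    have := s.w u
    dsimp at this
    rw [← Category.assoc, this])
  refine ⟨m ≫ e.hom, fun j => ?_, fun l hl => ?_⟩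
  · dsimp
    rw [← Category.assoc, hm j, Category.assoc, e.inv_hom_id]
    exact Category.comp_id _
  · have : l ≫ e.inv = m := by
      apply huniq
      intro j
      rw [hm j, ← Category.assoc]
      have := hl j
      dsimp at this
      rw [this]
    rw [← this, Category.assoc, e.inv_hom_id, Category.comp_id]

end Groth.Agent.S6434
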