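import Groth.Statements.S1072
import Mathlib
import Groth.Agent.S6434

set_option autoImplicit false
universe v v' u u'
open CategoryTheory CategoryTheory.Limits
open CohDer

namespace Groth.Agent.S1072

/-- Let A be an abelian category, W a class of morphisms admitting both left and right calculus of
fractions, and L : A ⥤ D a localization functor for W. Then D admits the structure of an abelian
category and L is exact (preserves finite limits and finite colimits). -/
theorem result {A : Type u} [Category.{v} A] [Abelian A]
    (W : MorphismProperty A) [W.HasLeftCalculusOfFractions] [W.HasRightCalculusOfFractions]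
    {D : Type u'} [Category.{v'} D] (L : A ⥤ D) [L.IsLocalization W] :
    Nonempty (Abelian D) ∧ PreservesFiniteLimits L ∧ PreservesFiniteColimits L := by
  classical
  have hcolim : PreservesFiniteColimits L := Groth.Agent.S6434.result W L
  have hlim : PreservesFiniteLimits L := by
    haveI : PreservesFiniteColimits L.op := Groth.Agent.S6434.result W.op L.op
    exact preservesFiniteLimits_of_op L
  refine ⟨?_, hlim, hcolim⟩
  letI : Preadditive D := Localization.preadditive L W
  haveI : L.Additive := Localization.functor_additive L W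
  haveI : L.EssSurj := Localization.essSurj L W
  haveI : L.PreservesZeroMorphisms := inferInstance
  -- every morphism of `D` is isomorphic, as an arrow, to the image of a morphism of `A`
  have key : ∀ {P Q : D} (φ : P ⟶ Q), ∃ (X Y : A) (f : X ⟶ Y),
      Nonempty (Arrow.mk φ ≅ Arrow.mk (L.map f)) := by
    intro P Q φ
    let eP := L.objObjPreimageIso P
    let eQ := L.objObjPreimageIso Q
    let φ' : L.obj (L.objPreimage P) ⟶ L.obj (L.objPreimage Q) := eP.hom ≫ φ ≫ eQ.inv
    obtain ⟨frac, hfrac⟩ := Localization.exists_leftFraction L W φ'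
    haveI : IsIso (L.map frac.s) := Localization.inverts L W _ frac.hs
    refine ⟨_, _, frac.f, ⟨Arrow.isoMk eP.symm (eQ.symm ≪≫ asIso (L.map frac.s)) ?_⟩⟩
    simp only [Arrow.mk_left, Arrow.mk_right, Iso.symm_hom, Arrow.mk_hom,
      Iso.trans_hom, asIso_hom]
    have h1 : φ' ≫ L.map frac.s = L.map frac.f := by
      rw [hfrac, MorphismProperty.LeftFraction.map_comp_map_s]
    rw [← h1]
    simp only [φ', Category.assoc, Iso.inv_hom_id_assoc]
  haveI : HasFiniteProducts D := by
    refine ⟨fun n => ⟨fun F => ?_⟩⟩
    let X : Fin n → A := fun j => L.objPreimage (F.obj ⟨j⟩)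
    have e : Discrete.functor X ⋙ L ≅ F :=
      Discrete.natIso (fun j => L.objObjPreimageIso (F.obj j))
    haveI : HasLimit (Discrete.functor X ⋙ L) :=
      ⟨⟨⟨L.mapCone (limit.cone (Discrete.functor X)),
        isLimitOfPreserves L (limit.isLimit (Discrete.functor X))⟩⟩⟩
    exact hasLimit_of_iso e
  haveI : HasKernels D := by
    refine ⟨fun {P Q} φ => ?_⟩
    obtain ⟨X, Y, f, ⟨e⟩⟩ := key φ
    haveI : HasKernel (L.map f) := inferInstance
    have e' : parallelPair (L.map f) 0 ≅ parallelPair φ 0 :=
      parallelPair.ext (Arrow.leftFunc.mapIso e.symm) (Arrow.rightFunc.mapIso e.symm)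
        (by simp) (by simp)
    exact hasLimit_of_iso e'
  haveI : HasCokernels D := by
    refine ⟨fun {P Q} φ => ?_⟩
    obtain ⟨X, Y, f, ⟨e⟩⟩ := key φ
    haveI : HasCokernel (L.map f) := inferInstance
    have e' : parallelPair φ 0 ≅ parallelPair (L.map f) 0 :=
      parallelPair.ext (Arrow.leftFunc.mapIso e) (Arrow.rightFunc.mapIso e)
        (by simp) (by simp)
    exact hasColimit_of_iso e'
  haveI : ∀ {P Q : D} (φ : P ⟶ Q), IsIso (Abelian.coimageImageComparison φ) := by
    intro P Q φ
    obtain ⟨X, Y, f, ⟨e⟩⟩ := key φ
    have h1 : IsIso (Abelian.coimageImageComparison (L.map f)) := by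
      have e2 := Abelian.PreservesCoimageImageComparison.iso L f
      have : IsIso (L.map (Abelian.coimageImageComparison f)) := inferInstance
      exact ((MorphismProperty.isomorphisms D).arrow_mk_iso_iff e2).1 this
    have e3 : Arrow.mk (Abelian.coimageImageComparison φ) ≅
        Arrow.mk (Abelian.coimageImageComparison (L.map f)) :=
      (Abelian.coimageImageComparisonFunctor (C := D)).mapIso e
    exact ((MorphismProperty.isomorphisms D).arrow_mk_iso_iff e3).2 h1
  exact ⟨Abelian.ofCoimageImageComparisonIsIso⟩

end Groth.Agent.S1072
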