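import Groth.Statements.S10724
import Groth.Agent.Lib.Helper21.GlueAlg5

set_option autoImplicit false
universe u
open TensorProduct
open EtAlg

namespace Groth.Agent.S10724

/-- Glueing along a glueing pair detects etale morphisms of affine schemes, stated for coordinate rings.
Let `(R → R', f)` be a glueing pair and `φ : A → B` a homomorphism of `R`-algebras with `A`, `B`
glueable as `R`-modules (so `Spec A`, `Spec B` are affine and glueable over `Spec R`). Then `φ` is
etale if and only if `A_f → B_f` and `R' ⊗_R A → R' ⊗_R B` are. -/
theorem result (R : Type u) [CommRing R] (R' : Type u) [CommRing R'] [Algebra R R'] (f : R)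
    (hRR' : EtGlue.IsGlueingPair R R' f) (A B : Type u) [CommRing A] [Algebra R A] [CommRing B] [Algebra R B]
    (hA : EtGlue.IsGlueable R R' f A) (hB : EtGlue.IsGlueable R R' f B) (φ : A →ₐ[R] B) :
    φ.toRingHom.Etale ↔ (Localization.awayMap φ.toRingHom (algebraMap R A f)).Etale ∧ (Algebra.TensorProduct.map (AlgHom.id R R') φ).toRingHom.Etale := by
  constructor
  · intro h
    refine ⟨RingHom.Etale.isStableUnderBaseChange.localizationPreserves.away _ _ _ _ h, ?_⟩
    exact Groth.Agent.Helper21.GLA.lTensor_of_stable RingHom.Etale.isStableUnderBaseChange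
      RingHom.Etale.respectsIso φ h
  · rintro ⟨h1, h2⟩
    exact Groth.Agent.Helper21.GLA5.etale_of_glue hRR' hA φ h1 h2

end Groth.Agent.S10724
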