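import Groth.Statements.S1075
import Mathlib

set_option autoImplicit false
universe w v u
open CategoryTheory CategoryTheory.Limits
open CohDer

namespace Groth.Agent.S1075

section

variable {A : Type u} [Category.{v} A] [Abelian A] [HasDerivedCategory.{w} A]

lemma Q_map_surj (M L : CochainComplex A ℤ) [L.IsKInjective]
    (g : DerivedCategory.Q.obj M ⟶ DerivedCategory.Q.obj L) :
    ∃ φ : M ⟶ L, DerivedCategory.Q.map φ = g := by
  obtain ⟨ψ, hψ⟩ := (CochainComplex.IsKInjective.Qh_map_bijective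
    ((HomotopyCategory.quotient A (ComplexShape.up ℤ)).obj M) L).2
    ((DerivedCategory.quotientCompQhIso A).hom.app M ≫ g ≫
      (DerivedCategory.quotientCompQhIso A).inv.app L)
  obtain ⟨φ, rfl⟩ := (HomotopyCategory.quotient A (ComplexShape.up ℤ)).map_surjective ψ
  refine ⟨φ, ?_⟩
  have := (DerivedCategory.quotientCompQhIso A).hom.naturality φ
  dsimp at this
  rw [← cancel_epi ((DerivedCategory.quotientCompQhIso A).hom.app M), ← this, hψ]
  simp

lemma Q_map_inj (M L : CochainComplex A ℤ) [L.IsKInjective] (φ ψ : M ⟶ L)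
    (h : DerivedCategory.Q.map φ = DerivedCategory.Q.map ψ) : Nonempty (Homotopy φ ψ) := by
  refine ⟨HomotopyCategory.homotopyOfEq _ _ ?_⟩
  apply (CochainComplex.IsKInjective.Qh_map_bijective
    ((HomotopyCategory.quotient A (ComplexShape.up ℤ)).obj M) L).1
  have h1 := (DerivedCategory.quotientCompQhIso A).hom.naturality φ
  have h2 := (DerivedCategory.quotientCompQhIso A).hom.naturality ψ
  dsimp at h1 h2
  rw [← cancel_mono ((DerivedCategory.quotientCompQhIso A).hom.app L), h1, h2, h]

lemma Q_map_eq_of_homotopy {M L : CochainComplex A ℤ} (φ ψ : M ⟶ L) (h : Homotopy φ ψ) :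
    DerivedCategory.Q.map φ = DerivedCategory.Q.map ψ := by
  have h1 := (DerivedCategory.quotientCompQhIso A).hom.naturality φ
  have h2 := (DerivedCategory.quotientCompQhIso A).hom.naturality ψ
  dsimp at h1 h2
  rw [← cancel_epi ((DerivedCategory.quotientCompQhIso A).hom.app M), ← h1, ← h2,
    HomotopyCategory.eq_of_homotopy _ _ h]

end


section Prod

open CochainComplex HomComplex

variable {A : Type u} [Category.{v} A] [Abelian A] [HasLimitsOfShape (Discrete ℕ) A]

/-- The degreewise limit fan. -/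
noncomputable def evalIsLimit (I : ℕ → CochainComplex A ℤ) (j : ℤ) :
    IsLimit (Fan.mk ((∏ᶜ I).X j) (fun n => (Pi.π I n).f j)) :=
  isLimitMapConeFanMkEquiv (HomologicalComplex.eval A (ComplexShape.up ℤ) j) I (Pi.π I)
    (isLimitOfPreserves (HomologicalComplex.eval A (ComplexShape.up ℤ) j) (productIsProduct I))

lemma hom_ext_X (I : ℕ → CochainComplex A ℤ) (j : ℤ) {T : A} (a b : T ⟶ (∏ᶜ I).X j)
    (h : ∀ n, a ≫ (Pi.π I n).f j = b ≫ (Pi.π I n).f j) : a = b :=
  Fan.IsLimit.hom_ext (evalIsLimit I j) a b h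

lemma homotopy_assemble (I : ℕ → CochainComplex A ℤ) {M : CochainComplex A ℤ}
    (f g : M ⟶ ∏ᶜ I) (h : ∀ n, Homotopy (f ≫ Pi.π I n) (g ≫ Pi.π I n)) :
    Nonempty (Homotopy f g) := by
  let z : Cochain M (∏ᶜ I) (-1) := Cochain.mk (fun p q hpq =>
    Fan.IsLimit.lift (evalIsLimit I q) (fun n => (Cochain.ofHomotopy (h n)).v p q hpq))
  have hz : ∀ (p q : ℤ) (hpq : p + (-1) = q) (n : ℕ),
      z.v p q hpq ≫ (Pi.π I n).f q = (Cochain.ofHomotopy (h n)).v p q hpq := by
    intro p q hpq n
    exact Fan.IsLimit.fac (evalIsLimit I q) _ n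
  refine ⟨(Cochain.equivHomotopy f g).symm ⟨z, ?_⟩⟩
  ext p
  apply hom_ext_X
  intro n
  have e := Cochain.congr_v ((Cochain.equivHomotopy _ _ (h n)).2) p p (add_zero p)
  rw [Cochain.add_v, Cochain.ofHom_v, Cochain.ofHom_v,
    δ_v (-1) 0 (neg_add_cancel 1) _ p p (add_zero p) (p - 1) (p + 1) rfl rfl] at e
  rw [Cochain.add_v, Cochain.ofHom_v, Cochain.ofHom_v,
    δ_v (-1) 0 (neg_add_cancel 1) _ p p (add_zero p) (p - 1) (p + 1) rfl rfl]
  simp only [Preadditive.add_comp, Category.assoc, Linear.units_smul_comp]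
  rw [← HomologicalComplex.Hom.comm, ← Category.assoc, hz, hz]
  simpa using e

end Prod


section Main

open CochainComplex HomComplex

lemma isKInjective_pi {A : Type u} [Category.{v} A] [Abelian A] [HasLimitsOfShape (Discrete ℕ) A]
    (I : ℕ → CochainComplex A ℤ) (hI : ∀ n, (I n).IsKInjective) : (∏ᶜ I).IsKInjective where
  nonempty_homotopy_zero {M} f hM := by
    apply homotopy_assemble
    intro n
    have := hI n
    exact (CochainComplex.IsKInjective.homotopyZero (f ≫ Pi.π I n) hM).trans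
      (Homotopy.ofEq (by simp))

/-- In D(A), for A abelian with enough injectives and countable products, every sequence of
bounded-below objects has a product, so derived limits of such sequences exist. -/
theorem result {A : Type u} [Category.{v} A] [Abelian A] [HasDerivedCategory.{w} A]
    [HasLimitsOfShape (Discrete ℕ) A] [EnoughInjectives A]
    (K : ℕ → DerivedCategory A) (hK : ∀ n, ∃ a : ℤ, (K n).IsGE a) : HasProduct K := by
  have h : ∀ n, ∃ (I : CochainComplex A ℤ), I.IsKInjective ∧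
      Nonempty (DerivedCategory.Q.obj I ≅ K n) := by
    intro n
    obtain ⟨a, ha⟩ := hK n
    obtain ⟨L, hL, ⟨e⟩⟩ := (K n).exists_iso_Q_obj_of_isGE a
    obtain ⟨M, i, hi, hM, hM'⟩ :=
      CochainComplex.Plus.modelCategoryQuillen.exists_quasiIso_injective L a
    exact ⟨M, CochainComplex.isKInjective_of_injective M a,
      ⟨(asIso (DerivedCategory.Q.map i)).symm ≪≫ e.symm⟩⟩
  choose I hI e using h
  have e' : ∀ n, DerivedCategory.Q.obj (I n) ≅ K n := fun n => (e n).some
  have hP : (∏ᶜ I).IsKInjective := isKInjective_pi I hI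
  let c : Fan K := Fan.mk (DerivedCategory.Q.obj (∏ᶜ I))
    (fun n => DerivedCategory.Q.map (Pi.π I n) ≫ (e' n).hom)
  have hφ : ∀ (s : Fan K) (n : ℕ), ∃ φ : (DerivedCategory.Q.objPreimage s.pt) ⟶ I n,
      DerivedCategory.Q.map φ =
        (DerivedCategory.Q.objObjPreimageIso s.pt).hom ≫ s.proj n ≫ (e' n).inv := by
    intro s n
    have := hI n
    exact Q_map_surj _ _ _
  choose φ hφ' using hφ
  refine ⟨⟨c, Fan.IsLimit.mk c (fun s => (DerivedCategory.Q.objObjPreimageIso s.pt).inv ≫
    DerivedCategory.Q.map (Pi.lift (φ s))) ?_ ?_⟩⟩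
  · intro s n
    dsimp [c]
    rw [Category.assoc, ← DerivedCategory.Q.map_comp_assoc, Pi.lift_π, hφ']
    simp
  · intro s m hm
    obtain ⟨ψ, hψ⟩ := Q_map_surj _ _ ((DerivedCategory.Q.objObjPreimageIso s.pt).hom ≫ m)
    have key : ∀ n, Nonempty (Homotopy (ψ ≫ Pi.π I n) (Pi.lift (φ s) ≫ Pi.π I n)) := by
      intro n
      have := hI n
      apply Q_map_inj
      rw [Pi.lift_π, hφ', DerivedCategory.Q.map_comp, hψ, Category.assoc]
      congr 1
      have := hm n
      dsimp [c] at this
      rw [← this]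
      simp
    obtain ⟨H⟩ := homotopy_assemble I ψ (Pi.lift (φ s)) (fun n => (key n).some)
    rw [← Q_map_eq_of_homotopy _ _ H, hψ]
    simp

end Main

end Groth.Agent.S1075
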