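import Groth.Statements.S1077
import Groth.Agent.Lib.Helper2.SubLat
import Mathlib.Data.Fintype.Powerset
import Mathlib.Order.Preorder.Finite
-- import your own Groth.Agent.* helpers here

set_option autoImplicit false
universe v u
open CategoryTheory CategoryTheory.Limits
open CohDer

namespace Groth.Agent.S1077

open Groth.Agent.Helper2.SubLat

section Lattice

variable {L : Type*} [Lattice L] [BoundedOrder L]

/-- existence of a maximal chain in a lattice with both chain conditions -/
lemma exists_chain [WellFoundedLT L] [WellFoundedGT L] (a : L) :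
    ∃ (n : ℕ) (F : Fin (n + 1) → L), F 0 = a ∧ F (Fin.last n) = ⊤ ∧
      ∀ i : Fin n, F (Fin.castSucc i) ⋖ F (Fin.succ i) := by
  induction a using WellFoundedGT.induction with
  | ind a ih =>
    by_cases ha : a = ⊤
    · exact ⟨0, fun _ => ⊤, ha.symm, rfl, fun i => i.elim0⟩
    · have hne : {b : L | a < b}.Nonempty := ⟨⊤, lt_top_iff_ne_top.2 ha⟩
      obtain ⟨b, hb, hmin⟩ := WellFounded.has_min (wellFounded_lt (α := L)) _ hne
      have hcov : a ⋖ b := ⟨hb, fun c hac hcb => hmin c hac hcb⟩
      obtain ⟨n, F, h0, hl, hc⟩ := ih b hb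
      refine ⟨n + 1, Fin.cons a F, rfl, ?_, ?_⟩
      · rw [← Fin.succ_last, Fin.cons_succ, hl]
      · intro i
        refine Fin.cases ?_ (fun j => ?_) i
        · change Fin.cons (α := fun _ => L) a F 0 ⋖ Fin.cons (α := fun _ => L) a F (Fin.succ 0)
          rw [Fin.cons_zero, Fin.cons_succ, h0]
          exact hcov
        · rw [Fin.castSucc_succ, Fin.cons_succ, Fin.cons_succ]
          exact hc j

variable [IsModularLattice L]

open Classical in
/-- the set of jumps of `U` along the chain `F`. -/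
noncomputable def jumps {n : ℕ} (F : Fin (n + 1) → L) (U : L) : Finset (Fin n) :=
  Finset.univ.filter fun i => U ⊓ F (Fin.castSucc i) ≠ U ⊓ F (Fin.succ i)

lemma jumps_strictMono {n : ℕ} (F : Fin (n + 1) → L) (h0 : F 0 = ⊥) (hl : F (Fin.last n) = ⊤)
    (hc : ∀ i : Fin n, F (Fin.castSucc i) ⋖ F (Fin.succ i)) : StrictMono (jumps F) := by
  classical
  have hsub : ∀ {U V : L}, U ≤ V → jumps F U ⊆ jumps F V := by
    intro U V hUV i hi
    simp only [jumps, Finset.mem_filter, Finset.mem_univ, true_and] at hi ⊢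
    intro e
    apply hi
    calc U ⊓ F (Fin.castSucc i) = U ⊓ (V ⊓ F (Fin.castSucc i)) := by
          rw [← inf_assoc, inf_eq_left.2 hUV]
      _ = U ⊓ (V ⊓ F (Fin.succ i)) := by rw [e]
      _ = U ⊓ F (Fin.succ i) := by rw [← inf_assoc, inf_eq_left.2 hUV]
  intro U V hUV
  refine lt_of_le_of_ne (hsub hUV.le) (fun e => hUV.ne ?_)
  -- show U = V
  have key : ∀ i : Fin (n + 1), U ⊓ F i = V ⊓ F i := by
    intro i
    induction i using Fin.induction with
    | zero => rw [h0, inf_bot_eq, inf_bot_eq]
    | succ i ih =>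
      by_cases hi : i ∈ jumps F U
      · have hi' : i ∈ jumps F V := e ▸ hi
        simp only [jumps, Finset.mem_filter, Finset.mem_univ, true_and] at hi hi'
        set a := F (Fin.castSucc i)
        set b := F (Fin.succ i)
        have hab : a ⋖ b := hc i
        have hsup : ∀ W : L, W ⊓ a ≠ W ⊓ b → (W ⊓ b) ⊔ a = b := by
          intro W hW
          have h1 : a ≤ (W ⊓ b) ⊔ a := le_sup_right
          have h2 : (W ⊓ b) ⊔ a ≤ b := sup_le inf_le_right hab.le
          rcases hab.eq_or_eq h1 h2 with h | h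
          · exfalso
            apply hW
            have h3 : W ⊓ b ≤ a := by rw [← h]; exact le_sup_left
            apply le_antisymm (inf_le_inf_left _ hab.le)
            exact le_inf inf_le_left h3
          · exact h
        have hu := hsup U hi
        have hv := hsup V hi'
        apply eq_of_le_of_inf_le_of_sup_le (inf_le_inf_right _ hUV.le) (z := a)
        · rw [inf_assoc, inf_assoc, inf_eq_right.2 hab.le, ih]
        · rw [hu, hv]
      · simp only [jumps, Finset.mem_filter, Finset.mem_univ, true_and, not_not] at hi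
        have hi' : i ∉ jumps F V := e ▸ (by
          simp only [jumps, Finset.mem_filter, Finset.mem_univ, true_and, not_not]; exact hi)
        simp only [jumps, Finset.mem_filter, Finset.mem_univ, true_and, not_not] at hi'
        rw [← hi, ← hi', ih]
  have := key (Fin.last n)
  rwa [hl, inf_top_eq, inf_top_eq] at this

lemma wf_of_chain {n : ℕ} (F : Fin (n + 1) → L) (h0 : F 0 = ⊥) (hl : F (Fin.last n) = ⊤)
    (hc : ∀ i : Fin n, F (Fin.castSucc i) ⋖ F (Fin.succ i)) :
    WellFoundedLT L ∧ WellFoundedGT L :=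
  ⟨(jumps_strictMono F h0 hl hc).wellFoundedLT, (jumps_strictMono F h0 hl hc).wellFoundedGT⟩

end Lattice

variable {A : Type u} [Category.{v} A] [Abelian A]

theorem aux (X : A) :
    (IsArtinianObject X ∧ IsNoetherianObject X) ↔
      ∃ (n : ℕ) (F : Fin (n + 1) → Subobject X) (hF : Monotone F), F 0 = ⊥ ∧ F (Fin.last n) = ⊤ ∧
        ∀ i : Fin n, Simple (cokernel (Subobject.ofLE (F (Fin.castSucc i)) (F (Fin.succ i)) (hF (Fin.castSucc_lt_succ (i := i)).le))) := by
  constructor
  · rintro ⟨h1, h2⟩
    obtain ⟨n, F, h0, hl, hc⟩ := exists_chain (⊥ : Subobject X)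
    have hF : Monotone F := (Fin.strictMono_iff_lt_succ.2 fun i => (hc i).lt).monotone
    exact ⟨n, F, hF, h0, hl, fun i => (simple_quo_iff_covBy _).2 (hc i)⟩
  · rintro ⟨n, F, hF, h0, hl, hs⟩
    have hc : ∀ i : Fin n, F (Fin.castSucc i) ⋖ F (Fin.succ i) := fun i =>
      (simple_quo_iff_covBy _).1 (hs i)
    obtain ⟨h1, h2⟩ := wf_of_chain F h0 hl hc
    exact ⟨⟨h1⟩, ⟨h2⟩⟩

/-- An object X of an abelian category is Artinian and Noetherian if and only if there is a finite chain
of subobjects ⊥ = F₀ ≤ F₁ ≤ … ≤ Fₙ = ⊤ of X whose successive quotients Fᵢ₊₁/Fᵢ are simple. -/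
theorem result {A : Type u} [Category.{v} A] [Abelian A] (X : A) :
    (IsArtinianObject X ∧ IsNoetherianObject X) ↔
      ∃ (n : ℕ) (F : Fin (n + 1) → Subobject X) (hF : Monotone F), F 0 = ⊥ ∧ F (Fin.last n) = ⊤ ∧
        ∀ i : Fin n, Simple (cokernel (Subobject.ofLE (F (Fin.castSucc i)) (F (Fin.succ i)) (hF (Fin.castSucc_lt_succ (i := i)).le))) := by
  exact aux X

end Groth.Agent.S1077
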