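import Groth.Statements.S1078
import Mathlib.Order.JordanHolder
import Groth.Agent.Lib.Helper2.SubLat
-- import your own Groth.Agent.* helpers here

set_option autoImplicit false
universe v u
open CategoryTheory CategoryTheory.Limits
open CohDer

namespace Groth.Agent.S1078

open Groth.Agent.Helper2.SubLat JordanHolderLattice

variable {A : Type u} [Category.{v} A] [Abelian A] {X : A}

/-- the quotient attached to an arbitrary pair. -/
noncomputable abbrev Q (p : Subobject X × Subobject X) : A :=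
  quo (inf_le_right : p.1 ⊓ p.2 ≤ p.2)

noncomputable def QIso {a b : Subobject X} (h : a ≤ b) : Q (a, b) ≅ quo h :=
  quoCongr _ _ (inf_eq_left.2 h) rfl

lemma iso_rel {p q : Subobject X × Subobject X} (h : JordanHolderLattice.Iso p q) :
    Nonempty (Q p ≅ Q q) := by
  refine Iso.rel (fun p q : Subobject X × Subobject X => Nonempty (Q p ≅ Q q)) ⟨Iso.refl _⟩
    (fun ⟨e⟩ => ⟨e.symm⟩) (fun ⟨e⟩ ⟨e'⟩ => ⟨e ≪≫ e'⟩) ?_ h
  intro x y _
  exact ⟨QIso le_sup_left ≪≫ secondIso x y ≪≫ (QIso inf_le_right).symm⟩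

/-- series from a chain -/
def series (n : ℕ) (F : Fin (n + 1) → Subobject X)
    (h : ∀ i : Fin n, F (Fin.castSucc i) ⋖ F (Fin.succ i)) : CompositionSeries (Subobject X) where
  length := n
  toFun := F
  step := h

theorem aux (X : A)
    (n : ℕ) (F : Fin (n + 1) → Subobject X) (hF : Monotone F) (hF0 : F 0 = ⊥) (hFn : F (Fin.last n) = ⊤) (hFs : ∀ i : Fin n, Simple (cokernel (Subobject.ofLE (F (Fin.castSucc i)) (F (Fin.succ i)) (hF (Fin.castSucc_lt_succ (i := i)).le))))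
    (m : ℕ) (G : Fin (m + 1) → Subobject X) (hG : Monotone G) (hG0 : G 0 = ⊥) (hGm : G (Fin.last m) = ⊤) (hGs : ∀ j : Fin m, Simple (cokernel (Subobject.ofLE (G (Fin.castSucc j)) (G (Fin.succ j)) (hG (Fin.castSucc_lt_succ (i := j)).le)))) :
    ∃ (e : n = m) (σ : Equiv.Perm (Fin m)), ∀ i : Fin n,
      Nonempty (cokernel (Subobject.ofLE (F (Fin.castSucc i)) (F (Fin.succ i)) (hF (Fin.castSucc_lt_succ (i := i)).le)) ≅
        cokernel (Subobject.ofLE (G (Fin.castSucc (σ (Fin.cast e i)))) (G (Fin.succ (σ (Fin.cast e i)))) (hG (Fin.castSucc_lt_succ (i := σ (Fin.cast e i))).le))) := by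
  have hF' : ∀ i : Fin n, F (Fin.castSucc i) ⋖ F (Fin.succ i) := fun i =>
    (simple_quo_iff_covBy _).1 (hFs i)
  have hG' : ∀ i : Fin m, G (Fin.castSucc i) ⋖ G (Fin.succ i) := fun i =>
    (simple_quo_iff_covBy _).1 (hGs i)
  obtain ⟨f, hf⟩ := CompositionSeries.jordan_holder (series n F hF') (series m G hG')
    (by change F 0 = G 0; rw [hF0, hG0]) (by change F (Fin.last n) = G (Fin.last m); rw [hFn, hGm])
  have e : n = m := Fin.equiv_iff_eq.1 ⟨f⟩
  subst e
  refine ⟨rfl, f, fun i => ?_⟩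
  obtain ⟨φ⟩ := iso_rel (hf i)
  exact ⟨(QIso _).symm ≪≫ φ ≪≫ QIso _⟩

/-- Let X be an object of an abelian category with two finite chains of subobjects ⊥ = F₀ ≤ … ≤ Fₙ = ⊤
and ⊥ = G₀ ≤ … ≤ Gₘ = ⊤ whose successive quotients are simple. Then n = m, and after transporting
along this equality there is a permutation σ of the indices with Fᵢ₊₁/Fᵢ ≅ G_{σ(i)+1}/G_{σ(i)} for
all i. -/
theorem result {A : Type u} [Category.{v} A] [Abelian A] (X : A)
    (n : ℕ) (F : Fin (n + 1) → Subobject X) (hF : Monotone F) (hF0 : F 0 = ⊥) (hFn : F (Fin.last n) = ⊤) (hFs : ∀ i : Fin n, Simple (cokernel (Subobject.ofLE (F (Fin.castSucc i)) (F (Fin.succ i)) (hF (Fin.castSucc_lt_succ (i := i)).le))))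
    (m : ℕ) (G : Fin (m + 1) → Subobject X) (hG : Monotone G) (hG0 : G 0 = ⊥) (hGm : G (Fin.last m) = ⊤) (hGs : ∀ j : Fin m, Simple (cokernel (Subobject.ofLE (G (Fin.castSucc j)) (G (Fin.succ j)) (hG (Fin.castSucc_lt_succ (i := j)).le)))) :
    ∃ (e : n = m) (σ : Equiv.Perm (Fin m)), ∀ i : Fin n,
      Nonempty (cokernel (Subobject.ofLE (F (Fin.castSucc i)) (F (Fin.succ i)) (hF (Fin.castSucc_lt_succ (i := i)).le)) ≅
        cokernel (Subobject.ofLE (G (Fin.castSucc (σ (Fin.cast e i)))) (G (Fin.succ (σ (Fin.cast e i)))) (hG (Fin.castSucc_lt_succ (i := σ (Fin.cast e i))).le))) := by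
  exact aux X n F hF hF0 hFn hFs m G hG hG0 hGm hGs

end Groth.Agent.S1078
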