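import Groth.Statements.S1079
import Mathlib.CategoryTheory.Triangulated.Pretriangulated
import Mathlib.CategoryTheory.Triangulated.Opposite.Pretriangulated
import Mathlib.CategoryTheory.Limits.Opposites
-- import your own Groth.Agent.* helpers here

set_option autoImplicit false
universe v u
open CategoryTheory CategoryTheory.Limits
open CohDer

namespace Groth.Agent.S1079

open CategoryTheory CategoryTheory.Limits Pretriangulated

theorem coprod_case {D : Type u} [Category.{v} D] [Preadditive D] [Limits.HasZeroObject D]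
    [HasShift D ℤ] [∀ n : ℤ, (shiftFunctor D n).Additive] [Pretriangulated D]
    [HasColimitsOfShape (Discrete ℕ) D] : IsIdempotentComplete D := by
  refine ⟨fun X e he => ?_⟩
  let F : ℕ → D := fun _ => X
  let ι : ∀ n, X ⟶ ∐ F := fun n => Sigma.ι F n
  let s : ∐ F ⟶ ∐ F := Sigma.desc (fun n => e ≫ ι (n + 1))
  let u : ∐ F ⟶ ∐ F := 𝟙 _ - s
  let r : ∐ F ⟶ ∐ F :=
    Sigma.desc (fun m => (𝟙 X - e) ≫ ι m - ∑ k ∈ Finset.range m, e ≫ ι k)
  have hιs : ∀ n, ι n ≫ s = e ≫ ι (n + 1) := fun n => Sigma.ι_desc _ _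
  have hιr : ∀ m, ι m ≫ r = (𝟙 X - e) ≫ ι m - ∑ k ∈ Finset.range m, e ≫ ι k :=
    fun m => Sigma.ι_desc _ _
  have hur : u ≫ r = 𝟙 _ := by
    apply Sigma.hom_ext
    intro m
    change ι m ≫ (𝟙 _ - s) ≫ r = ι m ≫ 𝟙 _
    rw [Preadditive.sub_comp, Preadditive.comp_sub, Category.id_comp, Category.comp_id,
      ← Category.assoc, hιs, Category.assoc, hιr, hιr, Finset.sum_range_succ]
    simp only [Preadditive.comp_sub, Preadditive.sub_comp, Preadditive.comp_sum,
      Preadditive.comp_add, Category.id_comp, ← Category.assoc, he]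
    abel
  obtain ⟨C, q, δ, hT⟩ := distinguished_cocone_triangle u
  have hδ : δ = 0 := by
    have h0 : δ ≫ u⟦(1 : ℤ)⟧' = 0 := comp_distTriang_mor_zero₃₁ _ hT
    have : δ = δ ≫ u⟦(1 : ℤ)⟧' ≫ r⟦(1 : ℤ)⟧' := by
      rw [← CategoryTheory.Functor.map_comp, hur, CategoryTheory.Functor.map_id, Category.comp_id]
    rw [this, ← Category.assoc, h0, zero_comp]
  obtain ⟨t, ht⟩ : ∃ t : C ⟶ ∐ F, 𝟙 C = t ≫ q := Triangle.coyoneda_exact₃ _ hT (𝟙 C) (by
    change 𝟙 C ≫ δ = 0
    rw [hδ, comp_zero])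
  have hsplit : IsSplitEpi q := IsSplitEpi.mk' { section_ := t, id := ht.symm }
  have hq : Epi q := inferInstance
  let ε : ∐ F ⟶ X := Sigma.desc (fun _ => e)
  have hιε : ∀ n, ι n ≫ ε = e := fun n => Sigma.ι_desc _ _
  have huε : u ≫ ε = 0 := by
    apply Sigma.hom_ext
    intro m
    change ι m ≫ (𝟙 _ - s) ≫ ε = ι m ≫ 0
    rw [Preadditive.sub_comp, Preadditive.comp_sub, Category.id_comp, ← Category.assoc, hιs,
      Category.assoc, hιε, hιε, he, sub_self, comp_zero]
  obtain ⟨g, hg⟩ : ∃ g : C ⟶ X, ε = q ≫ g := Triangle.yoneda_exact₂ _ hT ε huε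
  have huq : u ≫ q = 0 := comp_distTriang_mor_zero₁₂ _ hT
  have h1 : ∀ n, ι n ≫ q = e ≫ ι (n + 1) ≫ q := by
    intro n
    have : ι n ≫ u ≫ q = 0 := by rw [huq, comp_zero]
    change ι n ≫ (𝟙 _ - s) ≫ q = 0 at this
    rw [Preadditive.sub_comp, Preadditive.comp_sub, Category.id_comp, ← Category.assoc, hιs,
      Category.assoc, sub_eq_zero] at this
    exact this
  have h2 : ∀ n, e ≫ ι n ≫ q = ι n ≫ q := by
    intro n
    rw [h1 n, ← Category.assoc, he]
  have h3 : ∀ n, ι (n + 1) ≫ q = ι n ≫ q := by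
    intro n
    rw [h1 n, h2]
  have h4 : ∀ n, ι n ≫ q = ι 0 ≫ q := by
    intro n
    induction n with
    | zero => rfl
    | succ n ih => rw [h3, ih]
  refine ⟨C, g, ι 0 ≫ q, ?_, ?_⟩
  · rw [← cancel_epi q]
    apply Sigma.hom_ext
    intro n
    change ι n ≫ q ≫ g ≫ ι 0 ≫ q = ι n ≫ q ≫ 𝟙 C
    rw [Category.comp_id, ← Category.assoc q g, ← hg, ← Category.assoc, hιε, h2, h4 n]
  · rw [Category.assoc, ← hg, hιε]


open CategoryTheory.Pretriangulated.Opposite in
theorem aux {D : Type u} [Category.{v} D] [Preadditive D] [Limits.HasZeroObject D] [HasShift D ℤ]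
    [∀ n : ℤ, (shiftFunctor D n).Additive] [Pretriangulated D]
    (h : HasColimitsOfShape (Discrete ℕ) D ∨ HasLimitsOfShape (Discrete ℕ) D) : IsIdempotentComplete D := by
  rcases h with h | h
  · exact coprod_case
  · have : HasColimitsOfShape (Discrete ℕ) Dᵒᵖ := by
      rw [hasColimitsOfShape_opposite_iff]
      exact hasLimitsOfShape_of_equivalence (Discrete.opposite ℕ).symm
    have : IsIdempotentComplete Dᵒᵖ := coprod_case
    exact Idempotents.isIdempotentComplete_of_isIdempotentComplete_opposite this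

/-- A pretriangulated category which has countable coproducts, or countable products, is Karoubian
(idempotent complete). -/
theorem result {D : Type u} [Category.{v} D] [Preadditive D] [Limits.HasZeroObject D] [HasShift D ℤ]
    [∀ n : ℤ, (shiftFunctor D n).Additive] [Pretriangulated D]
    (h : HasColimitsOfShape (Discrete ℕ) D ∨ HasLimitsOfShape (Discrete ℕ) D) : IsIdempotentComplete D := by
  exact aux h

end Groth.Agent.S1079
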