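import Groth.Statements.S10828
import Groth.Agent.Lib.Helper16.Sch.GalPts

set_option autoImplicit false
universe u
open CategoryTheory AlgebraicGeometry
open Variety

namespace Groth.Agent.S10828

/-- Let k be a field, K an algebraic closure of k with its group G of k-automorphisms, and X a k-scheme
locally of finite type. The map sending a K-valued point of X over k to its image point identifies
the closed points of X with the G-orbits in X(K): a point is closed if and only if it is the image
of some K-valued point, and two K-valued points have the same image if and only if one is obtained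
from the other by composing with Spec of a k-automorphism of K. -/
theorem result (k K : Type u) [Field k] [Field K]
    [Algebra k K] [IsAlgClosure k K] {X : Scheme.{u}} (f : X ⟶ Spec (CommRingCat.of k))
    [LocallyOfFiniteType f] :
    (∀ x : X, IsClosed ({x} : Set X) ↔
        ∃ p : Spec (CommRingCat.of K) ⟶ X, p ≫ f = Spec.map (CommRingCat.ofHom (algebraMap k K)) ∧
          p.base (IsLocalRing.closedPoint K) = x) ∧
      ∀ p q : Spec (CommRingCat.of K) ⟶ X,
        p ≫ f = Spec.map (CommRingCat.ofHom (algebraMap k K)) →
        q ≫ f = Spec.map (CommRingCat.ofHom (algebraMap k K)) →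
          (p.base (IsLocalRing.closedPoint K) = q.base (IsLocalRing.closedPoint K) ↔
            ∃ σ : K ≃ₐ[k] K, q = Spec.map (CommRingCat.ofHom σ.toRingHom) ≫ p) := by
  refine ⟨fun x => ⟨fun hx => ?_, ?_⟩, fun p q hp hq => ⟨fun h => ?_, ?_⟩⟩
  · exact Groth.Agent.Helper16.GalPts.exists_point_of_isClosed k K f x hx
  · rintro ⟨p, hp, rfl⟩
    exact Groth.Agent.Helper16.GalPts.isClosed_of_point k K f p hp
  · exact Groth.Agent.Helper16.GalPts.eq_comp_aut_of_apply_eq k K f p q hp hq h
  · rintro ⟨σ, rfl⟩
    show p.base _ = (Spec.map (CommRingCat.ofHom σ.toRingHom) ≫ p).base _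
    rw [Scheme.Hom.comp_base, TopCat.comp_app]
    exact congrArg p.base (Subsingleton.elim _ _)

end Groth.Agent.S10828
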