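import Groth.Statements.S10830


set_option autoImplicit false
universe u
open Topology TopologicalSpace
open TopDim

namespace Groth.Agent.S10830

/-- In an irreducible topological space X of finite Krull dimension, every proper closed subset Y has
strictly smaller Krull dimension than X. -/
theorem result (X : Type u) [TopologicalSpace X]
    [IrreducibleSpace X] (hfin : topologicalKrullDim X ≠ ⊤) (Y : Set X) (hY : IsClosed Y) (hYX : Y ≠ Set.univ) :
    topologicalKrullDim ↥Y < topologicalKrullDim X := by
  classical
  unfold topologicalKrullDim at *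
  have hsub : Topology.IsInducing (Subtype.val : Y → X) := Topology.IsInducing.subtypeVal
  let φ := IrreducibleCloseds.map (Subtype.val : Y → X) continuous_subtype_val
  have hφ : StrictMono φ := IrreducibleCloseds.map_strictMono_of_isInducing hsub
  let T : IrreducibleCloseds X :=
    ⟨Set.univ, (IrreducibleSpace.isIrreducible_univ X), isClosed_univ⟩
  have hlt : ∀ Z : IrreducibleCloseds Y, φ Z < T := by
    intro Z
    refine lt_of_le_of_ne (fun x _ => trivial) ?_
    intro h
    apply hYX
    have h1 : (φ Z : Set X) ⊆ Y :=
      closure_minimal (by rintro _ ⟨y, _, rfl⟩; exact y.2) hY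
    rw [h] at h1
    exact Set.eq_univ_of_univ_subset h1
  have hT : (Order.height T : WithBot ℕ∞) ≤ Order.krullDim (IrreducibleCloseds X) :=
    Order.height_le_krullDim T
  have hTfin : Order.height T ≠ ⊤ := by
    intro h
    rw [h] at hT
    exact hfin (top_le_iff.1 hT)
  obtain ⟨n, hn⟩ := ENat.ne_top_iff_exists.1 hTfin
  have hZ : ∀ Z : IrreducibleCloseds Y, Order.height Z + 1 ≤ (n : ℕ∞) := by
    intro Z
    rw [hn]
    exact le_trans (add_le_add_left (Order.height_le_height_apply_of_strictMono φ hφ Z) 1)
      (Order.height_add_one_le (hlt Z))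
  rcases isEmpty_or_nonempty (IrreducibleCloseds Y) with hE | hN
  · rw [Order.krullDim_eq_bot]
    exact lt_of_lt_of_le (WithBot.bot_lt_coe _) hT
  · rw [Order.krullDim_eq_iSup_height_of_nonempty]
    refine lt_of_lt_of_le ?_ hT
    rw [WithBot.coe_lt_coe, ← hn]
    obtain ⟨Z₀⟩ := hN
    have hn1 : 1 ≤ n := by
      have := hZ Z₀
      have h1 : (1 : ℕ∞) ≤ n := le_trans le_add_self this
      exact_mod_cast h1
    have hsup : (⨆ Z : IrreducibleCloseds Y, Order.height Z) ≤ ((n - 1 : ℕ) : ℕ∞) := by
      refine iSup_le fun Z => ?_
      have := hZ Z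
      have h2 : ((n : ℕ∞)) = ((n - 1 : ℕ) : ℕ∞) + 1 := by
        have : n = (n - 1) + 1 := by omega
        exact_mod_cast this
      rw [h2] at this
      exact (ENat.add_le_add_iff_right (by simp)).1 this
    refine lt_of_le_of_lt hsup ?_
    have : n - 1 < n := by omega
    exact_mod_cast this

end Groth.Agent.S10830
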