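import Groth.Statements.S10831


set_option autoImplicit false
universe u
open Topology TopologicalSpace
open TopDim

namespace Groth.Agent.S10831

/-- The Krull dimension of a topological space is the supremum of the Krull dimensions of its
irreducible components. -/
theorem result (X : Type u) [TopologicalSpace X] :
    topologicalKrullDim X = ⨆ Y ∈ irreducibleComponents X, topologicalKrullDim ↥Y := by
  classical
  apply le_antisymm
  · unfold topologicalKrullDim
    rw [Order.krullDim]
    refine iSup_le fun p => ?_
    obtain ⟨Y, hY, hpY⟩ := exists_mem_irreducibleComponents_subset_of_isIrreducible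
      (p.last : Set X) p.last.isIrreducible
    have hsub : ∀ i, (p i : Set X) ⊆ Y := fun i =>
      le_trans (SetLike.coe_subset_coe.2 (p.monotone (Fin.le_last i))) hpY
    have himg : ∀ i, Subtype.val '' ((Subtype.val : Y → X) ⁻¹' (p i : Set X)) = (p i : Set X) := by
      intro i
      rw [Subtype.image_preimage_coe]
      exact Set.inter_eq_right.2 (hsub i)
    have hirr : ∀ i, IsIrreducible ((Subtype.val : Y → X) ⁻¹' (p i : Set X)) := by
      intro i
      obtain ⟨⟨z, hz⟩, hpre⟩ := (p i).isIrreducible
      refine ⟨⟨⟨z, hsub i hz⟩, hz⟩, ?_⟩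
      rintro u' v' ⟨u, hu, rfl⟩ ⟨v, hv, rfl⟩ ⟨a, ha1, ha2⟩ ⟨b, hb1, hb2⟩
      obtain ⟨c, hc1, hc2⟩ := hpre u v hu hv ⟨a.1, ha1, ha2⟩ ⟨b.1, hb1, hb2⟩
      exact ⟨⟨c, hsub i hc1⟩, hc1, hc2⟩
    let F : Fin (p.length + 1) → IrreducibleCloseds ↥Y := fun i =>
      ⟨(Subtype.val : Y → X) ⁻¹' (p i : Set X), hirr i,
        (p i).isClosed.preimage continuous_subtype_val⟩
    have hF : ∀ i : Fin p.length, F i.castSucc < F i.succ := by
      intro i
      have h : p i.castSucc < p i.succ := p.step i
      refine lt_of_le_of_ne ?_ ?_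
      · intro y hy
        exact (show (p i.castSucc : Set X) ⊆ (p i.succ : Set X) from h.le) hy
      · intro heq
        apply h.ne
        apply IrreducibleCloseds.ext
        have := congrArg (fun Z : IrreducibleCloseds ↥Y => Subtype.val '' (Z : Set ↥Y)) heq
        simp only at this
        change Subtype.val '' ((Subtype.val : Y → X) ⁻¹' (p i.castSucc : Set X)) =
          Subtype.val '' ((Subtype.val : Y → X) ⁻¹' (p i.succ : Set X)) at this
        rwa [himg, himg] at this
    let q : LTSeries (IrreducibleCloseds ↥Y) := ⟨p.length, F, hF⟩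
    calc (p.length : WithBot ℕ∞) = q.length := rfl
      _ ≤ Order.krullDim (IrreducibleCloseds ↥Y) := Order.LTSeries.length_le_krullDim q
      _ ≤ _ := le_iSup₂ (f := fun (Y : Set X) (_ : Y ∈ irreducibleComponents X) =>
          Order.krullDim (IrreducibleCloseds ↥Y)) Y hY
  · exact iSup₂_le fun Y _ => topologicalKrullDim_subspace_le X Y

end Groth.Agent.S10831
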