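import Groth.Statements.S10836
import Mathlib
-- import your own Groth.Agent.* helpers here

set_option autoImplicit false
universe u
open Coh

namespace Groth.Agent.S10836

section
open TensorProduct Module

variable {A : Type u} [CommRing A]

/-- rank over the quotient by a maximal ideal equals `rankAtStalk` -/
theorem finrank_quot_eq {R : Type u} [CommRing R] (M : Type u) [AddCommGroup M] [Module R M]
    [Module.Finite R M] [Module.Flat R M] (P : Ideal R) [hP : P.IsMaximal] :
    finrank (R ⧸ P) ((R ⧸ P) ⊗[R] M) = rankAtStalk M ⟨P, hP.isPrime⟩ := by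
  letI := Ideal.Quotient.field P
  rw [rankAtStalk_eq]
  let e : P.ResidueField ⊗[R ⧸ P] ((R ⧸ P) ⊗[R] M) ≃ₗ[P.ResidueField] P.ResidueField ⊗[R] M :=
    AlgebraTensorModule.cancelBaseChange R (R ⧸ P) P.ResidueField P.ResidueField M
  change _ = finrank P.ResidueField (P.ResidueField ⊗[R] M)
  rw [← e.finrank_eq]
  exact (Module.finrank_baseChange (R := P.ResidueField) (S := R ⧸ P)
    (M' := (R ⧸ P) ⊗[R] M)).symm

theorem mem_T (Z : Finset (PrimeSpectrum A)) (x : A) :
    x ∈ (⨅ p ∈ Z, p.asIdeal.primeCompl : Submonoid A) ↔ ∀ p ∈ Z, x ∉ p.asIdeal := by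
  simp only [Submonoid.mem_iInf]
  rfl

theorem finite_maxSpec (Z : Finset (PrimeSpectrum A)) :
    Finite (MaximalSpectrum (Localization (⨅ p ∈ Z, p.asIdeal.primeCompl : Submonoid A))) := by
  classical
  set T : Submonoid A := ⨅ p ∈ Z, p.asIdeal.primeCompl with hT
  let f : PrimeSpectrum A → Ideal (Localization T) :=
    fun p => p.asIdeal.map (algebraMap A (Localization T))
  have hsub : ∀ P : MaximalSpectrum (Localization T), P.asIdeal ∈ f '' (Z : Set _) := by
    intro P
    have hPp : P.asIdeal.IsPrime := P.isMaximal.isPrime
    obtain ⟨hcp, hdisj⟩ :=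
      (IsLocalization.isPrime_iff_isPrime_disjoint T (Localization T) P.asIdeal).mp hPp
    have hunion : ((P.asIdeal.comap (algebraMap A (Localization T)) : Ideal A) : Set A) ⊆
        ⋃ p ∈ (Z : Set (PrimeSpectrum A)), (p.asIdeal : Set A) := by
      intro x hx
      have hxT : x ∉ T := fun h => Set.disjoint_left.mp hdisj h hx
      rw [mem_T] at hxT
      push Not at hxT
      obtain ⟨p, hp, hxp⟩ := hxT
      exact Set.mem_biUnion hp hxp
    obtain ⟨p, hpZ, hle⟩ := (Ideal.subset_union_prime (s := Z) (f := fun p => p.asIdeal)
      ⟨_, hcp⟩ ⟨_, hcp⟩ (fun i _ _ _ => i.2)).mp hunion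
    refine ⟨p, hpZ, ?_⟩
    have hdp : Disjoint (T : Set A) (p.asIdeal : Set A) := by
      rw [Set.disjoint_left]
      intro x hxT
      exact (mem_T Z x).mp hxT p hpZ
    have hprime : (f p).IsPrime := IsLocalization.isPrime_of_isPrime_disjoint T _ _ p.2 hdp
    have hle' : P.asIdeal ≤ f p := by
      rw [← IsLocalization.map_under T (Localization T) P.asIdeal]
      exact Ideal.map_mono hle
    exact (P.isMaximal.eq_of_le hprime.ne_top hle').symm
  have hfin : (f '' (Z : Set _)).Finite := Z.finite_toSet.image f
  haveI := hfin.to_subtype
  exact Finite.of_injective (fun P : MaximalSpectrum (Localization T) =>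
    (⟨P.asIdeal, hsub P⟩ : ↥(f '' (Z : Set _))))
    (fun P Q h => MaximalSpectrum.ext (congrArg Subtype.val h))

theorem main (A : Type u) [CommRing A]
    (M : Type u) [AddCommGroup M] [Module A M] [Module.Finite A M] [Module.Projective A M] (r : ℕ)
    (hr : ∀ p : PrimeSpectrum A, Module.rankAtStalk M p = r)
    (Z : Set (PrimeSpectrum A)) (hZ : Z.Finite) :
    ∃ s : A, (∀ p ∈ Z, s ∉ p.asIdeal) ∧
      Nonempty (Module.Basis (Fin r) (Localization.Away s) (LocalizedModule (Submonoid.powers s) M)) := by
  classical
  by_cases hne : Z.Nonempty
  swap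
  · refine ⟨0, fun p hp => (hne ⟨p, hp⟩).elim, ?_⟩
    haveI : Subsingleton (Localization.Away (0 : A)) :=
      IsLocalization.subsingleton (M := Submonoid.powers (0 : A)) ⟨1, by simp⟩
    haveI : Subsingleton (LocalizedModule (Submonoid.powers (0 : A)) M) :=
      Module.subsingleton (Localization.Away (0 : A)) _
    exact ⟨Module.Basis.ofRepr (LinearEquiv.ofSubsingleton _ _)⟩
  · obtain ⟨p₀, hp₀⟩ := hne
    set T : Submonoid A := ⨅ p ∈ hZ.toFinset, p.asIdeal.primeCompl with hT
    haveI := finite_maxSpec hZ.toFinset
    have hdp : Disjoint (T : Set A) (p₀.asIdeal : Set A) := by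
      rw [Set.disjoint_left]
      intro x hxT
      exact (mem_T hZ.toFinset x).mp hxT p₀ (hZ.mem_toFinset.mpr hp₀)
    have hprime : (p₀.asIdeal.map (algebraMap A (Localization T))).IsPrime :=
      IsLocalization.isPrime_of_isPrime_disjoint T _ _ p₀.2 hdp
    haveI : Nontrivial (Localization T) := by
      by_contra hnt
      rw [not_nontrivial_iff_subsingleton] at hnt
      exact hprime.ne_top (Subsingleton.elim _ _)
    have hbc := IsLocalizedModule.isBaseChange T (Localization T) (LocalizedModule.mkLinearMap T M)
    have hrk : ∀ q : PrimeSpectrum (Localization T),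
        rankAtStalk (LocalizedModule T M) q = r := fun q => by
      rw [rankAtStalk_isBaseChange hbc, hr]
    haveI hfree : Module.Free (Localization T) (LocalizedModule T M) :=
      Module.free_of_flat_of_finrank_eq (Localization T) (LocalizedModule T M) r
        (fun P => by
          haveI := P.isMaximal
          rw [finrank_quot_eq, hrk])
    have hrank : finrank (Localization T) (LocalizedModule T M) = r := by
      have := congrFun (rankAtStalk_eq_finrank_of_free (R := Localization T)
        (M := LocalizedModule T M)) ⟨_, hprime⟩
      rw [hrk] at this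
      exact this.symm
    haveI : Module.FinitePresentation A M := Module.finitePresentation_of_projective A M
    obtain ⟨s, hsT, hsfree, hsrank⟩ :=
      Module.FinitePresentation.exists_free_localizedModule_powers T
        (LocalizedModule.mkLinearMap T M) (Localization T)
    refine ⟨s, fun p hp => (mem_T hZ.toFinset s).mp hsT p (hZ.mem_toFinset.mpr hp), ?_⟩
    haveI := hsfree
    haveI : Nontrivial (Localization.Away s) :=
      (show Localization (Submonoid.powers s) →+* Localization T from
        IsLocalization.map (M := Submonoid.powers s) (T := T) _ (RingHom.id _)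
          (Submonoid.powers_le.mpr hsT)).domain_nontrivial
    exact ⟨Module.finBasisOfFinrankEq _ _ (hsrank.trans hrank)⟩

end

/-- Let A be a commutative ring, M a finitely generated projective A-module whose rank at every prime is
r, and Z a finite set of prime ideals of A. Then there is an element s of A outside every prime of Z
such that the localized module M_s has a basis of r elements over A_s. (The published statement is
for a finite locally free module of constant rank r on a scheme and a finite set of points inside an
affine open Spec A, and produces a basic open D(s) containing the points on which the module is free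
of rank r; its argument begins by replacing the scheme with Spec A, and this row states that case.) -/
theorem result (A : Type u) [CommRing A]
    (M : Type u) [AddCommGroup M] [Module A M] [Module.Finite A M] [Module.Projective A M] (r : ℕ)
    (hr : ∀ p : PrimeSpectrum A, Module.rankAtStalk M p = r)
    (Z : Set (PrimeSpectrum A)) (hZ : Z.Finite) :
    ∃ s : A, (∀ p ∈ Z, s ∉ p.asIdeal) ∧
      Nonempty (Module.Basis (Fin r) (Localization.Away s) (LocalizedModule (Submonoid.powers s) M)) := by
  exact Groth.Agent.S10836.main A M r hr Z hZ

end Groth.Agent.S10836
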