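import Groth.Statements.S10837
import Mathlib.AlgebraicGeometry.Morphisms.UniversallyOpen

set_option autoImplicit false
universe u
open CategoryTheory AlgebraicGeometry Topology
open Mor

namespace Groth.Agent.S10837

theorem generalizingMap_comap_of_isOpenMap {R S : Type*} [CommRing R] [CommRing S] (φ : R →+* S)
    (h : IsOpenMap (PrimeSpectrum.comap φ)) : GeneralizingMap (PrimeSpectrum.comap φ) := by
  intro p q' hq'
  classical
  let I : Ideal S := q'.asIdeal.map φ
  let M : Submonoid S := p.asIdeal.primeCompl ⊔ (q'.asIdeal.primeCompl.map φ)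
  have hdisj : Disjoint (I : Set S) (M : Set S) := by
    rw [Set.disjoint_left]
    rintro s hsI hsM
    obtain ⟨a, ha, b, hb, rfl⟩ := Submonoid.mem_sup.1 hsM
    obtain ⟨r, hr, rfl⟩ := hb
    have hopen : IsOpen (PrimeSpectrum.comap φ '' (PrimeSpectrum.basicOpen a : Set (PrimeSpectrum S))) :=
      h _ (PrimeSpectrum.basicOpen a).isOpen
    have hmem : PrimeSpectrum.comap φ p ∈
        PrimeSpectrum.comap φ '' (PrimeSpectrum.basicOpen a : Set (PrimeSpectrum S)) :=
      ⟨p, ha, rfl⟩
    obtain ⟨P', hP'a, hP'⟩ := hq'.mem_open hopen hmem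
    have hIP : I ≤ P'.asIdeal := by
      rw [Ideal.map_le_iff_le_comap]
      rw [← hP']
      exact le_rfl
    have h1 : a * φ r ∈ P'.asIdeal := hIP hsI
    rcases P'.isPrime.mem_or_mem h1 with h2 | h2
    · exact hP'a h2
    · apply hr
      rw [← hP']
      exact h2
  obtain ⟨P, hPprime, hIP, hPM⟩ := Ideal.exists_le_prime_disjoint I M hdisj
  refine ⟨⟨P, hPprime⟩, ?_, ?_⟩
  · change (⟨P, hPprime⟩ : PrimeSpectrum S) ⤳ p
    rw [← PrimeSpectrum.le_iff_specializes]
    intro s hs
    by_contra hsp
    exact Set.disjoint_left.1 hPM hs (Submonoid.mem_sup_left hsp)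
  · apply PrimeSpectrum.ext
    apply le_antisymm
    · intro r hr
      by_contra hrq
      exact Set.disjoint_left.1 hPM hr (Submonoid.mem_sup_right ⟨r, hrq, rfl⟩)
    · intro r hr
      exact hIP (Ideal.mem_map_of_mem φ hr)

/-- For a morphism of schemes f : X → Y which is open as a map of topological spaces, generalizations
lift along f: every generalization of f(x) is the image of a generalization of x. -/
theorem result {X Y : Scheme.{u}} (f : X ⟶ Y) (hf : IsOpenMap f.base) :
    GeneralizingMap f.base := by
  change topologically GeneralizingMap f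
  have hf' : topologically IsOpenMap f := hf
  clear hf
  wlog hY : ∃ R, Y = Spec R
  · rw [IsZariskiLocalAtTarget.iff_of_openCover (P := topologically GeneralizingMap) Y.affineCover]
    intro i
    dsimp only [Scheme.Cover.pullbackHom]
    refine this _ ?_ ⟨_, rfl⟩
    exact IsZariskiLocalAtTarget.of_isPullback (P := topologically IsOpenMap)
      (iY := Y.affineCover.f i) (IsPullback.of_hasPullback ..) hf'
  obtain ⟨R, rfl⟩ := hY
  wlog hX : ∃ S, X = Spec S
  · rw [IsZariskiLocalAtSource.iff_of_openCover (P := topologically GeneralizingMap) X.affineCover]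
    intro i
    refine this _ _ ?_ ⟨_, rfl⟩
    exact IsZariskiLocalAtSource.comp (P := topologically IsOpenMap) hf' _
  obtain ⟨S, rfl⟩ := hX
  obtain ⟨φ, rfl⟩ := Spec.map_surjective f
  exact generalizingMap_comap_of_isOpenMap φ.hom hf'

end Groth.Agent.S10837
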