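import Groth.Statements.S10838
import Groth.Agent.S10837
import Mathlib.Topology.KrullDimension

set_option autoImplicit false
universe u
open CategoryTheory AlgebraicGeometry Topology
open Mor

namespace Groth.Agent.S10838

theorem krullDim_le_of_generalizing {X T : Type*} [TopologicalSpace X] [TopologicalSpace T]
    [QuasiSober T] (g : X → T) (hc : Continuous g) (hs : Function.Surjective g)
    (hg : GeneralizingMap g) : topologicalKrullDim T ≤ topologicalKrullDim X := by
  classical
  have key : ∀ (n : ℕ) (q : LTSeries (TopologicalSpace.IrreducibleCloseds T)), q.length = n → ∀ x₀ : X,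
      IsGenericPoint (g x₀) (q.head : Set T) →
      ∃ p : LTSeries (TopologicalSpace.IrreducibleCloseds X), p.length = n ∧ (p.head : Set X) = closure {x₀} := by
    intro n
    induction n with
    | zero =>
      intro q _ x₀ _
      exact ⟨RelSeries.singleton _ ⟨closure {x₀}, isIrreducible_singleton.closure,
        isClosed_closure⟩, rfl, rfl⟩
    | succ n ih =>
      intro q hq x₀ hx₀
      have hne : q.length ≠ 0 := by omega
      have h01 : q.head < (q.tail hne).head := q.3 ⟨0, Nat.zero_lt_of_ne_zero hne⟩
      set Z₁ := (q.tail hne).head with hZ₁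
      have hgen := Z₁.isIrreducible.isGenericPoint_genericPoint Z₁.isClosed
      set ξ₁ := Z₁.isIrreducible.genericPoint with hξ₁
      have hmem : g x₀ ∈ (Z₁ : Set T) := by
        have h1 : g x₀ ∈ (q.head : Set T) := hx₀.mem
        exact (show (q.head : Set T) ⊆ (Z₁ : Set T) from h01.le) h1
      have hspec : ξ₁ ⤳ g x₀ := hgen.specializes hmem
      obtain ⟨x₁, hx₁, hgx₁⟩ := hg hspec
      obtain ⟨p', hp'len, hp'head⟩ := ih (q.tail hne)
        (by rw [RelSeries.tail_length, hq, Nat.add_sub_cancel]) x₁ (by
        rw [hgx₁]
        exact hgen)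
      let Z₀ : TopologicalSpace.IrreducibleCloseds X := ⟨closure {x₀}, isIrreducible_singleton.closure,
        isClosed_closure⟩
      have hlt : Z₀ < p'.head := by
        refine lt_of_le_of_ne ?_ ?_
        · change (Z₀ : Set X) ⊆ (p'.head : Set X)
          rw [hp'head]
          exact specializes_iff_closure_subset.1 hx₁
        · intro heq
          have h2 : closure {x₀} = closure {x₁} := by
            rw [← hp'head, ← heq]
            rfl
          have h3 : x₀ ⤳ x₁ := specializes_iff_closure_subset.2 h2.ge
          have h4 : g x₀ ⤳ g x₁ := h3.map hc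
          rw [hgx₁] at h4
          have h5 : ξ₁ ∈ (q.head : Set T) := by
            rw [← hx₀.def]
            exact h4.mem_closure
          have h6 : (Z₁ : Set T) ⊆ (q.head : Set T) := by
            rw [← hgen.def]
            exact closure_minimal (Set.singleton_subset_iff.2 h5) q.head.isClosed
          exact lt_irrefl _ (lt_of_lt_of_le h01 (show Z₁ ≤ q.head from h6))
      refine ⟨p'.cons Z₀ hlt, ?_, ?_⟩
      · rw [RelSeries.cons_length, hp'len]
      · rw [RelSeries.head_cons]
        rfl
  unfold topologicalKrullDim
  rw [Order.krullDim]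
  refine iSup_le fun q => ?_
  obtain ⟨x₀, hx₀⟩ := hs (q.head.isIrreducible.genericPoint)
  obtain ⟨p, hp, -⟩ := key q.length q rfl x₀ (by
    rw [hx₀]
    exact q.head.isIrreducible.isGenericPoint_genericPoint q.head.isClosed)
  rw [← hp]
  exact Order.LTSeries.length_le_krullDim p

/-- For a morphism of schemes f : X → Y which is open as a map of topological spaces, the Krull
dimension of the image f(X) (with the subspace topology from Y) is at most the Krull dimension of X. -/
theorem result {X Y : Scheme.{u}} (f : X ⟶ Y) (hf : IsOpenMap f.base) :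
    topologicalKrullDim ↥(Set.range f.base) ≤ topologicalKrullDim ↥X := by
  have hgen := Groth.Agent.S10837.result f hf
  haveI : QuasiSober ↥(Set.range f.base) :=
    (hf.isOpen_range.isOpenEmbedding_subtypeVal).quasiSober
  refine krullDim_le_of_generalizing (Set.rangeFactorization f.base)
    (f.base.hom.continuous.subtype_mk _) Set.rangeFactorization_surjective ?_
  intro x t ht
  have h1 : (t : Y) ⤳ f.base x := ht.map continuous_subtype_val
  obtain ⟨x', hx', hfx'⟩ := hgen h1
  exact ⟨x', hx', Subtype.ext hfx'⟩

end Groth.Agent.S10838
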