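import Groth.Statements.S10839
import Groth.Agent.S10830

set_option autoImplicit false
universe u
open CategoryTheory AlgebraicGeometry Topology
open Variety

namespace Groth.Agent.S10839

/-- A closed immersion i : Y → X into an integral scheme X with dim X = dim Y < ∞ is an isomorphism. -/
theorem result {X Y : Scheme.{u}} (i : Y ⟶ X)
    [IsClosedImmersion i] [IsIntegral X] (hfin : topologicalKrullDim ↥X ≠ ⊤)
    (hdim : topologicalKrullDim ↥X = topologicalKrullDim ↥Y) : IsIso i := by
  have hcl : Topology.IsClosedEmbedding i.base := i.isClosedEmbedding
  have hrange : Set.range i.base = Set.univ := by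
    by_contra hne
    have h1 := Groth.Agent.S10830.result ↥X hfin (Set.range i.base) hcl.isClosed_range hne
    have h2 : topologicalKrullDim ↥Y = topologicalKrullDim ↥(Set.range i.base) :=
      IsHomeomorph.topologicalKrullDim_eq _
        (hcl.isEmbedding.toHomeomorph.isHomeomorph)
    rw [← h2, ← hdim] at h1
    exact lt_irrefl _ h1
  haveI : Surjective i := ⟨Set.range_eq_univ.1 hrange⟩
  exact isIso_of_isClosedImmersion_of_surjective i

end Groth.Agent.S10839
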