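import Groth.Statements.S10851
import Groth.Agent.Lib.Helper23.MeroD5

set_option autoImplicit false
universe u
open Mero

namespace Groth.Agent.S10851

open AlgebraicGeometry in
/-- Let X be a locally Noetherian scheme and D a divisor on X (a global section of K_X^×/O_X^×). Then
the support of D has codimension at least 1 in X: for every point z at which the germ of D is
non-trivial, the local ring O_{X,z} has Krull dimension at least 1. -/
theorem result {X : Scheme.{u}} [IsLocallyNoetherian X]
    (D : Mero.Divisor X) (z : X) (hz : z ∈ Mero.supp D) :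
    (1 : WithBot ℕ∞) ≤ ringKrullDim (X.presheaf.stalk z) := by
  classical
  open Groth.Agent.Helper23.CDivDepth Groth.Agent.Helper23.DepthExt in
  by_contra hdim
  obtain ⟨W, a, b, ha, hb, hzW, hrep⟩ := exists_local_rep D z
  have hz' : D.1 z ≠ 1 := hz
  apply hz'
  have hle : ringKrullDim (X.presheaf.stalk z) ≤ 0 := by
    rw [not_le] at hdim
    generalize ringKrullDim (X.presheaf.stalk z) = d at hdim
    induction d using WithBot.recBotCoe with
    | bot => exact bot_le
    | coe n =>
      have h1 : n < 1 := by exact_mod_cast hdim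
      rw [ENat.lt_one_iff_eq_zero] at h1
      rw [h1]
      rfl
  haveI : Ring.KrullDimLE 0 (X.presheaf.stalk z) := (Ring.krullDimLE_iff (n := 0)).2 hle
  have hunit : ∀ c : X.presheaf.stalk z, c ∈ nonZeroDivisors (X.presheaf.stalk z) → IsUnit c := by
    intro c hc
    by_contra hu
    have hnil : IsNilpotent c := Ring.KrullDimLE.isNilpotent_iff_mem_nonunits.2 hu
    obtain ⟨n, hn⟩ := hnil
    have h0 : c ^ n ∈ nonZeroDivisors (X.presheaf.stalk z) := pow_mem hc n
    rw [hn] at h0
    exact zero_notMem_nonZeroDivisors h0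
  rw [germ_eq_one_iff D W a b ha hb hrep z hzW]
  exact ⟨(hunit _ (hb ⟨z, hzW⟩)).dvd, (hunit _ (ha ⟨z, hzW⟩)).dvd⟩

end Groth.Agent.S10851
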