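import Groth.Statements.S10860
import Mathlib.AlgebraicGeometry.ZariskisMainTheorem

set_option autoImplicit false
universe u
open Mor

namespace Groth.Agent.S10860

open CategoryTheory AlgebraicGeometry in
theorem finite_fibre_of_isFinite_restrict {X Y : Scheme.{u}} (f : X ⟶ Y) (V : Y.Opens)
    [IsFinite (f ∣_ V)] (y : Y) (hy : y ∈ V) : (f.base ⁻¹' {y}).Finite := by
  have h1 := Scheme.Hom.finite_preimage_singleton (f ∣_ V) ⟨y, hy⟩
  refine (h1.image (f ⁻¹ᵁ V).ι).subset ?_
  intro x hx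
  have hxV : x ∈ f ⁻¹ᵁ V := by
    show f x ∈ V
    rw [Set.mem_preimage, Set.mem_singleton_iff] at hx
    rw [hx]; exact hy
  refine ⟨⟨x, hxV⟩, ?_, rfl⟩
  rw [Set.mem_preimage, Set.mem_singleton_iff]
  apply Subtype.ext
  have := congrArg (fun g : (f ⁻¹ᵁ V).toScheme ⟶ Y => g.base (⟨x, hxV⟩ : ↥(f ⁻¹ᵁ V)))
    (morphismRestrict_ι f V)
  simp only [Scheme.Hom.comp_base, TopCat.comp_app] at this
  exact this.trans hx


open CategoryTheory AlgebraicGeometry in
/-- For a proper morphism f : X → Y, the set V of points of Y with finite fibre is open, and f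
restricted over V is finite (stated as the existence of an open subscheme of Y whose underlying set
is exactly V and over which f is finite). -/
theorem result {X Y : Scheme.{u}} (f : X ⟶ Y) [IsProper f] :
    ∃ U : Y.Opens, (U : Set Y) = {y : Y | (f.base ⁻¹' {y}).Finite} ∧ IsFinite (f ∣_ U) := by
  have H : ∀ y : {y : Y // (f.base ⁻¹' {y}).Finite}, ∃ V : Y.Opens, y.1 ∈ V ∧ IsFinite (f ∣_ V) :=
    fun y => exists_isFinite_morphismRestrict_of_finite_preimage_singleton f y.1 y.2
  choose V hyV hV using H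
  refine ⟨⨆ y, V y, ?_, ?_⟩
  · ext y'
    simp only [TopologicalSpace.Opens.coe_iSup, Set.mem_iUnion, SetLike.mem_coe, Set.mem_setOf_eq]
    constructor
    · rintro ⟨y, hy⟩
      haveI := hV y
      exact finite_fibre_of_isFinite_restrict f (V y) y' hy
    · intro hy'
      exact ⟨⟨y', hy'⟩, hyV ⟨y', hy'⟩⟩
  · apply IsZariskiLocalAtTarget.of_forall_exists_morphismRestrict (P := @IsFinite)
    rintro ⟨x, hx⟩
    obtain ⟨y, hy⟩ := TopologicalSpace.Opens.mem_iSup.mp hx
    refine ⟨(⨆ y, V y).ι ⁻¹ᵁ V y, hy, ?_⟩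
    have hle : V y ≤ ⨆ y, V y := le_iSup V y
    have himg : (⨆ y, V y).ι ''ᵁ ((⨆ y, V y).ι ⁻¹ᵁ V y) = V y := by
      rw [Scheme.Hom.image_preimage_eq_opensRange_inf, Scheme.Opens.opensRange_ι]
      exact inf_eq_right.mpr hle
    have e := morphismRestrictRestrict f (⨆ y, V y) ((⨆ y, V y).ι ⁻¹ᵁ V y) ≪≫
      morphismRestrictEq f himg
    rw [MorphismProperty.arrow_mk_iso_iff @IsFinite e]
    exact hV y

end Groth.Agent.S10860
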