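import Groth.Statements.S10868
import Mathlib.AlgebraicGeometry.ZariskisMainTheorem

set_option autoImplicit false
universe u
open Mor

namespace Groth.Agent.S10868

open CategoryTheory AlgebraicGeometry in
theorem isAffine_of_isQuasiAffine_of_isProper {U V : Scheme.{u}} (g : U ⟶ V) [IsAffine V]
    [U.IsQuasiAffine] [IsProper g] : IsAffine U := by
  have hnat : U.toSpecΓ ≫ Spec.map g.appTop = g ≫ V.toSpecΓ :=
    (Scheme.toSpecΓ_naturality g).symm
  have hfac : U.toSpecΓ ≫ (Spec.map g.appTop ≫ inv V.toSpecΓ) = g := by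
    rw [← Category.assoc, hnat, Category.assoc, IsIso.hom_inv_id, Category.comp_id]
  have : IsProper (U.toSpecΓ ≫ (Spec.map g.appTop ≫ inv V.toSpecΓ)) := by
    rw [hfac]; infer_instance
  have hp : IsProper U.toSpecΓ := IsProper.of_comp _ (Spec.map g.appTop ≫ inv V.toSpecΓ)
  have hci : IsClosedImmersion U.toSpecΓ :=
    (IsClosedImmersion.iff_isProper_and_mono _).mpr ⟨hp, inferInstance⟩
  exact isAffine_of_isAffineHom U.toSpecΓ

open CategoryTheory AlgebraicGeometry in
theorem result {X Y : Scheme.{u}} (f : X ⟶ Y) :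
    IsFinite f ↔ IsProper f ∧ Mor2.IsQuasiAffine f := by
  constructor
  · intro h
    refine ⟨inferInstance, inferInstance, fun V hV => ?_⟩
    have : IsAffine (f ⁻¹ᵁ V).toScheme := hV.preimage f
    infer_instance
  · rintro ⟨hp, hqc, hqa⟩
    rw [IsFinite.iff_isProper_and_isAffineHom]
    refine ⟨hp, ⟨fun V hV => ?_⟩⟩
    have := hqa V hV
    have : IsAffine V.toScheme := hV
    exact isAffine_of_isQuasiAffine_of_isProper (f ∣_ V)

end Groth.Agent.S10868
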