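import Groth.Statements.S11250
import Mathlib
import Groth.Agent.Lib.Helper2.SMT
-- import your own Groth.Agent.* helpers here

set_option autoImplicit false
universe u
open W4bk4grassmannian

namespace Groth.Agent.S11250

section
open W4bk4grassmannian MvPolynomial Groth.Agent.Lib.Helper2.SMT

theorem main (K : Type u) [Field K] [IsAlgClosed K] (d n : ℕ)
    (hd : 0 < d) (hdn : d < n) (τ : Idx d n) :
    plIdeal K τ = schubertVanishing K d n τ := by
  apply le_antisymm (plIdeal_le τ)
  intro p hp
  obtain ⟨q, hq, i, hi, rfl⟩ := Submodule.mem_sup.mp (span_std τ p)
  have hi' : i ∈ plIdeal K τ := hi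
  have hiJ : i ∈ schubertVanishing K d n τ := plIdeal_le τ hi'
  have hqJ : q ∈ schubertVanishing K d n τ := by
    have := (schubertVanishing K d n τ).sub_mem hp hiJ
    rwa [add_sub_cancel_right] at this
  have hq0 : q = 0 := Sstd_inter hd τ q hq (schubertVanishing_le_ker τ q hqJ)
  rw [hq0, zero_add]
  exact hi'

end

open W4bk4grassmannian in
/-- The shuffle relations together with the vanishing coordinates generate the homogeneous ideal of a
Schubert variety: let K be an algebraically closed field, 0 < d < n, and I(d,n) the strictly
increasing maps Fin d → Fin n ordered entrywise; S = K[X_θ : θ ∈ I(d,n)] is the Plücker polynomial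
ring and, for τ ∈ I(d,n), J(τ) ⊆ S is the ideal of polynomials vanishing at the d × d row-minors of
every n × d matrix over K whose minors on rows φ ≰ τ are zero (the homogeneous ideal of the Schubert
variety X(τ) ⊆ G(d,n)). Then the ideal I(τ) generated by the quadratic shuffle relations at pivots
(for i, j ∈ I(d,n) and r with j_t ≤ i_t for t < r and i_r < j_r, the signed sum over all shuffles of
the rows i_0, …, i_r, j_r, …, j_{d-1}) together with the variables X_φ, φ ≰ τ, is equal to J(τ). For
τ the largest element this says that the shuffle relations generate the homogeneous ideal of the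
Grassmannian G(d,n). -/
theorem result (K : Type u) [Field K] [IsAlgClosed K] (d n : ℕ)
    (hd : 0 < d) (hdn : d < n) (τ : Idx d n) :
    plIdeal K τ = schubertVanishing K d n τ := by
  exact Groth.Agent.S11250.main K d n hd hdn τ

end Groth.Agent.S11250
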