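import Groth.Statements.S11273
import Mathlib
import Groth.Agent.Lib.Helper2.HibiDeg
-- import your own Groth.Agent.* helpers here

set_option autoImplicit false
universe u
open W4bk4grassmannian

namespace Groth.Agent.S11273

section
open W4bk4grassmannian MvPolynomial Groth.Agent.S11251 Groth.Agent.Lib.Helper2.SMT
  Groth.Agent.Lib.Helper2.StdFam Groth.Agent.Lib.Helper2.ReesFam Groth.Agent.Lib.Helper2.StdFamB
  Groth.Agent.Lib.Helper2.HibiDeg

attribute [local instance] Polynomial.algebra

variable {K : Type u} [Field K] {d n : ℕ}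

/-- the Hibi weight -/
def ωH (w : Idx d n) (L : StdIdx w) : ℕ := lamL L.1

/-- the weighted family degenerating to the Hibi ring -/
noncomputable def famH [Infinite K] (hd : 0 < d) (w : Idx d n) :
    Fam K (PlRing K d n ⧸ schubertVanishing K d n w) (StdIdx w) where
  a := stdA K w
  ω := ωH w
  li := stdA_li hd w
  span := stdA_span w
  i₀ := nilIdx w
  a_i₀ := stdA_nil w
  ω_i₀ := by simp [ωH, nilIdx, lamL]
  mul := by
    intro L M
    apply mem_span_of_natDegree hd w
    rw [map_mul, map_mul]
    apply Polynomial.natDegree_mul_le_of_le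
    · show (Ω K d n (ψbar K w (Ideal.Quotient.mk _ (listMon K L.1)))).natDegree ≤ _
      rw [ψbar_mk]
      exact (Ω_ψ_listMon w L.1 L.2.2).1
    · show (Ω K d n (ψbar K w (Ideal.Quotient.mk _ (listMon K M.1)))).natDegree ≤ _
      rw [ψbar_mk]
      exact (Ω_ψ_listMon w M.1 M.2.2).1

theorem lamL_cons (θ : Idx d n) (L : List (Idx d n)) : lamL (θ :: L) = lam θ + lamL L := by
  unfold lamL
  simp

theorem lamL_sing (θ : Idx d n) : lamL [θ] = lam θ := by
  unfold lamL
  simp

theorem ωH_add (w : Idx d n) (θ : Idx d n) (L : List (Idx d n)) (h : IsStd w (θ :: L))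
    (h1 : IsStd w [θ]) (h2 : IsStd w L) :
    ωH w ⟨θ :: L, h⟩ = ωH w ⟨[θ], h1⟩ + ωH w ⟨L, h2⟩ := by
  unfold ωH
  simp only
  rw [lamL_cons, lamL_sing]

theorem lam_sup_inf (a b : Idx d n) : lam (sup a b) + lam (inf a b) = lam a + lam b := by
  unfold lam
  rw [← Finset.sum_add_distrib, ← Finset.sum_add_distrib]
  apply Finset.sum_congr rfl
  intro t _
  show (max (a.1 t) (b.1 t)).val * t.val + 1 + ((min (a.1 t) (b.1 t)).val * t.val + 1) = _
  rcases le_total (a.1 t) (b.1 t) with h | h
  · rw [max_eq_right h, min_eq_left h]; ring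
  · rw [max_eq_left h, min_eq_right h]

theorem Dm_sup_inf (a b : Idx d n) : Dm K (sup a b) * Dm K (inf a b) = Dm K a * Dm K b := by
  unfold Dm
  rw [← Finset.prod_mul_distrib, ← Finset.prod_mul_distrib]
  apply Finset.prod_congr rfl
  intro t _
  show X (max (a.1 t) (b.1 t), t) * X (min (a.1 t) (b.1 t), t) = _
  rcases le_total (a.1 t) (b.1 t) with h | h
  · rw [max_eq_right h, min_eq_left h]; ring
  · rw [max_eq_left h, min_eq_right h]

theorem lam_pos (hd : 0 < d) (θ : Idx d n) : 1 ≤ lam θ := by
  unfold lam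
  have : ∑ t : Fin d, 1 ≤ ∑ t : Fin d, ((θ.1 t).val * t.val + 1) := by
    apply Finset.sum_le_sum
    intro t _
    omega
  simp at this
  omega

theorem stdA_sing (w : Idx d n) (a : Below w) :
    stdA K w (sing w a) = Ideal.Quotient.mk _ (X a.1) := by
  unfold stdA sing
  simp only
  rw [listMon_cons, listMon_nil, mul_one]

theorem hibiGen_zero [Infinite K] (hd : 0 < d) (w : Idx d n) (a b : Below w) :
    (famH (K := K) hd w).e' (sing w a) * (famH (K := K) hd w).e' (sing w b) -
      (famH (K := K) hd w).e' (sing w (Below.sup a b)) * (famH (K := K) hd w).e' (sing w (Below.inf a b)) ∈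
      Ideal.span {algebraMap (Polynomial K) (famH (K := K) hd w).R Polynomial.X} := by
  set F := famH (K := K) hd w with hF
  have hωa : F.ω (sing w a) = lam a.1 := lamL_sing a.1
  have hωb : F.ω (sing w b) = lam b.1 := lamL_sing b.1
  have hωs : F.ω (sing w (Below.sup a b)) = lam (sup a.1 b.1) := lamL_sing _
  have hωi : F.ω (sing w (Below.inf a b)) = lam (inf a.1 b.1) := lamL_sing _
  have hpos := lam_pos hd a.1
  have hsi := lam_sup_inf a.1 b.1
  apply F.mem_span_X_of_monomial _ (lam a.1 + lam b.1 - 1)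
    (F.a (sing w a) * F.a (sing w b) - F.a (sing w (Below.sup a b)) * F.a (sing w (Below.inf a b)))
  · show _ ∈ Submodule.span K (stdA K w '' {L | lamL L.1 ≤ lam a.1 + lam b.1 - 1})
    apply mem_span_of_natDegree hd w
    show (Ω K d n (ψbar K w (stdA K w (sing w a) * stdA K w (sing w b) -
      stdA K w (sing w (Below.sup a b)) * stdA K w (sing w (Below.inf a b))))).natDegree ≤ _
    rw [stdA_sing, stdA_sing, stdA_sing, stdA_sing, map_sub, map_mul, map_mul, ψbar_mk, ψbar_mk,
      ψbar_mk, ψbar_mk, map_sub, map_mul, map_mul]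
    have ha := Ω_ψ_X (K := K) w a.1 a.2
    have hb := Ω_ψ_X (K := K) w b.1 b.2
    have hs := Ω_ψ_X (K := K) w (Below.sup a b).1 (Below.sup a b).2
    have hi := Ω_ψ_X (K := K) w (Below.inf a b).1 (Below.inf a b).2
    have hs' : (Below.sup a b).1 = sup a.1 b.1 := rfl
    have hi' : (Below.inf a b).1 = inf a.1 b.1 := rfl
    rw [hs'] at hs
    rw [hi'] at hi
    rw [hs', hi']
    have d1 := Polynomial.natDegree_mul_le_of_le ha.1 hb.1
    have d2 := Polynomial.natDegree_mul_le_of_le hs.1 hi.1
    rw [hsi] at d2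
    have c1 := Polynomial.coeff_mul_add_eq_of_natDegree_le ha.1 hb.1
    have c2 := Polynomial.coeff_mul_add_eq_of_natDegree_le hs.1 hi.1
    rw [hsi] at c2
    rw [Polynomial.natDegree_le_iff_coeff_eq_zero]
    intro M hM
    rcases (show lam a.1 + lam b.1 ≤ M by omega).lt_or_eq with hlt | heq
    · apply Polynomial.coeff_eq_zero_of_natDegree_lt
      exact lt_of_le_of_lt (Polynomial.natDegree_sub_le_of_le d1 d2) (by rw [max_self]; exact hlt)
    · rw [← heq, Polynomial.coeff_sub, c1, c2, ha.2, hb.2, hs.2, hi.2, Dm_sup_inf, sub_self]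
  · rw [Subalgebra.coe_sub, Subalgebra.coe_mul, Subalgebra.coe_mul, Fam.coe_e', Fam.coe_e',
      Fam.coe_e', Fam.coe_e']
    unfold Fam.e
    rw [Polynomial.monomial_mul_monomial, Polynomial.monomial_mul_monomial, hωa, hωb, hωs, hωi, hsi,
      ← map_sub]
    congr 2
    omega

theorem wt_sup_inf (a b : Idx d n) : wt (sup a b).1 + wt (inf a b).1 = wt a.1 + wt b.1 := by
  unfold wt
  rw [← Finset.sum_add_distrib, ← Finset.sum_add_distrib]
  apply Finset.sum_congr rfl
  intro t _
  show (max (a.1 t) (b.1 t)).val + (min (a.1 t) (b.1 t)).val = _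
  rcases le_total (a.1 t) (b.1 t) with h | h
  · rw [max_eq_right h, min_eq_left h]; ring
  · rw [max_eq_left h, min_eq_right h]

theorem wt_lt_sup_left (a b : Idx d n) (h : ¬ b ≤ a) : wt a.1 < wt (sup a b).1 := by
  unfold wt
  have h1 : ∃ t, a.1 t < b.1 t := by
    by_contra hcon
    push Not at hcon
    exact h (fun t => hcon t)
  obtain ⟨t₀, ht₀⟩ := h1
  apply Finset.sum_lt_sum
  · intro t _
    show (a.1 t).val ≤ (max (a.1 t) (b.1 t)).val
    exact Fin.le_def.mp (le_max_left _ _)
  · refine ⟨t₀, Finset.mem_univ _, ?_⟩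
    show (a.1 t₀).val < (max (a.1 t₀) (b.1 t₀)).val
    exact Fin.lt_def.mp (lt_of_lt_of_le ht₀ (le_max_right _ _))

theorem wt_lt_sup_right (a b : Idx d n) (h : ¬ a ≤ b) : wt b.1 < wt (sup a b).1 := by
  unfold wt
  have h1 : ∃ t, b.1 t < a.1 t := by
    by_contra hcon
    push Not at hcon
    exact h (fun t => hcon t)
  obtain ⟨t₀, ht₀⟩ := h1
  apply Finset.sum_lt_sum
  · intro t _
    show (b.1 t).val ≤ (max (a.1 t) (b.1 t)).val
    exact Fin.le_def.mp (le_max_right _ _)
  · refine ⟨t₀, Finset.mem_univ _, ?_⟩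
    show (b.1 t₀).val < (max (a.1 t₀) (b.1 t₀)).val
    exact Fin.lt_def.mp (lt_of_lt_of_le ht₀ (le_max_left _ _))

theorem hibi_span (w : Idx d n) (L : List (Below w)) :
    Ideal.Quotient.mk (hibiIdeal K w) (monB K w L) ∈
      Submodule.span K (Set.range (bB K w (hibiIdeal K w))) := by
  induction' hk : (L.length * (d * n) ^ 2 - Phi (L.map Subtype.val)) using Nat.strong_induction_on
    with k ih generalizing L
  by_cases hp : L.Pairwise fun x y => x ≤ y ∨ y ≤ x
  · exact chain_mem_bB w _ L hp
  rw [List.pairwise_iff_forall_sublist] at hp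
  push Not at hp
  obtain ⟨x, y, hsub, hxy1, hxy2⟩ := hp
  obtain ⟨L'', hperm⟩ := hsub.exists_perm_append
  have hperm' : L.Perm (x :: y :: L'') := hperm
  set L2 : List (Below w) := Below.sup x y :: Below.inf x y :: L'' with hL2
  have heq : Ideal.Quotient.mk (hibiIdeal K w) (monB K w L) =
      Ideal.Quotient.mk (hibiIdeal K w) (monB K w L2) := by
    rw [monB_perm w hperm', monB_cons, monB_cons, hL2, monB_cons, monB_cons, ← mul_assoc, ← mul_assoc,
      Ideal.Quotient.eq, ← sub_mul]
    apply Ideal.mul_mem_right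
    exact Ideal.subset_span ⟨x, y, rfl⟩
  rw [heq]
  have hlen : L2.length = L.length := by
    rw [hperm'.length_eq]; simp [hL2]
  have hPhi : Phi (L.map Subtype.val) < Phi (L2.map Subtype.val) := by
    rw [Phi_perm (hperm'.map Subtype.val)]
    simp only [hL2, List.map_cons]
    have hs : (Below.sup x y).1 = sup x.1 y.1 := rfl
    have hi : (Below.inf x y).1 = inf x.1 y.1 := rfl
    rw [hs, hi]
    rcases le_total (wt y.1.1) (wt x.1.1) with hw | hw
    · exact Phi_lt x.1 y.1 _ _ _ (wt_sup_inf x.1 y.1) (wt_lt_sup_left x.1 y.1 hxy2) hw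
    · rw [Phi_perm (List.Perm.swap y.1 x.1 _)]
      refine Phi_lt y.1 x.1 _ _ _ ?_ (wt_lt_sup_right x.1 y.1 hxy1) hw
      rw [wt_sup_inf, add_comm]
  have hle := Phi_le (L2.map Subtype.val)
  rw [List.length_map, hlen] at hle
  apply ih (L2.length * (d * n) ^ 2 - Phi (L2.map Subtype.val)) _ _ rfl
  rw [hlen, ← hk]
  omega

theorem main (K : Type u) [Field K] [IsAlgClosed K] (d n : ℕ)
    (hd : 0 < d) (hdn : d < n) (w : Idx d n) :
    ∃ (R : Type u) (_ : CommRing R) (_ : Algebra K R) (_ : Algebra (Polynomial K) R)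
      (_ : IsScalarTower K (Polynomial K) R),
      Module.Free (Polynomial K) R ∧
      Nonempty ((R ⧸ Ideal.span {algebraMap (Polynomial K) R Polynomial.X}) ≃ₐ[K]
        (MvPolynomial (Below w) K ⧸ hibiIdeal K w)) ∧
      ∀ c : K, c ≠ 0 →
        Nonempty ((R ⧸ Ideal.span {algebraMap (Polynomial K) R (Polynomial.X - Polynomial.C c)}) ≃ₐ[K]
          (PlRing K d n ⧸ schubertVanishing K d n w)) := by
  classical
  haveI : Infinite K := IsAlgClosed.instInfinite
  apply assemble w (famH (K := K) hd w) rfl (famH (K := K) hd w).ω_i₀ (ωH_add w) (hibiIdeal K w)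
  · intro f hf
    have hle : hibiIdeal K w ≤ RingHom.ker (MvPolynomial.aeval (fun x : Below w =>
        Ideal.Quotient.mk (Ideal.span {algebraMap (Polynomial K) (famH (K := K) hd w).R Polynomial.X})
          ((famH (K := K) hd w).e' (sing w x)))).toRingHom := by
      unfold hibiIdeal
      rw [Ideal.span_le]
      rintro _ ⟨a, b, rfl⟩
      rw [SetLike.mem_coe, RingHom.mem_ker]
      show MvPolynomial.aeval _ (X a * X b - X (Below.sup a b) * X (Below.inf a b)) = 0
      rw [map_sub, map_mul, map_mul, MvPolynomial.aeval_X, MvPolynomial.aeval_X, MvPolynomial.aeval_X,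
        MvPolynomial.aeval_X, ← map_mul, ← map_mul, ← map_sub, Ideal.Quotient.eq_zero_iff_mem]
      exact hibiGen_zero hd w a b
    exact hle hf
  · exact hibi_span w

end

open W4bk4grassmannian in
/-- Toric degeneration of the cone over a Schubert variety to a Hibi ring: let K be an algebraically
closed field, 0 < d < n, and I(d,n) the strictly increasing maps Fin d → Fin n ordered entrywise; S
= K[X_θ : θ ∈ I(d,n)] is the Plücker polynomial ring and, for τ ∈ I(d,n), J(τ) ⊆ S is the ideal of
polynomials vanishing at the d × d row-minors of every n × d matrix over K whose minors on rows φ ≰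
τ are zero (the homogeneous ideal of the Schubert variety X(τ) ⊆ G(d,n)). Let w ∈ I(d,n), H(w) = {θ
≤ w} (a distributive lattice under entrywise max and min) and K[x_θ : θ ∈ H(w)] the polynomial ring
on it. Then there is a commutative K[t]-algebra R, free as a K[t]-module, whose fibre R/tR at t = 0
is K-isomorphic to the Hibi ring K[H(w)] = K[x_θ : θ ≤ w]/(x_α x_β - x_{α∨β} x_{α∧β}) and whose
fibre R/(t - c)R at every c ≠ 0 in K is K-isomorphic to S/J(w): the cone over the Schubert variety
X(w) degenerates flatly to the Hibi ring K[H(w)] = K[x_θ : θ ≤ w]/(x_α x_β - x_{α∨β} x_{α∧β}).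
(Existence of the family and of the fibre isomorphisms only; the published statement constructs the
family explicitly, by deforming the straightening relations, and identifies R[1/t] with (S/J(w))[t,
1/t], which gives the fibres at c ≠ 0.) -/
theorem result (K : Type u) [Field K] [IsAlgClosed K] (d n : ℕ)
    (hd : 0 < d) (hdn : d < n) (w : Idx d n) :
    ∃ (R : Type u) (_ : CommRing R) (_ : Algebra K R) (_ : Algebra (Polynomial K) R)
      (_ : IsScalarTower K (Polynomial K) R),
      Module.Free (Polynomial K) R ∧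
      Nonempty ((R ⧸ Ideal.span {algebraMap (Polynomial K) R Polynomial.X}) ≃ₐ[K]
        (MvPolynomial (Below w) K ⧸ hibiIdeal K w)) ∧
      ∀ c : K, c ≠ 0 →
        Nonempty ((R ⧸ Ideal.span {algebraMap (Polynomial K) R (Polynomial.X - Polynomial.C c)}) ≃ₐ[K]
          (PlRing K d n ⧸ schubertVanishing K d n w)) := by
  exact Groth.Agent.S11273.main K d n hd hdn w

end Groth.Agent.S11273
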