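import Groth.Statements.S11261
import Mathlib
import Groth.Agent.Lib.Helper2.HibiDeg
import Groth.Agent.Lib.Helper2.SMT2
import Groth.Agent.S11253
import Groth.Agent.S11273
-- import your own Groth.Agent.* helpers here

set_option autoImplicit false
universe u
open W4bk4grassmannian

namespace Groth.Agent.S11261

section
open W4bk4grassmannian MvPolynomial Groth.Agent.S11251 Groth.Agent.Lib.Helper2.SMT
  Groth.Agent.Lib.Helper2.StdFam Groth.Agent.Lib.Helper2.ReesFam Groth.Agent.Lib.Helper2.StdFamB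
  Groth.Agent.Lib.Helper2.HibiDeg Groth.Agent.Lib.Helper2.SMT2

variable {K : Type u} [Field K] {d n : ℕ}

theorem strictMono_fin_le {k m : ℕ} (f : Fin k → Fin m) (hf : StrictMono f) :
    ∀ (i j : ℕ) (hj : j < k), j + i + 1 = k → (f ⟨j, hj⟩).val + i + 1 ≤ m := by
  intro i
  induction i with
  | zero =>
    intro j hj _
    have := (f ⟨j, hj⟩).isLt
    omega
  | succ i ih =>
    intro j hj hjk
    have h1 := ih (j + 1) (by omega) (by omega)
    have h2 : f ⟨j, hj⟩ < f ⟨j + 1, by omega⟩ := hf (by simp [Fin.lt_def])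
    have h3 : (f ⟨j, hj⟩).val < (f ⟨j + 1, by omega⟩).val := h2
    omega

/-- the largest element of `I(d,n)` -/
def top (hdn : d < n) : Idx d n :=
  ⟨fun t => ⟨n - d + t.val, by have := t.isLt; omega⟩, fun a b hab => by
    rw [Fin.lt_def]
    have : a.val < b.val := hab
    simp only
    omega⟩

theorem le_top (hdn : d < n) (φ : Idx d n) : φ ≤ top hdn := by
  intro t
  show φ.1 t ≤ (⟨n - d + t.val, _⟩ : Fin n)
  rw [Fin.le_def]
  have h1 := strictMono_fin_le φ.1 φ.2 (d - 1 - t.val) t.val t.isLt (by have := t.isLt; omega)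
  simp only [Fin.eta] at h1
  simp only
  have h2 := t.isLt
  omega

theorem sv_top (hdn : d < n) : schubertVanishing K d n (top hdn) = vanishing K d n := by
  unfold schubertVanishing vanishing
  apply le_antisymm
  · apply le_iInf
    intro A
    refine iInf_le_of_le A ?_
    apply iInf_le_of_le
    · exact le_refl _
    · intro φ hφ
      exact absurd (le_top hdn φ) hφ
  · apply le_iInf
    intro A
    apply le_iInf
    intro _
    exact iInf_le _ A

/-- index pairs -/
def pairSet (w : Idx d n) (φ W : ℕ) : Set (Idx d n × Idx d n) :=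
  {p | p.2 ≤ p.1 ∧ p.1 ≤ w ∧ φ ≤ wt p.1.1 ^ 2 + wt p.2.1 ^ 2 ∧ wt p.1.1 + wt p.2.1 = W}

variable (K) in
/-- the span of the standard monomials of degree two with bounds on the weights, plus `J(w)` -/
noncomputable def T2 (w : Idx d n) (φ W : ℕ) : Submodule K (PlRing K d n) :=
  Submodule.span K ((fun p : Idx d n × Idx d n => (X p.1 * X p.2 : PlRing K d n)) '' pairSet w φ W) ⊔
    (schubertVanishing K d n w).restrictScalars K

theorem T2_anti (w : Idx d n) (W : ℕ) {φ φ' : ℕ} (h : φ ≤ φ') : T2 K w φ' W ≤ T2 K w φ W := by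
  unfold T2
  apply sup_le_sup_right
  apply Submodule.span_mono
  apply Set.image_mono
  rintro p ⟨h1, h2, h3, h4⟩
  exact ⟨h1, h2, le_trans h h3, h4⟩

theorem comparable_mem_T2 (w : Idx d n) (a b : Idx d n) (hba : b ≤ a) :
    (X a * X b : PlRing K d n) ∈ T2 K w (wt a.1 ^ 2 + wt b.1 ^ 2) (wt a.1 + wt b.1) := by
  by_cases haw : a ≤ w
  · apply Submodule.mem_sup_left
    apply Submodule.subset_span
    exact ⟨(a, b), ⟨hba, haw, le_refl _, rfl⟩, rfl⟩
  · apply Submodule.mem_sup_right
    show X a * X b ∈ schubertVanishing K d n w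
    exact Ideal.mul_mem_right _ _ (X_mem_schubertVanishing w a haw)

theorem refined2 (w : Idx d n) (a b : Idx d n) :
    (X a * X b : PlRing K d n) ∈ T2 K w (wt a.1 ^ 2 + wt b.1 ^ 2) (wt a.1 + wt b.1) ∧
      (¬ a ≤ b → ¬ b ≤ a →
        (X a * X b : PlRing K d n) ∈ T2 K w (wt a.1 ^ 2 + wt b.1 ^ 2 + 1) (wt a.1 + wt b.1)) := by
  induction' hk : (2 * (d * n) ^ 2 - (wt a.1 ^ 2 + wt b.1 ^ 2)) using Nat.strong_induction_on
    with k ih generalizing a b
  have key : ∀ a b : Idx d n, 2 * (d * n) ^ 2 - (wt a.1 ^ 2 + wt b.1 ^ 2) = k → ¬ b ≤ a →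
      wt b.1 ≤ wt a.1 →
      (X a * X b : PlRing K d n) ∈ T2 K w (wt a.1 ^ 2 + wt b.1 ^ 2 + 1) (wt a.1 + wt b.1) := by
    intro a b hk hba hw
    obtain ⟨r, hpiv⟩ := exists_pivot a b hba
    rw [← mul_one (X a * X b)]
    apply step' _ _ a b r hpiv
    · intro a' b' h1 h2
      rw [mul_one]
      have hlt : wt a.1 ^ 2 + wt b.1 ^ 2 < wt a'.1 ^ 2 + wt b'.1 ^ 2 := by
        obtain ⟨δ, hδ⟩ := Nat.exists_eq_add_of_lt h2
        have hb : wt b.1 = wt b'.1 + (δ + 1) := by omega
        have ha : wt a'.1 = wt a.1 + (δ + 1) := by omega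
        rw [ha, hb]
        nlinarith
      have hle1 := Nat.pow_le_pow_left (wt_le a'.1) 2
      have hle2 := Nat.pow_le_pow_left (wt_le b'.1) 2
      have := (ih (2 * (d * n) ^ 2 - (wt a'.1 ^ 2 + wt b'.1 ^ 2)) (by omega) a' b' rfl).1
      rw [h1] at this
      exact T2_anti w _ hlt this
    · intro f hf
      apply Submodule.mem_sup_right
      exact plIdealTop_le w hf
  have hstrict : ¬ a ≤ b → ¬ b ≤ a →
      (X a * X b : PlRing K d n) ∈ T2 K w (wt a.1 ^ 2 + wt b.1 ^ 2 + 1) (wt a.1 + wt b.1) := by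
    intro hab hba
    rcases le_total (wt b.1) (wt a.1) with hw | hw
    · exact key a b hk hba hw
    · have := key b a (by rw [← hk]; congr 1; ring) hab hw
      rw [mul_comm, add_comm (wt a.1 ^ 2), add_comm (wt a.1)]
      exact this
  refine ⟨?_, hstrict⟩
  by_cases hba : b ≤ a
  · exact comparable_mem_T2 w a b hba
  by_cases hab : a ≤ b
  · have := comparable_mem_T2 (K := K) w b a hab
    rw [mul_comm, add_comm (wt a.1 ^ 2), add_comm (wt a.1)]
    exact this
  exact T2_anti w _ (Nat.le_succ _) (hstrict hab hba)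

theorem listMon_pair (a b : Idx d n) : listMon K [a, b] = X a * X b := by
  rw [listMon_cons, listMon_cons, listMon_nil, mul_one]

theorem pairList_inj : Function.Injective (fun p : Idx d n × Idx d n => [p.1, p.2]) := by
  intro p q h
  simp only [List.cons.injEq, and_true] at h
  exact Prod.ext h.1 h.2

theorem indep_pairs (hd : 0 < d) (τ : Idx d n) (s : Finset (Idx d n × Idx d n))
    (c : Idx d n × Idx d n → K) (hs : ∀ p ∈ s, p.2 ≤ p.1 ∧ p.1 ≤ τ)
    (hrel : ∑ p ∈ s, c p • ψ K τ (X p.1 * X p.2) = 0) : ∀ p ∈ s, c p = 0 := by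
  classical
  intro p hp
  have h2 : ∑ L ∈ s.image (fun p : Idx d n × Idx d n => [p.1, p.2]),
      (Function.extend (fun p : Idx d n × Idx d n => [p.1, p.2]) c 0) L • ψ K τ (listMon K L) = 0 := by
    rw [Finset.sum_image (fun x _ y _ h => pairList_inj h), ← hrel]
    apply Finset.sum_congr rfl
    intro q _
    rw [pairList_inj.extend_apply, listMon_pair]
  have h3 := indep hd τ _ _ (by
    intro L hL
    obtain ⟨q, hq, rfl⟩ := Finset.mem_image.mp hL
    obtain ⟨hq1, hq2⟩ := hs q hq
    refine ⟨?_, ?_⟩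
    · simp only [List.pairwise_cons, List.mem_cons, List.not_mem_nil, or_false, forall_eq,
        IsEmpty.forall_iff, implies_true, List.Pairwise.nil, and_true]
      exact hq1
    · intro x hx
      simp only [List.mem_cons, List.not_mem_nil, or_false] at hx
      rcases hx with rfl | rfl
      · exact hq2
      · exact le_trans hq1 hq2) h2 [p.1, p.2] (Finset.mem_image_of_mem _ hp)
  rwa [pairList_inj.extend_apply] at h3

theorem indep2_pairs (hd : 0 < d) (v τ : Idx d n) (s : Finset (Idx d n × Idx d n))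
    (c : Idx d n × Idx d n → K) (hs : ∀ p ∈ s, v ≤ p.2 ∧ p.2 ≤ p.1 ∧ p.1 ≤ τ)
    (hrel : ∑ p ∈ s, c p • ψ2 K v τ (X p.1 * X p.2) = 0) : ∀ p ∈ s, c p = 0 := by
  classical
  intro p hp
  have h2 : ∑ L ∈ s.image (fun p : Idx d n × Idx d n => [p.1, p.2]),
      (Function.extend (fun p : Idx d n × Idx d n => [p.1, p.2]) c 0) L • ψ2 K v τ (listMon K L) = 0 := by
    rw [Finset.sum_image (fun x _ y _ h => pairList_inj h), ← hrel]
    apply Finset.sum_congr rfl
    intro q _
    rw [pairList_inj.extend_apply, listMon_pair]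
  have h3 := indep2 hd v τ _ _ (by
    intro L hL
    obtain ⟨q, hq, rfl⟩ := Finset.mem_image.mp hL
    obtain ⟨hq0, hq1, hq2⟩ := hs q hq
    refine ⟨?_, ?_⟩
    · simp only [List.pairwise_cons, List.mem_cons, List.not_mem_nil, or_false, forall_eq,
        IsEmpty.forall_iff, implies_true, List.Pairwise.nil, and_true]
      exact hq1
    · intro x hx
      simp only [List.mem_cons, List.not_mem_nil, or_false] at hx
      rcases hx with rfl | rfl
      · exact ⟨le_trans hq0 hq1, hq2⟩
      · exact ⟨hq0, le_trans hq1 hq2⟩) h2 [p.1, p.2] (Finset.mem_image_of_mem _ hp)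
  rwa [pairList_inj.extend_apply] at h3

open Groth.Agent.S11273 in
theorem hibi_diff_mem [Infinite K] (hd : 0 < d) (w a b : Idx d n) (ha : a ≤ w) (hb : b ≤ w) :
    Ideal.Quotient.mk (schubertVanishing K d n w) (X a * X b - X (sup a b) * X (inf a b)) ∈
      Submodule.span K (stdA K w '' {L | lamL L.1 ≤ lam a + lam b - 1}) := by
  have hpos := lam_pos hd a
  have hsi := lam_sup_inf a b
  apply mem_span_of_natDegree hd w
  rw [ψbar_mk, map_sub, map_mul, map_mul, map_sub, map_mul, map_mul]
  have hsw : sup a b ≤ w := fun t => max_le (ha t) (hb t)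
  have hiw : inf a b ≤ w := fun t => le_trans (min_le_left _ _) (ha t)
  have ha' := Ω_ψ_X (K := K) w a ha
  have hb' := Ω_ψ_X (K := K) w b hb
  have hs := Ω_ψ_X (K := K) w (sup a b) hsw
  have hi := Ω_ψ_X (K := K) w (inf a b) hiw
  have d1 := Polynomial.natDegree_mul_le_of_le ha'.1 hb'.1
  have d2 := Polynomial.natDegree_mul_le_of_le hs.1 hi.1
  rw [hsi] at d2
  have c1 := Polynomial.coeff_mul_add_eq_of_natDegree_le ha'.1 hb'.1
  have c2 := Polynomial.coeff_mul_add_eq_of_natDegree_le hs.1 hi.1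
  rw [hsi] at c2
  rw [Polynomial.natDegree_le_iff_coeff_eq_zero]
  intro M hM
  rcases (show lam a + lam b ≤ M by omega).lt_or_eq with hlt | heq
  · apply Polynomial.coeff_eq_zero_of_natDegree_lt
    exact lt_of_le_of_lt (Polynomial.natDegree_sub_le_of_le d1 d2) (by rw [max_self]; exact hlt)
  · rw [← heq, Polynomial.coeff_sub, c1, c2, ha'.2, hb'.2, hs.2, hi.2, Dm_sup_inf, sub_self]

open Groth.Agent.S11273 Groth.Agent.S11253 in
theorem main (K : Type u) [Field K] [IsAlgClosed K] (d n : ℕ)
    (hd : 0 < d) (hdn : d < n) (τ φ : Idx d n) (h₁ : ¬ τ ≤ φ) (h₂ : ¬ φ ≤ τ) :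
    ∃ g ∈ Submodule.span K {f : PlRing K d n | ∃ α β : Idx d n,
        β ≤ α ∧ W4bk4grassmannian.sup τ φ < α ∧ β < W4bk4grassmannian.inf τ φ ∧
          f = MvPolynomial.X α * MvPolynomial.X β},
      MvPolynomial.X τ * MvPolynomial.X φ -
          MvPolynomial.X (W4bk4grassmannian.sup τ φ) * MvPolynomial.X (W4bk4grassmannian.inf τ φ) - g ∈
        vanishing K d n := by
  classical
  haveI : Infinite K := IsAlgClosed.instInfinite
  set w := top hdn with hw
  have hmem := (refined2 (K := K) w τ φ).2 h₁ h₂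
  unfold T2 at hmem
  obtain ⟨q, hq, j, hj, hsum⟩ := Submodule.mem_sup.mp hmem
  have hj' : j ∈ schubertVanishing K d n w := hj
  obtain ⟨l, hl, rfl⟩ := (Finsupp.mem_span_image_iff_linearCombination K).mp hq
  have hlS : ∀ p ∈ l.support, p ∈ pairSet w (wt τ.1 ^ 2 + wt φ.1 ^ 2 + 1) (wt τ.1 + wt φ.1) :=
    fun p hp => (Finsupp.mem_supported K l).mp hl hp
  rw [Finsupp.linearCombination_apply, Finsupp.sum] at hsum
  -- claim A
  have claimA : ∀ θ : Idx d n, (θ = τ ∨ θ = φ) → ∀ p ∈ l.support, θ ≤ p.1 := by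
    intro θ hθ p₁ hp₁
    by_contra hcon
    have h0 : ψ K p₁.1 (X τ * X φ) = 0 := by
      rw [map_mul]
      rcases hθ with rfl | rfl
      · rw [ψ_X_eq_zero p₁.1 _ hcon, zero_mul]
      · rw [ψ_X_eq_zero p₁.1 _ hcon, mul_zero]
    have hjz : ψ K p₁.1 j = 0 :=
      schubertVanishing_le_ker p₁.1 j (schubertVanishing_anti (le_top hdn p₁.1) hj')
    rw [← hsum, map_add, hjz, add_zero, map_sum] at h0
    simp_rw [map_smul] at h0
    have h1 : ∑ p ∈ l.support.filter (fun p => p.1 ≤ p₁.1), l p • ψ K p₁.1 (X p.1 * X p.2) = 0 := by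
      rw [← h0]
      apply Finset.sum_subset (Finset.filter_subset _ _)
      intro p hp hnp
      have : ¬ p.1 ≤ p₁.1 := fun hc => hnp (Finset.mem_filter.mpr ⟨hp, hc⟩)
      rw [map_mul, ψ_X_eq_zero p₁.1 _ this, zero_mul, smul_zero]
    have h2 := indep_pairs hd p₁.1 _ (fun p => l p) (by
      intro p hp
      rw [Finset.mem_filter] at hp
      exact ⟨(hlS p hp.1).1, hp.2⟩) h1 p₁ (Finset.mem_filter.mpr ⟨hp₁, le_refl _⟩)
    exact (Finsupp.mem_support_iff.mp hp₁) h2
  -- claim B
  have claimB : ∀ θ : Idx d n, (θ = τ ∨ θ = φ) → ∀ p ∈ l.support, p.2 ≤ θ := by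
    intro θ hθ p₁ hp₁
    by_contra hcon
    have h0 : ψ2 K p₁.2 w (X τ * X φ) = 0 := by
      rw [map_mul]
      rcases hθ with rfl | rfl
      · rw [ψ2_X_eq_zero' p₁.2 w _ hcon, zero_mul]
      · rw [ψ2_X_eq_zero' p₁.2 w _ hcon, mul_zero]
    have hjz : ψ2 K p₁.2 w j = 0 := schubertVanishing_le_ker2 p₁.2 w j hj'
    rw [← hsum, map_add, hjz, add_zero, map_sum] at h0
    simp_rw [map_smul] at h0
    have h1 : ∑ p ∈ l.support.filter (fun p => p₁.2 ≤ p.2), l p • ψ2 K p₁.2 w (X p.1 * X p.2) = 0 := by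
      rw [← h0]
      apply Finset.sum_subset (Finset.filter_subset _ _)
      intro p hp hnp
      have : ¬ p₁.2 ≤ p.2 := fun hc => hnp (Finset.mem_filter.mpr ⟨hp, hc⟩)
      rw [map_mul, ψ2_X_eq_zero' p₁.2 w _ this, mul_zero, smul_zero]
    have h2 := indep2_pairs hd p₁.2 w _ (fun p => l p) (by
      intro p hp
      rw [Finset.mem_filter] at hp
      exact ⟨hp.2, (hlS p hp.1).1, (hlS p hp.1).2.1⟩) h1 p₁ (Finset.mem_filter.mpr ⟨hp₁, le_refl _⟩)
    exact (Finsupp.mem_support_iff.mp hp₁) h2
  -- claim C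
  set p₀ : Idx d n × Idx d n := (sup τ φ, inf τ φ) with hp₀
  have hinfsup : inf τ φ ≤ sup τ φ := fun t => le_trans (min_le_left _ _) (le_max_left _ _)
  have hstd₀ : IsStd w [sup τ φ, inf τ φ] := by
    refine ⟨?_, ?_⟩
    · simp only [List.pairwise_cons, List.mem_cons, List.not_mem_nil, or_false, forall_eq,
        IsEmpty.forall_iff, implies_true, List.Pairwise.nil, and_true]
      exact hinfsup
    · intro x _
      exact le_top hdn x
  have claimC : l p₀ = 1 := by
    set b := Module.Basis.mk (stdA_li (K := K) hd w) (fun x _ => stdA_span w x) with hb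
    have hbv : ∀ L, b L = stdA K w L := fun L => by rw [hb, Module.Basis.mk_apply]
    let pl : Idx d n × Idx d n → StdIdx w := fun p =>
      if h : IsStd w [p.1, p.2] then ⟨[p.1, p.2], h⟩ else nilIdx w
    have hpl : ∀ p ∈ l.support, stdA K w (pl p) =
        Ideal.Quotient.mk (schubertVanishing K d n w) (X p.1 * X p.2) := by
      intro p hp
      have hstd : IsStd w [p.1, p.2] := by
        refine ⟨?_, fun x _ => le_top hdn x⟩
        simp only [List.pairwise_cons, List.mem_cons, List.not_mem_nil, or_false, forall_eq,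
          IsEmpty.forall_iff, implies_true, List.Pairwise.nil, and_true]
        exact (hlS p hp).1
      simp only [pl]
      rw [dif_pos hstd]
      unfold stdA
      rw [listMon_pair]
    have hdiff := hibi_diff_mem (K := K) hd w τ φ (le_top hdn τ) (le_top hdn φ)
    have e1 : Ideal.Quotient.mk (schubertVanishing K d n w) (X τ * X φ - X (sup τ φ) * X (inf τ φ)) =
        ∑ p ∈ l.support, l p • b (pl p) - b ⟨[sup τ φ, inf τ φ], hstd₀⟩ := by
      rw [map_sub, ← hsum, map_add, Ideal.Quotient.eq_zero_iff_mem.mpr hj', add_zero, map_sum]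
      congr 1
      · apply Finset.sum_congr rfl
        intro p hp
        rw [hbv, hpl p hp]
        rfl
      · rw [hbv]
        unfold stdA
        rw [listMon_pair]
    rw [e1] at hdiff
    have himg : (stdA K w '' {L | lamL L.1 ≤ lam τ + lam φ - 1}) =
        (b '' {L | lamL L.1 ≤ lam τ + lam φ - 1}) := by
      apply Set.image_congr
      intro L _
      rw [hbv]
    rw [himg, Module.Basis.mem_span_image] at hdiff
    have hnot : (⟨[sup τ φ, inf τ φ], hstd₀⟩ : StdIdx w) ∉ {L : StdIdx w | lamL L.1 ≤ lam τ + lam φ - 1} := by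
      intro hc
      have hc' : lamL [sup τ φ, inf τ φ] ≤ lam τ + lam φ - 1 := hc
      rw [lamL_cons, lamL_sing, lam_sup_inf] at hc'
      have := lam_pos hd τ
      omega
    have hzero : (b.repr (∑ p ∈ l.support, l p • b (pl p) - b ⟨[sup τ φ, inf τ φ], hstd₀⟩))
        ⟨[sup τ φ, inf τ φ], hstd₀⟩ = 0 := by
      by_contra hne
      exact hnot (hdiff (Finsupp.mem_support_iff.mpr hne))
    rw [map_sub, map_sum, Finsupp.sub_apply, Finsupp.finsetSum_apply, Module.Basis.repr_self,
      Finsupp.single_eq_same] at hzero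
    simp_rw [map_smul, Module.Basis.repr_self, Finsupp.smul_apply, Finsupp.single_apply, smul_eq_mul,
      mul_ite, mul_one, mul_zero] at hzero
    have hsingle : ∑ p ∈ l.support, (if pl p = ⟨[sup τ φ, inf τ φ], hstd₀⟩ then l p else 0) = l p₀ := by
      by_cases hp₀s : p₀ ∈ l.support
      · rw [Finset.sum_eq_single_of_mem p₀ hp₀s]
        · rw [if_pos]
          simp only [pl]
          rw [dif_pos hstd₀]
        · intro p hp hne
          rw [if_neg]
          intro hc
          apply hne
          have hstd : IsStd w [p.1, p.2] := by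
            refine ⟨?_, fun x _ => le_top hdn x⟩
            simp only [List.pairwise_cons, List.mem_cons, List.not_mem_nil, or_false, forall_eq,
              IsEmpty.forall_iff, implies_true, List.Pairwise.nil, and_true]
            exact (hlS p hp).1
          simp only [pl] at hc
          rw [dif_pos hstd] at hc
          have := congrArg Subtype.val hc
          exact pairList_inj this
      · rw [Finsupp.notMem_support_iff.mp hp₀s]
        apply Finset.sum_eq_zero
        intro p hp
        rw [if_neg]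
        intro hc
        apply hp₀s
        have hstd : IsStd w [p.1, p.2] := by
          refine ⟨?_, fun x _ => le_top hdn x⟩
          simp only [List.pairwise_cons, List.mem_cons, List.not_mem_nil, or_false, forall_eq,
            IsEmpty.forall_iff, implies_true, List.Pairwise.nil, and_true]
          exact (hlS p hp).1
        simp only [pl] at hc
        rw [dif_pos hstd] at hc
        have := congrArg Subtype.val hc
        have hpp : p = p₀ := pairList_inj this
        rw [← hpp]
        exact hp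
    rw [hsingle] at hzero
    exact sub_eq_zero.mp hzero
  -- assemble
  have hp₀s : p₀ ∈ l.support := by
    rw [Finsupp.mem_support_iff, claimC]
    exact one_ne_zero
  refine ⟨∑ p ∈ l.support.erase p₀, l p • (X p.1 * X p.2), ?_, ?_⟩
  · apply Submodule.sum_mem
    intro p hp
    apply Submodule.smul_mem
    apply Submodule.subset_span
    obtain ⟨hne, hps⟩ := Finset.mem_erase.mp hp
    obtain ⟨c1, _, _, c4⟩ := hlS p hps
    have hA : sup τ φ ≤ p.1 := fun t => max_le (claimA τ (Or.inl rfl) p hps t) (claimA φ (Or.inr rfl) p hps t)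
    have hB : p.2 ≤ inf τ φ := fun t => le_min (claimB τ (Or.inl rfl) p hps t) (claimB φ (Or.inr rfl) p hps t)
    have hwt := wt_sup_inf τ φ
    refine ⟨p.1, p.2, c1, lt_of_le_of_ne hA ?_, lt_of_le_of_ne hB ?_, rfl⟩
    · intro hc
      apply hne
      have h2 : p.2 = inf τ φ := eq_of_le_of_wt p.2 (inf τ φ) hB (by rw [← hc] at c4; omega)
      exact Prod.ext hc.symm h2
    · intro hc
      apply hne
      have h1 : sup τ φ = p.1 := eq_of_le_of_wt (sup τ φ) p.1 hA (by rw [hc] at c4; omega)
      exact Prod.ext h1.symm hc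
  · have : X τ * X φ - X (sup τ φ) * X (inf τ φ) - ∑ p ∈ l.support.erase p₀, l p • (X p.1 * X p.2) = j := by
      rw [← hsum, ← Finset.add_sum_erase _ _ hp₀s, claimC, one_smul]
      ring
    rw [this, ← sv_top hdn]
    exact hj'

end

open W4bk4grassmannian in
/-- Shape of the straightening relations of a skew pair: let K be an algebraically closed field, 0 < d <
n, S = K[X_θ : θ ∈ I(d,n)] the Plücker polynomial ring on the strictly increasing maps Fin d → Fin n
ordered entrywise, and J ⊆ S the ideal of polynomials vanishing at the row-minors of every n × d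
matrix over K (the homogeneous ideal of G(d,n)). Let τ, φ ∈ I(d,n) be incomparable, with entrywise
maximum τ ∨ φ and minimum τ ∧ φ. Then there is a K-linear combination g of monomials X_α X_β with β
≤ α, τ ∨ φ < α and β < τ ∧ φ such that X_τ X_φ - X_{τ∨φ} X_{τ∧φ} - g lies in J. -/
theorem result (K : Type u) [Field K] [IsAlgClosed K] (d n : ℕ)
    (hd : 0 < d) (hdn : d < n) (τ φ : Idx d n) (h₁ : ¬ τ ≤ φ) (h₂ : ¬ φ ≤ τ) :
    ∃ g ∈ Submodule.span K {f : PlRing K d n | ∃ α β : Idx d n,
        β ≤ α ∧ W4bk4grassmannian.sup τ φ < α ∧ β < W4bk4grassmannian.inf τ φ ∧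
          f = MvPolynomial.X α * MvPolynomial.X β},
      MvPolynomial.X τ * MvPolynomial.X φ -
          MvPolynomial.X (W4bk4grassmannian.sup τ φ) * MvPolynomial.X (W4bk4grassmannian.inf τ φ) - g ∈
        vanishing K d n := by
  exact Groth.Agent.S11261.main K d n hd hdn τ φ h₁ h₂

end Groth.Agent.S11261
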