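import Groth.Statements.S11275
import Mathlib
import Groth.Agent.S11256
-- import your own Groth.Agent.* helpers here

set_option autoImplicit false
universe u
open W4bk4grassmannian

namespace Groth.Agent.S11275

section
open W4bk4grassmannian MvPolynomial

variable {R : Type u} [CommRing R] {m n : Type} [Fintype m] [Fintype n]

theorem minor_mem (Z : Matrix m n R) (k : ℕ) (f : Fin k → m) (g : Fin k → n) :
    (Z.submatrix f g).det ∈ CAlgX.minorIdeal Z k :=
  Ideal.subset_span ⟨(f, g), rfl⟩

theorem minorIdeal_succ_le (Z : Matrix m n R) (k : ℕ) :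
    CAlgX.minorIdeal Z (k + 1) ≤ CAlgX.minorIdeal Z k := by
  unfold CAlgX.minorIdeal
  rw [Ideal.span_le]
  rintro _ ⟨⟨f, g⟩, rfl⟩
  simp only
  rw [Matrix.det_succ_row _ 0]
  apply Ideal.sum_mem
  intro j _
  apply Ideal.mul_mem_left
  have : (Z.submatrix f g).submatrix (Fin.succAbove 0) j.succAbove =
      Z.submatrix (f ∘ Fin.succAbove 0) (g ∘ j.succAbove) := by
    ext a b; simp
  rw [this]
  exact minor_mem Z k _ _

theorem minorIdeal_anti (Z : Matrix m n R) {t k : ℕ} (h : t ≤ k) :
    CAlgX.minorIdeal Z k ≤ CAlgX.minorIdeal Z t := by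
  induction k, h using Nat.le_induction with
  | base => exact le_rfl
  | succ k _ ih => exact (minorIdeal_succ_le Z k).trans ih

theorem det_mem_minorIdeal (Z : Matrix m n R) (t : ℕ) :
    ∀ (k : ℕ) (M : Matrix (Fin k) (Fin k) R) (P : Finset (Fin k)) (f : Fin k → m) (c : Fin k → n),
      t ≤ P.card → (∀ s ∈ P, ∀ j, M s j = Z (f s) (c j)) → M.det ∈ CAlgX.minorIdeal Z t := by
  intro k
  induction k with
  | zero =>
    intro M P f c hP _
    have : t = 0 := by
      have h1 := Finset.card_le_univ P
      rw [Fintype.card_fin] at h1
      omega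
    subst this
    have h1 := minor_mem Z 0 (Fin.elim0) (Fin.elim0)
    have h2 : (Z.submatrix (Fin.elim0 : Fin 0 → m) (Fin.elim0 : Fin 0 → n)).det = 1 := by simp
    rw [h2] at h1
    rw [(Ideal.eq_top_iff_one _).mpr h1]
    trivial
  | succ k ih =>
    intro M P f c hP hM
    by_cases hall : ∀ s, s ∈ P
    · have : M = Z.submatrix f c := by
        ext s j; exact hM s (hall s) j
      rw [this]
      have hk : t ≤ k + 1 := by
        have h1 := Finset.card_le_univ P
        rw [Fintype.card_fin] at h1
        omega
      exact minorIdeal_anti Z hk (minor_mem Z (k + 1) f c)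
    · push Not at hall
      obtain ⟨s, hs⟩ := hall
      rw [Matrix.det_succ_row _ s]
      apply Ideal.sum_mem
      intro j _
      apply Ideal.mul_mem_left
      apply ih _ (Finset.univ.filter fun x => s.succAbove x ∈ P) (f ∘ s.succAbove) (c ∘ j.succAbove)
      · have : (Finset.univ.filter fun x => s.succAbove x ∈ P).map s.succAboveEmb = P := by
          ext y
          simp only [Finset.mem_map, Finset.mem_filter, Finset.mem_univ, true_and]
          constructor
          · rintro ⟨x, hx, rfl⟩; exact hx
          · intro hy
            have hne : y ≠ s := fun h => hs (h ▸ hy)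
            obtain ⟨x, rfl⟩ := Fin.exists_succAbove_eq hne
            exact ⟨x, hy, rfl⟩
        rw [← Finset.card_map, this]
        exact hP
      · intro x hx j'
        simp only [Finset.mem_filter, Finset.mem_univ, true_and] at hx
        simp only [Matrix.submatrix_apply, Function.comp]
        exact hM _ hx _

theorem cellMatrix_natAdd (K : Type u) [CommRing K] (d r : ℕ) (x : Fin r) (j : Fin d) :
    cellMatrix K d r (Fin.natAdd d x) j = X (x, j) := by
  unfold cellMatrix
  simp only [Matrix.of_apply]
  rw [dif_neg (by simp)]
  congr 2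
  apply Fin.ext
  simp

theorem cellMatrix_castAdd (K : Type u) [CommRing K] (d r : ℕ) (c : Fin d) (j : Fin d) :
    cellMatrix K d r (Fin.castAdd r c) j = (1 : Matrix (Fin d) (Fin d) (CellRing K d r)) c j := by
  unfold cellMatrix
  simp only [Matrix.of_apply, Fin.val_castAdd]
  rw [dif_pos c.isLt, Matrix.one_apply]
  simp only [Fin.ext_iff]

theorem det_rho (K : Type u) [CommRing K] (d r t : ℕ) (f : Fin t → Fin r) (g : Fin t → Fin d)
    (hg : Function.Injective g) (ρ : Fin d → Fin (d + r))
    (h1 : ∀ a, ρ (g a) = Fin.natAdd d (f a))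
    (h2 : ∀ c, c ∉ Set.range g → ρ c = Fin.castAdd r c) :
    ((cellMatrix K d r).submatrix ρ id).det = ((genMatrix K r d).submatrix f g).det := by
  classical
  have hbij : Function.Bijective
      (Sum.elim g (Subtype.val : {c : Fin d // c ∉ Set.range g} → Fin d)) := by
    constructor
    · rintro (a | ⟨c, hc⟩) (a' | ⟨c', hc'⟩) h
      · simp only [Sum.elim_inl] at h
        rw [hg h]
      · simp only [Sum.elim_inl, Sum.elim_inr] at h
        exact absurd ⟨a, h⟩ hc'
      · simp only [Sum.elim_inl, Sum.elim_inr] at h
        exact absurd ⟨a', h.symm⟩ hc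
      · simp only [Sum.elim_inr] at h
        subst h; rfl
    · intro c
      by_cases hc : c ∈ Set.range g
      · obtain ⟨a, rfl⟩ := hc
        exact ⟨Sum.inl a, rfl⟩
      · exact ⟨Sum.inr ⟨c, hc⟩, rfl⟩
  let e : Fin t ⊕ {c : Fin d // c ∉ Set.range g} ≃ Fin d := Equiv.ofBijective _ hbij
  rw [← Matrix.det_submatrix_equiv_self e]
  have hblock : ((cellMatrix K d r).submatrix ρ id).submatrix e e =
      Matrix.fromBlocks ((genMatrix K r d).submatrix f g)
        ((genMatrix K r d).submatrix f (Subtype.val : {c : Fin d // c ∉ Set.range g} → Fin d))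
        0 1 := by
    ext (a | ⟨c, hc⟩) (b | ⟨c', hc'⟩)
    · simp only [Matrix.submatrix_apply, id, Matrix.fromBlocks_apply₁₁, e, Equiv.ofBijective_apply,
        Sum.elim_inl, h1, cellMatrix_natAdd, genMatrix, Matrix.of_apply]
    · simp only [Matrix.submatrix_apply, id, Matrix.fromBlocks_apply₁₂, e, Equiv.ofBijective_apply,
        Sum.elim_inl, Sum.elim_inr, h1, cellMatrix_natAdd, genMatrix, Matrix.of_apply]
    · simp only [Matrix.submatrix_apply, id, Matrix.fromBlocks_apply₂₁, e, Equiv.ofBijective_apply,
        Sum.elim_inl, Sum.elim_inr, h2 c hc, cellMatrix_castAdd, Matrix.zero_apply]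
      rw [Matrix.one_apply_ne]
      rintro rfl
      exact hc ⟨b, rfl⟩
    · simp only [Matrix.submatrix_apply, id, Matrix.fromBlocks_apply₂₂, e, Equiv.ofBijective_apply,
        Sum.elim_inr, h2 c hc, cellMatrix_castAdd, Matrix.one_apply, Subtype.mk.injEq]
  rw [hblock, Matrix.det_fromBlocks_zero₂₁, Matrix.det_one, mul_one]

theorem main (K : Type u) [CommRing K] (d r t : ℕ) (hd : 0 < d)
    (ht : 0 < t) (htd : t ≤ d) (htr : t ≤ r) :
    Ideal.span {f : CellRing K d r | ∃ θ : Idx d (d + r),
        d ≤ (θ.1 ⟨d - t, Nat.sub_lt hd ht⟩).val ∧ f = cellMinor K d r θ} =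
      CAlgX.minorIdeal (genMatrix K r d) t := by
  classical
  apply le_antisymm
  · rw [Ideal.span_le]
    rintro _ ⟨θ, hθ, rfl⟩
    unfold cellMinor
    have hr : 0 < r := lt_of_lt_of_le ht htr
    apply det_mem_minorIdeal (genMatrix K r d) t d _
      (Finset.univ.filter fun s : Fin d => d ≤ (θ.1 s).val)
      (fun s => if h : d ≤ (θ.1 s).val then ⟨(θ.1 s).val - d, by have := (θ.1 s).isLt; omega⟩
        else ⟨0, hr⟩) id
    · have hsub : Finset.Ici (⟨d - t, Nat.sub_lt hd ht⟩ : Fin d) ⊆
          Finset.univ.filter fun s : Fin d => d ≤ (θ.1 s).val := by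
        intro s hs
        rw [Finset.mem_Ici] at hs
        simp only [Finset.mem_filter, Finset.mem_univ, true_and]
        exact le_trans hθ (θ.2.monotone hs)
      have hcard := Finset.card_le_card hsub
      rw [Fin.card_Ici] at hcard
      simp only at hcard
      omega
    · intro s hs j
      simp only [Finset.mem_filter, Finset.mem_univ, true_and] at hs
      simp only [Matrix.submatrix_apply, id, dif_pos hs]
      unfold cellMatrix genMatrix
      simp only [Matrix.of_apply]
      rw [dif_neg (by omega)]
  · unfold CAlgX.minorIdeal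
    rw [Ideal.span_le]
    rintro _ ⟨⟨f, g⟩, rfl⟩
    simp only
    by_cases hg : Function.Injective g
    swap
    · rw [Function.Injective] at hg
      push Not at hg
      obtain ⟨x, y, hxy, hne⟩ := hg
      have : ((genMatrix K r d).submatrix f g).det = 0 := by
        apply Matrix.det_zero_of_column_eq hne
        intro k
        simp [hxy]
      rw [this]
      exact Ideal.zero_mem _
    by_cases hf : Function.Injective f
    swap
    · rw [Function.Injective] at hf
      push Not at hf
      obtain ⟨x, y, hxy, hne⟩ := hf
      have : ((genMatrix K r d).submatrix f g).det = 0 := by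
        apply Matrix.det_zero_of_row_eq hne
        funext k
        simp [hxy]
      rw [this]
      exact Ideal.zero_mem _
    let ρ : Fin d → Fin (d + r) := fun c =>
      if h : ∃ a, g a = c then Fin.natAdd d (f h.choose) else Fin.castAdd r c
    have h1 : ∀ a, ρ (g a) = Fin.natAdd d (f a) := by
      intro a
      have hex : ∃ a', g a' = g a := ⟨a, rfl⟩
      simp only [ρ, dif_pos hex]
      rw [hg hex.choose_spec]
    have h2 : ∀ c, c ∉ Set.range g → ρ c = Fin.castAdd r c := by
      intro c hc
      have : ¬ ∃ a, g a = c := hc
      simp only [ρ, dif_neg this]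
    have hρval : ∀ c, d ≤ (ρ c).val ↔ c ∈ Set.range g := by
      intro c
      constructor
      · intro hc
        by_contra hcon
        rw [h2 c hcon] at hc
        simp only [Fin.val_castAdd] at hc
        have := c.isLt
        omega
      · rintro ⟨a, rfl⟩
        rw [h1]
        simp
    have hρinj : Function.Injective ρ := by
      intro c c' hcc
      by_cases hc : c ∈ Set.range g
      · have hc' : c' ∈ Set.range g := by
          rw [← hρval, ← hcc, hρval]; exact hc
        obtain ⟨a, rfl⟩ := hc
        obtain ⟨a', rfl⟩ := hc'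
        rw [h1, h1] at hcc
        have := Fin.natAdd_injective _ _ hcc
        rw [hf this]
      · have hc' : c' ∉ Set.range g := by
          rw [← hρval, ← hcc, hρval]; exact hc
        rw [h2 c hc, h2 c' hc'] at hcc
        exact Fin.castAdd_injective _ _ hcc
    obtain ⟨θ, π, hθπ⟩ := Groth.Agent.S11256.exists_perm ρ hρinj
    have hdet := det_rho K d r t f g hg ρ h1 h2
    have hsub : (cellMatrix K d r).submatrix ρ id =
        ((cellMatrix K d r).submatrix θ.1 id).submatrix π id := by
      rw [hθπ]; ext i j; simp
    rw [hsub, Matrix.det_permute] at hdet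
    rw [← hdet]
    apply Ideal.mul_mem_left
    apply Ideal.subset_span
    refine ⟨θ, ?_, rfl⟩
    -- position count
    by_contra hlt
    push Not at hlt
    have hA : (Finset.univ.filter fun s : Fin d => d ≤ (θ.1 s).val).card = t := by
      have : (Finset.univ.filter fun s : Fin d => d ≤ (θ.1 s).val) =
          (Finset.univ.image g).map π.toEmbedding := by
        ext s
        simp only [Finset.mem_filter, Finset.mem_univ, true_and, Finset.mem_map, Finset.mem_image,
          Equiv.coe_toEmbedding]
        constructor
        · intro hs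
          have h3 : d ≤ (ρ (π.symm s)).val := by
            rw [hθπ]; simpa using hs
          obtain ⟨a, ha⟩ := (hρval _).mp h3
          exact ⟨π.symm s, ⟨a, ha⟩, by simp⟩
        · rintro ⟨c, ⟨a, rfl⟩, rfl⟩
          have h3 := (hρval (g a)).mpr ⟨a, rfl⟩
          rw [hθπ] at h3
          simpa using h3
      rw [this, Finset.card_map, Finset.card_image_of_injective _ hg]
      simp
    have hsub2 : (Finset.univ.filter fun s : Fin d => d ≤ (θ.1 s).val) ⊆
        Finset.Ioi (⟨d - t, Nat.sub_lt hd ht⟩ : Fin d) := by
      intro s hs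
      simp only [Finset.mem_filter, Finset.mem_univ, true_and] at hs
      rw [Finset.mem_Ioi]
      by_contra hcon
      push Not at hcon
      have := θ.2.monotone hcon
      have h4 : (θ.1 s).val ≤ (θ.1 ⟨d - t, Nat.sub_lt hd ht⟩).val := this
      omega
    have hcard := Finset.card_le_card hsub2
    rw [hA, Fin.card_Ioi] at hcard
    simp only at hcard
    omega

end

open W4bk4grassmannian in
/-- Ideal-theoretic form; determinantal ideals as ideals of opposite cells of Schubert varieties: let K
be a commutative ring, d, r ≥ 1, 1 ≤ t ≤ min(d, r), Z the generic r × d matrix over K[z_{ij}] and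
[I_d ; Z] the (d + r) × d matrix with the identity block on top. For θ ∈ I(d, d + r) let q_θ be the
d × d minor of [I_d ; Z] on the rows θ (the Plücker coordinate p_θ on the opposite big cell). Then
the ideal generated by the q_θ with θ_{d-t} ≥ d (0-indexed; these are the θ not below the index φ =
(t-1, …, d-1, d+r+1-t, …, d+r-1) of the Schubert variety whose opposite cell is D_t) equals the
ideal generated by the t × t minors of Z. (The published statement is over an algebraically closed
field and identifies the determinantal variety D_t with the opposite cell of the Schubert variety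
X(φ); this row states the equality of ideals behind that identification, over any commutative ring
K.) -/
theorem result (K : Type u) [CommRing K] (d r t : ℕ) (hd : 0 < d)
    (ht : 0 < t) (htd : t ≤ d) (htr : t ≤ r) :
    Ideal.span {f : CellRing K d r | ∃ θ : Idx d (d + r),
        d ≤ (θ.1 ⟨d - t, Nat.sub_lt hd ht⟩).val ∧ f = cellMinor K d r θ} =
      CAlgX.minorIdeal (genMatrix K r d) t := by
  exact Groth.Agent.S11275.main K d r t hd ht htd htr

end Groth.Agent.S11275
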