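import Groth.Statements.S11267
import Mathlib
import Groth.Agent.S11250
import Groth.Agent.S11275
import Groth.Agent.S11261
import Groth.Agent.S11270
import Groth.Agent.Lib.Helper2.SchubertCell
import Groth.Agent.Lib.Helper2.PluckerRel
-- import your own Groth.Agent.* helpers here

set_option autoImplicit false
universe u
open W4bk4grassmannian

namespace Groth.Agent.S11267

section
open W4bk4grassmannian MvPolynomial

/-- the product of an `(n+1) × n` and an `n × (n+1)` matrix has determinant zero -/
theorem det_mul_thin {R : Type*} [CommRing R] (n : ℕ) (A : Matrix (Fin (n + 1)) (Fin n) R)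
    (B : Matrix (Fin n) (Fin (n + 1)) R) : (A * B).det = 0 := by
  classical
  have h1 : A * B = Matrix.fromCols A (0 : Matrix (Fin (n + 1)) (Fin 1) R) *
      Matrix.fromRows B (0 : Matrix (Fin 1) (Fin (n + 1)) R) := by
    rw [Matrix.fromCols_mul_fromRows, Matrix.zero_mul, add_zero]
  have h2 : Matrix.fromCols A (0 : Matrix (Fin (n + 1)) (Fin 1) R) *
      Matrix.fromRows B (0 : Matrix (Fin 1) (Fin (n + 1)) R) =
      (Matrix.fromCols A (0 : Matrix (Fin (n + 1)) (Fin 1) R)).submatrix id finSumFinEquiv.symm *
      (Matrix.fromRows B (0 : Matrix (Fin 1) (Fin (n + 1)) R)).submatrix finSumFinEquiv.symm id := by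
    rw [Matrix.submatrix_mul_equiv, Matrix.submatrix_id_id]
  rw [h1, h2, Matrix.det_mul]
  have h3 : ((Matrix.fromCols A (0 : Matrix (Fin (n + 1)) (Fin 1) R)).submatrix id
      finSumFinEquiv.symm).det = 0 := by
    apply Matrix.det_eq_zero_of_column_eq_zero (finSumFinEquiv (Sum.inr 0))
    intro i
    simp
  rw [h3, zero_mul]

/-- a matrix over a field all of whose `(n+1)`-minors vanish factors through `K^n` -/
theorem exists_factor {K : Type*} [Field K] {ι κ : Type*} [Fintype ι] [Fintype κ] (n : ℕ) :
    ∀ Z : Matrix ι κ K, (∀ (f : Fin (n + 1) → ι) (g : Fin (n + 1) → κ), (Z.submatrix f g).det = 0) →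
      ∃ (U : Matrix ι (Fin n) K) (W : Matrix (Fin n) κ K), Z = U * W := by
  classical
  induction n with
  | zero =>
    intro Z hZ
    refine ⟨0, 0, ?_⟩
    rw [Matrix.zero_mul]
    ext i j
    have := hZ (fun _ => i) (fun _ => j)
    simpa using this
  | succ n ih =>
    intro Z hZ
    by_cases h0 : Z = 0
    · exact ⟨0, 0, by rw [h0, Matrix.zero_mul]⟩
    obtain ⟨i₀, j₀, hp⟩ : ∃ i₀ j₀, Z i₀ j₀ ≠ 0 := by
      by_contra hcon
      push Not at hcon
      apply h0
      ext i j
      exact hcon i j
    set p := Z i₀ j₀ with hpdef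
    set Z' : Matrix ι κ K := Matrix.of fun i j => Z i j - Z i j₀ * p⁻¹ * Z i₀ j with hZ'
    have hminor : ∀ (f : Fin (n + 1) → ι) (g : Fin (n + 1) → κ), (Z'.submatrix f g).det = 0 := by
      intro f g
      have hb := hZ (Sum.elim f (fun _ : Fin 1 => i₀) ∘ finSumFinEquiv.symm)
        (Sum.elim g (fun _ : Fin 1 => j₀) ∘ finSumFinEquiv.symm)
      have e1 : Z.submatrix (Sum.elim f (fun _ : Fin 1 => i₀) ∘ finSumFinEquiv.symm)
          (Sum.elim g (fun _ : Fin 1 => j₀) ∘ finSumFinEquiv.symm) =
          (Z.submatrix (Sum.elim f (fun _ : Fin 1 => i₀)) (Sum.elim g (fun _ : Fin 1 => j₀))).submatrix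
            finSumFinEquiv.symm finSumFinEquiv.symm := by
        ext a b; rfl
      rw [e1, Matrix.det_submatrix_equiv_self] at hb
      have e2 : Z.submatrix (Sum.elim f (fun _ : Fin 1 => i₀)) (Sum.elim g (fun _ : Fin 1 => j₀)) =
          Matrix.fromBlocks (Z.submatrix f g) (Matrix.of fun a (_ : Fin 1) => Z (f a) j₀)
            (Matrix.of fun (_ : Fin 1) b => Z i₀ (g b)) (Matrix.of fun (_ _ : Fin 1) => p) := by
        ext (a | a) (b | b) <;> rfl
      rw [e2] at hb
      letI invD : Invertible (Matrix.of fun (_ _ : Fin 1) => p) :=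
        ⟨Matrix.of fun _ _ => p⁻¹, by
          ext a b
          simp [Matrix.mul_apply, hp, Matrix.one_apply, Subsingleton.elim a b], by
          ext a b
          simp [Matrix.mul_apply, hp, Matrix.one_apply, Subsingleton.elim a b]⟩
      rw [Matrix.det_fromBlocks₂₂] at hb
      have hdet : (Matrix.of fun (_ _ : Fin 1) => p).det = p := by
        simp
      rw [hdet] at hb
      have hb' := (mul_eq_zero.mp hb).resolve_left hp
      convert hb' using 2
      ext a b
      show Z' (f a) (g b) = _
      rw [hZ']
      simp only [Matrix.of_apply, Matrix.sub_apply, Matrix.submatrix_apply, Matrix.mul_apply,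
        Finset.univ_unique, Finset.sum_singleton]
      rfl
    obtain ⟨U', W', hUW⟩ := ih Z' hminor
    refine ⟨Matrix.of fun i k => Fin.lastCases (Z i j₀ * p⁻¹) (fun k' => U' i k') k,
      Matrix.of fun k j => Fin.lastCases (Z i₀ j) (fun k' => W' k' j) k, ?_⟩
    ext i j
    rw [Matrix.mul_apply, Fin.sum_univ_castSucc]
    simp only [Matrix.of_apply, Fin.lastCases_castSucc, Fin.lastCases_last]
    have := congrFun (congrFun hUW i) j
    rw [Matrix.mul_apply] at this
    rw [← this, hZ']
    simp

theorem minor_le_ker (K : Type u) [Field K] (m n q : ℕ) :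
    CAlgX.minorIdeal (genMatrix K m q) (n + 1) ≤ RingHom.ker (pairingMap K n m q).toRingHom := by
  unfold CAlgX.minorIdeal
  rw [Ideal.span_le]
  rintro _ ⟨⟨f, g⟩, rfl⟩
  rw [SetLike.mem_coe, RingHom.mem_ker]
  show (pairingMap K n m q) _ = 0
  rw [AlgHom.map_det (pairingMap K n m q)]
  have h : (pairingMap K n m q).mapMatrix ((genMatrix K m q).submatrix f g) =
      (Matrix.of fun (a : Fin (n + 1)) (k : Fin n) => (X (Sum.inl (f a, k)) : PairRing K n m q)) *
      (Matrix.of fun (k : Fin n) (b : Fin (n + 1)) => (X (Sum.inr (k, g b)) : PairRing K n m q)) := by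
    refine Matrix.ext fun a b => ?_
    rw [Matrix.mul_apply]
    simp only [AlgHom.mapMatrix_apply, Matrix.map_apply, Matrix.submatrix_apply, genMatrix,
      Matrix.of_apply, pairingMap, aeval_X]
  rw [h, det_mul_thin]

/-- evaluation at a product matrix factors through the pairing map -/
theorem eval_pairing (K : Type u) [Field K] (m n q : ℕ) (U : Matrix (Fin m) (Fin n) K)
    (W : Matrix (Fin n) (Fin q) K) (F : MvPolynomial (Fin m × Fin q) K) :
    MvPolynomial.eval (fun p : Fin m × Fin q => (U * W) p.1 p.2) F =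
      MvPolynomial.eval (Sum.elim (fun p : Fin m × Fin n => U p.1 p.2)
        (fun p : Fin n × Fin q => W p.1 p.2)) (pairingMap K n m q F) := by
  have h : (MvPolynomial.aeval (fun p : Fin m × Fin q => (U * W) p.1 p.2) :
      MvPolynomial (Fin m × Fin q) K →ₐ[K] K) =
      (MvPolynomial.aeval (Sum.elim (fun p : Fin m × Fin n => U p.1 p.2)
        (fun p : Fin n × Fin q => W p.1 p.2)) : PairRing K n m q →ₐ[K] K).comp
        (pairingMap K n m q) := by
    apply MvPolynomial.algHom_ext
    intro p
    simp only [aeval_X, AlgHom.comp_apply, pairingMap, map_sum, map_mul, Sum.elim_inl,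
      Sum.elim_inr, Matrix.mul_apply]
  have := congrArg (fun φ => φ F) h
  simpa [MvPolynomial.aeval_eq_eval] using this

/-- if `F ∈ ker φ` and all `(n+1)`-minors of `Z` vanish then `F(Z) = 0` -/
theorem eval_eq_zero (K : Type u) [Field K] (m n q : ℕ) (F : MvPolynomial (Fin m × Fin q) K)
    (hF : pairingMap K n m q F = 0) (Z : Matrix (Fin m) (Fin q) K)
    (hZ : ∀ (f : Fin (n + 1) → Fin m) (g : Fin (n + 1) → Fin q), (Z.submatrix f g).det = 0) :
    MvPolynomial.eval (fun p : Fin m × Fin q => Z p.1 p.2) F = 0 := by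
  obtain ⟨U, W, rfl⟩ := exists_factor n Z hZ
  rw [eval_pairing, hF, map_zero]

/-- degenerate case: the pairing map is injective -/
theorem ker_eq_bot_of_lt (K : Type u) [Field K] [Infinite K] (m n q : ℕ) (h : m < n + 1 ∨ q < n + 1) :
    RingHom.ker (pairingMap K n m q).toRingHom = ⊥ := by
  rw [eq_bot_iff]
  intro F hF
  rw [RingHom.mem_ker] at hF
  rw [Ideal.mem_bot]
  apply MvPolynomial.funext
  intro x
  rw [map_zero]
  have := eval_eq_zero K m n q F hF (Matrix.of fun i j => x (i, j)) (by
    intro f g
    rcases h with h | h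
    · obtain ⟨a, b, hab, hfab⟩ := Fintype.exists_ne_map_eq_of_card_lt f (by simpa using h)
      apply Matrix.det_zero_of_row_eq hab
      ext j
      simp [Matrix.submatrix_apply, hfab]
    · obtain ⟨a, b, hab, hfab⟩ := Fintype.exists_ne_map_eq_of_card_lt g (by simpa using h)
      apply Matrix.det_zero_of_column_eq hab
      intro i
      simp [Matrix.submatrix_apply, hfab])
  simpa using this

theorem strictMono_growth {k m : ℕ} (f : Fin k → Fin m) (hf : StrictMono f) :
    ∀ (j i : ℕ) (hij : i + j < k), (f ⟨i, by omega⟩).val + j ≤ (f ⟨i + j, hij⟩).val := by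
  intro j
  induction j with
  | zero => intro i hij; simp
  | succ j ih =>
    intro i hij
    have h1 := ih i (by omega)
    have h2 : f ⟨i + j, by omega⟩ < f ⟨i + (j + 1), hij⟩ := hf (by simp [Fin.lt_def])
    have h3 : (f ⟨i + j, by omega⟩).val < (f ⟨i + (j + 1), hij⟩).val := h2
    omega

/-- the Schubert index of the determinantal variety of `t`-minors in the opposite cell -/
def wIdx (d r t : ℕ) (ht : 0 < t) (htd : t ≤ d) (htr : t ≤ r) : Idx d (d + r) :=
  ⟨fun k => if k.val ≤ d - t then ⟨t - 1 + k.val, by have := k.isLt; omega⟩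
    else ⟨r + k.val, by have := k.isLt; omega⟩, by
    intro a b hab
    have h1 : a.val < b.val := hab
    have h2 := b.isLt
    rw [Fin.lt_def]
    beta_reduce
    split_ifs with ha hb hb
    · simp only; omega
    · simp only; omega
    · simp only; omega
    · simp only; omega⟩

theorem le_wIdx_iff (d r t : ℕ) (hd : 0 < d) (ht : 0 < t) (htd : t ≤ d) (htr : t ≤ r)
    (θ : Idx d (d + r)) :
    θ ≤ wIdx d r t ht htd htr ↔ (θ.1 ⟨d - t, Nat.sub_lt hd ht⟩).val < d := by
  constructor
  · intro h
    have h1 := h ⟨d - t, Nat.sub_lt hd ht⟩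
    have h2 : (θ.1 ⟨d - t, Nat.sub_lt hd ht⟩).val ≤ ((wIdx d r t ht htd htr).1 ⟨d - t, Nat.sub_lt hd ht⟩).val := h1
    unfold wIdx at h2
    simp only [le_refl, if_true] at h2
    omega
  · intro h k
    show (θ.1 k).val ≤ ((wIdx d r t ht htd htr).1 k).val
    unfold wIdx
    simp only
    split_ifs with hk
    · simp only
      have h1 := strictMono_growth θ.1 θ.2 (d - t - k.val) k.val (by have := k.isLt; omega)
      have h2 : (⟨k.val + (d - t - k.val), by have := k.isLt; omega⟩ : Fin d) = ⟨d - t, Nat.sub_lt hd ht⟩ := by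
        apply Fin.ext; simp only; omega
      rw [h2] at h1
      simp only [Fin.eta] at h1
      omega
    · simp only
      have h1 := Groth.Agent.S11261.strictMono_fin_le θ.1 θ.2 (d - 1 - k.val) k.val k.isLt
        (by have := k.isLt; omega)
      simp only [Fin.eta] at h1
      have := k.isLt
      omega

variable (K : Type u) [Field K] (d r : ℕ)

/-- dehomogenization: Plücker coordinates restricted to the opposite cell -/
noncomputable def δ : PlRing K d (d + r) →ₐ[K] CellRing K d r :=
  MvPolynomial.aeval fun θ : Idx d (d + r) => cellMinor K d r θ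

theorem δ_coord (a : Fin d → Fin (d + r)) :
    δ K d r (coord K d (d + r) a) = ((cellMatrix K d r).submatrix a id).det := by
  unfold δ cellMinor
  exact Groth.Agent.Lib.Helper2.SchubertCell.aeval_coord (cellMatrix K d r) a

/-- evaluation of Plücker polynomials at a matrix with identity top block -/
theorem evalMinors_cell (M : Matrix (Fin (d + r)) (Fin d) K)
    (hM : ∀ c j, M (Fin.castAdd r c) j = (1 : Matrix (Fin d) (Fin d) K) c j)
    (P : PlRing K d (d + r)) :
    evalMinors K d (d + r) M P =
      MvPolynomial.eval (fun p : Fin r × Fin d => M (Fin.natAdd d p.1) p.2) (δ K d r P) := by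
  have h : evalMinors K d (d + r) M =
      (MvPolynomial.aeval (fun p : Fin r × Fin d => M (Fin.natAdd d p.1) p.2) :
        CellRing K d r →ₐ[K] K).comp (δ K d r) := by
    apply MvPolynomial.algHom_ext
    intro θ
    unfold evalMinors δ cellMinor
    rw [aeval_X, AlgHom.comp_apply, aeval_X,
      AlgHom.map_det (MvPolynomial.aeval (fun p : Fin r × Fin d => M (Fin.natAdd d p.1) p.2) :
        CellRing K d r →ₐ[K] K)]
    congr 1
    refine Matrix.ext fun a b => ?_
    simp only [Matrix.submatrix_apply, id, AlgHom.mapMatrix_apply, Matrix.map_apply]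
    refine Fin.addCases (fun c => ?_) (fun x => ?_) (θ.1 a)
    · rw [Groth.Agent.S11275.cellMatrix_castAdd, hM, Matrix.one_apply, Matrix.one_apply]
      split_ifs <;> simp
    · rw [Groth.Agent.S11275.cellMatrix_natAdd, aeval_X]
  rw [h, AlgHom.comp_apply, MvPolynomial.aeval_eq_eval]

/-- the matrix `[I ; z]` over `K` -/
noncomputable def cellAt (z : Fin r × Fin d → K) : Matrix (Fin (d + r)) (Fin d) K :=
  (cellMatrix K d r).map (MvPolynomial.eval z)

theorem cellAt_castAdd (z : Fin r × Fin d → K) (c j : Fin d) :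
    cellAt K d r z (Fin.castAdd r c) j = (1 : Matrix (Fin d) (Fin d) K) c j := by
  unfold cellAt
  rw [Matrix.map_apply, Groth.Agent.S11275.cellMatrix_castAdd, Matrix.one_apply, Matrix.one_apply]
  split_ifs <;> simp

theorem cellAt_natAdd (z : Fin r × Fin d → K) (x : Fin r) (j : Fin d) :
    cellAt K d r z (Fin.natAdd d x) j = z (x, j) := by
  unfold cellAt
  rw [Matrix.map_apply, Groth.Agent.S11275.cellMatrix_natAdd, eval_X]

theorem eval_δ (z : Fin r × Fin d → K) (P : PlRing K d (d + r)) :
    MvPolynomial.eval z (δ K d r P) = evalMinors K d (d + r) (cellAt K d r z) P := by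
  rw [evalMinors_cell K d r (cellAt K d r z) (cellAt_castAdd K d r z)]
  have : (fun p : Fin r × Fin d => cellAt K d r z (Fin.natAdd d p.1) p.2) = z := by
    funext p
    rw [cellAt_natAdd]
  rw [this]

theorem δ_shuffleRel [Infinite K] (i j : Idx d (d + r)) (k : Fin d) :
    δ K d r (shuffleRel K i j k) = 0 := by
  apply MvPolynomial.funext
  intro z
  rw [eval_δ, map_zero]
  exact Groth.Agent.Lib.Helper2.PluckerRel.shuffleRel_minors _ i j k

theorem δ_X (θ : Idx d (d + r)) : δ K d r (X θ) = cellMinor K d r θ := by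
  unfold δ
  rw [aeval_X]

theorem δ_plIdeal [Infinite K] (t : ℕ) (hd : 0 < d) (ht : 0 < t) (htd : t ≤ d) (htr : t ≤ r) :
    Ideal.map (δ K d r).toRingHom (plIdeal K (wIdx d r t ht htd htr)) ≤
      CAlgX.minorIdeal (genMatrix K r d) t := by
  unfold plIdeal
  rw [Ideal.map_span, Ideal.span_le]
  rintro _ ⟨f, hf, rfl⟩
  rcases hf with ⟨i, j, k, _, rfl⟩ | ⟨θ, hθ, rfl⟩
  · show δ K d r _ ∈ _
    rw [δ_shuffleRel]
    exact Ideal.zero_mem _
  · show δ K d r _ ∈ _
    rw [δ_X, ← Groth.Agent.S11275.main K d r t hd ht htd htr]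
    apply Ideal.subset_span
    refine ⟨θ, ?_, rfl⟩
    rw [le_wIdx_iff d r t hd ht htd htr] at hθ
    omega

theorem evalMinors_mul_coord (M : Matrix (Fin (d + r)) (Fin d) K) (g : Matrix (Fin d) (Fin d) K)
    (a : Fin d → Fin (d + r)) :
    evalMinors K d (d + r) (M * g) (coord K d (d + r) a) =
      g.det * evalMinors K d (d + r) M (coord K d (d + r) a) := by
  rw [Groth.Agent.Lib.Helper2.PluckerRel.evalMinors_coord,
    Groth.Agent.Lib.Helper2.PluckerRel.evalMinors_coord]
  have : (M * g).submatrix a id = M.submatrix a id * g := by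
    ext i j
    simp [Matrix.mul_apply]
  rw [this, Matrix.det_mul, mul_comm]

theorem evalMinors_mul_X (M : Matrix (Fin (d + r)) (Fin d) K) (g : Matrix (Fin d) (Fin d) K)
    (θ : Idx d (d + r)) :
    evalMinors K d (d + r) (M * g) (X θ) = g.det * evalMinors K d (d + r) M (X θ) := by
  rw [← Groth.Agent.S11251.coord_idx]
  exact evalMinors_mul_coord K d r M g θ.1

theorem cellMinor_iota (hr : 0 < r) :
    cellMinor K d r (Groth.Agent.S11270.iota (by omega : d < d + r)) = 1 := by
  unfold cellMinor
  have : (cellMatrix K d r).submatrix (Groth.Agent.S11270.iota (by omega : d < d + r)).1 id = 1 := by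
    refine Matrix.ext fun a b => ?_
    rw [Matrix.submatrix_apply]
    have h1 : (Groth.Agent.S11270.iota (by omega : d < d + r)).1 a = Fin.castAdd r a := by
      apply Fin.ext
      rfl
    rw [h1, Groth.Agent.S11275.cellMatrix_castAdd]
    rfl
  rw [this, Matrix.det_one]

theorem δ_coord_update (hr : 0 < r) (x : Fin r) (j : Fin d) :
    δ K d r (coord K d (d + r)
      (Function.update (Groth.Agent.S11270.iota (by omega : d < d + r)).1 j (Fin.natAdd d x))) =
      X (x, j) := by
  classical
  rw [δ_coord]
  have : (cellMatrix K d r).submatrix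
      (Function.update (Groth.Agent.S11270.iota (by omega : d < d + r)).1 j (Fin.natAdd d x)) id =
      (1 : Matrix (Fin d) (Fin d) (CellRing K d r)).updateRow j (fun b => X (x, b)) := by
    refine Matrix.ext fun a b => ?_
    rw [Matrix.submatrix_apply, Matrix.updateRow_apply]
    by_cases ha : a = j
    · subst ha
      rw [Function.update_self, if_pos rfl, Groth.Agent.S11275.cellMatrix_natAdd]
      rfl
    · rw [Function.update_of_ne ha, if_neg ha]
      have h1 : (Groth.Agent.S11270.iota (by omega : d < d + r)).1 a = Fin.castAdd r a := by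
        apply Fin.ext
        rfl
      rw [h1, Groth.Agent.S11275.cellMatrix_castAdd]
      rfl
  rw [this, Groth.Agent.Lib.Helper2.SchubertCell.det_updateRow_one']

/-- homogenization: every cell polynomial is the dehomogenization of a Plücker polynomial that
scales by a power of the determinant under right multiplication -/
theorem exists_homog (hr : 0 < r) (F : CellRing K d r) :
    ∃ (e : ℕ) (P : PlRing K d (d + r)), δ K d r P = F ∧
      ∀ (M : Matrix (Fin (d + r)) (Fin d) K) (g : Matrix (Fin d) (Fin d) K),
        evalMinors K d (d + r) (M * g) P = g.det ^ e * evalMinors K d (d + r) M P := by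
  induction F using MvPolynomial.induction_on with
  | C c =>
    refine ⟨0, C c, ?_, ?_⟩
    · rw [← MvPolynomial.algebraMap_eq, AlgHom.commutes]
      rfl
    · intro M g
      rw [← MvPolynomial.algebraMap_eq, AlgHom.commutes, AlgHom.commutes, pow_zero, one_mul]
  | add F₁ F₂ h₁ h₂ =>
    obtain ⟨e₁, P₁, hP₁, hs₁⟩ := h₁
    obtain ⟨e₂, P₂, hP₂, hs₂⟩ := h₂
    refine ⟨e₁ + e₂, X (Groth.Agent.S11270.iota (by omega : d < d + r)) ^ e₂ * P₁ +
      X (Groth.Agent.S11270.iota (by omega : d < d + r)) ^ e₁ * P₂, ?_, ?_⟩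
    · rw [map_add, map_mul, map_mul, map_pow, map_pow, δ_X, cellMinor_iota K d r hr, hP₁, hP₂]
      simp
    · intro M g
      rw [map_add, map_mul, map_mul, map_pow, map_pow, evalMinors_mul_X, hs₁, hs₂,
        map_add, map_mul, map_mul, map_pow, map_pow]
      ring
  | mul_X F p h =>
    obtain ⟨e, P, hP, hs⟩ := h
    obtain ⟨x, j⟩ := p
    refine ⟨e + 1, P * coord K d (d + r)
      (Function.update (Groth.Agent.S11270.iota (by omega : d < d + r)).1 j (Fin.natAdd d x)), ?_, ?_⟩
    · rw [map_mul, hP, δ_coord_update K d r hr]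
    · intro M g
      rw [map_mul, hs, evalMinors_mul_coord, map_mul]
      ring

theorem ker_le_main [IsAlgClosed K] (n : ℕ) (hnd : n + 1 ≤ d) (hnr : n + 1 ≤ r) :
    RingHom.ker (pairingMap K n r d).toRingHom ≤ CAlgX.minorIdeal (genMatrix K r d) (n + 1) := by
  classical
  intro F hF
  rw [RingHom.mem_ker] at hF
  have hF' : pairingMap K n r d F = 0 := hF
  have hr : 0 < r := by omega
  have hd : 0 < d := by omega
  haveI : Infinite K := IsAlgClosed.instInfinite
  obtain ⟨e, P, hP, hs⟩ := exists_homog K d r hr F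
  set w := wIdx d r (n + 1) (Nat.succ_pos n) hnd hnr with hw
  set ι₀ := Groth.Agent.S11270.iota (by omega : d < d + r) with hι₀
  have hmem : X ι₀ * P ∈ schubertVanishing K d (d + r) w := by
    unfold schubertVanishing
    rw [Ideal.mem_iInf]
    intro M
    rw [Ideal.mem_iInf]
    intro hM
    rw [RingHom.mem_ker]
    show evalMinors K d (d + r) M (X ι₀ * P) = 0
    rw [map_mul]
    set A : Matrix (Fin d) (Fin d) K := M.submatrix ι₀.1 id with hA
    have hXi : evalMinors K d (d + r) M (X ι₀) = A.det := by
      unfold evalMinors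
      rw [aeval_X]
    by_cases hdet : A.det = 0
    · rw [hXi, hdet, zero_mul]
    · have hunit : IsUnit A.det := isUnit_iff_ne_zero.mpr hdet
      have hAinv : A * A⁻¹ = 1 := Matrix.mul_nonsing_inv A hunit
      have hs' := hs M A⁻¹
      have hdinv : (A⁻¹).det ≠ 0 := by
        intro h0
        have := congrArg Matrix.det hAinv
        rw [Matrix.det_mul, h0, mul_zero, Matrix.det_one] at this
        exact zero_ne_one this
      suffices h : evalMinors K d (d + r) (M * A⁻¹) P = 0 by
        rw [hs'] at h
        rcases mul_eq_zero.mp h with h | h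
        · exact absurd h (pow_ne_zero e hdinv)
        · rw [h, mul_zero]
      have htop : ∀ c j, (M * A⁻¹) (Fin.castAdd r c) j = (1 : Matrix (Fin d) (Fin d) K) c j := by
        intro c j
        have : (M * A⁻¹) (Fin.castAdd r c) j = (A * A⁻¹) c j := by
          rw [Matrix.mul_apply, Matrix.mul_apply]
          rfl
        rw [this, hAinv]
      rw [evalMinors_cell K d r _ htop, hP]
      have hfin := eval_eq_zero K r n d F hF'
        (Matrix.of fun x j => (M * A⁻¹) (Fin.natAdd d x) j) ?_
      · exact hfin
      · intro f g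
        have hker : CAlgX.minorIdeal (genMatrix K r d) (n + 1) ≤
            RingHom.ker (MvPolynomial.eval
              (fun p : Fin r × Fin d => (M * A⁻¹) (Fin.natAdd d p.1) p.2)) := by
          rw [← Groth.Agent.S11275.main K d r (n + 1) hd (Nat.succ_pos n) hnd hnr, Ideal.span_le]
          rintro _ ⟨θ, hθ, rfl⟩
          rw [SetLike.mem_coe, RingHom.mem_ker, ← δ_X, ← evalMinors_cell K d r _ htop,
            evalMinors_mul_X]
          have : evalMinors K d (d + r) M (X θ) = 0 := by
            unfold evalMinors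
            rw [aeval_X]
            apply hM θ
            rw [hw, le_wIdx_iff d r (n + 1) hd (Nat.succ_pos n) hnd hnr]
            omega
          rw [this, mul_zero]
        have hm := hker (Groth.Agent.S11275.minor_mem (genMatrix K r d) (n + 1) f g)
        rw [RingHom.mem_ker, RingHom.map_det] at hm
        convert hm using 2
        refine Matrix.ext fun a b => ?_
        simp only [Matrix.submatrix_apply, Matrix.of_apply, RingHom.mapMatrix_apply,
          Matrix.map_apply, genMatrix, eval_X]
  rw [← Groth.Agent.S11250.main K d (d + r) hd (by omega) w] at hmem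
  have h1 := δ_plIdeal K d r (n + 1) hd (Nat.succ_pos n) hnd hnr (Ideal.mem_map_of_mem _ hmem)
  have h2 : (δ K d r).toRingHom (X ι₀ * P) = F := by
    show δ K d r (X ι₀ * P) = F
    rw [map_mul, δ_X, cellMinor_iota K d r hr, one_mul, hP]
  rwa [h2] at h1

theorem main (K : Type u) [Field K] [IsAlgClosed K] (m n q : ℕ) :
    RingHom.ker (pairingMap K n m q).toRingHom = CAlgX.minorIdeal (genMatrix K m q) (n + 1) := by
  apply le_antisymm _ (minor_le_ker K m n q)
  by_cases h : m < n + 1 ∨ q < n + 1
  · haveI : Infinite K := IsAlgClosed.instInfinite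
    rw [ker_eq_bot_of_lt K m n q h]
    exact bot_le
  · push Not at h
    exact ker_le_main K q m n h.2 h.1

end

open W4bk4grassmannian in
/-- Second Fundamental Theorem of invariant theory for the general linear group acting on pairs of
matrices: let K be an algebraically closed field and m, n, q natural numbers. The kernel of the
K-algebra map K[y_{ij}] → K[u_{ik}, ξ_{kj}] (coordinate rings of M_{m,q} and of M_{m,n} × M_{n,q})
sending y_{ij} to Σ_k u_{ik} ξ_{kj}, the (i, j) entry of the product matrix, is the ideal generated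
by the (n + 1) × (n + 1) minors of the generic m × q matrix (y_{ij}). -/
theorem result (K : Type u) [Field K] [IsAlgClosed K] (m n q : ℕ) :
    RingHom.ker (pairingMap K n m q).toRingHom = CAlgX.minorIdeal (genMatrix K m q) (n + 1) := by
  exact Groth.Agent.S11267.main K m n q

end Groth.Agent.S11267
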