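import Groth.Statements.S11266
import Mathlib
import Groth.Prelude.Def_CAlgX
import Groth.Agent.S11267
import Groth.Agent.S11254
-- import your own Groth.Agent.* helpers here

set_option autoImplicit false
universe u
open W4bk4grassmannian

namespace Groth.Agent.S11266

section
open W4bk4grassmannian MvPolynomial Groth.Agent.S11267

variable (K : Type u) [Field K] (d r : ℕ)

/-- Key reduction: membership of `X ι₀ * P` in a Schubert vanishing ideal can be tested on the
opposite cell. -/
theorem mem_schubertVanishing_of_cell (hr : 0 < r) (τ : Idx d (d + r)) (e : ℕ)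
    (P : PlRing K d (d + r))
    (hs : ∀ (M : Matrix (Fin (d + r)) (Fin d) K) (g : Matrix (Fin d) (Fin d) K),
        evalMinors K d (d + r) (M * g) P = g.det ^ e * evalMinors K d (d + r) M P)
    (hcell : ∀ z : Fin r × Fin d → K,
      (∀ θ : Idx d (d + r), ¬ θ ≤ τ → MvPolynomial.eval z (cellMinor K d r θ) = 0) →
        MvPolynomial.eval z (δ K d r P) = 0) :
    X (Groth.Agent.S11270.iota (by omega : d < d + r)) * P ∈ schubertVanishing K d (d + r) τ := by
  classical
  set ι₀ := Groth.Agent.S11270.iota (by omega : d < d + r) with hι₀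
  unfold schubertVanishing
  rw [Ideal.mem_iInf]
  intro M
  rw [Ideal.mem_iInf]
  intro hM
  rw [RingHom.mem_ker]
  show evalMinors K d (d + r) M (X ι₀ * P) = 0
  rw [map_mul]
  set A : Matrix (Fin d) (Fin d) K := M.submatrix ι₀.1 id with hA
  have hXi : evalMinors K d (d + r) M (X ι₀) = A.det := by
    unfold evalMinors
    rw [aeval_X]
  by_cases hdet : A.det = 0
  · rw [hXi, hdet, zero_mul]
  · have hunit : IsUnit A.det := isUnit_iff_ne_zero.mpr hdet
    have hAinv : A * A⁻¹ = 1 := Matrix.mul_nonsing_inv A hunit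
    have hs' := hs M A⁻¹
    have hdinv : (A⁻¹).det ≠ 0 := by
      intro h0
      have := congrArg Matrix.det hAinv
      rw [Matrix.det_mul, h0, mul_zero, Matrix.det_one] at this
      exact zero_ne_one this
    suffices h : evalMinors K d (d + r) (M * A⁻¹) P = 0 by
      rw [hs'] at h
      rcases mul_eq_zero.mp h with h | h
      · exact absurd h (pow_ne_zero e hdinv)
      · rw [h, mul_zero]
    have htop : ∀ c j, (M * A⁻¹) (Fin.castAdd r c) j = (1 : Matrix (Fin d) (Fin d) K) c j := by
      intro c j
      have : (M * A⁻¹) (Fin.castAdd r c) j = (A * A⁻¹) c j := by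
        rw [Matrix.mul_apply, Matrix.mul_apply]
        rfl
      rw [this, hAinv]
    rw [evalMinors_cell K d r _ htop]
    apply hcell
    intro θ hθ
    rw [← δ_X, ← evalMinors_cell K d r _ htop, evalMinors_mul_X]
    have : evalMinors K d (d + r) M (X θ) = 0 := by
      unfold evalMinors
      rw [aeval_X]
      exact hM θ hθ
    rw [this, mul_zero]

/-- cell points of the Schubert variety `X(w)` have rank at most `n` -/
theorem minors_vanish_of_cell (n : ℕ) (hnd : n + 1 ≤ d) (hnr : n + 1 ≤ r)
    (z : Fin r × Fin d → K)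
    (hz : ∀ θ : Idx d (d + r), ¬ θ ≤ wIdx d r (n + 1) (Nat.succ_pos n) hnd hnr →
      MvPolynomial.eval z (cellMinor K d r θ) = 0)
    (f : Fin (n + 1) → Fin r) (g : Fin (n + 1) → Fin d) :
    ((Matrix.of fun x j => z (x, j)).submatrix f g).det = 0 := by
  have hd : 0 < d := by omega
  have hker : CAlgX.minorIdeal (genMatrix K r d) (n + 1) ≤ RingHom.ker (MvPolynomial.eval z) := by
    rw [← Groth.Agent.S11275.main K d r (n + 1) hd (Nat.succ_pos n) hnd hnr, Ideal.span_le]
    rintro _ ⟨θ, hθ, rfl⟩
    rw [SetLike.mem_coe, RingHom.mem_ker]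
    apply hz
    rw [le_wIdx_iff d r (n + 1) hd (Nat.succ_pos n) hnd hnr]
    omega
  have hm := hker (Groth.Agent.S11275.minor_mem (genMatrix K r d) (n + 1) f g)
  rw [RingHom.mem_ker, RingHom.map_det] at hm
  convert hm using 2
  refine Matrix.ext fun a b => ?_
  simp only [Matrix.submatrix_apply, Matrix.of_apply, RingHom.mapMatrix_apply,
    Matrix.map_apply, genMatrix, eval_X]

/-- saturation: divisibility by the top minor descends from the pair ring to the determinantal ring -/
theorem saturate [IsAlgClosed K] (n : ℕ) (hn : 0 < n) (hnd : n + 1 ≤ d) (hnr : n + 1 ≤ r)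
    (g : CellRing K d r) (h : PairRing K n r d)
    (hgh : pairingMap K n r d g =
      pairingMap K n r d (cellMinor K d r (wIdx d r (n + 1) (Nat.succ_pos n) hnd hnr)) * h) :
    ∃ g' : CellRing K d r,
      g - cellMinor K d r (wIdx d r (n + 1) (Nat.succ_pos n) hnd hnr) * g' ∈
        CAlgX.minorIdeal (genMatrix K r d) (n + 1) := by
  classical
  have hr : 0 < r := by omega
  have hd : 0 < d := by omega
  haveI : Infinite K := IsAlgClosed.instInfinite
  set w := wIdx d r (n + 1) (Nat.succ_pos n) hnd hnr with hw
  set ι₀ := Groth.Agent.S11270.iota (by omega : d < d + r) with hι₀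
  obtain ⟨e, G, hG, hs⟩ := exists_homog K d r hr g
  have hlt : ∃ φ : Idx d (d + r), φ < w := by
    refine ⟨ι₀, lt_of_le_of_ne (Groth.Agent.S11270.iota_le _ w) ?_⟩
    intro heq
    have h1 : (ι₀.1 ⟨0, hd⟩).val = (w.1 ⟨0, hd⟩).val := by rw [heq]
    rw [hw] at h1
    unfold wIdx at h1
    simp only [Nat.zero_le, if_true] at h1
    have h2 : (ι₀.1 ⟨0, hd⟩).val = 0 := rfl
    omega
  have hmem : X ι₀ * G ∈ ⨅ φ ∈ divisors w, schubertVanishing K d (d + r) φ := by
    rw [Ideal.mem_iInf]
    intro φ
    rw [Ideal.mem_iInf]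
    intro hφ
    apply mem_schubertVanishing_of_cell K d r hr φ e G hs
    intro z hz
    rw [hG]
    have hminors := minors_vanish_of_cell K d r n hnd hnr z (fun θ hθ => hz θ (fun hc => hθ (hc.trans hφ.1.le)))
    obtain ⟨U, W, hUW⟩ := exists_factor n _ hminors
    have hz' : z = fun p : Fin r × Fin d => (U * W) p.1 p.2 := by
      funext p
      rw [← hUW]
      rfl
    have hzw : MvPolynomial.eval z (cellMinor K d r w) = 0 := hz w (not_le_of_gt hφ.1)
    rw [hz', eval_pairing, hgh, map_mul, ← eval_pairing, ← hz', hzw, zero_mul]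
  rw [← Groth.Agent.S11254.main K d (d + r) hd (by omega) w hlt,
    ← Groth.Agent.S11250.main K d (d + r) hd (by omega) w] at hmem
  obtain ⟨j, hj, y, hy, hjy⟩ := Submodule.mem_sup.mp hmem
  obtain ⟨G', rfl⟩ := Ideal.mem_span_singleton'.mp hy
  refine ⟨δ K d r G', ?_⟩
  have h1 := δ_plIdeal K d r (n + 1) hd (Nat.succ_pos n) hnd hnr (Ideal.mem_map_of_mem _ hj)
  have h2 : (δ K d r).toRingHom j = g - cellMinor K d r w * δ K d r G' := by
    show δ K d r j = _
    have := congrArg (δ K d r) hjy
    rw [map_add, map_mul, map_mul, δ_X, δ_X, cellMinor_iota K d r hr, one_mul, hG] at this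
    rw [← this]
    ring
  rwa [h2] at h1

variable (m n q : ℕ)

/-- evaluation point of the pair ring -/
def pt {K : Type u} {m n q : ℕ} (U : Matrix (Fin m) (Fin n) K) (W : Matrix (Fin n) (Fin q) K) :
    (Fin m × Fin n) ⊕ (Fin n × Fin q) → K :=
  Sum.elim (fun p => U p.1 p.2) (fun p => W p.1 p.2)

theorem eval_glTranslate (A : GL (Fin n) K) (U : Matrix (Fin m) (Fin n) K)
    (W : Matrix (Fin n) (Fin q) K) (f : PairRing K n m q) :
    MvPolynomial.eval (pt U W) (glTranslate K n m q A f) =
      MvPolynomial.eval (pt (U * ((A⁻¹ : GL (Fin n) K) : Matrix (Fin n) (Fin n) K))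
        ((A : Matrix (Fin n) (Fin n) K) * W)) f := by
  have h : (MvPolynomial.aeval (pt U W) : PairRing K n m q →ₐ[K] K).comp (glTranslate K n m q A) =
      (MvPolynomial.aeval (pt (U * ((A⁻¹ : GL (Fin n) K) : Matrix (Fin n) (Fin n) K))
        ((A : Matrix (Fin n) (Fin n) K) * W)) : PairRing K n m q →ₐ[K] K) := by
    apply MvPolynomial.algHom_ext
    rintro (p | p)
    · simp only [AlgHom.comp_apply, glTranslate, aeval_X, Sum.elim_inl, map_sum, map_mul, pt,
        Matrix.mul_apply]
      apply Finset.sum_congr rfl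
      intro k _
      rw [MvPolynomial.aeval_C]
      rfl
    · simp only [AlgHom.comp_apply, glTranslate, aeval_X, Sum.elim_inr, map_sum, map_mul, pt,
        Matrix.mul_apply]
      apply Finset.sum_congr rfl
      intro k _
      rw [MvPolynomial.aeval_C]
      rfl
  have := congrArg (fun φ => φ f) h
  simpa [MvPolynomial.aeval_eq_eval] using this

theorem eval_pairing' (U : Matrix (Fin m) (Fin n) K) (W : Matrix (Fin n) (Fin q) K)
    (g : MvPolynomial (Fin m × Fin q) K) :
    MvPolynomial.eval (pt U W) (pairingMap K n m q g) =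
      MvPolynomial.eval (fun p : Fin m × Fin q => (U * W) p.1 p.2) g :=
  (eval_pairing K m n q U W g).symm

/-- invariance of polynomials in the entries of the product -/
theorem range_invariant [Infinite K] (g : MvPolynomial (Fin m × Fin q) K) (A : GL (Fin n) K) :
    glTranslate K n m q A (pairingMap K n m q g) = pairingMap K n m q g := by
  apply MvPolynomial.funext
  intro x
  have hx : x = pt (Matrix.of fun i k => x (Sum.inl (i, k))) (Matrix.of fun k j => x (Sum.inr (k, j))) := by
    funext p
    rcases p with p | p <;> rfl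
  generalize (Matrix.of fun i k => x (Sum.inl (i, k)) : Matrix (Fin m) (Fin n) K) = U₀ at hx
  generalize (Matrix.of fun k j => x (Sum.inr (k, j)) : Matrix (Fin n) (Fin q) K) = W₀ at hx
  rw [hx, eval_glTranslate, eval_pairing', eval_pairing']
  have : U₀ * ((A⁻¹ : GL (Fin n) K) : Matrix (Fin n) (Fin n) K) *
      ((A : Matrix (Fin n) (Fin n) K) * W₀) = U₀ * W₀ := by
    rw [Matrix.mul_assoc, ← Matrix.mul_assoc _ _ W₀, ← Matrix.GeneralLinearGroup.coe_mul,
      inv_mul_cancel]
    simp
  rw [this]

/-- the generic minor on rows `fr` and columns `gc` -/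
noncomputable def mu (fr : Fin n → Fin m) (gc : Fin n → Fin q) : MvPolynomial (Fin m × Fin q) K :=
  ((genMatrix K m q).submatrix fr gc).det

/-- generic numerators of `Y^C (Y_R^C)⁻¹` -/
noncomputable def Pnum (fr : Fin n → Fin m) (gc : Fin n → Fin q) :
    Matrix (Fin m) (Fin n) (MvPolynomial (Fin m × Fin q) K) :=
  (genMatrix K m q).submatrix id gc * ((genMatrix K m q).submatrix fr gc).adjugate

theorem genMatrix_map (Y : Matrix (Fin m) (Fin q) K) :
    (genMatrix K m q).map (MvPolynomial.eval fun p : Fin m × Fin q => Y p.1 p.2) = Y := by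
  refine Matrix.ext fun i j => ?_
  simp only [Matrix.map_apply, genMatrix, Matrix.of_apply, eval_X]

theorem eval_mu (fr : Fin n → Fin m) (gc : Fin n → Fin q) (Y : Matrix (Fin m) (Fin q) K) :
    MvPolynomial.eval (fun p : Fin m × Fin q => Y p.1 p.2) (mu K m n q fr gc) =
      (Y.submatrix fr gc).det := by
  unfold mu
  rw [RingHom.map_det]
  congr 1
  rw [RingHom.mapMatrix_apply, ← Matrix.submatrix_map, genMatrix_map]

theorem eval_Pnum (fr : Fin n → Fin m) (gc : Fin n → Fin q) (Y : Matrix (Fin m) (Fin q) K)
    (i : Fin m) (k : Fin n) :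
    MvPolynomial.eval (fun p : Fin m × Fin q => Y p.1 p.2) (Pnum K m n q fr gc i k) =
      (Y.submatrix id gc * (Y.submatrix fr gc).adjugate) i k := by
  have h : (Pnum K m n q fr gc).map (MvPolynomial.eval fun p : Fin m × Fin q => Y p.1 p.2) =
      Y.submatrix id gc * (Y.submatrix fr gc).adjugate := by
    unfold Pnum
    rw [Matrix.map_mul, ← RingHom.mapMatrix_apply (MvPolynomial.eval fun p : Fin m × Fin q => Y p.1 p.2)
      (((genMatrix K m q).submatrix fr gc).adjugate), RingHom.map_adjugate,
      RingHom.mapMatrix_apply, ← Matrix.submatrix_map, ← Matrix.submatrix_map, genMatrix_map]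
  have := congrFun (congrFun h i) k
  rwa [Matrix.map_apply] at this

theorem exists_num (fr : Fin n → Fin m) (gc : Fin n → Fin q) (f : PairRing K n m q) :
    ∃ (N : ℕ) (g : MvPolynomial (Fin m × Fin q) K),
      ∀ (Y : Matrix (Fin m) (Fin q) K) (c : K), c * (Y.submatrix fr gc).det = 1 →
        MvPolynomial.eval (pt (c • (Y.submatrix id gc * (Y.submatrix fr gc).adjugate))
          (Y.submatrix fr id)) f =
          c ^ N * MvPolynomial.eval (fun p : Fin m × Fin q => Y p.1 p.2) g := by
  induction f using MvPolynomial.induction_on with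
  | C a =>
    refine ⟨0, C a, ?_⟩
    intro Y c _
    simp
  | add f₁ f₂ h₁ h₂ =>
    obtain ⟨N₁, g₁, hg₁⟩ := h₁
    obtain ⟨N₂, g₂, hg₂⟩ := h₂
    refine ⟨N₁ + N₂, mu K m n q fr gc ^ N₂ * g₁ + mu K m n q fr gc ^ N₁ * g₂, ?_⟩
    intro Y c hc
    rw [map_add, hg₁ Y c hc, hg₂ Y c hc, map_add, map_mul, map_mul, map_pow, map_pow, eval_mu]
    have h1 : c ^ (N₁ + N₂) * ((Y.submatrix fr gc).det ^ N₂ *
        MvPolynomial.eval (fun p : Fin m × Fin q => Y p.1 p.2) g₁ +
        (Y.submatrix fr gc).det ^ N₁ * MvPolynomial.eval (fun p : Fin m × Fin q => Y p.1 p.2) g₂) =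
        (c * (Y.submatrix fr gc).det) ^ N₂ * (c ^ N₁ *
          MvPolynomial.eval (fun p : Fin m × Fin q => Y p.1 p.2) g₁) +
        (c * (Y.submatrix fr gc).det) ^ N₁ * (c ^ N₂ *
          MvPolynomial.eval (fun p : Fin m × Fin q => Y p.1 p.2) g₂) := by ring
    rw [h1, hc, one_pow, one_pow, one_mul, one_mul]
  | mul_X f p h =>
    obtain ⟨N, g, hg⟩ := h
    rcases p with ⟨i, k⟩ | ⟨k, j⟩
    · refine ⟨N + 1, g * Pnum K m n q fr gc i k, ?_⟩
      intro Y c hc
      rw [map_mul, hg Y c hc, map_mul, eval_Pnum, eval_X]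
      simp only [pt, Sum.elim_inl, Matrix.smul_apply, smul_eq_mul]
      ring
    · refine ⟨N, g * X (fr k, j), ?_⟩
      intro Y c hc
      rw [map_mul, hg Y c hc, map_mul, eval_X, eval_X]
      simp only [pt, Sum.elim_inr, Matrix.submatrix_apply, id]
      ring

theorem exists_pt (x : (Fin m × Fin n) ⊕ (Fin n × Fin q) → K) :
    ∃ (U : Matrix (Fin m) (Fin n) K) (W : Matrix (Fin n) (Fin q) K), x = pt U W := by
  refine ⟨Matrix.of fun i k => x (Sum.inl (i, k)), Matrix.of fun k j => x (Sum.inr (k, j)), ?_⟩
  funext p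
  rcases p with p | p <;> rfl

/-- pointwise consequence of invariance on the open set where the `(fr, gc)`-minor of `UW` is nonzero -/
theorem eval_invariant (fr : Fin n → Fin m) (gc : Fin n → Fin q) (f : PairRing K n m q)
    (hf : ∀ A : GL (Fin n) K, glTranslate K n m q A f = f)
    (U : Matrix (Fin m) (Fin n) K) (W : Matrix (Fin n) (Fin q) K)
    (hc : ((U * W).submatrix fr gc).det ≠ 0) :
    MvPolynomial.eval (pt U W) f =
      MvPolynomial.eval (pt ((((U * W).submatrix fr gc).det)⁻¹ •
        ((U * W).submatrix id gc * ((U * W).submatrix fr gc).adjugate))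
          ((U * W).submatrix fr id)) f := by
  classical
  set UR := U.submatrix fr id with hUR
  set WC := W.submatrix id gc with hWC
  have hY1 : (U * W).submatrix fr gc = UR * WC :=
    Matrix.submatrix_mul U W fr id gc Function.bijective_id
  have hY2 : (U * W).submatrix id gc = U * WC := by
    have := Matrix.submatrix_mul U W id id gc Function.bijective_id
    rwa [Matrix.submatrix_id_id] at this
  have hY3 : (U * W).submatrix fr id = UR * W := by
    have := Matrix.submatrix_mul U W fr id id Function.bijective_id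
    rwa [Matrix.submatrix_id_id] at this
  rw [hY1, Matrix.det_mul] at hc
  have hURd : UR.det ≠ 0 := left_ne_zero_of_mul hc
  have hWCd : WC.det ≠ 0 := right_ne_zero_of_mul hc
  let A : GL (Fin n) K := Matrix.GeneralLinearGroup.mkOfDetNeZero UR hURd
  have hA : (A : Matrix (Fin n) (Fin n) K) = UR := rfl
  have hAinv : ((A⁻¹ : GL (Fin n) K) : Matrix (Fin n) (Fin n) K) = UR⁻¹ := by
    rw [Matrix.coe_units_inv, hA]
  have h1 := eval_glTranslate K m n q A U W f
  rw [hf A, hA, hAinv] at h1
  rw [h1, hY1, hY2, hY3]
  congr 2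
  rw [Matrix.adjugate_mul_distrib, Matrix.mul_assoc, ← Matrix.mul_assoc WC, Matrix.mul_adjugate,
    Matrix.smul_mul, Matrix.one_mul, Matrix.mul_smul, Matrix.inv_def, Ring.inverse_eq_inv',
    Matrix.mul_smul, smul_smul, Matrix.det_mul]
  congr 1
  field_simp

theorem exists_pow_mul [Infinite K] (fr : Fin n → Fin m) (gc : Fin n → Fin q) (f : PairRing K n m q)
    (hf : ∀ A : GL (Fin n) K, glTranslate K n m q A f = f) :
    ∃ (N : ℕ) (g : MvPolynomial (Fin m × Fin q) K),
      pairingMap K n m q (mu K m n q fr gc) ^ N * f = pairingMap K n m q g := by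
  obtain ⟨N, g, hg⟩ := exists_num K m n q fr gc f
  refine ⟨N + 1, mu K m n q fr gc * g, ?_⟩
  apply MvPolynomial.funext
  intro x
  obtain ⟨U, W, rfl⟩ := exists_pt K m n q x
  rw [map_mul, map_pow, eval_pairing', eval_pairing', map_mul, eval_mu]
  by_cases hc : ((U * W).submatrix fr gc).det = 0
  · rw [hc, pow_succ, mul_zero, zero_mul, zero_mul]
  · rw [eval_invariant K m n q fr gc f hf U W hc, hg (U * W) _ (inv_mul_cancel₀ hc)]
    generalize ((U * W).submatrix fr gc).det = c at hc
    rw [inv_pow, pow_succ]
    have : c ^ N * c * ((c ^ N)⁻¹ * (MvPolynomial.eval fun p : Fin m × Fin q => (U * W) p.1 p.2) g) =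
        (c ^ N * (c ^ N)⁻¹) * (c * (MvPolynomial.eval fun p : Fin m × Fin q => (U * W) p.1 p.2) g) := by
      ring
    rw [this, mul_inv_cancel₀ (pow_ne_zero N hc), one_mul]

/-- the top cell minor is, up to sign, the minor of the generic matrix on the last `n` rows and
first `n` columns -/
theorem cellMinor_w (hnd : n + 1 ≤ d) (hnr : n + 1 ≤ r) :
    ∃ ε : K, ε ≠ 0 ∧ cellMinor K d r (wIdx d r (n + 1) (Nat.succ_pos n) hnd hnr) =
      C ε * mu K r n d (fun a => ⟨r - n + a.val, by have := a.isLt; omega⟩)
        (fun a => ⟨a.val, by have := a.isLt; omega⟩) := by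
  classical
  set fr : Fin n → Fin r := fun a => ⟨r - n + a.val, by have := a.isLt; omega⟩ with hfr
  set gc : Fin n → Fin d := fun a => ⟨a.val, by have := a.isLt; omega⟩ with hgc
  let ρ : Fin d → Fin (d + r) := fun c =>
    if h : c.val < n then Fin.natAdd d ⟨r - n + c.val, by omega⟩ else Fin.castAdd r c
  have hgi : Function.Injective gc := by
    intro a b hab
    apply Fin.ext
    have := congrArg Fin.val hab
    simpa [hgc] using this
  have hρ := Groth.Agent.S11275.det_rho K d r n fr gc hgi ρ
    (by
      intro a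
      simp only [ρ, hgc]
      rw [dif_pos a.isLt])
    (by
      intro c hc
      simp only [ρ]
      rw [dif_neg]
      intro hlt
      exact hc ⟨⟨c.val, hlt⟩, Fin.ext rfl⟩)
  let σfun : Fin d → Fin d := fun k =>
    if h : k.val < d - n then ⟨n + k.val, by omega⟩ else ⟨k.val - (d - n), by have := k.isLt; omega⟩
  have hinj : Function.Injective σfun := by
    intro a b hab
    simp only [σfun] at hab
    apply Fin.ext
    split_ifs at hab with h1 h2 h2
    · simp only [Fin.mk.injEq] at hab; omega
    · simp only [Fin.mk.injEq] at hab; omega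
    · simp only [Fin.mk.injEq] at hab; omega
    · simp only [Fin.mk.injEq] at hab; omega
  let σ : Equiv.Perm (Fin d) := Equiv.ofBijective σfun (Finite.injective_iff_bijective.mp hinj)
  have hwσ : (wIdx d r (n + 1) (Nat.succ_pos n) hnd hnr).1 = ρ ∘ σ := by
    funext k
    show _ = ρ (σfun k)
    apply Fin.ext
    unfold wIdx
    simp only [ρ, σfun]
    have hk := k.isLt
    by_cases h1 : k.val < d - n
    · rw [dif_pos h1, if_pos (by omega), dif_neg (by simp only; omega)]
      simp only [Fin.val_castAdd]
      omega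
    · rw [dif_neg h1, if_neg (by omega), dif_pos (by simp only; omega)]
      simp only [Fin.val_natAdd]
      omega
  refine ⟨((Equiv.Perm.sign σ : ℤˣ) : ℤ), ?_, ?_⟩
  · rcases Int.units_eq_one_or (Equiv.Perm.sign σ) with h | h <;> rw [h] <;> simp
  · unfold cellMinor mu
    rw [hwσ, ← hρ]
    have : (cellMatrix K d r).submatrix (ρ ∘ σ) id = ((cellMatrix K d r).submatrix ρ id).submatrix σ id := by
      ext a b
      rfl
    rw [this, Matrix.det_permute, map_intCast]

theorem pairing_mu_ne_zero (fr : Fin n → Fin m) (gc : Fin n → Fin q)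
    (hfr : Function.Injective fr) (hgc : Function.Injective gc) :
    pairingMap K n m q (mu K m n q fr gc) ≠ 0 := by
  classical
  intro h0
  set U : Matrix (Fin m) (Fin n) K := Matrix.of fun i k => if i = fr k then 1 else 0 with hU
  set W : Matrix (Fin n) (Fin q) K := Matrix.of fun k j => if j = gc k then 1 else 0 with hW
  have h1 : (U * W).submatrix fr gc = 1 := by
    ext a b
    rw [Matrix.submatrix_apply, Matrix.mul_apply, Matrix.one_apply]
    simp only [hU, hW, Matrix.of_apply]
    rw [Finset.sum_eq_single a]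
    · rw [if_pos rfl, one_mul]
      by_cases hab : a = b
      · rw [if_pos hab, if_pos (by rw [hab])]
      · rw [if_neg hab, if_neg (fun h => hab (hgc h).symm)]
    · intro k _ hk
      rw [if_neg (fun h => hk (hfr h).symm), zero_mul]
    · intro h
      exact absurd (Finset.mem_univ a) h
  have h2 := congrArg (MvPolynomial.eval (pt U W)) h0
  rw [eval_pairing', eval_mu, h1, Matrix.det_one, map_zero] at h2
  exact one_ne_zero h2

theorem main_case [IsAlgClosed K] (hn : 0 < n) (hnd : n + 1 ≤ d) (hnr : n + 1 ≤ r)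
    (f : PairRing K n r d) (hf : ∀ A : GL (Fin n) K, glTranslate K n r d A f = f) :
    f ∈ (pairingMap K n r d).range := by
  classical
  haveI : Infinite K := IsAlgClosed.instInfinite
  obtain ⟨ε, hε, hw⟩ := cellMinor_w K d r n hnd hnr
  set fr : Fin n → Fin r := fun a => ⟨r - n + a.val, by have := a.isLt; omega⟩ with hfr
  set gc : Fin n → Fin d := fun a => ⟨a.val, by have := a.isLt; omega⟩ with hgc
  set μw := cellMinor K d r (wIdx d r (n + 1) (Nat.succ_pos n) hnd hnr) with hμw
  have hfri : Function.Injective fr := by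
    intro a b hab
    apply Fin.ext
    have := congrArg Fin.val hab
    simp only [hfr] at this
    omega
  have hgci : Function.Injective gc := by
    intro a b hab
    apply Fin.ext
    have := congrArg Fin.val hab
    simpa [hgc] using this
  have hφC : ∀ c : K, pairingMap K n r d (C c) = C c := by
    intro c
    rw [← MvPolynomial.algebraMap_eq, AlgHom.commutes]
    rfl
  have hφμ : pairingMap K n r d μw = C ε * pairingMap K n r d (mu K r n d fr gc) := by
    rw [hw, map_mul, hφC]
  have hne : pairingMap K n r d μw ≠ 0 := by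
    rw [hφμ]
    apply mul_ne_zero
    · intro h
      exact hε (MvPolynomial.C_eq_zero.mp h)
    · exact pairing_mu_ne_zero K r n d fr gc hfri hgci
  have key : ∀ (N : ℕ) (g : CellRing K d r),
      pairingMap K n r d μw ^ N * f = pairingMap K n r d g → f ∈ (pairingMap K n r d).range := by
    intro N
    induction N with
    | zero =>
      intro g hg
      rw [pow_zero, one_mul] at hg
      exact ⟨g, hg.symm⟩
    | succ N ih =>
      intro g hg
      obtain ⟨g', hg'⟩ := saturate K d r n hn hnd hnr g (pairingMap K n r d μw ^ N * f)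
        (by rw [← hg]; ring)
      have h1 := minor_le_ker K r n d hg'
      rw [RingHom.mem_ker] at h1
      have h2 : pairingMap K n r d (g - μw * g') = 0 := h1
      rw [map_sub, map_mul, sub_eq_zero] at h2
      apply ih g'
      have h3 : pairingMap K n r d μw * (pairingMap K n r d μw ^ N * f - pairingMap K n r d g') = 0 := by
        rw [mul_sub, ← h2, ← hg]
        ring
      rcases mul_eq_zero.mp h3 with h | h
      · exact absurd h hne
      · exact sub_eq_zero.mp h
  obtain ⟨N, g, hNg⟩ := exists_pow_mul K r n d fr gc f hf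
  apply key N (C (ε ^ N) * g)
  rw [hφμ, mul_pow, map_mul, hφC, ← hNg, map_pow]
  ring

/-- enlarging the matrices by `s` rows of `U` and `s` columns of `W` -/
noncomputable def emb (s : ℕ) : PairRing K n m q →ₐ[K] PairRing K n (m + s) (q + s) :=
  MvPolynomial.aeval (Sum.elim
    (fun p : Fin m × Fin n => (X (Sum.inl (Fin.castAdd s p.1, p.2)) : PairRing K n (m + s) (q + s)))
    (fun p : Fin n × Fin q => (X (Sum.inr (p.1, Fin.castAdd s p.2)) : PairRing K n (m + s) (q + s))))

/-- setting the extra rows and columns to zero -/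
noncomputable def retr (s : ℕ) : PairRing K n (m + s) (q + s) →ₐ[K] PairRing K n m q :=
  MvPolynomial.aeval (Sum.elim
    (fun p : Fin (m + s) × Fin n =>
      if h : p.1.val < m then (X (Sum.inl (⟨p.1.val, h⟩, p.2)) : PairRing K n m q) else 0)
    (fun p : Fin n × Fin (q + s) =>
      if h : p.2.val < q then (X (Sum.inr (p.1, ⟨p.2.val, h⟩)) : PairRing K n m q) else 0))

theorem retr_emb (s : ℕ) (f : PairRing K n m q) : retr K m n q s (emb K m n q s f) = f := by
  have h : (retr K m n q s).comp (emb K m n q s) = AlgHom.id K _ := by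
    apply MvPolynomial.algHom_ext
    rintro (p | p)
    · simp only [AlgHom.comp_apply, emb, retr, aeval_X, Sum.elim_inl, AlgHom.id_apply,
        Fin.val_castAdd]
      rw [dif_pos p.1.isLt]
    · simp only [AlgHom.comp_apply, emb, retr, aeval_X, Sum.elim_inr, AlgHom.id_apply,
        Fin.val_castAdd]
      rw [dif_pos p.2.isLt]
  exact congrArg (fun φ => φ f) h

theorem emb_glTranslate (s : ℕ) (A : GL (Fin n) K) (f : PairRing K n m q) :
    glTranslate K n (m + s) (q + s) A (emb K m n q s f) =
      emb K m n q s (glTranslate K n m q A f) := by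
  have h : (glTranslate K n (m + s) (q + s) A).comp (emb K m n q s) =
      (emb K m n q s).comp (glTranslate K n m q A) := by
    apply MvPolynomial.algHom_ext
    rintro (p | p)
    · simp only [AlgHom.comp_apply, emb, glTranslate, aeval_X, Sum.elim_inl, map_sum, map_mul]
      apply Finset.sum_congr rfl
      intro k _
      rw [MvPolynomial.aeval_C]
      rfl
    · simp only [AlgHom.comp_apply, emb, glTranslate, aeval_X, Sum.elim_inr, map_sum, map_mul]
      apply Finset.sum_congr rfl
      intro k _
      rw [MvPolynomial.aeval_C]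
      rfl
  exact congrArg (fun φ => φ f) h

/-- restriction of polynomial functions to the top left block -/
noncomputable def proj (s : ℕ) :
    MvPolynomial (Fin (m + s) × Fin (q + s)) K →ₐ[K] MvPolynomial (Fin m × Fin q) K :=
  MvPolynomial.aeval fun p : Fin (m + s) × Fin (q + s) =>
    if h : p.1.val < m ∧ p.2.val < q then
      (X (⟨p.1.val, h.1⟩, ⟨p.2.val, h.2⟩) : MvPolynomial (Fin m × Fin q) K) else 0

theorem retr_pairing (s : ℕ) (g : MvPolynomial (Fin (m + s) × Fin (q + s)) K) :
    retr K m n q s (pairingMap K n (m + s) (q + s) g) = pairingMap K n m q (proj K m q s g) := by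
  have h : (retr K m n q s).comp (pairingMap K n (m + s) (q + s)) =
      (pairingMap K n m q).comp (proj K m q s) := by
    apply MvPolynomial.algHom_ext
    rintro ⟨i, j⟩
    simp only [AlgHom.comp_apply, pairingMap, proj, retr, aeval_X, map_sum, map_mul, Sum.elim_inl,
      Sum.elim_inr]
    by_cases hi : i.val < m
    · by_cases hj : j.val < q
      · rw [dif_pos ⟨hi, hj⟩, aeval_X]
        apply Finset.sum_congr rfl
        intro k _
        rw [dif_pos hi, dif_pos hj]
      · rw [dif_neg (fun h => hj h.2), map_zero]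
        apply Finset.sum_eq_zero
        intro k _
        rw [dif_neg hj, mul_zero]
    · rw [dif_neg (fun h => hi h.1), map_zero]
      apply Finset.sum_eq_zero
      intro k _
      rw [dif_neg hi, zero_mul]
  exact congrArg (fun φ => φ g) h

theorem main (K : Type u) [Field K] [IsAlgClosed K] (m n q : ℕ)
    (f : PairRing K n m q) :
    (∀ A : GL (Fin n) K, glTranslate K n m q A f = f) ↔ f ∈ (pairingMap K n m q).range := by
  haveI : Infinite K := IsAlgClosed.instInfinite
  constructor
  · intro hf
    by_cases hn : n = 0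
    · subst hn
      haveI : IsEmpty ((Fin m × Fin 0) ⊕ (Fin 0 × Fin q)) := by
        constructor
        rintro (p | p)
        · exact p.2.elim0
        · exact p.1.elim0
      obtain ⟨c, rfl⟩ := MvPolynomial.C_surjective _ f
      refine ⟨C c, ?_⟩
      show pairingMap K 0 m q (C c) = C c
      rw [← MvPolynomial.algebraMap_eq, AlgHom.commutes]
      rfl
    · have hinv : ∀ A : GL (Fin n) K, glTranslate K n (m + (n + 1)) (q + (n + 1)) A
          (emb K m n q (n + 1) f) = emb K m n q (n + 1) f := by
        intro A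
        rw [emb_glTranslate, hf A]
      obtain ⟨g, hg⟩ := main_case K (q + (n + 1)) (m + (n + 1)) n (by omega) (by omega) (by omega)
        (emb K m n q (n + 1) f) hinv
      refine ⟨proj K m q (n + 1) g, ?_⟩
      have hg' : pairingMap K n (m + (n + 1)) (q + (n + 1)) g = emb K m n q (n + 1) f := hg
      show pairingMap K n m q (proj K m q (n + 1) g) = f
      rw [← retr_pairing, hg', retr_emb]
  · rintro ⟨g, rfl⟩ A
    exact range_invariant K m n q g A

end

open W4bk4grassmannian in
/-- First Fundamental Theorem of invariant theory for the general linear group acting on pairs of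
matrices: let K be an algebraically closed field and m, n, q natural numbers; GL_n(K) acts on the
coordinate ring of M_{m,n} × M_{n,q} by (A • f)(U, W) = f(U A⁻¹, A W). Then f is fixed by every A ∈
GL_n(K) if and only if f lies in the image of the comorphism of (U, W) ↦ U W, i.e. f is a polynomial
in the entries Σ_k u_{ik} ξ_{kj} of the product matrix. -/
theorem result (K : Type u) [Field K] [IsAlgClosed K] (m n q : ℕ)
    (f : PairRing K n m q) :
    (∀ A : GL (Fin n) K, glTranslate K n m q A f = f) ↔ f ∈ (pairingMap K n m q).range := by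
  exact Groth.Agent.S11266.main K m n q f

end Groth.Agent.S11266
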