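import Groth.Statements.S11265
import Mathlib
import Groth.Agent.S11266
import Groth.Agent.Lib.Helper2.Bitab
-- import your own Groth.Agent.* helpers here

set_option autoImplicit false
universe u
open W4bk4grassmannian

namespace Groth.Agent.S11265

section
open W4bk4grassmannian MvPolynomial Groth.Agent.S11267 Groth.Agent.Lib.Helper2.Bitab
  Groth.Agent.Lib.Helper2.SMT Groth.Agent.S11251

variable (K : Type u) [Field K] (m n : ℕ)

/-- the row flip automorphism of the coordinate ring of `m × n` matrices -/
noncomputable def flipR : MvPolynomial (Fin m × Fin n) K →ₐ[K] MvPolynomial (Fin m × Fin n) K :=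
  MvPolynomial.aeval fun p : Fin m × Fin n => (X (Fin.rev p.1, p.2) : MvPolynomial (Fin m × Fin n) K)

theorem flipR_flipR (F : MvPolynomial (Fin m × Fin n) K) : flipR K m n (flipR K m n F) = F := by
  have h : (flipR K m n).comp (flipR K m n) = AlgHom.id K _ := by
    apply MvPolynomial.algHom_ext
    intro p
    simp only [AlgHom.comp_apply, flipR, aeval_X, Fin.rev_rev, AlgHom.id_apply]
  exact congrArg (fun φ => φ F) h

theorem flipR_minor {k : ℕ} (f : Fin k → Fin m) (g : Fin k → Fin n) :
    flipR K m n ((genMatrix K m n).submatrix f g).det =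
      ((genMatrix K m n).submatrix (Fin.rev ∘ f) g).det := by
  rw [AlgHom.map_det (flipR K m n)]
  congr 1
  refine Matrix.ext fun a b => ?_
  simp only [AlgHom.mapMatrix_apply, Matrix.map_apply, Matrix.submatrix_apply, genMatrix,
    Matrix.of_apply, flipR, aeval_X, Function.comp]

theorem flipR_mem (t : ℕ) (F : MvPolynomial (Fin m × Fin n) K)
    (hF : F ∈ CAlgX.minorIdeal (genMatrix K m n) t) :
    flipR K m n F ∈ CAlgX.minorIdeal (genMatrix K m n) t := by
  have h : CAlgX.minorIdeal (genMatrix K m n) t ≤
      Ideal.comap (flipR K m n).toRingHom (CAlgX.minorIdeal (genMatrix K m n) t) := by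
    unfold CAlgX.minorIdeal
    rw [Ideal.span_le]
    rintro _ ⟨⟨f, g⟩, rfl⟩
    rw [SetLike.mem_coe, Ideal.mem_comap]
    show flipR K m n _ ∈ _
    rw [flipR_minor]
    exact Groth.Agent.S11275.minor_mem (genMatrix K m n) t _ _
  exact h hF

/-- sign attached to a minor -/
noncomputable def eps (M : MinorIdx m n) : K := (-1 : K) ^ invCount n (n + m) (rho M)

theorem eps_mul_eps (M : MinorIdx m n) : eps K m n M * eps K m n M = 1 := by
  unfold eps
  rw [← pow_add, ← two_mul, pow_mul]
  simp

theorem eps_ne_zero (M : MinorIdx m n) : eps K m n M ≠ 0 := by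
  intro h
  have := eps_mul_eps K m n M
  rw [h, mul_zero] at this
  exact zero_ne_one this

/-- the Plücker coordinate of `Θ M` on the opposite cell is, up to sign, the flipped minor `M` -/
theorem cellMinor_Theta (M : MinorIdx m n) :
    cellMinor K n m (Theta M) = C (eps K m n M) * flipR K m n (minorOf K M) := by
  classical
  have h1 := δ_coord K n m (rho M)
  have h2 := Groth.Agent.S11275.det_rho K n m (M.1 + 1) (Fin.rev ∘ M.2.1.1) M.2.2.1
    M.2.2.2.injective (rho M) (fun a => rho_col M a) (fun c hc => rho_off M c (fun j hj => hc ⟨j, hj⟩))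
  have h3 : coord K n (n + m) (rho M) =
      (-1 : PlRing K n (n + m)) ^ invCount n (n + m) (rho M) * X (Theta M) := by
    unfold coord
    rw [dif_pos (card_image_rho M)]
    rfl
  rw [h3, map_mul, map_pow, map_neg, map_one, δ_X, h2] at h1
  unfold minorOf
  rw [flipR_minor, ← h1, ← mul_assoc]
  unfold eps
  rw [map_pow, map_neg, map_one, ← pow_add, ← two_mul, pow_mul]
  simp

theorem evalMinors_listMon (A : Matrix (Fin (n + m)) (Fin n) K) (g : Matrix (Fin n) (Fin n) K)
    (L : List (Idx n (n + m))) :
    evalMinors K n (n + m) (A * g) (listMon K L) =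
      g.det ^ L.length * evalMinors K n (n + m) A (listMon K L) := by
  induction L with
  | nil => simp [listMon_nil]
  | cons θ L ih =>
    rw [listMon_cons, map_mul, map_mul, ih, evalMinors_mul_X, List.length_cons]
    ring

theorem δ_listMon (L : List (Idx n (n + m))) :
    δ K n m (listMon K L) = (L.map (cellMinor K n m)).prod := by
  induction L with
  | nil => simp [listMon_nil]
  | cons θ L ih =>
    rw [listMon_cons, map_mul, ih, δ_X, List.map_cons, List.prod_cons]

variable (t : ℕ)

/-- index type of the standard bitableaux of minors of size `< t` -/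
abbrev Chains : Type := Σ k : ℕ, {c : Fin k → MinorIdx m n //
  (∀ i, (c i).1 + 1 ≤ t - 1) ∧ ∀ i j, i < j → MinorGE (c i) (c j)}

variable {m n t}

/-- the standard list of Plücker indices attached to a standard bitableau, padded by `k` copies of
the least index -/
noncomputable def Lstd (hm : 0 < m) (c : Chains m n t) (k : ℕ) : List (Idx n (n + m)) :=
  (List.ofFn fun i => Theta (c.2.1 i)).reverse ++
    List.replicate k (Groth.Agent.S11270.iota (by omega : n < n + m))

theorem listMon_Lstd (hm : 0 < m) (c : Chains m n t) (k : ℕ) :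
    listMon K (Lstd hm c k) = (Finset.univ.prod fun i => (X (Theta (c.2.1 i)) : PlRing K n (n + m))) *
      X (Groth.Agent.S11270.iota (by omega : n < n + m)) ^ k := by
  unfold Lstd
  rw [Groth.Agent.Lib.Helper2.StdFam.listMon_append,
    listMon_perm (List.reverse_perm _)]
  congr 1
  · unfold listMon
    rw [List.map_ofFn, List.prod_ofFn]
    rfl
  · unfold listMon
    rw [List.map_replicate, List.prod_replicate]

theorem cntI_iota (hm : 0 < m) :
    cntI (Groth.Agent.S11270.iota (by omega : n < n + m)) n = n := by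
  unfold cntI
  apply cnt_eq_of_forall_lt
  intro j
  exact j.isLt

theorem Theta_ne_iota (hm : 0 < m) (M : MinorIdx m n) :
    Theta M ≠ Groth.Agent.S11270.iota (by omega : n < n + m) := by
  intro h
  have h1 := cntI_Theta_n M
  rw [h, cntI_iota hm] at h1
  omega

theorem isStd_Lstd (hm : 0 < m) (w : Idx n (n + m))
    (hw1 : ∀ M : MinorIdx m n, Theta M ≤ w ↔ M.1 + 1 ≤ t - 1) (c : Chains m n t) (k : ℕ) :
    IsStd w (Lstd hm c k) := by
  unfold IsStd Lstd
  constructor
  · rw [List.pairwise_append]
    refine ⟨?_, ?_, ?_⟩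
    · rw [List.pairwise_reverse, List.pairwise_ofFn]
      intro i j hij
      rw [Theta_le_iff]
      exact c.2.2.2 i j hij
    · rw [List.pairwise_replicate]
      right
      exact le_refl _
    · intro x _ y hy
      rw [List.eq_of_mem_replicate hy]
      exact Groth.Agent.S11270.iota_le _ x
  · intro x hx
    rw [List.mem_append] at hx
    rcases hx with hx | hx
    · rw [List.mem_reverse, List.mem_ofFn] at hx
      obtain ⟨i, rfl⟩ := hx
      rw [hw1]
      exact c.2.2.1 i
    · rw [List.eq_of_mem_replicate hx]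
      exact Groth.Agent.S11270.iota_le _ w

theorem Lstd_injective (hm : 0 < m) (c c' : Chains m n t) (k k' : ℕ)
    (h : Lstd hm c k = Lstd hm c' k') : c = c' := by
  classical
  have hf : ∀ (c : Chains m n t) (k : ℕ),
      (Lstd hm c k).filter (fun θ => θ ≠ Groth.Agent.S11270.iota (by omega : n < n + m)) =
        (List.ofFn fun i => Theta (c.2.1 i)).reverse := by
    intro c k
    unfold Lstd
    rw [List.filter_append]
    have h1 : (List.replicate k (Groth.Agent.S11270.iota (by omega : n < n + m))).filter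
        (fun θ => θ ≠ Groth.Agent.S11270.iota (by omega : n < n + m)) = [] := by
      rw [List.filter_eq_nil_iff]
      intro x hx
      rw [List.eq_of_mem_replicate hx]
      simp
    rw [h1, List.append_nil, List.filter_eq_self]
    intro x hx
    rw [List.mem_reverse, List.mem_ofFn] at hx
    obtain ⟨i, rfl⟩ := hx
    simpa using Theta_ne_iota hm (c.2.1 i)
  have h2 := hf c k
  rw [h, hf c' k'] at h2
  have h3 := List.reverse_injective h2
  have h4 := List.ofFn_inj'.mp h3
  obtain ⟨kc, fc, hc⟩ := c
  obtain ⟨kc', fc', hc'⟩ := c'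
  simp only at h4
  have hk : kc' = kc := (Sigma.mk.inj_iff.mp h4).1
  subst hk
  have h5 := eq_of_heq (Sigma.mk.inj_iff.mp h4).2
  have h6 : fc = fc' := by
    funext i
    exact Theta_injective (congrFun h5 i).symm
  subst h6
  rfl

theorem length_Lstd (hm : 0 < m) (c : Chains m n t) (k : ℕ) : (Lstd hm c k).length = c.1 + k := by
  unfold Lstd
  simp

theorem indep_main [IsAlgClosed K] (hm : 0 < m) (hn : 0 < n) (w : Idx n (n + m))
    (hw1 : ∀ M : MinorIdx m n, Theta M ≤ w ↔ M.1 + 1 ≤ t - 1)
    (hw2 : Ideal.span {f | ∃ θ : Idx n (n + m), ¬ θ ≤ w ∧ f = cellMinor K n m θ} =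
      CAlgX.minorIdeal (genMatrix K m n) t) :
    LinearIndependent K (fun c : Chains m n t =>
      Ideal.Quotient.mk (CAlgX.minorIdeal (genMatrix K m n) t)
        (Finset.univ.prod fun i => minorOf K (c.2.1 i))) := by
  classical
  haveI : Infinite K := IsAlgClosed.instInfinite
  rw [linearIndependent_iff']
  intro s g hsum
  set I := CAlgX.minorIdeal (genMatrix K m n) t with hI
  set F : MvPolynomial (Fin m × Fin n) K :=
    ∑ c ∈ s, g c • (Finset.univ.prod fun i => minorOf K (c.2.1 i)) with hFdef
  have hF : F ∈ I := by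
    rw [← Ideal.Quotient.eq_zero_iff_mem, hFdef, map_sum, ← hsum]
    apply Finset.sum_congr rfl
    intro c _
    exact map_smul (Ideal.Quotient.mkₐ K I) (g c) _
  set N := s.sup (fun c => c.1) with hN
  set ι₀ := Groth.Agent.S11270.iota (by omega : n < n + m) with hι₀
  set εc : Chains m n t → K := fun c => Finset.univ.prod fun i => eps K m n (c.2.1 i) with hεcdef
  have hεc : ∀ c, εc c * εc c = 1 := by
    intro c
    rw [hεcdef]
    simp only
    rw [← Finset.prod_mul_distrib]
    apply Finset.prod_eq_one
    intro i _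
    exact eps_mul_eps K m n _
  have hεc0 : ∀ c, εc c ≠ 0 := by
    intro c h
    have := hεc c
    rw [h, mul_zero] at this
    exact zero_ne_one this
  set P : PlRing K n (n + m) := ∑ c ∈ s, (g c * εc c) • listMon K (Lstd hm c (N - c.1)) with hP
  have hδmon : ∀ (c : Chains m n t) (k : ℕ), δ K n m (listMon K (Lstd hm c k)) =
      C (εc c) * flipR K m n (Finset.univ.prod fun i => minorOf K (c.2.1 i)) := by
    intro c k
    rw [listMon_Lstd, map_mul, map_pow, δ_X, cellMinor_iota K n m hm, one_pow, mul_one, map_prod,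
      map_prod]
    rw [map_prod, ← Finset.prod_mul_distrib]
    apply Finset.prod_congr rfl
    intro i _
    rw [δ_X, cellMinor_Theta]
  have hδP : δ K n m P = flipR K m n F := by
    rw [hP, hFdef, map_sum, map_sum]
    apply Finset.sum_congr rfl
    intro c _
    rw [map_smul, map_smul, hδmon, MvPolynomial.smul_eq_C_mul, MvPolynomial.smul_eq_C_mul,
      ← mul_assoc, ← map_mul, mul_assoc, hεc, mul_one]
  have hs : ∀ (A : Matrix (Fin (n + m)) (Fin n) K) (g' : Matrix (Fin n) (Fin n) K),
      evalMinors K n (n + m) (A * g') P = g'.det ^ N * evalMinors K n (n + m) A P := by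
    intro A g'
    rw [hP, map_sum, map_sum, Finset.mul_sum]
    apply Finset.sum_congr rfl
    intro c hc
    have hcN : c.1 ≤ N := Finset.le_sup (f := fun c : Chains m n t => c.1) hc
    rw [map_smul, map_smul, evalMinors_listMon, length_Lstd]
    have : c.1 + (N - c.1) = N := by omega
    rw [this, smul_eq_mul, smul_eq_mul]
    ring
  have hmem := Groth.Agent.S11266.mem_schubertVanishing_of_cell K n m hm w N P hs (by
    intro z hz
    rw [hδP]
    have hker : I ≤ RingHom.ker (MvPolynomial.eval z) := by
      rw [← hw2, Ideal.span_le]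
      rintro _ ⟨θ, hθ, rfl⟩
      exact hz θ hθ
    exact hker (flipR_mem K m n t _ hF))
  have hψ := schubertVanishing_le_ker w _ hmem
  have hXP : X ι₀ * P = ∑ c ∈ s, (g c * εc c) • listMon K (Lstd hm c (N - c.1 + 1)) := by
    rw [hP, Finset.mul_sum]
    apply Finset.sum_congr rfl
    intro c _
    rw [listMon_Lstd, listMon_Lstd, pow_succ, mul_smul_comm]
    congr 1
    ring
  rw [hXP, map_sum] at hψ
  let Lf : Chains m n t → List (Idx n (n + m)) := fun c => Lstd hm c (N - c.1 + 1)
  have hLf : ∀ c c', Lf c = Lf c' → c = c' := fun c c' h => Lstd_injective hm c c' _ _ h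
  let cL : List (Idx n (n + m)) → K := fun L =>
    if h : ∃ c, c ∈ s ∧ Lf c = L then g (Classical.choose h) * εc (Classical.choose h) else 0
  have hcL : ∀ c ∈ s, cL (Lf c) = g c * εc c := by
    intro c hc
    have hex : ∃ c', c' ∈ s ∧ Lf c' = Lf c := ⟨c, hc, rfl⟩
    simp only [cL]
    rw [dif_pos hex]
    have := hLf _ _ (Classical.choose_spec hex).2
    rw [this]
  have hrel : ∑ L ∈ s.image Lf, cL L • ψ K w (listMon K L) = 0 := by
    rw [Finset.sum_image (fun c _ c' _ h => hLf c c' h), ← hψ]
    apply Finset.sum_congr rfl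
    intro c hc
    rw [hcL c hc, map_smul]
  have hind := indep hn w (s.image Lf) cL (by
    intro L hL
    rw [Finset.mem_image] at hL
    obtain ⟨c, _, rfl⟩ := hL
    exact isStd_Lstd hm w hw1 c _) hrel
  intro c hc
  have h1 := hind (Lf c) (Finset.mem_image_of_mem _ hc)
  rw [hcL c hc] at h1
  exact (mul_eq_zero.mp h1).resolve_right (hεc0 c)

theorem eq_iota_of_cntI (hm : 0 < m) (θ : Idx n (n + m)) (h : cntI θ n = n) :
    θ = Groth.Agent.S11270.iota (by omega : n < n + m) := by
  have hall : ∀ k : Fin n, (θ.1 k).val < n := by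
    intro k
    unfold cntI cnt at h
    have h1 : (Finset.univ.filter fun j : Fin n => (θ.1 j).val < n).card =
        (Finset.univ : Finset (Fin n)).card := by
      rw [h]; simp
    exact Finset.card_filter_eq_iff.mp h1 k (Finset.mem_univ k)
  apply Subtype.ext
  funext k
  apply Fin.ext
  show (θ.1 k).val = k.val
  have h1 := le_strictMono_fin θ.1 θ.2 k.val k.isLt
  have h2 := strictMono_growth θ.1 θ.2 (n - 1 - k.val) k.val (by have := k.isLt; omega)
  have h3 := hall ⟨k.val + (n - 1 - k.val), by have := k.isLt; omega⟩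
  simp only [Fin.eta] at h1 h2
  omega

theorem prod_map_filter {α : Type*} {R : Type*} [CommMonoid R] (f : α → R) (p : α → Prop)
    [DecidablePred p] (hf : ∀ x, ¬ p x → f x = 1) (L : List α) :
    (L.map f).prod = ((L.filter p).map f).prod := by
  induction L with
  | nil => simp
  | cons a L ih =>
    by_cases ha : p a
    · rw [List.filter_cons_of_pos (by simpa using ha), List.map_cons, List.map_cons, List.prod_cons,
        List.prod_cons, ih]
    · rw [List.filter_cons_of_neg (by simpa using ha), List.map_cons, List.prod_cons, hf a ha,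
        one_mul, ih]

theorem δ_plIdeal' [Infinite K] (w : Idx n (n + m))
    (hw2 : Ideal.span {f | ∃ θ : Idx n (n + m), ¬ θ ≤ w ∧ f = cellMinor K n m θ} =
      CAlgX.minorIdeal (genMatrix K m n) t) (p : PlRing K n (n + m)) (hp : p ∈ plIdeal K w) :
    δ K n m p ∈ CAlgX.minorIdeal (genMatrix K m n) t := by
  have h : plIdeal K w ≤ Ideal.comap (δ K n m).toRingHom (CAlgX.minorIdeal (genMatrix K m n) t) := by
    unfold plIdeal
    rw [Ideal.span_le]
    rintro f hf
    rw [SetLike.mem_coe, Ideal.mem_comap]
    show δ K n m f ∈ _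
    rcases hf with ⟨i, j, k, _, rfl⟩ | ⟨θ, hθ, rfl⟩
    · rw [δ_shuffleRel]
      exact Ideal.zero_mem _
    · rw [δ_X, ← hw2]
      exact Ideal.subset_span ⟨θ, hθ, rfl⟩
  exact h hp

/-- the class of the dehomogenized, flipped standard monomial of a standard list is a multiple of
a standard bitableau -/
theorem std_mem_span (hm : 0 < m) (w : Idx n (n + m))
    (hw1 : ∀ M : MinorIdx m n, Theta M ≤ w ↔ M.1 + 1 ≤ t - 1)
    (L : List (Idx n (n + m))) (hL : IsStd w L) :
    Ideal.Quotient.mk (CAlgX.minorIdeal (genMatrix K m n) t) (flipR K m n (δ K n m (listMon K L))) ∈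
      Submodule.span K (Set.range fun c : Chains m n t =>
        Ideal.Quotient.mk (CAlgX.minorIdeal (genMatrix K m n) t)
          (Finset.univ.prod fun i => minorOf K (c.2.1 i))) := by
  classical
  set ι₀ := Groth.Agent.S11270.iota (by omega : n < n + m) with hι₀
  set L₁ := (L.filter (fun θ => θ ≠ ι₀)).reverse with hL₁
  have hmem : ∀ θ ∈ L₁, θ ∈ L ∧ θ ≠ ι₀ := by
    intro θ hθ
    rw [hL₁, List.mem_reverse, List.mem_filter] at hθ
    exact ⟨hθ.1, by simpa using hθ.2⟩
  have hex : ∀ i : Fin L₁.length, ∃ M : MinorIdx m n, Theta M = L₁.get i := by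
    intro i
    apply exists_Theta_eq
    have h1 := (hmem _ (List.get_mem L₁ i)).2
    by_contra hcon
    apply h1
    apply eq_iota_of_cntI hm
    have := cnt_le (fun k => ((L₁.get i).1 k).val) n
    unfold cntI at hcon ⊢
    omega
  let c : Fin L₁.length → MinorIdx m n := fun i => Classical.choose (hex i)
  have hc : ∀ i, Theta (c i) = L₁.get i := fun i => Classical.choose_spec (hex i)
  have hpw : L₁.Pairwise (fun x y => x ≤ y) := by
    rw [hL₁, List.pairwise_reverse]
    exact hL.1.sublist List.filter_sublist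
  have hchain : (∀ i, (c i).1 + 1 ≤ t - 1) ∧ ∀ i j, i < j → MinorGE (c i) (c j) := by
    constructor
    · intro i
      rw [← hw1, hc]
      exact hL.2 _ (hmem _ (List.get_mem L₁ i)).1
    · intro i j hij
      rw [← Theta_le_iff, hc, hc]
      exact List.pairwise_iff_get.mp hpw i j hij
  have hprod : flipR K m n (δ K n m (listMon K L)) =
      C (Finset.univ.prod fun i => eps K m n (c i)) * Finset.univ.prod fun i => minorOf K (c i) := by
    rw [δ_listMon, prod_map_filter (cellMinor K n m) (fun θ => θ ≠ ι₀) (by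
      intro x hx
      push Not at hx
      rw [hx]
      exact cellMinor_iota K n m hm) L]
    have h1 : ((L.filter (fun θ => θ ≠ ι₀)).map (cellMinor K n m)).prod =
        (L₁.map (cellMinor K n m)).prod := by
      rw [hL₁]
      exact ((List.reverse_perm _).map _).prod_eq.symm
    have h2 : (L₁.map (cellMinor K n m)).prod =
        Finset.univ.prod fun i : Fin L₁.length => cellMinor K n m (L₁.get i) := by
      rw [← List.prod_ofFn]
      congr 1
      exact (List.ofFn_get (L₁.map _)).symm.trans (by
        rw [List.ofFn_congr (List.length_map _)]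
        simp)
    rw [h1, h2, map_prod, map_prod, ← Finset.prod_mul_distrib]
    apply Finset.prod_congr rfl
    intro i _
    rw [← hc i, cellMinor_Theta, map_mul, flipR_flipR]
    congr 1
    rw [← MvPolynomial.algebraMap_eq, AlgHom.commutes]
  rw [hprod, ← MvPolynomial.smul_eq_C_mul]
  have : Ideal.Quotient.mk (CAlgX.minorIdeal (genMatrix K m n) t)
      ((Finset.univ.prod fun i => eps K m n (c i)) • Finset.univ.prod fun i => minorOf K (c i)) =
      (Finset.univ.prod fun i => eps K m n (c i)) •
        Ideal.Quotient.mk (CAlgX.minorIdeal (genMatrix K m n) t)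
          (Finset.univ.prod fun i => minorOf K (c i)) :=
    map_smul (Ideal.Quotient.mkₐ K _) _ _
  rw [this]
  apply Submodule.smul_mem
  apply Submodule.subset_span
  exact ⟨⟨L₁.length, c, hchain⟩, rfl⟩

theorem span_main [IsAlgClosed K] (hm : 0 < m) (w : Idx n (n + m))
    (hw1 : ∀ M : MinorIdx m n, Theta M ≤ w ↔ M.1 + 1 ≤ t - 1)
    (hw2 : Ideal.span {f | ∃ θ : Idx n (n + m), ¬ θ ≤ w ∧ f = cellMinor K n m θ} =
      CAlgX.minorIdeal (genMatrix K m n) t) :
    Submodule.span K (Set.range fun c : Chains m n t =>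
      Ideal.Quotient.mk (CAlgX.minorIdeal (genMatrix K m n) t)
        (Finset.univ.prod fun i => minorOf K (c.2.1 i))) = ⊤ := by
  classical
  haveI : Infinite K := IsAlgClosed.instInfinite
  rw [eq_top_iff]
  rintro x -
  obtain ⟨F, rfl⟩ := Ideal.Quotient.mk_surjective x
  obtain ⟨e, P, hP, _⟩ := exists_homog K n m hm (flipR K m n F)
  obtain ⟨q, hq, i, hi, rfl⟩ := Submodule.mem_sup.mp (span_std w P)
  have hi' : i ∈ plIdeal K w := hi
  have h1 : F = flipR K m n (δ K n m q) + flipR K m n (δ K n m i) := by
    rw [← map_add, ← map_add, hP, flipR_flipR]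
  have h2 : Ideal.Quotient.mk (CAlgX.minorIdeal (genMatrix K m n) t) F =
      Ideal.Quotient.mk (CAlgX.minorIdeal (genMatrix K m n) t) (flipR K m n (δ K n m q)) := by
    conv_lhs => rw [h1]
    rw [map_add, Ideal.Quotient.eq_zero_iff_mem.mpr
      (flipR_mem K m n t _ (δ_plIdeal' K w hw2 i hi')), add_zero]
  rw [h2]
  let T : PlRing K n (n + m) →ₗ[K]
      (MvPolynomial (Fin m × Fin n) K ⧸ CAlgX.minorIdeal (genMatrix K m n) t) :=
    (Ideal.Quotient.mkₐ K (CAlgX.minorIdeal (genMatrix K m n) t)).toLinearMap ∘ₗ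
      (flipR K m n).toLinearMap ∘ₗ (δ K n m).toLinearMap
  have hT : Sstd K w ≤ (Submodule.span K (Set.range fun c : Chains m n t =>
      Ideal.Quotient.mk (CAlgX.minorIdeal (genMatrix K m n) t)
        (Finset.univ.prod fun i => minorOf K (c.2.1 i)))).comap T := by
    unfold Sstd
    rw [Submodule.span_le]
    rintro _ ⟨L, hL, rfl⟩
    exact std_mem_span K hm w hw1 L hL
  exact hT hq

theorem minorIdeal_eq_bot (h : m < t ∨ n < t) : CAlgX.minorIdeal (genMatrix K m n) t = ⊥ := by
  unfold CAlgX.minorIdeal
  rw [Ideal.span_eq_bot]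
  rintro _ ⟨⟨f, g⟩, rfl⟩
  rcases h with h | h
  · obtain ⟨a, b, hab, hfab⟩ := Fintype.exists_ne_map_eq_of_card_lt f (by simpa using h)
    apply Matrix.det_zero_of_row_eq hab
    ext j
    simp [Matrix.submatrix_apply, hfab]
  · obtain ⟨a, b, hab, hfab⟩ := Fintype.exists_ne_map_eq_of_card_lt g (by simpa using h)
    apply Matrix.det_zero_of_column_eq hab
    intro i
    simp [Matrix.submatrix_apply, hfab]

/-- existence of the Schubert index attached to `t` -/
theorem exists_w (hm : 0 < m) (hn : 0 < n) (ht : 1 ≤ t) :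
    ∃ w : Idx n (n + m), (∀ M : MinorIdx m n, Theta M ≤ w ↔ M.1 + 1 ≤ t - 1) ∧
      Ideal.span {f | ∃ θ : Idx n (n + m), ¬ θ ≤ w ∧ f = cellMinor K n m θ} =
        CAlgX.minorIdeal (genMatrix K m n) t := by
  by_cases hcase : t ≤ n ∧ t ≤ m
  · obtain ⟨htn, htm⟩ := hcase
    refine ⟨wIdx n m t ht htn htm, ?_, ?_⟩
    · intro M
      rw [le_wIdx_iff n m t hn ht htn htm]
      have h1 := lt_iff_cnt (fun k => ((Theta M).1 k).val) (fun _ _ h => (Theta M).2 h) (n - t)
        (Nat.sub_lt hn ht) n
      have h2 := cntI_Theta_n M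
      unfold cntI at h2
      rw [h1]
      have := size_le_cols M
      omega
    · rw [← Groth.Agent.S11275.main K n m t hn ht htn htm]
      congr 1
      ext f
      simp only [Set.mem_ofPred_eq]
      constructor
      · rintro ⟨θ, hθ, rfl⟩
        refine ⟨θ, ?_, rfl⟩
        rw [le_wIdx_iff n m t hn ht htn htm] at hθ
        omega
      · rintro ⟨θ, hθ, rfl⟩
        refine ⟨θ, ?_, rfl⟩
        rw [le_wIdx_iff n m t hn ht htn htm]
        omega
  · have hlt : m < t ∨ n < t := by
      by_contra hcon
      push Not at hcon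
      exact hcase ⟨hcon.2, hcon.1⟩
    refine ⟨Groth.Agent.S11261.top (by omega : n < n + m), ?_, ?_⟩
    · intro M
      have h1 := size_le_cols M
      have h2 := size_le_rows M
      constructor
      · intro _
        have : min m n ≤ t - 1 := by omega
        have : M.1 + 1 ≤ min m n := le_min h2 h1
        omega
      · intro _
        exact Groth.Agent.S11261.le_top _ _
    · rw [minorIdeal_eq_bot K hlt, Ideal.span_eq_bot]
      rintro _ ⟨θ, hθ, rfl⟩
      exact absurd (Groth.Agent.S11261.le_top _ θ) hθ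

theorem main (K : Type u) [Field K] [IsAlgClosed K]
    (m n t : ℕ) (hm : 0 < m) (hn : 0 < n) (ht : 1 ≤ t) (htmn : t ≤ min m n + 1) :
    LinearIndependent K (fun c : (Σ k : ℕ, {c : Fin k → MinorIdx m n //
        (∀ i, (c i).1 + 1 ≤ t - 1) ∧ ∀ i j, i < j → MinorGE (c i) (c j)}) =>
        Ideal.Quotient.mk (CAlgX.minorIdeal (genMatrix K m n) t)
          (Finset.univ.prod fun i => minorOf K (c.2.1 i))) ∧
      Submodule.span K (Set.range fun c : (Σ k : ℕ, {c : Fin k → MinorIdx m n //
        (∀ i, (c i).1 + 1 ≤ t - 1) ∧ ∀ i j, i < j → MinorGE (c i) (c j)}) =>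
        Ideal.Quotient.mk (CAlgX.minorIdeal (genMatrix K m n) t)
          (Finset.univ.prod fun i => minorOf K (c.2.1 i))) = ⊤ := by
  obtain ⟨w, hw1, hw2⟩ := exists_w K hm hn ht
  exact ⟨indep_main K hm hn w hw1 hw2, span_main K hm w hw1 hw2⟩

end

open W4bk4grassmannian in
/-- Standard monomial basis of a determinantal ring in bitableaux, which at the zero determinantal ideal
is the straightening basis of the polynomial ring: let K be an algebraically closed field, m, n ≥ 1,
1 ≤ t ≤ min(m, n) + 1, R = K[x_{ij}] the coordinate ring of m × n matrices, I_t the ideal of t × t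
minors of the generic matrix. Order the minors of positive size by [A | B] ⪰ [A' | B'] when the size
of [A | B] is at most that of [A' | B'] and a_j ≥ a'_j, b_j ≥ b'_j for every j below the size of [A
| B] (row and column indices listed increasingly). Then the classes in R/I_t of the products [A_1 |
B_1] ⋯ [A_k | B_k] (k ≥ 0) of minors of size at most t - 1 with [A_1 | B_1] ⪰ [A_2 | B_2] ⪰ ⋯ ⪰ [A_k
| B_k] are linearly independent over K and span R/I_t. -/
theorem result (K : Type u) [Field K] [IsAlgClosed K]
    (m n t : ℕ) (hm : 0 < m) (hn : 0 < n) (ht : 1 ≤ t) (htmn : t ≤ min m n + 1) :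
    LinearIndependent K (fun c : (Σ k : ℕ, {c : Fin k → MinorIdx m n //
        (∀ i, (c i).1 + 1 ≤ t - 1) ∧ ∀ i j, i < j → MinorGE (c i) (c j)}) =>
        Ideal.Quotient.mk (CAlgX.minorIdeal (genMatrix K m n) t)
          (Finset.univ.prod fun i => minorOf K (c.2.1 i))) ∧
      Submodule.span K (Set.range fun c : (Σ k : ℕ, {c : Fin k → MinorIdx m n //
        (∀ i, (c i).1 + 1 ≤ t - 1) ∧ ∀ i j, i < j → MinorGE (c i) (c j)}) =>
        Ideal.Quotient.mk (CAlgX.minorIdeal (genMatrix K m n) t)
          (Finset.univ.prod fun i => minorOf K (c.2.1 i))) = ⊤ := by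
  exact Groth.Agent.S11265.main K m n t hm hn ht htmn

end Groth.Agent.S11265
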