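import Groth.Statements.S10870
import Mathlib
import Groth.Prelude.Def_W4bk4grassmannianPl
import Groth.Agent.S11265
import Groth.Agent.S11255
import Groth.Agent.S11260
import Groth.Agent.Lib.Helper7.IntDim
-- import your own Groth.Agent.* helpers here

set_option autoImplicit false
universe u
open CAlgX

namespace Groth.Agent.S10870

section
open W4bk4grassmannian MvPolynomial Groth.Agent.S11267 Groth.Agent.Lib.Helper2.SMT Groth.Agent.S11251

variable (K : Type u) [Field K] (d r : ℕ)

/-- vanishing ideal of the cell points of the Schubert variety `X(θ)` -/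
noncomputable def Q (θ : Idx d (d + r)) : Ideal (CellRing K d r) :=
  ⨅ (z : Fin r × Fin d → K)
    (_ : ∀ φ : Idx d (d + r), ¬ φ ≤ θ → MvPolynomial.eval z (cellMinor K d r φ) = 0),
    RingHom.ker (MvPolynomial.eval z)

variable {K d r}

theorem mem_Q (θ : Idx d (d + r)) (F : CellRing K d r) :
    F ∈ Q K d r θ ↔ ∀ z : Fin r × Fin d → K,
      (∀ φ : Idx d (d + r), ¬ φ ≤ θ → MvPolynomial.eval z (cellMinor K d r φ) = 0) →
        MvPolynomial.eval z F = 0 := by
  unfold Q
  simp only [Ideal.mem_iInf, RingHom.mem_ker]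

theorem Q_anti {θ φ : Idx d (d + r)} (h : φ ≤ θ) : Q K d r θ ≤ Q K d r φ := by
  intro F hF
  rw [mem_Q] at hF ⊢
  intro z hz
  exact hF z (fun ψ hψ => hz ψ (fun hc => hψ (hc.trans h)))

theorem cellMinor_mem_Q {θ φ : Idx d (d + r)} (h : ¬ θ ≤ φ) : cellMinor K d r θ ∈ Q K d r φ := by
  rw [mem_Q]
  intro z hz
  exact hz θ h

theorem one_not_mem_Q (hr : 0 < r) (θ : Idx d (d + r)) : (1 : CellRing K d r) ∉ Q K d r θ := by
  classical
  intro h
  rw [mem_Q] at h
  have := h (fun _ => 0) (by
    intro φ hφ
    have hne : φ ≠ Groth.Agent.S11270.iota (by omega : d < d + r) := by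
      rintro rfl
      exact hφ (Groth.Agent.S11270.iota_le _ θ)
    have hex : ∃ k : Fin d, d ≤ (φ.1 k).val := by
      by_contra hcon
      push Not at hcon
      apply hne
      apply Groth.Agent.S11265.eq_iota_of_cntI hr
      unfold Groth.Agent.Lib.Helper2.Bitab.cntI
      apply Groth.Agent.Lib.Helper2.Bitab.cnt_eq_of_forall_lt
      exact hcon
    obtain ⟨k, hk⟩ := hex
    unfold cellMinor
    rw [RingHom.map_det]
    apply Matrix.det_eq_zero_of_row_eq_zero k
    intro j
    simp only [RingHom.mapMatrix_apply, Matrix.map_apply, Matrix.submatrix_apply, id]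
    have hlt := (φ.1 k).isLt
    have : φ.1 k = Fin.natAdd d ⟨(φ.1 k).val - d, by omega⟩ := by
      apply Fin.ext
      simp only [Fin.val_natAdd]
      omega
    rw [this, Groth.Agent.S11275.cellMatrix_natAdd, eval_X])
  simp at this

theorem nzd_Q [IsAlgClosed K] (hd : 0 < d) (hr : 0 < r) (θ : Idx d (d + r)) (F : CellRing K d r)
    (hF : F * cellMinor K d r θ ∈ Q K d r θ) : F ∈ Q K d r θ := by
  classical
  haveI : Infinite K := IsAlgClosed.instInfinite
  set ι₀ := Groth.Agent.S11270.iota (by omega : d < d + r) with hι₀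
  obtain ⟨e, P, hP, hs⟩ := exists_homog K d r hr F
  have hmem := Groth.Agent.S11266.mem_schubertVanishing_of_cell K d r hr θ (e + 1) (P * X θ)
    (by
      intro M g
      rw [map_mul, map_mul, hs, evalMinors_mul_X]
      ring)
    (by
      intro z hz
      rw [map_mul, hP, δ_X]
      rw [mem_Q] at hF
      exact hF z hz)
  have hprime := Groth.Agent.S11260.sv_isPrime (K := K) hd θ
  have h1 : X ι₀ * (P * X θ) = (X ι₀ * P) * X θ := by ring
  rw [h1] at hmem
  have h2 : X ι₀ * P ∈ schubertVanishing K d (d + r) θ :=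
    (hprime.mem_or_mem hmem).resolve_right (Groth.Agent.S11260.X_not_mem θ)
  rw [mem_Q]
  intro z hz
  unfold schubertVanishing at h2
  rw [Ideal.mem_iInf] at h2
  have h3 := h2 (cellAt K d r z)
  rw [Ideal.mem_iInf] at h3
  have h4 := h3 (by
    intro φ hφ
    have := eval_δ K d r z (X φ)
    rw [δ_X, hz φ hφ] at this
    unfold evalMinors at this
    rw [aeval_X] at this
    exact this.symm)
  rw [RingHom.mem_ker] at h4
  have h5 : evalMinors K d (d + r) (cellAt K d r z) (X ι₀ * P) = 0 := h4
  rw [← eval_δ, map_mul, δ_X, cellMinor_iota K d r hr, one_mul, hP] at h5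
  exact h5

theorem lower_Q [IsAlgClosed K] (hd : 0 < d) (hr : 0 < r) (N : ℕ) :
    ∀ θ : Idx d (d + r), codeg θ = N →
      ((N : ℕ) : WithBot ℕ∞) ≤ ringKrullDim (CellRing K d r ⧸ Q K d r θ) := by
  classical
  induction N using Nat.strong_induction_on with
  | _ N ih =>
  intro θ hθ
  haveI hnt : Nontrivial (CellRing K d r ⧸ Q K d r θ) := by
    rw [Ideal.Quotient.nontrivial_iff]
    intro h
    exact one_not_mem_Q hr θ (by rw [h]; trivial)
  by_cases hmin : ∃ φ : Idx d (d + r), φ < θ
  · obtain ⟨x, hx⟩ := hmin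
    obtain ⟨φ, hφ, _⟩ := Groth.Agent.S11254.exists_divisor_ge x θ hx
    have h1 : codeg φ + 1 = codeg θ := hφ.2
    have h2 := ih (codeg φ) (by omega) φ rfl
    have hle : Q K d r θ ≤ Q K d r φ := Q_anti hφ.1.le
    have hnzd : Ideal.Quotient.mk (Q K d r θ) (cellMinor K d r θ) ∈
        nonZeroDivisors (CellRing K d r ⧸ Q K d r θ) := by
      rw [mem_nonZeroDivisors_iff_right]
      intro y hy
      obtain ⟨F, rfl⟩ := Ideal.Quotient.mk_surjective y
      rw [← map_mul, Ideal.Quotient.eq_zero_iff_mem] at hy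
      rw [Ideal.Quotient.eq_zero_iff_mem]
      exact nzd_Q hd hr θ F hy
    have h3 := ringKrullDim_succ_le_of_surjective (Ideal.Quotient.factor hle)
      (Ideal.Quotient.factor_surjective hle) hnzd (by
        rw [Ideal.Quotient.factor_mk, Ideal.Quotient.eq_zero_iff_mem]
        exact cellMinor_mem_Q (not_le_of_gt hφ.1))
    refine le_trans ?_ h3
    have : ((N : ℕ) : WithBot ℕ∞) = ((codeg φ : ℕ) : WithBot ℕ∞) + 1 := by
      have : N = codeg φ + 1 := by omega
      rw [this]; push_cast; rfl
    rw [this]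
    exact add_le_add_left h2 1
  · have h0 : N = 0 := by
      rw [← hθ]
      exact Groth.Agent.S11255.min_eq_iota (by omega : d < d + r) θ hmin
    rw [h0]
    exact ringKrullDim_nonneg_of_nontrivial

theorem codeg_wIdx (t : ℕ) (ht : 0 < t) (htd : t ≤ d) (htr : t ≤ r) :
    codeg (wIdx d r t ht htd htr) = (t - 1) * (d + r - t + 1) := by
  classical
  unfold codeg wIdx
  simp only
  have h1 : ∀ k : Fin d, ((if k.val ≤ d - t then (⟨t - 1 + k.val, by have := k.isLt; omega⟩ : Fin (d + r))
      else ⟨r + k.val, by have := k.isLt; omega⟩ : Fin (d + r)).val - k.val) =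
      if k.val < d - t + 1 then t - 1 else r := by
    intro k
    split_ifs with h1 h2 h2
    · simp only; omega
    · omega
    · omega
    · simp only; omega
  rw [Finset.sum_congr rfl (fun k _ => h1 k), Finset.sum_ite, Finset.sum_const, Finset.sum_const,
    smul_eq_mul, smul_eq_mul]
  have h2 : (Finset.univ.filter fun k : Fin d => k.val < d - t + 1).card = d - t + 1 := by
    rw [Fin.card_filter_val_lt]
    omega
  have h3 := Finset.card_filter_add_card_filter_not
    (s := (Finset.univ : Finset (Fin d))) (fun k : Fin d => k.val < d - t + 1)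
  simp only [Finset.card_univ, Fintype.card_fin] at h3
  rw [h2] at h3 ⊢
  have h4 : (Finset.univ.filter fun k : Fin d => ¬ k.val < d - t + 1).card = t - 1 := by omega
  rw [h4]
  obtain ⟨t', rfl⟩ : ∃ t', t = t' + 1 := ⟨t - 1, by omega⟩
  obtain ⟨d', rfl⟩ : ∃ d', d = t' + 1 + d' := ⟨d - (t' + 1), by omega⟩
  simp only [Nat.add_sub_cancel]
  have e1 : t' + 1 + d' - (t' + 1) + 1 = d' + 1 := by omega
  have e2 : t' + 1 + d' + r - (t' + 1) + 1 = d' + r + 1 := by omega
  rw [e1, e2]
  ring

theorem withBot_cancel (a : WithBot ℕ∞) (c : ℕ) (h : a + 1 ≤ (c : WithBot ℕ∞) + 1) :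
    a ≤ (c : WithBot ℕ∞) := by
  induction a using WithBot.recBotCoe with
  | bot => exact bot_le
  | coe a =>
    induction a using ENat.recTopCoe with
    | top =>
      exfalso
      have h2 : ((⊤ : ℕ∞) : WithBot ℕ∞) + 1 = ((⊤ : ℕ∞) : WithBot ℕ∞) := by
        rw [← WithBot.coe_one, ← WithBot.coe_add]; simp
      rw [h2] at h
      have h3 : ((c : ℕ) : WithBot ℕ∞) + 1 = (((c + 1 : ℕ) : ℕ∞) : WithBot ℕ∞) := by
        push_cast; rfl
      rw [h3, WithBot.coe_le_coe] at h
      simp at h
    | coe n =>
      have h3 : ((c : ℕ) : WithBot ℕ∞) + 1 = (((c + 1 : ℕ) : ℕ∞) : WithBot ℕ∞) := by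
        push_cast; rfl
      have h4 : (((n : ℕ∞)) : WithBot ℕ∞) + 1 = (((n + 1 : ℕ) : ℕ∞) : WithBot ℕ∞) := by
        push_cast; rfl
      rw [h3, h4, WithBot.coe_le_coe, Nat.cast_le] at h
      have : n ≤ c := by omega
      exact_mod_cast this

theorem dim_closed [IsAlgClosed K] (t : ℕ) (ht : 0 < t) (htd : t ≤ d) (htr : t ≤ r) :
    ringKrullDim (CellRing K d r ⧸ CAlgX.minorIdeal (genMatrix K r d) t) =
      (((t - 1) * (d + r - t + 1) : ℕ) : WithBot ℕ∞) := by
  classical
  haveI : Infinite K := IsAlgClosed.instInfinite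
  have hd : 0 < d := by omega
  have hr : 0 < r := by omega
  set w := wIdx d r t ht htd htr with hw
  set I := CAlgX.minorIdeal (genMatrix K r d) t with hI
  set ι₀ := Groth.Agent.S11270.iota (by omega : d < d + r) with hι₀
  rw [← codeg_wIdx t ht htd htr]
  have hIspan := Groth.Agent.S11275.main K d r t hd ht htd htr
  apply le_antisymm
  · -- upper bound
    haveI hdom : IsDomain (PlRing K d (d + r) ⧸ schubertVanishing K d (d + r) w) :=
      Groth.Agent.Lib.Helper2.SchubertCell.isDomain_A hd w
    let f : (PlRing K d (d + r) ⧸ schubertVanishing K d (d + r) w) →+* (CellRing K d r ⧸ I) :=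
      Ideal.Quotient.lift (schubertVanishing K d (d + r) w)
        ((Ideal.Quotient.mk I).comp (δ K d r).toRingHom) (by
          intro p hp
          rw [← Groth.Agent.S11250.main K d (d + r) hd (by omega) w] at hp
          rw [RingHom.comp_apply, Ideal.Quotient.eq_zero_iff_mem]
          exact δ_plIdeal K d r t hd ht htd htr (Ideal.mem_map_of_mem _ hp))
    have hf : Function.Surjective f := by
      intro y
      obtain ⟨F, rfl⟩ := Ideal.Quotient.mk_surjective y
      obtain ⟨e, P, hP, _⟩ := exists_homog K d r hr F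
      refine ⟨Ideal.Quotient.mk _ P, ?_⟩
      show Ideal.Quotient.mk I (δ K d r P) = _
      rw [hP]
    have hx : Ideal.Quotient.mk (schubertVanishing K d (d + r) w) (X ι₀ - 1) ∈
        nonZeroDivisors (PlRing K d (d + r) ⧸ schubertVanishing K d (d + r) w) := by
      apply mem_nonZeroDivisors_of_ne_zero
      rw [Ne, Ideal.Quotient.eq_zero_iff_mem]
      intro hmem
      unfold schubertVanishing at hmem
      rw [Ideal.mem_iInf] at hmem
      have h1 := hmem 0
      rw [Ideal.mem_iInf] at h1
      have hz : ∀ φ : Idx d (d + r), ((0 : Matrix (Fin (d + r)) (Fin d) K).submatrix φ.1 id).det = 0 := by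
        intro φ
        haveI : Nonempty (Fin d) := ⟨⟨0, hd⟩⟩
        have : (0 : Matrix (Fin (d + r)) (Fin d) K).submatrix φ.1 id = 0 := by
          ext a b; rfl
        rw [this, Matrix.det_zero]
      have h2 := h1 (fun φ _ => hz φ)
      rw [RingHom.mem_ker] at h2
      have h3 : evalMinors K d (d + r) 0 (X ι₀ - 1) = 0 := h2
      unfold evalMinors at h3
      rw [map_sub, aeval_X, map_one, hz ι₀] at h3
      simp at h3
    have hfx : f (Ideal.Quotient.mk (schubertVanishing K d (d + r) w) (X ι₀ - 1)) = 0 := by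
      show Ideal.Quotient.mk I (δ K d r (X ι₀ - 1)) = 0
      rw [map_sub, δ_X, cellMinor_iota K d r hr, map_one, sub_self, map_zero]
    have h1 := ringKrullDim_succ_le_of_surjective f hf hx hfx
    rw [Groth.Agent.S11255.main K d (d + r) hd (by omega) w] at h1
    have h2 : ((codeg w + 1 : ℕ) : WithBot ℕ∞) = ((codeg w : ℕ) : WithBot ℕ∞) + 1 := by
      push_cast; rfl
    rw [h2] at h1
    exact withBot_cancel _ _ h1
  · -- lower bound
    have hle : I ≤ Q K d r w := by
      rw [hI, ← hIspan, Ideal.span_le]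
      rintro _ ⟨θ, hθ, rfl⟩
      apply cellMinor_mem_Q
      rw [hw, le_wIdx_iff d r t hd ht htd htr]
      omega
    refine le_trans (lower_Q (K := K) hd hr (codeg w) w rfl) ?_
    exact ringKrullDim_le_of_surjective (Ideal.Quotient.factor hle)
      (Ideal.Quotient.factor_surjective hle)

end

section BaseChange
open MvPolynomial W4bk4grassmannian

attribute [local instance] MvPolynomial.algebraMvPolynomial

variable (k : Type u) [Field k] (K : Type u) [Field K] [Algebra k K] (σ : Type)

theorem faithfullyFlat_mvPolynomial :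
    Module.FaithfullyFlat (MvPolynomial σ k) (MvPolynomial σ K) := by
  have e := Algebra.IsPushout.equiv k (MvPolynomial σ k) K (MvPolynomial σ K)
  exact Module.FaithfullyFlat.of_linearEquiv (MvPolynomial σ k)
    (TensorProduct k (MvPolynomial σ k) K) e.symm.toLinearEquiv

theorem comap_map_eq (I : Ideal (MvPolynomial σ k)) :
    (I.map (MvPolynomial.map (algebraMap k K))).comap (MvPolynomial.map (algebraMap k K)) = I := by
  haveI := faithfullyFlat_mvPolynomial k K σ
  exact Ideal.comap_map_eq_self_of_faithfullyFlat (B := MvPolynomial σ K) I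

theorem minorIdeal_map (n m t : ℕ) :
    (CAlgX.minorIdeal (genMatrix k n m) t).map (MvPolynomial.map (algebraMap k K)) =
      CAlgX.minorIdeal (genMatrix K n m) t := by
  unfold CAlgX.minorIdeal
  rw [Ideal.map_span]
  have hdet : ∀ fg : (Fin t → Fin n) × (Fin t → Fin m),
      MvPolynomial.map (algebraMap k K) ((genMatrix k n m).submatrix fg.1 fg.2).det =
        ((genMatrix K n m).submatrix fg.1 fg.2).det := by
    intro fg
    rw [RingHom.map_det]
    congr 1
    refine Matrix.ext fun a b => ?_
    simp only [RingHom.mapMatrix_apply, Matrix.map_apply, Matrix.submatrix_apply, genMatrix,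
      Matrix.of_apply, map_X]
  congr 1
  ext y
  constructor
  · rintro ⟨_, ⟨fg, rfl⟩, rfl⟩
    exact ⟨fg, (hdet fg).symm⟩
  · rintro ⟨fg, rfl⟩
    exact ⟨_, ⟨fg, rfl⟩, hdet fg⟩

theorem dim_baseChange [Algebra.IsIntegral k K] (n m t : ℕ) :
    ringKrullDim (MvPolynomial (Fin n × Fin m) k ⧸ CAlgX.minorIdeal (genMatrix k n m) t) =
      ringKrullDim (MvPolynomial (Fin n × Fin m) K ⧸ CAlgX.minorIdeal (genMatrix K n m) t) := by
  set J : Ideal (MvPolynomial (Fin n × Fin m) k) :=
    (CAlgX.minorIdeal (genMatrix K n m) t).comap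
      (algebraMap (MvPolynomial (Fin n × Fin m) k) (MvPolynomial (Fin n × Fin m) K)) with hJ
  have hJeq : J = CAlgX.minorIdeal (genMatrix k n m) t := by
    rw [hJ, ← minorIdeal_map k K n m t]
    exact comap_map_eq k K (Fin n × Fin m) _
  rw [← hJeq]
  exact (Groth.Agent.Helper7.IntDim.ringKrullDim_eq_of_isIntegral_of_injective
    (A := MvPolynomial (Fin n × Fin m) k ⧸ J)
    (B := MvPolynomial (Fin n × Fin m) K ⧸ CAlgX.minorIdeal (genMatrix K n m) t)
    Ideal.algebraMap_quotient_injective).symm

end BaseChange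

theorem main (k : Type u) [Field k] (n m r : ℕ) (hr : r ≤ min n m) :
    ringKrullDim (MvPolynomial (Fin n × Fin m) k ⧸ CAlgX.minorIdeal (Matrix.of fun (i : Fin n) (j : Fin m) => (MvPolynomial.X (i, j) : MvPolynomial (Fin n × Fin m) k)) (r + 1)) =
      ((r * (m + n - r) : ℕ) : WithBot ℕ∞) := by
  have hgen : (Matrix.of fun (i : Fin n) (j : Fin m) =>
      (MvPolynomial.X (i, j) : MvPolynomial (Fin n × Fin m) k)) = W4bk4grassmannian.genMatrix k n m := rfl
  rw [hgen]
  by_cases hcase : r + 1 ≤ m ∧ r + 1 ≤ n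
  · rw [dim_baseChange k (AlgebraicClosure k) n m (r + 1)]
    have := dim_closed (K := AlgebraicClosure k) (d := m) (r := n) (r + 1) (Nat.succ_pos r)
      hcase.1 hcase.2
    rw [this]
    simp only [Nat.add_sub_cancel]
    congr 2
    omega
  · have hlt : n < r + 1 ∨ m < r + 1 := by
      by_contra hcon
      push Not at hcon
      exact hcase ⟨hcon.2, hcon.1⟩
    rw [Groth.Agent.S11265.minorIdeal_eq_bot k hlt,
      ringKrullDim_eq_of_ringEquiv (RingEquiv.quotientBot _),
      MvPolynomial.ringKrullDim_of_isNoetherianRing, ringKrullDim_eq_zero_of_field, zero_add,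
      Nat.card_eq_fintype_card, Fintype.card_prod, Fintype.card_fin, Fintype.card_fin]
    have hr1 := le_min_iff.mp hr
    have : n * m = r * (m + n - r) := by
      rcases hlt with h | h
      · have : r = n := by omega
        subst this
        have : m + r - r = m := by omega
        rw [this]
      · have : r = m := by omega
        subst this
        have : r + n - r = n := by omega
        rw [this, Nat.mul_comm]
    rw [this]

/-- For a field k and 0 ≤ r ≤ min(n, m), the affine determinantal scheme of n × m matrices of rank at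
most r over k — the spectrum of the polynomial ring on the entries of the generic n × m matrix
modulo the ideal of its (r+1) × (r+1) minors — has dimension r(m + n − r). -/
theorem result (k : Type u) [Field k] (n m r : ℕ) (hr : r ≤ min n m) :
    ringKrullDim (MvPolynomial (Fin n × Fin m) k ⧸ CAlgX.minorIdeal (Matrix.of fun (i : Fin n) (j : Fin m) => (MvPolynomial.X (i, j) : MvPolynomial (Fin n × Fin m) k)) (r + 1)) =
      ((r * (m + n - r) : ℕ) : WithBot ℕ∞) := by
  exact Groth.Agent.S10870.main k n m r hr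

end Groth.Agent.S10870
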