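import Groth.Statements.S10871
import Mathlib.AlgebraicGeometry.Morphisms.Affine
import Mathlib.RingTheory.Ideal.MinimalPrime.Noetherian
-- import your own Groth.Agent.* helpers here

set_option autoImplicit false
universe u
open AlgebraicGeometry
open Curves

namespace Groth.Agent.S10871

section
open CategoryTheory AlgebraicGeometry TopologicalSpace

/-- In a Dedekind domain only finitely many primes contain a given nonzero element. -/
theorem finite_zeroLocus (A : Type u) [CommRing A] [IsDedekindDomain A] (a : A) (ha : a ≠ 0) :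
    {q : PrimeSpectrum A | a ∈ q.asIdeal}.Finite := by
  have hfin : (Ideal.span {a} : Ideal A).minimalPrimes.Finite :=
    Ideal.finite_minimalPrimes_of_isNoetherianRing A _
  refine (hfin.preimage (f := fun P : PrimeSpectrum A => P.asIdeal) ?_).subset ?_
  · intro p _ q _ h
    exact PrimeSpectrum.ext h
  · intro q hq
    have hle : Ideal.span {a} ≤ q.asIdeal := (Ideal.span_singleton_le_iff_mem _).mpr hq
    obtain ⟨q', hq'min, hq'q⟩ := Ideal.exists_minimalPrimes_le hle
    have hq'0 : q' ≠ ⊥ := by
      intro h0
      have : a ∈ q' := hq'min.1.2 (Ideal.mem_span_singleton_self a)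
      rw [h0] at this
      exact ha ((Ideal.mem_bot).mp this)
    have hq'max : q'.IsMaximal := hq'min.1.1.isMaximal hq'0
    have : q' = q.asIdeal := hq'max.eq_of_le q.isPrime.ne_top hq'q
    show q.asIdeal ∈ (Ideal.span {a} : Ideal A).minimalPrimes
    rw [← this]
    exact hq'min

/-- Core: around every point there is a basic open `D(f)` whose intersection with `U` is a basic
open contained in `U`. -/
theorem core (A : Type u) [CommRing A] [IsDedekindDomain A] (U : Opens (PrimeSpectrum A))
    (hU : U ≠ ⊥) (x : PrimeSpectrum A) :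
    ∃ f g : A, x ∈ PrimeSpectrum.basicOpen f ∧ PrimeSpectrum.basicOpen g ≤ U ∧
      U ⊓ PrimeSpectrum.basicOpen f = PrimeSpectrum.basicOpen g := by
  classical
  by_cases hx : x ∈ U
  · obtain ⟨_, ⟨f, rfl⟩, hxf, hfU⟩ :=
      PrimeSpectrum.isTopologicalBasis_basic_opens.exists_subset_of_mem_open hx U.isOpen
    exact ⟨f, f, hxf, hfU, inf_eq_right.mpr hfU⟩
  · -- a nonzero `a` with `D(a) ⊆ U`
    obtain ⟨y, hy⟩ : ∃ y, y ∈ U := by
      by_contra hne
      push Not at hne
      exact hU (Opens.ext (Set.eq_empty_of_forall_notMem hne))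
    obtain ⟨_, ⟨a, rfl⟩, hya, haU⟩ :=
      PrimeSpectrum.isTopologicalBasis_basic_opens.exists_subset_of_mem_open hy U.isOpen
    have ha0 : a ≠ 0 := by
      rintro rfl
      exact hya (Ideal.zero_mem _)
    have hxa : a ∈ x.asIdeal := by
      by_contra h
      exact hx (haU h)
    have hfin := finite_zeroLocus A a ha0
    let T : Finset (PrimeSpectrum A) := hfin.toFinset.erase x
    have hTmax : ∀ q ∈ T, ¬ q.asIdeal ≤ x.asIdeal := by
      intro q hq hle
      have hq' := Finset.mem_erase.mp hq
      have hqa : a ∈ q.asIdeal := hfin.mem_toFinset.mp hq'.2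
      have hq0 : q.asIdeal ≠ ⊥ := by
        intro h0
        rw [h0] at hqa
        exact ha0 ((Ideal.mem_bot).mp hqa)
      have hqmax : q.asIdeal.IsMaximal := q.isPrime.isMaximal hq0
      exact hq'.1 (PrimeSpectrum.ext (hqmax.eq_of_le x.isPrime.ne_top hle))
    have hninf : ¬ T.inf (fun q => q.asIdeal) ≤ x.asIdeal := by
      rw [Ideal.IsPrime.inf_le' x.isPrime]
      rintro ⟨q, hq, hle⟩
      exact hTmax q hq hle
    obtain ⟨f, hfT, hfx⟩ := SetLike.not_le_iff_exists.mp hninf
    have hfT' : ∀ q ∈ T, f ∈ q.asIdeal := by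
      intro q hq
      have : T.inf (fun q => q.asIdeal) ≤ q.asIdeal :=
        Finset.inf_le (f := fun q : PrimeSpectrum A => q.asIdeal) hq
      exact this hfT
    refine ⟨f, f * a, hfx, ?_, ?_⟩
    · intro q hq
      apply haU
      intro haq
      exact hq (Ideal.mul_mem_left _ _ haq)
    · apply Opens.ext
      ext q
      simp only [Opens.coe_inf, Set.mem_inter_iff, SetLike.mem_coe, PrimeSpectrum.mem_basicOpen]
      constructor
      · rintro ⟨hqU, hfq⟩ hfaq
        rcases q.isPrime.mem_or_mem hfaq with h | h
        · exact hfq h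
        · -- q ∈ V(a), q ∈ D(f) ⇒ q = x
          have hqx : q = x := by
            by_contra hne
            have : q ∈ T := Finset.mem_erase.mpr ⟨hne, hfin.mem_toFinset.mpr h⟩
            exact hfq (hfT' q this)
          exact hx (hqx ▸ hqU)
      · intro hfaq
        refine ⟨haU ?_, ?_⟩
        · intro haq
          exact hfaq (Ideal.mul_mem_left _ _ haq)
        · intro hfq
          exact hfaq (Ideal.mul_mem_right _ _ hfq)

theorem main (A : Type u) [CommRing A] [IsDedekindDomain A]
    (U : (Spec (CommRingCat.of A)).Opens) : IsAffineOpen U := by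
  by_cases hU : U = ⊥
  · rw [hU]
    exact isAffineOpen_bot _
  have haff : IsAffineHom U.ι := by
    apply isAffineHom_of_forall_exists_isAffineOpen
    intro x
    obtain ⟨f, g, hxf, hgU, hfg⟩ := core A U hU x
    refine ⟨PrimeSpectrum.basicOpen f, hxf, IsAffineOpen.Spec_basicOpen (R := CommRingCat.of A) f, ?_⟩
    have hg : IsAffineOpen (X := Spec (CommRingCat.of A)) (PrimeSpectrum.basicOpen g) :=
      IsAffineOpen.Spec_basicOpen (R := CommRingCat.of A) g
    have h1 : U.ι ⁻¹ᵁ (PrimeSpectrum.basicOpen f : (Spec (CommRingCat.of A)).Opens) =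
        U.ι ⁻¹ᵁ (PrimeSpectrum.basicOpen g : (Spec (CommRingCat.of A)).Opens) := by
      apply Opens.ext
      ext y
      have hyU : (U.ι y) ∈ U := by
        have : U.ι y = y.1 := rfl
        rw [this]
        exact y.2
      have key := SetLike.ext_iff.mp hfg (U.ι y)
      constructor
      · intro hy
        exact key.mp ⟨hyU, hy⟩
      · intro hy
        exact (key.mpr hy).2
    rw [h1]
    apply hg.preimage_of_isOpenImmersion
    rw [Scheme.Opens.opensRange_ι]
    exact hgU
  haveI := haff
  exact isAffine_of_isAffineHom U.ι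

end

/-- Every open subscheme of the spectrum of a Dedekind domain is affine. -/
theorem result (A : Type u) [CommRing A] [IsDedekindDomain A]
    (U : (Spec (CommRingCat.of A)).Opens) : IsAffineOpen U := by
  exact Groth.Agent.S10871.main A U

end Groth.Agent.S10871
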