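import Groth.Statements.S10891
-- import your own Groth.Agent.* helpers here
import Groth.Agent.Lib.Helper25.Misc1

set_option autoImplicit false
universe u
open CAlg

namespace Groth.Agent.S10891

/-- Let k be a field containing a primitive r-th root of unity ζ and 0 < a < r. The cyclic group of r-th
roots of unity acts on k[X, Y] through the generator X ↦ ζ⁻¹ X, Y ↦ ζ^(−a) Y, and the ring of
invariants of this action is generated as a k-algebra by the monomials X^i Y^j with 0 ≤ i, j ≤ r,
(i, j) ≠ (r, r) and i + a·j ≡ 0 (mod r). (The printed statement writes n for the order of the group,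
which the surrounding section calls r.) -/
theorem result (k : Type u) [Field k] (r a : ℕ) (ha : 0 < a) (har : a < r)
    (ζ : k) (hζ : IsPrimitiveRoot ζ r) (p : MvPolynomial (Fin 2) k) :
    MvPolynomial.aeval (fun i : Fin 2 => if i = 0 then MvPolynomial.C ζ⁻¹ * MvPolynomial.X 0
        else MvPolynomial.C (ζ⁻¹ ^ a) * (MvPolynomial.X 1 : MvPolynomial (Fin 2) k)) p = p ↔
      p ∈ Algebra.adjoin k {q : MvPolynomial (Fin 2) k | ∃ i j : ℕ, i ≤ r ∧ j ≤ r ∧ ¬ (i = r ∧ j = r) ∧
        r ∣ i + a * j ∧ q = MvPolynomial.X 0 ^ i * MvPolynomial.X 1 ^ j} := by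
  classical
  have hr : 2 ≤ r := by omega
  obtain ⟨φ, hφ⟩ : ∃ φ : MvPolynomial (Fin 2) k →ₐ[k] MvPolynomial (Fin 2) k,
      φ = MvPolynomial.aeval (fun i : Fin 2 => if i = 0 then MvPolynomial.C ζ⁻¹ * MvPolynomial.X 0
        else MvPolynomial.C (ζ⁻¹ ^ a) * (MvPolynomial.X 1 : MvPolynomial (Fin 2) k)) := ⟨_, rfl⟩
  rw [← hφ]
  have hφ0 : φ (MvPolynomial.X 0) = MvPolynomial.C ζ⁻¹ * MvPolynomial.X 0 := by
    rw [hφ, MvPolynomial.aeval_X]
    simp
  have hφ1 : φ (MvPolynomial.X 1) = MvPolynomial.C (ζ⁻¹ ^ a) * MvPolynomial.X 1 := by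
    rw [hφ, MvPolynomial.aeval_X]
    simp
  have hφC : ∀ b : k, φ (MvPolynomial.C b) = MvPolynomial.C b := fun b => φ.commutes b
  have hmono : ∀ (d : Fin 2 →₀ ℕ) (b : k), MvPolynomial.monomial d b =
      MvPolynomial.C b * (MvPolynomial.X 0 ^ d 0 * MvPolynomial.X 1 ^ d 1) := by
    intro d b
    rw [MvPolynomial.monomial_eq, Finsupp.prod_fintype _ _ (fun i => pow_zero _),
      Fin.prod_univ_two]
  have hmonoφ : ∀ i j : ℕ, φ (MvPolynomial.X 0 ^ i * MvPolynomial.X 1 ^ j) =
      MvPolynomial.C (ζ⁻¹ ^ (i + a * j)) * (MvPolynomial.X 0 ^ i * MvPolynomial.X 1 ^ j) := by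
    intro i j
    rw [map_mul, map_pow, map_pow, hφ0, hφ1, mul_pow, mul_pow, ← MvPolynomial.C_pow,
      ← MvPolynomial.C_pow, ← pow_mul, pow_add, MvPolynomial.C_mul]
    ring
  have hA : ∀ (d : Fin 2 →₀ ℕ) (b : k), φ (MvPolynomial.monomial d b) =
      MvPolynomial.monomial d (b * ζ⁻¹ ^ (d 0 + a * d 1)) := by
    intro d b
    rw [hmono, hmono, map_mul, hφC, hmonoφ, MvPolynomial.C_mul]
    ring
  have hB : ∀ (p : MvPolynomial (Fin 2) k) (e : Fin 2 →₀ ℕ),
      MvPolynomial.coeff e (φ p) = MvPolynomial.coeff e p * ζ⁻¹ ^ (e 0 + a * e 1) := by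
    intro p e
    induction p using MvPolynomial.induction_on' with
    | monomial d b =>
      rw [hA, MvPolynomial.coeff_monomial, MvPolynomial.coeff_monomial]
      split_ifs with h
      · rw [h]
      · rw [zero_mul]
    | add p q hp hq =>
      rw [map_add, MvPolynomial.coeff_add, MvPolynomial.coeff_add, hp, hq, add_mul]
  obtain ⟨S, hS⟩ : ∃ S : Set (MvPolynomial (Fin 2) k), S =
      {q : MvPolynomial (Fin 2) k | ∃ i j : ℕ, i ≤ r ∧ j ≤ r ∧ ¬ (i = r ∧ j = r) ∧
        r ∣ i + a * j ∧ q = MvPolynomial.X 0 ^ i * MvPolynomial.X 1 ^ j} := ⟨_, rfl⟩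
  rw [← hS]
  have hgen : ∀ i j : ℕ, i ≤ r → j ≤ r → ¬ (i = r ∧ j = r) → r ∣ i + a * j →
      (MvPolynomial.X 0 ^ i * MvPolynomial.X 1 ^ j : MvPolynomial (Fin 2) k) ∈
        Algebra.adjoin k S := by
    intro i j h1 h2 h3 h4
    apply Algebra.subset_adjoin
    rw [hS]
    exact ⟨i, j, h1, h2, h3, h4, rfl⟩
  have hX0 : (MvPolynomial.X 0 ^ r : MvPolynomial (Fin 2) k) ∈ Algebra.adjoin k S := by
    have h1 := hgen r 0 le_rfl (Nat.zero_le _) (by omega) (by simp)
    simpa using h1
  have hX1 : (MvPolynomial.X 1 ^ r : MvPolynomial (Fin 2) k) ∈ Algebra.adjoin k S := by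
    have h1 := hgen 0 r (Nat.zero_le _) le_rfl (by omega) (by simp)
    simpa using h1
  have hM : ∀ n i j : ℕ, i + j = n → r ∣ i + a * j →
      (MvPolynomial.X 0 ^ i * MvPolynomial.X 1 ^ j : MvPolynomial (Fin 2) k) ∈
        Algebra.adjoin k S := by
    intro n
    induction n using Nat.strong_induction_on with
    | _ n ih =>
      intro i j hij hdvd
      by_cases hi : r < i
      · have e1 : (MvPolynomial.X 0 ^ i * MvPolynomial.X 1 ^ j : MvPolynomial (Fin 2) k) =
            MvPolynomial.X 0 ^ r * (MvPolynomial.X 0 ^ (i - r) * MvPolynomial.X 1 ^ j) := by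
          rw [← mul_assoc, ← pow_add]
          congr 2
          omega
        rw [e1]
        apply Subalgebra.mul_mem _ hX0
        apply ih (i - r + j) (by omega) _ _ rfl
        have e2 : i + a * j = r + (i - r + a * j) := by omega
        rw [e2] at hdvd
        exact (Nat.dvd_add_right (dvd_refl r)).mp hdvd
      by_cases hj : r < j
      · have e1 : (MvPolynomial.X 0 ^ i * MvPolynomial.X 1 ^ j : MvPolynomial (Fin 2) k) =
            MvPolynomial.X 1 ^ r * (MvPolynomial.X 0 ^ i * MvPolynomial.X 1 ^ (j - r)) := by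
          rw [mul_left_comm, ← pow_add]
          congr 2
          omega
        rw [e1]
        apply Subalgebra.mul_mem _ hX1
        apply ih (i + (j - r)) (by omega) _ _ rfl
        have e3 : a * j = a * r + a * (j - r) := by
          rw [← Nat.mul_add]
          congr 1
          omega
        have e2 : i + a * j = a * r + (i + a * (j - r)) := by omega
        rw [e2] at hdvd
        exact (Nat.dvd_add_right (dvd_mul_left r a)).mp hdvd
      push Not at hi hj
      by_cases hboth : i = r ∧ j = r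
      · rw [hboth.1, hboth.2]
        exact Subalgebra.mul_mem _ hX0 hX1
      · exact hgen i j hi hj hboth hdvd
  constructor
  · intro hp
    have hsupp : ∀ e ∈ p.support, r ∣ e 0 + a * e 1 := by
      intro e he
      have h1 := hB p e
      rw [hp] at h1
      have hc : MvPolynomial.coeff e p ≠ 0 := MvPolynomial.mem_support_iff.mp he
      have hw : ζ⁻¹ ^ (e 0 + a * e 1) = 1 := by
        have h2 : MvPolynomial.coeff e p * ζ⁻¹ ^ (e 0 + a * e 1) =
            MvPolynomial.coeff e p * 1 := by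
          rw [mul_one]
          exact h1.symm
        exact mul_left_cancel₀ hc h2
      exact (hζ.inv.pow_eq_one_iff_dvd _).mp hw
    rw [← MvPolynomial.support_sum_monomial_coeff p]
    apply Subalgebra.sum_mem
    intro e he
    rw [hmono e]
    apply Subalgebra.mul_mem
    · exact Subalgebra.algebraMap_mem _ _
    · exact hM _ (e 0) (e 1) rfl (hsupp e he)
  · intro hp
    have hle : Algebra.adjoin k S ≤ AlgHom.equalizer φ (AlgHom.id k _) := by
      apply Algebra.adjoin_le
      intro q hq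
      rw [hS] at hq
      obtain ⟨i, j, -, -, -, hdvd, rfl⟩ := hq
      show φ (MvPolynomial.X 0 ^ i * MvPolynomial.X 1 ^ j) =
        MvPolynomial.X 0 ^ i * MvPolynomial.X 1 ^ j
      rw [hmonoφ, (hζ.inv.pow_eq_one_iff_dvd _).mpr hdvd, MvPolynomial.C_1, one_mul]
    exact hle hp

end Groth.Agent.S10891
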