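import Groth.Statements.S1090
import Groth.Agent.Lib.Helper2.FilDCone
-- import your own Groth.Agent.* helpers here

set_option autoImplicit false
universe v u
open CategoryTheory CategoryTheory.Limits Opposite
open FilD

namespace Groth.Agent.S1090

open FilD Groth.Agent.Helper2.FilDLib

/-- A homotopy between maps from a complex concentrated in degree `0` to a complex vanishing in
negative degrees is trivial. -/
lemma eq_of_homotopy_single {C : Type*} [Category C] [Preadditive C] [HasZeroObject C] (X : C)
    (J : CochainComplex C ℤ) [J.IsStrictlyGE 0]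
    (φ ψ : (CochainComplex.singleFunctor C 0).obj X ⟶ J) (h : Homotopy φ ψ) : φ = ψ := by
  have hz : ∀ i j, h.hom i j = 0 := by
    intro i j
    by_cases hij : (ComplexShape.up ℤ).Rel j i
    · by_cases hi : i = 0
      · have : j < 0 := by
          have : j + 1 = i := hij
          omega
        exact (J.isZero_of_isStrictlyGE 0 j this).eq_of_tgt _ _
      · exact (HomologicalComplex.isZero_single_obj_X (ComplexShape.up ℤ) 0 X i hi).eq_of_src _ _
    · exact h.zero i j hij
  ext n
  rw [h.comm n, dNext_eq _ (show (ComplexShape.up ℤ).Rel n (n + 1) from rfl),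
    prevD_eq _ (show (ComplexShape.up ℤ).Rel (n - 1) n by simp), hz, hz, comp_zero, zero_comp,
    zero_add, zero_add]

theorem aux {A : Type u} [Category.{v} A] [Abelian A] {X Y : FilD.FilF A} (f : X ⟶ Y)
    (I : CochainComplex (FilD.FilF A) ℤ)
    (a : (CochainComplex.singleFunctor (FilD.FilF A) 0).obj X ⟶ I) (ha : FilD.IsFilteredQuasiIso a)
    (J : CochainComplex (FilD.FilF A) ℤ) [J.IsStrictlyGE 0] (hJ : ∀ n, FilD.IsFilteredInjective (J.X n))
    (b : (CochainComplex.singleFunctor (FilD.FilF A) 0).obj Y ⟶ J) :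
    ∃ φ : I ⟶ J, a ≫ φ = (CochainComplex.singleFunctor (FilD.FilF A) 0).map f ≫ b := by
  obtain ⟨β, hβ⟩ := (bijective_precomp_of_filteredQuasiIso J 0 hJ a ha).2
    ((HomotopyCategory.quotient _ _).map ((CochainComplex.singleFunctor (FilD.FilF A) 0).map f ≫ b))
  obtain ⟨φ, rfl⟩ := (HomotopyCategory.quotient _ _).map_surjective β
  dsimp only at hβ
  rw [← Functor.map_comp] at hβ
  exact ⟨φ, eq_of_homotopy_single X J _ _ (HomotopyCategory.homotopyOfEq _ _ hβ)⟩

/-- Let A be an abelian category with enough injectives, f : X ⟶ Y a morphism of finite filtered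
objects, and X[0] ⟶ I, Y[0] ⟶ J filtered quasi-isomorphisms into complexes of filtered injective
objects vanishing in negative degrees. Then there is a morphism of complexes I ⟶ J making the
evident square with f[0] commute. -/
theorem result {A : Type u} [Category.{v} A] [Abelian A] [EnoughInjectives A] {X Y : FilD.FilF A} (f : X ⟶ Y)
    (I : CochainComplex (FilD.FilF A) ℤ) [I.IsStrictlyGE 0] (hI : ∀ n, FilD.IsFilteredInjective (I.X n))
    (a : (CochainComplex.singleFunctor (FilD.FilF A) 0).obj X ⟶ I) (ha : FilD.IsFilteredQuasiIso a)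
    (J : CochainComplex (FilD.FilF A) ℤ) [J.IsStrictlyGE 0] (hJ : ∀ n, FilD.IsFilteredInjective (J.X n))
    (b : (CochainComplex.singleFunctor (FilD.FilF A) 0).obj Y ⟶ J) (hb : FilD.IsFilteredQuasiIso b) :
    ∃ φ : I ⟶ J, a ≫ φ = (CochainComplex.singleFunctor (FilD.FilF A) 0).map f ≫ b := by
  exact aux f I a ha J hJ b

end Groth.Agent.S1090
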