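import Groth.Statements.S10903
import Mathlib
import Groth.Agent.Lib.Helper12.ProjHilb7

set_option autoImplicit false
universe u
open CInt

namespace Groth.Agent.S10903

open MvPolynomial RingTheory.Sequence Groth.Agent.Helper12.ProjHilb

theorem ofList_ofFn' {A : Type*} [CommRing A] {r : ℕ} (f : Fin r → A) :
    Ideal.ofList (List.ofFn f) = Ideal.span (Set.range f) := by
  unfold Ideal.ofList
  congr 1
  ext x
  simp [List.mem_ofFn]


/-- Let k be a field, S = k[x_0, …, x_n], and f_1, …, f_r with r ≤ n homogeneous polynomials of positive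
degrees whose ideal J = (f_1, …, f_r) has height r — the subscheme of P^n_k cut out by the
hypersurfaces f_i = 0 has codimension r, an ideal-theoretic complete intersection. Then J is
saturated with respect to the irrelevant ideal (x_0, …, x_n): an element g of S such that, for each
i, x_i^m g ∈ J for some m, already lies in J. Hence J is the full homogeneous ideal of that
subscheme (a global complete intersection). -/
theorem result (k : Type u) [Field k] (n r : ℕ)
    (hr : r ≤ n) (f : Fin r → MvPolynomial (Fin (n + 1)) k) (d : Fin r → ℕ)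
    (hf : ∀ i, (f i).IsHomogeneous (d i)) (hd : ∀ i, 0 < d i)
    (hJ : (Ideal.span (Set.range f)).height = r) (g : MvPolynomial (Fin (n + 1)) k)
    (hg : ∀ i : Fin (n + 1), ∃ m : ℕ, MvPolynomial.X i ^ m * g ∈ Ideal.span (Set.range f)) :
    g ∈ Ideal.span (Set.range f) := by
  classical
  have H : ∀ Q : Ideal (MvPolynomial (Fin (n + 1)) k), Q.IsPrime → Ideal.span (Set.range f) ≤ Q →
      ringKrullDim (MvPolynomial (Fin (n + 1)) k ⧸ Q) + (r : WithBot ℕ∞) ≤
        ((n + 1 : ℕ) : WithBot ℕ∞) := by
    intro Q hQ hJQ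
    obtain ⟨a, b, ha, hb, hab⟩ := exists_dim_height Q
    have h1 := Ideal.height_mono hJQ
    rw [hJ, hb] at h1
    have h2 : r ≤ b := by exact_mod_cast h1
    rw [ha]
    have h3 : a + r ≤ n + 1 := by omega
    exact_mod_cast h3
  have hreg : IsWeaklyRegular (MvPolynomial (Fin (n + 1)) k) (List.ofFn f) :=
    isWeaklyRegular_ofFn f d (fun i => (mem_homogeneousSubmodule _ _).mpr (hf i)) hd H
  have hsm : (Ideal.ofList (List.ofFn f) • ⊤ : Submodule (MvPolynomial (Fin (n + 1)) k)
      (MvPolynomial (Fin (n + 1)) k)) = Ideal.span (Set.range f) := by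
    rw [smul_eq_mul, Ideal.mul_top, ofList_ofFn']
  by_contra hgJ
  have hz : (Submodule.Quotient.mk g : MvPolynomial (Fin (n + 1)) k ⧸
      (Ideal.ofList (List.ofFn f) • ⊤ : Submodule (MvPolynomial (Fin (n + 1)) k)
        (MvPolynomial (Fin (n + 1)) k))) ≠ 0 := by
    intro h0
    rw [Submodule.Quotient.mk_eq_zero, hsm] at h0
    exact hgJ h0
  obtain ⟨P, hP, hle⟩ := exists_le_isAssociatedPrime_of_isNoetherianRing (MvPolynomial (Fin (n + 1)) k) _ hz
  obtain ⟨hall, hht⟩ := height_eq_length_of_mem_associatedPrimes (List.ofFn f) hreg P hP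
  have hPp : P.IsPrime := hP.isPrime
  rw [List.length_ofFn] at hht
  have hX : ∀ i : Fin (n + 1), (X i : MvPolynomial (Fin (n + 1)) k) ∈ P := by
    intro i
    obtain ⟨m, hm⟩ := hg i
    apply hPp.mem_of_pow_mem m
    apply hle
    rw [Submodule.mem_colon_singleton, Submodule.mem_bot, ← Submodule.Quotient.mk_smul,
      Submodule.Quotient.mk_eq_zero, hsm]
    exact hm
  have hvars : idealOfVars (Fin (n + 1)) k ≤ P := by
    unfold idealOfVars
    rw [Ideal.span_le]
    rintro _ ⟨i, rfl⟩
    exact hX i
  have h0 := ringKrullDim_quotient_eq_zero_of_idealOfVars_le P hvars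
  obtain ⟨a, b, ha, hb, hab⟩ := exists_dim_height P
  rw [ha] at h0
  have ha0 : a = 0 := by exact_mod_cast h0
  rw [hb] at hht
  have hbr : b = r := by exact_mod_cast hht
  omega

end Groth.Agent.S10903
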