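import Groth.Statements.S10906
import Groth.Agent.Lib.Helper12.ProjHilb4

set_option autoImplicit false
universe u
open Polynomial
open ProjDeg

namespace Groth.Agent.S10906

open Groth.Agent.Helper12.ProjHilb Groth.Agent.Helper12.SamuelAssoc Groth.Agent.Helper5.HS in
theorem isEP_of_eval (k : Type u) [Field k] (n : ℕ) (J : Ideal (MvPolynomial (Fin (n + 1)) k))
    (P : Polynomial ℚ)
    (hP : ∃ m₀ : ℕ, ∀ m : ℕ, m₀ ≤ m → P.eval (m : ℚ) =
      (Module.finrank k ↥(CohB1.polyGrading n k m) : ℚ) -
        Module.finrank k ↥(Submodule.restrictScalars k J ⊓ CohB1.polyGrading n k m)) :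
    IsEP (hf J) P := by
  obtain ⟨m₀, h⟩ := hP
  refine ⟨m₀, fun m hm => ?_⟩
  rw [h m hm]
  have e1 := hf_cast (k := k) (σ := Fin (n + 1)) J m
  have : ((hf J m : ℕ) : ℚ) = (((hf J m : ℕ) : ℤ) : ℚ) := by push_cast; rfl
  rw [this, e1]
  push_cast
  rfl


/-- Let k be a field, R = k[X_0, …, X_n] graded by degree, I a homogeneous ideal with Hilbert polynomial
P (a rational polynomial with P(m) = dim_k R_m − dim_k (I ∩ R_m) for all large m), and p_1, …, p_r
the minimal prime ideals over I, listed without repetition, with Hilbert polynomials Q_i; put t =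
deg P. Defining the degree of V(J) as (degree of its Hilbert polynomial)! times the leading
coefficient and the multiplicity of the component V(p_i) in Y = V(I) as the length of (R/I)_{p_i}
over R_{p_i}, the degree of Y is the sum, over the components of top dimension (those i with deg Q_i
= t), of multiplicity times degree: deg Y = Σ_{deg Q_i = t} i(Y_i; Y) · deg V(p_i). -/
theorem result (k : Type u) [Field k] (n : ℕ)
    (I : Ideal (MvPolynomial (Fin (n + 1)) k)) (hIh : I.IsHomogeneous (CohB1.polyGrading n k))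
    (P : ℚ[X])
    (hP : ∃ m₀ : ℕ, ∀ m : ℕ, m₀ ≤ m → P.eval (m : ℚ) =
      (Module.finrank k ↥(CohB1.polyGrading n k m) : ℚ) -
        Module.finrank k ↥(Submodule.restrictScalars k I ⊓ CohB1.polyGrading n k m))
    (r : ℕ) (p : Fin r → Ideal (MvPolynomial (Fin (n + 1)) k)) [hp : ∀ i, (p i).IsPrime] (hpinj : Function.Injective p)
    (hpmin : ∀ q : Ideal (MvPolynomial (Fin (n + 1)) k), q ∈ I.minimalPrimes ↔ ∃ i, q = p i)
    (Qp : Fin r → ℚ[X])
    (hQp : ∀ i, ∃ m₀ : ℕ, ∀ m : ℕ, m₀ ≤ m → (Qp i).eval (m : ℚ) =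
      (Module.finrank k ↥(CohB1.polyGrading n k m) : ℚ) -
        Module.finrank k ↥(Submodule.restrictScalars k (p i) ⊓ CohB1.polyGrading n k m)) :
    (P.natDegree.factorial : ℚ) * P.leadingCoeff =
      ∑ i : Fin r, if (Qp i).natDegree = P.natDegree then
        ((Qp i).natDegree.factorial : ℚ) * (Qp i).leadingCoeff *
          (Module.length (Localization.AtPrime (p i))
            (LocalizedModule (p i).primeCompl (MvPolynomial (Fin (n + 1)) k ⧸ I))).toNat
      else 0 := by
  classical
  open Groth.Agent.Helper12.ProjHilb Groth.Agent.Helper12.SamuelAssoc Groth.Agent.Helper5.HS in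
  have hI : IsEP (hf I) P := isEP_of_eval k n I P hP
  have hHP : HP I = P := HP_eq hI
  have hQ : ∀ i, HP (p i) = Qp i := fun i => HP_eq (isEP_of_eval k n (p i) (Qp i) (hQp i))
  have hIh' : I.IsHomogeneous (MvPolynomial.homogeneousSubmodule (Fin (n + 1)) k) := hIh
  have hph : ∀ i, (p i).IsHomogeneous (MvPolynomial.homogeneousSubmodule (Fin (n + 1)) k) :=
    fun i => isHomogeneous_of_mem_minimalPrimes hIh' ((hpmin (p i)).mpr ⟨i, rfl⟩)
  set t := P.natDegree with ht
  have hmain := ct_eq_finsum I hIh' t (by rw [hHP])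
  set g : Fin r → PrimeSpectrum (MvPolynomial (Fin (n + 1)) k) := fun i => ⟨p i, hp i⟩ with hg
  have hginj : Function.Injective g := fun i j hij => hpinj (congrArg PrimeSpectrum.asIdeal hij)
  set S : Finset (Fin r) := Finset.univ.filter (fun i => (Qp i).natDegree = t ∧ Qp i ≠ 0) with hS
  have hsum : ∑ᶠ q ∈ {q | Dm t q}, term t I q = ∑ q ∈ S.image g, term t I q := by
    apply finsum_mem_eq_sum_of_subset
    · rintro q ⟨hq, hsupp⟩
      rw [Function.mem_support] at hsupp
      have hle : I ≤ q.asIdeal := by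
        by_contra hnle
        exact hsupp (term_eq_zero_of_not_le t I q hnle)
      have hmin := mem_minimalPrimes_of_Dm hIh' (by rw [hHP]) hq hle
      obtain ⟨i, hi⟩ := (hpmin q.asIdeal).mp hmin
      have hqi : q = g i := PrimeSpectrum.ext hi
      rw [Finset.coe_image]
      refine ⟨i, ?_, hqi.symm⟩
      rw [Finset.mem_coe, hS, Finset.mem_filter]
      refine ⟨Finset.mem_univ _, ?_, ?_⟩
      · rw [← hQ i, ← hi]; exact hq.2.2
      · rw [← hQ i, ← hi]; exact hq.2.1
    · intro q hq
      rw [Finset.coe_image] at hq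
      obtain ⟨i, hi, rfl⟩ := hq
      rw [Finset.mem_coe, hS, Finset.mem_filter] at hi
      refine ⟨hph i, ?_, ?_⟩
      · show HP (p i) ≠ 0
        rw [hQ i]; exact hi.2.2
      · show (HP (p i)).natDegree = t
        rw [hQ i]; exact hi.2.1
  rw [hsum, Finset.sum_image (fun i _ j _ hij => hginj hij)] at hmain
  have hlhs : ct t I = (P.natDegree.factorial : ℚ) * P.leadingCoeff := by
    unfold ct
    rw [hHP, Polynomial.leadingCoeff]
  rw [← hlhs, hmain, hS, Finset.sum_filter]
  refine Finset.sum_congr rfl fun i _ => ?_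
  by_cases h1 : (Qp i).natDegree = P.natDegree
  · by_cases h2 : Qp i = 0
    · rw [if_neg (fun h => h.2 h2), if_pos h1, h2]
      simp
    · rw [if_pos ⟨h1, h2⟩, if_pos h1]
      unfold term ct
      rw [hQ i, Polynomial.leadingCoeff, h1]
      have : lenAt (g i) (MvPolynomial (Fin (n + 1)) k ⧸ I) =
          Module.length (Localization.AtPrime (p i))
            (LocalizedModule (p i).primeCompl (MvPolynomial (Fin (n + 1)) k ⧸ I)) := rfl
      rw [this]
      ring
  · rw [if_neg (fun h => h1 h.1), if_neg h1]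

end Groth.Agent.S10906
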