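import Groth.Statements.S10905
import Groth.Agent.Lib.Helper12.ProjHilb6
import Groth.Agent.S10906

set_option autoImplicit false
universe u
open Polynomial
open ProjDeg

namespace Groth.Agent.S10905

open Groth.Agent.Helper12.ProjHilb Groth.Agent.Helper5.HS in
theorem eval_of_isEP (k : Type u) [Field k] (n : ℕ) (J : Ideal (MvPolynomial (Fin (n + 1)) k))
    (P : Polynomial ℚ) (hP : IsEP (hf J) P) :
    ∃ m₀ : ℕ, ∀ m : ℕ, m₀ ≤ m → P.eval (m : ℚ) =
      (Module.finrank k ↥(CohB1.polyGrading n k m) : ℚ) -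
        Module.finrank k ↥(Submodule.restrictScalars k J ⊓ CohB1.polyGrading n k m) := by
  obtain ⟨m₀, h⟩ := hP
  refine ⟨m₀, fun m hm => ?_⟩
  rw [← h m hm]
  have e1 := hf_cast (k := k) (σ := Fin (n + 1)) J m
  have : ((hf J m : ℕ) : ℚ) = (((hf J m : ℕ) : ℤ) : ℚ) := by push_cast; rfl
  rw [this, e1]
  push_cast
  rfl


/-- Let k be a field, R = k[X_0, …, X_n] graded by degree, I a homogeneous prime ideal whose Hilbert
polynomial P (a rational polynomial with P(m) = dim_k R_m − dim_k (I ∩ R_m) for all large m) has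
degree ≥ 1, so that Y = V(I) is a projective variety of dimension ≥ 1; let f ∉ I be homogeneous of
degree d ≥ 1, I' = I + (f), and p_1, …, p_r the minimal prime ideals over I' (listed without
repetition), with Hilbert polynomials Q_i. Define the degree of V(J) as (degree of its Hilbert
polynomial)! times the leading coefficient, and the intersection multiplicity of I and (f) at p_i as
the length of (R/I')_{p_i} over R_{p_i}. Then d · deg Y = Σ_i deg V(p_i) · i(I, (f); p_i). (The
published statement has no dimension hypothesis; for Y a single point the only minimal prime over I'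
is the irrelevant ideal, whose Hilbert polynomial is 0, so the right side vanishes while the left
side does not.) -/
theorem result (k : Type u) [Field k] (n : ℕ)
    (I : Ideal (MvPolynomial (Fin (n + 1)) k)) (hIh : I.IsHomogeneous (CohB1.polyGrading n k)) [I.IsPrime]
    (f : MvPolynomial (Fin (n + 1)) k) (d : ℕ) (hd : 0 < d) (hf : f.IsHomogeneous d) (hfI : f ∉ I)
    (P : ℚ[X])
    (hP : ∃ m₀ : ℕ, ∀ m : ℕ, m₀ ≤ m → P.eval (m : ℚ) =
      (Module.finrank k ↥(CohB1.polyGrading n k m) : ℚ) -
        Module.finrank k ↥(Submodule.restrictScalars k I ⊓ CohB1.polyGrading n k m))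
    (hdim : 1 ≤ P.natDegree)
    (r : ℕ) (p : Fin r → Ideal (MvPolynomial (Fin (n + 1)) k)) [hp : ∀ i, (p i).IsPrime] (hpinj : Function.Injective p)
    (hpmin : ∀ q : Ideal (MvPolynomial (Fin (n + 1)) k), q ∈ (I ⊔ Ideal.span {f}).minimalPrimes ↔ ∃ i, q = p i)
    (Qp : Fin r → ℚ[X])
    (hQp : ∀ i, ∃ m₀ : ℕ, ∀ m : ℕ, m₀ ≤ m → (Qp i).eval (m : ℚ) =
      (Module.finrank k ↥(CohB1.polyGrading n k m) : ℚ) -
        Module.finrank k ↥(Submodule.restrictScalars k (p i) ⊓ CohB1.polyGrading n k m)) :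
    (d : ℚ) * ((P.natDegree.factorial : ℚ) * P.leadingCoeff) =
      ∑ i : Fin r, ((Qp i).natDegree.factorial : ℚ) * (Qp i).leadingCoeff *
        (Module.length (Localization.AtPrime (p i))
          (LocalizedModule (p i).primeCompl (MvPolynomial (Fin (n + 1)) k ⧸ (I ⊔ Ideal.span {f})))).toNat := by
  classical
  open Groth.Agent.Helper12.ProjHilb Groth.Agent.Helper5.HS in
  have hIEP : IsEP (Groth.Agent.Helper12.ProjHilb.hf I) P := Groth.Agent.S10906.isEP_of_eval k n I P hP
  have hHP : HP I = P := HP_eq hIEP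
  have hIh' : I.IsHomogeneous (MvPolynomial.homogeneousSubmodule (Fin (n + 1)) k) := hIh
  have hfd : f ∈ MvPolynomial.homogeneousSubmodule (Fin (n + 1)) k d := hf
  have hf0 : f ≠ 0 := fun h0 => hfI (h0 ▸ I.zero_mem)
  have hreg : ∀ b, f * b ∈ I → b ∈ I := fun b hb =>
    ((Ideal.IsPrime.mem_or_mem inferInstance hb).resolve_left hfI)
  have hJ' : (I ⊔ Ideal.span {f}).IsHomogeneous (MvPolynomial.homogeneousSubmodule (Fin (n + 1)) k) :=
    sup_span_isHomogeneous hIh' hfd
  set Q := HP (I ⊔ Ideal.span {f}) with hQdef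
  have hQEP : IsEP (Groth.Agent.Helper12.ProjHilb.hf (I ⊔ Ideal.span {f})) Q := HP_spec hJ'
  -- degree relation
  obtain ⟨m₁, hm₁⟩ := hIEP
  obtain ⟨m₂, hm₂⟩ := hQEP
  have hdeg := degree_of_diff P Q d hd hdim (max m₁ m₂) (fun m hm => by
    have hrec := hf_sup_span I hIh' hfd hf0 hreg m
    rw [← hm₁ (d + m) (by omega), ← hm₁ m (by omega), ← hm₂ (d + m) (by omega), ← hrec]
    push_cast
    ring)
  obtain ⟨hdeg1, hdeg2⟩ := hdeg
  have hP0 : P ≠ 0 := by
    rintro rfl
    simp at hdim
  -- dimension of R/I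
  have hdimI := ringKrullDim_quotient_prime P.natDegree I hIh' (by rw [hHP]; exact hP0)
    (by rw [hHP])
  -- all minimal primes have the expected degree
  have hall : ∀ i, (Qp i).natDegree = Q.natDegree := by
    intro i
    have hmin : p i ∈ (I ⊔ Ideal.span {f}).minimalPrimes := (hpmin (p i)).mpr ⟨i, rfl⟩
    have hph := isHomogeneous_of_mem_minimalPrimes hJ' hmin
    have hQi : HP (p i) = Qp i := HP_eq (Groth.Agent.S10906.isEP_of_eval k n (p i) (Qp i) (hQp i))
    have hKL := ringKrullDim_quotient_minimalPrime_sup_span I f hfI (p i) hmin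
    rw [hdimI] at hKL
    by_cases h0 : HP (p i) = 0
    · exfalso
      rw [ringKrullDim_quotient_eq_zero_of_HP_eq_zero (p i) hph h0] at hKL
      have : ((0 + 1 : ℕ) : WithBot ℕ∞) = ((P.natDegree + 1 : ℕ) : WithBot ℕ∞) := by
        push_cast; exact hKL
      have h2 : (0 + 1 : ℕ) = P.natDegree + 1 := by exact_mod_cast this
      omega
    · rw [ringKrullDim_quotient_prime _ (p i) hph h0 rfl, hQi] at hKL
      have : (((Qp i).natDegree + 1 + 1 : ℕ) : WithBot ℕ∞) = ((P.natDegree + 1 : ℕ) : WithBot ℕ∞) := by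
        push_cast; exact hKL
      have h2 : (Qp i).natDegree + 1 + 1 = P.natDegree + 1 := by exact_mod_cast this
      omega
  have hmain := Groth.Agent.S10906.result k n (I ⊔ Ideal.span {f}) hJ' Q
    (eval_of_isEP k n _ Q (HP_spec hJ')) r p hpinj hpmin Qp hQp
  rw [← hdeg2, hmain]
  refine Finset.sum_congr rfl fun i _ => ?_
  rw [if_pos (hall i)]

end Groth.Agent.S10905
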