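import Groth.Statements.S10907
import Groth.Agent.Lib.Helper12.ProjHilb6

set_option autoImplicit false
universe u
open Polynomial
open ProjDeg

namespace Groth.Agent.S10907

open Groth.Agent.Helper12.ProjHilb Groth.Agent.Helper5.HS in
theorem isEP_of_eval (k : Type u) [Field k] (n : ℕ) (J : Ideal (MvPolynomial (Fin (n + 1)) k))
    (P : Polynomial ℚ)
    (hP : ∃ m₀ : ℕ, ∀ m : ℕ, m₀ ≤ m → P.eval (m : ℚ) =
      (Module.finrank k ↥(CohB1.polyGrading n k m) : ℚ) -
        Module.finrank k ↥(Submodule.restrictScalars k J ⊓ CohB1.polyGrading n k m)) :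
    IsEP (hf J) P := by
  obtain ⟨m₀, h⟩ := hP
  refine ⟨m₀, fun m hm => ?_⟩
  rw [h m hm]
  have e1 := hf_cast (k := k) (σ := Fin (n + 1)) J m
  have : ((hf J m : ℕ) : ℚ) = (((hf J m : ℕ) : ℤ) : ℚ) := by push_cast; rfl
  rw [this, e1]
  push_cast
  rfl


/-- Let k be a field, R = k[X_0, …, X_n] graded by degree, and I a homogeneous ideal whose Hilbert
polynomial P (a rational polynomial with P(m) = dim_k R_m − dim_k (I ∩ R_m) for all large m) is
nonzero, i.e. the projective scheme V_+(I) ⊆ P^n_k is nonempty. Then the Krull dimension of R/I (the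
affine cone) equals deg P + 1; the dimension of V_+(I) itself is deg P. -/
theorem result (k : Type u) [Field k]
    (n : ℕ) (I : Ideal (MvPolynomial (Fin (n + 1)) k)) (hIh : I.IsHomogeneous (CohB1.polyGrading n k))
    (P : ℚ[X]) (hP0 : P ≠ 0)
    (hP : ∃ m₀ : ℕ, ∀ m : ℕ, m₀ ≤ m → P.eval (m : ℚ) =
      (Module.finrank k ↥(CohB1.polyGrading n k m) : ℚ) -
        Module.finrank k ↥(Submodule.restrictScalars k I ⊓ CohB1.polyGrading n k m)) :
    ringKrullDim (MvPolynomial (Fin (n + 1)) k ⧸ I) = (P.natDegree : WithBot ℕ∞) + 1 := by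
  open Groth.Agent.Helper12.ProjHilb in
  have hHP : HP I = P := HP_eq (isEP_of_eval k n I P hP)
  have hIh' : I.IsHomogeneous (MvPolynomial.homogeneousSubmodule (Fin (n + 1)) k) := hIh
  have h := ringKrullDim_quotient_eq I hIh' (by rw [hHP]; exact hP0)
  rw [hHP] at h
  exact h

end Groth.Agent.S10907
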