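import Groth.Statements.S10908
import Groth.Agent.Lib.Helper20.ProjNormalB

set_option autoImplicit false
universe u
open ProjDeg

namespace Groth.Agent.S10908


theorem result {R A : Type u} [CommRing R] [CommRing A] [IsDomain A]
    [IsNoetherianRing A] [Algebra R A] (𝒜 : ℕ → Submodule R A) [GradedAlgebra 𝒜]
    (hgen : ∀ i : ℕ, 𝒜 1 * 𝒜 i = 𝒜 (i + 1)) (h1 : 𝒜 1 ≠ ⊥) (hint : IsIntegrallyClosed A) (d : ℕ) :
    Function.Bijective (fun a : ↥(𝒜 d) => Twist.globalOf 𝒜 a) := by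
  exact Groth.Agent.Lib.Helper20.ProjNormalB.main hgen h1 hint d

end Groth.Agent.S10908
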