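import Groth.Statements.S10915
import Mathlib
import Groth.Agent.Lib.Helper12.ProjHilb9

set_option autoImplicit false
universe u
open ProjDeg

namespace Groth.Agent.S10915

open MvPolynomial Groth.Agent.Helper12.ProjHilb


/-- Let k be an algebraically closed field, R = k[X_0, …, X_n] graded by degree, and I a homogeneous
prime ideal with dim R/I = r + 1, so that X = V_+(I) ⊆ P^n_k is a projective variety of dimension r.
Then there are r + 1 linear forms h_1, …, h_{r+1} (homogeneous of degree 1) whose common zero set in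
P^n_k does not meet X, i.e. the ideal I + (h_1, …, h_{r+1}) contains some power of the irrelevant
ideal (X_0, …, X_n). (The published statement says that a generic linear subspace of dimension n − r
− 1 misses X; this row asserts only that one such subspace, cut out by r + 1 linear forms, exists.) -/
theorem result (k : Type u) [Field k] [IsAlgClosed k]
    (n r : ℕ) (I : Ideal (MvPolynomial (Fin (n + 1)) k)) (hIh : I.IsHomogeneous (CohB1.polyGrading n k)) [I.IsPrime]
    (hdim : ringKrullDim (MvPolynomial (Fin (n + 1)) k ⧸ I) = (r : WithBot ℕ∞) + 1) :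
    ∃ h : Fin (r + 1) → MvPolynomial (Fin (n + 1)) k, (∀ i, (h i).IsHomogeneous 1) ∧
      ∃ N : ℕ, (Ideal.span (Set.range (MvPolynomial.X : Fin (n + 1) → MvPolynomial (Fin (n + 1)) k))) ^ N ≤
        I ⊔ Ideal.span (Set.range h) := by
  classical
  have key : ∀ t : ℕ, t ≤ r + 1 → ∃ h : Fin t → MvPolynomial (Fin (n + 1)) k,
      (∀ i, h i ∈ homogeneousSubmodule (Fin (n + 1)) k 1) ∧
      (I ⊔ Ideal.span (Set.range h)).IsHomogeneous (homogeneousSubmodule (Fin (n + 1)) k) ∧
      ringKrullDim (MvPolynomial (Fin (n + 1)) k ⧸ (I ⊔ Ideal.span (Set.range h))) ≤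
        ((r + 1 - t : ℕ) : WithBot ℕ∞) := by
    intro t
    induction t with
    | zero =>
      intro _
      refine ⟨Fin.elim0, fun i => i.elim0, ?_, ?_⟩
      · have : Set.range (Fin.elim0 : Fin 0 → MvPolynomial (Fin (n + 1)) k) = ∅ :=
          Set.range_eq_empty _
        rw [this, Ideal.span_empty, sup_bot_eq]
        exact hIh
      · have : Set.range (Fin.elim0 : Fin 0 → MvPolynomial (Fin (n + 1)) k) = ∅ :=
          Set.range_eq_empty _
        rw [this, Ideal.span_empty, sup_bot_eq, hdim]
        push_cast
        exact le_rfl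
    | succ t ih =>
      intro ht
      obtain ⟨h, hh, hhom, hd⟩ := ih (by omega)
      have hd' : ringKrullDim (MvPolynomial (Fin (n + 1)) k ⧸ (I ⊔ Ideal.span (Set.range h))) ≤
          ((r - t : ℕ) : WithBot ℕ∞) + 1 := by
        refine hd.trans (le_of_eq ?_)
        have : r + 1 - t = (r - t) + 1 := by omega
        rw [this]
        push_cast
        rfl
      obtain ⟨ℓ, hℓ, hℓd⟩ := exists_linear_dim_le _ (r - t) hd'
      have hrange : I ⊔ Ideal.span (Set.range (Fin.cons ℓ h : Fin (t + 1) → _)) =
          (I ⊔ Ideal.span (Set.range h)) ⊔ Ideal.span {ℓ} := by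
        rw [Fin.range_cons, Ideal.span_insert, sup_assoc, sup_comm (Ideal.span {ℓ})]
      refine ⟨Fin.cons ℓ h, ?_, ?_, ?_⟩
      · intro i
        refine Fin.cases ?_ (fun j => ?_) i
        · simpa using hℓ
        · simpa using hh j
      · rw [hrange]
        exact sup_span_isHomogeneous hhom hℓ
      · rw [hrange]
        have : r + 1 - (t + 1) = r - t := by omega
        rw [this]
        exact hℓd
  obtain ⟨h, hh, hhom, hd⟩ := key (r + 1) le_rfl
  refine ⟨h, fun i => (mem_homogeneousSubmodule _ _).mp (hh i), ?_⟩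
  have hd0 : ringKrullDim (MvPolynomial (Fin (n + 1)) k ⧸ (I ⊔ Ideal.span (Set.range h))) ≤ 0 := by
    refine hd.trans ?_
    simp
  exact exists_pow_idealOfVars_le _ hhom hd0

end Groth.Agent.S10915
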