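import Groth.Statements.S10930
import Mathlib
import Groth.Agent.S7776
import Groth.Agent.Lib.Helper3.SmoothRegSch

set_option autoImplicit false
universe u
open CategoryTheory CategoryTheory.Limits AlgebraicGeometry
open Variety

namespace Groth.Agent.S10930

/-- Let k be an algebraically closed field of characteristic zero, X and Y varieties over k (integral,
separated and of finite type over k) with X nonsingular, i.e. smooth over k, and f : X → Y a
k-morphism. Then there is a nonempty open subscheme V of Y such that the restriction f⁻¹(V) → V of f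
is smooth. -/
theorem result (k : Type u) [Field k] [IsAlgClosed k] [CharZero k]
    {X Y : Scheme.{u}} (qX : X ⟶ Spec (CommRingCat.of k)) (qY : Y ⟶ Spec (CommRingCat.of k))
    [LocallyOfFiniteType qX] [QuasiCompact qX] [IsSeparated qX] [Smooth qX]
    [LocallyOfFiniteType qY] [QuasiCompact qY] [IsSeparated qY]
    [IsIntegral X] [IsIntegral Y] (f : X ⟶ Y) (hf : f ≫ qY = qX) :
    ∃ V : Y.Opens, (V : Set ↥Y).Nonempty ∧ Smooth (f ∣_ V) := by
  classical
  haveI : IsLocallyNoetherian X := LocallyOfFiniteType.isLocallyNoetherian qX
  haveI : IsLocallyNoetherian Y := LocallyOfFiniteType.isLocallyNoetherian qY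
  haveI hfft : LocallyOfFiniteType f := by
    haveI : LocallyOfFiniteType (f ≫ qY) := hf ▸ inferInstance
    exact locallyOfFiniteType_of_comp f qY
  haveI : LocallyOfFinitePresentation f := inferInstance
  haveI : QuasiCompact f := by
    haveI : QuasiCompact (f ≫ qY) := hf ▸ inferInstance
    exact QuasiCompact.of_comp f qY
  letI : X.Over (Spec (CommRingCat.of k)) := ⟨qX⟩
  haveI : Smooth (X ↘ (Spec (CommRingCat.of k))) := ‹Smooth qX›
  have hreg : ∀ x : X, IsRegularLocalRing (X.presheaf.stalk x) :=
    fun x => Groth.Agent.Helper3.SmoothRegSch.main k X x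
  by_cases hdom : IsDominant f
  · -- function field of Y is perfect (characteristic zero)
    have φ : k →+* Y.functionField :=
      ((Scheme.ΓSpecIso (CommRingCat.of k)).inv ≫ qY.appTop ≫
        Y.presheaf.germ ⊤ (genericPoint Y) trivial).hom
    haveI : CharZero Y.functionField := charZero_of_injective_ringHom φ.injective
    haveI : PerfectField Y.functionField := PerfectField.ofCharZero
    obtain ⟨V, hV, hs⟩ := Groth.Agent.S7776.result X Y hreg f
    exact ⟨V, hV.nonempty, hs⟩
  · have hne : closure (Set.range f) ≠ Set.univ := by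
      intro h
      exact hdom ⟨dense_iff_closure_eq.mpr h⟩
    let V : Y.Opens := ⟨(closure (Set.range f))ᶜ, isClosed_closure.isOpen_compl⟩
    refine ⟨V, ?_, ?_⟩
    · exact Set.nonempty_compl.mpr hne
    · rw [← Scheme.Hom.smoothLocus_eq_top_iff, ← top_le_iff]
      rintro z -
      exfalso
      have hz : f z.1 ∈ (V : Set Y) := z.2
      exact hz (subset_closure ⟨z.1, rfl⟩)

end Groth.Agent.S10930
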