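import Groth.Statements.S10936
import Groth.Agent.Lib.Helper16.Sch.CotSmoothSch3

set_option autoImplicit false
universe u
open CategoryTheory CategoryTheory.Limits AlgebraicGeometry
open Variety

namespace Groth.Agent.S10936

/-- (a)⇔(c): let k be an algebraically closed field, X and Y nonsingular varieties over k (integral,
separated, of finite type and smooth over k) with dim Y = dY and dim X = dY + n, and f : X → Y a
k-morphism. Then f is smooth of relative dimension n if and only if for every closed point x of X
the tangent map T_x f : T_x X → T_{f(x)} Y is surjective — equivalently, the cotangent map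
m_{f(x)}/m_{f(x)}^2 → m_x/m_x^2 of the local rings is injective. -/
theorem result (k : Type u) [Field k] [IsAlgClosed k]
    {X Y : Scheme.{u}} (qX : X ⟶ Spec (CommRingCat.of k)) (qY : Y ⟶ Spec (CommRingCat.of k))
    [IsIntegral X] [IsSeparated qX] [LocallyOfFiniteType qX] [QuasiCompact qX] [Smooth qX]
    [IsIntegral Y] [IsSeparated qY] [LocallyOfFiniteType qY] [QuasiCompact qY] [Smooth qY]
    (f : X ⟶ Y) (hf : f ≫ qY = qX) (n dY : ℕ) (hY : topologicalKrullDim ↥Y = dY)
    (hX : topologicalKrullDim ↥X = ((dY + n : ℕ) : WithBot ℕ∞)) :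
    SmoothOfRelativeDimension n f ↔
      ∀ x : X, IsClosed ({x} : Set ↥X) → Function.Injective (FixPt.cotangentMapAt f x (f.base x) rfl) := by
  subst hf
  haveI : LocallyOfFiniteType f := locallyOfFiniteType_of_comp f qY
  haveI : IsLocallyNoetherian Y := LocallyOfFiniteType.isLocallyNoetherian qY
  haveI : LocallyOfFinitePresentation f := inferInstance
  have hmem := fun (x : X) (hx : IsClosed ({x} : Set ↥X)) =>
    Groth.Agent.Helper16.CotSmoothSch.mem_smoothLocus_iff k (f ≫ qY) qY f rfl x hx
  constructor
  · intro hsm x hx
    haveI : Smooth f := SmoothOfRelativeDimension.smooth n f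
    refine (hmem x hx).mp ?_
    rw [f.smoothLocus_eq_top]
    trivial
  · intro hinj
    -- all closed points are in the smooth locus
    have htop : f.smoothLocus = ⊤ := by
      by_contra hne
      haveI : CompactSpace ↥X := QuasiCompact.compactSpace_of_compactSpace (f ≫ qY)
      have hcl : IsClosed ((f.smoothLocus : Set ↥X)ᶜ) := f.smoothLocus.isOpen.isClosed_compl
      have hnon : ((f.smoothLocus : Set ↥X)ᶜ).Nonempty := by
        rw [Set.nonempty_compl]
        intro h
        exact hne (TopologicalSpace.Opens.ext h)
      obtain ⟨x, hx, hxcl⟩ := hcl.exists_closed_singleton hnon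
      exact hx ((hmem x hxcl).mpr (hinj x hxcl))
    haveI : Smooth f := Scheme.Hom.smoothLocus_eq_top_iff.mp htop
    refine Groth.Agent.Helper16.CotSmoothSch.smoothOfRelativeDimension_of_fibreDimAt f n ?_
    intro x
    have hXe : ∀ Z ∈ irreducibleComponents (X : Type u),
        topologicalKrullDim Z = ((dY + n : ℕ) : WithBot ℕ∞) := by
      intro Z hZ
      rw [irreducibleComponents_eq_singleton, Set.mem_singleton_iff] at hZ
      subst hZ
      rw [← hX]
      exact IsHomeomorph.topologicalKrullDim_eq _ (Homeomorph.Set.univ ↥X).isHomeomorph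
    have hYd : ∀ Z ∈ irreducibleComponents (Y : Type u),
        topologicalKrullDim Z = ((dY : ℕ) : WithBot ℕ∞) := by
      intro Z hZ
      rw [irreducibleComponents_eq_singleton, Set.mem_singleton_iff] at hZ
      subst hZ
      rw [← hY]
      exact IsHomeomorph.topologicalKrullDim_eq _ (Homeomorph.Set.univ ↥Y).isHomeomorph
    have h1 := Groth.Agent.Helper16.CotSmoothSch.fibreDimAt_eq_of_flat_equidim k qY f
      (dY + n) dY hXe hYd x
    rw [h1]
    congr 2
    omega

end Groth.Agent.S10936
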