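import Groth.Statements.S10944
import Mathlib.AlgebraicGeometry.Morphisms.UniversallyOpen
import Groth.Agent.Lib.Helper2.GenericPts
-- import your own Groth.Agent.* helpers here

set_option autoImplicit false
universe u
open CategoryTheory AlgebraicGeometry
open FlatMor

namespace Groth.Agent.S10944

section
open CategoryTheory AlgebraicGeometry TopologicalSpace Limits

theorem main {X Y : Scheme.{u}} (f : X ⟶ Y) [Flat f]
    (Y' : Set ↥Y) (hY' : Y' ∈ irreducibleComponents ↥Y) :
    f.base ⁻¹' Y' = ⋃₀ {Z : Set ↥X | Z ∈ irreducibleComponents ↥X ∧ f.base '' Z ⊆ Y'} := by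
  apply Set.Subset.antisymm
  · intro x hx
    have hx' : f x ∈ Y' := hx
    obtain ⟨η', hη'⟩ := QuasiSober.sober hY'.1 (isClosed_of_mem_irreducibleComponents Y' hY')
    have hcl : closure ({η'} : Set Y) = Y' := hη'.def
    have h1 : η' ⤳ f x := by
      rw [specializes_iff_mem_closure, hcl]
      exact hx'
    obtain ⟨ξ, hξx, hξ⟩ := (Flat.generalizingMap f) h1
    have hZ : irreducibleComponent ξ ∈ irreducibleComponents X :=
      irreducibleComponent_mem_irreducibleComponents ξ
    obtain ⟨ζ, hζ⟩ := QuasiSober.sober (isIrreducible_irreducibleComponent (x := ξ))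
      (isClosed_irreducibleComponent (x := ξ))
    have h2 : ζ ⤳ ξ := by
      rw [specializes_iff_mem_closure, hζ.def]
      exact mem_irreducibleComponent
    have h3 : f ζ ⤳ η' := by
      have := h2.map f.continuous
      rw [hξ] at this
      exact this
    have h4 : f ζ = η' :=
      Groth.Agent.Helper2.GenericPts.eq_of_specializes_of_mem_irreducibleComponents
        (by rw [hcl]; exact hY') h3
    refine ⟨irreducibleComponent ξ, ⟨hZ, ?_⟩, ?_⟩
    · rw [← hζ.def]
      refine (image_closure_subset_closure_image f.continuous).trans ?_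
      rw [Set.image_singleton]
      change closure {f ζ} ⊆ Y'
      rw [h4, hcl]
    · exact (isClosed_irreducibleComponent (x := ξ)).closure_subset_iff.mpr
        (Set.singleton_subset_iff.mpr mem_irreducibleComponent)
        (specializes_iff_mem_closure.mp hξx)
  · rintro x ⟨Z, ⟨-, hZ⟩, hxZ⟩
    exact hZ ⟨x, hxZ, rfl⟩

end

/-- Let f : X → Y be a flat morphism of Noetherian schemes and Y' an irreducible component of Y. Then
f⁻¹(Y') is the union of the irreducible components Z of X with f(Z) ⊆ Y'. -/
theorem result {X Y : Scheme.{u}}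
    [IsNoetherian X] [IsNoetherian Y] (f : X ⟶ Y) [Flat f]
    (Y' : Set ↥Y) (hY' : Y' ∈ irreducibleComponents ↥Y) :
    f.base ⁻¹' Y' = ⋃₀ {Z : Set ↥X | Z ∈ irreducibleComponents ↥X ∧ f.base '' Z ⊆ Y'} := by
  exact Groth.Agent.S10944.main f Y' hY'

end Groth.Agent.S10944
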