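import Groth.Statements.S10945
import Mathlib
import Groth.Prelude.Def_Curv2
import Groth.Agent.Lib.Helper13.GlobGen
import Groth.Agent.Lib.Helper13.QCohStalk

set_option autoImplicit false
universe u
open CategoryTheory AlgebraicGeometry Opposite
open Coherent

namespace Groth.Agent.S10945

open CategoryTheory CategoryTheory.Limits Opposite TopologicalSpace AlgebraicGeometry

open Groth.Agent.Helper13.GlobGen Groth.Agent.Helper13.QCoh

/-- Let X be a scheme and 0 → F' → F → F'' → 0 a short exact sequence of O_X-modules whose map on global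
sections Γ(X, F) → Γ(X, F'') is surjective. If F' and F'' are generated by global sections (each is
a quotient of a free O_X-module), then F is generated by global sections. -/
theorem result (X : Scheme.{u})
    (S : ShortComplex X.Modules) (hS : S.ShortExact)
    (hsurj : Function.Surjective (S.g.val.app (op ⊤)).hom)
    (h1 : Curv2.IsGloballyGenerated S.X₁) (h3 : Curv2.IsGloballyGenerated S.X₃) :
    Curv2.IsGloballyGenerated S.X₂ := by
  rw [isGloballyGenerated_iff] at h1 h3 ⊢
  intro y
  have := hS.mono_f
  unfold GGAt at *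
  set N := Submodule.span (X.presheaf.stalk y)
    (Set.range fun t : Γ(S.X₂, ⊤) => S.X₂.presheaf.germ ⊤ y trivial t) with hN
  have hsurj' : ∀ s : Γ(S.X₃, ⊤), ∃ t : Γ(S.X₂, ⊤), S.g.app ⊤ t = s := hsurj
  -- every element of the stalk of `X₃` lifts to `N`
  have key3 : ∀ w ∈ Submodule.span (X.presheaf.stalk y)
      (Set.range fun t : Γ(S.X₃, ⊤) => S.X₃.presheaf.germ ⊤ y trivial t),
      ∃ n ∈ N, stalkMap S.g y n = w := by
    intro w hw
    induction hw using Submodule.span_induction with
    | mem w hw =>
      obtain ⟨s, rfl⟩ := hw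
      obtain ⟨t, rfl⟩ := hsurj' s
      exact ⟨_, Submodule.subset_span ⟨t, rfl⟩, stalkMap_germ S.g y ⊤ trivial t⟩
    | zero => exact ⟨0, N.zero_mem, map_zero _⟩
    | add a b _ _ ha hb =>
      obtain ⟨n, hn, rfl⟩ := ha
      obtain ⟨m, hm, rfl⟩ := hb
      exact ⟨n + m, N.add_mem hn hm, map_add _ _ _⟩
    | smul r a _ ha =>
      obtain ⟨n, hn, rfl⟩ := ha
      exact ⟨r • n, N.smul_mem r hn, stalkMap_smul S.g y r n⟩
  -- the image of the stalk of `X₁` lies in `N`
  have key1 : ∀ w ∈ Submodule.span (X.presheaf.stalk y)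
      (Set.range fun t : Γ(S.X₁, ⊤) => S.X₁.presheaf.germ ⊤ y trivial t),
      stalkMap S.f y w ∈ N := by
    intro w hw
    induction hw using Submodule.span_induction with
    | mem w hw =>
      obtain ⟨s, rfl⟩ := hw
      rw [stalkMap_germ]
      exact Submodule.subset_span ⟨_, rfl⟩
    | zero => rw [map_zero]; exact N.zero_mem
    | add a b _ _ ha hb => rw [map_add]; exact N.add_mem ha hb
    | smul r a _ ha => rw [stalkMap_smul]; exact N.smul_mem r ha
  rw [eq_top_iff]
  intro z _
  obtain ⟨n, hn, hnz⟩ := key3 (stalkMap S.g y z) (by rw [h3 y]; trivial)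
  have hker : stalkMap S.g y (z - n) = 0 := by rw [map_sub, hnz, sub_self]
  obtain ⟨w, hw⟩ := stalk_exact_of_exact_of_mono S hS.exact y (z - n) hker
  have hwN := key1 w (by rw [h1 y]; trivial)
  rw [hw] at hwN
  have : z = (z - n) + n := by abel
  rw [this]
  exact N.add_mem hwN hn

end Groth.Agent.S10945
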