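import Groth.Statements.S10947
import Mathlib
import Groth.Agent.S0016
import Groth.Agent.Lib.Helper13.ResAmple
import Groth.Agent.Lib.Helper13.PbAmple
import Groth.Agent.Lib.Helper13.QAffAcyc
import Groth.Agent.Lib.Helper13.ResFinLocFree
import Groth.Agent.Lib.Helper13.LocFree2
import Groth.Agent.Lib.Lead.KerFree2
import Groth.Agent.Lib.Helper28.TwistGen
import Groth.Agent.Lib.Helper22.ProjDim2
import Groth.Agent.Lib.Helper15.ProjSpaceProper

set_option autoImplicit false
universe u
open CategoryTheory AlgebraicGeometry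
open Coherent

namespace Groth.Agent.S10947

/-- Let k be a field and X a quasi-projective scheme over k, given with an immersion ι : X → P^N_k into
a projective space. If n is a natural number with H^i(X, E) = 0 for all finite locally free
O_X-modules E and all i > n, then H^i(X, F) = 0 for all coherent O_X-modules F (quasi-coherent of
finite type) and all i > n. -/
theorem result
    (k : Type u) [Field k] (N : ℕ) {X : Scheme.{u}} (ι : X ⟶ CohB1.ProjSpace N k) [IsImmersion ι]
    (n : ℕ) (h : ∀ E : X.Modules, FlatMod.IsFinLocFree E → ∀ i : ℕ, n < i → Subsingleton (Coh.HH X E i))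
    (F : X.Modules) (hF : Coh.IsCoh F) (i : ℕ) (hi : n < i) :
    Subsingleton (Coh.HH X F i) := by
  classical
  haveI hPft : LocallyOfFiniteType (CohB1.ProjSpace.toSpec N k) := inferInstance
  haveI hPln : IsLocallyNoetherian (CohB1.ProjSpace N k) :=
    LocallyOfFiniteType.isLocallyNoetherian (CohB1.ProjSpace.toSpec N k)
  haveI hPc : CompactSpace (CohB1.ProjSpace N k) :=
    QuasiCompact.compactSpace_of_compactSpace (CohB1.ProjSpace.toSpec N k)
  haveI hPn : IsNoetherian (CohB1.ProjSpace N k) := {}
  haveI hXln : IsLocallyNoetherian X := LocallyOfFiniteType.isLocallyNoetherian ι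
  haveI hXns : TopologicalSpace.NoetherianSpace X := ι.isEmbedding.isInducing.noetherianSpace
  haveI hXc : CompactSpace X := inferInstance
  -- O(1) is ample on projective space
  have hcov : ∀ x : Proj (CohB1.polyGrading N k),
      ∃ g ∈ CohB1.polyGrading N k 1, g ∉ x.asHomogeneousIdeal := by
    intro x
    by_contra hcon
    push_neg at hcon
    have hXx : ∀ j, (MvPolynomial.X j - MvPolynomial.C ((0 : Fin (N + 1) → k) j) :
        MvPolynomial (Fin (N + 1)) k) ∈ x.asHomogeneousIdeal.toIdeal := by
      intro j
      rw [Pi.zero_apply, MvPolynomial.C_0, sub_zero]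
      exact hcon _ ((MvPolynomial.mem_homogeneousSubmodule 1 (MvPolynomial.X j)).mpr
        (MvPolynomial.isHomogeneous_X k j))
    have hle := Groth.Agent.Helper22.RegPt.ker_eval_le (0 : Fin (N + 1) → k)
      x.asHomogeneousIdeal.toIdeal hXx
    have hmax : (RingHom.ker (MvPolynomial.eval (0 : Fin (N + 1) → k))).IsMaximal :=
      RingHom.ker_isMaximal_of_surjective _ (fun r => ⟨MvPolynomial.C r, by simp⟩)
    have hX : ∀ j, (MvPolynomial.X j - MvPolynomial.C ((0 : Fin (N + 1) → k) j) :
        MvPolynomial (Fin (N + 1)) k) ∈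
        (HomogeneousIdeal.irrelevant (CohB1.polyGrading N k)).toIdeal := by
      intro j
      rw [Pi.zero_apply, MvPolynomial.C_0, sub_zero]
      exact HomogeneousIdeal.mem_irrelevant_of_mem (CohB1.polyGrading N k) one_pos
        ((MvPolynomial.mem_homogeneousSubmodule 1 (MvPolynomial.X j)).mpr
          (MvPolynomial.isHomogeneous_X k j))
    have hle2 := Groth.Agent.Helper22.RegPt.ker_eval_le (0 : Fin (N + 1) → k) _ hX
    have hne : (HomogeneousIdeal.irrelevant (CohB1.polyGrading N k)).toIdeal ≠ ⊤ :=
      (Groth.Agent.Helper22.ProjDim.polyFacts k N).hmax.ne_top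
    have heq := hmax.eq_of_le hne hle2
    refine x.not_irrelevant_le fun z hz => ?_
    have hz' : z ∈ (HomogeneousIdeal.irrelevant (CohB1.polyGrading N k)).toIdeal := hz
    rw [← heq] at hz'
    exact hle hz'
  haveI hPc' : CompactSpace (Proj (CohB1.polyGrading N k)) := hPc
  have hO1 : CohB1.IsAmple (Twist.twistProjSpace N k 1) :=
    Groth.Agent.Helper28.TwistMul.twist_one_isAmple' (CohB1.polyGrading N k) hcov
  have hL : CohB1.IsAmple ((Scheme.Modules.pullback ι).obj (Twist.twistProjSpace N k 1)) :=
    Groth.Agent.Helper13.PbAmple.isAmple_pullback_of_isEmbedding ι _ ι.isEmbedding hO1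
  have hres := Groth.Agent.Helper13.ResAmple.hasResolutionProperty_of_isAmple _ hL
  obtain ⟨d, hd⟩ := Groth.Agent.S0016.result X
  have key : ∀ m : ℕ, ∀ j : ℕ, n < j → d ≤ j + m → ∀ G : X.Modules, Coh.IsCoh G →
      Subsingleton (Coh.HH X G j) := by
    intro m
    induction m with
    | zero =>
      intro j _ hdj G hG
      exact hd G hG.1 j (by simpa using hdj)
    | succ m ih =>
      intro j hj hdj G hG
      obtain ⟨E, π, hE, hπ⟩ := hres G hG.1 hG.2
      haveI := hπ
      haveI hEq : E.IsQuasicoherent :=
        Groth.Agent.Helper13.ResFinLocFree.isQuasicoherent_of_isFinLocFree E hE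
      haveI hEfp : SheafOfModules.IsFinitePresentation (R := X.ringCatSheaf) E :=
        Groth.Agent.Helper13.LocFree.isFinitePresentation_of_isFinLocFree E hE
      have hEcoh : Coh.IsCoh E := ⟨hEq, inferInstance⟩
      have hK : Coh.IsCoh (Limits.kernel π) := Groth.Agent.Lead.KerFree.isCoh_kernel hEcoh hG π
      have hS : (ShortComplex.mk (Limits.kernel.ι π) π (Limits.kernel.condition π)).ShortExact :=
        { exact := ShortComplex.exact_of_f_is_kernel _ (Limits.kernelIsKernel π) }
      exact Groth.Agent.Helper13.QAffAcyc.HH_right _ hS j (h E hE j hj)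
        (ih (j + 1) (by omega) (by omega) _ hK)
  exact key d i hi (by omega) F hF

end Groth.Agent.S10947
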