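import Groth.Statements.S10953
-- import your own Groth.Agent.* helpers here

set_option autoImplicit false
universe u
open RedSep

namespace Groth.Agent.S10953

section
open CategoryTheory AlgebraicGeometry Limits

theorem main {X S : Scheme.{u}} [IsAffine S] (f : X ⟶ S)
    (h : ∀ x y : X, f x = f y → ∃ U : X.Opens, IsAffineOpen U ∧ x ∈ U ∧ y ∈ U) :
    IsSeparated f := by
  constructor
  -- the maps j_U
  let j : ∀ U : X.Opens, pullback (U.ι ≫ f) (U.ι ≫ f) ⟶ pullback f f := fun U =>
    pullback.map (U.ι ≫ f) (U.ι ≫ f) f f U.ι U.ι (𝟙 S) (by simp) (by simp)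
  have hrange : ∀ U : X.Opens, Set.range (j U) =
      pullback.fst f f ⁻¹' (U : Set X) ∩ pullback.snd f f ⁻¹' (U : Set X) := by
    intro U
    have := Scheme.Pullback.range_map (f := U.ι ≫ f) (g := U.ι ≫ f) f f U.ι U.ι (𝟙 S)
      (by simp) (by simp)
    simpa using this
  let 𝒲 : (pullback f f).OpenCover :=
    Scheme.Cover.mkOfCovers (↥X.affineOpens) (fun U => pullback (U.1.ι ≫ f) (U.1.ι ≫ f))
      (fun U => j U.1)
      (by
        intro z
        have hz : f (pullback.fst f f z) = f (pullback.snd f f z) := by
          rw [← Scheme.Hom.comp_apply, ← Scheme.Hom.comp_apply, pullback.condition]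
        obtain ⟨U, hU, h1, h2⟩ := h _ _ hz
        have : z ∈ Set.range (j U) := by
          rw [hrange U]; exact ⟨h1, h2⟩
        obtain ⟨y, hy⟩ := this
        exact ⟨⟨U, hU⟩, y, hy⟩)
      (fun U => by dsimp only [j]; infer_instance)
  refine IsZariskiLocalAtTarget.of_openCover (P := @IsClosedImmersion) 𝒲 (fun U => ?_)
  change IsClosedImmersion (pullback.snd (pullback.diagonal f) (j U.1))
  have hpb : IsPullback (pullback.diagonal (U.1.ι ≫ f)) U.1.ι (j U.1) (pullback.diagonal f) := by
    apply IsOpenImmersion.isPullback
    · have e1 : j U.1 ≫ pullback.fst f f = pullback.fst _ _ ≫ U.1.ι := pullback.lift_fst _ _ _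
      have e2 : j U.1 ≫ pullback.snd f f = pullback.snd _ _ ≫ U.1.ι := pullback.lift_snd _ _ _
      apply pullback.hom_ext
      · rw [Category.assoc, Category.assoc, e1, pullback.diagonal_fst, Category.comp_id,
          pullback.diagonal_fst_assoc]
      · rw [Category.assoc, Category.assoc, e2, pullback.diagonal_snd, Category.comp_id,
          pullback.diagonal_snd_assoc]
    · ext x
      simp only [TopologicalSpace.Opens.map_coe, Set.mem_preimage, SetLike.mem_coe,
        Scheme.Opens.opensRange_ι]
      have h1 : (j U.1).opensRange.1 = Set.range (j U.1) := rfl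
      change pullback.diagonal f x ∈ (j U.1).opensRange.1 ↔ _
      rw [h1, hrange]
      simp only [Set.mem_inter_iff, Set.mem_preimage, SetLike.mem_coe,
        ← Scheme.Hom.comp_apply, pullback.diagonal_fst, pullback.diagonal_snd]
      simp
  haveI : IsAffineHom (U.1.ι ≫ f) := by
    haveI : IsAffine U.1.toScheme := U.2
    infer_instance
  have := hpb.flip.isoPullback_hom_snd
  rw [← Iso.eq_inv_comp] at this
  rw [this]
  infer_instance

end

open AlgebraicGeometry CategoryTheory in
/-- For a morphism of schemes f : X → S to an affine scheme S such that any two points of X with the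
same image in S lie in one common affine open subset of X, the morphism f is separated. -/
theorem result {X S : Scheme.{u}} [IsAffine S] (f : X ⟶ S)
    (h : ∀ x y : X, f x = f y → ∃ U : X.Opens, IsAffineOpen U ∧ x ∈ U ∧ y ∈ U) :
    IsSeparated f := by
  exact Groth.Agent.S10953.main f h

end Groth.Agent.S10953
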