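import Groth.Statements.S10954
import Mathlib
import Groth.Agent.Lib.Helper13.SerreCrit3

set_option autoImplicit false
universe u
open Coherent

namespace Groth.Agent.S10954

open AlgebraicGeometry CategoryTheory CategoryTheory.Limits Opposite TopologicalSpace
open Groth.Agent.Helper13.QCoh Groth.Agent.Helper13.FinType Groth.Agent.Helper13.VanishIdeal
open Groth.Agent.Helper13.LocFree Groth.Agent.Helper13.SerreCrit

open AlgebraicGeometry CategoryTheory CategoryTheory.Limits Opposite in
/-- Let X be a quasi-compact scheme such that, for every short exact sequence 0 → F' → F → F'' → 0 of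
quasi-coherent O_X-modules whose first term F' admits a monomorphism into a finite direct sum of
copies of O_X, taking global sections gives a surjection F(X) → F''(X). Then X is affine. (The
published statement is an equivalence of three conditions on a quasi-compact scheme; this row states
the implication from exactness of global sections on such sequences to affineness.) -/
theorem result (X : Scheme.{u}) [CompactSpace X]
    (h : ∀ (S : ShortComplex X.Modules) (n : ℕ)
      (j : S.X₁ ⟶ ∏ᶜ (fun _ : Fin n => Coh.structureModule X)),
      S.ShortExact → Mono j → Coh.IsQCoh S.X₁ → Coh.IsQCoh S.X₂ → Coh.IsQCoh S.X₃ →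
        Function.Surjective (S.g.val.app (op ⊤)).hom) :
    IsAffine X := by
  haveI : (Coh.structureModule X).IsQuasicoherent := isQuasicoherent_unit _
  apply isAffine_of_surjective
  · intro Z x hx hxZ
    haveI := isClosedImmersion_fromSpecResidueField x hx
    let i := (Scheme.IdealSheafData.vanishingIdeal Z).subschemeι
    let j := X.fromSpecResidueField x
    have hri : Set.range i = (Z : Set X) := by
      rw [Scheme.IdealSheafData.range_subschemeι, Scheme.IdealSheafData.coe_support_vanishingIdeal]
    have hcl : IsClosed (Set.range i) := hri ▸ Z.isClosed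
    have hdisj : Disjoint (Set.range i) (Set.range j) := by
      rw [hri, Scheme.range_fromSpecResidueField]
      exact Set.disjoint_singleton_right.2 hxZ
    haveI : (Coh.structureModule (Spec (X.residueField x))).IsQuasicoherent :=
      isQuasicoherent_unit _
    haveI : (idealMod i).IsQuasicoherent := isQuasicoherent_idealMod i
    haveI : ((Scheme.Modules.pushforward j).obj
        (Coh.structureModule (Spec (X.residueField x)))).IsQuasicoherent :=
      Groth.Agent.Helper13.Qcqs.isQuasicoherent_pushforward_of_qcqs j _
    haveI : Epi (idealι i ≫ sharp j) := epi_ev i hcl j hdisj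
    let d : Coh.structureModule X ⟶ ∏ᶜ (fun _ : Fin 1 => Coh.structureModule X) :=
      Pi.lift (fun _ => 𝟙 _)
    have hd : d ≫ Pi.π (fun _ : Fin 1 => Coh.structureModule X) 0 = 𝟙 _ := Pi.lift_π _ _
    haveI : Mono d := (SplitMono.mk (Pi.π (fun _ : Fin 1 => Coh.structureModule X) 0) hd).mono
    haveI : Mono (idealι i ≫ d) := mono_comp _ _
    haveI hk : Mono (kernel.ι (idealι i ≫ sharp j)) := equalizer.ι_mono
    have hm : Mono (kernel.ι (idealι i ≫ sharp j) ≫ idealι i ≫ d) := mono_comp _ _
    exact h (kerSC (idealι i ≫ sharp j)) 1 (kernel.ι (idealι i ≫ sharp j) ≫ idealι i ≫ d)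
      (kerSC_shortExact _) hm
      (Groth.Agent.Helper13.QCohLocal.isQuasicoherent_kernel (idealι i ≫ sharp j))
      (isQuasicoherent_idealMod i)
      (Groth.Agent.Helper13.Qcqs.isQuasicoherent_pushforward_of_qcqs j _)
  · intro n f hcov _
    apply span_eq_top_of_surjective
    haveI := epi_descSec_of_cover f hcov
    obtain ⟨p, hp⟩ : ∃ p : (∏ᶜ (fun _ : Fin n => Coh.structureModule X)) ⟶ Coh.structureModule X,
        p = (prodIsoFreeMod (X := X) n).hom ≫
          descSec (Coh.structureModule X) (fun k => toO ⊤ (f k)) := ⟨_, rfl⟩
    haveI : Epi p := by rw [hp]; infer_instance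
    have hs := h (kerSC p) n (kernel.ι p) (kerSC_shortExact p)
      (inferInstanceAs (Mono (kernel.ι p)))
      (Groth.Agent.Helper13.QCohLocal.isQuasicoherent_kernel p) (isQuasicoherent_prod n)
      (isQuasicoherent_unit _)
    subst hp
    intro t
    obtain ⟨s, hs'⟩ := hs t
    exact ⟨(prodIsoFreeMod (X := X) n).hom.app ⊤ s, hs'⟩

end Groth.Agent.S10954
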