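import Groth.Statements.S10966
import Mathlib
import Mathlib
import Groth.Agent.Lib.Helper28.VeryAmpleAmple
import Groth.Agent.Lib.Helper13.AmpleQA


set_option autoImplicit false
universe u
open CategoryTheory CategoryTheory.Limits AlgebraicGeometry
open RelAmple

namespace Groth.Agent.S10966

/-- Let R be a nonzero ring and X an affine scheme of finite type over R, with structure morphism q : X
→ Spec R. Then every invertible O_X-module L is very ample relative to q: there are a natural number
n and an immersion i : X → P^n over Spec R, compatible with q, such that i^*O(1) ≅ L. -/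
theorem result (R : Type u) [CommRing R] [Nontrivial R]
    {X : Scheme.{u}} [IsAffine X] (q : X ⟶ Spec (CommRingCat.of R)) [LocallyOfFiniteType q]
    (L : X.Modules) (hL : PicF.IsInvertible L) :
    RelAmple.IsRelVeryAmplePn q L := by
  haveI : X.IsQuasiAffine := inferInstance
  have hO : CohB1.IsAmple (Coh.structureModule X) :=
    Groth.Agent.Helper13.GenLoc.isAmple_of_isQuasiAffine _
      Groth.Agent.Helper13.Inv.isInvertible_structureModule
  obtain ⟨n₀, hn₀⟩ := Groth.Agent.Helper28.VeryAmpleAmple.eventually_veryAmple q
    (Coh.structureModule X) L hO hL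
  exact Groth.Agent.Helper28.VeryAmpleAmple.isRelVeryAmplePn_of_iso q
    (Groth.Agent.Helper13.Tensor.mapIso (Groth.Agent.Helper13.Tensor.powUnit n₀) (Iso.refl L) ≪≫
      Groth.Agent.Helper13.Tensor.lid L) (hn₀ n₀ le_rfl)


end Groth.Agent.S10966
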