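import Groth.Statements.S10967
import Mathlib
import Groth.Agent.Lib.Helper13.QAffRel

set_option autoImplicit false
universe u
open CategoryTheory AlgebraicGeometry TopologicalSpace
open MoreMor

namespace Groth.Agent.S10967

open CategoryTheory CategoryTheory.Limits AlgebraicGeometry Opposite TopologicalSpace
open Groth.Agent.Helper13.Ample Groth.Agent.Helper13.Inv Groth.Agent.Helper13.GenLoc

/-- Quasi-affine over an affine base: call a morphism f : X → Y quasi-affine when Y has a cover by
affine opens V_i whose preimages f⁻¹(V_i) are quasi-affine schemes (quasi-compact open subschemes of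
affine schemes; equivalently quasi-compact with X → Spec Γ(X, O_X) an immersion). If Y is affine and
f is quasi-affine in this sense, then X is a quasi-affine scheme. -/
theorem result {X Y : Scheme.{u}} [IsAffine Y]
    (f : X ⟶ Y) {ι : Type u} (V : ι → Y.Opens) (hV : iSup V = ⊤) (hVa : ∀ i, IsAffineOpen (V i))
    (hq : ∀ i, Scheme.IsQuasiAffine (↑(f ⁻¹ᵁ V i) : Scheme.{u})) :
    X.IsQuasiAffine := by
  -- X is compact
  haveI : CompactSpace X := by
    obtain ⟨T, hT⟩ := isCompact_univ.elim_finite_subcover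
      (fun i : ι => ((V i : Y.Opens) : Set Y)) (fun i => (V i).2)
      (fun y _ => by
        have : y ∈ (iSup V : Y.Opens) := by rw [hV]; trivial
        obtain ⟨i, hi⟩ := Opens.mem_iSup.1 this
        exact Set.mem_iUnion.2 ⟨i, hi⟩)
    rw [← isCompact_univ_iff]
    have hcov : (Set.univ : Set X) ⊆ ⋃ i ∈ T, ((f ⁻¹ᵁ V i : X.Opens) : Set X) := by
      intro x _
      have := hT (Set.mem_univ (f x))
      simp only [Set.mem_iUnion] at this ⊢
      obtain ⟨i, hi, hx⟩ := this
      exact ⟨i, hi, hx⟩
    refine IsCompact.of_isClosed_subset (T.isCompact_biUnion fun i _ => ?_) isClosed_univ hcov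
    haveI := hq i
    exact isCompact_iff_compactSpace.2 (inferInstance : CompactSpace ((f ⁻¹ᵁ V i : X.Opens) : Scheme.{u}))
  haveI : QuasiCompact f := inferInstance
  have h1 : CohB1.IsAmple ((Coh.structureModule X).restrict (f ⁻¹ᵁ (⊤ : Y.Opens)).ι) := by
    apply isAmple_restrict_preimage_of_local f _ ⊤ (isAffineOpen_top Y)
    intro y _
    have : y ∈ (iSup V : Y.Opens) := by rw [hV]; trivial
    obtain ⟨i, hi⟩ := Opens.mem_iSup.1 this
    haveI := hq i
    exact ⟨f ⁻¹ᵁ V i, V i, hi, le_rfl,
      isAmple_of_isQuasiAffine _ (isInvertible_restrict _ _ isInvertible_structureModule)⟩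
  have h2 : Scheme.IsQuasiAffine ((f ⁻¹ᵁ (⊤ : Y.Opens) : X.Opens) : Scheme.{u}) :=
    isQuasiAffine_of_isAmple_structureModule
      (isAmple_of_iso (Scheme.Modules.restrictUnitIso _) h1)
  haveI := h2
  have h3 : Scheme.IsQuasiAffine ((⊤ : X.Opens) : Scheme.{u}) := h2
  haveI := h3
  exact Scheme.IsQuasiAffine.of_isAffineHom X.topIso.inv

end Groth.Agent.S10967
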