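import Groth.Statements.S10972
import Groth.Agent.Lib.Helper16.FF.Exists

set_option autoImplicit false
open FunFld

namespace Groth.Agent.S10972

/-- A nonconstant element of a function field of one variable has at least one zero and at least one
pole. -/
theorem result (k K : Type*) [Field k] [Field K] [Algebra k K]
    (hK : FunFld.IsFunctionField k K) (x : K) (hx : x ∉ Set.range (algebraMap k K)) :
    (∃ P : FunFld.Place k K, 0 < P.ord x) ∧ ∃ Q : FunFld.Place k K, Q.ord x < 0 := by
  have hx' := Groth.Agent.Helper16.FF.transcendental_of_not_mem_range hK hx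
  have hx0 : x ≠ 0 := fun h => hx' (h ▸ isAlgebraic_zero)
  obtain ⟨P, hP⟩ := Groth.Agent.Helper16.FF.exists_zero hK hx'
  obtain ⟨Q, hQ⟩ := Groth.Agent.Helper16.FF.exists_pole hK hx'
  refine ⟨⟨P, Groth.Agent.Helper16.FF.Place.ord_pos_of_val_lt_one P hx0 hP⟩, ⟨Q, ?_⟩⟩
  have hx0' : Q.1 x ≠ 0 := by simpa using hx0
  have h1 : (0 : ℤ) < WithZero.log (Q.1 x) := by
    rw [← WithZero.log_one]
    exact (WithZero.log_lt_log one_ne_zero hx0').2 hQ
  show -WithZero.log (Q.1 x) < 0
  omega

end Groth.Agent.S10972
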