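import Groth.Statements.S11000
import Groth.Agent.Lib.Helper16.FF.GeoB

set_option autoImplicit false
universe u v
open FunFld

namespace Groth.Agent.S11000

/-- Over a perfect ground field every function field of one variable is geometric (`k' ⊗_k K` is a field
for all finite `k'/k`). -/
theorem result (k : Type u) (K : Type v) [Field k] [Field K] [Algebra k K] [PerfectField k]
    (hK : FunFld.IsFunctionField k K) : FunFld.IsGeometric k K := by
  intro k' _ _ hfd
  have : FiniteDimensional k k' := hfd
  have : Algebra.IsSeparable k k' := Algebra.IsAlgebraic.isSeparable_of_perfectField
  exact Groth.Agent.Helper16.FF.isField_tensor_of_separable hK.2 k'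

end Groth.Agent.S11000
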