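import Groth.Statements.S1101
import Groth.Agent.Lib.Helper5.FBR5
import Groth.Agent.Lib.Helper5.BCF5

set_option autoImplicit false
universe u
open CategoryTheory CategoryTheory.Limits AlgebraicGeometry Opposite
attribute [local instance] HasDerivedCategory.standard
open Perf

namespace Groth.Agent.S1101

/-- Let f : X ⟶ S be flat and locally of finite presentation and E a pseudo-coherent object of D(O_X).
Assume restrictions to opens are exact and the derived pullbacks to the fibres X_s exist. Then E is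
S-perfect (locally of finite tor dimension over S in the flat-representative form) if and only if E
is locally bounded below on X and, for every s ∈ S, the derived pullback of E to the fibre X_s is
locally bounded below on X_s. -/
theorem result {X S : Scheme.{u}} (f : X ⟶ S) [Flat f] [LocallyOfFinitePresentation f]
    [∀ (Y : Scheme.{u}) (V : Y.Opens), PreservesFiniteLimits (Scheme.Modules.restrictFunctor V.ι)]
    [∀ s : S, DCoh.HasLpull (f.fiberι s)]
    (E : DCoh.D X) (hE : ∀ m : ℤ, DCoh.IsPseudoCoherentD m E) :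
    DCoh.LocHasFiniteRelTorDim f E ↔
      ((∀ x : X, ∃ (V : X.Opens) (a : ℤ), x ∈ V ∧ ((DCoh.restrictD V.ι).obj E).IsGE a) ∧
       ∀ (s : S) (y : ↥(f.fiber s)), ∃ (W : (f.fiber s).Opens) (a : ℤ), y ∈ W ∧
         ((DCoh.restrictD W.ι).obj ((DCoh.Lpull (f.fiberι s)).obj E)).IsGE a) := by
  have hbdd : ∀ {Y T : Scheme.{u}} (g : Y ⟶ T) (K : DCoh.D Y),
      DCoh.LocHasFiniteRelTorDim g K →
      ∀ y : Y, ∃ (V : Y.Opens) (a : ℤ), y ∈ V ∧ ((DCoh.restrictD V.ι).obj K).IsGE a := by
    intro Y T g K hK y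
    obtain ⟨V, a, b, hyV, hV⟩ := hK y
    obtain ⟨N, hNv, hNf, ⟨eN⟩⟩ := hV (DerivedCategory.Q.objPreimage K)
      ⟨DerivedCategory.Q.objObjPreimageIso K⟩
    refine ⟨V, a, hyV, ?_⟩
    have e : DerivedCategory.Q.obj N ≅ (DCoh.restrictD V.ι).obj K :=
      eN ≪≫ ((Scheme.Modules.restrictFunctor V.ι).mapDerivedCategoryFactors.app _).symm ≪≫
        (DCoh.restrictD V.ι).mapIso (DerivedCategory.Q.objObjPreimageIso K)
    haveI : N.IsStrictlyGE a := by
      rw [CochainComplex.isStrictlyGE_iff]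
      intro i hi
      exact hNv i (Or.inl hi)
    haveI : (DerivedCategory.Q.obj N).IsGE a := inferInstance
    exact DerivedCategory.TStructure.t.isGE_of_iso e a
  constructor
  · intro hK
    refine ⟨fun x => hbdd f E hK x, fun s y => ?_⟩
    have hc : IsPullback (f.fiberι s) (f.fiberToSpecResidueField s) f
        (S.fromSpecResidueField s) := IsPullback.of_hasPullback _ _
    exact hbdd _ _
      (Groth.Agent.Helper5.BCF.locHasFiniteRelTorDim_Lpull_of_isPullback hc E hK) y
  · rintro ⟨h1, h2⟩ x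
    obtain ⟨G, hG, ⟨eG⟩⟩ := Groth.Agent.Helper5.LDer.exists_kflat_repr E
    obtain ⟨V₀, a₀, hxV₀, hge₀⟩ := h1 x
    obtain ⟨W, a₁, hyW, hge₁⟩ := h2 (f.base x) (f.asFiber x)
    have hpc : Groth.Agent.Helper5.PCT.PCAt (min a₀ a₁ - 2) (DerivedCategory.Q.obj G) x :=
      Groth.Agent.Helper5.PCT.pcAt_of_iso eG.symm (hE (min a₀ a₁ - 2) x)
    have hex : ∀ i : ℤ, i < min a₀ a₁ → ((DCoh.restrictCx V₀).obj G).ExactAt i := fun i hi =>
      Groth.Agent.Helper5.FBR.exactAt_restrict_of_isGE E G eG V₀ a₀ hge₀ i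
        (lt_of_lt_of_le hi (min_le_left _ _))
    have hfib : ∀ y : f.fiber (f.base x), (f.fiberι (f.base x)).base y = x →
        Groth.Agent.Helper5.FBR.StalkZ
          (((Scheme.Modules.pullback (f.fiberι (f.base x))).mapHomologicalComplex
            (ComplexShape.up ℤ)).obj G) (min a₀ a₁ - 1) y := by
      intro y hy
      have hyeq : y = f.asFiber x :=
        (f.fiberι (f.base x)).isEmbedding.injective (hy.trans (f.fiberι_asFiber x).symm)
      subst hyeq
      exact Groth.Agent.Helper5.FBR.stalkZ_pullback_of_isGE (f.fiberι (f.base x)) E G hG eG W a₁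
        hge₁ (min a₀ a₁ - 1) (by have := min_le_right a₀ a₁; omega) _ hyW
    obtain ⟨W', b', hxW', hamp⟩ := Groth.Agent.Helper5.FBR.exists_relFlatAmplitude_of_fibre f G hG
      (min a₀ a₁) x hpc V₀ hxV₀ hex hfib
    refine ⟨W', min a₀ a₁, b', hxW', fun F' ⟨eF'⟩ => ?_⟩
    exact Groth.Agent.Helper5.BCF.hasRelFlatAmplitudeIn_of_iso
      (Groth.Agent.Helper5.LDer.restrictQIso W'.ι (eG ≪≫ eF'.symm)) hamp

end Groth.Agent.S1101
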