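import Groth.Statements.S11015
import Groth.Agent.Lib.Helper16.FF.Deg

set_option autoImplicit false
open FunFld

namespace Groth.Agent.S11015

/-- For `x ≠ 0`, multiplication by `x` identifies `L(D + (x))` with `L(D)`; in particular `L(D₁) ≅
L(D₂)` for linearly equivalent divisors. -/
theorem result (k K : Type*) [Field k] [Field K] [Algebra k K]
    (hK : FunFld.IsFunctionField k K) (D : FunFld.Divisor k K) (x y : K) (hx : x ≠ 0) :
    x * y ∈ FunFld.L D ↔ y ∈ FunFld.L (D + FunFld.div k x) := by
  rw [Groth.Agent.Helper16.FF.mem_L, Groth.Agent.Helper16.FF.mem_L]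
  refine forall_congr' fun P => ?_
  rw [map_mul, Finsupp.add_apply, Groth.Agent.Helper16.FF.div_apply hK,
    Groth.Agent.Helper16.FF.Place.val_eq_exp_neg_ord P hx, WithZero.exp_add]
  have h1 : (WithZero.exp (P.ord x) : WithZero (Multiplicative ℤ)) * WithZero.exp (-P.ord x) = 1 := by
    rw [← WithZero.exp_add, add_neg_cancel, WithZero.exp_zero]
  have hpos : (0 : WithZero (Multiplicative ℤ)) < WithZero.exp (-P.ord x) := WithZero.exp_pos
  constructor
  · intro h
    calc P.1 y = WithZero.exp (P.ord x) * (WithZero.exp (-P.ord x) * P.1 y) := by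
          rw [← mul_assoc, h1, one_mul]
      _ ≤ WithZero.exp (P.ord x) * WithZero.exp (D P) := by gcongr
      _ = WithZero.exp (D P) * WithZero.exp (P.ord x) := mul_comm _ _
  · intro h
    calc WithZero.exp (-P.ord x) * P.1 y
        ≤ WithZero.exp (-P.ord x) * (WithZero.exp (D P) * WithZero.exp (P.ord x)) := by gcongr
      _ = WithZero.exp (D P) * (WithZero.exp (P.ord x) * WithZero.exp (-P.ord x)) := by
          rw [mul_comm (WithZero.exp (-P.ord x)), mul_assoc]
      _ = WithZero.exp (D P) := by rw [h1, mul_one]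

end Groth.Agent.S11015
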