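import Groth.Statements.S11017

set_option autoImplicit false
open FunFld

namespace Groth.Agent.S11017

/-- For a Weil differential `ω` with divisor `C`, `ord_P [ω] ≥ e` iff `ω` kills every repartition
concentrated at `P` with `P`-component of order at least `-e`. -/
theorem result (k K : Type*) [Field k] [Field K] [Algebra k K] (ω : Module.Dual k (FunFld.adele k K)) (C : FunFld.Divisor k K) (hω : FunFld.IsDivOf ω C)
    (P : FunFld.Place k K) (e : ℤ) :
    e ≤ C P ↔ ∀ (a : FunFld.Place k K → K) (ha : a ∈ FunFld.adele k K),
      (∀ Q, Q ≠ P → a Q = 0) → P.1 (a P) ≤ WithZero.exp e → ω ⟨a, ha⟩ = 0 := by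
  classical
  constructor
  · intro he a ha h0 hP
    have hC : ω ∈ FunFld.WD C := (hω C).mpr le_rfl
    rw [FunFld.WD, Submodule.mem_dualAnnihilator] at hC
    apply hC
    show a ∈ FunFld.AD C ⊔ LinearMap.range (FunFld.diag k K)
    apply Submodule.mem_sup_left
    intro Q
    by_cases hQ : Q = P
    · subst hQ
      exact hP.trans (WithZero.exp_le_exp.mpr he)
    · rw [h0 Q hQ]; simp
  · intro h
    by_contra hlt
    push Not at hlt
    -- E agrees with C away from P and has value e at P
    set E : FunFld.Divisor k K := C + Finsupp.single P (e - C P) with hE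
    have hEP : E P = e := by simp [hE]
    have hEQ : ∀ Q, Q ≠ P → E Q = C Q := by
      intro Q hQ
      simp [hE, Finsupp.single_apply, Ne.symm hQ]
    have hWE : ω ∈ FunFld.WD E := by
      have hC : ω ∈ FunFld.WD C := (hω C).mpr le_rfl
      rw [FunFld.WD, Submodule.mem_dualAnnihilator] at hC ⊢
      intro a ha
      have ha' : (a : FunFld.Place k K → K) ∈ FunFld.AD E ⊔ LinearMap.range (FunFld.diag k K) := ha
      rw [Submodule.mem_sup] at ha'
      obtain ⟨b, hb, c, hc, hbc⟩ := ha'
      have hb' : ∀ Q : FunFld.Place k K, Q.1 (b Q) ≤ WithZero.exp (E Q) := hb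
      -- b is an adele
      have hbad : b ∈ FunFld.adele k K := by
        show ∀ᶠ Q : FunFld.Place k K in Filter.cofinite, Q.1 (b Q) ≤ 1
        have hfin : (E.support : Set (FunFld.Place k K)).Finite := E.support.finite_toSet
        refine Filter.eventually_cofinite.mpr (hfin.subset ?_)
        intro Q hQ
        simp only [Set.mem_ofPred_eq] at hQ
        by_contra hns
        have : E Q = 0 := by simpa using hns
        have h1 := hb' Q
        rw [this] at h1
        exact hQ (by simpa using h1)
      have hcad : c ∈ FunFld.adele k K := by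
        have : c = a - b := by rw [← hbc]; abel
        rw [this]
        exact Submodule.sub_mem _ a.2 hbad
      set b₁ : FunFld.Place k K → K := fun Q => if Q = P then 0 else b Q with hb₁
      set b₂ : FunFld.Place k K → K := fun Q => if Q = P then b Q else 0 with hb₂
      have hb₁C : b₁ ∈ FunFld.AD C := by
        intro Q
        show Q.1 (b₁ Q) ≤ WithZero.exp (C Q)
        by_cases hQ : Q = P
        · simp [hb₁, hQ]
        · simp only [hb₁, hQ, if_false]
          rw [← hEQ Q hQ]; exact hb' Q
      have hb₁ad : b₁ ∈ FunFld.adele k K := by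
        show ∀ᶠ Q : FunFld.Place k K in Filter.cofinite, Q.1 (b₁ Q) ≤ 1
        have : ∀ᶠ Q : FunFld.Place k K in Filter.cofinite, Q.1 (b Q) ≤ 1 := hbad
        refine this.mono ?_
        intro Q hQ
        by_cases hQP : Q = P
        · simp [hb₁, hQP]
        · simpa [hb₁, hQP] using hQ
      have hb₂ad : b₂ ∈ FunFld.adele k K := by
        have : b₂ = b - b₁ := by
          funext Q
          by_cases hQP : Q = P <;> simp [hb₁, hb₂, hQP]
        rw [this]
        exact Submodule.sub_mem _ hbad hb₁ad
      have hsplit : a = (⟨b₁, hb₁ad⟩ : FunFld.adele k K) + ⟨b₂, hb₂ad⟩ + ⟨c, hcad⟩ := by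
        apply Subtype.ext
        show (a : FunFld.Place k K → K) = b₁ + b₂ + c
        rw [← hbc]
        congr 1
        funext Q
        by_cases hQP : Q = P <;> simp [hb₁, hb₂, hQP]
      rw [hsplit, map_add, map_add]
      have h1 : ω ⟨b₁, hb₁ad⟩ = 0 := by
        apply hC
        show b₁ ∈ FunFld.AD C ⊔ LinearMap.range (FunFld.diag k K)
        exact Submodule.mem_sup_left hb₁C
      have h2 : ω ⟨b₂, hb₂ad⟩ = 0 := by
        apply h b₂ hb₂ad
        · intro Q hQ; simp [hb₂, hQ]
        · have := hb' P
          rw [hEP] at this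
          simpa [hb₂] using this
      have h3 : ω ⟨c, hcad⟩ = 0 := by
        apply hC
        show c ∈ FunFld.AD C ⊔ LinearMap.range (FunFld.diag k K)
        exact Submodule.mem_sup_right hc
      rw [h1, h2, h3]; simp
    have hle : E ≤ C := (hω E).mp hWE
    have := hle P
    rw [hEP] at this
    exact absurd this (not_le.mpr hlt)

end Groth.Agent.S11017
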