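import Groth.Statements.S11019
import Groth.Agent.Lib.Helper16.FFW.Hyper2

set_option autoImplicit false
open FunFld

namespace Groth.Agent.S11019

/-- For `char k ≠ 2` and `K = k(x, y)` with `x` transcendental and `y² = f(x)`, `f` squarefree of degree
`≥ 1`: the field `k` is algebraically closed in `K` (whatever in `K` is algebraic over `k` lies in
`k`), and `K/k` is a function field of one variable. -/
theorem result (k K : Type*) [Field k] [Field K] [Algebra k K] (h2 : ringChar k ≠ 2) (x y : K) (hx : Transcendental k x)
    (hxy : IntermediateField.adjoin k ({x, y} : Set K) = ⊤)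
    (f : Polynomial k) (hf : Squarefree f) (hd : 1 ≤ f.natDegree)
    (heq : y ^ 2 = Polynomial.aeval x f) : FunFld.IsFunctionField k K := by
  classical
  open IntermediateField Polynomial in
  set F := IntermediateField.adjoin k ({x} : Set K) with hF
  have hxF : x ∈ F := IntermediateField.mem_adjoin_simple_self k x
  have hmemF : Polynomial.aeval x f ∈ F :=
    (IntermediateField.algebra_adjoin_le_adjoin k _) (Polynomial.aeval_mem_adjoin_singleton k x)
  have hint : IsIntegral F y := by
    refine ⟨Polynomial.X ^ 2 - Polynomial.C ⟨Polynomial.aeval x f, hmemF⟩,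
      Polynomial.monic_X_pow_sub_C _ (by norm_num), ?_⟩
    simp [heq]
  have htopF : IntermediateField.adjoin F ({y} : Set K) = ⊤ := by
    apply IntermediateField.restrictScalars_injective k
    rw [IntermediateField.adjoin_adjoin_left, IntermediateField.restrictScalars_top, ← hxy]
    rfl
  have hfinF : FiniteDimensional F K := by
    have h1 : FiniteDimensional F (IntermediateField.adjoin F ({y} : Set K)) :=
      IntermediateField.adjoin.finiteDimensional hint
    rw [htopF] at h1
    exact Module.Finite.equiv
      (IntermediateField.topEquiv : (⊤ : IntermediateField F K) ≃ₐ[F] K).toLinearEquiv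
  refine ⟨⟨x, hx, hfinF⟩, ?_⟩
  -- Part 2: view `K` as an algebra over `RatFunc k`
  let e := RatFunc.algEquivOfTranscendental x hx
  let φ : RatFunc k →ₐ[k] K := (IntermediateField.val F).comp e.toAlgHom
  letI : Algebra (RatFunc k) K := φ.toRingHom.toAlgebra
  haveI : IsScalarTower k (RatFunc k) K :=
    IsScalarTower.of_algebraMap_eq (fun c => (φ.commutes c).symm)
  have hφX : algebraMap (RatFunc k) K RatFunc.X = x := by
    show ((e RatFunc.X : F) : K) = x
    simp [e]
  have hφpoly : ∀ q : Polynomial k,
      algebraMap (RatFunc k) K (algebraMap (Polynomial k) (RatFunc k) q) = Polynomial.aeval x q := by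
    intro q
    show ((e (algebraMap (Polynomial k) (RatFunc k) q) : F) : K) = _
    rw [RatFunc.algEquivOfTranscendental_algebraMap]
    have := Polynomial.aeval_algHom_apply (IntermediateField.val F)
      (IntermediateField.AdjoinSimple.gen k x) q
    rw [IntermediateField.val_mk] at this
    exact this.symm
  have hy' : y ^ 2 = algebraMap (RatFunc k) K (algebraMap (Polynomial k) (RatFunc k) f) := by
    rw [hφpoly]; exact heq
  have htop : IntermediateField.adjoin (RatFunc k) ({y} : Set K) = ⊤ := by
    rw [← IntermediateField.restrictScalars_eq_top_iff (K := k), eq_top_iff, ← hxy,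
      IntermediateField.adjoin_le_iff]
    rintro w (rfl | rfl)
    · show w ∈ IntermediateField.adjoin (RatFunc k) ({y} : Set K)
      rw [← hφX]
      exact IntermediateField.algebraMap_mem _ _
    · exact IntermediateField.mem_adjoin_simple_self _ _
  exact fun z hz => Groth.Agent.Helper16.FFW.algebraic_mem_range_of_hyper h2 hf hd hy' htop z hz

end Groth.Agent.S11019
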