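import Groth.Statements.S11034
import Groth.Agent.Lib.Helper16.FFW.Ext7

set_option autoImplicit false
open FunFld

namespace Groth.Agent.S11034

/-- For `char k ≠ 2` and `K = k(x, y)`, `y² = f(x)` with `f` squarefree, each irreducible factor `p` of
`f` has a unique place `P` of `K` above it, with `e(P|p) = 2`, `f(P|p) = 1` and `deg P = deg p`. The
zero divisor of `y` and the behaviour above the infinite place of `k(x)` are not stated. -/
theorem result (k K : Type*) [Field k] [Field K] (h2 : ringChar k ≠ 2) [Algebra k K]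
    [Algebra (RatFunc k) K] [IsScalarTower k (RatFunc k) K]
    (hdeg : Module.finrank (RatFunc k) K = 2) (y : K) (f : Polynomial k) (hf : Squarefree f)
    (hd : 1 ≤ f.natDegree)
    (heq : y ^ 2 = algebraMap (RatFunc k) K (algebraMap (Polynomial k) (RatFunc k) f))
    (p : Polynomial k) (hp : Irreducible p) (hpf : p ∣ f)
    (P₀ : FunFld.Place k (RatFunc k)) (hP₀ : P₀.1 (algebraMap (Polynomial k) (RatFunc k) p) < 1) :
    (∃! P : FunFld.Place k K, FunFld.IsOver P P₀) ∧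
    ∀ P : FunFld.Place k K, FunFld.IsOver P P₀ → FunFld.IsOverWith P P₀ 2 ∧ P.deg = P₀.deg := by
  classical
  open Groth.Agent.Helper16.FFW in
  have hK₀ : IsFunctionField k (RatFunc k) := isFunctionField_ratFunc
  have hfin : FiniteDimensional (RatFunc k) K :=
    Module.finite_of_finrank_pos (by rw [hdeg]; norm_num)
  have hKw : Groth.Agent.Helper16.FFW.IsWeakFF k K :=
    Groth.Agent.Helper16.FFW.isWeakFF_of_finite (K := RatFunc k) hK₀.1
  -- `ord_{P₀} f = 1`
  obtain ⟨g, rfl⟩ := hpf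
  have hpg : ¬ p ∣ g := by
    rintro ⟨g', rfl⟩
    exact hp.not_isUnit (hf p ⟨g', by ring⟩)
  have hp0' : algebraMap (Polynomial k) (RatFunc k) p ≠ 0 := by simpa using hp.ne_zero
  have hg0 : g ≠ 0 := by rintro rfl; simp at hpg
  have hg0' : algebraMap (Polynomial k) (RatFunc k) g ≠ 0 := by simpa using hg0
  have hordp := Groth.Agent.Helper16.FFW.ord_poly_eq_one P₀ hp hP₀
  have hordg : P₀.ord (algebraMap (Polynomial k) (RatFunc k) g) = 0 := by
    unfold Place.ord
    rw [Groth.Agent.Helper16.FFW.val_poly_eq_one_of_not_dvd P₀ hp hP₀ hpg]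
    simp
  have hordf : P₀.ord (algebraMap (Polynomial k) (RatFunc k) (p * g)) = 1 := by
    rw [map_mul, Groth.Agent.Helper16.FFW.Place.ord_mul P₀ hp0' hg0', hordp, hordg, add_zero]
  -- ramification indices are even
  have heven : ∀ (Q : FunFld.Place k K) (e : ℕ), FunFld.IsOverWith Q P₀ e → 2 ≤ e := by
    intro Q e he
    have h1 := Groth.Agent.Helper16.FFW.ord_of_isOverWith he
      (algebraMap (Polynomial k) (RatFunc k) (p * g))
    rw [← heq, hordf, Groth.Agent.Helper16.FFW.Place.ord_pow] at h1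
    have hpos := Groth.Agent.Helper16.FFW.isOverWith_pos he
    have : (e : ℤ) = 2 * Q.ord y := by push_cast at h1; linarith
    omega
  -- the sum formula
  obtain ⟨hfinset, hsum⟩ := Groth.Agent.Helper16.FFW.sum_ramIdx_mul_deg (K' := K) hK₀ P₀
  set Qs := hfinset.toFinset with hQsdef
  have hQs : ∀ Q, Q ∈ Qs ↔ FunFld.IsOver Q P₀ := by
    intro Q; rw [hQsdef, Set.Finite.mem_toFinset]; rfl
  have hS := hsum Qs hQs
  rw [hdeg] at hS
  have hdegpos : 0 < P₀.deg := Groth.Agent.Helper16.FFW.Place.deg_pos hK₀.1 P₀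
  have hterm : ∀ Q ∈ Qs, 2 ≤ FunFld.ramIdx Q P₀ ∧ P₀.deg ≤ Q.deg := by
    intro Q hQ
    have hover := (hQs Q).1 hQ
    have hw := Groth.Agent.Helper16.FFW.isOverWith_ramIdx hover
    exact ⟨heven Q _ hw, Groth.Agent.Helper16.FFW.deg_le_of_isOverWith hKw hw⟩
  have hterm' : ∀ Q ∈ Qs, 2 * P₀.deg ≤ FunFld.ramIdx Q P₀ * Q.deg := by
    intro Q hQ
    obtain ⟨h1, h2⟩ := hterm Q hQ
    exact Nat.mul_le_mul h1 h2
  have hcard : Qs.card ≤ 1 := by
    by_contra hc
    push Not at hc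
    have h1 : Qs.card • (2 * P₀.deg) ≤ ∑ Q ∈ Qs, FunFld.ramIdx Q P₀ * Q.deg :=
      Finset.card_nsmul_le_sum Qs _ _ hterm'
    rw [hS, smul_eq_mul] at h1
    have : 2 * (2 * P₀.deg) ≤ Qs.card * (2 * P₀.deg) := Nat.mul_le_mul_right _ hc
    omega
  have hne : Qs.Nonempty := by
    rw [Finset.nonempty_iff_ne_empty]
    intro h
    rw [h, Finset.sum_empty] at hS
    omega
  obtain ⟨Q₁, hQ₁⟩ := hne
  have hQsEq : Qs = {Q₁} := by
    rw [Finset.eq_singleton_iff_unique_mem]
    refine ⟨hQ₁, fun Q hQ => ?_⟩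
    exact Finset.card_le_one.mp hcard Q hQ Q₁ hQ₁
  rw [hQsEq, Finset.sum_singleton] at hS
  obtain ⟨he2, hd⟩ := hterm Q₁ hQ₁
  have hdeg1 : Q₁.deg = P₀.deg := by
    have : 2 * Q₁.deg ≤ FunFld.ramIdx Q₁ P₀ * Q₁.deg := Nat.mul_le_mul_right _ he2
    omega
  have hram : FunFld.ramIdx Q₁ P₀ = 2 := by
    rw [hdeg1] at hS
    exact Nat.eq_of_mul_eq_mul_right hdegpos hS
  have hover₁ : FunFld.IsOver Q₁ P₀ := (hQs Q₁).1 hQ₁
  have huniq : ∀ P : FunFld.Place k K, FunFld.IsOver P P₀ → P = Q₁ := by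
    intro P hP
    have := (hQs P).2 hP
    rw [hQsEq, Finset.mem_singleton] at this
    exact this
  refine ⟨⟨Q₁, hover₁, huniq⟩, ?_⟩
  intro P hP
  rw [huniq P hP]
  refine ⟨?_, hdeg1⟩
  have := Groth.Agent.Helper16.FFW.isOverWith_ramIdx hover₁
  rwa [hram] at this

end Groth.Agent.S11034
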