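import Groth.Statements.S11043
import Mathlib

set_option autoImplicit false
open FunFld

namespace Groth.Agent.S11043

theorem prod_nthRootsFinset {R M : Type*} [CommRing R] [IsDomain R] [CommMonoid M] {ζ : R} {n : ℕ}
    (hn : 0 < n) (hζ : IsPrimitiveRoot ζ n) (g : R → M) :
    ∏ θ ∈ Polynomial.nthRootsFinset n (1 : R), g θ = ∏ k ∈ Finset.range n, g (ζ ^ k) := by
  classical
  have hinj : Set.InjOn (fun k => ζ ^ k) (Finset.range n : Set ℕ) := by
    intro i hi j hj hij
    exact hζ.pow_inj (Finset.mem_range.mp hi) (Finset.mem_range.mp hj) hij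
  have himg : Polynomial.nthRootsFinset n (1 : R) = (Finset.range n).image (fun k => ζ ^ k) := by
    symm
    apply Finset.eq_of_subset_of_card_le
    · intro θ hθ
      obtain ⟨k, _, rfl⟩ := Finset.mem_image.mp hθ
      rw [Polynomial.mem_nthRootsFinset hn, ← pow_mul, mul_comm, pow_mul, hζ.pow_eq_one, one_pow]
    · rw [hζ.card_nthRootsFinset, Finset.card_image_of_injOn hinj, Finset.card_range]
  rw [himg, Finset.prod_image hinj]


/-- For positive integers `n`, `d` with `e = gcd(n, d)`, in `ℂ[t]` one has `(1 - t^{nd/e})^e = ∏_{θⁿ =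
1} (1 - (θ t)^d)`, the product over the complex `n`-th roots of unity. -/
theorem result (n d : ℕ) (hn : 0 < n) (hd : 0 < d) :
    ((1 : Polynomial ℂ) - Polynomial.X ^ (n * d / Nat.gcd n d)) ^ Nat.gcd n d =
      ∏ θ ∈ Polynomial.nthRootsFinset n (1 : ℂ),
        (1 - Polynomial.C (θ ^ d) * Polynomial.X ^ d) := by
  classical
  have he0 : 0 < Nat.gcd n d := Nat.gcd_pos_of_pos_left d hn
  obtain ⟨n', hn'⟩ : Nat.gcd n d ∣ n := Nat.gcd_dvd_left n d
  have hn'0 : 0 < n' := by
    rcases Nat.eq_zero_or_pos n' with h | h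
    · rw [h, mul_zero] at hn'; omega
    · exact h
  have hexp : n * d / Nat.gcd n d = n' * d :=
    Nat.div_eq_of_eq_mul_right he0 (by rw [← mul_assoc, ← hn'])
  have hζ : IsPrimitiveRoot (Complex.exp (2 * Real.pi * Complex.I / n)) n :=
    Complex.isPrimitiveRoot_exp n hn.ne'
  set ζ : ℂ := Complex.exp (2 * Real.pi * Complex.I / n) with hζdef
  have hηprim : IsPrimitiveRoot (ζ ^ d) n' := by
    have h1 : orderOf (ζ ^ d) = n' := by
      rw [orderOf_pow' ζ hd.ne', ← hζ.eq_orderOf]
      exact Nat.div_eq_of_eq_mul_right he0 hn'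
    rw [← h1]; exact IsPrimitiveRoot.orderOf (ζ ^ d)
  rw [prod_nthRootsFinset hn hζ (fun θ => (1 : Polynomial ℂ) - Polynomial.C (θ ^ d) * Polynomial.X ^ d)]
  have hterm : ∀ k, (1 : Polynomial ℂ) - Polynomial.C ((ζ ^ k) ^ d) * Polynomial.X ^ d =
      1 - Polynomial.C ((ζ ^ d) ^ k) * Polynomial.X ^ d := by
    intro k; rw [← pow_mul, ← pow_mul, mul_comm k d]
  rw [Finset.prod_congr rfl (fun k _ => hterm k)]
  have hper : ∀ (m : ℕ), ∏ k ∈ Finset.range (n' * m),
      ((1 : Polynomial ℂ) - Polynomial.C ((ζ ^ d) ^ k) * Polynomial.X ^ d) =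
      (∏ k ∈ Finset.range n',
        ((1 : Polynomial ℂ) - Polynomial.C ((ζ ^ d) ^ k) * Polynomial.X ^ d)) ^ m := by
    intro m
    induction m with
    | zero => simp
    | succ m ih =>
      rw [Nat.mul_succ, Finset.prod_range_add, ih, pow_succ]
      congr 1
      apply Finset.prod_congr rfl
      intro x _
      rw [pow_add, pow_mul, hηprim.pow_eq_one, one_pow, one_mul]
  have hrange : Finset.range n = Finset.range (n' * Nat.gcd n d) := by
    rw [mul_comm, ← hn']
  rw [hrange, hper]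
  have hbase : ∏ k ∈ Finset.range n',
      ((1 : Polynomial ℂ) - Polynomial.C ((ζ ^ d) ^ k) * Polynomial.X ^ d) =
      1 - (Polynomial.X ^ d) ^ n' := by
    have hCη : IsPrimitiveRoot (Polynomial.C (ζ ^ d) : Polynomial ℂ) n' :=
      hηprim.map_of_injective Polynomial.C_injective
    have h := hCη.pow_sub_pow_eq_prod_sub_mul (1 : Polynomial ℂ) (Polynomial.X ^ d) hn'0
    rw [one_pow] at h
    rw [h, prod_nthRootsFinset hn'0 hCη (fun θ => (1 : Polynomial ℂ) - θ * Polynomial.X ^ d)]
    apply Finset.prod_congr rfl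
    intro k _
    rw [map_pow]
  rw [hbase, hexp, mul_comm n' d, pow_mul]

end Groth.Agent.S11043
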