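import Groth.Statements.S11050
import Groth.Agent.Lib.Helper16.FF.SepVar

set_option autoImplicit false
open FunFld

namespace Groth.Agent.S11050

/-- Over an algebraically closed constant field, let `W` be a finite-dimensional subspace of the
function field `K` containing `1` and generating `K` over `k` (the span of an effective birational
projective map). Then `W` contains a separating variable `x`, and for each separating `x ∈ W` some
`y ∈ W` gives `K = k(x, y)`. -/
theorem result
    (k K : Type*) [Field k] [IsAlgClosed k] [Field K] [Algebra k K]
    (hK : FunFld.IsFunctionField k K) (W : Submodule k K)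
    [FiniteDimensional k W] (h1 : (1 : K) ∈ W)
    (hW : IntermediateField.adjoin k (W : Set K) = ⊤) :
    (∃ x ∈ W, Algebra.IsSeparable (IntermediateField.adjoin k ({x} : Set K)) K) ∧
    ∀ x ∈ W, Algebra.IsSeparable (IntermediateField.adjoin k ({x} : Set K)) K →
      ∃ y ∈ W, IntermediateField.adjoin k ({x, y} : Set K) = ⊤ := by
  classical
  open Groth.Agent.Helper16.FF IntermediateField in
  -- a finite generating set inside `W`
  have hfg : W.FG := (Submodule.fg_iff_finiteDimensional W).mpr inferInstance
  obtain ⟨G, hGW⟩ := hfg
  have hGsub : (G : Set K) ⊆ W := by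
    rw [← hGW]; exact Submodule.subset_span
  have hG : IntermediateField.adjoin k (G : Set K) = ⊤ := by
    rw [eq_top_iff, ← hW, IntermediateField.adjoin_le_iff]
    intro w hw
    have hw' : w ∈ Submodule.span k (G : Set K) := by rw [hGW]; exact hw
    have hle : Submodule.span k (G : Set K) ≤
        (IntermediateField.adjoin k (G : Set K)).toSubalgebra.toSubmodule :=
      Submodule.span_le.mpr (fun g hg => IntermediateField.subset_adjoin k _ hg)
    exact hle hw'
  have hess : Algebra.EssFiniteType k K := IntermediateField.fg_top_iff.mp ⟨G, hG⟩
  refine ⟨?_, ?_⟩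
  · obtain ⟨x, hxG, hx⟩ := Groth.Agent.Helper16.FF.exists_mem_separating hK G hG
    exact ⟨x, hGsub hxG, hx⟩
  · intro x _ hsep
    have h3 : Algebra.EssFiniteType (IntermediateField.adjoin k ({x} : Set K)) K :=
      Algebra.EssFiniteType.of_comp k _ K
    have hfin : FiniteDimensional (IntermediateField.adjoin k ({x} : Set K)) K :=
      Algebra.finite_of_essFiniteType_of_isAlgebraic
    exact Groth.Agent.Helper16.FF.exists_mem_adjoin_pair_eq_top x hsep hfin W hW

end Groth.Agent.S11050
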