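import Groth.Statements.S11056
import Groth.Agent.Lib.Helper16.FF.NSE

set_option autoImplicit false
open FunFld

namespace Groth.Agent.S11056

/-- Over an algebraically closed constant field, if `deg D ≥ 2g + 1` then the projective map given by a
basis of `L(D)` is an embedding, i.e. nonsingular at every place. Here a projective map is
nonsingular at a place when its local ring there (quotients of polynomials over `k` in the ratios
`φᵢ/φⱼ`, `φⱼ` of least order at the place, with denominator a unit there) is the whole valuation
ring. -/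
theorem result
    (k K : Type*) [Field k] [IsAlgClosed k] [Field K] [Algebra k K]
    (hK : FunFld.IsFunctionField k K) (D : FunFld.Divisor k K)
    (hD : 2 * (FunFld.genus k K : ℤ) + 1 ≤ D.deg) {n : ℕ} (φ : Fin (n + 1) → K)
    (hφ : LinearIndependent k φ) (hspan : Submodule.span k (Set.range φ) = FunFld.L D)
    (P : FunFld.Place k K) : FunFld.IsNonsingularAt φ P := by
  have hdeg1 : ∀ Q : FunFld.Place k K, FunFld.Divisor.deg (Finsupp.single Q 1 : FunFld.Divisor k K) = 1 := by
    intro Q
    rw [Groth.Agent.Helper16.FF.Divisor.deg_single, Groth.Agent.Helper16.FF.Place.deg_eq_one hK Q]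
    norm_num
  have e0 := Groth.Agent.Helper16.FF.ell_eq_of_large hK (D := D) (by omega)
  have e1 := Groth.Agent.Helper16.FF.ell_eq_of_large hK (D := D - Finsupp.single P 1) (by
    rw [Groth.Agent.Helper16.FF.Divisor.deg_sub, hdeg1]; omega)
  rw [Groth.Agent.Helper16.FF.Divisor.deg_sub, hdeg1] at e1
  refine Groth.Agent.Helper16.FF.isNonsingularAt_of_ell hK φ D hspan P ?_ ?_
  · have : (FunFld.ell (D - Finsupp.single P 1) : ℤ) < FunFld.ell D := by rw [e0, e1]; omega
    exact_mod_cast this
  · intro Q
    have e2 := Groth.Agent.Helper16.FF.ell_eq_of_large hK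
      (D := D - Finsupp.single P 1 - Finsupp.single Q 1) (by
        rw [Groth.Agent.Helper16.FF.Divisor.deg_sub, Groth.Agent.Helper16.FF.Divisor.deg_sub,
          hdeg1, hdeg1]; omega)
    rw [Groth.Agent.Helper16.FF.Divisor.deg_sub, Groth.Agent.Helper16.FF.Divisor.deg_sub,
      hdeg1, hdeg1] at e2
    have : (FunFld.ell (D - Finsupp.single P 1 - Finsupp.single Q 1) : ℤ) <
        FunFld.ell (D - Finsupp.single P 1) := by rw [e1, e2]; omega
    exact_mod_cast this

end Groth.Agent.S11056
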