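import Groth.Statements.S11057
import Groth.Agent.Lib.Helper16.FF.NSE
import Groth.Agent.Lib.Helper16.FF.Rational2

set_option autoImplicit false
open FunFld

namespace Groth.Agent.S11057

/-- Over an algebraically closed constant field, if `K` has degree at least `3` over every subfield
`k(x)` generated by a nonconstant element, then the canonical map (given by a basis of `L(D)` for a
canonical divisor `D`) is an embedding, i.e. nonsingular at every place. Here a projective map is
nonsingular at a place when its local ring there (quotients of polynomials over `k` in the ratios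
`φᵢ/φⱼ`, `φⱼ` of least order at the place, with denominator a unit there) is the whole valuation
ring. -/
theorem result
    (k K : Type*) [Field k] [IsAlgClosed k] [Field K] [Algebra k K]
    (hK : FunFld.IsFunctionField k K)
    (h2 : ∀ x : K, Transcendental k x →
      2 < Module.finrank (IntermediateField.adjoin k ({x} : Set K)) K)
    (D : FunFld.Divisor k K) (hD : FunFld.IsCanonical k K D) {n : ℕ} (φ : Fin (n + 1) → K)
    (hφ : LinearIndependent k φ) (hspan : Submodule.span k (Set.range φ) = FunFld.L D)
    (P : FunFld.Place k K) : FunFld.IsNonsingularAt φ P := by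
  classical
  have hdeg1 : ∀ Q : FunFld.Place k K,
      FunFld.Divisor.deg (Finsupp.single Q 1 : FunFld.Divisor k K) = 1 := by
    intro Q
    rw [Groth.Agent.Helper16.FF.Divisor.deg_single, Groth.Agent.Helper16.FF.Place.deg_eq_one hK Q]
    norm_num
  -- `ℓ(E) = 1` for every effective divisor of degree at most two
  have hone : ∀ E : FunFld.Divisor k K, 0 ≤ E → E.deg ≤ 2 → FunFld.ell E = 1 := by
    intro E hE0 hE2
    have h1 : 1 ≤ FunFld.ell E := by
      have := Groth.Agent.Helper16.FF.ell_mono hK hE0
      rwa [Groth.Agent.Helper16.FF.ell_zero hK] at this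
    by_contra hne
    have h2' : 2 ≤ FunFld.ell E := by omega
    obtain ⟨x, hxE, hx⟩ := Groth.Agent.Helper16.FF.exists_nonconstant_mem_L hK h2'
    have hxtr : Transcendental k x := Groth.Agent.Helper16.FF.transcendental_of_not_mem_range hK hx
    have hx0 : x ≠ 0 := by
      rintro rfl; exact hx ⟨0, map_zero _⟩
    have h3 := Groth.Agent.Helper16.FF.poleDiv_le_of_mem_L hK hE0 hx0 hxE
    have h4 := Groth.Agent.Helper16.FF.Divisor.deg_mono h3
    rw [Groth.Agent.Helper16.FF.deg_poleDiv hK hxtr] at h4
    have h5 := h2 x hxtr
    have : (2 : ℤ) < Module.finrank (IntermediateField.adjoin k ({x} : Set K)) K := by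
      exact_mod_cast h5
    omega
  obtain ⟨hl, hd⟩ := Groth.Agent.Helper16.FF.canonical_ell_deg hK hD
  have hs : ∀ Q : FunFld.Place k K, (0 : FunFld.Divisor k K) ≤ Finsupp.single Q 1 := fun Q =>
    Groth.Agent.Helper16.FF.single_nonneg Q (by norm_num)
  have eP := Groth.Agent.Helper16.FF.riemann_roch hK hD (D - Finsupp.single P 1)
  rw [sub_sub_cancel, hone _ (hs P) (by rw [hdeg1]; norm_num),
    Groth.Agent.Helper16.FF.Divisor.deg_sub, hdeg1, hd] at eP
  refine Groth.Agent.Helper16.FF.isNonsingularAt_of_ell hK φ D hspan P ?_ ?_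
  · have : (FunFld.ell (D - Finsupp.single P 1) : ℤ) < FunFld.ell D := by
      rw [eP, hl]; push_cast; omega
    exact_mod_cast this
  · intro Q
    have eQ := Groth.Agent.Helper16.FF.riemann_roch hK hD (D - Finsupp.single P 1 - Finsupp.single Q 1)
    have e3 : D - (D - Finsupp.single P 1 - Finsupp.single Q 1) =
        Finsupp.single P 1 + Finsupp.single Q 1 := by abel
    rw [e3, hone _ (add_nonneg (hs P) (hs Q)) (by
        rw [Groth.Agent.Helper16.FF.Divisor.deg_add, hdeg1, hdeg1]; norm_num),
      Groth.Agent.Helper16.FF.Divisor.deg_sub, Groth.Agent.Helper16.FF.Divisor.deg_sub,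
      hdeg1, hdeg1, hd] at eQ
    have : (FunFld.ell (D - Finsupp.single P 1 - Finsupp.single Q 1) : ℤ) <
        FunFld.ell (D - Finsupp.single P 1) := by
      rw [eP, eQ]; push_cast; omega
    exact_mod_cast this

end Groth.Agent.S11057
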