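import Groth.Statements.S11069
import Groth.Agent.Lib.Helper16.FFW.Ext4
import Groth.Agent.Lib.Helper16.FF.MapDiv

set_option autoImplicit false
open FunFld

namespace Groth.Agent.S11069

/-- Over an algebraically closed constant field, for function fields `K ⊇ K'` and a projective map `φ`
with entries in `K'`, the divisor of `φ` as a map of `K` is the conorm `N*_{K/K'}` of its divisor as
a map of `K'`. -/
theorem result
    (k K' K : Type*) [Field k] [IsAlgClosed k] [Field K'] [Field K] [Algebra k K'] [Algebra k K]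
    [Algebra K' K] [IsScalarTower k K' K] [FiniteDimensional K' K]
    (hK : FunFld.IsFunctionField k K) (hK' : FunFld.IsFunctionField k K') {n : ℕ}
    (φ : Fin (n + 1) → K') (hφ : LinearIndependent k φ) :
    FunFld.mapDiv k (fun i => algebraMap K' K (φ i)) = FunFld.conorm K (FunFld.mapDiv k φ) := by
  classical
  ext Q
  have hKw : Groth.Agent.Helper16.FFW.IsWeakFF k K' := hK'.1
  obtain ⟨P, e, he⟩ := Groth.Agent.Helper16.FFW.exists_isOverWith hKw Q
  rw [Groth.Agent.Helper16.FFW.conorm_apply hK' _ he, Groth.Agent.Helper16.FF.mapDiv_apply hK,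
    Groth.Agent.Helper16.FF.mapDiv_apply hK']
  have h1 : (fun i => Q.ord (algebraMap K' K (φ i))) = fun i => (e : ℤ) * P.ord (φ i) := by
    funext i
    exact Groth.Agent.Helper16.FFW.ord_of_isOverWith he (φ i)
  rw [h1]
  have h2 := Finset.apply_inf'_eq_inf'_comp (s := (Finset.univ : Finset (Fin (n + 1))))
    Finset.univ_nonempty (f := fun i => P.ord (φ i)) (fun z : ℤ => (e : ℤ) * z)
    (fun x y => mul_min_of_nonneg x y (by positivity))
  have h3 : ((fun z : ℤ => (e : ℤ) * z) ∘ fun i => P.ord (φ i)) = fun i => (e : ℤ) * P.ord (φ i) := rfl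
  rw [h3] at h2
  rw [← h2]
  ring

end Groth.Agent.S11069
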