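import Groth.Statements.S11079
import Mathlib

set_option autoImplicit false
universe u
open CAlg

namespace Groth.Agent.S11079

/-- Let L/K be a finite Galois extension of fields, n a natural number, and B a map from the Galois
group of L over K to the invertible n × n matrices over L such that B(σ) · σ(B(τ)) = B(στ) for all
σ, τ, where σ acts on matrices entrywise and στ is the automorphism applying τ first. Then there is
an invertible matrix A over L with B(σ) = A⁻¹ · σ(A) for every σ; that is, every 1-cocycle of the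
Galois group with values in GL_n(L) is a coboundary. -/
theorem result (K L : Type u) [Field K] [Field L]
    [Algebra K L] [FiniteDimensional K L] [IsGalois K L] (n : ℕ)
    (B : (L ≃ₐ[K] L) → GL (Fin n) L)
    (hB : ∀ σ τ : L ≃ₐ[K] L,
      (B σ : Matrix (Fin n) (Fin n) L) * (B τ : Matrix (Fin n) (Fin n) L).map σ = (B (σ * τ) : Matrix (Fin n) (Fin n) L)) :
    ∃ A : GL (Fin n) L, ∀ σ : L ≃ₐ[K] L,
      (B σ : Matrix (Fin n) (Fin n) L) = ((A⁻¹ : GL (Fin n) L) : Matrix (Fin n) (Fin n) L) * (A : Matrix (Fin n) (Fin n) L).map σ := by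
  classical
  let Bm : (L ≃ₐ[K] L) → Matrix (Fin n) (Fin n) L := fun σ => (B σ : Matrix (Fin n) (Fin n) L)
  have hcoc : ∀ σ τ : L ≃ₐ[K] L, Bm σ * (Bm τ).map σ = Bm (σ * τ) := hB
  have hB1 : Bm 1 = 1 := by
    have h := hcoc 1 1
    have hmap : (Bm 1).map (1 : L ≃ₐ[K] L) = Bm 1 := by
      ext i j
      simp
    rw [hmap, mul_one] at h
    have h2 : (B 1 : GL (Fin n) L) * B 1 = B 1 := Units.ext h
    have h3 : (B 1 : GL (Fin n) L) = 1 := by simpa using h2
    change ((B 1 : GL (Fin n) L) : Matrix (Fin n) (Fin n) L) = 1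
    rw [h3]
    rfl
  -- the vector-valued averaging map
  let bvec : (Fin n → L) → (Fin n → L) := fun x => ∑ τ : L ≃ₐ[K] L, (Bm τ).mulVec (fun i => τ (x i))
  have hspan : Submodule.span L (Set.range bvec) = ⊤ := by
    by_contra hne
    obtain ⟨f, hf0, hf⟩ := Submodule.exists_dual_map_eq_bot_of_lt_top (lt_top_iff_ne_top.mpr hne)
      inferInstance
    have hfb : ∀ x, f (bvec x) = 0 := by
      intro x
      have : f (bvec x) ∈ (Submodule.span L (Set.range bvec)).map f :=
        Submodule.mem_map_of_mem (Submodule.subset_span ⟨x, rfl⟩)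
      rw [hf] at this
      exact this
    apply hf0
    apply LinearMap.ext
    intro x
    -- linear independence of characters
    have hli : LinearIndependent L (fun σ : L ≃ₐ[K] L => ((σ : L →ₐ[K] L).toLinearMap : L →ₗ[K] L)) :=
      (linearIndependent_algHom_toLinearMap K L L).comp (fun σ : L ≃ₐ[K] L => (σ : L →ₐ[K] L))
        (fun a b hab => AlgEquiv.coe_toAlgHom_injective hab)
    let g : (L ≃ₐ[K] L) → L := fun τ => f ((Bm τ).mulVec (fun i => τ (x i)))
    have hsum : ∑ τ : L ≃ₐ[K] L, g τ • ((τ : L →ₐ[K] L).toLinearMap : L →ₗ[K] L) = 0 := by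
      ext c
      have h1 := hfb (c • x)
      have h2 : bvec (c • x) = ∑ τ : L ≃ₐ[K] L, τ c • (Bm τ).mulVec (fun i => τ (x i)) := by
        refine Finset.sum_congr rfl fun τ _ => ?_
        rw [← Matrix.mulVec_smul]
        congr 1
        funext i
        simp
      rw [h2, map_sum] at h1
      simp only [map_smul, smul_eq_mul] at h1
      simp only [LinearMap.sum_apply, LinearMap.smul_apply, AlgHom.toLinearMap_apply, AlgEquiv.coe_toAlgHom,
        smul_eq_mul, LinearMap.zero_apply]
      rw [← h1]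
      refine Finset.sum_congr rfl fun τ _ => ?_
      rw [mul_comm]
    have h1 := Fintype.linearIndependent_iff.mp hli g hsum 1
    have h2 : g 1 = f x := by
      change f ((Bm 1).mulVec (fun i => (1 : L ≃ₐ[K] L) (x i))) = f x
      rw [hB1, Matrix.one_mulVec]
      rfl
    rw [LinearMap.zero_apply, ← h2, h1]
  -- extract a basis among the vectors `bvec x`
  obtain ⟨s, hs, hsspan, hsli⟩ := exists_linearIndependent L (Set.range bvec)
  have hstop : ⊤ ≤ Submodule.span L (Set.range (Subtype.val : s → (Fin n → L))) := by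
    rw [Subtype.range_coe, hsspan, hspan]
  let bs : Module.Basis s L (Fin n → L) := Module.Basis.mk hsli hstop
  have hcard : Fintype.card (Fin n) = Nat.card s := by
    have h1 := Module.finrank_eq_nat_card_basis bs
    rw [Module.finrank_fin_fun] at h1
    rw [Fintype.card_fin]
    exact h1
  have : Finite s := Module.Finite.finite_basis bs
  haveI : Fintype s := Fintype.ofFinite s
  have e : Fin n ≃ s := Fintype.equivOfCardEq (by rw [hcard, Nat.card_eq_fintype_card])
  have hx : ∀ j : Fin n, ∃ x : Fin n → L, bvec x = (e j : Fin n → L) := fun j => hs (e j).2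
  choose X hX using hx
  let bs' : Module.Basis (Fin n) L (Fin n → L) := bs.reindex e.symm
  have hbs' : ∀ j, bs' j = bvec (X j) := fun j => by
    rw [hX j]
    simp [bs', bs]
  -- the matrix C with columns X j
  let C : Matrix (Fin n) (Fin n) L := Matrix.of fun i j => X j i
  let bC : Matrix (Fin n) (Fin n) L := ∑ τ : L ≃ₐ[K] L, Bm τ * C.map τ
  have hbC : bC = (Pi.basisFun L (Fin n)).toMatrix bs' := by
    ext i j
    rw [Module.Basis.toMatrix_apply, hbs' j]
    simp only [Pi.basisFun_repr, bC, bvec, Matrix.sum_apply, Finset.sum_apply, Matrix.mul_apply, Matrix.mulVec,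
      dotProduct, Matrix.map_apply, C, Matrix.of_apply]
  have hunit : IsUnit bC := by
    rw [hbC]
    haveI := (Pi.basisFun L (Fin n)).invertibleToMatrix bs'
    exact isUnit_of_invertible _
  have hσ : ∀ σ : L ≃ₐ[K] L, Bm σ * bC.map σ = bC := by
    intro σ
    have h1 : bC.map σ = ∑ τ : L ≃ₐ[K] L, (Bm τ).map σ * C.map (σ * τ) := by
      have : bC.map σ = (σ : L →+* L).mapMatrix bC := rfl
      rw [this, map_sum]
      refine Finset.sum_congr rfl fun τ _ => ?_
      rw [map_mul]
      congr 1
    rw [h1, Finset.mul_sum]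
    simp only [← mul_assoc, hcoc]
    exact Fintype.sum_equiv (Equiv.mulLeft σ) _ _ (fun τ => rfl)
  let U : GL (Fin n) L := hunit.unit
  refine ⟨U⁻¹, fun σ => ?_⟩
  have hU : ((U⁻¹ : GL (Fin n) L)⁻¹ : GL (Fin n) L) = U := inv_inv U
  rw [hU]
  let φ : Matrix (Fin n) (Fin n) L →* Matrix (Fin n) (Fin n) L :=
    (((σ : L →+* L).mapMatrix : Matrix (Fin n) (Fin n) L →+* Matrix (Fin n) (Fin n) L) :
      Matrix (Fin n) (Fin n) L →* Matrix (Fin n) (Fin n) L)
  have h1 : ((U⁻¹ : GL (Fin n) L) : Matrix (Fin n) (Fin n) L).map σ =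
      ((Units.map φ U)⁻¹ : GL (Fin n) L) := by
    rw [← map_inv]
    rfl
  have h2 : ((Units.map φ U : GL (Fin n) L) : Matrix (Fin n) (Fin n) L) = bC.map σ := rfl
  rw [h1]
  have h3 : (U : Matrix (Fin n) (Fin n) L) =
      Bm σ * ((Units.map φ U : GL (Fin n) L) : Matrix (Fin n) (Fin n) L) := by
    rw [h2]
    exact (hσ σ).symm
  rw [h3, mul_assoc, Units.mul_inv, mul_one]

end Groth.Agent.S11079
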