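import Groth.Statements.S11080
import Mathlib

set_option autoImplicit false
universe u
open CAlg

namespace Groth.Agent.S11080

/-- Valuation rings over a curve: let A be a Dedekind domain with fraction field K. A valuation subring
O of K contains A and is different from K if and only if O is the valuation ring of the v-adic
valuation of K at some nonzero prime v of A (equivalently O is the local ring of A at a maximal
ideal, a discrete valuation ring). (The published statement takes A to be the coordinate ring of a
nonsingular affine curve over an algebraically closed field, which is such a Dedekind domain; its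
proof uses only that the local rings of A at nonzero primes are discrete valuation rings and that
nonzero primes are maximal.) -/
theorem result (A K : Type u) [CommRing A]
    [IsDedekindDomain A] [Field K] [Algebra A K] [IsFractionRing A K] (O : ValuationSubring K) :
    ((algebraMap A K).range ≤ O.toSubring ∧ O ≠ ⊤) ↔
      ∃ v : IsDedekindDomain.HeightOneSpectrum A, O = (v.valuation K).valuationSubring := by
  classical
  constructor
  · rintro ⟨hA, hO⟩
    let φ : A →+* O := (algebraMap A K).codRestrict O.toSubring (fun a => hA ⟨a, rfl⟩)
    have hφ : ∀ a, ((φ a : O) : K) = algebraMap A K a := fun a => rfl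
    let p : Ideal A := (IsLocalRing.maximalIdeal O).comap φ
    have hpprime : p.IsPrime := Ideal.comap_isPrime φ _
    have hunit : ∀ d : A, d ∉ p → ∃ u : O, algebraMap A K d * (u : K) = 1 := by
      intro d hd
      have h1 : φ d ∉ IsLocalRing.maximalIdeal O := hd
      have h2 : IsUnit (φ d) := by
        by_contra h
        exact h1 ((IsLocalRing.mem_maximalIdeal _).mpr h)
      obtain ⟨u, hu⟩ := h2.exists_right_inv
      refine ⟨u, ?_⟩
      have := congrArg (fun z : O => (z : K)) hu
      simpa [hφ] using this
    have hpne : p ≠ ⊥ := by
      intro hp
      apply hO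
      rw [eq_top_iff]
      intro x _
      obtain ⟨a, b, hb, rfl⟩ := IsFractionRing.div_surjective (A := A) x
      have hb0 : b ≠ 0 := nonZeroDivisors.ne_zero hb
      have hbp : b ∉ p := by
        rw [hp]
        exact hb0
      obtain ⟨u, hu⟩ := hunit b hbp
      have hbK : algebraMap A K b ≠ 0 := by
        intro h0
        rw [h0, zero_mul] at hu
        exact zero_ne_one hu
      have : algebraMap A K a / algebraMap A K b = algebraMap A K a * (u : K) := by
        rw [div_eq_iff hbK, mul_assoc, mul_comm (u : K), hu, mul_one]
      rw [this]
      exact O.mul_mem _ _ (hA ⟨a, rfl⟩) u.2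
    let v : IsDedekindDomain.HeightOneSpectrum A := ⟨p, hpprime, hpne⟩
    refine ⟨v, ?_⟩
    have hle : IsDedekindDomain.HeightOneSpectrum.valuationSubringAtPrime K v ≤ O := by
      intro x hx
      have hx1 : v.valuation K x ≤ 1 :=
        IsDedekindDomain.HeightOneSpectrum.valuationSubringAtPrime_le_valuation v hx
      obtain ⟨n, d, hnd⟩ := v.exists_primeCompl_mul_eq_of_integer x hx1
      obtain ⟨u, hu⟩ := hunit d.1 d.2
      have : x = algebraMap A K n * (u : K) := by
        rw [← hnd, mul_assoc, hu, mul_one]
      rw [this]
      exact O.mul_mem _ _ (hA ⟨n, rfl⟩) u.2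
    rw [← IsDedekindDomain.HeightOneSpectrum.valuationSubringAtPrime_eq_valuationSubring]
    exact (ValuationSubring.eq_of_le_of_ne_top _ hle hO).symm
  · rintro ⟨v, rfl⟩
    refine ⟨?_, ?_⟩
    · rintro _ ⟨a, rfl⟩
      exact v.valuation_le_one a
    · simp only [ne_eq, Valuation.valuationSubring_eq_top_iff, not_not]
      infer_instance

end Groth.Agent.S11080
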