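import Groth.Statements.S11084
import Groth.Agent.S11080

set_option autoImplicit false
universe u
open CAlg

namespace Groth.Agent.S11084

/-- Let k be a field and O a valuation subring of the field of rational functions k(x). Then O contains
the constants k and is different from k(x) if and only if O is the valuation ring of the P-adic
valuation at a nonzero prime P of the polynomial ring k[x], or O is the valuation ring of the
valuation at infinity (given by the degree). (The published statement has k algebraically closed, so
that these valuation rings correspond to the points of the projective line; the published proof does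
not use that k is algebraically closed. The published statement also asserts that distinct points
give distinct valuation rings, which this row does not state, and counts k(x) itself among the
valuation rings containing k; this row excludes it.) -/
theorem result (k : Type u) [Field k] [DecidableEq (RatFunc k)]
    (O : ValuationSubring (RatFunc k)) :
    ((algebraMap k (RatFunc k)).range ≤ O.toSubring ∧ O ≠ ⊤) ↔
      ((∃ v : IsDedekindDomain.HeightOneSpectrum (Polynomial k), O = (v.valuation (RatFunc k)).valuationSubring) ∨
        O = (RatFunc.inftyValuation k).valuationSubring) := by
  constructor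
  · rintro ⟨hk, hO⟩
    by_cases hX : (RatFunc.X : RatFunc k) ∈ O
    · left
      have hA : (algebraMap (Polynomial k) (RatFunc k)).range ≤ O.toSubring := by
        rintro _ ⟨p, rfl⟩
        induction p using Polynomial.induction_on' with
        | add p q hp hq =>
          rw [map_add]
          exact O.add_mem _ _ hp hq
        | monomial n c =>
          rw [← Polynomial.C_mul_X_pow_eq_monomial, map_mul, map_pow, RatFunc.algebraMap_C,
            RatFunc.algebraMap_X]
          exact O.mul_mem _ _ (hk ⟨c, rfl⟩) (pow_mem hX n)
      exact (Groth.Agent.S11080.result (Polynomial k) (RatFunc k) O).mp ⟨hA, hO⟩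
    · right
      have hlt : 1 < O.valuation RatFunc.X := by
        rw [← not_le, ValuationSubring.valuation_le_one_iff]
        exact hX
      haveI : O.valuation.IsTrivialOn k := ⟨fun c hc => by
        have h1 : algebraMap k (RatFunc k) c ∈ O := hk ⟨c, rfl⟩
        have h2 : algebraMap k (RatFunc k) c⁻¹ ∈ O := hk ⟨c⁻¹, rfl⟩
        have h3 := (O.valuation_le_one_iff _).mpr h1
        have h4 := (O.valuation_le_one_iff _).mpr h2
        rw [map_inv₀, map_inv₀] at h4
        have hne : O.valuation (algebraMap k (RatFunc k) c) ≠ 0 := by
          rw [Valuation.ne_zero_iff]
          exact (map_ne_zero _).mpr hc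
        have h5 : 1 ≤ O.valuation (algebraMap k (RatFunc k) c) :=
          (inv_le_one₀ (zero_lt_iff.mpr hne)).mp h4
        exact le_antisymm h3 h5⟩
      have hequiv := RatFunc.valuation_isEquiv_inftyValuation_of_one_lt_valuation_X hlt
      have := (Valuation.isEquiv_iff_valuationSubring _ _).mp hequiv
      rw [ValuationSubring.valuationSubring_valuation] at this
      exact this
  · rintro (⟨v, rfl⟩ | rfl)
    · have := (Groth.Agent.S11080.result (Polynomial k) (RatFunc k) _).mpr ⟨v, rfl⟩
      refine ⟨?_, this.2⟩
      rintro _ ⟨c, rfl⟩
      apply this.1
      exact ⟨Polynomial.C c, RatFunc.algebraMap_C c⟩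
    · refine ⟨?_, ?_⟩
      · rintro _ ⟨c, rfl⟩
        change RatFunc.inftyValuation k (algebraMap k (RatFunc k) c) ≤ 1
        by_cases hc : c = 0
        · simp [hc]
        · rw [Valuation.IsTrivialOn.eq_one c hc]
      · simp only [ne_eq, Valuation.valuationSubring_eq_top_iff, not_not]
        infer_instance

end Groth.Agent.S11084
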