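import Groth.Statements.S11096
-- import your own Groth.Agent.* helpers here

set_option autoImplicit false
universe u
open Neron

namespace Groth.Agent.S11096

/-- Let a Weierstrass equation have coefficients in a commutative ring R and let I be an ideal with a₃,
a₄, a₆ ∈ I. If the discriminant Δ does not lie in I ^ 2, then a₆ does not lie in I ^ 2 and b₂ does
not lie in I. (For a discrete valuation ring with maximal ideal (π): if π divides a₃, a₄, a₆ and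
v(Δ) = 1, then v(a₆) = 1 and π does not divide b₂.) -/
theorem result {R : Type u} [CommRing R] (W : WeierstrassCurve R)
    (I : Ideal R) (h3 : W.a₃ ∈ I) (h4 : W.a₄ ∈ I) (h6 : W.a₆ ∈ I) (hΔ : W.Δ ∉ I ^ 2) :
    W.a₆ ∉ I ^ 2 ∧ W.b₂ ∉ I := by
  have sq : ∀ x y : R, x ∈ I → y ∈ I → x * y ∈ I ^ 2 := fun x y hx hy => by
    rw [pow_two]; exact Ideal.mul_mem_mul hx hy
  have hb4 : W.b₄ ∈ I := by
    unfold WeierstrassCurve.b₄
    exact I.add_mem (I.mul_mem_left _ h4) (I.mul_mem_left _ h3)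
  have hb6 : W.b₆ ∈ I := by
    unfold WeierstrassCurve.b₆
    exact I.add_mem (I.pow_mem_of_mem h3 2 (by norm_num)) (I.mul_mem_left _ h6)
  -- the part of b₈ other than b₂ * a₆ lies in I ^ 2
  have hb8 : W.b₈ - W.b₂ * W.a₆ ∈ I ^ 2 := by
    have e : W.b₈ - W.b₂ * W.a₆ = W.a₂ * (W.a₃ * W.a₃) - W.a₁ * (W.a₃ * W.a₄) - W.a₄ * W.a₄ := by
      unfold WeierstrassCurve.b₈ WeierstrassCurve.b₂; ring
    rw [e]
    exact (I ^ 2).sub_mem ((I ^ 2).sub_mem ((I ^ 2).mul_mem_left _ (sq _ _ h3 h3))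
      ((I ^ 2).mul_mem_left _ (sq _ _ h3 h4))) (sq _ _ h4 h4)
  -- Δ + b₂^3 * a₆ lies in I ^ 2
  have hΔ' : W.Δ + W.b₂ ^ 2 * (W.b₂ * W.a₆) ∈ I ^ 2 := by
    have e : W.Δ + W.b₂ ^ 2 * (W.b₂ * W.a₆) = -(W.b₂ ^ 2 * (W.b₈ - W.b₂ * W.a₆))
        - (8 * W.b₄) * (W.b₄ * W.b₄) - 27 * (W.b₆ * W.b₆) + (9 * W.b₂) * (W.b₄ * W.b₆) := by
      unfold WeierstrassCurve.Δ; ring
    rw [e]
    exact (I ^ 2).add_mem ((I ^ 2).sub_mem ((I ^ 2).sub_mem
      ((I ^ 2).neg_mem ((I ^ 2).mul_mem_left _ hb8)) ((I ^ 2).mul_mem_left _ (sq _ _ hb4 hb4)))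
      ((I ^ 2).mul_mem_left _ (sq _ _ hb6 hb6))) ((I ^ 2).mul_mem_left _ (sq _ _ hb4 hb6))
  constructor
  · intro h
    apply hΔ
    have h2 : W.b₂ ^ 2 * (W.b₂ * W.a₆) ∈ I ^ 2 :=
      (I ^ 2).mul_mem_left _ ((I ^ 2).mul_mem_left _ h)
    have := (I ^ 2).sub_mem hΔ' h2
    simpa using this
  · intro h
    apply hΔ
    have h2 : W.b₂ ^ 2 * (W.b₂ * W.a₆) ∈ I ^ 2 :=
      (I ^ 2).mul_mem_left _ (sq _ _ h h6)
    have := (I ^ 2).sub_mem hΔ' h2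
    simpa using this

end Groth.Agent.S11096
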