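import Groth.Statements.S11103
import Mathlib
-- import your own Groth.Agent.* helpers here

set_option autoImplicit false
universe u
open CategoryTheory CategoryTheory.Limits AlgebraicGeometry
open Neron

namespace Groth.Agent.S11103

set_option linter.style.haveILetI false

section
variable (R R' : Type u) [CommRing R] [IsDomain R] [CommRing R'] [IsDomain R'] [Algebra R R']

theorem injective_toFrac (hinj : Function.Injective (algebraMap R R')) :
    Function.Injective ((algebraMap R' (FractionRing R')).comp (algebraMap R R')) :=
  (IsFractionRing.injective R' (FractionRing R')).comp hinj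

/-- the ring map `Frac R → Frac R'` -/
noncomputable def fracMap (hinj : Function.Injective (algebraMap R R')) :
    FractionRing R →+* FractionRing R' :=
  IsFractionRing.lift (injective_toFrac R R' hinj)

theorem fracMap_algebraMap (hinj : Function.Injective (algebraMap R R')) (x : R) :
    fracMap R R' hinj (algebraMap R (FractionRing R) x) =
      algebraMap R' (FractionRing R') (algebraMap R R' x) :=
  IsFractionRing.lift_algebraMap (injective_toFrac R R' hinj) x

theorem isPullback_genPt [Algebra.IsIntegral R R'] (hinj : Function.Injective (algebraMap R R')) :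
    IsPullback (Spec.map (CommRingCat.ofHom (fracMap R R' hinj))) (Neron.genPt R') (Neron.genPt R)
      (Spec.map (CommRingCat.ofHom (algebraMap R R'))) := by
  let K := FractionRing R
  let K' := FractionRing R'
  haveI : IsScalarTower R R' K' := inferInstance
  letI : Algebra K K' := (fracMap R R' hinj).toAlgebra
  haveI : IsScalarTower R K K' := IsScalarTower.of_algebraMap_eq (fun x => by
    show _ = fracMap R R' hinj (algebraMap R K x)
    rw [IsScalarTower.algebraMap_apply R R' K', fracMap_algebraMap])
  haveI : FaithfulSMul R R' := (faithfulSMul_iff_algebraMap_injective R R').2 hinj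
  haveI : Algebra.IsAlgebraic R R' := inferInstance
  haveI : Algebra.IsPushout R K R' K' :=
    ⟨Algebra.IsAlgebraic.isBaseChange_of_isFractionRing R R' K K'⟩
  exact isPullback_SpecMap_of_isPushout _ _ _ _ (CommRingCat.isPushout_of_isPushout R K R' K')

end


section BC

variable {S S' T T' : Scheme.{u}} {c : T' ⟶ T} {η' : T' ⟶ S'} {η : T ⟶ S} {g : S' ⟶ S}

/-- The Néron mapping property is stable under a smooth base change `g : S' ⟶ S` of the base along
which the "generic point" `η : T ⟶ S` pulls back to `η' : T' ⟶ S'`. -/
theorem nmp_bc (P0 : IsPullback c η' η g) [Smooth g] (N : Over S)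
    (hN : ∀ Y : Over S, Smooth Y.hom →
      Function.Bijective (fun f : Y ⟶ N => (Over.pullback η).map f))
    (Y' : Over S') [Smooth Y'.hom] :
    Function.Bijective (fun f' : Y' ⟶ (Over.pullback g).obj N => (Over.pullback η').map f') := by
  let Y : Over S := Over.mk (Y'.hom ≫ g)
  haveI : Smooth Y.hom := inferInstanceAs (Smooth (Y'.hom ≫ g))
  have hY := hN Y inferInstance
  -- the comparison of generic fibres of `Y'` and `Y`
  have sqθ : IsPullback (pullback.fst Y'.hom η') (pullback.snd Y'.hom η' ≫ c) (Y'.hom ≫ g) η :=
    (IsPullback.of_hasPullback Y'.hom η').paste_vert P0.flip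
  let θ : pullback Y'.hom η' ≅ pullback (Y'.hom ≫ g) η := sqθ.isoPullback
  have hθ1 : θ.hom ≫ pullback.fst (Y'.hom ≫ g) η = pullback.fst Y'.hom η' :=
    sqθ.isoPullback_hom_fst
  have hθ2 : θ.hom ≫ pullback.snd (Y'.hom ≫ g) η = pullback.snd Y'.hom η' ≫ c :=
    sqθ.isoPullback_hom_snd
  -- the projection of generic fibres of `N'` and `N`
  let κ : pullback (pullback.snd N.hom g) η' ⟶ pullback N.hom η :=
    pullback.lift (pullback.fst _ _ ≫ pullback.fst _ _) (pullback.snd _ _ ≫ c) (by
      rw [Category.assoc, Category.assoc, pullback.condition, ← Category.assoc (pullback.fst _ _),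
        pullback.condition, Category.assoc, P0.w])
  have hκ1 : κ ≫ pullback.fst N.hom η = pullback.fst _ _ ≫ pullback.fst _ _ :=
    pullback.lift_fst _ _ _
  have hκ2 : κ ≫ pullback.snd N.hom η = pullback.snd _ _ ≫ c := pullback.lift_snd _ _ _
  -- the adjoint morphism
  let α : (Y' ⟶ (Over.pullback g).obj N) → (Y ⟶ N) := fun f' =>
    Over.homMk (f'.left ≫ pullback.fst N.hom g) (by
      have h := Over.w f'
      change f'.left ≫ pullback.snd N.hom g = Y'.hom at h
      change (f'.left ≫ pullback.fst N.hom g) ≫ N.hom = Y'.hom ≫ g
      rw [Category.assoc, pullback.condition, ← Category.assoc, h])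
  have key : ∀ f' : Y' ⟶ (Over.pullback g).obj N,
      θ.hom ≫ ((Over.pullback η).map (α f')).left = ((Over.pullback η').map f').left ≫ κ := by
    intro f'
    apply pullback.hom_ext
    · have e1 : ((Over.pullback η).map (α f')).left ≫ pullback.fst N.hom η =
          pullback.fst (Y'.hom ≫ g) η ≫ (α f').left := by
        dsimp only [Over.pullback]; exact pullback.lift_fst _ _ _
      have e2 : ((Over.pullback η').map f').left ≫ pullback.fst (pullback.snd N.hom g) η' =
          pullback.fst Y'.hom η' ≫ f'.left := by
        dsimp only [Over.pullback]; exact pullback.lift_fst _ _ _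
      rw [Category.assoc, e1, ← Category.assoc, hθ1, Category.assoc, hκ1, ← Category.assoc, e2,
        Category.assoc]
      rfl
    · have e1 : ((Over.pullback η).map (α f')).left ≫ pullback.snd N.hom η =
          pullback.snd (Y'.hom ≫ g) η := Over.w ((Over.pullback η).map (α f'))
      have e2 : ((Over.pullback η').map f').left ≫ pullback.snd (pullback.snd N.hom g) η' =
          pullback.snd Y'.hom η' := Over.w ((Over.pullback η').map f')
      rw [Category.assoc, e1, hθ2, Category.assoc, hκ2, ← Category.assoc, e2]
  have key' : ∀ f' : Y' ⟶ (Over.pullback g).obj N,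
      ((Over.pullback η).map (α f')).left = θ.inv ≫ ((Over.pullback η').map f').left ≫ κ := by
    intro f'
    rw [← key f', Iso.inv_hom_id_assoc]
  constructor
  · intro f₁ f₂ h
    have h' : (Over.pullback η').map f₁ = (Over.pullback η').map f₂ := h
    have h1 : α f₁ = α f₂ := by
      apply hY.1
      show (Over.pullback η).map (α f₁) = (Over.pullback η).map (α f₂)
      ext
      rw [key', key', h']
    have h2 : f₁.left ≫ pullback.fst N.hom g = f₂.left ≫ pullback.fst N.hom g :=
      congrArg (fun k => k.left) h1
    ext
    apply pullback.hom_ext h2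
    exact (Over.w f₁).trans (Over.w f₂).symm
  · intro u'
    -- the morphism of generic fibres over `T`
    let βu : (Over.pullback η).obj Y ⟶ (Over.pullback η).obj N :=
      Over.homMk (θ.inv ≫ u'.left ≫ κ) (by
        have h := Over.w u'
        change u'.left ≫ pullback.snd (pullback.snd N.hom g) η' = pullback.snd Y'.hom η' at h
        change (θ.inv ≫ u'.left ≫ κ) ≫ pullback.snd N.hom η = pullback.snd (Y'.hom ≫ g) η
        rw [Category.assoc, Category.assoc, hκ2, ← Category.assoc u'.left, h, ← hθ2,
          Iso.inv_hom_id_assoc])
    obtain ⟨f, hf⟩ := hY.2 βu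
    have hf' : (Over.pullback η).map f = βu := hf
    let f' : Y' ⟶ (Over.pullback g).obj N :=
      Over.homMk (pullback.lift f.left Y'.hom (Over.w f)) (pullback.lift_snd _ _ _)
    have hα : α f' = f := by
      ext
      exact pullback.lift_fst _ _ _
    refine ⟨f', ?_⟩
    show (Over.pullback η').map f' = u'
    have h1 : ((Over.pullback η').map f').left ≫ κ = u'.left ≫ κ := by
      rw [← key f', hα, hf']
      show θ.hom ≫ θ.inv ≫ u'.left ≫ κ = _
      rw [Iso.hom_inv_id_assoc]
    have hw : ((Over.pullback η').map f').left ≫ pullback.snd (pullback.snd N.hom g) η' =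
        u'.left ≫ pullback.snd (pullback.snd N.hom g) η' :=
      (Over.w ((Over.pullback η').map f')).trans (Over.w u').symm
    have hκ1' : κ ≫ pullback.fst N.hom η =
        pullback.fst ((Over.pullback g).obj N).hom η' ≫ pullback.fst N.hom g := hκ1
    have hc : pullback.fst ((Over.pullback g).obj N).hom η' ≫ pullback.snd N.hom g =
        pullback.snd ((Over.pullback g).obj N).hom η' ≫ η' := pullback.condition
    have hw' : ((Over.pullback η').map f').left ≫ pullback.snd ((Over.pullback g).obj N).hom η' =
        u'.left ≫ pullback.snd ((Over.pullback g).obj N).hom η' := hw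
    ext
    apply pullback.hom_ext
    · apply pullback.hom_ext
      · rw [Category.assoc, Category.assoc, ← hκ1', ← Category.assoc, ← Category.assoc, h1]
      · rw [Category.assoc, Category.assoc, hc, ← Category.assoc, ← Category.assoc, hw']
    · exact hw

end BC

theorem main (R R' : Type u) [CommRing R] [IsDedekindDomain R]
    [CommRing R'] [IsDedekindDomain R'] [Algebra R R'] [Module.Finite R R'] [Algebra.Etale R R']
    (N : Over (Spec (CommRingCat.of R)))
    (hN : Neron.IsNeronModelOf R N ((Neron.genericFibre R).obj N) (Iso.refl _)) :
    Neron.IsNeronModelOf R'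
      ((Over.pullback (Spec.map (CommRingCat.ofHom (algebraMap R R')))).obj N)
      ((Neron.genericFibre R').obj ((Over.pullback (Spec.map (CommRingCat.ofHom (algebraMap R R')))).obj N))
      (Iso.refl _) := by
  obtain ⟨hsm, hsep, hlft, hqc, hmap⟩ := hN
  let g : Spec (CommRingCat.of R') ⟶ Spec (CommRingCat.of R) :=
    Spec.map (CommRingCat.ofHom (algebraMap R R'))
  haveI : Etale g := by
    rw [HasRingHomProperty.Spec_iff (P := @Etale)]
    exact RingHom.etale_algebraMap.mpr inferInstance
  haveI : Smooth g := inferInstance
  have hinj : Function.Injective (algebraMap R R') := FaithfulSMul.algebraMap_injective R R'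
  have P0 := isPullback_genPt R R' hinj
  haveI := hsm
  haveI := hsep
  haveI := hlft
  haveI := hqc
  refine ⟨?_, ?_, ?_, ?_, ?_⟩
  · exact inferInstanceAs (Smooth (pullback.snd N.hom g))
  · exact inferInstanceAs (IsSeparated (pullback.snd N.hom g))
  · exact inferInstanceAs (LocallyOfFiniteType (pullback.snd N.hom g))
  · exact inferInstanceAs (QuasiCompact (pullback.snd N.hom g))
  · intro Y' hY'
    haveI := hY'
    have hN' : ∀ Y : Over (Spec (CommRingCat.of R)), Smooth Y.hom →
        Function.Bijective (fun f : Y ⟶ N => (Over.pullback (Neron.genPt R)).map f) := by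
      intro Y hY
      have := hmap Y hY
      simpa only [Iso.refl_hom, Category.comp_id] using this
    have := nmp_bc P0 N hN' Y'
    simpa only [Iso.refl_hom, Category.comp_id] using this

/-- Let R be a Dedekind domain with fraction field K, let R' be a Dedekind domain finite étale over R
(the integral closure of R in a finite unramified extension K' of K), and let N be a Néron model
over Spec R of its generic fibre N_K. Then the base change N' = N ×_R R' is a Néron model over Spec
R' of its generic fibre N'_{K'}: it is smooth, separated and of finite type over Spec R', and every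
K'-morphism from the generic fibre of a smooth R'-scheme to N'_{K'} extends uniquely to an
R'-morphism into N'. (The published statement concerns the Néron model of an elliptic curve with the
mapping property for rational maps; this row allows any N and tests the mapping property on
morphisms from smooth schemes. The property generally fails for ramified extensions.) -/
theorem result (R R' : Type u) [CommRing R] [IsDedekindDomain R]
    [CommRing R'] [IsDedekindDomain R'] [Algebra R R'] [Module.Finite R R'] [Algebra.Etale R R']
    (N : Over (Spec (CommRingCat.of R)))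
    (hN : Neron.IsNeronModelOf R N ((Neron.genericFibre R).obj N) (Iso.refl _)) :
    Neron.IsNeronModelOf R'
      ((Over.pullback (Spec.map (CommRingCat.ofHom (algebraMap R R')))).obj N)
      ((Neron.genericFibre R').obj ((Over.pullback (Spec.map (CommRingCat.ofHom (algebraMap R R')))).obj N))
      (Iso.refl _) := by
  exact main R R' N hN

end Groth.Agent.S11103
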