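import Groth.Statements.S11107
import Groth.Agent.Lib.Helper4.SmoothRegSch
import Groth.Agent.Lib.Helper4.CurveExt2

set_option autoImplicit false
universe u
open CategoryTheory AlgebraicGeometry
open Neron

namespace Groth.Agent.S11107

/-- Let R be a Dedekind domain, X → Spec R a smooth morphism, Y → Spec R a proper morphism, U ⊆ X a
dense open subscheme and f : U → Y a morphism over Spec R (a rational map X ⇢ Y over R). Then f
extends, over Spec R, to an open subscheme V ⊇ U of X such that every point of X outside V has a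
local ring of Krull dimension at least 2: the locus where the rational map is undefined has
codimension at least two. (The published statement assumes the rational map dominant; this row does
not.) -/
theorem result {R : Type u} [CommRing R] [IsDedekindDomain R]
    {X Y : Scheme.{u}} (pX : X ⟶ Spec (CommRingCat.of R)) (pY : Y ⟶ Spec (CommRingCat.of R))
    [Smooth pX] [IsProper pY] (U : X.Opens) (hU : Dense (U : Set X))
    (f : (U : Scheme.{u}) ⟶ Y) (hf : f ≫ pY = U.ι ≫ pX) :
    ∃ (V : X.Opens) (hUV : U ≤ V) (g : (V : Scheme.{u}) ⟶ Y),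
      g ≫ pY = V.ι ≫ pX ∧ X.homOfLE hUV ≫ g = f ∧
      ∀ x : X, x ∉ V → (2 : WithBot ℕ∞) ≤ ringKrullDim (X.presheaf.stalk x) := by
  haveI : IsLocallyNoetherian X := LocallyOfFiniteType.isLocallyNoetherian pX
  have hreg : ∀ x : X, IsRegularLocalRing (X.presheaf.stalk x) := fun x =>
    Groth.Agent.Helper4.SmoothRegSch.isRegularLocalRing_stalk R pX x
  haveI : ∀ x : X, _root_.IsReduced (X.presheaf.stalk x) := fun x =>
    haveI := hreg x
    haveI : IsDomain (X.presheaf.stalk x) := Groth.Agent.Lead.RLR.isDomain _
    inferInstance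
  haveI : IsReduced X := isReduced_of_isReduced_stalk X
  obtain ⟨V, hUV, g, hg1, hg2, hg3⟩ :=
    Groth.Agent.Helper4.CurveExt.exists_extension_codim_one pY pX (fun x _ => hreg x) U hU f hf
  refine ⟨V, hUV, g, hg1, hg2, fun x hx => ?_⟩
  by_contra hlt
  apply hx
  apply hg3 x
  rw [not_le] at hlt
  have key : ∀ d : WithBot ℕ∞, d < 2 → d ≤ 1 := by
    intro d hd
    induction d using WithBot.recBotCoe with
    | bot => exact bot_le
    | coe n =>
      have h1 : (n : ℕ∞) < 1 + 1 := by
        have : (n : ℕ∞) < 2 := by
          have h0 : ((n : ℕ∞) : WithBot ℕ∞) < ((2 : ℕ∞) : WithBot ℕ∞) := hd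
          exact WithBot.coe_lt_coe.mp h0
        rwa [one_add_one_eq_two]
      have h2 : n ≤ 1 := Order.le_of_lt_add_one h1
      exact_mod_cast h2
  exact key _ hlt

end Groth.Agent.S11107
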