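import Groth.Statements.S11116
import Groth.Agent.Lib.Helper24.RFSumSch

set_option autoImplicit false
universe u
open CategoryTheory CategoryTheory.Limits AlgebraicGeometry
attribute [local instance] HasDerivedCategory.standard
open Perf

namespace Groth.Agent.S11116

/-- Let f : X ⟶ S be a quasi-compact quasi-separated morphism of schemes and assume the unbounded
derived direct image Rf_* exists. For a family K_i of objects of D(O_X) indexed by a small type
whose cohomology sheaves all vanish below one fixed degree n, with direct sums ∐ K_i in D(O_X) and ∐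
Rf_* K_i in D(O_S), the canonical map ∐ Rf_* K_i ⟶ Rf_*(∐ K_i) is an isomorphism. No quasi-coherence
is assumed. -/
theorem result {X S : Scheme.{u}} (f : X ⟶ S) [QuasiCompact f]
    [QuasiSeparated f] [DCoh.HasRpush f] {ι : Type u} (K : ι → DCoh.D X) (n : ℤ) (hK : ∀ i, (K i).IsGE n)
    [HasCoproduct K] [HasCoproduct (fun i => (DCoh.Rpush f).obj (K i))] :
    IsIso (Sigma.desc (fun i => (DCoh.Rpush f).map (Sigma.ι K i))) := by
  haveI : IsGrothendieckAbelian.{u} X.Modules := Groth.Agent.Helper29.ShModGA.main0484 _ _
  haveI : IsGrothendieckAbelian.{u} S.Modules := Groth.Agent.Helper29.ShModGA.main0484 _ _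
  haveI : HasFiniteBiproducts X.Modules := Abelian.hasFiniteBiproducts
  haveI : HasFiniteBiproducts S.Modules := Abelian.hasFiniteBiproducts
  haveI : AB4 X.Modules := AB4.of_AB5 _
  haveI : AB4 S.Modules := AB4.of_AB5 _
  haveI : HasExactColimitsOfShape (Discrete ι) X.Modules := inferInstance
  haveI : HasExactColimitsOfShape (Discrete ι) S.Modules := inferInstance
  haveI : PreservesColimitsOfShape (Discrete ι) (Scheme.Modules.pushforward f) :=
    Groth.Agent.Helper24.RFSumSch.preservesCoprod_push f
  exact Groth.Agent.Helper24.RFSumG.isIso_sigmaDesc (Scheme.Modules.pushforward f) (DCoh.Rpush f)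
    ((DCoh.pushKh f).totalRightDerivedUnit DerivedCategory.Qh
      (HomotopyCategory.quasiIso X.Modules (ComplexShape.up ℤ)))
    (fun J hJ => Groth.Agent.Helper24.RFSumSch.acyc_sigma f J hJ) K n hK

end Groth.Agent.S11116
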