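import Groth.Statements.S1113
import Groth.Agent.Lib.Helper2.DerTrunc
-- import your own Groth.Agent.* helpers here

set_option autoImplicit false
universe w v u
open CategoryTheory CategoryTheory.Limits
open CohDer

namespace Groth.Agent.S1113

open CategoryTheory CategoryTheory.Limits DerivedCategory Groth.Agent.Helper2

theorem aux {A : Type u} [Category.{v} A] [Abelian A] [HasDerivedCategory.{w} A]
    (K : ℕᵒᵖ ⥤ CochainComplex A ℤ) (n : ℕ)
    (h0 : ∀ i : ℤ, i < 0 → IsZero ((K.obj (Opposite.op 0)).homology i))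
    (hz : ∀ j : ℕ, j < n → HomologicalComplex.homologyMap (K.map (homOfLE (Nat.le_succ j)).op) (j : ℤ) = 0) :
    ∃ φ : DerivedCategory.Q.obj ((K.obj (Opposite.op n)).truncGE (n : ℤ)) ⟶ DerivedCategory.Q.obj (K.obj (Opposite.op 0)),
      DerivedCategory.Q.map ((K.obj (Opposite.op n)).πTruncGE (n : ℤ)) ≫ φ = DerivedCategory.Q.map (K.map (homOfLE (Nat.zero_le n)).op) := by
  induction n with
  | zero =>
    have hGE : (K.obj (Opposite.op 0)).IsGE 0 := by
      rw [CochainComplex.isGE_iff]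
      intro i hi
      rw [HomologicalComplex.exactAt_iff_isZero_homology]
      exact h0 i hi
    have hq : QuasiIso ((K.obj (Opposite.op 0)).πTruncGE 0) :=
      (CochainComplex.quasiIso_πTruncGE_iff _ _).2 hGE
    have hiso : IsIso (Q.map ((K.obj (Opposite.op 0)).πTruncGE 0)) := by
      rw [isIso_Q_map_iff_quasiIso]; exact hq
    refine ⟨inv (Q.map ((K.obj (Opposite.op 0)).πTruncGE 0)), ?_⟩
    have e : K.map (homOfLE (Nat.zero_le 0)).op = 𝟙 _ := by
      rw [← K.map_id]; rfl
    rw [e, Q.map_id]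
    exact IsIso.hom_inv_id _
  | succ n ih =>
    obtain ⟨φ, hφ⟩ := ih (fun j hj => hz j (Nat.lt_succ_of_lt hj))
    have hm := hz n (Nat.lt_succ_self n)
    set m := K.map (homOfLE (Nat.le_succ n)).op with hm_def
    have hcomp : K.map (homOfLE (Nat.zero_le (n + 1))).op = m ≫ K.map (homOfLE (Nat.zero_le n)).op := by
      rw [hm_def, ← K.map_comp]; rfl
    have hab : (n : ℤ) + 1 = ((n + 1 : ℕ) : ℤ) := by push_cast; omega
    have hθ : Q.map ((K.obj (Opposite.op (n + 1))).ιTruncLE (n : ℤ)) ≫ Q.map m ≫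
        Q.map ((K.obj (Opposite.op n)).πTruncGE (n : ℤ)) = 0 := by
      rw [← Q.map_comp, ← Q.map_comp]
      apply Q_hom_eq_zero_of_homology_map_eq_zero (n : ℤ)
      have nat := (homologyFunctorFactors A (n : ℤ)).hom.naturality
        ((K.obj (Opposite.op (n + 1))).ιTruncLE (n : ℤ) ≫ m ≫ (K.obj (Opposite.op n)).πTruncGE (n : ℤ))
      have hzero : HomologicalComplex.homologyMap
          ((K.obj (Opposite.op (n + 1))).ιTruncLE (n : ℤ) ≫ m ≫
            (K.obj (Opposite.op n)).πTruncGE (n : ℤ)) (n : ℤ) = 0 := by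
        rw [HomologicalComplex.homologyMap_comp, HomologicalComplex.homologyMap_comp, hm,
          zero_comp, comp_zero]
      simp only [Functor.comp_map, HomologicalComplex.homologyFunctor_map, hzero] at nat
      exact (cancel_mono ((homologyFunctorFactors A (n : ℤ)).hom.app _)).1
        ((nat.trans comp_zero).trans zero_comp.symm)
    obtain ⟨ψ, hψ⟩ := exists_desc_truncGE (K.obj (Opposite.op (n + 1))) (n : ℤ) ((n + 1 : ℕ) : ℤ) hab
      (Q.map (K.map (homOfLE (Nat.zero_le (n + 1))).op)) (by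
        rw [hcomp, Q.map_comp, ← hφ, ← Category.assoc, ← Category.assoc]
        rw [Category.assoc (Q.map _) (Q.map m), hθ, zero_comp])
    exact ⟨ψ, hψ⟩

/-- Let K : ℕᵒᵖ ⥤ CochainComplex A ℤ be a sequence of cochain maps … → K₂ → K₁ → K₀ in an abelian
category with Hⁱ(K₀) = 0 for i < 0 and such that for every j < n the map Hʲ(Kⱼ₊₁) → Hʲ(Kⱼ) is zero.
Then in the derived category the composite Kₙ → K₀ factors through the canonical truncation Kₙ →
τ_{≥ n}Kₙ. -/
theorem result {A : Type u} [Category.{v} A] [Abelian A] [HasDerivedCategory.{w} A]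
    (K : ℕᵒᵖ ⥤ CochainComplex A ℤ) (n : ℕ)
    (h0 : ∀ i : ℤ, i < 0 → IsZero ((K.obj (Opposite.op 0)).homology i))
    (hz : ∀ j : ℕ, j < n → HomologicalComplex.homologyMap (K.map (homOfLE (Nat.le_succ j)).op) (j : ℤ) = 0) :
    ∃ φ : DerivedCategory.Q.obj ((K.obj (Opposite.op n)).truncGE (n : ℤ)) ⟶ DerivedCategory.Q.obj (K.obj (Opposite.op 0)),
      DerivedCategory.Q.map ((K.obj (Opposite.op n)).πTruncGE (n : ℤ)) ≫ φ = DerivedCategory.Q.map (K.map (homOfLE (Nat.zero_le n)).op) := by
  exact aux K n h0 hz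

end Groth.Agent.S1113
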