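import Groth.Statements.S11132
import Groth.Agent.Lib.Helper5.SkyMod1

set_option autoImplicit false
universe u
open CategoryTheory AlgebraicGeometry
open DCoh

namespace Groth.Agent.S11132

/-- For a scheme X, a cochain complex F of O_X-modules is K-flat if and only if for every point x of X
the complex of stalks F_x, a complex of modules over the local ring O_{X,x}, is K-flat. (The
published statement is for a diagram of schemes and also compares with the restrictions to each
scheme of the diagram; this row is its case of a single scheme.) -/
theorem result (X : Scheme.{u}) (F : CochainComplex X.Modules ℤ) :
    DCoh.IsKFlat F ↔ ∀ x : X, DRing.IsKFlat (X.presheaf.stalk x)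
      (((DerSch.stalkFunctor X x).mapHomologicalComplex (ComplexShape.up ℤ)).obj F) := by
  constructor
  · intro hF x
    exact Groth.Agent.Helper5.Sky.isKFlat_stalk x F hF
  · intro h
    exact Groth.Agent.Helper5.StalkCx.isKFlat_of_stalks F h

end Groth.Agent.S11132
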