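import Groth.Statements.S11135
import Groth.Agent.Lib.Helper17.PN4

set_option autoImplicit false
universe u
open InvTh

namespace Groth.Agent.S11135

/-- Suppose S is the product of a finite family of integrally closed domains (a finite product of normal
domains), R is any commutative ring, and F is a family of ring maps S → R each carrying
non-zero-divisors of S to non-zero-divisors of R. Then the subring A of S on which all members of F
coincide (a ∈ A iff f(a) = f'(a) for all f, f' in F) is ring-isomorphic to a product of finitely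
many integrally closed domains. -/
theorem result {ι : Type u} [Fintype ι] (D : ι → Type u)
    [∀ i, CommRing (D i)] [∀ i, IsDomain (D i)] [∀ i, IsIntegrallyClosed (D i)]
    (R : Type u) [CommRing R] (F : Set ((Π i, D i) →+* R))
    (hF : ∀ f ∈ F, ∀ s ∈ nonZeroDivisors (Π i, D i), f s ∈ nonZeroDivisors R)
    (A : Subring (Π i, D i)) (hA : ∀ a, a ∈ A ↔ ∀ f ∈ F, ∀ f' ∈ F, f a = f' a) :
    ∃ (κ : Type u) (_ : Fintype κ) (E : κ → Type u) (_ : ∀ j, CommRing (E j)) (_ : ∀ j, IsDomain (E j))
      (_ : ∀ j, IsIntegrallyClosed (E j)), Nonempty (A ≃+* Π j, E j) := by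
  classical
  -- elements with no zero component are non-zero-divisors
  have hnzd : ∀ s : Π i, D i, (∀ i, s i ≠ 0) → s ∈ nonZeroDivisors (Π i, D i) := by
    intro s hs
    rw [mem_nonZeroDivisors_iff_left]
    intro x hx
    funext i
    have := congrFun hx i
    rcases mul_eq_zero.mp this with h | h
    · exact absurd h (hs i)
    · exact h
  have hfull : ∀ a : Π i, D i, ∀ i,
      (a + (1 - Groth.Agent.Helper17.PN.ee D (Groth.Agent.Helper17.PN.supp a))) i ≠ 0 := by
    intro a i
    simp only [Pi.add_apply, Pi.sub_apply, Pi.one_apply, Groth.Agent.Helper17.PN.ee_apply]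
    by_cases hi : i ∈ Groth.Agent.Helper17.PN.supp a
    · simpa [hi] using (Groth.Agent.Helper17.PN.mem_supp a i).mp hi
    · have : a i = 0 := by
        by_contra h0
        exact hi ((Groth.Agent.Helper17.PN.mem_supp a i).mpr h0)
      simp [hi, this]
  have hP1 : ∀ a ∈ A, Groth.Agent.Helper17.PN.ee D (Groth.Agent.Helper17.PN.supp a) ∈ A := by
    intro a ha
    rw [hA]
    obtain ⟨e, he⟩ : ∃ e, e = Groth.Agent.Helper17.PN.ee D (Groth.Agent.Helper17.PN.supp a) := ⟨_, rfl⟩
    rw [← he]
    have hae : a * e = a := by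
      rw [he]
      exact Groth.Agent.Helper17.PN.mul_ee_of_supp_subset a _ (Finset.Subset.refl _)
    have hee : e * e = e := by
      rw [he, Groth.Agent.Helper17.PN.ee_mul, Finset.inter_self]
    have hn : a + (1 - e) ∈ nonZeroDivisors (Π i, D i) := by
      rw [he]
      exact hnzd _ (hfull a)
    have key : ∀ g ∈ F, ∀ g' ∈ F, g e = g e * g' e := by
      intro g hg g' hg'
      have hga : g a = g' a := (hA a).mp ha g hg g' hg'
      have h1 : g a * g e = g a := by rw [← map_mul, hae]
      have h2 : g' a * g' e = g' a := by rw [← map_mul, hae]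
      have h3 : g e * g e = g e := by rw [← map_mul, hee]
      have hy : g (a + (1 - e)) * (g e * (1 - g' e)) = 0 := by
        rw [map_add, map_sub, map_one]
        have e1 : (g a + (1 - g e)) * (g e * (1 - g' e)) =
            (g a * g e) * (1 - g' e) + (g e - g e * g e) * (1 - g' e) := by ring
        rw [e1, h1, h3, sub_self, zero_mul, add_zero, mul_sub, mul_one, hga, h2, sub_self]
      have h4 := (mul_left_mem_nonZeroDivisors_eq_zero_iff (hF g hg _ hn)).mp hy
      rw [mul_sub, mul_one, sub_eq_zero] at h4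
      exact h4
    intro f hf f' hf'
    rw [key f hf f' hf', key f' hf' f hf, mul_comm (f' e), ← mul_assoc, ← map_mul, hee]
  apply Groth.Agent.Helper17.PN.exists_prod_normal A hP1
  intro b hb c hcb hsupp
  rw [hA]
  intro f hf f' hf'
  obtain ⟨e, he⟩ : ∃ e, e = Groth.Agent.Helper17.PN.ee D (Groth.Agent.Helper17.PN.supp b) := ⟨_, rfl⟩
  have heA : e ∈ A := he ▸ hP1 b hb
  have hn : b + (1 - e) ∈ nonZeroDivisors (Π i, D i) := by
    rw [he]
    exact hnzd _ (hfull b)
  have hb'A : b + (1 - e) ∈ A := A.add_mem hb (A.sub_mem A.one_mem heA)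
  have hce : c * (1 - e) = 0 := by
    funext i
    rw [he]
    simp only [Pi.mul_apply, Pi.sub_apply, Pi.one_apply, Groth.Agent.Helper17.PN.ee_apply, Pi.zero_apply]
    by_cases hi : i ∈ Groth.Agent.Helper17.PN.supp b
    · simp [hi]
    · have hbi : b i = 0 := by
        by_contra h0
        exact hi ((Groth.Agent.Helper17.PN.mem_supp b i).mpr h0)
      simp [hsupp i hbi]
  have hcb' : c * (b + (1 - e)) = c * b := by
    rw [mul_add, hce, add_zero]
  have h1 : f (b + (1 - e)) = f' (b + (1 - e)) := (hA _).mp hb'A f hf f' hf'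
  have h2 : f (c * b) = f' (c * b) := (hA _).mp hcb f hf f' hf'
  have h3 : f (b + (1 - e)) * (f c - f' c) = 0 := by
    have e1 : f (b + (1 - e)) * f c = f (c * b) := by rw [← map_mul, mul_comm, hcb']
    have e2 : f (b + (1 - e)) * f' c = f' (c * b) := by rw [h1, ← map_mul, mul_comm, hcb']
    rw [mul_sub, e1, e2, h2, sub_self]
  have h4 := (mul_left_mem_nonZeroDivisors_eq_zero_iff (hF f hf _ hn)).mp h3
  exact sub_eq_zero.mp h4

end Groth.Agent.S11135
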