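import Groth.Statements.S11141
import Groth.Agent.Lib.Helper17.HI2
import Groth.Agent.S11135

set_option autoImplicit false
universe u
open TensorProduct
open InvTh

namespace Groth.Agent.S11141

/-- Let k be a field, H a finitely generated commutative Hopf algebra over k (the coordinate ring of a
group scheme affine and of finite type over k), and S a commutative k-algebra which is
ring-isomorphic to a finite product of normal (integrally closed) domains and carries an H-comodule
structure whose coaction S → S ⊗ H is multiplicative and unital. Then the k-subalgebra of invariants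
of S, the elements s whose coaction is s ⊗ 1, is again ring-isomorphic to a finite product of normal
domains. -/
theorem result (k : Type u) [Field k]
    (H : Type u) [CommRing H] [HopfAlgebra k H] [Algebra.FiniteType k H]
    (S : Type u) [CommRing S] [Algebra k S] [HopfRep.Comod k H S]
    (hmul : ∀ x y : S, HopfRep.Comod.coact (k := k) (A := H) (x * y) =
        HopfRep.Comod.coact (k := k) (A := H) x * HopfRep.Comod.coact (k := k) (A := H) y)
    (hone : HopfRep.Comod.coact (k := k) (A := H) (1 : S) = 1)
    {ι : Type u} [Fintype ι] (D : ι → Type u) [∀ i, CommRing (D i)] [∀ i, IsDomain (D i)]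
    [∀ i, IsIntegrallyClosed (D i)] (e : S ≃+* Π i, D i)
    (A : Subalgebra k S)
    (hA : ∀ a : S, a ∈ A ↔ HopfRep.Comod.coact (k := k) (A := H) a = a ⊗ₜ[k] (1 : H)) :
    ∃ (κ : Type u) (_ : Fintype κ) (E : κ → Type u) (_ : ∀ j, CommRing (E j)) (_ : ∀ j, IsDomain (E j))
      (_ : ∀ j, IsIntegrallyClosed (E j)), Nonempty (A ≃+* Π j, E j) := by
  classical
  let ρ : S →+* S ⊗[k] H := (Groth.Agent.Helper17.HI.rhoAlg hmul hone : S →ₐ[k] S ⊗[k] H).toRingHom
  let ι₁ : S →+* S ⊗[k] H := (Algebra.TensorProduct.includeLeft : S →ₐ[k] S ⊗[k] H).toRingHom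
  have hρ : ∀ s, ρ s = HopfRep.Comod.coact (k := k) (A := H) s := fun s => rfl
  have hι : ∀ s, ι₁ s = s ⊗ₜ[k] (1 : H) := fun s => rfl
  let F : Set ((Π i, D i) →+* S ⊗[k] H) := {ρ.comp e.symm.toRingHom, ι₁.comp e.symm.toRingHom}
  let A' : Subring (Π i, D i) := A.toSubring.map e.toRingHom
  have hnzd : ∀ s ∈ nonZeroDivisors (Π i, D i), e.symm s ∈ nonZeroDivisors S := by
    intro s hs
    rw [mem_nonZeroDivisors_iff_left]
    intro x hx
    have h1 : s * e x = 0 := by
      have := congrArg e hx
      rwa [map_mul, RingEquiv.apply_symm_apply, map_zero] at this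
    have h2 := (mem_nonZeroDivisors_iff_left.mp hs) _ h1
    exact (map_eq_zero_iff e e.injective).mp h2
  have hF : ∀ f ∈ F, ∀ s ∈ nonZeroDivisors (Π i, D i), f s ∈ nonZeroDivisors (S ⊗[k] H) := by
    intro f hf s hs
    rcases hf with rfl | hf
    · exact Groth.Agent.Helper17.HI.rho_mem_nonZeroDivisors hmul hone _ (hnzd s hs)
    · rw [Set.mem_singleton_iff] at hf
      rw [hf]
      exact Groth.Agent.Helper17.HI.tmul_one_mem_nonZeroDivisors _ (hnzd s hs)
  have hA' : ∀ a, a ∈ A' ↔ ∀ f ∈ F, ∀ f' ∈ F, f a = f' a := by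
    intro a
    constructor
    · rintro ⟨s, hs, rfl⟩
      have hs' : ρ s = ι₁ s := by
        rw [hρ, hι]
        exact (hA s).mp hs
      have h1 : (ρ.comp e.symm.toRingHom) (e.toRingHom s) = ρ s := by
        simp
      have h2 : (ι₁.comp e.symm.toRingHom) (e.toRingHom s) = ι₁ s := by
        simp
      intro f hf f' hf'
      rcases hf with rfl | hf <;> rcases hf' with rfl | hf'
      · rfl
      · rw [Set.mem_singleton_iff] at hf'
        rw [hf', h1, h2, hs']
      · rw [Set.mem_singleton_iff] at hf
        rw [hf, h1, h2, hs']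
      · rw [Set.mem_singleton_iff] at hf hf'
        rw [hf, hf']
    · intro h
      have h1 := h (ρ.comp e.symm.toRingHom) (Or.inl rfl) (ι₁.comp e.symm.toRingHom) (Or.inr rfl)
      have h2 : e.symm a ∈ A := by
        rw [hA]
        exact h1
      exact ⟨e.symm a, h2, by simp⟩
  obtain ⟨κ, hκ, E, i1, i2, i3, ⟨φ⟩⟩ := Groth.Agent.S11135.result D (S ⊗[k] H) F hF A' hA'
  let ψ : A ≃+* A' :=
    { toFun := fun a => ⟨e a.1, ⟨a.1, a.2, rfl⟩⟩
      invFun := fun b => ⟨e.symm b.1, by
        obtain ⟨s, hs, hsb⟩ := b.2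
        rw [← hsb]
        simpa using hs⟩
      left_inv := fun a => by
        apply Subtype.ext
        simp
      right_inv := fun b => by
        apply Subtype.ext
        simp
      map_mul' := fun a b => by
        apply Subtype.ext
        simp
      map_add' := fun a b => by
        apply Subtype.ext
        simp }
  exact ⟨κ, hκ, E, i1, i2, i3, ⟨ψ.trans φ⟩⟩

end Groth.Agent.S11141
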