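import Groth.Statements.S11142
import Mathlib.AlgebraicGeometry.Morphisms.UniversallyOpen
-- import your own Groth.Agent.* helpers here

set_option autoImplicit false
universe u
open CategoryTheory AlgebraicGeometry
open FlatMor

namespace Groth.Agent.S11142

section
open CategoryTheory AlgebraicGeometry TopologicalSpace Limits

/-- In a Noetherian quasi-sober space, every point has a generization lying in a given dense open. -/
theorem exists_specializes_mem_of_dense {T : Type*} [TopologicalSpace T] [NoetherianSpace T]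
    [QuasiSober T] (t : T) (U : Set T) (hUo : IsOpen U) (hU : Dense U) :
    ∃ η ∈ U, η ⤳ t := by
  have hZ : irreducibleComponent t ∈ irreducibleComponents T := irreducibleComponent_mem_irreducibleComponents t
  obtain ⟨O, hO, hOne, hOZ⟩ :=
    NoetherianSpace.exists_isOpen_nonempty_subset_irreducibleComponent (irreducibleComponent t) hZ
  obtain ⟨z, hzO, hzU⟩ := hU.inter_open_nonempty O hO hOne
  obtain ⟨η, hη⟩ := QuasiSober.sober (isIrreducible_irreducibleComponent (x := t))
    (isClosed_irreducibleComponent (x := t))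
  have h1 : η ⤳ z := by
    rw [specializes_iff_mem_closure, hη.def]
    exact hOZ hzO
  have h2 : η ⤳ t := by
    rw [specializes_iff_mem_closure, hη.def]
    exact mem_irreducibleComponent
  exact ⟨η, h1.mem_open hUo hzU, h2⟩

theorem main (X Y : Scheme.{u}) [IsLocallyNoetherian X]
    [IsLocallyNoetherian Y] (f : X ⟶ Y) [Flat f] (U : Y.Opens) (hU : Dense (U : Set Y)) :
    Dense ((f ⁻¹ᵁ U : X.Opens) : Set X) := by
  rw [dense_iff_inter_open]
  intro W hW ⟨x, hxW⟩
  obtain ⟨_, ⟨Y₀, hY₀, rfl⟩, hyY₀, -⟩ :=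
    Y.isBasis_affineOpens.exists_subset_of_mem_open (Set.mem_univ (f x)) isOpen_univ
  have hY₀ : IsAffineOpen Y₀ := hY₀
  haveI : IsNoetherianRing Γ(Y, Y₀) := IsLocallyNoetherian.component_noetherian ⟨Y₀, hY₀⟩
  have hN : NoetherianSpace (Y₀ : Scheme.{u}) := noetherianSpace_of_isAffineOpen Y₀ hY₀
  obtain ⟨η, hηU, hη⟩ := @exists_specializes_mem_of_dense (Y₀ : Scheme.{u}) _ hN _ ⟨f x, hyY₀⟩
    (Subtype.val ⁻¹' (U : Set Y)) (U.isOpen.preimage continuous_subtype_val)
    (hU.preimage Y₀.isOpen.isOpenMap_subtype_val)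
  have hη' : η.1 ⤳ f x := hη.map continuous_subtype_val
  obtain ⟨ξ, hξx, hξ⟩ := (Flat.generalizingMap f) hη'
  exact ⟨ξ, hξx.mem_open hW hxW, by change f ξ ∈ U; rw [hξ]; exact hηU⟩

end

/-- For a flat morphism f : X → Y between locally Noetherian schemes, the preimage under f of any dense
open subset of Y is dense in X. -/
theorem result (X Y : Scheme.{u}) [IsLocallyNoetherian X]
    [IsLocallyNoetherian Y] (f : X ⟶ Y) [Flat f] (U : Y.Opens) (hU : Dense (U : Set Y)) :
    Dense ((f ⁻¹ᵁ U : X.Opens) : Set X) := by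
  exact Groth.Agent.S11142.main X Y f U hU

end Groth.Agent.S11142
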