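import Groth.Statements.S11147
import Groth.Agent.Lib.Helper17.CSA1

set_option autoImplicit false
universe u
open FrobAlg

namespace Groth.Agent.S11147

/-- Let p be a prime and k ⊆ K fields of characteristic p such that K is finitely generated over k as a
field. Then the relative Frobenius ring homomorphism K ⊗_{k,Frob} k → K, b ⊗ a ↦ b^p a (the
Radu–André homomorphism of k → K), is bijective exactly when K is algebraic over k and every element
of K is separable over k. -/
theorem result (p : ℕ) [Fact p.Prime] (k K : Type u) [Field k]
    [Field K] [Algebra k K] [CharP k p] [CharP K p] (hfg : (⊤ : IntermediateField k K).FG) :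
    Function.Bijective (FrobAlg.relFrob p k K) ↔ Algebra.IsSeparable k K := by
  classical
  have hrel : ∀ (b : K) (a : k), FrobAlg.relFrob p k K (b ⊗ₜ[k] (FrobAlg.toTwist p k a)) =
      b ^ p * algebraMap k K a := by
    intro b a
    rfl
  have hrel' : ∀ (b : K) (a : FrobAlg.Twist p k), FrobAlg.relFrob p k K (b ⊗ₜ[k] a) =
      b ^ p * algebraMap k K ((FrobAlg.toTwist p k).symm a) := by
    intro b a
    rfl
  constructor
  · intro hbij
    haveI : Algebra.EssFiniteType k K := IntermediateField.fg_top_iff.1 hfg
    haveI : Algebra.FormallyUnramified k K := by
      constructor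
      have hD : ∀ x : K, KaehlerDifferential.D k K x = 0 := by
        intro x
        obtain ⟨y, rfl⟩ := hbij.2 x
        induction y using TensorProduct.induction_on with
        | zero => simp
        | tmul b a =>
          rw [hrel', Derivation.leibniz, Derivation.map_algebraMap, smul_zero, zero_add,
            Derivation.leibniz_pow, ← Nat.cast_smul_eq_nsmul K, CharP.cast_eq_zero K p, zero_smul,
            smul_zero]
        | add y z hy hz => rw [map_add, map_add, hy, hz, add_zero]
      have hspan := KaehlerDifferential.span_range_derivation k K
      have hbot : Submodule.span K (Set.range (KaehlerDifferential.D k K)) = ⊥ := by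
        rw [Submodule.span_eq_bot]
        rintro _ ⟨x, rfl⟩
        exact hD x
      rw [hbot] at hspan
      exact (Submodule.subsingleton_iff K).1 (subsingleton_of_bot_eq_top hspan)
    exact Algebra.FormallyUnramified.isSeparable k K
  · intro hsep
    haveI : ExpChar k p := ExpChar.prime Fact.out
    let b := Module.Basis.ofVectorSpace k K
    have hli : LinearIndependent k (fun i => b i ^ p) := by
      have := b.linearIndependent.map_pow_expChar_pow_of_isSeparable p 1
      simpa using this
    have hsp : Submodule.span k (Set.range fun i => b i ^ p) = ⊤ := by
      have := Field.span_map_pow_expChar_pow_eq_top_of_isSeparable p 1 b.span_eq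
      simpa using this
    constructor
    · rw [injective_iff_map_eq_zero]
      intro y hy
      have hy' := Groth.Agent.Helper17.eq_sum_coefT b y
      rw [hy', Finsupp.sum, map_sum] at hy
      have h1 : ∑ i ∈ (Groth.Agent.Helper17.coefT b y).support,
          ((FrobAlg.toTwist p k).symm (Groth.Agent.Helper17.coefT b y i)) • (b i ^ p) = 0 := by
        rw [← hy]
        refine Finset.sum_congr rfl fun i _ => ?_
        rw [hrel', Algebra.smul_def, mul_comm]
      have h2 := linearIndependent_iff'.1 hli _ _ h1
      rw [hy', Finsupp.sum]
      refine Finset.sum_eq_zero fun i hi => ?_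
      have h3 := h2 i hi
      have h4 : Groth.Agent.Helper17.coefT b y i = 0 := by
        have := congrArg (FrobAlg.toTwist p k) h3
        rwa [RingEquiv.apply_symm_apply, map_zero] at this
      rw [h4, TensorProduct.tmul_zero]
    · intro x
      have hx : x ∈ Submodule.span k (Set.range fun i => b i ^ p) := by rw [hsp]; trivial
      rw [Finsupp.mem_span_range_iff_exists_finsupp] at hx
      obtain ⟨c, hc⟩ := hx
      refine ⟨c.sum fun i a => b i ⊗ₜ[k] (FrobAlg.toTwist p k a), ?_⟩
      rw [Finsupp.sum, map_sum, ← hc, Finsupp.sum]
      refine Finset.sum_congr rfl fun i _ => ?_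
      rw [hrel, Algebra.smul_def, mul_comm]

end Groth.Agent.S11147
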