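import Groth.Statements.S6590
import Mathlib
import Groth.Agent.Lib.Helper9.PRes6

set_option autoImplicit false
universe v u
open CategoryTheory
open CohDer

namespace Groth.Agent.S6590

/-- Let I be a class of objects in an abelian category containing a zero object and such that every
object is a subobject of an object in I. For a cochain complex K vanishing in degrees below a there
is a quasi-isomorphism K ⟶ L, a monomorphism in each degree, where L has all terms in I and also
vanishes below degree a. -/
theorem result {A : Type u} [Category.{v} A] [Abelian A] (I : A → Prop)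
    (hI0 : ∃ Z : A, Limits.IsZero Z ∧ I Z) (hI : ∀ X : A, ∃ (Y : A) (ι : X ⟶ Y), I Y ∧ Mono ι)
    (K : CochainComplex A ℤ) (a : ℤ) [K.IsStrictlyGE a] :
    ∃ (L : CochainComplex A ℤ) (α : K ⟶ L), L.IsStrictlyGE a ∧ (∀ n, I (L.X n)) ∧ (∀ n, Mono (α.f n)) ∧ QuasiIso α := by
  classical
  obtain ⟨Z, hZ0, hZ⟩ := hI0
  have hL₀ : ∀ j : ℤ, Limits.IsZero ((HomologicalComplex.zero : CochainComplex A ℤ).X j) := fun j =>
    Limits.isZero_zero A
  obtain ⟨L, α, p, -, hLa, hsplit, hmono, hqi⟩ :=
    Groth.Agent.Helper9.PRes.exists_relative_coresolution I hI Z hZ0 hZ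
      (0 : K ⟶ (HomologicalComplex.zero : CochainComplex A ℤ)) a
      (fun j _ => hL₀ j) (fun j hj => CochainComplex.isZero_of_isStrictlyGE K a j hj)
  have hch : ∀ j : ℤ, ∃ (Y : A), I Y ∧ Nonempty (L.X j ≅ Y) := fun j => by
    obtain ⟨T, hT, hsp⟩ := hsplit j
    exact ⟨T, hT, hsp.nonempty_iso_of_isZero (hL₀ j)⟩
  choose Y hY e using hch
  let e' : ∀ j, L.X j ≅ Y j := fun j => (e j).some
  let L' : CochainComplex A ℤ :=
    { X := Y
      d := fun i j => (e' i).inv ≫ L.d i j ≫ (e' j).hom
      shape := fun i j h => by simp [L.shape i j h]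
      d_comp_d' := fun i j k _ _ => by simp }
  let φ : L ≅ L' := HomologicalComplex.Hom.isoOfComponents (fun j => e' j)
    (fun i j _ => by simp [L'])
  refine ⟨L', α ≫ φ.hom, ?_, hY, fun n => ?_, ?_⟩
  · rw [CochainComplex.isStrictlyGE_iff]
    intro i hi
    exact (hLa i hi).of_iso (e' i).symm
  · haveI : IsIso (φ.hom.f n) :=
      (inferInstance : IsIso ((HomologicalComplex.eval A (ComplexShape.up ℤ) n).map φ.hom))
    haveI := hmono n
    rw [HomologicalComplex.comp_f]
    exact mono_comp _ _
  · infer_instance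

end Groth.Agent.S6590
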