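import Groth.Statements.S11153
import Mathlib
import Groth.Agent.Lib.Helper9.KInj2
import Groth.Agent.S6590

set_option autoImplicit false
universe w v u
open CategoryTheory CategoryTheory.Limits
open CohDer

namespace Groth.Agent.S11153

/-- (i) ⇔ (iii): let A be an abelian category with enough injectives and K a bounded below cochain
complex of objects of A. Then K admits a quasi-isomorphism into a bounded complex of injective
objects of A if and only if there is an integer n₀ such that Hom_{D(A)}(Y[0], K[i]) = 0 for every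
object Y of A and every i > n₀. -/
theorem result {A : Type u} [Category.{v} A] [Abelian A]
    [HasDerivedCategory.{w} A] [EnoughInjectives A]
    (K : CochainComplex A ℤ) (a : ℤ) [K.IsStrictlyGE a] :
    (∃ (I : CochainComplex A ℤ) (b c : ℤ) (f : K ⟶ I), I.IsStrictlyGE b ∧ I.IsStrictlyLE c ∧
        (∀ n : ℤ, Injective (I.X n)) ∧ QuasiIso f) ↔
      ∃ n₀ : ℤ, ∀ (Y : A) (i : ℤ), n₀ < i →
        ∀ φ : (DerivedCategory.singleFunctor A 0).obj Y ⟶ (DerivedCategory.Q.obj K)⟦i⟧, φ = 0 := by
  constructor
  · rintro ⟨I, b, c, f, hb, hc, hI, hf⟩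
    haveI := hb
    haveI := hc
    haveI : ∀ n : ℤ, Injective (I.X n) := hI
    haveI : I.IsKInjective := CochainComplex.isKInjective_of_injective I b
    refine ⟨c, fun Y i hi φ => ?_⟩
    haveI : IsIso (DerivedCategory.Q.map f) := by
      rw [DerivedCategory.isIso_Q_map_iff_quasiIso]; exact hf
    have h1 := Groth.Agent.Helper9.KInj.hom_single_shift_eq_zero I Y i
      (CochainComplex.isZero_of_isStrictlyLE I c i hi)
      (φ ≫ (shiftFunctor (DerivedCategory A) i).map (DerivedCategory.Q.map f))
    rw [← cancel_mono ((shiftFunctor (DerivedCategory A) i).map (DerivedCategory.Q.map f)), zero_comp]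
    exact h1
  · rintro ⟨n₀, h⟩
    obtain ⟨I₀, f₀, hI₀a, hI₀, -, hf₀⟩ := Groth.Agent.S6590.result (fun X : A => Injective X)
      ⟨_, isZero_zero A, (isZero_zero A).injective⟩
      (fun X => ⟨Injective.under X, Injective.ι X, inferInstance, inferInstance⟩) K a
    haveI := hI₀a
    haveI : IsIso (DerivedCategory.Q.map f₀) := by
      rw [DerivedCategory.isIso_Q_map_iff_quasiIso]; exact hf₀
    obtain ⟨J, r, hJa, hJn, hJ, hr⟩ := Groth.Agent.Helper9.KInj.exists_bounded_injective I₀ a n₀ hI₀
      (fun Y i hi φ => by
        have h1 := h Y i hi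
          (φ ≫ (shiftFunctor (DerivedCategory A) i).map (inv (DerivedCategory.Q.map f₀)))
        rw [← cancel_mono ((shiftFunctor (DerivedCategory A) i).map (inv (DerivedCategory.Q.map f₀))),
          zero_comp]
        exact h1)
    exact ⟨J, a, n₀, f₀ ≫ r, hJa, hJn, hJ, inferInstance⟩

end Groth.Agent.S11153
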