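import Groth.Statements.S11159
import Mathlib
import Groth.Agent.Lib.Helper9.KInj1

set_option autoImplicit false
universe w v u
open CategoryTheory CategoryTheory.Limits CategoryTheory.Pretriangulated
open CohDer

namespace Groth.Agent.S11159

/-- Let A be an abelian category with enough injectives and X ⟶ Y ⟶ Z ⟶ X⟦1⟧ a distinguished triangle in
D(A). If X and Z are each isomorphic in D(A) to a bounded complex of injective objects of A, then so
is Y. -/
theorem result {A : Type u} [Category.{v} A] [Abelian A]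
    [HasDerivedCategory.{w} A] [EnoughInjectives A]
    (T : Triangle (DerivedCategory A)) (hT : T ∈ distTriang (DerivedCategory A))
    (h₁ : (∃ (I : CochainComplex A ℤ) (b c : ℤ), I.IsStrictlyGE b ∧ I.IsStrictlyLE c ∧
        (∀ n : ℤ, Injective (I.X n)) ∧ Nonempty (T.obj₁ ≅ DerivedCategory.Q.obj I)))
    (h₃ : (∃ (I : CochainComplex A ℤ) (b c : ℤ), I.IsStrictlyGE b ∧ I.IsStrictlyLE c ∧
        (∀ n : ℤ, Injective (I.X n)) ∧ Nonempty (T.obj₃ ≅ DerivedCategory.Q.obj I))) :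
    (∃ (I : CochainComplex A ℤ) (b c : ℤ), I.IsStrictlyGE b ∧ I.IsStrictlyLE c ∧
        (∀ n : ℤ, Injective (I.X n)) ∧ Nonempty (T.obj₂ ≅ DerivedCategory.Q.obj I)) := by
  obtain ⟨a₁, b₁, h1⟩ := (Groth.Agent.Helper9.KInj.isPerf_injP_iff T.obj₁).1 h₁
  obtain ⟨a₃, b₃, h3⟩ := (Groth.Agent.Helper9.KInj.isPerf_injP_iff T.obj₃).1 h₃
  have h1' := h1.of_le (min_le_left a₁ a₃) (le_max_left b₁ b₃)
  have h3' := h3.of_le (min_le_right a₁ a₃) (le_max_right b₁ b₃)
  exact (Groth.Agent.Helper9.KInj.isPerf_injP_iff T.obj₂).2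
    ⟨_, _, Groth.Agent.Helper9.KInj.isInjPerf_obj₂ T hT h1' h3'⟩

end Groth.Agent.S11159
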