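import Groth.Statements.S11165
import Groth.Agent.Lib.Helper13.RpushCmp
import Groth.Agent.Lib.Helper13.LerayRel
import Groth.Agent.S0028

set_option autoImplicit false
universe u
open CategoryTheory CategoryTheory.Limits AlgebraicGeometry
open Coherent

namespace Groth.Agent.S11165

open CategoryTheory CategoryTheory.Limits AlgebraicGeometry
open Coherent

/-- Let f : X ⟶ Y be a separated morphism of schemes, U an open of X on which f restricts to an affine
morphism, i : U ⟶ X the inclusion and F a quasi-coherent O_X-module. Then i_*(F|_U) is acyclic for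
f_*: its higher direct images R^j f_* vanish for j > 0. (The binder asserting injective resolutions
of O_X-modules always holds.) -/
theorem result {X Y : Scheme.{u}} (f : X ⟶ Y) [IsSeparated f]
    (U : X.Opens) [IsAffineHom (U.ι ≫ f)] (F : X.Modules) (hF : Coh.IsQCoh F)
    [HasInjectiveResolutions X.Modules] (j : ℕ) (hj : 0 < j) :
    IsZero ((Coh.Rpush f j).obj ((Scheme.Modules.pushforward U.ι).obj ((Scheme.Modules.restrictFunctor U.ι).obj F))) := by
  haveI : IsAffineHom U.ι := IsAffineHom.of_comp U.ι f
  set N : (U : Scheme.{u}).Modules := (Scheme.Modules.restrictFunctor U.ι).obj F with hN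
  haveI : F.IsQuasicoherent := hF
  haveI hNq : Coh.IsQCoh N :=
    inferInstanceAs ((Scheme.Modules.restrictFunctor U.ι).obj F).IsQuasicoherent
  obtain ⟨e⟩ := Groth.Agent.Helper13.RpushCmp.main f ((Scheme.Modules.pushforward U.ι).obj N) j
  have h1 : ∀ q : ℕ, IsZero ((CohTop.Rpush U.ι.base (q + 1)).obj (Coh.toAb N)) := fun q =>
    Groth.Agent.S0028.result U.ι N (q + 1) (Nat.succ_pos q)
  obtain ⟨e2⟩ := Groth.Agent.Helper13.LerayRel.main U.ι.base f.base j (Coh.toAb N) h1
  have h2 : IsZero ((CohTop.Rpush (U.ι.base ≫ f.base) j).obj (Coh.toAb N)) :=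
    Groth.Agent.S0028.result (U.ι ≫ f) N j hj
  have h3 : IsZero (Coh.toAb ((Coh.Rpush f j).obj ((Scheme.Modules.pushforward U.ι).obj N))) :=
    (h2.of_iso e2).of_iso e
  rw [IsZero.iff_id_eq_zero] at h3 ⊢
  haveI : (Groth.Agent.Helper13.ToAbExact.toAbF Y).Faithful :=
    inferInstanceAs ((SheafOfModules.toSheaf Y.ringCatSheaf).Faithful)
  apply (Groth.Agent.Helper13.ToAbExact.toAbF Y).map_injective
  rw [CategoryTheory.Functor.map_id, CategoryTheory.Functor.map_zero]
  exact h3

end Groth.Agent.S11165
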