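import Groth.Statements.S11174
import Groth.Agent.Lib.Helper8.Matlis3
import Groth.Agent.Lib.Helper1.InjHullLib
import Groth.Agent.S0299

set_option autoImplicit false
universe u
open CategoryTheory
open InjHull

namespace Groth.Agent.S11174

open IsLocalRing Groth.Agent.Helper8.Matlis

theorem isFiniteLength_quotient_of_pow_le {A : Type u} [CommRing A] [IsLocalRing A]
    [IsNoetherianRing A] (J : Ideal A) (N : ℕ) (h : maximalIdeal A ^ N ≤ J) :
    IsFiniteLength A (A ⧸ J) := by
  rw [Groth.Agent.Helper5.HS.isFiniteLength_iff_support]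
  intro p hp
  rw [Module.support_eq_zeroLocus, Ideal.annihilator_quotient] at hp
  have : p.asIdeal = maximalIdeal A := isMaximal_of_pow_le N p.asIdeal (h.trans hp)
  rw [this]
  infer_instance


/-- Fix a Noetherian local ring A, write m for its maximal ideal and k for its residue field, and let I
be an A-module such that (a) every element of I is killed by some power of m, (b) the A-module
Hom_A(k, I) is isomorphic to k, and (c) there is a decreasing sequence of ideals a_1 ⊇ a_2 ⊇ … of A,
cofinal with the powers of m in both directions (each a_n contains a power of m and each power of m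
contains some a_n), with length_A(A/a_n) = length_A(Hom_A(A/a_n, I)) for every n. Then I is an
injective hull of k: some A-linear map k → I is an essential injection into an injective module. -/
theorem result (A : Type u) [CommRing A] [IsLocalRing A] [IsNoetherianRing A] (I : Type u) [AddCommGroup I] [Module A I] (ha : LocCoh.IsPowerTorsion (IsLocalRing.maximalIdeal A) I) (hb : Nonempty ((IsLocalRing.ResidueField A →ₗ[A] I) ≃ₗ[A] IsLocalRing.ResidueField A)) (a : ℕ → Ideal A) (hanti : Antitone a) (hcof : ∀ n : ℕ, ∃ N : ℕ, IsLocalRing.maximalIdeal A ^ N ≤ a n) (hcof' : ∀ N : ℕ, ∃ n : ℕ, a n ≤ IsLocalRing.maximalIdeal A ^ N) (hlen : ∀ n : ℕ, Module.length A (A ⧸ a n) = Module.length A ((A ⧸ a n) →ₗ[A] I)) : ∃ f : IsLocalRing.ResidueField A →ₗ[A] I, InjHull.IsInjectiveHull f := by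
  obtain ⟨eb⟩ := hb
  obtain ⟨E, _, _, f₀, hf₀⟩ := Groth.Agent.S0299.result A (ResidueField A)
  have hinjE := hf₀.isInjective
  -- the socle map
  have hsimplek : IsSimpleModule A (ResidueField A) :=
    isSimpleModule_iff_quot_maximal.2 ⟨maximalIdeal A, inferInstance, ⟨LinearEquiv.refl _ _⟩⟩
  have hsimple : IsSimpleModule A (ResidueField A →ₗ[A] I) := IsSimpleModule.congr eb
  have := IsSimpleModule.nontrivial A (ResidueField A →ₗ[A] I)
  obtain ⟨φ, hφ⟩ := exists_ne (0 : ResidueField A →ₗ[A] I)
  have hφinj : Function.Injective φ := by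
    rw [← LinearMap.ker_eq_bot]
    rcases eq_bot_or_eq_top (LinearMap.ker φ) with h | h
    · exact h
    · exact absurd (LinearMap.ker_eq_top.1 h) hφ
  have hφess : InjHull.IsEssentialInj φ := by
    refine ⟨hφinj, ?_⟩
    intro N hN
    obtain ⟨e', he'N, he'0, he'⟩ := exists_socle_mem ha N hN
    obtain ⟨c, hc⟩ := IsSimpleModule.toSpanSingleton_surjective A hφ (ofSocle e' he')
    rw [LinearMap.toSpanSingleton_apply] at hc
    have h1 : e' = φ (c • 1) := by
      rw [map_smul, ← LinearMap.smul_apply, hc, ofSocle_one]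
    rw [Submodule.ne_bot_iff]
    exact ⟨e', ⟨he'N, ⟨c • 1, h1.symm⟩⟩, he'0⟩
  -- embed `I` into `E`
  obtain ⟨g, hg⟩ := Module.Injective.extension_property A E (ResidueField A) I φ hφinj f₀
  have hginj : Function.Injective g := by
    apply Groth.Agent.Helper1.injective_of_comp_injective φ hφess g
    rw [hg]
    exact hf₀.injective
  -- surjectivity
  have hgsurj : Function.Surjective g := by
    intro e
    obtain ⟨N, hN⟩ := isPowerTorsion hf₀.toIsEssentialInj e
    obtain ⟨n, hn⟩ := hcof' N
    obtain ⟨N', hN'⟩ := hcof n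
    have hfl : IsFiniteLength A (A ⧸ a n) := isFiniteLength_quotient_of_pow_le (a n) N' hN'
    have hfin : Module.length A (A ⧸ a n) ≠ ⊤ := Module.length_ne_top_iff.2 hfl
    let G : ((A ⧸ a n) →ₗ[A] I) →ₗ[A] ((A ⧸ a n) →ₗ[A] E) := LinearMap.compRight A g
    have hGinj : Function.Injective G := by
      intro ψ ψ' h
      ext x
      apply hginj
      exact LinearMap.congr_fun h _
    have hlenE : Module.length A ((A ⧸ a n) →ₗ[A] E) = Module.length A (A ⧸ a n) :=
      length_hom hf₀ _ hfl
    have hbij := bijective_of_injective_of_length_eq G hGinj (hlenE.trans (hlen n))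
      ((hlen n) ▸ hfin)
    have he : ∀ r ∈ a n, r • e = 0 := fun r hr => hN r (hn hr)
    obtain ⟨ψ, hψ⟩ := hbij.2 (ofTorsion (a n) e he)
    refine ⟨ψ (Ideal.Quotient.mk (a n) 1), ?_⟩
    have := LinearMap.congr_fun hψ (Ideal.Quotient.mk (a n) 1)
    rw [ofTorsion_mk, one_smul] at this
    exact this
  let eg : I ≃ₗ[A] E := LinearEquiv.ofBijective g ⟨hginj, hgsurj⟩
  exact ⟨φ, ⟨hφess, Groth.Agent.Helper1.injective_of_linearEquiv eg.symm hinjE⟩⟩

end Groth.Agent.S11174
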