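import Groth.Statements.S11176
import Groth.Agent.Lib.Helper8.LD11
import Groth.Agent.Lib.Helper8.Matlis8

set_option autoImplicit false
universe u
open CategoryTheory
attribute [local instance] HasDerivedCategory.standard
open Dual

namespace Groth.Agent.S11176

/-- Let A be a Noetherian local ring with maximal ideal m and residue field k, ω a normalized dualizing
complex (maps k → ω[i] in D(A) vanish for i ≠ 0), k → E an injective hull of k, and M a finite
A-module. For every natural number i the m-adic completion of the A-module of maps M → ω[−i] in D(A)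
is A-linearly isomorphic to Hom_A(H^i_m(M), E), where H^i_m(M) is the local cohomology module
(direct limit of Ext^i(A/m^n, M)). Existence of an isomorphism only; A is not assumed complete. (The
published statement gives an isomorphism of modules over the completion of A; this row asks only for
an A-linear isomorphism.) -/
theorem result (A : Type u) [CommRing A] [IsLocalRing A] [IsNoetherianRing A] (ω : Dual.D A) (hω : Dual.IsDualizing A ω) (hn : Dual.IsNormalized A ω) (E : Type u) [AddCommGroup E] [Module A E] (f : IsLocalRing.ResidueField A →ₗ[A] E) (hf : InjHull.IsInjectiveHull f) (M : Type u) [AddCommGroup M] [Module A M] [Module.Finite A M] (i : ℕ) : Nonempty (AdicCompletion (IsLocalRing.maximalIdeal A) (Dual.inD A M ⟶ ω⟦(-(i : ℤ))⟧) ≃ₗ[A] (LocCoh.H (IsLocalRing.maximalIdeal A) i M →ₗ[A] E)) := by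
  obtain ⟨e⟩ := Groth.Agent.Helper8.LD.nonempty_localDuality ω hω hn hf M i
  haveI := Groth.Agent.Helper8.LD.finite_hom_inD ω hω M (-(i : ℤ))
  obtain ⟨n, S, ⟨e0⟩⟩ := Module.Finite.exists_fin_quot_equiv A
    (Dual.inD A M ⟶ (CategoryTheory.shiftFunctor (Dual.D A) (-(i : ℤ))).obj ω)
  let c1 := (AdicCompletion.congr (IsLocalRing.maximalIdeal A) e0.symm).restrictScalars A
  let c2 := (Groth.Agent.Helper8.Matlis.bidualEquivCompletion ((Fin n → A) ⧸ S) hf).symm
  let c3 : ((((Fin n → A) ⧸ S) →ₗ[A] E) →ₗ[A] E) ≃ₗ[A]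
      (((Dual.inD A M ⟶ (CategoryTheory.shiftFunctor (Dual.D A) (-(i : ℤ))).obj ω) →ₗ[A] E) →ₗ[A] E) :=
    LinearEquiv.arrowCongr (LinearEquiv.arrowCongr e0 (LinearEquiv.refl A E)) (LinearEquiv.refl A E)
  let c4 : (((Dual.inD A M ⟶ (CategoryTheory.shiftFunctor (Dual.D A) (-(i : ℤ))).obj ω) →ₗ[A] E) →ₗ[A] E) ≃ₗ[A]
      (LocCoh.H (IsLocalRing.maximalIdeal A) i M →ₗ[A] E) :=
    LinearEquiv.arrowCongr e.symm (LinearEquiv.refl A E)
  exact ⟨((c1.trans c2).trans c3).trans c4⟩

end Groth.Agent.S11176
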