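import Groth.Statements.S11177
import Groth.Agent.Lib.Helper8.CoR3
import Groth.Agent.Lib.Helper8.RMod9
import Groth.Agent.Lib.Helper12.GorFib
import Groth.Agent.Lib.Helper14.SmoothReg
import Groth.Agent.Lib.Helper11.LDer5

set_option autoImplicit false
universe u
open CategoryTheory
attribute [local instance] HasDerivedCategory.standard
open Dual

namespace Groth.Agent.S11177

/-- Let A be a Noetherian ring, A → B a smooth ring homomorphism (formally smooth and of finite
presentation), and ω a dualizing complex for A. Assuming the derived base change functor D(A) → D(B)
(the total left derived functor of extension of scalars) exists, the derived base change ω ⊗^L_A B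
is a dualizing complex for B. (The published statement is for a smooth morphism of finite type to a
Noetherian scheme and concludes that the pull-back of a dualizing complex twisted by the top
relative differentials, shifted by the relative dimension, is dualizing; removing that invertible
twist does not affect being dualizing.) -/
theorem result (A B : Type u) [CommRing A] [CommRing B] [Algebra A B] [IsNoetherianRing A] [Algebra.Smooth A B] [DRing.HasLBaseChange (algebraMap A B)] (ω : Dual.D A) (hω : Dual.IsDualizing A ω) : Dual.IsDualizing B ((DRing.LBaseChange (algebraMap A B)).obj ω) := by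
  haveI : IsNoetherianRing B := Algebra.FiniteType.isNoetherianRing A B
  haveI := Groth.Agent.Helper8.FBC.preservesFiniteLimits_Efun_of_flat (A := A) B
  obtain ⟨e⟩ := Groth.Agent.Helper11.LDer.nonempty_totalLeftDerived_iso_of_exact
    (Groth.Agent.Helper8.LOC.Efun (algebraMap A B))
  obtain ⟨ωB, hωB⟩ := Groth.Agent.Helper8.RMod.exists_isDualizing_of_finiteType ω hω B
  have hdim := Groth.Agent.Helper8.LOC.ringKrullDim_lt_top_of_isDualizing ωB hωB
  have hfib : ∀ (r : Ideal B) [r.IsPrime],
      LocCoh.IsGorensteinLocalRing (Groth.Agent.Lead.Fib.FL (r.under A) r) := by
    intro r _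
    haveI : r.LiesOver (r.under A) := ⟨rfl⟩
    haveI : IsRegularRing ((r.under A).Fiber B) :=
      Groth.Agent.Helper14.SmoothReg.isRegularRing_of_smooth (r.under A).ResidueField _
    exact (Groth.Agent.Helper12.GorFib.isGorensteinRing_fiber_iff (r.under A)).mp
      (Groth.Agent.Helper12.GorFib.isGorensteinRing_of_isRegularRing _) r
  exact Groth.Agent.Helper8.FLD.isDualizing_of_iso (e.app ω).symm
    (Groth.Agent.Helper8.CoR.isDualizing_Ld_of_gorenstein_fibres hdim hfib ω hω)

end Groth.Agent.S11177
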