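import Groth.Statements.S11179
import Groth.Agent.Lib.Helper8.DualMod2

set_option autoImplicit false
universe u
open CategoryTheory
attribute [local instance] HasDerivedCategory.standard
open Goren

namespace Groth.Agent.S11179

/-- A Noetherian local ring A is Gorenstein (A has finite injective dimension as a module over itself)
if and only if the complex A[0] is a dualizing complex for A (finite injective dimension expressed
by vanishing of maps M[0] → A[i] in D(A) outside a bounded range, finite cohomology, A → End(A[0])
bijective and no self-maps of nonzero degree). -/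
theorem result (A : Type u) [CommRing A] [IsLocalRing A] [IsNoetherianRing A] : LocCoh.IsGorensteinLocalRing A ↔ Dual.IsDualizing A (Dual.inD A A) := by
  constructor
  · intro hG
    obtain ⟨n, hn⟩ := hG.exists_hasInjectiveDimensionLT
    refine ⟨inferInstance, ⟨0, (n : ℤ), ?_⟩, ?_, ?_, ?_⟩
    · intro M _ _ i hi
      rcases hi with hi | hi
      · exact Groth.Agent.Helper8.DualMod.subsingleton_hom_inD_shift_of_neg A M A i hi
      · obtain ⟨m, rfl⟩ : ∃ m : ℕ, i = (m : ℤ) := ⟨i.toNat, by omega⟩
        haveI : Subsingleton (CategoryTheory.Abelian.Ext (ModuleCat.of A M) (ModuleCat.of A A) m) :=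
          CategoryTheory.HasInjectiveDimensionLT.subsingleton (ModuleCat.of A A) n m (by omega)
            (ModuleCat.of A M)
        exact (Groth.Agent.Helper8.DualMod.homInDEquivExt A M A m).symm.subsingleton
    · intro i
      exact Groth.Agent.Helper8.DualMod.finite_HD_inD A A i
    · exact Groth.Agent.Helper8.DualMod.toEnd_inD_self_bijective A
    · intro i hi
      rcases lt_or_gt_of_ne hi with hi | hi
      · exact Groth.Agent.Helper8.DualMod.subsingleton_hom_inD_shift_of_neg A A A i hi
      · obtain ⟨m, rfl⟩ : ∃ m : ℕ, i = ((m + 1 : ℕ) : ℤ) := ⟨i.toNat - 1, by omega⟩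
        haveI : CategoryTheory.Projective (ModuleCat.of A A) :=
          (IsProjective.iff_projective (R := A) A).mp inferInstance
        haveI : Subsingleton (CategoryTheory.Abelian.Ext (ModuleCat.of A A) (ModuleCat.of A A) (m + 1)) :=
          ⟨fun x y => (CategoryTheory.Abelian.Ext.eq_zero_of_projective x).trans
            (CategoryTheory.Abelian.Ext.eq_zero_of_projective y).symm⟩
        exact (Groth.Agent.Helper8.DualMod.homInDEquivExt A A A (m + 1)).symm.subsingleton
  · intro h
    obtain ⟨a, b, hab⟩ := h.finite_injective_dimension
    refine { exists_hasInjectiveDimensionLT := ⟨(b + 1).toNat, ?_⟩ }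
    apply CategoryTheory.HasInjectiveDimensionLT.mk
    intro i hi Y e
    haveI : Subsingleton (Dual.inD A Y ⟶
        (CategoryTheory.shiftFunctor (Dual.D A) (i : ℤ)).obj (Dual.inD A A)) :=
      hab Y (i : ℤ) (Or.inr (by omega))
    haveI : Subsingleton (CategoryTheory.Abelian.Ext (ModuleCat.of A Y) (ModuleCat.of A A) i) :=
      (Groth.Agent.Helper8.DualMod.homInDEquivExt A Y A i).subsingleton
    exact Subsingleton.elim (α := CategoryTheory.Abelian.Ext (ModuleCat.of A Y) (ModuleCat.of A A) i) e 0

end Groth.Agent.S11179
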