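import Groth.Statements.S11180
import Groth.Agent.Lib.Helper1.AdicNoeth

set_option autoImplicit false
universe u
open scoped TensorProduct
open CAlg

namespace Groth.Agent.S11180

/-- Let A be a Noetherian ring and M an A-module. If an element m of M is such that 1 ⊗ m = 0 in B ⊗_A M
for every A-algebra B which is a complete Noetherian local ring, flat over A, then m = 0.
(Equivalently the natural map from M to the limit of the modules B ⊗_A M over all such B is
injective.) -/
theorem result (A : Type u) [CommRing A] [IsNoetherianRing A] (M : Type u) [AddCommGroup M] [Module A M] (m : M) (h : ∀ (B : Type u) [CommRing B] [Algebra A B] [IsNoetherianRing B] [IsLocalRing B], IsAdicComplete (IsLocalRing.maximalIdeal B) B → Module.Flat A B → (1 : B) ⊗ₜ[A] m = 0) : m = 0 := by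
  classical
  by_contra hm
  let f : A →ₗ[A] M := LinearMap.toSpanSingleton A M m
  let I : Ideal A := LinearMap.ker f
  have hI : I ≠ ⊤ := by
    intro hI
    have h1 : (1 : A) ∈ I := hI ▸ Submodule.mem_top
    have h2 : f 1 = 0 := LinearMap.mem_ker.mp h1
    apply hm
    simpa [f] using h2
  obtain ⟨p, hp, hIp⟩ := Ideal.exists_le_maximal I hI
  have : p.IsPrime := hp.isPrime
  let Ap := Localization.AtPrime p
  let B := AdicCompletion (IsLocalRing.maximalIdeal Ap) Ap
  have : IsScalarTower A Ap B := IsScalarTower.of_algebraMap_eq (fun _ => rfl)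
  have : IsNoetherianRing B :=
    Groth.Agent.Helper1.isNoetherianRing_adicCompletion_of_fg Ap _
      (IsNoetherian.noetherian _)
  have : Module.Flat A Ap := IsLocalization.flat Ap p.primeCompl
  have hflat : Module.Flat A B := Module.Flat.trans A Ap B
  have h0 : (1 : B) ⊗ₜ[A] m = 0 := h B inferInstance hflat
  -- the injective map A/I → M
  let g : (A ⧸ I) →ₗ[A] M := Submodule.liftQ I f le_rfl
  have hg : Function.Injective g :=
    LinearMap.ker_eq_bot.mp (Submodule.ker_liftQ_eq_bot _ _ _ le_rfl)
  have hinj : Function.Injective (g.lTensor B) :=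
    Module.Flat.lTensor_preserves_injective_linearMap g hg
  have h1 : (1 : B) ⊗ₜ[A] (Ideal.Quotient.mk I 1) = (0 : B ⊗[A] (A ⧸ I)) := by
    apply hinj
    rw [LinearMap.lTensor_tmul, map_zero]
    have : g (Ideal.Quotient.mk I 1) = m := by
      show f 1 = m
      simp [f]
    rw [this, h0]
  -- algebra map to the residue field of B
  have hIB : ∀ a ∈ I, algebraMap A (B ⧸ IsLocalRing.maximalIdeal B) a = 0 := by
    intro a ha
    have h2 : algebraMap A Ap a ∈ IsLocalRing.maximalIdeal Ap :=
      (IsLocalization.AtPrime.to_map_mem_maximal_iff Ap p a).mpr (hIp ha)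
    have h3 : algebraMap Ap B (algebraMap A Ap a) ∈ IsLocalRing.maximalIdeal B :=
      _root_.map_nonunit (algebraMap Ap B) _ h2
    rw [IsScalarTower.algebraMap_apply A B (B ⧸ IsLocalRing.maximalIdeal B),
      IsScalarTower.algebraMap_apply A Ap B]
    exact Ideal.Quotient.eq_zero_iff_mem.mpr h3
  let φ : B ⊗[A] (A ⧸ I) →ₐ[A] (B ⧸ IsLocalRing.maximalIdeal B) :=
    Algebra.TensorProduct.lift (Ideal.Quotient.mkₐ A (IsLocalRing.maximalIdeal B))
      (Ideal.Quotient.liftₐ I (Algebra.ofId A (B ⧸ IsLocalRing.maximalIdeal B)) hIB)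
      (fun _ _ => Commute.all _ _)
  have h4 : φ ((1 : B) ⊗ₜ[A] (Ideal.Quotient.mk I 1)) = 1 := by
    rw [map_one, ← Algebra.TensorProduct.one_def, map_one]
  rw [h1, map_zero] at h4
  exact zero_ne_one h4

end Groth.Agent.S11180
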