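import Groth.Statements.S11184
import Groth.Agent.Lib.Helper8.Matlis7
import Groth.Agent.S0301

set_option autoImplicit false
universe u
open Matlis

namespace Groth.Agent.S11184

open IsLocalRing Groth.Agent.Helper8.Matlis

section

variable {B : Type u} [CommRing B] {X : Type u} [AddCommGroup X] [Module B X]

/-- the `n`-power torsion submodule. -/
def Gam (n : Ideal B) : Submodule B X :=
  ⨆ k : ℕ, Submodule.torsionBySet B X ((n ^ k : Ideal B) : Set B)

theorem mem_Gam (n : Ideal B) (φ : X) :
    φ ∈ Gam (X := X) n ↔ ∃ k : ℕ, ∀ a ∈ n ^ k, a • φ = 0 := by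
  have hmono : Monotone (fun k : ℕ => Submodule.torsionBySet B X ((n ^ k : Ideal B) : Set B)) := by
    intro k k' hkk' x hx
    rw [Submodule.mem_torsionBySet_iff] at hx ⊢
    intro a
    exact hx ⟨a.1, Ideal.pow_le_pow_right hkk' a.2⟩
  unfold Gam
  rw [Submodule.mem_iSup_of_directed _ hmono.directed_le]
  constructor
  · rintro ⟨k, hk⟩
    rw [Submodule.mem_torsionBySet_iff] at hk
    exact ⟨k, fun a ha => hk ⟨a, ha⟩⟩
  · rintro ⟨k, hk⟩
    refine ⟨k, ?_⟩
    rw [Submodule.mem_torsionBySet_iff]
    exact fun a => hk a.1 a.2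

theorem isPowerTorsion_Gam (n : Ideal B) : LocCoh.IsPowerTorsion n ↥(Gam (X := X) n) := by
  intro τ
  obtain ⟨k, hk⟩ := (mem_Gam n τ.1).1 τ.2
  exact ⟨k, fun a ha => Subtype.ext (hk a ha)⟩

/-- independence of the primary components at distinct maximal ideals. -/
theorem iSupIndep_Gam :
    iSupIndep (fun n : MaximalSpectrum B => Gam (X := X) n.asIdeal) := by
  intro n
  rw [Submodule.disjoint_def]
  intro φ hφ hφ'
  -- the submodule of elements killed by something outside `n`
  let T : Submodule B X :=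
    { carrier := {ψ | ∃ a : B, a ∉ n.asIdeal ∧ a • ψ = 0}
      add_mem' := by
        rintro ψ ψ' ⟨a, ha, haψ⟩ ⟨a', ha', haψ'⟩
        refine ⟨a * a', fun h => ?_, ?_⟩
        · rcases n.isMaximal.isPrime.mem_or_mem h with h1 | h1
          · exact ha h1
          · exact ha' h1
        · have h1 : (a * a') • ψ = 0 := by rw [mul_comm, mul_smul, haψ, smul_zero]
          have h2 : (a * a') • ψ' = 0 := by rw [mul_smul, haψ', smul_zero]
          rw [smul_add, h1, h2, add_zero]
      zero_mem' := ⟨1, fun h => n.isMaximal.ne_top ((Ideal.eq_top_iff_one _).2 h), smul_zero _⟩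
      smul_mem' := by
        rintro c ψ ⟨a, ha, haψ⟩
        exact ⟨a, ha, by rw [smul_comm, haψ, smul_zero]⟩ }
  have hle : (⨆ n' : MaximalSpectrum B, ⨆ _ : n' ≠ n, Gam (X := X) n'.asIdeal) ≤ T := by
    apply iSup_le
    intro n'
    apply iSup_le
    intro hne ψ hψ
    obtain ⟨k, hk⟩ := (mem_Gam _ ψ).1 hψ
    have hnot : ¬ n'.asIdeal ^ k ≤ n.asIdeal := by
      intro hle
      have h1 : n'.asIdeal ≤ n.asIdeal := n.isMaximal.isPrime.le_of_pow_le hle
      have h2 : n'.asIdeal = n.asIdeal := n'.isMaximal.eq_of_le n.isMaximal.ne_top h1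
      exact hne (MaximalSpectrum.ext h2)
    obtain ⟨a, ha, han⟩ := Set.not_subset.1 hnot
    exact ⟨a, han, hk a ha⟩
  obtain ⟨a, han, haφ⟩ := hle hφ'
  obtain ⟨k, hk⟩ := (mem_Gam _ φ).1 hφ
  have := n.isMaximal
  obtain ⟨y, i, hi, hyi⟩ := Ideal.IsMaximal.exists_inv_pow n.asIdeal han k
  calc φ = (y * a + i) • φ := by rw [hyi, one_smul]
    _ = 0 := by rw [add_smul, mul_smul, haφ, smul_zero, hk i hi, add_zero]

end


/-- Let A be a Noetherian local ring with residue field k, k → E an injective hull of k, and B a finite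
A-algebra (a semilocal ring all of whose maximal ideals lie over the maximal ideal of A). Then the
B-module Hom_A(B, E), with B acting by (b·φ)(b') = φ(bb'), is the internal direct sum over the
maximal ideals n of B of submodules J_n (independent, with supremum everything), where each J_n is
an injective hull over B of the residue field B/n: each hull occurs exactly once. -/
theorem result (A B : Type u) [CommRing A] [IsLocalRing A] [IsNoetherianRing A] [CommRing B] [Algebra A B] [Module.Finite A B] (E : Type u) [AddCommGroup E] [Module A E] (f : IsLocalRing.ResidueField A →ₗ[A] E) (hf : InjHull.IsInjectiveHull f) : ∃ J : MaximalSpectrum B → Submodule B ((ModuleCat.coextendScalars (algebraMap A B)).obj (ModuleCat.of A E)), iSupIndep J ∧ iSup J = ⊤ ∧ ∀ n : MaximalSpectrum B, ∃ g : (B ⧸ n.asIdeal) →ₗ[B] J n, InjHull.IsInjectiveHull g := by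
  classical
  have hNB : IsNoetherianRing B := IsNoetherianRing.of_finite A B
  have hinjE := hf.isInjective
  have hinjX : Module.Injective B (Coext A B E) := injective_coext A B E
  refine ⟨fun n => Gam (X := Coext A B E) n.asIdeal, iSupIndep_Gam, ?_, ?_⟩
  · -- the components span
    rw [eq_top_iff]
    intro φ _
    obtain ⟨k, hk⟩ := exists_map_pow_le_torsionOf (B := B) hf φ
    set I : Ideal B := Ideal.map (algebraMap A B) (maximalIdeal A) with hI
    let F : Finset (Ideal B) := (Ideal.finite_minimalPrimes_of_isNoetherianRing B I).toFinset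
    have hF : ∀ P, P ∈ F ↔ P ∈ I.minimalPrimes := fun P => Set.Finite.mem_toFinset _
    have hmax : ∀ P ∈ F, P.IsMaximal := by
      intro P hP
      have hP' := (hF P).1 hP
      have : P.IsPrime := hP'.1.1
      exact isMaximal_of_map_le (A := A) P hP'.1.2
    have hrad : I.radical = ⨅ P ∈ F, P := by
      rw [← Ideal.sInf_minimalPrimes, sInf_eq_iInf]
      apply le_antisymm
      · apply le_iInf
        intro P
        apply le_iInf
        intro hP
        exact iInf_le_of_le P (iInf_le _ ((hF P).1 hP))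
      · apply le_iInf
        intro P
        apply le_iInf
        intro hP
        exact iInf_le_of_le P (iInf_le _ ((hF P).2 hP))
    obtain ⟨M, hM⟩ := Ideal.exists_radical_pow_le_of_fg I (IsNoetherian.noetherian _)
    have hcop : (F : Set (Ideal B)).Pairwise fun P P' => P ^ (M * k) ⊔ P' ^ (M * k) = ⊤ := by
      intro P hP P' hP' hne
      have := hmax P hP
      have := hmax P' hP'
      exact Ideal.pow_sup_pow_eq_top (Ideal.IsMaximal.coprime_of_ne (hmax P hP) (hmax P' hP') hne)
    have hprod : (⨅ P ∈ F, P ^ (M * k)) = (⨅ P ∈ F, P) ^ (M * k) := by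
      rw [← Ideal.prod_eq_iInf_of_pairwise_isCoprime, ← Ideal.prod_eq_iInf_of_pairwise_isCoprime,
        Finset.prod_pow]
      · intro P hP P' hP' hne
        exact Ideal.isCoprime_iff_sup_eq.2
          (Ideal.IsMaximal.coprime_of_ne (hmax P hP) (hmax P' hP') hne)
      · intro P hP P' hP' hne
        exact Ideal.isCoprime_iff_sup_eq.2 (hcop hP hP' hne)
    have hkill : φ ∈ Submodule.torsionBySet B (Coext A B E)
        ((⨅ P ∈ F, P ^ (M * k) : Ideal B) : Set B) := by
      rw [Submodule.mem_torsionBySet_iff]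
      intro a
      have ha : (a : B) ∈ (⨅ P ∈ F, P) ^ (M * k) := hprod ▸ a.2
      rw [← hrad, pow_mul] at ha
      have ha' : (a : B) ∈ I ^ k := Ideal.pow_right_mono hM k ha
      exact (Ideal.mem_torsionOf_iff _ _).1 (hk ha')
    rw [← Submodule.iSup_torsionBySet_ideal_eq_torsionBySet_iInf hcop] at hkill
    have hle : (⨆ P ∈ F, Submodule.torsionBySet B (Coext A B E) ((P ^ (M * k) : Ideal B) : Set B)) ≤
        ⨆ n : MaximalSpectrum B, Gam (X := Coext A B E) n.asIdeal := by
      refine iSup_le fun P => iSup_le fun hP => ?_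
      have := hmax P hP
      refine le_trans ?_ (le_iSup (fun n : MaximalSpectrum B => Gam (X := Coext A B E) n.asIdeal)
        ⟨P, hmax P hP⟩)
      exact le_iSup (fun j : ℕ => Submodule.torsionBySet B (Coext A B E)
        ((P ^ j : Ideal B) : Set B)) (M * k)
    exact hle hkill
  · intro n
    have := n.isMaximal
    have hinjJ : Module.Injective B ↥(Gam (X := Coext A B E) n.asIdeal) :=
      Groth.Agent.S0301.result B (Coext A B E) hinjX n.asIdeal
    have htors := isPowerTorsion_Gam (X := Coext A B E) n.asIdeal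
    obtain ⟨φ₀, hφ₀, hφ₀n⟩ := exists_socle_coext (B := B) hf n.asIdeal
    have hmem : φ₀ ∈ Gam (X := Coext A B E) n.asIdeal :=
      (mem_Gam _ _).2 ⟨1, fun a ha => hφ₀n a (by rwa [pow_one] at ha)⟩
    let e₀ : ↥(Gam (X := Coext A B E) n.asIdeal) := ⟨φ₀, hmem⟩
    have he₀ : ∀ b ∈ n.asIdeal, b • e₀ = 0 := fun b hb => Subtype.ext (hφ₀n b hb)
    have hne : e₀ ≠ 0 := fun h => hφ₀ (congrArg Subtype.val h)
    refine ⟨ofSocleM n.asIdeal e₀ he₀,
      isInjectiveHull_of_socle_cyclicM n.asIdeal hinjJ htors e₀ he₀ hne ?_⟩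
    intro e' he' hne'
    have h1 : ∀ b ∈ n.asIdeal, b • e'.1 = 0 := fun b hb => congrArg Subtype.val (he' b hb)
    have h3 : e'.1 ≠ 0 := fun h => hne' (Subtype.ext h)
    obtain ⟨b, hb⟩ := socle_cyclicM hf n.asIdeal e'.1 φ₀ h1 hφ₀n h3
    exact ⟨b, Subtype.ext hb⟩

end Groth.Agent.S11184
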