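import Groth.Statements.S11186
import Groth.Agent.Lib.Helper8.CoR6
import Groth.Agent.Lib.Helper8.SmD3
import Groth.Agent.Lib.Lead.Bass3
import Groth.Agent.Lib.Helper11.LDer5

set_option autoImplicit false
universe u
open CategoryTheory
attribute [local instance] HasDerivedCategory.standard
open Dual

namespace Groth.Agent.S11186

/-- Let A be a Noetherian ring, A → B a smooth ring map of relative dimension n, ω a dualizing complex
for A, and q a prime of B lying over the prime p of A, with residue field extension κ(p) ⊆ κ(q) of
transcendence degree t. Assume the derived base change functors from D(A) to D(A_p) and to D(B_q)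
exist. If the module of maps κ(p) → ω_p[d] in D(A_p) is nonzero (so d is the unique such degree, the
codimension value of ω at p), then the module of maps κ(q) → (ω ⊗^L_A B_q)[d − t + n] in D(B_q) is
nonzero: the codimension function of ω ⊗^L_A B at q equals that of ω at p minus the transcendence
degree plus the relative dimension. (The published formula is stated for the base change twisted by
the top relative differentials and shifted by n, where it reads codimension at q = codimension at p
+ transcendence degree; with the convention that the codimension function rises by one under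
immediate specialization, the generic point of the affine line over a field shows that the
transcendence degree must enter with a minus sign, as here.) -/
theorem result (A B : Type u) [CommRing A] [CommRing B] [Algebra A B] [IsNoetherianRing A] (n : ℕ) (hs : FlatCA.SmoothRelDim n A B) (ω : Dual.D A) (hω : Dual.IsDualizing A ω) (p : Ideal A) [p.IsPrime] (q : Ideal B) [q.IsPrime] [hq : q.LiesOver p] [DRing.HasLBaseChange (algebraMap A (Localization.AtPrime p))] [DRing.HasLBaseChange (algebraMap A (Localization.AtPrime q))] (d : ℤ) (hd : Nontrivial (Dual.inD (Localization.AtPrime p) p.ResidueField ⟶ ((DRing.LBaseChange (algebraMap A (Localization.AtPrime p))).obj ω)⟦d⟧)) (t : ℕ) (ht : @Algebra.trdeg p.ResidueField q.ResidueField _ _ (Ideal.ResidueField.mapₐ p q (Algebra.ofId A B) hq.over).toRingHom.toAlgebra = (t : Cardinal.{u})) : Nontrivial (Dual.inD (Localization.AtPrime q) q.ResidueField ⟶ ((DRing.LBaseChange (algebraMap A (Localization.AtPrime q))).obj ω)⟦(d - (t : ℤ) + (n : ℤ))⟧) := by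
  haveI hsm : Algebra.Smooth A B := Groth.Agent.Helper8.SmD.smooth_of_smoothRelDim hs
  haveI : IsNoetherianRing B := Algebra.FiniteType.isNoetherianRing A B
  haveI : Module.Flat A (Localization.AtPrime q) := Module.Flat.trans A B (Localization.AtPrime q)
  haveI : CategoryTheory.Limits.PreservesFiniteLimits
      (Groth.Agent.Helper8.LOC.Efun (algebraMap A (Localization.AtPrime q))) :=
    Groth.Agent.Helper8.FBC.preservesFiniteLimits_Efun_of_flat _
  obtain ⟨e1⟩ := Groth.Agent.Helper11.LDer.nonempty_totalLeftDerived_iso_of_exact
    (Groth.Agent.Helper8.LOC.Efun (algebraMap A (Localization.AtPrime p)))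
  obtain ⟨e2⟩ := Groth.Agent.Helper11.LDer.nonempty_totalLeftDerived_iso_of_exact
    (Groth.Agent.Helper8.LOC.Efun (algebraMap A (Localization.AtPrime q)))
  -- the dimension of the fibre local ring
  have hdim := Groth.Agent.Helper8.SmD.ringKrullDim_FL_of_smoothRelDim hs p q t ht
  haveI : IsNoetherianRing (Localization.AtPrime q) :=
    IsLocalization.isNoetherianRing q.primeCompl _ inferInstance
  obtain ⟨c, hc⟩ := Groth.Agent.Lead.Depth.exists_nat_ringKrullDim
    (R := Groth.Agent.Lead.Fib.FL p q)
  have hct : c + t = n := by
    rw [hc] at hdim
    exact_mod_cast hdim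
  have hd' : Nontrivial (Dual.inD (Localization.AtPrime p)
      (Localization.AtPrime p ⧸ IsLocalRing.maximalIdeal (Localization.AtPrime p)) ⟶
        (Groth.Agent.Helper8.LOC.omegaAt ω p)⟦d⟧) :=
    @Equiv.nontrivial _ _ (CategoryTheory.Iso.homCongr (CategoryTheory.Iso.refl _)
      ((CategoryTheory.shiftFunctor _ d).mapIso (e1.app ω))).symm hd
  have h := Groth.Agent.Helper8.CoR.nontrivial_ext_residue_of_flat p q ω hω d hd' c hc
  have hidx : d - (t : ℤ) + (n : ℤ) = d + (c : ℤ) := by omega
  rw [hidx]
  exact @Equiv.nontrivial _ _ (CategoryTheory.Iso.homCongr (CategoryTheory.Iso.refl _)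
    ((CategoryTheory.shiftFunctor _ (d + (c : ℤ))).mapIso (e2.app ω))) h

end Groth.Agent.S11186
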