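import Groth.Statements.S11198
import Groth.Agent.Lib.Helper7.FunA1B
import Groth.Agent.Lib.Helper7.TowerB
import Groth.Agent.Lib.Helper7.FibQuotA
import Groth.Agent.Lib.Helper16.AlgSp.RedSp

set_option autoImplicit false
universe u
open CategoryTheory MonoidalCategory CartesianMonoidalCategory MonObj GrpObj AlgebraicGeometry
open scoped TensorProduct
open AGF

namespace Groth.Agent.S11198

/-- Let k be an algebraically closed field, G a linear algebraic group over k and H₁ ⊆ H₂ ⊆ G closed
subgroups (smooth closed subgroup schemes i₁ : H₁ → H₂, i₂ : H₂ → G), such that the quotient H₂/H₁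
(the scheme X with H₂-action a and base point o) is proper over k and irreducible. Then a global
function on G is invariant under right translation by H₁ if and only if it is invariant under right
translation by H₂. -/
theorem result (k : Type u) [Field k] [IsAlgClosed k]
    (G : Over (Spec (CommRingCat.of k))) [GrpObj G] [IsAffine G.left] [Smooth G.hom]
    (H₂ : Over (Spec (CommRingCat.of k))) [GrpObj H₂] [Smooth H₂.hom] (i₂ : H₂ ⟶ G) [IsMonHom i₂] [IsClosedImmersion i₂.left]
    (H₁ : Over (Spec (CommRingCat.of k))) [GrpObj H₁] [Smooth H₁.hom] (i₁ : H₁ ⟶ H₂) [IsMonHom i₁] [IsClosedImmersion i₁.left]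
    (X : Over (Spec (CommRingCat.of k))) (a : AlgGrp.Action H₂ X) (o : 𝟙_ (Over (Spec (CommRingCat.of k))) ⟶ X) (hX : AGF.IsQuotient i₁ X a o)
    [IsProper X.hom] [IrreducibleSpace X.left] :
    AGF.rTransInv (i₁ ≫ i₂) = AGF.rTransInv i₂ := by
  set r := a.orbitMap o with hrdef
  haveI : LocallyOfFiniteType X.hom := hX.1
  haveI : Flat r.left := hX.2.1
  haveI : Surjective r.left := hX.2.2.1
  have hr := hX.2.2.2
  haveI : IsLocallyNoetherian X.left := LocallyOfFiniteType.isLocallyNoetherian X.hom
  haveI : LocallyOfFiniteType (r.left ≫ X.hom) := by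
    rw [Over.w]; infer_instance
  haveI : LocallyOfFiniteType r.left := locallyOfFiniteType_of_comp _ X.hom
  haveI : LocallyOfFinitePresentation r.left :=
    LocallyOfFinitePresentation.iff_locallyOfFiniteType.mpr inferInstance
  have hEr : Groth.Agent.Helper7.ThirdIso.fppfOver _ r :=
    ⟨inferInstance, inferInstance, inferInstance⟩
  -- `X` is integral
  haveI : IsReduced H₂.left := Groth.Agent.Helper16.AS.isReduced_of_smooth H₂.hom
  haveI : IsReduced X.left := Groth.Agent.Helper16.AS.isReduced_of_flat_surjective r.left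
  haveI : IsIntegral X.left := isIntegral_of_irreducibleSpace_of_isReduced X.left
  have hΓ : IsIso X.hom.appTop :=
    Groth.Agent.Helper7.FunA1.isIso_appTop_of_isIntegral_of_universallyClosed k X.hom
  -- the projection `G × X ⟶ G` is a contraction
  have sq2 : IsPullback (snd G X).left (fst G X).left X.hom G.hom :=
    (Groth.Agent.Helper7.ThirdIso.isPullback_fst_snd_toUnit G X).flip.map
      (Over.forget (Spec (CommRingCat.of k)))
  haveI : Flat G.hom := inferInstance
  have hiso : IsIso (fst G X).left.appTop :=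
    Groth.Agent.Helper7.TowerB.isIso_app_baseChange sq2 (isAffineOpen_top _)
      (isAffineOpen_top G.left) le_top hΓ
  apply le_antisymm
  · intro φ hφ
    have h0 : ((G ◁ (i₁ ≫ i₂)) ≫ μ[G]).left.appTop φ = (fst G H₁).left.appTop φ :=
      (AGF.mem_rTransInv_iff _ _).mp hφ
    have h1 := (Groth.Agent.Helper7.FunA1.comp_tilde_eq_iff _ _ _).mpr h0
    have h2 := Groth.Agent.Helper7.FunA1.invariant_of_quotient_contraction i₂ i₁ r hEr hr hiso φ h1
    exact (AGF.mem_rTransInv_iff _ _).mpr
      ((Groth.Agent.Helper7.FunA1.comp_tilde_eq_iff _ _ _).mp h2)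
  · intro φ hφ
    have h0 : ((G ◁ i₂) ≫ μ[G]).left.appTop φ = (fst G H₂).left.appTop φ :=
      (AGF.mem_rTransInv_iff _ _).mp hφ
    have h2 := (Groth.Agent.Helper7.FunA1.comp_tilde_eq_iff _ _ _).mpr h0
    refine (AGF.mem_rTransInv_iff _ _).mpr
      ((Groth.Agent.Helper7.FunA1.comp_tilde_eq_iff _ _ _).mp ?_)
    have e1 : (G ◁ (i₁ ≫ i₂)) ≫ μ[G] = (G ◁ i₁) ≫ (G ◁ i₂) ≫ μ[G] := by
      rw [MonoidalCategory.whiskerLeft_comp, Category.assoc]
    rw [e1, Category.assoc, h2, ← Category.assoc, whiskerLeft_fst]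

end Groth.Agent.S11198
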