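import Groth.Statements.S11221
import Mathlib

set_option autoImplicit false
universe u
open CategoryTheory MonoidalCategory CartesianMonoidalCategory MonObj GrpObj AlgebraicGeometry
open scoped TensorProduct
open AGF

namespace Groth.Agent.S11221

/-- Let R be a Noetherian integrally closed domain with fraction field K and let p be a prime ideal of R
of height one. Then there is f ∈ K which is not in R but lies in the local ring R_q ⊆ K of every
height-one prime q ≠ p (f = a/b with b ∉ q): a rational function on Spec R with a pole along V(p)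
only. (The published statement is for the coordinate ring of a normal affine variety; this row is
for any Noetherian integrally closed domain, which is all the argument uses.) -/
theorem result (R : Type u) [CommRing R] [IsDomain R] [IsNoetherianRing R] [IsIntegrallyClosed R]
    (p : Ideal R) [p.IsPrime] (hp : p.height = 1) :
    ∃ f : FractionRing R, f ∉ Set.range ⇑(algebraMap R (FractionRing R)) ∧
      ∀ q : Ideal R, q.IsPrime → q.height = 1 → q ≠ p →
        ∃ a b : R, b ∉ q ∧ f * algebraMap R (FractionRing R) b = algebraMap R (FractionRing R) a := by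
  classical
  -- p ≠ ⊥
  have hpbot : p ≠ ⊥ := by
    intro h
    rw [h, Ideal.height_bot] at hp
    exact zero_ne_one hp
  obtain ⟨x₀, hx₀p, hx₀⟩ := Submodule.exists_mem_ne_zero_of_ne_bot hpbot
  have hle : Ideal.span {x₀} ≤ p := (Ideal.span_singleton_le_iff_mem p).mpr hx₀p
  obtain ⟨p', hp', hp'p⟩ := Ideal.exists_minimalPrimes_le hle
  have hp'prime : p'.IsPrime := hp'.1.1
  have hx₀p' : x₀ ∈ p' := hp'.1.2 (Ideal.mem_span_singleton_self x₀)
  have hp'eq : p' = p := by
    rcases eq_or_lt_of_le hp'p with h | h
    · exact h
    · exfalso
      have hfin : p.FiniteHeight := by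
        rw [Ideal.finiteHeight_iff]
        right
        rw [hp]
        exact ENat.one_ne_top
      have h1 := Ideal.height_strict_mono_of_isPrime_of_isPrime h
      rw [hp] at h1
      have h2 : p'.height = 0 := Order.lt_one_iff.mp h1
      rw [Ideal.height_eq_zero_iff_eq_bot] at h2
      rw [h2, Ideal.mem_bot] at hx₀p'
      exact hx₀ hx₀p'
  rw [hp'eq] at hp'
  have hcolon : (Ideal.span {x₀} : Ideal R) = (Ideal.span {x₀} : Submodule R R).colon {(1 : R)} := by
    ext r
    rw [Submodule.mem_colon_singleton, smul_eq_mul, _root_.mul_one]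
  rw [hcolon] at hp'
  obtain ⟨c, hc⟩ := Submodule.exists_eq_colon_of_mem_minimalPrimes hp'
  have hK : algebraMap R (FractionRing R) x₀ ≠ 0 := by
    intro h
    exact hx₀ ((IsFractionRing.injective R (FractionRing R)) (by rw [h, map_zero]))
  refine ⟨algebraMap R (FractionRing R) c / algebraMap R (FractionRing R) x₀, ?_, ?_⟩
  · rintro ⟨r, hr⟩
    rw [eq_div_iff hK, ← map_mul] at hr
    have hr' := IsFractionRing.injective R (FractionRing R) hr
    have : (1 : R) ∈ p := by
      rw [hc, Submodule.mem_colon_singleton, one_smul, ← hr']
      exact Ideal.mul_mem_left _ _ (Ideal.mem_span_singleton_self x₀)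
    exact (Ideal.IsPrime.ne_top inferInstance) ((Ideal.eq_top_iff_one p).mpr this)
  · intro q hqprime hq hqp
    have hnot : ¬ p ≤ q := by
      intro hpq
      rcases eq_or_lt_of_le hpq with h | h
      · exact hqp h.symm
      · have hfin : q.FiniteHeight := by
          rw [Ideal.finiteHeight_iff]
          right
          rw [hq]
          exact ENat.one_ne_top
        have h1 := Ideal.height_strict_mono_of_isPrime_of_isPrime h
        rw [hp, hq] at h1
        exact lt_irrefl _ h1
    obtain ⟨b, hbp, hbq⟩ := Set.not_subset.mp hnot
    have hb : b ∈ (Ideal.span {x₀} : Submodule R R).colon {c} := by rw [← hc]; exact hbp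
    rw [Submodule.mem_colon_singleton, smul_eq_mul] at hb
    obtain ⟨a, ha⟩ := Ideal.mem_span_singleton'.mp hb
    refine ⟨a, b, hbq, ?_⟩
    rw [div_mul_eq_mul_div, div_eq_iff hK, ← map_mul, ← map_mul, ha, mul_comm]

end Groth.Agent.S11221
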