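import Groth.Statements.S11233
import Mathlib

set_option autoImplicit false
universe u
open CAlg

namespace Groth.Agent.S11233

/-- Let k be an algebraically closed field, A an integral domain which is a k-algebra, T an m by m
matrix over A with invertible determinant, and let the additive group k^m act on the polynomial ring
A[y_1, ..., y_m] by the A-algebra maps y_s ↦ y_s + Σ_r h_r T_rs. Then the only invariant polynomials
are the constants: a polynomial fixed by all these substitutions lies in A. -/
theorem result (k : Type u) [Field k] [IsAlgClosed k]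
    (A : Type u) [CommRing A] [IsDomain A] [Algebra k A] (m : ℕ) (T : Matrix (Fin m) (Fin m) A)
    (hT : IsUnit T.det) (f : MvPolynomial (Fin m) A)
    (hf : ∀ h : Fin m → k, MvPolynomial.aeval
      (fun s : Fin m => MvPolynomial.X s + MvPolynomial.C (∑ r : Fin m, algebraMap k A (h r) * T r s)) f = f) :
    ∃ a : A, f = MvPolynomial.C a := by
  classical
  -- A[y] and A[y][h]
  let Φ : (MvPolynomial (Fin m) A) →+* MvPolynomial (Fin m) (MvPolynomial (Fin m) A) :=
    MvPolynomial.eval₂Hom ((MvPolynomial.C : (MvPolynomial (Fin m) A) →+* MvPolynomial (Fin m) (MvPolynomial (Fin m) A)).comp (MvPolynomial.C : A →+* (MvPolynomial (Fin m) A)))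
      (fun s => MvPolynomial.C (MvPolynomial.X s) +
        ∑ r : Fin m, MvPolynomial.X r * MvPolynomial.C (MvPolynomial.C (T r s)))
  have hΦC : ∀ a : A, Φ (MvPolynomial.C a) = MvPolynomial.C (MvPolynomial.C a) := by
    intro a; exact MvPolynomial.eval₂Hom_C _ _ a
  have hΦX : ∀ s : Fin m, Φ (MvPolynomial.X s) = MvPolynomial.C (MvPolynomial.X s) +
        ∑ r : Fin m, MvPolynomial.X r * MvPolynomial.C (MvPolynomial.C (T r s)) := by
    intro s; exact MvPolynomial.eval₂Hom_X' _ _ s
  -- Step 1: Φ f = C f
  have step1 : Φ f = MvPolynomial.C f := by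
    have hinjk : Function.Injective (fun c : k => (MvPolynomial.C (algebraMap k A c) : (MvPolynomial (Fin m) A))) := by
      intro c c' h
      have := MvPolynomial.C_injective (Fin m) A h
      exact (algebraMap k A).injective this
    apply MvPolynomial.funext_set (fun _ : Fin m => Set.range (fun c : k => (MvPolynomial.C (algebraMap k A c) : (MvPolynomial (Fin m) A))))
      (fun _ => Set.infinite_range_of_injective hinjk)
    intro x₀ hx₀
    have hx₀' : ∀ r, ∃ c : k, (MvPolynomial.C (algebraMap k A c) : (MvPolynomial (Fin m) A)) = x₀ r := fun r =>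
      hx₀ r (Set.mem_univ r)
    choose h₀ hh₀ using hx₀'
    rw [MvPolynomial.eval_C]
    have hcomp : (MvPolynomial.eval x₀).comp Φ = (MvPolynomial.aeval
      (fun s : Fin m => MvPolynomial.X s + MvPolynomial.C (∑ r : Fin m, algebraMap k A (h₀ r) * T r s) : Fin m → (MvPolynomial (Fin m) A))
        : (MvPolynomial (Fin m) A) →ₐ[A] (MvPolynomial (Fin m) A)).toRingHom := by
      apply MvPolynomial.ringHom_ext
      · intro a
        simp [hΦC, MvPolynomial.algebraMap_eq]
      · intro s
        simp only [RingHom.comp_apply, hΦX, map_add, map_sum, map_mul, MvPolynomial.eval_C,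
          MvPolynomial.eval_X, AlgHom.toRingHom_eq_coe, RingHom.coe_coe, MvPolynomial.aeval_X, ← hh₀]
    have := congrArg (fun φ : (MvPolynomial (Fin m) A) →+* (MvPolynomial (Fin m) A) => φ f) hcomp
    simp only [RingHom.comp_apply, AlgHom.toRingHom_eq_coe, RingHom.coe_coe] at this
    rw [this]
    exact hf h₀
  -- Step 2: substitute y ↦ 0, h ↦ y T⁻¹
  let φ₀ : (MvPolynomial (Fin m) A) →+* (MvPolynomial (Fin m) A) := (MvPolynomial.C : A →+* (MvPolynomial (Fin m) A)).comp (MvPolynomial.constantCoeff)
  let Ψ : MvPolynomial (Fin m) (MvPolynomial (Fin m) A) →+* (MvPolynomial (Fin m) A) :=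
    MvPolynomial.eval₂Hom φ₀ (fun r => ∑ t : Fin m, MvPolynomial.X t * MvPolynomial.C (T⁻¹ t r))
  have hΨΦ : Ψ.comp Φ = RingHom.id (MvPolynomial (Fin m) A) := by
    apply MvPolynomial.ringHom_ext
    · intro a
      simp [hΦC, Ψ, φ₀]
    · intro s
      simp only [RingHom.comp_apply, hΦX, map_add, map_sum, map_mul, RingHom.id_apply]
      simp only [Ψ, φ₀, MvPolynomial.eval₂Hom_C, MvPolynomial.eval₂Hom_X', RingHom.comp_apply,
        MvPolynomial.constantCoeff_X, MvPolynomial.constantCoeff_C, map_zero, zero_add]
      have hinv : T⁻¹ * T = 1 := Matrix.nonsing_inv_mul T hT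
      calc ∑ r : Fin m, (∑ t : Fin m, MvPolynomial.X t * MvPolynomial.C (T⁻¹ t r)) * MvPolynomial.C (T r s)
          = ∑ t : Fin m, MvPolynomial.X t * MvPolynomial.C (∑ r : Fin m, T⁻¹ t r * T r s) := by
            simp only [Finset.sum_mul, map_sum, map_mul, Finset.mul_sum]
            rw [Finset.sum_comm]
            refine Finset.sum_congr rfl fun t _ => Finset.sum_congr rfl fun r _ => ?_
            ring
        _ = ∑ t : Fin m, MvPolynomial.X t * MvPolynomial.C ((T⁻¹ * T) t s) := by
            simp only [Matrix.mul_apply]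
        _ = MvPolynomial.X s := by
            rw [hinv]
            simp [Matrix.one_apply]
  refine ⟨MvPolynomial.constantCoeff f, ?_⟩
  have h1 := congrArg (fun φ : (MvPolynomial (Fin m) A) →+* (MvPolynomial (Fin m) A) => φ f) hΨΦ
  simp only [RingHom.comp_apply, RingHom.id_apply] at h1
  rw [step1] at h1
  rw [← h1]
  simp [Ψ, φ₀]

end Groth.Agent.S11233
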