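import Groth.Statements.S11235
import Mathlib

set_option autoImplicit false
universe u
open CAlg

namespace Groth.Agent.S11235

/-- Let k be an algebraically closed field, A a commutative k-algebra, α ∈ k, and M a maximal ideal of
the polynomial ring A[x] containing x - α. Let I ⊆ M be an ideal whose zero set in Spec A[x] is
invariant under the automorphisms x ↦ c·x, c ∈ k nonzero (equivalently: the image of I under each
such A-algebra automorphism has the same radical as I). Then there is a maximal ideal of A[x]
containing I and x. -/
theorem result (k : Type u) [Field k] [IsAlgClosed k]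
    (A : Type u) [CommRing A] [Algebra k A] (α : k)
    (M : Ideal (Polynomial A)) (hM : M.IsMaximal)
    (hα : Polynomial.X - Polynomial.C (algebraMap k A α) ∈ M)
    (I : Ideal (Polynomial A)) (hIM : I ≤ M)
    (hI : ∀ c : kˣ, (I.map (Polynomial.aeval (R := A)
      (algebraMap k A (c : k) • (Polynomial.X : Polynomial A)))).radical = I.radical) :
    ∃ N : Ideal (Polynomial A), N.IsMaximal ∧ I ≤ N ∧ Polynomial.X ∈ N := by
  classical
  set a : A := algebraMap k A α with ha
  set m : Ideal A := M.comap (Polynomial.C : A →+* Polynomial A) with hm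
  have hMprime : M.IsPrime := hM.isPrime
  -- key: membership in M is tested by evaluating at a
  have key : ∀ g : Polynomial A, g ∈ M ↔ g.eval a ∈ m := by
    intro g
    have hdvd : (Polynomial.X - Polynomial.C a) ∣ (g - Polynomial.C (g.eval a)) := by
      rw [Polynomial.dvd_iff_isRoot]
      simp [Polynomial.IsRoot]
    have hmem : g - Polynomial.C (g.eval a) ∈ M := by
      obtain ⟨q, hq⟩ := hdvd
      rw [hq]
      exact Ideal.mul_mem_right _ _ hα
    constructor
    · intro hg
      have : Polynomial.C (g.eval a) ∈ M := by
        have := M.sub_mem hg hmem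
        simpa using this
      exact this
    · intro hg
      have hg' : Polynomial.C (g.eval a) ∈ M := hg
      have := M.add_mem hmem hg'
      simpa using this
  have hMcomap : M = m.comap (Polynomial.evalRingHom a) := by
    ext g
    rw [Ideal.mem_comap, Polynomial.coe_evalRingHom]
    exact key g
  have hsurj : ∀ b : A, Function.Surjective (Polynomial.evalRingHom b) := fun b x =>
    ⟨Polynomial.C x, by simp⟩
  have hmmax : m.IsMaximal := by
    have h1 : m = M.map (Polynomial.evalRingHom a) := by
      rw [hMcomap, Ideal.map_comap_of_surjective _ (hsurj a)]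
    rcases Ideal.map_eq_top_or_isMaximal_of_surjective (Polynomial.evalRingHom a) (hsurj a) hM with h | h
    · exfalso
      rw [← h1] at h
      have : (1 : A) ∈ m := by rw [h]; trivial
      have h1M : (Polynomial.C (1 : A)) ∈ M := this
      rw [Polynomial.C_1] at h1M
      exact hMprime.ne_top ((Ideal.eq_top_iff_one M).mpr h1M)
    · rw [h1]; exact h
  refine ⟨m.comap (Polynomial.evalRingHom 0), Ideal.comap_isMaximal_of_surjective _ (hsurj 0), ?_, ?_⟩
  swap
  · rw [Ideal.mem_comap, Polynomial.coe_evalRingHom, Polynomial.eval_X]
    exact zero_mem _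
  intro f hf
  rw [Ideal.mem_comap, Polynomial.coe_evalRingHom]
  by_cases hα0 : α = 0
  · have : a = 0 := by rw [ha, hα0, map_zero]
    rw [← this]
    exact (key f).mp (hIM hf)
  -- nonzero case
  have hroots : ∀ c : k, c ≠ 0 → f.eval (algebraMap k A (c * α)) ∈ m := by
    intro c hc
    let cu : kˣ := Units.mk0 c hc
    have h1 : Polynomial.aeval (R := A) (algebraMap k A (cu : k) • (Polynomial.X : Polynomial A)) f
        ∈ I.map (Polynomial.aeval (R := A) (algebraMap k A (cu : k) • (Polynomial.X : Polynomial A))) :=
      Ideal.mem_map_of_mem _ hf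
    have h2 := Ideal.le_radical h1
    rw [hI cu] at h2
    have h3 : I.radical ≤ M := (Ideal.IsPrime.radical_le_iff hMprime).mpr hIM
    have h4 := (key _).mp (h3 h2)
    rw [Polynomial.aeval_def, Polynomial.algebraMap_eq, ← Polynomial.comp, Polynomial.eval_comp] at h4
    simpa [cu, ha, map_mul, Algebra.smul_def] using h4
  have : m.IsMaximal := hmmax
  let _ := Ideal.Quotient.field m
  have hfbar : f.map (Ideal.Quotient.mk m) = 0 := by
    apply Polynomial.eq_zero_of_infinite_isRoot
    have hinj : Function.Injective (fun c : k => (Ideal.Quotient.mk m) (algebraMap k A (c * α))) := by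
      have hj : Function.Injective ((Ideal.Quotient.mk m).comp (algebraMap k A)) :=
        RingHom.injective _
      intro c c' hcc
      have := hj hcc
      exact mul_right_cancel₀ hα0 this
    have hinf : ({(0 : k)}ᶜ : Set k).Infinite := (Set.finite_singleton (0 : k)).infinite_compl
    refine Set.Infinite.mono ?_ (hinf.image hinj.injOn)
    rintro _ ⟨c, hc, rfl⟩
    simp only [Set.mem_ofPred_eq, Polynomial.IsRoot, Polynomial.eval_map_apply]
    rw [Ideal.Quotient.eq_zero_iff_mem]
    exact hroots c hc
  have h0 := congrArg (fun p => Polynomial.coeff p 0) hfbar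
  simp only [Polynomial.coeff_map, Polynomial.coeff_zero] at h0
  rw [Ideal.Quotient.eq_zero_iff_mem, Polynomial.coeff_zero_eq_eval_zero] at h0
  exact h0

end Groth.Agent.S11235
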