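import Groth.Statements.S11239
import Mathlib.LinearAlgebra.Matrix.Block

set_option autoImplicit false
universe u
open AGF

namespace Groth.Agent.S11239

/-- Let X be an m × n matrix over a commutative ring, u an upper triangular n × n matrix with ones on
the diagonal, t a diagonal n × n matrix and p ≤ n. For any choice of p rows, the minor of X·t·u
formed with these rows and the first p columns equals (t_11 ⋯ t_pp) times the corresponding minor of
X: the minors on the first p columns are semi-invariant of weight ω_p under right multiplication by
the upper triangular group. (The published statement is for the generic matrix over an algebraically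
closed field; this row states the identity over any commutative ring.) -/
theorem result (R : Type u) [CommRing R] (m n p : ℕ) (hp : p ≤ n)
    (X : Matrix (Fin m) (Fin n) R) (d : Fin n → R) (u : Matrix (Fin n) (Fin n) R)
    (hu1 : ∀ i, u i i = 1) (hu0 : ∀ i j, j < i → u i j = 0) (I : Fin p → Fin m) :
    ((X * Matrix.diagonal d * u).submatrix I (Fin.castLE hp)).det =
      (∏ i : Fin p, d (Fin.castLE hp i)) * (X.submatrix I (Fin.castLE hp)).det := by
  have hM : ∀ j k, (Matrix.diagonal d * u) j k = d j * u j k := fun j k => Matrix.diagonal_mul _ _ _ _
  have key : (X * Matrix.diagonal d * u).submatrix I (Fin.castLE hp) =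
      (X.submatrix I (Fin.castLE hp)) *
        ((Matrix.diagonal d * u).submatrix (Fin.castLE hp) (Fin.castLE hp)) := by
    rw [Matrix.mul_assoc]
    ext a b
    simp only [Matrix.submatrix_apply]
    rw [Matrix.mul_apply, Matrix.mul_apply]
    simp only [Matrix.submatrix_apply]
    have h1 : ∑ k : Fin p, X (I a) (Fin.castLE hp k) *
          (Matrix.diagonal d * u) (Fin.castLE hp k) (Fin.castLE hp b) =
        ∑ j ∈ Finset.univ.map (Fin.castLEEmb hp), X (I a) j * (Matrix.diagonal d * u) j (Fin.castLE hp b) := by
      rw [Finset.sum_map]; rfl
    rw [h1]
    symm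
    rw [Finset.sum_subset (Finset.subset_univ _)]
    intro j _ hj
    have hlt : Fin.castLE hp b < j := by
      by_contra hcon
      apply hj
      rw [Finset.mem_map]
      have hjb : (j : ℕ) ≤ (b : ℕ) := by
        have := not_lt.mp hcon
        exact this
      refine ⟨⟨j, lt_of_le_of_lt hjb b.2⟩, Finset.mem_univ _, ?_⟩
      ext; rfl
    rw [hM, hu0 j _ hlt]; ring
  rw [key, Matrix.det_mul, mul_comm]
  congr 1
  rw [Matrix.det_of_isUpperTriangular]
  · apply Finset.prod_congr rfl
    intro i _
    simp only [Matrix.submatrix_apply]
    rw [hM, hu1, mul_one]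
  · intro i j hij
    simp only [Matrix.submatrix_apply]
    rw [hM, hu0 _ _ (by exact hij), mul_zero]

end Groth.Agent.S11239
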