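import Groth.Statements.S11240
import Mathlib.LinearAlgebra.Matrix.Determinant.Basic
import Mathlib.Algebra.MvPolynomial.Eval

set_option autoImplicit false
universe u
open AGF

namespace Groth.Agent.S11240

theorem generic_minor_ne_zero (k : Type u) [Field k] (n m p : ℕ)
    (ρ : Fin p → Fin n) (hρ : Function.Injective ρ) (J : Fin p → Fin m) (hJ : Function.Injective J) :
    (Matrix.of fun a c => (MvPolynomial.X (ρ a, J c) : MvPolynomial (Fin n × Fin m) k)).det ≠ 0 := by
  classical
  intro h
  let pt : Fin n × Fin m → k := fun uv => if ∃ a, ρ a = uv.1 ∧ J a = uv.2 then 1 else 0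
  have h1 := congrArg (MvPolynomial.eval pt) h
  rw [RingHom.map_det, map_zero] at h1
  have h2 : (MvPolynomial.eval pt).mapMatrix
      (Matrix.of fun a c => (MvPolynomial.X (ρ a, J c) : MvPolynomial (Fin n × Fin m) k)) = 1 := by
    refine Matrix.ext fun a c => ?_
    simp only [RingHom.mapMatrix_apply, Matrix.map_apply, Matrix.of_apply, MvPolynomial.eval_X, pt,
      Matrix.one_apply]
    by_cases hac : a = c
    · subst hac
      rw [if_pos ⟨a, rfl, rfl⟩, if_pos rfl]
    · rw [if_neg hac, if_neg]
      rintro ⟨a', h1, h2⟩
      exact hac ((hρ h1).symm.trans (hJ h2))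
  rw [h2, Matrix.det_one] at h1
  exact one_ne_zero h1

/-- For a single root subgroup: let k be an algebraically closed field and X = (x_ab) the generic n × m
matrix over the polynomial ring k[x_ab]. Let i ≠ j be row indices and let I (rows) and J (columns)
be strictly increasing sequences of length p. The minor of X with rows I and columns J is invariant
under replacing X by (1 + b·E_ij)·X for every b ∈ k (the one-parameter unipotent group adding b
times row j to row i) if and only if j occurs in I whenever i does. (The published statement gives
the criterion for the group generated by several such root subgroups, which is the conjunction of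
these.) -/
theorem result (k : Type u) [Field k] [IsAlgClosed k] (n m p : ℕ)
    (i j : Fin n) (hij : i ≠ j) (I : Fin p ↪o Fin n) (J : Fin p ↪o Fin m) :
    (∀ b : k, ((Matrix.transvection i j (MvPolynomial.C b) *
        (Matrix.of fun a c => (MvPolynomial.X (a, c) : MvPolynomial (Fin n × Fin m) k))).submatrix I J).det =
        ((Matrix.of fun a c => (MvPolynomial.X (a, c) : MvPolynomial (Fin n × Fin m) k)).submatrix I J).det) ↔
      (i ∈ Set.range I → j ∈ Set.range I) := by
  classical
  set X : Matrix (Fin n) (Fin m) (MvPolynomial (Fin n × Fin m) k) :=
    Matrix.of fun a c => (MvPolynomial.X (a, c) : MvPolynomial (Fin n × Fin m) k) with hX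
  set old : Matrix (Fin p) (Fin p) (MvPolynomial (Fin n × Fin m) k) := X.submatrix I J with hold
  by_cases hi : i ∈ Set.range I
  swap
  · -- i not a row: nothing changes
    constructor
    · intro _ h; exact absurd h hi
    · intro _ b
      congr 1
      refine Matrix.ext fun a c => ?_
      change (Matrix.transvection i j (MvPolynomial.C b) * X : Matrix (Fin n) (Fin m) (MvPolynomial (Fin n × Fin m) k)) (I a) (J c) = X (I a) (J c)
      exact Matrix.transvection_mul_apply_of_ne i j (I a) (J c) (fun h => hi ⟨a, h⟩) _ X
  obtain ⟨a₀, ha₀⟩ := hi
  -- the new submatrix is an updateRow of the old one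
  have hnew : ∀ b : k, (Matrix.transvection i j (MvPolynomial.C b) * X).submatrix I J =
      old.updateRow a₀ (old a₀ + (MvPolynomial.C b : MvPolynomial (Fin n × Fin m) k) • fun c => X j (J c)) := by
    intro b
    refine Matrix.ext fun a c => ?_
    change (Matrix.transvection i j (MvPolynomial.C b) * X : Matrix (Fin n) (Fin m) (MvPolynomial (Fin n × Fin m) k)) (I a) (J c) = _
    by_cases ha : a = a₀
    · subst ha
      rw [Matrix.updateRow_self, ha₀, Matrix.transvection_mul_apply_same]
      simp [hold, ha₀]
    · rw [Matrix.updateRow_ne ha]
      have : I a ≠ i := fun h => ha (I.injective (h.trans ha₀.symm))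
      rw [Matrix.transvection_mul_apply_of_ne i j (I a) (J c) this]
      rfl
  have hdet : ∀ b : k, ((Matrix.transvection i j (MvPolynomial.C b) * X).submatrix I J).det =
      old.det + MvPolynomial.C b * (old.updateRow a₀ (fun c => X j (J c))).det := by
    intro b
    rw [hnew b, Matrix.det_updateRow_add, Matrix.det_updateRow_smul, Matrix.updateRow_eq_self]
  by_cases hj : j ∈ Set.range I
  · obtain ⟨a₁, ha₁⟩ := hj
    have hne : a₀ ≠ a₁ := by
      intro h
      apply hij
      rw [← ha₀, ← ha₁, h]
    constructor
    · intro _ _; exact ⟨a₁, ha₁⟩
    · intro _ b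
      rw [hdet b]
      have : (old.updateRow a₀ (fun c => X j (J c))).det = 0 := by
        apply Matrix.det_zero_of_row_eq hne
        rw [Matrix.updateRow_self, Matrix.updateRow_ne hne.symm]
        funext c
        simp [hold, ha₁]
      rw [this, mul_zero, add_zero]
  · constructor
    · intro h _
      exfalso
      have h1 := h 1
      rw [hdet 1, map_one, one_mul] at h1
      have h2 : (old.updateRow a₀ (fun c => X j (J c))).det = 0 := by
        have := congrArg (fun z => z - old.det) h1
        simpa using this
      let ρ : Fin p → Fin n := fun a => if a = a₀ then j else I a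
      have hρ : Function.Injective ρ := by
        intro a a' haa
        simp only [ρ] at haa
        by_cases h1 : a = a₀ <;> by_cases h2 : a' = a₀
        · rw [h1, h2]
        · rw [if_pos h1, if_neg h2] at haa
          exact absurd ⟨a', haa.symm⟩ hj
        · rw [if_neg h1, if_pos h2] at haa
          exact absurd ⟨a, haa⟩ hj
        · rw [if_neg h1, if_neg h2] at haa
          exact I.injective haa
      have h3 : old.updateRow a₀ (fun c => X j (J c)) =
          Matrix.of fun a c => (MvPolynomial.X (ρ a, J c) : MvPolynomial (Fin n × Fin m) k) := by
        refine Matrix.ext fun a c => ?_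
        by_cases ha : a = a₀
        · subst ha
          simp [ρ, hX]
        · rw [Matrix.updateRow_ne ha]
          simp [ρ, ha, hold, hX]
      rw [h3] at h2
      exact generic_minor_ne_zero k n m p ρ hρ J J.injective h2
    · intro h
      exact absurd (h ⟨a₀, ha₀⟩) hj

end Groth.Agent.S11240
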