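import Groth.Statements.S5491
import Mathlib

set_option autoImplicit false
open RootD

namespace Groth.Agent.S5491

theorem aux_simple {ι M N : Type*} [AddCommGroup M] [AddCommGroup N]
    (P : RootPairing ι ℤ M N) [Finite ι] [Fintype ι] [P.IsReduced] (b : P.Base) (s : ι)
    (hs : s ∈ b.support) [DecidablePred b.IsPos] :
    ∑ j, (if b.IsPos j then P.pairing s j else 0) = 2 := by
  classical
  rw [← Finset.sum_filter]
  have hspos : b.IsPos s := b.isPos_of_mem_support hs
  have hsmem : s ∈ Finset.univ.filter (fun j => b.IsPos j) := by simp [hspos]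
  rw [← Finset.add_sum_erase _ _ hsmem, P.pairing_same]
  set T := (Finset.univ.filter (fun j => b.IsPos j)).erase s with hTdef
  have hnegs : ¬ b.IsPos (P.reflectionPerm s s) := by
    have h : b.height (P.reflectionPerm s s) = -b.height s := b.height_reflectionPerm_self s
    rw [RootPairing.Base.isPos_iff, h, RootPairing.Base.height_one_of_mem_support hs]
    omega
  have hT : ∀ j ∈ T, P.reflectionPerm s j ∈ T := by
    intro j hj
    rw [hTdef, Finset.mem_erase, Finset.mem_filter] at hj ⊢
    obtain ⟨hjs, -, hjpos⟩ := hj
    refine ⟨?_, Finset.mem_univ _, hjpos.reflectionPerm hs hjs⟩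
    intro h
    have hj2 : j = P.reflectionPerm s s := by
      have := congrArg (P.reflectionPerm s) h
      simpa using this
    exact hnegs (hj2 ▸ hjpos)
  have hsum : ∑ j ∈ T, P.pairing s j = 0 := by
    have h1 : ∑ j ∈ T, P.pairing s (P.reflectionPerm s j) = ∑ j ∈ T, P.pairing s j :=
      Finset.sum_nbij' (fun j => P.reflectionPerm s j) (fun j => P.reflectionPerm s j) hT hT
        (fun j _ => by simp) (fun j _ => by simp) (fun j _ => rfl)
    have h2 : ∀ j, P.pairing s (P.reflectionPerm s j) = - P.pairing s j := by
      intro j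
      rw [P.pairing_reflectionPerm, P.pairing_reflectionPerm_self_left]
    simp only [h2, Finset.sum_neg_distrib] at h1
    omega
  rw [hsum]; norm_num

open Classical in
/-- With ρ^v the half-sum of the positive coroots, the order (height) of any root α relative to the
simple system equals (ρ^v, α); equivalently 2·height(α) = Σ_{β > 0} (β^v, α). -/
theorem result {ι M N : Type*} [AddCommGroup M] [AddCommGroup N]
    (P : RootPairing ι ℤ M N) [Finite ι] [Fintype ι] [P.IsReduced] (b : P.Base) (i : ι) :
    2 * b.height i = ∑ j, if b.IsPos j then P.pairing i j else 0 := by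
  classical
  obtain ⟨f, -, -, hf⟩ := b.exists_root_eq_sum_int i
  rw [RootPairing.Base.height_eq_sum hf]
  have hp : ∀ j, P.pairing i j = ∑ k ∈ b.support, f k * P.pairing k j := by
    intro j
    rw [← P.root_coroot_eq_pairing i j, hf, map_sum, LinearMap.sum_apply]
    refine Finset.sum_congr rfl fun k _ => ?_
    rw [map_zsmul, LinearMap.smul_apply, P.root_coroot_eq_pairing, smul_eq_mul]
  have h3 : ∀ j, (if b.IsPos j then P.pairing i j else 0) =
      ∑ k ∈ b.support, f k * (if b.IsPos j then P.pairing k j else 0) := by
    intro j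
    split_ifs with h
    · exact hp j
    · simp
  simp only [h3]
  rw [Finset.sum_comm]
  simp only [← Finset.mul_sum]
  have h4 : ∀ k ∈ b.support,
      f k * (∑ j, if b.IsPos j then P.pairing k j else 0) = f k * 2 := by
    intro k hk
    rw [aux_simple P b k hk]
  rw [Finset.sum_congr rfl h4, ← Finset.sum_mul]; ring

end Groth.Agent.S5491
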