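import Groth.Statements.S11243
import Mathlib
import Groth.Agent.Lib.Lead.RootB2
import Groth.Agent.S5491

set_option autoImplicit false
universe u v w
open RootD

namespace Groth.Agent.S11243

/-- (b), for a connected group, as a statement about its root datum: let P be a finite reduced
crystallographic root pairing over ℤ with weight lattice M, and b a base of P (simple roots,
determining the positive roots). Then there is an additive map h : M → ℤ which is positive on every
positive root (so that h strictly increases along the dominance order) and non-negative on every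
dominant weight, i.e. on every ω ∈ M pairing non-negatively with all simple coroots. (Part (c),
invariance under the component group of a disconnected group, is not stated.) -/
theorem result {ι : Type u} {M : Type v} {N : Type w}
    [Fintype ι] [AddCommGroup M] [AddCommGroup N]
    (P : RootPairing ι ℤ M N) [P.IsReduced] [P.IsCrystallographic] (b : P.Base) :
    ∃ h : M →+ ℤ, (∀ i : ι, b.IsPos i → 0 < h (P.root i)) ∧
      ∀ ω : M, (∀ j ∈ b.support, 0 ≤ P.toLinearMap ω (P.coroot j)) → 0 ≤ h ω := by
  classical
  obtain ⟨hlin, hdef⟩ : ∃ hlin : M →ₗ[ℤ] ℤ,
      hlin = ∑ i ∈ Finset.univ.filter (fun i => b.IsPos i), P.coroot' i := ⟨_, rfl⟩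
  refine ⟨hlin.toAddMonoidHom, ?_, ?_⟩
  · intro k hk
    have h1 : hlin (P.root k) = 2 * b.height k := by
      rw [Groth.Agent.S5491.result P b k, hdef, LinearMap.sum_apply, Finset.sum_filter]
      refine Finset.sum_congr rfl fun i _ => ?_
      split_ifs
      · rfl
      · rfl
    show 0 < hlin (P.root k)
    rw [h1]
    have := hk
    rw [RootPairing.Base.isPos_iff] at this
    omega
  · intro ω hω
    show 0 ≤ hlin ω
    rw [hdef, LinearMap.sum_apply]
    refine Finset.sum_nonneg fun i hi => ?_
    have hi' : b.IsPos i := (Finset.mem_filter.mp hi).2
    exact Groth.Agent.Lead.RootB2.coroot_nonneg_of_dominant P b hi' ω hω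

end Groth.Agent.S11243
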