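import Groth.Statements.S11252
import Mathlib
import Groth.Agent.Lib.Helper2.SMT
-- import your own Groth.Agent.* helpers here

set_option autoImplicit false
universe u
open W4bk4grassmannian

namespace Groth.Agent.S11252

section
open W4bk4grassmannian MvPolynomial Groth.Agent.Lib.Helper2.SMT

variable {K : Type u} [Field K] {d n : ℕ}

open Groth.Agent.S11251 in
theorem chainMon_eq_listMon {m : ℕ} (c : Fin m → Idx d n) :
    chainMon K c = listMon K (List.ofFn c) := by
  unfold listMon chainMon
  rw [List.map_ofFn, List.prod_ofFn]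
  rfl

theorem exists_chain_span (p : PlRing K d n) :
    ∃ q ∈ Submodule.span K
      (Set.range fun c : (Σ m : ℕ, {c : Fin m → Idx d n // Antitone c}) => chainMon K c.2.1),
      p - q ∈ plIdealTop (d := d) (n := n) K := by
  have hmain := Groth.Agent.S11251.main K d n
  have hp : Ideal.Quotient.mk (plIdealTop (d := d) (n := n) K) p ∈
      Submodule.span K (Set.range fun c : (Σ m : ℕ, {c : Fin m → Idx d n // Antitone c}) =>
        Ideal.Quotient.mk (plIdealTop (d := d) (n := n) K) (chainMon K c.2.1)) := by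
    rw [hmain]; trivial
  have hrange : (Set.range fun c : (Σ m : ℕ, {c : Fin m → Idx d n // Antitone c}) =>
        Ideal.Quotient.mk (plIdealTop (d := d) (n := n) K) (chainMon K c.2.1)) =
      (Ideal.Quotient.mkₐ K (plIdealTop (d := d) (n := n) K)).toLinearMap ''
        (Set.range fun c : (Σ m : ℕ, {c : Fin m → Idx d n // Antitone c}) => chainMon K c.2.1) := by
    rw [← Set.range_comp]
    rfl
  rw [hrange, Submodule.span_image] at hp
  obtain ⟨q, hq, hqp⟩ := hp
  refine ⟨q, hq, ?_⟩
  rw [← Ideal.Quotient.eq]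
  exact hqp.symm

theorem main (K : Type u) [Field K] [IsAlgClosed K] (d n : ℕ)
    (hd : 0 < d) (hdn : d < n) (r : ℕ) (τs : Fin r → Idx d n) :
    LinearIndependent K (fun c : (Σ m : ℕ, {c : Fin m → Idx d n // Antitone c ∧ ∃ i, ∀ k, c k ≤ τs i}) =>
        Ideal.Quotient.mk (⨅ i, schubertVanishing K d n (τs i)) (chainMon K c.2.1)) ∧
      Submodule.span K (Set.range fun c : (Σ m : ℕ, {c : Fin m → Idx d n // Antitone c ∧ ∃ i, ∀ k, c k ≤ τs i}) =>
        Ideal.Quotient.mk (⨅ i, schubertVanishing K d n (τs i)) (chainMon K c.2.1)) = ⊤ := by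
  classical
  set J := ⨅ i, schubertVanishing K d n (τs i) with hJ
  constructor
  · rw [linearIndependent_iff']
    intro s g hrel c₀ hc₀
    have hP : (∑ c ∈ s, g c • chainMon K c.2.1) ∈ J := by
      rw [← Ideal.Quotient.eq_zero_iff_mem]
      rw [← hrel]
      have : ∀ x : PlRing K d n, Ideal.Quotient.mk J x = Ideal.Quotient.mkₐ K J x := fun _ => rfl
      rw [this, map_sum]
      refine Finset.sum_congr rfl fun c _ => ?_
      rw [map_smul]
      rfl
    obtain ⟨i₀, hi₀⟩ := c₀.2.2.2
    set τ := τs i₀ with hτ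
    have hPτ : (∑ c ∈ s, g c • chainMon K c.2.1) ∈ schubertVanishing K d n τ := by
      rw [hJ, Ideal.mem_iInf] at hP
      exact hP i₀
    have h1 := schubertVanishing_le_ker τ _ hPτ
    rw [map_sum] at h1
    simp_rw [map_smul] at h1
    let toList : (Σ m : ℕ, {c : Fin m → Idx d n // Antitone c ∧ ∃ i, ∀ k, c k ≤ τs i}) →
        List (Idx d n) := fun c => List.ofFn c.2.1
    have hinj : Function.Injective toList := by
      rintro ⟨m, c, hc⟩ ⟨m', c', hc'⟩ h
      simp only [toList] at h
      rw [List.ofFn_inj'] at h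
      cases h
      rfl
    haveI : Nonempty (Σ m : ℕ, {c : Fin m → Idx d n // Antitone c ∧ ∃ i, ∀ k, c k ≤ τs i}) :=
      ⟨c₀⟩
    have h2 : ∑ c ∈ s.filter (fun c => ∀ k, c.2.1 k ≤ τ), g c • ψ K τ (chainMon K c.2.1) = 0 := by
      rw [← h1]
      apply Finset.sum_subset (Finset.filter_subset _ _)
      intro c hc hnot
      have : ¬ ∀ k, c.2.1 k ≤ τ := fun hh => hnot (Finset.mem_filter.mpr ⟨hc, hh⟩)
      push Not at this
      obtain ⟨k, hk⟩ := this
      have hz : ψ K τ (chainMon K c.2.1) = 0 := by
        unfold chainMon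
        rw [map_prod]
        exact Finset.prod_eq_zero (Finset.mem_univ k) (ψ_X_eq_zero τ _ hk)
      rw [hz, smul_zero]
    have h3 : ∑ L ∈ (s.filter (fun c => ∀ k, c.2.1 k ≤ τ)).image toList,
        (fun L => g (Function.invFun toList L)) L • ψ K τ (Groth.Agent.S11251.listMon K L) = 0 := by
      rw [Finset.sum_image (fun x _ y _ h => hinj h), ← h2]
      refine Finset.sum_congr rfl fun c _ => ?_
      simp only
      rw [Function.leftInverse_invFun hinj c, chainMon_eq_listMon]
    have h4 := indep hd τ _ _ (by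
      intro L hL
      obtain ⟨c, hc, rfl⟩ := Finset.mem_image.mp hL
      have hc' := (Finset.mem_filter.mp hc).2
      refine ⟨?_, ?_⟩
      · simp only [toList]
        rw [List.pairwise_ofFn]
        intro i j hij
        exact c.2.2.1 hij.le
      · intro x hx
        simp only [toList] at hx
        rw [List.mem_ofFn] at hx
        obtain ⟨k, rfl⟩ := hx
        exact hc' k) h3
    have h5 := h4 (toList c₀) (Finset.mem_image_of_mem _ (Finset.mem_filter.mpr ⟨hc₀, hi₀⟩))
    rwa [Function.leftInverse_invFun hinj c₀] at h5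
  · rw [eq_top_iff]
    intro x _
    obtain ⟨p, rfl⟩ := Ideal.Quotient.mk_surjective x
    obtain ⟨q, hq, hpq⟩ := exists_chain_span p
    have htopJ : plIdealTop (d := d) (n := n) K ≤ J := by
      rw [hJ]
      exact le_iInf fun i => plIdealTop_le (τs i)
    have e : Ideal.Quotient.mk J p = Ideal.Quotient.mk J q := by
      rw [Ideal.Quotient.eq]
      exact htopJ hpq
    rw [e]
    have hq' : Ideal.Quotient.mkₐ K J q ∈ Submodule.map (Ideal.Quotient.mkₐ K J).toLinearMap
        (Submodule.span K
          (Set.range fun c : (Σ m : ℕ, {c : Fin m → Idx d n // Antitone c}) => chainMon K c.2.1)) :=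
      Submodule.mem_map_of_mem hq
    rw [Submodule.map_span] at hq'
    refine Submodule.span_le.mpr ?_ hq'
    rintro _ ⟨_, ⟨c, rfl⟩, rfl⟩
    by_cases hgood : ∃ i, ∀ k, c.2.1 k ≤ τs i
    · apply Submodule.subset_span
      exact ⟨⟨c.1, ⟨c.2.1, c.2.2, hgood⟩⟩, rfl⟩
    · push Not at hgood
      have : chainMon K c.2.1 ∈ J := by
        rw [hJ, Ideal.mem_iInf]
        intro i
        obtain ⟨k, hk⟩ := hgood i
        unfold chainMon
        exact Ideal.prod_mem _ (Finset.mem_univ k) (X_mem_schubertVanishing (τs i) _ hk)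
      have hz : (Ideal.Quotient.mkₐ K J).toLinearMap (chainMon K c.2.1) = 0 := by
        show Ideal.Quotient.mk J _ = 0
        rw [Ideal.Quotient.eq_zero_iff_mem]
        exact this
      rw [SetLike.mem_coe, hz]
      exact Submodule.zero_mem _

end

open W4bk4grassmannian in
/-- Standard monomial basis for a union of Schubert varieties: let K be an algebraically closed field, 0
< d < n, and I(d,n) the strictly increasing maps Fin d → Fin n ordered entrywise; S = K[X_θ : θ ∈
I(d,n)] is the Plücker polynomial ring and, for τ ∈ I(d,n), J(τ) ⊆ S is the ideal of polynomials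
vanishing at the d × d row-minors of every n × d matrix over K whose minors on rows φ ≰ τ are zero
(the homogeneous ideal of the Schubert variety X(τ) ⊆ G(d,n)). Let τ_1, …, τ_r ∈ I(d,n) and let J =
⋂_i J(τ_i) be the homogeneous ideal of the union ⋃_i X(τ_i). Then the classes in S/J of the
monomials X_{θ_1} ⋯ X_{θ_m} (m ≥ 0) along chains θ_1 ≥ ⋯ ≥ θ_m all of whose members lie below some
τ_i are linearly independent over K and span S/J. -/
theorem result (K : Type u) [Field K] [IsAlgClosed K] (d n : ℕ)
    (hd : 0 < d) (hdn : d < n) (r : ℕ) (τs : Fin r → Idx d n) :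
    LinearIndependent K (fun c : (Σ m : ℕ, {c : Fin m → Idx d n // Antitone c ∧ ∃ i, ∀ k, c k ≤ τs i}) =>
        Ideal.Quotient.mk (⨅ i, schubertVanishing K d n (τs i)) (chainMon K c.2.1)) ∧
      Submodule.span K (Set.range fun c : (Σ m : ℕ, {c : Fin m → Idx d n // Antitone c ∧ ∃ i, ∀ k, c k ≤ τs i}) =>
        Ideal.Quotient.mk (⨅ i, schubertVanishing K d n (τs i)) (chainMon K c.2.1)) = ⊤ := by
  exact Groth.Agent.S11252.main K d n hd hdn r τs

end Groth.Agent.S11252
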