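import Groth.Statements.S11258
import Mathlib
import Groth.Agent.Lib.Helper2.CMGlue
import Groth.Agent.Lib.Helper2.SchubertSum
import Groth.Agent.Lib.Helper2.SchubertCell
import Groth.Agent.S11255
import Groth.Agent.S11260
-- import your own Groth.Agent.* helpers here

set_option autoImplicit false
universe u
open W4bk4grassmannian

namespace Groth.Agent.S11258

section
open W4bk4grassmannian MvPolynomial Groth.Agent.S11251 Groth.Agent.Lib.Helper2.SMT
  Groth.Agent.Lib.Helper2.SchubertCell Groth.Agent.Lib.Helper2.CMGlue
  Groth.Agent.Lib.Helper2.SchubertSum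

variable {K : Type u} [Field K] {d n : ℕ}

/-- the localized cone is a regular ring -/
theorem regular_away [Infinite K] (hd : 0 < d) (w : Idx d n) :
    IsRegularRing (Localization.Away (aw K w)) := by
  letI : Algebra (CRing K w) (Localization.Away (aw K w)) := (π₀ K w).toRingHom.toAlgebra
  haveI := isLocalization_away (K := K) hd w
  haveI : IsRegularRing (CRing K w) := inferInstance
  exact Groth.Agent.Helper14.RegularLocalization.isRegularRing_of_isLocalization
    (Submonoid.powers (X none : CRing K w)) _

theorem main_aux [IsAlgClosed K] (hd : 0 < d) (hdn : d < n) : ∀ N : ℕ, ∀ τ : Idx d n, codeg τ = N →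
    Good (schubertVanishing K d n τ) (N + 1) ∧
    ∀ T : Finset (Idx d n), (∀ φ ∈ T, φ ∈ divisors τ) →
      Good (⨅ φ ∈ T, schubertVanishing K d n φ) N := by
  classical
  intro N
  induction N using Nat.strong_induction_on with
  | _ N ih =>
  intro τ hτ
  haveI : IsNoetherianRing (PlRing K d n) := inferInstance
  have hB : ∀ T : Finset (Idx d n), (∀ φ ∈ T, φ ∈ divisors τ) →
      Good (⨅ φ ∈ T, schubertVanishing K d n φ) N := by
    intro T
    induction T using Finset.induction_on with
    | empty =>
      intro _
      simp only [Finset.notMem_empty, iInf_false, iInf_top]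
      exact good_top N
    | insert φ T' hφ ihT =>
      intro hT
      have hφdiv : φ ∈ divisors τ := hT φ (Finset.mem_insert_self _ _)
      have hT' : ∀ ψ ∈ T', ψ ∈ divisors τ := fun ψ hψ => hT ψ (Finset.mem_insert_of_mem hψ)
      have hN : codeg φ + 1 = N := by rw [← hτ]; exact hφdiv.2
      have hlt : codeg φ < N := by omega
      obtain ⟨hAφ, hBφ⟩ := ih (codeg φ) hlt φ rfl
      rw [hN] at hAφ
      rw [Finset.iInf_insert]
      have hsub : codeg φ = N - 1 := by omega
      apply glue K _ _ N (by omega) hAφ (ihT hT')
      rw [sup_comm, dist hd T' φ, ← hsub]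
      have himg : (⨅ ψ ∈ T', schubertVanishing K d n (W4bk4grassmannian.inf ψ φ)) =
          ⨅ ψ' ∈ T'.image (fun ψ => W4bk4grassmannian.inf ψ φ), schubertVanishing K d n ψ' := by
        rw [Finset.iInf_finset_image]
      rw [himg]
      apply hBφ
      intro ψ' hψ'
      obtain ⟨ψ, hψ, rfl⟩ := Finset.mem_image.mp hψ'
      apply inf_mem_divisors (hT' ψ hψ) hφdiv
      rintro rfl
      exact hφ hψ
  refine ⟨?_, hB⟩
  haveI hP : (schubertVanishing K d n τ).IsPrime := Groth.Agent.S11260.sv_isPrime hd τ
  constructor
  · apply hypersurface (schubertVanishing K d n τ) (X τ) (Groth.Agent.S11260.X_not_mem τ)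
    · by_cases hmin : ∃ φ : Idx d n, φ < τ
      · rw [Groth.Agent.S11254.main K d n hd hdn τ hmin]
        have hfin : (divisors τ).Finite := Set.toFinite _
        have e : (⨅ φ ∈ divisors τ, schubertVanishing K d n φ) =
            ⨅ φ ∈ hfin.toFinset, schubertVanishing K d n φ := by
          apply iInf_congr
          intro φ
          rw [Set.Finite.mem_toFinset]
        rw [e]
        exact (hB hfin.toFinset (fun φ hφ => (Set.Finite.mem_toFinset hfin).mp hφ)).1
      · apply cm_of_dim_zero
        rw [Groth.Agent.S11255.dim_quot_sup_min hd τ hmin]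
    · exact regular_away hd τ
  · intro Q hQ
    rw [Ideal.minimalPrimes_eq_subsingleton_self, Set.mem_singleton_iff] at hQ
    rw [hQ, Groth.Agent.S11255.main K d n hd hdn τ, hτ]

theorem main (K : Type u) [Field K] [IsAlgClosed K] (d n : ℕ)
    (hd : 0 < d) (hdn : d < n) (τ : Idx d n) :
    LocCoh.IsCohenMacaulayRing (PlRing K d n ⧸ schubertVanishing K d n τ) :=
  ((main_aux hd hdn (codeg τ) τ rfl).1).1

end

open W4bk4grassmannian in
/-- Schubert varieties are arithmetically Cohen–Macaulay: let K be an algebraically closed field, 0 < d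
< n, and I(d,n) the strictly increasing maps Fin d → Fin n ordered entrywise; S = K[X_θ : θ ∈
I(d,n)] is the Plücker polynomial ring and, for τ ∈ I(d,n), J(τ) ⊆ S is the ideal of polynomials
vanishing at the d × d row-minors of every n × d matrix over K whose minors on rows φ ≰ τ are zero
(the homogeneous ideal of the Schubert variety X(τ) ⊆ G(d,n)). Then S/J(τ), the coordinate ring of
the cone over X(τ), is a Cohen–Macaulay ring. -/
theorem result (K : Type u) [Field K] [IsAlgClosed K] (d n : ℕ)
    (hd : 0 < d) (hdn : d < n) (τ : Idx d n) :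
    LocCoh.IsCohenMacaulayRing (PlRing K d n ⧸ schubertVanishing K d n τ) := by
  exact Groth.Agent.S11258.main K d n hd hdn τ

end Groth.Agent.S11258
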