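import Groth.Statements.S11259
import Mathlib
import Groth.Agent.Lib.Helper2.SchubertCell
import Groth.Agent.Lib.Helper2.NormalAway
import Groth.Agent.S11253
import Groth.Agent.S11254
-- import your own Groth.Agent.* helpers here

set_option autoImplicit false
universe u
open W4bk4grassmannian

namespace Groth.Agent.S11259

section
open W4bk4grassmannian MvPolynomial Groth.Agent.S11251 Groth.Agent.Lib.Helper2.SMT
  Groth.Agent.Lib.Helper2.StdFam Groth.Agent.Lib.Helper2.SchubertCell

variable {K : Type u} [Field K] {d n : ℕ}

theorem sup_isRadical_of_min (hd : 0 < d) (w : Idx d n) (hmin : ¬ ∃ φ : Idx d n, φ < w) :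
    (schubertVanishing K d n w ⊔ Ideal.span {(X w : PlRing K d n)}).IsRadical := by
  classical
  haveI : Nonempty (Fin d) := ⟨⟨0, hd⟩⟩
  have hX : ∀ θ : Idx d n, (X θ : PlRing K d n) ∈
      schubertVanishing K d n w ⊔ Ideal.span {(X w : PlRing K d n)} := by
    intro θ
    by_cases hθ : θ = w
    · rw [hθ]
      exact Ideal.mem_sup_right (Ideal.subset_span rfl)
    · apply Ideal.mem_sup_left
      apply X_mem_schubertVanishing
      intro hle
      exact hmin ⟨θ, lt_of_le_of_ne hle hθ⟩
  have hev : ∀ θ : Idx d n, evalMinors K d n (0 : Matrix (Fin n) (Fin d) K) (X θ) = 0 := by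
    intro θ
    unfold evalMinors
    rw [MvPolynomial.aeval_X]
    have : (0 : Matrix (Fin n) (Fin d) K).submatrix θ.1 id = 0 := by
      ext i j; simp
    rw [this, Matrix.det_zero]
  have heq : schubertVanishing K d n w ⊔ Ideal.span {(X w : PlRing K d n)} =
      RingHom.ker (evalMinors K d n (0 : Matrix (Fin n) (Fin d) K)).toRingHom := by
    apply le_antisymm
    · apply sup_le
      · intro p hp
        unfold schubertVanishing at hp
        rw [Ideal.mem_iInf] at hp
        have h1 := hp 0
        rw [Ideal.mem_iInf] at h1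
        apply h1
        intro φ _
        have : (0 : Matrix (Fin n) (Fin d) K).submatrix φ.1 id = 0 := by
          ext i j; simp
        rw [this, Matrix.det_zero]
      · rw [Ideal.span_le]
        intro p hp
        rw [Set.mem_singleton_iff] at hp
        rw [hp, SetLike.mem_coe, RingHom.mem_ker]
        exact hev w
    · intro p hp
      rw [RingHom.mem_ker] at hp
      have hp' : evalMinors K d n (0 : Matrix (Fin n) (Fin d) K) p = 0 := hp
      have hgen : ∀ q : PlRing K d n, q - C (evalMinors K d n (0 : Matrix (Fin n) (Fin d) K) q) ∈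
          schubertVanishing K d n w ⊔ Ideal.span {(X w : PlRing K d n)} := by
        intro q
        induction q using MvPolynomial.induction_on with
        | C c =>
          have : evalMinors K d n (0 : Matrix (Fin n) (Fin d) K) (C c) = c := by
            rw [← MvPolynomial.algebraMap_eq, AlgHom.commutes]
            rfl
          rw [this, sub_self]
          exact Ideal.zero_mem _
        | add q r hq hr =>
          rw [map_add, map_add]
          have : q + r - (C (evalMinors K d n (0 : Matrix (Fin n) (Fin d) K) q) +
              C (evalMinors K d n (0 : Matrix (Fin n) (Fin d) K) r)) =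
              (q - C (evalMinors K d n (0 : Matrix (Fin n) (Fin d) K) q)) +
              (r - C (evalMinors K d n (0 : Matrix (Fin n) (Fin d) K) r)) := by ring
          rw [this]
          exact Ideal.add_mem _ hq hr
        | mul_X q θ _ =>
          rw [map_mul, hev θ, mul_zero, map_zero, sub_zero]
          exact Ideal.mul_mem_left _ _ (hX θ)
      have := hgen p
      rwa [hp', map_zero, sub_zero] at this
  rw [heq]
  exact (RingHom.ker_isPrime _).isRadical

theorem sup_isRadical [IsAlgClosed K] (hd : 0 < d) (hdn : d < n) (w : Idx d n) :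
    (schubertVanishing K d n w ⊔ Ideal.span {(X w : PlRing K d n)}).IsRadical := by
  by_cases hmin : ∃ φ : Idx d n, φ < w
  · rw [Groth.Agent.S11254.main K d n hd hdn w hmin]
    intro p hp
    obtain ⟨m, hm⟩ := hp
    simp only [Ideal.mem_iInf] at hm ⊢
    intro φ hφ
    exact Groth.Agent.S11253.schubertVanishing_isRadical φ ⟨m, hm φ hφ⟩
  · exact sup_isRadical_of_min hd w hmin

theorem span_aw_isRadical [IsAlgClosed K] (hd : 0 < d) (hdn : d < n) (w : Idx d n) :
    (Ideal.span {aw K w}).IsRadical := by
  intro x hx
  obtain ⟨m, hm⟩ := hx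
  obtain ⟨p, rfl⟩ := Ideal.Quotient.mk_surjective x
  obtain ⟨c, hc⟩ := Ideal.mem_span_singleton'.mp hm
  obtain ⟨q, rfl⟩ := Ideal.Quotient.mk_surjective c
  unfold aw at hc
  rw [← map_mul, ← map_pow, Ideal.Quotient.eq] at hc
  have h1 : p ^ m ∈ schubertVanishing K d n w ⊔ Ideal.span {(X w : PlRing K d n)} := by
    have : p ^ m = (q * X w) - (q * X w - p ^ m) := by ring
    rw [this]
    apply Ideal.sub_mem
    · exact Ideal.mem_sup_right (Ideal.mul_mem_left _ _ (Ideal.subset_span rfl))
    · exact Ideal.mem_sup_left hc
  have h2 := sup_isRadical hd hdn w ⟨m, h1⟩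
  obtain ⟨j, hj, y, hy, rfl⟩ := Submodule.mem_sup.mp h2
  obtain ⟨r, rfl⟩ := Ideal.mem_span_singleton'.mp hy
  rw [map_add, Ideal.Quotient.eq_zero_iff_mem.mpr hj, zero_add, map_mul]
  exact Ideal.mul_mem_left _ _ (Ideal.subset_span rfl)

theorem main (K : Type u) [Field K] [IsAlgClosed K] (d n : ℕ)
    (hd : 0 < d) (hdn : d < n) (τ : Idx d n) :
    IsDomain (PlRing K d n ⧸ schubertVanishing K d n τ) ∧
      IsIntegrallyClosed (PlRing K d n ⧸ schubertVanishing K d n τ) := by
  haveI : Infinite K := IsAlgClosed.instInfinite
  haveI hdom : IsDomain (PlRing K d n ⧸ schubertVanishing K d n τ) :=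
    Function.Injective.isDomain (ψbar K τ).toRingHom (ψbar_injective hd τ)
  refine ⟨hdom, ?_⟩
  exact Groth.Agent.Lib.Helper2.NormalAway.isIntegrallyClosed_of_away (aw K τ) (aw_ne_zero τ)
    (span_aw_isRadical hd hdn τ) (isIntegrallyClosed_away hd τ)

end

open W4bk4grassmannian in
/-- Let K be an algebraically closed field, 0 < d < n, and I(d,n) the strictly increasing maps Fin d →
Fin n ordered entrywise; S = K[X_θ : θ ∈ I(d,n)] is the Plücker polynomial ring and, for τ ∈ I(d,n),
J(τ) ⊆ S is the ideal of polynomials vanishing at the d × d row-minors of every n × d matrix over K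
whose minors on rows φ ≰ τ are zero (the homogeneous ideal of the Schubert variety X(τ) ⊆ G(d,n)).
Then S/J(τ), the coordinate ring of the cone over X(τ), is a domain that is integrally closed in its
field of fractions. -/
theorem result (K : Type u) [Field K] [IsAlgClosed K] (d n : ℕ)
    (hd : 0 < d) (hdn : d < n) (τ : Idx d n) :
    IsDomain (PlRing K d n ⧸ schubertVanishing K d n τ) ∧
      IsIntegrallyClosed (PlRing K d n ⧸ schubertVanishing K d n τ) := by
  exact Groth.Agent.S11259.main K d n hd hdn τ

end Groth.Agent.S11259
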