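import Groth.Statements.S1126
import Mathlib.AlgebraicGeometry.Morphisms.FlatDescent

set_option autoImplicit false
open CategoryTheory CategoryTheory.Limits AlgebraicGeometry Opposite
universe u
open Desc

namespace Groth.Agent.S1126

theorem univHomeo_eq :
    (FlatMor.IsUnivHomeo.{u}) =
      (@UniversallyOpen ⊓ @UniversallyInjective ⊓ @Surjective : MorphismProperty Scheme.{u}) := by
  ext X Y f
  constructor
  · intro h
    refine ⟨⟨⟨?_⟩, ⟨?_⟩⟩, ⟨?_⟩⟩
    · intro X' Y' i₁ i₂ f' hf
      exact (h i₁ i₂ f' hf).isOpenMap
    · intro X' Y' i₁ i₂ f' hf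
      exact (h i₁ i₂ f' hf).injective
    · exact (h (𝟙 _) (𝟙 _) f IsPullback.of_id_snd).surjective
  · rintro ⟨⟨h1, h2⟩, h3⟩
    intro X' Y' i₁ i₂ f' hf
    have h1' : UniversallyOpen f' := MorphismProperty.of_isPullback hf.flip h1
    have h2' : UniversallyInjective f' := MorphismProperty.of_isPullback hf.flip h2
    have h3' : Surjective f' := MorphismProperty.of_isPullback hf.flip h3
    exact ⟨f'.continuous, f'.isOpenMap, f'.injective, f'.surjective⟩

/-- If the base change of a morphism along a quasi-compact flat surjective morphism to its target is a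
universal homeomorphism, then the morphism is a universal homeomorphism. (Stated for a single
quasi-compact flat surjective base change; combined with Zariski-locality on the target this gives
the fpqc-local form.) -/
theorem result :
    MorphismProperty.DescendsAlong (FlatMor.IsUnivHomeo.{u})
      (@Surjective ⊓ @Flat ⊓ @QuasiCompact : MorphismProperty Scheme.{u}) := by
  rw [univHomeo_eq]
  exact @MorphismProperty.DescendsAlong.inf _ _ _ _ _ MorphismProperty.DescendsAlong.inf _

end Groth.Agent.S1126
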