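import Groth.Statements.S11263
import Mathlib
import Groth.Agent.Lib.Helper2.SchubertCell
import Groth.Agent.S11261
import Groth.Agent.S11270
-- import your own Groth.Agent.* helpers here

set_option autoImplicit false
universe u
open W4bk4grassmannian

namespace Groth.Agent.S11263

section
open W4bk4grassmannian MvPolynomial Groth.Agent.S11251 Groth.Agent.Lib.Helper2.SMT
  Groth.Agent.Lib.Helper2.SchubertCell Groth.Agent.Lib.Helper2.SMT2

variable {K : Type u} [Field K] {d n : ℕ}

variable (K d n) in
/-- the generic matrix -/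
noncomputable def gen : Matrix (Fin n) (Fin d) (MatRing K d n) := Matrix.of fun i t => X (i, t)

theorem minor_eq (a : Fin d → Fin n) : minor K d n a = ((gen K d n).submatrix a id).det := rfl

theorem pluckerMap_coord (a : Fin d → Fin n) :
    pluckerMap K d n (coord K d n a) = ((gen K d n).submatrix a id).det := by
  unfold pluckerMap
  simp_rw [minor_eq]
  exact aeval_coord _ a

theorem rightTranslate_gen (g : Matrix.SpecialLinearGroup (Fin d) K) :
    (gen K d n).map (rightTranslate K d n g) = gen K d n * (g.1.map C) := by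
  refine Matrix.ext fun i t => ?_
  have h1 : (gen K d n * (g.1.map C) : Matrix (Fin n) (Fin d) (MatRing K d n)) i t =
      ∑ k, gen K d n i k * (g.1.map C : Matrix (Fin d) (Fin d) (MatRing K d n)) k t := Matrix.mul_apply
  rw [h1, Matrix.map_apply]
  unfold gen rightTranslate
  rw [Matrix.of_apply, MvPolynomial.aeval_X]
  rfl

theorem rightTranslate_minor (g : Matrix.SpecialLinearGroup (Fin d) K) (a : Fin d → Fin n) :
    rightTranslate K d n g (minor K d n a) = minor K d n a := by
  rw [minor_eq, AlgHom.map_det]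
  have h1 : (rightTranslate K d n g).mapMatrix ((gen K d n).submatrix a id) =
      ((gen K d n).submatrix a id) * (g.1.map C) := by
    have : (rightTranslate K d n g).mapMatrix ((gen K d n).submatrix a id) =
        ((gen K d n).map (rightTranslate K d n g)).submatrix a id := rfl
    rw [this, rightTranslate_gen]
    refine Matrix.ext fun s t => ?_
    have h1 : (gen K d n * (g.1.map C) : Matrix (Fin n) (Fin d) (MatRing K d n)) (a s) t =
        ∑ k, gen K d n (a s) k * (g.1.map C : Matrix (Fin d) (Fin d) (MatRing K d n)) k t :=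
      Matrix.mul_apply
    have h2 : ((gen K d n).submatrix a id * (g.1.map C) : Matrix (Fin d) (Fin d) (MatRing K d n)) s t =
        ∑ k, ((gen K d n).submatrix a id) s k *
          (g.1.map C : Matrix (Fin d) (Fin d) (MatRing K d n)) k t := Matrix.mul_apply
    rw [Matrix.submatrix_apply, id, h1, h2]
    rfl
  rw [h1, Matrix.det_mul]
  have h2 : (g.1.map (C : K →+* MatRing K d n)).det = 1 := by
    have := (RingHom.map_det (C : K →+* MatRing K d n) g.1).symm
    rw [RingHom.mapMatrix_apply] at this
    rw [this, g.2, map_one]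
  rw [h2, mul_one]

theorem eval_rightTranslate (a : Fin n × Fin d → K) (g : Matrix.SpecialLinearGroup (Fin d) K)
    (f : MatRing K d n) :
    MvPolynomial.eval a (rightTranslate K d n g f) =
      MvPolynomial.eval (fun p => ∑ k, a (p.1, k) * g.1 k p.2) f := by
  have : (MvPolynomial.aeval a : MatRing K d n →ₐ[K] K).comp (rightTranslate K d n g) =
      MvPolynomial.aeval (fun p : Fin n × Fin d => ∑ k, a (p.1, k) * g.1 k p.2) := by
    apply MvPolynomial.algHom_ext
    intro p
    rw [AlgHom.comp_apply]
    unfold rightTranslate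
    rw [MvPolynomial.aeval_X, MvPolynomial.aeval_X, map_sum]
    apply Finset.sum_congr rfl
    intro k _
    rw [map_mul, MvPolynomial.aeval_X, MvPolynomial.aeval_C]
    rfl
  have h2 := congrArg (fun φ => φ f) this
  simp only [AlgHom.comp_apply] at h2
  rw [← MvPolynomial.aeval_eq_eval, h2, MvPolynomial.aeval_eq_eval]

theorem invariant_of_mem (f : MatRing K d n)
    (hf : f ∈ Algebra.adjoin K (Set.range fun θ : Idx d n => minor K d n θ.1))
    (g : Matrix.SpecialLinearGroup (Fin d) K) : rightTranslate K d n g f = f := by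
  refine Algebra.adjoin_induction ?_ ?_ ?_ ?_ hf
  · rintro _ ⟨θ, rfl⟩
    exact rightTranslate_minor g θ.1
  · intro c
    exact AlgHom.commutes _ c
  · intro x y _ _ hx hy
    rw [map_add, hx, hy]
  · intro x y _ _ hx hy
    rw [map_mul, hx, hy]

open Groth.Agent.S11270

variable (K) in
/-- the top minor -/
noncomputable def p₀ (hdn : d < n) : MatRing K d n := minor K d n (iota hdn).1

variable (K) in
/-- the Cramer coordinates -/
noncomputable def cc (hdn : d < n) (i : Fin n) (t : Fin d) : MatRing K d n :=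
  ((gen K d n).submatrix (Function.update (iota hdn).1 t i) id).det

theorem cc_mem (hdn : d < n) (i : Fin n) (t : Fin d) : cc K hdn i t ∈ (pluckerMap K d n).range :=
  ⟨coord K d n (Function.update (iota hdn).1 t i), pluckerMap_coord _⟩

theorem pluckerMap_X (θ : Idx d n) : pluckerMap K d n (X θ) = minor K d n θ.1 := by
  unfold pluckerMap
  rw [MvPolynomial.aeval_X]

theorem p₀_mem (hdn : d < n) : p₀ K hdn ∈ (pluckerMap K d n).range :=
  ⟨X (iota hdn), pluckerMap_X _⟩

/-- the matrix of a point -/
def matOf (a : Fin n × Fin d → K) : Matrix (Fin n) (Fin d) K := Matrix.of fun i t => a (i, t)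

theorem eval_det_sub (a : Fin n × Fin d → K) (v : Fin d → Fin n) :
    MvPolynomial.eval a ((gen K d n).submatrix v id).det = ((matOf a).submatrix v id).det := by
  rw [RingHom.map_det]
  congr 1
  refine Matrix.ext fun s t => ?_
  simp [gen, matOf]

theorem p₀_ne_zero (hdn : d < n) : p₀ K hdn ≠ 0 := by
  intro h
  have h1 := congrArg (MvPolynomial.eval (fun p : Fin n × Fin d => if p.1.val = p.2.val then (1 : K) else 0)) h
  unfold p₀ at h1
  rw [minor_eq, eval_det_sub, map_zero] at h1
  have h2 : (matOf (fun p : Fin n × Fin d => if p.1.val = p.2.val then (1 : K) else 0)).submatrix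
      (iota hdn).1 id = 1 := by
    refine Matrix.ext fun s t => ?_
    simp only [matOf, iota, Matrix.submatrix_apply, Matrix.of_apply, id, Matrix.one_apply]
    by_cases hst : s = t
    · rw [if_pos (by rw [hst]), if_pos hst]
    · rw [if_neg (fun hc => hst (Fin.ext hc)), if_neg hst]
  rw [h2, Matrix.det_one] at h1
  exact one_ne_zero h1

variable (K) in
/-- the scaling factors -/
noncomputable def uu (hdn : d < n) (t : Fin d) : Localization.Away (p₀ K hdn) :=
  if t.val = 0 then (IsLocalization.Away.invSelf (p₀ K hdn)) ^ (d - 1) else 1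

variable (K) in
/-- the normalizing substitution -/
noncomputable def Φ (hdn : d < n) : MatRing K d n →ₐ[K] Localization.Away (p₀ K hdn) :=
  MvPolynomial.aeval fun p => algebraMap _ _ (cc K hdn p.1 p.2) * uu K hdn p.2

theorem pow_mul_uu (hdn : d < n) (t : Fin d) :
    (algebraMap (MatRing K d n) (Localization.Away (p₀ K hdn)) (p₀ K hdn)) ^ (d - 1) * uu K hdn t =
      if t.val = 0 then 1 else (algebraMap _ _ (p₀ K hdn)) ^ (d - 1) := by
  unfold uu
  split_ifs with h
  · rw [← mul_pow, IsLocalization.Away.mul_invSelf, one_pow]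
  · rw [mul_one]

theorem claimA (hdn : d < n) (f : MatRing K d n) :
    ∃ (N : ℕ) (s : MatRing K d n), s ∈ (pluckerMap K d n).range ∧
      (algebraMap _ (Localization.Away (p₀ K hdn)) (p₀ K hdn)) ^ N * Φ K hdn f = algebraMap _ _ s := by
  induction f using MvPolynomial.induction_on with
  | C c =>
    refine ⟨0, C c, Subalgebra.algebraMap_mem _ c, ?_⟩
    rw [pow_zero, one_mul, ← MvPolynomial.algebraMap_eq, AlgHom.commutes,
      ← IsScalarTower.algebraMap_apply]
  | add f g hf hg =>
    obtain ⟨N₁, s₁, hs₁, e₁⟩ := hf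
    obtain ⟨N₂, s₂, hs₂, e₂⟩ := hg
    refine ⟨N₁ + N₂, p₀ K hdn ^ N₂ * s₁ + p₀ K hdn ^ N₁ * s₂,
      Subalgebra.add_mem _ (Subalgebra.mul_mem _ (Subalgebra.pow_mem _ (p₀_mem hdn) _) hs₁)
        (Subalgebra.mul_mem _ (Subalgebra.pow_mem _ (p₀_mem hdn) _) hs₂), ?_⟩
    rw [map_add, map_add, map_mul, map_mul, map_pow, map_pow, ← e₁, ← e₂, pow_add]
    ring
  | mul_X f p hf =>
    obtain ⟨N, s, hs, e⟩ := hf
    refine ⟨N + (d - 1), s * (if p.2.val = 0 then cc K hdn p.1 p.2 else p₀ K hdn ^ (d - 1) * cc K hdn p.1 p.2),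
      Subalgebra.mul_mem _ hs ?_, ?_⟩
    · split_ifs
      · exact cc_mem hdn _ _
      · exact Subalgebra.mul_mem _ (Subalgebra.pow_mem _ (p₀_mem hdn) _) (cc_mem hdn _ _)
    · have h1 : Φ K hdn (X p) = algebraMap _ _ (cc K hdn p.1 p.2) * uu K hdn p.2 := by
        unfold Φ
        rw [MvPolynomial.aeval_X]
      rw [map_mul, h1, map_mul, ← e, pow_add]
      have h2 := pow_mul_uu (K := K) hdn p.2
      split_ifs with h
      · rw [if_pos h] at h2
        calc _ = (algebraMap _ _ (p₀ K hdn)) ^ N * Φ K hdn f * (algebraMap _ _ (cc K hdn p.1 p.2) *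
              ((algebraMap _ _ (p₀ K hdn)) ^ (d - 1) * uu K hdn p.2)) := by ring
          _ = _ := by rw [h2, mul_one]
      · rw [if_neg h] at h2
        calc _ = (algebraMap _ _ (p₀ K hdn)) ^ N * Φ K hdn f * (algebraMap _ _ (cc K hdn p.1 p.2) *
              ((algebraMap _ _ (p₀ K hdn)) ^ (d - 1) * uu K hdn p.2)) := by ring
          _ = _ := by rw [h2, map_mul, map_pow]; ring

theorem eval_p₀ (hdn : d < n) (a : Fin n × Fin d → K) :
    MvPolynomial.eval a (p₀ K hdn) = ((matOf a).submatrix (iota hdn).1 id).det := by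
  unfold p₀
  rw [minor_eq, eval_det_sub]

/-- the normalizing element of `SL_d` -/
noncomputable def gA (hd : 0 < d) (hdn : d < n) (a : Fin n × Fin d → K)
    (h : MvPolynomial.eval a (p₀ K hdn) ≠ 0) : Matrix.SpecialLinearGroup (Fin d) K :=
  ⟨((matOf a).submatrix (iota hdn).1 id).adjugate *
      Matrix.diagonal (fun t : Fin d => if t.val = 0 then ((MvPolynomial.eval a (p₀ K hdn))⁻¹) ^ (d - 1) else 1), by
    rw [Matrix.det_mul, Matrix.det_adjugate, Matrix.det_diagonal, Fintype.card_fin, ← eval_p₀]
    rw [Finset.prod_eq_single_of_mem (⟨0, hd⟩ : Fin d) (Finset.mem_univ _)]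
    · rw [if_pos rfl, ← mul_pow, mul_inv_cancel₀ h, one_pow]
    · intro t _ ht
      rw [if_neg]
      intro hc
      exact ht (Fin.ext hc)⟩

/-- evaluation on the localization -/
noncomputable def evA (hdn : d < n) (a : Fin n × Fin d → K)
    (h : MvPolynomial.eval a (p₀ K hdn) ≠ 0) : Localization.Away (p₀ K hdn) →+* K :=
  IsLocalization.Away.lift (p₀ K hdn) (g := (MvPolynomial.eval a)) (IsUnit.mk0 _ h)

theorem evA_algebraMap (hdn : d < n) (a : Fin n × Fin d → K)
    (h : MvPolynomial.eval a (p₀ K hdn) ≠ 0) (r : MatRing K d n) :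
    evA hdn a h (algebraMap _ _ r) = MvPolynomial.eval a r := by
  unfold evA
  rw [IsLocalization.Away.lift_eq]

theorem evA_invSelf (hdn : d < n) (a : Fin n × Fin d → K)
    (h : MvPolynomial.eval a (p₀ K hdn) ≠ 0) :
    evA hdn a h (IsLocalization.Away.invSelf (p₀ K hdn)) = (MvPolynomial.eval a (p₀ K hdn))⁻¹ := by
  have h1 : evA hdn a h (algebraMap _ _ (p₀ K hdn) * IsLocalization.Away.invSelf (p₀ K hdn)) = 1 := by
    rw [IsLocalization.Away.mul_invSelf, map_one]
  rw [map_mul, evA_algebraMap] at h1
  exact eq_inv_of_mul_eq_one_right h1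

theorem evA_Φ (hd : 0 < d) (hdn : d < n) (a : Fin n × Fin d → K)
    (h : MvPolynomial.eval a (p₀ K hdn) ≠ 0) (f : MatRing K d n) :
    evA hdn a h (Φ K hdn f) =
      MvPolynomial.eval (fun p => ∑ k, a (p.1, k) * (gA hd hdn a h).1 k p.2) f := by
  have : (evA hdn a h).comp (Φ K hdn).toRingHom =
      MvPolynomial.eval (fun p : Fin n × Fin d => ∑ k, a (p.1, k) * (gA hd hdn a h).1 k p.2) := by
    apply MvPolynomial.ringHom_ext
    · intro c
      rw [RingHom.comp_apply]
      show evA hdn a h (Φ K hdn (C c)) = _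
      rw [← MvPolynomial.algebraMap_eq, AlgHom.commutes,
        IsScalarTower.algebraMap_apply K (MatRing K d n) (Localization.Away (p₀ K hdn)),
        evA_algebraMap, MvPolynomial.algebraMap_eq, MvPolynomial.eval_C, MvPolynomial.eval_C]
    · intro p
      rw [RingHom.comp_apply]
      show evA hdn a h (Φ K hdn (X p)) = _
      unfold Φ
      rw [MvPolynomial.aeval_X, map_mul, evA_algebraMap, MvPolynomial.eval_X]
      unfold cc
      rw [eval_det_sub, ← mul_adjugate_apply]
      have h1 : evA hdn a h (uu K hdn p.2) =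
          if p.2.val = 0 then ((MvPolynomial.eval a (p₀ K hdn))⁻¹) ^ (d - 1) else 1 := by
        unfold uu
        split_ifs
        · rw [map_pow, evA_invSelf]
        · rw [map_one]
      rw [h1]
      have h2 : (∑ k, a (p.1, k) * (gA hd hdn a h).1 k p.2) =
          (matOf a * (gA hd hdn a h).1) p.1 p.2 := by
        rw [Matrix.mul_apply]
        rfl
      rw [h2]
      unfold gA
      simp only
      rw [← Matrix.mul_assoc, Matrix.mul_diagonal]
  have h2 := congrArg (fun φ => φ f) this
  simpa using h2

theorem pow_mul_mem (hd : 0 < d) (hdn : d < n) (f : MatRing K d n) [Infinite K]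
    (hf : ∀ g : Matrix.SpecialLinearGroup (Fin d) K, rightTranslate K d n g f = f) :
    ∃ N : ℕ, p₀ K hdn ^ N * f ∈ (pluckerMap K d n).range := by
  obtain ⟨N, s, hs, e⟩ := claimA hdn f
  refine ⟨N, ?_⟩
  have heq : p₀ K hdn ^ N * f = s := by
    have h0 : (p₀ K hdn ^ N * f - s) * p₀ K hdn = 0 := by
      apply MvPolynomial.funext
      intro a
      rw [map_mul, map_zero]
      by_cases h : MvPolynomial.eval a (p₀ K hdn) = 0
      · rw [h, mul_zero]
      · have h1 := congrArg (evA hdn a h) e
        rw [map_mul, map_pow, evA_algebraMap, evA_algebraMap, evA_Φ hd, ← eval_rightTranslate, hf] at h1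
        rw [map_sub, map_mul, map_pow, h1, sub_self, zero_mul]
    rcases mul_eq_zero.mp h0 with h | h
    · exact sub_eq_zero.mp h
    · exact absurd h (p₀_ne_zero hdn)
  rw [heq]
  exact hs

variable (K) in
/-- substitution of the two-sided generic matrix -/
noncomputable def evG2 (hdn : d < n) : MatRing K d n →ₐ[K] MatRing K d n :=
  MvPolynomial.aeval fun p => G2 K (iota' hdn) (Groth.Agent.S11261.top hdn) p.1 p.2

theorem evG2_comp (hdn : d < n) (F : PlRing K d n) :
    evG2 K hdn (pluckerMap K d n F) = ψ2 K (iota' hdn) (Groth.Agent.S11261.top hdn) F := by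
  have : (evG2 K hdn).comp (pluckerMap K d n) = ψ2 K (iota' hdn) (Groth.Agent.S11261.top hdn) := by
    apply MvPolynomial.algHom_ext
    intro θ
    rw [AlgHom.comp_apply, pluckerMap_X, minor_eq, AlgHom.map_det, ψ2_X]
    congr 1
    refine Matrix.ext fun s t => ?_
    simp [gen, evG2]
  rw [← this]
  rfl

theorem vanishing_le_ker [Infinite K] (j : PlRing K d n) (hj : j ∈ vanishing K d n) :
    pluckerMap K d n j = 0 := by
  apply MvPolynomial.funext
  intro a
  rw [map_zero]
  have : (MvPolynomial.aeval a : MatRing K d n →ₐ[K] K).comp (pluckerMap K d n) =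
      evalMinors K d n (matOf a) := by
    apply MvPolynomial.algHom_ext
    intro θ
    rw [AlgHom.comp_apply, pluckerMap_X, minor_eq]
    unfold evalMinors
    rw [MvPolynomial.aeval_X, MvPolynomial.aeval_eq_eval, eval_det_sub]
  have h2 := congrArg (fun φ => φ j) this
  simp only [AlgHom.comp_apply] at h2
  rw [← MvPolynomial.aeval_eq_eval, h2]
  unfold vanishing at hj
  rw [Ideal.mem_iInf] at hj
  exact hj (matOf a)

theorem sat [Infinite K] (hd : 0 < d) (hdn : d < n) (N : ℕ) :
    ∀ h : MatRing K d n, p₀ K hdn ^ N * h ∈ (pluckerMap K d n).range →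
      h ∈ (pluckerMap K d n).range := by
  induction N with
  | zero =>
    intro h hm
    rwa [pow_zero, one_mul] at hm
  | succ N ih =>
    intro h hm
    apply ih
    obtain ⟨F, hF⟩ := hm
    have hF' : pluckerMap K d n F = p₀ K hdn * (p₀ K hdn ^ N * h) := by
      rw [show (pluckerMap K d n).toRingHom F = pluckerMap K d n F from rfl] at hF
      rw [hF, pow_succ]; ring
    have h1 : ψ2 K (iota' hdn) (Groth.Agent.S11261.top hdn) F = 0 := by
      rw [← evG2_comp, hF', map_mul]
      have : evG2 K hdn (p₀ K hdn) = 0 := by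
        unfold p₀
        rw [← pluckerMap_X, evG2_comp, ψ2_X_eq_zero' _ _ _ (not_iota'_le_iota hd hdn)]
      rw [this, zero_mul]
    have h2 : F ∈ RingHom.ker (ψ2 K (iota' hdn) (Groth.Agent.S11261.top hdn)).toRingHom := h1
    rw [ker_eq hd hdn] at h2
    obtain ⟨j, hj, y, hy, rfl⟩ := Submodule.mem_sup.mp h2
    obtain ⟨r, rfl⟩ := Ideal.mem_span_singleton'.mp hy
    have hj' : j ∈ vanishing K d n := by
      rw [← Groth.Agent.S11261.sv_top hdn]
      exact hj
    rw [map_add, vanishing_le_ker j hj', zero_add, map_mul, pluckerMap_X] at hF'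
    refine ⟨r, ?_⟩
    have h3 : p₀ K hdn * pluckerMap K d n r = p₀ K hdn * (p₀ K hdn ^ N * h) := by
      rw [← hF']
      unfold p₀
      ring
    exact mul_left_cancel₀ (p₀_ne_zero hdn) h3

theorem main (K : Type u) [Field K] [IsAlgClosed K] (d n : ℕ)
    (hd : 0 < d) (hdn : d < n) (f : MatRing K d n) :
    (∀ g : Matrix.SpecialLinearGroup (Fin d) K, rightTranslate K d n g f = f) ↔
      f ∈ Algebra.adjoin K (Set.range fun θ : Idx d n => minor K d n θ.1) := by
  haveI : Infinite K := IsAlgClosed.instInfinite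
  constructor
  · intro hf
    obtain ⟨N, hN⟩ := pow_mul_mem hd hdn f hf
    have := sat hd hdn N f hN
    rw [Algebra.adjoin_range_eq_range_aeval]
    exact this
  · intro hf g
    exact invariant_of_mem f hf g

end

open W4bk4grassmannian in
/-- First Fundamental Theorem of invariant theory for the special linear group acting on matrices by
right multiplication: let K be an algebraically closed field, 0 < d < n, and R = K[x_{ij}] the
coordinate ring of n × d matrices, on which g ∈ SL_d(K) acts by (g • f)(A) = f(A g). Then f ∈ R is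
fixed by every g ∈ SL_d(K) if and only if f belongs to the K-subalgebra of R generated by the d × d
minors on the rows θ ∈ I(d,n). -/
theorem result (K : Type u) [Field K] [IsAlgClosed K] (d n : ℕ)
    (hd : 0 < d) (hdn : d < n) (f : MatRing K d n) :
    (∀ g : Matrix.SpecialLinearGroup (Fin d) K, rightTranslate K d n g f = f) ↔
      f ∈ Algebra.adjoin K (Set.range fun θ : Idx d n => minor K d n θ.1) := by
  exact Groth.Agent.S11263.main K d n hd hdn f

end Groth.Agent.S11263
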