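import Groth.Statements.S11264
import Mathlib
import Groth.Agent.S11258
import Groth.Agent.S11267
import Groth.Agent.S11266
import Groth.Agent.S10870
-- import your own Groth.Agent.* helpers here

set_option autoImplicit false
universe u
open W4bk4grassmannian

namespace Groth.Agent.S11264

section
open W4bk4grassmannian MvPolynomial Groth.Agent.S11267

variable (K : Type u) [Field K] (d r : ℕ)

/-- homogenization of a Plücker polynomial modulo `X_ι - 1` -/
theorem exists_homog' (hr : 0 < r) (p : PlRing K d (d + r)) :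
    ∃ (e : ℕ) (P : PlRing K d (d + r)),
      Ideal.Quotient.mk (Ideal.span {(X (Groth.Agent.S11270.iota (by omega : d < d + r)) - 1 :
        PlRing K d (d + r))}) P =
      Ideal.Quotient.mk (Ideal.span {(X (Groth.Agent.S11270.iota (by omega : d < d + r)) - 1 :
        PlRing K d (d + r))}) p ∧
      ∀ (M : Matrix (Fin (d + r)) (Fin d) K) (g : Matrix (Fin d) (Fin d) K),
        evalMinors K d (d + r) (M * g) P = g.det ^ e * evalMinors K d (d + r) M P := by
  have hι : Ideal.Quotient.mk (Ideal.span {(X (Groth.Agent.S11270.iota (by omega : d < d + r)) - 1 :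
        PlRing K d (d + r))}) (X (Groth.Agent.S11270.iota (by omega : d < d + r))) = 1 := by
    rw [← sub_eq_zero, ← map_one (Ideal.Quotient.mk _), ← map_sub, Ideal.Quotient.eq_zero_iff_mem]
    exact Ideal.mem_span_singleton_self _
  induction p using MvPolynomial.induction_on with
  | C c =>
    refine ⟨0, C c, rfl, ?_⟩
    intro M g
    rw [← MvPolynomial.algebraMap_eq, AlgHom.commutes, AlgHom.commutes, pow_zero, one_mul]
  | add p₁ p₂ h₁ h₂ =>
    obtain ⟨e₁, P₁, hP₁, hs₁⟩ := h₁
    obtain ⟨e₂, P₂, hP₂, hs₂⟩ := h₂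
    refine ⟨e₁ + e₂, X (Groth.Agent.S11270.iota (by omega : d < d + r)) ^ e₂ * P₁ +
      X (Groth.Agent.S11270.iota (by omega : d < d + r)) ^ e₁ * P₂, ?_, ?_⟩
    · rw [map_add, map_mul, map_mul, map_pow, map_pow, hι, hP₁, hP₂, map_add]
      simp
    · intro M g
      rw [map_add, map_mul, map_mul, map_pow, map_pow, evalMinors_mul_X, hs₁, hs₂,
        map_add, map_mul, map_mul, map_pow, map_pow]
      ring
  | mul_X p θ h =>
    obtain ⟨e, P, hP, hs⟩ := h
    refine ⟨e + 1, P * X θ, ?_, ?_⟩
    · rw [map_mul, hP, map_mul]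
    · intro M g
      rw [map_mul, hs, evalMinors_mul_X, map_mul]
      ring

/-- a homogeneous Plücker polynomial whose dehomogenization lies in the determinantal ideal vanishes
on the Schubert variety -/
theorem mem_of_homog [IsAlgClosed K] (t : ℕ) (hd : 0 < d) (hr : 0 < r) (ht : 0 < t) (htd : t ≤ d)
    (htr : t ≤ r) (e : ℕ) (P : PlRing K d (d + r))
    (hs : ∀ (M : Matrix (Fin (d + r)) (Fin d) K) (g : Matrix (Fin d) (Fin d) K),
        evalMinors K d (d + r) (M * g) P = g.det ^ e * evalMinors K d (d + r) M P)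
    (hF : δ K d r P ∈ CAlgX.minorIdeal (genMatrix K r d) t) :
    P ∈ schubertVanishing K d (d + r) (wIdx d r t ht htd htr) := by
  classical
  haveI : Infinite K := IsAlgClosed.instInfinite
  set w := wIdx d r t ht htd htr with hw
  set ι₀ := Groth.Agent.S11270.iota (by omega : d < d + r) with hι₀
  have hmem : X ι₀ * P ∈ schubertVanishing K d (d + r) w := by
    unfold schubertVanishing
    rw [Ideal.mem_iInf]
    intro M
    rw [Ideal.mem_iInf]
    intro hM
    rw [RingHom.mem_ker]
    show evalMinors K d (d + r) M (X ι₀ * P) = 0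
    rw [map_mul]
    set A : Matrix (Fin d) (Fin d) K := M.submatrix ι₀.1 id with hA
    have hXi : evalMinors K d (d + r) M (X ι₀) = A.det := by
      unfold evalMinors
      rw [aeval_X]
    by_cases hdet : A.det = 0
    · rw [hXi, hdet, zero_mul]
    · have hunit : IsUnit A.det := isUnit_iff_ne_zero.mpr hdet
      have hAinv : A * A⁻¹ = 1 := Matrix.mul_nonsing_inv A hunit
      have hs' := hs M A⁻¹
      have hdinv : (A⁻¹).det ≠ 0 := by
        intro h0
        have := congrArg Matrix.det hAinv
        rw [Matrix.det_mul, h0, mul_zero, Matrix.det_one] at this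
        exact zero_ne_one this
      suffices h : evalMinors K d (d + r) (M * A⁻¹) P = 0 by
        rw [hs'] at h
        rcases mul_eq_zero.mp h with h | h
        · exact absurd h (pow_ne_zero e hdinv)
        · rw [h, mul_zero]
      have htop : ∀ c j, (M * A⁻¹) (Fin.castAdd r c) j = (1 : Matrix (Fin d) (Fin d) K) c j := by
        intro c j
        have : (M * A⁻¹) (Fin.castAdd r c) j = (A * A⁻¹) c j := by
          rw [Matrix.mul_apply, Matrix.mul_apply]
          rfl
        rw [this, hAinv]
      rw [evalMinors_cell K d r _ htop]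
      have hker : CAlgX.minorIdeal (genMatrix K r d) t ≤
          RingHom.ker (MvPolynomial.eval
            (fun p : Fin r × Fin d => (M * A⁻¹) (Fin.natAdd d p.1) p.2)) := by
        rw [← Groth.Agent.S11275.main K d r t hd ht htd htr, Ideal.span_le]
        rintro _ ⟨θ, hθ, rfl⟩
        rw [SetLike.mem_coe, RingHom.mem_ker, ← δ_X, ← evalMinors_cell K d r _ htop,
          evalMinors_mul_X]
        have : evalMinors K d (d + r) M (X θ) = 0 := by
          unfold evalMinors
          rw [aeval_X]
          apply hM θ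
          rw [hw, le_wIdx_iff d r t hd ht htd htr]
          omega
        rw [this, mul_zero]
      exact hker hF
  have hprime : (schubertVanishing K d (d + r) w).IsPrime := Groth.Agent.S11260.sv_isPrime hd w
  rcases hprime.mem_or_mem hmem with h | h
  · exfalso
    have hle : ι₀ ≤ w := Groth.Agent.S11270.iota_le (by omega : d < d + r) w
    exact Groth.Agent.S11260.X_not_mem ι₀ (Groth.Agent.S11253.schubertVanishing_anti hle h)
  · exact h

theorem δ_surjective (hr : 0 < r) : Function.Surjective (δ K d r) := by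
  have h : (δ K d r).range = ⊤ := by
    rw [eq_top_iff, ← MvPolynomial.adjoin_range_X]
    apply Algebra.adjoin_le
    rintro _ ⟨⟨x, j⟩, rfl⟩
    exact ⟨_, δ_coord_update K d r hr x j⟩
  intro F
  have : F ∈ (δ K d r).range := by rw [h]; trivial
  exact this

theorem δ_iota_sub_one (hr : 0 < r) :
    δ K d r (X (Groth.Agent.S11270.iota (by omega : d < d + r)) - 1) = 0 := by
  rw [map_sub, δ_X, cellMinor_iota K d r hr, map_one, sub_self]

theorem ker_eq [IsAlgClosed K] (t : ℕ) (hd : 0 < d) (hr : 0 < r) (ht : 0 < t) (htd : t ≤ d)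
    (htr : t ≤ r) :
    RingHom.ker ((Ideal.Quotient.mk (CAlgX.minorIdeal (genMatrix K r d) t)).comp
        (δ K d r).toRingHom) =
      schubertVanishing K d (d + r) (wIdx d r t ht htd htr) ⊔
        Ideal.span {(X (Groth.Agent.S11270.iota (by omega : d < d + r)) - 1 : PlRing K d (d + r))} := by
  haveI : Infinite K := IsAlgClosed.instInfinite
  have hspan : Ideal.span {(X (Groth.Agent.S11270.iota (by omega : d < d + r)) - 1 :
      PlRing K d (d + r))} ≤ RingHom.ker (δ K d r).toRingHom := by
    rw [Ideal.span_le]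
    intro f hf
    rw [Set.mem_singleton_iff] at hf
    subst hf
    rw [SetLike.mem_coe, RingHom.mem_ker]
    exact δ_iota_sub_one K d r hr
  apply le_antisymm
  · intro p hp
    rw [RingHom.mem_ker, RingHom.comp_apply, Ideal.Quotient.eq_zero_iff_mem] at hp
    obtain ⟨e, P, hP, hs⟩ := exists_homog' K d r hr p
    have hPp := Ideal.Quotient.eq.mp hP
    have hδ : δ K d r P = δ K d r p := by
      have h1 := hspan hPp
      rw [RingHom.mem_ker] at h1
      have h2 : δ K d r (P - p) = 0 := h1
      rw [map_sub, sub_eq_zero] at h2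
      exact h2
    have hPJ := mem_of_homog K d r t hd hr ht htd htr e P hs (by rw [hδ]; exact hp)
    have e1 : p = P - (P - p) := by ring
    rw [e1]
    exact Ideal.sub_mem _ (Ideal.mem_sup_left hPJ) (Ideal.mem_sup_right hPp)
  · apply sup_le
    · intro p hp
      rw [RingHom.mem_ker, RingHom.comp_apply, Ideal.Quotient.eq_zero_iff_mem]
      rw [← Groth.Agent.S11250.main K d (d + r) hd (by omega) (wIdx d r t ht htd htr)] at hp
      exact δ_plIdeal K d r t hd ht htd htr (Ideal.mem_map_of_mem _ hp)
    · intro p hp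
      have h1 := hspan hp
      rw [RingHom.mem_ker] at h1 ⊢
      rw [RingHom.comp_apply, h1, map_zero]

theorem iota_sub_one_not_mem [IsAlgClosed K] (hd : 0 < d) (hr : 0 < r) (w : Idx d (d + r)) :
    (X (Groth.Agent.S11270.iota (by omega : d < d + r)) - 1 : PlRing K d (d + r)) ∉
      schubertVanishing K d (d + r) w := by
  intro h
  unfold schubertVanishing at h
  rw [Ideal.mem_iInf] at h
  have h1 := h 0
  rw [Ideal.mem_iInf] at h1
  have hdet : ∀ φ : Idx d (d + r), ((0 : Matrix (Fin (d + r)) (Fin d) K).submatrix φ.1 id).det = 0 := by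
    intro φ
    haveI : Nonempty (Fin d) := ⟨⟨0, hd⟩⟩
    have : (0 : Matrix (Fin (d + r)) (Fin d) K).submatrix φ.1 id = 0 := by
      ext i j; simp
    rw [this, Matrix.det_zero]
  have h2 := h1 (fun φ _ => hdet φ)
  rw [RingHom.mem_ker] at h2
  have h3 : evalMinors K d (d + r) 0 (X (Groth.Agent.S11270.iota (by omega : d < d + r)) - 1) = 0 := h2
  rw [map_sub, map_one] at h3
  unfold evalMinors at h3
  rw [aeval_X, hdet] at h3
  simp at h3

theorem cm_determinantal [IsAlgClosed K] (t : ℕ) (hd : 0 < d) (hr : 0 < r) (ht : 0 < t)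
    (htd : t ≤ d) (htr : t ≤ r) :
    LocCoh.IsCohenMacaulayRing (CellRing K d r ⧸ CAlgX.minorIdeal (genMatrix K r d) t) := by
  haveI : Infinite K := IsAlgClosed.instInfinite
  set w := wIdx d r t ht htd htr with hw
  set ι₀ := Groth.Agent.S11270.iota (by omega : d < d + r) with hι₀
  have hcm := Groth.Agent.S11258.main K d (d + r) hd (by omega) w
  haveI hdom : IsDomain (PlRing K d (d + r) ⧸ schubertVanishing K d (d + r) w) :=
    Groth.Agent.Lib.Helper2.SchubertCell.isDomain_A hd w
  set b := Ideal.Quotient.mk (schubertVanishing K d (d + r) w) (X ι₀ - 1) with hb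
  have hb0 : b ≠ 0 := by
    rw [hb, Ne, Ideal.Quotient.eq_zero_iff_mem]
    exact iota_sub_one_not_mem K d r hd hr w
  have hnzd : b ∈ nonZeroDivisors (PlRing K d (d + r) ⧸ schubertVanishing K d (d + r) w) :=
    mem_nonZeroDivisors_of_ne_zero hb0
  have hcm' := Groth.Agent.Helper20.RE.isCohenMacaulayRing_quotient b hnzd hcm
  have hspan : Ideal.span {b} = (Ideal.span {(X ι₀ - 1 : PlRing K d (d + r))}).map
      (Ideal.Quotient.mk (schubertVanishing K d (d + r) w)) := by
    rw [Ideal.map_span, Set.image_singleton]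
  have hsurj : Function.Surjective ((Ideal.Quotient.mk (CAlgX.minorIdeal (genMatrix K r d) t)).comp
      (δ K d r).toRingHom) :=
    Ideal.Quotient.mk_surjective.comp (δ_surjective K d r hr)
  have e1 := (Ideal.quotEquivOfEq hspan).trans (DoubleQuot.quotQuotEquivQuotSup _ _)
  have e2 := Ideal.quotEquivOfEq (ker_eq K d r t hd hr ht htd htr).symm
  have e3 := RingHom.quotientKerEquivOfSurjective hsurj
  exact Groth.Agent.Lib.Helper2.CMGlue.cm_of_ringEquiv ((e1.trans e2).trans e3) hcm'

/-- the ring of invariants `K[UW]` is integrally closed -/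
theorem range_isIntegrallyClosed [IsAlgClosed K] (m n q : ℕ) :
    IsIntegrallyClosed (pairingMap K n m q).toRingHom.range := by
  set C := (pairingMap K n m q).toRingHom.range with hC
  set g : C →+* FractionRing (PairRing K n m q) :=
    (algebraMap (PairRing K n m q) (FractionRing (PairRing K n m q))).comp C.subtype with hg
  have hginj : Function.Injective g := by
    intro a b hab
    apply Subtype.ext
    exact IsFractionRing.injective (PairRing K n m q) (FractionRing (PairRing K n m q)) hab
  rw [isIntegrallyClosed_iff (FractionRing C)]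
  intro x hx
  obtain ⟨a, b, hb, rfl⟩ := IsFractionRing.div_surjective (A := C) x
  have hb0 : b ≠ 0 := nonZeroDivisors.ne_zero hb
  -- integrality in the big fraction field
  have hint : IsIntegral (PairRing K n m q)
      (IsFractionRing.lift hginj (algebraMap C (FractionRing C) a / algebraMap C (FractionRing C) b)) := by
    apply IsIntegral.map_of_comp_eq C.subtype (IsFractionRing.lift hginj) _ hx
    ext c
    rw [RingHom.comp_apply, RingHom.comp_apply, IsFractionRing.lift_algebraMap]
    rfl
  obtain ⟨y, hy⟩ := (isIntegrallyClosed_iff (FractionRing (PairRing K n m q))).mp inferInstance hint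
  rw [map_div₀, IsFractionRing.lift_algebraMap, IsFractionRing.lift_algebraMap] at hy
  have hgb : g b ≠ 0 := by
    intro h
    exact hb0 (hginj (by rw [h, map_zero]))
  have hya : y * (b : PairRing K n m q) = (a : PairRing K n m q) := by
    apply IsFractionRing.injective (PairRing K n m q) (FractionRing (PairRing K n m q))
    rw [map_mul, hy]
    have : g b = algebraMap (PairRing K n m q) (FractionRing (PairRing K n m q)) (b : PairRing K n m q) := rfl
    rw [← this, div_mul_cancel₀ _ hgb]
    rfl
  -- invariance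
  have hinv : ∀ c : C, ∀ A : GL (Fin n) K, glTranslate K n m q A (c : PairRing K n m q) = c := by
    intro c A
    apply (Groth.Agent.S11266.main K m n q (c : PairRing K n m q)).mpr
    obtain ⟨z, hz⟩ := c.2
    exact ⟨z, hz⟩
  have hyinv : ∀ A : GL (Fin n) K, glTranslate K n m q A y = y := by
    intro A
    have h1 := hinv a A
    rw [← hya, map_mul, hinv b A] at h1
    have hb0' : (b : PairRing K n m q) ≠ 0 := fun h => hb0 (Subtype.ext h)
    exact mul_right_cancel₀ hb0' h1
  have hyC : y ∈ C := by
    obtain ⟨z, hz⟩ := (Groth.Agent.S11266.main K m n q y).mp hyinv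
    exact ⟨z, hz⟩
  refine ⟨⟨y, hyC⟩, ?_⟩
  have hab : (⟨y, hyC⟩ : C) * b = a := Subtype.ext hya
  rw [← hab, map_mul]
  have hb' : algebraMap C (FractionRing C) b ≠ 0 := by
    intro h
    exact hb0 (IsFractionRing.injective C (FractionRing C) (by rw [h, map_zero]))
  rw [mul_div_cancel_right₀ _ hb']

theorem main (K : Type u) [Field K] [IsAlgClosed K] (m n t : ℕ)
    (hm : 0 < m) (hn : 0 < n) (ht : 1 ≤ t) (htm : t ≤ m) (htn : t ≤ n) :
    IsDomain (MvPolynomial (Fin m × Fin n) K ⧸ CAlgX.minorIdeal (genMatrix K m n) t) ∧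
      IsIntegrallyClosed (MvPolynomial (Fin m × Fin n) K ⧸ CAlgX.minorIdeal (genMatrix K m n) t) ∧
      LocCoh.IsCohenMacaulayRing (MvPolynomial (Fin m × Fin n) K ⧸ CAlgX.minorIdeal (genMatrix K m n) t) ∧
      ringKrullDim (MvPolynomial (Fin m × Fin n) K ⧸ CAlgX.minorIdeal (genMatrix K m n) t) =
        (((t - 1) * (m + n - t + 1) : ℕ) : WithBot ℕ∞) := by
  have hker : RingHom.ker (pairingMap K (t - 1) m n).toRingHom =
      CAlgX.minorIdeal (genMatrix K m n) t := by
    rw [Groth.Agent.S11267.main K m (t - 1) n, Nat.sub_add_cancel ht]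
  have e := (Ideal.quotEquivOfEq hker.symm).trans
    (RingHom.quotientKerEquivRange (pairingMap K (t - 1) m n).toRingHom)
  haveI := range_isIntegrallyClosed K m (t - 1) n
  refine ⟨e.toMulEquiv.isDomain, IsIntegrallyClosed.of_equiv e.symm,
    cm_determinantal K n m t hn hm ht htn htm, ?_⟩
  have h := Groth.Agent.S10870.main K m n (t - 1) (by
    rw [le_min_iff]; omega)
  rw [Nat.sub_add_cancel ht] at h
  have e1 : (t - 1) * (n + m - (t - 1)) = (t - 1) * (m + n - t + 1) := by
    congr 1
    omega
  rw [← e1]
  exact h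

end

open W4bk4grassmannian in
/-- Determinantal varieties are normal Cohen–Macaulay and integral, with their dimension: let K be an
algebraically closed field, m, n ≥ 1, 1 ≤ t ≤ min(m, n), R = K[x_{ij}] the coordinate ring of m × n
matrices and I_t ⊆ R the ideal generated by the t × t minors of the generic matrix. Then R/I_t is an
integral domain, integrally closed, Cohen–Macaulay, and of Krull dimension (t - 1)(m + n - t + 1). -/
theorem result (K : Type u) [Field K] [IsAlgClosed K] (m n t : ℕ)
    (hm : 0 < m) (hn : 0 < n) (ht : 1 ≤ t) (htm : t ≤ m) (htn : t ≤ n) :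
    IsDomain (MvPolynomial (Fin m × Fin n) K ⧸ CAlgX.minorIdeal (genMatrix K m n) t) ∧
      IsIntegrallyClosed (MvPolynomial (Fin m × Fin n) K ⧸ CAlgX.minorIdeal (genMatrix K m n) t) ∧
      LocCoh.IsCohenMacaulayRing (MvPolynomial (Fin m × Fin n) K ⧸ CAlgX.minorIdeal (genMatrix K m n) t) ∧
      ringKrullDim (MvPolynomial (Fin m × Fin n) K ⧸ CAlgX.minorIdeal (genMatrix K m n) t) =
        (((t - 1) * (m + n - t + 1) : ℕ) : WithBot ℕ∞) := by
  exact Groth.Agent.S11264.main K m n t hm hn ht htm htn

end Groth.Agent.S11264
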