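import Groth.Statements.S11268
-- import your own Groth.Agent.* helpers here

set_option autoImplicit false
open W4bk4grassmannian

namespace Groth.Agent.S11268

theorem val_le_apply {d n : ℕ} (a : Fin d → Fin n) (ha : StrictMono a) :
    ∀ (k : ℕ) (hk : k < d), k ≤ (a ⟨k, hk⟩).val := by
  intro k
  induction k with
  | zero => intro _; exact Nat.zero_le _
  | succ k ih =>
    intro hk
    have h1 := ih (Nat.lt_of_succ_lt hk)
    have h2 : a ⟨k, Nat.lt_of_succ_lt hk⟩ < a ⟨k + 1, hk⟩ := ha (by simp [Fin.lt_def])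
    have h3 : (a ⟨k, Nat.lt_of_succ_lt hk⟩).val < (a ⟨k + 1, hk⟩).val := h2
    omega

open W4bk4grassmannian in
/-- Let τ < w in I(d,n), the strictly increasing maps Fin d → Fin n ordered entrywise. Then there is a
Schubert divisor φ of w, i.e. φ < w with Σ_t (φ_t - t) + 1 = Σ_t (w_t - t), such that τ ≤ φ: every
proper Schubert subvariety of X(w) lies in a Schubert divisor of X(w). -/
theorem result (d n : ℕ) (τ w : Idx d n) (h : τ < w) :
    ∃ φ ∈ divisors w, τ ≤ φ := by
  classical
  obtain ⟨hle, hnle⟩ := h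
  have hle' : ∀ t, τ.1 t ≤ w.1 t := hle
  have hex : ∃ t : Fin d, τ.1 t < w.1 t := by
    by_contra hcon
    push Not at hcon
    exact hnle (fun t => hcon t)
  -- minimal such t
  have hex' : ∃ k : ℕ, ∃ hk : k < d, τ.1 ⟨k, hk⟩ < w.1 ⟨k, hk⟩ := by
    obtain ⟨t, ht⟩ := hex
    exact ⟨t.val, t.isLt, ht⟩
  let k := Nat.find hex'
  obtain ⟨hk, hkt⟩ := Nat.find_spec hex'
  have hmin : ∀ s : Fin d, s.val < k → τ.1 s = w.1 s := by
    intro s hs
    have := Nat.find_min hex' hs
    have h2 : ¬ τ.1 s < w.1 s := fun h3 => this ⟨s.isLt, h3⟩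
    exact le_antisymm (hle' s) (not_lt.mp h2)
  set t : Fin d := ⟨k, hk⟩ with ht
  have hwt_pos : 0 < (w.1 t).val := lt_of_le_of_lt (Nat.zero_le _) hkt
  have htau_t : k ≤ (τ.1 t).val := val_le_apply τ.1 τ.2 k hk
  have hwt_gt : k < (w.1 t).val := lt_of_le_of_lt htau_t hkt
  let v : Fin n := ⟨(w.1 t).val - 1, lt_of_le_of_lt (Nat.sub_le _ _) (w.1 t).isLt⟩
  let φf : Fin d → Fin n := Function.update w.1 t v
  have hφt : φf t = v := Function.update_self _ _ _
  have hφne : ∀ s, s ≠ t → φf s = w.1 s := fun s hs => Function.update_of_ne hs _ _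
  have hmono : StrictMono φf := by
    intro i j hij
    by_cases hi : i = t
    · have hj : j ≠ t := by rintro rfl; exact absurd hij (by rw [hi]; exact lt_irrefl _)
      rw [hi, hφt, hφne j hj]
      have : w.1 t < w.1 j := w.2 (by rw [← hi]; exact hij)
      show (w.1 t).val - 1 < (w.1 j).val
      have h2 : (w.1 t).val < (w.1 j).val := this
      omega
    · by_cases hj : j = t
      · rw [hj, hφt, hφne i hi]
        have hit : i < t := by rw [← hj]; exact hij
        have h1 : τ.1 i = w.1 i := hmin i hit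
        have h2 : τ.1 i < τ.1 t := τ.2 hit
        rw [← h1]
        show (τ.1 i).val < (w.1 t).val - 1
        have h3 : (τ.1 i).val < (τ.1 t).val := h2
        have h4 : (τ.1 t).val < (w.1 t).val := hkt
        omega
      · rw [hφne i hi, hφne j hj]
        exact w.2 hij
  let φ : Idx d n := ⟨φf, hmono⟩
  have hφle : φ ≤ w := by
    intro s
    by_cases hs : s = t
    · show φf s ≤ w.1 s
      rw [hs, hφt]
      show (w.1 t).val - 1 ≤ (w.1 t).val
      omega
    · show φf s ≤ w.1 s
      rw [hφne s hs]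
  have hφlt : φ < w := by
    refine lt_of_le_of_ne hφle ?_
    intro heq
    have : φf t = w.1 t := by rw [← heq]
    rw [hφt] at this
    have h2 : (w.1 t).val - 1 = (w.1 t).val := congrArg Fin.val this
    omega
  refine ⟨φ, ⟨hφlt, ?_⟩, ?_⟩
  · show codeg φ + 1 = codeg w
    unfold codeg
    rw [← Finset.add_sum_erase _ _ (Finset.mem_univ t), ← Finset.add_sum_erase _ _ (Finset.mem_univ t)]
    have h1 : ∑ x ∈ Finset.univ.erase t, ((φ.1 x).val - x.val) = ∑ x ∈ Finset.univ.erase t, ((w.1 x).val - x.val) := by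
      apply Finset.sum_congr rfl
      intro x hx
      have : x ≠ t := Finset.ne_of_mem_erase hx
      show (φf x).val - x.val = _
      rw [hφne x this]
    rw [h1]
    have h2 : (φ.1 t).val = (w.1 t).val - 1 := by
      show (φf t).val = _
      rw [hφt]
    rw [h2]
    have h3 : t.val = k := rfl
    omega
  · intro s
    by_cases hs : s = t
    · show τ.1 s ≤ φf s
      rw [hs, hφt]
      show (τ.1 t).val ≤ (w.1 t).val - 1
      have h4 : (τ.1 t).val < (w.1 t).val := hkt
      omega
    · show τ.1 s ≤ φf s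
      rw [hφne s hs]
      exact hle' s

end Groth.Agent.S11268
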