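import Groth.Statements.S11271
import Mathlib.LinearAlgebra.Matrix.SchurComplement
import Mathlib.LinearAlgebra.Matrix.ToLin
import Mathlib.FieldTheory.IsAlgClosed.Basic

set_option autoImplicit false
universe u
open W4bk4grassmannian

namespace Groth.Agent.S11271

open W4bk4grassmannian in
/-- Semistable matrices are the matrices of full rank: let K be an algebraically closed field, 0 < d <
n, and let SL_d(K) act on n × d matrices by right multiplication; a matrix A is semistable when the
zero matrix is not in the Zariski closure of its orbit, i.e. when some polynomial in the entries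
vanishes at A g for every g ∈ SL_d(K) but not at 0. Then A is semistable if and only if its columns
are linearly independent. -/
theorem result (K : Type u) [Field K]
    [IsAlgClosed K] (d n : ℕ) (hd : 0 < d) (hdn : d < n) (A : Matrix (Fin n) (Fin d) K) :
    LinearIndependent K A.transpose ↔
      ∃ f : MatRing K d n, (∀ g : Matrix.SpecialLinearGroup (Fin d) K,
        MvPolynomial.eval (fun p : Fin n × Fin d => (A * (g : Matrix (Fin d) (Fin d) K)) p.1 p.2) f = 0) ∧
        MvPolynomial.eval (fun _ : Fin n × Fin d => (0 : K)) f ≠ 0 := by
  classical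
  haveI : Nonempty (Fin d) := Fin.pos_iff_nonempty.1 hd
  constructor
  · intro hli
    have hinj : Function.Injective A.mulVec := Matrix.mulVec_injective_iff.2 hli
    have hker : LinearMap.ker A.mulVecLin = ⊥ := LinearMap.ker_eq_bot.2 hinj
    obtain ⟨gl, hgl⟩ := LinearMap.exists_leftInverse_of_injective A.mulVecLin hker
    let B : Matrix (Fin d) (Fin n) K := LinearMap.toMatrix' gl
    have hBA : B * A = 1 := by
      apply Matrix.toLin'.injective
      rw [Matrix.toLin'_mul, Matrix.toLin'_toMatrix', Matrix.toLin'_one]
      exact hgl
    let G : Matrix (Fin n) (Fin d) (MvPolynomial (Fin n × Fin d) K) :=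
      Matrix.of fun i j => (MvPolynomial.X (i, j) : MvPolynomial (Fin n × Fin d) K)
    let f : MvPolynomial (Fin n × Fin d) K := Matrix.det (B.map MvPolynomial.C * G) - 1
    have hev : ∀ ρ : Fin n × Fin d → K, MvPolynomial.eval ρ f =
        Matrix.det (B * Matrix.of fun i j => ρ (i, j)) - 1 := by
      intro ρ
      simp only [f, map_sub, map_one]
      rw [RingHom.map_det, RingHom.mapMatrix_apply, Matrix.map_mul]
      congr 3
      · ext i j
        simp
      · ext i j
        simp [G]
    refine ⟨f, fun g => ?_, ?_⟩
    · rw [hev]
      have h2 : (Matrix.of fun i j => (A * (g : Matrix (Fin d) (Fin d) K)) i j) =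
          A * (g : Matrix (Fin d) (Fin d) K) := rfl
      rw [h2, ← Matrix.mul_assoc, hBA, Matrix.one_mul, g.det_coe, sub_self]
    · rw [hev]
      have h2 : (Matrix.of fun (i : Fin n) (j : Fin d) => (0 : K)) = 0 := rfl
      rw [h2, Matrix.mul_zero, Matrix.det_zero, zero_sub]
      exact neg_ne_zero.2 one_ne_zero
  · rintro ⟨f, hf, hf0⟩
    by_contra hli
    have hninj : ¬ Function.Injective A.mulVec := fun h => hli (Matrix.mulVec_injective_iff.1 h)
    have hex : ∃ v : Fin d → K, v ≠ 0 ∧ A.mulVec v = 0 := by
      by_contra hcon
      push Not at hcon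
      apply hninj
      have : Function.Injective A.mulVecLin := by
        rw [injective_iff_map_eq_zero]
        intro v hv
        by_contra hv0
        exact hcon v hv0 hv
      exact this
    obtain ⟨v, hv0, hAv⟩ := hex
    obtain ⟨j0, hj0⟩ : ∃ j0, v j0 ≠ 0 := by
      by_contra hcon
      push Not at hcon
      exact hv0 (funext hcon)
    let w : Fin d → K := Pi.single j0 (v j0)⁻¹
    have hwv : w ⬝ᵥ v = 1 := by
      simp only [w, single_dotProduct]
      exact inv_mul_cancel₀ hj0
    -- the polynomial F(t) = f(t A)
    let F : Polynomial K :=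
      MvPolynomial.aeval (fun p : Fin n × Fin d => Polynomial.C (A p.1 p.2) * Polynomial.X) f
    have hF : ∀ t : K, Polynomial.eval t F =
        MvPolynomial.eval (fun p : Fin n × Fin d => A p.1 p.2 * t) f := by
      intro t
      have h1 := MvPolynomial.comp_aeval_apply
        (f := fun p : Fin n × Fin d => Polynomial.C (A p.1 p.2) * Polynomial.X)
        (Polynomial.aeval t : Polynomial K →ₐ[K] K) f
      rw [Polynomial.coe_aeval_eq_eval] at h1
      rw [h1, MvPolynomial.aeval_eq_eval]
      simp
    have hroot : ∀ t : K, t ≠ 0 → Polynomial.eval t F = 0 := by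
      intro t ht
      rw [hF]
      let c : K := (t⁻¹) ^ (d - 1) - t
      let M : Matrix (Fin d) (Fin d) K := t • (1 : Matrix (Fin d) (Fin d) K) + c • Matrix.vecMulVec v w
      have hdet : M.det = 1 := by
        have h1 : M = t • ((1 : Matrix (Fin d) (Fin d) K) +
            Matrix.replicateCol Unit ((c / t) • v) * Matrix.replicateRow Unit w) := by
          rw [← Matrix.vecMulVec_eq]
          ext i j
          simp only [M, Matrix.add_apply, Matrix.smul_apply, Matrix.vecMulVec_apply, Pi.smul_apply,
            smul_eq_mul]
          field_simp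
        rw [h1, Matrix.det_smul, Matrix.det_one_add_replicateCol_mul_replicateRow,
          dotProduct_smul, hwv, Fintype.card_fin, smul_eq_mul, mul_one]
        have hd1 : d = (d - 1) + 1 := by omega
        have h2 : t ^ d * (1 + c / t) = t ^ (d - 1) * (t + c) := by
          conv_lhs => rw [hd1, pow_succ]
          field_simp
        rw [h2]
        simp only [c]
        rw [add_sub_cancel, ← mul_pow, mul_inv_cancel₀ ht, one_pow]
      have hAM : A * M = t • A := by
        simp only [M, Matrix.mul_add, Matrix.mul_smul, Matrix.mul_one, Matrix.mul_vecMulVec, hAv]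
        have : Matrix.vecMulVec (0 : Fin n → K) w = 0 := by
          ext i j; simp [Matrix.vecMulVec_apply]
        rw [this, smul_zero, add_zero]
      have h3 := hf ⟨M, hdet⟩
      have h4 : (fun p : Fin n × Fin d => (A * ((⟨M, hdet⟩ : Matrix.SpecialLinearGroup (Fin d) K) :
          Matrix (Fin d) (Fin d) K)) p.1 p.2) = fun p : Fin n × Fin d => A p.1 p.2 * t := by
        funext p
        change (A * M) p.1 p.2 = _
        rw [hAM, Matrix.smul_apply, smul_eq_mul, mul_comm]
      rw [h4] at h3
      exact h3
    have hFzero : F = 0 := by
      apply Polynomial.eq_zero_of_infinite_isRoot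
      have hinf : ({0}ᶜ : Set K).Infinite := (Set.finite_singleton (0 : K)).infinite_compl
      refine hinf.mono ?_
      intro t ht
      exact hroot t ht
    apply hf0
    have h5 := hF 0
    rw [hFzero, Polynomial.eval_zero] at h5
    have h6 : (fun p : Fin n × Fin d => A p.1 p.2 * 0) = fun _ => (0 : K) := by
      funext p
      rw [mul_zero]
    rw [h6] at h5
    exact h5.symm

end Groth.Agent.S11271
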