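import Groth.Statements.S11272
import Groth.Agent.Lib.Helper20.GrQuot1
import Groth.Agent.Lib.Helper20.GorPoly2
import Groth.Agent.Lib.Helper20.RE4

set_option autoImplicit false
universe u
open W4bk4grassmannian

namespace Groth.Agent.S11272

attribute [local instance] MvPolynomial.weightedGradedAlgebra
open Groth.Agent.Helper20 Groth.Agent.Helper20.GorType Groth.Agent.Helper20.GrQuot DirectSum

theorem result (K : Type u) [Field K] [IsAlgClosed K] (N : ℕ)
    (I : Ideal (MvPolynomial (Fin N) K))
    (hI : ∃ T : Set (MvPolynomial (Fin N) K), (∀ f ∈ T, ∃ k : ℕ, f.IsHomogeneous k) ∧ I = Ideal.span T)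
    (hI' : I ≠ ⊤)
    [hm : ((RingHom.ker (MvPolynomial.constantCoeff : MvPolynomial (Fin N) K →+* K)).map
      (Ideal.Quotient.mk I)).IsPrime] :
    LocCoh.IsCohenMacaulayRing (MvPolynomial (Fin N) K ⧸ I) ↔
      LocCoh.IsCohenMacaulayLocalRing (Localization.AtPrime
        ((RingHom.ker (MvPolynomial.constantCoeff : MvPolynomial (Fin N) K →+* K)).map
          (Ideal.Quotient.mk I))) := by
  classical
  have hIh : I.IsHomogeneous (Ap K N) := by
    obtain ⟨T, hT, rfl⟩ := hI
    apply Ideal.homogeneous_span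
    intro f hf
    obtain ⟨k, hk⟩ := hT f hf
    exact ⟨(k : ℤ), (mem_Ap_iff K N).2 hk⟩
  letI := quotGradedRing (Ap K N) I hIh
  constructor
  · intro h
    exact h.isCohenMacaulayLocalRing_localization _
  · intro h
    refine RE.isCohenMacaulayRing_of_localization (quotGrR (Ap K N) I) _ ?_ h
    intro q hq hqh x hx
    obtain ⟨y, rfl⟩ := Ideal.Quotient.mk_surjective x
    have h0 := hqh 0 hx
    rw [decompose_mk (Ap K N) I hIh y 0] at h0
    have h1 : (decompose (Ap K N) y ((0 : ℕ) : ℤ) : MvPolynomial (Fin N) K) =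
        MvPolynomial.homogeneousComponent 0 y := decompose_Ap K N y 0
    rw [Nat.cast_zero] at h1
    rw [h1, MvPolynomial.homogeneousComponent_zero] at h0
    have hc : MvPolynomial.coeff 0 y = 0 := by
      by_contra hne
      apply hq.ne_top
      rw [Ideal.eq_top_iff_one]
      have h2 : Ideal.Quotient.mk I (MvPolynomial.C (MvPolynomial.coeff 0 y)⁻¹) *
          Ideal.Quotient.mk I (MvPolynomial.C (MvPolynomial.coeff 0 y)) = 1 := by
        rw [← map_mul, ← map_mul, inv_mul_cancel₀ hne, map_one, map_one]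
      rw [← h2]
      exact Ideal.mul_mem_left _ _ h0
    apply Ideal.mem_map_of_mem
    rw [RingHom.mem_ker, MvPolynomial.constantCoeff_eq]
    exact hc

end Groth.Agent.S11272
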