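import Groth.Statements.S11274
import Mathlib
import Groth.Agent.Lib.Helper2.StdFamB
-- import your own Groth.Agent.* helpers here

set_option autoImplicit false
universe u
open W4bk4grassmannian

namespace Groth.Agent.S11274

section
open W4bk4grassmannian MvPolynomial Groth.Agent.S11251 Groth.Agent.Lib.Helper2.SMT
  Groth.Agent.Lib.Helper2.StdFam Groth.Agent.Lib.Helper2.ReesFam Groth.Agent.Lib.Helper2.StdFamB

attribute [local instance] Polynomial.algebra

variable {K : Type u} [Field K] {d n : ℕ}

theorem Phi_sing (θ : Idx d n) : Phi [θ] = wt θ.1 ^ 2 := by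
  unfold Phi
  simp

theorem Phi_cons (θ : Idx d n) (L : List (Idx d n)) : Phi (θ :: L) = wt θ.1 ^ 2 + Phi L := by
  unfold Phi
  simp

theorem ωSR_add (w : Idx d n) (θ : Idx d n) (L : List (Idx d n)) (h : IsStd w (θ :: L))
    (h1 : IsStd w [θ]) (h2 : IsStd w L) :
    ωSR w ⟨θ :: L, h⟩ = ωSR w ⟨[θ], h1⟩ + ωSR w ⟨L, h2⟩ := by
  unfold ωSR
  simp only [List.length_cons, List.length_nil]
  rw [Phi_cons, Phi_sing, add_mul]
  have e1 := Phi_le' [θ]
  have e2 := Phi_le' L
  rw [Phi_sing] at e1
  simp only [List.length_cons, List.length_nil] at e1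
  omega

theorem srGen_zero [Infinite K] (hd : 0 < d) (w : Idx d n) (a b : Below w) (hab : ¬ a ≤ b) (hba : ¬ b ≤ a) :
    (famSR (K := K) hd w).e' (sing w a) * (famSR (K := K) hd w).e' (sing w b) ∈
      Ideal.span {algebraMap (Polynomial K) (famSR (K := K) hd w).R Polynomial.X} := by
  set F := famSR (K := K) hd w with hF
  have hpos : 1 ≤ ωSR w (sing w a) := by
    unfold ωSR sing
    simp only [List.length_cons, List.length_nil]
    rw [Phi_sing]
    have := wt_le a.1.1
    have := Nat.pow_le_pow_left this 2
    unfold CC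
    omega
  have hsum : F.ω (sing w a) + F.ω (sing w b) = (ωSR w (sing w a) + ωSR w (sing w b) - 1) + 1 := by
    show ωSR w (sing w a) + ωSR w (sing w b) = _
    omega
  apply F.mem_span_X_of_monomial _ (ωSR w (sing w a) + ωSR w (sing w b) - 1) (F.a (sing w a) * F.a (sing w b))
  · have h1 : F.a (sing w a) * F.a (sing w b) =
        Ideal.Quotient.mk (schubertVanishing K d n w) (listMon K [a.1, b.1]) := by
      show stdA K w (sing w a) * stdA K w (sing w b) = _
      unfold stdA
      rw [← map_mul]
      congr 1
      show listMon K [a.1] * listMon K [b.1] = _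
      rw [listMon_cons, listMon_cons, listMon_cons, listMon_cons, listMon_nil]
      ring
    rw [h1]
    have hnp : ¬ [a.1, b.1].Pairwise fun x y => x ≤ y ∨ y ≤ x := by
      intro hp
      rw [List.pairwise_cons] at hp
      rcases hp.1 b.1 List.mem_cons_self with h | h
      · exact hab h
      · exact hba h
    have h2 := mk_T w _ _ _ ((refined (K := K) w [a.1, b.1]).2 hnp)
    refine Submodule.span_mono ?_ h2
    apply Set.image_mono
    rintro P ⟨hP1, hP2⟩
    show ωSR w P ≤ ωSR w (sing w a) + ωSR w (sing w b) - 1
    have e1 := Phi_le' [a.1, b.1]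
    have e3 := Phi_le' P.1
    unfold ωSR sing
    unfold ωSR sing at hpos
    simp only [List.length_cons, List.length_nil] at hP1 hP2 e1 hpos ⊢
    rw [hP1] at e3 ⊢
    rw [Phi_sing, Phi_sing]
    rw [Phi_cons, Phi_sing] at hP2 e1
    rw [Phi_sing] at hpos
    have := wt_le b.1.1
    have := Nat.pow_le_pow_left this 2
    unfold CC at *
    omega
  · rw [Subalgebra.coe_mul, Fam.coe_e', Fam.coe_e']
    unfold Fam.e
    rw [Polynomial.monomial_mul_monomial, hsum]

theorem main (K : Type u) [Field K] [IsAlgClosed K] (d n : ℕ)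
    (hd : 0 < d) (hdn : d < n) (w : Idx d n) :
    ∃ (R : Type u) (_ : CommRing R) (_ : Algebra K R) (_ : Algebra (Polynomial K) R)
      (_ : IsScalarTower K (Polynomial K) R),
      Module.Free (Polynomial K) R ∧
      Nonempty ((R ⧸ Ideal.span {algebraMap (Polynomial K) R Polynomial.X}) ≃ₐ[K]
        (MvPolynomial (Below w) K ⧸ srIdeal K w)) ∧
      ∀ c : K, c ≠ 0 →
        Nonempty ((R ⧸ Ideal.span {algebraMap (Polynomial K) R (Polynomial.X - Polynomial.C c)}) ≃ₐ[K]
          (PlRing K d n ⧸ schubertVanishing K d n w)) := by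
  classical
  haveI : Infinite K := IsAlgClosed.instInfinite
  apply assemble w (famSR (K := K) hd w) rfl (famSR (K := K) hd w).ω_i₀ (ωSR_add w) (srIdeal K w)
  · intro f hf
    have hle : srIdeal K w ≤ RingHom.ker (MvPolynomial.aeval (fun x : Below w =>
        Ideal.Quotient.mk (Ideal.span {algebraMap (Polynomial K) (famSR (K := K) hd w).R Polynomial.X})
          ((famSR (K := K) hd w).e' (sing w x)))).toRingHom := by
      unfold srIdeal
      rw [Ideal.span_le]
      rintro _ ⟨a, b, hab, hba, rfl⟩
      rw [SetLike.mem_coe, RingHom.mem_ker]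
      show MvPolynomial.aeval _ (X a * X b) = 0
      rw [map_mul, MvPolynomial.aeval_X, MvPolynomial.aeval_X, ← map_mul,
        Ideal.Quotient.eq_zero_iff_mem]
      exact srGen_zero hd w a b hab hba
    exact hle hf
  · intro L
    by_cases hp : L.Pairwise fun x y => x ≤ y ∨ y ≤ x
    · exact chain_mem_bB w _ L hp
    · rw [List.pairwise_iff_forall_sublist] at hp
      push Not at hp
      obtain ⟨x, y, hsub, hxy1, hxy2⟩ := hp
      obtain ⟨L'', hperm⟩ := hsub.exists_perm_append
      have h0 : monB K w L ∈ srIdeal K w := by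
        rw [monB_perm w hperm]
        show monB K w (x :: y :: L'') ∈ _
        rw [monB_cons, monB_cons, ← mul_assoc]
        apply Ideal.mul_mem_right
        exact Ideal.subset_span ⟨x, y, hxy1, hxy2, rfl⟩
      rw [Ideal.Quotient.eq_zero_iff_mem.mpr h0]
      exact Submodule.zero_mem _

end

open W4bk4grassmannian in
/-- Degeneration of the cone over a Schubert variety to a Stanley–Reisner ring: let K be an
algebraically closed field, 0 < d < n, and I(d,n) the strictly increasing maps Fin d → Fin n ordered
entrywise; S = K[X_θ : θ ∈ I(d,n)] is the Plücker polynomial ring and, for τ ∈ I(d,n), J(τ) ⊆ S is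
the ideal of polynomials vanishing at the d × d row-minors of every n × d matrix over K whose minors
on rows φ ≰ τ are zero (the homogeneous ideal of the Schubert variety X(τ) ⊆ G(d,n)). Let w ∈
I(d,n), H(w) = {θ ≤ w} (a distributive lattice under entrywise max and min) and K[x_θ : θ ∈ H(w)]
the polynomial ring on it. Then there is a commutative K[t]-algebra R, free as a K[t]-module, whose
fibre R/tR at t = 0 is K-isomorphic to the Stanley–Reisner ring K[x_θ : θ ≤ w]/(x_α x_β : α, β
incomparable) and whose fibre R/(t - c)R at every c ≠ 0 in K is K-isomorphic to S/J(w): the cone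
over the Schubert variety X(w) degenerates flatly to the Stanley–Reisner ring K[x_θ : θ ≤ w]/(x_α
x_β : α, β incomparable). (Existence of the family and of the fibre isomorphisms only; the published
statement constructs the family explicitly, by deforming the straightening relations, and identifies
R[1/t] with (S/J(w))[t, 1/t], which gives the fibres at c ≠ 0.) -/
theorem result (K : Type u) [Field K] [IsAlgClosed K] (d n : ℕ)
    (hd : 0 < d) (hdn : d < n) (w : Idx d n) :
    ∃ (R : Type u) (_ : CommRing R) (_ : Algebra K R) (_ : Algebra (Polynomial K) R)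
      (_ : IsScalarTower K (Polynomial K) R),
      Module.Free (Polynomial K) R ∧
      Nonempty ((R ⧸ Ideal.span {algebraMap (Polynomial K) R Polynomial.X}) ≃ₐ[K]
        (MvPolynomial (Below w) K ⧸ srIdeal K w)) ∧
      ∀ c : K, c ≠ 0 →
        Nonempty ((R ⧸ Ideal.span {algebraMap (Polynomial K) R (Polynomial.X - Polynomial.C c)}) ≃ₐ[K]
          (PlRing K d n ⧸ schubertVanishing K d n w)) := by
  exact Groth.Agent.S11274.main K d n hd hdn w

end Groth.Agent.S11274
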