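import Groth.Statements.S11276
import Groth.Agent.Lib.Helper20.CMInf2

set_option autoImplicit false
universe u v
open W4bk4grassmannian

namespace Groth.Agent.S11276


theorem result (K : Type u) [Field K] (A : Type v) [CommRing A]
    [Algebra K A] [IsNoetherianRing A] (𝒜 : ℕ → Submodule K A) [GradedAlgebra 𝒜]
    (h0 : ∀ a ∈ 𝒜 0, ∃ c : K, algebraMap K A c = a) (I J : Ideal A) (hI : I.IsHomogeneous 𝒜)
    (hJ : J.IsHomogeneous 𝒜) (e : ℕ) (he : 1 ≤ e)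
    (hIcm : LocCoh.IsCohenMacaulayRing (A ⧸ I)) (hJcm : LocCoh.IsCohenMacaulayRing (A ⧸ J))
    (hIJcm : LocCoh.IsCohenMacaulayRing (A ⧸ (I ⊔ J)))
    (hIdim : ringKrullDim (A ⧸ I) = (e : WithBot ℕ∞)) (hJdim : ringKrullDim (A ⧸ J) = (e : WithBot ℕ∞))
    (hIJdim : ringKrullDim (A ⧸ (I ⊔ J)) = ((e - 1 : ℕ) : WithBot ℕ∞))
    [hm : ((HomogeneousIdeal.irrelevant 𝒜).toIdeal.map (Ideal.Quotient.mk (I ⊓ J))).IsPrime] :
    LocCoh.IsCohenMacaulayLocalRing (Localization.AtPrime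
        ((HomogeneousIdeal.irrelevant 𝒜).toIdeal.map (Ideal.Quotient.mk (I ⊓ J)))) ∧
      ringKrullDim (Localization.AtPrime
        ((HomogeneousIdeal.irrelevant 𝒜).toIdeal.map (Ideal.Quotient.mk (I ⊓ J)))) = (e : WithBot ℕ∞) := by
  have h0' : ∀ a ∈ 𝒜 0, a ≠ 0 → IsUnit a := by
    intro a ha hane
    obtain ⟨c, rfl⟩ := h0 a ha
    have hc : c ≠ 0 := by
      rintro rfl
      exact hane (map_zero _)
    exact (IsUnit.mk0 c hc).map (algebraMap K A)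
  exact Groth.Agent.Helper20.CMInf.main_graded 𝒜 h0' I J hI hJ e he hIcm hJcm hIJcm hIdim hJdim hIJdim

end Groth.Agent.S11276
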