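import Groth.Statements.S11277
import Mathlib

set_option autoImplicit false
universe u v
open W4bk4grassmannian

namespace Groth.Agent.S11277

/-- Let K be a field, R = ⊕_{i ≥ 0} R_i an ℕ-graded commutative K-algebra which is an integral domain,
and s ∈ R_e a homogeneous element of degree e > 0. Let R_(s) ⊆ R[1/s] be the homogeneous
localization (fractions f / s^k with f homogeneous of degree k e). Then the image of s in R[1/s] is
transcendental over R_(s). -/
theorem result (K : Type u) [Field K] (R : Type v) [CommRing R]
    [IsDomain R] [Algebra K R] (𝒜 : ℕ → Submodule K R) [GradedAlgebra 𝒜] (e : ℕ) (he : 0 < e) (s : R)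
    (hs : s ∈ 𝒜 e) :
    Transcendental (HomogeneousLocalization.Away 𝒜 s) (algebraMap R (Localization.Away s) s) := by
  classical
  rw [Transcendental, IsAlgebraic]
  rintro ⟨q, hq0, hq⟩
  apply hq0
  by_cases hs0 : s = 0
  · have : Subsingleton (HomogeneousLocalization.Away 𝒜 s) :=
      HomogeneousLocalization.subsingleton 𝒜 (x := Submonoid.powers s) ⟨1, by simp [hs0]⟩
    exact Subsingleton.elim _ _
  have hinj : Function.Injective (algebraMap R (Localization.Away s)) := by
    apply IsLocalization.injective (M := Submonoid.powers s)
    exact Submonoid.powers_le.mpr (mem_nonZeroDivisors_of_ne_zero hs0)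
  set σ := algebraMap R (Localization.Away s) s with hσ
  have hσu : IsUnit σ := IsLocalization.Away.algebraMap_isUnit s
  -- common denominator
  have hev : ∀ᶠ n in Filter.atTop, ∀ i ∈ Finset.range (q.natDegree + 1),
      s ^ n • (q.coeff i).val ∈ algebraMap R (Localization.Away s) '' (𝒜 (n • e) : Set R) :=
    (Filter.eventually_all_finset _).mpr fun i _ =>
      HomogeneousLocalization.Away.eventually_smul_mem hs (q.coeff i)
  obtain ⟨N, hN⟩ := hev.exists
  choose! g hg using hN
  have hgmem : ∀ i ∈ Finset.range (q.natDegree + 1), g i ∈ 𝒜 (N • e) := fun i hi => (hg i hi).1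
  have hgeq : ∀ i ∈ Finset.range (q.natDegree + 1),
      algebraMap R (Localization.Away s) (g i) = s ^ N • (q.coeff i).val := fun i hi => (hg i hi).2
  -- the relation in R
  have hsum : ∑ i ∈ Finset.range (q.natDegree + 1), g i * s ^ i = 0 := by
    apply hinj
    rw [map_sum, map_zero]
    have h1 : Polynomial.aeval σ q = ∑ i ∈ Finset.range (q.natDegree + 1), (q.coeff i).val * σ ^ i := by
      rw [Polynomial.aeval_eq_sum_range]
      refine Finset.sum_congr rfl fun i _ => ?_
      rw [Algebra.smul_def, HomogeneousLocalization.algebraMap_apply]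
    have h2 : σ ^ N * Polynomial.aeval σ q = 0 := by rw [hq, mul_zero]
    rw [h1, Finset.mul_sum] at h2
    rw [← h2]
    refine Finset.sum_congr rfl fun i hi => ?_
    rw [map_mul, map_pow, hgeq i hi, Algebra.smul_def, map_pow]
    ring
  -- each term vanishes by degree
  have hterm : ∀ j ∈ Finset.range (q.natDegree + 1), g j * s ^ j = 0 := by
    intro j hj
    have hdeg : ∀ i ∈ Finset.range (q.natDegree + 1), g i * s ^ i ∈ 𝒜 (N • e + i • e) := fun i hi =>
      SetLike.mul_mem_graded (hgmem i hi) (SetLike.pow_mem_graded i hs)
    have h1 := congrArg (fun x => (DirectSum.decompose 𝒜 x (N • e + j • e) : R)) hsum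
    simp only [DirectSum.decompose_sum, DirectSum.decompose_zero, DirectSum.zero_apply,
      ZeroMemClass.coe_zero] at h1
    rw [DFinsupp.finsetSum_apply, AddSubmonoidClass.coe_finsetSum] at h1
    rw [Finset.sum_eq_single j] at h1
    · rwa [DirectSum.decompose_of_mem_same 𝒜 (hdeg j hj)] at h1
    · intro i hi hij
      apply DirectSum.decompose_of_mem_ne 𝒜 (hdeg i hi)
      intro h
      apply hij
      have : i • e = j • e := Nat.add_left_cancel h
      exact Nat.eq_of_mul_eq_mul_right he (by simpa [smul_eq_mul] using this)
    · intro h; exact absurd hj h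
  -- conclude all coefficients vanish
  apply Polynomial.ext
  intro j
  rw [Polynomial.coeff_zero]
  by_cases hj : j ∈ Finset.range (q.natDegree + 1)
  · have h1 : g j = 0 := by
      rcases mul_eq_zero.mp (hterm j hj) with h | h
      · exact h
      · exact absurd h (pow_ne_zero j hs0)
    have h2 := hgeq j hj
    rw [h1, map_zero, Algebra.smul_def, map_pow] at h2
    have h3 : (q.coeff j).val = 0 := by
      have := (hσu.pow N).mul_right_eq_zero.mp h2.symm
      exact this
    exact HomogeneousLocalization.val_injective _ (h3.trans HomogeneousLocalization.val_zero.symm)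
  · apply Polynomial.coeff_eq_zero_of_natDegree_lt
    rw [Finset.mem_range, not_lt] at hj
    omega

end Groth.Agent.S11277
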