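import Groth.Statements.S1128
import Groth.Prelude.Def_Desc
import Mathlib.RingTheory.Flat.FaithfullyFlat.Basic
import Mathlib.RingTheory.RingHom.FaithfullyFlat
-- import your own Groth.Agent.* helpers here

set_option autoImplicit false
open CategoryTheory CategoryTheory.Limits AlgebraicGeometry Opposite
universe u
open Desc

namespace Groth.Agent.S1128

open TensorProduct in
theorem flat_of_faithfullyFlat_of_flat (A B C : Type*) [CommRing A] [CommRing B] [CommRing C]
    [Algebra A B] [Algebra B C] [Algebra A C] [IsScalarTower A B C] [Module.FaithfullyFlat B C]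
    [Module.Flat A C] : Module.Flat A B := by
  rw [Module.Flat.iff_lTensor_preserves_injective_linearMap]
  intro N P _ _ _ _ f hf
  have h1 : Function.Injective (LinearMap.lTensor C f) :=
    Module.Flat.lTensor_preserves_injective_linearMap f hf
  have h2 : Function.Injective (f.baseChange B) := by
    rw [← Module.FaithfullyFlat.lTensor_injective_iff_injective B C]
    have := TensorProduct.AlgebraTensorModule.lTensor_comp_cancelBaseChange (R := A) (A := B)
      (B := C) (M := C) f
    intro a b hab
    apply (TensorProduct.AlgebraTensorModule.cancelBaseChange A B C C N).injective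
    apply h1
    have e : ∀ z, (LinearMap.lTensor C f)
        ((TensorProduct.AlgebraTensorModule.cancelBaseChange A B C C N) z) =
        (TensorProduct.AlgebraTensorModule.cancelBaseChange A B C C P)
          ((LinearMap.lTensor C (f.baseChange B)) z) := fun z => LinearMap.congr_fun this z
    rw [e, e, hab]
  exact h2

theorem ringHom_flat_of_comp (A B C : Type u) [CommRing A] [CommRing B] [CommRing C]
    (φ : A →+* B) (ψ : B →+* C) (hψ : ψ.FaithfullyFlat) (h : (ψ.comp φ).Flat) : φ.Flat := by
  algebraize [φ, ψ, ψ.comp φ]
  exact flat_of_faithfullyFlat_of_flat A B C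

set_option backward.isDefEq.respectTransparency.types false in
theorem aux {X' X Y : Scheme.{u}} (f : X' ⟶ X) (g : X ⟶ Y) [Flat f]
    [Surjective f] [Flat (f ≫ g)] : Flat g := by
  apply Flat.of_stalkMap
  intro x
  obtain ⟨x', rfl⟩ := f.surjective x
  have h1 := Flat.stalkMap (f ≫ g) x'
  rw [Scheme.Hom.stalkMap_comp] at h1
  change ((f.stalkMap x').hom.comp (g.stalkMap (f x')).hom).Flat at h1
  refine ringHom_flat_of_comp _ _ _ _ (f.stalkMap x').hom ?_ h1
  algebraize [(f.stalkMap x').hom]
  have : Module.FaithfullyFlat (X.presheaf.stalk (f x')) (X'.presheaf.stalk x') :=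
    @Module.FaithfullyFlat.of_flat_of_isLocalHom _ _ _ _ _ _ _
      (Flat.stalkMap f x') (f.toLRSHom.prop x')
  exact ‹RingHom.FaithfullyFlat _›

/-- If f is flat and surjective and the composite of f with g is flat, then g is flat; together with
stability of flatness under composition this says flatness is fpqc local on the source. -/
theorem result {X' X Y : Scheme.{u}} (f : X' ⟶ X) (g : X ⟶ Y) [Flat f]
    [Surjective f] [Flat (f ≫ g)] : Flat g := by
  exact aux f g

end Groth.Agent.S1128
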