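import Groth.Statements.S11280
import Mathlib
import Groth.Agent.Lib.Helper14.FlatNilSmooth
-- import your own Groth.Agent.* helpers here

set_option autoImplicit false
universe u
open Deform

namespace Groth.Agent.S11280

/-- Flatness: an element killed by `t` lies in `Ann(t) • B`. -/
theorem mem_map_of_smul_eq_zero {A B : Type*} [CommRing A] [CommRing B] [Algebra A B]
    [Module.Flat A B] (I : Ideal A) (t : A) (hI : ∀ a : A, t * a = 0 → a ∈ I) (x : B)
    (hx : t • x = 0) : x ∈ I.map (algebraMap A B) := by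
  have h := Module.Flat.isTrivialRelation_of_sum_smul_eq_zero (R := A) (M := B) (ι := Unit)
    (f := fun _ => t) (x := fun _ => x) (by simpa using hx)
  obtain ⟨n, a, y, hxy, ha⟩ := h
  have hx' : x = ∑ j, a () j • y j := hxy ()
  rw [hx']
  refine Ideal.sum_mem _ fun j _ => ?_
  rw [Algebra.smul_def]
  refine Ideal.mul_mem_right _ _ (Ideal.mem_map_of_mem _ (hI _ ?_))
  simpa using ha j

/-- Let k be an algebraically closed field, A a local Artinian k-algebra with residue field k and t an
element of the maximal ideal of A annihilated by the maximal ideal, so that A is a small extension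
of A/tA. Let B be a flat A-algebra whose closed fibre B/m_A B is a formally smooth k-algebra (an
infinitesimal deformation over A of a formally smooth k-algebra). Then every A-algebra automorphism
of B/tB is induced by an A-algebra automorphism of B. (The published statement asks the automorphism
of B/tB to induce the identity on B/m_A B; this row does not. The published statement takes the
closed fibre smooth, that is formally smooth and essentially of finite type; this row asks the
closed fibre to be formally smooth over k in the sense of lifting along all square-zero surjections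
of commutative k-algebras, with no finiteness condition.) -/
theorem result
    {k : Type u} [Field k] [IsAlgClosed k]
    {A : Type u} [CommRing A] [Algebra k A] [IsLocalRing A] [IsArtinianRing A]
    (hres : ∀ a : A, ∃ c : k, a - algebraMap k A c ∈ IsLocalRing.maximalIdeal A)
    (t : A) (ht : t ∈ IsLocalRing.maximalIdeal A)
    (htm : ∀ a ∈ IsLocalRing.maximalIdeal A, a * t = 0)
    {B : Type u} [CommRing B] [Algebra A B] [Module.Flat A B] [Algebra k B] [IsScalarTower k A B]
    (hsm : Algebra.FormallySmooth k (B ⧸ (IsLocalRing.maximalIdeal A).map (algebraMap A B)))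
    (σ : (B ⧸ Ideal.span {algebraMap A B t}) ≃ₐ[A] (B ⧸ Ideal.span {algebraMap A B t})) :
    ∃ τ : B ≃ₐ[A] B, ∀ b : B,
      Ideal.Quotient.mk (Ideal.span {algebraMap A B t}) (τ b) =
        σ (Ideal.Quotient.mk (Ideal.span {algebraMap A B t}) b) := by
  classical
  let 𝔪 := IsLocalRing.maximalIdeal A
  let φ := algebraMap A B
  let J : Ideal B := Ideal.span {φ t}
  have htt : t * t = 0 := htm t ht
  have hJ2 : J ^ 2 = ⊥ := by
    rw [pow_two, Ideal.span_singleton_mul_span_singleton, ← map_mul, htt, map_zero,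
      Ideal.span_singleton_eq_bot]
  -- formal smoothness of the closed fibre over A/𝔪
  haveI : Algebra.FormallyUnramified k (A ⧸ 𝔪) :=
    Algebra.FormallyUnramified.of_surjective (Algebra.ofId k (A ⧸ 𝔪)) (by
      intro x
      obtain ⟨a, rfl⟩ := Ideal.Quotient.mk_surjective x
      obtain ⟨c, hc⟩ := hres a
      refine ⟨c, ?_⟩
      change algebraMap k (A ⧸ 𝔪) c = _
      rw [IsScalarTower.algebraMap_apply k A (A ⧸ 𝔪), Ideal.Quotient.algebraMap_eq, eq_comm,
        Ideal.Quotient.eq]
      exact hc)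
  haveI := hsm
  haveI : IsScalarTower k (A ⧸ 𝔪) (B ⧸ 𝔪.map φ) := IsScalarTower.of_algebraMap_eq (fun c => by
    change Ideal.Quotient.mk _ (algebraMap k B c) = Ideal.Quotient.mk _ (φ (algebraMap k A c))
    rw [IsScalarTower.algebraMap_apply k A B])
  haveI : Algebra.FormallySmooth (A ⧸ 𝔪) (B ⧸ 𝔪.map φ) :=
    Algebra.FormallySmooth.of_restrictScalars k (A ⧸ 𝔪) (B ⧸ 𝔪.map φ)
  have h1 : (Groth.Agent.Helper14.FlatNilSmooth.qmap (B := B) 𝔪).FormallySmooth := by
    have : Groth.Agent.Helper14.FlatNilSmooth.qmap (B := B) 𝔪 =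
        algebraMap (A ⧸ 𝔪) (B ⧸ 𝔪.map φ) := by
      ext x
      rfl
    rw [this]
    exact RingHom.formallySmooth_algebraMap.mpr inferInstance
  have hB : EGA41.IsFormallySmoothAdic A 𝔪 B ⊥ :=
    Groth.Agent.Helper14.FlatNilSmooth.isFormallySmoothAdic_of_flat 𝔪 ⊥ h1
  obtain ⟨n, hn⟩ := IsArtinianRing.isNilpotent_jacobson_bot (R := A)
  rw [IsLocalRing.jacobson_eq_maximalIdeal ⊥ bot_ne_top] at hn
  let u : B →ₐ[A] B ⧸ J := (σ : _ →ₐ[A] _).comp (Ideal.Quotient.mkₐ A J)
  obtain ⟨v, hv⟩ := hB B J ⟨2, hJ2⟩ ⟨n, by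
    have : 𝔪 ^ n = ⊥ := by simpa using hn
    rw [this, Ideal.map_bot]⟩ u ⟨1, fun x hx => by
      rw [pow_one, Ideal.mem_bot] at hx
      rw [hx, map_zero]⟩
  have hv' : ∀ b, Ideal.Quotient.mk J (v b) = σ (Ideal.Quotient.mk J b) := fun b =>
    DFunLike.congr_fun hv b
  -- φ t kills 𝔪 B
  have hkill : ∀ y ∈ 𝔪.map φ, φ t * y = 0 := by
    intro y hy
    have h2 : Ideal.span {φ t} * 𝔪.map φ = ⊥ := by
      have : (Ideal.span {t} * 𝔪 : Ideal A) = ⊥ := by
        rw [eq_bot_iff, Ideal.mul_le]
        intro a ha b hb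
        obtain ⟨c, rfl⟩ := Ideal.mem_span_singleton'.mp ha
        rw [Ideal.mem_bot, mul_assoc, mul_comm t b, htm b hb, mul_zero]
      have h3 := congrArg (Ideal.map φ) this
      rwa [Ideal.map_mul, Ideal.map_span, Set.image_singleton, Ideal.map_bot] at h3
    have : φ t * y ∈ Ideal.span {φ t} * 𝔪.map φ :=
      Ideal.mul_mem_mul (Ideal.mem_span_singleton_self _) hy
    rw [h2] at this
    exact this
  have hJ𝔪 : J ≤ 𝔪.map φ := by
    rw [Ideal.span_le, Set.singleton_subset_iff]
    exact Ideal.mem_map_of_mem _ ht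
  -- σ preserves 𝔪 (B/J)
  have hσinv : ∀ z : B ⧸ J, σ z ∈ 𝔪.map (algebraMap A (B ⧸ J)) → z ∈ 𝔪.map (algebraMap A (B ⧸ J)) := by
    intro z hz
    have h2 : (𝔪.map (algebraMap A (B ⧸ J))).map (σ.symm : (B ⧸ J) →ₐ[A] (B ⧸ J)).toRingHom =
        𝔪.map (algebraMap A (B ⧸ J)) := by
      rw [Ideal.map_map]
      congr 1
      exact (σ.symm : (B ⧸ J) →ₐ[A] (B ⧸ J)).comp_algebraMap
    have h3 := Ideal.mem_map_of_mem (σ.symm : (B ⧸ J) →ₐ[A] (B ⧸ J)).toRingHom hz
    rw [h2] at h3
    simpa using h3
  have hmapmk : (𝔪.map φ).map (Ideal.Quotient.mk J) = 𝔪.map (algebraMap A (B ⧸ J)) := by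
    rw [Ideal.map_map]
    rfl
  have hinj : Function.Injective v := by
    rw [injective_iff_map_eq_zero]
    intro b hb
    have h2 : σ (Ideal.Quotient.mk J b) = 0 := by rw [← hv', hb, map_zero]
    have h3 : Ideal.Quotient.mk J b = 0 := by simpa using h2
    obtain ⟨b', rfl⟩ := Ideal.mem_span_singleton'.mp (Ideal.Quotient.eq_zero_iff_mem.mp h3)
    by_cases ht0 : t = 0
    · rw [ht0, map_zero, mul_zero]
    have h4 : t • v b' = 0 := by
      rw [← map_smul, Algebra.smul_def, mul_comm]; exact hb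
    have h5 : v b' ∈ 𝔪.map φ := by
      refine mem_map_of_smul_eq_zero 𝔪 t (fun a ha => ?_) _ h4
      by_contra hna
      have hu : IsUnit a := by
        by_contra hnu
        exact hna ((IsLocalRing.mem_maximalIdeal a).mpr hnu)
      exact ht0 (by simpa using (hu.mul_left_eq_zero).mp ha)
    have h6 : σ (Ideal.Quotient.mk J b') ∈ 𝔪.map (algebraMap A (B ⧸ J)) := by
      rw [← hv', ← hmapmk]
      exact Ideal.mem_map_of_mem _ h5
    have h7 := hσinv _ h6
    rw [← hmapmk] at h7
    obtain ⟨c, hc, hcb⟩ := (Ideal.mem_map_iff_of_surjective _ Ideal.Quotient.mk_surjective).mp h7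
    have h8 : b' ∈ 𝔪.map φ := by
      have : b' - c ∈ J := Ideal.Quotient.eq.mp hcb.symm
      have : b' = c + (b' - c) := by ring
      rw [this]
      exact Ideal.add_mem _ hc (hJ𝔪 ‹_›)
    rw [mul_comm]
    exact hkill _ h8
  have hsurj : Function.Surjective v := by
    have key : ∀ y : B, ∃ x z : B, y = v x + φ t * z := by
      intro y
      obtain ⟨x, hx⟩ := Ideal.Quotient.mk_surjective (σ.symm (Ideal.Quotient.mk J y))
      have h2 : Ideal.Quotient.mk J (v x) = Ideal.Quotient.mk J y := by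
        rw [hv', hx]; simp
      obtain ⟨z, hz⟩ := Ideal.mem_span_singleton'.mp (Ideal.Quotient.eq.mp h2.symm)
      exact ⟨x, z, by rw [mul_comm, hz]; ring⟩
    intro y
    obtain ⟨x, z, rfl⟩ := key y
    obtain ⟨x', z', rfl⟩ := key z
    refine ⟨x + φ t * x', ?_⟩
    have h2 : φ t * φ t = 0 := by rw [← map_mul, htt, map_zero]
    have h3 : v (φ t * x') = φ t * v x' := by
      rw [← Algebra.smul_def, map_smul, Algebra.smul_def]
    rw [map_add, h3, mul_add, ← mul_assoc, h2, zero_mul, add_zero]
  exact ⟨AlgEquiv.ofBijective v ⟨hinj, hsurj⟩, hv'⟩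

end Groth.Agent.S11280
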