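import Groth.Statements.S11288
import Mathlib

set_option autoImplicit false
universe u
open Deform

namespace Groth.Agent.S11288

/-- Let K be a field, R' a local Artinian K-algebra with residue field K, and t a nonzero element of the
maximal ideal m' of R' with m' t = 0, so that R' → R = R'/(t) is a small extension of R. Then the
extension is trivial, i.e. the projection admits a section which is a K-algebra map, if and only if
t is not in m'^2; equivalently, iff the surjection m'/m'^2 → m_R/m_R^2 induced on cotangent spaces,
whose kernel is spanned by the class of t, is not bijective. For instance K[t]/(t^(n+1)) →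
K[t]/(t^n) is a non-trivial small extension for n ≥ 2. (The published example allows any local
K-algebra with residue field K; the row takes R' Artinian, the case in which the subalgebra
generated by lifts of a basis of the cotangent space maps onto R.) -/
theorem result
    {K : Type u} [Field K]
    {R' : Type u} [CommRing R'] [Algebra K R'] [IsLocalRing R'] [IsArtinianRing R']
    (hres : ∀ a : R', ∃ c : K, a - algebraMap K R' c ∈ IsLocalRing.maximalIdeal R')
    (t : R') (ht : t ∈ IsLocalRing.maximalIdeal R') (ht0 : t ≠ 0)
    (htm : ∀ a ∈ IsLocalRing.maximalIdeal R', a * t = 0) :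
    (∃ s : (R' ⧸ Ideal.span {t}) →ₐ[K] R', ∀ x, Ideal.Quotient.mk (Ideal.span {t}) (s x) = x) ↔
      t ∉ IsLocalRing.maximalIdeal R' ^ 2 := by
  classical
  set m' := IsLocalRing.maximalIdeal R' with hm'
  have htt : t * t = 0 := htm t ht
  constructor
  · -- a section forces t ∉ m'^2
    rintro ⟨s, hs⟩ htsq
    apply ht0
    -- σ = s ∘ π
    let π : R' →ₐ[K] R' ⧸ Ideal.span {t} := Ideal.Quotient.mkₐ K (Ideal.span {t})
    have hπs : ∀ x, π (s x) = x := hs
    have hdiff : ∀ a : R', ∃ r : R', s (π a) = a + r * t := by
      intro a
      have h1 : π (s (π a) - a) = 0 := by rw [map_sub, hπs, sub_self]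
      have h2 : s (π a) - a ∈ Ideal.span {t} := by
        have : Ideal.Quotient.mk (Ideal.span {t}) (s (π a) - a) = 0 := h1
        rwa [Ideal.Quotient.eq_zero_iff_mem] at this
      obtain ⟨r, hr⟩ := Ideal.mem_span_singleton'.mp h2
      exact ⟨r, by rw [hr]; ring⟩
    have hfix : ∀ z ∈ m' * m', s (π z) = z := by
      intro z hz
      refine Submodule.mul_induction_on hz ?_ ?_
      · intro a ha b hb
        obtain ⟨ra, hra⟩ := hdiff a
        obtain ⟨rb, hrb⟩ := hdiff b
        rw [map_mul, map_mul, hra, hrb]
        have h1 : b * t = 0 := htm b hb
        have h2 : a * t = 0 := htm a ha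
        calc (a + ra * t) * (b + rb * t)
            = a * b + ra * (b * t) + rb * (a * t) + ra * rb * (t * t) := by ring
          _ = a * b := by rw [h1, h2, htt]; ring
      · intro x y hx hy
        rw [map_add, map_add, hx, hy]
    have h3 := hfix t (by rw [← pow_two]; exact htsq)
    have h4 : π t = 0 := by
      change Ideal.Quotient.mk (Ideal.span {t}) t = 0
      rw [Ideal.Quotient.eq_zero_iff_mem]
      exact Ideal.mem_span_singleton_self t
    rw [h4, map_zero] at h3
    exact h3.symm
  · -- construct the section from a functional
    intro htsq
    -- the subspace U = K·1 + m'^2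
    let U : Submodule K R' := Submodule.span K {(1 : R')} ⊔ (m' ^ 2).restrictScalars K
    have htU : t ∉ U := by
      intro h
      obtain ⟨u, hu, z, hz, huz⟩ := Submodule.mem_sup.mp h
      obtain ⟨c, rfl⟩ := Submodule.mem_span_singleton.mp hu
      have hz' : z ∈ m' ^ 2 := hz
      have hzm : z ∈ m' := Ideal.pow_le_self two_ne_zero hz'
      have hc1 : c • (1 : R') ∈ m' := by
        have : c • (1 : R') = t - z := by rw [← huz]; ring
        rw [this]
        exact m'.sub_mem ht hzm
      have hc0 : c = 0 := by
        by_contra hne
        have hu : IsUnit (c • (1 : R')) := by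
          rw [Algebra.smul_def, mul_one]
          exact (IsUnit.mk0 c hne).map (algebraMap K R')
        exact (IsLocalRing.mem_maximalIdeal _).mp hc1 hu
      rw [hc0, zero_smul, zero_add] at huz
      rw [← huz] at htsq
      exact htsq hz'
    obtain ⟨f, hft, hfU⟩ := Submodule.exists_dual_map_eq_bot_of_notMem htU inferInstance
    let lam : R' →ₗ[K] K := (f t)⁻¹ • f
    have hlt : lam t = 1 := by simp [lam, hft]
    have hlU : ∀ u ∈ U, lam u = 0 := by
      intro u hu
      have : f u ∈ U.map f := Submodule.mem_map_of_mem hu
      rw [hfU, Submodule.mem_bot] at this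
      simp [lam, this]
    have hl1 : ∀ c : K, lam (algebraMap K R' c) = 0 := by
      intro c
      apply hlU
      apply Submodule.mem_sup_left
      rw [Algebra.algebraMap_eq_smul_one]
      exact Submodule.smul_mem _ _ (Submodule.mem_span_singleton_self _)
    have hl2 : ∀ z ∈ m' ^ 2, lam z = 0 := fun z hz => hlU z (Submodule.mem_sup_right hz)
    -- key multiplicativity identity
    have hmul : ∀ x y : R', algebraMap K R' (lam (x * y)) * t =
        algebraMap K R' (lam x) * t * y + algebraMap K R' (lam y) * t * x := by
      intro x y
      obtain ⟨cx, hcx⟩ := hres x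
      obtain ⟨cy, hcy⟩ := hres y
      set x' := x - algebraMap K R' cx with hx'
      set y' := y - algebraMap K R' cy with hy'
      have hx : x = algebraMap K R' cx + x' := by rw [hx']; ring
      have hy : y = algebraMap K R' cy + y' := by rw [hy']; ring
      have h1 : x' * t = 0 := htm x' hcx
      have h2 : y' * t = 0 := htm y' hcy
      have hlx : lam x = lam x' := by rw [hx, map_add, hl1, zero_add]
      have hly : lam y = lam y' := by rw [hy, map_add, hl1, zero_add]
      have hxy : lam (x * y) = cx * lam y' + cy * lam x' := by
        have e : x * y = algebraMap K R' (cx * cy) + cx • y' + cy • x' + x' * y' := by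
          rw [hx, hy, map_mul, Algebra.smul_def, Algebra.smul_def]; ring
        have hxy' : lam (x' * y') = 0 := hl2 _ (by rw [pow_two]; exact Ideal.mul_mem_mul hcx hcy)
        rw [e, map_add, map_add, map_add, hl1, map_smul, map_smul, hxy']
        simp
      rw [hxy, hlx, hly]
      have e1 : t * y = algebraMap K R' cy * t := by
        rw [hy]; linear_combination h2
      have e2 : t * x = algebraMap K R' cx * t := by
        rw [hx]; linear_combination h1
      rw [mul_assoc, e1, mul_assoc (algebraMap K R' (lam y')), e2]
      rw [map_add, map_mul, map_mul]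
      ring
    let σ : R' →ₐ[K] R' :=
      { toFun := fun x => x - algebraMap K R' (lam x) * t
        map_one' := by
          have : lam (1 : R') = 0 := by rw [← map_one (algebraMap K R')]; exact hl1 1
          simp [this]
        map_mul' := by
          intro x y
          have h := hmul x y
          have e : (x - algebraMap K R' (lam x) * t) * (y - algebraMap K R' (lam y) * t)
              = x * y - (algebraMap K R' (lam x) * t * y + algebraMap K R' (lam y) * t * x)
                + algebraMap K R' (lam x) * algebraMap K R' (lam y) * (t * t) := by ring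
          rw [e, htt, mul_zero, add_zero, ← h]
        map_zero' := by simp
        map_add' := by
          intro x y
          simp only [map_add]
          ring
        commutes' := by
          intro c
          simp [hl1] }
    have hσt : σ t = 0 := by
      change t - algebraMap K R' (lam t) * t = 0
      rw [hlt, map_one, one_mul, sub_self]
    have hker : ∀ a ∈ Ideal.span {t}, σ a = 0 := by
      intro a ha
      obtain ⟨r, rfl⟩ := Ideal.mem_span_singleton'.mp ha
      rw [map_mul, hσt, mul_zero]
    refine ⟨Ideal.Quotient.liftₐ (Ideal.span {t}) σ hker, ?_⟩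
    intro x
    obtain ⟨x, rfl⟩ := Ideal.Quotient.mk_surjective x
    rw [Ideal.Quotient.liftₐ_apply, Ideal.Quotient.lift_mk]
    change Ideal.Quotient.mk (Ideal.span {t}) (x - algebraMap K R' (lam x) * t) = _
    rw [map_sub, sub_eq_self, Ideal.Quotient.eq_zero_iff_mem]
    exact Ideal.mul_mem_left _ _ (Ideal.mem_span_singleton_self t)

end Groth.Agent.S11288
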