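import Groth.Statements.S11291
import Groth.Agent.Lib.Helper17.EX2

set_option autoImplicit false
universe u
open Deform

namespace Groth.Agent.S11291

/-- Let k be an algebraically closed field and A a local Artinian k-algebra with residue field k and
non-zero maximal ideal, i.e. A is not k. Then the obstruction space o(A) = Ex_k(A, k) is not zero:
there is a k-extension 0 → k → E → A → 0 of A by its residue field which is not trivial (admits no
k-algebra section). Equivalently, k is the only formally smooth object among local Artinian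
k-algebras with residue field k. -/
theorem result
    {k : Type u} [Field k] [IsAlgClosed k]
    {A : Type u} [CommRing A] [Algebra k A] [IsLocalRing A] [IsArtinianRing A]
    (hres : ∀ a : A, ∃ c : k, a - algebraMap k A c ∈ IsLocalRing.maximalIdeal A)
    (hA : IsLocalRing.maximalIdeal A ≠ ⊥) :
    ∃ X : Exal.Ext k A (IsLocalRing.ResidueField A), ¬ X.IsTrivial := by
  classical
  obtain ⟨ρ, hρ⟩ := Groth.Agent.Helper17.EX.exists_rho hres
  let b := Module.Basis.ofVectorSpace k (IsLocalRing.maximalIdeal A).Cotangent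
  have hsurjc := Ideal.toCotangent_surjective (IsLocalRing.maximalIdeal A)
  choose y hy using fun i => hsurjc (b i)
  let x : Module.Basis.ofVectorSpaceIndex k (IsLocalRing.maximalIdeal A).Cotangent → A :=
    fun i => (y i : A)
  have hx : ∀ i, x i ∈ IsLocalRing.maximalIdeal A := fun i => (y i).2
  have hb : ∀ i, (IsLocalRing.maximalIdeal A).toCotangent ⟨x i, hx i⟩ = b i := fun i => hy i
  obtain ⟨N, hN⟩ : ∃ N : ℕ, IsLocalRing.maximalIdeal A ^ N = ⊥ := by
    have h1 := IsArtinianRing.isNilpotent_jacobson_bot (R := A)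
    rw [IsLocalRing.jacobson_eq_maximalIdeal ⊥ bot_ne_top] at h1
    exact h1
  have hsurj := Groth.Agent.Helper17.EX.aeval_surjective ρ hρ x hx b hb hN
  have hJ2 := Groth.Agent.Helper17.EX.ker_le_sq ρ hρ x hx b hb
  have hJne : RingHom.ker (MvPolynomial.aeval x : MvPolynomial _ k →ₐ[k] A) ≠ ⊥ := by
    intro hbot
    obtain ⟨y0, hy0m, hy0⟩ := Submodule.exists_mem_ne_zero_of_ne_bot hA
    obtain ⟨p, hp⟩ := hsurj y0
    have h1 : p ^ N ∈ RingHom.ker (MvPolynomial.aeval x : MvPolynomial _ k →ₐ[k] A) := by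
      rw [RingHom.mem_ker, map_pow, hp]
      have h2 : y0 ^ N ∈ IsLocalRing.maximalIdeal A ^ N := Ideal.pow_mem_pow hy0m N
      rwa [hN, Ideal.mem_bot] at h2
    rw [hbot, Ideal.mem_bot] at h1
    have h2 : p = 0 := eq_zero_of_pow_eq_zero h1
    apply hy0
    rw [← hp, h2, map_zero]
  obtain ⟨j₀, hj₀, hj₀'⟩ : ∃ j₀ ∈ RingHom.ker (MvPolynomial.aeval x : MvPolynomial _ k →ₐ[k] A),
      j₀ ∉ MvPolynomial.idealOfVars _ k *
        RingHom.ker (MvPolynomial.aeval x : MvPolynomial _ k →ₐ[k] A) := by
    by_contra hcon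
    push Not at hcon
    exact hJne (Groth.Agent.Helper17.EX.eq_bot_of_le_mul _ hcon)
  exact Groth.Agent.Helper17.EX.exists_nontrivial_ext ρ hρ x hx hsurj hJ2 j₀ hj₀ hj₀'

end Groth.Agent.S11291
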