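import Groth.Statements.S11294
import Mathlib

set_option autoImplicit false
universe u
open Deform

namespace Groth.Agent.S11294


open TrivSqZeroExt

theorem dn_eq {P : Type u} [CommRing P] (x : DualNumber P) : x = inl x.fst + inr x.snd :=
  (inl_fst_add_inr_snd_eq x).symm

theorem eps_mul_dn {P : Type u} [CommRing P] (a b : P) :
    (DualNumber.eps : DualNumber P) * (inl a + inr b) = inr a := by
  ext <;> simp

theorem inl_mul_dn {P : Type u} [CommRing P] (c a b : P) :
    (inl c : DualNumber P) * (inl a + inr b) = inl (c * a) + inr (c * b) := by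
  ext <;> simp

/-- The ideal of the dual numbers attached to a normal homomorphism. -/
def idealOf {P : Type u} [CommRing P] (J : Ideal P) (φ : J →ₗ[P] (P ⧸ J)) : Ideal (DualNumber P) where
  carrier := {x | ∃ h : x.fst ∈ J, Ideal.Quotient.mk J x.snd = φ ⟨x.fst, h⟩}
  add_mem' := by
    rintro x y ⟨hx, hx'⟩ ⟨hy, hy'⟩
    refine ⟨by simpa using J.add_mem hx hy, ?_⟩
    have e : (⟨(x + y).fst, by simpa using J.add_mem hx hy⟩ : J) = ⟨x.fst, hx⟩ + ⟨y.fst, hy⟩ := by
      ext; simp
    rw [e, map_add, ← hx', ← hy', snd_add, map_add]
  zero_mem' := by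
    refine ⟨by simp, ?_⟩
    have e : (⟨(0 : DualNumber P).fst, by simp⟩ : J) = 0 := by
      ext; simp
    rw [e, map_zero]
    simp
  smul_mem' := by
    rintro c x ⟨hx, hx'⟩
    have hcx : (c • x).fst ∈ J := by
      rw [smul_eq_mul, fst_mul]
      exact J.mul_mem_left _ hx
    refine ⟨hcx, ?_⟩
    have e : (⟨(c • x).fst, hcx⟩ : J) = c.fst • ⟨x.fst, hx⟩ := by
      ext; simp
    rw [e, map_smul, ← hx', smul_eq_mul, DualNumber.snd_mul, map_add, map_mul, map_mul]
    have h0 : Ideal.Quotient.mk J x.fst = 0 := Ideal.Quotient.eq_zero_iff_mem.mpr hx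
    rw [h0, mul_zero, add_zero]
    rfl

theorem mem_idealOf {P : Type u} [CommRing P] (J : Ideal P) (φ : J →ₗ[P] (P ⧸ J)) (a b : P) :
    (inl a + inr b : DualNumber P) ∈ idealOf J φ ↔ ∃ h : a ∈ J, Ideal.Quotient.mk J b = φ ⟨a, h⟩ := by
  have e1 : (inl a + inr b : DualNumber P).fst = a := by simp
  have e2 : (inl a + inr b : DualNumber P).snd = b := by simp
  constructor
  · rintro ⟨h, h'⟩
    have ha : a ∈ J := e1 ▸ h
    refine ⟨ha, ?_⟩
    rw [e2] at h'
    rw [h']
    congr 1
    exact Subtype.ext e1
  · rintro ⟨h, h'⟩
    refine ⟨e1.symm ▸ h, ?_⟩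
    rw [e2, h']
    congr 1
    exact Subtype.ext e1.symm

open TrivSqZeroExt in
/-- Let P be a commutative ring, J an ideal, and P[ε] the ring of dual numbers over P. First-order
embedded deformations of Spec(P/J) in Spec P, namely ideals J' of P[ε] lifting J (the image of J'
under ε ↦ 0 is J) with P[ε]/J' flat over the dual numbers — flatness being replaced by the condition
that every element of P[ε]/J' annihilated by ε is a multiple of ε (equivalent to flatness over k[ε]
when P is an algebra over a field k) — are in canonical bijection with Hom_P(J, P/J) =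
Hom_{P/J}(J/J^2, P/J), the normal module: to φ corresponds the ideal of all a + εb with a in J and b
reducing to φ(a) modulo J. The first clause says this rule defines exactly one ideal for each φ; the
second says an ideal J' is a flat lift of J precisely when its membership is given by this rule for
some φ. (The published statement is the global one, identifying first-order deformations of a closed
subscheme X of an algebraic scheme Y with H^0(X, N_{X/Y}); this row is the affine computation in its
proof, valid for every commutative ring P.) -/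
theorem result (P : Type u) [CommRing P] (J : Ideal P) :
    (∀ φ : J →ₗ[P] (P ⧸ J), ∃! J' : Ideal (DualNumber P),
        ∀ a b : P, (inl a + inr b : DualNumber P) ∈ J' ↔ ∃ h : a ∈ J, Ideal.Quotient.mk J b = φ ⟨a, h⟩) ∧
    (∀ J' : Ideal (DualNumber P),
      (J'.map (TrivSqZeroExt.fstHom P P P) = J ∧
        ∀ m : DualNumber P ⧸ J', Ideal.Quotient.mk J' DualNumber.eps * m = 0 →
          ∃ m' : DualNumber P ⧸ J', m = Ideal.Quotient.mk J' DualNumber.eps * m') ↔
      ∃ φ : J →ₗ[P] (P ⧸ J), ∀ a b : P,
        (inl a + inr b : DualNumber P) ∈ J' ↔ ∃ h : a ∈ J, Ideal.Quotient.mk J b = φ ⟨a, h⟩) := by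
  constructor
  · intro φ
    refine ⟨idealOf J φ, fun a b => mem_idealOf J φ a b, ?_⟩
    intro J'' hJ''
    ext x
    rw [dn_eq x, hJ'', mem_idealOf]
  · intro J'
    constructor
    · rintro ⟨hmap, hε⟩
      have h1 : ∀ x ∈ J', x.fst ∈ J := fun x hx => by
        rw [← hmap]
        exact Ideal.mem_map_of_mem (TrivSqZeroExt.fstHom P P P) hx
      have h2 : ∀ a ∈ J, ∃ b, (inl a + inr b : DualNumber P) ∈ J' := fun a ha => by
        rw [← hmap] at ha
        obtain ⟨x, hx, rfl⟩ := (Ideal.mem_map_iff_of_surjective (TrivSqZeroExt.fstHom P P P)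
          (fun p => ⟨inl p, by simp⟩)).mp ha
        refine ⟨x.snd, ?_⟩
        have : (TrivSqZeroExt.fstHom P P P) x = x.fst := rfl
        rw [this, ← dn_eq x]
        exact hx
      have h3 : ∀ c : P, (inr c : DualNumber P) ∈ J' → c ∈ J := fun c hc => by
        have h0 : Ideal.Quotient.mk J' DualNumber.eps * Ideal.Quotient.mk J' (inl c) = 0 := by
          rw [← map_mul, Ideal.Quotient.eq_zero_iff_mem]
          have := eps_mul_dn c (0 : P)
          rw [inr_zero, add_zero] at this
          rw [this]
          exact hc
        obtain ⟨m', hm'⟩ := hε _ h0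
        obtain ⟨y, rfl⟩ := Ideal.Quotient.mk_surjective m'
        rw [← map_mul, Ideal.Quotient.eq] at hm'
        have := h1 _ hm'
        simpa using this
      have h4 : ∀ c ∈ J, (inr c : DualNumber P) ∈ J' := fun c hc => by
        obtain ⟨b, hb⟩ := h2 c hc
        rw [← eps_mul_dn c b]
        exact J'.mul_mem_left _ hb
      have hwd : ∀ a b b' : P, (inl a + inr b : DualNumber P) ∈ J' → (inl a + inr b' : DualNumber P) ∈ J' →
          Ideal.Quotient.mk J b = Ideal.Quotient.mk J b' := by
        intro a b b' hb hb'
        rw [Ideal.Quotient.eq]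
        apply h3
        have : (inr (b - b') : DualNumber P) = (inl a + inr b) - (inl a + inr b') := by
          rw [inr_sub]
          abel
        rw [this]
        exact J'.sub_mem hb hb'
      let f : J → P := fun a => (h2 a.1 a.2).choose
      have hf : ∀ a : J, (inl a.1 + inr (f a) : DualNumber P) ∈ J' := fun a => (h2 a.1 a.2).choose_spec
      have key : ∀ (a : J) (b : P), (inl a.1 + inr b : DualNumber P) ∈ J' →
          Ideal.Quotient.mk J (f a) = Ideal.Quotient.mk J b := fun a b hb => hwd a.1 _ _ (hf a) hb
      let φ : J →ₗ[P] (P ⧸ J) :=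
        { toFun := fun a => Ideal.Quotient.mk J (f a)
          map_add' := fun a a' => by
            rw [← map_add]
            apply key
            have : (inl (a + a' : J).1 + inr (f a + f a') : DualNumber P) =
                (inl a.1 + inr (f a)) + (inl a'.1 + inr (f a')) := by
              rw [Submodule.coe_add, inl_add, inr_add]
              abel
            rw [this]
            exact J'.add_mem (hf a) (hf a')
          map_smul' := fun c a => by
            rw [RingHom.id_apply]
            have : c • Ideal.Quotient.mk J (f a) = Ideal.Quotient.mk J (c * f a) := rfl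
            rw [this]
            apply key
            have : (inl (c • a : J).1 + inr (c * f a) : DualNumber P) =
                inl c * (inl a.1 + inr (f a)) := by
              rw [inl_mul_dn]
              rfl
            rw [this]
            exact J'.mul_mem_left _ (hf a) }
      refine ⟨φ, fun a b => ?_⟩
      constructor
      · intro hab
        have ha : a ∈ J := by
          have := h1 _ hab
          simpa using this
        exact ⟨ha, (key ⟨a, ha⟩ b hab).symm⟩
      · rintro ⟨ha, hb⟩
        have hb' : Ideal.Quotient.mk J b = Ideal.Quotient.mk J (f ⟨a, ha⟩) := hb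
        rw [Ideal.Quotient.eq] at hb'
        have : (inl a + inr b : DualNumber P) = (inl a + inr (f ⟨a, ha⟩)) + inr (b - f ⟨a, ha⟩) := by
          rw [inr_sub]
          abel
        rw [this]
        exact J'.add_mem (hf ⟨a, ha⟩) (h4 _ hb')
    · rintro ⟨φ, hr⟩
      constructor
      · apply le_antisymm
        · rw [Ideal.map_le_iff_le_comap]
          intro x hx
          rw [dn_eq x, hr] at hx
          obtain ⟨h, -⟩ := hx
          exact h
        · intro a ha
          obtain ⟨b, hb⟩ := Ideal.Quotient.mk_surjective (φ ⟨a, ha⟩)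
          have : (inl a + inr b : DualNumber P) ∈ J' := (hr a b).mpr ⟨ha, hb⟩
          have h5 := Ideal.mem_map_of_mem (TrivSqZeroExt.fstHom P P P) this
          have h6 : (TrivSqZeroExt.fstHom P P P) (inl a + inr b : DualNumber P) = a := by
            change (inl a + inr b : DualNumber P).fst = a
            simp
          rwa [h6] at h5
      · intro m hm
        obtain ⟨x, rfl⟩ := Ideal.Quotient.mk_surjective m
        rw [← map_mul, Ideal.Quotient.eq_zero_iff_mem, dn_eq x, eps_mul_dn] at hm
        have hm' : (inl 0 + inr x.fst : DualNumber P) ∈ J' := by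
          rw [inl_zero, zero_add]
          exact hm
        obtain ⟨h0, hx0⟩ := (hr 0 x.fst).mp hm'
        have e0 : (⟨0, h0⟩ : J) = 0 := rfl
        rw [e0, map_zero, Ideal.Quotient.eq_zero_iff_mem] at hx0
        obtain ⟨b', hb'⟩ := Ideal.Quotient.mk_surjective (φ ⟨x.fst, hx0⟩)
        have hy : (inl x.fst + inr b' : DualNumber P) ∈ J' := (hr _ _).mpr ⟨hx0, hb'⟩
        refine ⟨Ideal.Quotient.mk J' (inl (x.snd - b')), ?_⟩
        rw [← map_mul, Ideal.Quotient.eq]
        have h7 := eps_mul_dn (x.snd - b') (0 : P)
        rw [inr_zero, add_zero] at h7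
        rw [h7]
        have : x - inr (x.snd - b') = inl x.fst + inr b' := by
          ext <;> simp
        rw [this]
        exact hy

end Groth.Agent.S11294
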