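import Groth.Statements.S11298
import Mathlib

set_option autoImplicit false
universe u v
open LocCoh

namespace Groth.Agent.S11298

/-- Let X = Spec B be an affine Noetherian scheme, Z = V(I) a closed subscheme and G a coherent sheaf,
i.e. a finitely generated B-module M, with dual G^v = Hom_B(M, B). If depth_Z(O_X) ≥ 2 then
depth_Z(G^v) ≥ 2. Here the depth along I of a module N is the supremum of the lengths of N-regular
sequences contained in I (and is infinite when I N = N). (The published statement adds that sections
of the dual over X and over X minus Z agree; this row omits that clause.) -/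
theorem result (B : Type u) [CommRing B] [IsNoetherianRing B]
    (I : Ideal B) (M : Type v) [AddCommGroup M] [Module B M] [Module.Finite B M]
    (h : 2 ≤ LocCoh.idealDepth I B) : 2 ≤ LocCoh.idealDepth I (M →ₗ[B] B) := by
  classical
  unfold LocCoh.idealDepth at h ⊢
  split_ifs with hN
  · exact le_top
  · -- the ring case
    by_cases hB : I • (⊤ : Submodule B B) = ⊤
    · exfalso
      apply hN
      rw [eq_top_iff]
      intro φ _
      have h1 : (1 : B) ∈ I := by
        have : (1 : B) ∈ I • (⊤ : Submodule B B) := by rw [hB]; trivial
        rwa [smul_eq_mul, Ideal.mul_top] at this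
      have : φ = (1 : B) • φ := (one_smul _ _).symm
      rw [this]
      exact Submodule.smul_mem_smul h1 trivial
    · rw [if_neg hB] at h
      -- extract a weakly regular sequence of length at least two
      obtain ⟨rs, hrs, hlen⟩ : ∃ rs : List B,
          (RingTheory.Sequence.IsWeaklyRegular B rs ∧ ∀ r ∈ rs, r ∈ I) ∧ 2 ≤ rs.length := by
        by_contra hcon
        push Not at hcon
        have : (⨆ (rs : List B) (_ : RingTheory.Sequence.IsWeaklyRegular B rs ∧ ∀ r ∈ rs, r ∈ I),
            (rs.length : ℕ∞)) ≤ 1 := by
          refine iSup₂_le fun rs hrs => ?_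
          have := hcon rs hrs
          have h1 : rs.length ≤ 1 := by omega
          exact_mod_cast h1
        have h2 : (2 : ℕ∞) ≤ 1 := h.trans this
        exact absurd h2 (by decide)
      obtain ⟨x, rs', rfl⟩ : ∃ x rs', rs = x :: rs' := by
        cases rs with
        | nil => simp at hlen
        | cons x rs' => exact ⟨x, rs', rfl⟩
      obtain ⟨y, rs'', rfl⟩ : ∃ y rs'', rs' = y :: rs'' := by
        cases rs' with
        | nil => simp at hlen
        | cons y rs'' => exact ⟨y, rs'', rfl⟩
      have hxI : x ∈ I := hrs.2 x (by simp)
      have hyI : y ∈ I := hrs.2 y (by simp)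
      have hreg := hrs.1
      rw [RingTheory.Sequence.isWeaklyRegular_cons_iff, RingTheory.Sequence.isWeaklyRegular_cons_iff] at hreg
      obtain ⟨hx, hy, -⟩ := hreg
      -- y regular modulo x, in elementary terms
      have hy' : ∀ b : B, (∃ c, y * b = x * c) → ∃ c, b = x * c := by
        intro b ⟨c, hc⟩
        have h0 : y • (Submodule.Quotient.mk b : QuotSMulTop x B) = y • (0 : QuotSMulTop x B) := by
          rw [smul_zero, ← Submodule.Quotient.mk_smul, Submodule.Quotient.mk_eq_zero, smul_eq_mul, hc]
          exact Submodule.smul_mem_pointwise_smul c x ⊤ trivial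
        have h1 := hy h0
        rw [Submodule.Quotient.mk_eq_zero] at h1
        obtain ⟨c', -, hc'⟩ := h1
        exact ⟨c', hc'.symm⟩
      have hx' : ∀ a b : B, x * a = x * b → a = b := fun a b hab => hx hab
      have hwr : RingTheory.Sequence.IsWeaklyRegular (M →ₗ[B] B) [x, y] := by
        rw [RingTheory.Sequence.isWeaklyRegular_cons_iff, RingTheory.Sequence.isWeaklyRegular_cons_iff]
        refine ⟨?_, ?_, RingTheory.Sequence.IsWeaklyRegular.nil _ _⟩
        · intro φ ψ hφψ
          ext m
          have := LinearMap.congr_fun hφψ m
          exact hx' _ _ this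
        · -- regularity of y on the quotient
          intro a b hab
          obtain ⟨φ, rfl⟩ := Submodule.Quotient.mk_surjective _ a
          obtain ⟨ψ, rfl⟩ := Submodule.Quotient.mk_surjective _ b
          have hab' : y • (Submodule.Quotient.mk φ : QuotSMulTop x (M →ₗ[B] B)) =
              y • Submodule.Quotient.mk ψ := hab
          rw [← Submodule.Quotient.mk_smul, ← Submodule.Quotient.mk_smul, Submodule.Quotient.eq] at hab'
          obtain ⟨θ, -, hθ⟩ := hab'
          have hθ' : ∀ m, x * θ m = y * (φ m - ψ m) := fun m => by
            have := LinearMap.congr_fun hθ m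
            simpa [mul_sub] using this
          have hch : ∀ m, ∃ c, φ m - ψ m = x * c := fun m => hy' _ ⟨θ m, (hθ' m).symm⟩
          choose χ hχ using hch
          let χl : M →ₗ[B] B :=
            { toFun := χ
              map_add' := fun m n => by
                apply hx'
                rw [mul_add, ← hχ, ← hχ, ← hχ, map_add, map_add]
                ring
              map_smul' := fun r m => by
                apply hx'
                rw [RingHom.id_apply, smul_eq_mul, ← mul_assoc, mul_comm x r, mul_assoc, ← hχ, ← hχ,
                  map_smul, map_smul, smul_eq_mul, smul_eq_mul]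
                ring }
          rw [Submodule.Quotient.eq]
          refine ⟨χl, trivial, ?_⟩
          ext m
          change x • χl m = (φ - ψ) m
          rw [LinearMap.sub_apply, hχ m]
          rfl
      refine le_trans ?_ (le_iSup₂ (f := fun (rs : List B)
        (_ : RingTheory.Sequence.IsWeaklyRegular (M →ₗ[B] B) rs ∧ ∀ r ∈ rs, r ∈ I) => (rs.length : ℕ∞))
        [x, y] ⟨hwr, by simp [hxI, hyI]⟩)
      simp

end Groth.Agent.S11298
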