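import Groth.Statements.S11302
import Groth.Agent.Lib.Helper17.CI1

set_option autoImplicit false
universe u
open Deform

namespace Groth.Agent.S11302

open MvPolynomial in
/-- T^1 of a complete intersection; the hypersurface case P/(f, ∂f/∂X_1, ..., ∂f/∂X_d) is n = 1: let k
be an algebraically closed field, P = k[X_1, ..., X_d], f_1, ..., f_n a regular sequence in P (each
f_i a non-zero-divisor modulo the preceding ones), J the ideal they generate and B = P/J. The first
cotangent module T^1_B — the cokernel of Der_k(P, B) → Hom_P(J, B), a derivation being restricted to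
J — is isomorphic, as a P-module, to B^n modulo the B-submodule generated by the d columns
(∂f_1/∂X_j, ..., ∂f_n/∂X_j), j = 1, ..., d, of the Jacobian matrix reduced modulo J, through the map
sending the class of φ : J → B to the class of (φ(f_1), ..., φ(f_n)). (The published formula allows
P to be a localisation of the polynomial ring; this row takes the polynomial ring.) -/
theorem result (k : Type u) [Field k] [IsAlgClosed k] (d n : ℕ)
    (f : Fin n → MvPolynomial (Fin d) k) (hreg : RingTheory.Sequence.IsWeaklyRegular (MvPolynomial (Fin d) k) (List.ofFn f)) :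
    ∃ e : ((↥(Ideal.span (Set.range f)) →ₗ[MvPolynomial (Fin d) k] (MvPolynomial (Fin d) k ⧸ Ideal.span (Set.range f))) ⧸
            Submodule.span (MvPolynomial (Fin d) k)
              {ψ : ↥(Ideal.span (Set.range f)) →ₗ[MvPolynomial (Fin d) k] (MvPolynomial (Fin d) k ⧸ Ideal.span (Set.range f)) |
                ∃ D : Derivation k (MvPolynomial (Fin d) k) (MvPolynomial (Fin d) k ⧸ Ideal.span (Set.range f)), ∀ a : ↥(Ideal.span (Set.range f)), ψ a = D (a : MvPolynomial (Fin d) k)}) ≃ₗ[MvPolynomial (Fin d) k]
          ((Fin n → MvPolynomial (Fin d) k ⧸ Ideal.span (Set.range f)) ⧸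
            Submodule.span (MvPolynomial (Fin d) k ⧸ Ideal.span (Set.range f))
              (Set.range fun j : Fin d => fun i : Fin n => Ideal.Quotient.mk (Ideal.span (Set.range f)) (pderiv j (f i)))),
      ∀ φ : ↥(Ideal.span (Set.range f)) →ₗ[MvPolynomial (Fin d) k] (MvPolynomial (Fin d) k ⧸ Ideal.span (Set.range f)),
        e (Submodule.Quotient.mk φ) =
          Submodule.Quotient.mk (fun i : Fin n => φ ⟨f i, Ideal.subset_span (Set.mem_range_self i)⟩) := by
  classical
  let ev := Groth.Agent.Helper17.CI.evEquiv f hreg
  have hmap : Submodule.map (ev : _ →ₗ[MvPolynomial (Fin d) k] _)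
      (Submodule.span (MvPolynomial (Fin d) k)
        {ψ : ↥(Ideal.span (Set.range f)) →ₗ[MvPolynomial (Fin d) k] (MvPolynomial (Fin d) k ⧸ Ideal.span (Set.range f)) |
          ∃ D : Derivation k (MvPolynomial (Fin d) k) (MvPolynomial (Fin d) k ⧸ Ideal.span (Set.range f)), ∀ a : ↥(Ideal.span (Set.range f)), ψ a = D (a : MvPolynomial (Fin d) k)}) =
      (Submodule.span (MvPolynomial (Fin d) k ⧸ Ideal.span (Set.range f))
        (Set.range fun j : Fin d => fun i : Fin n => Ideal.Quotient.mk (Ideal.span (Set.range f)) (pderiv j (f i)))).restrictScalars (MvPolynomial (Fin d) k) := by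
    rw [Submodule.map_span]
    apply le_antisymm
    · rw [Submodule.span_le]
      rintro _ ⟨ψ, ⟨D, hD⟩, rfl⟩
      rw [SetLike.mem_coe, Submodule.restrictScalars_mem]
      have h1 : (ev : _ →ₗ[MvPolynomial (Fin d) k] _) ψ = ∑ j : Fin d, D (MvPolynomial.X j) •
          (fun i : Fin n => Ideal.Quotient.mk (Ideal.span (Set.range f)) (pderiv j (f i))) := by
        funext i
        change ψ ⟨f i, _⟩ = _
        rw [hD, Groth.Agent.Helper17.CI.derivation_eq_sum D (f i), Finset.sum_apply]
        refine Finset.sum_congr rfl fun j _ => ?_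
        rw [Pi.smul_apply, smul_eq_mul]
        obtain ⟨y, hy⟩ := Ideal.Quotient.mk_surjective (D (MvPolynomial.X j))
        rw [← hy, ← map_mul, mul_comm]
        rfl
      rw [h1]
      exact Submodule.sum_mem _ fun j _ => Submodule.smul_mem _ _ (Submodule.subset_span ⟨j, rfl⟩)
    · have h2 : (Submodule.span (MvPolynomial (Fin d) k ⧸ Ideal.span (Set.range f))
          (Set.range fun j : Fin d => fun i : Fin n => Ideal.Quotient.mk (Ideal.span (Set.range f)) (pderiv j (f i)))).restrictScalars (MvPolynomial (Fin d) k) =
          Submodule.span (MvPolynomial (Fin d) k)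
            (Set.range fun j : Fin d => fun i : Fin n => Ideal.Quotient.mk (Ideal.span (Set.range f)) (pderiv j (f i))) :=
        Submodule.restrictScalars_span _ _ Ideal.Quotient.mk_surjective _
      rw [h2, Submodule.span_le]
      rintro _ ⟨j, rfl⟩
      apply Submodule.subset_span
      let Dj : Derivation k (MvPolynomial (Fin d) k) (MvPolynomial (Fin d) k ⧸ Ideal.span (Set.range f)) :=
        (Submodule.mkQ (Ideal.span (Set.range f))).compDer (pderiv j)
      refine ⟨Groth.Agent.Helper17.CI.derRestrict _ Dj, ⟨Dj, fun a => rfl⟩, ?_⟩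
      funext i
      rfl
  refine ⟨(Submodule.Quotient.equiv _ _ ev hmap).trans
    (Submodule.Quotient.restrictScalarsEquiv (MvPolynomial (Fin d) k) _), fun φ => ?_⟩
  rfl

end Groth.Agent.S11302
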