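import Groth.Statements.S11306
import Mathlib

set_option autoImplicit false
universe u
open TensorProduct
open CAlg

namespace Groth.Agent.S11306

/-- Take a Noetherian local domain A, with residue field k and fraction field K, and let M be a finitely
generated A-module. If k ⊗_A M and K ⊗_A M have the same dimension r (over k and over K
respectively), then M is a free A-module of rank r. -/
theorem result (A : Type u) [CommRing A] [IsDomain A]
    [IsNoetherianRing A] [IsLocalRing A] (M : Type u) [AddCommGroup M] [Module A M] [Module.Finite A M] (r : ℕ)
    (hk : Module.finrank (IsLocalRing.ResidueField A) (IsLocalRing.ResidueField A ⊗[A] M) = r)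
    (hK : Module.finrank (FractionRing A) (FractionRing A ⊗[A] M) = r) :
    Module.Free A M ∧ Module.finrank A M = r := by
  classical
  let k := IsLocalRing.ResidueField A
  let K := FractionRing A
  let w := Module.finBasisOfFinrankEq k (k ⊗[A] M) hk
  have hsurj : Function.Surjective (TensorProduct.mk A k M 1) :=
    TensorProduct.mk_surjective A M k Ideal.Quotient.mk_surjective
  choose v hv using fun i => hsurj (w i)
  have hspan : Submodule.span A (Set.range v) = ⊤ :=
    IsLocalRing.span_eq_top_of_tmul_eq_basis v w hv
  -- the images in K ⊗ M span and hence are linearly independent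
  have hspanK : ⊤ ≤ Submodule.span K (Set.range (fun i => (1 : K) ⊗ₜ[A] v i)) := by
    have h1 := Submodule.baseChange_span (R := A) (A := K) (Set.range v)
    rw [hspan, Submodule.baseChange_top, ← Set.range_comp] at h1
    rw [h1]
    rfl
  have hliK : LinearIndependent K (fun i => (1 : K) ⊗ₜ[A] v i) :=
    linearIndependent_of_top_le_span_of_card_eq_finrank hspanK (by rw [Fintype.card_fin]; exact hK.symm)
  have hli : LinearIndependent A v := by
    rw [Fintype.linearIndependent_iff]
    intro g hg i
    have h2 : ∑ j, (algebraMap A K (g j)) • ((1 : K) ⊗ₜ[A] v j) = 0 := by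
      have := congrArg (TensorProduct.mk A K M 1) hg
      rw [map_sum, map_zero] at this
      rw [← this]
      refine Finset.sum_congr rfl fun j _ => ?_
      rw [map_smul, TensorProduct.mk_apply, algebraMap_smul]
    have h3 := Fintype.linearIndependent_iff.mp hliK _ h2 i
    exact (IsFractionRing.injective A K) (by rw [h3, map_zero])
  let b : Module.Basis (Fin r) A M := Module.Basis.mk hli hspan.ge
  exact ⟨Module.Free.of_basis b, by rw [Module.finrank_eq_card_basis b, Fintype.card_fin]⟩

end Groth.Agent.S11306
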