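import Groth.Statements.S1131
import Mathlib.AlgebraicGeometry.Sites.Fpqc
-- import your own Groth.Agent.* helpers here

set_option autoImplicit false
open CategoryTheory CategoryTheory.Limits AlgebraicGeometry Opposite
universe u
open Desc

namespace Groth.Agent.S1131

set_option backward.isDefEq.respectTransparency false in
set_option backward.isDefEq.respectTransparency.types false in
theorem coeq {X S : Scheme.{u}} (p : X ⟶ S) {U U' : Over S}
    (ψ : (Desc.toDD p).obj U ⟶ (Desc.toDD p).obj U') {Z : Scheme.{u}}
    (g₁ g₂ : Z ⟶ pullback p U.hom) (hg : g₁ ≫ pullback.snd p U.hom = g₂ ≫ pullback.snd p U.hom) :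
    g₁ ≫ ψ.hom.left ≫ pullback.snd p U'.hom = g₂ ≫ ψ.hom.left ≫ pullback.snd p U'.hom := by
  have hx : (g₁ ≫ pullback.fst p U.hom) ≫ p = (g₂ ≫ pullback.fst p U.hom) ≫ p := by
    rw [Category.assoc, Category.assoc, pullback.condition, ← Category.assoc, hg, Category.assoc]
  have hψ : ψ.hom.left ≫ pullback.fst p U'.hom = pullback.fst p U.hom := Over.w ψ.hom
  have := ψ.comm (g₁ ≫ pullback.fst p U.hom) (g₂ ≫ pullback.fst p U.hom) hx ⟨g₁, rfl⟩
    ⟨g₁ ≫ ψ.hom.left, by
      change (g₁ ≫ ψ.hom.left) ≫ pullback.fst p U'.hom = _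
      rw [Category.assoc, hψ]⟩ rfl
  have h2 := congrArg (fun t => t ≫ pullback.snd p U'.hom) this
  have h3 : ∀ hh, pullback.lift (g₂ ≫ pullback.fst p U.hom) (g₁ ≫ pullback.snd p U.hom) hh = g₂ := by
    intro hh
    apply pullback.hom_ext <;> simp [hg]
  simp only [Desc.toDD, Desc.canonicalDD, Equiv.coe_fn_mk, Desc.canMap_val, Category.assoc,
    pullback.lift_snd] at h2
  rw [h2, h3]

set_option backward.isDefEq.respectTransparency false in
set_option backward.isDefEq.respectTransparency.types false in
theorem aux {X S : Scheme.{u}} (p : X ⟶ S) [Surjective p] [Flat p] [QuasiCompact p] :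
    (Desc.toDD p).Full := by
  constructor
  intro U U' ψ
  let ψl : pullback p U.hom ⟶ pullback p U'.hom := ψ.hom.left
  have hψ : ψl ≫ pullback.fst p U'.hom = pullback.fst p U.hom := Over.w ψ.hom
  let d : U.left ⟶ U'.left := EffectiveEpi.desc (pullback.snd p U.hom)
    (ψl ≫ pullback.snd p U'.hom) (fun g₁ g₂ hg => coeq p ψ g₁ g₂ hg)
  have hd : pullback.snd p U.hom ≫ d = ψl ≫ pullback.snd p U'.hom :=
    EffectiveEpi.fac _ _ _
  have hdw : d ≫ U'.hom = U.hom := by
    rw [← cancel_epi (pullback.snd p U.hom), ← Category.assoc, hd, Category.assoc,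
      ← pullback.condition, ← Category.assoc, hψ, pullback.condition]
  refine ⟨Over.homMk d hdw, ?_⟩
  apply Desc.SchDD.hom_ext
  ext1
  change pullback.map p U.hom p U'.hom (𝟙 X) d (𝟙 S) (by simp) (by simp [hdw]) = ψl
  apply pullback.hom_ext
  · rw [hψ]; simp
  · rw [← hd]; simp

/-- If p : X ⟶ S is surjective, flat and quasi-compact, then the functor sending a scheme over S to its
canonical descent datum relative to p is full. (Faithfulness, which needs no quasi-compactness, is a
companion statement.) (Descent data are taken in functor-of-points form, equivalent by the Yoneda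
lemma to the usual form of an isomorphism over X ×_S X satisfying the cocycle condition.) -/
theorem result {X S : Scheme.{u}} (p : X ⟶ S) [Surjective p] [Flat p] [QuasiCompact p] :
    (Desc.toDD p).Full := by
  exact aux p

end Groth.Agent.S1131
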