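import Groth.Statements.S11320
import Groth.Agent.Lib.Helper13.ColimCoh

set_option autoImplicit false
universe u
open CategoryTheory CategoryTheory.Limits
open CohTop

namespace Groth.Agent.S11320

/-- On a Noetherian topological space X, the direct limit, in the category of abelian sheaves, of a
directed system (F_i) of flasque abelian sheaves indexed by a nonempty directed preorder is flasque
(all its restriction maps are surjective). -/
theorem result {X : TopCat.{u}} [TopologicalSpace.NoetherianSpace X]
    (ι : Type u) [Preorder ι] [IsDirected ι (· ≤ ·)] [Nonempty ι]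
    (D : ι ⥤ CohTop.Ab X) (hD : ∀ i : ι, TopCat.Sheaf.IsFlasque (D.obj i)) :
    TopCat.Sheaf.IsFlasque (colimit D : CohTop.Ab X) := by
  have hqs : Groth.Agent.Helper13.ColimSec.QSep (⊤ : TopologicalSpace.Opens X) :=
    fun V W _ _ _ _ => TopologicalSpace.NoetherianSpace.isCompact _
  have hfl : ∀ j, Groth.Agent.Helper13.QcFlasque.QcFl (⊤ : TopologicalSpace.Opens X) (D.obj j) :=
    fun j => @Groth.Agent.Helper13.QcFlasque.qcFl_of_isFlasque _ ⊤ _ (hD j)
  have h1 := Groth.Agent.Helper13.ColimCoh.qcFl_colimit ⊤ hqs D hfl _ (colimit.isColimit D)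
  refine ⟨fun {U V} i => ?_⟩
  rw [AddCommGrpCat.epi_iff_surjective]
  exact h1 V.unop U.unop i.unop.le le_top (TopologicalSpace.NoetherianSpace.isCompact _)
    (TopologicalSpace.NoetherianSpace.isCompact _)

end Groth.Agent.S11320
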