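import Groth.Statements.S11347
import Groth.Agent.Lib.Helper20.NormIndec
import Groth.Agent.Lib.Helper20.RegCurve

set_option autoImplicit false
universe u
open CategoryTheory CategoryTheory.Limits AlgebraicGeometry
open Curves

namespace Groth.Agent.S11347


theorem result (k : Type u) [Field k] [IsAlgClosed k] (C : Scheme.{u}) [C.Over (Spec (CommRingCat.of k))]
    [IsIntegral C] [IsProper (C ↘ (Spec (CommRingCat.of k)))] (hdimC : topologicalKrullDim C = 1)
    (hregC : ∀ x : C, IsRegularLocalRing (C.presheaf.stalk x))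
    (E : C.Modules) (hE : FlatMod.IsFinLocFreeOfRank 2 E)
    (hn0 : Nontrivial (Coh.HH C E 0))
    (hneg : ∀ M : C.Modules, PicF.IsInvertible M → Curv2.deg k C M 1 < 0 → Subsingleton (Coh.HH C (CohB1.tensorMod E M) 0))
    (hind : ∀ L₁ L₂ : C.Modules, PicF.IsInvertible L₁ → PicF.IsInvertible L₂ → IsEmpty (E ≅ L₁ ⊞ L₂)) :
    2 - 2 * (Curv2.genus k C : ℤ) ≤ Curv2.deg k C E 2 ∧ Curv2.deg k C E 2 ≤ 2 * (Curv2.genus k C : ℤ) := by
  haveI : LocallyOfFiniteType (C ↘ (Spec (CommRingCat.of k))) := inferInstance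
  haveI : Smooth (C ↘ (Spec (CommRingCat.of k))) :=
    Groth.Agent.Helper20.RegCurve.smooth_of_regular k _ hregC
  exact ⟨Groth.Agent.Helper20.NormIndec.two_sub_le_deg k hdimC E hE hn0 hneg hind,
    Groth.Agent.Helper20.NormIndec.deg_le_two_genus k hdimC E hE hneg⟩

end Groth.Agent.S11347
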