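import Groth.Statements.S11360
import Groth.Agent.Lib.Helper8.LOC16
import Groth.Agent.Lib.Helper11.LDer5
import Groth.Agent.Lib.Helper8.FLD4
import Groth.Agent.Lib.Helper8.DFin3
import Groth.Agent.Lib.Helper11.DCInjAmp

set_option autoImplicit false
universe u
open CategoryTheory
attribute [local instance] HasDerivedCategory.standard
open Dual

namespace Groth.Agent.S11360

/-- Let A be a Noetherian ring and R an object of D(A) with finite cohomology modules and of finite
injective dimension (isomorphic to a bounded complex of injective modules). If for every prime p of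
A the derived base change of R to A_p (the total left derived functor of extension of scalars,
assumed to exist) is a dualizing complex for A_p, then R is a dualizing complex for A. (The
published statement is for a locally Noetherian scheme and the stalks at all points; this row is the
affine case. Without the global finite injective dimension hypothesis the conclusion fails, e.g. for
a regular Noetherian ring of infinite Krull dimension.) -/
theorem result (A : Type u) [CommRing A] [IsNoetherianRing A] (R : Dual.D A) (hfin : ∀ i : ℤ, Module.Finite A (Dual.HD A R i)) (hfid : DRing.HasFiniteInjDim A R) [∀ p : PrimeSpectrum A, DRing.HasLBaseChange (algebraMap A (Localization.AtPrime p.asIdeal))] (h : ∀ p : PrimeSpectrum A, Dual.IsDualizing (Localization.AtPrime p.asIdeal) ((DRing.LBaseChange (algebraMap A (Localization.AtPrime p.asIdeal))).obj R)) : Dual.IsDualizing A R := by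
  obtain ⟨a, b, hab⟩ := hfid
  obtain ⟨hge, hle⟩ := Groth.Agent.Helper8.DFin.isGE_isLE_of_injAmp R a b hab
  refine Groth.Agent.Helper8.LOC.isDualizing_of_forall_maximal R a b
    (fun i hi => ?_) hfin ⟨a, b, fun M _ _ i hi => ?_⟩ (fun m hm => ?_)
  · rcases hi with hi | hi
    · exact R.isZero_of_isGE a i hi
    · exact R.isZero_of_isLE b i hi
  · refine ⟨fun x y => ?_⟩
    rw [Groth.Agent.Helper11.DC.hom_eq_zero_of_injAmp R a b hab (ModuleCat.of A M) i hi x,
      Groth.Agent.Helper11.DC.hom_eq_zero_of_injAmp R a b hab (ModuleCat.of A M) i hi y]
  · have h1 := h ⟨m, hm.isPrime⟩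
    haveI : DRing.HasLBaseChange (algebraMap A (Localization.AtPrime m)) :=
      inferInstanceAs (DRing.HasLBaseChange (algebraMap A
        (Localization.AtPrime (⟨m, hm.isPrime⟩ : PrimeSpectrum A).asIdeal)))
    obtain ⟨e⟩ := Groth.Agent.Helper11.LDer.nonempty_totalLeftDerived_iso_of_exact
      (Groth.Agent.Helper8.LOC.Efun (algebraMap A (Localization.AtPrime m)))
    exact Groth.Agent.Helper8.FLD.isDualizing_of_iso (e.app R) h1

end Groth.Agent.S11360
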