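import Groth.Statements.S11361
import Groth.Agent.Lib.Helper8.RelDz9

set_option autoImplicit false
universe u
open CategoryTheory
open scoped TensorProduct
open Dual

namespace Groth.Agent.S11361
attribute [local instance] HasDerivedCategory.standard


/-- Let A be a Noetherian ring, n ≤ N, P = A[t_1, …, t_N], I an ideal of P with B = P/I flat over A.
Then all fibre rings B ⊗_A κ(p) are Cohen–Macaulay with every irreducible component of dimension n
(every minimal prime of the fibre ring has coheight n in its spectrum) if and only if Ext^j_P(B, P)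
vanishes for j ≠ N − n and Ext^{N−n}_P(B, P) is A-flat. (The published statement is for a flat
morphism of locally Noetherian schemes factoring through a closed immersion into a separated smooth
scheme, with f^! of the structure sheaf in place of the Ext modules; this row is the affine case of
a closed subscheme of affine N-space, where the two agree up to a shift and a twist by the trivial
canonical module.) -/
theorem result (A : Type u) [CommRing A] [IsNoetherianRing A] (N n : ℕ) (hnN : n ≤ N) (I : Ideal (MvPolynomial (Fin N) A)) [Module.Flat A (MvPolynomial (Fin N) A ⧸ I)] : (∀ p : PrimeSpectrum A, LocCoh.IsCohenMacaulayRing ((MvPolynomial (Fin N) A ⧸ I) ⊗[A] p.asIdeal.ResidueField) ∧ ∀ Q : PrimeSpectrum ((MvPolynomial (Fin N) A ⧸ I) ⊗[A] p.asIdeal.ResidueField), Q.asIdeal ∈ minimalPrimes ((MvPolynomial (Fin N) A ⧸ I) ⊗[A] p.asIdeal.ResidueField) → Order.coheight Q = (n : ℕ∞)) ↔ ((∀ j : ℕ, j ≠ N - n → Subsingleton (Abelian.Ext (ModuleCat.of (MvPolynomial (Fin N) A) (MvPolynomial (Fin N)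 A ⧸ I)) (ModuleCat.of (MvPolynomial (Fin N) A) (MvPolynomial (Fin N) A)) j)) ∧ Module.Flat A (RestrictScalars A (MvPolynomial (Fin N) A) (Abelian.Ext (ModuleCat.of (MvPolynomial (Fin N) A) (MvPolynomial (Fin N) A ⧸ I)) (ModuleCat.of (MvPolynomial (Fin N) A) (MvPolynomial (Fin N) A)) (N - n)))) := by
  classical
  haveI hLB : DRing.HasLBaseChange (algebraMap A (MvPolynomial (Fin N) A)) :=
    Groth.Agent.Helper3.KP.hasLeftDerivedFunctor _
  have hψ : Function.Surjective (Ideal.Quotient.mkₐ A I) := Ideal.Quotient.mkₐ_surjective A I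
  obtain ⟨Rψ, ⟨adj⟩⟩ := Groth.Agent.Helper11.Shr.exists_rightAdj
    (Ideal.Quotient.mkₐ A I).toRingHom
  obtain ⟨ι⟩ := Groth.Agent.Helper8.ShG.nonempty_LBaseChange_unit_iso A (MvPolynomial (Fin N) A)
  have adj' : DRing.restrictD (algebraMap (MvPolynomial (Fin N) A) (MvPolynomial (Fin N) A ⧸ I)) ⊣
    Rψ := adj
  have hsurj : Function.Surjective (algebraMap (MvPolynomial (Fin N) A)
    (MvPolynomial (Fin N) A ⧸ I)) := Ideal.Quotient.mk_surjective
  haveI hft : Algebra.FiniteType A (MvPolynomial (Fin N) A ⧸ I) :=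
    Groth.Agent.Helper16.FibPD.finiteType_of_surj N hsurj
  have hL : (∀ p : PrimeSpectrum A,
      LocCoh.IsCohenMacaulayRing ((MvPolynomial (Fin N) A ⧸ I) ⊗[A] p.asIdeal.ResidueField) ∧
      ∀ Q : PrimeSpectrum ((MvPolynomial (Fin N) A ⧸ I) ⊗[A] p.asIdeal.ResidueField),
        Q.asIdeal ∈ minimalPrimes ((MvPolynomial (Fin N) A ⧸ I) ⊗[A] p.asIdeal.ResidueField) →
          Order.coheight Q = (n : ℕ∞)) ↔
      ∀ (p : Ideal A) [p.IsPrime],
        Groth.Agent.Helper8.RelDz.FibCM A (MvPolynomial (Fin N) A ⧸ I) p ∧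
        Groth.Agent.Helper8.RelDz.FibEquidim A (MvPolynomial (Fin N) A ⧸ I) p n := by
    constructor
    · intro h p hp
      exact (Groth.Agent.Helper8.RelDz.fibre_hyp_iff A (MvPolynomial (Fin N) A ⧸ I) ⟨p, hp⟩ n).mp
        (h ⟨p, hp⟩)
    · intro h p
      exact (Groth.Agent.Helper8.RelDz.fibre_hyp_iff A (MvPolynomial (Fin N) A ⧸ I) p n).mpr
        (h p.asIdeal)
  rw [hL]
  constructor
  · intro hfib
    obtain ⟨hfd, hpd⟩ := Groth.Agent.Helper8.RelDz.pd_of_fib N hsurj n hfib
    have hamp := Groth.Agent.Helper8.RelDz.hasTorAmplitudeIn_shriekVia' A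
      (MvPolynomial (Fin N) A ⧸ I) N (Ideal.Quotient.mkₐ A I) hψ Rψ adj n
      (fun q => (hfd q).le) (N - n) hpd
    have hcast : ((N - n : ℕ) : ℤ) - N = -(n : ℤ) := by omega
    rw [hcast] at hamp
    obtain ⟨hflat, hz⟩ := Groth.Agent.Helper8.RelDz.flat_HD_of_hasTorAmplitudeIn A (-(n : ℤ)) _ hamp
    have hiso := fun i : ℤ => Groth.Agent.Helper11.DC.homologyRestrictIso
      (algebraMap A (MvPolynomial (Fin N) A ⧸ I)) (Dual2.shriekVia N Rψ (Dual.inD A A)) i
    have hsub : ∀ i : ℤ, i ≠ -(n : ℤ) → Subsingleton (Dual.HD (MvPolynomial (Fin N) A ⧸ I)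
        (Dual2.shriekVia N Rψ (Dual.inD A A)) i) := by
      intro i hi
      have h1 := (hz i hi).of_iso (hiso i).symm
      have h2 : Subsingleton ((ModuleCat.restrictScalars.{u}
          (algebraMap A (MvPolynomial (Fin N) A ⧸ I))).obj
          ((DerivedCategory.homologyFunctor (ModuleCat.{u} (MvPolynomial (Fin N) A ⧸ I)) i).obj
            (Dual2.shriekVia N Rψ (Dual.inD A A)))) := ModuleCat.subsingleton_of_isZero h1
      exact h2
    refine ⟨fun j hj => ?_, ?_⟩
    · obtain ⟨Φ, -⟩ := Groth.Agent.Helper8.ShE.exists_semilinear_equiv_ext Rψ adj' _ ι j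
      let e := Groth.Agent.Helper8.LOC.homologyShiftEquiv
        (Rψ.obj ((DRing.LBaseChange (algebraMap A (MvPolynomial (Fin N) A))).obj (Dual.inD A A)))
        (N : ℤ) ((j : ℤ) - N) (j : ℤ) (by omega)
      haveI := hsub ((j : ℤ) - N) (by omega)
      exact (Φ.symm.toEquiv.trans e.symm.toEquiv).subsingleton
    · obtain ⟨Φ, hΦ⟩ := Groth.Agent.Helper8.GF.exists_semilinear_equiv_ext_shift Rψ adj' _ ι N n hnN
      haveI hfl : Module.Flat A ((ModuleCat.restrictScalars.{u}
          (algebraMap A (MvPolynomial (Fin N) A ⧸ I))).obj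
          ((DerivedCategory.homologyFunctor (ModuleCat.{u} (MvPolynomial (Fin N) A ⧸ I)) (-(n : ℤ))).obj
            (Dual2.shriekVia N Rψ (Dual.inD A A)))) :=
        Module.Flat.of_linearEquiv (hiso (-(n : ℤ))).symm.toLinearEquiv
      let L : ((ModuleCat.restrictScalars.{u}
          (algebraMap A (MvPolynomial (Fin N) A ⧸ I))).obj
          ((DerivedCategory.homologyFunctor (ModuleCat.{u} (MvPolynomial (Fin N) A ⧸ I)) (-(n : ℤ))).obj
            (Dual2.shriekVia N Rψ (Dual.inD A A))))
          ≃ₗ[A] RestrictScalars A (MvPolynomial (Fin N) A)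
            (Abelian.Ext (ModuleCat.of (MvPolynomial (Fin N) A) (MvPolynomial (Fin N) A ⧸ I))
              (ModuleCat.of (MvPolynomial (Fin N) A) (MvPolynomial (Fin N) A)) (N - n)) :=
        { toFun := fun y => Φ y
          map_add' := fun x y => Φ.map_add x y
          map_smul' := fun a y => by
            have h1 := hΦ (algebraMap A (MvPolynomial (Fin N) A) a) y
            rw [← IsScalarTower.algebraMap_apply] at h1
            exact h1
          invFun := fun z => Φ.symm z
          left_inv := fun y => Φ.symm_apply_apply y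
          right_inv := fun z => Φ.apply_symm_apply z }
      exact Module.Flat.of_linearEquiv L.symm
  · rintro ⟨hvan, -⟩ p hp
    exact Groth.Agent.Helper8.RelDz.fib_of_ext_vanishing N hsurj n hnN hvan p

end Groth.Agent.S11361
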