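import Groth.Statements.S11365
import Groth.Agent.Lib.Helper8.GF7
import Groth.Agent.Lib.Helper8.ShG4
import Groth.Agent.Lib.Helper11.Shr11
import Groth.Agent.Lib.Helper3.KP2
import Groth.Agent.S1786

set_option autoImplicit false
universe u
open CategoryTheory
open scoped TensorProduct
open Dual

namespace Groth.Agent.S11365

/-- Let A be a Noetherian ring, n ≤ N, P = A[t_1, …, t_N], I an ideal of P with B = P/I flat over A, and
suppose Ext^j_P(B, P) vanishes for j ≠ N − n while Ext^{N−n}_P(B, P) is A-flat. Then Ext^{N−n}_P(B,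
P) is P-isomorphic to an invertible B-module if and only if all fibre rings B ⊗_A κ(p) are
Gorenstein. (The published statement is for the degree −n cohomology of f^! of the structure sheaf
of a CM morphism of locally Noetherian schemes with pure relative dimension n; this row is the
affine case of a closed subscheme of affine N-space.) -/
theorem result (A : Type u) [CommRing A] [IsNoetherianRing A] (N n : ℕ) (hnN : n ≤ N) (I : Ideal (MvPolynomial (Fin N) A)) [Module.Flat A (MvPolynomial (Fin N) A ⧸ I)] (hvan : ∀ j : ℕ, j ≠ N - n → Subsingleton (Abelian.Ext (ModuleCat.of (MvPolynomial (Fin N) A) (MvPolynomial (Fin N) A ⧸ I)) (ModuleCat.of (MvPolynomial (Fin N) A) (MvPolynomial (Fin N) A)) j)) (hflat : Module.Flat A (RestrictScalars A (MvPolynomial (Fin N) A) (Abelian.Ext (ModuleCat.of (MvPolynomial (Fin N) A) (MvPolynomial (Fin N) A ⧸ I)) (ModuleCat.of (MvPolynomial (Fin N) A) (MvPolynomial (Fin N) A)) (N - n)))) : (∃ (L : Type u) (_ : AddCommGroup L) (_ : Module (MvPolynomial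 (Fin N) A ⧸ I) L), Module.Invertible (MvPolynomial (Fin N) A ⧸ I) L ∧ Nonempty (RestrictScalars (MvPolynomial (Fin N) A) (MvPolynomial (Fin N) A ⧸ I) L ≃ₗ[(MvPolynomial (Fin N) A)] Abelian.Ext (ModuleCat.of (MvPolynomial (Fin N) A) (MvPolynomial (Fin N) A ⧸ I)) (ModuleCat.of (MvPolynomial (Fin N) A) (MvPolynomial (Fin N) A)) (N - n))) ↔ ∀ p : PrimeSpectrum A, LocCoh.IsGorensteinRing ((MvPolynomial (Fin N) A ⧸ I) ⊗[A] p.asIdeal.ResidueField) := by
  classical
  haveI hLB : DRing.HasLBaseChange (algebraMap A (MvPolynomial (Fin N) A)) :=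
    Groth.Agent.Helper3.KP.hasLeftDerivedFunctor _
  have hψ : Function.Surjective (Ideal.Quotient.mkₐ A I) := Ideal.Quotient.mkₐ_surjective A I
  obtain ⟨Rψ, ⟨adj⟩⟩ := Groth.Agent.Helper11.Shr.exists_rightAdj
    (Ideal.Quotient.mkₐ A I).toRingHom
  haveI hL : ∀ f : MvPolynomial (Fin N) A ⧸ I,
      DRing.HasLBaseChange (algebraMap (MvPolynomial (Fin N) A ⧸ I) (Localization.Away f)) :=
    fun f => Groth.Agent.Helper3.KP.hasLeftDerivedFunctor _
  have key := Groth.Agent.S1786.result A (MvPolynomial (Fin N) A ⧸ I) N (Ideal.Quotient.mkₐ A I) hψ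
    Rψ adj
  obtain ⟨ι⟩ := Groth.Agent.Helper8.ShG.nonempty_LBaseChange_unit_iso A (MvPolynomial (Fin N) A)
  have adj' : DRing.restrictD (algebraMap (MvPolynomial (Fin N) A) (MvPolynomial (Fin N) A ⧸ I)) ⊣
    Rψ := adj
  obtain ⟨Φ, hΦ⟩ := Groth.Agent.Helper8.GF.exists_semilinear_equiv_ext_shift Rψ adj' _ ι N n hnN
  have hvan' := Groth.Agent.Helper8.GF.subsingleton_HD_shift_of_ext Rψ adj' _ ι N n hnN hvan
  have hsurj : Function.Surjective (algebraMap (MvPolynomial (Fin N) A)
    (MvPolynomial (Fin N) A ⧸ I)) := Ideal.Quotient.mk_surjective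
  rw [Groth.Agent.Helper8.GF.exists_invertible_iff hsurj Φ hΦ, key]
  exact Groth.Agent.Helper8.GF.invertible_iff_locally_shift _ (-(n : ℤ)) hvan'

end Groth.Agent.S11365
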