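import Groth.Statements.S11435
import Groth.Agent.Lib.Helper18.OrbProper4

set_option autoImplicit false
universe u
open CategoryTheory MonoidalCategory CartesianMonoidalCategory MonObj GrpObj AlgebraicGeometry Topology
open GIT

namespace Groth.Agent.S11435

/-- Over an algebraically closed field k, let a group scheme G of finite type act on a scheme X of
finite type and let x be a k-rational point of X. Then the orbit morphism ψ_x : G × Spec k → X ×
Spec k, g ↦ (g · x, pt), is proper if and only if the orbit of x (the image of ψ_x) is closed and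
the stabilizer of x (the fibre of ψ_x over (x, pt)) is proper over k. -/
theorem result (k : Type u) [Field k] [IsAlgClosed k]
    (G X : Over (Spec (CommRingCat.of k))) [GrpObj G] [LocallyOfFiniteType G.hom] [QuasiCompact G.hom]
    [LocallyOfFiniteType X.hom] [QuasiCompact X.hom] (a : AlgGrp.Action G X)
    (x : 𝟙_ (Over (Spec (CommRingCat.of k))) ⟶ X) :
    IsProper (GIT.psi a x).left ↔
      IsClosed (Set.range (GIT.psi a x).left.base) ∧
        IsProper (Limits.pullback.snd (GIT.psi a x).left (lift x (𝟙 (𝟙_ (Over (Spec (CommRingCat.of k)))))).left ≫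
          (𝟙_ (Over (Spec (CommRingCat.of k)))).hom) := by
  constructor
  · intro h
    haveI := h
    refine ⟨(GIT.psi a x).left.isClosedMap.isClosed_range, ?_⟩
    haveI : IsProper (Limits.pullback.snd (GIT.psi a x).left
        (lift x (𝟙 (𝟙_ (Over (Spec (CommRingCat.of k)))))).left) :=
      MorphismProperty.pullback_snd (P := @IsProper) _ _ h
    haveI : IsProper (𝟙_ (Over (Spec (CommRingCat.of k)))).hom :=
      inferInstanceAs (IsProper (𝟙 (Spec (CommRingCat.of k))))
    infer_instance
  · rintro ⟨hcl, hst⟩
    apply Groth.Agent.Helper18.OrbProper.isProper_psi_of_orbitMap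
    have hcl' : IsClosed (Set.range (a.orbitMap x).left.base) := by
      rw [Groth.Agent.Helper18.OrbProper.range_orbitMap]
      exact (fst X (𝟙_ (Over (Spec (CommRingCat.of k))))).left.homeomorph.isClosedMap _ hcl
    have hst' : IsProper (Limits.pullback.snd (GIT.psi a x).left
        (lift x (𝟙 (𝟙_ (Over (Spec (CommRingCat.of k)))))).left) := by
      have e : (𝟙_ (Over (Spec (CommRingCat.of k)))).hom = 𝟙 _ := rfl
      rw [e, Category.comp_id] at hst
      exact hst
    exact Groth.Agent.Helper18.OrbProper.isProper_orbitMap k G X a x hcl' _ _ _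
      (Groth.Agent.Helper18.OrbProper.isPullback_stab a x) hst'

end Groth.Agent.S11435
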