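import Groth.Statements.S11439
import Groth.Agent.Lib.Helper18.Rigid16

set_option autoImplicit false
universe u
open CategoryTheory MonoidalCategory CartesianMonoidalCategory MonObj GrpObj AlgebraicGeometry Topology
open GIT

namespace Groth.Agent.S11439

/-- Let S be locally Noetherian, G a locally Noetherian group scheme separated over S, X → S proper and
flat with κ(s) → H⁰(X_s, O_{X_s}) bijective for every s, and Y connected, locally Noetherian,
separated over S with a section over S. Then every morphism f : X ×_S Y → G over S factors as f = (g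
∘ p₁) · (h ∘ p₂) with g : X → G and h : Y → G. -/
theorem result (S : Scheme.{u}) [IsLocallyNoetherian S]
    (X Y G : Over S) [GrpObj G] [IsLocallyNoetherian G.left] [IsSeparated G.hom] [IsProper X.hom] [Flat X.hom]
    (h0 : ∀ s : S, Function.Bijective (Limits.pullback.snd X.hom (S.fromSpecResidueField s)).appTop)
    [IsLocallyNoetherian Y.left] [IsSeparated Y.hom] [ConnectedSpace Y.left] (e : 𝟙_ (Over S) ⟶ Y)
    (f : X ⊗ Y ⟶ G) :
    ∃ (g : X ⟶ G) (h : Y ⟶ G), f = (fst X Y ≫ g) * (snd X Y ≫ h) := by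
  obtain ⟨y₀⟩ : Nonempty Y.left := inferInstance
  haveI : IsProper (snd X Y).left := by rw [Over.snd_left]; infer_instance
  haveI : Flat (snd X Y).left := by rw [Over.snd_left]; infer_instance
  have h0' : ∀ y : Y.left, Function.Bijective
      (Limits.pullback.snd (snd X Y).left (Y.left.fromSpecResidueField y)).appTop.hom := by
    intro y
    exact Groth.Agent.Helper18.Rigid.h0_baseChange X.hom Y.hom (fun s => h0 s) y
  have hσ1 : lift (𝟙 X) (toUnit X ≫ e) ≫ fst X Y = 𝟙 X := lift_fst _ _
  have hφ : lift (𝟙 X) (toUnit X ≫ e) ≫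
      ((fst X Y ≫ (lift (𝟙 X) (toUnit X ≫ e) ≫ f))⁻¹ * f) = 1 := by
    rw [MonObj.comp_mul, GrpObj.comp_inv, ← Category.assoc, hσ1, Category.id_comp,
      inv_mul_cancel]
  obtain ⟨t, ht1, ht2⟩ := Groth.Agent.Helper18.Rigid.group_rigidity' (X ⊗ Y) G (snd X Y).left
    Y.hom (Over.w (snd X Y)) h0'
    ((fst X Y ≫ (lift (𝟙 X) (toUnit X ≫ e) ≫ f))⁻¹ * f) (e.left.base (Y.hom.base y₀)) X
    (lift (𝟙 X) (toUnit X ≫ e)) hφ (by
      intro x hx
      obtain ⟨z, hz, -⟩ := Groth.Agent.Helper18.Rigid.exists_preimage_of_isPullback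
        (Groth.Agent.Helper18.Rigid.isPullback_section X Y e) x (Y.hom.base y₀) hx
      exact ⟨z, hz⟩)
  refine ⟨lift (𝟙 X) (toUnit X ≫ e) ≫ f, Over.homMk t ht1, ?_⟩
  apply eq_mul_of_inv_mul_eq
  ext
  simp only [Over.comp_left, Over.homMk_left]
  exact ht2

end Groth.Agent.S11439
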