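import Groth.Statements.S1146
import Groth.Statements.S1146
import Groth.Agent.Lib.Helper7.TopDim
import Mathlib
-- import your own Groth.Agent.* helpers here

set_option autoImplicit false
open CategoryTheory CategoryTheory.Limits AlgebraicGeometry Opposite
universe u
open Desc

namespace Groth.Agent.S1146

section
open CategoryTheory.Limits AlgebraicGeometry TopologicalSpace Topology

instance etale_lqf {X Y : Scheme.{u}} (f : X ⟶ Y) [Etale f] : LocallyQuasiFinite f := by
  rw [HasRingHomProperty.iff_appLE (P := @LocallyQuasiFinite)]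
  intro U V e
  have h := HasRingHomProperty.appLE (P := @Etale) f inferInstance U V e
  algebraize [(f.appLE U.1 V.1 e).hom]
  haveI : Algebra.Etale Γ(Y, U.1) Γ(X, V.1) := h
  exact (inferInstance : Algebra.QuasiFinite Γ(Y, U.1) Γ(X, V.1))

/-- dimension inequality for maps with discrete fibres, restricted to a preimage -/
lemma dim_preimage_le {X Y : Scheme.{u}} (f : X ⟶ Y) [LocallyQuasiFinite f] (V' : Y.Opens) :
    topologicalKrullDim ((f ⁻¹ᵁ V' : X.Opens) : Set X) ≤ topologicalKrullDim (V' : Set Y) := by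
  haveI : QuasiSober ((f ⁻¹ᵁ V' : X.Opens) : Set X) :=
    (f ⁻¹ᵁ V').isOpenEmbedding'.quasiSober
  refine Groth.Agent.Helper7.TopDim.topologicalKrullDim_le_of_fiber_antisymm_codRestrict
    (f := fun x : ((f ⁻¹ᵁ V' : X.Opens) : Set X) => f.base x.1)
    (f.continuous.comp continuous_subtype_val) ?_ (V' : Set Y) (fun x => x.2)
  intro x x' hxx' hf
  have h1 : x'.1 ⤳ x.1 := (subtype_specializes_iff _ _).1 hxx'
  have h2 := Groth.Agent.Helper7.TopDim.eq_of_specializes_of_isDiscrete
    (f.isDiscrete_preimage_singleton (f.base x.1)) (x := x.1) (x' := x'.1) rfl hf.symm h1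
  exact Subtype.ext h2

/-- dimension inequality for open generalizing maps, restricted to an open -/
lemma dim_image_le {X Y : Scheme.{u}} (f : X ⟶ Y) [Flat f] (hopen : IsOpenMap f)
    (U' : X.Opens) :
    topologicalKrullDim (f '' (U' : Set X)) ≤ topologicalKrullDim (U' : Set X) := by
  haveI : QuasiSober (f '' (U' : Set X)) :=
    (hopen _ U'.2).isOpenEmbedding_subtypeVal.quasiSober
  let g : ↥(U' : Set X) → ↥(f '' (U' : Set X)) :=
    fun x => ⟨f.base x.1, Set.mem_image_of_mem _ x.2⟩
  have hg : Continuous g :=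
    (f.continuous.comp continuous_subtype_val).subtype_mk _
  have hsurj : Function.Surjective g := by
    rintro ⟨y, x, hx, rfl⟩
    exact ⟨⟨x, hx⟩, rfl⟩
  have hgen : GeneralizingMap g := by
    intro x y' hy'
    have h1 : y'.1 ⤳ f.base x.1 := (subtype_specializes_iff _ _).1 hy'
    obtain ⟨x', hx', hfx'⟩ := (Flat.generalizingMap f) h1
    have hx'U : x' ∈ (U' : Set X) := U'.2.stableUnderGeneralization hx' x.2
    exact ⟨⟨x', hx'U⟩, (subtype_specializes_iff _ _).2 hx', Subtype.ext hfx'⟩
  exact Groth.Agent.Helper11.topologicalKrullDim_le_of_surjective_of_lift hg hsurj (Or.inr hgen)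

theorem aux {U V : Scheme.{u}} (f : U ⟶ V) [Etale f] (u : U) :
    FlatMor.localDim U u = FlatMor.localDim V (f.base u) := by
  have hopen : IsOpenMap f := f.isOpenMap
  apply le_antisymm
  · refine le_iInf (fun V' => ?_)
    exact iInf_le_of_le ⟨f ⁻¹ᵁ V'.1, V'.2⟩ (dim_preimage_le f V'.1)
  · refine le_iInf (fun U' => ?_)
    exact iInf_le_of_le ⟨⟨f '' (U'.1 : Set U), hopen _ U'.1.2⟩, ⟨u, U'.2, rfl⟩⟩
      (dim_image_le f hopen U'.1)

end

/-- Let f : U ⟶ V be an etale morphism of schemes and u a point of U. Then the local dimension of U at u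
(the infimum of the Krull dimensions of open neighbourhoods) equals the local dimension of V at
f(u). -/
theorem result {U V : Scheme.{u}} (f : U ⟶ V) [Etale f] (u : U) :
    FlatMor.localDim U u = FlatMor.localDim V (f.base u) := by
  exact aux f u

end Groth.Agent.S1146
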