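import Mathlib
import Groth.Statements.S11468
import Groth.Agent.Lib.Helper19.ArtFlat.Sch

set_option autoImplicit false
universe u
open CategoryTheory AlgebraicGeometry
open DefT

namespace Groth.Agent.S11468

/-- Let C be a local Artin ring with maximal ideal m and residue field k = C/m, g : X → Spec C a flat
morphism, and i : X₀ → X the fibre of g over the closed point, i.e. a pullback of g along Spec k →
Spec C, with structure map f₀ : X₀ → Spec k. If the induced ring map k → Γ(X₀, O_{X₀}) is bijective,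
then so is C → Γ(X, O_X). -/
theorem result (C : Type u) [CommRing C]
    [IsLocalRing C] [IsArtinianRing C] (X X₀ : Scheme.{u}) (g : X ⟶ Spec (CommRingCat.of C)) [Flat g]
    (i : X₀ ⟶ X) (f₀ : X₀ ⟶ Spec (CommRingCat.of (C ⧸ IsLocalRing.maximalIdeal C)))
    (hsq : IsPullback i f₀ g
      (Spec.map (CommRingCat.ofHom (Ideal.Quotient.mk (IsLocalRing.maximalIdeal C)))))
    (h0 : Function.Bijective ((Scheme.ΓSpecIso (CommRingCat.of (C ⧸ IsLocalRing.maximalIdeal C))).inv ≫
      f₀.appTop)) :
    Function.Bijective ((Scheme.ΓSpecIso (CommRingCat.of C)).inv ≫ g.appTop) := by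
  let e : Γ(Spec (CommRingCat.of C), ⊤) ≃+* C :=
    (Scheme.ΓSpecIso (CommRingCat.of C)).commRingCatIsoToRingEquiv
  let e' : Γ(Spec (CommRingCat.of (C ⧸ IsLocalRing.maximalIdeal C)), ⊤) ≃+*
      (C ⧸ IsLocalRing.maximalIdeal C) :=
    (Scheme.ΓSpecIso (CommRingCat.of (C ⧸ IsLocalRing.maximalIdeal C))).commRingCatIsoToRingEquiv
  haveI : IsLocalRing Γ(Spec (CommRingCat.of C), ⊤) := e.symm.isLocalRing
  haveI : IsArtinianRing Γ(Spec (CommRingCat.of C), ⊤) := e.symm.isArtinianRing
  haveI : Nontrivial Γ(Spec (CommRingCat.of (C ⧸ IsLocalRing.maximalIdeal C)), ⊤) :=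
    e'.symm.injective.nontrivial
  set q := Spec.map (CommRingCat.ofHom (Ideal.Quotient.mk (IsLocalRing.maximalIdeal C))) with hqdef
  have hnat : ∀ x, e' (q.appTop.hom x) = Ideal.Quotient.mk (IsLocalRing.maximalIdeal C) (e x) := by
    intro x
    exact congr($(Scheme.ΓSpecIso_naturality
      (CommRingCat.ofHom (Ideal.Quotient.mk (IsLocalRing.maximalIdeal C)))).hom x)
  have hq : Function.Surjective q.appTop.hom := by
    intro y
    obtain ⟨c, hc⟩ := Ideal.Quotient.mk_surjective (e' y)
    refine ⟨e.symm c, e'.injective ?_⟩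
    rw [hnat, RingEquiv.apply_symm_apply, hc]
  have hker : RingHom.ker q.appTop.hom =
      IsLocalRing.maximalIdeal Γ(Spec (CommRingCat.of C), ⊤) := by
    letI : Field (C ⧸ IsLocalRing.maximalIdeal C) := Ideal.Quotient.field _
    have hmax : (RingHom.ker (e'.toRingHom.comp q.appTop.hom)).IsMaximal :=
      RingHom.ker_isMaximal_of_surjective _ (fun y => by
        obtain ⟨x, hx⟩ := hq (e'.symm y)
        refine ⟨x, ?_⟩
        change e' (q.appTop.hom x) = y
        rw [hx, RingEquiv.apply_symm_apply])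
    have heq : RingHom.ker (e'.toRingHom.comp q.appTop.hom) = RingHom.ker q.appTop.hom := by
      ext x
      rw [RingHom.mem_ker, RingHom.mem_ker]
      change e' (q.appTop.hom x) = 0 ↔ _
      exact e'.map_eq_zero_iff
    rw [← heq]
    exact IsLocalRing.eq_maximalIdeal hmax
  have h0' : Function.Bijective f₀.appTop.hom := by
    have h1 : (f₀.appTop.hom : _ → _) =
        (⇑((Scheme.ΓSpecIso (CommRingCat.of (C ⧸ IsLocalRing.maximalIdeal C))).inv ≫ f₀.appTop)) ∘ e' := by
      funext x
      change f₀.appTop.hom x = f₀.appTop.hom (e'.symm (e' x))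
      rw [e'.symm_apply_apply]
    rw [h1]
    exact h0.comp e'.bijective
  have hmain := Groth.Agent.Helper19.ArtFlat.bijective_appTop hsq hq hker h0'
  have h2 : (⇑((Scheme.ΓSpecIso (CommRingCat.of C)).inv ≫ g.appTop)) =
      (g.appTop.hom : _ → _) ∘ e.symm := by
    funext x
    rfl
  rw [h2]
  exact hmain.comp e.symm.bijective

end Groth.Agent.S11468
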