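import Mathlib
import Groth.Statements.S1147
import Groth.Agent.Lib.Helper19.Jac.Descent

set_option autoImplicit false
universe u
open Desc

namespace Groth.Agent.S1147

/-- Let A → B be a faithfully flat ring map of finite presentation. If B is a Jacobson ring then so is
A. (This is the affine descent direction of the statement that the Jacobson property is fppf local.) -/
theorem result (A B : Type u) [CommRing A] [CommRing B] [Algebra A B]
    [Module.FaithfullyFlat A B] [Algebra.FinitePresentation A B] [IsJacobsonRing B] : IsJacobsonRing A := by
  exact Groth.Agent.Helper19.JacDesc.isJacobsonRing_of_faithfullyFlat_finitePresentation A B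

end Groth.Agent.S1147
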