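import Groth.Statements.S1148
import Mathlib.RingTheory.LocalRing.ResidueField.Fiber
import Mathlib.RingTheory.FiniteStability
import Mathlib.RingTheory.Ideal.GoingDown
import Mathlib.RingTheory.Ideal.MinimalPrime.Noetherian
import Mathlib.RingTheory.Polynomial.Basic
-- import your own Groth.Agent.* helpers here

set_option autoImplicit false
universe u
open Desc

namespace Groth.Agent.S1148

section
open PrimeSpectrum

theorem finite_isMin_of_noetherian (F : Type*) [CommRing F] [IsNoetherianRing F] :
    {Q : PrimeSpectrum F | IsMin Q}.Finite := by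
  have hfin : (minimalPrimes F).Finite := Ideal.finite_minimalPrimes_of_isNoetherianRing F ⊥
  refine (hfin.preimage (f := fun P : PrimeSpectrum F => P.asIdeal) ?_).subset ?_
  · intro p _ q _ h
    exact PrimeSpectrum.ext h
  · intro Q hQ
    exact PrimeSpectrum.isMin_iff.mp hQ

theorem finite_isMin_iff (R : Type*) [CommRing R] :
    {Q : PrimeSpectrum R | IsMin Q}.Finite ↔ (irreducibleComponents (PrimeSpectrum R)).Finite := by
  constructor
  · intro h
    have h1 : (minimalPrimes R).Finite := by
      refine (h.image (fun Q => Q.asIdeal)).subset ?_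
      intro p hp
      exact ⟨⟨p, hp.1.1⟩, PrimeSpectrum.isMin_iff.mpr hp, rfl⟩
    rw [← PrimeSpectrum.zeroLocus_minimalPrimes]
    exact h1.image _
  · intro h
    have h1 : (minimalPrimes R).Finite := by
      rw [← PrimeSpectrum.vanishingIdeal_irreducibleComponents]
      exact h.image _
    refine (h1.preimage (f := fun P : PrimeSpectrum R => P.asIdeal) ?_).subset ?_
    · intro p _ q _ h
      exact PrimeSpectrum.ext h
    · intro Q hQ
      exact PrimeSpectrum.isMin_iff.mp hQ

theorem main (A B : Type u) [CommRing A] [CommRing B] [Algebra A B]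
    [Module.Flat A B] [Algebra.FinitePresentation A B]
    (h : (irreducibleComponents (PrimeSpectrum A)).Finite) :
    (irreducibleComponents (PrimeSpectrum B)).Finite := by
  rw [← finite_isMin_iff] at h ⊢
  -- minimal primes of B map to minimal primes of A
  have hmin : ∀ q : PrimeSpectrum B, IsMin q → IsMin (comap (algebraMap A B) q) := by
    intro q hq p' hp'
    -- going down
    haveI : q.asIdeal.LiesOver (comap (algebraMap A B) q).asIdeal := ⟨rfl⟩
    obtain ⟨P, hPq, hPprime, hPover⟩ :=
      Ideal.exists_ideal_le_liesOver_of_le (p := p'.asIdeal)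
        (q := (comap (algebraMap A B) q).asIdeal) q.asIdeal hp'
    have h1 : q ≤ ⟨P, hPprime⟩ := hq (show (⟨P, hPprime⟩ : PrimeSpectrum B) ≤ q from hPq)
    have h2 : P = q.asIdeal := le_antisymm hPq h1
    have h3 : p'.asIdeal = P.under A := hPover.over
    show (comap (algebraMap A B) q).asIdeal ≤ p'.asIdeal
    rw [h3, h2]
    exact le_rfl
  -- finiteness in each fibre
  have hfib : ∀ p : PrimeSpectrum A,
      {q : PrimeSpectrum B | IsMin q ∧ comap (algebraMap A B) q = p}.Finite := by
    intro p
    haveI : IsNoetherianRing (p.asIdeal.Fiber B) :=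
      Algebra.FiniteType.isNoetherianRing p.asIdeal.ResidueField _
    have hT := finite_isMin_of_noetherian (p.asIdeal.Fiber B)
    let e := PrimeSpectrum.preimageOrderIsoFiber A B p
    refine (hT.image (fun Q => (e.symm Q).1)).subset ?_
    rintro q ⟨hqmin, hqp⟩
    refine ⟨e ⟨q, hqp⟩, ?_, ?_⟩
    · intro Q' hQ'
      have h1 : e.symm Q' ≤ ⟨q, hqp⟩ := by
        rw [← e.symm_apply_apply ⟨q, hqp⟩]
        exact e.symm.monotone hQ'
      have h2 : q ≤ (e.symm Q').1 := hqmin h1
      have h3 : (⟨q, hqp⟩ : comap (algebraMap A B) ⁻¹' {p}) ≤ e.symm Q' := h2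
      have := e.monotone h3
      rwa [e.apply_symm_apply] at this
    · show (e.symm (e ⟨q, hqp⟩)).1 = q
      rw [e.symm_apply_apply]
  refine (h.biUnion (fun p _ => hfib p)).subset ?_
  intro q hq
  simp only [Set.mem_iUnion]
  exact ⟨comap (algebraMap A B) q, hmin q hq, hq, rfl⟩

end

/-- Affine form (finiteness of irreducible components of quasi-compact opens is fppf local; this is the
ascent direction for a morphism of affine schemes). Let A → B be a flat ring map of finite
presentation. If Spec A has finitely many irreducible components, then so does Spec B. -/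
theorem result (A B : Type u) [CommRing A] [CommRing B] [Algebra A B]
    [Module.Flat A B] [Algebra.FinitePresentation A B] (h : (irreducibleComponents (PrimeSpectrum A)).Finite) :
    (irreducibleComponents (PrimeSpectrum B)).Finite := by
  exact Groth.Agent.S1148.main A B h

end Groth.Agent.S1148
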