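import Groth.Statements.S11482
import Groth.Agent.Lib.Helper20.IndecSub2

set_option autoImplicit false
universe u
open CategoryTheory CategoryTheory.Limits AlgebraicGeometry
open Curves

namespace Groth.Agent.S11482


theorem result (k : Type u) [Field k] [IsAlgClosed k]
    (X : Scheme.{u}) [X.Over (Spec (CommRingCat.of k))] (hX : Curve.IsSmoothProperCurve k X (X ↘ Spec (CommRingCat.of k)))
    (E : X.Modules) (hE : FlatMod.IsFinLocFreeOfRank 2 E)
    (hind : ∀ (E₁ E₂ : X.Modules), Nonempty (E ≅ E₁ ⊞ E₂) → IsZero E₁ ∨ IsZero E₂) :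
    (∀ (L : X.Modules) (ι : L ⟶ E), PicF.IsInvertible L → Mono ι →
        2 * Curv2.deg k X L 1 ≤ Curv2.deg k X E 2 + 2 * (Curv2.genus k X : ℤ) - 2) ∧
      ∃ (L : X.Modules) (ι : L ⟶ E), PicF.IsInvertible L ∧ Mono ι ∧
        Curv2.deg k X E 2 - 2 * (Curv2.genus k X : ℤ) ≤ 2 * Curv2.deg k X L 1 := by
  obtain ⟨h1, h2, h3, hdim⟩ := hX
  haveI := h1
  haveI := h2
  haveI := h3
  refine ⟨fun L ι hL hι => ?_, ?_⟩
  · haveI := hι
    exact Groth.Agent.Helper20.IndecSub.two_deg_le_of_indec k hdim E hE hind L ι hL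
  · exact Groth.Agent.Helper20.IndecSub.exists_invertible_sub k hdim E hE

end Groth.Agent.S11482
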