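import Groth.Statements.S11483
import Groth.Agent.S19668

set_option autoImplicit false
universe u
open CategoryTheory CategoryTheory.Limits AlgebraicGeometry
open Curves

namespace Groth.Agent.S11483

/-- Stable bundles are simple. Let X be a nonsingular projective curve over an algebraically closed
field k (smooth, proper, integral, of dimension one) and E a locally free sheaf of rank r on X which
is stable: every locally free subsheaf G of rank s with 0 < s < r has deg G · r < deg E · s (degrees
computed as χ − rank·χ(O_X)). Then every nonzero endomorphism of E is an isomorphism. (The published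
statement concludes that the endomorphisms of E are exactly the scalars; over the algebraically
closed field k this is equivalent, the endomorphism ring being a finite-dimensional division
algebra, and the form stated here avoids the k-linear structure on endomorphisms.) -/
theorem result (k : Type u) [Field k] [IsAlgClosed k] (X : Scheme.{u})
    [X.Over (Spec (CommRingCat.of k))] (hX : Curve.IsSmoothProperCurve k X (X ↘ Spec (CommRingCat.of k))) (r : ℕ)
    (E : X.Modules) (hE : FlatMod.IsFinLocFreeOfRank r E)
    (hst : ∀ (G : X.Modules) (s : ℕ) (ι : G ⟶ E), Mono ι → FlatMod.IsFinLocFreeOfRank s G → 0 < s → s < r →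
      Curv2.deg k X G s * (r : ℤ) < Curv2.deg k X E r * (s : ℤ))
    (φ : E ⟶ E) (hφ : φ ≠ 0) : IsIso φ := by
  obtain ⟨a, ha⟩ := Groth.Agent.S19668.result k X hX r E hE hst φ
  have ha0 : a ≠ 0 := by
    intro h0
    apply hφ
    rw [ha, h0, zero_smul]
  refine ⟨⟨a⁻¹ • 𝟙 E, ?_, ?_⟩⟩
  · rw [ha, Linear.smul_comp, Linear.comp_smul, Category.comp_id, smul_smul]
    first
      | rw [inv_mul_cancel₀ ha0, one_smul]
      | rw [mul_inv_cancel₀ ha0, one_smul]
  · rw [ha, Linear.smul_comp, Linear.comp_smul, Category.comp_id, smul_smul]
    first
      | rw [inv_mul_cancel₀ ha0, one_smul]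
      | rw [mul_inv_cancel₀ ha0, one_smul]

end Groth.Agent.S11483
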