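import Groth.Statements.S11484
import Groth.Agent.S0844
import Groth.Agent.Lib.Helper29.ExtSplit
import Groth.Agent.Lib.Helper13.InvTensor
import Groth.Agent.Lib.Helper28.TwistZero

set_option autoImplicit false
universe u
open Coherent

namespace Groth.Agent.S11484

open CategoryTheory CategoryTheory.Limits AlgebraicGeometry in
/-- Let k be an algebraically closed field of characteristic zero and n ≥ 2. On P^n_k every short exact
sequence of O-modules whose first term is isomorphic to O(a) and whose third term is isomorphic to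
O(b), for integers a and b, admits a splitting; in particular its middle term is isomorphic to O(a)
⊕ O(b). -/
theorem result (k : Type u) [Field k] [IsAlgClosed k] [CharZero k]
    (n : ℕ) (hn : 2 ≤ n) (a b : ℤ) (S : ShortComplex (CohB1.ProjSpace n k).Modules) (hS : S.ShortExact)
    (ha : Nonempty (S.X₁ ≅ Twist.twistProjSpace n k a)) (hb : Nonempty (S.X₃ ≅ Twist.twistProjSpace n k b)) :
    Nonempty S.Splitting := by
  obtain ⟨ea⟩ := ha
  obtain ⟨eb⟩ := hb
  have hL : PicF.IsInvertible S.X₃ :=
    Groth.Agent.Helper13.Inv.isInvertible_of_iso eb.symm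
      (Groth.Agent.Helper26.PnTwist.isInvertible_twist n k b)
  obtain ⟨e1⟩ := Groth.Agent.Helper26.PnTwist.twist_tensor_iso n k (-b) b
  have e0 : Twist.twistProjSpace n k (-b + b) ≅ Coh.structureModule (CohB1.ProjSpace n k) := by
    rw [neg_add_cancel]
    exact (Groth.Agent.Helper28.TwistMul.zeroIso (CohB1.polyGrading n k)).symm
  have hL' : ClSub.IsInverseOf (Twist.twistProjSpace n k (-b)) S.X₃ :=
    ⟨Groth.Agent.Helper13.Tensor.mapIso (Iso.refl _) eb ≪≫ e1 ≪≫ e0⟩
  obtain ⟨e2⟩ := Groth.Agent.Helper26.PnTwist.twist_tensor_iso n k (-b) a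
  have h0 : Subsingleton (Coh.HH (CohB1.ProjSpace n k) (Twist.twistProjSpace n k (-b + a)) 1) :=
    Groth.Agent.S0844.result k n (-b + a) 1 (by simp) (by
      rintro ⟨h, -⟩
      omega)
  have h1 : Subsingleton (Coh.HH (CohB1.ProjSpace n k)
      (CohB1.tensorMod (Twist.twistProjSpace n k (-b)) S.X₁) 1) :=
    Groth.Agent.Helper29.ExtSplit.subsingleton_HH_of_iso
      (Groth.Agent.Helper13.Tensor.mapIso (Iso.refl _) ea ≪≫ e2).symm 1 h0
  have hsplit := Groth.Agent.Helper29.ExtSplit.main12632 S hS hL _ hL' h1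
  have := hS.mono_f
  exact ⟨ShortComplex.Splitting.ofExactOfSection S hS.exact (section_ S.g)
    (IsSplitEpi.id S.g) inferInstance⟩

end Groth.Agent.S11484
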