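import Groth.Statements.S11499
import Mathlib

set_option autoImplicit false
universe u
open TensorProduct
open VBPn

namespace Groth.Agent.S11499

/-- Let A be an integral domain with fraction field K and M a finitely generated torsion-free A-module
of rank r (K ⊗_A M is r-dimensional over K). Then there is an injective A-linear map M → A^r. The
published statement is for torsion-free coherent sheaves on a complex manifold, locally near a
point; this row is its statement for one stalk, over any domain. -/
theorem result (A : Type u) [CommRing A] [IsDomain A]
    (M : Type u) [AddCommGroup M] [Module A M] [Module.Finite A M] [NoZeroSMulDivisors A M] (r : ℕ)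
    (hr : Module.finrank (FractionRing A) (FractionRing A ⊗[A] M) = r) :
    ∃ f : M →ₗ[A] (Fin r → A), Function.Injective f := by
  classical
  have : Module.Finite (FractionRing A) (FractionRing A ⊗[A] M) := inferInstance
  have e : (FractionRing A ⊗[A] M) ≃ₗ[FractionRing A] (Fin r → FractionRing A) :=
    LinearEquiv.ofFinrankEq _ _ (by rw [hr, Module.finrank_fin_fun])
  have : IsLocalizedModule (nonZeroDivisors A) (TensorProduct.mk A (FractionRing A) M 1) :=
    (isLocalizedModule_iff_isBaseChange (nonZeroDivisors A) (FractionRing A) _).mpr
      (TensorProduct.isBaseChange A M (FractionRing A))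
  have hinj : Function.Injective (TensorProduct.mk A (FractionRing A) M 1) := by
    rw [injective_iff_map_eq_zero]
    intro m hm
    obtain ⟨s, hs⟩ := (IsLocalizedModule.eq_zero_iff (nonZeroDivisors A) _).mp hm
    rw [Submonoid.smul_def] at hs
    exact (smul_eq_zero.mp hs).resolve_left (nonZeroDivisors.coe_ne_zero s)
  let g : M →ₗ[A] (Fin r → FractionRing A) :=
    (e.toLinearMap.restrictScalars A) ∘ₗ (TensorProduct.mk A (FractionRing A) M 1)
  have hg : Function.Injective g := e.injective.comp hinj
  obtain ⟨S, hS⟩ := Module.Finite.fg_top (R := A) (M := M)
  let T : Finset (FractionRing A) := (S ×ˢ Finset.univ).image (fun p : M × Fin r => g p.1 p.2)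
  obtain ⟨b, hb⟩ := IsLocalization.exist_integer_multiples_of_finset (nonZeroDivisors A) T
  let ι : (Fin r → A) →ₗ[A] (Fin r → FractionRing A) := (Algebra.linearMap A (FractionRing A)).compLeft (Fin r)
  have hι : Function.Injective ι := by
    intro x y hxy
    funext j
    have := congrFun hxy j
    exact IsFractionRing.injective A (FractionRing A) this
  let h : M →ₗ[A] (Fin r → FractionRing A) := (b : A) • g
  have hb0 : algebraMap A (FractionRing A) (b : A) ≠ 0 := by
    intro h0
    exact nonZeroDivisors.coe_ne_zero b (IsFractionRing.injective A (FractionRing A) (by rw [h0, map_zero]))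
  have hh : Function.Injective h := by
    rw [injective_iff_map_eq_zero]
    intro m hm
    apply hg
    rw [map_zero]
    funext j
    have := congrFun hm j
    simp only [h, LinearMap.smul_apply, Pi.smul_apply, Pi.zero_apply, Algebra.smul_def] at this
    exact (mul_eq_zero.mp this).resolve_left hb0
  have hrange : ∀ m : M, h m ∈ LinearMap.range ι := by
    intro m
    have hm : m ∈ Submodule.span A (S : Set M) := by rw [hS]; trivial
    have : Submodule.span A (S : Set M) ≤ (LinearMap.range ι).comap h := by
      rw [Submodule.span_le]
      intro x hx
      have hint : ∀ j : Fin r, ∃ a : A, algebraMap A (FractionRing A) a = (b : A) • g x j := by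
        intro j
        have hmem : g x j ∈ T := Finset.mem_image.mpr ⟨(x, j), Finset.mem_product.mpr ⟨hx, Finset.mem_univ _⟩, rfl⟩
        exact hb _ hmem
      choose a ha using hint
      exact ⟨a, by funext j; simp [ι, h, ha]⟩
    exact this hm
  refine ⟨(LinearEquiv.ofInjective ι hι).symm.toLinearMap ∘ₗ (h.codRestrict (LinearMap.range ι) hrange), ?_⟩
  intro x y hxy
  apply hh
  have h2 : (LinearEquiv.ofInjective ι hι).symm (h.codRestrict (LinearMap.range ι) hrange x) =
      (LinearEquiv.ofInjective ι hι).symm (h.codRestrict (LinearMap.range ι) hrange y) := hxy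
  have h3 := (LinearEquiv.ofInjective ι hι).symm.injective h2
  exact congrArg Subtype.val h3

end Groth.Agent.S11499
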