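import Groth.Statements.S1156
-- import your own Groth.Agent.* helpers here

set_option autoImplicit false
universe u
open scoped TensorProduct
open Desc

namespace Groth.Agent.S1156

theorem aux (R A : Type u) [CommRing R] [CommRing A] [Algebra R A] [Module.FaithfullyFlat R A]
    (M : Type u) [AddCommGroup M] [Module R M] (x : A ⊗[R] M)
    (hx : TensorProduct.mk R A (A ⊗[R] M) 1 x = LinearMap.lTensor A (TensorProduct.mk R A M 1) x) :
    x ∈ LinearMap.range (TensorProduct.mk R A M 1) := by
  let f : M →ₗ[R] A ⊗[R] M := TensorProduct.mk R A M 1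
  let g : A ⊗[R] M →ₗ[R] A ⊗[R] (A ⊗[R] M) :=
    TensorProduct.mk R A (A ⊗[R] M) 1 - LinearMap.lTensor A f
  let μ : ∀ (N : Type u) [AddCommGroup N] [Module R N], A ⊗[R] (A ⊗[R] N) →ₗ[R] A ⊗[R] N :=
    fun N _ _ => (LinearMap.mul' R A).rTensor N ∘ₗ (TensorProduct.assoc R A A N).symm.toLinearMap
  have key : (μ (A ⊗[R] M)) ∘ₗ (LinearMap.lTensor A g) =
      LinearMap.id - (LinearMap.lTensor A f) ∘ₗ (μ M) := by
    ext a b m
    simp [μ, g, f]
  have hex : Function.Exact f g := by
    apply Module.FaithfullyFlat.lTensor_reflects_exact R A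
    intro y
    constructor
    · intro hy
      refine ⟨μ M y, ?_⟩
      have := LinearMap.congr_fun key y
      simp only [LinearMap.coe_comp, Function.comp_apply, hy, map_zero, LinearMap.sub_apply,
        LinearMap.id_coe, id_eq] at this
      exact (sub_eq_zero.mp this.symm).symm
    · rintro ⟨z, rfl⟩
      rw [← LinearMap.comp_apply, ← LinearMap.lTensor_comp]
      have : g ∘ₗ f = 0 := by
        ext m
        simp [g, f]
      rw [this, LinearMap.lTensor_zero, LinearMap.zero_apply]
  have hg : g x = 0 := by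
    simp only [g, LinearMap.sub_apply, hx, f, sub_self]
  exact (hex x).mp hg

/-- Exactness of the extended Amitsur complex in degree 0 (injectivity in degree −1 being standard). Let
R → A be faithfully flat and M an R-module. An element x of A ⊗_R M with 1 ⊗ x = (a ⊗ m ↦ a ⊗ 1 ⊗
m)(x) in A ⊗_R A ⊗_R M lies in the image of m ↦ 1 ⊗ m. -/
theorem result (R A : Type u) [CommRing R] [CommRing A] [Algebra R A] [Module.FaithfullyFlat R A]
    (M : Type u) [AddCommGroup M] [Module R M] (x : A ⊗[R] M)
    (hx : TensorProduct.mk R A (A ⊗[R] M) 1 x = LinearMap.lTensor A (TensorProduct.mk R A M 1) x) :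
    x ∈ LinearMap.range (TensorProduct.mk R A M 1) := by
  exact aux R A M x hx

end Groth.Agent.S1156
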