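import Groth.Statements.S1163
import Groth.Prelude.Def_Desc
import Mathlib.RingTheory.Flat.FaithfullyFlat.Basic
import Mathlib.RingTheory.Flat.FaithfullyFlat.Algebra
import Mathlib.RingTheory.RingHom.FaithfullyFlat
-- import your own Groth.Agent.* helpers here

set_option autoImplicit false
open CategoryTheory CategoryTheory.Limits AlgebraicGeometry Opposite
universe u
open Desc

namespace Groth.Agent.S1163

open TensorProduct

theorem mk_injective_of_factor (B A B' M : Type*) [CommRing B] [CommRing A] [CommRing B']
    [Algebra B A] [Algebra A B'] [Algebra B B'] [IsScalarTower B A B'] [Module.FaithfullyFlat B B']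
    [AddCommGroup M] [Module B M] : Function.Injective (TensorProduct.mk B A M 1) := by
  have h := Module.FaithfullyFlat.tensorProduct_mk_injective (A := B) (B := B') M
  have e : (TensorProduct.mk B B' M 1) =
      (LinearMap.rTensor M (IsScalarTower.toAlgHom B A B').toLinearMap) ∘ₗ
        (TensorProduct.mk B A M 1) := by
    ext m
    simp
  rw [e, LinearMap.coe_comp] at h
  exact Function.Injective.of_comp h

theorem flat_of_pure (C B A : Type u) [CommRing C] [CommRing B] [CommRing A]
    [Algebra C B] [Algebra B A] [Algebra C A] [IsScalarTower C B A] [Module.Flat C A]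
    (hpure : ∀ (M : Type u) [AddCommGroup M] [Module B M],
      Function.Injective (TensorProduct.mk B A M 1)) : Module.Flat C B := by
  rw [Module.Flat.iff_lTensor_preserves_injective_linearMap]
  intro N P _ _ _ _ f hf
  have h1 : Function.Injective (LinearMap.lTensor A f) :=
    Module.Flat.lTensor_preserves_injective_linearMap f hf
  let j : ∀ (Q : Type u) [AddCommGroup Q] [Module C Q], B ⊗[C] Q →ₗ[C] A ⊗[C] Q :=
    fun Q _ _ => LinearMap.rTensor Q (IsScalarTower.toAlgHom C B A).toLinearMap
  have hj : ∀ (Q : Type u) [AddCommGroup Q] [Module C Q], Function.Injective (j Q) := by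
    intro Q _ _
    have e : ∀ z : B ⊗[C] Q, j Q z =
        TensorProduct.AlgebraTensorModule.cancelBaseChange C B A A Q
          (TensorProduct.mk B A (B ⊗[C] Q) 1 z) := by
      intro z
      induction z using TensorProduct.induction_on with
      | zero => simp
      | tmul b q => simp [j, Algebra.algebraMap_eq_smul_one]
      | add x y hx hy => rw [map_add, hx, hy, map_add, map_add]
    intro a b hab
    rw [e, e] at hab
    exact hpure _ ((TensorProduct.AlgebraTensorModule.cancelBaseChange C B A A Q).injective hab)
  have sq : ∀ z, j P (LinearMap.lTensor B f z) = LinearMap.lTensor A f (j N z) := by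
    intro z
    induction z using TensorProduct.induction_on with
    | zero => simp
    | tmul b q => simp [j]
    | add x y hx hy => simp only [map_add, hx, hy]
  intro a b hab
  apply hj N
  apply h1
  rw [← sq, ← sq, hab]

theorem ringHom_flat_of_factor (C B A B' : Type u) [CommRing C] [CommRing B] [CommRing A]
    [CommRing B'] (φq : C →+* B) (φf : B →+* A) (φl : A →+* B')
    (h1 : (φl.comp φf).FaithfullyFlat) (h2 : (φf.comp φq).Flat) : φq.Flat := by
  algebraize [φq, φf, φl, φf.comp φq, φl.comp φf]
  exact flat_of_pure C B A (fun M _ _ => mk_injective_of_factor B A B' M)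

set_option backward.isDefEq.respectTransparency.types false in
theorem aux {X Y Z Y' : Scheme.{u}} (f : X ⟶ Y) (q : Y ⟶ Z) (g : Y' ⟶ Y) [Flat g] [Surjective g]
    (l : Y' ⟶ X) (hl : l ≫ f = g) [Flat (f ≫ q)] : Flat q := by
  subst hl
  apply Flat.of_stalkMap
  intro y
  obtain ⟨y', rfl⟩ := (l ≫ f).surjective y
  have h1 := Flat.stalkMap (f ≫ q) (l y')
  rw [Scheme.Hom.stalkMap_comp] at h1
  change ((f.stalkMap (l y')).hom.comp (q.stalkMap (f (l y'))).hom).Flat at h1
  have h2 : ((l ≫ f).stalkMap y').hom.FaithfullyFlat := by
    algebraize [((l ≫ f).stalkMap y').hom]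
    have : Module.FaithfullyFlat (Y.presheaf.stalk ((l ≫ f) y')) (Y'.presheaf.stalk y') :=
      @Module.FaithfullyFlat.of_flat_of_isLocalHom _ _ _ _ _ _ _
        (Flat.stalkMap (l ≫ f) y') ((l ≫ f).toLRSHom.prop y')
    exact ‹RingHom.FaithfullyFlat _›
  rw [Scheme.Hom.stalkMap_comp] at h2
  change ((l.stalkMap y').hom.comp (f.stalkMap (l y')).hom).FaithfullyFlat at h2
  exact ringHom_flat_of_factor _ _ _ _ _ _ _ h2 h1

/-- The case P = flat, single fppf cover: Let f : X ⟶ Y and q : Y ⟶ Z be morphisms of schemes, and
suppose there is a flat, surjective morphism g : Y' ⟶ Y locally of finite presentation which factors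
through f. If f ≫ q is flat, then q is flat. -/
theorem result {X Y Z Y' : Scheme.{u}} (f : X ⟶ Y) (q : Y ⟶ Z) (g : Y' ⟶ Y) [Flat g] [Surjective g]
    [LocallyOfFinitePresentation g] (l : Y' ⟶ X) (hl : l ≫ f = g) [Flat (f ≫ q)] : Flat q := by
  exact aux f q g l hl

end Groth.Agent.S1163
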