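import Groth.Statements.S1164
import Mathlib.RingTheory.Flat.Localization
import Mathlib.RingTheory.Flat.FaithfullyFlat.Algebra
import Mathlib.RingTheory.Unramified.Finite
import Mathlib.RingTheory.Flat.Stability
import Mathlib.RingTheory.Smooth.Flat
-- import your own Groth.Agent.* helpers here

set_option autoImplicit false
universe u
open Desc

namespace Groth.Agent.S1164

open TensorProduct in
theorem flat_of_faithfullyFlat_of_flat (A B C : Type*) [CommRing A] [CommRing B] [CommRing C]
    [Algebra A B] [Algebra B C] [Algebra A C] [IsScalarTower A B C] [Module.FaithfullyFlat B C]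
    [Module.Flat A C] : Module.Flat A B := by
  rw [Module.Flat.iff_lTensor_preserves_injective_linearMap]
  intro N P _ _ _ _ f hf
  have h1 : Function.Injective (LinearMap.lTensor C f) :=
    Module.Flat.lTensor_preserves_injective_linearMap f hf
  have h2 : Function.Injective (f.baseChange B) := by
    rw [← Module.FaithfullyFlat.lTensor_injective_iff_injective B C]
    have := TensorProduct.AlgebraTensorModule.lTensor_comp_cancelBaseChange (R := A) (A := B)
      (B := C) (M := C) f
    intro a b hab
    apply (TensorProduct.AlgebraTensorModule.cancelBaseChange A B C C N).injective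
    apply h1
    have e : ∀ z, (LinearMap.lTensor C f)
        ((TensorProduct.AlgebraTensorModule.cancelBaseChange A B C C N) z) =
        (TensorProduct.AlgebraTensorModule.cancelBaseChange A B C C P)
          ((LinearMap.lTensor C (f.baseChange B)) z) := fun z => LinearMap.congr_fun this z
    rw [e, e, hab]
  exact h2

/-- localization at a prime of an etale algebra is flat. -/
lemma flat_etale_loc (R R' E : Type u) [CommRing R] [CommRing R'] [CommRing E]
    [Algebra R R'] [Algebra R E] [Algebra.Etale R E] (P : Ideal E) [P.IsPrime]
    [Algebra E R'] [IsScalarTower R E R'] [IsLocalization.AtPrime R' P] : Module.Flat R R' := by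
  have h1 : Module.Flat E R' := IsLocalization.flat R' P.primeCompl
  have h2 : Module.Flat R E := inferInstance
  exact Module.Flat.trans R E R'

theorem aux (R S R' S' : Type u) [CommRing R] [CommRing S] [CommRing R'] [CommRing S']
    [IsLocalRing R] [IsLocalRing S] [IsLocalRing R'] [IsLocalRing S']
    [Algebra R S] [IsLocalHom (algebraMap R S)] [Algebra R R'] [IsLocalHom (algebraMap R R')]
    [Algebra S S'] [IsLocalHom (algebraMap S S')] [Algebra R' S'] [Algebra R S']
    [IsScalarTower R R' S'] [IsScalarTower R S S']
    (E : Type u) [CommRing E] [Algebra R E] [Algebra.Etale R E] (P : Ideal E) [P.IsPrime]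
    [Algebra E R'] [IsScalarTower R E R'] [IsLocalization.AtPrime R' P]
    (F : Type u) [CommRing F] [Algebra S F] [Algebra.Etale S F] (Q : Ideal F) [Q.IsPrime]
    [Algebra F S'] [IsScalarTower S F S'] [IsLocalization.AtPrime S' Q] :
    Module.Flat R S ↔ Module.Flat R' S' := by
  have hRR' : Module.Flat R R' := flat_etale_loc R R' E P
  have hSS' : Module.Flat S S' := flat_etale_loc S S' F Q
  constructor
  · intro h
    have h1 : Module.Flat R S' := Module.Flat.trans R S S'
    let _ : Algebra E S' := ((algebraMap R' S').comp (algebraMap E R')).toAlgebra
    have : IsScalarTower E R' S' := IsScalarTower.of_algebraMap_eq (fun _ => rfl)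
    have : IsScalarTower R E S' := IsScalarTower.of_algebraMap_eq (fun x => by
      change algebraMap R S' x = algebraMap R' S' (algebraMap E R' (algebraMap R E x))
      rw [← IsScalarTower.algebraMap_apply R E R', ← IsScalarTower.algebraMap_apply R R' S'])
    have h2 : Module.Flat E S' := Algebra.FormallyUnramified.flat_of_restrictScalars (R := R) (S := E) S'
    exact (Module.flat_iff_of_isLocalization R' P.primeCompl S').2 h2
  · intro h
    have h1 : Module.Flat R S' := Module.Flat.trans R R' S'
    have h2 : Module.FaithfullyFlat S S' := Module.FaithfullyFlat.of_flat_of_isLocalHom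
    exact flat_of_faithfullyFlat_of_flat R S S'

/-- Let R → S be a local homomorphism of local rings. Let R' be a local ring which is a localization at
a prime of an etale R-algebra, with R → R' local, and similarly S' for S, and suppose S' is an
R'-algebra compatibly with the given maps. Then R → S is flat if and only if R' → S' is flat. (This
is the statement that flatness of a morphism of germs is etale local on source and target together.) -/
theorem result (R S R' S' : Type u) [CommRing R] [CommRing S] [CommRing R'] [CommRing S']
    [IsLocalRing R] [IsLocalRing S] [IsLocalRing R'] [IsLocalRing S']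
    [Algebra R S] [IsLocalHom (algebraMap R S)] [Algebra R R'] [IsLocalHom (algebraMap R R')]
    [Algebra S S'] [IsLocalHom (algebraMap S S')] [Algebra R' S'] [Algebra R S']
    [IsScalarTower R R' S'] [IsScalarTower R S S']
    (E : Type u) [CommRing E] [Algebra R E] [Algebra.Etale R E] (P : Ideal E) [P.IsPrime]
    [Algebra E R'] [IsScalarTower R E R'] [IsLocalization.AtPrime R' P]
    (F : Type u) [CommRing F] [Algebra S F] [Algebra.Etale S F] (Q : Ideal F) [Q.IsPrime]
    [Algebra F S'] [IsScalarTower S F S'] [IsLocalization.AtPrime S' Q] :
    Module.Flat R S ↔ Module.Flat R' S' := by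
  exact aux R S R' S' E P F Q

end Groth.Agent.S1164
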