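import Groth.Statements.S5157
import Groth.Agent.Lib.Helper8.Matlis2

set_option autoImplicit false
universe u
open Matlis

namespace Groth.Agent.S5157

open IsLocalRing Groth.Agent.Helper8.Matlis

variable {A : Type u} [CommRing A] (a : Ideal A) {E : Type u} [AddCommGroup E] [Module A E]

/-- `E[a]` is an injective `A/a`-module when `E` is an injective `A`-module. -/
theorem injective_torsionBy [Module.Injective A E] :
    Module.Injective (A ⧸ a) (Submodule.torsionBySet A E (a : Set A)) := by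
  apply Module.Baer.injective
  intro 𝔟 g
  -- the A-linear map 𝔟 → E
  let g' : 𝔟 →ₗ[A] E :=
    (Submodule.torsionBySet A E (a : Set A)).subtype ∘ₗ (g.restrictScalars A)
  let ι : 𝔟 →ₗ[A] (A ⧸ a) := (Submodule.subtype 𝔟).restrictScalars A
  have hι : Function.Injective ι := Subtype.val_injective
  obtain ⟨h, hh⟩ := Module.Injective.out (R := A) (Q := E) ι hι g'
  have he : h 1 ∈ Submodule.torsionBySet A E (a : Set A) := by
    rw [Submodule.mem_torsionBySet_iff]
    rintro ⟨r, hr⟩
    change r • h 1 = 0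
    rw [← map_smul]
    have : r • (1 : A ⧸ a) = 0 := by
      rw [Algebra.smul_def, mul_one]
      exact Ideal.Quotient.eq_zero_iff_mem.2 hr
    rw [this, map_zero]
  refine ⟨LinearMap.toSpanSingleton (A ⧸ a) _ ⟨h 1, he⟩, ?_⟩
  intro x hx
  obtain ⟨x₀, rfl⟩ := Ideal.Quotient.mk_surjective x
  rw [LinearMap.toSpanSingleton_apply, Submodule.torsionBySet.mk_smul]
  apply Subtype.ext
  change x₀ • h 1 = (g ⟨_, hx⟩ : E)
  rw [← map_smul]
  have h1 : x₀ • (1 : A ⧸ a) = ι ⟨Ideal.Quotient.mk a x₀, hx⟩ := by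
    rw [Algebra.smul_def, mul_one]; rfl
  rw [h1, hh]
  rfl


/-- Let A be a Noetherian local ring, a an ideal with A/a local (i.e. a ≠ A) and E an injective hull of
the residue field of A. Then the annihilator of a in E, E[a] = {e | a e = 0}, is an injective hull
of the residue field of A/a over A/a. -/
theorem result (A : Type u) [CommRing A] [IsLocalRing A] [IsNoetherianRing A] (a : Ideal A) [IsLocalRing (A ⧸ a)] (E : Type u) [AddCommGroup E] [Module A E] (f : IsLocalRing.ResidueField A →ₗ[A] E) (hf : InjHull.IsInjectiveHull f) : ∃ g : IsLocalRing.ResidueField (A ⧸ a) →ₗ[A ⧸ a] (LocCoh.torsionBy a E), InjHull.IsInjectiveHull g := by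
  have hinj := hf.isInjective
  have hale : a ≤ maximalIdeal A := by
    apply IsLocalRing.le_maximalIdeal
    intro htop
    have : Subsingleton (A ⧸ a) := by rw [htop]; exact Ideal.Quotient.subsingleton_iff.2 rfl
    exact not_subsingleton (A ⧸ a) this
  have hf1 : ∀ b ∈ maximalIdeal A, b • f 1 = 0 := fun b hb => by
    rw [← map_smul, residue_smul_eq_zero b hb, map_zero]
  have he₁ : f 1 ∈ LocCoh.torsionBy a E := by
    rw [Submodule.mem_torsionBySet_iff]
    rintro ⟨r, hr⟩
    exact hf1 r (hale hr)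
  have hmB : ∀ b₀ : A, Ideal.Quotient.mk a b₀ ∈ maximalIdeal (A ⧸ a) → b₀ ∈ maximalIdeal A := by
    intro b₀ hb
    rw [mem_maximalIdeal, mem_nonunits_iff] at hb ⊢
    exact fun hu => hb (hu.map _)
  let e₁ : LocCoh.torsionBy a E := ⟨f 1, he₁⟩
  have hker : (maximalIdeal (A ⧸ a) : Submodule (A ⧸ a) (A ⧸ a)) ≤
      LinearMap.ker (LinearMap.toSpanSingleton (A ⧸ a) (LocCoh.torsionBy a E) e₁) := by
    intro b hb
    obtain ⟨b₀, rfl⟩ := Ideal.Quotient.mk_surjective b
    rw [LinearMap.mem_ker, LinearMap.toSpanSingleton_apply, Submodule.torsionBySet.mk_smul]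
    apply Subtype.ext
    exact hf1 b₀ (hmB b₀ hb)
  let g : ResidueField (A ⧸ a) →ₗ[A ⧸ a] (LocCoh.torsionBy a E) :=
    (maximalIdeal (A ⧸ a) : Submodule (A ⧸ a) (A ⧸ a)).liftQ _ hker
  have hg1 : g 1 = e₁ := by
    change LinearMap.toSpanSingleton (A ⧸ a) (LocCoh.torsionBy a E) e₁ (1 : A ⧸ a) = e₁
    rw [LinearMap.toSpanSingleton_apply, one_smul]
  have he₁0 : e₁ ≠ 0 := by
    intro h0
    have : f 1 = 0 := congrArg Subtype.val h0
    exact one_ne_zero ((injective_iff_map_eq_zero f).1 hf.injective 1 this)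
  refine ⟨g, ⟨⟨?_, ?_⟩, injective_torsionBy a⟩⟩
  · rw [← LinearMap.ker_eq_bot]
    rcases eq_bot_or_eq_top (LinearMap.ker g) with h | h
    · exact h
    · exfalso
      have : (1 : ResidueField (A ⧸ a)) ∈ LinearMap.ker g := by rw [h]; trivial
      rw [LinearMap.mem_ker, hg1] at this
      exact he₁0 this
  · intro N hN
    obtain ⟨x, hxN, hx0⟩ := (Submodule.ne_bot_iff _).1 hN
    have hxE : (x : E) ≠ 0 := fun h => hx0 (Subtype.ext h)
    have hspan : Submodule.span A {(x : E)} ≠ ⊥ := by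
      rw [Ne, Submodule.span_singleton_eq_bot]; exact hxE
    obtain ⟨y, hy, hy0⟩ := (Submodule.ne_bot_iff _).1 (hf.essential _ hspan)
    obtain ⟨a₀, rfl⟩ := Submodule.mem_span_singleton.1 hy.1
    obtain ⟨c, hc⟩ := hy.2
    obtain ⟨c₀, rfl⟩ := residue_surjective c
    rw [Submodule.ne_bot_iff]
    refine ⟨Ideal.Quotient.mk a a₀ • x, ⟨N.smul_mem _ hxN, ?_⟩, ?_⟩
    · refine ⟨Ideal.Quotient.mk a c₀ • 1, ?_⟩
      rw [map_smul, hg1, Submodule.torsionBySet.mk_smul, Submodule.torsionBySet.mk_smul]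
      apply Subtype.ext
      change c₀ • f 1 = a₀ • (x : E)
      rw [← hc, ← map_smul]
      congr 1
      rw [Algebra.smul_def, mul_one]; rfl
    · rw [Submodule.torsionBySet.mk_smul]
      intro h0
      exact hy0 (congrArg Subtype.val h0)

end Groth.Agent.S5157
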