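import Groth.Statements.S1179
import Groth.Statements.S1179
import Groth.Agent.Lib.Helper16.Alg.SrcEtSch
import Mathlib
-- import your own Groth.Agent.* helpers here

set_option autoImplicit false
open CategoryTheory CategoryTheory.Limits AlgebraicGeometry Opposite
universe u
open Desc

namespace Groth.Agent.S1179

section
open CategoryTheory.Limits AlgebraicGeometry Groth.Agent.Helper16.Alg TensorProduct

/-- quasi-finiteness descends along faithfully flat maps on the source -/
theorem quasiFinite_of_faithfullyFlat {R A B : Type u} [CommRing R] [CommRing A]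
    [CommRing B] [Algebra R A] [Algebra A B] [Algebra R B] [IsScalarTower R A B]
    [Module.FaithfullyFlat A B] [Algebra.QuasiFinite R B] :
    Algebra.QuasiFinite R A := by
  refine ⟨fun P hP => ?_⟩
  let κ := P.ResidueField
  -- the map κ ⊗ A → κ ⊗ B
  let φ : κ ⊗[R] A →ₐ[κ] κ ⊗[R] B :=
    Algebra.TensorProduct.map (AlgHom.id κ κ) (IsScalarTower.toAlgHom R A B)
  have hφ : Function.Injective φ := by
    have h1 : Function.Injective (TensorProduct.mk A B (A ⊗[R] κ) 1) :=
      Module.FaithfullyFlat.tensorProduct_mk_injective (A := A) (B := B) (A ⊗[R] κ)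
    let e1 : B ⊗[A] (A ⊗[R] κ) ≃ₗ[R] B ⊗[R] κ :=
      (TensorProduct.AlgebraTensorModule.cancelBaseChange R A A B κ).restrictScalars R
    have h2 : Function.Injective
        ((TensorProduct.comm R B κ).toLinearMap ∘ₗ e1.toLinearMap ∘ₗ
          ((TensorProduct.mk A B (A ⊗[R] κ) 1).restrictScalars R) ∘ₗ
          (TensorProduct.comm R κ A).toLinearMap) := by
      simp only [LinearMap.coe_comp, LinearEquiv.coe_coe]
      exact (TensorProduct.comm R B κ).injective.comp
        (e1.injective.comp (h1.comp (TensorProduct.comm R κ A).injective))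
    have h3 : (φ.toLinearMap.restrictScalars R) =
        (TensorProduct.comm R B κ).toLinearMap ∘ₗ e1.toLinearMap ∘ₗ
          ((TensorProduct.mk A B (A ⊗[R] κ) 1).restrictScalars R) ∘ₗ
          (TensorProduct.comm R κ A).toLinearMap := by
      apply TensorProduct.ext'
      intro x a
      simp [φ, e1, Algebra.smul_def]
    intro x y hxy
    apply h2
    rw [← h3]
    exact hxy
  haveI : Module.Finite κ (κ ⊗[R] B) := Algebra.QuasiFinite.finite_fiber P
  exact Module.Finite.of_injective φ.toLinearMap hφ

theorem locallyQuasiFinite_of_comp_etale_surjective {U' U V : Scheme.{u}} (e : U' ⟶ U)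
    (h : U ⟶ V) [Etale e] [Surjective e] (hP : LocallyQuasiFinite (e ≫ h)) :
    LocallyQuasiFinite h := by
  refine of_comp_etale_surjective (P := @LocallyQuasiFinite) (Q := @RingHom.QuasiFinite) ?_ e h hP
  intro R A B _ _ _ f g hg hgf hc
  algebraize [f, g, g.comp f]
  haveI : Algebra.QuasiFinite R B := hc
  exact quasiFinite_of_faithfullyFlat (R := R) (A := A) (B := B)

theorem aux {X' X Y : Scheme.{u}} (f : X' ⟶ X) (g : X ⟶ Y) [Etale f] [Surjective f]
    [LocallyQuasiFinite (f ≫ g)] [LocallyOfFiniteType (f ≫ g)] :
    LocallyQuasiFinite g ∧ LocallyOfFiniteType g :=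
  ⟨locallyQuasiFinite_of_comp_etale_surjective f g inferInstance,
    locallyOfFiniteType_of_comp_etale_surjective f g inferInstance⟩

end

/-- Let f : X' ⟶ X be etale and surjective and g : X ⟶ Y a morphism. If f ≫ g is locally quasi-finite,
then g is locally quasi-finite; with stability under precomposition by etale maps this says that
local quasi-finiteness is etale local on the source. -/
theorem result {X' X Y : Scheme.{u}} (f : X' ⟶ X) (g : X ⟶ Y) [Etale f] [Surjective f]
    [LocallyQuasiFinite (f ≫ g)] [LocallyOfFiniteType (f ≫ g)] : LocallyQuasiFinite g ∧ LocallyOfFiniteType g := by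
  exact aux f g

end Groth.Agent.S1179
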