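import Groth.Statements.S1183
import Groth.Agent.Lib.Helper12.RkAscent
import Groth.Agent.Lib.Helper4.HensRk

set_option autoImplicit false
universe u
open Desc

namespace Groth.Agent.S1183

/-- Let A → B be a smooth ring map of Noetherian rings and k a natural number. If A satisfies (R_k) then
so does B; and if moreover A → B is faithfully flat and B satisfies (R_k), then A does. -/
theorem result (A B : Type u) [CommRing A] [CommRing B] [IsNoetherianRing A] [IsNoetherianRing B]
    [Algebra A B] [Algebra.Smooth A B] (k : ℕ) :
    (LocCoh.HasRk k A → LocCoh.HasRk k B) ∧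
    (Module.FaithfullyFlat A B → LocCoh.HasRk k B → LocCoh.HasRk k A) := by
  haveI : Module.Flat A B := inferInstance
  refine ⟨fun h => Groth.Agent.Helper12.RkAscent.hasRk_of_smooth A B k h, fun hff h => ?_⟩
  haveI := hff
  exact Groth.Agent.Helper4.HensINC.hasRk_of_faithfullyFlat A B k h

end Groth.Agent.S1183
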