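import Groth.Statements.S1188
import Mathlib.CategoryTheory.Galois.Full
import Mathlib.CategoryTheory.Galois.EssSurj
import Mathlib.CategoryTheory.Galois.Decomposition
import Mathlib.CategoryTheory.Galois.Prorepresentability
-- import your own Groth.Agent.* helpers here

set_option autoImplicit false
universe u v w
open CategoryTheory PreGaloisCategory
open Pi1

namespace Groth.Agent.S1188

open CategoryTheory.Limits

variable {C C' : Type u} [Category.{v} C] [Category.{v} C'] [GaloisCategory C] [GaloisCategory C']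
    (H : C ⥤ C') [Limits.PreservesFiniteLimits H] [Limits.PreservesFiniteColimits H]
    (F' : C' ⥤ FintypeCat.{w}) [FiberFunctor F'] [FiberFunctor (H ⋙ F')]

lemma continuous_autWhisker : Continuous (Pi1X.autWhisker H F') := by
  rw [Topology.IsInducing.continuous_iff (autEmbedding_isClosedEmbedding _).isInducing,
    continuous_pi_iff]
  intro X
  change Continuous fun a ↦ autEmbedding F' a (H.obj X)
  exact (continuous_apply (H.obj X)).comp continuous_induced_dom

/-- (⇐) -/
lemma injective_of_cond
    (hc : ∀ X' : C', IsConnected X' → ∃ (X : C) (Y' : C') (p : Y' ⟶ X') (q : Y' ⟶ H.obj X), Epi p ∧ Mono q) :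
    Function.Injective (Pi1X.autWhisker H F') := by
  rw [injective_iff_map_eq_one]
  intro σ' hσ'
  have hid : ∀ (X : C) (z : F'.obj (H.obj X)), σ'.hom.app (H.obj X) z = z := fun X z => by
    have : (Pi1X.autWhisker H F' σ').hom.app X z = z := by rw [hσ']; rfl
    exact this
  -- connected case
  have hconn : ∀ (X' : C'), IsConnected X' → ∀ x' : F'.obj X', σ'.hom.app X' x' = x' := by
    intro X' hX' x'
    obtain ⟨X, Y', p, q, hp, hq⟩ := hc X' hX'
    obtain ⟨y, rfl⟩ := surjective_on_fiber_of_epi F' p x'
    have hy : σ'.hom.app Y' y = y := by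
      have hinj : Function.Injective (F'.map q) := ConcreteCategory.injective_of_mono_of_preservesPullback (F'.map q)
      apply hinj
      have := ConcreteCategory.congr_hom (σ'.hom.naturality q) y
      have h2 : F'.map q (σ'.hom.app Y' y) = σ'.hom.app (H.obj X) (F'.map q y) := this.symm
      rw [h2, hid]
    have := ConcreteCategory.congr_hom (σ'.hom.naturality p) y
    have h2 : σ'.hom.app X' (F'.map p y) = F'.map p (σ'.hom.app Y' y) := this
    rw [h2, hy]
  ext X' x'
  obtain ⟨Y, i, y, rfl, hY, hi⟩ := fiber_in_connected_component F' X' x'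
  have := ConcreteCategory.congr_hom (σ'.hom.naturality i) y
  have h2 : σ'.hom.app X' (F'.map i y) = F'.map i (σ'.hom.app Y y) := this
  change σ'.hom.app X' (F'.map i y) = F'.map i y
  rw [h2, hconn Y hY]


/-- (⇒) -/
lemma cond_of_injective (hinj : Function.Injective (Pi1X.autWhisker H F')) (X' : C')
    (hX' : IsConnected X') :
    ∃ (X : C) (Y' : C') (p : Y' ⟶ X') (q : Y' ⟶ H.obj X), Epi p ∧ Mono q := by
  obtain ⟨x'⟩ := nonempty_fiber_of_isConnected F' X'
  have hemb : Topology.IsClosedEmbedding (Pi1X.autWhisker H F') :=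
    (continuous_autWhisker H F').isClosedEmbedding hinj
  have hopen : IsOpen (MulAction.stabilizer (Aut F') x' : Set (Aut F')) :=
    stabilizer_isOpen (Aut F') x'
  obtain ⟨V, hV, hVeq⟩ := hemb.isInducing.isOpen_iff.1 hopen
  have h1V : (1 : Aut (H ⋙ F')) ∈ V := by
    have : (1 : Aut F') ∈ (Pi1X.autWhisker H F') ⁻¹' V := by
      rw [hVeq]; exact one_mem (MulAction.stabilizer (Aut F') x')
    simpa using this
  obtain ⟨A, -, hA⟩ := (nhds_one_has_basis_stabilizers (H ⋙ F')).mem_iff.1 (hV.mem_nhds h1V)
  obtain ⟨Y', q, a', ha', hY', hq⟩ := fiber_in_connected_component F' (H.obj A.obj) A.pt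
  have hstab : ∀ τ : Aut F', τ.hom.app Y' a' = a' → τ.hom.app X' x' = x' := by
    intro τ hτ
    have h2 : Pi1X.autWhisker H F' τ ∈ MulAction.stabilizer (Aut (H ⋙ F')) A.pt := by
      rw [MulAction.mem_stabilizer_iff]
      change τ.hom.app (H.obj A.obj) A.pt = A.pt
      rw [← ha']
      have := ConcreteCategory.congr_hom (τ.hom.naturality q) a'
      have h3 : τ.hom.app (H.obj A.obj) (F'.map q a') = F'.map q (τ.hom.app Y' a') := this
      rw [h3, hτ]
    have h3 : τ ∈ (Pi1X.autWhisker H F') ⁻¹' V := hA h2
    rw [hVeq] at h3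
    exact h3
  have htrans : MulAction.IsPretransitive (Aut F') (F'.obj Y') :=
    FiberFunctor.isPretransitive_of_isConnected F' Y'
  choose τ hτ using fun y : F'.obj Y' => MulAction.exists_smul_eq (Aut F') a' y
  let ψ : F'.obj Y' → F'.obj X' := fun y => (τ y).hom.app X' x'
  have hψ : ∀ (σ : Aut F') (y : F'.obj Y'), σ.hom.app Y' a' = y → ψ y = σ.hom.app X' x' := by
    intro σ y hy
    have h1 : ((τ y)⁻¹ * σ).hom.app Y' a' = a' := by
      change (τ y)⁻¹ • (σ • a') = a'
      have h2 : σ • a' = y := hy
      rw [h2, inv_smul_eq_iff]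
      exact (hτ y).symm
    have h2 := hstab _ h1
    have h3 : (τ y)⁻¹ • (σ • x') = x' := h2
    have h4 : σ • x' = τ y • x' := inv_smul_eq_iff.1 h3
    exact h4.symm
  let φ : (functorToAction F').obj Y' ⟶ (functorToAction F').obj X' :=
    { hom := FintypeCat.homMk ψ
      comm := fun σ => by
        ext y
        change ψ (σ.hom.app Y' y) = σ.hom.app X' (ψ y)
        rw [hψ (σ * τ y) (σ.hom.app Y' y) (congrArg (fun z => σ.hom.app Y' z) (hτ y))]
        rfl }
  obtain ⟨p, hp⟩ := (functorToAction F').map_surjective φ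
  have : Nonempty (F'.obj Y') := ⟨a'⟩
  exact ⟨A.obj, Y', p, q, epi_of_nonempty_of_isConnected F' p, hq⟩

theorem aux : Function.Injective (Pi1X.autWhisker H F') ↔
      ∀ X' : C', IsConnected X' → ∃ (X : C) (Y' : C') (p : Y' ⟶ X') (q : Y' ⟶ H.obj X), Epi p ∧ Mono q :=
  ⟨fun h X' hX' => cond_of_injective H F' h X' hX', injective_of_cond H F'⟩

/-- Let H : C ⥤ C' be an exact functor between Galois categories and F' a fibre functor on C' such that
F' ∘ H is a fibre functor on C; write h : π_1(C', F') → π_1(C, F' ∘ H) for the induced homomorphism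
of fundamental groups. Then h is injective if and only if for every connected object X' of C' there
are an object X of C, an object Y' of C', an epimorphism Y' ⟶ X' and a monomorphism Y' ⟶ H(X). -/
theorem result {C C' : Type u} [Category.{v} C] [Category.{v} C'] [GaloisCategory C] [GaloisCategory C']
    (H : C ⥤ C') [Limits.PreservesFiniteLimits H] [Limits.PreservesFiniteColimits H]
    (F' : C' ⥤ FintypeCat.{w}) [FiberFunctor F'] [FiberFunctor (H ⋙ F')] :
    Function.Injective (Pi1X.autWhisker H F') ↔
      ∀ X' : C', IsConnected X' → ∃ (X : C) (Y' : C') (p : Y' ⟶ X') (q : Y' ⟶ H.obj X), Epi p ∧ Mono q := by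
  exact aux H F'

end Groth.Agent.S1188
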