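import Groth.Statements.S1190
import Groth.Agent.Lib.Helper8.GaloisCat6

set_option autoImplicit false
universe u v w
open CategoryTheory PreGaloisCategory
open Pi1

namespace Groth.Agent.S1190
open Groth.Agent.Helper8.GaloisCat


/-- Let H : C ⥤ C' and H' : C' ⥤ C'' be exact functors between Galois categories, F'' a fibre functor on
C'' with F'' ∘ H' and F'' ∘ H' ∘ H fibre functors, and h', h the induced homomorphisms of
fundamental groups. Then: h is surjective, h ∘ h' is trivial and the kernel of h is the closed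
normal subgroup generated by the image of h', if and only if H is fully faithful and its essential
image consists exactly of those X' in C' for which H'(X') is a finite coproduct of copies of the
final object. -/
theorem result {C C' C'' : Type u} [Category.{v} C] [Category.{v} C'] [Category.{v} C'']
    [GaloisCategory C] [GaloisCategory C'] [GaloisCategory C'']
    (H : C ⥤ C') [Limits.PreservesFiniteLimits H] [Limits.PreservesFiniteColimits H]
    (H' : C' ⥤ C'') [Limits.PreservesFiniteLimits H'] [Limits.PreservesFiniteColimits H']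
    (F'' : C'' ⥤ FintypeCat.{w}) [FiberFunctor F''] [FiberFunctor (H' ⋙ F'')] [FiberFunctor (H ⋙ (H' ⋙ F''))] :
    (Function.Surjective (Pi1X.autWhisker H (H' ⋙ F'')) ∧
      (∀ σ : Aut F'', Pi1X.autWhisker H (H' ⋙ F'') (Pi1X.autWhisker H' F'' σ) = 1) ∧
      (Pi1X.autWhisker H (H' ⋙ F'')).ker = (Subgroup.normalClosure (Set.range (Pi1X.autWhisker H' F''))).topologicalClosure) ↔
    ((H.Full ∧ H.Faithful) ∧
      ∀ X' : C', (∃ X : C, Nonempty (H.obj X ≅ X')) ↔ ∃ n : ℕ, Nonempty (H'.obj X' ≅ ∐ fun _ : Fin n => ⊤_ C'')) := by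
  classical
  constructor
  · rintro ⟨hs, htriv, hker⟩
    have hff : H.Full ∧ H.Faithful := (Groth.Agent.S1187.result H (H' ⋙ F'')).mp hs
    refine ⟨hff, fun X' => ⟨?_, ?_⟩⟩
    · rintro ⟨X, ⟨e⟩⟩
      obtain ⟨n, ⟨e'⟩⟩ := (Groth.Agent.S1189.result H H' F'').mp htriv X
      exact ⟨n, ⟨H'.mapIso e.symm ≪≫ e'⟩⟩
    · intro htr
      have hfix := (trivialized_iff_fixed H' F'' X').mp htr
      have hN : (Subgroup.normalClosure (Set.range (Pi1X.autWhisker H' F''))).topologicalClosure ≤
          fixAll (H' ⋙ F'') X' :=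
        closure_normalClosure_le_fixAll (H' ⋙ F'') X' _ (by
          rintro _ ⟨σ, rfl⟩ b
          exact hfix b σ)
      rw [← hker] at hN
      exact exists_preimage_of_ker_le H (H' ⋙ F'') hs X' hN
  · rintro ⟨hff, hess⟩
    have hs : Function.Surjective (Pi1X.autWhisker H (H' ⋙ F'')) :=
      (Groth.Agent.S1187.result H (H' ⋙ F'')).mpr hff
    have htriv : ∀ σ : Aut F'', Pi1X.autWhisker H (H' ⋙ F'') (Pi1X.autWhisker H' F'' σ) = 1 :=
      (Groth.Agent.S1189.result H H' F'').mpr (fun X => (hess (H.obj X)).mp ⟨X, ⟨Iso.refl _⟩⟩)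
    refine ⟨hs, htriv, ?_⟩
    apply le_antisymm
    · intro τ hτ
      by_contra hcon
      haveI : ((Subgroup.normalClosure (Set.range (Pi1X.autWhisker H' F''))).topologicalClosure).Normal :=
        Subgroup.is_normal_topologicalClosure _
      obtain ⟨V, hVn, hVo, hNV, hτV⟩ := exists_open_normal_sep
        ((Subgroup.normalClosure (Set.range (Pi1X.autWhisker H' F''))).topologicalClosure)
        (Subgroup.isClosed_topologicalClosure _) τ hcon
      obtain ⟨X', a', hconn, hstab⟩ := exists_connected_stabilizer_eq (H' ⋙ F'') V hVo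
      have hall : ∀ (b : (H' ⋙ F'').obj X') (ρ : Aut (H' ⋙ F'')), ρ ∈ V → ρ.hom.app X' b = b := by
        intro b ρ hρ
        obtain ⟨g, hg⟩ := MulAction.exists_smul_eq (Aut (H' ⋙ F'')) a' b
        have h1 : g⁻¹ * ρ * g⁻¹⁻¹ ∈ V := hVn.conj_mem ρ hρ g⁻¹
        rw [← hstab, MulAction.mem_stabilizer_iff, inv_inv, mul_smul, mul_smul, hg,
          inv_smul_eq_iff, hg] at h1
        exact h1
      have htr : ∃ n : ℕ, Nonempty (H'.obj X' ≅ ∐ fun _ : Fin n => ⊤_ C'') := by
        rw [trivialized_iff_fixed H' F'' X']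
        intro b σ
        apply hall b
        apply hNV
        apply Subgroup.le_topologicalClosure
        exact Subgroup.subset_normalClosure ⟨σ, rfl⟩
      obtain ⟨X, ⟨e⟩⟩ := (hess X').mpr htr
      have hτ1 : ∀ p : (H' ⋙ F'').obj (H.obj X), τ.hom.app (H.obj X) p = p := by
        intro p
        have h1 : Pi1X.autWhisker H (H' ⋙ F'') τ = 1 := hτ
        have h2 := congrArg (fun ρ : Aut (H ⋙ (H' ⋙ F'')) => ρ.hom.app X p) h1
        exact h2
      apply hτV
      rw [← hstab, MulAction.mem_stabilizer_iff]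
      have h3 : (H' ⋙ F'').map e.hom ((H' ⋙ F'').map e.inv a') = a' := by
        rw [← FintypeCat.comp_apply, ← CategoryTheory.Functor.map_comp, e.inv_hom_id,
          CategoryTheory.Functor.map_id]
        rfl
      rw [← h3, mulAction_naturality, mulAction_def, hτ1]
    · apply Subgroup.topologicalClosure_minimal
      · apply Subgroup.normalClosure_le_normal
        rintro _ ⟨σ, rfl⟩
        exact htriv σ
      · have : (((Pi1X.autWhisker H (H' ⋙ F'')).ker : Subgroup (Aut (H' ⋙ F''))) : Set (Aut (H' ⋙ F''))) =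
            (Pi1X.autWhisker H (H' ⋙ F'')) ⁻¹' {1} := by
          ext x
          simp [MonoidHom.mem_ker]
        rw [this]
        exact isClosed_singleton.preimage (continuous_autWhisker (H' ⋙ F'') H)

end Groth.Agent.S1190
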