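import Groth.Statements.S1191
import Groth.Statements.S1191
import Mathlib
-- import your own Groth.Agent.* helpers here

set_option autoImplicit false
universe u
open FlatMor

namespace Groth.Agent.S1191

open TensorProduct

attribute [local instance] Algebra.TensorProduct.rightAlgebra

section
variable {R S : Type u} [CommRing R] [CommRing S] [Algebra R S]

/-- elements of `R` outside `p` become units in the fibre ring -/
lemma isUnit_algebraMap_fiber (p : Ideal R) [p.IsPrime] {a : R} (ha : a ∉ p) :
    IsUnit (algebraMap R (p.Fiber S) a) := by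
  rw [IsScalarTower.algebraMap_apply R p.ResidueField (p.Fiber S)]
  apply IsUnit.map
  rw [isUnit_iff_ne_zero]
  intro h
  exact ha ((Ideal.algebraMap_residueField_eq_zero).1 h)

lemma fiberIdeal_isPrime_aux (p : Ideal R) [p.IsPrime] (q : Ideal S) [q.IsPrime] [q.LiesOver p] :
    ∃ Q : Ideal (p.Fiber S), Q.IsPrime ∧ Q = FlatCA.fiberIdeal p q ∧
      Q.comap (Algebra.TensorProduct.includeRight (R := R) (A := p.ResidueField) (B := S)).toRingHom = q := by
  have hq : PrimeSpectrum.comap (algebraMap R S) ⟨q, inferInstance⟩ = ⟨p, inferInstance⟩ := by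
    ext1
    exact (Ideal.over_def q p).symm
  let Q := PrimeSpectrum.preimageEquivFiber R S ⟨p, inferInstance⟩ ⟨⟨q, inferInstance⟩, hq⟩
  have hQ : Q.asIdeal.comap
      (Algebra.TensorProduct.includeRight (R := R) (A := p.ResidueField) (B := S)).toRingHom = q := by
    have := (PrimeSpectrum.preimageEquivFiber R S ⟨p, inferInstance⟩).symm_apply_apply
      ⟨⟨q, inferInstance⟩, hq⟩
    have h2 := congrArg (fun z => z.1.asIdeal) this
    exact h2
  refine ⟨Q.asIdeal, Q.2, ?_, hQ⟩
  apply le_antisymm
  · intro x hx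
    obtain ⟨a, ha, s, e⟩ := Ideal.Fiber.exists_smul_eq_one_tmul p x
    have hu := isUnit_algebraMap_fiber (S := S) p ha
    have h1 : (1 : p.ResidueField) ⊗ₜ[R] s ∈ Q.asIdeal := by
      rw [← e, Algebra.smul_def]
      exact Ideal.mul_mem_left _ _ hx
    have h2 : s ∈ q := by
      rw [← hQ]
      exact h1
    have h3 : (1 : p.ResidueField) ⊗ₜ[R] s ∈ FlatCA.fiberIdeal p q :=
      Ideal.mem_map_of_mem _ h2
    rw [← e, Algebra.smul_def] at h3
    exact (Ideal.unit_mul_mem_iff_mem _ hu).1 h3
  · unfold FlatCA.fiberIdeal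
    rw [Ideal.map_le_iff_le_comap, hQ]

end

theorem aux {R S : Type u} [CommRing R] [CommRing S] [Algebra R S] [Algebra.FinitePresentation R S]
    (N : Type u) [AddCommGroup N] [Module S N] [Module R N] [IsScalarTower R S N] [Module.FinitePresentation S N]
    (p : Ideal R) [p.IsPrime] (q : Ideal S) [q.IsPrime] [q.LiesOver p] :
    ∃ g : S, g ∉ q ∧ ∀ r ∈ associatedPrimes (p.Fiber S) (FlatCA.fiberMod p S N),
      ¬ r ≤ FlatCA.fiberIdeal p q → (1 : p.ResidueField) ⊗ₜ[R] g ∈ r := by
  classical
  obtain ⟨Q, hQp, hQ, hQc⟩ := fiberIdeal_isPrime_aux (R := R) (S := S) p q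
  haveI : Algebra.FiniteType p.ResidueField (p.Fiber S) := inferInstance
  haveI : IsNoetherianRing (p.Fiber S) := Algebra.FiniteType.isNoetherianRing p.ResidueField _
  haveI : Module.Finite (p.Fiber S) (FlatCA.fiberMod p S N) :=
    inferInstanceAs (Module.Finite (p.Fiber S) ((p.Fiber S) ⊗[S] N))
  have hfin : (associatedPrimes (p.Fiber S) (FlatCA.fiberMod p S N)).Finite :=
    associatedPrimes.finite _ _
  let T : Finset (Ideal (p.Fiber S)) := hfin.toFinset.filter (fun r => ¬ r ≤ Q)
  have hT : ¬ (T.inf id ≤ Q) := by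
    intro h
    obtain ⟨r, hr, hrQ⟩ := (Ideal.IsPrime.inf_le' hQp).1 h
    exact (Finset.mem_filter.1 hr).2 hrQ
  obtain ⟨x, hxT, hxQ⟩ := SetLike.not_le_iff_exists.1 hT
  obtain ⟨a, ha, g, e⟩ := Ideal.Fiber.exists_smul_eq_one_tmul p x
  have hu := isUnit_algebraMap_fiber (S := S) p ha
  refine ⟨g, ?_, ?_⟩
  · intro hg
    have h3 : (1 : p.ResidueField) ⊗ₜ[R] g ∈ FlatCA.fiberIdeal p q :=
      Ideal.mem_map_of_mem _ hg
    rw [← hQ, ← e, Algebra.smul_def] at h3
    exact hxQ ((Ideal.unit_mul_mem_iff_mem _ hu).1 h3)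
  · intro r hr hrq
    rw [← hQ] at hrq
    have hrT : r ∈ T := Finset.mem_filter.2 ⟨hfin.mem_toFinset.2 hr, hrq⟩
    have hxr : x ∈ r := by
      have := Finset.inf_le (f := id) hrT
      exact this hxT
    rw [← e, Algebra.smul_def]
    exact Ideal.mul_mem_left _ _ hxr

open TensorProduct in
/-- For a finitely presented algebra S over R, a finitely presented S-module N and a prime q of S over
p, some element of S outside q maps into every associated prime of the fibre module of N over p that
is not contained in the extension of q to the fibre ring. -/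
theorem result {R S : Type u} [CommRing R] [CommRing S] [Algebra R S] [Algebra.FinitePresentation R S]
    (N : Type u) [AddCommGroup N] [Module S N] [Module R N] [IsScalarTower R S N] [Module.FinitePresentation S N]
    (p : Ideal R) [p.IsPrime] (q : Ideal S) [q.IsPrime] [q.LiesOver p] :
    ∃ g : S, g ∉ q ∧ ∀ r ∈ associatedPrimes (p.Fiber S) (FlatCA.fiberMod p S N),
      ¬ r ≤ FlatCA.fiberIdeal p q → (1 : p.ResidueField) ⊗ₜ[R] g ∈ r := by
  exact aux N p q

end Groth.Agent.S1191
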