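import Groth.Statements.S1193
import Mathlib

set_option autoImplicit false
universe u
open FlatMor

namespace Groth.Agent.S1193

section Aux

open Submodule in
theorem colon_comap {S F : Type*} [CommRing S] [CommRing F] [Algebra S F] (M : Type*)
    [AddCommGroup M] [Module S M] [Module F M] [IsScalarTower S F M] (x : M) :
    (Submodule.colon (⊥ : Submodule S M) {x}) =
      ((⊥ : Submodule F M).colon {x}).comap (algebraMap S F) := by
  ext s
  simp only [Submodule.mem_colon_singleton, Submodule.mem_bot, Ideal.mem_comap, algebraMap_smul F]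

theorem assPrimes_eq_image {S F : Type*} [CommRing S] [CommRing F] [Algebra S F] (M : Type*)
    [AddCommGroup M] [Module S M] [Module F M] [IsScalarTower S F M]
    (hφ : Function.Surjective (algebraMap S F)) :
    associatedPrimes S M = (Ideal.comap (algebraMap S F)) '' associatedPrimes F M := by
  ext p
  constructor
  · rintro ⟨hp, x, hx⟩
    have h1 : p = (((⊥ : Submodule F M).colon {x}).radical).comap (algebraMap S F) := by
      rw [hx, colon_comap (F := F) M x, Ideal.comap_radical]
    refine ⟨((⊥ : Submodule F M).colon {x}).radical, ⟨?_, x, rfl⟩, h1.symm⟩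
    have h2 : ((⊥ : Submodule F M).colon {x}).radical = p.map (algebraMap S F) := by
      rw [h1, Ideal.map_comap_of_surjective _ hφ]
    rw [h2]
    refine Ideal.map_isPrime_of_surjective hφ ?_
    rw [RingHom.ker_eq_comap_bot, h1]
    exact Ideal.comap_mono bot_le
  · rintro ⟨P, ⟨hP, x, hx⟩, rfl⟩
    refine ⟨Ideal.comap_isPrime _ P, x, ?_⟩
    rw [colon_comap (S := S) (F := F) M x, ← Ideal.comap_radical, ← hx]

theorem zeroDiv_eq {S F : Type*} [CommRing S] [CommRing F] [Algebra S F] (M : Type*)
    [AddCommGroup M] [Module S M] [Module F M] [IsScalarTower S F M] [IsNoetherianRing F]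
    (hφ : Function.Surjective (algebraMap S F)) :
    {s : S | ∃ x : M, x ≠ 0 ∧ s • x = 0} = ⋃ p ∈ associatedPrimes S M, (p : Set S) := by
  ext s
  rw [assPrimes_eq_image M hφ]
  constructor
  · rintro ⟨x, hx0, hsx⟩
    have h1 : algebraMap S F s ∈ {r : F | ∃ x : M, x ≠ 0 ∧ r • x = 0} :=
      ⟨x, hx0, by rwa [algebraMap_smul]⟩
    rw [← biUnion_associatedPrimes_eq_zero_divisors F M] at h1
    obtain ⟨P, hP, hsP⟩ := Set.mem_iUnion₂.mp h1
    exact Set.mem_iUnion₂.mpr ⟨P.comap _, ⟨P, hP, rfl⟩, hsP⟩
  · intro h
    obtain ⟨p, ⟨P, hP, rfl⟩, hsP⟩ := Set.mem_iUnion₂.mp h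
    have h1 : algebraMap S F s ∈ ⋃ p ∈ associatedPrimes F M, (p : Set F) :=
      Set.mem_iUnion₂.mpr ⟨P, hP, hsP⟩
    rw [biUnion_associatedPrimes_eq_zero_divisors F M] at h1
    obtain ⟨x, hx0, hsx⟩ := h1
    exact ⟨x, hx0, by rwa [algebraMap_smul] at hsx⟩

attribute [local instance] Algebra.TensorProduct.rightAlgebra

open IsLocalRing TensorProduct in
theorem surj_fiber {R S : Type u} [CommRing R] [IsLocalRing R] [CommRing S] [Algebra R S] :
    Function.Surjective (algebraMap S ((maximalIdeal R).Fiber S)) := by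
  intro x
  induction x using TensorProduct.induction_on with
  | zero => exact ⟨0, map_zero _⟩
  | tmul k s =>
    obtain ⟨r, rfl⟩ := Ideal.algebraMap_residueField_surjective (maximalIdeal R) k
    refine ⟨r • s, ?_⟩
    rw [Algebra.TensorProduct.right_algebraMap_apply, Algebra.algebraMap_eq_smul_one,
      TensorProduct.smul_tmul]
  | add x y hx hy =>
    obtain ⟨a, rfl⟩ := hx
    obtain ⟨b, rfl⟩ := hy
    exact ⟨a + b, map_add _ _ _⟩

open IsLocalRing TensorProduct in
instance tower_fiber {R S : Type u} [CommRing R] [IsLocalRing R] [CommRing S] [Algebra R S]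
    (N : Type u) [AddCommGroup N] [Module S N] [Module R N] [IsScalarTower R S N] :
    IsScalarTower S ((maximalIdeal R).Fiber S) (FlatCA.fiberMod (maximalIdeal R) S N) := by
  constructor
  intro s f x
  show (s • f) • (show ((maximalIdeal R).Fiber S ⊗[S] N) from x) =
    s • (f • (show ((maximalIdeal R).Fiber S ⊗[S] N) from x))
  exact smul_assoc s f (show ((maximalIdeal R).Fiber S ⊗[S] N) from x)

end Aux

attribute [local instance] Algebra.TensorProduct.rightAlgebra in

open IsLocalRing in
/-- Let R be a local ring, S an R-algebra whose closed fibre ring is Noetherian and N an S-module whose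
closed fibre module N/𝔪N is finite. Let Σ be the set of elements of S acting injectively on N/𝔪N.
Then a prime of S is disjoint from Σ exactly when it lies inside an associated prime of N/𝔪N (the
primes of the localization at Σ), the localization of S at Σ has finitely many maximal ideals, and
an ideal of that localization is maximal exactly when it is prime and contracts to a maximal member
of the set of associated primes of N/𝔪N. -/
theorem result {R S : Type u} [CommRing R] [IsLocalRing R] [CommRing S] [Algebra R S]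
    (N : Type u) [AddCommGroup N] [Module S N] [Module R N] [IsScalarTower R S N]
    [IsNoetherianRing ((maximalIdeal R).Fiber S)]
    [Module.Finite ((maximalIdeal R).Fiber S) (FlatCA.fiberMod (maximalIdeal R) S N)] :
    (∀ (q : Ideal S) [q.IsPrime], Disjoint (q : Set S) (FlatCA.nzdFiber R S N) ↔
        ∃ q' ∈ associatedPrimes S (FlatCA.fiberMod (maximalIdeal R) S N), q ≤ q') ∧
    {Q : Ideal (Localization (FlatCA.nzdFiber R S N)) | Q.IsMaximal}.Finite ∧
    (∀ Q : Ideal (Localization (FlatCA.nzdFiber R S N)), Q.IsMaximal ↔ (Q.IsPrime ∧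
        Maximal (fun r => r ∈ associatedPrimes S (FlatCA.fiberMod (maximalIdeal R) S N))
          (Q.comap (algebraMap S (Localization (FlatCA.nzdFiber R S N)))))) := by
  classical
  have hφ : Function.Surjective (algebraMap S ((maximalIdeal R).Fiber S)) := surj_fiber
  have hfin : (associatedPrimes S (FlatCA.fiberMod (maximalIdeal R) S N)).Finite := by
    rw [assPrimes_eq_image (F := (maximalIdeal R).Fiber S) _ hφ]
    exact (associatedPrimes.finite ((maximalIdeal R).Fiber S) _).image _
  have hzd := zeroDiv_eq (F := (maximalIdeal R).Fiber S)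
    (FlatCA.fiberMod (maximalIdeal R) S N) hφ
  have hdisj : ∀ q' ∈ associatedPrimes S (FlatCA.fiberMod (maximalIdeal R) S N),
      Disjoint (q' : Set S) (FlatCA.nzdFiber R S N) := by
    rintro q' ⟨hq', x, hx⟩
    rw [Set.disjoint_left]
    intro s hs hsg
    rw [hx] at hs
    obtain ⟨n, hn⟩ := hs
    rw [Submodule.mem_colon_singleton, Submodule.mem_bot] at hn
    have h1 : s ^ n ∈ FlatCA.nzdFiber R S N := pow_mem hsg n
    have h2 : x = 0 := (mem_nonZeroSMulDivisors_iff.mp h1) x hn
    apply hq'.ne_top
    rw [hx, h2, Submodule.colon_singleton_zero, Ideal.radical_top]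
  have part1 : ∀ (q : Ideal S) [q.IsPrime], Disjoint (q : Set S) (FlatCA.nzdFiber R S N) ↔
      ∃ q' ∈ associatedPrimes S (FlatCA.fiberMod (maximalIdeal R) S N), q ≤ q' := by
    intro q _
    constructor
    · intro hd
      have hsub : (q : Set S) ⊆ ⋃ i ∈ (↑hfin.toFinset : Set (Ideal S)),
          ((id i : Ideal S) : Set S) := by
        rw [Set.Finite.coe_toFinset]
        intro s hs
        have h1 : s ∉ FlatCA.nzdFiber R S N := fun h => Set.disjoint_left.mp hd hs h
        rw [mem_nonZeroSMulDivisors_iff] at h1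
        push Not at h1
        obtain ⟨m, hm, hm0⟩ := h1
        have h2 : s ∈ {s : S | ∃ x : FlatCA.fiberMod (maximalIdeal R) S N, x ≠ 0 ∧ s • x = 0} :=
          ⟨m, hm0, hm⟩
        rw [hzd] at h2
        exact h2
      obtain ⟨q', hq', hle⟩ := (Ideal.subset_union_prime (s := hfin.toFinset) (f := id) q q
        (fun i hi _ _ => ((Set.Finite.mem_toFinset hfin).mp hi).1)).mp hsub
      exact ⟨q', (Set.Finite.mem_toFinset hfin).mp hq', hle⟩
    · rintro ⟨q', hq', hle⟩
      exact (hdisj q' hq').mono_left (SetLike.coe_subset_coe.mpr hle)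
  have key : ∀ Q : Ideal (Localization (FlatCA.nzdFiber R S N)), Q.IsMaximal →
      ∀ q' ∈ associatedPrimes S (FlatCA.fiberMod (maximalIdeal R) S N),
        Q.comap (algebraMap S (Localization (FlatCA.nzdFiber R S N))) ≤ q' →
        q' = Q.comap (algebraMap S (Localization (FlatCA.nzdFiber R S N))) := by
    intro Q hQ q' hq' hle
    have hq'p : q'.IsPrime := hq'.1
    have hQ' : (q'.map (algebraMap S (Localization (FlatCA.nzdFiber R S N)))).IsPrime :=
      IsLocalization.isPrime_of_isPrime_disjoint (FlatCA.nzdFiber R S N) _ q' hq'p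
        (hdisj q' hq').symm
    have h1 : Q ≤ q'.map (algebraMap S (Localization (FlatCA.nzdFiber R S N))) := by
      rw [← IsLocalization.map_under (FlatCA.nzdFiber R S N) _ Q]
      exact Ideal.map_mono hle
    have h2 : Q = q'.map (algebraMap S (Localization (FlatCA.nzdFiber R S N))) :=
      hQ.eq_of_le hQ'.ne_top h1
    rw [h2]
    exact (IsLocalization.under_map_of_isPrime_disjoint (FlatCA.nzdFiber R S N) _ hq'p
      (hdisj q' hq').symm).symm
  have key2 : ∀ Q : Ideal (Localization (FlatCA.nzdFiber R S N)), Q.IsMaximal →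
      Q.comap (algebraMap S (Localization (FlatCA.nzdFiber R S N))) ∈
        associatedPrimes S (FlatCA.fiberMod (maximalIdeal R) S N) := by
    intro Q hQ
    obtain ⟨hqp, hqd⟩ := (IsLocalization.isPrime_iff_isPrime_disjoint
      (FlatCA.nzdFiber R S N) _ Q).mp hQ.isPrime
    obtain ⟨q', hq', hle⟩ := (@part1 _ hqp).mp hqd.symm
    rw [← key Q hQ q' hq' hle]
    exact hq'
  refine ⟨fun q _ => part1 q, ?_, ?_⟩
  · refine Set.Finite.of_injOn (f := Ideal.comap (algebraMap S (Localization (FlatCA.nzdFiber R S N))))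
      (fun Q hQ => key2 Q hQ) ?_ hfin
    intro Q₁ _ Q₂ _ h
    rw [← IsLocalization.map_under (FlatCA.nzdFiber R S N) _ Q₁,
      ← IsLocalization.map_under (FlatCA.nzdFiber R S N) _ Q₂]
    exact congrArg _ h
  · intro Q
    constructor
    · intro hQ
      refine ⟨hQ.isPrime, key2 Q hQ, ?_⟩
      intro q'' hq'' hle
      exact (key Q hQ q'' hq'' hle).le
    · rintro ⟨hQp, hmem, hmax⟩
      obtain ⟨Q₁, hQ₁, hle⟩ := Ideal.exists_le_maximal Q hQp.ne_top
      have h1 := key2 Q₁ hQ₁
      have h2 : Q₁.comap (algebraMap S (Localization (FlatCA.nzdFiber R S N))) ≤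
          Q.comap (algebraMap S (Localization (FlatCA.nzdFiber R S N))) :=
        hmax h1 (Ideal.comap_mono hle)
      have h3 : Q₁ ≤ Q := by
        rw [← IsLocalization.map_under (FlatCA.nzdFiber R S N) _ Q₁,
          ← IsLocalization.map_under (FlatCA.nzdFiber R S N) _ Q]
        exact Ideal.map_mono h2
      rw [le_antisymm hle h3]
      exact hQ₁

end Groth.Agent.S1193
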