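import Groth.Statements.S12056
import Mathlib

set_option autoImplicit false
open Red

namespace Groth.Agent.S12056

open PowerSeries

/-- In formal-power-series form, let R be a commutative ring and F ∈ R⟦X⟧ with constant term 1 whose
linear coefficient a is a unit of R. Suppose that in R⟦X₀, X₁⟧ one has F(X₀ + X₁ · F(X₀)) = F(X₀) ·
F(X₁) (the functional equation F(x + y F(x)) = F(x) F(y)). Then F = 1 + a X. (The published
statement concerns a morphism to the multiplicative group from an open neighbourhood of the zero
section in the additive group over a base scheme, the identity holding on an open neighbourhood of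
the origin of the plane on which all terms are defined, with a the derivative at 0; this row states
it for formal power series over a ring.) -/
theorem result (R : Type) [CommRing R] (F : PowerSeries R)
    (h0 : PowerSeries.constantCoeff F = 1) (ha : IsUnit (PowerSeries.coeff 1 F))
    (hFE : PowerSeries.subst
        (MvPowerSeries.X (0 : Fin 2) + MvPowerSeries.X 1 * PowerSeries.subst (MvPowerSeries.X (0 : Fin 2)) F :
          MvPowerSeries (Fin 2) R) F =
      PowerSeries.subst (MvPowerSeries.X (0 : Fin 2)) F * PowerSeries.subst (MvPowerSeries.X (1 : Fin 2)) F) :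
    F = 1 + PowerSeries.C (PowerSeries.coeff 1 F) * PowerSeries.X := by
  classical
  set x : MvPowerSeries (Fin 2) R := MvPowerSeries.X 0 with hx
  set y : MvPowerSeries (Fin 2) R := MvPowerSeries.X 1 with hy
  have hsx : PowerSeries.HasSubst x := PowerSeries.HasSubst.X 0
  have hsy : PowerSeries.HasSubst y := PowerSeries.HasSubst.X 1
  set Fx : MvPowerSeries (Fin 2) R := PowerSeries.subst x F with hFx
  set Fy : MvPowerSeries (Fin 2) R := PowerSeries.subst y F with hFy
  set u : MvPowerSeries (Fin 2) R := x + y * Fx with hu
  set v : MvPowerSeries (Fin 2) R := y + x * Fy with hv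
  have hsu : PowerSeries.HasSubst u := hsx.add (hsy.mul_left)
  have hsv : PowerSeries.HasSubst v := hsy.add (hsx.mul_left)
  -- swap
  let b : Fin 2 → MvPowerSeries (Fin 2) R := fun i => MvPowerSeries.X (Equiv.swap 0 1 i)
  have hb : MvPowerSeries.HasSubst b :=
    MvPowerSeries.hasSubst_of_constantCoeff_zero (fun s => by simp [b])
  have key : ∀ (a₀ : MvPowerSeries (Fin 2) R) (ha₀ : PowerSeries.HasSubst a₀),
      MvPowerSeries.subst b (PowerSeries.subst a₀ F) =
        PowerSeries.subst (MvPowerSeries.subst b a₀) F := fun a₀ ha₀ =>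
    MvPowerSeries.subst_comp_subst_apply (ha₀.const) hb F
  have hbx : MvPowerSeries.subst b x = y := by
    rw [hx, MvPowerSeries.subst_X hb]
    simp [b, hy]
  have hby : MvPowerSeries.subst b y = x := by
    rw [hy, MvPowerSeries.subst_X hb]
    simp [b, hx]
  have hbFx : MvPowerSeries.subst b Fx = Fy := by rw [hFx, key x hsx, hbx]
  have hbFy : MvPowerSeries.subst b Fy = Fx := by rw [hFy, key y hsy, hby]
  have hbu : MvPowerSeries.subst b u = v := by
    rw [hu, MvPowerSeries.subst_add hb, MvPowerSeries.subst_mul hb, hbx, hby, hbFx]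
  have hFE' : PowerSeries.subst v F = Fy * Fx := by
    have := congrArg (MvPowerSeries.subst b) hFE
    rwa [key u hsu, hbu, MvPowerSeries.subst_mul hb, hbFx, hbFy] at this
  have huv : PowerSeries.subst u F = PowerSeries.subst v F := by rw [hFE, hFE', mul_comm]
  -- injectivity of substitution into `P = F - 1`
  set P : PowerSeries R := F - 1 with hP
  have hP0 : PowerSeries.constantCoeff P = 0 := by simp [hP, h0]
  have hP1 : PowerSeries.coeff 1 P = PowerSeries.coeff 1 F := by
    simp [hP, PowerSeries.coeff_one]
  have hPu : IsUnit (PowerSeries.coeff 1 P) := hP1 ▸ ha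
  set Q := P.substInvOfIsUnit hPu with hQ
  have hQP : PowerSeries.subst P Q = PowerSeries.X := P.subst_substInvOfIsUnit_left hP0 hPu
  have hsP : PowerSeries.HasSubst P := PowerSeries.HasSubst.of_constantCoeff_zero' hP0
  have inj : ∀ (w : MvPowerSeries (Fin 2) R) (hw : PowerSeries.HasSubst w),
      w = PowerSeries.subst (PowerSeries.subst w P) Q := by
    intro w hw
    rw [← PowerSeries.subst_comp_subst_apply hsP hw Q, hQP, PowerSeries.subst_X hw]
  have hPuv : PowerSeries.subst u P = PowerSeries.subst v P := by
    rw [hP, PowerSeries.subst_sub hsu, PowerSeries.subst_sub hsv, huv]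
    congr 1
    rw [← map_one (PowerSeries.C (R := R)), PowerSeries.subst_C, PowerSeries.subst_C]
  have huv' : u = v := by rw [inj u hsu, inj v hsv, hPuv]
  -- coefficient comparison
  have hcoef : ∀ n : ℕ, 2 ≤ n → PowerSeries.coeff n F = 0 := by
    intro n hn
    have h1 := congrArg (MvPowerSeries.coeff (Finsupp.single (1 : Fin 2) 1 + Finsupp.single (0 : Fin 2) n)) huv'
    rw [hu, hv, map_add, map_add] at h1
    have c1 : MvPowerSeries.coeff (Finsupp.single (1 : Fin 2) 1 + Finsupp.single (0 : Fin 2) n) x = 0 := by
      rw [hx, MvPowerSeries.coeff_X, if_neg]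
      intro h
      have := DFunLike.congr_fun h 1
      simp at this
    have c2 : MvPowerSeries.coeff (Finsupp.single (1 : Fin 2) 1 + Finsupp.single (0 : Fin 2) n) y = 0 := by
      rw [hy, MvPowerSeries.coeff_X, if_neg]
      intro h
      have := DFunLike.congr_fun h 0
      simp at this
      omega
    have c3 : MvPowerSeries.coeff (Finsupp.single (1 : Fin 2) 1 + Finsupp.single (0 : Fin 2) n) (y * Fx) =
        PowerSeries.coeff n F := by
      rw [hy, MvPowerSeries.X_def, MvPowerSeries.coeff_add_monomial_mul, one_mul, hFx, hx,
        PowerSeries.coeff_subst_single]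
      simp
    have c4 : MvPowerSeries.coeff (Finsupp.single (1 : Fin 2) 1 + Finsupp.single (0 : Fin 2) n) (x * Fy) = 0 := by
      have e : Finsupp.single (1 : Fin 2) 1 + Finsupp.single (0 : Fin 2) n =
          Finsupp.single (0 : Fin 2) 1 + (Finsupp.single (1 : Fin 2) 1 + Finsupp.single (0 : Fin 2) (n - 1)) := by
        ext i
        fin_cases i <;> simp <;> omega
      rw [e, hx, MvPowerSeries.X_def, MvPowerSeries.coeff_add_monomial_mul, one_mul, hFy, hy,
        PowerSeries.coeff_subst_single, if_neg]
      intro h
      have := DFunLike.congr_fun h 0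
      simp at this
      omega
    rw [c1, c2, c3, c4] at h1
    simpa using h1
  ext n
  rcases n with _ | _ | n
  · simp [h0]
  · simp [PowerSeries.coeff_one, PowerSeries.coeff_X]
  · rw [hcoef (n + 1 + 1) (by omega)]
    simp [PowerSeries.coeff_one, PowerSeries.coeff_X, PowerSeries.coeff_C_mul]


end Groth.Agent.S12056
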