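import Groth.Statements.S12058
import Mathlib.Algebra.Homology.DerivedCategory.Ext.ExactSequences

set_option autoImplicit false
universe w v u
open CategoryTheory CategoryTheory.Limits CategoryTheory.Abelian
open SGA3

namespace Groth.Agent.S12058

/-- In an abelian category, let 0 → A' → A → A'' → 0 be a short exact sequence, φ : A' ⟶ Q a morphism
and π : A'' ⟶ P an epimorphism with kernel C. Consider the quadruples (B, f, g, h) with 0 → Q → B →
P → 0 short exact (maps f, g) and h : A ⟶ B such that the squares commute: (A' → A → B) = (A' → Q →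
B) and (A → B → P) = (A → A'' → P). Such a quadruple exists if and only if the image in Ext¹(C, Q)
of the class of the given extension in Ext¹(A'', A') (push forward along φ, pull back along the
inclusion C → A'') is zero. -/
theorem result {C : Type u} [Category.{v} C] [Abelian C]
    [HasExt.{w} C] {S : ShortComplex C} (hS : S.ShortExact) {Q P : C} (φ : S.X₁ ⟶ Q) (π : S.X₃ ⟶ P) [Epi π] :
    (∃ (B : C) (f : Q ⟶ B) (g : B ⟶ P) (h : S.X₂ ⟶ B) (w : f ≫ g = 0),
        (ShortComplex.mk f g w).ShortExact ∧ S.f ≫ h = φ ≫ f ∧ h ≫ g = S.g ≫ π) ↔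
      (Ext.mk₀ (kernel.ι π)).comp (hS.extClass.comp (Ext.mk₀ φ) (add_zero 1)) (zero_add 1) = 0 := by
  constructor
  · rintro ⟨B, f, g, h, w, hT, h1, h2⟩
    let α : S ⟶ ShortComplex.mk f g w :=
      { τ₁ := φ, τ₂ := h, τ₃ := π, comm₁₂ := h1.symm, comm₂₃ := h2 }
    have hnat := ShortComplex.ShortExact.extClass_naturality hS hT α
    have e1 : hS.extClass.comp (Ext.mk₀ φ) (add_zero 1) = (Ext.mk₀ π).comp hT.extClass (zero_add 1) :=
      hnat
    rw [e1, ← Ext.comp_assoc_of_second_deg_zero, Ext.mk₀_comp_mk₀,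
      kernel.condition, Ext.mk₀_zero, Ext.zero_comp]
  · intro hzero
    -- K = kernel of S.g ≫ π
    let k : kernel (S.g ≫ π) ⟶ S.X₂ := kernel.ι (S.g ≫ π)
    let j : S.X₁ ⟶ kernel (S.g ≫ π) := kernel.lift _ S.f (by rw [← Category.assoc, S.zero, zero_comp])
    let q : kernel (S.g ≫ π) ⟶ kernel π :=
      kernel.lift _ (k ≫ S.g) (by rw [Category.assoc]; exact kernel.condition _)
    have hjk : j ≫ k = S.f := kernel.lift_ι _ _ _
    have hqι : q ≫ kernel.ι π = k ≫ S.g := kernel.lift_ι _ _ _
    have hjq : j ≫ q = 0 := by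
      rw [← cancel_mono (kernel.ι π), Category.assoc, hqι, ← Category.assoc, hjk, S.zero, zero_comp]
    haveI : Mono S.f := hS.mono_f
    haveI : Epi S.g := hS.epi_g
    haveI : Mono j := mono_of_mono_fac hjk
    haveI : Epi q := by
      rw [epi_iff_surjective_up_to_refinements]
      intro X x
      obtain ⟨X', pr, hpr, a, ha⟩ := surjective_up_to_refinements_of_epi S.g (x ≫ kernel.ι π)
      refine ⟨X', pr, hpr, kernel.lift _ a ?_, ?_⟩
      · rw [← Category.assoc, ← ha, Category.assoc, Category.assoc, kernel.condition, comp_zero,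
          comp_zero]
      · rw [← cancel_mono (kernel.ι π), Category.assoc, Category.assoc, hqι, kernel.lift_ι_assoc, ha]
    have hC : (ShortComplex.mk j q hjq).ShortExact := by
      refine ShortComplex.ShortExact.mk' ?_ ‹_› ‹_›
      rw [ShortComplex.exact_iff_exact_up_to_refinements]
      intro X x hx
      obtain ⟨X', pr, hpr, y, hy⟩ := hS.exact.exact_up_to_refinements (x ≫ k) (by
        have : x ≫ q ≫ kernel.ι π = 0 := by
          have h' : x ≫ q = 0 := hx
          rw [← Category.assoc, h', zero_comp]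
        rw [Category.assoc, ← hqι]; exact this)
      refine ⟨X', pr, hpr, y, ?_⟩
      rw [← cancel_mono k]
      simp only [Category.assoc]
      rw [hy, hjk]
    let β : ShortComplex.mk j q hjq ⟶ S :=
      { τ₁ := 𝟙 _, τ₂ := k, τ₃ := kernel.ι π, comm₁₂ := by simp [hjk], comm₂₃ := hqι.symm }
    have hnat := ShortComplex.ShortExact.extClass_naturality hC hS β
    have e1 : hC.extClass = (Ext.mk₀ (kernel.ι π)).comp hS.extClass (zero_add 1) := by
      have : hC.extClass.comp (Ext.mk₀ (𝟙 S.X₁)) (add_zero 1) =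
          (Ext.mk₀ (kernel.ι π)).comp hS.extClass (zero_add 1) := hnat
      rwa [Ext.comp_mk₀_id] at this
    have e2 : hC.extClass.comp (Ext.mk₀ φ) (add_zero 1) = 0 := by
      rw [e1, Ext.comp_assoc_of_third_deg_zero]
      exact hzero
    obtain ⟨x₂, hx₂⟩ := Ext.contravariant_sequence_exact₁ hC Q (Ext.mk₀ φ) (by lia : 1 + 0 = 1) e2
    obtain ⟨ψ, rfl⟩ := (Ext.mk₀_bijective _ _).2 x₂
    have hψ : j ≫ ψ = φ := by
      have : Ext.mk₀ (j ≫ ψ) = Ext.mk₀ φ := by rw [← Ext.mk₀_comp_mk₀]; exact hx₂
      exact (Ext.mk₀_bijective _ _).1 this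
    -- the pushout
    let B := pushout k ψ
    let f : Q ⟶ B := pushout.inr k ψ
    let h : S.X₂ ⟶ B := pushout.inl k ψ
    let g : B ⟶ P := pushout.desc (S.g ≫ π) 0 (by rw [kernel.condition, comp_zero])
    have hfg : f ≫ g = 0 := pushout.inr_desc _ _ _
    have hhg : h ≫ g = S.g ≫ π := pushout.inl_desc _ _ _
    have hcond : k ≫ h = ψ ≫ f := pushout.condition
    refine ⟨B, f, g, h, hfg, ?_, ?_, hhg⟩
    · haveI : Mono f := by infer_instance
      haveI : Epi g := epi_of_epi_fac hhg
      refine ShortComplex.ShortExact.mk' ?_ ‹_› ‹_›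
      rw [ShortComplex.exact_iff_exact_up_to_refinements]
      intro X x hx
      have hx' : x ≫ g = 0 := hx
      haveI : Epi (biprod.desc h f) :=
        epi_of_isColimit_cofork (Abelian.BiproductToPushoutIsCokernel.isColimitBiproductToPushout k ψ)
      obtain ⟨X', pr, hpr, ab, hab⟩ := surjective_up_to_refinements_of_epi (biprod.desc h f) x
      have h0 : (ab ≫ biprod.fst) ≫ S.g ≫ π = 0 := by
        have : (pr ≫ x) ≫ g = 0 := by rw [Category.assoc, hx', comp_zero]
        rw [hab] at this
        have e : ab ≫ biprod.desc h f = (ab ≫ biprod.fst) ≫ h + (ab ≫ biprod.snd) ≫ f := by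
          rw [biprod.desc_eq, Preadditive.comp_add]; simp
        rw [e, Preadditive.add_comp] at this
        simp only [Category.assoc] at this
        rw [hfg, comp_zero, comp_zero, add_zero, hhg] at this
        rw [Category.assoc]; exact this
      refine ⟨X', pr, hpr, kernel.lift _ (ab ≫ biprod.fst) h0 ≫ ψ + ab ≫ biprod.snd, ?_⟩
      have e : ab ≫ biprod.desc h f = (ab ≫ biprod.fst) ≫ h + (ab ≫ biprod.snd) ≫ f := by
        rw [biprod.desc_eq, Preadditive.comp_add]; simp
      show pr ≫ x = _ ≫ f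
      rw [hab, e, Preadditive.add_comp]
      congr 1
      rw [Category.assoc (kernel.lift _ _ _), ← hcond, kernel.lift_ι_assoc]
    · show S.f ≫ h = φ ≫ f
      rw [← hjk, Category.assoc, hcond, ← Category.assoc, hψ]


end Groth.Agent.S12058
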