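import Groth.Statements.S1206
import Mathlib
-- import your own Groth.Agent.* helpers here

set_option autoImplicit false
universe u
open FlatMor

namespace Groth.Agent.S1206

section
variable {A : Type u} [CommRing A]

lemma sup_mul_sup_le (X Y 𝔞 : Ideal A) : (X ⊔ 𝔞) * (Y ⊔ 𝔞) ≤ X * Y ⊔ 𝔞 := by
  rw [Ideal.sup_mul, Ideal.mul_sup, Ideal.mul_sup]
  exact sup_le (sup_le le_sup_left (le_sup_of_le_right Ideal.mul_le_right))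
    (sup_le (le_sup_of_le_right Ideal.mul_le_left) (le_sup_of_le_right Ideal.mul_le_left))

lemma sup_span_mul_colon_le (𝔟 : Ideal A) (a : A) :
    (𝔟 ⊔ Ideal.span {a}) * (𝔟.colon (Ideal.span {a})) ≤ 𝔟 := by
  rw [Ideal.sup_mul]
  refine sup_le Ideal.mul_le_left ?_
  rw [Ideal.span_singleton_mul_le_iff]
  intro z hz
  rw [mul_comm]
  exact (Ideal.mem_colon_span_singleton (x := a) (r := z)).1 hz

/-- If every prime containing `𝔞` contains a member of a multiplicatively closed family of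
finitely generated ideals, then so does `𝔞`. -/
lemma exists_mem_le_of_forall_prime (𝒮 : Set (Ideal A)) (hne : 𝒮.Nonempty)
    (hfg : ∀ I ∈ 𝒮, I.FG) (hmul : ∀ I ∈ 𝒮, ∀ J ∈ 𝒮, I * J ∈ 𝒮) (𝔞 : Ideal A)
    (h : ∀ p : Ideal A, p.IsPrime → 𝔞 ≤ p → ∃ I ∈ 𝒮, I ≤ p) : ∃ I ∈ 𝒮, I ≤ 𝔞 := by
  let P : Ideal A → Prop := fun 𝔟 => ∃ I ∈ 𝒮, I ≤ 𝔟 ⊔ 𝔞
  have hOka : Ideal.IsOka P := by
    refine ⟨?_, ?_⟩
    · obtain ⟨I, hI⟩ := hne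
      exact ⟨I, hI, by rw [top_sup_eq]; exact le_top⟩
    · rintro 𝔟 a ⟨I₁, hI₁, h₁⟩ ⟨I₂, hI₂, h₂⟩
      refine ⟨I₁ * I₂, hmul _ hI₁ _ hI₂, ?_⟩
      calc I₁ * I₂ ≤ ((𝔟 ⊔ Ideal.span {a}) ⊔ 𝔞) * (𝔟.colon (Ideal.span {a}) ⊔ 𝔞) :=
            Ideal.mul_mono h₁ h₂
        _ ≤ (𝔟 ⊔ Ideal.span {a}) * (𝔟.colon (Ideal.span {a})) ⊔ 𝔞 := sup_mul_sup_le _ _ _
        _ ≤ 𝔟 ⊔ 𝔞 := sup_le_sup_right (sup_span_mul_colon_le 𝔟 a) _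
  by_contra hno
  have h0 : ¬ P ⊥ := by
    rintro ⟨I, hI, hle⟩
    rw [bot_sup_eq] at hle
    exact hno ⟨I, hI, hle⟩
  obtain ⟨M, -, hM⟩ : ∃ M, ⊥ ≤ M ∧ Maximal (¬P ·) M := by
    refine zorn_le_nonempty₀ {𝔟 | ¬P 𝔟} (fun c hc₁ hc₂ y hy => ⟨sSup c, ?_, fun _ => le_sSup⟩) ⊥ h0
    rintro ⟨I, hI, hle⟩
    have hcomp := (Submodule.fg_iff_compact I).1 (hfg I hI)
    rw [CompleteLattice.isCompactElement_iff_le_of_directed_sSup_le] at hcomp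
    have hdir : DirectedOn (· ≤ ·) ((· ⊔ 𝔞) '' c) := by
      rintro _ ⟨J₁, hJ₁, rfl⟩ _ ⟨J₂, hJ₂, rfl⟩
      rcases hc₂.total hJ₁ hJ₂ with h12 | h21
      · exact ⟨J₂ ⊔ 𝔞, ⟨J₂, hJ₂, rfl⟩, sup_le_sup_right h12 _, le_rfl⟩
      · exact ⟨J₁ ⊔ 𝔞, ⟨J₁, hJ₁, rfl⟩, le_rfl, sup_le_sup_right h21 _⟩
    have hle' : sSup c ⊔ 𝔞 ≤ sSup ((· ⊔ 𝔞) '' c) := by
      refine sup_le (sSup_le fun J hJ => le_sSup_of_le ⟨J, hJ, rfl⟩ le_sup_left) ?_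
      exact le_sSup_of_le ⟨y, hy, rfl⟩ le_sup_right
    obtain ⟨_, ⟨J, hJ, rfl⟩, hIJ⟩ := hcomp _ (Set.Nonempty.image _ ⟨y, hy⟩) hdir (hle.trans hle')
    exact hc₁ hJ ⟨I, hI, hIJ⟩
  have hMprime : M.IsPrime := hOka.isPrime_of_maximal_not hM
  have h𝔞M : 𝔞 ≤ M := by
    have h1 : ¬ P (M ⊔ 𝔞) := by
      rintro ⟨I, hI, hle⟩
      rw [sup_assoc, sup_idem] at hle
      exact hM.prop ⟨I, hI, hle⟩
    have h2 : M ⊔ 𝔞 ≤ M := hM.le_of_ge h1 le_sup_left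
    exact le_sup_right.trans h2
  obtain ⟨I, hI, hle⟩ := h M hMprime h𝔞M
  exact hM.prop ⟨I, hI, hle.trans le_sup_left⟩

end

theorem aux (A : Type u) [CommRing A] [IsDomain A] [IsLocalRing A] (hA : ¬ IsField A)
    (𝒮 : Set (Ideal A)) (hfg : ∀ I ∈ 𝒮, I.FG) (hmul : ∀ I ∈ 𝒮, ∀ J ∈ 𝒮, I * J ∈ 𝒮)
    (hne : ∀ I ∈ 𝒮, I ≠ ⊥) (hcov : ∀ (p : Ideal A), p.IsPrime → p ≠ ⊥ → ∃ I ∈ 𝒮, I ≤ p) :
    sInf 𝒮 = ⊥ := by
  by_contra hbot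
  obtain ⟨f, hf, hf0⟩ := (Submodule.ne_bot_iff _).1 hbot
  have hm : IsLocalRing.maximalIdeal A ≠ ⊥ := fun h => hA (IsLocalRing.isField_iff_maximalIdeal_eq.2 h)
  obtain ⟨I₀, hI₀, hI₀m⟩ := hcov _ (IsLocalRing.maximalIdeal.isMaximal A).isPrime hm
  have hfm : f ∈ IsLocalRing.maximalIdeal A := hI₀m ((Submodule.mem_sInf.1 hf) I₀ hI₀)
  obtain ⟨I, hI, hle⟩ := exists_mem_le_of_forall_prime 𝒮 ⟨I₀, hI₀⟩ hfg hmul (Ideal.span {f ^ 2})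
    (fun p hp hle => hcov p hp (by
      rintro rfl
      have : f ^ 2 ∈ (⊥ : Ideal A) := hle (Ideal.subset_span rfl)
      exact hf0 (pow_eq_zero_iff (two_ne_zero)|>.1 ((Submodule.mem_bot A).1 this))))
  have hfI : f ∈ I := (Submodule.mem_sInf.1 hf) I hI
  obtain ⟨g, hg⟩ := Ideal.mem_span_singleton'.1 (hle hfI)
  have h1 : f * (g * f - 1) = 0 := by
    have : f * (g * f) = g * f ^ 2 := by ring
    rw [mul_sub, mul_one, this, hg, sub_self]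
  have h2 : g * f = 1 := by
    rcases mul_eq_zero.1 h1 with h | h
    · exact absurd h hf0
    · exact sub_eq_zero.1 h
  have : IsUnit f := IsUnit.of_mul_eq_one_right g h2
  exact (IsLocalRing.mem_maximalIdeal f).1 hfm this

/-- Let A be a local domain which is not a field and 𝒮 a set of finitely generated ideals of A, closed
under products, such that the union of the closed sets V(I), I ∈ 𝒮, is exactly the set of nonzero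
primes (every nonzero prime contains a member of 𝒮 and no member is zero). Then the intersection of
all members of 𝒮 is zero. -/
theorem result (A : Type u) [CommRing A] [IsDomain A] [IsLocalRing A] (hA : ¬ IsField A)
    (𝒮 : Set (Ideal A)) (hfg : ∀ I ∈ 𝒮, I.FG) (hmul : ∀ I ∈ 𝒮, ∀ J ∈ 𝒮, I * J ∈ 𝒮)
    (hne : ∀ I ∈ 𝒮, I ≠ ⊥) (hcov : ∀ (p : Ideal A), p.IsPrime → p ≠ ⊥ → ∃ I ∈ 𝒮, I ≤ p) :
    sInf 𝒮 = ⊥ := by
  exact aux A hA 𝒮 hfg hmul hne hcov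

end Groth.Agent.S1206
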