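import Groth.Statements.S12067
import Groth.Agent.Lib.Helper12.Unipotent
open Groth.Agent.Helper12

set_option autoImplicit false
universe u
open TensorProduct
open SGA3t2b

namespace Groth.Agent.S12067

theorem finrank_comap_mkQ {k V : Type*} [Field k] [AddCommGroup V] [Module k V] [Module.Finite k V]
    (L : Submodule k V) (W : Submodule k (V ⧸ L)) :
    Module.finrank k ↥(W.comap L.mkQ) = Module.finrank k W + Module.finrank k L := by
  -- the restriction of mkQ to the comap, onto W
  let f : ↥(W.comap L.mkQ) →ₗ[k] W := L.mkQ.restrict (fun x hx => hx)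
  have hsurj : Function.Surjective f := by
    rintro ⟨w, hw⟩
    obtain ⟨v, rfl⟩ := L.mkQ_surjective w
    exact ⟨⟨v, hw⟩, rfl⟩
  have hker : Module.finrank k (LinearMap.ker f) = Module.finrank k L := by
    apply LinearEquiv.finrank_eq
    refine LinearEquiv.ofBijective
      ((W.comap L.mkQ).subtype.restrict (p := LinearMap.ker f) (q := L) ?_) ⟨?_, ?_⟩
    · intro x hx
      have h1 : f x = 0 := hx
      have h2 : L.mkQ (x : V) = 0 := congrArg Subtype.val h1
      rwa [Submodule.mkQ_apply, Submodule.Quotient.mk_eq_zero] at h2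
    · intro x y hxy
      have : ((x : ↥(W.comap L.mkQ)) : V) = ((y : ↥(W.comap L.mkQ)) : V) :=
        congrArg (fun z : L => (z : V)) hxy
      exact Subtype.ext (Subtype.ext this)
    · rintro ⟨l, hl⟩
      have hlW : l ∈ W.comap L.mkQ := by
        rw [Submodule.mem_comap, Submodule.mkQ_apply, (Submodule.Quotient.mk_eq_zero L).2 hl]
        exact zero_mem _
      refine ⟨⟨⟨l, hlW⟩, ?_⟩, rfl⟩
      rw [LinearMap.mem_ker]
      apply Subtype.ext
      show L.mkQ l = 0
      rw [Submodule.mkQ_apply, (Submodule.Quotient.mk_eq_zero L).2 hl]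
  have := LinearMap.finrank_range_add_finrank_ker f
  rw [LinearMap.range_eq_top.2 hsurj, finrank_top, hker] at this
  exact this.symm

theorem flag (k : Type u) [Field k] (A : Type u) [CommRing A] [Bialgebra k A]
    (hU : HopfRep.IsUnipotent k A) :
    ∀ (n : ℕ) (V : Type u) [AddCommGroup V] [Module k V] [HopfRep.Comod k A V] [Module.Finite k V],
      Module.finrank k V = n →
      ∃ F : ℕ → Submodule k V, F 0 = ⊥ ∧ F n = ⊤ ∧
        (∀ i, HopfRep.IsSubcomod (k := k) (A := A) (F i)) ∧
        ∀ i < n, F i ≤ F (i + 1) ∧
          Module.finrank k ↥(F (i + 1)) = Module.finrank k ↥(F i) + 1 ∧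
          ∀ v ∈ F (i + 1), HopfRep.Comod.coact (k := k) (A := A) v - v ⊗ₜ[k] (1 : A) ∈
            LinearMap.range ((F i).subtype.rTensor A) := by
  intro n
  induction n with
  | zero =>
    intro V _ _ _ _ hn
    haveI : Subsingleton V := Module.finrank_zero_iff.1 hn
    exact ⟨fun _ => ⊥, rfl, Subsingleton.elim _ _, fun _ => isSubcomod_bot,
      fun i hi => absurd hi (Nat.not_lt_zero i)⟩
  | succ n ih =>
    intro V _ _ _ _ hn
    haveI hnt : Nontrivial V := Module.nontrivial_of_finrank_pos (R := k) (by omega)
    have hW : HopfRep.fixedPts k A V ≠ ⊥ := hU V inferInstance hnt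
    obtain ⟨v, hv, hv0⟩ := Submodule.exists_mem_ne_zero_of_ne_bot hW
    have hvfix : HopfRep.Comod.coact (k := k) (A := A) v = v ⊗ₜ[k] (1 : A) := hv
    let L : Submodule k V := Submodule.span k {v}
    have hLfix : ∀ w ∈ L, HopfRep.Comod.coact (k := k) (A := A) w = w ⊗ₜ[k] (1 : A) := by
      intro w hw
      obtain ⟨c, rfl⟩ := Submodule.mem_span_singleton.1 hw
      rw [map_smul, hvfix, TensorProduct.smul_tmul']
    have hLsub : HopfRep.IsSubcomod (k := k) (A := A) L := by
      intro w hw
      rw [hLfix w hw]
      exact ⟨(⟨w, hw⟩ : L) ⊗ₜ[k] (1 : A), by simp⟩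
    have hLrank : Module.finrank k L = 1 := finrank_span_singleton hv0
    letI := quotComod L hLsub
    have hQ : Module.finrank k (V ⧸ L) = n := by
      have h1 := Submodule.finrank_quotient_add_finrank L
      omega
    obtain ⟨F', h0, hn', hsub, hstep⟩ := ih (V ⧸ L) hQ
    refine ⟨fun i => Nat.casesOn i ⊥ (fun j => (F' j).comap L.mkQ), rfl, ?_, ?_, ?_⟩
    · show (F' n).comap L.mkQ = ⊤
      rw [hn', Submodule.comap_top]
    · intro i
      cases i with
      | zero => exact isSubcomod_bot
      | succ j => exact comap_mkQ_isSubcomod _ hLsub (F' j) (hsub j)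
    · intro i hi
      cases i with
      | zero =>
        have e : (F' 0).comap L.mkQ = L := by
          rw [h0]
          ext w
          rw [Submodule.mem_comap, Submodule.mem_bot, Submodule.mkQ_apply,
            Submodule.Quotient.mk_eq_zero]
        refine ⟨bot_le, ?_, ?_⟩
        · show Module.finrank k ↥((F' 0).comap L.mkQ) = Module.finrank k ↥(⊥ : Submodule k V) + 1
          rw [e, hLrank, finrank_bot]
        · intro w hw
          have hw' : w ∈ L := by
            have : w ∈ (F' 0).comap L.mkQ := hw
            rwa [e] at this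
          rw [hLfix w hw', sub_self]
          exact zero_mem _
      | succ j =>
        have hj : j < n := by omega
        obtain ⟨hle, hrank, htriv⟩ := hstep j hj
        refine ⟨Submodule.comap_mono hle, ?_, ?_⟩
        · show Module.finrank k ↥((F' (j + 1)).comap L.mkQ) =
            Module.finrank k ↥((F' j).comap L.mkQ) + 1
          rw [finrank_comap_mkQ, finrank_comap_mkQ, hrank]
          omega
        · intro w hw
          have hw' : L.mkQ w ∈ F' (j + 1) := hw
          have h := htriv (L.mkQ w) hw'
          apply mem_range_rTensor_comap L.mkQ (F' j)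
          rw [map_sub, LinearMap.rTensor_tmul]
          have e : @HopfRep.Comod.coact k A _ _ _ _ (V ⧸ L) _ _ (quotComod L hLsub) (L.mkQ w) =
              L.mkQ.rTensor A (HopfRep.Comod.coact (k := k) (A := A) w) :=
            quotCoact_mkQ _ hLsub w
          rw [← e]; exact h

/-- In Hopf-algebra form, let k be a field and A a finitely generated commutative Hopf algebra over k
(an affine algebraic group G) which is unipotent: every nonzero finite-dimensional comodule has a
nonzero fixed vector. Then every finite-dimensional comodule V (a finite-dimensional representation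
of G), of dimension n, has a flag of subcomodules 0 = V_0 ⊂ V_1 ⊂ ⋯ ⊂ V_n = V with one-dimensional
successive quotients on which G acts trivially: for v ∈ V_(i+1) the coaction of v is congruent to v
⊗ 1 modulo V_i ⊗ A. -/
theorem result (k : Type u) [Field k] (A : Type u) [CommRing A]
    [HopfAlgebra k A] [Algebra.FiniteType k A] (hU : HopfRep.IsUnipotent k A)
    (V : Type u) [AddCommGroup V] [Module k V] [HopfRep.Comod k A V] [Module.Finite k V] :
    ∃ F : Fin (Module.finrank k V + 1) → Submodule k V,
      F 0 = ⊥ ∧ F (Fin.last _) = ⊤ ∧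
      (∀ i : Fin (Module.finrank k V + 1), HopfRep.IsSubcomod (k := k) (A := A) (F i)) ∧
      ∀ i : Fin (Module.finrank k V), F i.castSucc ≤ F i.succ ∧
        Module.finrank k ↥(F i.succ) = Module.finrank k ↥(F i.castSucc) + 1 ∧
        ∀ v ∈ F i.succ, HopfRep.Comod.coact (k := k) (A := A) v - v ⊗ₜ[k] (1 : A) ∈
          LinearMap.range ((F i.castSucc).subtype.rTensor A) := by
  obtain ⟨F, h0, hn, hsub, hstep⟩ := flag k A hU (Module.finrank k V) V rfl
  refine ⟨fun i => F i.val, h0, hn, fun i => hsub i.val, fun i => ?_⟩
  exact hstep i.val i.isLt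


end Groth.Agent.S12067
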