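import Groth.Statements.S1207
import Mathlib
import Groth.Agent.S1206
-- import your own Groth.Agent.* helpers here

set_option autoImplicit false
universe u
open FlatMor

namespace Groth.Agent.S1207

theorem aux (A : Type u) [CommRing A] [IsLocalRing A] (I J : Ideal A) (hJ : J.FG) (hJ1 : J ≠ ⊤)
    (hI : ∀ n : ℕ, 1 ≤ n → I ≤ J ^ n) (p : Ideal A) [hpp : p.IsPrime] (hp : ¬ J ≤ p)
    (hmax : ∀ (p' : Ideal A), p'.IsPrime → p ≤ p' → ¬ J ≤ p' → p' = p) : I ≤ p := by
  let B := A ⧸ p
  let mk : A →+* B := Ideal.Quotient.mk p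
  have hsurj : Function.Surjective mk := Ideal.Quotient.mk_surjective
  have : IsLocalRing B := IsLocalRing.of_surjective' mk hsurj
  let J' : Ideal B := J.map mk
  let 𝒮 : Set (Ideal B) := Set.range (fun n : ℕ => J' ^ (n + 1))
  obtain ⟨x, hxJ, hxp⟩ := Set.not_subset.1 hp
  have hx0 : mk x ≠ 0 := fun h => hxp (Ideal.Quotient.eq_zero_iff_mem.1 h)
  have hnf : ¬ IsField B := by
    intro hf
    have hmaxp : p.IsMaximal := Ideal.Quotient.maximal_of_isField p hf
    have : p = IsLocalRing.maximalIdeal A := IsLocalRing.eq_maximalIdeal hmaxp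
    exact hp (this ▸ IsLocalRing.le_maximalIdeal hJ1)
  have key := Groth.Agent.S1206.result B hnf 𝒮
    (by
      rintro _ ⟨n, rfl⟩
      exact Ideal.FG.pow (hJ.map mk))
    (by
      rintro _ ⟨n, rfl⟩ _ ⟨m, rfl⟩
      exact ⟨n + m + 1, by simp only [← pow_add]; congr 1; ring⟩)
    (by
      rintro _ ⟨n, rfl⟩ h
      have h1 : mk x ^ (n + 1) ∈ J' ^ (n + 1) := Ideal.pow_mem_pow (Ideal.mem_map_of_mem mk hxJ) _
      have h' : J' ^ (n + 1) = ⊥ := h
      rw [h'] at h1
      exact hx0 (pow_eq_zero_iff (Nat.succ_ne_zero n) |>.1 ((Submodule.mem_bot B).1 h1)))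
    (by
      intro q hq hq0
      refine ⟨J' ^ (0 + 1), ⟨0, rfl⟩, ?_⟩
      rw [zero_add, pow_one, Ideal.map_le_iff_le_comap]
      by_contra hJq
      have hpq : p ≤ q.comap mk := by
        intro a ha
        rw [Ideal.mem_comap]
        rw [Ideal.Quotient.eq_zero_iff_mem.2 ha]
        exact Submodule.zero_mem _
      have hqp := hmax (q.comap mk) (Ideal.comap_isPrime mk q) hpq hJq
      apply hq0
      rw [← Ideal.map_comap_of_surjective mk hsurj q, hqp]
      exact (Ideal.map_eq_bot_iff_le_ker mk).2 (by rw [Ideal.mk_ker]))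
  have hIle : I.map mk ≤ sInf 𝒮 := by
    apply le_sInf
    rintro _ ⟨n, rfl⟩
    change Ideal.map mk I ≤ (Ideal.map mk J) ^ (n + 1)
    rw [← Ideal.map_pow]
    exact Ideal.map_mono (hI (n + 1) (Nat.succ_le_succ (Nat.zero_le n)))
  rw [key, le_bot_iff, Ideal.map_eq_bot_iff_le_ker, Ideal.mk_ker] at hIle
  exact hIle

/-- Let A be a local ring and I, J ideals of A with J finitely generated, J ≠ A, and I ⊆ J^n for all n ≥
1. Then every prime p not containing J which is maximal among the primes not containing J (a closed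
point of Spec A ∖ V(J)) contains I. (The published statement leaves the hypothesis J ≠ A implicit;
for J = A the assertion fails.) -/
theorem result (A : Type u) [CommRing A] [IsLocalRing A] (I J : Ideal A) (hJ : J.FG) (hJ1 : J ≠ ⊤)
    (hI : ∀ n : ℕ, 1 ≤ n → I ≤ J ^ n) (p : Ideal A) [p.IsPrime] (hp : ¬ J ≤ p)
    (hmax : ∀ (p' : Ideal A), p'.IsPrime → p ≤ p' → ¬ J ≤ p' → p' = p) : I ≤ p := by
  exact aux A I J hJ hJ1 hI p hp hmax

end Groth.Agent.S1207
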