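import Groth.Statements.S12071
import Mathlib.Tactic
import Mathlib.GroupTheory.Archimedean

set_option autoImplicit false
open RootD

namespace Groth.Agent.S12071


/-- rotation indexed by an integer -/
def R (i : ℤ) : DihedralGroup 0 := DihedralGroup.r (show ZMod 0 from i)
/-- reflection indexed by an integer -/
def SR (i : ℤ) : DihedralGroup 0 := DihedralGroup.sr (show ZMod 0 from i)

theorem R_mul_R (i j : ℤ) : R i * R j = R (i + j) := DihedralGroup.r_mul_r _ _
theorem R_mul_SR (i j : ℤ) : R i * SR j = SR (j - i) := DihedralGroup.r_mul_sr _ _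
theorem SR_mul_R (i j : ℤ) : SR i * R j = SR (i + j) := DihedralGroup.sr_mul_r _ _
theorem inv_R (i : ℤ) : (R i)⁻¹ = R (-i) := DihedralGroup.inv_r _
theorem R_zero : R 0 = 1 := DihedralGroup.r_zero
theorem R_zpow (i k : ℤ) : (R i) ^ k = R (i * k) := by
  have := DihedralGroup.r_zpow (n := 0) (show ZMod 0 from i) k
  rw [R, this, R]
  congr 1
theorem R_inj {i j : ℤ} (h : R i = R j) : i = j := DihedralGroup.r.inj h
theorem cases_dih (g : DihedralGroup 0) : (∃ i : ℤ, g = R i) ∨ (∃ i : ℤ, g = SR i) := by
  cases g with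
  | r i => exact Or.inl ⟨i, rfl⟩
  | sr i => exact Or.inr ⟨i, rfl⟩
theorem R_ne_SR (i j : ℤ) : R i ≠ SR j := by
  intro h; cases h


/-- Let G be the group generated by two elements x, y subject to x² = y² = 1 (the infinite dihedral
group; here Mathlib's DihedralGroup 0 with x = sr 0 and y = sr 1, so that x y = r 1). Then every
normal subgroup of G containing neither x nor y is generated by an element (x y)^n with n > 0; such
a subgroup is cyclic, generated by r n. (The published statement does not exclude the trivial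
subgroup, for which no n > 0 works; this row assumes the subgroup nontrivial.) -/
theorem result (N : Subgroup (DihedralGroup 0)) [N.Normal]
    (hN : N ≠ ⊥) (hx : DihedralGroup.sr (0 : ZMod 0) ∉ N) (hy : DihedralGroup.sr (1 : ZMod 0) ∉ N) :
    ∃ n : ℕ, 0 < n ∧ N = Subgroup.zpowers (DihedralGroup.r (n : ZMod 0)) := by
  have hx' : SR 0 ∉ N := hx
  have hy' : SR 1 ∉ N := hy
  -- no reflection lies in N
  have hnosr : ∀ i : ℤ, SR i ∉ N := by
    intro i hi
    have hconj : ∀ j : ℤ, SR (i - j - j) ∈ N := by
      intro j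
      have := ‹N.Normal›.conj_mem _ hi (R j)
      rwa [R_mul_SR, inv_R, SR_mul_R, ← sub_eq_add_neg] at this
    have hi' : i - i / 2 - i / 2 = 0 ∨ i - i / 2 - i / 2 = 1 := by omega
    rcases hi' with hj | hj
    · have := hconj (i / 2)
      rw [hj] at this
      exact hx' this
    · have := hconj (i / 2)
      rw [hj] at this
      exact hy' this
  -- the subgroup of ℤ of rotation indices in N
  let H : AddSubgroup ℤ :=
    { carrier := {i : ℤ | R i ∈ N}
      zero_mem' := by
        show R 0 ∈ N
        rw [R_zero]; exact N.one_mem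
      add_mem' := by
        intro a b ha hb
        show R (a + b) ∈ N
        have := N.mul_mem ha hb
        rwa [R_mul_R] at this
      neg_mem' := by
        intro a ha
        show R (-a) ∈ N
        have := N.inv_mem ha
        rwa [inv_R] at this }
  obtain ⟨a, ha⟩ := Int.subgroup_cyclic H
  have hmemH : ∀ i : ℤ, R i ∈ N ↔ a ∣ i := by
    intro i
    have : i ∈ H ↔ a ∣ i := by
      rw [ha, AddSubgroup.mem_closure_singleton]
      constructor
      · rintro ⟨m, rfl⟩; exact ⟨m, by simp [mul_comm]⟩
      · rintro ⟨m, rfl⟩; exact ⟨m, by simp [mul_comm]⟩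
    exact this
  have ha0 : a ≠ 0 := by
    intro h0
    apply hN
    rw [eq_bot_iff]
    intro g hg
    rw [Subgroup.mem_bot]
    rcases cases_dih g with ⟨i, rfl⟩ | ⟨i, rfl⟩
    · have := (hmemH i).1 hg
      rw [h0, zero_dvd_iff] at this
      rw [this]; exact R_zero
    · exact absurd hg (hnosr i)
  refine ⟨a.natAbs, Int.natAbs_pos.2 ha0, ?_⟩
  have hgen : DihedralGroup.r ((a.natAbs : ℕ) : ZMod 0) = R (a.natAbs : ℤ) := rfl
  rw [hgen]
  ext g
  rw [Subgroup.mem_zpowers_iff]
  rcases cases_dih g with ⟨i, rfl⟩ | ⟨i, rfl⟩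
  · constructor
    · intro hg
      have := (hmemH i).1 hg
      have h2 : ((a.natAbs : ℕ) : ℤ) ∣ i := by
        rw [Int.natCast_natAbs]; exact (abs_dvd a i).2 this
      obtain ⟨m, hm⟩ := h2
      refine ⟨m, ?_⟩
      rw [R_zpow, hm]
    · rintro ⟨m, hm⟩
      rw [R_zpow] at hm
      have h3 := R_inj hm
      rw [hmemH i, ← h3, Int.natCast_natAbs]
      exact Dvd.dvd.mul_right ((dvd_abs a a).2 dvd_rfl) m
  · constructor
    · intro hg; exact absurd hg (hnosr i)
    · rintro ⟨m, hm⟩
      rw [R_zpow] at hm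
      exact absurd hm (R_ne_SR _ _)


end Groth.Agent.S12071
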