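import Groth.Statements.S12076
import Mathlib
import Groth.Agent.Lib.Helper8.RootDHom

set_option autoImplicit false
open RootD Groth.Agent.Helper8.RD

namespace Groth.Agent.S12076

/-- Let Δ be a system of simple roots (a base b of a root pairing P over ℤ) and Γ₀ the subgroup
generated by the roots. Then Γ₀ has a structure of totally ordered group for which the roots > 0 are
exactly the positive roots defined by Δ and for which the height (the additive function with value 1
on each simple root) is monotone. The order is given here by its positive cone C ⊆ Γ₀: 0 ∉ C, C + C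
⊆ C, and for every x ≠ 0 exactly one of x, −x lies in C (x < y meaning y − x ∈ C). -/
theorem result {ι M N : Type*} [AddCommGroup M] [AddCommGroup N]
    (P : RootPairing ι ℤ M N) [Finite ι] (b : P.Base) :
    ∃ C : Set ↥(Submodule.span ℤ (Set.range P.root)),
      0 ∉ C ∧ (∀ x ∈ C, ∀ y ∈ C, x + y ∈ C) ∧ (∀ x, x ≠ 0 → (x ∈ C ∨ -x ∈ C)) ∧ (∀ x ∈ C, -x ∉ C) ∧
      (∀ i : ι, (⟨P.root i, Submodule.subset_span (Set.mem_range_self i)⟩ : ↥(Submodule.span ℤ (Set.range P.root))) ∈ C ↔
        b.IsPos i) ∧
      ∀ φ : ↥(Submodule.span ℤ (Set.range P.root)) →+ ℤ,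
        (∀ j ∈ b.support, φ ⟨P.root j, Submodule.subset_span (Set.mem_range_self j)⟩ = 1) →
        ∀ x y : ↥(Submodule.span ℤ (Set.range P.root)), y - x ∈ C → φ x ≤ φ y := by
  classical
  obtain ⟨HT, hHT, -⟩ := existsUnique_addHom (P := P) (fun i => b.height i)
    (fun i => b.height_reflectionPerm_self i) (fun i j k h => b.height_add h)
  have hHT' : ∀ i : ι, HT ⟨P.root i, Submodule.subset_span (Set.mem_range_self i)⟩ = b.height i :=
    hHT
  let B := b.toWeightBasisInt
  have hB : ∀ j : b.support, B j = ⟨P.root j, Submodule.subset_span (Set.mem_range_self _)⟩ :=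
    fun j => Subtype.ext (b.coe_toWeightBasisInt_apply j)
  let e : b.support ≃ Fin (Fintype.card b.support) := Fintype.equivFin _
  let B' := B.reindex e
  let coords : ↥(Submodule.span ℤ (Set.range P.root)) →+ Lex (Fin (Fintype.card b.support) → ℤ) :=
    AddMonoidHom.mk' (fun x => toLex (B'.equivFun x)) (fun x y => by rw [map_add]; rfl)
  let T : ↥(Submodule.span ℤ (Set.range P.root)) →+
      ℤ ×ₗ Lex (Fin (Fintype.card b.support) → ℤ) :=
    AddMonoidHom.mk' (fun x => toLex (HT x, coords x)) (fun x y => by rw [map_add, map_add]; rfl)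
  have hT : ∀ x, T x = toLex (HT x, coords x) := fun x => rfl
  have hTinj : Function.Injective T := by
    intro x y hxy
    have h1 : coords x = coords y := congrArg (fun z => (ofLex z).2) hxy
    have h2 : B'.equivFun x = B'.equivFun y := h1
    exact B'.equivFun.injective h2
  have hfst : ∀ x, 0 < T x → 0 ≤ HT x := by
    intro x hx
    rw [hT] at hx
    have h3 : toLex ((0 : ℤ), (0 : Lex (Fin (Fintype.card b.support) → ℤ))) <
        toLex (HT x, coords x) := hx
    rw [Prod.Lex.toLex_lt_toLex] at h3
    rcases h3 with h | ⟨h, -⟩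
    · exact le_of_lt h
    · exact le_of_eq h
  refine ⟨{x | 0 < T x}, ?_, ?_, ?_, ?_, ?_, ?_⟩
  · show ¬ (0 < T 0)
    rw [map_zero]; exact lt_irrefl _
  · intro x hx y hy
    show 0 < T (x + y)
    rw [map_add]; exact add_pos hx hy
  · intro x hx
    have hne : T x ≠ 0 := fun h => hx (hTinj (h.trans (map_zero T).symm))
    rcases lt_or_gt_of_ne hne with h | h
    · right
      show 0 < T (-x)
      rw [map_neg]; exact neg_pos.mpr h
    · left; exact h
  · intro x hx hx'
    have h1 : 0 < T (-x) := hx'
    rw [map_neg] at h1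
    exact lt_asymm hx (neg_pos.mp h1)
  · intro i
    show 0 < T _ ↔ _
    rw [hT]
    have h3 : ∀ z : ℤ × Lex (Fin (Fintype.card b.support) → ℤ),
        (0 : ℤ ×ₗ Lex (Fin (Fintype.card b.support) → ℤ)) < toLex z ↔
        toLex ((0 : ℤ), (0 : Lex (Fin (Fintype.card b.support) → ℤ))) < toLex z := fun z => Iff.rfl
    rw [h3, Prod.Lex.toLex_lt_toLex, hHT', b.isPos_iff]
    have hne := b.height_ne_zero i
    constructor
    · rintro (h | ⟨h, -⟩)
      · exact h
      · exact absurd h.symm hne
    · intro h; exact Or.inl h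
  · intro φ hφ x y hxy
    have heq : φ.toIntLinearMap = HT.toIntLinearMap := by
      apply B.ext
      intro j
      show φ (B j) = HT (B j)
      rw [hB j, hφ j j.2, hHT', RootPairing.Base.height_one_of_mem_support j.2]
    have heq' : ∀ z, φ z = HT z := fun z => congrArg (fun f => f z) heq
    have h1 := hfst (y - x) hxy
    rw [← heq', map_sub] at h1
    omega

end Groth.Agent.S12076
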