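import Groth.Statements.S12078
import Mathlib.Algebra.BigOperators.Fin

set_option autoImplicit false
universe u
open CAlg

namespace Groth.Agent.S12078

/-- An elementary divisor domain is Bézout. Here `R` is a domain such that for all `n, m ≥ 1` and every
`n × m` matrix `A` there are invertible matrices `U` (`n × n`) and `V` (`m × m`) with `U * A * V`
zero off the diagonal and with diagonal entries `f 0 ∣ f 1 ∣ f 2 ∣ …`; the conclusion is that every
finitely generated ideal of `R` is principal. -/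
theorem result (R : Type u) [CommRing R] [IsDomain R]
    (hR : ∀ n m : ℕ, 1 ≤ n → 1 ≤ m → ∀ A : Matrix (Fin n) (Fin m) R,
      ∃ (U : (Matrix (Fin n) (Fin n) R)ˣ) (V : (Matrix (Fin m) (Fin m) R)ˣ) (f : ℕ → R),
        (∀ k : ℕ, f k ∣ f (k + 1)) ∧
        ∀ (i : Fin n) (j : Fin m), ((U : Matrix (Fin n) (Fin n) R) * A * (V : Matrix (Fin m) (Fin m) R)) i j =
          if (i : ℕ) = (j : ℕ) then f i else 0) :
    IsBezout R := by
  rw [IsBezout.iff_span_pair_isPrincipal]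
  intro x y
  obtain ⟨U, V, f, -, hD⟩ := hR 1 2 le_rfl (by norm_num) (Matrix.of ![![x, y]])
  set A : Matrix (Fin 1) (Fin 2) R := (Matrix.of ![![x, y]]) with hA
  set D : Matrix (Fin 1) (Fin 2) R := (U : Matrix (Fin 1) (Fin 1) R) * A * (V : Matrix (Fin 2) (Fin 2) R) with hDdef
  have hD00 : D 0 0 = f 0 := by simpa using hD 0 0
  have hD01 : D 0 1 = 0 := by simpa using hD 0 1
  have hAeq : A = ((U⁻¹ : (Matrix (Fin 1) (Fin 1) R)ˣ) : Matrix (Fin 1) (Fin 1) R) * D *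
      ((V⁻¹ : (Matrix (Fin 2) (Fin 2) R)ˣ) : Matrix (Fin 2) (Fin 2) R) := by
    rw [hDdef]
    have h1 : ((U⁻¹ : (Matrix (Fin 1) (Fin 1) R)ˣ) : Matrix (Fin 1) (Fin 1) R) * ((U : Matrix (Fin 1) (Fin 1) R) * A * (V : Matrix (Fin 2) (Fin 2) R)) = A * (V : Matrix (Fin 2) (Fin 2) R) := by
      rw [Matrix.mul_assoc (U : Matrix (Fin 1) (Fin 1) R), ← Matrix.mul_assoc, Units.inv_mul, Matrix.one_mul]
    rw [h1, Matrix.mul_assoc, Units.mul_inv, Matrix.mul_one]
  have hx : A 0 0 = x := by simp [hA]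
  have hy : A 0 1 = y := by simp [hA]
  have hxe : x = ((U⁻¹ : (Matrix (Fin 1) (Fin 1) R)ˣ) : Matrix (Fin 1) (Fin 1) R) 0 0 * f 0 *
      ((V⁻¹ : (Matrix (Fin 2) (Fin 2) R)ˣ) : Matrix (Fin 2) (Fin 2) R) 0 0 := by
    rw [← hx]
    conv_lhs => rw [hAeq]
    simp only [Matrix.mul_apply, Fin.sum_univ_two, Finset.univ_unique, Fin.default_eq_zero,
      Finset.sum_singleton, hD00, hD01]
    ring
  have hye : y = ((U⁻¹ : (Matrix (Fin 1) (Fin 1) R)ˣ) : Matrix (Fin 1) (Fin 1) R) 0 0 * f 0 *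
      ((V⁻¹ : (Matrix (Fin 2) (Fin 2) R)ˣ) : Matrix (Fin 2) (Fin 2) R) 0 1 := by
    rw [← hy]
    conv_lhs => rw [hAeq]
    simp only [Matrix.mul_apply, Fin.sum_univ_two, Finset.univ_unique, Fin.default_eq_zero,
      Finset.sum_singleton, hD00, hD01]
    ring
  have hfe : f 0 = (U : Matrix (Fin 1) (Fin 1) R) 0 0 * x * (V : Matrix (Fin 2) (Fin 2) R) 0 0 +
      (U : Matrix (Fin 1) (Fin 1) R) 0 0 * y * (V : Matrix (Fin 2) (Fin 2) R) 1 0 := by
    rw [← hD00, hDdef]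
    simp only [Matrix.mul_apply, Fin.sum_univ_two, Finset.univ_unique, Fin.default_eq_zero,
      Finset.sum_singleton, hx, hy]
  refine ⟨⟨f 0, ?_⟩⟩
  rw [Ideal.submodule_span_eq]
  apply le_antisymm
  · rw [Ideal.span_le]
    intro z hz
    simp only [Set.mem_insert_iff, Set.mem_singleton_iff] at hz
    rw [SetLike.mem_coe, Ideal.mem_span_singleton]
    rcases hz with hz | hz
    · rw [hz, hxe]
      exact ⟨((U⁻¹ : (Matrix (Fin 1) (Fin 1) R)ˣ) : Matrix (Fin 1) (Fin 1) R) 0 0 *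
        ((V⁻¹ : (Matrix (Fin 2) (Fin 2) R)ˣ) : Matrix (Fin 2) (Fin 2) R) 0 0, by ring⟩
    · rw [hz, hye]
      exact ⟨((U⁻¹ : (Matrix (Fin 1) (Fin 1) R)ˣ) : Matrix (Fin 1) (Fin 1) R) 0 0 *
        ((V⁻¹ : (Matrix (Fin 2) (Fin 2) R)ˣ) : Matrix (Fin 2) (Fin 2) R) 0 1, by ring⟩
  · rw [Ideal.span_le, Set.singleton_subset_iff, SetLike.mem_coe, hfe]
    have hxm : x ∈ Ideal.span ({x, y} : Set R) := Ideal.subset_span (by simp)
    have hym : y ∈ Ideal.span ({x, y} : Set R) := Ideal.subset_span (by simp)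
    exact Ideal.add_mem _ (Ideal.mul_mem_right _ _ (Ideal.mul_mem_left _ _ hxm))
      (Ideal.mul_mem_right _ _ (Ideal.mul_mem_left _ _ hym))


end Groth.Agent.S12078
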