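import Groth.Statements.S12079
import Mathlib.Algebra.FiveLemma
import Mathlib.Algebra.Module.FinitePresentation
import Mathlib.LinearAlgebra.Contraction
import Mathlib.RingTheory.Flat.Basic
import Mathlib.LinearAlgebra.LeftExact

set_option autoImplicit false
universe u
open TensorProduct
open CAlg

namespace Groth.Agent.S12079

/-- For a finitely presented `R`-module `M`, any `R`-module `N` and a flat `R`-module `L`, the canonical
map `Hom_R(M, N) ⊗_R L → Hom_R(M, N ⊗_R L)` sending `f ⊗ l` to `m ↦ f m ⊗ l` is bijective. -/
theorem result (R : Type u) [CommRing R]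
    (M N L : Type u) [AddCommGroup M] [Module R M] [AddCommGroup N] [Module R N] [AddCommGroup L] [Module R L]
    [Module.FinitePresentation R M] [Module.Flat R L] :
    Function.Bijective (TensorProduct.rTensorHomToHomRTensor (RingHom.id R) M N L) := by
  obtain ⟨n, m, f, g, hf, hfg⟩ := Module.FinitePresentation.exists_fin' R M
  have hbij : ∀ (k : ℕ), Function.Bijective
      (TensorProduct.rTensorHomToHomRTensor (RingHom.id R) (Fin k → R) N L) := by
    intro k
    have := (rTensorHomEquivHomRTensor R (Fin k → R) N L).bijective
    have h2 : ⇑(rTensorHomEquivHomRTensor R (Fin k → R) N L) =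
        ⇑(TensorProduct.rTensorHomToHomRTensor (RingHom.id R) (Fin k → R) N L) := by
      funext x
      exact rTensorHomEquivHomRTensor_apply x
    rwa [h2] at this
  refine LinearMap.bijective_of_bijective_of_injective_of_left_exact
    ((LinearMap.lcomp R N f).rTensor L) ((LinearMap.lcomp R N g).rTensor L)
    (LinearMap.lcomp R (N ⊗[R] L) f) (LinearMap.lcomp R (N ⊗[R] L) g)
    (TensorProduct.rTensorHomToHomRTensor (RingHom.id R) M N L)
    (TensorProduct.rTensorHomToHomRTensor (RingHom.id R) (Fin n → R) N L)
    (TensorProduct.rTensorHomToHomRTensor (RingHom.id R) (Fin m → R) N L)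
    ?_ ?_ ?_ ?_ (hbij n) (hbij m).1 ?_ ?_
  · ext φ l x
    simp [TensorProduct.rTensorHomToHomRTensor_apply]
  · ext φ l x
    simp [TensorProduct.rTensorHomToHomRTensor_apply]
  · exact Module.Flat.rTensor_exact L (LinearMap.exact_lcomp_of_exact_of_surjective N hfg hf)
  · exact LinearMap.exact_lcomp_of_exact_of_surjective _ hfg hf
  · exact Module.Flat.rTensor_preserves_injective_linearMap _ (LinearMap.lcomp_injective_of_surjective f hf)
  · exact LinearMap.lcomp_injective_of_surjective f hf


end Groth.Agent.S12079
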