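import Groth.Statements.S12081

set_option autoImplicit false
universe u
open TensorProduct
open EtAlg

namespace Groth.Agent.S12081

/-- Let `B' = B ×_A A'` be a fibre square of rings with `A' → A` surjective with kernel `I`, let `J =
Ker(B' → B)`, let `D'` be a `B'`-algebra and `C' = D' ⊗_{B'} A'`. Then the ideal `I C'` is, as a
subset of `C'`, the image of the ideal `J D'` under `D' → C'`; that is, the map `J D' → I C'` is
surjective. -/
theorem result (B' B A' A : Type u) [CommRing B'] [CommRing B] [CommRing A'] [CommRing A]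
    [Algebra B' B] [Algebra B' A'] [Algebra B A] [Algebra A' A] [Algebra B' A] [IsScalarTower B' B A] [IsScalarTower B' A' A]
    (hsq : EtMil.IsFibreSquare B' B A' A)
    (D' C' : Type u) [CommRing D'] [CommRing C'] [Algebra B' D'] [Algebra A' C']
    [Algebra D' C'] [Algebra B' C'] [IsScalarTower B' A' C'] [IsScalarTower B' D' C'] [Algebra.IsPushout B' A' D' C'] :
    (algebraMap D' C') '' ((RingHom.ker (algebraMap B' B)).map (algebraMap B' D') : Set D') =
      ((RingHom.ker (algebraMap A' A)).map (algebraMap A' C') : Set C') := by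
  obtain ⟨hsurj, hfib⟩ := hsq
  have hbc : IsBaseChange A' (IsScalarTower.toAlgHom B' D' C').toLinearMap :=
    (Algebra.IsPushout.out : IsBaseChange A' (IsScalarTower.toAlgHom B' D' C').toLinearMap)
  -- J maps onto I
  have hJI : ∀ i : A', i ∈ RingHom.ker (algebraMap A' A) →
      ∃ j : B', j ∈ RingHom.ker (algebraMap B' B) ∧ algebraMap B' A' j = i := by
    intro i hi
    have h0 : algebraMap B A 0 = algebraMap A' A i := by
      rw [map_zero]; exact ((RingHom.mem_ker).1 hi).symm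
    obtain ⟨j, ⟨hj1, hj2⟩, -⟩ := hfib 0 i h0
    exact ⟨j, (RingHom.mem_ker).2 hj1, hj2⟩
  have hIJ : ∀ j : B', j ∈ RingHom.ker (algebraMap B' B) → algebraMap B' A' j ∈ RingHom.ker (algebraMap A' A) := by
    intro j hj
    rw [RingHom.mem_ker, ← IsScalarTower.algebraMap_apply B' A' A, IsScalarTower.algebraMap_apply B' B A,
      (RingHom.mem_ker).1 hj, map_zero]
  have hcomm : ∀ j : B', algebraMap D' C' (algebraMap B' D' j) = algebraMap A' C' (algebraMap B' A' j) := by
    intro j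
    rw [← IsScalarTower.algebraMap_apply B' D' C', ← IsScalarTower.algebraMap_apply B' A' C']
  set JD : Ideal D' := (RingHom.ker (algebraMap B' B)).map (algebraMap B' D') with hJD
  -- Lemma 1
  have L1 : ∀ (a' : A') (y : D'), y ∈ JD → ∃ y' ∈ JD, algebraMap D' C' y' = a' • algebraMap D' C' y := by
    intro a' y hy
    rw [hJD, Ideal.map] at hy
    refine Submodule.span_induction ?_ ?_ ?_ ?_ hy
    · rintro _ ⟨j, hj, rfl⟩
      have hi : a' * algebraMap B' A' j ∈ RingHom.ker (algebraMap A' A) :=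
        Ideal.mul_mem_left _ _ (hIJ j hj)
      obtain ⟨j', hj', hj'e⟩ := hJI _ hi
      refine ⟨algebraMap B' D' j', Ideal.mem_map_of_mem _ hj', ?_⟩
      rw [hcomm, hcomm, hj'e, map_mul, Algebra.smul_def]
    · exact ⟨0, Ideal.zero_mem _, by simp⟩
    · rintro x y _ _ ⟨x', hx', ex⟩ ⟨y', hy', ey⟩
      exact ⟨x' + y', Ideal.add_mem _ hx' hy', by rw [map_add, map_add, ex, ey, smul_add]⟩
    · rintro d x _ ⟨x', hx', ex⟩
      refine ⟨d * x', Ideal.mul_mem_left _ _ hx', ?_⟩
      rw [smul_eq_mul, map_mul, map_mul, ex, mul_smul_comm]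
  -- Lemma 2
  have L2 : ∀ (c : C') (y : D'), y ∈ JD → ∃ y' ∈ JD, algebraMap D' C' y' = c * algebraMap D' C' y := by
    intro c
    refine hbc.inductionOn c (fun c => ∀ (y : D'), y ∈ JD → ∃ y' ∈ JD, algebraMap D' C' y' = c * algebraMap D' C' y) ?_ ?_ ?_ ?_
    · intro y _
      exact ⟨0, Ideal.zero_mem _, by simp⟩
    · intro d y hy
      refine ⟨d * y, Ideal.mul_mem_left _ _ hy, ?_⟩
      rw [map_mul]; rfl
    · intro a' c0 ih y hy
      obtain ⟨y1, hy1, e1⟩ := ih y hy
      obtain ⟨y2, hy2, e2⟩ := L1 a' y1 hy1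
      exact ⟨y2, hy2, by rw [e2, e1, smul_mul_assoc]⟩
    · intro c1 c2 ih1 ih2 y hy
      obtain ⟨y1, hy1, e1⟩ := ih1 y hy
      obtain ⟨y2, hy2, e2⟩ := ih2 y hy
      exact ⟨y1 + y2, Ideal.add_mem _ hy1 hy2, by rw [map_add, e1, e2, add_mul]⟩
  apply Set.Subset.antisymm
  · rintro _ ⟨y, hy, rfl⟩
    have hy' : y ∈ JD := hy
    rw [hJD, Ideal.map] at hy'
    show algebraMap D' C' y ∈ (RingHom.ker (algebraMap A' A)).map (algebraMap A' C')
    refine Submodule.span_induction ?_ ?_ ?_ ?_ hy'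
    · rintro _ ⟨j, hj, rfl⟩
      rw [hcomm]
      exact Ideal.mem_map_of_mem _ (hIJ j hj)
    · rw [map_zero]; exact Ideal.zero_mem _
    · intro x z _ _ hx hz
      rw [map_add]; exact Ideal.add_mem _ hx hz
    · intro d x _ hx
      rw [smul_eq_mul, map_mul]; exact Ideal.mul_mem_left _ _ hx
  · intro x hx
    have hx' : x ∈ (RingHom.ker (algebraMap A' A)).map (algebraMap A' C') := hx
    rw [Ideal.map] at hx'
    show x ∈ (algebraMap D' C') '' (JD : Set D')
    refine Submodule.span_induction ?_ ?_ ?_ ?_ hx'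
    · rintro _ ⟨i, hi, rfl⟩
      obtain ⟨j, hj, rfl⟩ := hJI i hi
      exact ⟨algebraMap B' D' j, Ideal.mem_map_of_mem _ hj, hcomm j⟩
    · exact ⟨0, Ideal.zero_mem _, by simp⟩
    · rintro x z _ _ ⟨x', hx', rfl⟩ ⟨z', hz', rfl⟩
      exact ⟨x' + z', Ideal.add_mem _ hx' hz', by simp⟩
    · rintro c x _ ⟨x', hx', rfl⟩
      obtain ⟨y', hy', e⟩ := L2 c x' hx'
      exact ⟨y', hy', by rw [e, smul_eq_mul]⟩


end Groth.Agent.S12081
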