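import Groth.Statements.S12083
import Mathlib
import Groth.Agent.Lib.Helper2.RelFP2
-- import your own Groth.Agent.* helpers here

set_option autoImplicit false
universe u
open CAlg

namespace Groth.Agent.S12083

section
open Groth.Agent.Helper2.RelFP TensorProduct

attribute [local instance] MvPolynomial.algebraMvPolynomial

theorem main {R A R' A' : Type u} [CommRing R] [CommRing A] [CommRing R'] [CommRing A']
    [Algebra R A] [Algebra R R'] [Algebra A A'] [Algebra R' A'] [Algebra R A'] [IsScalarTower R A A'] [IsScalarTower R R' A']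
    [Algebra.IsPushout R A R' A'] [Algebra.FiniteType R A] (M : Type u) [AddCommGroup M] [Module A M] {n k : ℕ}
    (α : MvPolynomial (Fin n) R →ₐ[R] A) (hα : Function.Surjective α)
    (hM : @Module.FinitePresentation (MvPolynomial (Fin n) R) M _ _ (Module.compHom M α.toRingHom))
    (γ : MvPolynomial (Fin k) R' →ₐ[R'] A') (hγ : Function.Surjective γ) :
    @Module.FinitePresentation (MvPolynomial (Fin k) R') (TensorProduct A A' M) _ _
      (Module.compHom (TensorProduct A A' M) γ.toRingHom) := by
  letI algPA : Algebra (MvPolynomial (Fin n) R) A := α.toRingHom.toAlgebra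
  let α' : MvPolynomial (Fin n) R' →ₐ[R'] A' :=
    MvPolynomial.aeval (fun i => algebraMap A A' (α (MvPolynomial.X i)))
  letI algP'A' : Algebra (MvPolynomial (Fin n) R') A' := α'.toRingHom.toAlgebra
  letI algPA' : Algebra (MvPolynomial (Fin n) R) A' :=
    ((algebraMap A A').comp α.toRingHom).toAlgebra
  haveI t1 : IsScalarTower (MvPolynomial (Fin n) R) A A' := IsScalarTower.of_algebraMap_eq' rfl
  have hcomm : ∀ p : MvPolynomial (Fin n) R,
      algebraMap A A' (α p) = α' (MvPolynomial.map (algebraMap R R') p) := by
    intro p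
    induction p using MvPolynomial.induction_on with
    | C r =>
      simp only [MvPolynomial.map_C, α']
      rw [MvPolynomial.aeval_C, ← MvPolynomial.algebraMap_eq, α.commutes,
        ← IsScalarTower.algebraMap_apply, ← IsScalarTower.algebraMap_apply]
    | add p q hp hq => rw [map_add, map_add, map_add, map_add, hp, hq]
    | mul_X p i hp =>
      rw [map_mul, map_mul, map_mul, map_mul, hp, MvPolynomial.map_X]
      simp [α']
  haveI t2 : IsScalarTower (MvPolynomial (Fin n) R) (MvPolynomial (Fin n) R') A' :=
    IsScalarTower.of_algebraMap_eq' (RingHom.ext fun p => hcomm p)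
  haveI t3 : IsScalarTower R (MvPolynomial (Fin n) R) A :=
    IsScalarTower.of_algebraMap_eq' (RingHom.ext fun r => (α.commutes r).symm)
  haveI t4 : IsScalarTower R' (MvPolynomial (Fin n) R') A' :=
    IsScalarTower.of_algebraMap_eq' (RingHom.ext fun r => (α'.commutes r).symm)
  haveI t5 : IsScalarTower R (MvPolynomial (Fin n) R') A' :=
    IsScalarTower.of_algebraMap_eq' (RingHom.ext fun r => by
      show algebraMap R A' r = α' (algebraMap R (MvPolynomial (Fin n) R') r)
      rw [IsScalarTower.algebraMap_apply R R' (MvPolynomial (Fin n) R'), α'.commutes,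
        ← IsScalarTower.algebraMap_apply])
  have hpo : Algebra.IsPushout (MvPolynomial (Fin n) R) A (MvPolynomial (Fin n) R') A' :=
    (Algebra.IsPushout.comp_iff R (MvPolynomial (Fin n) R) R' (MvPolynomial (Fin n) R')
      (T := A) (T' := A')).mp inferInstance
  haveI hpo' : Algebra.IsPushout (MvPolynomial (Fin n) R) (MvPolynomial (Fin n) R') A A' :=
    hpo.symm
  have h1 := fp_tensor_of_isPushout' (P := MvPolynomial (Fin n) R)
    (B₁ := MvPolynomial (Fin n) R') (A := A) (A₁ := A') M hM
  -- surjectivity of α'
  have hα' : Function.Surjective α' := by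
    intro x
    refine hpo.out.inductionOn x (fun y => ∃ p, α' p = y) ⟨0, map_zero _⟩ ?_ ?_ ?_
    · intro p'
      exact ⟨p', rfl⟩
    · rintro a y ⟨p, rfl⟩
      obtain ⟨q, rfl⟩ := hα a
      refine ⟨MvPolynomial.map (algebraMap R R') q * p, ?_⟩
      rw [map_mul, ← hcomm, Algebra.smul_def]
    · rintro y z ⟨p, rfl⟩ ⟨q, rfl⟩
      exact ⟨p + q, map_add _ _ _⟩
  have h4 := indep (R := R') (B := MvPolynomial (Fin n) R')
    (C := MvPolynomial (Fin k) R') α' hα' γ hγ (A' ⊗[A] M)
  exact h4.mp h1

end

/-- Let `R → A` be a finite type ring map with a surjective presentation `α : R[x_1, …, x_n] → A` and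
`M` an `A`-module finitely presented relative to `R` (finitely presented as an `R[x_1, …,
x_n]`-module through `α`). For a ring map `R → R'` let `A' = R' ⊗_R A` (a pushout square) and `γ :
R'[z_1, …, z_k] → A'` any surjective presentation. Then `A' ⊗_A M = R' ⊗_R M` is finitely presented
relative to `R'`, i.e. finitely presented as an `R'[z_1, …, z_k]`-module through `γ`. -/
theorem result {R A R' A' : Type u} [CommRing R] [CommRing A] [CommRing R'] [CommRing A']
    [Algebra R A] [Algebra R R'] [Algebra A A'] [Algebra R' A'] [Algebra R A'] [IsScalarTower R A A'] [IsScalarTower R R' A']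
    [Algebra.IsPushout R A R' A'] [Algebra.FiniteType R A] (M : Type u) [AddCommGroup M] [Module A M] {n k : ℕ}
    (α : MvPolynomial (Fin n) R →ₐ[R] A) (hα : Function.Surjective α)
    (hM : @Module.FinitePresentation (MvPolynomial (Fin n) R) M _ _ (Module.compHom M α.toRingHom))
    (γ : MvPolynomial (Fin k) R' →ₐ[R'] A') (hγ : Function.Surjective γ) :
    @Module.FinitePresentation (MvPolynomial (Fin k) R') (TensorProduct A A' M) _ _
      (Module.compHom (TensorProduct A A' M) γ.toRingHom) := by
  exact Groth.Agent.S12083.main M α hα hM γ hγ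

end Groth.Agent.S12083
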