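import Groth.Statements.S12086
import Groth.Agent.Lib.Helper5.KFlat4

set_option autoImplicit false
universe u
open CategoryTheory CategoryTheory.Limits MonoidalCategory CategoryTheory.Pretriangulated
open DRing

namespace Groth.Agent.S12086

/-- Let `(K₁•, K₂•, K₃•)` be a distinguished triangle in the homotopy category `K(R)` of complexes of
`R`-modules. If two out of the three complexes are K-flat (tensoring with them carries acyclic
complexes to acyclic complexes), then so is the third. -/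
theorem result (R : Type u) [CommRing R]
    (T : Pretriangulated.Triangle (HomotopyCategory (ModuleCat.{u} R) (ComplexShape.up ℤ)))
    (hT : T ∈ Pretriangulated.distinguishedTriangles) :
    ((∀ L : DRing.Cx R, (∀ i : ℤ, IsZero (L.homology i)) → ∀ i : ℤ, IsZero ((L ⊗ T.obj₁.as).homology i)) → (∀ L : DRing.Cx R, (∀ i : ℤ, IsZero (L.homology i)) → ∀ i : ℤ, IsZero ((L ⊗ T.obj₂.as).homology i)) → (∀ L : DRing.Cx R, (∀ i : ℤ, IsZero (L.homology i)) → ∀ i : ℤ, IsZero ((L ⊗ T.obj₃.as).homology i))) ∧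
    ((∀ L : DRing.Cx R, (∀ i : ℤ, IsZero (L.homology i)) → ∀ i : ℤ, IsZero ((L ⊗ T.obj₁.as).homology i)) → (∀ L : DRing.Cx R, (∀ i : ℤ, IsZero (L.homology i)) → ∀ i : ℤ, IsZero ((L ⊗ T.obj₃.as).homology i)) → (∀ L : DRing.Cx R, (∀ i : ℤ, IsZero (L.homology i)) → ∀ i : ℤ, IsZero ((L ⊗ T.obj₂.as).homology i))) ∧
    ((∀ L : DRing.Cx R, (∀ i : ℤ, IsZero (L.homology i)) → ∀ i : ℤ, IsZero ((L ⊗ T.obj₂.as).homology i)) → (∀ L : DRing.Cx R, (∀ i : ℤ, IsZero (L.homology i)) → ∀ i : ℤ, IsZero ((L ⊗ T.obj₃.as).homology i)) → (∀ L : DRing.Cx R, (∀ i : ℤ, IsZero (L.homology i)) → ∀ i : ℤ, IsZero ((L ⊗ T.obj₁.as).homology i))) := by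

  obtain ⟨K, L, φ, ⟨e⟩⟩ := hT
  have e₁ : T.obj₁ ≅ (HomotopyCategory.quotient _ _).obj K := Triangle.π₁.mapIso e
  have e₂ : T.obj₂ ≅ (HomotopyCategory.quotient _ _).obj L := Triangle.π₂.mapIso e
  have e₃ : T.obj₃ ≅ (HomotopyCategory.quotient _ _).obj (CochainComplex.mappingCone φ) :=
    Triangle.π₃.mapIso e
  have h₁ : Groth.Agent.Helper5.KF.KFl T.obj₁.as ↔ Groth.Agent.Helper5.KF.KFl K :=
    Groth.Agent.Helper5.KF.KFl.iff_of_homotopyEquiv
      (HomotopyCategory.homotopyEquivOfIso (C := T.obj₁.as) (D := K) e₁)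
  have h₂ : Groth.Agent.Helper5.KF.KFl T.obj₂.as ↔ Groth.Agent.Helper5.KF.KFl L :=
    Groth.Agent.Helper5.KF.KFl.iff_of_homotopyEquiv
      (HomotopyCategory.homotopyEquivOfIso (C := T.obj₂.as) (D := L) e₂)
  have h₃ : Groth.Agent.Helper5.KF.KFl T.obj₃.as ↔
      Groth.Agent.Helper5.KF.KFl (CochainComplex.mappingCone φ) :=
    Groth.Agent.Helper5.KF.KFl.iff_of_homotopyEquiv
      (HomotopyCategory.homotopyEquivOfIso (C := T.obj₃.as) (D := CochainComplex.mappingCone φ) e₃)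
  refine ⟨fun a b => ?_, fun a b => ?_, fun a b => ?_⟩
  · exact h₃.mpr (Groth.Agent.Helper5.KF.KFl.cone φ (h₁.mp a) (h₂.mp b))
  · exact h₂.mpr (Groth.Agent.Helper5.KF.KFl.of_cone_left φ (h₁.mp a) (h₃.mp b))
  · exact h₁.mpr (Groth.Agent.Helper5.KF.KFl.of_cone_right φ (h₂.mp a) (h₃.mp b))

end Groth.Agent.S12086
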