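import Groth.Statements.S12091
import Mathlib
-- import your own Groth.Agent.* helpers here

set_option autoImplicit false
universe u
open TensorProduct MvPolynomial
open FlatMor

namespace Groth.Agent.S12091

section
open TensorProduct MvPolynomial

variable {A : Type u} [CommRing A] {M : Type u} [AddCommGroup M] [Module A M] {m : ℕ}

/-- The linear form attached to a vector. -/
noncomputable def lin : (Fin m → A) →ₗ[A] MvPolynomial (Fin m) A where
  toFun v := ∑ j, C (v j) * X j
  map_add' v w := by
    simp only [Pi.add_apply, map_add, add_mul, Finset.sum_add_distrib]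
  map_smul' a v := by
    simp only [Pi.smul_apply, smul_eq_mul, map_mul, RingHom.id_apply, Finset.smul_sum]
    refine Finset.sum_congr rfl fun j _ => ?_
    rw [MvPolynomial.smul_eq_C_mul, mul_assoc]

lemma lin_single (j : Fin m) : lin (A := A) (Pi.single j 1) = X j := by
  change ∑ i, C ((Pi.single j (1 : A) : Fin m → A) i) * X i = X j
  rw [Finset.sum_eq_single j]
  · simp
  · intro i _ hij
    simp [hij]
  · intro h; exact absurd (Finset.mem_univ j) h

lemma pderiv_lin (v : Fin m → A) (j : Fin m) : pderiv j (lin v) = C (v j) := by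
  change pderiv j (∑ i, C (v i) * X i) = C (v j)
  rw [map_sum, Finset.sum_eq_single j]
  · simp
  · intro i _ hij
    simp [hij]
  · intro h; exact absurd (Finset.mem_univ j) h

variable (x : Fin m → M) (G : Algebra.Generators A (SymmetricAlgebra A M) (Fin m))

lemma lin_mem_ker (hG : ∀ j, G.val j = SymmetricAlgebra.ι A M (x j))
    (k : LinearMap.ker (Fintype.linearCombination A x)) :
    lin (k : Fin m → A) ∈ G.toExtension.ker := by
  change lin (k : Fin m → A) ∈ G.ker
  rw [G.ker_eq_ker_aeval_val, RingHom.mem_ker]
  change aeval G.val (∑ j, C ((k : Fin m → A) j) * X j) = 0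
  have hk : Fintype.linearCombination A x (k : Fin m → A) = 0 := k.2
  rw [Fintype.linearCombination_apply] at hk
  simp only [map_sum, map_mul, aeval_C, aeval_X, hG]
  have : ∑ j, (algebraMap A (SymmetricAlgebra A M)) ((k : Fin m → A) j) *
      (SymmetricAlgebra.ι A M) (x j) = SymmetricAlgebra.ι A M (∑ j, (k : Fin m → A) j • x j) := by
    rw [map_sum]
    refine Finset.sum_congr rfl fun j _ => ?_
    rw [map_smul, Algebra.smul_def]
  rw [this, hk, map_zero]

lemma ker_le (hx : Function.Surjective (Fintype.linearCombination A x))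
    (hG : ∀ j, G.val j = SymmetricAlgebra.ι A M (x j)) :
    G.toExtension.ker ≤ Ideal.span (Set.range fun k : LinearMap.ker (Fintype.linearCombination A x) =>
      lin (k : Fin m → A)) := by
  set π := Fintype.linearCombination A x with hπ
  set J₀ : Ideal (MvPolynomial (Fin m) A) := Ideal.span (Set.range fun k : LinearMap.ker π =>
      lin (k : Fin m → A)) with hJ₀
  let ℓ : (Fin m → A) →ₗ[A] (MvPolynomial (Fin m) A ⧸ J₀) :=
    (Ideal.Quotient.mkₐ A J₀).toLinearMap ∘ₗ lin
  have hle : LinearMap.ker π ≤ LinearMap.ker ℓ := by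
    intro v hv
    rw [LinearMap.mem_ker]
    change Ideal.Quotient.mk J₀ (lin v) = 0
    rw [Ideal.Quotient.eq_zero_iff_mem]
    exact Ideal.subset_span ⟨⟨v, hv⟩, rfl⟩
  let ℓ' : M →ₗ[A] (MvPolynomial (Fin m) A ⧸ J₀) :=
    (LinearMap.ker π).liftQ ℓ hle ∘ₗ (π.quotKerEquivOfSurjective hx).symm.toLinearMap
  have hℓ' : ∀ v, ℓ' (π v) = ℓ v := by
    intro v
    have : (π.quotKerEquivOfSurjective hx).symm (π v) = Submodule.Quotient.mk v := by
      rw [LinearEquiv.symm_apply_eq]
      rfl
    change (LinearMap.ker π).liftQ ℓ hle ((π.quotKerEquivOfSurjective hx).symm (π v)) = ℓ v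
    rw [this]
    rfl
  let β : SymmetricAlgebra A M →ₐ[A] (MvPolynomial (Fin m) A ⧸ J₀) := SymmetricAlgebra.lift ℓ'
  have hcomp : β.comp (aeval G.val) = Ideal.Quotient.mkₐ A J₀ := by
    apply MvPolynomial.algHom_ext
    intro j
    rw [AlgHom.comp_apply, aeval_X, hG]
    change SymmetricAlgebra.lift ℓ' (SymmetricAlgebra.ι A M (x j)) = _
    rw [SymmetricAlgebra.lift_ι_apply]
    have h1 : x j = π (Pi.single j 1) := by
      rw [hπ, Fintype.linearCombination_apply_single, one_smul]
    rw [h1, hℓ']
    change Ideal.Quotient.mk J₀ (lin (Pi.single j 1)) = _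
    rw [lin_single]
    rfl
  intro p hp
  have hp' : aeval G.val p = 0 := G.aeval_val_eq_zero hp
  have : Ideal.Quotient.mkₐ A J₀ p = 0 := by
    rw [← hcomp, AlgHom.comp_apply, hp', map_zero]
  exact Ideal.Quotient.eq_zero_iff_mem.mp this

/-- The map `K → J/J²`. -/
noncomputable def gmap (hG : ∀ j, G.val j = SymmetricAlgebra.ι A M (x j)) :
    LinearMap.ker (Fintype.linearCombination A x) →ₗ[A] G.toExtension.Cotangent where
  toFun k := Algebra.Extension.Cotangent.mk ⟨lin (k : Fin m → A), lin_mem_ker x G hG k⟩
  map_add' k k' := by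
    rw [← map_add]
    congr 1
    exact Subtype.ext (map_add lin _ _)
  map_smul' a k := by
    rw [RingHom.id_apply, ← algebraMap_smul G.toExtension.Ring a
      (Algebra.Extension.Cotangent.mk _), ← map_smul]
    congr 1
    refine Subtype.ext ?_
    have h : lin (a • (k : Fin m → A)) =
        algebraMap A (MvPolynomial (Fin m) A) a * lin (k : Fin m → A) := by
      rw [map_smul, Algebra.smul_def]
    exact h

theorem main (A : Type u) [CommRing A] (M : Type u)
    [AddCommGroup M] [Module A M] (m : ℕ) (x : Fin m → M)
    (hx : Function.Surjective (Fintype.linearCombination A x))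
    (G : Algebra.Generators A (SymmetricAlgebra A M) (Fin m))
    (hG : ∀ j, G.val j = SymmetricAlgebra.ι A M (x j)) :
    ∃ e : SymmetricAlgebra A M ⊗[A] (LinearMap.ker (Fintype.linearCombination A x)) →ₗ[SymmetricAlgebra A M]
        G.toExtension.Cotangent,
      (∀ (k : LinearMap.ker (Fintype.linearCombination A x))
        (hk : (∑ j, C ((k : Fin m → A) j) * X j : MvPolynomial (Fin m) A) ∈ G.toExtension.ker),
        e (1 ⊗ₜ k) = Algebra.Extension.Cotangent.mk ⟨_, hk⟩) ∧
      Function.Surjective e ∧ (Module.Projective A M → Function.Bijective e) := by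
  set π := Fintype.linearCombination A x with hπ
  set e : SymmetricAlgebra A M ⊗[A] (LinearMap.ker π) →ₗ[SymmetricAlgebra A M]
        G.toExtension.Cotangent := LinearMap.liftBaseChange (SymmetricAlgebra A M) (gmap x G hG) with he
  have he1 : ∀ (c : SymmetricAlgebra A M) (k : LinearMap.ker π), e (c ⊗ₜ k) = c • gmap x G hG k := by
    intro c k
    rw [he, LinearMap.liftBaseChange_tmul]
  have hsurj : Function.Surjective e := by
    intro c
    obtain ⟨⟨p, hp⟩, rfl⟩ := Algebra.Extension.Cotangent.mk_surjective c
    have hp' : p ∈ (Ideal.span (Set.range fun k : LinearMap.ker π =>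
        (lin (k : Fin m → A) : G.toExtension.Ring)) : Ideal G.toExtension.Ring) :=
      ker_le x G hx hG hp
    have key : ∀ (q : G.toExtension.Ring) (hq : q ∈ (Ideal.span (Set.range fun k : LinearMap.ker π =>
        (lin (k : Fin m → A) : G.toExtension.Ring)) : Ideal G.toExtension.Ring))
        (hqk : q ∈ G.toExtension.ker), Algebra.Extension.Cotangent.mk ⟨q, hqk⟩ ∈ LinearMap.range e := by
      have hspan_le : (Ideal.span (Set.range fun k : LinearMap.ker π =>
        (lin (k : Fin m → A) : G.toExtension.Ring)) : Ideal G.toExtension.Ring) ≤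
          G.toExtension.ker := by
        rw [Ideal.span_le]
        rintro _ ⟨k, rfl⟩
        exact lin_mem_ker x G hG k
      intro q hq
      induction hq using Submodule.span_induction with
      | mem q hq =>
        obtain ⟨k, rfl⟩ := hq
        intro hqk
        refine ⟨1 ⊗ₜ k, ?_⟩
        rw [he1, one_smul]
        rfl
      | zero =>
        intro hqk
        have : (⟨0, hqk⟩ : G.toExtension.ker) = 0 := rfl
        rw [this, map_zero]
        exact Submodule.zero_mem _
      | add q q' hq hq' ih ih' =>
        intro hqk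
        have h1 := hspan_le hq
        have h2 := hspan_le hq'
        have : (⟨q + q', hqk⟩ : G.toExtension.ker) = ⟨q, h1⟩ + ⟨q', h2⟩ := rfl
        rw [this, map_add]
        exact Submodule.add_mem _ (ih h1) (ih' h2)
      | smul r q hq ih =>
        intro hqk
        have h1 := hspan_le hq
        have : (⟨r • q, hqk⟩ : G.toExtension.ker) = r • ⟨q, h1⟩ := rfl
        rw [this, map_smul, ← algebraMap_smul (SymmetricAlgebra A M) r]
        exact Submodule.smul_mem _ _ (ih h1)
    exact key p hp' hp
  refine ⟨e, ?_, hsurj, ?_⟩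
  · intro k hk
    rw [he1, one_smul]
    rfl
  · intro hproj
    refine ⟨?_, hsurj⟩
    obtain ⟨s, hs⟩ := Module.projective_lifting_property π LinearMap.id hx
    let ρ : (Fin m → A) →ₗ[A] LinearMap.ker π :=
      (LinearMap.id - s ∘ₗ π).codRestrict (LinearMap.ker π) (by
        intro v
        rw [LinearMap.mem_ker, LinearMap.sub_apply, map_sub, LinearMap.id_apply,
          LinearMap.comp_apply]
        have := LinearMap.congr_fun hs (π v)
        rw [LinearMap.comp_apply, LinearMap.id_apply] at this
        rw [this, sub_self])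
    have hρ : ∀ k : LinearMap.ker π, ρ (k : Fin m → A) = k := by
      intro k
      apply Subtype.ext
      change (k : Fin m → A) - s (π k) = k
      rw [k.2, map_zero, sub_zero]
    let r : G.toExtension.CotangentSpace →ₗ[SymmetricAlgebra A M]
        SymmetricAlgebra A M ⊗[A] (LinearMap.ker π) :=
      G.cotangentSpaceBasis.constr (SymmetricAlgebra A M) (fun j => 1 ⊗ₜ ρ (Pi.single j 1))
    have hr : r ∘ₗ G.toExtension.cotangentComplex ∘ₗ e = LinearMap.id := by
      apply TensorProduct.AlgebraTensorModule.ext
      intro c k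
      rw [LinearMap.comp_apply, LinearMap.comp_apply, he1, map_smul, map_smul, LinearMap.id_apply]
      change c • r (G.toExtension.cotangentComplex (Algebra.Extension.Cotangent.mk
        ⟨lin (k : Fin m → A), lin_mem_ker x G hG k⟩)) = _
      rw [Algebra.Extension.cotangentComplex_mk]
      change c • (G.cotangentSpaceBasis.constr (SymmetricAlgebra A M)
        (fun j => (1 : SymmetricAlgebra A M) ⊗ₜ[A] ρ (Pi.single j 1))) _ = _
      rw [Module.Basis.constr_apply_fintype]
      simp only [Module.Basis.equivFun_apply]
      have hrep : ∀ j, G.cotangentSpaceBasis.repr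
          ((1 : SymmetricAlgebra A M) ⊗ₜ[G.toExtension.Ring]
            (KaehlerDifferential.D A G.toExtension.Ring) (lin (k : Fin m → A))) j =
          algebraMap A (SymmetricAlgebra A M) ((k : Fin m → A) j) := by
        intro j
        rw [Algebra.Generators.cotangentSpaceBasis_repr_one_tmul, pderiv_lin, aeval_C]
      simp only [hrep]
      have : ∑ j, algebraMap A (SymmetricAlgebra A M) ((k : Fin m → A) j) •
          ((1 : SymmetricAlgebra A M) ⊗ₜ[A] ρ (Pi.single j 1)) =
          (1 : SymmetricAlgebra A M) ⊗ₜ[A] ρ (∑ j, (k : Fin m → A) j • Pi.single j 1) := by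
        rw [map_sum, TensorProduct.tmul_sum]
        refine Finset.sum_congr rfl fun j _ => ?_
        rw [map_smul, TensorProduct.tmul_smul, algebraMap_smul]
      rw [this]
      have h2 : ∑ j, (k : Fin m → A) j • (Pi.single j 1 : Fin m → A) = (k : Fin m → A) := by
        ext i
        simp [Finset.sum_apply, Pi.single_apply]
      rw [h2, hρ, TensorProduct.smul_tmul', smul_eq_mul, mul_one]
    intro t t' htt
    have := congrArg (fun z => r (G.toExtension.cotangentComplex z)) htt
    have h1 := LinearMap.congr_fun hr t
    have h2 := LinearMap.congr_fun hr t'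
    simp only [LinearMap.comp_apply, LinearMap.id_apply] at h1 h2
    rw [← h1, ← h2]
    exact this
end

/-- Let `x_1, …, x_m` generate the `A`-module `M`, let `K ⊆ A^m` be the module of relations, `C =
Sym_A(M)` and `α : A[y_1, …, y_m] → C` the presentation with `y_j ↦ x_j`, with kernel `J`. Then the
`C`-linear map `C ⊗_A K → J/J²` sending `1 ⊗ k` to the class of `Σ_j k_j y_j` is surjective, and it
is bijective when `M` is a projective `A`-module (so that then `J/J² ≅ K ⊗_A C` and the naive
cotangent complex of `α` is `K ⊗_A C → ⊕_j C dy_j`). (The published statement asserts `J/J² ≅ K ⊗_A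
C` for every `M`. For `A = ℤ`, `M = (ℤ/2)²`, `m = 2` and the two unit vectors, `K = 2ℤ²` and the
element `y_2 ⊗ (2, 0) - y_1 ⊗ (0, 2)` of `C ⊗_A K` is non-zero but maps to the class of `y_2 · 2y_1
- y_1 · 2y_2 = 0`; in degree `2` the graded piece of `J/J²` has `8` elements and that of `K ⊗_A C`
has `16`. The published degree-by-degree computation does show that `J` is generated by the linear
forms coming from `K`, which is the surjectivity, and it is valid as written when `0 → K → A^m → M →
0` splits, which is the projective case.) -/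
theorem result (A : Type u) [CommRing A] (M : Type u)
    [AddCommGroup M] [Module A M] (m : ℕ) (x : Fin m → M)
    (hx : Function.Surjective (Fintype.linearCombination A x))
    (G : Algebra.Generators A (SymmetricAlgebra A M) (Fin m))
    (hG : ∀ j, G.val j = SymmetricAlgebra.ι A M (x j)) :
    ∃ e : SymmetricAlgebra A M ⊗[A] (LinearMap.ker (Fintype.linearCombination A x)) →ₗ[SymmetricAlgebra A M]
        G.toExtension.Cotangent,
      (∀ (k : LinearMap.ker (Fintype.linearCombination A x))
        (hk : (∑ j, C ((k : Fin m → A) j) * X j : MvPolynomial (Fin m) A) ∈ G.toExtension.ker),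
        e (1 ⊗ₜ k) = Algebra.Extension.Cotangent.mk ⟨_, hk⟩) ∧
      Function.Surjective e ∧ (Module.Projective A M → Function.Bijective e) := by
  exact Groth.Agent.S12091.main A M m x hx G hG

end Groth.Agent.S12091
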