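import Groth.Statements.S12096
import Mathlib

set_option autoImplicit false
universe u
open BlowUp

namespace Groth.Agent.S12096

/-- Néron's blowup is compatible with localization. For a ring `A`, an ideal `I`, elements `π, a ∈ A`,
`A' = A[I/π] ⊆ A_π` the affine blowup algebra and `(A_a)' = A_a[I A_a/π]` that of the localization,
the canonical map `A' → (A_a)'` (the restriction of `A_π → (A_a)_π`, given here as a datum with that
compatibility) identifies `(A_a)'` with the localization `A'_a`. In Néron's situation (`I` the
inverse image of the maximal ideal of `Λ`, `π` a uniformizer, `a ∉ I`) this reads: the Néron blowup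
of `A_a` is `A'_a`; the identity holds for arbitrary `A, I, π, a`. -/
theorem result (A : Type u) [CommRing A] (I : Ideal A) (π a : A) (hπ : π ∈ I)
    (ψ : BlowUp.affineAlgebra A I π →+*
      BlowUp.affineAlgebra (Localization.Away a) (I.map (algebraMap A (Localization.Away a))) (algebraMap A (Localization.Away a) π))
    (hψ : ∀ x : BlowUp.affineAlgebra A I π,
      ((ψ x : BlowUp.affineAlgebra (Localization.Away a) (I.map (algebraMap A (Localization.Away a))) (algebraMap A (Localization.Away a) π)) :
          Localization.Away (algebraMap A (Localization.Away a) π)) =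
        Localization.awayMap (algebraMap A (Localization.Away a)) π (x : Localization.Away π)) :
    letI := ψ.toAlgebra
    IsLocalization.Away (algebraMap A (BlowUp.affineAlgebra A I π) a)
      (BlowUp.affineAlgebra (Localization.Away a) (I.map (algebraMap A (Localization.Away a))) (algebraMap A (Localization.Away a) π)) := by
  classical
  letI := ψ.toAlgebra
  have hgalg : ∀ b : A, Localization.awayMap (algebraMap A (Localization.Away a)) π
        (algebraMap A (Localization.Away π) b)
      = algebraMap (Localization.Away a) (Localization.Away (algebraMap A (Localization.Away a) π))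
          (algebraMap A (Localization.Away a) b) := by
    intro b
    simp [Localization.awayMap, IsLocalization.Away.map, IsLocalization.map_eq]
  have hψalg : ∀ b : A, ψ (algebraMap A (BlowUp.affineAlgebra A I π) b)
      = algebraMap (Localization.Away a) (BlowUp.affineAlgebra (Localization.Away a)
          (I.map (algebraMap A (Localization.Away a))) (algebraMap A (Localization.Away a) π))
          (algebraMap A (Localization.Away a) b) := by
    intro b
    apply Subtype.ext
    rw [hψ]
    exact hgalg b
  have hinj : ∀ z w : BlowUp.affineAlgebra A I π, ψ z = ψ w ↔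
      Localization.awayMap (algebraMap A (Localization.Away a)) π (z : Localization.Away π)
        = Localization.awayMap (algebraMap A (Localization.Away a)) π (w : Localization.Away π) := by
    intro z w
    constructor
    · intro h
      rw [← hψ z, ← hψ w, h]
    · intro h
      exact Subtype.ext ((hψ z).trans (h.trans (hψ w).symm))
  -- kernel of the map of localizations
  have hkerg : ∀ z : Localization.Away π,
      Localization.awayMap (algebraMap A (Localization.Away a)) π z = 0 →
      ∃ l : ℕ, algebraMap A (Localization.Away π) a ^ l * z = 0 := by
    intro z hz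
    obtain ⟨n, b, hb⟩ := IsLocalization.Away.surj π z
    have h1 : algebraMap (Localization.Away a) (Localization.Away (algebraMap A (Localization.Away a) π))
        (algebraMap A (Localization.Away a) b) = 0 := by
      rw [← hgalg, ← hb, map_mul, hz, zero_mul]
    obtain ⟨⟨_, m, rfl⟩, hm⟩ := (IsLocalization.map_eq_zero_iff
      (Submonoid.powers (algebraMap A (Localization.Away a) π))
      (Localization.Away (algebraMap A (Localization.Away a) π)) _).mp h1
    have h2 : algebraMap A (Localization.Away a) (π ^ m * b) = 0 := by
      rw [map_mul, map_pow]; exact hm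
    obtain ⟨⟨_, l, rfl⟩, hl⟩ := (IsLocalization.map_eq_zero_iff
      (Submonoid.powers a) (Localization.Away a) _).mp h2
    refine ⟨l, ?_⟩
    have hu : IsUnit (algebraMap A (Localization.Away π) π) :=
      IsLocalization.Away.algebraMap_isUnit _
    have h3 : algebraMap A (Localization.Away π) π ^ (m + n)
        * (algebraMap A (Localization.Away π) a ^ l * z) = 0 := by
      have : algebraMap A (Localization.Away π) π ^ (m + n)
          * (algebraMap A (Localization.Away π) a ^ l * z)
          = algebraMap A (Localization.Away π) (a ^ l * (π ^ m * b)) := by
        rw [map_mul, map_mul, ← hb, map_pow, map_pow, pow_add]; ring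
      rw [this, hl, map_zero]
    exact (hu.pow (m + n)).mul_right_eq_zero.mp h3
  have halg : ∀ x : BlowUp.affineAlgebra A I π, algebraMap (BlowUp.affineAlgebra A I π)
      (BlowUp.affineAlgebra (Localization.Away a)
          (I.map (algebraMap A (Localization.Away a))) (algebraMap A (Localization.Away a) π)) x = ψ x :=
    fun _ => rfl
  have hψa : IsUnit (ψ (algebraMap A (BlowUp.affineAlgebra A I π) a)) := by
    rw [hψalg]
    exact (IsLocalization.Away.algebraMap_isUnit (S := Localization.Away a) a).map _
  -- surjectivity up to powers of a
  have hsurj : ∀ y : Localization.Away (algebraMap A (Localization.Away a) π),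
      y ∈ BlowUp.affineAlgebra (Localization.Away a)
          (I.map (algebraMap A (Localization.Away a))) (algebraMap A (Localization.Away a) π) →
      ∃ (n : ℕ) (x : BlowUp.affineAlgebra A I π),
        y * Localization.awayMap (algebraMap A (Localization.Away a)) π
            (algebraMap A (Localization.Away π) a) ^ n
          = Localization.awayMap (algebraMap A (Localization.Away a)) π (x : Localization.Away π) := by
    intro y hy
    induction hy using Algebra.adjoin_induction with
    | mem y hy =>
      obtain ⟨xb, hxb, rfl⟩ := hy
      obtain ⟨⟨⟨x, hx⟩, ⟨_, n, rfl⟩⟩, hxn⟩ :=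
        (IsLocalization.mem_map_algebraMap_iff (Submonoid.powers a) (Localization.Away a)).mp hxb
      refine ⟨n, ⟨IsLocalization.mk' (Localization.Away π) x ⟨π, Submonoid.mem_powers π⟩,
          Algebra.subset_adjoin ⟨x, hx, rfl⟩⟩, ?_⟩
      simp only at hxn
      have hu' : IsUnit (algebraMap (Localization.Away a)
          (Localization.Away (algebraMap A (Localization.Away a) π)) (algebraMap A (Localization.Away a) π)) :=
        IsLocalization.Away.algebraMap_isUnit _
      apply hu'.mul_left_injective
      simp only
      have e1 : IsLocalization.mk' (Localization.Away (algebraMap A (Localization.Away a) π)) xb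
          ⟨algebraMap A (Localization.Away a) π, Submonoid.mem_powers _⟩
          * algebraMap (Localization.Away a)
          (Localization.Away (algebraMap A (Localization.Away a) π)) (algebraMap A (Localization.Away a) π)
          = algebraMap _ _ xb := IsLocalization.mk'_spec _ _ _
      have e2 : (IsLocalization.mk' (Localization.Away π) x ⟨π, Submonoid.mem_powers π⟩)
          * algebraMap A (Localization.Away π) π = algebraMap _ _ x := IsLocalization.mk'_spec _ _ _
      have e3 := congrArg (Localization.awayMap (algebraMap A (Localization.Away a)) π) e2
      rw [map_mul, hgalg, hgalg] at e3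
      rw [e3, hgalg, ← hxn, map_mul, ← e1, map_pow, map_pow]
      ring
    | algebraMap c =>
      obtain ⟨n, b, hb⟩ := IsLocalization.Away.surj a c
      refine ⟨n, algebraMap A _ b, ?_⟩
      rw [hgalg]
      have : ((algebraMap A (BlowUp.affineAlgebra A I π) b : BlowUp.affineAlgebra A I π) : Localization.Away π)
          = algebraMap A (Localization.Away π) b := rfl
      rw [this, hgalg, ← hb, map_mul, map_pow]
    | add y z _ _ hy hz =>
      obtain ⟨n1, x1, h1⟩ := hy
      obtain ⟨n2, x2, h2⟩ := hz
      refine ⟨n1 + n2, x1 * algebraMap A _ (a ^ n2) + x2 * algebraMap A _ (a ^ n1), ?_⟩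
      have : ((x1 * algebraMap A _ (a ^ n2) + x2 * algebraMap A _ (a ^ n1) : BlowUp.affineAlgebra A I π)
            : Localization.Away π)
          = (x1 : Localization.Away π) * algebraMap A (Localization.Away π) a ^ n2
          + (x2 : Localization.Away π) * algebraMap A (Localization.Away π) a ^ n1 := by
        push_cast
        rfl
      rw [this, map_add, map_mul, map_mul, ← h1, ← h2, map_pow, map_pow, pow_add]
      ring
    | mul y z _ _ hy hz =>
      obtain ⟨n1, x1, h1⟩ := hy
      obtain ⟨n2, x2, h2⟩ := hz
      refine ⟨n1 + n2, x1 * x2, ?_⟩
      push_cast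
      rw [map_mul, ← h1, ← h2, pow_add]
      ring
  rw [IsLocalization.Away, isLocalization_iff]
  refine ⟨?_, ?_, ?_⟩
  · rintro ⟨_, n, rfl⟩
    rw [halg, map_pow]
    exact hψa.pow n
  · intro z
    obtain ⟨n, x, hx⟩ := hsurj z z.2
    refine ⟨⟨x, ⟨_, n, rfl⟩⟩, ?_⟩
    apply Subtype.ext
    simp only [halg]
    rw [map_pow]
    push_cast
    rw [hψ, hψ]
    exact hx
  · intro x y hxy
    rw [halg, halg, hinj] at hxy
    obtain ⟨l, hl⟩ := hkerg ((x : Localization.Away π) - (y : Localization.Away π))
      (by rw [map_sub, hxy, sub_self])
    refine ⟨⟨_, l, rfl⟩, ?_⟩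
    apply Subtype.ext
    push_cast
    rw [mul_sub] at hl
    exact sub_eq_zero.mp hl


end Groth.Agent.S12096
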