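import Groth.Statements.S12097
import Mathlib

set_option autoImplicit false
universe u
open BlowUp

namespace Groth.Agent.S12097

/-- Néron's blowup is compatible with closed immersions. For a surjective ring map `B → A` with kernel
`J`, an ideal `I ⊆ B` containing `π`, and the affine blowup algebras `B' = B[I/π] ⊆ B_π`, `A' =
A[IA/π] ⊆ A_π`, the canonical map `B' → A'` (the restriction of `B_π → A_π`, given as a datum with
that compatibility) is surjective with kernel the elements `x` such that `π^n x ∈ J B'` for some
`n`: `A'` is the quotient of `B'/JB'` by its `π`-power torsion. In Néron's situation (`I` the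
inverse image of the maximal ideal of `Λ`, `π` a uniformizer) this is the printed functoriality; the
identity holds for any surjection. -/
theorem result (B A : Type u) [CommRing B] [CommRing A] [Algebra B A]
    (hq : Function.Surjective (algebraMap B A)) (I : Ideal B) (π : B) (hπ : π ∈ I)
    (ψ : BlowUp.affineAlgebra B I π →+* BlowUp.affineAlgebra A (I.map (algebraMap B A)) (algebraMap B A π))
    (hψ : ∀ x : BlowUp.affineAlgebra B I π,
      ((ψ x : BlowUp.affineAlgebra A (I.map (algebraMap B A)) (algebraMap B A π)) : Localization.Away (algebraMap B A π)) =
        Localization.awayMap (algebraMap B A) π (x : Localization.Away π)) :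
    Function.Surjective ψ ∧
      ∀ x : BlowUp.affineAlgebra B I π, x ∈ RingHom.ker ψ ↔
        ∃ n : ℕ, algebraMap B (BlowUp.affineAlgebra B I π) π ^ n * x ∈
          (RingHom.ker (algebraMap B A)).map (algebraMap B (BlowUp.affineAlgebra B I π)) := by
  classical
  set g := Localization.awayMap (algebraMap B A) π with hg
  have hgalg : ∀ b : B, g (algebraMap B (Localization.Away π) b)
      = algebraMap A (Localization.Away (algebraMap B A π)) (algebraMap B A b) := by
    intro b
    simp [hg, Localization.awayMap, IsLocalization.Away.map, IsLocalization.map_eq]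
  constructor
  · -- surjectivity
    have key : ∀ y : Localization.Away (algebraMap B A π),
        y ∈ BlowUp.affineAlgebra A (I.map (algebraMap B A)) (algebraMap B A π) →
        ∃ x : BlowUp.affineAlgebra B I π, g (x : Localization.Away π) = y := by
      intro y hy
      induction hy using Algebra.adjoin_induction with
      | mem y hy =>
        obtain ⟨xb, hxb, rfl⟩ := hy
        obtain ⟨x, hx, rfl⟩ := (Ideal.mem_map_iff_of_surjective _ hq).mp hxb
        refine ⟨⟨IsLocalization.mk' (Localization.Away π) x ⟨π, Submonoid.mem_powers π⟩,
          Algebra.subset_adjoin ⟨x, hx, rfl⟩⟩, ?_⟩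
        simp only [hg, Localization.awayMap, IsLocalization.Away.map]
        rw [IsLocalization.map_mk']
      | algebraMap a =>
        obtain ⟨b, rfl⟩ := hq a
        exact ⟨algebraMap B _ b, hgalg b⟩
      | add y z _ _ hy hz =>
        obtain ⟨x1, h1⟩ := hy
        obtain ⟨x2, h2⟩ := hz
        exact ⟨x1 + x2, by simp [h1, h2]⟩
      | mul y z _ _ hy hz =>
        obtain ⟨x1, h1⟩ := hy
        obtain ⟨x2, h2⟩ := hz
        exact ⟨x1 * x2, by simp [h1, h2]⟩
    intro y
    obtain ⟨x, hx⟩ := key y y.2
    exact ⟨x, Subtype.ext ((hψ x).trans hx)⟩
  · intro x
    have hker : ∀ z : BlowUp.affineAlgebra B I π, z ∈ RingHom.ker ψ ↔ g (z : Localization.Away π) = 0 := by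
      intro z
      rw [RingHom.mem_ker]
      constructor
      · intro h
        rw [← hψ z, h]; rfl
      · intro h
        exact Subtype.ext ((hψ z).trans h)
    have hunit : IsUnit (algebraMap A (Localization.Away (algebraMap B A π)) (algebraMap B A π)) :=
      IsLocalization.Away.algebraMap_isUnit _
    constructor
    · intro hx
      rw [hker] at hx
      obtain ⟨n, b, hb⟩ := IsLocalization.Away.surj π (x : Localization.Away π)
      -- hb : x * algebraMap π ^ n = algebraMap b
      have h1 : algebraMap A (Localization.Away (algebraMap B A π)) (algebraMap B A b) = 0 := by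
        rw [← hgalg, ← hb, map_mul, hx, zero_mul]
      obtain ⟨⟨_, m, rfl⟩, hm⟩ := (IsLocalization.map_eq_zero_iff (Submonoid.powers (algebraMap B A π))
        (Localization.Away (algebraMap B A π)) _).mp h1
      refine ⟨m + n, ?_⟩
      have h2 : algebraMap B (BlowUp.affineAlgebra B I π) π ^ (m + n) * x
          = algebraMap B (BlowUp.affineAlgebra B I π) (π ^ m * b) := by
        apply Subtype.ext
        change algebraMap B (Localization.Away π) π ^ (m + n) * (x : Localization.Away π)
          = algebraMap B (Localization.Away π) (π ^ m * b)
        rw [map_mul, ← hb, map_pow, pow_add]; ring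
      rw [h2]
      apply Ideal.mem_map_of_mem
      rw [RingHom.mem_ker, map_mul, map_pow]
      exact hm
    · rintro ⟨n, hn⟩
      rw [hker]
      have hJ : (RingHom.ker (algebraMap B A)).map (algebraMap B (BlowUp.affineAlgebra B I π))
          ≤ RingHom.ker ψ := by
        rw [Ideal.map_le_iff_le_comap]
        intro b hb
        rw [Ideal.mem_comap, hker]
        change g (algebraMap B (Localization.Away π) b) = 0
        rw [hgalg, (RingHom.mem_ker).mp hb, map_zero]
      have h3 := (hker _).mp (hJ hn)
      have h4 : g ((algebraMap B (BlowUp.affineAlgebra B I π) π ^ n * x : BlowUp.affineAlgebra B I π)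
          : Localization.Away π)
          = algebraMap A (Localization.Away (algebraMap B A π)) (algebraMap B A π) ^ n
            * g (x : Localization.Away π) := by
        change g (algebraMap B (Localization.Away π) π ^ n * (x : Localization.Away π)) = _
        rw [map_mul, map_pow, hgalg]
      rw [h4] at h3
      exact (hunit.pow n).mul_right_eq_zero.mp h3


end Groth.Agent.S12097
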