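import Groth.Statements.S12099
import Mathlib

set_option autoImplicit false
universe v u
open CategoryTheory CategoryTheory.Limits
open PCoh

namespace Groth.Agent.S12099

/-- Punctual site: let C be an abelian category and C₀ a strictly full additive subcategory,
quasi-liftable in C. For an exact sequence F → G → H → 0 with F of C₀-finite type and G precoherent
relative to C₀ (every morphism from a C₀-object into G has kernel of C₀-finite type), H is
precoherent relative to C₀. -/
theorem result {C : Type u} [Category.{v} C] [Abelian C]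
    (P : ObjectProperty C) [P.IsClosedUnderIsomorphisms] [P.ContainsZero] (hsum : ∀ X Y : C, P X → P Y → P (X ⨯ Y))
    (hql : PCoh.IsQuasiLiftable P)
    (S : ShortComplex C) (hS : S.Exact) (hg : Epi S.g)
    (hF : PCoh.IsOfFiniteType P S.X₁) (hG : ∀ (E : C) (u : E ⟶ S.X₂), P E → PCoh.IsOfFiniteType P (kernel u)) :
    ∀ (E : C) (u : E ⟶ S.X₃), P E → PCoh.IsOfFiniteType P (kernel u) := by
  intro E u hE
  obtain ⟨EF, q, hEF, hq⟩ := hF
  -- pullback of g along u
  have hepi : Epi (pullback.fst u S.g) := inferInstance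
  obtain ⟨E', v, hE', hv⟩ := hql (pullback u S.g) E (pullback.fst u S.g) hepi hE
  set p : E' ⟶ E := v ≫ pullback.fst u S.g with hp
  set u' : E' ⟶ S.X₂ := v ≫ pullback.snd u S.g with hu'
  have hcomm : p ≫ u = u' ≫ S.g := by
    simp only [hp, hu', Category.assoc, pullback.condition]
  -- the map E' ⨯ EF ⟶ G
  set w : E' ⨯ EF ⟶ S.X₂ := prod.fst ≫ u' - prod.snd ≫ q ≫ S.f with hw
  obtain ⟨E'', r, hE'', hr⟩ := hG (E' ⨯ EF) w (hsum _ _ hE' hEF)
  have hzero : (kernel.ι w ≫ prod.fst ≫ p) ≫ u = 0 := by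
    have h1 : kernel.ι w ≫ w = 0 := kernel.condition w
    rw [hw, Preadditive.comp_sub, sub_eq_zero] at h1
    rw [Category.assoc, Category.assoc, hcomm, ← Category.assoc prod.fst, ← Category.assoc, h1]
    simp
  refine ⟨E'', r ≫ kernel.lift u (kernel.ι w ≫ prod.fst ≫ p) hzero, hE'', ?_⟩
  suffices Epi (kernel.lift u (kernel.ι w ≫ prod.fst ≫ p) hzero) from epi_comp _ _
  rw [epi_iff_surjective_up_to_refinements]
  intro A a
  obtain ⟨A1, π1, hπ1, e', he'⟩ := surjective_up_to_refinements_of_epi p (a ≫ kernel.ι u)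
  have h2 : (e' ≫ u') ≫ S.g = 0 := by
    rw [Category.assoc, ← hcomm, ← Category.assoc, ← he']
    simp
  obtain ⟨A2, π2, hπ2, x1, hx1⟩ := hS.exact_up_to_refinements (e' ≫ u') h2
  obtain ⟨A3, π3, hπ3, y, hy⟩ := surjective_up_to_refinements_of_epi q x1
  have h3 : prod.lift (π3 ≫ π2 ≫ e') y ≫ w = 0 := by
    rw [hw, Preadditive.comp_sub, sub_eq_zero]
    simp only [prod.lift_fst_assoc, prod.lift_snd_assoc, Category.assoc]
    rw [hx1, ← Category.assoc y, ← hy, Category.assoc]
  refine ⟨A3, π3 ≫ π2 ≫ π1, inferInstance, kernel.lift w _ h3, ?_⟩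
  rw [← cancel_mono (kernel.ι u)]
  simp only [Category.assoc, kernel.lift_ι, kernel.lift_ι_assoc, prod.lift_fst_assoc]
  rw [he']


end Groth.Agent.S12099
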