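import Groth.Statements.S12105
import Mathlib
import Groth.Agent.Lib.Helper24.GSSSite2

set_option autoImplicit false
universe u
open CategoryTheory
open CohSite

namespace Groth.Agent.S12105


open CategoryTheory.Limits in

open CategoryTheory.Limits in
/-- On a small site (C, J), for a presheaf of sets R on C and an abelian sheaf M there is a bounded E_2
spectral sequence of abelian groups with E_2^{p,q} isomorphic to H^p(R, H^q(M)) — the cohomology, in
the topos of presheaves (sheaves for the trivial topology), of the presheaf V ↦ H^q(V, M) with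
respect to R, i.e. the p-th Ext out of the free abelian presheaf on R — for p, q ≥ 0 and zero
otherwise, with abutment data whose filtrations are finite on H^n(aR, M), the cohomology of M with
respect to the sheaf of sets associated to R (n ≥ 0; zero for n < 0). The E_2 identifications and
abutment isomorphisms are asserted to exist only, not pinned to the canonical maps, so edge maps and
functoriality in R and M are not part of this statement. -/
theorem result {C : Type u} [SmallCategory C]
    (J : GrothendieckTopology C) (R : Cᵒᵖ ⥤ Type u) (M : Sheaf J AddCommGrpCat.{u}) :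
    ∃ (E : E₂CohomologicalSpectralSequence AddCommGrpCat.{u})
      (a : SpSeq.Abutment E (fun n : ℤ =>
        if 0 ≤ n then AddCommGrpCat.of (CohCx.HK ((presheafToSheaf J (Type u)).obj R) M n.toNat)
        else AddCommGrpCat.of PUnit.{u + 1})),
      (∀ n, a.IsFinite n) ∧ SpSeq.IsBounded E ∧
      ∀ p q : ℤ, Nonempty ((E.page 2 le_rfl).X (p, q) ≅
        (if 0 ≤ p ∧ 0 ≤ q then
          AddCommGrpCat.of (CohCx.HK (J := (⊥ : GrothendieckTopology C)) ⟨R, Presheaf.isSheaf_bot _⟩
            ⟨M.cohomologyPresheaf q.toNat, Presheaf.isSheaf_bot _⟩ p.toNat)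
         else AddCommGrpCat.of PUnit.{u + 1})) := by
  open Groth.Agent.Helper24.GSS Groth.Agent.Helper24.SieveCoh in
  have hz : Limits.IsZero (AddCommGrpCat.of PUnit.{u + 1}) :=
    AddCommGrpCat.isZero_of_subsingleton _
  -- the comparison of the two free sheaves
  have hW : J.W (Functor.whiskerRight (toSheafify J R) AddCommGrpCat.free.{u}) :=
    W_whiskerRight_free J _ (J.W_toSheafify R)
  haveI : IsIso ((presheafToSheaf J AddCommGrpCat.{u}).map
      (Functor.whiskerRight (toSheafify J R) AddCommGrpCat.free.{u})) := (J.W_iff _).1 hW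
  let eW : (shBot J).obj (ZT R) ≅ (presheafToSheaf J AddCommGrpCat.{u}).obj
      (((presheafToSheaf J (Type u)).obj R).obj ⋙ AddCommGrpCat.free.{u}) :=
    shBotSheafifyIso J (R ⋙ AddCommGrpCat.free.{u}) ≪≫
      asIso ((presheafToSheaf J AddCommGrpCat.{u}).map
        (Functor.whiskerRight (toSheafify J R) AddCommGrpCat.free.{u}))
  refine exists_presheafExt_spectralSequence J (ZT R) M _ _ ?_ ?_ ?_ ?_
  · intro n
    have hn : (0 : ℤ) ≤ (n : ℤ) := by positivity
    simp only [if_pos hn, Int.toNat_natCast]
    exact nonempty_ext_iso_of_iso eW M n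
  · intro n hn
    simp only [if_neg (not_le.2 hn)]
    exact hz
  · intro p q
    have hpq : (0 : ℤ) ≤ (p : ℤ) ∧ (0 : ℤ) ≤ (q : ℤ) := ⟨by positivity, by positivity⟩
    simp only [if_pos hpq, Int.toNat_natCast]
    exact ⟨Iso.refl _⟩
  · intro p q hpq
    have : ¬ ((0 : ℤ) ≤ p ∧ (0 : ℤ) ≤ q) := fun h => by lia
    simp only [if_neg this]
    exact hz

end Groth.Agent.S12105
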