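import Groth.Statements.S12108
import Groth.Agent.Lib.Helper5.ToposFinCofan

set_option autoImplicit false
set_option linter.style.haveILetI false
open CategoryTheory CategoryTheory.Limits
universe u
open SGA4

namespace Groth.Agent.S12108

/-- Let `(C, J)` be a small site, `X` an object and `s i : Y i ⟶ X` a family of morphisms indexed by a
small type. The following are equivalent: (i) the family is covering, for every `i` the diagonal of
presheaves `h_{Y i} ⟶ h_{Y i} ×_{h_X} h_{Y i}` becomes an isomorphism under the associated-sheaf
functor, and for all `i ≠ j` the sheaf associated to the presheaf `h_{Y i} ×_{h_X} h_{Y j}` is an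
initial object; (ii) the associated sheaf of `X`, with the maps induced by the `s i`, is a coproduct
of the associated sheaves of the `Y i` in sheaves of sets. -/
theorem result
    {C : Type u} [SmallCategory C] (J : GrothendieckTopology C) {X : C} {ι : Type u}
    (Y : ι → C) (s : ∀ i, Y i ⟶ X) :
    (Sieve.ofArrows Y s ∈ J X ∧
      (∀ i, IsIso ((presheafToSheaf J (Type u)).map (pullback.diagonal (yoneda.map (s i))))) ∧
      (∀ i j, i ≠ j → Nonempty (IsInitial ((presheafToSheaf J (Type u)).obj
        (pullback (yoneda.map (s i)) (yoneda.map (s j))))))) ↔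
    Nonempty (IsColimit (Cofan.mk ((presheafToSheaf J (Type u)).obj (yoneda.obj X))
      (fun i => (presheafToSheaf J (Type u)).map (yoneda.map (s i))))) := by
  constructor
  · rintro ⟨hcov, hdiag, hdisj⟩
    refine (Groth.Agent.Helper5.ToposFin.isColimit_cofan_eps_iff (J := J) Y s).2 ?_
    intro F
    have hF := (isSheaf_iff_isSheaf_of_type _ _).1 F.property
    have hsh : (Presieve.ofArrows Y s).IsSheafFor F.obj := by
      rw [Presieve.isSheafFor_iff_generate]
      exact hF _ hcov
    rw [Presieve.isSheafFor_arrows_iff] at hsh
    have hcompat : ∀ x : (i : ι) → F.obj.obj (Opposite.op (Y i)),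
        Presieve.Arrows.Compatible F.obj s x := by
      intro x i j Z gi gj hg
      have key : pullback.fst (yoneda.map (s i)) (yoneda.map (s j)) ≫ yonedaEquiv.symm (x i) =
          pullback.snd (yoneda.map (s i)) (yoneda.map (s j)) ≫ yonedaEquiv.symm (x j) := by
        by_cases hij : i = j
        · subst hij
          haveI := hdiag i
          apply Groth.Agent.Helper5.ToposFin.presheaf_hom_ext_of_epi (J := J)
            (pullback.diagonal (yoneda.map (s i))) F
          rw [pullback.diagonal_fst_assoc, pullback.diagonal_snd_assoc]
        · obtain ⟨hI⟩ := hdisj i j hij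
          exact Groth.Agent.Helper5.ToposFin.presheaf_hom_eq_of_isInitial (J := J) hI F _ _
      have hl : yoneda.map gi ≫ yoneda.map (s i) = yoneda.map gj ≫ yoneda.map (s j) := by
        rw [← Functor.map_comp, ← Functor.map_comp, hg]
      have h2 := congrArg (fun t => pullback.lift (yoneda.map gi) (yoneda.map gj) hl ≫ t) key
      simp only [pullback.lift_fst_assoc, pullback.lift_snd_assoc] at h2
      have h3 := congrArg yonedaEquiv h2
      rw [← yonedaEquiv_naturality, ← yonedaEquiv_naturality, Equiv.apply_symm_apply,
        Equiv.apply_symm_apply] at h3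
      exact h3
    constructor
    · intro a b hab
      obtain ⟨t, _, ht⟩ := hsh (fun i => F.obj.map (s i).op a) (hcompat _)
      rw [ht a (fun i => rfl), ht b (fun i => (congrFun hab i).symm)]
    · intro y
      obtain ⟨t, ht, _⟩ := hsh y (hcompat y)
      exact ⟨t, funext ht⟩
  · rintro ⟨hc⟩
    have hje := Groth.Agent.Helper5.ToposFin.je_of_isColimit_cofan _ hc
    refine ⟨Groth.Agent.Helper5.ToposFin.ofArrows_mem_of_je (J := J) Y s hje, ?_, ?_⟩
    · intro i
      haveI : Mono ((presheafToSheaf J (Type u)).map (yoneda.map (s i))) :=
        Groth.Agent.Helper5.ToposFin.mono_inj _ hc i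
      have hpb := Functor.map_isPullback (presheafToSheaf J (Type u))
        (IsPullback.of_hasPullback (yoneda.map (s i)) (yoneda.map (s i)))
      haveI : IsIso ((presheafToSheaf J (Type u)).map
          (pullback.fst (yoneda.map (s i)) (yoneda.map (s i)))) := hpb.isIso_fst_of_mono
      have h1 : (presheafToSheaf J (Type u)).map (pullback.diagonal (yoneda.map (s i))) ≫
          (presheafToSheaf J (Type u)).map (pullback.fst (yoneda.map (s i)) (yoneda.map (s i))) =
          𝟙 _ := by
        rw [← Functor.map_comp, pullback.diagonal_fst, CategoryTheory.Functor.map_id]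
      haveI : IsIso ((presheafToSheaf J (Type u)).map (pullback.diagonal (yoneda.map (s i))) ≫
          (presheafToSheaf J (Type u)).map
            (pullback.fst (yoneda.map (s i)) (yoneda.map (s i)))) := by
        rw [h1]; infer_instance
      exact IsIso.of_isIso_comp_right _
        ((presheafToSheaf J (Type u)).map (pullback.fst (yoneda.map (s i)) (yoneda.map (s i))))
    · intro i j hij
      have hpb := Functor.map_isPullback (presheafToSheaf J (Type u))
        (IsPullback.of_hasPullback (yoneda.map (s i)) (yoneda.map (s j)))
      exact Groth.Agent.Helper5.ToposFin.isInitial_of_inj_eq _ hc (Ne.symm hij) _ _ hpb.w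

end Groth.Agent.S12108
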