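import Groth.Statements.S12111
import Groth.Agent.Lib.Helper20.PnSys2

set_option autoImplicit false
universe u
open CategoryTheory CategoryTheory.Limits AlgebraicGeometry
open Pic13

namespace Groth.Agent.S12111


theorem result (k : Type u) [Field k] [IsAlgClosed k] (n : ℕ) {X : Scheme.{u}}
    (i : X ⟶ CohB1.ProjSpace n k) [IsClosedImmersion i] (F : X.Modules) (hF : Coh.IsCoh F) (m : ℤ)
    (h : Pic13.IsMRegular k i F m) (n' : ℤ) (hn' : m ≤ n') :
    Pic13.IsMRegular k i F n' ∧ Curv2.IsGloballyGenerated (Pic13.twistOn k i F n') := by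
  have hreg : ∀ q : ℕ, 1 ≤ q → Subsingleton (Coh.HH X
      (CohB1.tensorMod F (Groth.Agent.Helper20.PnSys.L n k i (m - q))) q) := fun q hq => h q hq
  have hreg' : ∀ q : ℕ, 1 ≤ q → Subsingleton (Coh.HH X
      (CohB1.tensorMod F (Groth.Agent.Helper20.PnSys.L n k i (n' - q))) q) := fun q hq =>
    Groth.Agent.Helper20.PnSys.vanish_all n k i F m hreg q (n' - q) hq (by omega)
  refine ⟨fun q hq => hreg' q hq, ?_⟩
  exact Groth.Agent.Helper20.PnSys.globallyGenerated k n i F hF n' hreg'

end Groth.Agent.S12111
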