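import Groth.Statements.S1212
import Mathlib
-- import your own Groth.Agent.* helpers here

set_option autoImplicit false
universe u
open FlatMor

namespace Groth.Agent.S1212

open TensorProduct IsLocalRing
open scoped Classical

section
variable {R S : Type u} [CommRing R] [CommRing S] [Algebra R S]
  {N : Type u} [AddCommGroup N] [Module S N] [Module R N] [IsScalarTower R S N]
  {M : Type u} [AddCommGroup M] [Module R M]

/-- Multiplication by an element of `S` as an `R`-linear endomorphism. -/
def mulS (f : S) : N →ₗ[R] N where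
  toFun x := f • x
  map_add' x y := smul_add f x y
  map_smul' r x := by
    simp only [RingHom.id_apply]
    rw [← algebraMap_smul S r x, ← algebraMap_smul S r (f • x), smul_smul, smul_smul, mul_comm]

lemma mulS_apply (f : S) (x : N) : mulS (R := R) f x = f • x := rfl

lemma smul_eq_rTensor (f : S) (z : N ⊗[R] M) :
    f • z = (mulS (R := R) (N := N) f).rTensor M z := by
  induction z using TensorProduct.induction_on with
  | zero => simp
  | tmul x y => rw [LinearMap.rTensor_tmul, mulS_apply, TensorProduct.smul_tmul']
  | add x y hx hy => rw [smul_add, map_add, hx, hy]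

/-- Elements of `J S` act on `N` through maps whose composition with any `R`-linear map to an
`R`-module `P` lands in `J P`. -/
lemma map_smul_mem_of_mem_map {P : Type u} [AddCommGroup P] [Module R P] (p : N →ₗ[R] P)
    (J : Ideal R) (s : S) (hs : s ∈ J.map (algebraMap R S)) :
    ∀ x : N, p (s • x) ∈ (J • ⊤ : Submodule R P) := by
  unfold Ideal.map at hs
  induction hs using Submodule.span_induction with
  | mem s hs =>
    intro x
    obtain ⟨r, hr, rfl⟩ := hs
    rw [algebraMap_smul, map_smul]
    exact Submodule.smul_mem_smul hr Submodule.mem_top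
  | zero => intro x; rw [zero_smul, map_zero]; exact Submodule.zero_mem _
  | add s t _ _ hs ht => intro x; rw [add_smul, map_add]; exact Submodule.add_mem _ (hs x) (ht x)
  | smul c s _ hs =>
    intro x
    rw [smul_eq_mul, mul_comm, mul_smul]
    exact hs (c • x)

end

section
variable {R : Type u} [CommRing R] [IsLocalRing R]
  {P : Type u} [AddCommGroup P] [Module R P] [Module.Finite R P]

lemma bijective_one_sub (φ : P →ₗ[R] P) (hφ : ∀ x, φ x ∈ (maximalIdeal R • ⊤ : Submodule R P)) :
    Function.Bijective (LinearMap.id - φ : P →ₗ[R] P) := by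
  have hsurj : Function.Surjective (LinearMap.id - φ : P →ₗ[R] P) := by
    rw [← LinearMap.range_eq_top, eq_top_iff]
    apply Submodule.le_of_le_smul_of_le_jacobson_bot (I := maximalIdeal R) Module.Finite.fg_top
      (by rw [IsLocalRing.jacobson_eq_maximalIdeal ⊥ bot_ne_top])
    intro x _
    have : x = (LinearMap.id - φ : P →ₗ[R] P) x + φ x := by
      simp
    rw [this]
    exact Submodule.add_mem_sup (LinearMap.mem_range_self _ x) (hφ x)
  exact ⟨OrzechProperty.injective_of_surjective_endomorphism _ hsurj, hsurj⟩

end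

section
variable {R : Type u} [CommRing R]
  {N : Type u} [AddCommGroup N] [Module R N]
  {M : Type u} [AddCommGroup M] [Module R M]

lemma range_rTensor_subtype_mono {A B : Submodule R N} (h : A ≤ B) :
    LinearMap.range (A.subtype.rTensor M) ≤ LinearMap.range (B.subtype.rTensor M) := by
  have : A.subtype = B.subtype ∘ₗ Submodule.inclusion h := (Submodule.subtype_comp_inclusion A B h).symm
  rw [this, LinearMap.rTensor_comp]
  exact LinearMap.range_comp_le_range _ _

lemma exists_finset_mem_range_supported {α : Type u} (z : (α →₀ R) ⊗[R] M) :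
    ∃ T : Finset α, z ∈ LinearMap.range ((Finsupp.supported R R (T : Set α)).subtype.rTensor M) := by
  induction z using TensorProduct.induction_on with
  | zero => exact ⟨∅, Submodule.zero_mem _⟩
  | tmul x y =>
    refine ⟨x.support, ⟨(⟨x, ?_⟩ : Finsupp.supported R R (x.support : Set α)) ⊗ₜ y, ?_⟩⟩
    · rw [Finsupp.mem_supported]
    · rw [LinearMap.rTensor_tmul]; rfl
  | add x y hx hy =>
    obtain ⟨T₁, h₁⟩ := hx
    obtain ⟨T₂, h₂⟩ := hy
    refine ⟨T₁ ∪ T₂, Submodule.add_mem _ ?_ ?_⟩
    · refine range_rTensor_subtype_mono ?_ h₁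
      apply Finsupp.supported_mono
      simp only [Finset.coe_union]; exact Set.subset_union_left
    · refine range_rTensor_subtype_mono ?_ h₂
      apply Finsupp.supported_mono
      simp only [Finset.coe_union]; exact Set.subset_union_right

end

section
variable {R S : Type u} [CommRing R] [IsLocalRing R] [CommRing S] [Algebra R S]
  {N : Type u} [AddCommGroup N] [Module S N] [Module R N] [IsScalarTower R S N]
  {M : Type u} [AddCommGroup M] [Module R M]

/-- The key Nakayama argument. -/
lemma eq_zero_of_one_sub_smul_eq_zero {P : Type u} [AddCommGroup P] [Module R P] [Module.Finite R P]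
    (j : P →ₗ[R] N) (r : N →ₗ[R] P) (z : N ⊗[R] M) (z' : P ⊗[R] M)
    (hj : j.rTensor M z' = z) (hr : r.rTensor M z = z')
    (a : S) (ha : a ∈ (maximalIdeal R).map (algebraMap R S)) (hz : (1 - a) • z = 0) : z = 0 := by
  let φ : P →ₗ[R] P := r ∘ₗ mulS (R := R) a ∘ₗ j
  have hφ : ∀ x, φ x ∈ (maximalIdeal R • ⊤ : Submodule R P) := fun x =>
    map_smul_mem_of_mem_map r _ a ha _
  have hbij := bijective_one_sub φ hφ
  have h0 : ((LinearMap.id - φ).rTensor M) z' = 0 := by
    have h1 : r.rTensor M ((1 - a) • z) = 0 := by rw [hz, map_zero]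
    rw [sub_smul, one_smul, map_sub, hr, smul_eq_rTensor, ← hj] at h1
    rw [LinearMap.rTensor_sub, LinearMap.sub_apply, LinearMap.rTensor_id, LinearMap.id_apply]
    rw [← h1]
    congr 1
    simp only [φ, LinearMap.rTensor_comp, LinearMap.coe_comp, Function.comp_apply]
  let e : P ≃ₗ[R] P := LinearEquiv.ofBijective _ hbij
  have hz'0 : z' = 0 := by
    have : (e.rTensor M) z' = 0 := h0
    exact (LinearEquiv.map_eq_zero_iff _).1 this
  rw [← hj, hz'0, map_zero]

theorem aux [Module.Projective R N]
    (q : Ideal S) [q.IsPrime] (hq : q ∈ FlatCA.ass S (N ⊗[R] M)) :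
    q ⊔ (maximalIdeal R).map (algebraMap R S) ≠ ⊤ := by
  intro htop
  obtain ⟨hqp, z, hz⟩ := hq
  have h1 : (1 : S) ∈ q ⊔ (maximalIdeal R).map (algebraMap R S) := by rw [htop]; trivial
  obtain ⟨f, hf, a, ha, hfa⟩ := Submodule.mem_sup.1 h1
  have hfz : f • z = 0 := by
    rw [hz] at hf
    exact (Submodule.mem_annihilator_span_singleton _ _).1 hf
  have hf' : f = 1 - a := by rw [← hfa]; ring
  obtain ⟨s, hs⟩ := (Module.projective_def' (R := R) (P := N)).1 inferInstance
  let π : (N →₀ R) →ₗ[R] N := Finsupp.linearCombination R id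
  have hπs : π ∘ₗ s = LinearMap.id := hs
  obtain ⟨T, z', hz'⟩ := exists_finset_mem_range_supported (s.rTensor M z)
  let LT : Submodule R (N →₀ R) := Finsupp.supported R R (T : Set N)
  have : Module.Finite R LT :=
    Module.Finite.equiv (Finsupp.supportedEquivFinsupp (M := R) (R := R) (T : Set N)).symm
  let pT : (N →₀ R) →ₗ[R] LT := Finsupp.restrictDom R R (T : Set N)
  have hpT : pT ∘ₗ LT.subtype = LinearMap.id := Finsupp.restrictDom_comp_subtype _
  have hz0 : z = 0 := by
    refine eq_zero_of_one_sub_smul_eq_zero (P := LT) (π ∘ₗ LT.subtype) (pT ∘ₗ s) z z' ?_ ?_ a ha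
      (by rw [← hf']; exact hfz)
    · rw [LinearMap.rTensor_comp, LinearMap.comp_apply, hz', ← LinearMap.comp_apply,
        ← LinearMap.rTensor_comp, hπs, LinearMap.rTensor_id, LinearMap.id_apply]
    · rw [LinearMap.rTensor_comp, LinearMap.comp_apply, ← hz', ← LinearMap.comp_apply,
        ← LinearMap.rTensor_comp, hpT, LinearMap.rTensor_id, LinearMap.id_apply]
  have : q = ⊤ := by
    rw [hz, hz0]
    rw [Submodule.annihilator_eq_top_iff]
    simp
  exact hqp.ne_top this

end

open TensorProduct IsLocalRing in
/-- Let R be a local ring, S an R-algebra and N an S-module which is projective as an R-module, such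
that the closed fibre ring of S is Noetherian and the closed fibre module of N is finite over it.
Then every prime q of S, over p in R, which is an associated prime (the annihilator of an element)
of the S-module N ⊗_R κ(p) satisfies q + 𝔪_R S ≠ S. -/
theorem result {R S : Type u} [CommRing R] [IsLocalRing R] [CommRing S] [Algebra R S]
    (N : Type u) [AddCommGroup N] [Module S N] [Module R N] [IsScalarTower R S N] [Module.Projective R N]
    [IsNoetherianRing ((maximalIdeal R).Fiber S)]
    [Module.Finite ((maximalIdeal R).Fiber S) (FlatCA.fiberMod (maximalIdeal R) S N)]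
    (p : Ideal R) [p.IsPrime] (q : Ideal S) [q.IsPrime] [q.LiesOver p]
    (hq : q ∈ FlatCA.ass S (N ⊗[R] p.ResidueField)) :
    q ⊔ (maximalIdeal R).map (algebraMap R S) ≠ ⊤ := by
  exact aux q hq

end Groth.Agent.S1212
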