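import Groth.Statements.S12121
import Groth.Agent.Lib.Lead.SkReg2
import Groth.Agent.Lib.Lead.LocLocGen
import Groth.Agent.S2085
import Groth.Agent.S2711

set_option autoImplicit false
universe u
open EGA4

namespace Groth.Agent.S12121

set_option linter.style.haveILetI false
set_option linter.unusedSectionVars false

open IsLocalRing RingTheory.Sequence Groth.Agent.Lead

variable {A : Type u} [CommRing A] [IsNoetherianRing A]

theorem withBot_one_le_of (dN dM : WithBot ℕ∞) (n : ℕ) (h1 : dN + (n : WithBot ℕ∞) = dM)
    (h2 : (n : WithBot ℕ∞) < dM) : 1 ≤ dN := by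
  by_contra hcon
  rw [not_le] at hcon
  have h3 : dN ≤ ((0 : ℕ) : WithBot ℕ∞) := by
    rw [← ENat.WithBot.lt_add_one_iff, Nat.cast_zero, zero_add]
    exact hcon
  have h4 : dN + (n : WithBot ℕ∞) ≤ ((0 : ℕ) : WithBot ℕ∞) + (n : WithBot ℕ∞) :=
    ENat.WithBot.add_le_add_natCast_right_iff.2 h3
  rw [h1, Nat.cast_zero, zero_add] at h4
  exact absurd h2 (not_lt.2 h4)

theorem final_step (p : Ideal A) [hp : p.IsPrime] (M : Type u) [AddCommGroup M] [Module A M]
    [Module.Finite A M] (x : A) (hx : x ∉ p) (fs : List A) (hmem : ∀ f ∈ fs, f ∈ p)
    (hwr : IsWeaklyRegular (LocalizedModule (Submonoid.powers x) M)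
      (fs.map (algebraMap A (Localization (Submonoid.powers x)))))
    (hanti : ∀ P ∈ associatedPrimes (Localization (Submonoid.powers x))
        (LocalizedModule (Submonoid.powers x) M ⧸
          (Ideal.ofList (fs.map (algebraMap A (Localization (Submonoid.powers x)))) •
            (⊤ : Submodule (Localization (Submonoid.powers x))
              (LocalizedModule (Submonoid.powers x) M)))),
      ∀ Q ∈ associatedPrimes (Localization (Submonoid.powers x))
        (LocalizedModule (Submonoid.powers x) M ⧸
          (Ideal.ofList (fs.map (algebraMap A (Localization (Submonoid.powers x)))) •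
            (⊤ : Submodule (Localization (Submonoid.powers x))
              (LocalizedModule (Submonoid.powers x) M)))), P ≤ Q → P = Q)
    (hdepth : LocCoh.depth (Localization.AtPrime p) (LocalizedModule p.primeCompl M) =
      (fs.length : ℕ∞))
    (hdim : ((fs.length : ℕ) : WithBot ℕ∞) <
      Module.supportDim (Localization.AtPrime p) (LocalizedModule p.primeCompl M)) : False := by
  have hS1 : LocCoh.HasSk 1 (Localization (Submonoid.powers x))
      (LocalizedModule (Submonoid.powers x) M ⧸
        (Ideal.ofList (fs.map (algebraMap A (Localization (Submonoid.powers x)))) •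
          (⊤ : Submodule (Localization (Submonoid.powers x))
            (LocalizedModule (Submonoid.powers x) M)))) :=
    Groth.Agent.S2085.result.mp (Groth.Agent.S2711.forall_mem_minimalPrimes_iff.mpr
      (fun q hq q' hq' hle => hanti q' hq' q hq hle))
  have hdisj : Disjoint (Submonoid.powers x : Set A) (p : Set A) := by
    rw [Set.disjoint_left]
    rintro y ⟨n, rfl⟩ hy
    exact hx (hp.mem_of_pow_mem n hy)
  haveI hP' : (p.map (algebraMap A (Localization (Submonoid.powers x)))).IsPrime :=
    IsLocalization.isPrime_of_isPrime_disjoint (Submonoid.powers x) _ p hp hdisj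
  have hcomap : (p.map (algebraMap A (Localization (Submonoid.powers x)))).comap
      (algebraMap A (Localization (Submonoid.powers x))) = p :=
    IsLocalization.under_map_of_isPrime_disjoint (Submonoid.powers x) _ hp hdisj
  obtain ⟨hd, hs⟩ := LocLocGen.depth_supportDim_eq (Submonoid.powers x)
    (p.map (algebraMap A (Localization (Submonoid.powers x)))) M
  have key : ∀ (q' : Ideal A) [q'.IsPrime], q' = p →
      LocCoh.depth (Localization.AtPrime q') (LocalizedModule q'.primeCompl M) =
        LocCoh.depth (Localization.AtPrime p) (LocalizedModule p.primeCompl M) ∧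
      Module.supportDim (Localization.AtPrime q') (LocalizedModule q'.primeCompl M) =
        Module.supportDim (Localization.AtPrime p) (LocalizedModule p.primeCompl M) := by
    intro q' _ h
    subst h
    exact ⟨rfl, rfl⟩
  obtain ⟨kd, ks⟩ := key _ hcomap
  rw [kd] at hd
  rw [ks] at hs
  haveI hntx : Nontrivial (LocalizedModule
      (p.map (algebraMap A (Localization (Submonoid.powers x)))).primeCompl
      (LocalizedModule (Submonoid.powers x) M)) := by
    by_contra hns
    rw [not_nontrivial_iff_subsingleton] at hns
    haveI := hns
    rw [Module.supportDim_eq_bot_of_subsingleton] at hs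
    rw [← hs] at hdim
    exact not_lt_bot hdim
  have hmem' : ∀ y ∈ fs.map (algebraMap A (Localization (Submonoid.powers x))),
      y ∈ p.map (algebraMap A (Localization (Submonoid.powers x))) := by
    intro y hy
    obtain ⟨f, hf, rfl⟩ := List.mem_map.1 hy
    exact Ideal.mem_map_of_mem _ (hmem f hf)
  obtain ⟨dd, ds⟩ := SkReg.drop (p.map (algebraMap A (Localization (Submonoid.powers x))))
    (fs.map (algebraMap A (Localization (Submonoid.powers x))))
    (LocalizedModule (Submonoid.powers x) M) hmem' hwr
  rw [List.length_map, hd, hdepth] at dd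
  rw [List.length_map, hs] at ds
  have hdep0 : LocCoh.depth (Localization.AtPrime
      (p.map (algebraMap A (Localization (Submonoid.powers x)))))
      (LocalizedModule (p.map (algebraMap A (Localization (Submonoid.powers x)))).primeCompl
        (LocalizedModule (Submonoid.powers x) M ⧸
          (Ideal.ofList (fs.map (algebraMap A (Localization (Submonoid.powers x)))) •
            (⊤ : Submodule (Localization (Submonoid.powers x))
              (LocalizedModule (Submonoid.powers x) M))))) = 0 := by
    apply ENat.add_left_injective_of_ne_top (ENat.natCast_ne_top fs.length)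
    change _ + (fs.length : ℕ∞) = 0 + (fs.length : ℕ∞)
    rw [zero_add]
    exact dd
  have hdim1 := withBot_one_le_of _ _ _ ds hdim
  have h1 := hS1 (p.map (algebraMap A (Localization (Submonoid.powers x))))
  rw [hdep0, Nat.cast_one, min_eq_left hdim1] at h1
  have h2 : (1 : ℕ∞) ≤ 0 := by
    have : ((1 : ℕ∞) : WithBot ℕ∞) ≤ ((0 : ℕ∞) : WithBot ℕ∞) := h1
    exact WithBot.coe_le_coe.1 this
  simp at h2

end Groth.Agent.S12121

namespace Groth.Agent.S12121

/-- Let A be a Noetherian ring, M a finite A-module (a coherent sheaf on X = Spec A) and k ≥ 1. Then M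
has property (S_k) — depth M_p ≥ min(k, dim M_p) at every prime p — if and only if, for every basic
open set D(g) of X, every integer r < k and every M_g-regular sequence f_1, …, f_r in A_g, the
module M_g/(f_1, …, f_r)M_g has no embedded associated primes, i.e. no associated prime of it
strictly contains another one. (The published statement quantifies over all open subsets of a
locally Noetherian scheme; both sides being local, over an affine scheme the basic open sets
suffice.) -/
theorem result (k : ℕ) (hk : 1 ≤ k) (A : Type u) [CommRing A] [IsNoetherianRing A]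
    (M : Type u) [AddCommGroup M] [Module A M] [Module.Finite A M] :
    LocCoh.HasSk k A M ↔
      ∀ (g : A) (rs : List (Localization.Away g)), rs.length < k →
        RingTheory.Sequence.IsWeaklyRegular (LocalizedModule (Submonoid.powers g) M) rs →
        ∀ p ∈ associatedPrimes (Localization.Away g)
            (LocalizedModule (Submonoid.powers g) M ⧸
              (Ideal.ofList rs • (⊤ : Submodule (Localization.Away g) (LocalizedModule (Submonoid.powers g) M)))),
          ∀ q ∈ associatedPrimes (Localization.Away g)
            (LocalizedModule (Submonoid.powers g) M ⧸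
              (Ideal.ofList rs • (⊤ : Submodule (Localization.Away g) (LocalizedModule (Submonoid.powers g) M)))),
            p ≤ q → p = q := by
  constructor
  · intro hS g rs hlen hwr
    have h1 : LocCoh.HasSk k (Localization (Submonoid.powers g))
        (LocalizedModule (Submonoid.powers g) M) :=
      Groth.Agent.Lead.LocLocGen.hasSk_localized (Submonoid.powers g) M k hS
    have h2 : LocCoh.HasSk (1 + rs.length) (Localization (Submonoid.powers g))
        (LocalizedModule (Submonoid.powers g) M) :=
      Groth.Agent.Lead.SkReg.hasSk_mono (by omega) _ h1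
    have h3 := Groth.Agent.Lead.SkReg.hasSk_quot_ofList rs 1
      (LocalizedModule (Submonoid.powers g) M) hwr h2
    have h4 := Groth.Agent.S2711.forall_mem_minimalPrimes_iff.mp
      (Groth.Agent.S2085.result.mpr h3)
    intro p hp q hq hpq
    exact h4 q hq p hp hpq
  · intro H p hp
    by_contra hcon
    rw [not_le] at hcon
    haveI hnt : Nontrivial (LocalizedModule p.primeCompl M) := by
      by_contra hns
      rw [not_nontrivial_iff_subsingleton] at hns
      haveI := hns
      rw [Module.supportDim_eq_bot_of_subsingleton, min_bot_right] at hcon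
      exact not_lt_bot hcon
    have hlt_k := lt_of_lt_of_le hcon (min_le_left _ _)
    have hlt_d := lt_of_lt_of_le hcon (min_le_right _ _)
    have hlt_k' : LocCoh.depth (Localization.AtPrime p) (LocalizedModule p.primeCompl M) <
        (k : ℕ∞) := WithBot.coe_lt_coe.1 hlt_k
    obtain ⟨r, hr⟩ : ∃ r : ℕ, LocCoh.depth (Localization.AtPrime p)
        (LocalizedModule p.primeCompl M) = (r : ℕ∞) :=
      ⟨_, (ENat.natCast_toNat (ne_top_of_lt hlt_k')).symm⟩
    have hrk : r < k := by
      rw [hr] at hlt_k'
      exact_mod_cast hlt_k'
    obtain ⟨g, hg, fs, hlen, hmem, hwr⟩ :=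
      Groth.Agent.Lead.SkReg.exists_spread p r M (le_of_eq hr.symm)
    have hxp : g * 1 ∉ p := by rwa [mul_one]
    have hanti := H (g * 1) (fs.map (algebraMap A (Localization.Away (g * 1))))
      (by rw [List.length_map, hlen]; exact hrk) (hwr 1)
    refine Groth.Agent.S12121.final_step p M (g * 1) hxp fs hmem (hwr 1) hanti ?_ ?_
    · rw [hlen]; exact hr
    · rw [hlen]
      have hcast : ((r : ℕ) : WithBot ℕ∞) = ((r : ℕ∞) : WithBot ℕ∞) := rfl
      rw [hcast, ← hr]
      exact hlt_d

end Groth.Agent.S12121
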