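import Groth.Statements.S12127
import Groth.Agent.Lib.Helper18.QHomeo
open Groth.Agent.Helper18

set_option autoImplicit false
universe u
open EGA43

namespace Groth.Agent.S12127

/-- Let f : X → Y be a quasi-homeomorphism, i.e. a continuous map such that U ↦ f⁻¹(U) is a bijection
from the open subsets of Y onto the open subsets of X. Call a subset quasi-constructible when it is
a finite union of locally closed subsets, and locally quasi-constructible when every point of the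
space has an open neighbourhood V whose intersection with it is quasi-constructible in V. Then Z ↦
f⁻¹(Z) induces a bijection from the quasi-constructible subsets of Y onto those of X, and from the
locally quasi-constructible subsets of Y onto those of X. -/
theorem result {X Y : Type u}
    [TopologicalSpace X] [TopologicalSpace Y] (f : X → Y) (hf : Continuous f)
    (hq : Function.Bijective (fun U : TopologicalSpace.Opens Y =>
      (⟨f ⁻¹' (U : Set Y), U.isOpen.preimage hf⟩ : TopologicalSpace.Opens X))) :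
    Set.BijOn (fun Z : Set Y => f ⁻¹' Z)
        {Z : Set Y | ∃ T : Set (Set Y), T.Finite ∧ (∀ t ∈ T, IsLocallyClosed t) ∧ Z = ⋃₀ T}
        {Z : Set X | ∃ T : Set (Set X), T.Finite ∧ (∀ t ∈ T, IsLocallyClosed t) ∧ Z = ⋃₀ T} ∧
      Set.BijOn (fun Z : Set Y => f ⁻¹' Z)
        {Z : Set Y | ∀ y : Y, ∃ V : Set Y, IsOpen V ∧ y ∈ V ∧
          ∃ T : Set (Set V), T.Finite ∧ (∀ t ∈ T, IsLocallyClosed t) ∧ (Subtype.val ⁻¹' Z : Set V) = ⋃₀ T}
        {Z : Set X | ∀ x : X, ∃ V : Set X, IsOpen V ∧ x ∈ V ∧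
          ∃ T : Set (Set V), T.Finite ∧ (∀ t ∈ T, IsLocallyClosed t) ∧ (Subtype.val ⁻¹' Z : Set V) = ⋃₀ T} := by
  have hQCiff : ∀ {W : Type u} [TopologicalSpace W] (Z : Set W),
      (∃ T : Set (Set W), T.Finite ∧ (∀ t ∈ T, IsLocallyClosed t) ∧ Z = ⋃₀ T) ↔ QHomeo.QC Z :=
    fun _ => Iff.rfl
  have hLQCiff : ∀ {W : Type u} [TopologicalSpace W] (Z : Set W),
      (∀ x : W, ∃ V : Set W, IsOpen V ∧ x ∈ V ∧
        ∃ T : Set (Set V), T.Finite ∧ (∀ t ∈ T, IsLocallyClosed t) ∧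
          (Subtype.val ⁻¹' Z : Set V) = ⋃₀ T) ↔ QHomeo.LQC Z := by
    intro W _ Z
    constructor
    · intro h x
      obtain ⟨V, hV, hxV, hT⟩ := h x
      exact ⟨V, hV, hxV, (QHomeo.QC_subtype_iff hV Z).mp hT⟩
    · intro h x
      obtain ⟨V, hV, hxV, hT⟩ := h x
      exact ⟨V, hV, hxV, (QHomeo.QC_subtype_iff hV Z).mpr hT⟩
  constructor
  · refine ⟨?_, ?_, ?_⟩
    · intro Z hZ
      exact QHomeo.QC.preimage hf hZ
    · intro Z₁ h1 Z₂ h2 h
      exact QHomeo.QC_preimage_injective f hf hq h1 h2 h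
    · intro Z' hZ'
      obtain ⟨Z, hZ, hZZ'⟩ := QHomeo.exists_QC_preimage f hf hq hZ'
      exact ⟨Z, hZ, hZZ'⟩
  · refine ⟨?_, ?_, ?_⟩
    · intro Z hZ
      exact (hLQCiff _).mpr (QHomeo.LQC.preimage f hf ((hLQCiff Z).mp hZ))
    · intro Z₁ h1 Z₂ h2 h
      exact QHomeo.LQC_preimage_injective f hf hq ((hLQCiff Z₁).mp h1) ((hLQCiff Z₂).mp h2) h
    · intro Z' hZ'
      obtain ⟨Z, hZ, hZZ'⟩ := QHomeo.exists_LQC_preimage f hf hq ((hLQCiff Z').mp hZ')
      exact ⟨Z, (hLQCiff Z).mpr hZ, hZZ'⟩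


end Groth.Agent.S12127
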