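import Groth.Statements.S12129
import Mathlib.AlgebraicGeometry.Properties
import Mathlib.Order.KrullDimension
import Mathlib.Topology.Sober
-- import your own Groth.Agent.* helpers here

set_option autoImplicit false
universe u
open EGA2

namespace Groth.Agent.S12129

section
open AlgebraicGeometry CategoryTheory Order

variable {X : Scheme.{u}}

theorem lt_of_specializes_ne {a b : X} (h : b ⤳ a) (hne : a ≠ b) : a < b := by
  refine lt_of_le_not_ge (Scheme.le_iff_specializes.mpr h) ?_
  intro hba
  exact hne ((Scheme.le_iff_specializes.mp hba).antisymm h).eq

theorem coheight_eq_one_iff (x : X) :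
    ringKrullDim (X.presheaf.stalk x) = 1 ↔ (¬ IsMax x ∧ ∀ y, x < y → IsMax y) := by
  rw [ringKrullDim_stalk_eq_coheight x]
  have h1 : ((coheight x : ℕ∞) : WithBot ℕ∞) = 1 ↔ coheight x = 1 := by
    constructor
    · intro h
      exact_mod_cast h
    · intro h
      rw [h]
      rfl
  rw [h1]
  constructor
  · intro h
    refine ⟨?_, ?_⟩
    · rw [← coheight_ne_zero, h]
      exact one_ne_zero
    · intro y hy
      have hle : coheight x ≤ ((1 : ℕ) : ℕ∞) := by rw [h]; rfl
      have := coheight_le_coe_iff.mp hle y hy
      rw [← coheight_eq_zero]
      have h2 : coheight y < 1 := by exact_mod_cast this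
      exact Order.lt_one_iff.mp h2
  · rintro ⟨h1, h2⟩
    apply le_antisymm
    · have : coheight x ≤ ((1 : ℕ) : ℕ∞) := by
        rw [coheight_le_coe_iff]
        intro y hy
        have := coheight_eq_zero.mpr (h2 y hy)
        rw [this]
        exact_mod_cast zero_lt_one
      exact_mod_cast this
    · rw [Order.one_le_iff_pos, coheight_pos]
      exact h1

/-- an irreducible closed set is the closure of a point -/
theorem exists_generic (F : Set X) (hc : IsClosed F) (hi : IsIrreducible F) :
    ∃ η : X, closure {η} = F := by
  obtain ⟨η, hη⟩ := QuasiSober.sober hi hc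
  exact ⟨η, hη⟩

/-- closure of a point is a component iff the point is maximal. -/
theorem closure_mem_components_iff (η : X) :
    closure ({η} : Set X) ∈ irreducibleComponents (X : Type u) ↔ IsMax η := by
  constructor
  · intro h b hb
    -- b ⤳ η; closure{η} ⊆ closure{b}
    have hηb : b ⤳ η := Scheme.le_iff_specializes.mp hb
    have hsub : closure ({η} : Set X) ⊆ closure {b} :=
      closure_minimal (Set.singleton_subset_iff.mpr (specializes_iff_mem_closure.mp hηb))
        isClosed_closure
    have hirr : IsIrreducible (closure ({b} : Set X)) := isIrreducible_singleton.closure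
    have := h.2 hirr hsub
    have hb' : b ∈ closure ({η} : Set X) := this (subset_closure rfl)
    exact Scheme.le_iff_specializes.mpr (specializes_iff_mem_closure.mpr hb')
  · intro h
    refine ⟨isIrreducible_singleton.closure, ?_⟩
    intro Z hZ hsub
    -- Z irreducible ⊇ closure{η}; its closure has generic point ζ
    obtain ⟨ζ, hζ⟩ := exists_generic (closure Z) isClosed_closure hZ.closure
    have hηZ : η ∈ closure Z := subset_closure (hsub (subset_closure rfl))
    rw [← hζ] at hηZ
    have h1 : η ≤ ζ := Scheme.le_iff_specializes.mpr (specializes_iff_mem_closure.mpr hηZ)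
    have h2 : ζ ≤ η := h h1
    have h3 : ζ ∈ closure ({η} : Set X) :=
      specializes_iff_mem_closure.mp (Scheme.le_iff_specializes.mp h2)
    calc Z ⊆ closure Z := subset_closure
      _ = closure {ζ} := hζ.symm
      _ ⊆ closure {η} := closure_minimal (Set.singleton_subset_iff.mpr h3) isClosed_closure

theorem main (k : Type u) [Field k] (X : Scheme.{u})
    [X.Over (Spec (CommRingCat.of k))] [LocallyOfFiniteType (X ↘ (Spec (CommRingCat.of k)))]
    [QuasiCompact (X ↘ (Spec (CommRingCat.of k)))] :
    (∀ x : X, IsClosed ({x} : Set X) → ringKrullDim (X.presheaf.stalk x) = 1) ↔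
      ((∀ F : Set X, IsClosed F → IsIrreducible F → F ∉ irreducibleComponents (X : Type u) →
          ∃ x : X, IsClosed ({x} : Set X) ∧ F = {x}) ∧
        ∀ x : X, IsClosed ({x} : Set X) → ({x} : Set X) ∉ irreducibleComponents (X : Type u)) := by
  haveI : CompactSpace X :=
    QuasiCompact.compactSpace_of_compactSpace (X ↘ (Spec (CommRingCat.of k)))
  constructor
  · intro h
    constructor
    · intro F hFc hFi hFn
      obtain ⟨η, rfl⟩ := exists_generic F hFc hFi
      obtain ⟨x, hxF, hxc⟩ := IsClosed.exists_closed_singleton hFc hFi.nonempty
      refine ⟨x, hxc, ?_⟩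
      have hx1 := (coheight_eq_one_iff x).mp (h x hxc)
      have hηx : η ⤳ x := specializes_iff_mem_closure.mpr hxF
      by_cases hne : x = η
      · rw [← hne, hxc.closure_eq]
      · exfalso
        have hlt : x < η := lt_of_specializes_ne hηx hne
        have hmax := hx1.2 η hlt
        exact hFn ((closure_mem_components_iff η).mpr hmax)
    · intro x hxc hcomp
      have hx1 := (coheight_eq_one_iff x).mp (h x hxc)
      rw [← hxc.closure_eq] at hcomp
      exact hx1.1 ((closure_mem_components_iff x).mp hcomp)
  · rintro ⟨hA, hB⟩ x hxc
    rw [coheight_eq_one_iff]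
    constructor
    · intro hmax
      have := (closure_mem_components_iff x).mpr hmax
      rw [hxc.closure_eq] at this
      exact hB x hxc this
    · intro y hy
      by_contra hymax
      have hnot : closure ({y} : Set X) ∉ irreducibleComponents (X : Type u) :=
        fun hc => hymax ((closure_mem_components_iff y).mp hc)
      obtain ⟨x', hx'c, hx'⟩ := hA _ isClosed_closure isIrreducible_singleton.closure hnot
      have hyx' : y = x' := by
        have : y ∈ closure ({y} : Set X) := subset_closure rfl
        rw [hx'] at this
        exact this
      have hxy : x ∈ closure ({y} : Set X) :=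
        specializes_iff_mem_closure.mp (Scheme.le_iff_specializes.mp hy.le)
      rw [hx'] at hxy
      have hxx' : x = x' := hxy
      rw [hxx', ← hyx'] at hy
      exact lt_irrefl _ hy

end

open AlgebraicGeometry CategoryTheory in
/-- Let X be a scheme of finite type over a field k. Then the local ring of X at every closed point has
dimension one if and only if the irreducible closed subsets of X other than its irreducible
components are exactly the (singletons of) closed points of X — that is, every irreducible closed
subset which is not an irreducible component is a closed point, and no closed point is by itself an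
irreducible component. -/
theorem result (k : Type u) [Field k] (X : Scheme.{u})
    [X.Over (Spec (CommRingCat.of k))] [LocallyOfFiniteType (X ↘ (Spec (CommRingCat.of k)))]
    [QuasiCompact (X ↘ (Spec (CommRingCat.of k)))] :
    (∀ x : X, IsClosed ({x} : Set X) → ringKrullDim (X.presheaf.stalk x) = 1) ↔
      ((∀ F : Set X, IsClosed F → IsIrreducible F → F ∉ irreducibleComponents (X : Type u) →
          ∃ x : X, IsClosed ({x} : Set X) ∧ F = {x}) ∧
        ∀ x : X, IsClosed ({x} : Set X) → ({x} : Set X) ∉ irreducibleComponents (X : Type u)) := by
  exact Groth.Agent.S12129.main k X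

end Groth.Agent.S12129
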