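import Groth.Statements.S1213
import Mathlib
-- import your own Groth.Agent.* helpers here

set_option autoImplicit false
universe u
open scoped Classical
open FlatMor

namespace Groth.Agent.S1213

open TensorProduct IsLocalRing

section
variable {R S : Type u} [CommRing R] [CommRing S] [Algebra R S]
  {N : Type u} [AddCommGroup N] [Module S N] [Module R N] [IsScalarTower R S N]
  {M : Type u} [AddCommGroup M] [Module R M]

/-- Multiplication by an element of `S` as an `R`-linear endomorphism. -/
def mulS (f : S) : N →ₗ[R] N where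
  toFun x := f • x
  map_add' x y := smul_add f x y
  map_smul' r x := by
    simp only [RingHom.id_apply]
    rw [← algebraMap_smul S r x, ← algebraMap_smul S r (f • x), smul_smul, smul_smul, mul_comm]

lemma mulS_apply (f : S) (x : N) : mulS (R := R) f x = f • x := rfl

lemma smul_eq_rTensor (f : S) (z : N ⊗[R] M) :
    f • z = (mulS (R := R) (N := N) f).rTensor M z := by
  induction z using TensorProduct.induction_on with
  | zero => simp
  | tmul x y => rw [LinearMap.rTensor_tmul, mulS_apply, TensorProduct.smul_tmul']
  | add x y hx hy => rw [smul_add, map_add, hx, hy]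

/-- Elements of `J S` act on `N` through maps whose composition with any `R`-linear map to an
`R`-module `P` lands in `J P`. -/
lemma map_smul_mem_of_mem_map {P : Type u} [AddCommGroup P] [Module R P] (p : N →ₗ[R] P)
    (J : Ideal R) (s : S) (hs : s ∈ J.map (algebraMap R S)) :
    ∀ x : N, p (s • x) ∈ (J • ⊤ : Submodule R P) := by
  unfold Ideal.map at hs
  induction hs using Submodule.span_induction with
  | mem s hs =>
    intro x
    obtain ⟨r, hr, rfl⟩ := hs
    rw [algebraMap_smul, map_smul]
    exact Submodule.smul_mem_smul hr Submodule.mem_top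
  | zero => intro x; rw [zero_smul, map_zero]; exact Submodule.zero_mem _
  | add s t _ _ hs ht => intro x; rw [add_smul, map_add]; exact Submodule.add_mem _ (hs x) (ht x)
  | smul c s _ hs =>
    intro x
    rw [smul_eq_mul, mul_comm, mul_smul]
    exact hs (c • x)

end

section
variable {R : Type u} [CommRing R] [IsLocalRing R]
  {P : Type u} [AddCommGroup P] [Module R P] [Module.Finite R P]

lemma bijective_one_sub (φ : P →ₗ[R] P) (hφ : ∀ x, φ x ∈ (maximalIdeal R • ⊤ : Submodule R P)) :
    Function.Bijective (LinearMap.id - φ : P →ₗ[R] P) := by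
  have hsurj : Function.Surjective (LinearMap.id - φ : P →ₗ[R] P) := by
    rw [← LinearMap.range_eq_top, eq_top_iff]
    apply Submodule.le_of_le_smul_of_le_jacobson_bot (I := maximalIdeal R) Module.Finite.fg_top
      (by rw [IsLocalRing.jacobson_eq_maximalIdeal ⊥ bot_ne_top])
    intro x _
    have : x = (LinearMap.id - φ : P →ₗ[R] P) x + φ x := by
      simp
    rw [this]
    exact Submodule.add_mem_sup (LinearMap.mem_range_self _ x) (hφ x)
  exact ⟨OrzechProperty.injective_of_surjective_endomorphism _ hsurj, hsurj⟩

end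

section
variable {R : Type u} [CommRing R]
  {N : Type u} [AddCommGroup N] [Module R N]
  {M : Type u} [AddCommGroup M] [Module R M]

lemma range_rTensor_subtype_mono {A B : Submodule R N} (h : A ≤ B) :
    LinearMap.range (A.subtype.rTensor M) ≤ LinearMap.range (B.subtype.rTensor M) := by
  have : A.subtype = B.subtype ∘ₗ Submodule.inclusion h := (Submodule.subtype_comp_inclusion A B h).symm
  rw [this, LinearMap.rTensor_comp]
  exact LinearMap.range_comp_le_range _ _

lemma exists_finset_mem_range {ι : Type u} (F : ι → Submodule R N) (hF : iSup F = ⊤)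
    (z : N ⊗[R] M) :
    ∃ T : Finset ι, z ∈ LinearMap.range ((⨆ i ∈ (T : Set ι), F i).subtype.rTensor M) := by
  induction z using TensorProduct.induction_on with
  | zero => exact ⟨∅, Submodule.zero_mem _⟩
  | tmul x y =>
    have hx : x ∈ iSup F := by rw [hF]; trivial
    obtain ⟨T, hT⟩ := Submodule.mem_iSup_iff_exists_finset.1 hx
    refine ⟨T, ⟨(⟨x, ?_⟩ : (⨆ i ∈ (T : Set ι), F i : Submodule R N)) ⊗ₜ y, ?_⟩⟩
    · simpa only [Finset.mem_coe] using hT
    · rw [LinearMap.rTensor_tmul]; rfl
  | add x y hx hy =>
    obtain ⟨T₁, h₁⟩ := hx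
    obtain ⟨T₂, h₂⟩ := hy
    refine ⟨T₁ ∪ T₂, Submodule.add_mem _ ?_ ?_⟩
    · refine range_rTensor_subtype_mono ?_ h₁
      exact biSup_mono (fun i hi => by
        simp only [Finset.coe_union, Set.mem_union]; exact Or.inl hi)
    · refine range_rTensor_subtype_mono ?_ h₂
      exact biSup_mono (fun i hi => by
        simp only [Finset.coe_union, Set.mem_union]; exact Or.inr hi)

end

section
variable {R S : Type u} [CommRing R] [IsLocalRing R] [CommRing S] [Algebra R S]
  {N : Type u} [AddCommGroup N] [Module S N] [Module R N] [IsScalarTower R S N]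
  {M : Type u} [AddCommGroup M] [Module R M]

theorem aux (ι : Type u) (F : ι → Submodule R N) (hF : DirectSum.IsInternal F)
    (hfin : ∀ i, Module.Finite R (F i))
    (q : Ideal S) [q.IsPrime] (hq : q ∈ FlatCA.ass S (N ⊗[R] M)) :
    q ⊔ (maximalIdeal R).map (algebraMap R S) ≠ ⊤ := by
  intro htop
  obtain ⟨hqp, z, hz⟩ := hq
  have h1 : (1 : S) ∈ q ⊔ (maximalIdeal R).map (algebraMap R S) := by rw [htop]; trivial
  obtain ⟨f, hf, a, ha, hfa⟩ := Submodule.mem_sup.1 h1
  have hfz : f • z = 0 := by
    rw [hz] at hf
    exact (Submodule.mem_annihilator_span_singleton _ _).1 hf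
  have hf' : f = 1 - a := by rw [← hfa]; ring
  obtain ⟨T, hT⟩ := exists_finset_mem_range (M := M) F hF.submodule_iSup_eq_top z
  set F' : Submodule R N := ⨆ i ∈ (T : Set ι), F i with hF'
  obtain ⟨z', hz'⟩ := hT
  set C : Submodule R N := ⨆ i ∈ ((T : Set ι)ᶜ), F i with hC
  have hcompl : IsCompl F' C := by
    constructor
    · exact hF.submodule_iSupIndep.disjoint_biSup_biSup' disjoint_compl_right T.finite_toSet
    · rw [codisjoint_iff, eq_top_iff, ← hF.submodule_iSup_eq_top]
      apply iSup_le
      intro i
      by_cases hi : i ∈ (T : Set ι)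
      · exact le_sup_of_le_left (le_biSup F hi)
      · exact le_sup_of_le_right (le_biSup F (show i ∈ ((T : Set ι)ᶜ) from hi))
  let p : N →ₗ[R] F' := Submodule.projectionOnto F' C hcompl
  have : Module.Finite R F' := by
    rw [Module.Finite.iff_fg]
    have := Submodule.fg_biSup T F (fun i _ => (Module.Finite.iff_fg).1 (hfin i))
    simpa only [hF', Finset.mem_coe] using this
  let φ : F' →ₗ[R] F' := p ∘ₗ mulS (R := R) a ∘ₗ F'.subtype
  have hφ : ∀ x, φ x ∈ (maximalIdeal R • ⊤ : Submodule R F') := fun x =>
    map_smul_mem_of_mem_map p _ a ha _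
  have hbij := bijective_one_sub φ hφ
  have hcomp : p ∘ₗ mulS (R := R) (1 - a) ∘ₗ F'.subtype = LinearMap.id - φ := by
    ext x
    simp only [LinearMap.coe_comp, Function.comp_apply, Submodule.coe_subtype, mulS_apply,
      LinearMap.sub_apply, LinearMap.id_coe, id_eq, φ, sub_smul, one_smul, map_sub]
    rw [show p (x : N) = x from Submodule.projectionOnto_apply_left hcompl x]
  have h0 : ((LinearMap.id - φ).rTensor M) z' = 0 := by
    rw [← hcomp, LinearMap.rTensor_comp, LinearMap.rTensor_comp]
    simp only [LinearMap.coe_comp, Function.comp_apply]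
    rw [hz', ← smul_eq_rTensor, ← hf', hfz, map_zero]
  let e : F' ≃ₗ[R] F' := LinearEquiv.ofBijective _ hbij
  have hz'0 : z' = 0 := by
    have : (e.rTensor M) z' = 0 := h0
    exact (LinearEquiv.map_eq_zero_iff _).1 this
  have hz0 : z = 0 := by rw [← hz', hz'0, map_zero]
  have : q = ⊤ := by
    rw [hz, hz0]
    rw [Submodule.annihilator_eq_top_iff]
    simp
  exact hqp.ne_top this

end

open TensorProduct IsLocalRing in
/-- Let R be a local ring, S an R-algebra and N an S-module which, as an R-module, is an internal direct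
sum of finite R-submodules. Then for every R-module M and every prime q of S which is the
annihilator of an element of the S-module N ⊗_R M we have q + 𝔪_R S ≠ S. -/
theorem result {R S : Type u} [CommRing R] [IsLocalRing R] [CommRing S] [Algebra R S]
    (N : Type u) [AddCommGroup N] [Module S N] [Module R N] [IsScalarTower R S N]
    (ι : Type u) (F : ι → Submodule R N) (hF : DirectSum.IsInternal F) (hfin : ∀ i, Module.Finite R (F i))
    (M : Type u) [AddCommGroup M] [Module R M]
    (q : Ideal S) [q.IsPrime] (hq : q ∈ FlatCA.ass S (N ⊗[R] M)) :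
    q ⊔ (maximalIdeal R).map (algebraMap R S) ≠ ⊤ := by
  exact aux ι F hF hfin q hq

end Groth.Agent.S1213
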