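import Groth.Statements.S12132
import Groth.Agent.Lib.Helper12.DimOneMult4

set_option autoImplicit false
universe u
open AssSch

namespace Groth.Agent.S12132

/-- Let B be a Noetherian local ring (the local ring of X at the generic point z of an irreducible
component Z of the support of F/tF), t an element of its maximal ideal, and M a finite B-module (the
stalk F_z) such that the support of M has positive dimension (Z is not an irreducible component of
Supp F) and M/tM has finite length (z is a maximal point of Supp(F/tF)). Then the length of M/tM is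
at least the sum, over the primes p of B minimal over the annihilator of M (the generic points of
the irreducible components of Supp F through z), of the lengths of the B_p-modules M_p; and the two
are equal if and only if t is a non-zero-divisor on M and for every such p the image of t generates
the maximal ideal of B/p (so that B/p is a discrete valuation ring with uniformizer t). -/
theorem result {B : Type u} [CommRing B] [IsNoetherianRing B]
    [IsLocalRing B] (t : B) (ht : t ∈ IsLocalRing.maximalIdeal B)
    (M : Type u) [AddCommGroup M] [Module B M] [Module.Finite B M]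
    (hdim : 0 < Module.supportDim B M)
    (hfin : Module.length B (M ⧸ (Ideal.span {t} • (⊤ : Submodule B M))) ≠ ⊤) :
    (∑ᶠ p : (Module.annihilator B M).minimalPrimes,
        haveI : p.1.IsPrime := p.2.1.1
        Module.length (Localization.AtPrime p.1) (LocalizedModule p.1.primeCompl M)) ≤
      Module.length B (M ⧸ (Ideal.span {t} • (⊤ : Submodule B M))) ∧
    ((∑ᶠ p : (Module.annihilator B M).minimalPrimes,
        haveI : p.1.IsPrime := p.2.1.1
        Module.length (Localization.AtPrime p.1) (LocalizedModule p.1.primeCompl M)) =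
      Module.length B (M ⧸ (Ideal.span {t} • (⊤ : Submodule B M))) ↔
    IsSMulRegular M t ∧
      ∀ p : (Module.annihilator B M).minimalPrimes,
        Ideal.map (Ideal.Quotient.mk p.1) (IsLocalRing.maximalIdeal B) =
          Ideal.span {Ideal.Quotient.mk p.1 t}) := by
  classical
  set_option linter.style.haveILetI false in
  open Groth.Agent.Helper12.DimOneMult in
  set I := Module.annihilator B M with hI
  letI modA : Module (B ⧸ I) M := Module.quotientAnnihilator
  haveI tow : IsScalarTower B (B ⧸ I) M :=
    ⟨fun a b m => by
      obtain ⟨b, rfl⟩ := Ideal.Quotient.mk_surjective b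
      rw [Algebra.smul_def, Ideal.Quotient.algebraMap_eq, ← map_mul]
      change (a * b) • m = a • (b • m)
      rw [mul_smul]⟩
  haveI finA : Module.Finite (B ⧸ I) M := Module.Finite.of_restrictScalars_finite B _ M
  have hnt : Nontrivial M := by
    by_contra h
    rw [not_nontrivial_iff_subsingleton] at h
    rw [Module.supportDim_eq_bot_of_subsingleton] at hdim
    exact absurd hdim (by simp)
  have hItop : I ≠ ⊤ := by
    rw [hI, Ne, Module.annihilator_eq_top_iff]
    exact not_subsingleton M
  have hIm : I ≤ IsLocalRing.maximalIdeal B := IsLocalRing.le_maximalIdeal hItop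
  haveI : Nontrivial (B ⧸ I) := Ideal.Quotient.nontrivial_iff.mpr hItop
  haveI : IsLocalRing (B ⧸ I) :=
    IsLocalRing.of_surjective' (Ideal.Quotient.mk I) Ideal.Quotient.mk_surjective
  have hdimA : 0 < ringKrullDim (B ⧸ I) := by
    rwa [← Module.supportDim_eq_ringKrullDim_quotient_annihilator]
  have htA : Ideal.Quotient.mk I t ∈ IsLocalRing.maximalIdeal (B ⧸ I) := by
    rw [← map_maximalIdeal_eq I hItop]
    exact Ideal.mem_map_of_mem _ ht
  -- `A/tA` is Artinian
  have hflB : IsFiniteLength B (M ⧸ (Ideal.span {t} • (⊤ : Submodule B M))) :=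
    Module.length_ne_top_iff.mp hfin
  have hart : IsArtinianRing ((B ⧸ I) ⧸ Ideal.span {Ideal.Quotient.mk I t}) := by
    rw [isArtinianRing_iff_krullDimLE_zero, Ring.krullDimLE_zero_iff]
    intro P hP
    set π : B →+* (B ⧸ I) ⧸ Ideal.span {Ideal.Quotient.mk I t} :=
      (Ideal.Quotient.mk (Ideal.span {Ideal.Quotient.mk I t})).comp (Ideal.Quotient.mk I) with hπ
    have hπsurj : Function.Surjective π :=
      Ideal.Quotient.mk_surjective.comp Ideal.Quotient.mk_surjective
    have hmem : (⟨P.comap π, inferInstance⟩ : PrimeSpectrum B) ∈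
        Module.support B (M ⧸ (Ideal.span {t} • (⊤ : Submodule B M))) := by
      rw [Module.support_quotient]
      refine ⟨?_, ?_⟩
      · rw [Module.mem_support_iff_of_finite]
        intro a ha
        rw [Ideal.mem_comap, hπ, RingHom.comp_apply, Ideal.Quotient.eq_zero_iff_mem.mpr ha,
          map_zero]
        exact zero_mem _
      · rw [PrimeSpectrum.mem_zeroLocus]
        change ((Ideal.span {t} : Ideal B) : Set B) ⊆ (P.comap π : Ideal B)
        rw [SetLike.coe_subset_coe, Ideal.span_le, Set.singleton_subset_iff, SetLike.mem_coe,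
          Ideal.mem_comap, hπ, RingHom.comp_apply,
          Ideal.Quotient.eq_zero_iff_mem.mpr (Ideal.mem_span_singleton_self _)]
        exact zero_mem _
    have h1 : (P.comap π).IsMaximal :=
      Groth.Agent.Helper5.HS.isMaximal_of_mem_support_of_isFiniteLength hflB _ hmem
    have h2 := Ideal.map_eq_top_or_isMaximal_of_surjective π hπsurj h1
    rw [Ideal.map_comap_of_surjective _ hπsurj] at h2
    exact h2.resolve_left hP.ne_top
  have h17 := Groth.Agent.S2517.result hdimA _ htA hart M
  have h18 := Groth.Agent.S2518.result hdimA _ htA hart M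
  rw [← finsum_minimalPrimes_eq I M] at h17 h18
  -- the two quotients have the same length
  have hlen : Module.length (B ⧸ I)
      (M ⧸ (Ideal.span {Ideal.Quotient.mk I t} • (⊤ : Submodule (B ⧸ I) M))) =
      Module.length B (M ⧸ (Ideal.span {t} • (⊤ : Submodule B M))) := by
    rw [← Module.length_eq_of_surjective (S := B) (R := B ⧸ I)
      (M := M ⧸ (Ideal.span {Ideal.Quotient.mk I t} • (⊤ : Submodule (B ⧸ I) M)))
      Ideal.Quotient.mk_surjective]
    have heq : (Ideal.span {Ideal.Quotient.mk I t} • (⊤ : Submodule (B ⧸ I) M)).restrictScalars B =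
        Ideal.span {t} • (⊤ : Submodule B M) := by
      ext x
      rw [Submodule.restrictScalars_mem, Submodule.ideal_span_singleton_smul,
        Submodule.ideal_span_singleton_smul, Submodule.mem_smul_pointwise_iff_exists,
        Submodule.mem_smul_pointwise_iff_exists]
      rfl
    exact ((Submodule.Quotient.restrictScalarsEquiv B
      (Ideal.span {Ideal.Quotient.mk I t} • (⊤ : Submodule (B ⧸ I) M))).symm ≪≫ₗ
      Submodule.quotEquivOfEq _ _ heq).length_eq
  rw [hlen] at h17 h18
  refine ⟨h17, h18.trans (and_congr Iff.rfl ?_)⟩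
  -- every prime of `B ⧸ I` is in the support of `M`
  have hsupp : ∀ q : Ideal (B ⧸ I), ∀ [q.IsPrime], Nontrivial (LocalizedModule q.primeCompl M) := by
    intro q hq
    have h1 : (⟨q, hq⟩ : PrimeSpectrum (B ⧸ I)) ∈ Module.support (B ⧸ I) M := by
      rw [Module.mem_support_iff_of_finite]
      intro a ha
      obtain ⟨a, rfl⟩ := Ideal.Quotient.mk_surjective a
      have h2 : a ∈ I := by
        rw [hI, Module.mem_annihilator]
        intro m
        exact Module.mem_annihilator.mp ha m
      rw [Ideal.Quotient.eq_zero_iff_mem.mpr h2]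
      exact zero_mem _
    exact Module.mem_support_iff.mp h1
  constructor
  · intro h p
    haveI : p.1.IsPrime := p.2.1.1
    haveI : (p.1.map (Ideal.Quotient.mk I)).IsPrime := (map_mem_minimalPrimes I p.2).1.1
    have h1 := h ⟨p.1.map (Ideal.Quotient.mk I), map_mem_minimalPrimes I p.2⟩ (hsupp _)
    exact (map_generates_iff I hItop t p.1 p.2.1.2).mp h1
  · intro h q _
    have hq : q.1.comap (Ideal.Quotient.mk I) ∈ I.minimalPrimes := by
      rw [Ideal.minimalPrimes_eq_comap]
      exact ⟨q.1, q.2, rfl⟩
    haveI : (q.1.comap (Ideal.Quotient.mk I)).IsPrime := hq.1.1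
    have hmap : (q.1.comap (Ideal.Quotient.mk I)).map (Ideal.Quotient.mk I) = q.1 :=
      Ideal.map_comap_of_surjective _ Ideal.Quotient.mk_surjective _
    haveI : ((q.1.comap (Ideal.Quotient.mk I)).map (Ideal.Quotient.mk I)).IsPrime := by
      rw [hmap]; exact q.2.1.1
    have h1 := (map_generates_iff I hItop t _ hq.1.2).mpr (h ⟨_, hq⟩)
    have key : ∀ (q' : Ideal (B ⧸ I)), q' = q.1 →
        Ideal.map (Ideal.Quotient.mk q') (IsLocalRing.maximalIdeal (B ⧸ I)) =
          Ideal.span {Ideal.Quotient.mk q' (Ideal.Quotient.mk I t)} →
        Ideal.map (Ideal.Quotient.mk q.1) (IsLocalRing.maximalIdeal (B ⧸ I)) =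
          Ideal.span {Ideal.Quotient.mk q.1 (Ideal.Quotient.mk I t)} := by
      rintro _ rfl h'
      exact h'
    exact key _ hmap h1

end Groth.Agent.S12132
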