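import Groth.Statements.S12137
import Mathlib
import Groth.Agent.Lib.Helper18.TrivGrading
import Groth.Agent.Lib.Helper12.RelConeImm

set_option autoImplicit false
universe u
open CategoryTheory CategoryTheory.Limits AlgebraicGeometry Opposite TopologicalSpace
open scoped HomogeneousIdeal
noncomputable section
open EGA2

namespace Groth.Agent.S12137

open Groth.Agent.Helper18.TrivGrading Groth.Agent.Helper12.RelConeImm

/-- a quasi-coherent algebra with the trivial grading -/
abbrev trivGr {Y : Scheme.{u}} (𝒜 : RelSpec.QCAlg Y) : RelProj.QCGrAlg Y where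
  toQCAlg := 𝒜
  deg U _ := triv (𝒜.presheaf.obj (op U))
  graded U _ := inferInstance
  map_mem := by
    intro U V _ _ i d x hx
    rw [mem_triv_iff] at hx ⊢
    rcases hx with h | h
    · left; exact h
    · right; rw [h, map_zero]
  str_mem := fun U _ r => mem_triv_zero _

/-- Let Y be a scheme, 𝒜 a quasi-coherent O_Y-algebra and Ŝ = 𝒜[T], graded with 𝒜 in degree 0 and T in
degree 1 — presented through a homomorphism of algebras ι : 𝒜 → Ŝ landing in degree 0 and a global
section z of Ŝ of degree 1 such that, over every affine open U, the map 𝒜(U)[X] → Ŝ(U) sending X to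
z is bijective — and let p : P → Y with its charts be the relative homogeneous spectrum Proj(Ŝ). For
each affine open U let θ_U : Ŝ(U)_(z) → 𝒜(U) be the ring isomorphism sending ι(a) z^k / z^k to a.
Then there is a unique morphism i : Spec(𝒜) → P which, on the chart Spec 𝒜(U) of Spec(𝒜) over each
affine open U, is Spec(θ_U) followed by the open immersion of D_+(z|U) into Proj Ŝ(U) and the chart
of P; moreover i is an isomorphism and lies over Y. In particular Proj(O_Y[T]) is Y. -/
theorem result {Y P : Scheme.{u}} (𝒜 : RelSpec.QCAlg Y) (Sh : RelProj.QCGrAlg Y)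
    (ι : 𝒜 ⟶ Sh.toQCAlg)
    (hι : ∀ (U : Y.Opens) (hU : IsAffineOpen U) (a : 𝒜.presheaf.obj (op U)), (ι.hom.app (op U)).hom a ∈ Sh.deg U hU 0)
    (z : Sh.presheaf.obj (op ⊤))
    (hz : ∀ (U : Y.Opens) (hU : IsAffineOpen U), (Sh.presheaf.map (homOfLE le_top).op).hom z ∈ Sh.deg U hU 1)
    (hpoly : ∀ (U : Y.Opens) (hU : IsAffineOpen U),
      Function.Bijective (Polynomial.eval₂RingHom (ι.hom.app (op U)).hom ((Sh.presheaf.map (homOfLE le_top).op).hom z)))
    (p : P ⟶ Y)
    (chart : ∀ (U : Y.Opens) (hU : IsAffineOpen U), (((p ⁻¹ᵁ U : P.Opens) : Scheme.{u}) ≅ Proj (Sh.deg U hU)))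
    (hP : RelProj.IsRelProj Sh p chart)
    (θ : ∀ (U : Y.Opens) (hU : IsAffineOpen U),
      CommRingCat.of (HomogeneousLocalization.Away (Sh.deg U hU) ((Sh.presheaf.map (homOfLE le_top).op).hom z)) ⟶
        𝒜.presheaf.obj (op U))
    (hθ : ∀ (U : Y.Opens) (hU : IsAffineOpen U)
      (q : HomogeneousLocalization.Away (Sh.deg U hU) ((Sh.presheaf.map (homOfLE le_top).op).hom z))
      (k : ℕ) (a : 𝒜.presheaf.obj (op U)),
        q.val = Localization.mk ((ι.hom.app (op U)).hom a * (Sh.presheaf.map (homOfLE le_top).op).hom z ^ k)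
          ⟨(Sh.presheaf.map (homOfLE le_top).op).hom z ^ k,
            pow_mem (Submonoid.mem_powers ((Sh.presheaf.map (homOfLE le_top).op).hom z)) k⟩ →
        (θ U hU).hom q = a) :
    (∃! i : 𝒜.spec ⟶ P, ∀ (U : Y.Opens) (hU : IsAffineOpen U),
        𝒜.ι U hU ≫ i =
          Spec.map (θ U hU) ≫
            Proj.awayι (Sh.deg U hU) ((Sh.presheaf.map (homOfLE le_top).op).hom z) (hz U hU) one_pos ≫
              RelProj.emb p chart U hU) ∧
      ∀ i : 𝒜.spec ⟶ P, (∀ (U : Y.Opens) (hU : IsAffineOpen U),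
        𝒜.ι U hU ≫ i =
          Spec.map (θ U hU) ≫
            Proj.awayι (Sh.deg U hU) ((Sh.presheaf.map (homOfLE le_top).op).hom z) (hz U hU) one_pos ≫
              RelProj.emb p chart U hU) →
        IsIso i ∧ i ≫ p = 𝒜.π := by
  classical
  have hι' : RelProj.IsGradedHom (𝒜 := trivGr 𝒜) (ℬ := Sh) ι := by
    intro U hU d x hx
    rcases (mem_triv_iff.mp hx) with rfl | rfl
    · exact hι U hU x
    · rw [map_zero]; exact zero_mem _
  have hθ' : ∀ (U : Y.Opens) (hU : IsAffineOpen U)
      (q : HomogeneousLocalization.Away (Sh.deg U hU) (RelCone.restrictTop Sh z U))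
      (k : ℕ) (x : (trivGr 𝒜).presheaf.obj (op U)), x ∈ (trivGr 𝒜).deg U hU k →
        q.val = Localization.mk ((ι.hom.app (op U)).hom x)
          ⟨RelCone.restrictTop Sh z U ^ k,
            pow_mem (Submonoid.mem_powers (RelCone.restrictTop Sh z U)) k⟩ →
        (θ U hU).hom q = x := by
    intro U hU q k x hx hq
    rcases (mem_triv_iff.mp hx) with rfl | rfl
    · apply hθ U hU q 0 x
      rw [hq]
      simp
    · have hq0 : q = 0 := by
        apply HomogeneousLocalization.val_injective
        rw [hq, map_zero, Localization.mk_zero, HomogeneousLocalization.val_zero]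
      rw [hq0, map_zero]
  have hsurj : ∀ (U : Y.Opens) (hU : IsAffineOpen U),
      Proj.basicOpen (Sh.deg U hU) (RelCone.restrictTop Sh z U) = ⊤ := by
    intro U hU
    rw [eq_top_iff]
    intro x _
    rw [Proj.mem_basicOpen]
    intro hzx
    apply x.not_irrelevant_le
    rw [HomogeneousIdeal.irrelevant_le]
    intro k hk b hb
    obtain ⟨a, rfl⟩ := exists_decomp (RelProj.gradedHomAt (𝒜 := trivGr 𝒜) (ℬ := Sh) ι hι' U hU) (hz U hU) (hpoly U hU) hb
    refine Ideal.sum_mem _ fun j hj => ?_
    by_cases hj0 : j = 0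
    · subst hj0
      apply Ideal.mul_mem_left
      rw [Nat.sub_zero]
      exact Ideal.pow_mem_of_mem _ hzx k hk
    · have : ((a j : (trivGr 𝒜).presheaf.obj (op U))) = 0 := eq_zero_of_mem_triv hj0 (a j).2
      rw [this, map_zero, zero_mul]
      exact zero_mem _
  refine ⟨?_, ?_⟩
  · obtain ⟨i, hi⟩ := exists_glue (trivGr 𝒜) Sh ι hι' z hz hpoly p chart hP θ hθ'
    refine ⟨i, hi, fun i' hi' => ?_⟩
    apply Groth.Agent.Helper12.RelConeBasic.spec_hom_ext
    intro U hU
    rw [hi' U hU]
    exact (hi U hU).symm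
  · intro i hi
    refine ⟨?_, comp_pC (trivGr 𝒜) Sh ι hι' z hz p chart hP θ hθ' i hi⟩
    apply of_chartwise (trivGr 𝒜) Sh ι hι' z hz hpoly p chart hP θ hθ' i hi
      (P := MorphismProperty.isomorphisms Scheme.{u})
    intro U hU
    have h1 := isIso_θ (trivGr 𝒜) Sh ι hι' z hz hpoly θ hθ' U hU
    have h2 : IsIso (Proj.awayι (Sh.deg U hU) (RelCone.restrictTop Sh z U) (hz U hU) one_pos) :=
      isIso_of_isOpenImmersion_of_opensRange_eq_top _
        (by rw [Proj.opensRange_awayι]; exact hsurj U hU)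
    unfold g
    change IsIso _
    infer_instance


end Groth.Agent.S12137
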