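import Groth.Statements.S1214
import Mathlib
-- import your own Groth.Agent.* helpers here

set_option autoImplicit false
universe u
open FlatMor

namespace Groth.Agent.S1214

open TensorProduct

section
variable {R S : Type u} [CommRing R] [CommRing S] [Algebra R S]
  {N : Type u} [AddCommGroup N] [Module S N] [Module R N] [IsScalarTower R S N]

lemma smul_mem_of_mem_map (J : Ideal R) (s : S) (hs : s ∈ J.map (algebraMap R S)) :
    ∀ x : N, s • x ∈ (J • ⊤ : Submodule R N) := by
  unfold Ideal.map at hs
  induction hs using Submodule.span_induction with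
  | mem s hs =>
    intro x
    obtain ⟨r, hr, rfl⟩ := hs
    rw [algebraMap_smul]
    exact Submodule.smul_mem_smul hr Submodule.mem_top
  | zero => intro x; rw [zero_smul]; exact Submodule.zero_mem _
  | add s t _ _ hs ht => intro x; rw [add_smul]; exact Submodule.add_mem _ (hs x) (ht x)
  | smul c s _ hs =>
    intro x
    rw [smul_eq_mul, mul_comm, mul_smul]
    exact hs (c • x)

lemma pow_smul_mem (I : Ideal R) (a : S) (ha : a ∈ I.map (algebraMap R S)) (n : ℕ) (x : N) :
    a ^ n • x ∈ (I ^ n • ⊤ : Submodule R N) := by
  apply smul_mem_of_mem_map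
  rw [Ideal.map_pow]
  exact Ideal.pow_mem_pow ha n

end

section
variable {R S : Type u} [CommRing R] [CommRing S] [Algebra R S]
  {N : Type u} [AddCommGroup N] [Module S N] [Module R N] [IsScalarTower R S N]

/-- Multiplication by an element of `S` as an `R`-linear endomorphism. -/
def mulS (f : S) : N →ₗ[R] N where
  toFun x := f • x
  map_add' x y := smul_add f x y
  map_smul' r x := by
    simp only [RingHom.id_apply]
    rw [← algebraMap_smul S r x, ← algebraMap_smul S r (f • x), smul_smul, smul_smul, mul_comm]

lemma mulS_apply (f : S) (x : N) : mulS (R := R) f x = f • x := rfl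

lemma geom_sum_smul (a : S) (y : N) (n : ℕ) :
    (1 - a) • (∑ k ∈ Finset.range n, a ^ k • y) = y - a ^ n • y := by
  rw [← Finset.sum_smul, smul_smul, mul_comm, geom_sum_mul_neg, sub_smul, one_smul]

lemma bijective_mulS_one_sub (I : Ideal R) [IsAdicComplete I N] (a : S)
    (ha : a ∈ I.map (algebraMap R S)) : Function.Bijective (mulS (R := R) (N := N) (1 - a)) := by
  constructor
  · rw [← LinearMap.ker_eq_bot, LinearMap.ker_eq_bot']
    intro x hx
    rw [mulS_apply, sub_smul, one_smul, sub_eq_zero] at hx
    have hpow : ∀ n : ℕ, x = a ^ n • x := by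
      intro n
      induction n with
      | zero => rw [pow_zero, one_smul]
      | succ n ih => rw [pow_succ, mul_smul, ← hx]; exact ih
    apply IsHausdorff.haus (IsAdicComplete.toIsHausdorff (I := I) (M := N))
    intro n
    rw [SModEq.zero]
    rw [hpow n]
    exact pow_smul_mem I a ha n x
  · intro y
    let f : ℕ → N := fun n => ∑ k ∈ Finset.range n, a ^ k • y
    have hf : ∀ {m n : ℕ}, m ≤ n → f m ≡ f n [SMOD (I ^ m • ⊤ : Submodule R N)] := by
      intro m n hmn
      rw [SModEq.sub_mem]
      obtain ⟨d, rfl⟩ := Nat.exists_eq_add_of_le hmn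
      have : f m - f (m + d) = -(∑ k ∈ Finset.range d, a ^ (m + k) • y) := by
        simp only [f]
        rw [Finset.sum_range_add, sub_add_cancel_left]
      rw [this]
      apply Submodule.neg_mem
      apply Submodule.sum_mem
      intro k _
      rw [pow_add, mul_smul]
      exact pow_smul_mem I a ha m _
    obtain ⟨L, hL⟩ := IsPrecomplete.prec (IsAdicComplete.toIsPrecomplete (I := I) (M := N)) hf
    refine ⟨L, ?_⟩
    rw [mulS_apply, ← sub_eq_zero]
    apply IsHausdorff.haus (IsAdicComplete.toIsHausdorff (I := I) (M := N))
    intro n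
    rw [SModEq.zero]
    have h1 : (1 - a) • L - y = (1 - a) • (L - f n) - a ^ n • y := by
      rw [smul_sub, geom_sum_smul]; abel
    rw [h1]
    apply Submodule.sub_mem
    · have h2 : L - f n ∈ (I ^ n • ⊤ : Submodule R N) := by
        have := (hL n).symm
        rwa [SModEq.sub_mem] at this
      have h3 : (1 - a) • (L - f n) = mulS (R := R) (1 - a) (L - f n) := rfl
      rw [h3]
      -- `I^n • ⊤` is stable under `R`-linear maps of the form `mulS`
      refine Submodule.smul_induction_on h2 ?_ ?_
      · intro r hr x _
        rw [map_smul]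
        exact Submodule.smul_mem_smul hr Submodule.mem_top
      · intro x y hx hy
        rw [map_add]
        exact Submodule.add_mem _ hx hy
    · exact pow_smul_mem I a ha n y

end


section
variable {R S : Type u} [CommRing R] [CommRing S] [Algebra R S]
  {N : Type u} [AddCommGroup N] [Module S N] [Module R N] [IsScalarTower R S N]
  {M : Type u} [AddCommGroup M] [Module R M]

lemma smul_eq_rTensor (f : S) (z : N ⊗[R] M) :
    f • z = (mulS (R := R) (N := N) f).rTensor M z := by
  induction z using TensorProduct.induction_on with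
  | zero => simp
  | tmul x y => rw [LinearMap.rTensor_tmul, mulS_apply, TensorProduct.smul_tmul']
  | add x y hx hy => rw [smul_add, map_add, hx, hy]

theorem aux (I : Ideal R) [IsAdicComplete I N]
    (q : Ideal S) [q.IsPrime] (hq : q ∈ FlatCA.ass S (N ⊗[R] M)) :
    q ⊔ I.map (algebraMap R S) ≠ ⊤ := by
  intro htop
  obtain ⟨hqp, z, hz⟩ := hq
  have h1 : (1 : S) ∈ q ⊔ I.map (algebraMap R S) := by rw [htop]; trivial
  obtain ⟨f, hf, a, ha, hfa⟩ := Submodule.mem_sup.1 h1
  have hfz : f • z = 0 := by
    rw [hz] at hf
    exact (Submodule.mem_annihilator_span_singleton _ _).1 hf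
  have hf' : f = 1 - a := by rw [← hfa]; ring
  have hbij := bijective_mulS_one_sub (N := N) I a ha
  let e : N ≃ₗ[R] N := LinearEquiv.ofBijective (mulS (R := R) (N := N) (1 - a)) hbij
  have hz0 : z = 0 := by
    rw [smul_eq_rTensor, hf'] at hfz
    have : (e.rTensor M) z = 0 := hfz
    exact (LinearEquiv.map_eq_zero_iff _).1 this
  have : q = ⊤ := by
    rw [hz, hz0]
    rw [Submodule.annihilator_eq_top_iff]
    simp
  exact hqp.ne_top this

end

open TensorProduct in
/-- Let R → S be a ring map, I an ideal of R and N an S-module which is I-adically complete. Then for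
every R-module M and every prime q of S which is the annihilator of an element of the S-module N ⊗_R
M we have q + IS ≠ S. -/
theorem result {R S : Type u} [CommRing R] [CommRing S] [Algebra R S] (I : Ideal R)
    (N : Type u) [AddCommGroup N] [Module S N] [Module R N] [IsScalarTower R S N] [IsAdicComplete I N]
    (M : Type u) [AddCommGroup M] [Module R M]
    (q : Ideal S) [q.IsPrime] (hq : q ∈ FlatCA.ass S (N ⊗[R] M)) :
    q ⊔ I.map (algebraMap R S) ≠ ⊤ := by
  exact aux I q hq

end Groth.Agent.S1214
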