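import Groth.Statements.S12140
import Groth.Agent.Lib.Helper18.ProjQRes

set_option autoImplicit false
universe u
open CategoryTheory CategoryTheory.Limits AlgebraicGeometry TopologicalSpace Opposite
open scoped HomogeneousIdeal
noncomputable section
open EGA2

namespace Groth.Agent.S12140

/-- Let φ : 𝒜 → ℬ be a graded homomorphism of quasi-coherent positively graded O_Y-algebras, PA =
Proj(𝒜), PB = Proj(ℬ) with their charts, G(φ) ⊆ PB the open on which the induced morphism is defined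
and Φ = Proj(φ) : G(φ) → PA that morphism (pinned on the standard affine charts of G(φ)). Then Φ is
affine, and for every affine open U of Y the part of G(φ) over U is the image, under the chart of PB
over U, of the open G(φ(U)) of Proj ℬ(U) where the morphism of homogeneous spectra induced by φ(U) :
𝒜(U) → ℬ(U) is defined. -/
theorem result {Y PA PB : Scheme.{u}} (𝒜 ℬ : RelProj.QCGrAlg Y)
    (φ : 𝒜.toQCAlg ⟶ ℬ.toQCAlg) (hφ : RelProj.IsGradedHom φ)
    (pA : PA ⟶ Y) (chartA : ∀ (U : Y.Opens) (hU : IsAffineOpen U), (((pA ⁻¹ᵁ U : PA.Opens) : Scheme.{u}) ≅ Proj (𝒜.deg U hU)))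
    (hA : RelProj.IsRelProj 𝒜 pA chartA)
    (pB : PB ⟶ Y) (chartB : ∀ (U : Y.Opens) (hU : IsAffineOpen U), (((pB ⁻¹ᵁ U : PB.Opens) : Scheme.{u}) ≅ Proj (ℬ.deg U hU)))
    (hB : RelProj.IsRelProj ℬ pB chartB)
    (Φ : ((RelProj.domQ (RelProj.QGrHom.ofHom φ hφ) pB chartB : PB.Opens) : Scheme.{u}) ⟶ PA)
    (hΦ : RelProj.IsProjQMapOn (RelProj.QGrHom.ofHom φ hφ) pA chartA pB chartB
      (RelProj.domQ (RelProj.QGrHom.ofHom φ hφ) pB chartB) Φ) :
    IsAffineHom Φ ∧
      ∀ (U : Y.Opens) (hU : IsAffineOpen U),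
        RelProj.domQ (RelProj.QGrHom.ofHom φ hφ) pB chartB ⊓ pB ⁻¹ᵁ U =
          (RelProj.emb pB chartB U hU) ''ᵁ RelCone.domOpen (RelProj.gradedHomAt φ hφ U hU) := by
  classical
  have hle := fun U : Y.Opens => Groth.Agent.Helper18.ProjQ.le_id_preimage U
  have hgr : ∀ (U : Y.Opens) (hU : IsAffineOpen U),
      (RelProj.QGrHom.ofHom φ hφ).gradedAt U hU U hU (hle U) = RelProj.gradedHomAt φ hφ U hU :=
    fun U hU => GradedRingHom.ext fun x =>
      Groth.Agent.Helper18.ProjQ.gradedAt_ofHom_same φ hφ U hU _ x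
  have D : Groth.Agent.Helper18.ProjQ.ChartData (RelProj.QGrHom.ofHom φ hφ) pA chartA pB chartB hle
      (RelProj.domQ (RelProj.QGrHom.ofHom φ hφ) pB chartB).ι Φ :=
    { e := fun U hU d hd f hf =>
        IsOpenImmersion.lift (RelProj.domQ (RelProj.QGrHom.ofHom φ hφ) pB chartB).ι
          (RelProj.awayEmb (RelProj.QGrHom.ofHom φ hφ) pB chartB U hU U hU (hle U) hd f hf)
          (RelProj.range_awayEmb_subset_domQ (RelProj.QGrHom.ofHom φ hφ) pB chartB U hU U hU
            (hle U) hd f hf)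
      e_j := fun U hU d hd f hf => IsOpenImmersion.lift_fac _ _ _
      e_h := fun U hU d hd f hf => hΦ U hU U hU (hle U) d hd f hf
        (RelProj.range_awayEmb_subset_domQ (RelProj.QGrHom.ofHom φ hφ) pB chartB U hU U hU
            (hle U) hd f hf)
      dom := fun x U hU hx => by
        have hx2 : (RelProj.domQ (RelProj.QGrHom.ofHom φ hφ) pB chartB).ι.base x ∈
            RelProj.domQ (RelProj.QGrHom.ofHom φ hφ) pB chartB ⊓ pB ⁻¹ᵁ U := ⟨x.2, hx⟩
        rw [Groth.Agent.Helper18.ProjQ.domQ_inf_preimage φ hφ hB U hU] at hx2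
        obtain ⟨y, hy, hyx⟩ := hx2
        refine ⟨y, ?_, hyx⟩
        rw [hgr U hU]
        exact hy }
  have := Groth.Agent.Helper18.ProjQ.isZariskiLocalAtTarget_isAffineHom.{u}
  refine ⟨D.of_local (P := @IsAffineHom) hA hB (fun U hU d hd f hf => inferInstance), ?_⟩
  intro U hU
  exact Groth.Agent.Helper18.ProjQ.domQ_inf_preimage φ hφ hB U hU


end Groth.Agent.S12140
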