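import Groth.Statements.S12142


set_option autoImplicit false
universe u
open CategoryTheory CategoryTheory.Limits AlgebraicGeometry TopologicalSpace Opposite
open scoped HomogeneousIdeal
noncomputable section
open EGA2

namespace Groth.Agent.S12142

/-- Let g : S' → S be a morphism of schemes, A a quasi-coherent O_S-algebra and B = g^*A, presented as a
quasi-coherent O_{S'}-algebra with a g-morphism u : A → g_*B whose squares of rings over affine
opens U' ⊆ g⁻¹(U) are pushouts; let h = Spec(u) : Spec(B) → Spec(A) be the induced morphism of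
relative spectra (chartwise Spec of A(U) → B(U')). Then h and the structure morphisms form a
cartesian square: Spec(g^*A) is the fibre product Spec(A) ×_S S'. -/
theorem result {S S' : Scheme.{u}} (g : S' ⟶ S)
    (A : RelSpec.QCAlg S) (B : RelSpec.QCAlg S') (u : RelSpec.QHom g A B) (hu : RelSpec.IsQBaseChange u)
    (h : B.spec ⟶ A.spec) (hh : RelSpec.IsSpecQMap u h) :
    IsPullback h B.π A.π g := by
  -- the index type: affine pairs
  let J := {V : S.affineOpens × S'.affineOpens // (V.2 : S'.Opens) ≤ g ⁻¹ᵁ (V.1 : S.Opens)}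
  have hJ : ∀ j : J, IsAffineOpen (j.1.2 : S'.Opens) := fun j => j.1.2.2
  have hcov : ∀ x : S', ∃ (j : J) (y : Spec Γ(S', (j.1.2 : S'.Opens))),
      ((hJ j).fromSpec).base y = x := by
    intro x
    obtain ⟨U, hU0, hxU, -⟩ := Opens.isBasis_iff_nbhd.mp (S.isBasis_affineOpens)
      (show g.base x ∈ (⊤ : S.Opens) from trivial)
    obtain ⟨U', hU'0, hxU', hle⟩ := Opens.isBasis_iff_nbhd.mp (S'.isBasis_affineOpens)
      (show x ∈ g ⁻¹ᵁ U from hxU)
    have hU' : IsAffineOpen U' := hU'0
    have hx : x ∈ Set.range hU'.fromSpec.base := by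
      rw [hU'.range_fromSpec]; exact hxU'
    obtain ⟨y, hy⟩ := hx
    exact ⟨⟨(⟨U, hU0⟩, ⟨U', hU'0⟩), hle⟩, y, hy⟩
  let 𝒰 : S'.OpenCover := Scheme.Cover.mkOfCovers J (fun j => Spec Γ(S', (j.1.2 : S'.Opens)))
    (fun j => (hJ j).fromSpec) hcov (fun j => inferInstanceAs (IsOpenImmersion (hJ j).fromSpec))
  refine IsPullback.flip ?_
  refine Scheme.isPullback_of_openCover B.π h g A.π 𝒰 ?_
  rintro ⟨⟨⟨U, hU⟩, ⟨U', hU'⟩⟩, hle⟩
  have hUa : IsAffineOpen U := hU
  have hUa' : IsAffineOpen U' := hU'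
  change IsPullback (pullback.snd B.π hUa'.fromSpec) (pullback.fst B.π hUa'.fromSpec ≫ h)
    (hUa'.fromSpec ≫ g) A.π
  -- chart squares
  have sqA : IsPullback (Spec.map (A.str.app (op U))) (A.ι U hUa) hUa.fromSpec A.π := by
    refine IsOpenImmersion.isPullback _ _ _ _ (A.ι_π U hUa) ?_
    rw [hUa.opensRange_fromSpec]
    exact A.π_preimage U hUa
  have sqB : IsPullback (Spec.map (B.str.app (op U'))) (B.ι U' hUa') hUa'.fromSpec B.π := by
    refine IsOpenImmersion.isPullback _ _ _ _ (B.ι_π U' hUa') ?_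
    rw [hUa'.opensRange_fromSpec]
    exact B.π_preimage U' hUa'
  have sqL : IsPullback (Spec.map (B.str.app (op U'))) (Spec.map (u.appLE U U' hle))
      (Spec.map (g.appLE U U' hle)) (Spec.map (A.str.app (op U))) :=
    isPullback_SpecMap_of_isPushout _ _ _ _ (hu U hUa U' hUa' hle)
  have sqP := sqL.paste_vert sqA
  rw [← hh U hUa U' hUa' hle, IsAffineOpen.SpecMap_appLE_fromSpec g hUa hUa' hle] at sqP
  -- transport along `Spec B(U') ≅ pullback`
  let e := sqB.flip.isoPullback
  have he1 : e.hom ≫ pullback.fst B.π hUa'.fromSpec = B.ι U' hUa' := sqB.flip.isoPullback_hom_fst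
  have he2 : e.hom ≫ pullback.snd B.π hUa'.fromSpec = Spec.map (B.str.app (op U')) :=
    sqB.flip.isoPullback_hom_snd
  refine sqP.of_iso e (Iso.refl _) (Iso.refl _) (Iso.refl _) ?_ ?_ ?_ ?_
  · simp only [Iso.refl_hom, Category.comp_id]; exact he2.symm
  · simp only [Iso.refl_hom, Category.comp_id]; rw [← Category.assoc, he1]
  · simp
  · simp

end Groth.Agent.S12142
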