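import Groth.Statements.S12144
import Groth.Agent.Lib.Helper18.SymAlg7


set_option autoImplicit false
universe u
open CategoryTheory CategoryTheory.Limits AlgebraicGeometry TopologicalSpace Opposite
open scoped HomogeneousIdeal
noncomputable section
open EGA2

namespace Groth.Agent.S12144

/-- Let q : X → Y be a morphism with Y affine, L an invertible O_X-module, 𝒮L = ⊕_{n≥0} L^{⊗n} its
graded symmetric algebra (whose Proj, presented with its charts, is identified with X by its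
structure morphism pL), 𝒮 a quasi-coherent positively graded O_Y-algebra with S = Γ(Y, 𝒮), ψ : q^*𝒮
→ 𝒮L a graded homomorphism given as a graded q-morphism u = ψ♭ : 𝒮 → q_*𝒮L, P = Proj(𝒮), and r =
r_{L,ψ} : G(ψ) → P the associated morphism on its open of definition G(ψ) ⊆ Proj(𝒮L). For f ∈ S_d
with d > 0 and t = ψ♭(f) ∈ Γ(X, L^{⊗d}), the inverse image r⁻¹(D_+(f)) ⊆ G(ψ), regarded as an open
of Proj(𝒮L), equals the inverse image under pL of the open X_t of X where t does not vanish; in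
particular the part of Proj(𝒮L) over X_t lies inside G(ψ) (X_t is written as the union of the affine
opens V of X over which Γ(V, L^{⊗d}) = 𝒮L(V)_d lies in the ideal of 𝒮L(V) generated by t|V). -/
theorem result {Y X P PL : Scheme.{u}} (q : X ⟶ Y)
    (L : X.Modules) (hL : PicF.IsInvertible L) (hLq : Coh.IsQCoh L)
    (𝒮 : RelProj.QCGrAlg Y) (𝒮L : RelProj.QCGrAlg X) (j : L ⟶ 𝒮L.toModule) (hj : RelProj.IsGrSymAlg L 𝒮L j)
    (u : RelProj.QGrHom q 𝒮 𝒮L)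
    (p : P ⟶ Y) (chart : ∀ (U : Y.Opens) (hU : IsAffineOpen U), (((p ⁻¹ᵁ U : P.Opens) : Scheme.{u}) ≅ Proj (𝒮.deg U hU)))
    (hP : RelProj.IsRelProj 𝒮 p chart)
    (pL : PL ⟶ X) (chartL : ∀ (U : X.Opens) (hU : IsAffineOpen U), (((pL ⁻¹ᵁ U : PL.Opens) : Scheme.{u}) ≅ Proj (𝒮L.deg U hU)))
    (hPL : RelProj.IsRelProj 𝒮L pL chartL)
    (r : ((RelProj.domQ u pL chartL : PL.Opens) : Scheme.{u}) ⟶ P)
    (hr : RelProj.IsProjQMapOn u p chart pL chartL (RelProj.domQ u pL chartL) r)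
    (hY : IsAffineOpen (⊤ : Y.Opens)) (d : ℕ) (hd : 0 < d) (f : 𝒮.presheaf.obj (op ⊤)) (hf : f ∈ 𝒮.deg ⊤ hY d) :
    (RelProj.domQ u pL chartL).ι ''ᵁ (r ⁻¹ᵁ ((RelProj.emb p chart ⊤ hY) ''ᵁ Proj.basicOpen (𝒮.deg ⊤ hY) f)) =
      pL ⁻¹ᵁ
        (⨆ V : {V : X.affineOpens //
          ((𝒮L.deg V.1 V.2 d : AddSubgroup (𝒮L.presheaf.obj (op (V.1 : X.Opens)))) : Set (𝒮L.presheaf.obj (op (V.1 : X.Opens)))) ⊆
            (Ideal.span {(u.appLE ⊤ (V.1 : X.Opens) (le_top.trans (Scheme.Hom.preimage_top q).ge)).hom f} : Set (𝒮L.presheaf.obj (op (V.1 : X.Opens))))},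
          (V.1.1 : X.Opens)) := by
  haveI : L.IsQuasicoherent := hLq
  open Groth.Agent.Helper18 Groth.Agent.Helper18.SymAlg Groth.Agent.Helper18.ProjQ in
  apply le_antisymm
  · rintro _ ⟨x₀, hx₀, rfl⟩
    obtain ⟨y₀, hy₀, hy⟩ := hx₀
    obtain ⟨V, hV0, hxV, -⟩ := Opens.isBasis_iff_nbhd.mp (X.isBasis_affineOpens)
      (show pL.base x₀.1 ∈ (⊤ : X.Opens) from trivial)
    have hV : IsAffineOpen V := hV0
    have hle : V ≤ q ⁻¹ᵁ ⊤ := le_top.trans (Scheme.Hom.preimage_top q).ge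
    let jdx : QIdx q 𝒮 := ⟨⊤, hY, V, hV, hle, d, hd, f, hf⟩
    have h1 := (map_inD_iff (u := u) hP hPL r hr jdx x₀ hxV).mp ⟨y₀, hy₀, hy⟩
    obtain ⟨z, hz⟩ := h1
    set t := u.gradedAt ⊤ hY V hV hle f with ht
    have htd : t ∈ 𝒮L.deg V hV d := (u.gradedAt ⊤ hY V hV hle).map_mem hf
    set y₁ := (Proj.awayι (𝒮L.deg V hV) t htd hd).base z with hy₁
    have hz' : (RelProj.emb pL chartL V hV).base y₁ = x₀.1 := hz
    have hy₁t : t ∉ y₁.asHomogeneousIdeal := by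
      have : y₁ ∈ Proj.basicOpen (𝒮L.deg V hV) t := by
        rw [← Proj.opensRange_awayι _ _ htd hd]; exact ⟨z, rfl⟩
      exact (Proj.mem_basicOpen _ _ _).mp this
    obtain ⟨V'', hV'', hle'', hx'', H⟩ :=
      exists_affine_deg_subset_span L hL 𝒮L j hj hPL V hV d t htd y₁ hy₁t
    rw [hz'] at hx''
    have hres : (𝒮L.presheaf.map (homOfLE hle'').op).hom t =
        (u.appLE ⊤ V'' (le_top.trans (Scheme.Hom.preimage_top q).ge)).hom f := by
      have := congrArg (fun k => k.hom f) (u.appLE_map hle hle'')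
      exact this
    rw [hres] at H
    exact Opens.mem_iSup.mpr ⟨⟨⟨V'', hV''⟩, H⟩, hx''⟩
  · intro x hx
    obtain ⟨⟨⟨V, hV0⟩, H⟩, hxV⟩ := Opens.mem_iSup.mp hx
    have hV : IsAffineOpen V := hV0
    have hle : V ≤ q ⁻¹ᵁ ⊤ := le_top.trans (Scheme.Hom.preimage_top q).ge
    let jdx : QIdx q 𝒮 := ⟨⊤, hY, V, hV, hle, d, hd, f, hf⟩
    have hx1 : x ∈ (RelProj.emb pL chartL V hV).opensRange := by
      rw [opensRange_emb]; exact hxV
    obtain ⟨y₀, rfl⟩ := hx1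
    set t := u.gradedAt ⊤ hY V hV hle f with ht
    have htd : t ∈ 𝒮L.deg V hV d := (u.gradedAt ⊤ hY V hV hle).map_mem hf
    have hy₀ : t ∉ y₀.asHomogeneousIdeal :=
      not_mem_of_deg_subset_span L hL 𝒮L j hj hPL V hV d t H y₀
    have hy₀' : y₀ ∈ Proj.basicOpen (𝒮L.deg V hV) t := (Proj.mem_basicOpen _ _ _).mpr hy₀
    rw [← Proj.opensRange_awayι _ _ htd hd] at hy₀'
    obtain ⟨z, rfl⟩ := hy₀'
    have hk : (RelProj.emb pL chartL V hV).base ((Proj.awayι (𝒮L.deg V hV) t htd hd).base z) ∈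
        Set.range (jdx.k u pL chartL).base := ⟨z, rfl⟩
    have hG := RelProj.range_awayEmb_subset_domQ u pL chartL ⊤ hY V hV hle hd f hf hk
    rw [Scheme.Opens.range_ι] at hG
    refine ⟨⟨_, hG⟩, ?_, rfl⟩
    have h2 := (map_inD_iff (u := u) hP hPL r hr jdx ⟨_, hG⟩ hxV).mpr hk
    obtain ⟨y', hy', hy''⟩ := h2
    exact ⟨y', hy', hy''⟩

end Groth.Agent.S12144
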