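import Groth.Statements.S12145
import Groth.Agent.Lib.Helper18.SymAlg8
import Groth.Agent.S12143


set_option autoImplicit false
universe u
open CategoryTheory CategoryTheory.Limits AlgebraicGeometry TopologicalSpace Opposite
open scoped HomogeneousIdeal
noncomputable section
open EGA2

namespace Groth.Agent.S12145

/-- Let q : X → Y be a morphism with Y affine, L an invertible O_X-module, 𝒮L = ⊕_{n≥0} L^{⊗n} its
graded symmetric algebra (whose Proj, presented with its charts, is identified with X by its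
structure morphism pL), 𝒮 a quasi-coherent positively graded O_Y-algebra with S = Γ(Y, 𝒮), ψ : q^*𝒮
→ 𝒮L a graded homomorphism given as a graded q-morphism u = ψ♭ : 𝒮 → q_*𝒮L, P = Proj(𝒮), and r =
r_{L,ψ} : G(ψ) → P the associated morphism on its open of definition G(ψ) ⊆ Proj(𝒮L). Then r is
everywhere defined, i.e. G(ψ) = X, if and only if for every x ∈ X there are an integer n > 0 and s ∈
S_n such that the section t = ψ♭(s) of L^{⊗n} does not vanish at x (x has an affine neighbourhood V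
over which 𝒮L(V)_n = Γ(V, L^{⊗n}) lies in the ideal generated by t|V). -/
theorem result {Y X P PL : Scheme.{u}} (q : X ⟶ Y)
    (L : X.Modules) (hL : PicF.IsInvertible L) (hLq : Coh.IsQCoh L)
    (𝒮 : RelProj.QCGrAlg Y) (𝒮L : RelProj.QCGrAlg X) (j : L ⟶ 𝒮L.toModule) (hj : RelProj.IsGrSymAlg L 𝒮L j)
    (u : RelProj.QGrHom q 𝒮 𝒮L)
    (p : P ⟶ Y) (chart : ∀ (U : Y.Opens) (hU : IsAffineOpen U), (((p ⁻¹ᵁ U : P.Opens) : Scheme.{u}) ≅ Proj (𝒮.deg U hU)))
    (hP : RelProj.IsRelProj 𝒮 p chart)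
    (pL : PL ⟶ X) (chartL : ∀ (U : X.Opens) (hU : IsAffineOpen U), (((pL ⁻¹ᵁ U : PL.Opens) : Scheme.{u}) ≅ Proj (𝒮L.deg U hU)))
    (hPL : RelProj.IsRelProj 𝒮L pL chartL)
    (hY : IsAffineOpen (⊤ : Y.Opens)) :
    RelProj.domQ u pL chartL = ⊤ ↔
      ∀ x : X, ∃ (n : ℕ) (_ : 0 < n) (s : 𝒮.presheaf.obj (op ⊤)) (_ : s ∈ 𝒮.deg ⊤ hY n)
        (V : X.Opens) (hV : IsAffineOpen V), x ∈ V ∧
          ((𝒮L.deg V hV n : AddSubgroup (𝒮L.presheaf.obj (op V))) : Set (𝒮L.presheaf.obj (op V))) ⊆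
            (Ideal.span {(u.appLE ⊤ V (le_top.trans (Scheme.Hom.preimage_top q).ge)).hom s} : Set (𝒮L.presheaf.obj (op V))) := by
  haveI : L.IsQuasicoherent := hLq
  have hiso : IsIso pL := Groth.Agent.S12143.result L hL hLq 𝒮L j hj pL chartL hPL
  open Groth.Agent.Helper18 Groth.Agent.Helper18.SymAlg Groth.Agent.Helper18.ProjQ in
  constructor
  · intro hG x
    obtain ⟨x₀, rfl⟩ := pL.surjective x
    have hx₀ : x₀ ∈ RelProj.domQ u pL chartL := by rw [hG]; trivial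
    obtain ⟨U, hU, V, hV, hle, n, hn, s, hs, hxV, H⟩ :=
      exists_deg_subset_span_of_mem_domQ L hL 𝒮L j hj u hPL x₀ hx₀
    obtain ⟨s', hs', V', hV', hxV', H'⟩ :=
      exists_top_deg_subset_span u hY U hU V hV hle n s hs (pL.base x₀) hxV H
    exact ⟨n, hn, s', hs', V', hV', hxV', H'⟩
  · intro h
    rw [eq_top_iff]
    intro x₀ _
    obtain ⟨n, hn, s, hs, V, hV, hxV, H⟩ := h (pL.base x₀)
    exact preimage_le_domQ L hL 𝒮L j hj u hPL
      ⟨⊤, hY, V, hV, le_top.trans (Scheme.Hom.preimage_top q).ge, n, hn, s, hs⟩ H x₀ hxV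

end Groth.Agent.S12145
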