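import Groth.Statements.S12147

set_option autoImplicit false
universe u
open CategoryTheory CategoryTheory.Limits AlgebraicGeometry TopologicalSpace Opposite
open scoped HomogeneousIdeal
noncomputable section
open EGA2

namespace Groth.Agent.S12147

/-- Let q : X → Y be a morphism, L an invertible O_X-module with 𝒮L = ⊕ L^{⊗n} (whose Proj, with its
charts, is X), v : 𝒯 → 𝒮 a graded homomorphism of quasi-coherent positively graded O_Y-algebras, ψ♭
= u : 𝒮 → q_*𝒮L a graded q-morphism and ψ'♭ = u' its composite with v. Then the open of definition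
G(ψ') of r_{L,ψ'} is contained in the open of definition G(ψ) of r_{L,ψ}; in particular, if r_{L,ψ'}
is everywhere defined then so is r_{L,ψ}. -/
theorem result {Y X P PL : Scheme.{u}} (q : X ⟶ Y)
    (L : X.Modules) (hL : PicF.IsInvertible L) (hLq : Coh.IsQCoh L)
    (𝒮 : RelProj.QCGrAlg Y) (𝒮L : RelProj.QCGrAlg X) (j : L ⟶ 𝒮L.toModule) (hj : RelProj.IsGrSymAlg L 𝒮L j)
    (u : RelProj.QGrHom q 𝒮 𝒮L)
    (p : P ⟶ Y) (chart : ∀ (U : Y.Opens) (hU : IsAffineOpen U), (((p ⁻¹ᵁ U : P.Opens) : Scheme.{u}) ≅ Proj (𝒮.deg U hU)))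
    (hP : RelProj.IsRelProj 𝒮 p chart)
    (pL : PL ⟶ X) (chartL : ∀ (U : X.Opens) (hU : IsAffineOpen U), (((pL ⁻¹ᵁ U : PL.Opens) : Scheme.{u}) ≅ Proj (𝒮L.deg U hU)))
    (hPL : RelProj.IsRelProj 𝒮L pL chartL)
    (𝒯 : RelProj.QCGrAlg Y) (v : 𝒯.toQCAlg ⟶ 𝒮.toQCAlg) (hv : RelProj.IsGradedHom v)
    (u' : RelProj.QGrHom q 𝒯 𝒮L) (hu' : ∀ U : Y.Opens, u'.app U = v.hom.app (op U) ≫ u.app U) :
    RelProj.domQ u' pL chartL ≤ RelProj.domQ u pL chartL := by
  classical
  unfold RelProj.domQ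
  refine iSup_mono fun V => ?_
  obtain ⟨⟨⟨U, hU⟩, ⟨U', hU'⟩⟩, hle⟩ := V
  dsimp only
  refine (Scheme.Hom.image_mono _ ?_)
  intro x hx
  rw [RelCone.mem_domOpen] at hx ⊢
  obtain ⟨f, hf, hfx⟩ := hx
  refine ⟨(v.hom.app (op U)).hom f, ?_, ?_⟩
  · -- the image of an irrelevant element is irrelevant
    have h1 : f ∈ HomogeneousIdeal.irrelevant (𝒯.deg U hU) := hf
    rw [HomogeneousIdeal.mem_irrelevant_iff] at h1
    change (v.hom.app (op U)).hom f ∈ HomogeneousIdeal.irrelevant (𝒮.deg U hU)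
    rw [HomogeneousIdeal.mem_irrelevant_iff]
    have h2 := GradedRingHom.map_directSumDecompose _ _ (RelProj.gradedHomAt v hv U hU) (x := f) (i := 0)
    have h2' : (v.hom.app (op U)).hom (GradedRing.proj (𝒯.deg U hU) 0 f) =
      GradedRing.proj (𝒮.deg U hU) 0 ((v.hom.app (op U)).hom f) := h2
    rw [← h2', h1, map_zero]
  · intro hmem
    apply hfx
    have h3 : (u'.gradedAt U hU U' hU' hle) f =
        (u.gradedAt U hU U' hU' hle) ((v.hom.app (op U)).hom f) := by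
      rw [RelProj.QGrHom.gradedAt_apply, RelProj.QGrHom.gradedAt_apply]
      unfold RelSpec.QHom.appLE
      rw [hu']
      rfl
    rw [h3]
    exact hmem


end Groth.Agent.S12147
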