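import Groth.Statements.S12148
import Groth.Agent.Lib.Helper18.ProjQComp

set_option autoImplicit false
universe u
open CategoryTheory CategoryTheory.Limits AlgebraicGeometry TopologicalSpace Opposite
open scoped HomogeneousIdeal
noncomputable section
open EGA2

namespace Groth.Agent.S12148

/-- Let q : X → Y be a morphism, L an invertible O_X-module with 𝒮L = ⊕ L^{⊗n} (whose Proj, with its
charts, is X), v : 𝒯 → 𝒮 a graded homomorphism of quasi-coherent positively graded O_Y-algebras, ψ♭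
= u : 𝒮 → q_*𝒮L a graded q-morphism and ψ'♭ = u' its composite with v; let r = r_{L,ψ} : G(ψ) →
Proj(𝒮) and r' = r_{L,ψ'} : G(ψ') → Proj(𝒯) be the associated morphisms. If v is (TN)-surjective
(there is n with v : 𝒯_k → 𝒮_k surjective for every k ≥ n, on sections over affine opens) and r' is
dominant, then r is dominant. -/
theorem result {Y X P PL P' : Scheme.{u}} (q : X ⟶ Y)
    (L : X.Modules) (hL : PicF.IsInvertible L) (hLq : Coh.IsQCoh L)
    (𝒮 : RelProj.QCGrAlg Y) (𝒮L : RelProj.QCGrAlg X) (j : L ⟶ 𝒮L.toModule) (hj : RelProj.IsGrSymAlg L 𝒮L j)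
    (u : RelProj.QGrHom q 𝒮 𝒮L)
    (p : P ⟶ Y) (chart : ∀ (U : Y.Opens) (hU : IsAffineOpen U), (((p ⁻¹ᵁ U : P.Opens) : Scheme.{u}) ≅ Proj (𝒮.deg U hU)))
    (hP : RelProj.IsRelProj 𝒮 p chart)
    (pL : PL ⟶ X) (chartL : ∀ (U : X.Opens) (hU : IsAffineOpen U), (((pL ⁻¹ᵁ U : PL.Opens) : Scheme.{u}) ≅ Proj (𝒮L.deg U hU)))
    (hPL : RelProj.IsRelProj 𝒮L pL chartL)
    (r : ((RelProj.domQ u pL chartL : PL.Opens) : Scheme.{u}) ⟶ P)
    (hr : RelProj.IsProjQMapOn u p chart pL chartL (RelProj.domQ u pL chartL) r)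
    (𝒯 : RelProj.QCGrAlg Y) (v : 𝒯.toQCAlg ⟶ 𝒮.toQCAlg) (hv : RelProj.IsGradedHom v)
    (u' : RelProj.QGrHom q 𝒯 𝒮L) (hu' : ∀ U : Y.Opens, u'.app U = v.hom.app (op U) ≫ u.app U)
    (p' : P' ⟶ Y) (chart' : ∀ (U : Y.Opens) (hU : IsAffineOpen U), (((p' ⁻¹ᵁ U : P'.Opens) : Scheme.{u}) ≅ Proj (𝒯.deg U hU)))
    (hP' : RelProj.IsRelProj 𝒯 p' chart')
    (r' : ((RelProj.domQ u' pL chartL : PL.Opens) : Scheme.{u}) ⟶ P')
    (hr' : RelProj.IsProjQMapOn u' p' chart' pL chartL (RelProj.domQ u' pL chartL) r')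
    (hTN : ∃ n : ℕ, ∀ k, n ≤ k → ∀ (U : Y.Opens) (hU : IsAffineOpen U), ∀ y ∈ 𝒮.deg U hU k,
      ∃ x ∈ 𝒯.deg U hU k, (v.hom.app (op U)).hom x = y) (hdom : IsDominant r') :
    IsDominant r := by
  classical
  obtain ⟨w, hw0⟩ := Groth.Agent.Helper18.ProjQ.exists_projQMapOn
    (u := RelProj.QGrHom.ofHom v hv) hP' hP
  have hw : RelProj.IsProjQMapOn (RelProj.QGrHom.ofHom v hv) p' chart' p chart
      (RelProj.domQ (RelProj.QGrHom.ofHom v hv) p chart) w :=
    fun U hU U' hU' hle d hd f hf _ => hw0 ⟨U, hU, U', hU', hle, d, hd, f, hf⟩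
  obtain ⟨r₀, e1, e2⟩ := Groth.Agent.Helper18.ProjQ.exists_factor u r hr v hv u' hu' w hw r' hr'
  have hle := Groth.Agent.Helper18.ProjQ.domQ_le u v hv u' hu' (pL := pL) (chartL := chartL)
  have hcl : IsClosedImmersion w :=
    Groth.Agent.Helper18.ProjQ.isClosedImmersion_on_of_tn v hv hP' hP hTN w hw
  have htop : RelProj.domQ (RelProj.QGrHom.ofHom v hv) p chart = ⊤ :=
    Groth.Agent.Helper18.ProjQ.domQ_eq_top_of_tn v hv hTN
  -- r₀ is dominant
  have hce : Topology.IsClosedEmbedding w.base := w.isClosedEmbedding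
  have hd' : DenseRange (r₀ ≫ w).base := by rw [e2]; exact hdom.denseRange
  have hr0 : DenseRange r₀.base := by
    rw [DenseRange, dense_iff_closure_eq] at hd' ⊢
    have h1 : Set.range (r₀ ≫ w).base = w.base '' Set.range r₀.base := by
      rw [Scheme.Hom.comp_base, TopCat.coe_comp, Set.range_comp]
    rw [h1, hce.closure_image_eq] at hd'
    apply Set.eq_univ_of_forall
    intro x
    have : w.base x ∈ w.base '' closure (Set.range r₀.base) := by rw [hd']; trivial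
    obtain ⟨y, hy, hyx⟩ := this
    rwa [← hce.injective hyx]
  have hι : DenseRange (RelProj.domQ (RelProj.QGrHom.ofHom v hv) p chart).ι.base := by
    apply Function.Surjective.denseRange
    intro x
    exact ⟨⟨x, by rw [htop]; trivial⟩, rfl⟩
  have h3 : DenseRange (PL.homOfLE hle ≫ r).base := by
    rw [e1, Scheme.Hom.comp_base, TopCat.coe_comp]
    exact hι.comp hr0 (Scheme.Hom.continuous _)
  refine ⟨?_⟩
  rw [Scheme.Hom.comp_base, TopCat.coe_comp] at h3
  exact h3.mono (Set.range_comp_subset_range _ _)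

end Groth.Agent.S12148
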