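import Groth.Statements.S12149
import Groth.Agent.Lib.Helper18.ProjQDom

set_option autoImplicit false
universe u
open CategoryTheory CategoryTheory.Limits AlgebraicGeometry TopologicalSpace Opposite
open scoped HomogeneousIdeal
noncomputable section
open EGA2

namespace Groth.Agent.S12149

/-- Let q : X → Y be a morphism, L an invertible O_X-module with 𝒮L = ⊕ L^{⊗n} (whose Proj, with its
charts, is X), v : 𝒯 → 𝒮 a graded homomorphism of quasi-coherent positively graded O_Y-algebras, ψ♭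
= u : 𝒮 → q_*𝒮L a graded q-morphism and ψ'♭ = u' its composite with v; let r = r_{L,ψ} : G(ψ) →
Proj(𝒮) and r' = r_{L,ψ'} : G(ψ') → Proj(𝒯) be the associated morphisms. If v is (TN)-injective
(there is n with v injective on 𝒯_k for every k ≥ n, on sections over affine opens) and r is
dominant, then r' is dominant. -/
theorem result {Y X P PL P' : Scheme.{u}} (q : X ⟶ Y)
    (L : X.Modules) (hL : PicF.IsInvertible L) (hLq : Coh.IsQCoh L)
    (𝒮 : RelProj.QCGrAlg Y) (𝒮L : RelProj.QCGrAlg X) (j : L ⟶ 𝒮L.toModule) (hj : RelProj.IsGrSymAlg L 𝒮L j)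
    (u : RelProj.QGrHom q 𝒮 𝒮L)
    (p : P ⟶ Y) (chart : ∀ (U : Y.Opens) (hU : IsAffineOpen U), (((p ⁻¹ᵁ U : P.Opens) : Scheme.{u}) ≅ Proj (𝒮.deg U hU)))
    (hP : RelProj.IsRelProj 𝒮 p chart)
    (pL : PL ⟶ X) (chartL : ∀ (U : X.Opens) (hU : IsAffineOpen U), (((pL ⁻¹ᵁ U : PL.Opens) : Scheme.{u}) ≅ Proj (𝒮L.deg U hU)))
    (hPL : RelProj.IsRelProj 𝒮L pL chartL)
    (r : ((RelProj.domQ u pL chartL : PL.Opens) : Scheme.{u}) ⟶ P)
    (hr : RelProj.IsProjQMapOn u p chart pL chartL (RelProj.domQ u pL chartL) r)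
    (𝒯 : RelProj.QCGrAlg Y) (v : 𝒯.toQCAlg ⟶ 𝒮.toQCAlg) (hv : RelProj.IsGradedHom v)
    (u' : RelProj.QGrHom q 𝒯 𝒮L) (hu' : ∀ U : Y.Opens, u'.app U = v.hom.app (op U) ≫ u.app U)
    (p' : P' ⟶ Y) (chart' : ∀ (U : Y.Opens) (hU : IsAffineOpen U), (((p' ⁻¹ᵁ U : P'.Opens) : Scheme.{u}) ≅ Proj (𝒯.deg U hU)))
    (hP' : RelProj.IsRelProj 𝒯 p' chart')
    (r' : ((RelProj.domQ u' pL chartL : PL.Opens) : Scheme.{u}) ⟶ P')
    (hr' : RelProj.IsProjQMapOn u' p' chart' pL chartL (RelProj.domQ u' pL chartL) r')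
    (hTN : ∃ n : ℕ, ∀ k, n ≤ k → ∀ (U : Y.Opens) (hU : IsAffineOpen U), ∀ x ∈ 𝒯.deg U hU k,
      (v.hom.app (op U)).hom x = 0 → x = 0) (hdom : IsDominant r) :
    IsDominant r' := by
  classical
  obtain ⟨w, hw0⟩ := Groth.Agent.Helper18.ProjQ.exists_projQMapOn
    (u := RelProj.QGrHom.ofHom v hv) hP' hP
  have hw : RelProj.IsProjQMapOn (RelProj.QGrHom.ofHom v hv) p' chart' p chart
      (RelProj.domQ (RelProj.QGrHom.ofHom v hv) p chart) w :=
    fun U hU U' hU' hle d hd f hf _ => hw0 ⟨U, hU, U', hU', hle, d, hd, f, hf⟩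
  obtain ⟨r₀, e1, e2⟩ := Groth.Agent.Helper18.ProjQ.exists_factor u r hr v hv u' hu' w hw r' hr'
  have hle := Groth.Agent.Helper18.ProjQ.domQ_le u v hv u' hu' (pL := pL) (chartL := chartL)
  have hwd : DenseRange w.base :=
    Groth.Agent.Helper18.ProjQ.denseRange_on_of_tnInj v hv hTN w hw
  have hr0 : DenseRange r₀.base := by
    rw [denseRange_iff_closure_range]
    apply Set.eq_univ_of_forall
    intro a
    rw [mem_closure_iff]
    intro V hV haV
    have hιo := (RelProj.domQ (RelProj.QGrHom.ofHom v hv) p chart).ι.isOpenEmbedding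
    have hV' : IsOpen ((RelProj.domQ (RelProj.QGrHom.ofHom v hv) p chart).ι.base '' V) :=
      hιo.isOpenMap V hV
    obtain ⟨x, hx⟩ := hdom.denseRange.exists_mem_open hV' ⟨_, a, haV, rfl⟩
    obtain ⟨b, hbV, hb⟩ := hx
    have hxG : r.base x ∈ RelProj.domQ (RelProj.QGrHom.ofHom v hv) p chart := by
      rw [← hb]; exact b.2
    have hx' : x.1 ∈ RelProj.domQ u' pL chartL :=
      Groth.Agent.Helper18.ProjQ.mem_domQ_comp u r hr v hv u' hu' hP hPL x hxG
    refine ⟨b, hbV, ⟨x.1, hx'⟩, ?_⟩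
    apply hιo.injective
    have h1 := congrArg (fun k => k.base ⟨x.1, hx'⟩) e1
    have h3 : (PL.homOfLE hle).base ⟨x.1, hx'⟩ = x := by
      apply (RelProj.domQ u pL chartL).ι.isOpenEmbedding.injective
      have := congrArg (fun k => k.base ⟨x.1, hx'⟩) (Scheme.homOfLE_ι PL hle)
      exact this
    have h2 : (RelProj.domQ (RelProj.QGrHom.ofHom v hv) p chart).ι.base (r₀.base ⟨x.1, hx'⟩) =
        r.base ((PL.homOfLE hle).base ⟨x.1, hx'⟩) := h1.symm
    rw [h2, h3, hb]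
  refine ⟨?_⟩
  rw [← e2, Scheme.Hom.comp_base, TopCat.coe_comp]
  exact hwd.comp hr0 (Scheme.Hom.continuous _)

end Groth.Agent.S12149
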