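import Groth.Statements.S12152
import Groth.Agent.Lib.Helper18.SymAlg10


set_option autoImplicit false
universe u
open CategoryTheory CategoryTheory.Limits AlgebraicGeometry TopologicalSpace Opposite
open scoped HomogeneousIdeal
noncomputable section
open EGA2

namespace Groth.Agent.S12152

/-- Let q : X → Y be a morphism with Y affine, L an invertible O_X-module with 𝒮L = ⊕ L^{⊗n} (whose Proj
is X), 𝒮 a quasi-coherent positively graded O_Y-algebra with S = Γ(Y, 𝒮), ψ♭ = u : 𝒮 → q_*𝒮L a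
graded q-morphism and r = r_{L,ψ} : G(ψ) → P = Proj(𝒮). For a family s_a ∈ S_{n_a} (n_a > 0) put f_a
= ψ♭(s_a) ∈ Γ(X, L^{⊗n_a}) and let X_{f_a} be the open where f_a does not vanish; conditions: (i)
the X_{f_a} cover X; (ii) the X_{f_a} are affine; (iii) every function t on X_{f_a} is of the form
ψ♭(s') f_a^{-m} with m > 0 and s' ∈ S_{m n_a} (that is, t f_a^m = ψ♭(s') in 𝒮L(X_{f_a})); (v) the
opens D_+(s_a) cover Proj S. Then r is everywhere defined and a closed immersion if and only if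
there is a family (s_a) satisfying (i), (ii), (iii) and (v). -/
theorem result {Y X P PL : Scheme.{u}} (q : X ⟶ Y)
    (L : X.Modules) (hL : PicF.IsInvertible L) (hLq : Coh.IsQCoh L)
    (𝒮 : RelProj.QCGrAlg Y) (𝒮L : RelProj.QCGrAlg X) (j : L ⟶ 𝒮L.toModule) (hj : RelProj.IsGrSymAlg L 𝒮L j)
    (u : RelProj.QGrHom q 𝒮 𝒮L)
    (p : P ⟶ Y) (chart : ∀ (U : Y.Opens) (hU : IsAffineOpen U), (((p ⁻¹ᵁ U : P.Opens) : Scheme.{u}) ≅ Proj (𝒮.deg U hU)))
    (hP : RelProj.IsRelProj 𝒮 p chart)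
    (pL : PL ⟶ X) (chartL : ∀ (U : X.Opens) (hU : IsAffineOpen U), (((pL ⁻¹ᵁ U : PL.Opens) : Scheme.{u}) ≅ Proj (𝒮L.deg U hU)))
    (hPL : RelProj.IsRelProj 𝒮L pL chartL)
    (r : ((RelProj.domQ u pL chartL : PL.Opens) : Scheme.{u}) ⟶ P)
    (hr : RelProj.IsProjQMapOn u p chart pL chartL (RelProj.domQ u pL chartL) r)
    (hY : IsAffineOpen (⊤ : Y.Opens)) :
    (RelProj.domQ u pL chartL = ⊤ ∧ IsClosedImmersion r) ↔
      ∃ (ι : Type u) (n : ι → ℕ) (s : ι → 𝒮.presheaf.obj (op ⊤)) (XT : ι → X.Opens),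
        (∀ a, 0 < n a ∧ s a ∈ 𝒮.deg ⊤ hY (n a)) ∧
        (∀ a, XT a = (⨆ V : {V : X.affineOpens //
          ((𝒮L.deg V.1 V.2 (n a) : AddSubgroup (𝒮L.presheaf.obj (op (V.1 : X.Opens)))) : Set (𝒮L.presheaf.obj (op (V.1 : X.Opens)))) ⊆
            (Ideal.span {(u.appLE ⊤ (V.1 : X.Opens) (le_top.trans (Scheme.Hom.preimage_top q).ge)).hom (s a)} : Set (𝒮L.presheaf.obj (op (V.1 : X.Opens))))},
          (V.1.1 : X.Opens))) ∧
        (⨆ a, XT a) = ⊤ ∧ (∀ a, IsAffineOpen (XT a)) ∧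
        (∀ (a : ι) (t : X.presheaf.obj (op (XT a))), ∃ (m : ℕ) (_ : 0 < m) (s' : 𝒮.presheaf.obj (op ⊤)) (_ : s' ∈ 𝒮.deg ⊤ hY (m * n a)),
            (𝒮L.str.app (op (XT a))).hom t * ((u.appLE ⊤ (XT a) (le_top.trans (Scheme.Hom.preimage_top q).ge)).hom (s a)) ^ m =
              (u.appLE ⊤ (XT a) (le_top.trans (Scheme.Hom.preimage_top q).ge)).hom s') ∧
        (⨆ a, Proj.basicOpen (𝒮.deg ⊤ hY) (s a)) = ⊤ := by
  haveI : L.IsQuasicoherent := hLq
  haveI hiso : IsIso pL := Groth.Agent.S12143.result L hL hLq 𝒮L j hj pL chartL hPL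
  open Groth.Agent.Helper18 Groth.Agent.Helper18.SymAlg Groth.Agent.Helper18.ProjQ in
  constructor
  · rintro ⟨hG, hcl⟩
    have hex : ∀ y : P, ∃ (n : ℕ) (_ : 0 < n) (s : 𝒮.presheaf.obj (op ⊤)) (_ : s ∈ 𝒮.deg ⊤ hY n),
        y ∈ Dp p chart hY s := by
      intro y
      have hy : y ∈ (RelProj.emb p chart ⊤ hY).opensRange := by
        rw [opensRange_emb]; trivial
      obtain ⟨y₀, rfl⟩ := hy
      obtain ⟨e, he, s, hs, hy₀, -⟩ :=
        exists_homogeneous_basicOpen_le (𝒜 := 𝒮.deg ⊤ hY) y₀ ⊤ trivial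
      exact ⟨e, he, s, hs, y₀, hy₀, rfl⟩
    choose nn hnn ss hss hyD using hex
    have hclr : ∀ y : P, IsClosedImmersion (r ∣_ Dp p chart hY (ss y)) := fun y => inferInstance
    have haff : ∀ y : P, IsAffineOpen (XT 𝒮L u (nn y) (ss y)) := fun y =>
      isAffineOpen_XT_of_isClosedImmersion L hL 𝒮L j hj u hP hPL r hr hY (nn y) (hnn y) (ss y)
        (hss y) (hclr y)
    refine ⟨P, nn, ss, fun y => XT 𝒮L u (nn y) (ss y), fun y => ⟨hnn y, hss y⟩, fun y => rfl,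
      ?_, haff, ?_, ?_⟩
    · rw [eq_top_iff]
      intro x _
      obtain ⟨x₁, rfl⟩ := pL.surjective x
      have hx₁ : x₁ ∈ RelProj.domQ u pL chartL := by rw [hG]; trivial
      refine Opens.mem_iSup.mpr ⟨r.base ⟨x₁, hx₁⟩, ?_⟩
      exact (map_mem_Dp_iff L hL 𝒮L j hj u hP hPL r hr hY _ (hnn _) _ (hss _) ⟨x₁, hx₁⟩).mp
        (hyD _)
    · intro y
      have h1 := (restrict_Dp_iff L hL 𝒮L j hj u hP hPL r hr hY (nn y) (hnn y) (ss y) (hss y)
        (haff y) @IsClosedImmersion).mp (hclr y)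
      have h2 := surjective_of_isClosedImmersion_specMap _ h1
      exact (surjective_phi_iff L hL 𝒮L j hj u hP hPL r hr hY (nn y) (hnn y) (ss y) (hss y)
        (haff y)).mp h2
    · rw [eq_top_iff]
      intro y₀ _
      obtain ⟨y₁, hy₁, hy₁'⟩ := hyD ((RelProj.emb p chart ⊤ hY).base y₀)
      have h := (RelProj.emb p chart ⊤ hY).isOpenEmbedding.injective hy₁'
      refine Opens.mem_iSup.mpr ⟨(RelProj.emb p chart ⊤ hY).base y₀, ?_⟩
      rw [h] at hy₁
      exact hy₁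
  · rintro ⟨ι, n, s, XTf, ha, hb, hc, hd, he, hv⟩
    have hb' : XTf = fun a => XT 𝒮L u (n a) (s a) := funext hb
    subst hb'
    have hG : RelProj.domQ u pL chartL = ⊤ := by
      rw [eq_top_iff]
      intro x₁ _
      have hx : pL.base x₁ ∈ (⨆ a, XT 𝒮L u (n a) (s a)) := by rw [hc]; trivial
      obtain ⟨a, hxa⟩ := Opens.mem_iSup.mp hx
      exact mem_domQ_of_mem_XT L hL 𝒮L j hj u hPL hY (n a) (ha a).1 (s a) (ha a).2 x₁ hxa
    refine ⟨hG, ?_⟩
    have hcov : (⨆ a, Dp p chart hY (s a)) = ⊤ := by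
      rw [eq_top_iff]
      intro y _
      have hy : y ∈ (RelProj.emb p chart ⊤ hY).opensRange := by
        rw [opensRange_emb]; trivial
      obtain ⟨y₀, rfl⟩ := hy
      have hy₀ : y₀ ∈ (⨆ a, Proj.basicOpen (𝒮.deg ⊤ hY) (s a)) := by rw [hv]; trivial
      obtain ⟨a, hya⟩ := Opens.mem_iSup.mp hy₀
      exact Opens.mem_iSup.mpr ⟨a, y₀, hya, rfl⟩
    refine IsZariskiLocalAtTarget.of_iSup_eq_top (P := @IsClosedImmersion)
      (fun a => Dp p chart hY (s a)) hcov ?_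
    intro a
    refine (restrict_Dp_iff L hL 𝒮L j hj u hP hPL r hr hY (n a) (ha a).1 (s a) (ha a).2
        (hd a) @IsClosedImmersion).mpr ?_
    exact IsClosedImmersion.spec_of_surjective _
      ((surjective_phi_iff L hL 𝒮L j hj u hP hPL r hr hY (n a) (ha a).1 (s a) (ha a).2
        (hd a)).mpr (he a))

end Groth.Agent.S12152
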