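import Groth.Statements.S12159
import Groth.Agent.Lib.Helper18.SymAlg8
import Groth.Agent.Lib.Helper18.ProjQComp
import Groth.Agent.S12143


set_option autoImplicit false
universe u
open CategoryTheory CategoryTheory.Limits AlgebraicGeometry TopologicalSpace Opposite
open scoped HomogeneousIdeal
noncomputable section
open EGA2

namespace Groth.Agent.S12159

/-- Let Y be a quasi-compact scheme, q : X → Y a quasi-compact morphism, L an invertible O_X-module with
𝒮L = ⊕ L^{⊗n} (whose Proj is X), 𝒮 = colim 𝒮^i a filtered colimit of quasi-coherent positively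
graded O_Y-algebras along graded homomorphisms φ_i : 𝒮^i → 𝒮 (colimit taken on sections over affine
opens), ψ♭ = u : 𝒮 → q_*𝒮L a graded q-morphism and ψ_i♭ = u ∘ φ_i. Then r_{L,ψ} is everywhere
defined if and only if some r_{L,ψ_i} is everywhere defined, and in that case r_{L,ψ_j} is
everywhere defined for all j ≥ i. -/
theorem result {Y X P PL : Scheme.{u}} (q : X ⟶ Y)
    (L : X.Modules) (hL : PicF.IsInvertible L) (hLq : Coh.IsQCoh L)
    (𝒮 : RelProj.QCGrAlg Y) (𝒮L : RelProj.QCGrAlg X) (j : L ⟶ 𝒮L.toModule) (hj : RelProj.IsGrSymAlg L 𝒮L j)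
    (u : RelProj.QGrHom q 𝒮 𝒮L)
    (p : P ⟶ Y) (chart : ∀ (U : Y.Opens) (hU : IsAffineOpen U), (((p ⁻¹ᵁ U : P.Opens) : Scheme.{u}) ≅ Proj (𝒮.deg U hU)))
    (hP : RelProj.IsRelProj 𝒮 p chart)
    (pL : PL ⟶ X) (chartL : ∀ (U : X.Opens) (hU : IsAffineOpen U), (((pL ⁻¹ᵁ U : PL.Opens) : Scheme.{u}) ≅ Proj (𝒮L.deg U hU)))
    (hPL : RelProj.IsRelProj 𝒮L pL chartL)
    [CompactSpace Y] [QuasiCompact q]
    (Λ : Type u) [Preorder Λ] [IsDirected Λ (· ≤ ·)] [Nonempty Λ]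
    (𝒮i : Λ → RelProj.QCGrAlg Y) (φ : ∀ i, (𝒮i i).toQCAlg ⟶ 𝒮.toQCAlg) (hφ : ∀ i, RelProj.IsGradedHom (φ i))
    (t : ∀ i j, i ≤ j → ((𝒮i i).toQCAlg ⟶ (𝒮i j).toQCAlg)) (ht : ∀ i j (h : i ≤ j), RelProj.IsGradedHom (t i j h))
    (hφt : ∀ i j (h : i ≤ j), t i j h ≫ φ j = φ i)
    (hsurj : ∀ (U : Y.Opens), IsAffineOpen U → ∀ x : 𝒮.presheaf.obj (op U),
      ∃ (i : Λ) (y : (𝒮i i).presheaf.obj (op U)), ((φ i).hom.app (op U)).hom y = x)
    (hker : ∀ (U : Y.Opens), IsAffineOpen U → ∀ (i : Λ) (y : (𝒮i i).presheaf.obj (op U)),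
      ((φ i).hom.app (op U)).hom y = 0 → ∃ (j : Λ) (h : i ≤ j), ((t i j h).hom.app (op U)).hom y = 0)
    (ui : ∀ i, RelProj.QGrHom q (𝒮i i) 𝒮L) (hui : ∀ i (U : Y.Opens), (ui i).app U = (φ i).hom.app (op U) ≫ u.app U) :
    (RelProj.domQ u pL chartL = ⊤ ↔ ∃ i, RelProj.domQ (ui i) pL chartL = ⊤) ∧
      ∀ i, RelProj.domQ (ui i) pL chartL = ⊤ → ∀ j, i ≤ j → RelProj.domQ (ui j) pL chartL = ⊤ := by
  classical
  haveI : L.IsQuasicoherent := hLq
  have hiso : IsIso pL := Groth.Agent.S12143.result L hL hLq 𝒮L j hj pL chartL hPL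
  open Groth.Agent.Helper18 Groth.Agent.Helper18.SymAlg Groth.Agent.Helper18.ProjQ in
  have hmono : ∀ i j (_ : i ≤ j), RelProj.domQ (ui i) pL chartL ≤ RelProj.domQ (ui j) pL chartL := by
    intro i j h
    refine domQ_le (ui j) (t i j h) (ht i j h) (ui i) ?_
    intro U
    rw [hui i U, hui j U, ← hφt i j h, ← Category.assoc]
    rfl
  have hle : ∀ i, RelProj.domQ (ui i) pL chartL ≤ RelProj.domQ u pL chartL :=
    fun i => domQ_le u (φ i) (hφ i) (ui i) (hui i)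
  have hsup : ∀ x ∈ RelProj.domQ u pL chartL, ∃ i, x ∈ RelProj.domQ (ui i) pL chartL := by
    intro x hx
    obtain ⟨U, hU, V, hV, hleV, n, hn, s, hs, hxV, H⟩ :=
      exists_deg_subset_span_of_mem_domQ L hL 𝒮L j hj u hPL x hx
    obtain ⟨i, y, hy⟩ := hsurj U hU s
    set y' : (𝒮i i).presheaf.obj (op U) :=
      (DirectSum.decompose ((𝒮i i).deg U hU) y n : (𝒮i i).presheaf.obj (op U)) with hy'def
    have hy'mem : y' ∈ (𝒮i i).deg U hU n := SetLike.coe_mem _
    have hy' : ((φ i).hom.app (op U)).hom y' = s := by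
      have h1 : (RelProj.gradedHomAt (φ i) (hφ i) U hU)
          (DirectSum.decompose ((𝒮i i).deg U hU) y n : (𝒮i i).presheaf.obj (op U)) =
          (DirectSum.decompose (𝒮.deg U hU) ((RelProj.gradedHomAt (φ i) (hφ i) U hU) y) n :
            𝒮.presheaf.obj (op U)) :=
        GradedRingHom.map_directSumDecompose _ _ (RelProj.gradedHomAt (φ i) (hφ i) U hU)
      have h2 : (RelProj.gradedHomAt (φ i) (hφ i) U hU) y = s := hy
      rw [h2, DirectSum.decompose_of_mem_same _ hs] at h1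
      exact h1
    refine ⟨i, ?_⟩
    refine preimage_le_domQ L hL 𝒮L j hj (ui i) hPL ⟨U, hU, V, hV, hleV, n, hn, y', hy'mem⟩ ?_ x hxV
    have h3 : ((ui i).appLE U V hleV).hom y' = (u.appLE U V hleV).hom s := by
      have := gradedAt_comp u (φ i) (hφ i) (ui i) (hui i) U hU V hV hleV y'
      rw [RelProj.QGrHom.gradedAt_apply, RelProj.QGrHom.gradedAt_apply] at this
      rw [this]
      congr 1
    have H' := H
    rw [← h3] at H'
    exact H'
  have hcompX : CompactSpace X := QuasiCompact.compactSpace_of_compactSpace q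
  have hcompPL : CompactSpace PL := by
    have := (Scheme.Hom.homeomorph pL).symm.compactSpace
    exact this
  refine ⟨⟨fun hG => ?_, fun ⟨i, hi⟩ => top_le_iff.mp (hi ▸ hle i)⟩,
    fun i hi j hij => top_le_iff.mp (hi ▸ hmono i j hij)⟩
  have hcov : (Set.univ : Set PL) ⊆ ⋃ i, ((RelProj.domQ (ui i) pL chartL : PL.Opens) : Set PL) := by
    intro x _
    obtain ⟨i, hi⟩ := hsup x (by rw [hG]; trivial)
    exact Set.mem_iUnion.mpr ⟨i, hi⟩
  have hdir : Directed (· ⊆ ·) (fun i => ((RelProj.domQ (ui i) pL chartL : PL.Opens) : Set PL)) := by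
    intro a b
    obtain ⟨c, hac, hbc⟩ := exists_ge_ge a b
    exact ⟨c, hmono a c hac, hmono b c hbc⟩
  obtain ⟨i, hi⟩ := isCompact_univ.elim_directed_cover
    (fun i => ((RelProj.domQ (ui i) pL chartL : PL.Opens) : Set PL))
    (fun i => (RelProj.domQ (ui i) pL chartL).isOpen) hcov hdir
  refine ⟨i, ?_⟩
  rw [eq_top_iff]
  intro x _
  exact hi (Set.mem_univ x)

end Groth.Agent.S12159
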