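import Groth.Statements.S12160
import Groth.Agent.Lib.Helper18.ProjQDom
import Groth.Agent.S12149

set_option autoImplicit false
universe u
open CategoryTheory CategoryTheory.Limits AlgebraicGeometry TopologicalSpace Opposite
open scoped HomogeneousIdeal
noncomputable section
open EGA2

namespace Groth.Agent.S12160

/-- Let Y be a quasi-compact scheme, q : X → Y a quasi-compact morphism, L an invertible O_X-module with
𝒮L = ⊕ L^{⊗n} (whose Proj is X), 𝒮 = colim 𝒮^i a filtered colimit of quasi-coherent positively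
graded O_Y-algebras along graded homomorphisms φ_i : 𝒮^i → 𝒮 (colimit taken on sections over affine
opens), ψ♭ = u : 𝒮 → q_*𝒮L a graded q-morphism and ψ_i♭ = u ∘ φ_i; let r = r_{L,ψ} : G(ψ) → Proj(𝒮)
and r_i = r_{L,ψ_i} : G(ψ_i) → Proj(𝒮^i). If all the r_i are dominant then r is dominant; the
converse holds when the φ_i are injective. -/
theorem result {Y X P PL : Scheme.{u}} (q : X ⟶ Y)
    (L : X.Modules) (hL : PicF.IsInvertible L) (hLq : Coh.IsQCoh L)
    (𝒮 : RelProj.QCGrAlg Y) (𝒮L : RelProj.QCGrAlg X) (j : L ⟶ 𝒮L.toModule) (hj : RelProj.IsGrSymAlg L 𝒮L j)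
    (u : RelProj.QGrHom q 𝒮 𝒮L)
    (p : P ⟶ Y) (chart : ∀ (U : Y.Opens) (hU : IsAffineOpen U), (((p ⁻¹ᵁ U : P.Opens) : Scheme.{u}) ≅ Proj (𝒮.deg U hU)))
    (hP : RelProj.IsRelProj 𝒮 p chart)
    (pL : PL ⟶ X) (chartL : ∀ (U : X.Opens) (hU : IsAffineOpen U), (((pL ⁻¹ᵁ U : PL.Opens) : Scheme.{u}) ≅ Proj (𝒮L.deg U hU)))
    (hPL : RelProj.IsRelProj 𝒮L pL chartL)
    [CompactSpace Y] [QuasiCompact q]
    (r : ((RelProj.domQ u pL chartL : PL.Opens) : Scheme.{u}) ⟶ P)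
    (hr : RelProj.IsProjQMapOn u p chart pL chartL (RelProj.domQ u pL chartL) r)
    (Λ : Type u) [Preorder Λ] [IsDirected Λ (· ≤ ·)] [Nonempty Λ]
    (𝒮i : Λ → RelProj.QCGrAlg Y) (φ : ∀ i, (𝒮i i).toQCAlg ⟶ 𝒮.toQCAlg) (hφ : ∀ i, RelProj.IsGradedHom (φ i))
    (t : ∀ i j, i ≤ j → ((𝒮i i).toQCAlg ⟶ (𝒮i j).toQCAlg)) (ht : ∀ i j (h : i ≤ j), RelProj.IsGradedHom (t i j h))
    (hφt : ∀ i j (h : i ≤ j), t i j h ≫ φ j = φ i)
    (hsurj : ∀ (U : Y.Opens), IsAffineOpen U → ∀ x : 𝒮.presheaf.obj (op U),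
      ∃ (i : Λ) (y : (𝒮i i).presheaf.obj (op U)), ((φ i).hom.app (op U)).hom y = x)
    (hker : ∀ (U : Y.Opens), IsAffineOpen U → ∀ (i : Λ) (y : (𝒮i i).presheaf.obj (op U)),
      ((φ i).hom.app (op U)).hom y = 0 → ∃ (j : Λ) (h : i ≤ j), ((t i j h).hom.app (op U)).hom y = 0)
    (ui : ∀ i, RelProj.QGrHom q (𝒮i i) 𝒮L) (hui : ∀ i (U : Y.Opens), (ui i).app U = (φ i).hom.app (op U) ≫ u.app U)
    (Pi : Λ → Scheme.{u}) (pi : ∀ i, Pi i ⟶ Y)
    (charti : ∀ i (U : Y.Opens) (hU : IsAffineOpen U), ((((pi i) ⁻¹ᵁ U : (Pi i).Opens) : Scheme.{u}) ≅ Proj ((𝒮i i).deg U hU)))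
    (hPi : ∀ i, RelProj.IsRelProj (𝒮i i) (pi i) (charti i))
    (ri : ∀ i, ((RelProj.domQ (ui i) pL chartL : PL.Opens) : Scheme.{u}) ⟶ Pi i)
    (hri : ∀ i, RelProj.IsProjQMapOn (ui i) (pi i) (charti i) pL chartL (RelProj.domQ (ui i) pL chartL) (ri i)) :
    ((∀ i, IsDominant (ri i)) → IsDominant r) ∧
      ((∀ i (U : Y.Opens), IsAffineOpen U → Function.Injective ((φ i).hom.app (op U)).hom) →
        IsDominant r → ∀ i, IsDominant (ri i)) := by
  classical
  refine ⟨fun hall => ?_, fun hinj hdom i => ?_⟩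
  · -- lifting homogeneous elements
    have push : ∀ (U : Y.Opens) (hU : IsAffineOpen U) (k : ℕ) (i i' : Λ) (hii : i ≤ i')
        (y : (𝒮i i).presheaf.obj (op U)), y ∈ (𝒮i i).deg U hU k →
        ∃ y' ∈ (𝒮i i').deg U hU k, ((φ i').hom.app (op U)).hom y' = ((φ i).hom.app (op U)).hom y := by
      intro U hU k i i' hii y hy
      refine ⟨((t i i' hii).hom.app (op U)).hom y, ht i i' hii U hU k y hy, ?_⟩
      have := congrArg (fun m => (m.hom.app (op U)).hom y) (hφt i i' hii)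
      exact this
    have lift : ∀ (U : Y.Opens) (hU : IsAffineOpen U) (k : ℕ) (x : 𝒮.presheaf.obj (op U)),
        x ∈ 𝒮.deg U hU k → ∀ i0 : Λ, ∃ i, i0 ≤ i ∧ ∃ y ∈ (𝒮i i).deg U hU k,
          ((φ i).hom.app (op U)).hom y = x := by
      intro U hU k x hx i0
      obtain ⟨i1, y1, hy1⟩ := hsurj U hU x
      obtain ⟨i, h0, h1⟩ := directed_of (· ≤ ·) i0 i1
      have hproj : ((φ i1).hom.app (op U)).hom (GradedRing.proj ((𝒮i i1).deg U hU) k y1) = x := by
        have h2 := GradedRingHom.map_directSumDecompose _ _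
          (RelProj.gradedHomAt (φ i1) (hφ i1) U hU) (x := y1) (i := k)
        have h2' : ((φ i1).hom.app (op U)).hom (GradedRing.proj ((𝒮i i1).deg U hU) k y1) =
          GradedRing.proj (𝒮.deg U hU) k (((φ i1).hom.app (op U)).hom y1) := h2
        rw [h2', hy1]
        exact DirectSum.decompose_of_mem_same _ hx
      obtain ⟨y', hy', hyy'⟩ := push U hU k i1 i h1 (GradedRing.proj ((𝒮i i1).deg U hU) k y1)
        (SetLike.coe_mem _)
      exact ⟨i, h0, y', hy', hyy'.trans hproj⟩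
    refine ⟨?_⟩
    rw [denseRange_iff_closure_range]
    apply Set.eq_univ_of_forall
    intro a
    rw [mem_closure_iff]
    intro V hV haV
    obtain ⟨U, hU0, haU, -⟩ := Opens.isBasis_iff_nbhd.mp (Y.isBasis_affineOpens)
      (show p.base a ∈ (⊤ : Y.Opens) from trivial)
    have hU : IsAffineOpen U := hU0
    have ha' : a ∈ (RelProj.emb p chart U hU).opensRange := by
      rw [Groth.Agent.Helper18.ProjQ.opensRange_emb]; exact haU
    obtain ⟨a₀, ha₀⟩ := ha'
    have hcov := Groth.Agent.Helper18.ProjQ.iSup_basicOpen_eq_top (ℬ := 𝒮.deg U hU)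
    have ha₀' : a₀ ∈ (⨆ s : (Σ i : ℕ+, 𝒮.deg U hU i), Proj.basicOpen (𝒮.deg U hU) (s.2 : _)) := by
      rw [hcov]; trivial
    obtain ⟨⟨d, ⟨f, hf⟩⟩, hat⟩ := Opens.mem_iSup.mp ha₀'
    dsimp only at hat
    rw [← Proj.opensRange_awayι _ _ hf d.pos] at hat
    obtain ⟨a₁, ha₁⟩ := hat
    -- a basic open around `a₁` inside the preimage of `V`
    have hV' : IsOpen ((Proj.awayι (𝒮.deg U hU) f hf d.pos ≫ RelProj.emb p chart U hU).base ⁻¹' V) :=
      hV.preimage (Scheme.Hom.continuous _)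
    have ha₁V : a₁ ∈ (Proj.awayι (𝒮.deg U hU) f hf d.pos ≫ RelProj.emb p chart U hU).base ⁻¹' V := by
      change (RelProj.emb p chart U hU).base ((Proj.awayι _ _ hf d.pos).base a₁) ∈ V
      rw [ha₁, ha₀]; exact haV
    obtain ⟨_, ⟨s, rfl⟩, ha₁s, hsV⟩ :=
      Opens.isBasis_iff_nbhd.mp PrimeSpectrum.isBasis_basic_opens
        (U := ⟨_, hV'⟩) (x := a₁) ha₁V
    obtain ⟨n, h, hh, rfl⟩ := HomogeneousLocalization.Away.mk_surjective _ hf s
    obtain ⟨ia, -, fa, hfa, hfa'⟩ := lift U hU d f hf (Classical.arbitrary Λ)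
    obtain ⟨i, hi, hi_, hhi, hhi'⟩ := lift U hU (n • (d : ℕ)) h hh ia
    obtain ⟨fi, hfi, hfi'⟩ := push U hU d ia i hi fa hfa
    set ψ := (RelProj.QGrHom.ofHom (φ i) (hφ i)).gradedAt U hU U hU
      (Groth.Agent.Helper18.ProjQ.le_id_preimage U) with hψ
    have e_f : ψ fi = f := by
      rw [hψ, Groth.Agent.Helper18.ProjQ.gradedAt_ofHom_same]; exact hfi'.trans hfa'
    have e_h : ψ hi_ = h := by
      rw [hψ, Groth.Agent.Helper18.ProjQ.gradedAt_ofHom_same]; exact hhi'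
    subst e_f
    subst e_h
    -- the factorization through `Proj(φ i)`
    obtain ⟨w, hw0⟩ := Groth.Agent.Helper18.ProjQ.exists_projQMapOn
      (u := RelProj.QGrHom.ofHom (φ i) (hφ i)) (hPi i) hP
    have hw : RelProj.IsProjQMapOn (RelProj.QGrHom.ofHom (φ i) (hφ i)) (pi i) (charti i) p chart
        (RelProj.domQ (RelProj.QGrHom.ofHom (φ i) (hφ i)) p chart) w :=
      fun U hU U' hU' hle d hd f hf _ => hw0 ⟨U, hU, U', hU', hle, d, hd, f, hf⟩
    obtain ⟨r₀, e1, e2⟩ := Groth.Agent.Helper18.ProjQ.exists_factor u r hr (φ i) (hφ i) (ui i)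
      (hui i) w hw (ri i) (hri i)
    have hle := Groth.Agent.Helper18.ProjQ.domQ_le u (φ i) (hφ i) (ui i) (hui i)
      (pL := pL) (chartL := chartL)
    let ci := Proj.awayι ((𝒮i i).deg U hU) fi hfi d.pos ≫ RelProj.emb (pi i) (charti i) U hU
    let si := HomogeneousLocalization.Away.mk ((𝒮i i).deg U hU) hfi n hi_ hhi
    have hmap : HomogeneousLocalization.Away.map ψ fi si =
        HomogeneousLocalization.Away.mk (𝒮.deg U hU) hf n (ψ hi_) hh :=
      HomogeneousLocalization.Away.map_mk ψ fi hfi n hi_ hhi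
    let Di : Set (Spec (CommRingCat.of (HomogeneousLocalization.Away ((𝒮i i).deg U hU) fi))) :=
      {z | si ∉ z.asIdeal}
    have hDi : IsOpen Di := (PrimeSpectrum.basicOpen si).2
    have hb₀ : (Spec.map (CommRingCat.ofHom (HomogeneousLocalization.Away.map ψ fi))).base a₁ ∈
        Di := by
      have h1 : HomogeneousLocalization.Away.map ψ fi si ∉ a₁.asIdeal := by
        rw [hmap]; exact ha₁s
      exact h1
    have hopen : IsOpen (ci.base '' Di) :=
      ci.isOpenEmbedding.isOpenMap _ hDi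
    obtain ⟨x, hx⟩ := (hall i).denseRange.exists_mem_open hopen ⟨_, _, hb₀, rfl⟩
    obtain ⟨b, hb, hbx⟩ := hx
    refine ⟨r.base ((PL.homOfLE hle).base x), ?_, _, rfl⟩
    set y₀ := r₀.base x with hy₀
    have hy1 : (RelProj.domQ (RelProj.QGrHom.ofHom (φ i) (hφ i)) p chart).ι.base y₀ =
        r.base ((PL.homOfLE hle).base x) := (congrArg (fun k => k.base x) e1).symm
    have hy2 : w.base y₀ = (ri i).base x := congrArg (fun k => k.base x) e2
    obtain ⟨i₀, z, hz⟩ := Groth.Agent.Helper18.ProjQ.exists_k'_of_mem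
      (u := RelProj.QGrHom.ofHom (φ i) (hφ i)) (p' := p) (chart' := chart) y₀
    have hwz : w.base y₀ = (i₀.v (RelProj.QGrHom.ofHom (φ i) (hφ i)) (pi i) (charti i)).base z := by
      have h2 : i₀.k' (RelProj.QGrHom.ofHom (φ i) (hφ i)) p chart ≫ w =
          i₀.v (RelProj.QGrHom.ofHom (φ i) (hφ i)) (pi i) (charti i) :=
        hw i₀.U i₀.hU i₀.U' i₀.hU' i₀.hle i₀.d i₀.hd i₀.f i₀.hf _
      rw [← hz, ← h2]; rfl
    have hyk : (RelProj.domQ (RelProj.QGrHom.ofHom (φ i) (hφ i)) p chart).ι.base y₀ =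
        (i₀.k (RelProj.QGrHom.ofHom (φ i) (hφ i)) p chart).base z := by
      rw [← hz, ← Groth.Agent.Helper18.ProjQ.QIdx.k'_ι
        (u := RelProj.QGrHom.ofHom (φ i) (hφ i)) (p' := p) (chart' := chart) i₀]; rfl
    let jv : Groth.Agent.Helper18.ProjQ.QIdx (𝟙 Y) (𝒮i i) :=
      ⟨U, hU, U, hU, Groth.Agent.Helper18.ProjQ.le_id_preimage U, d, d.pos, fi, hfi⟩
    have hover := Groth.Agent.Helper18.ProjQ.projQMapOn_comp_p (hPi i) hP w hw
    have hcib : (pi i).base (ci.base b) ∈ U := by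
      have : ci.base b ∈ (RelProj.emb (pi i) (charti i) U hU).opensRange := ⟨_, rfl⟩
      rw [Groth.Agent.Helper18.ProjQ.opensRange_emb] at this
      exact this
    have hpU : p.base ((i₀.k (RelProj.QGrHom.ofHom (φ i) (hφ i)) p chart).base z) ∈ U := by
      have h3 := congrArg (fun k => k.base y₀) hover
      have h4 : (pi i).base (w.base y₀) =
          p.base ((RelProj.domQ (RelProj.QGrHom.ofHom (φ i) (hφ i)) p chart).ι.base y₀) := h3
      rw [← hyk, ← h4, hy2, ← hbx]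
      exact hcib
    have hInD : jv.InD (pi i) (charti i)
        ((i₀.v (RelProj.QGrHom.ofHom (φ i) (hφ i)) (pi i) (charti i)).base z) := by
      refine ⟨(Proj.awayι _ fi hfi d.pos).base b, ?_, ?_⟩
      · change _ ∈ Proj.basicOpen ((𝒮i i).deg U hU) fi
        rw [← Proj.opensRange_awayι _ _ hfi d.pos]; exact ⟨b, rfl⟩
      · rw [← hwz, hy2, ← hbx]; rfl
    obtain ⟨y₁, hy₁⟩ := Groth.Agent.Helper18.ProjQ.mem_range_k_of_inD (hPi i) hP i₀ jv z hpU hInD
    have hy₀k : y₀ = (jv.k' (RelProj.QGrHom.ofHom (φ i) (hφ i)) p chart).base y₁ := by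
      apply (RelProj.domQ (RelProj.QGrHom.ofHom (φ i) (hφ i)) p chart).ι.isOpenEmbedding.injective
      rw [hyk, ← hy₁, ← Groth.Agent.Helper18.ProjQ.QIdx.k'_ι
        (u := RelProj.QGrHom.ofHom (φ i) (hφ i)) (p' := p) (chart' := chart) jv]
      rfl
    have hwy₁ : w.base y₀ = ci.base
        ((Spec.map (CommRingCat.ofHom (HomogeneousLocalization.Away.map ψ fi))).base y₁) := by
      have h2 : jv.k' (RelProj.QGrHom.ofHom (φ i) (hφ i)) p chart ≫ w =
          jv.v (RelProj.QGrHom.ofHom (φ i) (hφ i)) (pi i) (charti i) :=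
        hw jv.U jv.hU jv.U' jv.hU' jv.hle jv.d jv.hd jv.f jv.hf _
      rw [hy₀k, ← Scheme.Hom.comp_apply, h2]
      rfl
    have hb' : (Spec.map (CommRingCat.ofHom (HomogeneousLocalization.Away.map ψ fi))).base y₁ = b := by
      apply ci.isOpenEmbedding.injective
      rw [← hwy₁, hy2, hbx]
    have hy₁D : y₁ ∈ PrimeSpectrum.basicOpen
        (HomogeneousLocalization.Away.mk (𝒮.deg U hU) hf n (ψ hi_) hh) := by
      have h1 : HomogeneousLocalization.Away.map ψ fi si ∉ y₁.asIdeal := by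
        have : (Spec.map (CommRingCat.ofHom (HomogeneousLocalization.Away.map ψ fi))).base y₁ ∈ Di := by
          rw [hb']; exact hb
        exact this
      rw [hmap] at h1
      exact h1
    have hfinal := hsV hy₁D
    rw [← hy1, hyk, ← hy₁]
    exact hfinal
  · exact Groth.Agent.S12149.result q L hL hLq 𝒮 𝒮L j hj u p chart hP pL chartL hPL r hr (𝒮i i) (φ i)
      (hφ i) (ui i) (hui i) (pi i) (charti i) (hPi i) (ri i) (hri i)
      ⟨0, fun k _ U hU x _ hx => hinj i U hU (hx.trans (map_zero _).symm)⟩ hdom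

end Groth.Agent.S12160
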