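import Groth.Statements.S12161
import Groth.Agent.Lib.Helper18.SymAlg14
import Groth.Agent.S12143

set_option autoImplicit false
universe u
open CategoryTheory CategoryTheory.Limits AlgebraicGeometry TopologicalSpace Opposite
open scoped HomogeneousIdeal
noncomputable section
open EGA2

namespace Groth.Agent.S12161

/-- Let Y be a quasi-compact scheme, q : X → Y a quasi-compact morphism, L an invertible O_X-module with
𝒮L = ⊕ L^{⊗n} (whose Proj is X), 𝒮 = colim 𝒮^i a filtered colimit of quasi-coherent positively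
graded O_Y-algebras along graded homomorphisms φ_i : 𝒮^i → 𝒮 (colimit taken on sections over affine
opens), ψ♭ = u : 𝒮 → q_*𝒮L a graded q-morphism and ψ_i♭ = u ∘ φ_i, with q of finite type; let r =
r_{L,ψ} : G(ψ) → Proj(𝒮) and r_i = r_{L,ψ_i} : G(ψ_i) → Proj(𝒮^i). Then r is everywhere defined and
an immersion if and only if some r_i is, and then so is r_j for all j ≥ i. -/
theorem result {Y X P PL : Scheme.{u}} (q : X ⟶ Y)
    (L : X.Modules) (hL : PicF.IsInvertible L) (hLq : Coh.IsQCoh L)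
    (𝒮 : RelProj.QCGrAlg Y) (𝒮L : RelProj.QCGrAlg X) (j : L ⟶ 𝒮L.toModule) (hj : RelProj.IsGrSymAlg L 𝒮L j)
    (u : RelProj.QGrHom q 𝒮 𝒮L)
    (p : P ⟶ Y) (chart : ∀ (U : Y.Opens) (hU : IsAffineOpen U), (((p ⁻¹ᵁ U : P.Opens) : Scheme.{u}) ≅ Proj (𝒮.deg U hU)))
    (hP : RelProj.IsRelProj 𝒮 p chart)
    (pL : PL ⟶ X) (chartL : ∀ (U : X.Opens) (hU : IsAffineOpen U), (((pL ⁻¹ᵁ U : PL.Opens) : Scheme.{u}) ≅ Proj (𝒮L.deg U hU)))
    (hPL : RelProj.IsRelProj 𝒮L pL chartL)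
    [CompactSpace Y] [QuasiCompact q] [LocallyOfFiniteType q]
    (r : ((RelProj.domQ u pL chartL : PL.Opens) : Scheme.{u}) ⟶ P)
    (hr : RelProj.IsProjQMapOn u p chart pL chartL (RelProj.domQ u pL chartL) r)
    (Λ : Type u) [Preorder Λ] [IsDirected Λ (· ≤ ·)] [Nonempty Λ]
    (𝒮i : Λ → RelProj.QCGrAlg Y) (φ : ∀ i, (𝒮i i).toQCAlg ⟶ 𝒮.toQCAlg) (hφ : ∀ i, RelProj.IsGradedHom (φ i))
    (t : ∀ i j, i ≤ j → ((𝒮i i).toQCAlg ⟶ (𝒮i j).toQCAlg)) (ht : ∀ i j (h : i ≤ j), RelProj.IsGradedHom (t i j h))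
    (hφt : ∀ i j (h : i ≤ j), t i j h ≫ φ j = φ i)
    (hsurj : ∀ (U : Y.Opens), IsAffineOpen U → ∀ x : 𝒮.presheaf.obj (op U),
      ∃ (i : Λ) (y : (𝒮i i).presheaf.obj (op U)), ((φ i).hom.app (op U)).hom y = x)
    (hker : ∀ (U : Y.Opens), IsAffineOpen U → ∀ (i : Λ) (y : (𝒮i i).presheaf.obj (op U)),
      ((φ i).hom.app (op U)).hom y = 0 → ∃ (j : Λ) (h : i ≤ j), ((t i j h).hom.app (op U)).hom y = 0)
    (ui : ∀ i, RelProj.QGrHom q (𝒮i i) 𝒮L) (hui : ∀ i (U : Y.Opens), (ui i).app U = (φ i).hom.app (op U) ≫ u.app U)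
    (Pi : Λ → Scheme.{u}) (pi : ∀ i, Pi i ⟶ Y)
    (charti : ∀ i (U : Y.Opens) (hU : IsAffineOpen U), ((((pi i) ⁻¹ᵁ U : (Pi i).Opens) : Scheme.{u}) ≅ Proj ((𝒮i i).deg U hU)))
    (hPi : ∀ i, RelProj.IsRelProj (𝒮i i) (pi i) (charti i))
    (ri : ∀ i, ((RelProj.domQ (ui i) pL chartL : PL.Opens) : Scheme.{u}) ⟶ Pi i)
    (hri : ∀ i, RelProj.IsProjQMapOn (ui i) (pi i) (charti i) pL chartL (RelProj.domQ (ui i) pL chartL) (ri i)) :
    ((RelProj.domQ u pL chartL = ⊤ ∧ IsImmersion r) ↔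
        ∃ i, RelProj.domQ (ui i) pL chartL = ⊤ ∧ IsImmersion (ri i)) ∧
      ∀ i, (RelProj.domQ (ui i) pL chartL = ⊤ ∧ IsImmersion (ri i)) →
        ∀ j, i ≤ j → RelProj.domQ (ui j) pL chartL = ⊤ ∧ IsImmersion (ri j) := by
  classical
  haveI : L.IsQuasicoherent := hLq
  haveI hiso : IsIso pL := Groth.Agent.S12143.result L hL hLq 𝒮L j hj pL chartL hPL
  open Groth.Agent.Helper18 Groth.Agent.Helper18.SymAlg Groth.Agent.Helper18.ProjQ in
  have hback : ∀ i, (RelProj.domQ (ui i) pL chartL = ⊤ ∧ IsImmersion (ri i)) →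
      (RelProj.domQ u pL chartL = ⊤ ∧ IsImmersion r) := by
    rintro i ⟨h1, h2⟩
    exact domQ_top_isImmersion_of_comp u hP r hr (φ i) (hφ i) (ui i) (hui i) (hPi i) (ri i) (hri i)
      h1 h2
  open Groth.Agent.Helper18 Groth.Agent.Helper18.SymAlg Groth.Agent.Helper18.ProjQ in
  have hmono : ∀ i, (RelProj.domQ (ui i) pL chartL = ⊤ ∧ IsImmersion (ri i)) →
      ∀ j, i ≤ j → RelProj.domQ (ui j) pL chartL = ⊤ ∧ IsImmersion (ri j) := by
    rintro i ⟨h1, h2⟩ k hik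
    refine domQ_top_isImmersion_of_comp (ui k) (hPi k) (ri k) (hri k) (t i k hik) (ht i k hik)
      (ui i) ?_ (hPi i) (ri i) (hri i) h1 h2
    intro U
    rw [hui i U, hui k U, ← hφt i k hik, ← Category.assoc]
    rfl
  refine ⟨⟨?_, fun ⟨i, hi⟩ => hback i hi⟩, hmono⟩
  rintro ⟨hG, himm⟩
  open Groth.Agent.Helper18 Groth.Agent.Helper18.SymAlg Groth.Agent.Helper18.ProjQ in
  have hloc : ∀ x : PL, ∃ (U : Y.Opens) (hU : IsAffineOpen U) (n : ℕ) (_ : 0 < n)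
      (s : 𝒮.presheaf.obj (op U)) (_ : s ∈ 𝒮.deg U hU n),
      pL.base x ∈ XTU 𝒮L u U n s ∧ IsAffineOpen (XTU 𝒮L u U n s) ∧
      ∃ i₀, ∀ i, i₀ ≤ i → ∃ s_i ∈ (𝒮i i).deg U hU n, ((φ i).hom.app (op U)).hom s_i = s ∧
        Cond3 𝒮L (ui i) U hU (XTU 𝒮L u U n s) (XTU_le 𝒮L u U n s) n s_i := by
    intro x
    obtain ⟨U, hU, n, hn, s, hs, hx, haff, h3⟩ :=
      exists_local_data_of_isImmersion L hL 𝒮L j hj u hP hPL r hr hG x
    refine ⟨U, hU, n, hn, s, hs, hx, haff, ?_⟩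
    exact cond3_transfer 𝒮L u φ hφ t ht hφt hsurj ui hui U hU (XTU 𝒮L u U n s) haff
      (XTU_le 𝒮L u U n s) (q.finiteType_appLE hU haff _) n s hs h3
  choose UU hUU nn hnn ss hss hxX haff i0 hi0 using hloc
  have hcompX : CompactSpace X := QuasiCompact.compactSpace_of_compactSpace q
  have hcompPL : CompactSpace PL := by
    have := (Scheme.Hom.homeomorph pL).symm.compactSpace
    exact this
  open Groth.Agent.Helper18 Groth.Agent.Helper18.SymAlg Groth.Agent.Helper18.ProjQ in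
  obtain ⟨F, hF⟩ := isCompact_univ.elim_finite_subcover
    (fun x : PL => ((pL ⁻¹ᵁ XTU 𝒮L u (UU x) (nn x) (ss x) : PL.Opens) : Set PL))
    (fun x => (pL ⁻¹ᵁ XTU 𝒮L u (UU x) (nn x) (ss x)).isOpen)
    (fun x _ => Set.mem_iUnion.mpr ⟨x, hxX x⟩)
  obtain ⟨i, hi⟩ := Finset.exists_le (F.image i0)
  have hdata := fun x : F => hi0 x.1 i (hi _ (Finset.mem_image_of_mem i0 x.2))
  choose si hsi hφsi hc3 using hdata
  refine ⟨i, ?_⟩
  open Groth.Agent.Helper18 Groth.Agent.Helper18.SymAlg Groth.Agent.Helper18.ProjQ in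
  have hXeq : ∀ x : F, XTU 𝒮L (ui i) (UU x.1) (nn x.1) (si x) =
      XTU 𝒮L u (UU x.1) (nn x.1) (ss x.1) := by
    intro x
    rw [XTU_ui_eq 𝒮L u φ ui hui, hφsi x]
  open Groth.Agent.Helper18 Groth.Agent.Helper18.SymAlg Groth.Agent.Helper18.ProjQ in
  refine domQ_top_isImmersion_of_family L hL 𝒮L j hj (ui i) (hPi i) hPL (ri i) (hri i)
    (fun x : F => UU x.1) (fun x => hUU x.1) (fun x => nn x.1) (fun x => hnn x.1) si hsi ?_ ?_ ?_
  · rw [eq_top_iff]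
    intro x _
    obtain ⟨x₁, rfl⟩ := pL.surjective x
    have hx₁ := hF (Set.mem_univ x₁)
    simp only [Set.mem_iUnion] at hx₁
    obtain ⟨a, ha, hxa⟩ := hx₁
    refine Opens.mem_iSup.mpr ⟨⟨a, ha⟩, ?_⟩
    rw [hXeq ⟨a, ha⟩]
    exact hxa
  · intro x
    rw [hXeq x]
    exact haff x.1
  · intro x
    exact (hc3 x).congr_open _ _ _ (hXeq x) _

end Groth.Agent.S12161
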