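import Groth.Statements.S12165
import Groth.Agent.Lib.Helper18.ProjQ

set_option autoImplicit false
universe u
open CategoryTheory CategoryTheory.Limits AlgebraicGeometry TopologicalSpace Opposite
open scoped HomogeneousIdeal
noncomputable section
open EGA2

namespace Groth.Agent.S12165

/-- Let φ : 𝒜 → ℬ be a (TN)-surjective graded homomorphism of quasi-coherent positively graded
O_Y-algebras (φ : 𝒜_k → ℬ_k surjective for all large k, on sections over affine opens), PA =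
Proj(𝒜), PB = Proj(ℬ) with their charts. Then Proj(φ) is defined on all of PB and is a closed
immersion PB → PA. -/
theorem result {Y PA PB : Scheme.{u}} (𝒜 ℬ : RelProj.QCGrAlg Y)
    (φ : 𝒜.toQCAlg ⟶ ℬ.toQCAlg) (hφ : RelProj.IsGradedHom φ)
    (hTN : ∃ n : ℕ, ∀ k, n ≤ k → ∀ (U : Y.Opens) (hU : IsAffineOpen U), ∀ y ∈ ℬ.deg U hU k,
      ∃ x ∈ 𝒜.deg U hU k, (φ.hom.app (op U)).hom x = y)
    (pA : PA ⟶ Y) (chartA : ∀ (U : Y.Opens) (hU : IsAffineOpen U), (((pA ⁻¹ᵁ U : PA.Opens) : Scheme.{u}) ≅ Proj (𝒜.deg U hU)))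
    (hA : RelProj.IsRelProj 𝒜 pA chartA)
    (pB : PB ⟶ Y) (chartB : ∀ (U : Y.Opens) (hU : IsAffineOpen U), (((pB ⁻¹ᵁ U : PB.Opens) : Scheme.{u}) ≅ Proj (ℬ.deg U hU)))
    (hB : RelProj.IsRelProj ℬ pB chartB) :
    RelProj.domQ (RelProj.QGrHom.ofHom φ hφ) pB chartB = ⊤ ∧
      ∀ h : PB ⟶ PA, RelProj.IsProjQMap (RelProj.QGrHom.ofHom φ hφ) pA chartA pB chartB h →
        IsClosedImmersion h := by
  classical
  obtain ⟨n, hn⟩ := hTN
  have hle := fun U : Y.Opens => Groth.Agent.Helper18.ProjQ.le_id_preimage U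
  have hTN' : ∀ (U : Y.Opens) (hU : IsAffineOpen U),
      Groth.Agent.Helper18.ProjQ.TNSurj
        ((RelProj.QGrHom.ofHom φ hφ).gradedAt U hU U hU (hle U)) := by
    intro U hU
    refine ⟨n, fun k hk y hy => ?_⟩
    obtain ⟨x, hx, hxy⟩ := hn k hk U hU y hy
    exact ⟨x, hx, by rw [Groth.Agent.Helper18.ProjQ.gradedAt_ofHom_same]; exact hxy⟩
  have hdom : ∀ (U : Y.Opens) (hU : IsAffineOpen U),
      RelCone.domOpen ((RelProj.QGrHom.ofHom φ hφ).gradedAt U hU U hU (hle U)) = ⊤ :=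
    fun U hU => Groth.Agent.Helper18.ProjQ.domOpen_eq_top_of_TN _ (hTN' U hU)
  refine ⟨Groth.Agent.Helper18.ProjQ.domQ_eq_top_of_forall _ pB chartB hle hdom, ?_⟩
  intro h hh
  have D := Groth.Agent.Helper18.ProjQ.ChartData.ofGlobal (RelProj.QGrHom.ofHom φ hφ)
    pA chartA pB chartB hle h
    (fun U hU d hd f hf => hh.2 U hU U hU (hle U) d hd f hf) hdom
  refine D.of_local (P := @IsClosedImmersion) hA hB ?_
  intro U hU d hd f hf
  exact IsClosedImmersion.spec_of_surjective _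
    (Groth.Agent.Helper18.ProjQ.awayMap_surjective_of_TN _ (hTN' U hU) hd f hf)


end Groth.Agent.S12165
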