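import Groth.Statements.S12166
import Groth.Agent.Lib.Helper18.ProjQ

set_option autoImplicit false
universe u
open CategoryTheory CategoryTheory.Limits AlgebraicGeometry TopologicalSpace Opposite
open scoped HomogeneousIdeal
noncomputable section
open EGA2

namespace Groth.Agent.S12166

/-- Let φ : 𝒜 → ℬ be a graded homomorphism of quasi-coherent positively graded O_Y-algebras which is a
(TN)-isomorphism (φ : 𝒜_k → ℬ_k bijective for all large k, on sections over affine opens), PA =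
Proj(𝒜), PB = Proj(ℬ) with their charts. Then Proj(φ) is defined on all of PB and is an isomorphism
PB → PA. -/
theorem result {Y PA PB : Scheme.{u}} (𝒜 ℬ : RelProj.QCGrAlg Y)
    (φ : 𝒜.toQCAlg ⟶ ℬ.toQCAlg) (hφ : RelProj.IsGradedHom φ)
    (hTN : ∃ n : ℕ, ∀ k, n ≤ k → ∀ (U : Y.Opens) (hU : IsAffineOpen U),
      (∀ x ∈ 𝒜.deg U hU k, (φ.hom.app (op U)).hom x = 0 → x = 0) ∧
        ∀ y ∈ ℬ.deg U hU k, ∃ x ∈ 𝒜.deg U hU k, (φ.hom.app (op U)).hom x = y)
    (pA : PA ⟶ Y) (chartA : ∀ (U : Y.Opens) (hU : IsAffineOpen U), (((pA ⁻¹ᵁ U : PA.Opens) : Scheme.{u}) ≅ Proj (𝒜.deg U hU)))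
    (hA : RelProj.IsRelProj 𝒜 pA chartA)
    (pB : PB ⟶ Y) (chartB : ∀ (U : Y.Opens) (hU : IsAffineOpen U), (((pB ⁻¹ᵁ U : PB.Opens) : Scheme.{u}) ≅ Proj (ℬ.deg U hU)))
    (hB : RelProj.IsRelProj ℬ pB chartB) :
    RelProj.domQ (RelProj.QGrHom.ofHom φ hφ) pB chartB = ⊤ ∧
      ∀ h : PB ⟶ PA, RelProj.IsProjQMap (RelProj.QGrHom.ofHom φ hφ) pA chartA pB chartB h → IsIso h := by
  classical
  obtain ⟨n, hn⟩ := hTN
  have hle := fun U : Y.Opens => Groth.Agent.Helper18.ProjQ.le_id_preimage U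
  have hTN' : ∀ (U : Y.Opens) (hU : IsAffineOpen U),
      Groth.Agent.Helper18.ProjQ.TNSurj
        ((RelProj.QGrHom.ofHom φ hφ).gradedAt U hU U hU (hle U)) := by
    intro U hU
    refine ⟨n, fun k hk y hy => ?_⟩
    obtain ⟨x, hx, hxy⟩ := (hn k hk U hU).2 y hy
    exact ⟨x, hx, by rw [Groth.Agent.Helper18.ProjQ.gradedAt_ofHom_same]; exact hxy⟩
  have hTNi : ∀ (U : Y.Opens) (hU : IsAffineOpen U),
      Groth.Agent.Helper18.ProjQ.TNInj
        ((RelProj.QGrHom.ofHom φ hφ).gradedAt U hU U hU (hle U)) := by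
    intro U hU
    refine ⟨n, fun k hk x hx hx0 => ?_⟩
    rw [Groth.Agent.Helper18.ProjQ.gradedAt_ofHom_same] at hx0
    exact (hn k hk U hU).1 x hx hx0
  have hdom : ∀ (U : Y.Opens) (hU : IsAffineOpen U),
      RelCone.domOpen ((RelProj.QGrHom.ofHom φ hφ).gradedAt U hU U hU (hle U)) = ⊤ :=
    fun U hU => Groth.Agent.Helper18.ProjQ.domOpen_eq_top_of_TN _ (hTN' U hU)
  refine ⟨Groth.Agent.Helper18.ProjQ.domQ_eq_top_of_forall _ pB chartB hle hdom, ?_⟩
  intro h hh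
  have D := Groth.Agent.Helper18.ProjQ.ChartData.ofGlobal (RelProj.QGrHom.ofHom φ hφ)
    pA chartA pB chartB hle h
    (fun U hU d hd f hf => hh.2 U hU U hU (hle U) d hd f hf) hdom
  refine D.of_local (P := MorphismProperty.isomorphisms Scheme.{u}) hA hB ?_
  intro U hU d hd f hf
  have : IsIso (CommRingCat.ofHom (HomogeneousLocalization.Away.map
      ((RelProj.QGrHom.ofHom φ hφ).gradedAt U hU U hU (hle U)) f)) := by
    rw [ConcreteCategory.isIso_iff_bijective]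
    exact ⟨Groth.Agent.Helper18.ProjQ.awayMap_injective_of_TN _ (hTNi U hU) hd f hf,
      Groth.Agent.Helper18.ProjQ.awayMap_surjective_of_TN _ (hTN' U hU) hd f hf⟩
  change IsIso _
  infer_instance


end Groth.Agent.S12166
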