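import Groth.Statements.S6919
import Groth.Agent.S6918
import Mathlib

set_option autoImplicit false
set_option linter.style.haveILetI false
set_option linter.unusedSectionVars false
universe u
open FlatMor

namespace Groth.Agent.S6919

section helpers
open TensorProduct

section AT

variable {R S S₂ N : Type u} [CommRing R] [CommRing S] [CommRing S₂]
  [Algebra R S] [Algebra S S₂] [Algebra R S₂] [IsScalarTower R S S₂]
  [AddCommGroup N] [Module R N] [Module S N] [IsScalarTower R S N]

/-- flatness over `R` descends along a faithfully flat extension of the ring acting on the module. -/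
theorem flat_of_faithfullyFlat_tensor [Module.FaithfullyFlat S S₂]
    (h : Module.Flat R (S₂ ⊗[S] N)) : Module.Flat R N := by
  rw [Module.Flat.iff_lTensor_preserves_injective_linearMap]
  intro A B _ _ _ _ f hf
  have h1 : Function.Injective (LinearMap.lTensor (S₂ ⊗[S] N) f) :=
    Module.Flat.lTensor_preserves_injective_linearMap f hf
  let g : N ⊗[R] A →ₗ[S] N ⊗[R] B := TensorProduct.AlgebraTensorModule.lTensor S N f
  have hg : ∀ x, g x = LinearMap.lTensor N f x := fun x => rfl
  suffices Function.Injective g from this
  rw [← Module.FaithfullyFlat.lTensor_injective_iff_injective S S₂]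
  have key : LinearMap.lTensor S₂ g =
      ((TensorProduct.AlgebraTensorModule.assoc R S S₂ S₂ N B).toLinearMap.restrictScalars S) ∘ₗ
        ((TensorProduct.AlgebraTensorModule.lTensor S₂ (S₂ ⊗[S] N) f).restrictScalars S) ∘ₗ
        ((TensorProduct.AlgebraTensorModule.assoc R S S₂ S₂ N A).symm.toLinearMap.restrictScalars S) := by
    ext s n a
    simp [g]
  rw [key]
  simp only [LinearMap.coe_comp, LinearMap.coe_restrictScalars, LinearEquiv.coe_coe]
  exact ((TensorProduct.AlgebraTensorModule.assoc R S S₂ S₂ N B).injective.comp h1).comp
    (TensorProduct.AlgebraTensorModule.assoc R S S₂ S₂ N A).symm.injective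

end AT

section PrimePO

variable {R S R' S' : Type u} [CommRing R] [CommRing S] [CommRing R'] [CommRing S']
    [Algebra R S] [Algebra R R'] [Algebra S S'] [Algebra R' S'] [Algebra R S'] [IsScalarTower R S S']
    [IsScalarTower R R' S'] [Algebra.IsPushout R S R' S']

theorem exists_prime_pushout (q : Ideal S) [q.IsPrime] (p' : Ideal R') [p'.IsPrime]
    (h : q.comap (algebraMap R S) = p'.comap (algebraMap R R')) :
    ∃ (q' : Ideal S') (_ : q'.IsPrime), q'.comap (algebraMap S S') = q ∧
      q'.comap (algebraMap R' S') = p' := by
  have sq := AlgebraicGeometry.isPullback_SpecMap_of_isPushout _ _ _ _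
    (CommRingCat.isPushout_of_isPushout R S R' S')
  obtain ⟨z, hz1, hz2⟩ := AlgebraicGeometry.Scheme.exists_preimage_of_isPullback sq
    (⟨q, inferInstance⟩ : PrimeSpectrum S) (⟨p', inferInstance⟩ : PrimeSpectrum R')
    (by
      apply PrimeSpectrum.ext
      exact h)
  refine ⟨z.asIdeal, z.isPrime, ?_, ?_⟩
  · exact congrArg PrimeSpectrum.asIdeal hz1
  · exact congrArg PrimeSpectrum.asIdeal hz2

end PrimePO

section SC
variable {R S R' S' : Type u} [CommRing R] [CommRing S] [CommRing R'] [CommRing S']
    [Algebra R S] [Algebra R R'] [Algebra S S'] [Algebra R' S'] [Algebra R S'] [IsScalarTower R S S']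
    [IsScalarTower R R' S'] [Algebra.IsPushout R S R' S']
    {M M' : Type u} [AddCommGroup M] [Module S M] [Module R M] [IsScalarTower R S M]
    [AddCommGroup M'] [Module S' M'] [Module R' M'] [IsScalarTower R' S' M'] [Module S M'] [IsScalarTower S S' M']
    [Module R M'] [IsScalarTower R S' M']
    (f : M →ₗ[S] M') (hf : IsBaseChange S' f)
    (q : Ideal S) [q.IsPrime] (q' : Ideal S') [q'.IsPrime] (hqq' : q = q'.comap (algebraMap S S'))

include hf hqq' in
theorem sc [Module.Flat R R'] (hP : Module.Flat R' (LocalizedModule q'.primeCompl M')) :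
    Module.Flat R (LocalizedModule q.primeCompl M) := by
  letI alg : Algebra (Localization.AtPrime q) (Localization.AtPrime q') :=
    (Localization.localRingHom q q' (algebraMap S S') hqq').toAlgebra
  have halg : ∀ x, algebraMap (Localization.AtPrime q) (Localization.AtPrime q') x =
      Localization.localRingHom q q' (algebraMap S S') hqq' x := fun x => rfl
  haveI t1 : IsScalarTower S (Localization.AtPrime q) (Localization.AtPrime q') := by
    apply IsScalarTower.of_algebraMap_eq
    intro x
    rw [halg, Localization.localRingHom_to_map, ← IsScalarTower.algebraMap_apply]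
  haveI t2 : IsScalarTower R (Localization.AtPrime q) (Localization.AtPrime q') := by
    apply IsScalarTower.of_algebraMap_eq
    intro x
    rw [IsScalarTower.algebraMap_apply R S (Localization.AtPrime q), halg,
      Localization.localRingHom_to_map, ← IsScalarTower.algebraMap_apply,
      ← IsScalarTower.algebraMap_apply]
  -- faithful flatness
  haveI fl1 : Module.Flat S S' :=
    Module.Flat.isBaseChange R S R' S' (Algebra.IsPushout.out (R := R) (S := S) (R' := R') (S' := S'))
  haveI fl2 : Module.Flat S (Localization.AtPrime q') := Module.Flat.trans S S' _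
  haveI fl3 : Module.Flat (Localization.AtPrime q) (Localization.AtPrime q') :=
    (Module.flat_iff_of_isLocalization (Localization.AtPrime q) q.primeCompl (Localization.AtPrime q')).mpr fl2
  haveI lh : IsLocalHom (algebraMap (Localization.AtPrime q) (Localization.AtPrime q')) :=
    Localization.isLocalHom_localRingHom q q' (algebraMap S S') hqq'
  haveI ff : Module.FaithfullyFlat (Localization.AtPrime q) (Localization.AtPrime q') :=
    Module.FaithfullyFlat.of_flat_of_isLocalHom
  -- module structures on P
  letI mP : Module (Localization.AtPrime q) (LocalizedModule q'.primeCompl M') :=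
    Module.compHom _ (algebraMap (Localization.AtPrime q) (Localization.AtPrime q'))
  have hmP : ∀ (a : Localization.AtPrime q) (x : LocalizedModule q'.primeCompl M'),
      a • x = (algebraMap (Localization.AtPrime q) (Localization.AtPrime q') a) • x := fun a x => rfl
  haveI t3 : IsScalarTower (Localization.AtPrime q) (Localization.AtPrime q')
      (LocalizedModule q'.primeCompl M') := by
    refine ⟨fun a b x => ?_⟩
    rw [hmP, Algebra.smul_def, mul_smul]
  haveI t4 : IsScalarTower S (Localization.AtPrime q) (LocalizedModule q'.primeCompl M') := by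
    refine ⟨fun s a x => ?_⟩
    rw [hmP, hmP, Algebra.smul_def, map_mul, mul_smul, ← IsScalarTower.algebraMap_apply,
      algebraMap_smul]
  -- base change maps
  have hmk : IsBaseChange (Localization.AtPrime q) (LocalizedModule.mkLinearMap q.primeCompl M) :=
    IsLocalizedModule.isBaseChange q.primeCompl _ _
  have hmk' : IsBaseChange (Localization.AtPrime q')
      (LocalizedModule.mkLinearMap q'.primeCompl M') :=
    IsLocalizedModule.isBaseChange q'.primeCompl _ _
  let g : M →ₗ[S] LocalizedModule q'.primeCompl M' :=
    ((LocalizedModule.mkLinearMap q'.primeCompl M').restrictScalars S).comp f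
  have hg : IsBaseChange (Localization.AtPrime q') g := IsBaseChange.comp hf hmk'
  let θ : LocalizedModule q.primeCompl M →ₗ[Localization.AtPrime q]
      LocalizedModule q'.primeCompl M' := hmk.lift g
  have hθg : (θ.restrictScalars S).comp (LocalizedModule.mkLinearMap q.primeCompl M) = g :=
    hmk.lift_comp g
  have hθ : IsBaseChange (Localization.AtPrime q') θ := by
    apply IsBaseChange.of_comp hmk
    rw [show ((θ : LocalizedModule q.primeCompl M →ₗ[S] LocalizedModule q'.primeCompl M') ∘ₗ
      LocalizedModule.mkLinearMap q.primeCompl M) = g from hθg]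
    exact hg
  have flP : Module.Flat R (LocalizedModule q'.primeCompl M') := Module.Flat.trans R R' _
  have e : (Localization.AtPrime q') ⊗[Localization.AtPrime q] (LocalizedModule q.primeCompl M)
      ≃ₗ[R] LocalizedModule q'.primeCompl M' := hθ.equiv.restrictScalars R
  have flX : Module.Flat R
      ((Localization.AtPrime q') ⊗[Localization.AtPrime q] (LocalizedModule q.primeCompl M)) :=
    Module.Flat.of_linearEquiv e
  exact flat_of_faithfullyFlat_tensor (R := R) (S := Localization.AtPrime q)
    (S₂ := Localization.AtPrime q') flX

end SC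

section GEN
variable {R S R' S' : Type u} [CommRing R] [CommRing S] [CommRing R'] [CommRing S']
    [Algebra R S] [Algebra R R'] [Algebra S S'] [Algebra R' S'] [Algebra R S'] [IsScalarTower R S S']
    [IsScalarTower R R' S'] [Algebra.IsPushout R S R' S']
    {M M' : Type u} [AddCommGroup M] [Module S M] [Module R M] [IsScalarTower R S M]
    [AddCommGroup M'] [Module S' M'] [Module R' M'] [IsScalarTower R' S' M'] [Module S M'] [IsScalarTower S S' M']

theorem gen (I' : Ideal R') (f : M →ₗ[S] M') (hf : IsBaseChange S' f) (J : Ideal S)
    (h : (∀ (q : Ideal S') [q.IsPrime], I'.map (algebraMap R' S') ⊔ J.map (algebraMap S S') ≤ q → FlatCA.FlatAt R' q M'))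
    (q : Ideal S) [q.IsPrime] (hJq : J ≤ q)
    (p' : Ideal R') [p'.IsPrime] (hI'p' : I' ≤ p')
    (hpp' : q.comap (algebraMap R S) = p'.comap (algebraMap R R'))
    (hfl : Module.Flat R (Localization.AtPrime p')) :
    Module.Flat R (LocalizedModule q.primeCompl M) := by
  obtain ⟨q', hq'prime, hq'q, hq'p'⟩ := exists_prime_pushout (S' := S') q p' hpp'
  -- R-module structure on M'
  letI mRM' : Module R M' := Module.compHom M' (algebraMap R S')
  have hmRM' : ∀ (r : R) (m : M'), r • m = algebraMap R S' r • m := fun r m => rfl
  haveI : IsScalarTower R S' M' := ⟨fun r s m => by rw [hmRM', Algebra.smul_def, mul_smul]⟩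
  -- the localized objects
  let T : Submonoid S' := Algebra.algebraMapSubmonoid S' p'.primeCompl
  haveI tw : IsScalarTower R (Localization.AtPrime p') (Localization T) := by
    apply IsScalarTower.of_algebraMap_eq
    intro x
    rw [IsScalarTower.algebraMap_apply R R' (Localization T),
      IsScalarTower.algebraMap_apply R' (Localization.AtPrime p') (Localization T),
      ← IsScalarTower.algebraMap_apply R R' (Localization.AtPrime p')]
  haveI po1 : Algebra.IsPushout R' S' (Localization.AtPrime p') (Localization T) :=
    Algebra.isPushout_of_isLocalization p'.primeCompl (Localization.AtPrime p') S' (Localization T)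
  letI mRp : Module (Localization.AtPrime p') (LocalizedModule T M') :=
    Module.compHom _ (algebraMap (Localization.AtPrime p') (Localization T))
  have hmRp : ∀ (a : Localization.AtPrime p') (x : LocalizedModule T M'),
      a • x = algebraMap _ (Localization T) a • x := fun _ _ => rfl
  haveI tRp : IsScalarTower (Localization.AtPrime p') (Localization T) (LocalizedModule T M') :=
    ⟨fun a b x => by rw [hmRp, Algebra.smul_def, mul_smul]⟩
  have hmkT : IsBaseChange (Localization T) (LocalizedModule.mkLinearMap T M') :=
    IsLocalizedModule.isBaseChange T _ _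
  have key := Groth.Agent.S6918.result (R := R') (S := S') (R' := Localization.AtPrime p')
    (S' := Localization T) I' (I'.map (algebraMap R' (Localization.AtPrime p'))) le_rfl
    (LocalizedModule.mkLinearMap T M') hmkT (J.map (algebraMap S S')) h
  -- the prime q''
  have hdisj : Disjoint (T : Set S') (q' : Set S') := by
    rw [Set.disjoint_left]
    rintro x ⟨r, hr, rfl⟩ hx
    apply hr
    have : r ∈ q'.comap (algebraMap R' S') := hx
    rwa [hq'p'] at this
  haveI hq''prime : (q'.map (algebraMap S' (Localization T))).IsPrime :=
    IsLocalization.isPrime_of_isPrime_disjoint T (Localization T) q' hq'prime hdisj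
  have hq''q' : (q'.map (algebraMap S' (Localization T))).comap (algebraMap S' (Localization T)) = q' :=
    IsLocalization.under_map_of_isPrime_disjoint T (Localization T) hq'prime hdisj
  have hle : (I'.map (algebraMap R' (Localization.AtPrime p'))).map
        (algebraMap (Localization.AtPrime p') (Localization T)) ⊔
      (J.map (algebraMap S S')).map (algebraMap S' (Localization T)) ≤
      q'.map (algebraMap S' (Localization T)) := by
    refine sup_le ?_ ?_
    · rw [Ideal.map_map, ← IsScalarTower.algebraMap_eq, IsScalarTower.algebraMap_eq R' S' (Localization T),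
        ← Ideal.map_map]
      apply Ideal.map_mono
      rw [Ideal.map_le_iff_le_comap, hq'p']
      exact hI'p'
    · apply Ideal.map_mono
      rw [Ideal.map_le_iff_le_comap, hq'q]
      exact hJq
  have hP := key (q'.map (algebraMap S' (Localization T))) hle
  -- the big pushout
  haveI po0 : Algebra.IsPushout R R' S S' := Algebra.IsPushout.symm inferInstance
  have po1' : Algebra.IsPushout R' (Localization.AtPrime p') S' (Localization T) :=
    Algebra.IsPushout.symm po1
  have po2 : Algebra.IsPushout R (Localization.AtPrime p') S (Localization T) :=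
    (Algebra.IsPushout.comp_iff R R' S (S' := S') (T := Localization.AtPrime p')
      (T' := Localization T)).mpr po1'
  haveI po3 : Algebra.IsPushout R S (Localization.AtPrime p') (Localization T) :=
    Algebra.IsPushout.symm po2
  have hf'' : IsBaseChange (Localization T)
      (((LocalizedModule.mkLinearMap T M').restrictScalars S).comp f) := IsBaseChange.comp hf hmkT
  have hqq'' : q = (q'.map (algebraMap S' (Localization T))).comap (algebraMap S (Localization T)) := by
    rw [IsScalarTower.algebraMap_eq S S' (Localization T), ← Ideal.comap_comap, hq''q', hq'q]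
  exact sc (R := R) (S := S) (R' := Localization.AtPrime p') (S' := Localization T)
    (((LocalizedModule.mkLinearMap T M').restrictScalars S).comp f) hf'' q
    (q'.map (algebraMap S' (Localization T))) hqq'' hP

end GEN

end helpers

/-- Let `R → S` be a ring map, `J ⊆ S` an ideal, `M` an `S`-module and `I ⊆ R` an ideal; let `R → R'` be
a ring map and `I' ⊆ R'` an ideal containing `IR'`, and put `S' = S ⊗_R R'`, `M' = M ⊗_R R'`. Assume
that every prime of `R` containing `I` is the contraction of a prime of `R'` containing `I'`, and
that `R'_{𝔭'}` is flat over `R` for every prime `𝔭' ⊇ I'`. If `M'_{𝔮'}` is flat over `R'` for every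
prime `𝔮' ⊇ I'S' + JS'` of `S'`, then `M_𝔮` is flat over `R` for every prime `𝔮 ⊇ IS + J` of `S`.
(The published statement descends from a pair `(R'', I'')` to an arbitrary pair `(R', I')` over `R`;
this row takes `(R', I') = (R, I)`.) -/
theorem result {R S R' S' : Type u} [CommRing R] [CommRing S] [CommRing R'] [CommRing S']
    [Algebra R S] [Algebra R R'] [Algebra S S'] [Algebra R' S'] [Algebra R S'] [IsScalarTower R S S']
    [IsScalarTower R R' S'] [Algebra.IsPushout R S R' S']
    (I : Ideal R) (I' : Ideal R') (hII' : I.map (algebraMap R R') ≤ I')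
    {M M' : Type u} [AddCommGroup M] [Module S M] [Module R M] [IsScalarTower R S M]
    [AddCommGroup M'] [Module S' M'] [Module R' M'] [IsScalarTower R' S' M'] [Module S M'] [IsScalarTower S S' M']
    (f : M →ₗ[S] M') (hf : IsBaseChange S' f) (J : Ideal S)
    (hsurj : ∀ (p : Ideal R) [p.IsPrime], I ≤ p → ∃ (p' : Ideal R') (_ : p'.IsPrime), I' ≤ p' ∧ p'.comap (algebraMap R R') = p)
    (hflat : ∀ (p' : Ideal R') [p'.IsPrime], I' ≤ p' → Module.Flat R (Localization.AtPrime p'))
    (h : (∀ (q : Ideal S') [q.IsPrime], I'.map (algebraMap R' S') ⊔ J.map (algebraMap S S') ≤ q → FlatCA.FlatAt R' q M')) :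
    (∀ (q : Ideal S) [q.IsPrime], I.map (algebraMap R S) ⊔ J ≤ q → FlatCA.FlatAt R q M) := by
  intro q _ hq
  have hIq : I ≤ q.comap (algebraMap R S) := by
    rw [← Ideal.map_le_iff_le_comap]
    exact le_trans le_sup_left hq
  obtain ⟨p', hp', hI'p', hp'p⟩ := hsurj (q.comap (algebraMap R S)) hIq
  haveI := hp'
  unfold FlatCA.FlatAt
  exact gen I' f hf J h q (le_trans le_sup_right hq) p' hI'p' hp'p.symm (hflat p' hI'p')

end Groth.Agent.S6919
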