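import Groth.Statements.S1217
import Groth.Agent.Lib.Helper10.ImpBC
import Groth.Agent.S6919

set_option autoImplicit false
universe u

set_option linter.style.haveILetI false
set_option linter.unusedSectionVars false
set_option linter.unusedSimpArgs false
open FlatMor

namespace Groth.Agent.S1217

open TensorProduct Groth.Agent.Helper10.ImpBC

section helpers

attribute [local instance] Algebra.TensorProduct.rightAlgebra in
/-- primes of `A' ⊗[A] A₁` over `p'` and over a chain `t'₁ ≤ t₁`. -/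
theorem gd_primes {A A' A₁ : Type u} [CommRing A] [CommRing A'] [CommRing A₁] [Algebra A A'] [Algebra A A₁]
    (p : Ideal A) [p.IsPrime] (p' : Ideal A') [p'.IsPrime] [p'.LiesOver p]
    [Module.Flat A (Localization.AtPrime p')]
    (t'₁ t₁ : Ideal A₁) [t'₁.IsPrime] [t₁.IsPrime] [t₁.LiesOver p] (hle : t'₁ ≤ t₁) :
    ∃ (T' T : Ideal (A' ⊗[A] A₁)) (_ : T'.IsPrime) (_ : T.IsPrime), T' ≤ T ∧ T.LiesOver p' ∧
      T.LiesOver t₁ ∧ T'.LiesOver t'₁ := by
  -- the flat `A₁`-algebra `C`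
  let L := Localization.AtPrime p'
  let C := A₁ ⊗[A] L
  have hcomap : t₁.comap (algebraMap A A₁) =
      (IsLocalRing.maximalIdeal L).comap (algebraMap A L) := by
    have h1 : (IsLocalRing.maximalIdeal L).comap (algebraMap A' L) = p' :=
      IsLocalization.AtPrime.under_maximalIdeal L p'
    rw [IsScalarTower.algebraMap_eq A A' L, ← Ideal.comap_comap, h1, ← Ideal.under_def,
      ← Ideal.under_def, ← Ideal.over_def t₁ p, ← Ideal.over_def p' p]
  obtain ⟨TC, hTC, hTC1, hTC2⟩ := Groth.Agent.S6919.exists_prime_pushout (R := A) (S := A₁) (R' := L)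
    (S' := C) t₁ (IsLocalRing.maximalIdeal L) hcomap
  haveI := hTC
  haveI : TC.LiesOver t₁ := ⟨hTC1.symm⟩
  obtain ⟨TC', hTC'le, hTC'prime, hTC'over⟩ :=
    Ideal.exists_ideal_le_liesOver_of_le (p := t'₁) (q := t₁) TC hle
  haveI := hTC'prime
  -- the map `A' ⊗ A₁ → C`
  let ψ : A' ⊗[A] A₁ →ₐ[A] C :=
    (Algebra.TensorProduct.map (AlgHom.id A A₁) (IsScalarTower.toAlgHom A A' L)).comp
      (Algebra.TensorProduct.comm A A' A₁).toAlgHom
  have hψ1 : ∀ a₁ : A₁, ψ (algebraMap A₁ (A' ⊗[A] A₁) a₁) = algebraMap A₁ C a₁ := by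
    intro a₁
    simp [ψ, Algebra.TensorProduct.right_algebraMap_apply, Algebra.TensorProduct.algebraMap_apply]
    rfl
  have hψ2 : ∀ a' : A', ψ (algebraMap A' (A' ⊗[A] A₁) a') = algebraMap L C (algebraMap A' L a') := by
    intro a'
    simp [ψ, Algebra.TensorProduct.right_algebraMap_apply, Algebra.TensorProduct.algebraMap_apply]
    rfl
  refine ⟨TC'.comap ψ.toRingHom, TC.comap ψ.toRingHom, Ideal.comap_isPrime _ _, Ideal.comap_isPrime _ _,
    Ideal.comap_mono hTC'le, ⟨?_⟩, ⟨?_⟩, ⟨?_⟩⟩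
  · ext a'
    rw [Ideal.under_def, Ideal.mem_comap, Ideal.mem_comap]
    show _ ↔ ψ (algebraMap A' (A' ⊗[A] A₁) a') ∈ TC
    rw [hψ2, ← Ideal.mem_comap, hTC2, IsLocalization.AtPrime.to_map_mem_maximal_iff L p']
  · ext a₁
    rw [Ideal.under_def, Ideal.mem_comap, Ideal.mem_comap]
    show _ ↔ ψ (algebraMap A₁ (A' ⊗[A] A₁) a₁) ∈ TC
    rw [hψ1, ← Ideal.mem_comap, hTC1]
  · ext a₁
    rw [Ideal.under_def, Ideal.mem_comap, Ideal.mem_comap]
    show _ ↔ ψ (algebraMap A₁ (A' ⊗[A] A₁) a₁) ∈ TC'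
    rw [hψ1, ← Ideal.mem_comap, ← Ideal.under_def, ← hTC'over.over]

attribute [local instance] Algebra.TensorProduct.rightAlgebra in
theorem univ_part {A B : Type u} [CommRing A] [CommRing B] [Algebra A B] [Algebra.FiniteType A B]
    (N : Type u) [AddCommGroup N] [Module B N] (p : Ideal A) [p.IsPrime]
    (A' B' N' : Type u) [CommRing A'] [CommRing B'] [Algebra A A'] [Algebra B B'] [Algebra A' B'] [Algebra A B']
    [IsScalarTower A B B'] [IsScalarTower A A' B'] [Algebra.IsPushout A B A' B']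
    [AddCommGroup N'] [Module B' N'] [Module B N'] [IsScalarTower B B' N'] (f : N →ₗ[B] N') (hf : IsBaseChange B' f)
    (p' : Ideal A') [p'.IsPrime] [p'.LiesOver p] [Module.Flat A (Localization.AtPrime p')]
    (hU : FlatCA.IsUnivPureAlong A' B' N' p') : FlatCA.IsUnivPureAlong A B N p := by
  intro A₁ B₁ N₁ _ _ _ _ _ _ _ _ _ _ _ _ _ _ f₁ t'₁ t₁ _ _ P₁ _ himp
  haveI : t₁.LiesOver p := himp.2.2.2.1
  obtain ⟨T', T, hT', hT, hle, hTp', hTt₁, hT't'₁⟩ := gd_primes p p' t'₁ t₁ himp.2.2.1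
  have hf₂ : IsBaseChange (B' ⊗[A'] (A' ⊗[A] A₁))
      (TensorProduct.mk B' (B' ⊗[A'] (A' ⊗[A] A₁)) N' 1) :=
    TensorProduct.isBaseChange B' N' (B' ⊗[A'] (A' ⊗[A] A₁))
  have key := construct N p A' B' N' f hf p' A₁ B₁ N₁ f₁ t'₁ t₁ P₁ himp
    (A' ⊗[A] A₁) (B' ⊗[A'] (A' ⊗[A] A₁)) ((B' ⊗[A'] (A' ⊗[A] A₁)) ⊗[B'] N')
  obtain ⟨P₂, hP₂, himp₂⟩ := key _ hf₂ T' T hle
  exact hU _ _ _ _ T' T P₂ himp₂
/-- residue field of a prime of a pushout over a prime with trivial residue extension. -/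
theorem residue_surj {A A' A₁ A₂ : Type u} [CommRing A] [CommRing A'] [CommRing A₁] [CommRing A₂]
    [Algebra A A'] [Algebra A A₁] [Algebra A A₂] [Algebra A' A₂] [Algebra A₁ A₂]
    [IsScalarTower A A' A₂] [IsScalarTower A A₁ A₂] [hpo : Algebra.IsPushout A A' A₁ A₂]
    (p : Ideal A) [p.IsPrime] (p' : Ideal A') [p'.IsPrime] (t₁ : Ideal A₁) [t₁.IsPrime]
    (T : Ideal A₂) [T.IsPrime]
    (hp'p : p = p'.comap (algebraMap A A')) (ht₁p : p = t₁.comap (algebraMap A A₁))
    (hTp' : p' = T.comap (algebraMap A' A₂)) (hTt₁ : t₁ = T.comap (algebraMap A₁ A₂))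
    (hsurj : Function.Surjective (Ideal.ResidueField.map p t₁ (algebraMap A A₁) ht₁p)) :
    Function.Surjective (Ideal.ResidueField.map p' T (algebraMap A' A₂) hTp') := by
  set φ := Ideal.ResidueField.map p' T (algebraMap A' A₂) hTp' with hφ
  set ψ := Ideal.ResidueField.map t₁ T (algebraMap A₁ A₂) hTt₁ with hψ
  set χ := Ideal.ResidueField.map p t₁ (algebraMap A A₁) ht₁p with hχ
  set χ' := Ideal.ResidueField.map p p' (algebraMap A A') hp'p with hχ'
  have hcomm : ψ.comp χ = φ.comp χ' := by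
    apply Ideal.ResidueField.ringHom_ext
    ext a
    simp only [RingHom.comp_apply, hφ, hψ, hχ, hχ', Ideal.ResidueField.map_algebraMap]
    rw [← IsScalarTower.algebraMap_apply A A₁ A₂, ← IsScalarTower.algebraMap_apply A A' A₂]
  have hmem : ∀ x : A₂, algebraMap A₂ T.ResidueField x ∈ φ.fieldRange := by
    intro x
    refine IsBaseChange.inductionOn hpo.out x (fun x => algebraMap A₂ T.ResidueField x ∈ φ.fieldRange)
      ?_ ?_ ?_ ?_
    · simp
    · intro a₁
      obtain ⟨y, hy⟩ := hsurj (algebraMap A₁ t₁.ResidueField a₁)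
      refine ⟨χ' y, ?_⟩
      have h1 : φ (χ' y) = ψ (χ y) := (congrArg (fun g => g y) hcomm).symm
      rw [h1, hy, hψ, Ideal.ResidueField.map_algebraMap]
      rfl
    · intro a' x hx
      rw [Algebra.smul_def, map_mul]
      refine mul_mem ⟨algebraMap A' p'.ResidueField a', ?_⟩ hx
      rw [hφ, Ideal.ResidueField.map_algebraMap]
    · intro x y hx hy
      rw [map_add]
      exact add_mem hx hy
  intro k
  obtain ⟨x, y, hy, rfl⟩ := IsFractionRing.div_surjective (A := A₂ ⧸ T) k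
  obtain ⟨x, rfl⟩ := Ideal.Quotient.mk_surjective x
  obtain ⟨y, rfl⟩ := Ideal.Quotient.mk_surjective y
  rw [Ideal.algebraMap_quotient_residueField_mk, Ideal.algebraMap_quotient_residueField_mk]
  have := div_mem (hmem x) (hmem y)
  exact this


attribute [local instance] Algebra.TensorProduct.rightAlgebra in
theorem pure_part {A B : Type u} [CommRing A] [CommRing B] [Algebra A B] [Algebra.FiniteType A B]
    (N : Type u) [AddCommGroup N] [Module B N] (p : Ideal A) [p.IsPrime]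
    (A' B' N' : Type u) [CommRing A'] [CommRing B'] [Algebra A A'] [Algebra B B'] [Algebra A' B'] [Algebra A B']
    [IsScalarTower A B B'] [IsScalarTower A A' B'] [Algebra.IsPushout A B A' B']
    [AddCommGroup N'] [Module B' N'] [Module B N'] [IsScalarTower B B' N'] (f : N →ₗ[B] N') (hf : IsBaseChange B' f)
    (p' : Ideal A') [p'.IsPrime] [hp'p : p'.LiesOver p] [Module.Flat A (Localization.AtPrime p')]
    (hP : FlatCA.IsPureAlong A' B' N' p') : FlatCA.IsPureAlong A B N p := by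
  intro A₁ B₁ N₁ _ _ _ _ _ _ _ _ _ _ _ _ _ _ f₁ t'₁ t₁ _ _ P₁ _ hetale himp
  haveI : t₁.LiesOver p := himp.2.2.2.1
  obtain ⟨T', T, hT', hT, hle, hTp', hTt₁, hT't'₁⟩ := gd_primes p p' t'₁ t₁ himp.2.2.1
  have hf₂ : IsBaseChange (B' ⊗[A'] (A' ⊗[A] A₁))
      (TensorProduct.mk B' (B' ⊗[A'] (A' ⊗[A] A₁)) N' 1) :=
    TensorProduct.isBaseChange B' N' (B' ⊗[A'] (A' ⊗[A] A₁))
  have key := construct N p A' B' N' f hf p' A₁ B₁ N₁ f₁ t'₁ t₁ P₁ himp
    (A' ⊗[A] A₁) (B' ⊗[A'] (A' ⊗[A] A₁)) ((B' ⊗[A'] (A' ⊗[A] A₁)) ⊗[B'] N')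
  obtain ⟨P₂, hP₂, himp₂⟩ := key _ hf₂ T' T hle
  refine hP _ _ _ _ T' T P₂ ?_ himp₂
  obtain ⟨het, hover, hbij⟩ := hetale
  haveI := het
  refine ⟨inferInstance, hTp', ⟨RingHom.injective _, ?_⟩⟩
  have := residue_surj (A₂ := A' ⊗[A] A₁) p p' t₁ T hp'p.over hover.over hTp'.over hTt₁.over hbij.2
  exact this

end helpers

/-- Ring form, X = Spec B affine: let B be a finite type A-algebra, N a finite B-module, p a prime of A,
and A' an A-algebra with a prime p' over p such that the local ring of A' at p' is flat over A. Let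
B', N' be the base changes of B, N to A'. If N' is pure along the fibre over p' then N is pure along
the fibre over p, and likewise for universal purity. -/
theorem result {A B : Type u} [CommRing A] [CommRing B] [Algebra A B] [Algebra.FiniteType A B]
    (N : Type u) [AddCommGroup N] [Module B N] [Module.Finite B N] (p : Ideal A) [p.IsPrime]
    (A' B' N' : Type u) [CommRing A'] [CommRing B'] [Algebra A A'] [Algebra B B'] [Algebra A' B'] [Algebra A B']
    [IsScalarTower A B B'] [IsScalarTower A A' B'] [Algebra.IsPushout A B A' B']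
    [AddCommGroup N'] [Module B' N'] [Module B N'] [IsScalarTower B B' N'] (f : N →ₗ[B] N') (hf : IsBaseChange B' f)
    (p' : Ideal A') [p'.IsPrime] [p'.LiesOver p] [Module.Flat A (Localization.AtPrime p')] :
    (FlatCA.IsPureAlong A' B' N' p' → FlatCA.IsPureAlong A B N p) ∧
    (FlatCA.IsUnivPureAlong A' B' N' p' → FlatCA.IsUnivPureAlong A B N p) := by
  exact ⟨pure_part N p A' B' N' f hf p', univ_part N p A' B' N' f hf p'⟩

end Groth.Agent.S1217
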