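import Groth.Statements.S12195
import Groth.Agent.Lib.Helper15.EtLift2

set_option autoImplicit false
universe u
open CategoryTheory CategoryTheory.Limits AlgebraicGeometry
open AlgSp

namespace Groth.Agent.S12195

open Groth.Agent.Helper15.EtLift

theorem result {S : Scheme.{u}} {F G H : AlgSp.Sp S} (a : F ⟶ G)
    (b : G ⟶ H) (ha : AlgSp.RepWith @Etale a) (ha' : AlgSp.RepWith @Surjective a)
    (hab : AlgSp.IsFormallySmoothMor (a ≫ b)) (sq : AlgSp.InfSq b) (t : ↥sq.ptT'.left) :
    ∃ (U' : Over S) (g : U' ⟶ sq.ptT') (l : (AlgSp.yon S).obj U' ⟶ G),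
      IsAffine U'.left ∧ Etale g.left ∧ (∃ u : ↥U'.left, g.left u = t) ∧
        l ≫ b = (AlgSp.yon S).map g ≫ sq.bot ∧
          ∀ (V : Over S) (p : V ⟶ sq.ptT) (q : V ⟶ U'), p ≫ sq.j = q ≫ g →
            (AlgSp.yon S).map q ≫ l = (AlgSp.yon S).map p ≫ sq.top := by
  classical
  -- notation
  obtain ⟨A, I, sqz, str, top, bot, comm⟩ := sq
  dsimp only [InfSq.ptT', InfSq.ptT, InfSq.j] at t ⊢
  have hI : I ≤ nilradical A := by
    intro x hx
    rw [mem_nilradical]
    refine ⟨2, ?_⟩
    have : x ^ 2 ∈ I ^ 2 := Ideal.pow_mem_pow hx 2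
    rw [sqz] at this
    exact this
  -- the point of T
  have hsurj : Function.Surjective (Spec.map (CommRingCat.ofHom (Ideal.Quotient.mk I))) :=
    specMap_surjective_of_ker_nil _ Ideal.Quotient.mk_surjective (by
      show RingHom.ker (Ideal.Quotient.mk I) ≤ _
      rw [Ideal.mk_ker]; exact hI)
  obtain ⟨t₀, ht₀⟩ := hsurj t
  -- pull back `a` along `top`
  have sqW := ha.rep.isPullback top
  set W := ha.rep.pullback top with hWdef
  set r := ha.rep.fst top with hr
  set g := ha.rep.snd top with hg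
  have hget : Etale g.left := ha.property_snd top
  have hgsurj : Surjective g.left := ha'.property_snd top
  obtain ⟨w, hw⟩ := hgsurj.surj t₀
  obtain ⟨B, _, _, _, m, hm1, ⟨x, hx⟩, -⟩ :=
    exists_etale_lift_affine I (W := W.left) g.left w ⊤ trivial
  have hpb := isPullback_spec_quot I B
  -- the new scheme
  let strB : Spec (.of B) ⟶ S := Spec.map (CommRingCat.ofHom (algebraMap A B)) ≫ str
  let U' : Over S := Over.mk strB
  let gU : U' ⟶ Over.mk str := Over.homMk (Spec.map (CommRingCat.ofHom (algebraMap A B))) rfl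
  let ZB : Over S := Over.mk (Spec.map (CommRingCat.ofHom
    (Ideal.Quotient.mk (I.map (algebraMap A B)))) ≫ strB)
  let jB : ZB ⟶ U' := Over.homMk (Spec.map (CommRingCat.ofHom
    (Ideal.Quotient.mk (I.map (algebraMap A B))))) rfl
  have hmW : m ≫ W.hom = ZB.hom := by
    have h1 : g.left ≫ (Spec.map (CommRingCat.ofHom (Ideal.Quotient.mk I)) ≫ str) = W.hom :=
      Over.w g
    rw [← h1, ← Category.assoc, hm1, ← Category.assoc, hpb.w, Category.assoc]
    rfl
  let mW : ZB ⟶ W := Over.homMk m hmW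
  have hcomm : mW ≫ g ≫ (Over.homMk (Spec.map (CommRingCat.ofHom (Ideal.Quotient.mk I))) rfl :
      Over.mk (Spec.map (CommRingCat.ofHom (Ideal.Quotient.mk I)) ≫ str) ⟶ Over.mk str) =
      jB ≫ gU := by
    apply Over.OverMorphism.ext
    show m ≫ g.left ≫ Spec.map (CommRingCat.ofHom (Ideal.Quotient.mk I)) = _
    rw [← Category.assoc, hm1, hpb.w]
    rfl
  have hsqz : (I.map (algebraMap A B)) ^ 2 = ⊥ := by
    rw [← Ideal.map_pow, sqz, Ideal.map_bot]
  let sq' : InfSq (a ≫ b) :=
    { A := B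
      I := I.map (algebraMap A B)
      sq_zero := hsqz
      str := strB
      top := (yon S).map mW ≫ r
      bot := (yon S).map gU ≫ bot
      comm := by
        show ((yon S).map mW ≫ r) ≫ a ≫ b = (yon S).map jB ≫ (yon S).map gU ≫ bot
        rw [Category.assoc, ← Category.assoc r, sqW.w, Category.assoc, comm,
          ← Functor.map_comp_assoc, ← Functor.map_comp_assoc, ← Functor.map_comp_assoc,
          Category.assoc, hcomm] }
  obtain ⟨l', hl1, hl2⟩ := hab sq'
  change (yon S).obj U' ⟶ F at l'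
  change (yon S).map jB ≫ l' = (yon S).map mW ≫ r at hl1
  change l' ≫ a ≫ b = (yon S).map gU ≫ bot at hl2
  refine ⟨U', gU, l' ≫ a, ?_, ?_, ?_, ?_, ?_⟩
  · show IsAffine (Spec (.of B))
    infer_instance
  · show Etale (Spec.map (CommRingCat.ofHom (algebraMap A B)))
    rw [HasRingHomProperty.Spec_iff (P := @Etale)]
    exact RingHom.etale_algebraMap.2 inferInstance
  · refine ⟨Spec.map (CommRingCat.ofHom (Ideal.Quotient.mk (I.map (algebraMap A B)))) x, ?_⟩
    show Spec.map (CommRingCat.ofHom (algebraMap A B)) _ = t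
    rw [← Scheme.Hom.comp_apply, ← hpb.w, ← hm1, Scheme.Hom.comp_apply, Scheme.Hom.comp_apply,
      hx, hw, ht₀]
  · rw [Category.assoc, hl2]
  · intro V p q hpq
    have h0 : p.left ≫ Spec.map (CommRingCat.ofHom (Ideal.Quotient.mk I)) =
        q.left ≫ Spec.map (CommRingCat.ofHom (algebraMap A B)) :=
      congrArg (fun k => k.left) hpq
    let rr := hpb.lift p.left q.left h0
    have hrr1 : rr ≫ Spec.map (CommRingCat.ofHom (qm I B)) = p.left := hpb.lift_fst _ _ _
    have hrr2 : rr ≫ Spec.map (CommRingCat.ofHom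
      (Ideal.Quotient.mk (I.map (algebraMap A B)))) = q.left := hpb.lift_snd _ _ _
    have hrrw : rr ≫ ZB.hom = V.hom := by
      show rr ≫ (Spec.map _ ≫ strB) = _
      rw [← Category.assoc, hrr2]
      exact Over.w q
    let rO : V ⟶ ZB := Over.homMk rr hrrw
    have e1 : rO ≫ jB = q := by
      apply Over.OverMorphism.ext
      exact hrr2
    have e2 : rO ≫ mW ≫ g = p := by
      apply Over.OverMorphism.ext
      show rr ≫ m ≫ g.left = p.left
      rw [hm1, hrr1]
    rw [← e1, Functor.map_comp, Category.assoc, ← Category.assoc _ l' a, hl1, Category.assoc,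
      sqW.w, ← Functor.map_comp_assoc, ← Functor.map_comp_assoc, Category.assoc, e2]

end Groth.Agent.S12195
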