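import Mathlib
import Groth.Statements.S12199
import Groth.Agent.Lib.Helper15.GrpLocus

set_option autoImplicit false
universe u
open CategoryTheory CategoryTheory.Limits AlgebraicGeometry MonoidalCategory MonObj
open AlgSp

namespace Groth.Agent.S12199

/-- Let B be an algebraic space over S and G a group algebraic space over B with unit section e : B → G,
and suppose G is locally of finite type over B. Under this assumption, G → B is unramified exactly
when it is unramified at e(b) for every point b of |B|, and G → B is locally quasi-finite exactly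
when it is quasi-finite at e(b) for every point b of |B|. Here 'unramified (resp. quasi-finite) at a
point' is the some-chart-diagram form: there are etale charts of G and B and a compatible morphism
of schemes which is unramified (resp. locally quasi-finite of finite type) on an open neighbourhood
of a point over e(b). -/
theorem result (S : Scheme.{u}) (B : AlgSp.Sp S) (hB : AlgSp.IsAlgSpace B)
    (G : Over B) [GrpObj G] (hG : AlgSp.IsAlgSpace G.left) (hlft : AlgSp.LocP @LocallyOfFiniteType G.hom) :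
    (AlgSp.LocP (@LocallyOfFiniteType ⊓ @FormallyUnramified) G.hom ↔
        ∀ b : AlgSp.Points B, AlgSp.HasAtMor
          (fun U _ h u => ∃ W : U.Opens, u ∈ W ∧ LocallyOfFiniteType (W.ι ≫ h) ∧ FormallyUnramified (W.ι ≫ h))
          G.hom (AlgSp.Points.map (η[G]).left b)) ∧
    (AlgSp.LocP (@LocallyQuasiFinite ⊓ @LocallyOfFiniteType) G.hom ↔
        ∀ b : AlgSp.Points B, AlgSp.HasAtMor
          (fun U _ h u => ∃ W : U.Opens, u ∈ W ∧ LocallyQuasiFinite (W.ι ≫ h) ∧ LocallyOfFiniteType (W.ι ≫ h))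
          G.hom (AlgSp.Points.map (η[G]).left b)) := by
  have key : ∀ (P : MorphismProperty Scheme.{u})
      (_ : P = @LocallyOfFiniteType ∨ P = @LocallyOfFinitePresentation ∨ P = @Flat ∨ P = @Smooth ∨
        P = @Etale ∨
        (∀ ⦃A B : Scheme.{u}⦄ (g : A ⟶ B), P g ↔ (LocallyQuasiFinite g ∧ LocallyOfFiniteType g)) ∨
        (∀ ⦃A B : Scheme.{u}⦄ (g : A ⟶ B), P g ↔ (LocallyOfFiniteType g ∧ FormallyUnramified g)))
      (_ : ∀ {X Y Y' X' : AlgSp.Sp S}, AlgSp.IsAlgSpace X → AlgSp.IsAlgSpace Y → AlgSp.IsAlgSpace Y' →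
        AlgSp.IsAlgSpace X' → ∀ (f : X ⟶ Y), AlgSp.LocP @LocallyOfFiniteType f →
        ∀ (a : Y' ⟶ Y) (b : X' ⟶ X) (f' : X' ⟶ Y'), IsPullback b f' f a →
        {x' : AlgSp.Points X' | AlgSp.HasAtMor (fun U _ h u => ∃ W : U.Opens, u ∈ W ∧ P (W.ι ≫ h)) f' x'} =
          AlgSp.Points.map b ⁻¹' {x : AlgSp.Points X | AlgSp.HasAtMor (fun U _ h u => ∃ W : U.Opens, u ∈ W ∧
            P (W.ι ≫ h)) f x}),
      AlgSp.LocP P G.hom ↔ ∀ b : AlgSp.Points B,
        AlgSp.HasAtMor (fun U _ h u => ∃ W : U.Opens, u ∈ W ∧ P (W.ι ≫ h)) G.hom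
          (AlgSp.Points.map (η[G]).left b) := by
    intro P hlist hbc
    have sq : IsPullback (𝟙 G.left) G.hom G.hom (𝟙 B) := IsPullback.of_horiz_isIso ⟨by simp⟩
    have h := Groth.Agent.Helper15.GrpSp.locP_baseChange_iff P hlist hbc hB G hG hlft hB (𝟙 B)
      (𝟙 G.left) G.hom sq
    rw [h]
    refine forall_congr' fun b => ?_
    rw [AlgSp.Points.map_id]
    rfl
  constructor
  · exact key (@LocallyOfFiniteType ⊓ @FormallyUnramified : MorphismProperty Scheme.{u})
      (Or.inr (Or.inr (Or.inr (Or.inr (Or.inr (Or.inr (fun A B g => Iff.rfl)))))))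
      (fun {X Y Y' X'} hX hY hY' hX' f hf a b f' sq =>
        Groth.Agent.Helper15.ChartBC.unramified_locus_baseChange hX hY hY hY' hX' f (𝟙 Y)
          (by rwa [Category.comp_id]) a b f' sq)
  · exact key (@LocallyQuasiFinite ⊓ @LocallyOfFiniteType : MorphismProperty Scheme.{u})
      (Or.inr (Or.inr (Or.inr (Or.inr (Or.inr (Or.inl (fun A B g => Iff.rfl)))))))
      (fun {X Y Y' X'} hX hY hY' hX' f hf a b f' sq =>
        Groth.Agent.Helper15.GrpSp.qf_locus_baseChange hX hY hY' hX' f hf a b f' sq)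

end Groth.Agent.S12199
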