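import Groth.Statements.S12204
import Groth.Agent.Lib.Helper16.AlgSp.BCSp
import Groth.Agent.Lib.Helper16.Sch.BCTowerSch

set_option autoImplicit false
universe u
open CategoryTheory CategoryTheory.Limits AlgebraicGeometry Topology TopologicalSpace
open AlgSp
open Groth.Agent.Helper15 Groth.Agent.Helper16.AS

namespace Groth.Agent.S12204

theorem isReduced_bc_of_perfectClosure {k : Type u} [Field k] {U : Scheme.{u}}
    (f : U ⟶ Spec (CommRingCat.of k)) (k' : Type u) [Field k'] [Algebra k k'] [PerfectField k']
    [IsPurelyInseparable k k'] (h : IsReduced (FBase.bc f k')) (K : Type u) [Field K]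
    [Algebra k K] : IsReduced (FBase.bc f K) := by
  let kbar := AlgebraicClosure k'
  haveI : IsScalarTower k k' kbar := inferInstance
  haveI : Algebra.IsAlgebraic k k' := inferInstance
  haveI : Algebra.IsAlgebraic k kbar := Algebra.IsAlgebraic.trans k k' kbar
  haveI : IsAlgClosure k kbar := ⟨inferInstance, inferInstance⟩
  have h1 : IsReduced (FBase.bc (k := k') (FBase.bcStr f k') kbar) :=
    Groth.Agent.Helper16.BCRed.isReduced_bc_of_perfectField (k := k') (FBase.bcStr f k') kbar
  have h2 : IsReduced (FBase.bc f kbar) :=
    isReduced_of_isOpenImmersion (Groth.Agent.Helper16.BCTowerSch.towerIso f k' kbar).hom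
  exact Groth.Agent.Helper16.BCRed.isReduced_bc_of_algClosure f kbar h2 K

/-- (5) ⇒ (2): let k be a field of characteristic p > 0, k' a perfect closure of k (a perfect field
which is a purely inseparable extension of k) and X an algebraic space over k. If X_{k'} is reduced,
then X_K is reduced for every field extension K of k. -/
theorem result (k : Type u) [Field k] (p : ℕ) [Fact p.Prime] [CharP k p]
    (X : AlgSp.Space (Spec (CommRingCat.of k))) (k' : Type u) [Field k'] [Algebra k k'] [PerfectField k']
    [IsPurelyInseparable k k']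
    (h : AlgSp.EtaleLocally (fun U => IsReduced U) (X.obj ⨯ (AlgSp.yon (Spec (CommRingCat.of k))).obj (Over.mk (Spec.map (CommRingCat.ofHom (algebraMap k k'))))))
    (K : Type u) [Field K] [Algebra k K] : AlgSp.EtaleLocally (fun U => IsReduced U) (X.obj ⨯ (AlgSp.yon (Spec (CommRingCat.of k))).obj (Over.mk (Spec.map (CommRingCat.ofHom (algebraMap k K))))) := by
  obtain ⟨U, a, hae, has⟩ := X.property.atlas
  have h' := (isReducedSp_bc_iff a hae has k').mp h
  exact (isReducedSp_bc_iff a hae has K).mpr
    (isReduced_bc_of_perfectClosure U.hom k' h' K)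

end Groth.Agent.S12204
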