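import Groth.Statements.S12205
import Groth.Agent.Lib.Helper18.Tor.Low
import Groth.Agent.Lib.Helper1.LocalCriterion

set_option autoImplicit false
universe u
open CategoryTheory
open scoped TensorProduct
open CAlg

namespace Groth.Agent.S12205

/-- Let I be an ideal of a commutative ring R and M an R-module such that M/IM is flat over R/I and
Tor_1^R(R/I, M) = 0. Then Tor_1^R(N, M) = 0 for every R-module N annihilated by I^m for some m ≥ 0.
Here Tor_1^R(N, M) is the first left derived functor of N ⊗_R − evaluated at M. -/
theorem result (R : Type u) [CommRing R] (I : Ideal R) (M : Type u)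
    [AddCommGroup M] [Module R M] [Module.Flat (R ⧸ I) ((R ⧸ I) ⊗[R] M)]
    (h : Limits.IsZero (((CategoryTheory.Tor (ModuleCat.{u} R) 1).obj (ModuleCat.of R (R ⧸ I))).obj (ModuleCat.of R M)))
    (N : Type u) [AddCommGroup N] [Module R N] (m : ℕ) (hN : ∀ a : R, a ∈ I ^ m → ∀ x : N, a • x = 0) :
    Limits.IsZero (((CategoryTheory.Tor (ModuleCat.{u} R) 1).obj (ModuleCat.of R N)).obj (ModuleCat.of R M)) := by
  have hI : Function.Injective (I.subtype.rTensor M) := by
    have := (Helper18.TorLib.isZero_tor_one_iff_injective (R := R) (M := M) I.subtype I.mkQ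
      (Submodule.injective_subtype _) (LinearMap.exact_subtype_mkQ I)
      (Submodule.mkQ_surjective _)).1 h
    exact this
  have hN' : I ^ m • (⊤ : Submodule R N) = ⊥ := by
    rw [eq_bot_iff, Submodule.smul_le]
    intro a ha x _
    rw [Submodule.mem_bot]
    exact hN a ha x
  have hT : Helper1.TorVanish R M N := Helper1.TorVanish.of_pow_smul_eq_bot I hI m N hN'
  have hinj := hT.rTensor_injective (Helper1.presι R N) (Helper1.presπ R N)
    (Helper1.presι_injective R N) (Helper1.pres_exact R N) (Helper1.presπ_surjective R N)
  exact (Helper18.TorLib.isZero_tor_one_iff_injective (R := R) (M := M) (Helper1.presι R N)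
    (Helper1.presπ R N) (Helper1.presι_injective R N) (Helper1.pres_exact R N)
    (Helper1.presπ_surjective R N)).2 hinj


end Groth.Agent.S12205
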