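import Groth.Statements.S12208
import Groth.Agent.Lib.Helper18.NoetherInt
import Groth.Agent.Lib.Helper7.IntDim

set_option autoImplicit false
universe u
open CAlg

namespace Groth.Agent.S12208

/-- Let k be a field and S = k[x_1, …, x_n]/I with I a proper ideal. Then there exist r ≥ 0 and elements
y_1, …, y_r of k[x_1, …, x_n] lying in the subring generated by x_1, …, x_n (polynomials with
integer coefficients) such that the k-algebra map from the polynomial ring k[t_1, …, t_r] to S
sending t_i to the class of y_i is injective and finite; and for any r ≥ 0 and any y_1, …, y_r in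
k[x_1, …, x_n] (with or without the integer-coefficient condition) for which that map is injective
and finite, r is the Krull dimension of S. -/
theorem result (k : Type u) [Field k] (n : ℕ) (I : Ideal (MvPolynomial (Fin n) k))
    (hI : I ≠ ⊤) :
    (∃ (r : ℕ) (y : Fin r → MvPolynomial (Fin n) k),
      (∀ i, y i ∈ Set.range (MvPolynomial.map (Int.castRingHom k) : MvPolynomial (Fin n) ℤ → MvPolynomial (Fin n) k)) ∧
      Function.Injective ((Ideal.Quotient.mkₐ k I).comp (MvPolynomial.aeval y)) ∧
      ((Ideal.Quotient.mkₐ k I).comp (MvPolynomial.aeval y)).toRingHom.Finite) ∧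
    ∀ (r : ℕ) (y : Fin r → MvPolynomial (Fin n) k),
      Function.Injective ((Ideal.Quotient.mkₐ k I).comp (MvPolynomial.aeval y)) →
      ((Ideal.Quotient.mkₐ k I).comp (MvPolynomial.aeval y)).toRingHom.Finite →
      ringKrullDim (MvPolynomial (Fin n) k ⧸ I) = r := by
  classical
  constructor
  · obtain ⟨s, y, hy, hinj, hint⟩ := Helper18.NoetherInt.exists_int_params n I hI
    refine ⟨s, y, fun i => hy i, hinj, ?_⟩
    set g := (Ideal.Quotient.mkₐ k I).comp (MvPolynomial.aeval y) with hg
    have fin : Algebra.FiniteType k (MvPolynomial (Fin n) k ⧸ I) := inferInstance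
    have h : algebraMap k (MvPolynomial (Fin n) k ⧸ I) =
        g.toRingHom.comp (algebraMap k (MvPolynomial (Fin s) k)) := by
      ext a
      simp only [RingHom.coe_comp, Function.comp_apply]
      exact (g.commutes a).symm
    exact RingHom.IsIntegral.to_finite hint
      (h ▸ RingHom.finiteType_algebraMap.mpr fin).of_comp_finiteType
  · intro r y hinj hfin
    set g := (Ideal.Quotient.mkₐ k I).comp (MvPolynomial.aeval y) with hg
    letI : Algebra (MvPolynomial (Fin r) k) (MvPolynomial (Fin n) k ⧸ I) := g.toRingHom.toAlgebra
    have hfin' : Module.Finite (MvPolynomial (Fin r) k) (MvPolynomial (Fin n) k ⧸ I) := hfin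
    have hint : Algebra.IsIntegral (MvPolynomial (Fin r) k) (MvPolynomial (Fin n) k ⧸ I) :=
      Algebra.IsIntegral.of_finite _ _
    have h1 := Groth.Agent.Helper7.IntDim.ringKrullDim_eq_of_isIntegral_of_injective
      (A := MvPolynomial (Fin r) k) (B := MvPolynomial (Fin n) k ⧸ I) hinj
    rw [h1, MvPolynomial.ringKrullDim_of_isNoetherianRing, ringKrullDim_eq_zero_of_field, zero_add,
      Nat.card_fin]


end Groth.Agent.S12208
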