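import Groth.Statements.S12209
import Mathlib.Tactic
import Mathlib.RingTheory.Flat.EquationalCriterion
import Mathlib.Algebra.Colimit.Ring

set_option autoImplicit false
universe u
open CAlg

namespace Groth.Agent.S12209

/-- Let (R_i) be a system of commutative rings over a nonempty directed preorder, with colimit R, and
let M be an R-module which is flat as an R_i-module for every i (the R_i-module structure being
restriction of scalars along R_i → R). Then M is flat as an R-module. -/
theorem result {ι : Type u} [Preorder ι] [Nonempty ι] [IsDirectedOrder ι]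
    (G : ι → Type u) [∀ i, CommRing (G i)] (f : ∀ i j, i ≤ j → G i →+* G j)
    [DirectedSystem G fun i j h => f i j h]
    (M : Type u) [AddCommGroup M] [Module (Ring.DirectLimit G fun i j h => f i j h) M]
    (hflat : ∀ i, letI : Module (G i) M := Module.compHom M (Ring.DirectLimit.of G (fun i j h => f i j h) i);
      Module.Flat (G i) M) :
    Module.Flat (Ring.DirectLimit G fun i j h => f i j h) M := by
  classical
  rw [Module.Flat.iff_forall_isTrivialRelation]
  intro l r x hrx
  -- common index
  have hex : ∀ i : Fin l, ∃ (k : ι) (g : G k), Ring.DirectLimit.of G (fun i j h => f i j h) k g = r i :=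
    fun i => Ring.DirectLimit.exists_of (r i)
  choose ki gi hgi using hex
  obtain ⟨k, hk⟩ := Finset.exists_le (Finset.univ.image ki)
  have hki : ∀ i, ki i ≤ k := fun i => hk _ (Finset.mem_image_of_mem _ (Finset.mem_univ i))
  let g : Fin l → G k := fun i => f (ki i) k (hki i) (gi i)
  have hg : ∀ i, Ring.DirectLimit.of G (fun i j h => f i j h) k (g i) = r i := by
    intro i
    rw [← hgi i]
    exact Ring.DirectLimit.of_f (hki i) (gi i)
  letI : Module (G k) M := Module.compHom M (Ring.DirectLimit.of G (fun i j h => f i j h) k)
  have hkflat : Module.Flat (G k) M := hflat k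
  have hsmul : ∀ (c : G k) (m : M), c • m = (Ring.DirectLimit.of G (fun i j h => f i j h) k c) • m :=
    fun c m => rfl
  have hrel : ∑ i, g i • x i = 0 := by
    rw [← hrx]
    apply Finset.sum_congr rfl
    intro i _
    rw [hsmul, hg]
  obtain ⟨n, a, y, hxy, hay⟩ := (Module.Flat.iff_forall_isTrivialRelation.1 hkflat) hrel
  refine ⟨n, fun i j => Ring.DirectLimit.of G (fun i j h => f i j h) k (a i j), y, ?_, ?_⟩
  · intro i
    rw [hxy i]
    apply Finset.sum_congr rfl
    intro j _
    rw [hsmul]
  · intro j
    have := congrArg (Ring.DirectLimit.of G (fun i j h => f i j h) k) (hay j)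
    rw [map_sum, map_zero] at this
    rw [← this]
    apply Finset.sum_congr rfl
    intro i _
    rw [map_mul, hg]


end Groth.Agent.S12209
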