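import Groth.Statements.S12211
import Groth.Agent.Lib.Helper12.SamuelAdd

set_option autoImplicit false
universe u
open IntMult

namespace Groth.Agent.S12211

/-- Suppose A is a local Noetherian ring and I ⊆ A is an ideal of definition. Given a short exact
sequence 0 → M' → M → M'' → 0 of finite A-modules and a number d with dim Supp(M) ≤ d, we have
e_I(M, d) = e_I(M', d) + e_I(M'', d), where e_I(N, d) denotes the limit as t → ∞ of d! ·
length_A(N/I^t N)/t^d. Concretely: whenever these limits for M' and M'' exist and equal e' and e'',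
the corresponding limit for M exists and equals e' + e''. -/
theorem result (A : Type u) [CommRing A] [IsNoetherianRing A] [IsLocalRing A]
    (I : Ideal A) (hI : I ≤ IsLocalRing.maximalIdeal A ∧ ∃ n : ℕ, IsLocalRing.maximalIdeal A ^ n ≤ I)
    {M' M M'' : Type u} [AddCommGroup M'] [Module A M'] [AddCommGroup M] [Module A M]
    [AddCommGroup M''] [Module A M''] [Module.Finite A M'] [Module.Finite A M] [Module.Finite A M'']
    (f : M' →ₗ[A] M) (g : M →ₗ[A] M'') (hf : Function.Injective f) (hg : Function.Surjective g)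
    (hfg : LinearMap.range f = LinearMap.ker g)
    (d : ℕ) (hd : Module.supportDim A M ≤ d) (e' e'' : ℝ)
    (h' : Filter.Tendsto (fun t : ℕ => (d.factorial : ℝ) * ((Module.length A (M' ⧸ (I ^ t • (⊤ : Submodule A M')))).toNat : ℝ) / (t : ℝ) ^ d) Filter.atTop (nhds e'))
    (h'' : Filter.Tendsto (fun t : ℕ => (d.factorial : ℝ) * ((Module.length A (M'' ⧸ (I ^ t • (⊤ : Submodule A M'')))).toNat : ℝ) / (t : ℝ) ^ d) Filter.atTop (nhds e'')) :
    Filter.Tendsto (fun t : ℕ => (d.factorial : ℝ) * ((Module.length A (M ⧸ (I ^ t • (⊤ : Submodule A M)))).toNat : ℝ) / (t : ℝ) ^ d) Filter.atTop (nhds (e' + e'')) := by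
  open Groth.Agent.Helper5.HS Groth.Agent.Helper12.HK Groth.Agent.Helper12.SamuelAdd in
  obtain ⟨hI1, n, hn⟩ := hI
  have hfin : ∀ (X : Type u) [AddCommGroup X] [Module A X] [Module.Finite A X] (t : ℕ),
      E (I ^ t) X ≠ ⊤ := by
    intro X _ _ _ t
    have h1 : IsLocalRing.maximalIdeal A ^ (n * t) ≤ I ^ t := by
      rw [pow_mul]; exact Ideal.pow_right_mono hn t
    exact ne_top_of_le_ne_top (E_pow_eq_sam (M := X) _).1 (E_anti h1)
  obtain ⟨k, hk⟩ := exists_comap_pow_le f hf I
  have hkey : ∀ t, E (I ^ t) M = col ((I ^ t • ⊤ : Submodule A M).comap f) + E (I ^ t) M'' :=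
    fun t => E_eq_add_of_exact (I ^ t) f g hg hfg
  have hup : ∀ t, (E (I ^ t) M).toNat ≤ (E (I ^ t) M'').toNat + (E (I ^ t) M').toNat := by
    intro t
    have h1 : col ((I ^ t • ⊤ : Submodule A M).comap f) ≤ E (I ^ t) M' :=
      col_anti (Submodule.smul_top_le_comap_smul_top (I ^ t) f)
    have h2 : E (I ^ t) M ≤ E (I ^ t) M'' + E (I ^ t) M' := by
      rw [hkey t, add_comm]; exact add_le_add le_rfl h1
    have h3 : E (I ^ t) M'' + E (I ^ t) M' ≠ ⊤ :=
      WithTop.add_ne_top.mpr ⟨hfin M'' t, hfin M' t⟩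
    have h4 := ENat.toNat_le_toNat h2 h3
    rwa [ENat.toNat_add (hfin M'' t) (hfin M' t)] at h4
  have hlow : ∀ t, k ≤ t →
      (E (I ^ t) M'').toNat + (E (I ^ (t - k)) M').toNat ≤ (E (I ^ t) M).toNat := by
    intro t ht
    have h0 : (I ^ t • ⊤ : Submodule A M).comap f ≤ I ^ (t - k) • ⊤ := by
      have := hk (t - k)
      rwa [Nat.sub_add_cancel ht] at this
    have h1 : E (I ^ (t - k)) M' ≤ col ((I ^ t • ⊤ : Submodule A M).comap f) := col_anti h0
    have h2 : E (I ^ t) M'' + E (I ^ (t - k)) M' ≤ E (I ^ t) M := by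
      rw [hkey t, add_comm]; exact add_le_add h1 le_rfl
    have h4 := ENat.toNat_le_toNat h2 (hfin M t)
    rwa [ENat.toNat_add (hfin M'' t) (hfin M' (t - k))] at h4
  exact tendsto_of_sandwich (fun t => (E (I ^ t) M).toNat) (fun t => (E (I ^ t) M').toNat)
    (fun t => (E (I ^ t) M'').toNat) k d e' e'' hlow hup h' h''

end Groth.Agent.S12211
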