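import Groth.Statements.S12216
import Mathlib
import Groth.Agent.Lib.Helper18.CSATensor

set_option autoImplicit false
universe u v w
open scoped TensorProduct
open Curves

namespace Groth.Agent.S12216

/-- (1) ⇔ (3): a K-algebra A is finite central simple over the field K (finite-dimensional, with centre
K and no non-trivial two-sided ideals) if and only if, for an algebraic closure K̄ of K, the
K̄-algebra K̄ ⊗_K A is isomorphic to a matrix algebra Mat(d × d, K̄) for some d ≥ 1. -/
theorem result (K : Type u) [Field K] (A : Type v) [Ring A] [Algebra K A] :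
    (Algebra.IsCentral K A ∧ IsSimpleRing A ∧ FiniteDimensional K A) ↔
      Curves.Splits K A (AlgebraicClosure K) := by
  classical
  constructor
  · rintro ⟨hc, hs, hf⟩
    haveI := Groth.Agent.Helper18.isSimpleRing_tensor_of_isCentral K (AlgebraicClosure K) A
    obtain ⟨n, hn, ⟨e⟩⟩ := IsSimpleRing.exists_algEquiv_matrix_of_isAlgClosed
      (AlgebraicClosure K) (AlgebraicClosure K ⊗[K] A)
    exact ⟨n, hn.out, ⟨e⟩⟩
  · rintro ⟨n, hn, ⟨e⟩⟩
    haveI : NeZero n := ⟨hn⟩
    have hsimp : IsSimpleRing (AlgebraicClosure K ⊗[K] A) :=
      IsSimpleRing.of_ringEquiv e.symm.toRingEquiv inferInstance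
    have hcen : Algebra.IsCentral (AlgebraicClosure K) (AlgebraicClosure K ⊗[K] A) := by
      refine ⟨fun z hz => ?_⟩
      rw [Subalgebra.mem_center_iff] at hz
      have hez : e z ∈ Subalgebra.center (AlgebraicClosure K)
          (Matrix (Fin n) (Fin n) (AlgebraicClosure K)) := by
        rw [Subalgebra.mem_center_iff]
        intro w
        have := congrArg e (hz (e.symm w))
        simpa using this
      have h2 := Algebra.IsCentral.out (K := AlgebraicClosure K) hez
      rw [Algebra.mem_bot] at h2 ⊢
      obtain ⟨l, hl⟩ := h2
      refine ⟨l, ?_⟩
      apply e.injective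
      rw [← hl, AlgEquiv.commutes]
    have hfin : Module.Finite (AlgebraicClosure K) (AlgebraicClosure K ⊗[K] A) :=
      Module.Finite.equiv e.symm.toLinearEquiv
    have hinjA : Function.Injective
        (Algebra.TensorProduct.includeRight : A →ₐ[K] AlgebraicClosure K ⊗[K] A) :=
      Algebra.TensorProduct.includeRight_injective
        (FaithfulSMul.algebraMap_injective K (AlgebraicClosure K))
    haveI : Nontrivial A := by
      by_contra hnt
      rw [not_nontrivial_iff_subsingleton] at hnt
      have h1 : (1 : AlgebraicClosure K ⊗[K] A) = 0 := by
        rw [Algebra.TensorProduct.one_def, Subsingleton.elim (1 : A) 0, TensorProduct.tmul_zero]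
      exact one_ne_zero h1
    refine ⟨?_, ?_, ?_⟩
    · -- central
      refine ⟨fun z hz => ?_⟩
      rw [Subalgebra.mem_center_iff] at hz
      have hz' : (1 : AlgebraicClosure K) ⊗ₜ[K] z ∈
          Subalgebra.center (AlgebraicClosure K) (AlgebraicClosure K ⊗[K] A) := by
        rw [Subalgebra.mem_center_iff]
        intro w
        induction w using TensorProduct.induction_on with
        | zero => simp
        | tmul l a =>
          rw [Algebra.TensorProduct.tmul_mul_tmul, Algebra.TensorProduct.tmul_mul_tmul, hz a,
            mul_one, one_mul]
        | add x y hx hy => rw [add_mul, mul_add, hx, hy]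
      have hbot := hcen.out hz'
      rw [Algebra.mem_bot] at hbot
      obtain ⟨l, hl⟩ := hbot
      -- apply the quotient by K·1
      let q : A →ₗ[K] A ⧸ (LinearMap.range (Algebra.linearMap K A)) := Submodule.mkQ _
      have hq : (LinearMap.lTensor (AlgebraicClosure K) q) ((1 : AlgebraicClosure K) ⊗ₜ[K] z) = 0 := by
        rw [← hl, Algebra.algebraMap_eq_smul_one, Algebra.TensorProduct.one_def,
          TensorProduct.smul_tmul', LinearMap.lTensor_tmul]
        have : q 1 = 0 := by
          rw [Submodule.mkQ_apply, Submodule.Quotient.mk_eq_zero]
          exact ⟨1, by simp⟩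
        rw [this, TensorProduct.tmul_zero]
      rw [LinearMap.lTensor_tmul] at hq
      have hinjQ : Function.Injective
          (TensorProduct.mk K (AlgebraicClosure K) (A ⧸ (LinearMap.range (Algebra.linearMap K A))) 1) := by
        have := Module.Flat.rTensor_preserves_injective_linearMap
          (M := A ⧸ (LinearMap.range (Algebra.linearMap K A)))
          (Algebra.linearMap K (AlgebraicClosure K))
          (FaithfulSMul.algebraMap_injective K (AlgebraicClosure K))
        have h2 := this.comp (TensorProduct.lid K _).symm.injective
        convert h2 using 1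
        ext m
        simp
      have hqz : q z = 0 := hinjQ (by rw [TensorProduct.mk_apply, hq, map_zero])
      rw [Submodule.mkQ_apply, Submodule.Quotient.mk_eq_zero] at hqz
      obtain ⟨κ, hκ⟩ := hqz
      rw [Algebra.mem_bot]
      exact ⟨κ, hκ⟩
    · -- simple
      refine IsSimpleRing.of_eq_bot_or_eq_top fun I => ?_
      let B := I.ringCon.Quotient
      let f : A →ₐ[K] B := { I.ringCon.mk' with commutes' := fun r => rfl }
      let g : AlgebraicClosure K ⊗[K] A →ₐ[AlgebraicClosure K] AlgebraicClosure K ⊗[K] B :=
        Algebra.TensorProduct.map (AlgHom.id _ _) f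
      rcases IsSimpleRing.injective_ringHom_or_subsingleton_codomain g.toRingHom with hg | hg
      · left
        rw [eq_bot_iff]
        intro x hx
        rw [TwoSidedIdeal.mem_bot]
        have hfx : f x = 0 := by
          have : I.ringCon.mk' x = I.ringCon.mk' 0 := Quotient.sound ((TwoSidedIdeal.mem_iff I x).1 hx)
          rw [map_zero] at this
          exact this
        have : g ((1 : AlgebraicClosure K) ⊗ₜ[K] x) = 0 := by
          simp only [g, Algebra.TensorProduct.map_tmul, hfx, TensorProduct.tmul_zero]
        have h0 : (1 : AlgebraicClosure K) ⊗ₜ[K] x = 0 := hg (by simpa using this)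
        exact hinjA (by simpa using h0)
      · right
        have hinjB : Function.Injective
            (Algebra.TensorProduct.includeRight : B →ₐ[K] AlgebraicClosure K ⊗[K] B) :=
          Algebra.TensorProduct.includeRight_injective
            (FaithfulSMul.algebraMap_injective K (AlgebraicClosure K))
        have hB : Subsingleton B := hinjB.subsingleton
        have h10 : f 1 = f 0 := Subsingleton.elim _ _
        have : (1 : A) ∈ I := by
          rw [TwoSidedIdeal.mem_iff]
          exact Quotient.exact h10
        exact (TwoSidedIdeal.one_mem_iff I).1 this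
    · -- finite dimensional
      exact Module.Finite.of_finite_tensorProduct_of_faithfullyFlat (AlgebraicClosure K)

end Groth.Agent.S12216
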