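import Groth.Statements.S12217
import Mathlib
import Groth.Agent.S0343
import Groth.Agent.S0543
import Groth.Agent.Lib.Helper12.GorArt
import Groth.Agent.Lib.Helper20.GorFlat2
-- import your own Groth.Agent.* helpers here

set_option autoImplicit false
universe u
open Curves

namespace Groth.Agent.S12217

section

open PowerSeries IsLocalRing

variable {k : Type u} [Field k] {n : ℕ} {B : Type u} [CommRing B]
  (φ : B →+* (Fin n → PowerSeries k)) (hinj : Function.Injective φ)
  (hrange : Set.range φ = {f : Fin n → PowerSeries k |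
    ∀ i j : Fin n, PowerSeries.constantCoeff (f i) = PowerSeries.constantCoeff (f j)})

include hrange in
theorem common (b : B) (i j : Fin n) :
    PowerSeries.constantCoeff (φ b i) = PowerSeries.constantCoeff (φ b j) := by
  have h : φ b ∈ Set.range φ := ⟨b, rfl⟩
  rw [hrange] at h
  exact h i j

include hrange in
theorem exists_lift (g : Fin n → PowerSeries k)
    (hg : ∀ i j : Fin n, PowerSeries.constantCoeff (g i) = PowerSeries.constantCoeff (g j)) :
    ∃ b : B, φ b = g := by
  have h : g ∈ Set.range φ := by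
    rw [hrange]
    exact hg
  exact h

include hrange in
theorem exists_lift_X (g : Fin n → PowerSeries k) :
    ∃ b : B, φ b = fun i => PowerSeries.X * g i := by
  apply exists_lift φ hrange
  intro i j
  simp

include hinj hrange in
theorem isUnit_iff (i0 : Fin n) (b : B) :
    IsUnit b ↔ PowerSeries.constantCoeff (φ b i0) ≠ 0 := by
  constructor
  · intro hb
    have h1 : IsUnit (φ b) := hb.map φ
    have h2 : IsUnit (φ b i0) := h1.map (Pi.evalRingHom _ i0)
    have h3 := (PowerSeries.isUnit_iff_constantCoeff).mp h2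
    exact h3.ne_zero
  · intro hb
    obtain ⟨b', hb'⟩ := exists_lift φ hrange (fun i => (φ b i)⁻¹) (by
      intro i j
      rw [PowerSeries.constantCoeff_inv, PowerSeries.constantCoeff_inv, common φ hrange b i j])
    have h1 : φ (b * b') = φ 1 := by
      rw [map_mul, map_one, hb']
      funext i
      rw [Pi.mul_apply, Pi.one_apply]
      apply PowerSeries.mul_inv_cancel
      rw [common φ hrange b i i0]
      exact hb
    exact IsUnit.of_mul_eq_one _ (hinj h1)

variable [IsLocalRing B]

include hinj hrange in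
theorem mem_maximalIdeal_iff (i0 : Fin n) (b : B) :
    b ∈ maximalIdeal B ↔ PowerSeries.constantCoeff (φ b i0) = 0 := by
  rw [IsLocalRing.mem_maximalIdeal, mem_nonunits_iff, isUnit_iff φ hinj hrange i0, not_not]

include hinj hrange in
theorem exists_eq_X_mul (i0 : Fin n) (m : B) (hm : m ∈ maximalIdeal B) :
    ∃ g : Fin n → PowerSeries k, φ m = fun i => PowerSeries.X * g i := by
  have h1 : ∀ i, PowerSeries.X ∣ φ m i := by
    intro i
    rw [PowerSeries.X_dvd_iff, common φ hrange m i i0]
    exact (mem_maximalIdeal_iff φ hinj hrange i0 m).mp hm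
  choose g hg using h1
  exact ⟨g, funext hg⟩

end

section Core

open PowerSeries IsLocalRing

variable {k : Type u} [Field k] {n : ℕ} {B : Type u} [CommRing B] [IsLocalRing B]
  (φ : B →+* (Fin n → PowerSeries k)) (hinj : Function.Injective φ)
  (hrange : Set.range φ = {f : Fin n → PowerSeries k |
    ∀ i j : Fin n, PowerSeries.constantCoeff (f i) = PowerSeries.constantCoeff (f j)})
  (x : B) (hx : φ x = fun _ => PowerSeries.X)

include hinj hx in
theorem x_regular : IsSMulRegular B x := by
  intro a b hab
  have h1 : x * (a - b) = 0 := by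
    rw [mul_sub]
    exact sub_eq_zero.mpr hab
  have h2 : φ (a - b) = 0 := by
    have h3 : φ x * φ (a - b) = 0 := by rw [← map_mul, h1, map_zero]
    funext i
    have h4 := congrFun h3 i
    rw [Pi.mul_apply, hx, Pi.zero_apply] at h4
    rcases mul_eq_zero.mp h4 with h5 | h5
    · exact absurd h5 PowerSeries.X_ne_zero
    · exact h5
  have h3 : a - b = 0 := hinj (by rw [h2, map_zero])
  exact sub_eq_zero.mp h3

include hinj hrange hx in
theorem x_mem (i0 : Fin n) : x ∈ maximalIdeal B := by
  rw [mem_maximalIdeal_iff φ hinj hrange i0, hx]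
  simp

include hinj hrange hx in
/-- the square of an element of the maximal ideal is a multiple of `x` -/
theorem sq_mem (i0 : Fin n) (m : B) (hm : m ∈ maximalIdeal B) : m ^ 2 ∈ Ideal.span {x} := by
  obtain ⟨g, hg⟩ := exists_eq_X_mul φ hinj hrange i0 m hm
  obtain ⟨c, hc⟩ := exists_lift_X φ hrange (fun i => g i ^ 2)
  rw [Ideal.mem_span_singleton']
  refine ⟨c, hinj ?_⟩
  rw [map_mul, map_pow, hc, hx, hg]
  funext i
  simp only [Pi.mul_apply, Pi.pow_apply]
  ring

include hinj hrange hx in
/-- `m * b` is a multiple of `x` if `m ∈ 𝔪` and `φ b = X eᵢ` -/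
theorem mul_single_mem [DecidableEq (Fin n)] (i0 : Fin n) (m : B) (hm : m ∈ maximalIdeal B)
    (i : Fin n) (b : B) (hb : φ b = Pi.single i PowerSeries.X) : m * b ∈ Ideal.span {x} := by
  obtain ⟨g, hg⟩ := exists_eq_X_mul φ hinj hrange i0 m hm
  obtain ⟨c, hc⟩ := exists_lift_X φ hrange (Pi.single i (g i))
  rw [Ideal.mem_span_singleton']
  refine ⟨c, hinj ?_⟩
  rw [map_mul, map_mul, hc, hx, hg, hb]
  funext j
  simp only [Pi.mul_apply]
  by_cases hj : j = i
  · subst hj
    simp only [Pi.single_eq_same]
  · simp only [Pi.single_eq_of_ne hj, mul_zero, zero_mul]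

include hinj hrange hx in
theorem dim_zero [IsNoetherianRing B] (i0 : Fin n) :
    ringKrullDim (B ⧸ Ideal.span {x}) = 0 := by
  have hxm := x_mem φ hinj hrange x hx i0
  haveI : Nontrivial (B ⧸ Ideal.span {x}) := Ideal.Quotient.nontrivial_iff.mpr (fun h =>
    (maximalIdeal.isMaximal B).ne_top (top_le_iff.mp (h ▸ (Ideal.span_singleton_le_iff_mem _).mpr hxm)))
  have : Ring.KrullDimLE 0 (B ⧸ Ideal.span {x}) := by
    refine Ring.KrullDimLE.mk₀ ?_
    intro 𝔮 h𝔮
    set π := Ideal.Quotient.mk (Ideal.span {x}) with hπ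
    haveI : (𝔮.comap π).IsPrime := Ideal.comap_isPrime _ _
    have hle : maximalIdeal B ≤ 𝔮.comap π := by
      intro m hm
      have h1 : m ^ 2 ∈ 𝔮.comap π := by
        rw [Ideal.mem_comap, Ideal.Quotient.eq_zero_iff_mem.mpr (sq_mem φ hinj hrange x hx i0 m hm)]
        exact 𝔮.zero_mem
      exact Ideal.IsPrime.mem_of_pow_mem inferInstance 2 h1
    have heq := (maximalIdeal.isMaximal B).eq_of_le (Ideal.comap_ne_top _ h𝔮.ne_top) hle
    have h3 : 𝔮 = (𝔮.comap π).map π :=
      (Ideal.map_comap_of_surjective π Ideal.Quotient.mk_surjective 𝔮).symm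
    rw [h3, ← heq]
    rcases Ideal.map_eq_top_or_isMaximal_of_surjective π Ideal.Quotient.mk_surjective
      (maximalIdeal.isMaximal B) with h | h
    · exfalso
      rw [heq, Ideal.map_comap_of_surjective π Ideal.Quotient.mk_surjective] at h
      exact h𝔮.ne_top h
    · exact h
  exact le_antisymm (Ring.krullDimLE_iff.mp this) ringKrullDim_nonneg_of_nontrivial


include hrange in
theorem exists_lift_single [DecidableEq (Fin n)] (i : Fin n) :
    ∃ b : B, φ b = Pi.single i PowerSeries.X := by
  apply exists_lift φ hrange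
  intro a b
  simp only [Pi.single_apply]
  split_ifs <;> simp

include hinj hrange hx in
theorem core [IsNoetherianRing B] (hG : LocCoh.IsGorensteinLocalRing B) (hn : 3 ≤ n) : False := by
  classical
  let i1 : Fin n := ⟨0, by omega⟩
  let i2 : Fin n := ⟨1, by omega⟩
  let i3 : Fin n := ⟨2, by omega⟩
  have h12 : i2 ≠ i1 := by
    intro h
    have := congrArg Fin.val h
    simp [i1, i2] at this
  have h31 : i3 ≠ i1 := by
    intro h
    have := congrArg Fin.val h
    simp [i1, i3] at this
  have h32 : i3 ≠ i2 := by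
    intro h
    have := congrArg Fin.val h
    simp [i2, i3] at this
  have hxm := x_mem φ hinj hrange x hx i1
  have hxr := x_regular φ hinj x hx
  have hG' := (Groth.Agent.S0343.result B x hxm hxr).mp hG
  haveI := hG'.toIsLocalRing
  haveI : IsNoetherianRing (B ⧸ Ideal.span {x}) := inferInstance
  have hdim := dim_zero φ hinj hrange x hx i1
  have hlen := (Groth.Agent.Helper12.GorFlatLoc.gorenstein_iff_of_dim_zero
    (B ⧸ Ideal.span {x}) hdim).mp hG'
  rw [Module.length_eq_one_iff] at hlen
  obtain ⟨b1, hb1⟩ := exists_lift_single φ hrange i1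
  obtain ⟨b2, hb2⟩ := exists_lift_single φ hrange i2
  have hsoc : ∀ (b : B) (i : Fin n), φ b = Pi.single i PowerSeries.X →
      Ideal.Quotient.mk (Ideal.span {x}) b ∈
        Groth.Agent.Helper12.GorFlatLoc.soc (B ⧸ Ideal.span {x}) (B ⧸ Ideal.span {x}) := by
    intro b i hb
    rw [Submodule.mem_torsionBySet_iff]
    rintro ⟨r, hr⟩
    obtain ⟨m, rfl⟩ := Ideal.Quotient.mk_surjective r
    have hm : m ∈ maximalIdeal B := by
      rw [SetLike.mem_coe, IsLocalRing.mem_maximalIdeal, mem_nonunits_iff] at hr
      rw [IsLocalRing.mem_maximalIdeal, mem_nonunits_iff]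
      intro hu
      exact hr (hu.map _)
    show Ideal.Quotient.mk (Ideal.span {x}) m • Ideal.Quotient.mk (Ideal.span {x}) b = 0
    rw [smul_eq_mul, ← map_mul, Ideal.Quotient.eq_zero_iff_mem]
    exact mul_single_mem φ hinj hrange x hx i1 m hm i b hb
  have hy1 : (⟨_, hsoc b1 i1 hb1⟩ : Groth.Agent.Helper12.GorFlatLoc.soc
      (B ⧸ Ideal.span {x}) (B ⧸ Ideal.span {x})) ≠ 0 := by
    intro h0
    have h1 : Ideal.Quotient.mk (Ideal.span {x}) b1 = 0 := congrArg Subtype.val h0
    rw [Ideal.Quotient.eq_zero_iff_mem, Ideal.mem_span_singleton'] at h1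
    obtain ⟨c, hc⟩ := h1
    have h2 : φ c * φ x = Pi.single i1 PowerSeries.X := by rw [← map_mul, hc, hb1]
    have h3 := congrFun h2 i1
    have h4 := congrFun h2 i2
    rw [Pi.mul_apply, hx, Pi.single_eq_same] at h3
    rw [Pi.mul_apply, hx, Pi.single_eq_of_ne h12] at h4
    have h5 : φ c i1 = 1 := by
      have : φ c i1 * PowerSeries.X = 1 * PowerSeries.X := by rw [h3, one_mul]
      exact mul_right_cancel₀ PowerSeries.X_ne_zero this
    have h6 : φ c i2 = 0 := by
      rcases mul_eq_zero.mp h4 with h | h
      · exact h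
      · exact absurd h PowerSeries.X_ne_zero
    have h7 := common φ hrange c i1 i2
    rw [h5, h6] at h7
    simp at h7
  obtain ⟨a, ha⟩ := IsSimpleModule.toSpanSingleton_surjective (B ⧸ Ideal.span {x}) hy1
    ⟨_, hsoc b2 i2 hb2⟩
  obtain ⟨a', rfl⟩ := Ideal.Quotient.mk_surjective a
  have h1 : Ideal.Quotient.mk (Ideal.span {x}) a' * Ideal.Quotient.mk (Ideal.span {x}) b1 =
      Ideal.Quotient.mk (Ideal.span {x}) b2 := congrArg Subtype.val ha
  rw [← map_mul, Ideal.Quotient.eq, Ideal.mem_span_singleton'] at h1
  obtain ⟨c, hc⟩ := h1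
  have h2 : φ c * φ x = φ a' * Pi.single i1 PowerSeries.X - Pi.single i2 PowerSeries.X := by
    rw [← map_mul, hc, map_sub, map_mul, hb1, hb2]
  have h3 := congrFun h2 i2
  have h4 := congrFun h2 i3
  rw [Pi.mul_apply, hx, Pi.sub_apply, Pi.mul_apply, Pi.single_eq_of_ne h12, Pi.single_eq_same,
    mul_zero, zero_sub] at h3
  rw [Pi.mul_apply, hx, Pi.sub_apply, Pi.mul_apply, Pi.single_eq_of_ne h31, Pi.single_eq_of_ne h32,
    mul_zero, sub_zero] at h4
  have h5 : φ c i2 = -1 := by
    have : φ c i2 * PowerSeries.X = (-1) * PowerSeries.X := by rw [h3, neg_one_mul]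
    exact mul_right_cancel₀ PowerSeries.X_ne_zero this
  have h6 : φ c i3 = 0 := by
    rcases mul_eq_zero.mp h4 with h | h
    · exact h
    · exact absurd h PowerSeries.X_ne_zero
  have h7 := common φ hrange c i2 i3
  rw [h5, h6] at h7
  simp at h7

end Core


section Main

open IsLocalRing

theorem main (k : Type u) [Field k] [IsAlgClosed k]
    (A : Type u) [CommRing A] [LocCoh.IsGorensteinLocalRing A] (n : ℕ) (hn : 2 ≤ n)
    (φ : AdicCompletion (IsLocalRing.maximalIdeal A) A →+* (Fin n → PowerSeries k))
    (hinj : Function.Injective φ)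
    (hrange : Set.range φ = {f : Fin n → PowerSeries k | ∀ i j : Fin n, PowerSeries.constantCoeff (f i) = PowerSeries.constantCoeff (f j)}) :
    n = 2 := by
  by_contra hne
  have h3 : 3 ≤ n := by omega
  haveI hN : IsNoetherianRing (AdicCompletion (maximalIdeal A) A) :=
    Groth.Agent.S0543.result A (maximalIdeal A)
  haveI : Module.Flat A (AdicCompletion (maximalIdeal A) A) :=
    AdicCompletion.flat_of_isNoetherian (maximalIdeal A)
  have hG : LocCoh.IsGorensteinLocalRing (AdicCompletion (maximalIdeal A) A) :=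
    (Groth.Agent.Helper20.GorFlat.gorenstein_iff_of_map_eq A _
      (AdicCompletion.maximalIdeal_eq_map).symm).mp inferInstance
  obtain ⟨x, hx⟩ := exists_lift φ hrange (fun _ => PowerSeries.X) (by intro i j; rfl)
  exact core φ hinj hrange x hx hG h3

end Main

/-- In this form A is the local ring of the curve at the point, and a Gorenstein scheme has Gorenstein
local rings. Let k be an algebraically closed field and A a Gorenstein local ring whose completion
with respect to its maximal ideal is isomorphic to the multicross ring with n ≥ 2 branches, the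
subring of (k[[t]])^n consisting of the n-tuples of power series having a common constant term. Then
n = 2: a Gorenstein multicross singularity is a node. The isomorphism is given as an injective ring
map from the completion to (k[[t]])^n with that subring as its range. -/
theorem result (k : Type u) [Field k] [IsAlgClosed k]
    (A : Type u) [CommRing A] [LocCoh.IsGorensteinLocalRing A] (n : ℕ) (hn : 2 ≤ n)
    (φ : AdicCompletion (IsLocalRing.maximalIdeal A) A →+* (Fin n → PowerSeries k))
    (hinj : Function.Injective φ)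
    (hrange : Set.range φ = {f : Fin n → PowerSeries k | ∀ i j : Fin n, PowerSeries.constantCoeff (f i) = PowerSeries.constantCoeff (f j)}) :
    n = 2 := by
  exact Groth.Agent.S12217.main k A n hn φ hinj hrange

end Groth.Agent.S12217
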