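import Groth.Statements.S12218
import Groth.Agent.Lib.Helper20.WedgeA
import Groth.Agent.Lib.Helper20.WedgeB
import Groth.Agent.Lib.Helper20.MCrossC

set_option autoImplicit false
universe u
open Curves

namespace Groth.Agent.S12218

open Groth.Agent.Helper12.GeomBranches Groth.Agent.Helper20 in

theorem result (k : Type u) [Field k] [IsSepClosed k]
    (A : Type u) [CommRing A] [IsLocalRing A] [Algebra k A] [IsReduced A]
    (hdim : ringKrullDim A = 1) (hN : CAlg.IsNagata A)
    (hres : Function.Bijective (algebraMap k (IsLocalRing.ResidueField A)))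
    (n : ℕ) (hn : Brnch.numBranches A = n) (hδ : Curv2.deltaInv A + 1 = n) :
    ∃ φ : AdicCompletion (IsLocalRing.maximalIdeal A) A →+* (Fin n → PowerSeries k),
      Function.Injective φ ∧
      (∀ c : k, φ (algebraMap A (AdicCompletion (IsLocalRing.maximalIdeal A) A) (algebraMap k A c)) =
        fun _ => algebraMap k (PowerSeries k) c) ∧
      Set.range φ = {f : Fin n → PowerSeries k | ∀ i j : Fin n, PowerSeries.constantCoeff (f i) = PowerSeries.constantCoeff (f j)} := by
  classical
  obtain ⟨hNoeth, hN2⟩ := hN
  haveI := hNoeth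
  have hfinmin : (minimalPrimes A).Finite := minimalPrimes.finite_of_isNoetherianRing A
  rw [Brnch.numBranches, if_pos hfinmin] at hn
  have hfin : ∀ p : Groth.Agent.Helper12.NagataDimOne.MinP A,
      Module.Finite (A ⧸ p.1) (Groth.Agent.Helper12.NagataDimOne.Bp A p) := fun p =>
    (hN2 p.1) (FractionRing (A ⧸ p.1)) inferInstance
  haveI hA' : Module.Finite A (integralClosure A (FractionRing A)) :=
    Groth.Agent.Helper12.NagataDimOne.finite_integralClosure hfin
  let q : A →+* CAlg2.red A := Ideal.Quotient.mk (nilradical A)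
  have hq : Function.Bijective q := by
    refine ⟨?_, Ideal.Quotient.mk_surjective⟩
    rw [injective_iff_map_eq_zero]
    intro a ha
    rw [Ideal.Quotient.eq_zero_iff_mem, nilradical_eq_zero] at ha
    exact ha
  let Θe : ↥(integralClosure A (FractionRing A)) ≃+* CAlg2.normRed A :=
    RingEquiv.ofBijective (WedgeB.Θ q hq) ⟨WedgeB.Θ_injective q hq, WedgeB.Θ_surjective q hq⟩
  have hcard : ENat.card (MaximalSpectrum ↥(integralClosure A (FractionRing A))) = n := by
    rw [ENat.card_congr (MCrossC.maxSpecEquiv Θe)]
    exact hn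
  haveI : Finite (MaximalSpectrum ↥(integralClosure A (FractionRing A))) := by
    rw [← ENat.card_lt_top, hcard]
    exact ENat.coe_lt_top n
  haveI := Fintype.ofFinite (MaximalSpectrum ↥(integralClosure A (FractionRing A)))
  have hcardF : Fintype.card (MaximalSpectrum ↥(integralClosure A (FractionRing A))) = n := by
    rw [ENat.card_eq_coe_fintype_card] at hcard
    exact_mod_cast hcard
  obtain ⟨n', rfl⟩ : ∃ n', n = n' + 1 := by
    rcases Nat.eq_zero_or_pos n with h0 | hpos
    · exfalso
      rw [h0] at hδ
      have h1 : Curv2.deltaInv A + 1 = 0 := by exact_mod_cast hδ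
      exact one_ne_zero (add_eq_zero.mp h1).2
    · exact ⟨n - 1, by omega⟩
  have hδ' : δ' A ↥(integralClosure A (FractionRing A)) = (n' : ℕ∞) := by
    have h1 : Curv2.deltaInv A + 1 = (n' : ℕ∞) + 1 := by
      rw [hδ]; push_cast; rfl
    exact (ENat.add_left_injective_of_ne_top ENat.one_ne_top) h1
  obtain ⟨hsurj0, hJ0⟩ := WedgeA.main (A := A) (B := ↥(integralClosure A (FractionRing A))) n' hδ'
    Finset.univ (by rw [Finset.card_univ, hcardF])
  letI : Algebra k ↥(integralClosure A (FractionRing A)) :=
    ((algebraMap A ↥(integralClosure A (FractionRing A))).comp (algebraMap k A)).toAlgebra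
  haveI : IsScalarTower k A ↥(integralClosure A (FractionRing A)) :=
    IsScalarTower.of_algebraMap_eq (fun _ => rfl)
  have hinj : Function.Injective (algebraMap A ↥(integralClosure A (FractionRing A))) := by
    intro a b hab
    have h1 : algebraMap A (FractionRing A) a = algebraMap A (FractionRing A) b :=
      congrArg Subtype.val hab
    exact IsFractionRing.injective A (FractionRing A) h1
  have hlo : ∀ m' : MaximalSpectrum ↥(integralClosure A (FractionRing A)),
      m'.asIdeal.comap (algebraMap A ↥(integralClosure A (FractionRing A))) =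
        IsLocalRing.maximalIdeal A := by
    intro m'
    haveI := m'.isMaximal
    exact IsLocalRing.eq_maximalIdeal (Ideal.isMaximal_comap_of_isIntegral_of_isMaximal m'.asIdeal)
  have hsurj : ∀ (m' : MaximalSpectrum ↥(integralClosure A (FractionRing A)))
      (b : ↥(integralClosure A (FractionRing A))),
      ∃ a : A, b - algebraMap A ↥(integralClosure A (FractionRing A)) a ∈ m'.asIdeal := by
    intro m' b
    obtain ⟨a, ha⟩ := hsurj0 m' (Ideal.Quotient.mk _ b)
    refine ⟨a, ?_⟩
    have h3 : Ideal.Quotient.mk m'.asIdeal (algebraMap A _ a) = Ideal.Quotient.mk m'.asIdeal b := ha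
    exact Ideal.Quotient.eq.mp h3.symm
  have hresA : ∀ a : A, ∃ c : k, a - algebraMap k A c ∈ IsLocalRing.maximalIdeal A := by
    intro a
    obtain ⟨c, hc⟩ := hres.2 (IsLocalRing.residue A a)
    refine ⟨c, ?_⟩
    rw [← IsLocalRing.residue_eq_zero_iff, map_sub, sub_eq_zero, ← hc,
      IsScalarTower.algebraMap_apply k A (IsLocalRing.ResidueField A)]
    rfl
  have hJ : ∀ b : ↥(integralClosure A (FractionRing A)),
      (∀ m' : MaximalSpectrum ↥(integralClosure A (FractionRing A)), b ∈ m'.asIdeal) →
      ∃ a : A, algebraMap A ↥(integralClosure A (FractionRing A)) a = b := by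
    intro b hb
    obtain ⟨a, ha⟩ := hJ0 b hb
    exact ⟨a, ha⟩
  exact MCrossC.main (k := k) (A := A) (B := ↥(integralClosure A (FractionRing A))) hinj (n' + 1)
    (Fintype.equivFinOfCardEq hcardF).symm hlo
    (fun m' => WedgeB.dvr_localization A hdim m') hsurj hresA hJ

end Groth.Agent.S12218
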