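import Groth.Statements.S1224
import Groth.Statements.S1224
import Groth.Agent.S1191
import Mathlib
-- import your own Groth.Agent.* helpers here

set_option autoImplicit false
universe u
open FlatMor

namespace Groth.Agent.S1224

open TensorProduct

attribute [local instance] Algebra.TensorProduct.rightAlgebra

/-- finiteness of the base-changed quotient -/
lemma finite_quotient_map {A B A' B' : Type u} [CommRing A] [CommRing B] [Algebra A B]
    [CommRing A'] [CommRing B'] [Algebra A A'] [Algebra B B'] [Algebra A' B'] [Algebra A B']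
    [IsScalarTower A B B'] [IsScalarTower A A' B'] [Algebra.IsPushout A B A' B']
    (I : Ideal B) [Module.Finite A (B ⧸ I)] :
    Module.Finite A' (B' ⧸ I.map (algebraMap B B')) := by
  let g0 : B →ₗ[A] (B' ⧸ I.map (algebraMap B B')) :=
    ((Ideal.Quotient.mkₐ A' (I.map (algebraMap B B'))).toLinearMap.restrictScalars A).comp
      (IsScalarTower.toAlgHom A B B').toLinearMap
  have hg0 : ∀ b ∈ I, g0 b = 0 := by
    intro b hb
    show Ideal.Quotient.mk _ (algebraMap B B' b) = 0
    rw [Ideal.Quotient.eq_zero_iff_mem]
    exact Ideal.mem_map_of_mem _ hb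
  let g : (B ⧸ I) →ₗ[A] (B' ⧸ I.map (algebraMap B B')) :=
    Submodule.liftQ (I.restrictScalars A) g0 (fun b hb => hg0 b hb)
  let G : A' ⊗[A] (B ⧸ I) →ₗ[A'] (B' ⧸ I.map (algebraMap B B')) := LinearMap.liftBaseChange A' g
  have hsurj : Function.Surjective G := by
    intro c
    obtain ⟨b', rfl⟩ := Ideal.Quotient.mk_surjective c
    have hbc : IsBaseChange A' (IsScalarTower.toAlgHom A B B').toLinearMap :=
      (Algebra.IsPushout.symm (inferInstance : Algebra.IsPushout A B A' B')).out
    induction b' using hbc.inductionOn with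
    | zero => exact ⟨0, by simp⟩
    | tmul b =>
      refine ⟨1 ⊗ₜ (Ideal.Quotient.mk I b), ?_⟩
      simp [G, g, g0]
      rfl
    | smul a' b' ih =>
      obtain ⟨z, hz⟩ := ih
      refine ⟨a' • z, ?_⟩
      rw [map_smul, hz]
      rfl
    | add x y hx hy =>
      obtain ⟨z, hz⟩ := hx
      obtain ⟨w, hw⟩ := hy
      exact ⟨z + w, by rw [map_add, hz, hw]; rfl⟩
  exact Module.Finite.of_surjective G hsurj

/-- no impurity when the image of the annihilator has finite quotient -/
lemma no_impurity {A B : Type u} [CommRing A] [CommRing B] [Algebra A B]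
    (N : Type u) [AddCommGroup N] [Module B N]
    [Module.Finite A (B ⧸ Module.annihilator B N)] (p : Ideal A) [p.IsPrime]
    (A' B' N' : Type u) [CommRing A'] [CommRing B'] [Algebra A A'] [Algebra B B']
    [Algebra A' B'] [Algebra A B'] [IsScalarTower A B B'] [IsScalarTower A A' B']
    [AddCommGroup N'] [Module B' N'] [Module B N'] [IsScalarTower B B' N'] [Module A' N']
    [IsScalarTower A' B' N'] (f : N →ₗ[B] N') (t' t : Ideal A') [t'.IsPrime] [t.IsPrime]
    (P : Ideal B') [P.IsPrime] : ¬ FlatCA.IsImpurity A B N p A' B' N' f t' t P := by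
  rintro ⟨hpo, hbc, hle, htp, hPt', hass, hno⟩
  set I' : Ideal B' := (Module.annihilator B N).map (algebraMap B B') with hI'
  -- step 1 : I' ≤ P
  obtain ⟨Q, hQp, hQ, hQc⟩ := Groth.Agent.S1191.fiberIdeal_isPrime_aux (R := A') (S := B') t' P
  have hkill : ∀ b ∈ Module.annihilator B N, ∀ n' : N', (algebraMap B B' b) • n' = 0 := by
    intro b hb n'
    induction n' using hbc.inductionOn with
    | zero => simp
    | tmul n =>
      rw [algebraMap_smul, ← map_smul, Module.mem_annihilator.1 hb n, map_zero]
    | smul c n' ih => rw [smul_comm, ih, smul_zero]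
    | add x y hx hy => rw [smul_add, hx, hy, add_zero]
  have h1 : I' ≤ P := by
    rw [hI', Ideal.map_le_iff_le_comap]
    intro b hb
    show algebraMap B B' b ∈ P
    rw [← hQc]
    show (1 : t'.ResidueField) ⊗ₜ[A'] (algebraMap B B' b) ∈ Q
    rw [hQ]
    obtain ⟨_, x, hx⟩ := hass
    rw [hx]
    apply Ideal.le_radical
    rw [Submodule.mem_colon_singleton, Submodule.mem_bot]
    have hz : ∀ z : (t'.Fiber B') ⊗[B'] N',
        ((1 : t'.ResidueField) ⊗ₜ[A'] (algebraMap B B' b)) • z = 0 := by
      intro z
      induction z using TensorProduct.induction_on with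
      | zero => simp
      | tmul c n' =>
        show (((1 : t'.ResidueField) ⊗ₜ[A'] (algebraMap B B' b)) • c) ⊗ₜ[B'] n' = 0
        have : ((1 : t'.ResidueField) ⊗ₜ[A'] (algebraMap B B' b)) • c = (algebraMap B B' b) • c := by
          rw [Algebra.smul_def]
          rfl
        rw [this, TensorProduct.smul_tmul, hkill b hb, tmul_zero]
      | add x y hx hy => rw [smul_add, hx, hy, add_zero]
    exact hz x
  -- step 2 : finiteness
  haveI : Module.Finite A' (B' ⧸ I') := finite_quotient_map (A := A) (B := B) (A' := A') (B' := B')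
    (Module.annihilator B N)
  haveI : Algebra.IsIntegral A' (B' ⧸ I') := Algebra.IsIntegral.of_finite A' (B' ⧸ I')
  -- step 3 : going up
  let Pbar : Ideal (B' ⧸ I') := P.map (Ideal.Quotient.mk I')
  haveI : Pbar.IsPrime := Ideal.map_isPrime_of_surjective Ideal.Quotient.mk_surjective
    (by rw [Ideal.mk_ker]; exact h1)
  have hPbar : Pbar.comap (Ideal.Quotient.mk I') = P := by
    rw [Ideal.comap_map_of_surjective _ Ideal.Quotient.mk_surjective, ← RingHom.ker_eq_comap_bot,
      Ideal.mk_ker, sup_eq_left]
    exact h1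
  have hcomap : Pbar.comap (algebraMap A' (B' ⧸ I')) ≤ t := by
    have : Pbar.comap (algebraMap A' (B' ⧸ I')) = t' := by
      rw [IsScalarTower.algebraMap_eq A' B' (B' ⧸ I'), ← Ideal.comap_comap]
      show (Pbar.comap (Ideal.Quotient.mk I')).comap (algebraMap A' B') = t'
      rw [hPbar]
      exact (hPt'.over).symm
    rw [this]
    exact hle
  obtain ⟨Qbar, hQge, hQprime, hQcomap⟩ :=
    Ideal.exists_ideal_over_prime_of_isIntegral_of_isPrime t Pbar hcomap
  let P' : Ideal B' := Qbar.comap (Ideal.Quotient.mk I')
  haveI : P'.IsPrime := Ideal.comap_isPrime _ _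
  have hPP' : P ≤ P' := by
    rw [← hPbar]
    exact Ideal.comap_mono hQge
  apply hno P' hPP'
  constructor
  show t = P'.comap (algebraMap A' B')
  rw [← hQcomap, IsScalarTower.algebraMap_eq A' B' (B' ⧸ I'), ← Ideal.comap_comap]
  rfl

theorem aux {A B : Type u} [CommRing A] [CommRing B] [Algebra A B] [Algebra.FiniteType A B]
    (N : Type u) [AddCommGroup N] [Module B N] [Module A N] [IsScalarTower A B N] [Module.Finite B N]
    [Module.Finite A (B ⧸ Module.annihilator B N)] : FlatCA.IsUnivPure A B N := by
  intro p _ A' B' N' _ _ _ _ _ _ _ _ _ _ _ _ _ _ f t' t _ _ P _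
  exact no_impurity N p A' B' N' f t' t P

/-- Ring form, X = Spec B affine, where proper support means finite support: let B be a finite type
A-algebra and N a finite B-module such that B modulo the annihilator of N is finite over A. Then N
is universally pure relative to Spec A. -/
theorem result {A B : Type u} [CommRing A] [CommRing B] [Algebra A B] [Algebra.FiniteType A B]
    (N : Type u) [AddCommGroup N] [Module B N] [Module A N] [IsScalarTower A B N] [Module.Finite B N]
    [Module.Finite A (B ⧸ Module.annihilator B N)] : FlatCA.IsUnivPure A B N := by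
  exact aux N

end Groth.Agent.S1224
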