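import Groth.Statements.S1222
-- import your own Groth.Agent.* helpers here
import Groth.Agent.S1224
import Groth.Agent.S8999
import Groth.Agent.Lib.Helper27.Pu16

set_option autoImplicit false
universe u
open FlatMor

namespace Groth.Agent.S1222

open TensorProduct Groth.Agent.Helper27.Pu in
attribute [local instance] Algebra.TensorProduct.rightAlgebra in
theorem main_aux {A B : Type u} [CommRing A] [CommRing B] [Algebra A B] [Algebra.FiniteType A B]
    (N : Type u) [AddCommGroup N] [Module B N] [Module.Finite B N]
    (hfin : ∀ (p : Ideal A) [p.IsPrime],
      (Module.support (p.Fiber B) (FlatCA.fiberMod p B N)).Finite)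
    (hpure : FlatCA.IsPure A B N) : Module.Finite A (B ⧸ Module.annihilator B N) := by
  classical
  letI modC : Module (B ⧸ Module.annihilator B N) N := Module.quotientAnnihilator
  haveI tower : IsScalarTower B (B ⧸ Module.annihilator B N) N :=
    (Module.isTorsionBySet_annihilator B N).isScalarTower
  haveI finC : Module.Finite (B ⧸ Module.annihilator B N) N :=
    Module.Finite.of_restrictScalars_finite B _ N
  have hsurj : Function.Surjective (algebraMap B (B ⧸ Module.annihilator B N)) :=
    Ideal.Quotient.mk_surjective
  haveI ftC : Algebra.FiniteType A (B ⧸ Module.annihilator B N) :=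
    Algebra.FiniteType.of_surjective (Ideal.Quotient.mkₐ A (Module.annihilator B N))
      (Ideal.Quotient.mkₐ_surjective A _)
  -- annihilator
  have hann : Module.annihilator (B ⧸ Module.annihilator B N) N = ⊥ := by
    rw [eq_bot_iff]
    intro c hc
    obtain ⟨b, rfl⟩ := Ideal.Quotient.mk_surjective c
    rw [Module.mem_annihilator] at hc
    rw [Ideal.mem_bot, Ideal.Quotient.eq_zero_iff_mem, Module.mem_annihilator]
    intro n
    exact hc n
  have hsupp : Module.support (B ⧸ Module.annihilator B N) N = Set.univ := by
    rw [Module.support_eq_zeroLocus, hann]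
    simp
  have hpureC : FlatCA.IsPure A (B ⧸ Module.annihilator B N) N := fun p hp =>
    (Groth.Agent.S8999.result hsurj N p).1.mpr (hpure p)
  haveI qf : Algebra.QuasiFinite A (B ⧸ Module.annihilator B N) := by
    rw [Algebra.QuasiFinite.iff_finite_primesOver]
    intro p hp
    refine Set.Finite.subset ((hfin p).image (fun 𝔮 =>
      Ideal.map (algebraMap B (B ⧸ Module.annihilator B N))
        (𝔮.asIdeal.comap (Algebra.TensorProduct.includeRight (R := A) (A := p.ResidueField)
          (B := B)).toRingHom))) ?_
    rintro Q ⟨hQp, hQo⟩
    haveI := hQp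
    haveI := hQo
    haveI hQBp : (Q.under B).IsPrime := Ideal.comap_isPrime _ _
    haveI hQBo : (Q.under B).LiesOver p := inferInstance
    have hcf := comap_fiberIdeal p B (Q.under B)
    refine ⟨⟨FlatCA.fiberIdeal p (Q.under B), fiberIdeal_isPrime p B _⟩, ?_, ?_⟩
    · -- in the support
      show _ ∈ Module.support (p.Fiber B) ((p.Fiber B) ⊗[B] N)
      rw [Groth.Agent.Helper4.SuppBC.support_baseChange, Set.mem_preimage,
        Module.mem_support_iff_of_finite]
      show Module.annihilator B N ≤ (FlatCA.fiberIdeal p (Q.under B)).comap
        (algebraMap B (p.Fiber B))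
      intro b hb
      have hb2 : b ∈ Q.under B := by
        rw [Ideal.under_def, Ideal.mem_comap]
        have : algebraMap B (B ⧸ Module.annihilator B N) b = 0 :=
          Ideal.Quotient.eq_zero_iff_mem.mpr hb
        rw [this]
        exact zero_mem _
      rw [← hcf] at hb2
      exact hb2
    · show Ideal.map _ ((FlatCA.fiberIdeal p (Q.under B)).comap _) = Q
      rw [hcf]
      exact Ideal.map_comap_of_surjective _ hsurj Q
  exact finite_of_isPure N hsupp hpureC


/-- Ring form, X = Spec B affine hence separated over Spec A: let B be a finite type A-algebra and N a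
finite B-module such that for every prime p of A the fibre module of N over p has finite support.
Then the following are equivalent: N is pure relative to Spec A; the scheme-theoretic support of N,
namely B modulo the annihilator of N, is finite over A; N is universally pure relative to Spec A. -/
theorem result {A B : Type u} [CommRing A] [CommRing B] [Algebra A B] [Algebra.FiniteType A B]
    (N : Type u) [AddCommGroup N] [Module B N] [Module A N] [IsScalarTower A B N] [Module.Finite B N]
    (hfin : ∀ (p : Ideal A) [p.IsPrime], (Module.support (p.Fiber B) (FlatCA.fiberMod p B N)).Finite) :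
    [FlatCA.IsPure A B N, Module.Finite A (B ⧸ Module.annihilator B N), FlatCA.IsUnivPure A B N].TFAE := by
  tfae_have 1 → 2 := fun h => main_aux N hfin h
  tfae_have 2 → 3 := fun h => by
    haveI := h
    exact Groth.Agent.S1224.result N
  tfae_have 3 → 1 := by
    intro h p hp A' B' N' i1 i2 i3 i4 i5 i6 i7 i8 i9 i10 i11 i12 i13 i14 f t' t ht' ht P hP _
    exact h p A' B' N' f t' t P
  tfae_finish

end Groth.Agent.S1222
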