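import Groth.Statements.S6635
import Mathlib
import Groth.Agent.Lib.Helper10.LiftEtaleSch

set_option autoImplicit false
open CategoryTheory CategoryTheory.Limits AlgebraicGeometry Opposite
universe u
open BigSite

namespace Groth.Agent.S6635

section helpers
open Groth.Agent.Helper10

/-- Pointwise criterion for covering sieves of the big site. -/
lemma mem_iff {P : MorphismProperty Scheme.{u}} [P.IsStableUnderBaseChange] [P.IsMultiplicative]
    {X : Scheme.{u}} (S : Sieve X) :
    S ∈ Scheme.grothendieckTopology P X ↔
      ∀ x : X, ∃ (W : Scheme.{u}) (g : W ⟶ X), P g ∧ S g ∧ x ∈ Set.range g := by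
  constructor
  · intro h x
    obtain ⟨𝒰, hle⟩ := Scheme.mem_grothendieckTopology_iff.1 h
    obtain ⟨i, y, hy⟩ := 𝒰.exists_eq x
    exact ⟨𝒰.X i, 𝒰.f i, 𝒰.map_prop i, hle _ _ (Presieve.ofArrows.mk i), ⟨y, hy⟩⟩
  · intro h
    choose W g hP hS hx using h
    refine Scheme.mem_grothendieckTopology_iff.2
      ⟨Scheme.Cover.mkOfCovers X W g (fun x => ⟨x, hx x⟩) hP, ?_⟩
    rintro _ _ ⟨x⟩
    exact hS x

variable {Q : ∀ {R S : Type u} [CommRing R] [CommRing S], (R →+* S) → Prop}

theorem main_gen {P : MorphismProperty Scheme.{u}} [HasRingHomProperty P Q]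
    [P.IsStableUnderBaseChange] [P.IsMultiplicative]
    (hopen : ∀ {X Y : Scheme.{u}} (f : X ⟶ Y) [IsOpenImmersion f], P f)
    (hlift : LiftEtaleSch.LiftHyp.{u} Q)
    {X Y : Scheme.{u}} (f : X ⟶ Y) [IsClosedImmersion f] :
    BigSite.IsAlmostCocontinuous (Over.pullback f)
      ((Scheme.grothendieckTopology P).over Y) ((Scheme.grothendieckTopology P).over X) := by
  intro U R hR
  let R' : Sieve U :=
    { arrows := fun V g => (⊥ : Sieve ((Over.pullback f).obj V)) ∈
          ((Scheme.grothendieckTopology P).over X) ((Over.pullback f).obj V) ∨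
          R ((Over.pullback f).map g)
      downward_closed := by
        intro V W g hg k
        rcases hg with hg | hg
        · left
          have := ((Scheme.grothendieckTopology P).over X).pullback_stable
            ((Over.pullback f).map k) hg
          rwa [Sieve.pullback_bot] at this
        · right
          rw [Functor.map_comp]
          exact R.downward_closed hg _ }
  refine ⟨R', ?_, fun V g hg => hg⟩
  rw [GrothendieckTopology.mem_over_iff, mem_iff]
  intro v
  let i := pullback.fst U.hom f
  by_cases hv : v ∈ Set.range i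
  · obtain ⟨z, rfl⟩ := hv
    have hR' := (GrothendieckTopology.mem_over_iff _ _).1 hR
    rw [mem_iff] at hR'
    obtain ⟨T, h, hPh, hRh, t, rfl⟩ := hR' z
    obtain ⟨W, g, κ, hPg, hκ, hmem⟩ := LiftEtaleSch.exists_lift hopen hlift i h hPh t
    refine ⟨W, g, hPg, ?_, hmem⟩
    rw [Sieve.overEquiv_iff]
    right
    rw [Sieve.overEquiv_iff] at hRh
    let l' : pullback (g ≫ U.hom) f ⟶ pullback i g :=
      pullback.lift (pullback.lift (pullback.fst _ _ ≫ g) (pullback.snd _ _)
        (by simp [pullback.condition])) (pullback.fst _ _) (pullback.lift_fst _ _ _)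
    let k : (Over.pullback f).obj (Over.mk (g ≫ U.hom)) ⟶
        Over.mk (h ≫ ((Over.pullback f).obj U).hom) :=
      Over.homMk (l' ≫ κ) (by
        simp only [Over.pullback_obj_hom, Over.mk_hom, Category.assoc, Over.pullback_obj_left,
          Over.mk_left]
        rw [reassoc_of% hκ]
        change pullback.lift _ _ _ ≫ pullback.fst i g ≫ _ = _
        rw [pullback.lift_fst_assoc, pullback.lift_snd])
    have hk : (Over.pullback f).map (Over.homMk g : Over.mk (g ≫ U.hom) ⟶ U) =
        k ≫ (Over.homMk h : Over.mk (h ≫ ((Over.pullback f).obj U).hom) ⟶ _) := by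
      ext
      simp only [Over.pullback_map_left, Over.homMk_left, Over.comp_left, k, Category.assoc, hκ]
      change _ = pullback.lift _ _ _ ≫ pullback.fst i g
      rw [pullback.lift_fst]
      rfl
    rw [hk]
    exact R.downward_closed hRh k
  · have hcl : IsClosed (Set.range i) := i.isClosedEmbedding.isClosed_range
    let W₀ : U.left.Opens := ⟨(Set.range i)ᶜ, hcl.isOpen_compl⟩
    refine ⟨W₀, W₀.ι, hopen _, ?_, ?_⟩
    · rw [Sieve.overEquiv_iff]
      left
      rw [GrothendieckTopology.mem_over_iff]
      have hempty : IsEmpty ↥(((Over.pullback f).obj (Over.mk (W₀.ι ≫ U.hom))).left) := by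
        constructor
        intro p
        let m : pullback (W₀.ι ≫ U.hom) f ⟶ pullback U.hom f :=
          pullback.lift (pullback.fst _ _ ≫ W₀.ι) (pullback.snd _ _)
            (by simp [pullback.condition])
        have hm : m ≫ i = pullback.fst _ _ ≫ W₀.ι := pullback.lift_fst _ _ _
        have h1 : i (m p) ∈ W₀ := by
          rw [← Scheme.Hom.comp_apply, hm, Scheme.Hom.comp_apply]
          exact (pullback.fst (W₀.ι ≫ U.hom) f p).2
        exact h1 ⟨m p, rfl⟩
      have h2 := Scheme.bot_mem_grothendieckTopology (P := P)
        (((Over.pullback f).obj (Over.mk (W₀.ι ≫ U.hom))).left)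
      rw [map_bot]
      exact h2
    · rw [Scheme.Opens.range_ι]
      exact hv

theorem main {X Y : Scheme.{u}} (f : X ⟶ Y) [IsClosedImmersion f]
    (K : Precoverage Scheme.{u})
    (hK : K = Scheme.etalePrecoverage ∨ K = Scheme.precoverage @Smooth) :
    BigSite.IsAlmostCocontinuous (Over.pullback f) (QuotSh.J K Y) (QuotSh.J K X) := by
  rcases hK with rfl | rfl
  · exact main_gen (P := @Etale) (Q := fun f => RingHom.Etale f) (fun f _ => inferInstance)
      LiftEtaleSch.liftHyp_etale f
  · have : MorphismProperty.IsMultiplicative @Smooth.{u} :=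
      { id_mem := fun _ => inferInstance }
    exact main_gen (P := @Smooth) (Q := fun f => RingHom.Smooth f) (fun f _ => inferInstance)
      LiftEtaleSch.liftHyp_smooth f

end helpers

/-- For the etale and the smooth topologies: for a closed immersion of schemes f : X ⟶ Y the base change
functor V ↦ X ×_Y V from schemes over Y to schemes over X is almost cocontinuous between the big
sites: every covering sieve of X ×_Y V is answered by a covering sieve of V each of whose members
V_j either has X ×_Y V_j covered by the empty sieve or has X ×_Y V_j ⟶ X ×_Y V in the given sieve.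
(The published statement also covers the syntomic topology; this row treats the etale and smooth
topologies only.) -/
theorem result {X Y : Scheme.{u}} (f : X ⟶ Y) [IsClosedImmersion f]
    (K : Precoverage Scheme.{u}) (hK : K = Scheme.etalePrecoverage ∨ K = Scheme.precoverage @Smooth) :
    BigSite.IsAlmostCocontinuous (Over.pullback f) (QuotSh.J K Y) (QuotSh.J K X) := by
  exact main f K hK

end Groth.Agent.S6635
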