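import Groth.Statements.S12223
import Mathlib
import Groth.Agent.S6635
import Groth.Agent.Lib.Helper10.LanExactW
import Groth.Agent.Lib.Helper10.ExtAdj
import Groth.Agent.Lib.Helper10.ExtLeray

set_option autoImplicit false
open CategoryTheory CategoryTheory.Limits AlgebraicGeometry Opposite
universe u
open BigSite

namespace Groth.Agent.S12223

section helpers
open Groth.Agent.Helper10

/-- morphisms in `Over S` into an open subscheme are unique -/
lemma zarIncl_hom_ext {S : Scheme.{u}} (U : S.Opens) {T : Over S}
    (f g : T ⟶ (BigSite.zarIncl S).obj U) : f = g := by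
  apply Over.OverMorphism.ext
  have hf : (show T.left ⟶ (U : Scheme.{u}) from f.left) ≫ U.ι = T.hom := Over.w f
  have hg : (show T.left ⟶ (U : Scheme.{u}) from g.left) ≫ U.ι = T.hom := Over.w g
  exact (cancel_mono U.ι).1 (hf.trans hg.symm)

/-- a morphism into an open subscheme exists iff the range is contained -/
noncomputable def zarInclLift {S : Scheme.{u}} (U : S.Opens) (T : Over S)
    (h : Set.range T.hom ⊆ (U : Set S)) : T ⟶ (BigSite.zarIncl S).obj U :=
  let l : T.left ⟶ (U : Scheme.{u}) :=
    IsOpenImmersion.lift U.ι T.hom (by rw [Scheme.Opens.range_ι]; exact h)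
  have hl : l ≫ U.ι = T.hom := IsOpenImmersion.lift_fac _ _ _
  Over.homMk (U := T) (V := (BigSite.zarIncl S).obj U) l hl

lemma range_subset_of_hom {S : Scheme.{u}} (U : S.Opens) {T : Over S}
    (f : T ⟶ (BigSite.zarIncl S).obj U) : Set.range T.hom ⊆ (U : Set S) := by
  rintro _ ⟨x, rfl⟩
  have hf : (show T.left ⟶ (U : Scheme.{u}) from f.left) ≫ U.ι = T.hom := Over.w f
  rw [← hf, Scheme.Hom.comp_apply]
  exact ((show T.left ⟶ (U : Scheme.{u}) from f.left) x).2

lemma compFilt_zar (S : Scheme.{u}) (X : (Over S)ᵒᵖ) :
    LanExact.CompFilt (CostructuredArrow (BigSite.zarIncl S).op X) where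
  span := by
    intro i j j' a b
    have hj := range_subset_of_hom j.left.unop j.hom.unop
    have hj' := range_subset_of_hom j'.left.unop j'.hom.unop
    let k : CostructuredArrow (BigSite.zarIncl S).op X :=
      CostructuredArrow.mk (Y := op (j.left.unop ⊓ j'.left.unop))
        (zarInclLift (j.left.unop ⊓ j'.left.unop) X.unop
          (fun x hx => ⟨hj hx, hj' hx⟩)).op
    refine ⟨k, CostructuredArrow.homMk (homOfLE inf_le_left).op ?_,
      CostructuredArrow.homMk (homOfLE inf_le_right).op ?_, ?_⟩
    · apply Quiver.Hom.unop_inj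
      exact zarIncl_hom_ext _ _ _
    · apply Quiver.Hom.unop_inj
      exact zarIncl_hom_ext _ _ _
    · ext
      apply Quiver.Hom.unop_inj
      exact Subsingleton.elim _ _
  coeq := by
    intro j j' f g
    refine ⟨j', 𝟙 _, ?_⟩
    have : f = g := by
      ext
      apply Quiver.Hom.unop_inj
      exact Subsingleton.elim _ _
    rw [this]

theorem piZarPull_exact (K : Precoverage Scheme.{u}) (S : Scheme.{u}) [BigSite.ZarCont K S] :
    PreservesFiniteLimits (BigSite.piZarPull K S) :=
  LanExactW.preservesFiniteLimits_sheafPullback_ab_of_compFilt.{u + 1} (BigSite.zarIncl S) _ _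
    (compFilt_zar S)

theorem zarIncl_cocont (S : Scheme.{u}) :
    (BigSite.zarIncl S).IsCocontinuous (Opens.grothendieckTopology S)
      (QuotSh.J Scheme.zariskiPrecoverage S) where
  cover_lift {U R} hR := by
    rw [Opens.mem_grothendieckTopology]
    intro x hx
    have hR' := (GrothendieckTopology.mem_over_iff _ _).1 hR
    have hR'' := (Groth.Agent.S6635.mem_iff (P := @IsOpenImmersion) _).1 hR'
    obtain ⟨W, g, hg, hRg, y, hy⟩ := hR'' ⟨x, hx⟩
    have hg' : IsOpenImmersion g := hg
    rw [Sieve.overEquiv_iff] at hRg
    let g' : W ⟶ S := (show W ⟶ (U : Scheme.{u}) from g) ≫ U.ι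
    have : IsOpenImmersion g' := by
      have : IsOpenImmersion (show W ⟶ (U : Scheme.{u}) from g) := hg'
      infer_instance
    let V : S.Opens := g'.opensRange
    have hVU : V ≤ U := by
      rintro _ ⟨w, rfl⟩
      change ((show W ⟶ (U : Scheme.{u}) from g) ≫ U.ι) w ∈ U
      rw [Scheme.Hom.comp_apply]
      exact ((show W ⟶ (U : Scheme.{u}) from g) w).2
    have hxV : x ∈ V := by
      refine ⟨y, ?_⟩
      change ((show W ⟶ (U : Scheme.{u}) from g) ≫ U.ι) y = x
      rw [Scheme.Hom.comp_apply]
      exact congrArg Subtype.val hy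
    refine ⟨V, homOfLE hVU, ?_, hxV⟩
    change R ((BigSite.zarIncl S).map (homOfLE hVU))
    let e : (V : Scheme.{u}) ⟶ W := IsOpenImmersion.lift g' V.ι (by
      rw [Scheme.Opens.range_ι]
      exact subset_of_eq rfl)
    have he : e ≫ g' = V.ι := IsOpenImmersion.lift_fac _ _ _
    let e' : (BigSite.zarIncl S).obj V ⟶ Over.mk (g ≫ ((BigSite.zarIncl S).obj U).hom) :=
      Over.homMk (U := (BigSite.zarIncl S).obj V) (V := Over.mk (g ≫ ((BigSite.zarIncl S).obj U).hom))
        e he
    have hfac : (BigSite.zarIncl S).map (homOfLE hVU) = e' ≫ Over.homMk g := zarIncl_hom_ext _ _ _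
    rw [hfac]
    exact R.downward_closed hRg e'

/-- an exact functor has vanishing higher right derived functors. -/
lemma isZero_rightDerived_of_exact {A B : Type*} [Category A] [Abelian A] [Category B] [Abelian B]
    [HasInjectiveResolutions A] (F : A ⥤ B) [F.Additive] [PreservesFiniteLimits F]
    [PreservesFiniteColimits F] (n : ℕ) (X : A) : IsZero ((F.rightDerived (n + 1)).obj X) := by
  refine IsZero.of_iso ?_ ((injectiveResolution X).isoRightDerivedObj F (n + 1))
  refine (HomologicalComplex.exactAt_iff_isZero_homology _ _).1 ?_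
  have h := (injectiveResolution X).cocomplex_exactAt_succ n
  exact ShortComplex.Exact.map h F

theorem resZar_colim (S : Scheme.{u}) [BigSite.ZarCont Scheme.zariskiPrecoverage S] :
    PreservesFiniteColimits (BigSite.resZar Scheme.zariskiPrecoverage S) := by
  have := zarIncl_cocont S
  have adj := (BigSite.zarIncl S).sheafAdjunctionCocontinuous AddCommGrpCat.{u + 1}
    (Opens.grothendieckTopology S) (QuotSh.J Scheme.zariskiPrecoverage S)
  have : PreservesColimitsOfSize.{0, 0} (BigSite.resZar Scheme.zariskiPrecoverage S) :=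
    adj.leftAdjoint_preservesColimits
  exact PreservesColimitsOfSize.preservesFiniteColimits _

/-- `zarIncl ⊤` is terminal in `Over S`. -/
noncomputable def terminalTop (S : Scheme.{u}) : IsTerminal ((BigSite.zarIncl S).obj ⊤) :=
  IsTerminal.ofIso Over.mkIdTerminal
    (Over.isoMk (f := Over.mk (𝟙 S)) (g := (BigSite.zarIncl S).obj ⊤) S.topIso.symm
      (by
        change S.topIso.inv ≫ (⊤ : S.Opens).ι = 𝟙 S
        exact S.topIso.inv_hom_id))

theorem main (X : Scheme.{u}) [BigSite.ZarCont Scheme.zariskiPrecoverage X]
    (F : BigSite.Ab Scheme.zariskiPrecoverage X) (p : ℕ) :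
    Nonempty (EtZar.H ((BigSite.resZar Scheme.zariskiPrecoverage X).obj F) p ≃+
      BigSite.H Scheme.zariskiPrecoverage X F p) := by
  let res := BigSite.resZar Scheme.zariskiPrecoverage X
  let pi := BigSite.piZarPull Scheme.zariskiPrecoverage X
  let adj : pi ⊣ res := BigSite.piZarAdj Scheme.zariskiPrecoverage X
  have hpi_lim : PreservesFiniteLimits pi := piZarPull_exact _ X
  have hpi_colim : PreservesFiniteColimits pi := by
    have : PreservesColimitsOfSize.{0, 0} pi := adj.leftAdjoint_preservesColimits
    exact PreservesColimitsOfSize.preservesFiniteColimits _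
  have hres_lim : PreservesFiniteLimits res := by
    have : PreservesLimitsOfSize.{0, 0} res := adj.rightAdjoint_preservesLimits
    exact PreservesLimitsOfSize.preservesFiniteLimits _
  have hres_colim : PreservesFiniteColimits res := resZar_colim X
  have hpi_add : pi.Additive := adj.left_adjoint_additive
  obtain ⟨Δ⟩ := Groth.Agent.S16463.result res
  let Zs := (constantSheaf (Opens.grothendieckTopology X) AddCommGrpCat.{u + 1}).obj
    (AddCommGrpCat.of (ULift ℤ))
  let Zb := (constantSheaf (QuotSh.J Scheme.zariskiPrecoverage X) AddCommGrpCat.{u + 1}).obj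
    (AddCommGrpCat.of (ULift ℤ))
  have hbij := ExtLeray.counitMap_bijective.{u + 1, u + 1} adj Δ Zs p F
    (fun q => isZero_rightDerived_of_exact res q F)
  let adj1 := (constantSheafAdj (Opens.grothendieckTopology X) AddCommGrpCat.{u + 1}
    (isTerminalTop (α := X.Opens))).comp adj
  let adj2 := constantSheafAdj (QuotSh.J Scheme.zariskiPrecoverage X) AddCommGrpCat.{u + 1}
    (terminalTop X)
  let e : pi.obj Zs ≅ Zb := (adj1.leftAdjointUniq adj2).app (AddCommGrpCat.of (ULift ℤ))
  exact ⟨(AddEquiv.ofBijective _ hbij).trans (ExtAdj.extCongrLeft e.symm F p)⟩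

end helpers

/-- For a scheme X and an abelian sheaf F on the big Zariski site of X, the cohomology groups of the
restriction of F to the small Zariski site X_Zar agree with the cohomology groups of F on the big
site, in every degree p. Existence of an additive isomorphism only (the canonical comparison map is
not named here). The continuity of the inclusion of the small Zariski site into the big site is
carried as an instance hypothesis; it always holds. -/
theorem result (X : Scheme.{u}) [BigSite.ZarCont Scheme.zariskiPrecoverage X]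
    (F : BigSite.Ab Scheme.zariskiPrecoverage X) (p : ℕ) :
    Nonempty (EtZar.H ((BigSite.resZar Scheme.zariskiPrecoverage X).obj F) p ≃+
      BigSite.H Scheme.zariskiPrecoverage X F p) := by
  exact main X F p

end Groth.Agent.S12223
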