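import Groth.Statements.S12226
import Groth.Agent.Lib.Lead.Hartogs4

set_option autoImplicit false
universe u
open CategoryTheory CategoryTheory.Limits AlgebraicGeometry TopologicalSpace
open LocCoh


namespace Groth.Agent.S12226

/-- restriction between two opens which are contained in each other is bijective. -/
theorem bijective_map_of_le {X : Scheme.{u}} (F : X.Modules) {W1 W2 : X.Opens} (h21 : W2 ≤ W1)
    (i : W1 ⟶ W2) : Function.Bijective (F.presheaf.map i.op) := by
  refine Function.bijective_iff_has_inverse.2 ⟨F.presheaf.map (homOfLE h21).op, fun s => ?_,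
    fun s => ?_⟩
  · exact (Groth.Agent.Helper13.QCoh.map_map_eq F i.op (homOfLE h21).op (𝟙 _) s).trans
      (Groth.Agent.Helper13.QCoh.map_id_apply' F _ s)
  · exact (Groth.Agent.Helper13.QCoh.map_map_eq F (homOfLE h21).op i.op (𝟙 _) s).trans
      (Groth.Agent.Helper13.QCoh.map_id_apply' F _ s)

end Groth.Agent.S12226

namespace Groth.Agent.S12226

/-- Let j : U → X be the inclusion of an open subscheme of a Noetherian scheme X and F a coherent
O_X-module such that F' = j_*(F|_U) is coherent. Then (a) for every point x of X outside U the stalk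
F'_x has depth at least 2 over O_{X,x}, and (b) F → F' is the unique map with these properties: for
every coherent O_X-module G and every map φ : F → G whose restriction to U is an isomorphism and
such that depth(G_x) ≥ 2 for all x outside U, there is exactly one map ψ : G → F' whose composite
with φ is the canonical map F → j_*(F|_U), and this ψ is an isomorphism. (The compatibility of this
construction with flat base change is not part of this statement.) -/
theorem result (X : Scheme.{u}) [IsNoetherian X] (U : X.Opens)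
    (F : X.Modules) (hF : Coh.IsCoh F) (hF' : Coh.IsCoh ((Coh.push U.ι).obj (F.restrict U.ι))) :
    (∀ x : ↥X, x ∉ U → (2 : ℕ∞) ≤ LocCoh.depth (X.presheaf.stalk x)
        (((Coh.push U.ι).obj (F.restrict U.ι)).presheaf.stalk x)) ∧
    ∀ (G : X.Modules) (hG : Coh.IsCoh G) (φ : F ⟶ G),
      IsIso ((Scheme.Modules.restrictFunctor U.ι).map φ) →
      (∀ x : ↥X, x ∉ U → (2 : ℕ∞) ≤ LocCoh.depth (X.presheaf.stalk x) (G.presheaf.stalk x)) →
        (∃! ψ : G ⟶ (Coh.push U.ι).obj (F.restrict U.ι),
            φ ≫ ψ = (Scheme.Modules.restrictAdjunction U.ι).unit.app F) ∧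
          ∀ ψ : G ⟶ (Coh.push U.ι).obj (F.restrict U.ι),
            φ ≫ ψ = (Scheme.Modules.restrictAdjunction U.ι).unit.app F → IsIso ψ := by
  obtain ⟨hqc, hft⟩ := hF
  haveI : F.IsQuasicoherent := hqc
  haveI : SheafOfModules.IsFiniteType (R := X.ringCatSheaf) F := hft
  obtain ⟨hqc', hft'⟩ := hF'
  haveI : ((Coh.push U.ι).obj (F.restrict U.ι)).IsQuasicoherent := hqc'
  haveI : SheafOfModules.IsFiniteType (R := X.ringCatSheaf)
      ((Coh.push U.ι).obj (F.restrict U.ι)) := hft'
  refine ⟨?_, ?_⟩
  · intro x hx
    obtain ⟨_, ⟨A, hA, rfl⟩, hxA, -⟩ :=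
      X.isBasis_affineOpens.exists_subset_of_mem_open (Set.mem_univ x) isOpen_univ
    haveI : IsNoetherianRing Γ(X, A) := IsLocallyNoetherian.component_noetherian ⟨A, hA⟩
    refine Groth.Agent.Lead.Hartogs.two_le_depth_of_bijective _ U A hA ?_ x hxA hx
    have hip : ∀ V : X.Opens, U.ι ''ᵁ U.ι ⁻¹ᵁ V = U ⊓ V := fun V => by
      rw [Scheme.Hom.image_preimage_eq_opensRange_inf, Scheme.Opens.opensRange_ι]
    have h : U.ι ''ᵁ U.ι ⁻¹ᵁ A ≤ U.ι ''ᵁ U.ι ⁻¹ᵁ (A ⊓ U) := by
      rw [hip, hip]
      exact le_inf inf_le_left (le_inf inf_le_right inf_le_left)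
    exact bijective_map_of_le F h
      (U.ι.opensFunctor.map ((Opens.map U.ι.base).map (homOfLE (inf_le_left : A ⊓ U ≤ A))))
  · intro G hG φ hφ hGd
    obtain ⟨hqcG, hftG⟩ := hG
    haveI : G.IsQuasicoherent := hqcG
    haveI : SheafOfModules.IsFiniteType (R := X.ringCatSheaf) G := hftG
    haveI := hφ
    haveI hunit : IsIso ((Scheme.Modules.restrictAdjunction U.ι).unit.app G) := by
      rw [Scheme.Modules.Hom.isIso_iff_isIso_app]
      intro V
      rw [ConcreteCategory.isIso_iff_bijective, Scheme.Modules.restrictAdjunction_unit_app_app]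
      exact Groth.Agent.Lead.Hartogs.bijective_res' G U hGd V _ (U.ι.image_preimage_le V)
        (by rw [Scheme.Hom.image_preimage_eq_opensRange_inf, Scheme.Opens.opensRange_ι, inf_comm])
    have hnat := (Scheme.Modules.restrictAdjunction U.ι).unit.naturality φ
    simp only [Functor.id_map, Functor.comp_map] at hnat
    have hψ : φ ≫ ((Scheme.Modules.restrictAdjunction U.ι).unit.app G ≫
        (Scheme.Modules.pushforward U.ι).map (inv ((Scheme.Modules.restrictFunctor U.ι).map φ))) =
        (Scheme.Modules.restrictAdjunction U.ι).unit.app F := by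
      rw [← Category.assoc, hnat, Category.assoc, ← CategoryTheory.Functor.map_comp, IsIso.hom_inv_id,
        CategoryTheory.Functor.map_id]
      exact Category.comp_id _
    have huniq : ∀ ψ' : G ⟶ (Coh.push U.ι).obj (F.restrict U.ι),
        φ ≫ ψ' = (Scheme.Modules.restrictAdjunction U.ι).unit.app F →
        ψ' = (Scheme.Modules.restrictAdjunction U.ι).unit.app G ≫
          (Scheme.Modules.pushforward U.ι).map
            (inv ((Scheme.Modules.restrictFunctor U.ι).map φ)) := by
      intro ψ' hψ'
      obtain ⟨θ, hθ⟩ := (Scheme.Modules.pushforward U.ι).map_surjective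
        (inv ((Scheme.Modules.restrictAdjunction U.ι).unit.app G) ≫ ψ')
      have h1 : ψ' = (Scheme.Modules.restrictAdjunction U.ι).unit.app G ≫
          (Scheme.Modules.pushforward U.ι).map θ := by
        rw [hθ, IsIso.hom_inv_id_assoc]
      have h2 : (Scheme.Modules.restrictAdjunction U.ι).homEquiv F _
            ((Scheme.Modules.restrictFunctor U.ι).map φ ≫ θ) =
          (Scheme.Modules.restrictAdjunction U.ι).homEquiv F _ (𝟙 _) := by
        rw [Adjunction.homEquiv_apply, Adjunction.homEquiv_apply, CategoryTheory.Functor.map_comp,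
          CategoryTheory.Functor.map_id, ← Category.assoc, ← hnat, Category.assoc, ← h1, hψ']
        exact (Category.comp_id _).symm
      have h3 : (Scheme.Modules.restrictFunctor U.ι).map φ ≫ θ = 𝟙 _ :=
        ((Scheme.Modules.restrictAdjunction U.ι).homEquiv F _).injective h2
      have h4 : θ = inv ((Scheme.Modules.restrictFunctor U.ι).map φ) :=
        IsIso.eq_inv_of_hom_inv_id h3
      rw [h1, h4]
    refine ⟨⟨_, hψ, fun ψ' hψ' => huniq ψ' hψ'⟩, fun ψ' hψ' => ?_⟩
    rw [huniq ψ' hψ']
    infer_instance

end Groth.Agent.S12226
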