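import Groth.Statements.S12227
import Mathlib.Algebra.Homology.DerivedCategory.Fractions

set_option autoImplicit false
universe w v u
open CategoryTheory CategoryTheory.Limits
open CohDer

namespace Groth.Agent.S12227

/-- Full faithfulness of K⁻(A)[Qis⁻¹] → D⁻(A), written in terms of roofs. Let A be an abelian category
and K, L complexes which are zero above some degree, viewed in the homotopy category. Then every
morphism Qh(K) → Qh(L) in the derived category is Qh(s)⁻¹ ≫ Qh(f) for some quasi-isomorphism s : K'
→ K and map f : K' → L of K(A) with K' again zero above some degree; and two maps f₁, f₂ : K → L of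
K(A) become equal in D(A) only if s ≫ f₁ = s ≫ f₂ for some quasi-isomorphism s : K' → K with K' zero
above some degree. (That the kernel of K⁻(A) → D(A) consists of the acyclic complexes and that the
essential image is D⁻(A) are separate statements.) -/
theorem result {A : Type u} [Category.{v} A] [Abelian A] [HasDerivedCategory.{w} A]
    (K L : HomotopyCategory A (ComplexShape.up ℤ)) (a b : ℤ) [CochainComplex.IsStrictlyLE K.as a] [CochainComplex.IsStrictlyLE L.as b] :
    (∀ φ : DerivedCategory.Qh.obj K ⟶ DerivedCategory.Qh.obj L,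
      ∃ (K' : HomotopyCategory A (ComplexShape.up ℤ)) (n : ℤ) (_ : CochainComplex.IsStrictlyLE K'.as n) (s : K' ⟶ K) (f : K' ⟶ L),
        HomotopyCategory.quasiIso A (ComplexShape.up ℤ) s ∧ DerivedCategory.Qh.map s ≫ φ = DerivedCategory.Qh.map f) ∧
    (∀ f₁ f₂ : K ⟶ L, DerivedCategory.Qh.map f₁ = DerivedCategory.Qh.map f₂ →
      ∃ (K' : HomotopyCategory A (ComplexShape.up ℤ)) (n : ℤ) (_ : CochainComplex.IsStrictlyLE K'.as n) (s : K' ⟶ K),
        HomotopyCategory.quasiIso A (ComplexShape.up ℤ) s ∧ s ≫ f₁ = s ≫ f₂) := by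
  constructor
  · intro φ
    obtain ⟨K₀, rfl⟩ := HomotopyCategory.quotient_obj_surjective K
    obtain ⟨L₀, rfl⟩ := HomotopyCategory.quotient_obj_surjective L
    haveI : CochainComplex.IsStrictlyLE K₀ a := ‹_›
    let φ' : DerivedCategory.Q.obj K₀ ⟶ DerivedCategory.Q.obj L₀ :=
      (DerivedCategory.quotientCompQhIso A).inv.app K₀ ≫ φ ≫
        (DerivedCategory.quotientCompQhIso A).hom.app L₀
    obtain ⟨X', hX', s, hs, g, hfac⟩ := DerivedCategory.right_fac_of_isStrictlyLE φ' a
    refine ⟨(HomotopyCategory.quotient _ _).obj X', a, hX',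
      (HomotopyCategory.quotient _ _).map s, (HomotopyCategory.quotient _ _).map g, ?_, ?_⟩
    · rw [HomotopyCategory.quotient_map_mem_quasiIso_iff]
      exact (DerivedCategory.isIso_Q_map_iff_quasiIso _ s).1 hs
    · have h1 : DerivedCategory.Q.map s ≫ φ' = DerivedCategory.Q.map g := by
        rw [hfac, IsIso.hom_inv_id_assoc]
      have h2 : φ = (DerivedCategory.quotientCompQhIso A).hom.app K₀ ≫ φ' ≫
          (DerivedCategory.quotientCompQhIso A).inv.app L₀ := by
        simp [φ']
      rw [h2, DerivedCategory.quotientCompQhIso_hom_naturality_assoc, reassoc_of% h1,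
        DerivedCategory.quotientCompQhIso_inv_naturality, Iso.hom_inv_id_app_assoc]
  · intro f₁ f₂ h
    obtain ⟨X, s, hs, hfac⟩ := (MorphismProperty.map_eq_iff_precomp DerivedCategory.Qh
      (HomotopyCategory.quasiIso A (ComplexShape.up ℤ)) f₁ f₂).1 h
    obtain ⟨K₀, rfl⟩ := HomotopyCategory.quotient_obj_surjective K
    obtain ⟨X₀, rfl⟩ := HomotopyCategory.quotient_obj_surjective X
    obtain ⟨s₀, rfl⟩ := (HomotopyCategory.quotient _ _).map_surjective s
    haveI : CochainComplex.IsStrictlyLE K₀ a := ‹_›
    rw [HomotopyCategory.quotient_map_mem_quasiIso_iff, HomologicalComplex.mem_quasiIso_iff] at hs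
    refine ⟨(HomotopyCategory.quotient _ _).obj (CochainComplex.truncLE X₀ a), a,
      (inferInstance : CochainComplex.IsStrictlyLE (CochainComplex.truncLE X₀ a) a),
      (HomotopyCategory.quotient _ _).map (CochainComplex.truncLEMap s₀ a ≫ CochainComplex.ιTruncLE K₀ a), ?_, ?_⟩
    · rw [HomotopyCategory.quotient_map_mem_quasiIso_iff, HomologicalComplex.mem_quasiIso_iff]
      haveI : QuasiIso (CochainComplex.truncLEMap s₀ a) := by
        rw [CochainComplex.quasiIso_truncLEMap_iff]
        intro i _
        infer_instance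
      infer_instance
    · rw [CochainComplex.ιTruncLE_naturality, Functor.map_comp, Category.assoc, hfac,
        ← Category.assoc]


end Groth.Agent.S12227
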