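import Groth.Statements.S12228
import Groth.Agent.Lib.Helper18.Der.TruncHomotopy

set_option autoImplicit false
universe w v u
open CategoryTheory CategoryTheory.Limits
open CohDer

namespace Groth.Agent.S12228

/-- Full faithfulness of Kᵇ(A)[Qis⁻¹] → Dᵇ(A), written in terms of roofs. Let A be an abelian category
and K, L bounded complexes (zero outside a finite range of degrees), viewed in the homotopy
category. Then every morphism Qh(K) → Qh(L) in the derived category is Qh(f) ≫ Qh(t)⁻¹ for some map
f : K → L' and quasi-isomorphism t : L → L' of K(A) with L' again bounded; and two maps f₁, f₂ : K →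
L of K(A) become equal in D(A) only if f₁ ≫ t = f₂ ≫ t for some quasi-isomorphism t : L → L' with L'
bounded. -/
theorem result {A : Type u} [Category.{v} A] [Abelian A] [HasDerivedCategory.{w} A]
    (K L : HomotopyCategory A (ComplexShape.up ℤ)) (a b a' b' : ℤ) [CochainComplex.IsStrictlyGE K.as a] [CochainComplex.IsStrictlyLE K.as b]
    [CochainComplex.IsStrictlyGE L.as a'] [CochainComplex.IsStrictlyLE L.as b'] :
    (∀ φ : DerivedCategory.Qh.obj K ⟶ DerivedCategory.Qh.obj L,
      ∃ (L' : HomotopyCategory A (ComplexShape.up ℤ)) (m n : ℤ) (_ : CochainComplex.IsStrictlyGE L'.as m) (_ : CochainComplex.IsStrictlyLE L'.as n) (f : K ⟶ L') (t : L ⟶ L'),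
        HomotopyCategory.quasiIso A (ComplexShape.up ℤ) t ∧ φ ≫ DerivedCategory.Qh.map t = DerivedCategory.Qh.map f) ∧
    (∀ f₁ f₂ : K ⟶ L, DerivedCategory.Qh.map f₁ = DerivedCategory.Qh.map f₂ →
      ∃ (L' : HomotopyCategory A (ComplexShape.up ℤ)) (m n : ℤ) (_ : CochainComplex.IsStrictlyGE L'.as m) (_ : CochainComplex.IsStrictlyLE L'.as n) (t : L ⟶ L'),
        HomotopyCategory.quasiIso A (ComplexShape.up ℤ) t ∧ f₁ ≫ t = f₂ ≫ t) := by
  constructor
  · intro φ
    obtain ⟨K₀, rfl⟩ := HomotopyCategory.quotient_obj_surjective K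
    obtain ⟨L₀, rfl⟩ := HomotopyCategory.quotient_obj_surjective L
    haveI : CochainComplex.IsStrictlyLE K₀ b := ‹_›
    haveI : CochainComplex.IsStrictlyLE L₀ b' := ‹_›
    haveI : CochainComplex.IsStrictlyGE L₀ a' := ‹_›
    haveI : CochainComplex.IsStrictlyLE K₀ (max b b') :=
      CochainComplex.isStrictlyLE_of_le K₀ b _ (le_max_left _ _)
    haveI : CochainComplex.IsStrictlyLE L₀ (max b b') :=
      CochainComplex.isStrictlyLE_of_le L₀ b' _ (le_max_right _ _)
    let φ' : DerivedCategory.Q.obj K₀ ⟶ DerivedCategory.Q.obj L₀ :=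
      (DerivedCategory.quotientCompQhIso A).inv.app K₀ ≫ φ ≫
        (DerivedCategory.quotientCompQhIso A).hom.app L₀
    obtain ⟨Y', hY1, hY2, g, s, hs, hfac⟩ :=
      DerivedCategory.left_fac_of_isStrictlyLE_of_isStrictlyGE a' (max b b') φ'
    refine ⟨(HomotopyCategory.quotient _ _).obj Y', a', max b b', hY1, hY2,
      (HomotopyCategory.quotient _ _).map g, (HomotopyCategory.quotient _ _).map s, ?_, ?_⟩
    · rw [HomotopyCategory.quotient_map_mem_quasiIso_iff]
      exact (DerivedCategory.isIso_Q_map_iff_quasiIso _ s).1 hs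
    · have h1 : φ' ≫ DerivedCategory.Q.map s = DerivedCategory.Q.map g := by
        rw [hfac, Category.assoc, IsIso.inv_hom_id, Category.comp_id]
      have h2 : φ = (DerivedCategory.quotientCompQhIso A).hom.app K₀ ≫ φ' ≫
          (DerivedCategory.quotientCompQhIso A).inv.app L₀ := by
        simp [φ']
      rw [h2, Category.assoc, Category.assoc, ← DerivedCategory.quotientCompQhIso_inv_naturality,
        reassoc_of% h1, ← DerivedCategory.quotientCompQhIso_hom_naturality_assoc,
        Iso.hom_inv_id_app]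
      exact Category.comp_id _
  · intro f₁ f₂ h
    obtain ⟨Z, t, ht, hfac⟩ := (MorphismProperty.map_eq_iff_postcomp DerivedCategory.Qh
      (HomotopyCategory.quasiIso A (ComplexShape.up ℤ)) f₁ f₂).1 h
    obtain ⟨K₀, rfl⟩ := HomotopyCategory.quotient_obj_surjective K
    obtain ⟨L₀, rfl⟩ := HomotopyCategory.quotient_obj_surjective L
    obtain ⟨Z₀, rfl⟩ := HomotopyCategory.quotient_obj_surjective Z
    obtain ⟨t₀, rfl⟩ := (HomotopyCategory.quotient _ _).map_surjective t
    obtain ⟨g₁, rfl⟩ := (HomotopyCategory.quotient _ _).map_surjective f₁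
    obtain ⟨g₂, rfl⟩ := (HomotopyCategory.quotient _ _).map_surjective f₂
    haveI : CochainComplex.IsStrictlyLE K₀ b := ‹_›
    haveI : CochainComplex.IsStrictlyLE L₀ b' := ‹_›
    haveI : CochainComplex.IsStrictlyGE L₀ a' := ‹_›
    haveI : CochainComplex.IsStrictlyLE K₀ (max b b') :=
      CochainComplex.isStrictlyLE_of_le K₀ b _ (le_max_left _ _)
    haveI : CochainComplex.IsStrictlyLE L₀ (max b b') :=
      CochainComplex.isStrictlyLE_of_le L₀ b' _ (le_max_right _ _)
    rw [HomotopyCategory.quotient_map_mem_quasiIso_iff, HomologicalComplex.mem_quasiIso_iff] at ht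
    -- upper truncation
    obtain ⟨t₁, ht₁def⟩ : ∃ t₁ : L₀ ⟶ CochainComplex.truncLE Z₀ (max b b'), t₁ =
      inv (CochainComplex.ιTruncLE L₀ (max b b')) ≫ CochainComplex.truncLEMap t₀ (max b b') :=
      ⟨_, rfl⟩
    have ht₁ : t₁ ≫ CochainComplex.ιTruncLE Z₀ (max b b') = t₀ := by
      simp only [ht₁def, Category.assoc, CochainComplex.ιTruncLE_naturality, IsIso.inv_hom_id_assoc]
    haveI : QuasiIso (CochainComplex.truncLEMap t₀ (max b b')) := by
      rw [CochainComplex.quasiIso_truncLEMap_iff]
      intro i _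
      infer_instance
    haveI : QuasiIso t₁ := by
      rw [ht₁def]
      infer_instance
    have hhom : Homotopy ((g₁ ≫ t₁) ≫ CochainComplex.ιTruncLE Z₀ (max b b'))
        ((g₂ ≫ t₁) ≫ CochainComplex.ιTruncLE Z₀ (max b b')) := by
      rw [Category.assoc, Category.assoc, ht₁]
      apply HomotopyCategory.homotopyOfEq
      rw [Functor.map_comp, Functor.map_comp]
      exact hfac
    have hhom' : Homotopy (g₁ ≫ t₁) (g₂ ≫ t₁) :=
      Groth.Agent.Helper18.homotopyOfCompιTruncLE K₀ Z₀ (max b b') _ _ hhom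
    -- lower truncation
    let Z₁ := CochainComplex.truncLE Z₀ (max b b')
    obtain ⟨t₂, ht₂def⟩ : ∃ t₂ : L₀ ⟶ CochainComplex.truncGE Z₁ a',
      t₂ = t₁ ≫ CochainComplex.πTruncGE Z₁ a' := ⟨_, rfl⟩
    have ht₂ : t₂ = CochainComplex.πTruncGE L₀ a' ≫ CochainComplex.truncGEMap t₁ a' := by
      rw [ht₂def, CochainComplex.πTruncGE_naturality]
    haveI : QuasiIso (CochainComplex.truncGEMap t₁ a') := by
      rw [CochainComplex.quasiIso_truncGEMap_iff]
      intro i _
      infer_instance
    haveI : QuasiIso t₂ := by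
      rw [ht₂]
      infer_instance
    refine ⟨(HomotopyCategory.quotient _ _).obj (CochainComplex.truncGE Z₁ a'), a', max b b',
      (inferInstance : CochainComplex.IsStrictlyGE (CochainComplex.truncGE Z₁ a') a'),
      (inferInstance : CochainComplex.IsStrictlyLE (CochainComplex.truncGE Z₁ a') (max b b')),
      (HomotopyCategory.quotient _ _).map t₂, ?_, ?_⟩
    · rw [HomotopyCategory.quotient_map_mem_quasiIso_iff, HomologicalComplex.mem_quasiIso_iff]
      infer_instance
    · rw [← Functor.map_comp, ← Functor.map_comp]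
      apply HomotopyCategory.eq_of_homotopy
      rw [ht₂def, ← Category.assoc, ← Category.assoc]
      exact hhom'.compRight _


end Groth.Agent.S12228
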