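import Groth.Statements.S1223
import Mathlib

set_option autoImplicit false
universe u
set_option linter.style.haveILetI false
set_option linter.unusedSectionVars false
open FlatMor

namespace Groth.Agent.S1223

open TensorProduct

section helpers

open AlgebraicGeometry CategoryTheory in
theorem domain_of_geomIntegral {A B : Type u} [CommRing A] [CommRing B] [Algebra A B]
    (h : FlatCA.GeomIntegralFibres A B) (K F : Type u) [Field K] [Algebra A K] [CommRing F]
    [Algebra B F] [Algebra K F] [Algebra A F] [IsScalarTower A B F] [IsScalarTower A K F]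
    [Algebra.IsPushout A B K F] : IsDomain F := by
  have h1 := h.geometrically_isIntegral
  have hpb := isPullback_SpecMap_of_isPushout _ _ _ _ (CommRingCat.isPushout_of_isPushout A B K F)
  have h2 := h1 (Spec.map (CommRingCat.ofHom (algebraMap A K))) _ _ hpb
  exact (affine_isIntegral_iff (.of F)).mp h2


/-- an associated prime of a domain (as a module over itself) is zero -/
theorem assoc_domain {D : Type u} [CommRing D] [IsDomain D] (I : Ideal D)
    (h : IsAssociatedPrime I D) : I = ⊥ := by
  obtain ⟨hprime, x, hx⟩ := h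
  have hx0 : x ≠ 0 := by
    rintro rfl
    apply hprime.ne_top
    rw [hx, Ideal.radical_eq_top, Ideal.eq_top_iff_one, Submodule.mem_colon_singleton]
    simp
  have : (⊥ : Submodule D D).colon {x} = ⊥ := by
    rw [eq_bot_iff]
    intro a ha
    rw [Submodule.mem_colon_singleton, Submodule.mem_bot, smul_eq_mul] at ha
    rcases mul_eq_zero.mp ha with h | h
    · simpa using h
    · exact absurd h hx0
  rw [hx, this]
  exact Ideal.radical_bot_of_isReduced

attribute [local instance] Algebra.TensorProduct.rightAlgebra in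
theorem fiber_domain {A B : Type u} [CommRing A] [CommRing B] [Algebra A B]
    (h : FlatCA.GeomIntegralFibres A B)
    (A' B' : Type u) [CommRing A'] [CommRing B'] [Algebra A A'] [Algebra B B']
    [Algebra A' B'] [Algebra A B'] [IsScalarTower A B B'] [IsScalarTower A A' B']
    (hpush : Algebra.IsPushout A B A' B') (t : Ideal A') [t.IsPrime] : IsDomain (t.Fiber B') := by
  letI algBF : Algebra B (t.Fiber B') := ((algebraMap B' (t.Fiber B')).comp (algebraMap B B')).toAlgebra
  haveI t1 : IsScalarTower B B' (t.Fiber B') := IsScalarTower.of_algebraMap_eq (fun _ => rfl)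
  haveI t2 : IsScalarTower A' B' (t.Fiber B') := IsScalarTower.of_algebraMap_eq (fun x => by
    rw [Algebra.TensorProduct.right_algebraMap_apply, Algebra.TensorProduct.algebraMap_apply,
      Algebra.algebraMap_eq_smul_one x, Algebra.algebraMap_eq_smul_one x, TensorProduct.smul_tmul])
  haveI t3 : IsScalarTower A A' (t.Fiber B') := inferInstance
  haveI t4 : IsScalarTower A B' (t.Fiber B') := IsScalarTower.of_algebraMap_eq (fun x => by
    rw [IsScalarTower.algebraMap_apply A A' (t.Fiber B'), IsScalarTower.algebraMap_apply A' B' (t.Fiber B'),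
      ← IsScalarTower.algebraMap_apply A A' B'])
  haveI t5 : IsScalarTower A B (t.Fiber B') := IsScalarTower.of_algebraMap_eq (fun x => by
    rw [IsScalarTower.algebraMap_apply A B' (t.Fiber B'), IsScalarTower.algebraMap_apply A B B']
    rfl)
  haveI t6 : IsScalarTower A t.ResidueField (t.Fiber B') := inferInstance
  haveI t7 : IsScalarTower A' t.ResidueField (t.Fiber B') := inferInstance
  haveI hp1 : Algebra.IsPushout A A' B B' := hpush.symm
  haveI hp2 : Algebra.IsPushout A' t.ResidueField B' (t.Fiber B') := inferInstance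
  have hp3 : Algebra.IsPushout A t.ResidueField B (t.Fiber B') :=
    (Algebra.IsPushout.comp_iff A A' B (S' := B') (T := t.ResidueField) (T' := t.Fiber B')).mpr hp2
  haveI hp4 : Algebra.IsPushout A B t.ResidueField (t.Fiber B') := hp3.symm
  exact domain_of_geomIntegral h t.ResidueField (t.Fiber B')


attribute [local instance] Algebra.TensorProduct.rightAlgebra in
theorem main {A B : Type u} [CommRing A] [CommRing B] [Algebra A B] [Module.Flat A B]
    (h : FlatCA.GeomIntegralFibres A B) : FlatCA.IsUnivPure A B B := by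
  intro p _ A' B' N' _ _ _ _ _ _ _ _ _ _ _ _ _ _ f t' t _ _ P _ himp
  obtain ⟨hpush, hf, hle, htp, hPt', hass, hcl⟩ := himp
  haveI d1 : IsDomain (t'.Fiber B') := fiber_domain h A' B' hpush t'
  haveI d2 : IsDomain (t.Fiber B') := fiber_domain h A' B' hpush t
  -- the fibre module is the fibre ring
  have hbot : FlatCA.fiberIdeal t' P = ⊥ := by
    let e0 : N' ≃ₗ[B'] B' := hf.equiv.symm ≪≫ₗ TensorProduct.AlgebraTensorModule.rid B B' B'
    let e1 : (t'.Fiber B') ⊗[B'] N' ≃ₗ[t'.Fiber B'] (t'.Fiber B') ⊗[B'] B' :=
      TensorProduct.AlgebraTensorModule.congr (LinearEquiv.refl (t'.Fiber B') (t'.Fiber B')) e0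
    let e2 : (t'.Fiber B') ⊗[B'] B' ≃ₗ[t'.Fiber B'] (t'.Fiber B') :=
      TensorProduct.AlgebraTensorModule.rid B' (t'.Fiber B') (t'.Fiber B')
    have hass' : IsAssociatedPrime (FlatCA.fiberIdeal t' P) ((t'.Fiber B') ⊗[B'] N') := hass
    exact assoc_domain _ ((LinearEquiv.isAssociatedPrime_iff (e1 ≪≫ₗ e2)).mp hass')
  -- a prime over `t`
  let Q : Ideal B' := (⊥ : Ideal (t.Fiber B')).comap
    (Algebra.TensorProduct.includeRight (R := A') (A := t.ResidueField) (B := B')).toRingHom
  haveI hbotprime : (⊥ : Ideal (t.Fiber B')).IsPrime := Ideal.isPrime_bot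
  haveI hQ : Q.IsPrime := Ideal.comap_isPrime _ _
  haveI hQt : Q.LiesOver t := by
    have h2 := ((PrimeSpectrum.primesOverOrderIsoFiber A' B' t).symm ⟨⊥, hbotprime⟩).2.2
    rw [PrimeSpectrum.coe_primesOverOrderIsoFiber_symm_apply] at h2
    exact h2
  -- going down
  haveI : Algebra.IsPushout A A' B B' := hpush.symm
  haveI hflat : Module.Flat A' B' := Module.Flat.isBaseChange A A' B B' (Algebra.IsPushout.out)
  obtain ⟨Q', hQ'Q, hQ'prime, hQ't'⟩ := Ideal.exists_ideal_le_liesOver_of_le (p := t') (q := t) Q hle
  haveI := hQ'prime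
  -- `P ≤ Q'`
  have hPQ' : P ≤ Q' := by
    have hQ'eq : Q' = ((PrimeSpectrum.primesOverOrderIsoFiber A' B' t') ⟨Q', hQ'prime, hQ't'⟩).1.comap
        (Algebra.TensorProduct.includeRight (R := A') (A := t'.ResidueField) (B := B')) := by
      rw [← PrimeSpectrum.coe_primesOverOrderIsoFiber_symm_apply, OrderIso.symm_apply_apply]
    rw [hQ'eq]
    intro x hx
    rw [Ideal.mem_comap]
    have : (Algebra.TensorProduct.includeRight (R := A') (A := t'.ResidueField) (B := B')) x ∈
        FlatCA.fiberIdeal t' P := Ideal.mem_map_of_mem _ hx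
    rw [hbot, Ideal.mem_bot] at this
    rw [this]
    exact Ideal.zero_mem _
  exact hcl Q (hPQ'.trans hQ'Q) hQt

end helpers

/-- Ring form, X = Spec B affine: a finite type, flat A-algebra B with geometrically integral fibres is
universally pure relative to Spec A. -/
theorem result {A B : Type u} [CommRing A] [CommRing B] [Algebra A B] [Algebra.FiniteType A B] [Module.Flat A B]
    (h : FlatCA.GeomIntegralFibres A B) : FlatCA.IsUnivPure A B B := by
  exact main h

end Groth.Agent.S1223
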