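import Groth.Statements.S12242
-- import your own Groth.Agent.* helpers here
import Mathlib
import Groth.Agent.Lib.Helper27.DvN5

set_option autoImplicit false
universe u
open FlatMor

namespace Groth.Agent.S12242

open TensorProduct in
/-- All schemes are affine and standard opens are rendered as localizations away from one element. Let R
→ S be of finite type, N a finite S-module, p ⊆ R and q ⊆ S primes with q over p, and (C, D, G, n;
z, y) a one-step dévissage of N/S/R at q: (C, D, G, n) is a one-step dévissage over p (C a finitely
presented quotient of S carrying a finite module G identified with N, D smooth of relative dimension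
n over R with geometrically irreducible fibres, D → C finite, n the dimension of the support of N ⊗
κ(p)), z is a prime of C over q and over the prime y of D, the local dimension at q of that support
is n, z is the only prime of C over y, and κ(y)/κ(p) is purely transcendental. Then for every w ∈ D
outside y (a standard open neighbourhood D(w) of the point y) there is a standard shrinking whose
piece of Spec D is D(w) pulled back to the shrunken base: elements g ∉ p, hX ∉ q, hZ ∉ z, and ring
and module structures making S[1/hX], C[1/hZ], D[1/wg] algebras over R[1/g], C[1/hZ] an algebra over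
S[1/hX] and over D[1/wg], all compatibly with the given maps, such that (C[1/hZ], D[1/wg], G[1/hZ],
n) is a one-step dévissage of N[1/hX] over S[1/hX] relative to R[1/g] at the extended prime of q,
with the extended primes of z and y as its points (z-point over the q-point and the y-point, unique
over the y-point, purely transcendental residue field over that of pR[1/g], and local dimension n of
the fibre support at the q-point). Here wg denotes the product of w with the image of g in D. -/
theorem result
    (R S : Type u) [CommRing R] [CommRing S] [Algebra R S] [Algebra.FiniteType R S]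
    (N : Type u) [AddCommGroup N] [Module S N] [Module R N] [IsScalarTower R S N] [Module.Finite S N]
    (p : Ideal R) [p.IsPrime] (q : Ideal S) [q.IsPrime] [q.LiesOver p]
    (C D G : Type u) [CommRing C] [CommRing D] [Algebra S C] [Algebra R C] [IsScalarTower R S C]
    [Algebra R D] [Algebra D C] [IsScalarTower R D C] [AddCommGroup G] [Module C G] [Module S G]
    [IsScalarTower S C G] (n : ℕ)
    (h : FlatCA.IsOneStepDevissage R S N p C D G n)
    (z : Ideal C) [z.IsPrime] (y : Ideal D) [y.IsPrime] [z.LiesOver q] [z.LiesOver y] [y.LiesOver p]
    (h1 : ∃ (ξ : PrimeSpectrum (p.Fiber S)) (hξ : ξ ∈ Module.support (p.Fiber S) (FlatCA.fiberMod p S N)),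
      ξ.asIdeal = FlatCA.fiberIdeal p q ∧
      FlatMor.localDim (Module.support (p.Fiber S) (FlatCA.fiberMod p S N)) ⟨ξ, hξ⟩ = n)
    (h3 : ∀ (z₁ : Ideal C) [z₁.IsPrime], z₁.LiesOver y → z₁ = z)
    (h4 : FlatCA.PurelyTranscendental p y)
    (w : D) (hw : w ∉ y) :
    ∃ (g : R) (hX : S) (hZ : C), g ∉ p ∧ hX ∉ q ∧ hZ ∉ z ∧
      ∃ (_ : Algebra (Localization.Away g) (Localization.Away hX)) (_ : IsScalarTower R (Localization.Away g) (Localization.Away hX))
        (_ : Algebra (Localization.Away g) (Localization.Away hZ)) (_ : IsScalarTower R (Localization.Away g) (Localization.Away hZ))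
        (_ : Algebra (Localization.Away g) (Localization.Away (w * algebraMap R D g))) (_ : IsScalarTower R (Localization.Away g) (Localization.Away (w * algebraMap R D g)))
        (_ : Algebra (Localization.Away hX) (Localization.Away hZ)) (_ : IsScalarTower S (Localization.Away hX) (Localization.Away hZ))
        (_ : IsScalarTower (Localization.Away g) (Localization.Away hX) (Localization.Away hZ))
        (_ : Algebra (Localization.Away (w * algebraMap R D g)) (Localization.Away hZ)) (_ : IsScalarTower D (Localization.Away (w * algebraMap R D g)) (Localization.Away hZ))
        (_ : IsScalarTower (Localization.Away g) (Localization.Away (w * algebraMap R D g)) (Localization.Away hZ))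
        (_ : Module (Localization.Away g) (LocalizedModule (Submonoid.powers hX) N)) (_ : IsScalarTower (Localization.Away g) (Localization.Away hX) (LocalizedModule (Submonoid.powers hX) N))
        (_ : Module (Localization.Away hX) (LocalizedModule (Submonoid.powers hZ) G)) (_ : IsScalarTower (Localization.Away hX) (Localization.Away hZ) (LocalizedModule (Submonoid.powers hZ) G))
        (_ : (Ideal.map (algebraMap R (Localization.Away g)) p).IsPrime) (_ : (Ideal.map (algebraMap D (Localization.Away (w * algebraMap R D g))) y).IsPrime) (_ : (Ideal.map (algebraMap D (Localization.Away (w * algebraMap R D g))) y).LiesOver (Ideal.map (algebraMap R (Localization.Away g)) p)),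
        FlatCA.IsOneStepDevissage (Localization.Away g) (Localization.Away hX) (LocalizedModule (Submonoid.powers hX) N) (Ideal.map (algebraMap R (Localization.Away g)) p) (Localization.Away hZ) (Localization.Away (w * algebraMap R D g)) (LocalizedModule (Submonoid.powers hZ) G) n ∧
        (∃ (ξ : PrimeSpectrum ((Ideal.map (algebraMap R (Localization.Away g)) p).Fiber (Localization.Away hX)))
            (hξ : ξ ∈ Module.support ((Ideal.map (algebraMap R (Localization.Away g)) p).Fiber (Localization.Away hX)) (FlatCA.fiberMod (Ideal.map (algebraMap R (Localization.Away g)) p) (Localization.Away hX) (LocalizedModule (Submonoid.powers hX) N))),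
          ξ.asIdeal = FlatCA.fiberIdeal (Ideal.map (algebraMap R (Localization.Away g)) p) (Ideal.map (algebraMap S (Localization.Away hX)) q) ∧
          FlatMor.localDim (Module.support ((Ideal.map (algebraMap R (Localization.Away g)) p).Fiber (Localization.Away hX)) (FlatCA.fiberMod (Ideal.map (algebraMap R (Localization.Away g)) p) (Localization.Away hX) (LocalizedModule (Submonoid.powers hX) N))) ⟨ξ, hξ⟩ = n) ∧
        (Ideal.map (algebraMap C (Localization.Away hZ)) z).LiesOver (Ideal.map (algebraMap S (Localization.Away hX)) q) ∧ (Ideal.map (algebraMap C (Localization.Away hZ)) z).LiesOver (Ideal.map (algebraMap D (Localization.Away (w * algebraMap R D g))) y) ∧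
        (∀ (z₂ : Ideal (Localization.Away hZ)) [z₂.IsPrime], z₂.LiesOver (Ideal.map (algebraMap D (Localization.Away (w * algebraMap R D g))) y) → z₂ = Ideal.map (algebraMap C (Localization.Away hZ)) z) ∧
        FlatCA.PurelyTranscendental (Ideal.map (algebraMap R (Localization.Away g)) p) (Ideal.map (algebraMap D (Localization.Away (w * algebraMap R D g))) y) := by
  open Groth.Agent.Helper27.Dv in
  classical
  have hsurjSC : Function.Surjective (algebraMap S C) := h.2.1
  have hsm : FlatCA.SmoothRelDim n R D := h.2.2.2.2.2.1
  obtain ⟨g, hg, Hg⟩ := exists_basicOpen_subset_image R D n hsm p y w hw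
  obtain ⟨sw, hsw⟩ := hsurjSC (algebraMap D C w)
  have hZ_eq : algebraMap S C (sw * algebraMap R S g) = algebraMap D C (w * algebraMap R D g) := by
    rw [map_mul, map_mul, hsw, ← IsScalarTower.algebraMap_apply R S C,
      ← IsScalarTower.algebraMap_apply R D C]
  have hgy : algebraMap R D g ∉ y := by
    intro hmem
    apply hg
    rw [Ideal.over_def y p]
    exact hmem
  have hhY : w * algebraMap R D g ∉ y := by
    intro hmem
    rcases (inferInstance : y.IsPrime).mem_or_mem hmem with h' | h'
    · exact hw h'
    · exact hgy h'
  have hhZ : algebraMap S C (sw * algebraMap R S g) ∉ z := by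
    rw [hZ_eq]
    intro hmem
    apply hhY
    rw [Ideal.over_def z y]
    exact hmem
  have hhX : sw * algebraMap R S g ∉ q := by
    intro hmem
    apply hhZ
    have : sw * algebraMap R S g ∈ z.under S := by rw [← Ideal.over_def z q]; exact hmem
    exact this
  refine ⟨g, sw * algebraMap R S g, algebraMap S C (sw * algebraMap R S g), hg, hhX, hhZ, ?_⟩
  -- units
  have u1 : IsUnit (algebraMap R (Localization.Away (sw * algebraMap R S g)) g) :=
    isUnit_away_of_dvd g _ (Dvd.intro_left sw rfl)
  have u3 : IsUnit (algebraMap R (Localization.Away (algebraMap S C (sw * algebraMap R S g))) g) := by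
    refine isUnit_away_of_dvd g _ ?_
    rw [map_mul, ← IsScalarTower.algebraMap_apply R S C]
    exact Dvd.intro_left _ rfl
  have u5 : IsUnit (algebraMap R (Localization.Away (w * algebraMap R D g)) g) :=
    isUnit_away_of_dvd g _ (Dvd.intro_left w rfl)
  have u7 : IsUnit (algebraMap S (Localization.Away (algebraMap S C (sw * algebraMap R S g)))
      (sw * algebraMap R S g)) :=
    isUnit_away_of_dvd _ _ dvd_rfl
  have u10 : IsUnit (algebraMap D (Localization.Away (algebraMap S C (sw * algebraMap R S g)))
      (w * algebraMap R D g)) :=
    isUnit_away_of_dvd _ _ (hZ_eq ▸ dvd_rfl)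
  -- algebra structures
  letI a1 : Algebra (Localization.Away g) (Localization.Away (sw * algebraMap R S g)) :=
    awayAlg g _ u1
  haveI t2 : IsScalarTower R (Localization.Away g) (Localization.Away (sw * algebraMap R S g)) :=
    awayAlg_tower g _ u1
  letI a3 : Algebra (Localization.Away g)
      (Localization.Away (algebraMap S C (sw * algebraMap R S g))) := awayAlg g _ u3
  haveI t4 : IsScalarTower R (Localization.Away g)
      (Localization.Away (algebraMap S C (sw * algebraMap R S g))) := awayAlg_tower g _ u3
  letI a5 : Algebra (Localization.Away g) (Localization.Away (w * algebraMap R D g)) :=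
    awayAlg g _ u5
  haveI t6 : IsScalarTower R (Localization.Away g) (Localization.Away (w * algebraMap R D g)) :=
    awayAlg_tower g _ u5
  letI a7 : Algebra (Localization.Away (sw * algebraMap R S g))
      (Localization.Away (algebraMap S C (sw * algebraMap R S g))) := awayAlg _ _ u7
  haveI t8 : IsScalarTower S (Localization.Away (sw * algebraMap R S g))
      (Localization.Away (algebraMap S C (sw * algebraMap R S g))) := awayAlg_tower _ _ u7
  haveI t9a : IsScalarTower R (Localization.Away (sw * algebraMap R S g))
      (Localization.Away (algebraMap S C (sw * algebraMap R S g))) :=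
    IsScalarTower.of_algebraMap_eq fun x => by
      rw [IsScalarTower.algebraMap_apply R S (Localization.Away (sw * algebraMap R S g)),
        ← IsScalarTower.algebraMap_apply S (Localization.Away (sw * algebraMap R S g))
          (Localization.Away (algebraMap S C (sw * algebraMap R S g))),
        ← IsScalarTower.algebraMap_apply R S
          (Localization.Away (algebraMap S C (sw * algebraMap R S g)))]
  haveI t9 : IsScalarTower (Localization.Away g) (Localization.Away (sw * algebraMap R S g))
      (Localization.Away (algebraMap S C (sw * algebraMap R S g))) :=
    tower_of_isLocalization R (Submonoid.powers g) (Localization.Away g) _ _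
  letI a10 : Algebra (Localization.Away (w * algebraMap R D g))
      (Localization.Away (algebraMap S C (sw * algebraMap R S g))) := awayAlg _ _ u10
  haveI t11 : IsScalarTower D (Localization.Away (w * algebraMap R D g))
      (Localization.Away (algebraMap S C (sw * algebraMap R S g))) := awayAlg_tower _ _ u10
  haveI t12a : IsScalarTower R (Localization.Away (w * algebraMap R D g))
      (Localization.Away (algebraMap S C (sw * algebraMap R S g))) :=
    IsScalarTower.of_algebraMap_eq fun x => by
      rw [IsScalarTower.algebraMap_apply R D (Localization.Away (w * algebraMap R D g)),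
        ← IsScalarTower.algebraMap_apply D (Localization.Away (w * algebraMap R D g))
          (Localization.Away (algebraMap S C (sw * algebraMap R S g))),
        ← IsScalarTower.algebraMap_apply R D
          (Localization.Away (algebraMap S C (sw * algebraMap R S g)))]
  haveI t12 : IsScalarTower (Localization.Away g) (Localization.Away (w * algebraMap R D g))
      (Localization.Away (algebraMap S C (sw * algebraMap R S g))) :=
    tower_of_isLocalization R (Submonoid.powers g) (Localization.Away g) _ _
  letI m13 : Module (Localization.Away g)
      (LocalizedModule (Submonoid.powers (sw * algebraMap R S g)) N) :=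
    Module.compHom _ (algebraMap (Localization.Away g) (Localization.Away (sw * algebraMap R S g)))
  haveI t14 : IsScalarTower (Localization.Away g) (Localization.Away (sw * algebraMap R S g))
      (LocalizedModule (Submonoid.powers (sw * algebraMap R S g)) N) :=
    IsScalarTower.of_algebraMap_smul fun _ _ => rfl
  letI m15 : Module (Localization.Away (sw * algebraMap R S g))
      (LocalizedModule (Submonoid.powers (algebraMap S C (sw * algebraMap R S g))) G) :=
    Module.compHom _ (algebraMap (Localization.Away (sw * algebraMap R S g))
      (Localization.Away (algebraMap S C (sw * algebraMap R S g))))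
  haveI t16 : IsScalarTower (Localization.Away (sw * algebraMap R S g))
      (Localization.Away (algebraMap S C (sw * algebraMap R S g)))
      (LocalizedModule (Submonoid.powers (algebraMap S C (sw * algebraMap R S g))) G) :=
    IsScalarTower.of_algebraMap_smul fun _ _ => rfl
  haveI hp₁ : (Ideal.map (algebraMap R (Localization.Away g)) p).IsPrime :=
    isPrime_map_away R g _ p hg
  haveI hy₁ : (Ideal.map (algebraMap D (Localization.Away (w * algebraMap R D g))) y).IsPrime :=
    isPrime_map_away D _ _ y hhY
  haveI hy₁y : (Ideal.map (algebraMap D (Localization.Away (w * algebraMap R D g))) y).LiesOver y :=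
    liesOver_map_away D _ _ y hhY
  haveI hy₁p₁ : (Ideal.map (algebraMap D (Localization.Away (w * algebraMap R D g))) y).LiesOver
      (Ideal.map (algebraMap R (Localization.Away g)) p) := by
    refine ⟨(eq_map_of_under_eq_away R g (Localization.Away g) _ p ?_).symm⟩
    rw [Ideal.under_under (B := Localization.Away g) (A := R)
        (Ideal.map (algebraMap D (Localization.Away (w * algebraMap R D g))) y),
      ← Ideal.under_under (B := D) (A := R)
        (Ideal.map (algebraMap D (Localization.Away (w * algebraMap R D g))) y),
      ← Ideal.over_def (Ideal.map (algebraMap D (Localization.Away (w * algebraMap R D g))) y) y,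
      ← Ideal.over_def y p]
  refine ⟨a1, t2, a3, t4, a5, t6, a7, t8, t9, a10, t11, t12, m13, t14, m15, t16, hp₁, hy₁, hy₁p₁, ?_⟩
  -- the remaining structures for the abstract statement
  haveI tSCG : IsScalarTower S C
      (LocalizedModule (Submonoid.powers (algebraMap S C (sw * algebraMap R S g))) G) :=
    inferInstance
  haveI : IsScalarTower S (Localization.Away (sw * algebraMap R S g))
      (LocalizedModule (Submonoid.powers (algebraMap S C (sw * algebraMap R S g))) G) :=
    IsScalarTower.of_algebraMap_smul fun s x => by
      change algebraMap (Localization.Away (sw * algebraMap R S g))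
        (Localization.Away (algebraMap S C (sw * algebraMap R S g)))
        (algebraMap S (Localization.Away (sw * algebraMap R S g)) s) • x = s • x
      rw [← IsScalarTower.algebraMap_apply S (Localization.Away (sw * algebraMap R S g))
          (Localization.Away (algebraMap S C (sw * algebraMap R S g))),
        IsScalarTower.algebraMap_apply S C
          (Localization.Away (algebraMap S C (sw * algebraMap R S g))), algebraMap_smul,
        algebraMap_smul]
  have hC : IsLocalization.Away (algebraMap D C (w * algebraMap R D g))
      (Localization.Away (algebraMap S C (sw * algebraMap R S g))) := by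
    rw [← hZ_eq]
    infer_instance
  have hsurj := comap_surjective_away R D (Localization.Away g)
    (Localization.Away (w * algebraMap R D g)) g w Hg
  exact shrink_abstract R S N p q C D G n h z y h1 h3 h4 (Localization.Away g)
    (Localization.Away (sw * algebraMap R S g))
    (Localization.Away (algebraMap S C (sw * algebraMap R S g)))
    (Localization.Away (w * algebraMap R D g)) g (sw * algebraMap R S g) (w * algebraMap R D g)
    hC hg hhX hhY hsurj
    (LocalizedModule (Submonoid.powers (sw * algebraMap R S g)) N)
    (LocalizedModule (Submonoid.powers (algebraMap S C (sw * algebraMap R S g))) G)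
    (LocalizedModule.mkLinearMap (Submonoid.powers (sw * algebraMap R S g)) N)
    (LocalizedModule.mkLinearMap (Submonoid.powers (algebraMap S C (sw * algebraMap R S g))) G)

end Groth.Agent.S12242
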