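import Groth.Statements.S12244
-- import your own Groth.Agent.* helpers here
import Mathlib
import Groth.Agent.Lib.Helper27.DvI

set_option autoImplicit false
universe u
open FlatMor

namespace Groth.Agent.S12244

open TensorProduct in
/-- All schemes are affine. Let R → S be of finite type, N a finite S-module, p ⊆ R and q ⊆ S primes, 𝒟
a complete dévissage of N/S/R over p in the prelude's algebraic form and 𝒜 a datum making it a
complete dévissage at q (primes qB_i ⊆ B_i over p with purely transcendental residue fields, unique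
primes qA_i ⊆ A_i over them, threaded through q and through the maps B_i → A_{i+1}, relative
dimensions d_i of R → B_i equal to the local dimension of the fibre support of M_i at qB_i). Let R →
R' be a ring map and p' a prime over p with κ(p) → κ(p') bijective, S' the base change of S, N' = N
⊗_S S', and q' a prime of S' over q and over p'. Let 𝒟' be a complete dévissage of N'/S'/R' over p'
of the same length whose rings A'_i, B'_i (i below the length) are base changes of A_i, B_i along R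
→ R' compatibly with B_i → A_i, B_i → A_{i+1}, S → A_0 and S' → A'_0, and whose modules M'_i are
base changes of M_i along A_i → A'_i compatibly with N ≅ M_0 and N' ≅ M'_0. Assume moreover that at
every index at or beyond the length the ring B'_i has a prime over p' and A'_i a prime over that one
(the structure's families run over all natural numbers and constrain nothing at those indices, while
a datum at a point asks for such primes at every index; the condition touches only this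
unconstrained tail and holds, for instance, when the tail repeats the last genuine step — without it
the zero ring could sit there and no datum would exist). Then 𝒟' is a complete dévissage at q' with
the same relative dimensions: there is a datum 𝒜' for (𝒟', q') with d' = d whose primes qB'_i, qA'_i
lie over qB_i, qA_i for every step i below the length. -/
theorem result
    (R S : Type u) [CommRing R] [CommRing S] [Algebra R S] [Algebra.FiniteType R S]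
    (N : Type u) [AddCommGroup N] [Module S N] [Module.Finite S N]
    (p : Ideal R) [p.IsPrime] (q : Ideal S) [q.IsPrime] (𝒟 : FlatCA.CompleteDevissage R S N p)
    (𝒜 : FlatCA.CompleteDevissageAt R S N p q 𝒟)
    (R' : Type u) [CommRing R'] [Algebra R R'] (p' : Ideal R') [p'.IsPrime] [hp' : p'.LiesOver p]
    (hκ : Function.Bijective (Ideal.ResidueField.mapₐ p p' (Algebra.ofId R R') hp'.over))
    (S' : Type u) [CommRing S'] [Algebra R' S'] [Algebra R S'] [Algebra S S'] [IsScalarTower R R' S']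
    [IsScalarTower R S S'] [Algebra.IsPushout R R' S S']
    (N' : Type u) [AddCommGroup N'] [Module S' N'] [Module S N'] [IsScalarTower S S' N']
    (f : N →ₗ[S] N') (hf : IsBaseChange S' f)
    (q' : Ideal S') [q'.IsPrime] [q'.LiesOver q] [q'.LiesOver p']
    (𝒟' : FlatCA.CompleteDevissage R' S' N' p') (hn : 𝒟'.n = 𝒟.n)
    (htail : ∀ i, 𝒟.n ≤ i → ∃ (Q : Ideal (𝒟'.B i)) (P : Ideal (𝒟'.A i)),
      Q.IsPrime ∧ P.IsPrime ∧ Q.LiesOver p' ∧ P.LiesOver Q)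
    [aA : ∀ i : Fin 𝒟.n, Algebra (𝒟.A i) (𝒟'.A i)] [rA : ∀ i : Fin 𝒟.n, Algebra R (𝒟'.A i)]
      [∀ i : Fin 𝒟.n, IsScalarTower R (R') (𝒟'.A i)] [∀ i : Fin 𝒟.n, IsScalarTower R (𝒟.A i) (𝒟'.A i)]
      [aB : ∀ i : Fin 𝒟.n, Algebra (𝒟.B i) (𝒟'.B i)] [rB : ∀ i : Fin 𝒟.n, Algebra R (𝒟'.B i)]
      [∀ i : Fin 𝒟.n, IsScalarTower R (R') (𝒟'.B i)] [∀ i : Fin 𝒟.n, IsScalarTower R (𝒟.B i) (𝒟'.B i)]
      [bA : ∀ i : Fin 𝒟.n, Algebra (𝒟.B i) (𝒟'.A i)] [∀ i : Fin 𝒟.n, IsScalarTower (𝒟.B i) (𝒟.A i) (𝒟'.A i)]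
      [∀ i : Fin 𝒟.n, IsScalarTower (𝒟.B i) (𝒟'.B i) (𝒟'.A i)]
      [bA' : ∀ i : Fin 𝒟.n, Algebra (𝒟.B i) (𝒟'.A (i + 1))]
      [∀ i : Fin 𝒟.n, IsScalarTower (𝒟.B i) (𝒟'.B i) (𝒟'.A (i + 1))]
      [sA : Algebra S (𝒟'.A 0)] [IsScalarTower S (S') (𝒟'.A 0)]
      [mA : ∀ i : Fin 𝒟.n, Module (𝒟.A i) (𝒟'.M i)] [∀ i : Fin 𝒟.n, IsScalarTower (𝒟.A i) (𝒟'.A i) (𝒟'.M i)]
      (gM : ∀ i : Fin 𝒟.n, 𝒟.M i →ₗ[𝒟.A i] 𝒟'.M i)
    (hbc : (letI := aA ⟨0, 𝒟.pos⟩; IsScalarTower S (𝒟.A 0) (𝒟'.A 0)) ∧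
      (∀ x : N, 𝒟'.isoN (f x) = gM ⟨0, 𝒟.pos⟩ (𝒟.isoN x)) ∧
      (∀ (i : Fin 𝒟.n) (h : (i : ℕ) + 1 < 𝒟.n),
        letI := aA ⟨i + 1, h⟩; IsScalarTower (𝒟.B i) (𝒟.A (i + 1)) (𝒟'.A (i + 1))) ∧
      ∀ i : Fin 𝒟.n,
        Algebra.IsPushout R R' (𝒟.A i) (𝒟'.A i) ∧ Algebra.IsPushout R R' (𝒟.B i) (𝒟'.B i) ∧
        IsBaseChange (𝒟'.A i) (gM i)) :
    ∃ 𝒜' : FlatCA.CompleteDevissageAt R' S' N' p' q' 𝒟', 𝒜'.d = 𝒜.d ∧
      ∀ i : Fin 𝒟.n, (𝒜'.qB i).LiesOver (𝒜.qB i) ∧ (𝒜'.qA i).LiesOver (𝒜.qA i) := by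
  open Groth.Agent.Helper27.Dv in
  classical
  obtain ⟨hS0, hiso, hstepT, hall⟩ := hbc
  have key : ∀ i : ℕ, ∃ (qB' : Ideal (𝒟'.B i)) (qA' : Ideal (𝒟'.A i)) (_ : qB'.IsPrime)
      (_ : qA'.IsPrime) (_ : qB'.LiesOver p') (_ : qA'.LiesOver qB'),
      ∀ h : i < 𝒟.n,
        (letI := aB ⟨i, h⟩; qB'.LiesOver (𝒜.qB i)) ∧ (letI := aA ⟨i, h⟩; qA'.LiesOver (𝒜.qA i)) ∧
        FlatCA.PurelyTranscendental p' qB' ∧
        (∀ (Q : Ideal (𝒟'.A i)) [Q.IsPrime], Q.LiesOver qB' → Q = qA') ∧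
        ∃ (x : PrimeSpectrum (p'.Fiber (𝒟'.B i)))
          (hx : x ∈ Module.support (p'.Fiber (𝒟'.B i)) (FlatCA.fiberMod p' (𝒟'.B i) (𝒟'.M i))),
          x.asIdeal = FlatCA.fiberIdeal p' qB' ∧
          FlatMor.localDim (Module.support (p'.Fiber (𝒟'.B i))
            (FlatCA.fiberMod p' (𝒟'.B i) (𝒟'.M i))) ⟨x, hx⟩ = 𝒜.d i := by
    intro i
    by_cases h : i < 𝒟.n
    · obtain ⟨j, rfl⟩ : ∃ j : Fin 𝒟.n, (j : ℕ) = i := ⟨⟨i, h⟩, rfl⟩
      obtain ⟨hpA, hpB, hgM⟩ := hall j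
      haveI := 𝒜.hqB j
      haveI := 𝒜.hqA j
      haveI := 𝒜.overB j
      haveI := 𝒜.overA j
      haveI : Module.Finite (𝒟.B j) (𝒟.A j) := 𝒟.finiteBA j j.2
      haveI : Module.Finite (𝒟.A j) (𝒟.M j) := 𝒟.finiteM j j.2
      haveI : Module.Finite (𝒟.B j) (𝒟.M j) := Module.Finite.trans (𝒟.A j) (𝒟.M j)
      obtain ⟨qB', qA', h1, h2, h3, h4, h5, h6, h7, h8, h9⟩ :=
        step R p R' p' hκ (𝒟.B j) (𝒟.A j) (𝒟'.B j) (𝒟'.A j) (𝒟.M j) (𝒟'.M j) (gM j) hgM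
          (𝒜.qB j) (𝒜.qA j) (𝒜.d j) (𝒜.pureTrans j j.2) (𝒜.uniq j j.2) (𝒜.locDim j j.2)
      exact ⟨qB', qA', h1, h2, h3, h4, fun _ => ⟨h5, h6, h7, h8, h9⟩⟩
    · obtain ⟨Q, P, hQ, hP, hQp, hPQ⟩ := htail i (not_lt.mp h)
      exact ⟨Q, P, hQ, hP, hQp, hPQ, fun h' => absurd h' h⟩
  choose qB' qA' hqB hqA hoverB hoverA hprops using key
  have hApos : ∀ i, (qA' i).LiesOver p' := fun i => Ideal.LiesOver.trans (qA' i) (qB' i) p'
  refine ⟨{ qB := qB', qA := qA', hqB := hqB, hqA := hqA, overB := hoverB, overA := hoverA,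
            pureTrans := fun i h => (hprops i (hn ▸ h)).2.2.1
            uniq := fun i h => (hprops i (hn ▸ h)).2.2.2.1
            q0 := ?_
            qStep := ?_
            d := 𝒜.d
            relDim := ?_
            locDim := fun i h => (hprops i (hn ▸ h)).2.2.2.2 }, rfl,
          fun i => ⟨(hprops i i.2).1, (hprops i i.2).2.1⟩⟩
  · -- q0
    haveI := hApos 0
    haveI : ((qA' 0).under S').IsPrime := Ideal.IsPrime.under S' (qA' 0)
    haveI : ((qA' 0).under S').LiesOver p' :=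
      ⟨by rw [Ideal.under_under (B := S') (A := R') (qA' 0), ← Ideal.over_def (qA' 0) p']⟩
    letI := aA ⟨0, 𝒟.pos⟩
    haveI := hS0
    haveI : (qA' 0).LiesOver (𝒜.qA 0) := (hprops 0 𝒟.pos).2.1
    refine eq_of_comap_eq R S p R' p' hκ S' ((qA' 0).under S') q' ?_
    rw [← Ideal.under_def, ← Ideal.under_def, Ideal.under_under (B := S') (A := S) (qA' 0),
      ← Ideal.under_under (B := 𝒟.A 0) (A := S) (qA' 0), ← Ideal.over_def (qA' 0) (𝒜.qA 0),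
      ← Ideal.over_def q' q]
    exact 𝒜.q0
  · -- qStep
    intro i h
    have h' : i + 1 < 𝒟.n := hn ▸ h
    have hi : i < 𝒟.n := by omega
    haveI := hApos (i + 1)
    haveI : ((qA' (i + 1)).under (𝒟'.B i)).IsPrime := Ideal.IsPrime.under (𝒟'.B i) (qA' (i + 1))
    haveI : ((qA' (i + 1)).under (𝒟'.B i)).LiesOver p' :=
      ⟨by rw [Ideal.under_under (B := 𝒟'.B i) (A := R') (qA' (i + 1)),
        ← Ideal.over_def (qA' (i + 1)) p']⟩
    letI : Algebra (𝒟.B i) (𝒟'.B i) := aB ⟨i, hi⟩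
    letI : Algebra R (𝒟'.B i) := rB ⟨i, hi⟩
    haveI : IsScalarTower R R' (𝒟'.B i) :=
      (inferInstance : ∀ j : Fin 𝒟.n, IsScalarTower R R' (𝒟'.B j)) ⟨i, hi⟩
    haveI : IsScalarTower R (𝒟.B i) (𝒟'.B i) :=
      (inferInstance : ∀ j : Fin 𝒟.n, IsScalarTower R (𝒟.B j) (𝒟'.B j)) ⟨i, hi⟩
    haveI : Algebra.IsPushout R R' (𝒟.B i) (𝒟'.B i) := (hall ⟨i, hi⟩).2.1
    letI : Algebra (𝒟.B i) (𝒟'.A (i + 1)) := bA' ⟨i, hi⟩
    haveI : IsScalarTower (𝒟.B i) (𝒟'.B i) (𝒟'.A (i + 1)) :=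
      (inferInstance : ∀ j : Fin 𝒟.n, IsScalarTower (𝒟.B j) (𝒟'.B j) (𝒟'.A (j + 1))) ⟨i, hi⟩
    letI : Algebra (𝒟.A (i + 1)) (𝒟'.A (i + 1)) := aA ⟨i + 1, h'⟩
    haveI : IsScalarTower (𝒟.B i) (𝒟.A (i + 1)) (𝒟'.A (i + 1)) := hstepT ⟨i, hi⟩ h'
    haveI : (qA' (i + 1)).LiesOver (𝒜.qA (i + 1)) := (hprops (i + 1) h').2.1
    haveI : (qB' i).LiesOver (𝒜.qB i) := (hprops i hi).1
    refine eq_of_comap_eq R (𝒟.B i) p R' p' hκ (𝒟'.B i) ((qA' (i + 1)).under (𝒟'.B i)) (qB' i) ?_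
    rw [← Ideal.under_def, ← Ideal.under_def,
      Ideal.under_under (B := 𝒟'.B i) (A := 𝒟.B i) (qA' (i + 1)),
      ← Ideal.under_under (B := 𝒟.A (i + 1)) (A := 𝒟.B i) (qA' (i + 1)),
      ← Ideal.over_def (qA' (i + 1)) (𝒜.qA (i + 1)), ← Ideal.over_def (qB' i) (𝒜.qB i)]
    exact 𝒜.qStep i h'
  · -- relDim
    intro i h
    have hi : i < 𝒟.n := hn ▸ h
    letI : Algebra (𝒟.B i) (𝒟'.B i) := aB ⟨i, hi⟩
    letI : Algebra R (𝒟'.B i) := rB ⟨i, hi⟩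
    haveI : IsScalarTower R R' (𝒟'.B i) :=
      (inferInstance : ∀ j : Fin 𝒟.n, IsScalarTower R R' (𝒟'.B j)) ⟨i, hi⟩
    haveI : IsScalarTower R (𝒟.B i) (𝒟'.B i) :=
      (inferInstance : ∀ j : Fin 𝒟.n, IsScalarTower R (𝒟.B j) (𝒟'.B j)) ⟨i, hi⟩
    haveI : Algebra.IsPushout R R' (𝒟.B i) (𝒟'.B i) := (hall ⟨i, hi⟩).2.1
    exact smoothRelDim_baseChange R (𝒟.B i) R' (𝒟'.B i) (𝒜.d i) (𝒜.relDim i hi)

end Groth.Agent.S12244
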