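import Groth.Statements.S12246
-- import your own Groth.Agent.* helpers here
import Mathlib
import Groth.Agent.Lib.Helper27.DvS12
import Groth.Agent.Lib.Helper27.DvS14

set_option autoImplicit false
universe u
open FlatMor

namespace Groth.Agent.S12246

open TensorProduct in
/-- All schemes are affine and standard opens are rendered as localizations away from one element. Let R
→ S be of finite type, N a finite S-module, p ⊆ R and q ⊆ S primes, and (𝒟, 𝒜) a complete dévissage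
of N/S/R at q in the prelude's algebraic form (rings A_i and smooth R-algebras B_i, modules M_i,
maps α_i, points qA_i, qB_i and relative dimensions d_i). Then for every u ∈ S outside q there is a
standard shrinking inside D(u): g ∉ p and hX ∉ q with u invertible in S[1/hX], compatible structures
making S[1/hX] and N[1/hX] live over R[1/g], and a complete dévissage (𝒟', 𝒜') of N[1/hX] over
S[1/hX] relative to R[1/g] at the extended prime of q, of the same length, ranks and relative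
dimensions, whose rings A'_i, B'_i are localizations of A_i, B_i away from single elements a_i ∉
qA_i, b_i ∉ qB_i (as algebras compatible with R → R[1/g], with B_i → A_i, B_i → A_{i+1}, S → A_0 and
S[1/hX] → A'_0), whose modules M'_i are the corresponding localizations of M_i (compatibly with N ≅
M_0), whose points lie over the qA_i, qB_i, and with the image of α_i generating the image of α'_i.
(The cokernel identifications of 𝒟' are not pinned.) -/
theorem result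
    (R S : Type u) [CommRing R] [CommRing S] [Algebra R S] [Algebra.FiniteType R S]
    (N : Type u) [AddCommGroup N] [Module S N] [Module.Finite S N]
    (p : Ideal R) [p.IsPrime] (q : Ideal S) [q.IsPrime] (𝒟 : FlatCA.CompleteDevissage R S N p)
    (𝒜 : FlatCA.CompleteDevissageAt R S N p q 𝒟)
    (u : S) (hu : u ∉ q) :
    ∃ (g : R) (hX : S), g ∉ p ∧ hX ∉ q ∧
      IsUnit (algebraMap S (Localization.Away hX) u) ∧
      ∃ (_ : Algebra (Localization.Away g) (Localization.Away hX)) (_ : IsScalarTower R (Localization.Away g) (Localization.Away hX))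
        (_ : Module (Localization.Away g) (LocalizedModule (Submonoid.powers hX) N)) (_ : IsScalarTower (Localization.Away g) (Localization.Away hX) (LocalizedModule (Submonoid.powers hX) N))
        (_ : (Ideal.map (algebraMap R (Localization.Away g)) p).IsPrime) (_ : (Ideal.map (algebraMap S (Localization.Away hX)) q).IsPrime)
        (𝒟' : FlatCA.CompleteDevissage (Localization.Away g) (Localization.Away hX) (LocalizedModule (Submonoid.powers hX) N) (Ideal.map (algebraMap R (Localization.Away g)) p))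
        (𝒜' : FlatCA.CompleteDevissageAt (Localization.Away g) (Localization.Away hX) (LocalizedModule (Submonoid.powers hX) N) (Ideal.map (algebraMap R (Localization.Away g)) p) (Ideal.map (algebraMap S (Localization.Away hX)) q) 𝒟')
        (a : ∀ i : Fin 𝒟.n, 𝒟.A i) (b : ∀ i : Fin 𝒟.n, 𝒟.B i)
      (aA : ∀ i : Fin 𝒟.n, Algebra (𝒟.A i) (𝒟'.A i)) (rA : ∀ i : Fin 𝒟.n, Algebra R (𝒟'.A i))
      (_t1 : ∀ i : Fin 𝒟.n, IsScalarTower R (Localization.Away g) (𝒟'.A i)) (_t2 : ∀ i : Fin 𝒟.n, IsScalarTower R (𝒟.A i) (𝒟'.A i))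
      (aB : ∀ i : Fin 𝒟.n, Algebra (𝒟.B i) (𝒟'.B i)) (rB : ∀ i : Fin 𝒟.n, Algebra R (𝒟'.B i))
      (_t3 : ∀ i : Fin 𝒟.n, IsScalarTower R (Localization.Away g) (𝒟'.B i)) (_t4 : ∀ i : Fin 𝒟.n, IsScalarTower R (𝒟.B i) (𝒟'.B i))
      (bA : ∀ i : Fin 𝒟.n, Algebra (𝒟.B i) (𝒟'.A i)) (_t5 : ∀ i : Fin 𝒟.n, IsScalarTower (𝒟.B i) (𝒟.A i) (𝒟'.A i))
      (_t6 : ∀ i : Fin 𝒟.n, IsScalarTower (𝒟.B i) (𝒟'.B i) (𝒟'.A i))
      (bA' : ∀ i : Fin 𝒟.n, Algebra (𝒟.B i) (𝒟'.A (i + 1)))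
      (_t7 : ∀ i : Fin 𝒟.n, IsScalarTower (𝒟.B i) (𝒟'.B i) (𝒟'.A (i + 1)))
      (sA : Algebra S (𝒟'.A 0)) (_t8 : IsScalarTower S (Localization.Away hX) (𝒟'.A 0))
      (mA : ∀ i : Fin 𝒟.n, Module (𝒟.A i) (𝒟'.M i)) (_t9 : ∀ i : Fin 𝒟.n, IsScalarTower (𝒟.A i) (𝒟'.A i) (𝒟'.M i))
      (gM : ∀ i : Fin 𝒟.n, 𝒟.M i →ₗ[𝒟.A i] 𝒟'.M i),
        𝒟'.n = 𝒟.n ∧ 𝒟'.r = 𝒟.r ∧ 𝒜'.d = 𝒜.d ∧
        (letI := aA ⟨0, 𝒟.pos⟩; IsScalarTower S (𝒟.A 0) (𝒟'.A 0)) ∧
      (∀ x : N, 𝒟'.isoN (LocalizedModule.mkLinearMap (Submonoid.powers hX) N x) = gM ⟨0, 𝒟.pos⟩ (𝒟.isoN x)) ∧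
      (∀ (i : Fin 𝒟.n) (h : (i : ℕ) + 1 < 𝒟.n),
        letI := aA ⟨i + 1, h⟩; IsScalarTower (𝒟.B i) (𝒟.A (i + 1)) (𝒟'.A (i + 1))) ∧
        ∀ i : Fin 𝒟.n,
          a i ∉ 𝒜.qA i ∧ b i ∉ 𝒜.qB i ∧
          IsLocalization.Away (a i) (𝒟'.A i) ∧ IsLocalization.Away (b i) (𝒟'.B i) ∧
          IsLocalizedModule (Submonoid.powers (a i)) (gM i) ∧
          (𝒜'.qA i).LiesOver (𝒜.qA i) ∧ (𝒜'.qB i).LiesOver (𝒜.qB i) ∧
          LinearMap.range (𝒟'.α i) =
            Submodule.span (𝒟'.B i) ((gM i) '' (LinearMap.range (𝒟.α i) : Set (𝒟.M i))) := by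
  open Groth.Agent.Helper27.Dv in
  classical
  have hpos := 𝒟.pos
  obtain ⟨c, hc1, hc2, hc3⟩ := exists_c 𝒟 𝒜 u hu
  obtain ⟨b0, hb1, hb2, hb3, hb4⟩ := exists_b0 𝒟 𝒜 c hc1 (c (𝒟.n - 1))
    (hc1 (𝒟.n - 1) (by omega)) dvd_rfl
  obtain ⟨g, hg, hsurj⟩ := exists_g 𝒟 𝒜 b0 hb4
  obtain ⟨s0, hs0⟩ := 𝒟.surjSA (algebraMap (𝒟.B 0) (𝒟.A 0) (b0 0))
  have hXeq : algebraMap S (𝒟.A 0) (u * s0 * algebraMap R S g) =
      algebraMap S (𝒟.A 0) u * aE 𝒟 g b0 0 := by
    change _ = _ * algebraMap (𝒟.B 0) (𝒟.A 0) (bE 𝒟 g b0 0)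
    rw [bE_map, map_mul, map_mul, hs0, ← IsScalarTower.algebraMap_apply R S (𝒟.A 0), mul_assoc]
  have hua : algebraMap S (𝒟.A 0) u ∣ aE 𝒟 g b0 0 := by
    refine hc2.trans (((algebraMap (𝒟.B 0) (𝒟.A 0)).map_dvd (hb3 0 hpos)).trans ?_)
    change _ ∣ algebraMap (𝒟.B 0) (𝒟.A 0) (bE 𝒟 g b0 0)
    rw [bE_map]
    exact Dvd.intro _ rfl
  have H : ShrinkHyp 𝒟 𝒜 g b0 (u * s0 * algebraMap R S g) :=
    shrinkHyp_of hg (Dvd.intro_left _ rfl) hb4 hsurj
      (by rw [hXeq, sq]; exact mul_dvd_mul hua dvd_rfl)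
      (by rw [hXeq]; exact Dvd.intro_left _ rfl)
      (fun i hi => by rw [hb2 i hi]; exact Dvd.intro_left _ rfl)
      (fun i hi => by
        rw [hb2 i hi, sq]
        exact mul_dvd_mul ((hc3 i hi).trans
          ((algebraMap (𝒟.B (i + 1)) (𝒟.A (i + 1))).map_dvd (hb3 (i + 1) hi))) dvd_rfl)
  have hunit : IsUnit (algebraMap S (Localization.Away (u * s0 * algebraMap R S g)) u) := by
    refine isUnit_away_of_dvd u _ ?_
    rw [Algebra.algebraMap_self_apply, mul_assoc]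
    exact Dvd.intro _ rfl
  obtain ⟨x1, x2, x3, x4, x5, x6, 𝒟', 𝒜', y1, y2, y3, y4, y5, y6, y7, y8, y9, y10, y11, y12, y13,
    y14, y15, y16, y17, y18, hconj⟩ := shrink_main H
  exact ⟨g, u * s0 * algebraMap R S g, hg, H.hXq, hunit, x1, x2, x3, x4, x5, x6, 𝒟', 𝒜',
    fun i => aE 𝒟 g b0 i, fun i => bE 𝒟 g b0 i, y1, y2, y3, y4, y5, y6, y7, y8, y9, y10, y11, y12,
    y13, y14, y15, y16, y17, y18, hconj⟩

end Groth.Agent.S12246
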