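import Groth.Statements.S12249
import Groth.Agent.Lib.Helper18.ArtFunSqZero
import Mathlib.RingTheory.Nakayama

set_option autoImplicit false
universe u v
open CategoryTheory
open Deform

namespace Groth.Agent.S12249

/-- Let k be an algebraically closed field and F a set-valued functor on local Artinian k-algebras with
residue field k such that F(k) is a single point. If F has a semiuniversal formal element and its
tangent space F(k[ε]) is reduced to one element, then F(A) consists of exactly one element for every
A: F is the constant one-point functor h_k. -/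
theorem result
    {k : Type u} [Field k] [IsAlgClosed k]
    (F : ArtFun.Art k k ⥤ Type v) (h0 : ArtFun.H0 F) (hF : ArtFun.HasHull F)
    (ht : Subsingleton (ArtFun.TangentSpace F)) (A : ArtFun.Art k k) :
    Nonempty (F.obj A) ∧ Subsingleton (F.obj A) := by
  obtain ⟨⟨R, ξ, hmini⟩⟩ := hF
  -- surjectivity of all components
  have hsurj : ∀ B : ArtFun.Art k k, Function.Surjective (ξ.app B) := by
    intro B y
    have hsub := h0.2
    obtain ⟨ψ, -, hψ⟩ := hmini.1 (ArtFun.Art.toBase B) (Groth.Agent.Helper18.toBase_surjective B)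
      Groth.Agent.Helper18.homSetBase y (Subsingleton.elim _ _)
    exact ⟨ψ, hψ⟩
  -- h_R(k[ε]) is a subsingleton
  have hdual : ∀ φ₁ φ₂ : ArtFun.HomSet R.carrier R.res (ArtFun.Art.dual k k), φ₁ = φ₂ := by
    intro φ₁ φ₂
    apply hmini.2.1
    exact ht.elim _ _
  -- the quotient map to R/m^2 equals the trivial map
  let triv : ∀ B : ArtFun.Art k k, ArtFun.HomSet R.carrier R.res B := fun B =>
    ⟨(Algebra.ofId k B).comp R.res, by
      apply AlgHom.ext
      intro r
      exact B.res.commutes (R.res r)⟩
  have hq : R.truncHom 1 = triv (R.trunc 1) :=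
    Groth.Agent.Helper18.homSet_ext_of_sqZero (R.trunc 1)
      (Groth.Agent.Helper18.trunc_one_sqZero R) _ _ (fun π => hdual _ _)
  have hm : IsLocalRing.maximalIdeal R.carrier ≤
      IsLocalRing.maximalIdeal R.carrier • IsLocalRing.maximalIdeal R.carrier := by
    intro r hr
    have h1 := AlgHom.congr_fun (congrArg Subtype.val hq) r
    change Ideal.Quotient.mk (R.mpow 1) r = algebraMap k _ (R.res r) at h1
    rw [(ArtFun.CRing.mem_maximalIdeal_iff R r).1 hr, map_zero, Ideal.Quotient.eq_zero_iff_mem] at h1
    have : R.mpow 1 = IsLocalRing.maximalIdeal R.carrier • IsLocalRing.maximalIdeal R.carrier := by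
      change IsLocalRing.maximalIdeal R.carrier ^ 2 = _
      rw [pow_two]; rfl
    rw [← this]
    exact h1
  have hbot : IsLocalRing.maximalIdeal R.carrier = ⊥ :=
    Submodule.eq_bot_of_le_smul_of_le_jacobson_bot (IsLocalRing.maximalIdeal R.carrier)
      (IsLocalRing.maximalIdeal R.carrier) (IsNoetherian.noetherian _) hm
      (IsLocalRing.maximalIdeal_le_jacobson _)
  have hr : ∀ r : R.carrier, r = algebraMap k R.carrier (R.res r) := by
    intro r
    have : r - algebraMap k R.carrier (R.res r) ∈ IsLocalRing.maximalIdeal R.carrier := by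
      rw [ArtFun.CRing.mem_maximalIdeal_iff, map_sub, AlgHom.commutes]
      exact sub_self _
    rw [hbot, Ideal.mem_bot, sub_eq_zero] at this
    exact this
  have hsub : ∀ φ₁ φ₂ : ArtFun.HomSet R.carrier R.res A, φ₁ = φ₂ := by
    intro φ₁ φ₂
    apply Subtype.ext
    apply AlgHom.ext
    intro r
    rw [hr r, AlgHom.commutes, AlgHom.commutes]
  refine ⟨⟨ξ.app A (triv A)⟩, ⟨fun x y => ?_⟩⟩
  obtain ⟨φ₁, rfl⟩ := hsurj A x
  obtain ⟨φ₂, rfl⟩ := hsurj A y
  rw [hsub φ₁ φ₂]

end Groth.Agent.S12249
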