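import Groth.Statements.S12252
import Groth.Agent.Lib.Helper18.ArtFunComplete

set_option autoImplicit false
universe u v
open CategoryTheory
open Deform

namespace Groth.Agent.S12252

/-- Let k be an algebraically closed field, Λ a complete local Noetherian k-algebra with residue field k
and F a set-valued functor on local Artinian Λ-algebras with residue field k. If (R, u) and (S, v)
both prorepresent F (complete local Noetherian Λ-algebras with residue field k carrying universal
families), then there is a unique isomorphism of Λ-algebras R ≅ S, compatible with the augmentations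
to k, along which the universal family of R is transported to that of S. -/
theorem result
    {k Λ : Type u} [Field k] [IsAlgClosed k] [CommRing Λ] [IsLocalRing Λ] [IsNoetherianRing Λ]
    [IsAdicComplete (IsLocalRing.maximalIdeal Λ) Λ] [Algebra k Λ] [Algebra Λ k] [IsScalarTower k Λ k]
    {F : ArtFun.Art Λ k ⥤ Type v} (P Q : ArtFun.ProRep F) :
    ∃! e : P.ring.carrier ≃ₐ[Λ] Q.ring.carrier,
      ∃ he : Q.ring.res.comp e.toAlgHom = P.ring.res, P.family.along e.toAlgHom he = Q.family := by
  have hPv := Groth.Agent.Helper18.isVersal_of_isUniversal P.family P.universal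
  have hQv := Groth.Agent.Helper18.isVersal_of_isUniversal Q.family Q.universal
  obtain ⟨e₁, he₁, h₁⟩ := Groth.Agent.Helper18.exists_along_eq_of_isVersal P.family hPv
    (fun A => (P.universal A).2) Q.ring Q.family
  obtain ⟨e₂, he₂, h₂⟩ := Groth.Agent.Helper18.exists_along_eq_of_isVersal Q.family hQv
    (fun A => (Q.universal A).2) P.ring P.family
  have h21 : e₂.comp e₁ = AlgHom.id Λ _ := by
    have hc : P.ring.res.comp (e₂.comp e₁) = P.ring.res := by
      rw [← AlgHom.comp_assoc, he₂, he₁]
    apply Groth.Agent.Helper18.algHom_eq_of_isUniversal P.family P.universal P.ring _ _ hc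
      (AlgHom.comp_id _)
    rw [← Groth.Agent.Helper18.along_along P.family e₁ he₁ e₂ he₂, h₁, h₂]
    rfl
  have h12 : e₁.comp e₂ = AlgHom.id Λ _ := by
    have hc : Q.ring.res.comp (e₁.comp e₂) = Q.ring.res := by
      rw [← AlgHom.comp_assoc, he₁, he₂]
    apply Groth.Agent.Helper18.algHom_eq_of_isUniversal Q.family Q.universal Q.ring _ _ hc
      (AlgHom.comp_id _)
    rw [← Groth.Agent.Helper18.along_along Q.family e₂ he₂ e₁ he₁, h₂, h₁]
    rfl
  refine ⟨AlgEquiv.ofAlgHom e₁ e₂ h12 h21, ⟨he₁, h₁⟩, ?_⟩
  rintro e' ⟨he', h'⟩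
  apply AlgEquiv.ext
  intro x
  have : e'.toAlgHom = e₁ := by
    apply Groth.Agent.Helper18.algHom_eq_of_isUniversal P.family P.universal Q.ring _ _ he' he₁
    rw [h', h₁]
  exact AlgHom.congr_fun this x

end Groth.Agent.S12252
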