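import Groth.Statements.S12257
import Mathlib.CategoryTheory.Limits.Types.Pullbacks
import Mathlib.CategoryTheory.Limits.FunctorCategory.Shapes.Pullbacks
import Mathlib.CategoryTheory.Limits.Shapes.Pullback.IsPullback.Basic

set_option autoImplicit false
universe u v
open CategoryTheory CategoryTheory.Limits
open Deform

namespace Groth.Agent.S12257

/-- Let k be an algebraically closed field, Λ a complete local Noetherian k-algebra with residue field
k, and F, G, H set-valued functors on local Artinian Λ-algebras with residue field k, each with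
one-point value at k. If F → G is a smooth morphism of functors and H → G is any morphism, then the
second projection F ×_G H → H of the fibre product of functors is smooth. -/
theorem result
    {k Λ : Type u} [Field k] [IsAlgClosed k] [CommRing Λ] [IsLocalRing Λ] [IsNoetherianRing Λ]
    [IsAdicComplete (IsLocalRing.maximalIdeal Λ) Λ] [Algebra k Λ] [Algebra Λ k] [IsScalarTower k Λ k]
    {F G H : ArtFun.Art Λ k ⥤ Type v} (η : F ⟶ G) (θ : H ⟶ G)
    (hF : ArtFun.H0 F) (hG : ArtFun.H0 G) (hH : ArtFun.H0 H) (hη : ArtFun.IsSmooth η) :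
    ArtFun.IsSmooth (pullback.snd η θ) := by
  have hP : IsPullback (pullback.fst η θ) (pullback.snd η θ) η θ := IsPullback.of_hasPullback η θ
  have hPe : ∀ A : ArtFun.Art Λ k, IsPullback ((pullback.fst η θ).app A) ((pullback.snd η θ).app A)
      (η.app A) (θ.app A) := fun A => hP.map ((evaluation _ _).obj A)
  intro B A μ hμ y
  obtain ⟨⟨p, h⟩, hy⟩ := y
  dsimp only at hy
  -- p : P(A), h : H(B), hy : snd p = H.map μ h
  have h1 : G.map μ (θ.app B h) = η.app A ((pullback.fst η θ).app A p) := by
    have e1 : G.map μ (θ.app B h) = θ.app A (H.map μ h) := (NatTrans.naturality_apply θ μ h).symm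
    rw [e1, ← hy]
    exact (ConcreteCategory.congr_hom (hPe A).w p).symm
  obtain ⟨z, hz⟩ := hη μ hμ ⟨((pullback.fst η θ).app A p, θ.app B h), h1.symm⟩
  have hz1 : F.map μ z = (pullback.fst η θ).app A p := congrArg (fun t => t.1.1) hz
  have hz2 : η.app B z = θ.app B h := congrArg (fun t => t.1.2) hz
  obtain ⟨q, hq1, hq2⟩ := Types.exists_of_isPullback (hPe B) z h hz2
  refine ⟨q, ?_⟩
  apply Subtype.ext
  apply Prod.ext
  · change (pullback η θ).map μ q = p
    apply Types.ext_of_isPullback (hPe A)
    · rw [← hz1, ← hq1]
      exact NatTrans.naturality_apply (pullback.fst η θ) μ q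
    · rw [hy, ← hq2]
      exact NatTrans.naturality_apply (pullback.snd η θ) μ q
  · exact hq2

end Groth.Agent.S12257
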