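import Groth.Statements.S12258
import Mathlib.CategoryTheory.Limits.Shapes.FunctorToTypes

set_option autoImplicit false
universe u v
open CategoryTheory CategoryTheory.Limits
open Deform

namespace Groth.Agent.S12258

/-- Let k be an algebraically closed field, Λ a complete local Noetherian k-algebra with residue field
k, and F, G set-valued functors on local Artinian Λ-algebras with residue field k, each with
one-point value at k. If F and G are smooth functors, i.e. F(B) → F(A) and G(B) → G(A) are
surjective for every surjection B → A, then the product functor F × G is smooth. -/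
theorem result
    {k Λ : Type u} [Field k] [IsAlgClosed k] [CommRing Λ] [IsLocalRing Λ] [IsNoetherianRing Λ]
    [IsAdicComplete (IsLocalRing.maximalIdeal Λ) Λ] [Algebra k Λ] [Algebra Λ k] [IsScalarTower k Λ k]
    {F G : ArtFun.Art Λ k ⥤ Type v}
    (hF : ArtFun.H0 F) (hG : ArtFun.H0 G) (sF : ArtFun.IsSmoothFunctor F) (sG : ArtFun.IsSmoothFunctor G) :
    ArtFun.IsSmoothFunctor (F ⨯ G) := by
  intro B A μ hμ y
  let e := FunctorToTypes.binaryProductIso F G
  obtain ⟨a', ha'⟩ := sF μ hμ (e.hom.app A y).1
  obtain ⟨b', hb'⟩ := sG μ hμ (e.hom.app A y).2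
  let w : (FunctorToTypes.prod F G).obj B := (a', b')
  refine ⟨e.inv.app B w, ?_⟩
  have h1 : (F ⨯ G).map μ (e.inv.app B w) = e.inv.app A ((FunctorToTypes.prod F G).map μ w) :=
    (NatTrans.naturality_apply e.inv μ w).symm
  rw [h1]
  have h2 : (FunctorToTypes.prod F G).map μ w = e.hom.app A y := Prod.ext ha' hb'
  rw [h2]
  have h3 : e.hom.app A ≫ e.inv.app A = 𝟙 _ := by
    rw [← NatTrans.comp_app, e.hom_inv_id]; rfl
  exact ConcreteCategory.congr_hom h3 y

end Groth.Agent.S12258
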