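import Groth.Statements.S1226
-- import your own Groth.Agent.* helpers here
import Mathlib
import Groth.Agent.S1246

set_option autoImplicit false
universe u
open FlatMor

namespace Groth.Agent.S1226

open TensorProduct in
theorem quasiFiniteAt_trans {A A' A'' : Type u} [CommRing A] [CommRing A'] [CommRing A'']
    [Algebra A A'] [Algebra A' A''] [Algebra A A''] [IsScalarTower A A' A'']
    (p' : Ideal A') [p'.IsPrime] [Algebra.QuasiFiniteAt A p'] [Algebra.QuasiFinite A' A'']
    (t : Ideal A'') [t.IsPrime] [t.LiesOver p'] : Algebra.QuasiFiniteAt A t := by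
  letI := Localization.AtPrime.algebraOfLiesOver p' t
  haveI : Algebra.QuasiFinite (Localization.AtPrime p') (Localization.AtPrime p' ⊗[A'] A'') :=
    inferInstance
  let f : Localization.AtPrime p' ⊗[A'] A'' →ₐ[Localization.AtPrime p'] Localization.AtPrime t :=
    Algebra.TensorProduct.lift (Algebra.ofId _ _)
      (IsScalarTower.toAlgHom A' A'' (Localization.AtPrime t)) (fun _ _ => Commute.all _ _)
  have hf : ∀ a : A'', f (1 ⊗ₜ a) = algebraMap A'' (Localization.AtPrime t) a := by
    intro a
    simp [f]
  haveI : Algebra.QuasiFinite (Localization.AtPrime p') (Localization.AtPrime t) := by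
    refine Algebra.QuasiFinite.of_forall_exists_mul_mem_range f (fun x => ?_)
    obtain ⟨a, ⟨s, hs⟩, rfl⟩ := IsLocalization.exists_mk'_eq t.primeCompl x
    refine ⟨1 ⊗ₜ s, ?_, 1 ⊗ₜ a, ?_⟩
    · rw [hf]
      exact IsLocalization.map_units _ (⟨s, hs⟩ : t.primeCompl)
    · show f (1 ⊗ₜ a) = _
      rw [hf, hf]
      exact (IsLocalization.mk'_spec _ a (⟨s, hs⟩ : t.primeCompl)).symm
  exact Algebra.QuasiFinite.trans A (Localization.AtPrime p') (Localization.AtPrime t)


/-- Ring form, X = Spec B affine: let B be a finite type A-algebra, N a finite B-module and p a prime of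
A; let A' be an A-algebra with a prime p' over p such that A' is of finite type over A and
quasi-finite at p', and let B', N' be the base changes of B, N. If N is pure along the fibre over p
then N' is pure along the fibre over p'. -/
theorem result {A B : Type u} [CommRing A] [CommRing B] [Algebra A B] [Algebra.FiniteType A B]
    (N : Type u) [AddCommGroup N] [Module B N] [Module.Finite B N] (p : Ideal A) [p.IsPrime]
    (A' B' N' : Type u) [CommRing A'] [CommRing B'] [Algebra A A'] [Algebra B B'] [Algebra A' B'] [Algebra A B']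
    [IsScalarTower A B B'] [IsScalarTower A A' B'] [Algebra.IsPushout A B A' B']
    [AddCommGroup N'] [Module B' N'] [Module B N'] [IsScalarTower B B' N'] (f : N →ₗ[B] N') (hf : IsBaseChange B' f)
    (p' : Ideal A') [p'.IsPrime] [p'.LiesOver p] [Algebra.FiniteType A A'] [Algebra.QuasiFiniteAt A p']
    (h : FlatCA.IsPureAlong A B N p) : FlatCA.IsPureAlong A' B' N' p' := by
  classical
  intro A'' B'' N'' iA'' iB'' algA'A'' algB'B'' algA''B'' algA'B'' tA'B'B'' tA'A''B'' acgN''
    modB''N'' modB'N'' tB'B''N'' modA''N'' tA''B''N'' f'' t' t ht' ht P hP hnhd himp''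
  obtain ⟨hpo'', hbc'', htt, htp', hPt', hass, hcl⟩ := himp''
  obtain ⟨hEt, htp'2, hbij⟩ := hnhd
  haveI := hEt
  haveI := htp'
  -- composite structures
  letI algAA'' : Algebra A A'' := ((algebraMap A' A'').comp (algebraMap A A')).toAlgebra
  haveI tAA'A'' : IsScalarTower A A' A'' := IsScalarTower.of_algebraMap_eq (fun _ => rfl)
  letI algBB'' : Algebra B B'' := ((algebraMap B' B'').comp (algebraMap B B')).toAlgebra
  haveI tBB'B'' : IsScalarTower B B' B'' := IsScalarTower.of_algebraMap_eq (fun _ => rfl)
  letI algAB'' : Algebra A B'' := ((algebraMap A' B'').comp (algebraMap A A')).toAlgebra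
  haveI tAA'B'' : IsScalarTower A A' B'' := IsScalarTower.of_algebraMap_eq (fun _ => rfl)
  haveI tAB'B'' : IsScalarTower A B' B'' := IsScalarTower.of_algebraMap_eq (fun a => by
    show algebraMap A' B'' (algebraMap A A' a) = algebraMap B' B'' (algebraMap A B' a)
    rw [IsScalarTower.algebraMap_apply A A' B', ← IsScalarTower.algebraMap_apply A' B' B''])
  haveI tABB'' : IsScalarTower A B B'' := IsScalarTower.of_algebraMap_eq (fun a => by
    show algebraMap A' B'' (algebraMap A A' a) =
      algebraMap B' B'' (algebraMap B B' (algebraMap A B a))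
    rw [← IsScalarTower.algebraMap_apply A B B', IsScalarTower.algebraMap_apply A A' B',
      ← IsScalarTower.algebraMap_apply A' B' B''])
  haveI tAA''B'' : IsScalarTower A A'' B'' := IsScalarTower.of_algebraMap_eq (fun a => by
    show algebraMap A' B'' (algebraMap A A' a) =
      algebraMap A'' B'' (algebraMap A' A'' (algebraMap A A' a))
    rw [← IsScalarTower.algebraMap_apply A' A'' B''])
  letI modBN'' : Module B N'' := Module.compHom N'' (algebraMap B B')
  have hsmB : ∀ (b : B) (n : N''), b • n = algebraMap B B' b • n := fun _ _ => rfl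
  haveI tBB'N'' : IsScalarTower B B' N'' := ⟨fun b b' n => by
    rw [hsmB, Algebra.smul_def, mul_smul]⟩
  haveI tBB''N'' : IsScalarTower B B'' N'' := ⟨fun b b'' n => by
    rw [hsmB, Algebra.smul_def, mul_smul,
      show algebraMap B B'' b = algebraMap B' B'' (algebraMap B B' b) from rfl, algebraMap_smul]⟩
  -- the composite base change
  have hbc : IsBaseChange B'' ((f''.restrictScalars B).comp f) := IsBaseChange.comp hf hbc''
  -- the composite pushout
  haveI hpo1 : Algebra.IsPushout A A' B B' := Algebra.IsPushout.symm inferInstance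
  haveI hpo2 : Algebra.IsPushout A' A'' B' B'' := hpo''.symm
  have hpo3 : Algebra.IsPushout A A'' B B'' :=
    (Algebra.IsPushout.comp_iff A A' B (S' := B') (T := A'') (T' := B'')).mpr hpo2
  have hpo : Algebra.IsPushout A B A'' B'' := hpo3.symm
  haveI htp : t.LiesOver p := Ideal.LiesOver.trans t p' p
  have himpA : FlatCA.IsImpurity A B N p A'' B'' N'' ((f''.restrictScalars B).comp f) t' t P :=
    ⟨hpo, hbc, htt, htp, hPt', hass, hcl⟩
  haveI hft : Algebra.FiniteType A A'' :=
    Algebra.FiniteType.trans (S := A') inferInstance inferInstance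
  haveI hqfA'' : Algebra.QuasiFinite A' A'' := inferInstance
  have hqf : Algebra.QuasiFiniteAt A t := quasiFiniteAt_trans p' t
  have h2 := Groth.Agent.S1246.result N p ⟨A'', B'', N'', inferInstance, inferInstance,
    inferInstance, inferInstance, inferInstance, inferInstance, inferInstance, inferInstance,
    inferInstance, inferInstance, inferInstance, inferInstance, inferInstance, inferInstance,
    (f''.restrictScalars B).comp f, t', t, ht', ht, P, hP, himpA, ⟨ht, hft, hqf⟩⟩
  obtain ⟨A₃, B₃, N₃, i1, i2, i3, i4, i5, i6, i7, i8, i9, i10, i11, i12, i13, i14, f₃, t₃', t₃,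
    ht₃', ht₃, P₃, hP₃, himp₃, ⟨ht₃2, hnhd₃⟩⟩ := h2
  exact h A₃ B₃ N₃ f₃ t₃' t₃ P₃ hnhd₃ himp₃

end Groth.Agent.S1226
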