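import Groth.Statements.S1227
import Groth.Statements.S1227
import Mathlib.LinearAlgebra.TensorProduct.RightExactness
-- import your own Groth.Agent.* helpers here

set_option autoImplicit false
universe u
open FlatMor

namespace Groth.Agent.S1227

open TensorProduct

theorem aux {A : Type u} [CommRing A] {M N : Type u} [AddCommGroup M] [Module A M] [Module.Projective A M]
    [AddCommGroup N] [Module A N] (u : M →ₗ[A] N) (hu : Function.Surjective u) :
    ∃ I : Ideal A, ∀ (B : Type u) [CommRing B] [Algebra A B],
      Function.Bijective (u.baseChange B) ↔ I.map (algebraMap A B) = ⊥ := by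
  classical
  refine ⟨Ideal.span {a | ∃ f : M →ₗ[A] A, ∃ k ∈ LinearMap.ker u, f k = a}, ?_⟩
  intro B _ _
  obtain ⟨s, hs⟩ := (Module.projective_def' (R := A) (P := M)).1 inferInstance
  have hex : Function.Exact ((LinearMap.ker u).subtype.lTensor B) (u.lTensor B) :=
    lTensor_exact B (LinearMap.exact_subtype_ker_map u) hu
  -- step 1
  have h1 : Function.Bijective (u.baseChange B) ↔
      ∀ k ∈ LinearMap.ker u, ∀ b : B, b ⊗ₜ[A] k = 0 := by
    constructor
    · intro hb k hk b
      apply hb.1
      rw [map_zero, LinearMap.baseChange_tmul, LinearMap.mem_ker.1 hk, tmul_zero]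
    · intro h
      refine ⟨?_, ?_⟩
      · rw [injective_iff_map_eq_zero]
        intro x hx
        have hx' : (u.lTensor B) x = 0 := hx
        obtain ⟨y, rfl⟩ := (hex x).1 hx'
        have hy : ∀ y, ((LinearMap.ker u).subtype.lTensor B) y = 0 := by
          intro y
          induction y using TensorProduct.induction_on with
          | zero => simp
          | tmul b k =>
            rw [LinearMap.lTensor_tmul]
            exact h k.1 k.2 b
          | add y z hy hz => rw [map_add, hy, hz, add_zero]
        exact hy y
      · exact LinearMap.lTensor_surjective B hu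
  rw [h1, Ideal.map_span, Ideal.span_eq_bot]
  constructor
  · intro h x hx
    obtain ⟨a, ⟨f, k, hk, rfl⟩, rfl⟩ := hx
    have h0 := h k hk 1
    have := congrArg (fun z => TensorProduct.rid A B ((f.lTensor B) z)) h0
    simpa [Algebra.smul_def] using this
  · intro h k hk b
    have hk' : k = Finsupp.linearCombination A id (s k) := (DFunLike.congr_fun hs k).symm
    rw [hk', Finsupp.linearCombination_apply, Finsupp.sum, tmul_sum]
    refine Finset.sum_eq_zero (fun m _ => ?_)
    rw [tmul_smul, smul_tmul', Algebra.smul_def]
    have : algebraMap A B (s k m) = 0 :=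
      h _ ⟨_, ⟨(Finsupp.lapply m).comp s, k, hk, rfl⟩, rfl⟩
    rw [this, zero_mul, zero_tmul]

open TensorProduct in
/-- Let u be a surjective linear map from a projective A-module M to an A-module N. Then there is an
ideal I of A such that for every A-algebra B, the base change u ⊗ 1 from B ⊗ M to B ⊗ N is bijective
if and only if the image of I in B is zero. -/
theorem result {A : Type u} [CommRing A] {M N : Type u} [AddCommGroup M] [Module A M] [Module.Projective A M]
    [AddCommGroup N] [Module A N] (u : M →ₗ[A] N) (hu : Function.Surjective u) :
    ∃ I : Ideal A, ∀ (B : Type u) [CommRing B] [Algebra A B],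
      Function.Bijective (u.baseChange B) ↔ I.map (algebraMap A B) = ⊥ := by
  exact aux u hu

end Groth.Agent.S1227
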