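import Groth.Statements.S12286

set_option autoImplicit false
universe u w m
open scoped TensorProduct
open DefT

namespace Groth.Agent.S12286

/-- Let A → B be a ring homomorphism, P a presentation of B over A and M a B-module. The canonical
B-linear map from the A-derivations Der_A(B, M) = Hom_B(Ω_{B/A}, M) to T^0(B/A, M) (the kernel of
Hom_B(L₀, M) → Hom_B(L₁, M), L₀ = B ⊗_R Ω_{R/A}), sending a derivation D to b ⊗ dr ↦ b·D(r̄), is
bijective. -/
theorem result
    (A B : Type u) [CommRing A] [CommRing B] [Algebra A B] (ι σ : Type w) (P : Algebra.Presentation A B ι σ)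
    (M : Type m) [AddCommGroup M] [Module B M] [Module A M] [IsScalarTower A B M] :
    Function.Bijective (CotT.derToT0 P M) := by
  constructor
  · -- injectivity
    intro D D' h
    have h1 : ∀ i, D (P.val i) = D' (P.val i) := by
      intro i
      have := congrArg (fun φ : CotT.T0 P M => (φ : CotT.L0 P →ₗ[B] M) (P.cotangentSpaceBasis i)) h
      simpa [CotT.derLift_basis] using this
    -- derivations agreeing on generators agree
    have key : ∀ r : MvPolynomial ι A, D (MvPolynomial.aeval P.val r) = D' (MvPolynomial.aeval P.val r) := by
      intro r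
      induction r using MvPolynomial.induction_on with
      | C a =>
        rw [MvPolynomial.aeval_C, Derivation.map_algebraMap, Derivation.map_algebraMap]
      | add p q hp hq =>
        rw [map_add, map_add, map_add, hp, hq]
      | mul_X p i hp =>
        rw [map_mul, MvPolynomial.aeval_X, Derivation.leibniz, Derivation.leibniz, hp, h1 i]
    ext b
    obtain ⟨r, rfl⟩ := P.toExtension.algebraMap_surjective b
    rw [CotT.algebraMap_toExtension]
    exact key r
  · -- surjectivity
    rintro ⟨φ, hφ⟩
    rw [LinearMap.mem_ker, CotT.d1Star_apply] at hφ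
    -- toCot is surjective
    have htoCot : Function.Surjective (CotT.toCot P) := by
      intro x
      obtain ⟨⟨r, hr⟩, rfl⟩ := Algebra.Extension.Cotangent.mk_surjective x
      have hr' : r ∈ LinearMap.range (CotT.jmap P) := by
        rw [CotT.range_jmap]; exact hr
      obtain ⟨f, rfl⟩ := hr'
      refine ⟨(1 : B) ⊗ₜ f, ?_⟩
      rw [CotT.toCot_tmul, one_smul]
      rfl
    have hker : LinearMap.ker P.toExtension.toKaehler ≤ LinearMap.ker φ := by
      intro x hx
      rw [LinearMap.mem_ker] at hx
      have := (P.toExtension.exact_cotangentComplex_toKaehler x).1 hx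
      obtain ⟨c, rfl⟩ := this
      obtain ⟨y, rfl⟩ := htoCot c
      rw [LinearMap.mem_ker]
      have := congrArg (fun ψ => ψ y) hφ
      simpa [CotT.d1] using this
    let ψ : Ω[B⁄A] →ₗ[B] M :=
      ((LinearMap.ker P.toExtension.toKaehler).liftQ φ hker) ∘ₗ
        (P.toExtension.toKaehler.quotKerEquivOfSurjective P.toExtension.toKaehler_surjective).symm.toLinearMap
    have hψ : ∀ x, ψ (P.toExtension.toKaehler x) = φ x := by
      intro x
      simp only [ψ, LinearMap.comp_apply, LinearEquiv.coe_coe]
      have : (P.toExtension.toKaehler.quotKerEquivOfSurjective P.toExtension.toKaehler_surjective).symm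
          (P.toExtension.toKaehler x) = Submodule.Quotient.mk x := by
        rw [LinearEquiv.symm_apply_eq]
        rfl
      rw [this, Submodule.liftQ_apply]
    refine ⟨(KaehlerDifferential.linearMapEquivDerivation A B) ψ, ?_⟩
    apply Subtype.ext
    refine (P.cotangentSpaceBasis).ext fun i => ?_
    rw [CotT.derToT0_apply, CotT.derLift_basis]
    show ψ (KaehlerDifferential.D A B (P.val i)) = φ (P.cotangentSpaceBasis i)
    rw [← hψ, Algebra.Generators.toKaehler_cotangentSpaceBasis]


end Groth.Agent.S12286
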