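import Groth.Statements.S12292
import Groth.Agent.Lib.Helper18.CotT.Exal5

set_option autoImplicit false
universe u w m
open scoped TensorProduct
open DefT

namespace Groth.Agent.S12292

/-- Let A → B be a ring homomorphism and M a B-module. The equivalence classes of extensions of B by M
as A-algebras (surjections of A-algebras B' → B whose kernel is an ideal of square zero identified
with M, two extensions being equivalent when there is an isomorphism compatible with the identities
of B and M) are in bijection with T^1(B/A, M), computed from the choice-free presentation, the class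
of the trivial extension B ⊕ M corresponding to zero. (The published statement calls the
correspondence natural; this row asserts the existence of a bijection taking the trivial class to
zero.) -/
theorem result
    (A B : Type u) [CommRing A] [CommRing B] [Algebra A B] (M : Type u) [AddCommGroup M] [Module B M] :
    ∃ e : Exal.Exalcom A B M ≃ CotT.T1 (CotT.canon A B) M, e 0 = 0 := by
  classical
  let P := CotT.canon A B
  let E := P.toExtension
  letI instRM : Module E.Ring M := Module.compHom M (algebraMap E.Ring B)
  haveI : IsScalarTower E.Ring B M := IsScalarTower.of_algebraMap_smul fun _ _ => rfl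
  letI instAM : Module A M := Module.compHom M (algebraMap A B)
  haveI : IsScalarTower A B M := IsScalarTower.of_algebraMap_smul fun _ _ => rfl
  have hl : ∀ X : Exal.Ext A B M, Nonempty (Helper18.ExalT1.Lift (E := E) X) := fun X =>
    ⟨Helper18.ExalT1.liftOfGenerators P.toGenerators X⟩
  let e₁ : Exal.Exalcom A B M ≃ Helper18.CotTLib.H1 M E :=
    Equiv.ofBijective (Helper18.ExalT1.toH1 E hl)
      ⟨Helper18.ExalT1.toH1_injective E hl, Helper18.ExalT1.toH1_surjective E hl⟩
  let e₂ : CotT.T1 P M ≃ₗ[B] Helper18.CotTLib.H1 M E := Helper18.CotTLib.T1equivH1 P M
  refine ⟨e₁.trans e₂.symm.toEquiv, ?_⟩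
  show e₂.symm (Helper18.ExalT1.toH1 E hl 0) = 0
  rw [Helper18.ExalT1.toH1_zero, map_zero]


end Groth.Agent.S12292
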