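import Groth.Statements.S12301
import Groth.Agent.Lib.Helper18.ArtFunComplete

set_option autoImplicit false
universe u v
open CategoryTheory
open ArtFun

namespace Groth.Agent.S12301

/-- Let k be an algebraically closed field, f : F₁ → F₂ a morphism of set-valued functors on local
Artinian k-algebras with residue field k, (R₁, ξ₁) a family for F₁ and (R₂, ξ₂) a versal family for
F₂, where R₁, R₂ are complete local Noetherian k-algebras with residue field k and versal is meant
in the strong sense: h_{R₂} → F₂ is surjective on every object and has the lifting property along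
surjections. Then there is a k-algebra map φ : R₂ → R₁, compatible with the augmentations, such that
for every local Artinian A and every u : R₁ → A the element of F₂(A) given by ξ₂ at u ∘ φ equals the
image under f of the element of F₁(A) given by ξ₁ at u; in other words composition with φ, h_{R₁} →
h_{R₂}, covers f. (The published statement assumes (R₁, ξ₁) versal as well; this row asks nothing of
ξ₁, which is all the argument uses, and takes the coefficient rings Noetherian.) -/
theorem result
    {k : Type u} [Field k] [IsAlgClosed k] {F₁ F₂ : ArtFun.Art k k ⥤ Type v} (f : F₁ ⟶ F₂)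
    (R₁ : ArtFun.CRing k k) (ξ₁ : ArtFun.Family R₁.carrier R₁.res F₁)
    (R₂ : ArtFun.CRing k k) (ξ₂ : ArtFun.Family R₂.carrier R₂.res F₂) (hξ₂ : ArtFun.IsVersal ξ₂)
    (hsurj : ∀ A : ArtFun.Art k k, Function.Surjective (ξ₂.app A)) :
    ∃ (φ : R₂.carrier →ₐ[k] R₁.carrier) (hφ : R₁.res.comp φ = R₂.res),
      ∀ (A : ArtFun.Art k k) (u : ArtFun.HomSet R₁.carrier R₁.res A),
        (ξ₂.along φ hφ).app A u = f.app A (ξ₁.app A u) := by
  let u : ArtFun.FormalElt F₂ R₁ := (ξ₁.toFormalElt).map f
  obtain ⟨ψ₀, hψ₀⟩ := hsurj (R₁.trunc 0) (u.elt 0)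
  obtain ⟨ψ, -, hψu, hψc⟩ := Groth.Agent.Helper18.exists_compatible_lifts ξ₂ hξ₂ R₁ u ψ₀ hψ₀
  obtain ⟨φ, hφ, hφn⟩ := Groth.Agent.Helper18.exists_algHom_of_compatible R₁ ψ hψc
  refine ⟨φ, hφ, ?_⟩
  intro A w
  obtain ⟨N, hN⟩ := Groth.Agent.Helper18.exists_mpow_le_ker R₁ w
  have hw := Groth.Agent.Helper18.factorTrunc_truncHom R₁ w N (hN N le_rfl)
  set wbar := Groth.Agent.Helper18.factorTrunc R₁ w N (hN N le_rfl) with hwbar
  have e1 : (ξ₂.along φ hφ).app A w = ξ₂.app A (ArtFun.HomSet.map wbar (ψ N)) := by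
    change ξ₂.app A _ = _
    congr 1
    apply Subtype.ext
    change w.1.comp φ = wbar.toAlgHom.comp (ψ N).1
    rw [← hφn N, ← AlgHom.comp_assoc]
    exact congrArg (fun t => t.comp φ) (congrArg Subtype.val hw).symm
  rw [e1, ξ₂.natural, hψu N]
  change F₂.map wbar (f.app _ (ξ₁.app _ (R₁.truncHom N))) = _
  rw [← NatTrans.naturality_apply f wbar, ← ξ₁.natural, hw]

end Groth.Agent.S12301
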