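import Groth.Statements.S12303
import Groth.Agent.Lib.Helper18.ArtFunBasic

set_option autoImplicit false
universe u v
open CategoryTheory
open ArtFun

namespace Groth.Agent.S12303

/-- Let k be an algebraically closed field, F a set-valued functor on local Artinian k-algebras with
residue field k, and ξ : h_R → F a miniversal family in the strong sense, over an augmented
k-algebra R: ξ is surjective on every object, has the lifting property along surjections, and is
bijective on the dual numbers k[ε]. Then for every object A and every fibre-product square B = A ×_k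
k[ε] over k, the comparison map F(B) → F(A) ×_{F(k)} F(k[ε]) is bijective. (The published statement
takes R complete local, which the argument does not use.) -/
theorem result
    {k : Type u} [Field k] [IsAlgClosed k] {F : ArtFun.Art k k ⥤ Type v}
    {R : Type u} [CommRing R] [Algebra k R] {resR : R →ₐ[k] k}
    (ξ : ArtFun.Family R resR F) (hξ : ArtFun.IsMiniversal ξ)
    (hsurj : ∀ A : ArtFun.Art k k, Function.Surjective (ξ.app A)) :
    ArtFun.Heps F := by
  intro B A' p' p'' h
  refine ⟨?_, Groth.Agent.Helper18.cmp_surjective_of_isVersal ξ hξ.1 hsurj h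
    (Groth.Agent.Helper18.toBase_surjective _)⟩
  intro z₁ z₂ hz
  have hz1 : F.map p' z₁ = F.map p' z₂ := congrArg (fun t => t.1.1) hz
  have hz2 : F.map p'' z₁ = F.map p'' z₂ := congrArg (fun t => t.1.2) hz
  obtain ⟨ψ₁, hψ₁⟩ := hsurj B z₁
  have hp' : Function.Surjective p' :=
    Groth.Agent.Helper18.surjective_fst_of_isFibreProd h (Groth.Agent.Helper18.toBase_surjective _)
  have h1 : F.map p' z₂ = ξ.app A' (ArtFun.HomSet.map p' ψ₁) := by
    rw [ξ.natural, hψ₁, hz1]
  obtain ⟨ψ₂, hψ₂a, hψ₂b⟩ := hξ.1 p' hp' (ArtFun.HomSet.map p' ψ₁) z₂ h1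
  have h2 : ArtFun.HomSet.map p'' ψ₁ = ArtFun.HomSet.map p'' ψ₂ := by
    apply hξ.2.1
    rw [ξ.natural, ξ.natural, hψ₁, hψ₂b, hz2]
  have : ψ₁ = ψ₂ := Groth.Agent.Helper18.homSet_ext_of_isFibreProd h ψ₁ ψ₂ hψ₂a.symm h2
  rw [← hψ₁, ← hψ₂b, this]

end Groth.Agent.S12303
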