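import Groth.Statements.S12316
import Groth.Agent.Lib.Helper18.ArtFunRS3

set_option autoImplicit false
universe u v
open CategoryTheory
open SGA7

namespace Groth.Agent.S12316

/-- Suppose Λ is a Noetherian local ring, complete for its maximal ideal, whose residue field is k (so Λ
→ k is surjective), and work with functors defined on the category of local Artinian Λ-algebras
having residue field k. Take morphisms φ : F → G and ψ : G → H of such functors. Assume that each of
F(k), G(k), H(k) consists of a single point; that for G the comparison map on fibre products A₁ ×_A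
A₂ is surjective as soon as A₂ → A is surjective, and is bijective for products of the form A' ×_k
k[ε]; that for H the comparison map is bijective on every fibre product A₁ ×_A A₂ with A₂ → A
surjective; and that the induced map on tangent spaces G(k[ε]) → H(k[ε]) coming from ψ is injective.
Under these assumptions, φ ≫ ψ is smooth if and only if both φ and ψ are smooth. (The published
statement is for functors of cofibred groupoids with G semi-homogeneous and H homogeneous; this row
is the case of set-valued functors.) -/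
theorem result (Λ k : Type u) [CommRing Λ] [IsLocalRing Λ] [IsNoetherianRing Λ]
    [IsAdicComplete (IsLocalRing.maximalIdeal Λ) Λ] [Field k] [Algebra Λ k]
    (hk : Function.Surjective (algebraMap Λ k))
    {F G H : ArtFun.Art Λ k ⥤ Type v} (φ : F ⟶ G) (ψ : G ⟶ H)
    (hF : ArtFun.H0 F) (hG : ArtFun.H0 G ∧ ArtFun.S1 G ∧ ArtFun.Heps G) (hH0 : ArtFun.H0 H)
    (hH : ∀ ⦃B A A' A'' : ArtFun.Art Λ k⦄ (p' : B ⟶ A') (p'' : B ⟶ A'') (f' : A' ⟶ A) (f'' : A'' ⟶ A)
      (h : ArtFun.Art.IsFibreProd p' p'' f' f''), Function.Surjective f'' → Function.Bijective (ArtFun.cmp H h))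
    (hψ : Function.Injective (ArtFun.TangentSpace.map ψ)) :
    ArtFun.IsSmooth (φ ≫ ψ) ↔ (ArtFun.IsSmooth φ ∧ ArtFun.IsSmooth ψ) := by
  haveI : Module.Finite Λ k := Module.Finite.of_surjective (Algebra.linearMap Λ k) hk
  constructor
  · intro hs
    -- `ψ` is bijective on every object
    have hψinj : ∀ A, Function.Injective (ψ.app A) := fun A =>
      Groth.Agent.Helper18.injective_app_of_tangent_injective' hG.1
        (Groth.Agent.Helper18.hbar_of_s1 hG.2.1) hG.2.2 hH ψ hψ A
    have hψsurj : ∀ A, Function.Surjective (ψ.app A) := by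
      intro A z
      obtain ⟨x₀⟩ := hF.1
      have hs' := hH0.2
      have h1 : (φ ≫ ψ).app _ x₀ = H.map (ArtFun.Art.toBase A) z := Subsingleton.elim _ _
      obtain ⟨x, hx⟩ := hs (ArtFun.Art.toBase A) (Groth.Agent.Helper18.toBase_surjective _) ⟨(x₀, z), h1⟩
      exact ⟨φ.app A x, congrArg (fun t => t.1.2) hx⟩
    constructor
    · intro A' A μ hμ
      rintro ⟨⟨x, y'⟩, hxy⟩
      dsimp only at hxy
      have h1 : (φ ≫ ψ).app A x = H.map μ (ψ.app A' y') := by
        rw [← NatTrans.naturality_apply ψ μ y', ← hxy]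
        rfl
      obtain ⟨x', hx'⟩ := hs μ hμ ⟨(x, ψ.app A' y'), h1⟩
      have hx1 : F.map μ x' = x := congrArg (fun t => t.1.1) hx'
      have hx2 : ψ.app A' (φ.app A' x') = ψ.app A' y' := congrArg (fun t => t.1.2) hx'
      refine ⟨x', ?_⟩
      apply Subtype.ext
      apply Prod.ext
      · exact hx1
      · exact hψinj A' hx2
    · intro A' A μ hμ
      rintro ⟨⟨y, z'⟩, hyz⟩
      dsimp only at hyz
      obtain ⟨y', hy'⟩ := hψsurj A' z'
      refine ⟨y', ?_⟩
      apply Subtype.ext
      apply Prod.ext
      · change G.map μ y' = y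
        apply hψinj A
        rw [NatTrans.naturality_apply ψ, hy', hyz]
      · exact hy'
  · rintro ⟨hφ, hψs⟩
    intro A' A μ hμ
    rintro ⟨⟨x, z'⟩, hxz⟩
    dsimp only at hxz
    obtain ⟨y', hy'⟩ := hψs μ hμ ⟨(φ.app A x, z'), hxz⟩
    have hy1 : G.map μ y' = φ.app A x := congrArg (fun t => t.1.1) hy'
    have hy2 : ψ.app A' y' = z' := congrArg (fun t => t.1.2) hy'
    obtain ⟨x', hx'⟩ := hφ μ hμ ⟨(x, y'), hy1.symm⟩
    have hx1 : F.map μ x' = x := congrArg (fun t => t.1.1) hx'
    have hx2 : φ.app A' x' = y' := congrArg (fun t => t.1.2) hx'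
    refine ⟨x', ?_⟩
    apply Subtype.ext
    apply Prod.ext
    · exact hx1
    · change ψ.app A' (φ.app A' x') = z'
      rw [hx2, hy2]


end Groth.Agent.S12316
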