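import Groth.Statements.S12321
import Groth.Agent.Lib.Helper18.Schl.HullExists
import Groth.Agent.Lib.Helper18.Schl.MinCover2
import Groth.Agent.S12320

set_option autoImplicit false
universe u v
open CategoryTheory
open SGA7

namespace Groth.Agent.S12321

/-- Suppose Λ is a Noetherian local ring that is complete, and k is its residue field, so the map Λ → k
is surjective. We look at functors on the category of local Artinian Λ-algebras whose residue field
is k. Take such a functor F for which F(k) is a single point, the comparison map F(A₁ ×_A A₂) →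
F(A₁) ×_{F(A)} F(A₂) is surjective whenever A₂ → A is surjective, and this map is bijective for A'
×_k k[ε]. Call an element a ∈ F(R) versal for small prolongations of the base point when, for each
object R₀ whose augmentation R₀ → k is a small extension and each b ∈ F(R₀), some morphism R → R₀
sends a to b. Assume a ∈ F(R) has this property. Then one can find an object R', a morphism q : R' →
R and an element a' ∈ F(R') whose image is a, satisfying the following. First, q is surjective and
the maximal ideal annihilates its kernel. Second, q induces an isomorphism m_{R'}/(m_{R'}² + m_Λ R')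
→ m_R/(m_R² + m_Λ R) between relative cotangent spaces (only injectivity is stated; surjectivity
comes for free). Third, a' is versal for small prolongations of a: given any small extension π₁ : R₁
→ R and any a₁ ∈ F(R₁) with image a, there is f : R' → R₁ satisfying f ≫ π₁ = q and sending a' to
a₁. (The published statement concerns semi-homogeneous cofibred groupoids; this row treats the case
of set-valued functors.) -/
theorem result (Λ k : Type u) [CommRing Λ] [IsLocalRing Λ] [IsNoetherianRing Λ]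
    [IsAdicComplete (IsLocalRing.maximalIdeal Λ) Λ] [Field k] [Algebra Λ k]
    (hk : Function.Surjective (algebraMap Λ k))
    (F : ArtFun.Art Λ k ⥤ Type v) (hF : ArtFun.H0 F ∧ ArtFun.S1 F ∧ ArtFun.Heps F)
    (R : ArtFun.Art Λ k) (a : F.obj R)
    (hvers : ∀ (R₀ : ArtFun.Art Λ k), ArtFun.Art.IsSmallExt (ArtFun.Art.toBase R₀) →
      ∀ b : F.obj R₀, ∃ φ : R ⟶ R₀, F.map φ a = b) :
    ∃ (R' : ArtFun.Art Λ k) (q : R' ⟶ R) (a' : F.obj R'), F.map q a' = a ∧
      ArtFun.Art.IsSemismallExt q ∧
      (∀ x' : R', x' ∈ IsLocalRing.maximalIdeal (R' : Type u) →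
        q x' ∈ (IsLocalRing.maximalIdeal (R : Type u)) ^ 2 ⊔ (IsLocalRing.maximalIdeal Λ).map (algebraMap Λ R) →
        x' ∈ (IsLocalRing.maximalIdeal (R' : Type u)) ^ 2 ⊔ (IsLocalRing.maximalIdeal Λ).map (algebraMap Λ R')) ∧
      ∀ (R₁ : ArtFun.Art Λ k) (π₁ : R₁ ⟶ R), ArtFun.Art.IsSmallExt π₁ →
        ∀ a₁ : F.obj R₁, F.map π₁ a₁ = a → ∃ f : R' ⟶ R₁, f ≫ π₁ = q ∧ F.map f a' = a₁ := by
  haveI : Module.Finite Λ k := Groth.Agent.Helper18.moduleFinite_of_surjective hk
  obtain ⟨r, π, hπs, hπk⟩ := Groth.Agent.Helper18.exists_min_cover hk R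
  let X : Groth.Agent.Helper18.Stage (Groth.Agent.Helper18.psCRing r hk) F := ⟨R, π, hπs, a⟩
  obtain ⟨Y, ⟨τ, hτ1, hτ2, hmin⟩, hker⟩ :=
    Groth.Agent.Helper18.Stage.exists_next_strong (Groth.Agent.Helper18.homSmooth_ps hk r) hF.2.1 X
  have hτπ : ∀ s, τ (Y.π.1 s) = π.1 s := fun s =>
    congrArg (fun φ : ArtFun.HomSet (Groth.Agent.Helper18.psCRing r hk).carrier
      (Groth.Agent.Helper18.psCRing r hk).res R => φ.1 s) hτ1
  refine ⟨Y.T, τ, Y.η, hτ2, ⟨?_, ?_⟩, ?_, ?_⟩
  · intro y
    obtain ⟨s, rfl⟩ := hπs y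
    exact ⟨Y.π.1 s, hτπ s⟩
  · rw [eq_bot_iff, Ideal.mul_le]
    intro y hy c hc
    obtain ⟨s, rfl⟩ := Y.hπ y
    obtain ⟨j, rfl⟩ := Y.hπ c
    have hs : s ∈ IsLocalRing.maximalIdeal (Groth.Agent.Helper18.psCRing r hk).carrier := by
      rw [ArtFun.CRing.mem_maximalIdeal_iff]
      rw [ArtFun.Art.mem_maximalIdeal_iff] at hy
      rw [← hy]
      exact (AlgHom.congr_fun Y.π.2 s).symm
    have hj : j ∈ RingHom.ker (π.1 : (Groth.Agent.Helper18.psCRing r hk).carrier →+* R) := by
      rw [RingHom.mem_ker] at hc ⊢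
      have h := hτπ j
      change π.1 j = 0
      rw [← h]
      exact hc
    have h2 := hker (Ideal.mul_mem_mul hs hj)
    rw [RingHom.mem_ker] at h2
    rw [Ideal.mem_bot]
    have h3 : Y.π.1 (s * j) = Y.π.1 s * Y.π.1 j := map_mul Y.π.1 s j
    rw [← h3]
    exact h2
  · intro x' _ hx'
    exact Groth.Agent.Helper18.cotangent_injective_of_ker_le (Groth.Agent.Helper18.psCRing r hk) π hπs
      Y.π Y.hπ τ hτ1 hπk x' hx'
  · intro R₁ π₁ hπ₁ a₁ ha₁
    obtain ⟨v, hv⟩ := hmin R₁ π₁ hπ₁ a₁ ha₁
    exact (Groth.Agent.S12320.result Λ k hk F hF π₁ hπ₁ τ a a₁ Y.η ha₁ hτ2 hvers).2 ⟨v, hv⟩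


end Groth.Agent.S12321
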