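import Groth.Statements.S1233
import Groth.Statements.S1233
import Groth.Agent.S1232
import Groth.Agent.Lib.Helper2.WeakAssLoc
import Mathlib
-- import your own Groth.Agent.* helpers here

set_option autoImplicit false
universe u
open FlatMor

namespace Groth.Agent.S1233

open TensorProduct Groth.Agent.Helper2.WeakAss

/-- `A → C` finite flat, `C → D` a localization. -/
theorem aux_CD {A C D : Type u} [CommRing A] [CommRing C] [CommRing D] [Algebra A C] [Algebra A D]
    [Algebra C D] [IsScalarTower A C D] [Module.Finite A C] [Module.Flat A C]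
    (S : Submonoid C) [IsLocalization S D]
    (M : Type u) [AddCommGroup M] [Module A M] (p : Ideal A) [p.IsPrime]
    (q' : Ideal D) [q'.IsPrime] [q'.LiesOver p] :
    q' ∈ FlatCA.weakAss D (D ⊗[A] M) ↔ p ∈ FlatCA.weakAss A M := by
  rw [mem_weakAss_tensor_localization_iff S M q']
  haveI : (q'.comap (algebraMap C D)).IsPrime := Ideal.comap_isPrime _ _
  haveI : (q'.comap (algebraMap C D)).LiesOver p := ⟨by
    rw [Ideal.under_def, Ideal.comap_comap, ← IsScalarTower.algebraMap_eq]
    exact (Ideal.over_def q' p)⟩
  exact Groth.Agent.S1232.result M p (q'.comap (algebraMap C D))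

/-- The standard étale case. -/
theorem aux_std {A D : Type u} [CommRing A] [CommRing D] [Algebra A D]
    [Algebra.IsStandardEtale A D]
    (M : Type u) [AddCommGroup M] [Module A M] (p : Ideal A) [p.IsPrime]
    (q' : Ideal D) [q'.IsPrime] [q'.LiesOver p] :
    q' ∈ FlatCA.weakAss D (D ⊗[A] M) ↔ p ∈ FlatCA.weakAss A M := by
  obtain ⟨P⟩ := Algebra.IsStandardEtale.nonempty_standardEtalePresentation (R := A) (S := D)
  let C := AdjoinRoot P.f
  let D' := Localization.Away (AdjoinRoot.mk P.f P.g)
  let e : D ≃ₐ[A] D' := P.equivRing.trans P.P.equivAwayAdjoinRoot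
  letI : Algebra C D := (e.symm.toRingEquiv.toRingHom.comp (algebraMap C D')).toAlgebra
  haveI : IsScalarTower A C D := .of_algebraMap_eq' (by
    ext a
    rw [RingHom.algebraMap_toAlgebra]
    simp only [RingHom.comp_apply]
    rw [← IsScalarTower.algebraMap_apply A C D']
    exact (e.symm.commutes a).symm)
  let e' : D' ≃ₐ[C] D := AlgEquiv.ofRingEquiv (f := e.symm.toRingEquiv) (fun c => rfl)
  haveI : IsLocalization (Submonoid.powers (AdjoinRoot.mk P.f P.g)) D :=
    IsLocalization.isLocalization_of_algEquiv _ e'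
  haveI := P.monic_f.finite_adjoinRoot
  haveI := P.monic_f.free_adjoinRoot
  exact aux_CD (C := C) (Submonoid.powers (AdjoinRoot.mk P.f P.g)) M p q'

theorem aux {A B : Type u} [CommRing A] [CommRing B] [Algebra A B] [Algebra.Etale A B]
    (M : Type u) [AddCommGroup M] [Module A M] (p : Ideal A) [p.IsPrime] (u : Ideal B) [u.IsPrime]
    [u.LiesOver p] :
    u ∈ FlatCA.weakAss B (B ⊗[A] M) ↔ p ∈ FlatCA.weakAss A M := by
  obtain ⟨g, hg, hstd⟩ := Algebra.IsEtaleAt.exists_isStandardEtale (R := A) u
  let Bg := Localization.Away g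
  let u' : Ideal Bg := u.map (algebraMap B Bg)
  have hdisj : Disjoint (Submonoid.powers g : Set B) (u : Set B) :=
    (Ideal.disjoint_powers_iff_notMem_of_isPrime _).mpr hg
  haveI hu' : u'.IsPrime :=
    IsLocalization.isPrime_of_isPrime_disjoint (.powers g) _ _ ‹_› hdisj
  have hcomap : u'.comap (algebraMap B Bg) = u :=
    IsLocalization.comap_map_of_isPrime_disjoint (.powers g) _ ‹_› hdisj
  haveI : u'.LiesOver p := ⟨by
    rw [Ideal.under_def, IsScalarTower.algebraMap_eq A B Bg, ← Ideal.comap_comap, hcomap]
    exact Ideal.over_def u p⟩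
  rw [← aux_std M p u', mem_weakAss_tensor_localization_iff (.powers g) M u', hcomap]

open TensorProduct in
/-- Let A → B be an étale ring map, M an A-module and u a prime of B lying over the prime p of A. Then u
is a weakly associated prime of the B-module B ⊗_A M if and only if p is a weakly associated prime
of M. -/
theorem result {A B : Type u} [CommRing A] [CommRing B] [Algebra A B] [Algebra.Etale A B]
    (M : Type u) [AddCommGroup M] [Module A M] (p : Ideal A) [p.IsPrime] (u : Ideal B) [u.IsPrime] [u.LiesOver p] :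
    u ∈ FlatCA.weakAss B (B ⊗[A] M) ↔ p ∈ FlatCA.weakAss A M := by
  exact aux M p u

end Groth.Agent.S1233
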