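import Groth.Statements.S12417

set_option autoImplicit false
universe u
open CategoryTheory AlgebraicGeometry
open Props

namespace Groth.Agent.S12417


open TopologicalSpace in
theorem exists_fin_cover {X : Scheme.{u}} (U : X.Opens) (hU : IsCompact (U : Set X)) (B : X.Opens → Prop)
    (hB : ∀ x ∈ U, ∃ V : X.Opens, B V ∧ x ∈ V ∧ V ≤ U) :
    ∃ (n : ℕ) (V : Fin n → X.Opens), (∀ i, B (V i)) ∧ ⨆ i, V i = U := by
  classical
  choose V hV1 hV2 hV3 using hB
  obtain ⟨t, ht⟩ := hU.elim_finite_subcover (fun x : U => ((V x.1 x.2 : X.Opens) : Set X))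
    (fun x => (V x.1 x.2).isOpen) (by
      intro x hx
      exact Set.mem_iUnion.2 ⟨⟨x, hx⟩, hV2 x hx⟩)
  refine ⟨t.card, fun i => V (t.equivFin.symm i).1.1 (t.equivFin.symm i).1.2, fun i => hV1 _ _, ?_⟩
  apply le_antisymm
  · exact iSup_le fun i => hV3 _ _
  · intro x hx
    have := ht hx
    simp only [Set.mem_iUnion] at this
    obtain ⟨y, hyt, hxy⟩ := this
    rw [Opens.mem_iSup]
    refine ⟨t.equivFin ⟨y, hyt⟩, ?_⟩
    simpa using hxy


/-- Let X be a quasi-compact quasi-separated scheme and P a property of opens of X such that (a) P holds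
for every affine open, and (b) whenever a quasi-compact open U has a finite affine open covering U =
V_1 ∪ … ∪ V_n with P holding for every intersection V_i ∩ V_j, P holds for U. Then P holds for every
quasi-compact open of X. -/
theorem result (X : Scheme.{u}) [CompactSpace X] [QuasiSeparatedSpace X]
    (P : X.Opens → Prop) (ha : ∀ U : X.Opens, IsAffineOpen U → P U)
    (hb : ∀ (U : X.Opens) (n : ℕ) (V : Fin n → X.Opens), IsCompact (U : Set X) →
      (∀ i, IsAffineOpen (V i)) → ⨆ i, V i = U → (∀ i j, P (V i ⊓ V j)) → P U)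
    (U : X.Opens) (hU : IsCompact (U : Set X)) : P U := by
  -- Step 1: compact opens inside an affine open
  have step1 : ∀ (W : X.Opens), IsAffineOpen W → ∀ U : X.Opens, IsCompact (U : Set X) → U ≤ W → P U := by
    intro W hW U hU hUW
    obtain ⟨n, V, hV, hVU⟩ := exists_fin_cover U hU (fun V => ∃ f : Γ(X, W), V = X.basicOpen f) (by
      intro x hx
      obtain ⟨f, hf1, hf2⟩ := hW.exists_basicOpen_le ⟨x, hx⟩ (hUW hx)
      exact ⟨X.basicOpen f, ⟨f, rfl⟩, hf2, hf1⟩)
    refine hb U n V hU (fun i => ?_) hVU (fun i j => ?_)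
    · obtain ⟨f, hf⟩ := hV i
      rw [hf]; exact hW.basicOpen f
    · obtain ⟨f, hf⟩ := hV i
      obtain ⟨g, hg⟩ := hV j
      rw [hf, hg, ← Scheme.basicOpen_mul]
      exact ha _ (hW.basicOpen _)
  -- Step 2
  obtain ⟨n, V, hV, hVU⟩ := exists_fin_cover U hU (fun V => IsAffineOpen V) (by
    intro x hx
    obtain ⟨_, ⟨V, hV, rfl⟩, hxV, hVU⟩ := X.isBasis_affineOpens.exists_subset_of_mem_open hx U.2
    exact ⟨V, hV, hxV, hVU⟩)
  refine hb U n V hU hV hVU (fun i j => ?_)
  refine step1 (V i) (hV i) _ ?_ inf_le_left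
  exact QuasiSeparatedSpace.inter_isCompact _ _ (V i).isOpen (hV i).isCompact (V j).isOpen (hV j).isCompact


end Groth.Agent.S12417
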