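import Groth.Statements.S12418

set_option autoImplicit false
universe u
open CAlg

namespace Groth.Agent.S12418

/-- Let R be a Noetherian ring and b ∈ R; for x outside the ideal (b) put I_x = ((b) : x), the ideal of
r with r x ∈ (b). If s ∉ (b) and I_s is maximal among the I_x (x ∉ (b)), then I_s is prime. -/
theorem result {R : Type u} [CommRing R] [IsNoetherianRing R]
    (b s : R) (hs : s ∉ Ideal.span {b})
    (hmax : ∀ x : R, x ∉ Ideal.span {b} →
      Submodule.colon (Ideal.span {b}) (Ideal.span {s}) ≤ Submodule.colon (Ideal.span {b}) (Ideal.span {x}) →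
      Submodule.colon (Ideal.span {b}) (Ideal.span {x}) = Submodule.colon (Ideal.span {b}) (Ideal.span {s})) :
    (Submodule.colon (Ideal.span {b}) (Ideal.span ({s} : Set R))).IsPrime := by
  have hmem : ∀ (x r : R), r ∈ Submodule.colon (Ideal.span {b}) (Ideal.span ({x} : Set R)) ↔ r * x ∈ Ideal.span {b} := by
    intro x r
    rw [Submodule.mem_colon]
    constructor
    · intro h
      have := h x (Ideal.mem_span_singleton_self x)
      simpa [smul_eq_mul] using this
    · intro h p hp
      obtain ⟨c, rfl⟩ := Ideal.mem_span_singleton'.1 hp
      have : r • (c * x) = c * (r * x) := by simp only [smul_eq_mul]; ring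
      rw [this]
      exact Ideal.mul_mem_left _ _ h
  refine ⟨?_, ?_⟩
  · intro htop
    have h1 : (1 : R) ∈ Submodule.colon (Ideal.span {b}) (Ideal.span ({s} : Set R)) := by
      rw [htop]; exact Submodule.mem_top
    rw [hmem] at h1
    simp only [one_mul] at h1
    exact hs h1
  · intro r t hrt
    by_contra hcon
    push_neg at hcon
    obtain ⟨hr, ht⟩ := hcon
    rw [hmem] at hrt hr ht
    have hle : Submodule.colon (Ideal.span {b}) (Ideal.span {s}) ≤ Submodule.colon (Ideal.span {b}) (Ideal.span {t * s}) := by
      intro y hy
      rw [hmem] at hy ⊢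
      have : y * (t * s) = t * (y * s) := by ring
      rw [this]
      exact Ideal.mul_mem_left _ _ hy
    have heq := hmax (t * s) ht hle
    have : r ∈ Submodule.colon (Ideal.span {b}) (Ideal.span {t * s}) := by
      rw [hmem]
      have : r * (t * s) = r * t * s := by ring
      rw [this]
      exact hrt
    rw [heq, hmem] at this
    exact hr this


end Groth.Agent.S12418
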