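import Groth.Statements.S12419
import Groth.Agent.Lib.Helper21.FinDesc3

set_option autoImplicit false
universe u
open TensorProduct
open CAlg

namespace Groth.Agent.S12419

/-- Let A → B be a local homomorphism of Noetherian local rings, m the maximal ideal of A, and φ : A →
A' a ring homomorphism to a semi-local Noetherian ring A' with Jacobson radical r', such that
φ⁻¹(r') = m and such that every power m^n contains φ⁻¹(r'^N) for some N. Then B is flat over A if
and only if A' ⊗_A B is flat over A'. (Given φ⁻¹(r') = m, the condition on powers says that the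
m-adic topology of A is induced by the r'-adic topology of A', equivalently that the induced
homomorphism of adic completions is injective, which is how the published statement phrases this
hypothesis.) -/
theorem result (A B A' : Type u) [CommRing A] [CommRing B]
    [CommRing A'] [IsNoetherianRing A] [IsLocalRing A] [IsNoetherianRing B] [IsLocalRing B]
    [Algebra A B] [IsLocalHom (algebraMap A B)] [IsNoetherianRing A'] [Finite (MaximalSpectrum A')]
    [Algebra A A']
    (hrad : (Ideal.jacobson (⊥ : Ideal A')).comap (algebraMap A A') = IsLocalRing.maximalIdeal A)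
    (htop : ∀ n : ℕ, ∃ N : ℕ,
      ((Ideal.jacobson (⊥ : Ideal A')) ^ N).comap (algebraMap A A') ≤ (IsLocalRing.maximalIdeal A) ^ n) :
    Module.Flat A B ↔ Module.Flat A' (A' ⊗[A] B) := by
  constructor
  · intro h
    infer_instance
  · intro h
    refine Groth.Agent.Helper1.flat_of_flat_quotient_pow (R := A) (S := B) (M := B)
      (IsLocalRing.maximalIdeal A) ?_ ?_
    · rw [IsLocalRing.jacobson_eq_maximalIdeal ⊥ bot_ne_top]
      exact ((IsLocalRing.local_hom_TFAE (algebraMap A B)).out 0 2).1 (inferInstance : IsLocalHom (algebraMap A B))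
    · intro n hn
      obtain ⟨N, hN⟩ := htop n
      have hpow : (Ideal.map (Ideal.Quotient.mk (((Ideal.jacobson (⊥ : Ideal A')) ^ N).comap
          (algebraMap A A'))) (IsLocalRing.maximalIdeal A)) ^ N = ⊥ := by
        rw [← Ideal.map_pow, eq_bot_iff]
        calc Ideal.map (Ideal.Quotient.mk (((Ideal.jacobson (⊥ : Ideal A')) ^ N).comap
              (algebraMap A A'))) (IsLocalRing.maximalIdeal A ^ N)
            ≤ Ideal.map (Ideal.Quotient.mk (((Ideal.jacobson (⊥ : Ideal A')) ^ N).comap
              (algebraMap A A'))) (((Ideal.jacobson (⊥ : Ideal A')) ^ N).comap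
              (algebraMap A A')) := by
              apply Ideal.map_mono
              rw [← hrad]
              exact Ideal.le_comap_pow _ N
          _ = ⊥ := Ideal.map_quotient_self _
      have key : Module.Flat (A ⧸ ((Ideal.jacobson (⊥ : Ideal A')) ^ N).comap (algebraMap A A'))
          ((A ⧸ ((Ideal.jacobson (⊥ : Ideal A')) ^ N).comap (algebraMap A A')) ⊗[A] B) :=
        Groth.Agent.Helper21.FDS3.flat_of_nilpotent A (IsLocalRing.maximalIdeal A) N
          (A ⧸ ((Ideal.jacobson (⊥ : Ideal A')) ^ N).comap (algebraMap A A'))
          (A' ⧸ (Ideal.jacobson (⊥ : Ideal A')) ^ N) (Ideal.Quotient.mk _)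
          Ideal.Quotient.mk_surjective hpow Ideal.algebraMap_quotient_injective _
          (Groth.Agent.Helper21.FDS.flat_quotient_step A A' ((Ideal.jacobson (⊥ : Ideal A')) ^ N)
            B h)
      exact Groth.Agent.Helper21.FDS.flat_quotient_of_le _ _ hN B

end Groth.Agent.S12419
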