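import Groth.Statements.S12421

set_option autoImplicit false
universe u
open TensorProduct
open Desc

namespace Groth.Agent.S12421

/-- Let R → R' be faithfully flat and M an R-module. With δ¹ : M ⊗ R' → M ⊗ (R' ⊗ R'), m ⊗ r ↦ m ⊗ (1 ⊗
r) − m ⊗ (r ⊗ 1), and δ² : M ⊗ (R' ⊗ R') → M ⊗ (R' ⊗ (R' ⊗ R')), m ⊗ x ↦ m ⊗ (1 ⊗ x) − m ⊗ (ins₁ x)
+ m ⊗ (ins₂ x), where ins₁ (r₁ ⊗ r₂) = r₁ ⊗ (1 ⊗ r₂) and ins₂ (r₁ ⊗ r₂) = r₁ ⊗ (r₂ ⊗ 1), the
sequence M ⊗ R' → M ⊗ R'^{⊗2} → M ⊗ R'^{⊗3} is exact: the kernel of δ² is the image of δ¹. (The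
published statement asserts exactness of the whole complex; this row states exactness at M ⊗ R′ ⊗ R′
only.) -/
theorem result (R R' : Type u) [CommRing R] [CommRing R'] [Algebra R R']
    [Module.FaithfullyFlat R R'] (M : Type u) [AddCommGroup M] [Module R M] :
    Function.Exact
      (LinearMap.lTensor M (Algebra.TensorProduct.includeRight : R' →ₐ[R] R' ⊗[R] R').toLinearMap -
        LinearMap.lTensor M
          (Algebra.TensorProduct.includeLeft : R' →ₐ[R] R' ⊗[R] R').toLinearMap)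
      (LinearMap.lTensor M
          (Algebra.TensorProduct.includeRight : R' ⊗[R] R' →ₐ[R] R' ⊗[R] (R' ⊗[R] R')).toLinearMap -
        LinearMap.lTensor M
          (Algebra.TensorProduct.map (AlgHom.id R R')
            (Algebra.TensorProduct.includeRight : R' →ₐ[R] R' ⊗[R] R')).toLinearMap +
        LinearMap.lTensor M
          (Algebra.TensorProduct.map (AlgHom.id R R')
            (Algebra.TensorProduct.includeLeft : R' →ₐ[R] R' ⊗[R] R')).toLinearMap) := by
  set f : M ⊗[R] R' →ₗ[R] M ⊗[R] (R' ⊗[R] R') :=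
    LinearMap.lTensor M (Algebra.TensorProduct.includeRight : R' →ₐ[R] R' ⊗[R] R').toLinearMap -
      LinearMap.lTensor M
        (Algebra.TensorProduct.includeLeft : R' →ₐ[R] R' ⊗[R] R').toLinearMap with hf
  set g : M ⊗[R] (R' ⊗[R] R') →ₗ[R] M ⊗[R] (R' ⊗[R] (R' ⊗[R] R')) :=
    LinearMap.lTensor M
        (Algebra.TensorProduct.includeRight : R' ⊗[R] R' →ₐ[R] R' ⊗[R] (R' ⊗[R] R')).toLinearMap -
      LinearMap.lTensor M
        (Algebra.TensorProduct.map (AlgHom.id R R')
          (Algebra.TensorProduct.includeRight : R' →ₐ[R] R' ⊗[R] R')).toLinearMap +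
      LinearMap.lTensor M
        (Algebra.TensorProduct.map (AlgHom.id R R')
          (Algebra.TensorProduct.includeLeft : R' →ₐ[R] R' ⊗[R] R')).toLinearMap with hg
  -- the contracting homotopy after base change
  let h : ∀ (N : Type u) [AddCommGroup N] [Module R N],
      R' ⊗[R] (M ⊗[R] (R' ⊗[R] N)) →ₗ[R] R' ⊗[R] (M ⊗[R] N) := fun N _ _ =>
    (TensorProduct.leftComm R M R' N).toLinearMap ∘ₗ
      (LinearMap.lTensor M ((LinearMap.mul' R R').rTensor N ∘ₗ
        (TensorProduct.assoc R R' R' N).symm.toLinearMap)) ∘ₗ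
      (TensorProduct.leftComm R R' M (R' ⊗[R] N)).toLinearMap
  have key : (h (R' ⊗[R] R')) ∘ₗ (LinearMap.lTensor R' g) + (LinearMap.lTensor R' f) ∘ₗ (h R') =
      LinearMap.id := by
    ext a m r₁ r₂
    simp [h, f, g, TensorProduct.tmul_sub, TensorProduct.tmul_add]
  have hgf : g ∘ₗ f = 0 := by
    ext m r
    simp [f, g, TensorProduct.tmul_sub, TensorProduct.tmul_add]
  apply Module.FaithfullyFlat.lTensor_reflects_exact R R'
  intro y
  constructor
  · intro hy
    refine ⟨h R' y, ?_⟩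
    have := LinearMap.congr_fun key y
    simp only [LinearMap.add_apply, LinearMap.coe_comp, Function.comp_apply, hy, map_zero,
      zero_add, LinearMap.id_coe, id_eq] at this
    exact this
  · rintro ⟨z, rfl⟩
    rw [← LinearMap.comp_apply, ← LinearMap.lTensor_comp, hgf, LinearMap.lTensor_zero,
      LinearMap.zero_apply]


end Groth.Agent.S12421
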