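import Groth.Statements.S12424
import Mathlib
import Groth.Agent.Lib.Helper2.MvPolyHom
-- import your own Groth.Agent.* helpers here

set_option autoImplicit false
universe u
open Cubic

namespace Groth.Agent.S12424

section
open MvPolynomial Matrix Groth.Agent.Lib.Helper2.MvPolyHom

variable {k : Type u} [Field k]

/-- restriction of a polynomial to the line `v + X u` -/
noncomputable def lineP (Φ : MvPolynomial (Fin 3) k) (u v : Fin 3 → k) : Polynomial k :=
  MvPolynomial.aeval (fun j => Polynomial.C (v j) + Polynomial.C (u j) * Polynomial.X) Φ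

lemma lineP_eval (Φ : MvPolynomial (Fin 3) k) (u v : Fin 3 → k) (s : k) :
    (lineP Φ u v).eval s = MvPolynomial.eval (s • u + v) Φ := by
  unfold lineP
  induction Φ using MvPolynomial.induction_on with
  | C a => simp
  | add p q hp hq => rw [map_add, Polynomial.eval_add, hp, hq, map_add]
  | mul_X p i hp =>
    have h1 : Polynomial.eval s (Polynomial.C (v i) + Polynomial.C (u i) * Polynomial.X) =
        (s • u + v) i := by
      simp
      ring
    rw [map_mul, Polynomial.eval_mul, hp, map_mul, aeval_X, eval_X, h1]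

lemma exists_zero_on_plane [IsAlgClosed k] (Φ : MvPolynomial (Fin 3) k) {e : ℕ} (he : 1 ≤ e)
    (hΦ : Φ.IsHomogeneous e) (u v : Fin 3 → k) (huv : LinearIndependent k ![u, v]) :
    ∃ y : Fin 3 → k, y ≠ 0 ∧ (∃ s t : k, y = s • u + t • v) ∧ eval y Φ = 0 := by
  rw [LinearIndependent.pair_iff] at huv
  by_cases hroot : ∃ s, (lineP Φ u v).IsRoot s
  · obtain ⟨s, hs⟩ := hroot
    have hy1 : ∃ s' t' : k, s • u + v = s' • u + t' • v := ⟨s, 1, by rw [one_smul]⟩
    refine ⟨s • u + v, ?_, hy1, ?_⟩
    · intro h0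
      have := huv s 1 (by simpa using h0)
      exact one_ne_zero this.2
    · rw [← lineP_eval]
      exact hs
  · have hdeg : (lineP Φ u v).degree = 0 := by
      by_contra hd
      exact hroot (IsAlgClosed.exists_root _ hd)
    obtain ⟨c, hc⟩ : ∃ c, lineP Φ u v = Polynomial.C c :=
      ⟨_, Polynomial.eq_C_of_degree_eq_zero hdeg⟩
    have hconst : ∀ s : k, eval (s • u + v) Φ = c := by
      intro s
      rw [← lineP_eval, hc, Polynomial.eval_C]
    have hQ : ∀ r : k, r ≠ 0 → (lineP Φ v u).eval r = c * r ^ e := by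
      intro r hr
      rw [lineP_eval]
      have h1 : r • v + u = r • (r⁻¹ • u + v) := by
        rw [smul_add, smul_smul, mul_inv_cancel₀ hr, one_smul, add_comm]
      rw [h1, eval_smul_of_isHomogeneous hΦ, hconst, mul_comm]
    have hT : Polynomial.X * (lineP Φ v u - Polynomial.C c * Polynomial.X ^ e) = 0 := by
      apply Polynomial.funext
      intro r
      by_cases hr : r = 0
      · simp [hr]
      · simp [hQ r hr]
    have hQ' : lineP Φ v u = Polynomial.C c * Polynomial.X ^ e := by
      rcases mul_eq_zero.mp hT with h | h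
      · exact absurd h Polynomial.X_ne_zero
      · exact sub_eq_zero.mp h
    have hy1 : ∃ s' t' : k, u = s' • u + t' • v := ⟨1, 0, by rw [one_smul, zero_smul, add_zero]⟩
    refine ⟨u, ?_, hy1, ?_⟩
    · intro h0
      have := huv 1 0 (by simp [h0])
      exact one_ne_zero this.1
    · have h2 := lineP_eval Φ v u 0
      rw [hQ'] at h2
      have he0 : e ≠ 0 := by omega
      simpa [he0] using h2.symm

theorem main (k : Type u) [Field k] [IsAlgClosed k] [CharZero k]
    (f : MvPolynomial (Fin 4) k) (hf : f.IsHomogeneous 3) (hf0 : f ≠ 0)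
    (hsm : ∀ v : Fin 4 → k, v ≠ 0 → MvPolynomial.eval v f = 0 →
      ∃ i : Fin 4, MvPolynomial.eval v (MvPolynomial.pderiv i f) ≠ 0)
    (A : Matrix (Fin 4) (Fin 3) k) (hA : A.rank = 3) :
    Squarefree (MvPolynomial.aeval (fun i : Fin 4 => ∑ j : Fin 3, MvPolynomial.C (A i j) * MvPolynomial.X j) f) := by
  classical
  set σ : Fin 4 → MvPolynomial (Fin 3) k := fun i => ∑ j, C (A i j) * X j with hσ
  set g := aeval σ f with hg
  have hσeval : ∀ (y : Fin 3 → k) (i), eval y (σ i) = (A *ᵥ y) i := by
    intro y i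
    simp [σ, Matrix.mulVec, dotProduct]
  have hσpd : ∀ i j, pderiv j (σ i) = C (A i j) := by
    intro i j
    simp only [σ, map_sum, Derivation.leibniz, pderiv_C, pderiv_X, smul_zero, add_zero, smul_eq_mul]
    rw [Finset.sum_eq_single j]
    · simp
    · intro b _ hb
      rw [Pi.single_eq_of_ne hb]
      simp
    · intro h
      exact absurd (Finset.mem_univ j) h
  have hσhom : ∀ i, (σ i).IsHomogeneous 1 := fun i =>
    IsHomogeneous.sum _ _ _ (fun j _ => isHomogeneous_C_mul_X _ _)
  have hevalg : ∀ (p : MvPolynomial (Fin 4) k) (y : Fin 3 → k),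
      eval y (aeval σ p) = eval (A *ᵥ y) p := by
    intro p y
    rw [eval_aeval]
    have : (fun i => eval y (σ i)) = A *ᵥ y := funext (hσeval y)
    rw [this]
  have hchain : ∀ (y : Fin 3 → k) (j : Fin 3),
      eval y (pderiv j g) = ∑ i, eval (A *ᵥ y) (pderiv i f) * A i j := by
    intro y j
    rw [hg, pderiv_aeval, map_sum]
    refine Finset.sum_congr rfl fun i _ => ?_
    rw [map_mul, hevalg, hσpd, eval_C]
  -- left null vector
  have hrankT : Aᵀ.rank = 3 := by rw [Matrix.rank_transpose, hA]
  have hrnT := LinearMap.finrank_range_add_finrank_ker Aᵀ.mulVecLin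
  rw [Module.finrank_fin_fun] at hrnT
  have hkerT : Module.finrank k (LinearMap.ker Aᵀ.mulVecLin) = 1 := by
    have : Module.finrank k (LinearMap.range Aᵀ.mulVecLin) = 3 := hrankT
    omega
  obtain ⟨u0', hu0'⟩ := Module.finrank_pos_iff_exists_ne_zero.mp (by rw [hkerT]; exact Nat.one_pos)
  have hnull : ∀ w : Fin 4 → k, w ᵥ* A = 0 → ∃ c : k, w = c • u0'.1 := by
    intro w hw
    have hwker : w ∈ LinearMap.ker Aᵀ.mulVecLin := by
      rw [LinearMap.mem_ker, Matrix.mulVecLin_apply, Matrix.mulVec_transpose]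
      exact hw
    obtain ⟨c, hc⟩ := (finrank_eq_one_iff_of_nonzero' u0' hu0').mp hkerT ⟨w, hwker⟩
    exact ⟨c, (congrArg Subtype.val hc).symm⟩
  have hu0 : u0'.1 ≠ 0 := fun h => hu0' (Subtype.ext h)
  obtain ⟨i0, hi0⟩ : ∃ i0, u0'.1 i0 ≠ 0 := Function.ne_iff.mp hu0
  have hrn := LinearMap.finrank_range_add_finrank_ker A.mulVecLin
  rw [Module.finrank_fin_fun] at hrn
  have hAinj : ∀ y : Fin 3 → k, A *ᵥ y = 0 → y = 0 := by
    have h1 : Module.finrank k (LinearMap.range A.mulVecLin) = 3 := hA
    have h2 : Module.finrank k (LinearMap.ker A.mulVecLin) = 0 := by omega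
    have h3 : LinearMap.ker A.mulVecLin = ⊥ := Submodule.finrank_eq_zero.mp h2
    intro y hy
    have : y ∈ LinearMap.ker A.mulVecLin := by
      rw [LinearMap.mem_ker, Matrix.mulVecLin_apply]
      exact hy
    rw [h3] at this
    exact (Submodule.mem_bot k).mp this
  -- Φ
  set Φ := aeval σ (pderiv i0 f) with hΦ
  have hΦhom : Φ.IsHomogeneous 2 := by
    have h1 : (pderiv i0 f).IsHomogeneous 2 := hf.pderiv
    have h2 := h1.aeval σ hσhom
    rw [one_mul] at h2
    exact h2
  have key : ∀ y : Fin 3 → k, y ≠ 0 → eval y g = 0 → (∀ j, eval y (pderiv j g) = 0) →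
      eval y Φ = 0 → False := by
    intro y hy hg0 hgd hΦ0
    have hv : A *ᵥ y ≠ 0 := fun h => hy (hAinj y h)
    obtain ⟨i, hi⟩ := hsm (A *ᵥ y) hv (by rw [← hevalg]; exact hg0)
    let w : Fin 4 → k := fun i => eval (A *ᵥ y) (pderiv i f)
    have hw : w ᵥ* A = 0 := by
      funext j
      have := hgd j
      rw [hchain] at this
      exact this
    obtain ⟨c, hc⟩ := hnull w hw
    have hwi0 : w i0 = 0 := by
      show eval (A *ᵥ y) (pderiv i0 f) = 0
      rw [← hevalg]
      exact hΦ0
    have hc0 : c = 0 := by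
      have h1 := congrFun hc i0
      rw [hwi0, Pi.smul_apply, smul_eq_mul] at h1
      exact (mul_eq_zero.mp h1.symm).resolve_right hi0
    apply hi
    have h2 := congrFun hc i
    rw [hc0, zero_smul] at h2
    exact h2
  -- main
  intro h hdvd
  by_contra hnu
  obtain ⟨m, hm⟩ := hdvd
  by_cases hg0 : g = 0
  · have hind : LinearIndependent k ![(Pi.single 0 1 : Fin 3 → k), Pi.single 1 1] := by
      rw [LinearIndependent.pair_iff]
      intro s t hst
      have h0 := congrFun hst 0
      have h1 := congrFun hst 1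
      simp at h0 h1
      exact ⟨h0, h1⟩
    obtain ⟨y, hy, -, hyΦ⟩ := exists_zero_on_plane Φ (by norm_num) hΦhom _ _ hind
    exact key y hy (by rw [hg0]; simp) (fun j => by rw [hg0]; simp) hyΦ
  · have hghom : g.IsHomogeneous 3 := by
      have := hf.aeval σ hσhom
      rw [one_mul] at this
      exact this
    have hm' : g = h * (h * m) := by rw [hm, mul_assoc]
    obtain ⟨hh, hhm, hdeg1⟩ := isHomogeneous_of_mul (a := h) (b := h * m) (n := 3)
      (by rw [← hm']; exact hghom) (by rw [← hm']; exact hg0)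
    have hhm0 : h * m ≠ 0 := by
      intro h0
      apply hg0
      rw [hm', h0, mul_zero]
    obtain ⟨-, -, hdeg2⟩ := isHomogeneous_of_mul (a := h) (b := m) hhm hhm0
    have hd1 : h.totalDegree = 1 := by
      have hne0 : h.totalDegree ≠ 0 := by
        intro h0
        rw [totalDegree_eq_zero_iff_eq_C] at h0
        apply hnu
        rw [h0]
        apply IsUnit.map
        rw [isUnit_iff_ne_zero]
        intro hc
        apply hhm0
        rw [h0, hc, map_zero, zero_mul]
      omega
    rw [hd1] at hh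
    have hmem : h ∈ homogeneousSubmodule (Fin 3) k 1 := hh
    rw [homogeneousSubmodule_one_eq_span_X] at hmem
    obtain ⟨a, ha⟩ := (Submodule.mem_span_range_iff_exists_fun k).mp hmem
    let ℓ : (Fin 3 → k) →ₗ[k] k := ∑ j, a j • (LinearMap.proj j : (Fin 3 → k) →ₗ[k] k)
    have hheval : ∀ y, eval y h = ℓ y := by
      intro y
      rw [← ha]
      simp [ℓ, smul_eval]
    have hrnl := LinearMap.finrank_range_add_finrank_ker ℓ
    rw [Module.finrank_fin_fun] at hrnl
    have hrl : Module.finrank k (LinearMap.range ℓ) ≤ 1 := by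
      have := Submodule.finrank_le (LinearMap.range ℓ)
      rwa [Module.finrank_self] at this
    have hkl : 1 < Module.finrank k (LinearMap.ker ℓ) := by omega
    obtain ⟨x, hx⟩ := Module.finrank_pos_iff_exists_ne_zero.mp (lt_trans Nat.zero_lt_one hkl)
    obtain ⟨x', hxx'⟩ := exists_linearIndependent_pair_of_one_lt_finrank hkl hx
    have huv : LinearIndependent k ![x.1, x'.1] := by
      have := hxx'.map' (LinearMap.ker ℓ).subtype (Submodule.ker_subtype _)
      have e : ((LinearMap.ker ℓ).subtype ∘ ![x, x']) = ![x.1, x'.1] := by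
        funext i
        fin_cases i <;> rfl
      rw [e] at this
      exact this
    obtain ⟨y, hy, ⟨s, t, hst⟩, hyΦ⟩ := exists_zero_on_plane Φ (by norm_num) hΦhom _ _ huv
    have hhy : eval y h = 0 := by
      rw [hheval, hst, map_add, map_smul, map_smul, LinearMap.mem_ker.mp x.2,
        LinearMap.mem_ker.mp x'.2]
      simp
    refine key y hy ?_ ?_ hyΦ
    · rw [hm]
      simp [hhy]
    · intro j
      rw [hm]
      simp [Derivation.leibniz, hhy]

end

/-- Let k be an algebraically closed field of characteristic zero and S = V_+(f) ⊂ P^3_k a smooth cubic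
surface, f a nonzero homogeneous cubic in four variables with the Jacobian condition at every
nonzero zero. For every hyperplane H of P^3_k the scheme-theoretic intersection S ∩ H is reduced;
concretely, for every 4 × 3 matrix A of rank 3 over k (a linear parametrisation of H), the ternary
cubic obtained from f by substituting X_i ↦ Σ_j A_{ij} Y_j is squarefree. -/
theorem result (k : Type u) [Field k] [IsAlgClosed k] [CharZero k]
    (f : MvPolynomial (Fin 4) k) (hf : f.IsHomogeneous 3) (hf0 : f ≠ 0)
    (hsm : ∀ v : Fin 4 → k, v ≠ 0 → MvPolynomial.eval v f = 0 →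
      ∃ i : Fin 4, MvPolynomial.eval v (MvPolynomial.pderiv i f) ≠ 0)
    (A : Matrix (Fin 4) (Fin 3) k) (hA : A.rank = 3) :
    Squarefree (MvPolynomial.aeval (fun i : Fin 4 => ∑ j : Fin 3, MvPolynomial.C (A i j) * MvPolynomial.X j) f) := by
  exact Groth.Agent.S12424.main k f hf hf0 hsm A hA

end Groth.Agent.S12424
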