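import Groth.Statements.S12437
import Groth.Agent.Lib.Helper20.S24D

set_option autoImplicit false
universe u
open Cubic

namespace Groth.Agent.S12437


theorem result (k : Type u) [Field k] [IsAlgClosed k] [CharZero k] :
    (Ideal.span ({MvPolynomial.esymm (Fin 5) k 2, MvPolynomial.esymm (Fin 5) k 4} :
      Set (MvPolynomial (Fin 5) k))).radical.IsPrime := by
  haveI := Groth.Agent.Helper20.S24.isPrime_span_esymm k
  rw [Ideal.IsPrime.radical inferInstance]
  infer_instance

end Groth.Agent.S12437
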