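import Groth.Statements.S12442
import Mathlib.AlgebraicGeometry.Morphisms.FinitePresentation

set_option autoImplicit false
universe u
open Mor

namespace Groth.Agent.S12442

open AlgebraicGeometry CategoryTheory in
/-- Let f : X → Y and g : Y → S be morphisms of schemes. If the composite X → S is locally of finite
presentation and g is locally of finite type, then f is locally of finite presentation. -/
theorem result {X Y S : Scheme.{u}} (f : X ⟶ Y) (g : Y ⟶ S)
    [LocallyOfFinitePresentation (f ≫ g)] [LocallyOfFiniteType g] :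
    LocallyOfFinitePresentation f := by
  rw [HasRingHomProperty.iff_exists_appLE (P := @LocallyOfFinitePresentation)
    (RingHom.finitePresentation_stableUnderComposition.stableUnderCompositionWithLocalizationAway
      RingHom.finitePresentation_holdsForLocalizationAway).left]
  intro x
  obtain ⟨W, hW, hxW, -⟩ := TopologicalSpace.Opens.isBasis_iff_nbhd.mp S.isBasis_affineOpens
    (TopologicalSpace.Opens.mem_top (g (f x)))
  obtain ⟨V, hV, hxV, eV⟩ := TopologicalSpace.Opens.isBasis_iff_nbhd.mp Y.isBasis_affineOpens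
    (show f x ∈ g ⁻¹ᵁ W from hxW)
  obtain ⟨U, hU, hxU, eU⟩ := TopologicalSpace.Opens.isBasis_iff_nbhd.mp X.isBasis_affineOpens
    (show x ∈ f ⁻¹ᵁ V from hxV)
  refine ⟨⟨V, hV⟩, ⟨U, hU⟩, hxU, eU, ?_⟩
  have h1 := HasRingHomProperty.appLE (P := @LocallyOfFinitePresentation) (f ≫ g) inferInstance
    ⟨W, hW⟩ ⟨U, hU⟩ (eU.trans ((TopologicalSpace.Opens.map f.base).map (homOfLE eV)).le)
  have h2 := HasRingHomProperty.appLE (P := @LocallyOfFiniteType) g inferInstance ⟨W, hW⟩ ⟨V, hV⟩ eV
  rw [← Scheme.Hom.appLE_comp_appLE f g W V U eV eU] at h1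
  exact RingHom.FinitePresentation.of_comp_finiteType _ h1 h2

end Groth.Agent.S12442
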