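import Groth.Statements.S12443
import Mathlib.CategoryTheory.Monad.Adjunction

set_option autoImplicit false
universe u
open CategoryTheory TopologicalSpace
open ShSp

namespace Groth.Agent.S12443

/-- Let j : U → X be the inclusion of an open subset (an open embedding) and F a sheaf of sets on U.
Then the counit j⁻¹ j_* F → F is an isomorphism, i.e. j⁻¹ j_* is the identity on sheaves on U. -/
theorem result {U X : TopCat.{u}} (j : U ⟶ X) (hj : Topology.IsOpenEmbedding j)
    (F : U.Sheaf (Type u)) :
    IsIso ((TopCat.Sheaf.pullbackPushforwardAdjunction (Type u) j).counit.app F) := by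
  haveI := Topology.IsOpenEmbedding.functor_isContinuous hj
  let e : hj.isOpenMap.functor ⋙ Opens.map j ≅ 𝟭 (Opens U) :=
    NatIso.ofComponents (fun V => eqToIso (Opens.map_functor_eq' j hj V)) (by intros; apply Subsingleton.elim)
  haveI : Functor.IsContinuous (hj.isOpenMap.functor ⋙ Opens.map j) (Opens.grothendieckTopology U) (Opens.grothendieckTopology U) :=
    Functor.isContinuous_comp hj.isOpenMap.functor (Opens.map j) _ (Opens.grothendieckTopology X) _
  let i1 : TopCat.Sheaf.pushforward (Type u) j ⋙ hj.sheafPullback (Type u) ≅
      Functor.sheafPushforwardContinuous (hj.isOpenMap.functor ⋙ Opens.map j) (Type u)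
        (Opens.grothendieckTopology U) (Opens.grothendieckTopology U) :=
    Functor.sheafPushforwardContinuousComp hj.isOpenMap.functor (Opens.map j) (Type u)
      (Opens.grothendieckTopology U) (Opens.grothendieckTopology X) (Opens.grothendieckTopology U)
  let i2 := Functor.sheafPushforwardContinuousIso (A := Type u) (J := Opens.grothendieckTopology U) (K := Opens.grothendieckTopology U) e
  let i3 : TopCat.Sheaf.pushforward (Type u) j ⋙ TopCat.Sheaf.pullback (Type u) j ≅ 𝟭 _ :=
    Functor.isoWhiskerLeft _ (hj.sheafPullbackIso (Type u)) ≪≫ i1 ≪≫ i2 ≪≫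
      Functor.sheafPushforwardContinuousId (Type u) (Opens.grothendieckTopology U)
  haveI := (TopCat.Sheaf.pullbackPushforwardAdjunction (Type u) j).isIso_counit_of_iso i3
  infer_instance


end Groth.Agent.S12443
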