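import Groth.Statements.S12447
import Groth.Agent.Lib.Lead.DimFun

set_option autoImplicit false
universe u
open CategoryTheory AlgebraicGeometry
open Props

namespace Groth.Agent.S12447

/-- Let S be a locally Noetherian scheme. Then the underlying topological space of S is catenary if and
only if locally in the Zariski topology there is a dimension function, i.e. every point has an open
neighbourhood U carrying a function δ : U → ℤ which strictly decreases along nontrivial
specializations and drops by exactly one along immediate specializations. -/
theorem result (S : Scheme.{u}) [IsLocallyNoetherian S] :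
    PtTop.IsCatenarySpace S ↔
      ∀ s : S, ∃ U : S.Opens, s ∈ U ∧ ∃ δ : U → ℤ, PtTop.IsDimensionFunction δ := by
  constructor
  · intro hcat s
    obtain ⟨_, ⟨V, hV, rfl⟩, hsV, _⟩ :=
      S.isBasis_affineOpens.exists_subset_of_mem_open (Set.mem_univ s) isOpen_univ
    haveI : IsNoetherianRing ↑Γ(S, V) := IsLocallyNoetherian.component_noetherian ⟨V, hV⟩
    exact @Groth.Agent.Lead.DimFun.exists_dimensionFunction ↥S _ _ _ hcat s V hsV
      (noetherianSpace_of_isAffineOpen V hV)
  · intro h
    refine ((Groth.Agent.S12444.result ↥S).1).2 ?_
    intro x
    obtain ⟨U, hxU, δ, hδ⟩ := h x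
    refine ⟨U, hxU, (@Groth.Agent.S7577.result _ _ ?_ ?_ δ hδ).1⟩
    · exact U.isOpen.isOpenEmbedding_subtypeVal.quasiSober
    · infer_instance

end Groth.Agent.S12447
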