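import Groth.Statements.S1245
-- import your own Groth.Agent.* helpers here
import Mathlib
import Groth.Agent.Lib.Helper27.Pu10
import Groth.Agent.Lib.Helper27.Pu11

set_option autoImplicit false
universe u
open FlatMor

namespace Groth.Agent.S1245

/-- Ring form, X = Spec B affine, base change rings affine: let B be a finite type A-algebra, N a finite
B-module and p a prime of A. If there is an impurity of N above p, then there is one whose base
change A → A' is of finite presentation and whose point t is a closed point of the fibre of Spec A'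
over p (the extension of t to the fibre ring is maximal). -/
theorem result {A B : Type u} [CommRing A] [CommRing B] [Algebra A B] [Algebra.FiniteType A B]
    (N : Type u) [AddCommGroup N] [Module B N] [Module.Finite B N] (p : Ideal A) [p.IsPrime]
    (h : FlatCA.HasImpurity A B N p (fun _ _ _ _ => True)) :
    FlatCA.HasImpurity A B N p (fun A' _ _ t => Algebra.FinitePresentation A A' ∧ (FlatCA.fiberIdeal p t).IsMaximal) := by
  classical
  obtain ⟨A', B', N', iA', iB', algAA', algBB', algA'B', algAB', tABB', tAA'B', acgN', modB'N',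
    modBN', tBB'N', modA'N', tA'B'N', f, t', t, ht', ht, P, hP, himp, -⟩ := h
  obtain ⟨s, l, hs, hlt, hPs⟩ :=
    Groth.Agent.Helper27.Pu.exists_witness A' B' himp.1 t P himp.2.2.2.2.2.2
  let F : Finset A' := insert s l.support
  let φ : MvPolynomial F A →ₐ[A] A' := MvPolynomial.aeval (fun x : F => (x : A'))
  letI algGA' : Algebra (MvPolynomial F A) A' := φ.toRingHom.toAlgebra
  haveI tAGA' : IsScalarTower A (MvPolynomial F A) A' :=
    IsScalarTower.of_algebraMap_eq (fun a => (φ.commutes a).symm)
  let sel : A' → MvPolynomial F A := fun a => if h : a ∈ F then MvPolynomial.X ⟨a, h⟩ else 0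
  have hsel : ∀ a ∈ F, algebraMap (MvPolynomial F A) A' (sel a) = a := by
    intro a ha
    show φ (sel a) = a
    simp only [sel, dif_pos ha, φ, MvPolynomial.aeval_X]
  have hsF : s ∈ F := Finset.mem_insert_self _ _
  have hsi : algebraMap (MvPolynomial F A) A' (sel s) ∉ t := by
    rw [hsel s hsF]
    exact hs
  haveI hti : (t.comap (algebraMap (MvPolynomial F A) A')).IsPrime := Ideal.comap_isPrime _ _
  haveI htio : (t.comap (algebraMap (MvPolynomial F A) A')).LiesOver p := by
    have htp := himp.2.2.2.1
    refine ⟨?_⟩
    rw [htp.over]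
    ext a
    simp only [Ideal.under_def, Ideal.mem_comap]
    rw [← IsScalarTower.algebraMap_apply A (MvPolynomial F A) A']
  have hsi' : sel s ∉ t.comap (algebraMap (MvPolynomial F A) A') := hsi
  obtain ⟨T₁, hT₁p, hle, hT₁o, hsT₁, hmax⟩ :=
    Groth.Agent.Helper27.Pu.exists_closed_point p
      (t.comap (algebraMap (MvPolynomial F A) A')) (sel s) hsi'
  exact Groth.Agent.Helper27.Pu.stage_impurity' N p (MvPolynomial F A) A' B' N' f t' t P himp
    (sel s) l sel hsi
    (fun a ha => ⟨hlt a ha, hsel a (Finset.mem_insert_of_mem ha)⟩)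
    (by rw [hsel s hsF]; exact hPs) T₁ hle hsT₁ _ ⟨inferInstance, hmax⟩

end Groth.Agent.S1245
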