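import Groth.Statements.S12452
import Mathlib

set_option autoImplicit false
universe u
open CategoryTheory TopologicalSpace Opposite
open ShSp

namespace Groth.Agent.S12452

/-- For sheaves of sets, let f : X → Y be a continuous map, F a sheaf of sets on X, G a sheaf of sets on
Y, and B_X, B_Y bases for the topologies of X and Y. Suppose given, for every V in B_Y and U in B_X
with U ⊆ f⁻¹V, a map φ_V^U : G(V) → F(U), compatibly with restrictions. Then there is exactly one
morphism of sheaves ψ : G → f_*F (an f-map G → F) such that G(V) → F(f⁻¹V) → F(U) equals φ_V^U for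
every such pair. -/
theorem result {X Y : TopCat.{u}} (f : X ⟶ Y) (F : X.Sheaf (Type u)) (G : Y.Sheaf (Type u))
    {BX : Set (Opens X)} (hBX : Opens.IsBasis BX) {BY : Set (Opens Y)} (hBY : Opens.IsBasis BY)
    (φ : ∀ (V : BY) (U : BX), (U : Opens X) ≤ (Opens.map f).obj V →
      (G.presheaf.obj (op (V : Opens Y)) → F.presheaf.obj (op (U : Opens X))))
    (hφ : ∀ (V V' : BY) (U U' : BX) (hUV : (U : Opens X) ≤ (Opens.map f).obj V)
      (hU'V' : (U' : Opens X) ≤ (Opens.map f).obj V') (hV : (V' : Opens Y) ≤ V) (hU : (U' : Opens X) ≤ U)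
      (s : G.presheaf.obj (op (V : Opens Y))),
      F.presheaf.map (homOfLE hU).op (φ V U hUV s) = φ V' U' hU'V' (G.presheaf.map (homOfLE hV).op s)) :
    ∃! ψ : G ⟶ (TopCat.Sheaf.pushforward (Type u) f).obj F,
      ∀ (V : BY) (U : BX) (hUV : (U : Opens X) ≤ (Opens.map f).obj V) (s : G.presheaf.obj (op (V : Opens Y))),
        F.presheaf.map (homOfLE hUV).op (ψ.1.app (op (V : Opens Y)) s) = φ V U hUV s := by
  classical
  have hcov : ∀ W : Opens X, W ≤ ⨆ (U : {U : BX // (U : Opens X) ≤ W}), ((U : BX) : Opens X) := by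
    intro W x hx
    obtain ⟨U, hU, hxU, hUW⟩ := Opens.isBasis_iff_nbhd.mp hBX hx
    exact Opens.mem_iSup.mpr ⟨⟨⟨U, hU⟩, hUW⟩, hxU⟩
  have hmapid : ∀ (U : Opens X) (h : U ≤ U) (t : F.presheaf.obj (op U)),
      F.presheaf.map (homOfLE h).op t = t := by
    intro U h t
    have : (homOfLE h).op = 𝟙 (op U) := Subsingleton.elim _ _
    rw [this, F.presheaf.map_id]; rfl
  have hmapidG : ∀ (V : Opens Y) (h : V ≤ V) (t : G.presheaf.obj (op V)),
      G.presheaf.map (homOfLE h).op t = t := by
    intro U h t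
    have : (homOfLE h).op = 𝟙 (op U) := Subsingleton.elim _ _
    rw [this, G.presheaf.map_id]; rfl
  have hmapcomp : ∀ (U U' U'' : Opens X) (h : U' ≤ U) (h' : U'' ≤ U') (t : F.presheaf.obj (op U)),
      F.presheaf.map (homOfLE h').op (F.presheaf.map (homOfLE h).op t)
        = F.presheaf.map (homOfLE (h'.trans h)).op t := by
    intro U U' U'' h h' t
    rw [← ConcreteCategory.comp_apply, ← F.presheaf.map_comp]
    rfl
  -- gluing
  have hglue : ∀ (V : BY) (s : G.presheaf.obj (op (V : Opens Y))),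
      ∃! t : F.presheaf.obj (op ((Opens.map f).obj V)),
        ∀ (U : BX) (hUV : (U : Opens X) ≤ (Opens.map f).obj V),
          F.presheaf.map (homOfLE hUV).op t = φ V U hUV s := by
    intro V s
    have hc : TopCat.Presheaf.IsCompatible F.presheaf
        (fun W : {W : BX // (W : Opens X) ≤ (Opens.map f).obj V} => ((W : BX) : Opens X))
        (fun W => φ V W.1 W.2 s) := by
      intro W W'
      refine TopCat.Sheaf.eq_of_locally_eq' F
        (fun Z : {Z : BX // (Z : Opens X) ≤ (W.1 : Opens X) ⊓ (W'.1 : Opens X)} => ((Z : BX) : Opens X))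
        ((W.1 : Opens X) ⊓ (W'.1 : Opens X)) (fun Z => homOfLE Z.2) (hcov _) _ _ ?_
      intro Z
      have e1 := hφ V V W.1 Z.1 W.2 ((Z.2.trans inf_le_left).trans W.2) le_rfl
        (Z.2.trans inf_le_left) s
      have e2 := hφ V V W'.1 Z.1 W'.2 ((Z.2.trans inf_le_left).trans W.2) le_rfl
        (Z.2.trans inf_le_right) s
      have l1 := hmapcomp _ _ _ (inf_le_left : (W.1 : Opens X) ⊓ (W'.1 : Opens X) ≤ W.1) Z.2
        (φ V W.1 W.2 s)
      have l2 := hmapcomp _ _ _ (inf_le_right : (W.1 : Opens X) ⊓ (W'.1 : Opens X) ≤ W'.1) Z.2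
        (φ V W'.1 W'.2 s)
      exact (l1.trans (e1.trans (e2.symm.trans l2.symm)))
    obtain ⟨t, ht, htu⟩ := TopCat.Sheaf.existsUnique_gluing' F
      (fun W : {W : BX // (W : Opens X) ≤ (Opens.map f).obj V} => ((W : BX) : Opens X))
      ((Opens.map f).obj V) (fun W => homOfLE W.2) (hcov _) (fun W => φ V W.1 W.2 s) hc
    refine ⟨t, fun U hUV => ht ⟨U, hUV⟩, fun t' ht' => htu t' (fun W => ht' W.1 W.2)⟩
  choose ψ0 hψ0 hψ0u using hglue
  have hnat : ∀ (V V' : BY) (hV : (V' : Opens Y) ≤ V) (s : G.presheaf.obj (op (V : Opens Y))),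
      F.presheaf.map ((Opens.map f).map (homOfLE hV)).op (ψ0 V s)
        = ψ0 V' (G.presheaf.map (homOfLE hV).op s) := by
    intro V V' hV s
    apply hψ0u
    intro U hUV'
    have hle : (Opens.map f).obj (V' : Opens Y) ≤ (Opens.map f).obj (V : Opens Y) :=
      ((Opens.map f).map (homOfLE hV)).le
    have e1 := hmapcomp _ _ _ hle hUV' (ψ0 V s)
    have e2 := hψ0 V s U (hUV'.trans hle)
    have e3 := hφ V V' U U (hUV'.trans hle) hUV' hV le_rfl s
    rw [hmapid] at e3
    exact e1.trans (e2.trans e3)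
  have hB : Opens.IsBasis (Set.range (Subtype.val : BY → Opens Y)) := by
    rw [Subtype.range_coe]; exact hBY
  let α : (inducedFunctor (Subtype.val : BY → Opens Y)).op ⋙ G.presheaf ⟶
      (inducedFunctor (Subtype.val : BY → Opens Y)).op ⋙
        ((TopCat.Sheaf.pushforward (Type u) f).obj F).obj :=
    { app := fun V => TypeCat.ofHom (ψ0 (show BY from V.unop))
      naturality := by
        intro V V' g
        ext s
        have hV : (((show BY from V'.unop) : BY) : Opens Y) ≤ ((show BY from V.unop) : BY) :=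
          g.unop.hom.le
        exact (hnat (show BY from V.unop) (show BY from V'.unop) hV s).symm }
  let Ψ : G.presheaf ⟶ ((TopCat.Sheaf.pushforward (Type u) f).obj F).obj :=
    TopCat.Sheaf.restrictHomEquivHom G.presheaf ((TopCat.Sheaf.pushforward (Type u) f).obj F) hB α
  have hΨ : ∀ (V : BY), Ψ.app (op (V : Opens Y)) = TypeCat.ofHom (ψ0 V) := by
    intro V
    exact TopCat.Sheaf.extend_hom_app G.presheaf ((TopCat.Sheaf.pushforward (Type u) f).obj F) hB α V
  refine ⟨ObjectProperty.homMk Ψ, ?_, ?_⟩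
  · intro V U hUV s
    have : (ObjectProperty.homMk Ψ : G ⟶ (TopCat.Sheaf.pushforward (Type u) f).obj F).1.app
        (op (V : Opens Y)) s = ψ0 V s := by
      change Ψ.app (op (V : Opens Y)) s = ψ0 V s
      rw [hΨ V]; rfl
    rw [this]
    exact hψ0 V s U hUV
  · intro ψ' hψ'
    apply ObjectProperty.hom_ext
    apply TopCat.Sheaf.hom_ext (B := (Subtype.val : BY → Opens Y)) G.presheaf
      ((TopCat.Sheaf.pushforward (Type u) f).obj F) hB
    intro V
    ext s
    change ψ'.1.app (op (V : Opens Y)) s = Ψ.app (op (V : Opens Y)) s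
    rw [hΨ V]
    exact hψ0u V s _ (fun U hUV => hψ' V U hUV s)


end Groth.Agent.S12452
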