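import Groth.Statements.S12456
import Groth.Agent.Lib.Helper18.Thick

set_option autoImplicit false
universe u
open CategoryTheory AlgebraicGeometry
open OmegaSh

namespace Groth.Agent.S12456

/-- Let i : Z → X be an immersion, written as the closed subscheme of an open U ⊆ X cut out by an ideal
sheaf I followed by the inclusion of U. Then the first order infinitesimal neighbourhood of Z in X —
the closed subscheme of U cut out by I² — together with Z ⊂ V(I²) and V(I²) → U → X is a universal
first order thickening of Z over X. (The inequality I² ≤ I is carried as an argument h; it always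
holds.) -/
theorem result {X : Scheme.{u}} (U : X.Opens) (I : (U : Scheme.{u}).IdealSheafData)
    (h : I ^ 2 ≤ I) :
    OmegaSh.IsUnivThickening (I.subschemeι ≫ U.ι) (Scheme.IdealSheafData.inclusion h)
      ((I ^ 2).subschemeι ≫ U.ι) := by
  have hcomp : Scheme.IdealSheafData.inclusion h ≫ (I ^ 2).subschemeι = I.subschemeι :=
    Scheme.IdealSheafData.inclusion_subschemeι h
  have hcl : IsClosedImmersion (Scheme.IdealSheafData.inclusion h) := by
    have : IsClosedImmersion (Scheme.IdealSheafData.inclusion h ≫ (I ^ 2).subschemeι) := by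
      rw [hcomp]; infer_instance
    exact IsClosedImmersion.of_comp (Scheme.IdealSheafData.inclusion h) (I ^ 2).subschemeι
  refine ⟨⟨⟨hcl, ⟨fun y => ?_⟩⟩, ?_⟩, ?_, ?_⟩
  · -- surjective
    have hy : (I ^ 2).subschemeι y ∈ Set.range I.subschemeι := by
      rw [Scheme.IdealSheafData.range_subschemeι,
        ← Scheme.IdealSheafData.support_pow I 2 (by norm_num),
        ← Scheme.IdealSheafData.range_subschemeι]
      exact ⟨y, rfl⟩
    obtain ⟨z, hz⟩ := hy
    refine ⟨z, ?_⟩
    apply (I ^ 2).subschemeι.isClosedEmbedding.injective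
    rw [← hz, ← hcomp]
    rfl
  · -- kernel
    apply Groth.Agent.Helper18.Thick.ker_sq_of_comp _ (I ^ 2).subschemeι
    rw [hcomp, Scheme.IdealSheafData.ker_subschemeι, Scheme.IdealSheafData.ker_subschemeι, sq]
  · rw [← Category.assoc, hcomp]
  · intro T T' j b a hj w
    obtain ⟨⟨hjcl, hjsurj⟩, hjker⟩ := hj
    have hmono : Mono ((I ^ 2).subschemeι ≫ U.ι) := inferInstance
    -- b factors through U
    have hrange : Set.range b ⊆ Set.range U.ι := by
      rintro _ ⟨t', rfl⟩
      obtain ⟨t, rfl⟩ := hjsurj.surj t'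
      have : b (j t) = (a ≫ I.subschemeι ≫ U.ι) t := by
        rw [← w]; rfl
      rw [this]
      exact ⟨(a ≫ I.subschemeι) t, rfl⟩
    let b₀ : T' ⟶ U := IsOpenImmersion.lift U.ι b hrange
    have hb₀ : b₀ ≫ U.ι = b := IsOpenImmersion.lift_fac _ _ _
    have hjb₀ : j ≫ b₀ = a ≫ I.subschemeι := by
      rw [← cancel_mono U.ι, Category.assoc, hb₀, w, Category.assoc]
    have hle : (I ^ 2).subschemeι.ker ≤ b₀.ker := by
      rw [Scheme.IdealSheafData.ker_subschemeι]
      have h1 : I ≤ (j ≫ b₀).ker := by
        rw [hjb₀]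
        conv_lhs => rw [← Scheme.IdealSheafData.ker_subschemeι I]
        exact Scheme.Hom.le_ker_comp _ _
      rw [Scheme.Hom.ker_comp, Scheme.IdealSheafData.le_map_iff_comap_le] at h1
      rw [← Scheme.IdealSheafData.map_bot, Scheme.IdealSheafData.le_map_iff_comap_le,
        Groth.Agent.Helper6.IdealComap.comap_pow, sq, ← hjker]
      exact mul_le_mul' h1 h1
    refine ⟨IsClosedImmersion.lift (I ^ 2).subschemeι b₀ hle, ⟨?_, ?_⟩, ?_⟩
    · rw [← cancel_mono (I ^ 2).subschemeι, Category.assoc, IsClosedImmersion.lift_fac,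
        Category.assoc, hcomp, hjb₀]
    · rw [← Category.assoc, IsClosedImmersion.lift_fac, hb₀]
    · rintro a'' ⟨-, h2⟩
      rw [← cancel_mono ((I ^ 2).subschemeι ≫ U.ι), h2, ← Category.assoc,
        IsClosedImmersion.lift_fac, hb₀]

end Groth.Agent.S12456
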