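import Mathlib
import Groth.Statements.S12461
import Mathlib
import Groth.Agent.Lib.Helper19.QCohAdj.Main

set_option autoImplicit false
universe u
open CategoryTheory AlgebraicGeometry
open QCohSub

namespace Groth.Agent.S12461

/-- Let i : Z → X be a closed immersion of schemes. The functor i_* : QCoh(O_Z) → QCoh(O_X) has a right
adjoint i^! : QCoh(O_X) → QCoh(O_Z). Stated as: there is a functor L between the full subcategories
of quasi-coherent modules which agrees with i_* after the inclusion into all O_X-modules (this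
determines L up to isomorphism, the inclusion being fully faithful) and which is a left adjoint. -/
theorem result {Z X : Scheme.{u}} (i : Z ⟶ X) [IsClosedImmersion i] :
    ∃ L : QCohCat.QCoh Z ⥤ QCohCat.QCoh X,
      Nonempty (L ⋙ (QCohCat.isQCoh X).ι ≅ (QCohCat.isQCoh Z).ι ⋙ Coh.push i) ∧ L.IsLeftAdjoint := by
  classical
  let L : QCohCat.QCoh Z ⥤ QCohCat.QCoh X :=
    (QCohCat.isQCoh X).lift ((QCohCat.isQCoh Z).ι ⋙ Coh.push i) (fun H => by
      haveI : H.obj.IsQuasicoherent := H.property
      exact Groth.Agent.Helper13.QCohPush.isQuasicoherent_pushforward i H.obj)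
  refine ⟨L, ⟨(QCohCat.isQCoh X).liftCompιIso _ _⟩, ?_⟩
  apply Groth.Agent.Helper19.QCohAdj.isLeftAdjoint_of_universal
  intro A
  obtain ⟨K, hK, c, hc⟩ := Groth.Agent.Helper19.QCohAdj.exists_universal i A.obj A.property
  refine ⟨⟨K, hK⟩, CategoryTheory.ObjectProperty.homMk c, ?_⟩
  intro H φ
  obtain ⟨f, hf, hu⟩ := hc H.obj H.property φ.hom
  refine ⟨CategoryTheory.ObjectProperty.homMk f, ?_, ?_⟩
  · apply CategoryTheory.ObjectProperty.hom_ext
    exact hf
  · intro f' hf'
    apply CategoryTheory.ObjectProperty.hom_ext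
    exact hu f'.hom (congrArg (fun m => m.hom) hf')

end Groth.Agent.S12461
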