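import Mathlib
import Groth.Statements.S12462
import Groth.Agent.Lib.Helper11.Spectral
-- import your own Groth.Agent.* helpers here

set_option autoImplicit false
universe u
open CategoryTheory CategoryTheory.Limits
open SpecSp

namespace Groth.Agent.S12462

open TopologicalSpace Opposite Topology

section aux

theorem t0Space_Prop : T0Space Prop := by
  refine ⟨fun x y h => ?_⟩
  have := (inseparable_iff_forall_isOpen.mp h) {True} isOpen_singleton_true
  simp only [Set.mem_singleton_iff, eq_iff_iff, iff_true] at this
  exact propext this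

theorem quasiSober_of_finite (α : Type*) [TopologicalSpace α] [Finite α] : QuasiSober α := by
  classical
  refine ⟨fun {S} hS hSc => ?_⟩
  have hfin : S.Finite := Set.toFinite S
  obtain ⟨z, hz, hSz⟩ := isIrreducible_iff_sUnion_isClosed.mp hS
    (hfin.toFinset.image fun x => closure {x})
    (by
      intro z hz
      obtain ⟨x, _, rfl⟩ := Finset.mem_image.1 hz
      exact isClosed_closure)
    (by
      intro x hx
      refine ⟨closure {x}, ?_, subset_closure rfl⟩
      exact Finset.mem_coe.2 (Finset.mem_image.2 ⟨x, hfin.mem_toFinset.2 hx, rfl⟩))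
  obtain ⟨x, hx, rfl⟩ := Finset.mem_image.1 hz
  refine ⟨x, ?_⟩
  rw [isGenericPoint_def]
  refine Set.Subset.antisymm ?_ hSz
  exact hSc.closure_subset_iff.2 (Set.singleton_subset_iff.2 (hfin.mem_toFinset.1 hx))

variable (X : Type u) [TopologicalSpace X]

/-- the compact opens of `X`. -/
abbrev B : Type u := {U : Set X // IsOpen U ∧ IsCompact U}

variable {X}

/-- membership pattern of a point with respect to finitely many compact opens. -/
def pr (j : Finset (B X)) : X → (j → Prop) := fun x U => x ∈ U.1.1

theorem continuous_pr (j : Finset (B X)) : Continuous (pr j) := by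
  refine continuous_pi fun U => ?_
  rw [continuous_Prop]
  exact U.1.2.1

/-- restriction of patterns. -/
def res {j j' : Finset (B X)} (h : j ≤ j') : Set.range (pr j') → Set.range (pr j) :=
  fun ξ => ⟨fun U => ξ.1 ⟨U.1, h U.2⟩, by
    obtain ⟨x, hx⟩ := ξ.2
    exact ⟨x, by funext U; rw [← hx]; rfl⟩⟩

theorem continuous_res {j j' : Finset (B X)} (h : j ≤ j') : Continuous (res h) := by
  refine Continuous.subtype_mk ?_ _
  exact continuous_pi fun U => (continuous_apply _).comp continuous_subtype_val

/-- the inverse system of finite pattern spaces. -/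
def F : (Finset (B X))ᵒᵖ ⥤ TopCat.{u} where
  obj j := TopCat.of (Set.range (pr j.unop))
  map {j j'} f := TopCat.ofHom ⟨res (leOfHom f.unop), continuous_res _⟩
  map_id := by intros; rfl
  map_comp := by intros; rfl

/-- the cone with vertex `X`. -/
def cone : Cone (F (X := X)) where
  pt := TopCat.of X
  π :=
    { app := fun j => TopCat.ofHom ⟨fun x => ⟨pr j.unop x, x, rfl⟩, (continuous_pr _).subtype_mk _⟩
      naturality := by intros; rfl }

theorem pr_injective [T0Space X] [PrespectralSpace X] {x y : X}
    (h : ∀ j : Finset (B X), pr j x = pr j y) : x = y := by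
  apply Inseparable.eq
  rw [PrespectralSpace.isTopologicalBasis.inseparable_iff]
  intro U hU
  have := congrFun (h {⟨U, hU⟩}) ⟨⟨U, hU⟩, Finset.mem_singleton_self _⟩
  exact iff_of_eq this

theorem exists_pt [SpectralSpace X] (ξ : ∀ j : Finset (B X), Set.range (pr j))
    (hξ : ∀ (j j' : Finset (B X)) (h : j ≤ j'), res h (ξ j') = ξ j) :
    ∃ x : X, ∀ j, pr j x = (ξ j).1 := by
  classical
  let σ : B X → Prop := fun U => (ξ {U}).1 ⟨U, Finset.mem_singleton_self U⟩
  have hσ : ∀ (j : Finset (B X)) (U : B X) (hU : U ∈ j), (ξ j).1 ⟨U, hU⟩ = σ U := by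
    intro j U hU
    have h : ({U} : Finset (B X)) ≤ j := Finset.singleton_subset_iff.2 hU
    have := congrArg (fun ζ : Set.range (pr ({U} : Finset (B X))) =>
      ζ.1 ⟨U, Finset.mem_singleton_self U⟩) (hξ {U} j h)
    exact this
  let t : B X → Set X := fun U => if σ U then U.1 else U.1ᶜ
  have htc : ∀ U, IsClosed[constructibleTopology X] (t U) := by
    intro U
    by_cases h : σ U
    · simp only [t, if_pos h]
      exact Groth.Agent.Helper11.isClosed_constructibleTopology_of_isOpen_isCompact U.2.1 U.2.2
    · simp only [t, if_neg h]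
      exact Groth.Agent.Helper11.isClosed_constructibleTopology_of_isClosed U.2.1.isClosed_compl
  have hfin : ∀ u : Finset (B X), (⋂ U ∈ u, t U).Nonempty := by
    intro u
    obtain ⟨x, hx⟩ := (ξ u).2
    refine ⟨x, ?_⟩
    simp only [Set.mem_iInter]
    intro U hU
    have h1 : (x ∈ U.1) = σ U := by
      rw [← hσ u U hU, ← hx]; rfl
    by_cases h : σ U
    · simp only [t, if_pos h]
      rw [h1]; exact h
    · simp only [t, if_neg h, Set.mem_compl_iff]
      rw [h1]; exact h
  obtain ⟨x, hx⟩ := Groth.Agent.Helper11.nonempty_iInter_of_isClosed_constructibleTopology t htc hfin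
  rw [Set.mem_iInter] at hx
  refine ⟨x, fun j => ?_⟩
  funext U
  rw [hσ j U.1 U.2]
  have := hx U.1
  by_cases h : σ U.1
  · simp only [t, if_pos h] at this
    exact propext ⟨fun _ => h, fun _ => this⟩
  · simp only [t, if_neg h, Set.mem_compl_iff] at this
    exact propext ⟨fun h' => absurd h' this, fun h' => absurd h' h⟩

theorem cone_compat (s : Cone (F (X := X))) (y : s.pt) (j j' : Finset (B X)) (h : j ≤ j') :
    res h (s.π.app (op j') y) = s.π.app (op j) y := by
  have := s.w (homOfLE h).op
  exact congrArg (fun g : s.pt ⟶ (F (X := X)).obj (op j) => g.hom y) this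

/-- the lifted point. -/
noncomputable def liftPt [SpectralSpace X] (s : Cone (F (X := X))) (y : s.pt) : X :=
  Classical.choose (exists_pt (fun j => s.π.app (op j) y) (cone_compat s y))

theorem liftPt_spec [SpectralSpace X] (s : Cone (F (X := X))) (y : s.pt) (j : Finset (B X)) :
    pr j (liftPt s y) = (s.π.app (op j) y).1 :=
  Classical.choose_spec (exists_pt (fun j => s.π.app (op j) y) (cone_compat s y)) j

theorem continuous_liftPt [SpectralSpace X] (s : Cone (F (X := X))) :
    Continuous (liftPt s) := by
  rw [PrespectralSpace.isTopologicalBasis.continuous_iff]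
  intro U hU
  have h1 : liftPt s ⁻¹' U =
      {y | (s.π.app (op {⟨U, hU⟩}) y).1 ⟨⟨U, hU⟩, Finset.mem_singleton_self _⟩} := by
    ext y
    have := congrFun (liftPt_spec s y {⟨U, hU⟩}) ⟨⟨U, hU⟩, Finset.mem_singleton_self _⟩
    exact iff_of_eq this
  rw [h1]
  have hcont : Continuous (fun y : s.pt =>
      ((s.π.app (op {⟨U, hU⟩})).hom y).1 ⟨⟨U, hU⟩, Finset.mem_singleton_self _⟩) :=
    (continuous_apply _).comp (continuous_subtype_val.comp (s.π.app (op {⟨U, hU⟩})).hom.continuous)
  exact continuous_Prop.1 hcont

/-- the cone is a limit cone. -/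
noncomputable def isLimit [SpectralSpace X] : IsLimit (cone (X := X)) where
  lift s := TopCat.ofHom ⟨liftPt s, continuous_liftPt s⟩
  fac s j := by
    ext y
    apply Subtype.ext
    exact liftPt_spec s y j.unop
  uniq s m hm := by
    ext y
    apply pr_injective (X := X)
    intro j
    have h2 : pr j (liftPt s y) = (s.π.app (op j) y).1 := liftPt_spec s y j
    have h3 := congrArg (fun g : s.pt ⟶ (F (X := X)).obj (op j) => (g.hom y).1) (hm (op j))
    exact h3.trans h2.symm

end aux


/-- A spectral space is a directed inverse limit of finite sober topological spaces. Precisely: for X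
spectral there exist a nonempty directed preordered index set J, a functor from the opposite of J to
topological spaces whose values are finite sober (T0, every irreducible closed subset has a generic
point) spaces, and a limit cone of it whose vertex is isomorphic to X. -/
theorem result (X : Type u) [TopologicalSpace X] [SpectralSpace X] :
    ∃ (J : Type u) (_ : Preorder J) (_ : Nonempty J) (_ : IsDirected J (· ≤ ·)) (F : Jᵒᵖ ⥤ TopCat.{u})
      (c : Cone F), Nonempty (IsLimit c) ∧
        (∀ j : Jᵒᵖ, Finite (F.obj j) ∧ T0Space (F.obj j) ∧ QuasiSober (F.obj j)) ∧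
        Nonempty (c.pt ≅ TopCat.of X) := by
  classical
  refine ⟨Finset (B X), inferInstance, ⟨∅⟩, inferInstance, F, cone, ⟨isLimit⟩, fun j => ?_, ⟨Iso.refl _⟩⟩
  have hfin : Finite (Set.range (pr (X := X) j.unop)) := inferInstance
  have ht0 : T0Space (Set.range (pr (X := X) j.unop)) := by
    have := t0Space_Prop
    infer_instance
  exact ⟨hfin, ht0, @quasiSober_of_finite _ _ hfin⟩

end Groth.Agent.S12462
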