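import Groth.Statements.S12463
import Groth.Agent.Lib.Helper20.WedgeA
import Groth.Agent.Lib.Helper20.WedgeB

set_option autoImplicit false
universe u
open Variety

namespace Groth.Agent.S12463

open Groth.Agent.Helper12.GeomBranches Groth.Agent.Helper20 in

theorem result (A : Type u) [CommRing A] [HenselianLocalRing A]
    [IsSepClosed (IsLocalRing.ResidueField A)] [IsReduced A] (hN : CAlg.IsNagata A) (hdim : ringKrullDim A = 1)
    (heq : Curv2.deltaInv A + 1 = Brnch.numGeomBranches A) :
    (∀ m' : MaximalSpectrum ↥(integralClosure A (FractionRing A)),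
        (∃ _ : IsDomain (Localization.AtPrime m'.asIdeal), IsDiscreteValuationRing (Localization.AtPrime m'.asIdeal)) ∧
        Function.Surjective (⇑(IsLocalRing.residue (Localization.AtPrime m'.asIdeal)) ∘
          ⇑(algebraMap ↥(integralClosure A (FractionRing A)) (Localization.AtPrime m'.asIdeal)) ∘
          ⇑(algebraMap A ↥(integralClosure A (FractionRing A))))) ∧
    ∀ a' : ↥(integralClosure A (FractionRing A)),
      (∃ a : A, ∀ m' : MaximalSpectrum ↥(integralClosure A (FractionRing A)),
          a' - algebraMap A _ a ∈ m'.asIdeal) →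
      a' ∈ (algebraMap A ↥(integralClosure A (FractionRing A))).range := by
  classical
  obtain ⟨hNoeth, hN2⟩ := hN
  haveI := hNoeth
  have hfinmin : (minimalPrimes A).Finite := minimalPrimes.finite_of_isNoetherianRing A
  rw [Brnch.numGeomBranches, if_pos hfinmin] at heq
  have hfin : ∀ p : Groth.Agent.Helper12.NagataDimOne.MinP A,
      Module.Finite (A ⧸ p.1) (Groth.Agent.Helper12.NagataDimOne.Bp A p) := fun p =>
    (hN2 p.1) (FractionRing (A ⧸ p.1)) inferInstance
  haveI hA' : Module.Finite A (integralClosure A (FractionRing A)) :=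
    Groth.Agent.Helper12.NagataDimOne.finite_integralClosure hfin
  haveI : Ring.KrullDimLE 1 A := Ring.krullDimLE_iff.mpr hdim.le
  have hδfin : Curv2.deltaInv A ≠ ⊤ := by
    rw [Curv2.deltaInv]
    exact Module.length_ne_top_iff.mpr Groth.Agent.Helper12.NagataDimOne.isFiniteLength_quotient
  let q : A →+* CAlg2.red A := Ideal.Quotient.mk (nilradical A)
  have hq : Function.Bijective q := by
    refine ⟨?_, Ideal.Quotient.mk_surjective⟩
    rw [injective_iff_map_eq_zero]
    intro a ha
    rw [Ideal.Quotient.eq_zero_iff_mem, nilradical_eq_zero] at ha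
    exact ha
  let φ : A →+* CAlg2.normRed A := (algebraMap (CAlg2.red A) (CAlg2.normRed A)).comp q
  letI alg : Algebra A (CAlg2.normRed A) := φ.toAlgebra
  have h1 : ENat.card (Σ m' : MaximalSpectrum (CAlg2.normRed A), Brnch.Emb A m') ≤
      δ' A (CAlg2.normRed A) + 1 :=
    @card_sigma_E_le A _ _ (CAlg2.normRed A) _ alg
      (AlgebraicClosure (IsLocalRing.ResidueField A)) _ _
  have h2 : δ' A (CAlg2.normRed A) ≤ Curv2.deltaInv A :=
    @δ'_le A (CAlg2.red A) _ _ q hq alg (fun a => rfl)
  have hcardT : ENat.card (Σ m' : MaximalSpectrum (CAlg2.normRed A), Brnch.Emb A m') =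
      δ' A (CAlg2.normRed A) + 1 := by
    apply le_antisymm h1
    rw [← heq]
    exact add_le_add h2 le_rfl
  have hδ'fin : δ' A (CAlg2.normRed A) ≠ ⊤ := ne_top_of_le_ne_top hδfin h2
  obtain ⟨n, hn⟩ := ENat.ne_top_iff_exists.mp hδ'fin
  have hsub : ∀ m' : MaximalSpectrum (CAlg2.normRed A), Subsingleton (Brnch.Emb A m') :=
    fun m' => WedgeB.subsingleton_E (A := A) (B := CAlg2.normRed A) m'
  haveI hTfin : Finite (Σ m' : MaximalSpectrum (CAlg2.normRed A), Brnch.Emb A m') := by
    rw [← ENat.card_lt_top, hcardT, ← hn]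
    exact WithTop.coe_lt_top (n + 1)
  haveI := Fintype.ofFinite (Σ m' : MaximalSpectrum (CAlg2.normRed A), Brnch.Emb A m')
  have hTcard : Fintype.card (Σ m' : MaximalSpectrum (CAlg2.normRed A), Brnch.Emb A m') =
      n + 1 := by
    rw [ENat.card_eq_coe_fintype_card, ← hn] at hcardT
    exact_mod_cast hcardT
  have hfstinj : Function.Injective
      (Sigma.fst : (Σ m' : MaximalSpectrum (CAlg2.normRed A), Brnch.Emb A m') → _) := by
    rintro ⟨m1, σ1⟩ ⟨m2, σ2⟩ h
    have h' : m1 = m2 := h
    subst h'
    haveI := hsub m1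
    rw [Subsingleton.elim σ1 σ2]
  let S : Finset (MaximalSpectrum (CAlg2.normRed A)) :=
    (Finset.univ : Finset (Σ m' : MaximalSpectrum (CAlg2.normRed A), Brnch.Emb A m')).image
      Sigma.fst
  have hScard : S.card = n + 1 := by
    rw [Finset.card_image_of_injective _ hfstinj, Finset.card_univ, hTcard]
  haveI : IsScalarTower A (CAlg2.red A) (CAlg2.normRed A) :=
    IsScalarTower.of_algebraMap_eq (fun a => rfl)
  haveI : Algebra.IsIntegral A (CAlg2.red A) := ⟨fun x => by
    obtain ⟨a, rfl⟩ := Ideal.Quotient.mk_surjective x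
    exact isIntegral_algebraMap (R := A) (A := CAlg2.red A) (x := a)⟩
  haveI : Algebra.IsIntegral A (CAlg2.normRed A) :=
    Algebra.IsIntegral.trans (R := A) (CAlg2.red A) (B := CAlg2.normRed A)
  obtain ⟨hsurj, hJ⟩ := WedgeA.main (A := A) (B := CAlg2.normRed A) n hn.symm S hScard
  -- the comparison isomorphism
  let e : ↥(integralClosure A (FractionRing A)) ≃+* CAlg2.normRed A :=
    RingEquiv.ofBijective (WedgeB.Θ q hq) ⟨WedgeB.Θ_injective q hq, WedgeB.Θ_surjective q hq⟩
  have he : ∀ a : A, e (algebraMap A ↥(integralClosure A (FractionRing A)) a) =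
      algebraMap A (CAlg2.normRed A) a := fun a => WedgeB.Θ_algebraMap q hq a
  have hes : ∀ a : A, e.symm (algebraMap A (CAlg2.normRed A) a) =
      algebraMap A ↥(integralClosure A (FractionRing A)) a := fun a => by
    rw [RingEquiv.symm_apply_eq, he]
  have key : ∀ (m' : MaximalSpectrum ↥(integralClosure A (FractionRing A)))
      (b : ↥(integralClosure A (FractionRing A))),
      ∃ a : A, b - algebraMap A ↥(integralClosure A (FractionRing A)) a ∈ m'.asIdeal := by
    intro m' b
    haveI := m'.isMaximal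
    let n' : MaximalSpectrum (CAlg2.normRed A) :=
      ⟨Ideal.comap e.symm m'.asIdeal, Ideal.comap_isMaximal_of_surjective _ e.symm.surjective⟩
    obtain ⟨a, ha⟩ := hsurj n' (Ideal.Quotient.mk _ (e b))
    refine ⟨a, ?_⟩
    have h3 : Ideal.Quotient.mk n'.asIdeal (algebraMap A (CAlg2.normRed A) a) =
        Ideal.Quotient.mk n'.asIdeal (e b) := ha
    have h4 : algebraMap A (CAlg2.normRed A) a - e b ∈ Ideal.comap e.symm m'.asIdeal :=
      Ideal.Quotient.eq.mp h3
    rw [Ideal.mem_comap, map_sub, hes, RingEquiv.symm_apply_apply] at h4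
    rw [← neg_sub]
    exact neg_mem h4
  refine ⟨fun m' => ⟨WedgeB.dvr_localization A hdim m', ?_⟩, ?_⟩
  · exact WedgeB.residue_surj m' (key m')
  · rintro a' ⟨a, ha⟩
    have hc : ∀ n' : MaximalSpectrum (CAlg2.normRed A),
        e (a' - algebraMap A ↥(integralClosure A (FractionRing A)) a) ∈ n'.asIdeal := by
      intro n'
      haveI := n'.isMaximal
      let m'' : MaximalSpectrum ↥(integralClosure A (FractionRing A)) :=
        ⟨Ideal.comap e n'.asIdeal, Ideal.comap_isMaximal_of_surjective _ e.surjective⟩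
      exact ha m''
    obtain ⟨a₁, ha₁⟩ := hJ _ hc
    refine ⟨a₁ + a, ?_⟩
    have h5 : e (algebraMap A ↥(integralClosure A (FractionRing A)) a₁) =
        e (a' - algebraMap A ↥(integralClosure A (FractionRing A)) a) := by
      rw [he]
      exact ha₁
    have h6 := e.injective h5
    rw [map_add, h6]
    ring

end Groth.Agent.S12463
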