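import Groth.Statements.S12464
import Mathlib
import Groth.Agent.Lib.Helper10.OverBC

set_option autoImplicit false
universe v' u' u
open CategoryTheory AlgebraicGeometry
open BigSite

namespace Groth.Agent.S12464

section helpers

set_option backward.isDefEq.respectTransparency.types false in
/-- The base change isomorphism on big sites, for any precoverage. -/
noncomputable def bigBC (K : Precoverage Scheme.{u}) {S T S' T' : Scheme.{u}} (f : T ⟶ S)
    (g : S' ⟶ S) (g' : T' ⟶ T) (f' : T' ⟶ S') (hsq : IsPullback g' f' f g)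
    (A : Type u') [Category.{v'} A]
    [(Over.pullback f).IsContinuous (QuotSh.J K S) (QuotSh.J K T)]
    [(Over.pullback f').IsContinuous (QuotSh.J K S') (QuotSh.J K T')] :
    BigSite.pushBig K f A ⋙ BigSite.pullBig K g A ≅
      BigSite.pullBig K g' A ⋙ BigSite.pushBig K f' A := by
  haveI : (Over.pullback f' ⋙ Over.map g').IsContinuous (QuotSh.J K S') (QuotSh.J K T) :=
    Functor.isContinuous_comp (Over.pullback f') (Over.map g') (QuotSh.J K S') (QuotSh.J K T')
      (QuotSh.J K T)
  exact Functor.sheafPushforwardContinuousComp' (F := Over.map g) (G := Over.pullback f)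
    (FG := Over.pullback f' ⋙ Over.map g') (Groth.Agent.Helper10.OverBC.bcIso hsq).symm A
    (QuotSh.J K S') (QuotSh.J K S) (QuotSh.J K T)

end helpers

/-- Let g' : T' → T, f' : T' → S', f : T → S, g : S' → S be a cartesian square of schemes. Then g_big⁻¹
∘ f_big,* ≅ f'_big,* ∘ g'_big⁻¹ as functors from sheaves on Sch/T to sheaves on Sch/S', both for the
big Zariski sites and for the big étale sites. (Existence of natural isomorphisms; the published one
sends both sides to U' ↦ F(U' ×_{S'} T').) -/
theorem result {S T S' T' : Scheme.{u}} (f : T ⟶ S) (g : S' ⟶ S) (g' : T' ⟶ T) (f' : T' ⟶ S') (hsq : IsPullback g' f' f g)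
    (A : Type u') [Category.{v'} A] :
    Nonempty (BigSite.pushBig Scheme.zariskiPrecoverage f A ⋙ BigSite.pullBig Scheme.zariskiPrecoverage g A ≅
        BigSite.pullBig Scheme.zariskiPrecoverage g' A ⋙ BigSite.pushBig Scheme.zariskiPrecoverage f' A) ∧
      Nonempty (BigSite.pushBig Scheme.etalePrecoverage f A ⋙ BigSite.pullBig Scheme.etalePrecoverage g A ≅
        BigSite.pullBig Scheme.etalePrecoverage g' A ⋙ BigSite.pushBig Scheme.etalePrecoverage f' A) := by
  exact ⟨⟨bigBC _ f g g' f' hsq A⟩, ⟨bigBC _ f g g' f' hsq A⟩⟩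

end Groth.Agent.S12464
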