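import Groth.Statements.S6184
import Mathlib

set_option autoImplicit false
open CategoryTheory CategoryTheory.Limits AlgebraicGeometry Opposite
universe u
open BigSite

namespace Groth.Agent.S6184

section helpers

universe v₁ v₂ v₃ u₁ u₂ u₃

variable {C : Type u₁} [Category.{v₁} C] {D : Type u₂} [Category.{v₂} D]
  (A : Type u₃) [Category.{v₃} A]

lemma counit_aux (u' : C ⥤ D) [u'.Full] [u'.Faithful]
    [∀ F : Cᵒᵖ ⥤ A, u'.op.HasPointwiseRightKanExtension F] (P : Cᵒᵖ ⥤ A) :
    IsIso ((u'.op.ranAdjunction A).counit.app P) := by
  have i1 : u'.op.Full := inferInstance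
  have i2 : u'.op.Faithful := inferInstance
  rw [Functor.ranAdjunction_counit]
  have h : ∀ X, IsIso ((u'.op.ranCounit.app P).app X) := fun X =>
    (Functor.isPointwiseRightKanExtensionRanCounit u'.op P (u'.op.obj X)).isIso_hom_app
  exact NatIso.isIso_of_isIso_app _

theorem unit_isIso (J : GrothendieckTopology C) (K : GrothendieckTopology D) (u' : C ⥤ D)
    [u'.IsCocontinuous J K] [u'.IsContinuous J K] [u'.Full] [u'.Faithful]
    [∀ F : Cᵒᵖ ⥤ A, u'.op.HasPointwiseRightKanExtension F]
    [(u'.sheafPushforwardContinuous A J K).IsRightAdjoint]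
    (F : Sheaf J A) :
    IsIso ((u'.sheafAdjunctionContinuous A J K).unit.app F) := by
  have hc : ∀ G : Sheaf J A,
      IsIso ((u'.sheafAdjunctionCocontinuous A J K).counit.app G) := by
    intro G
    have h1 : IsIso ((sheafToPresheaf _ _).map
        ((u'.sheafAdjunctionCocontinuous A J K).counit.app G)) := by
      change IsIso ((u'.sheafAdjunctionCocontinuous A J K).counit.app G).hom
      rw [Functor.sheafAdjunctionCocontinuous_counit_app_hom]
      exact counit_aux A u' G.obj
    exact isIso_of_reflects_iso _ (sheafToPresheaf _ _)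
  let t : Adjunction.Triple (u'.sheafPullback A J K)
      (u'.sheafPushforwardContinuous A J K)
      (u'.sheafPushforwardCocontinuous A J K) :=
    ⟨u'.sheafAdjunctionContinuous _ J K, u'.sheafAdjunctionCocontinuous _ J K⟩
  have h2 : IsIso t.adj₂.counit := NatIso.isIso_of_isIso_app _
  have h3 : IsIso t.adj₁.unit := t.isIso_unit_iff_isIso_counit.2 h2
  exact inferInstanceAs (IsIso (t.adj₁.unit.app F))

end helpers

/-- Let X be a scheme, u the inclusion of the small etale site of X into the big etale site (X-schemes
with the etale topology), u_* restriction of sheaves along it and u^* its left adjoint. For every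
sheaf of sets G and every abelian sheaf G on the small etale site, the unit G -> u_* u^* G is an
isomorphism (so u^* is fully faithful). Stated for sheaves of sets (first conjunct, with Mathlib's
sheaf pullback along the inclusion) and for abelian sheaves (second conjunct, the prelude's
adjunction on the big etale site). -/
theorem result (X : Scheme.{u}) :
    (∀ G : EtDesc.Sh X, IsIso (((EtFppf.a X).sheafAdjunctionContinuous (Type (u + 1)) X.smallEtaleTopology
      (QuotSh.J Scheme.etalePrecoverage X)).unit.app G)) ∧
    (∀ G : EtCoh.Ab X, IsIso ((BigSite.piEtAdj Scheme.etalePrecoverage X).unit.app G)) := by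
  have i1 : (EtFppf.a X).Full := inferInstanceAs (Scheme.Etale.forget X).Full
  have i2 : (EtFppf.a X).Faithful := inferInstanceAs (Scheme.Etale.forget X).Faithful
  have i3 : (EtFppf.a X).IsCocontinuous X.smallEtaleTopology
      (QuotSh.J Scheme.etalePrecoverage X) := BigSite.aEtCocont_etale X
  refine ⟨fun G => ?_, fun G => ?_⟩
  · exact unit_isIso (Type (u + 1)) X.smallEtaleTopology (QuotSh.J Scheme.etalePrecoverage X)
      (EtFppf.a X) G
  · exact unit_isIso AddCommGrpCat.{u + 1} X.smallEtaleTopology
      (QuotSh.J Scheme.etalePrecoverage X) (EtFppf.a X) G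

end Groth.Agent.S6184
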