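import Groth.Statements.S6685
import Mathlib
import Groth.Agent.Lib.Helper10.LanExact
import Groth.Agent.S6638

set_option autoImplicit false
universe u
open CategoryTheory CategoryTheory.Limits AlgebraicGeometry Opposite
open BigSite

namespace Groth.Agent.S6685

section helpers

/-- `π_S⁻¹` is exact. -/
theorem piEtPull_preservesFiniteLimits (S : Scheme.{u}) :
    PreservesFiniteLimits (BigSite.piEtPull Scheme.etalePrecoverage S) := by
  have : PreservesFiniteLimits (EtFppf.a S) :=
    inferInstanceAs (PreservesFiniteLimits (Scheme.Etale.forget S))
  exact Groth.Agent.Helper10.LanExact.preservesFiniteLimits_sheafPullback_ab (EtFppf.a S) _ _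

theorem injective_resEt (S : Scheme.{u}) (I : BigSite.Ab Scheme.etalePrecoverage S) [Injective I] :
    Injective ((BigSite.resEt Scheme.etalePrecoverage S).obj I) := by
  have := piEtPull_preservesFiniteLimits S
  exact Injective.injective_of_adjoint (BigSite.piEtAdj Scheme.etalePrecoverage S) I

theorem injective_pullBig {S T : Scheme.{u}} (f : T ⟶ S)
    (I : BigSite.Ab Scheme.etalePrecoverage S) [Injective I] :
    Injective ((BigSite.pullBig Scheme.etalePrecoverage f AddCommGrpCat.{u + 1}).obj I) := by
  have : PreservesFiniteLimits (BigSite.shriekAb Scheme.etalePrecoverage f) :=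
    Groth.Agent.S6638.result f _ (Or.inr (Or.inl rfl))
  exact Injective.injective_of_adjoint (BigSite.shriekAbAdj Scheme.etalePrecoverage f) I

end helpers

/-- Let S be a scheme, I an injective abelian sheaf on the big etale site of S and f : T → S a scheme
over S. Then (b) the restriction I|_{S_et} of I to the small etale site of S is injective, and (a)
the restriction i_f⁻¹ I of I to the small etale site of T (sections over an etale U → T are the
sections of I over U → S) is injective. -/
theorem result (S : Scheme.{u}) (I : BigSite.Ab Scheme.etalePrecoverage S) [Injective I]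
    {T : Scheme.{u}} (f : T ⟶ S) :
    Injective ((BigSite.resEt Scheme.etalePrecoverage S).obj I) ∧
      Injective ((BigSite.resEtAlong Scheme.etalePrecoverage f).obj I) := by
  refine ⟨injective_resEt S I, ?_⟩
  have := injective_pullBig f I
  exact injective_resEt T _

end Groth.Agent.S6685
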