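import Groth.Statements.S6185
import Mathlib
import Groth.Agent.Lib.Helper10.ExtAdj
import Groth.Agent.S6685

set_option autoImplicit false
open CategoryTheory CategoryTheory.Limits AlgebraicGeometry Opposite
universe u
open BigSite

namespace Groth.Agent.S6185

section helpers

variable (X : Scheme.{u})

/-- Global sections on the big étale site. -/
noncomputable abbrev bigGsec : BigSite.Ab Scheme.etalePrecoverage X ⥤ AddCommGrpCat.{u + 1} :=
  (sheafSections (QuotSh.J Scheme.etalePrecoverage X) AddCommGrpCat.{u + 1}).obj
    (op (Over.mk (𝟙 X)))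

/-- The constant sheaf adjunction on the big étale site. -/
noncomputable abbrev bigConstAdj :
    constantSheaf (QuotSh.J Scheme.etalePrecoverage X) AddCommGrpCat.{u + 1} ⊣ bigGsec X :=
  constantSheafAdj (QuotSh.J Scheme.etalePrecoverage X) AddCommGrpCat.{u + 1} Over.mkIdTerminal

/-- X itself is a terminal object of its small etale site. -/
noncomputable def topIsTerminal : IsTerminal (EtCoh.top X) :=
  IsTerminal.isTerminalOfObj (Scheme.Etale.forget X) (EtCoh.top X) Over.mkIdTerminal

/-- Global sections functor on abelian etale sheaves. -/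
noncomputable abbrev gsec : EtCoh.Ab X ⥤ AddCommGrpCat.{u+1} :=
  (sheafSections X.smallEtaleTopology AddCommGrpCat.{u+1}).obj (op (EtCoh.top X))

/-- The constant-sheaf functor is left adjoint to global sections. -/
noncomputable abbrev constAdj :
    constantSheaf X.smallEtaleTopology AddCommGrpCat.{u+1} ⊣ gsec X :=
  constantSheafAdj X.smallEtaleTopology AddCommGrpCat.{u+1} (topIsTerminal X)

/-- Restriction followed by global sections is global sections. -/
noncomputable def resGsecIso :
    BigSite.resEt Scheme.etalePrecoverage X ⋙ gsec X ≅ bigGsec X :=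
  NatIso.ofComponents (fun F => Iso.refl _) (fun {F G} φ => by
    simp only [Iso.refl_hom, Category.comp_id, Category.id_comp]
    rfl)

/-- `π⁻¹` of a constant sheaf is constant. -/
noncomputable def piConstIso :
    constantSheaf X.smallEtaleTopology AddCommGrpCat.{u + 1} ⋙
        BigSite.piEtPull Scheme.etalePrecoverage X ≅
      constantSheaf (QuotSh.J Scheme.etalePrecoverage X) AddCommGrpCat.{u + 1} :=
  Adjunction.leftAdjointUniq
    (((constAdj X).comp (BigSite.piEtAdj Scheme.etalePrecoverage X)).ofNatIsoRight
      (resGsecIso X)) (bigConstAdj X)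

theorem resEt_exact :
    PreservesFiniteLimits (BigSite.resEt Scheme.etalePrecoverage X) ∧
      PreservesFiniteColimits (BigSite.resEt Scheme.etalePrecoverage X) := by
  have h1 : PreservesLimitsOfSize.{0, 0} (BigSite.resEt Scheme.etalePrecoverage X) :=
    (BigSite.piEtAdj Scheme.etalePrecoverage X).rightAdjoint_preservesLimits
  have h2 : PreservesColimitsOfSize.{0, 0} (BigSite.resEt Scheme.etalePrecoverage X) :=
    (BigSite.iEtAdj Scheme.etalePrecoverage X).leftAdjoint_preservesColimits
  exact ⟨PreservesLimitsOfSize.preservesFiniteLimits _,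
    PreservesColimitsOfSize.preservesFiniteColimits _⟩

theorem piEtPull_exact :
    PreservesFiniteLimits (BigSite.piEtPull Scheme.etalePrecoverage X) ∧
      PreservesFiniteColimits (BigSite.piEtPull Scheme.etalePrecoverage X) := by
  have h2 : PreservesColimitsOfSize.{0, 0} (BigSite.piEtPull Scheme.etalePrecoverage X) :=
    (BigSite.piEtAdj Scheme.etalePrecoverage X).leftAdjoint_preservesColimits
  exact ⟨Groth.Agent.S6685.piEtPull_preservesFiniteLimits X,
    PreservesColimitsOfSize.preservesFiniteColimits _⟩

/-- The Ext-adjunction for `π⁻¹ ⊣ π_*`. -/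
noncomputable def extEquiv (A : EtCoh.Ab X) (F : BigSite.Ab Scheme.etalePrecoverage X) (p : ℕ) :
    Abelian.Ext.{u + 1} ((BigSite.piEtPull Scheme.etalePrecoverage X).obj A) F p ≃+
      Abelian.Ext.{u + 1} A ((BigSite.resEt Scheme.etalePrecoverage X).obj F) p := by
  have := (resEt_exact X).1
  have := (resEt_exact X).2
  have := (piEtPull_exact X).1
  have := (piEtPull_exact X).2
  have : (BigSite.piEtPull Scheme.etalePrecoverage X).Additive :=
    (BigSite.piEtAdj Scheme.etalePrecoverage X).left_adjoint_additive
  exact Groth.Agent.Helper10.ExtAdj.extAdjEquiv (BigSite.piEtAdj Scheme.etalePrecoverage X) A F p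

end helpers

/-- For a scheme X and an abelian sheaf F on the big etale site of X, the cohomology groups H^p(X_et,
F|) of the restriction of F to the small etale site and H^p of F on the big etale site are
isomorphic for every p. Existence of an additive isomorphism only (the published statement asserts
that the canonical comparison homomorphism is an isomorphism; that map is not named here). -/
theorem result (X : Scheme.{u})
    (F : BigSite.Ab Scheme.etalePrecoverage X) (p : ℕ) :
    Nonempty (EtCoh.H X ((BigSite.resEt Scheme.etalePrecoverage X).obj F) p ≃+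
      BigSite.H Scheme.etalePrecoverage X F p) := by
  refine ⟨((extEquiv X _ F p).symm).trans ?_⟩
  exact (Groth.Agent.Helper10.ExtAdj.extCongrLeft
    ((piConstIso X).app (AddCommGrpCat.of (ULift.{u + 1} ℤ))) F p).symm

end Groth.Agent.S6185
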