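import Groth.Statements.S6687
import Mathlib
import Groth.Agent.Lib.Helper10.ExtAdj
import Groth.Agent.S6185
import Groth.Agent.S6184

set_option autoImplicit false
universe u
open CategoryTheory CategoryTheory.Limits AlgebraicGeometry Opposite
open BigSite

namespace Groth.Agent.S6687

section helpers

variable {T S : Scheme.{u}} (f : T ⟶ S)

/-- Base change of small étale sites followed by the inclusion into the big site is the inclusion
followed by base change of big sites. -/
noncomputable def bcForgetIso :
    EtFppf.a S ⋙ Over.pullback f ≅ EtCoh.bc f ⋙ EtFppf.a T :=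
  (MorphismProperty.Over.pullbackCompForgetIso (P := EtCoh.etaleMP) (Q := ⊤) f).symm

set_option backward.isDefEq.respectTransparency.types false in
/-- `π_{S,*} f_{big,*} ≅ f_{small,*} π_{T,*}`. -/
noncomputable def pushResIso :
    BigSite.pushBig Scheme.etalePrecoverage f AddCommGrpCat.{u + 1} ⋙
        BigSite.resEt Scheme.etalePrecoverage S ≅
      BigSite.resEt Scheme.etalePrecoverage T ⋙ EtCoh.push f := by
  haveI : (EtCoh.bc f ⋙ EtFppf.a T).IsContinuous S.smallEtaleTopology
      (QuotSh.J Scheme.etalePrecoverage T) :=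
    Functor.isContinuous_comp (EtCoh.bc f) (EtFppf.a T) S.smallEtaleTopology
      T.smallEtaleTopology (QuotSh.J Scheme.etalePrecoverage T)
  exact Functor.sheafPushforwardContinuousComp' (F := EtFppf.a S) (G := Over.pullback f)
    (FG := EtCoh.bc f ⋙ EtFppf.a T) (bcForgetIso f) AddCommGrpCat.{u + 1}
    S.smallEtaleTopology (QuotSh.J Scheme.etalePrecoverage S)
    (QuotSh.J Scheme.etalePrecoverage T)

/-- `f_big⁻¹ π_S⁻¹ ≅ π_T⁻¹ f_small⁻¹`. -/
noncomputable def pullPiIso :
    BigSite.piEtPull Scheme.etalePrecoverage S ⋙
        BigSite.pullBig Scheme.etalePrecoverage f AddCommGrpCat.{u + 1} ≅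
      EtCoh.pull f ⋙ BigSite.piEtPull Scheme.etalePrecoverage T :=
  Adjunction.leftAdjointUniq
    ((BigSite.piEtAdj Scheme.etalePrecoverage S).comp
      (BigSite.bigAdj Scheme.etalePrecoverage f AddCommGrpCat.{u + 1}))
    (((EtCoh.pullPushAdj f).comp (BigSite.piEtAdj Scheme.etalePrecoverage T)).ofNatIsoRight
      (pushResIso f).symm)

end helpers

/-- Let f : T → S be a morphism of schemes, F an abelian sheaf on the small etale site of S and n ≥ 0.
Write π_S⁻¹ F for the pullback of F to the big etale site of S. Then the cohomology of π_S⁻¹ F over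
the object (T → S) of the big site is isomorphic to H^n(T_et, f⁻¹ F). (Existence of an isomorphism
of abelian groups only; the published statement identifies the two through the restriction of π_S⁻¹
F to the small etale site of T, which is f⁻¹ F.) -/
theorem result {T S : Scheme.{u}} (f : T ⟶ S) (n : ℕ) (F : EtCoh.Ab S) :
    Nonempty (BigSite.HU Scheme.etalePrecoverage ((BigSite.piEtPull Scheme.etalePrecoverage S).obj F) n (Over.mk f) ≃+
      EtCoh.H T ((EtCoh.pull f).obj F) n) := by
  have hu := (Groth.Agent.S6184.result T).2 ((EtCoh.pull f).obj F)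
  let ℤ' := AddCommGrpCat.of (ULift.{u + 1} ℤ)
  -- step 1: replace the coefficient sheaf
  refine ⟨(Groth.Agent.Helper10.ExtAdj.extCongrRight _ ((pullPiIso f).app F) n).trans ?_⟩
  -- step 2: replace the constant sheaf
  refine (Groth.Agent.Helper10.ExtAdj.extCongrLeft
    ((Groth.Agent.S6185.piConstIso T).app ℤ') _ n).trans ?_
  -- step 3: adjunction
  refine (Groth.Agent.S6185.extEquiv T _ _ n).trans ?_
  -- step 4: unit isomorphism
  exact (Groth.Agent.Helper10.ExtAdj.extCongrRight _
    (asIso ((BigSite.piEtAdj Scheme.etalePrecoverage T).unit.app ((EtCoh.pull f).obj F))) n).symm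

end Groth.Agent.S6687
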