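import Groth.Statements.S12465
import Mathlib
import Groth.Agent.S12464
import Groth.Agent.S6687

set_option autoImplicit false
universe u
open CategoryTheory AlgebraicGeometry
open BigSite

namespace Groth.Agent.S12465

section helpers

/-- `i_g⁻¹ f_{big,*} ≅ f'_{small,*} i_{g'}⁻¹`. -/
noncomputable def resAlongBC {S T S' T' : Scheme.{u}} (f : T ⟶ S) (g : S' ⟶ S) (g' : T' ⟶ T)
    (f' : T' ⟶ S') (hsq : IsPullback g' f' f g) :
    BigSite.pushBig Scheme.etalePrecoverage f AddCommGrpCat.{u + 1} ⋙
        BigSite.resEtAlong Scheme.etalePrecoverage g ≅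
      BigSite.resEtAlong Scheme.etalePrecoverage g' ⋙ EtCoh.push f' :=
  (Functor.associator _ _ _).symm ≪≫
    Functor.isoWhiskerRight
      (Groth.Agent.S12464.bigBC Scheme.etalePrecoverage f g g' f' hsq AddCommGrpCat.{u + 1})
      (BigSite.resEt Scheme.etalePrecoverage S') ≪≫
    Functor.associator _ _ _ ≪≫
    Functor.isoWhiskerLeft (BigSite.pullBig Scheme.etalePrecoverage g' AddCommGrpCat.{u + 1})
      (Groth.Agent.S6687.pushResIso f') ≪≫
    (Functor.associator _ _ _).symm

end helpers

/-- On the big étale sites, for a cartesian square g' : T' → T, f' : T' → S', f : T → S, g : S' → S of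
schemes, i_g⁻¹ ∘ f_big,* ≅ f'_small,* ∘ i_{g'}⁻¹ as functors from abelian sheaves on (Sch/T)_ét to
abelian sheaves on the small étale site of S'. (Existence of a natural isomorphism; both sides send
F to U' ↦ F(U' ×_{S'} T'). The binder BCCont f' holds for every morphism.) -/
theorem result {S T S' T' : Scheme.{u}} (f : T ⟶ S) (g : S' ⟶ S) (g' : T' ⟶ T)
    (f' : T' ⟶ S') (hsq : IsPullback g' f' f g) [EtCoh.BCCont f'] :
    Nonempty (BigSite.pushBig Scheme.etalePrecoverage f AddCommGrpCat.{u + 1} ⋙
        BigSite.resEtAlong Scheme.etalePrecoverage g ≅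
      BigSite.resEtAlong Scheme.etalePrecoverage g' ⋙ EtCoh.push f') := by
  exact ⟨resAlongBC f g g' f' hsq⟩

end Groth.Agent.S12465
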