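import Groth.Statements.S1248
-- import your own Groth.Agent.* helpers here
import Mathlib
import Groth.Agent.S1246
import Groth.Agent.Lib.Helper27.Pu10
import Groth.Agent.Lib.Helper27.Pu11
import Groth.Agent.Lib.Helper27.Pu13

set_option autoImplicit false
universe u
open FlatMor

namespace Groth.Agent.S1248

open IsLocalRing Groth.Agent.Helper27.Pu in
theorem main_aux {A B : Type u} [CommRing A] [CommRing B] [Algebra A B] [Algebra.FiniteType A B]
    (N : Type u) [AddCommGroup N] [Module B N] [Module.Finite B N] (p : Ideal A) [p.IsPrime]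
    (h : FlatCA.HasImpurity A B N p (fun A' _ _ t => ∃ (_ : IsLocalRing A') (_ : Algebra (Localization.AtPrime p) A')
        (_ : IsScalarTower A (Localization.AtPrime p) A') (_ : IsLocalHom (algebraMap (Localization.AtPrime p) A')),
        Hensel.IsHenselization (Localization.AtPrime p) A' ∧ t = maximalIdeal A')) :
    FlatCA.HasImpurity A B N p (fun A' _ _ t => ∃ _ : t.IsPrime, FlatCA.IsEtaleNhd A A' p t) := by
  classical
  obtain ⟨A', B', N', iA', iB', algAA', algBB', algA'B', algAB', tABB', tAA'B', acgN', modB'N',
    modBN', tBB'N', modA'N', tA'B'N', f, t', t, ht', ht, P, hP, himp,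
    ⟨hloc, algRA', tARA', hlh, hhens, htm⟩⟩ := h
  obtain ⟨s, l, hs, hlt, hPs⟩ := exists_witness A' B' himp.1 t P himp.2.2.2.2.2.2
  let F₀ : Finset A' := insert s l.support
  obtain ⟨E, iE, algRE, hEt, φ, hφ⟩ := exists_stage_finset (Localization.AtPrime p) A' F₀
  haveI := hEt
  letI algAE : Algebra A E := ((algebraMap (Localization.AtPrime p) E).comp
    (algebraMap A (Localization.AtPrime p))).toAlgebra
  haveI tARE : IsScalarTower A (Localization.AtPrime p) E :=
    IsScalarTower.of_algebraMap_eq (fun _ => rfl)
  have hex : ∀ a : A', ∃ x : E, a ∈ F₀ → φ x = a := by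
    intro a
    by_cases ha : a ∈ F₀
    · obtain ⟨x, hx⟩ := hφ a ha
      exact ⟨x, fun _ => hx⟩
    · exact ⟨0, fun h => absurd h ha⟩
  choose sel₀ hsel₀ using hex
  haveI h𝔮 : (t.comap φ.toRingHom).IsPrime := Ideal.comap_isPrime _ _
  obtain ⟨G, hGfg, hGF, hT₁p, hqf⟩ :=
    exists_ft_quasiFinite p E (t.comap φ.toRingHom) (F₀.image sel₀)
  have hφA : ∀ a : A, φ (algebraMap A E a) = algebraMap A A' a := by
    intro a
    rw [IsScalarTower.algebraMap_apply A (Localization.AtPrime p) E, φ.commutes,
      ← IsScalarTower.algebraMap_apply A (Localization.AtPrime p) A']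
  letI algGA' : Algebra G A' := (φ.toRingHom.comp (algebraMap G E)).toAlgebra
  haveI tAGA' : IsScalarTower A G A' := IsScalarTower.of_algebraMap_eq (fun a => by
    show algebraMap A A' a = φ (algebraMap G E (algebraMap A G a))
    rw [← IsScalarTower.algebraMap_apply A G E, hφA])
  have hselmem : ∀ a ∈ F₀, sel₀ a ∈ G := fun a ha => hGF _ (Finset.mem_image_of_mem _ ha)
  let sel : A' → G := fun a => if h : a ∈ F₀ then ⟨sel₀ a, hselmem a h⟩ else 0
  have hsel : ∀ a ∈ F₀, algebraMap G A' (sel a) = a := by
    intro a ha
    show φ (algebraMap G E (sel a)) = a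
    simp only [sel, dif_pos ha]
    exact hsel₀ a ha
  have hsF : s ∈ F₀ := Finset.mem_insert_self _ _
  have hsi : algebraMap G A' (sel s) ∉ t := by
    rw [hsel s hsF]
    exact hs
  haveI hti : (t.comap (algebraMap G A')).IsPrime := Ideal.comap_isPrime _ _
  haveI htio : (t.comap (algebraMap G A')).LiesOver p := by
    have htp := himp.2.2.2.1
    refine ⟨?_⟩
    rw [htp.over]
    ext a
    simp only [Ideal.under_def, Ideal.mem_comap]
    rw [← IsScalarTower.algebraMap_apply A G A']
  haveI hft : Algebra.FiniteType A G := (Subalgebra.fg_iff_finiteType G).mp hGfg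
  have hqf' : Algebra.QuasiFiniteAt A (t.comap (algebraMap G A')) := hqf
  have h2 : FlatCA.HasImpurity A B N p (fun A' _ _ t => ∃ _ : t.IsPrime,
      Algebra.FiniteType A A' ∧ Algebra.QuasiFiniteAt A t) :=
    stage_impurity' N p G A' B' N' f t' t P himp (sel s) l sel hsi
      (fun a ha => ⟨hlt a ha, hsel a (Finset.mem_insert_of_mem ha)⟩)
      (by rw [hsel s hsF]; exact hPs) (t.comap (algebraMap G A')) le_rfl hsi _
      ⟨hti, hft, hqf'⟩
  exact Groth.Agent.S1246.result N p h2


open IsLocalRing in
/-- Ring form, X = Spec B affine: let B be a finite type A-algebra, N a finite B-module and p a prime of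
A. If there is an impurity of N above p whose base change ring A' is a henselization of the local
ring A_p (compatibly with A → A_p) and whose point t is the maximal ideal, then there is an impurity
of N above p for which (A', t) is an elementary étale ring map at p. -/
theorem result {A B : Type u} [CommRing A] [CommRing B] [Algebra A B] [Algebra.FiniteType A B]
    (N : Type u) [AddCommGroup N] [Module B N] [Module.Finite B N] (p : Ideal A) [p.IsPrime]
    (h : FlatCA.HasImpurity A B N p (fun A' _ _ t => ∃ (_ : IsLocalRing A') (_ : Algebra (Localization.AtPrime p) A')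
        (_ : IsScalarTower A (Localization.AtPrime p) A') (_ : IsLocalHom (algebraMap (Localization.AtPrime p) A')),
        Hensel.IsHenselization (Localization.AtPrime p) A' ∧ t = maximalIdeal A')) :
    FlatCA.HasImpurity A B N p (fun A' _ _ t => ∃ _ : t.IsPrime, FlatCA.IsEtaleNhd A A' p t) := by
  exact main_aux N p h

end Groth.Agent.S1248
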