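import Mathlib
import Groth.Statements.S12482
import Groth.Agent.Lib.Helper6.QReg
-- import your own Groth.Agent.* helpers here

set_option autoImplicit false
universe u
open Dual

namespace Groth.Agent.S12482

/-- Let `A` be a commutative ring, `x_1, …, x_p` a sequence of elements of `A` such that each `x_i` is a
non-zero-divisor on `A/(x_1, …, x_{i-1})`, and `J` the ideal generated by the `x_i`. Then `J/J²` is
a free `(A/J)`-module with basis the classes of the `x_i`: there is a basis of `J/J²` over `A/J`,
indexed by `1, …, p`, whose `i`-th vector is the class of `x_i`. (The other assertions of the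
published statement, on the Koszul complex and on Ext and Tor against `A/J`, are stated separately.) -/
theorem result (A : Type u) [CommRing A] (p : ℕ) (x : Fin p → A)
    (hreg : RingTheory.Sequence.IsWeaklyRegular A (List.ofFn x)) :
    ∃ b : Module.Basis (Fin p) (A ⧸ Ideal.span (Set.range x)) (Ideal.span (Set.range x)).Cotangent,
      ∀ i, b i = (Ideal.span (Set.range x)).toCotangent ⟨x i, Ideal.subset_span (Set.mem_range_self i)⟩ := by
  set J := Ideal.span (Set.range x) with hJ
  have hq := Groth.Agent.Helper6.QReg.qrat_of_isWeaklyRegular p x hreg 1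
  let v : Fin p → J.Cotangent := fun i => J.toCotangent ⟨x i, Ideal.subset_span (Set.mem_range_self i)⟩
  have hsm : ∀ (a : A) (m : J.Cotangent), (Ideal.Quotient.mk J a) • m = a • m := by
    intro a m
    exact algebraMap_smul (A ⧸ J) a m
  have hli : LinearIndependent (A ⧸ J) v := by
    rw [Fintype.linearIndependent_iff]
    intro g hg i
    choose a ha using fun i => Ideal.Quotient.mk_surjective (g i)
    have h1 : ∑ i, g i • v i = J.toCotangent (∑ i, a i • ⟨x i, Ideal.subset_span (Set.mem_range_self i)⟩) := by
      rw [map_sum]
      refine Finset.sum_congr rfl fun i _ => ?_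
      rw [← ha i, hsm, map_smul]
    rw [h1, Ideal.toCotangent_eq_zero] at hg
    let P : MvPolynomial (Fin p) A := ∑ i, MvPolynomial.C (a i) * MvPolynomial.X i
    have hP : P.IsHomogeneous 1 := by
      refine MvPolynomial.IsHomogeneous.sum _ _ _ fun i _ => ?_
      have := (MvPolynomial.isHomogeneous_C (Fin p) (a i)).mul (MvPolynomial.isHomogeneous_X A i)
      simpa using this
    have hev : MvPolynomial.eval x P ∈ J ^ (1 + 1) := by
      have : MvPolynomial.eval x P = ((∑ i, a i • ⟨x i, Ideal.subset_span (Set.mem_range_self i)⟩ : J) : A) := by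
        simp [P]
      rw [this]
      exact hg
    have hmem := hq P hP hev
    rw [MvPolynomial.mem_map_C_iff] at hmem
    have hc := hmem (Finsupp.single i 1)
    have hcoeff : MvPolynomial.coeff (Finsupp.single i 1) P = a i := by
      simp only [P, MvPolynomial.coeff_sum, MvPolynomial.coeff_C_mul, MvPolynomial.coeff_X']
      rw [Finset.sum_eq_single i]
      · simp
      · intro j _ hji
        rw [if_neg, mul_zero]
        intro h
        apply hji
        have := Finsupp.single_left_inj (one_ne_zero) |>.1 h
        exact this
      · simp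
    rw [hcoeff] at hc
    rw [← ha i]
    exact Ideal.Quotient.eq_zero_iff_mem.2 hc
  have hsp : ⊤ ≤ Submodule.span (A ⧸ J) (Set.range v) := by
    intro m _
    obtain ⟨y, rfl⟩ := J.toCotangent_surjective m
    obtain ⟨c, hc⟩ := (Ideal.mem_span_range_iff_exists_fun).1 y.2
    have : y = ∑ i, c i • (⟨x i, Ideal.subset_span (Set.mem_range_self i)⟩ : J) := by
      ext
      simp [← hc]
    rw [this, map_sum]
    refine Submodule.sum_mem _ fun i _ => ?_
    rw [map_smul, ← hsm]
    exact Submodule.smul_mem _ _ (Submodule.subset_span ⟨i, rfl⟩)
  refine ⟨Module.Basis.mk hli hsp, fun i => ?_⟩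
  rw [Module.Basis.mk_apply]

end Groth.Agent.S12482
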