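import Groth.Statements.S12483
import Mathlib
import Groth.Agent.Lib.Helper29.SHomC
import Groth.Agent.Lib.Helper29.ExtAdj
import Groth.Agent.Lib.Helper29.ExtUnit
import Groth.Agent.Lib.Helper29.OpenShriek

set_option autoImplicit false
universe u
open CategoryTheory CategoryTheory.Limits AlgebraicGeometry
open Coherent

namespace Groth.Agent.S12483

/-- Let `X` be a scheme, `A` an `O_X`-module which is finite locally free (every point has an open
neighbourhood over which `A` is isomorphic to some `O^n`) and for which the internal Hom functor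
`Hom_{O_X}(A, -)` exists (right adjoint of `A ⊗ -`), `B` any `O_X`-module and `p ≥ 0`. Then
`Ext^p_{O_X}(X; A, B)`, the Ext group computed in the category of `O_X`-modules, is isomorphic to
`H^p(X, Hom_{O_X}(A, B))`. (Existence of an isomorphism of abelian groups only; the published
isomorphisms are canonical, the edge maps of the local-to-global spectral sequence for Ext. The
published statement is for an arbitrary ringed space; this row is the case of a scheme.) -/
theorem result (X : Scheme.{u}) [HasExt.{u} X.Modules]
    (A B : X.Modules) (hA : FlatMod.IsFinLocFree A) [DCoh.HasSheafHom A] (p : ℕ) :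
    Nonempty (Abelian.Ext A B p ≃+ Coh.HH X ((DCoh.sheafHom A).obj B) p) := by
  open Groth.Agent.Helper29.SHomA Groth.Agent.Helper29.SHomC Groth.Agent.Helper13.TensorFunctor
    Groth.Agent.Helper13.DualFinLocFree in
  obtain ⟨h1, h2⟩ := exact_tensorRight A (flat_stalk A hA)
  obtain ⟨h3, h4⟩ := exact_homFun A hA
  have e0 : Abelian.Ext A B p ≃+
      Abelian.Ext (CohB1.tensorMod (Coh.structureModule X) A) B p :=
    Groth.Agent.Helper29.ExtAdj.extAddEquivLeft (Groth.Agent.Helper13.Tensor.lid A).symm B p
  obtain ⟨e1⟩ := Groth.Agent.Helper29.ExtAdj.nonempty_ext_addEquiv.{u, u} (adj A)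
    (Coh.structureModule X) B p
  haveI : EnoughInjectives (ModSite.Mod X.sheaf) :=
    inferInstanceAs (EnoughInjectives X.Modules)
  haveI : HasExt.{u} (ModSite.Mod X.sheaf) := ‹HasExt.{u} X.Modules›
  obtain ⟨e2⟩ := Groth.Agent.Helper29.ExtUnit.nonempty_ext_unit X.sheaf (RefHull.homSh A B) p
  have i3 : RefHull.homSh A B ≅ (DCoh.sheafHom A).obj B := ((dSheafHomIso A).app B).symm
  have e3 : Coh.HH X (RefHull.homSh A B) p ≃+ Coh.HH X ((DCoh.sheafHom A).obj B) p :=
    Groth.Agent.Helper29.ExtAdj.extAddEquivRight _
      ((SheafOfModules.toSheaf X.ringCatSheaf).mapIso i3) p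
  exact ⟨e0.trans (e1.trans (e2.trans e3))⟩


end Groth.Agent.S12483
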