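import Groth.Statements.S12491
import Mathlib
import Groth.Agent.Lib.Lead.Hom10
import Groth.Agent.Lib.Helper5.SyzFree

set_option autoImplicit false
universe u
open VBPn

namespace Groth.Agent.S12491

/-- Let A be a regular local ring, k ≥ 0, and N_0, N_1, … A-modules with N_0 finitely generated and N_1,
…, N_k finitely generated and free, with linear maps d_i : N_i → N_{i+1} such that d_0 is injective
and the sequence 0 → N_0 → N_1 → ⋯ → N_k is exact. Then for every prime ideal p of A of height at
most k the localization of N_0 at p is a free module over A_p. The published statement is for a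
coherent analytic sheaf on a complex manifold that is locally a k-th syzygy sheaf and says its set
of non-free stalks has codimension greater than k; this row is the statement at one stalk, over any
regular local ring. -/
theorem result (A : Type u) [CommRing A] [IsRegularLocalRing A]
    (k : ℕ) (N : ℕ → Type u) [∀ i, AddCommGroup (N i)] [∀ i, Module A (N i)] [Module.Finite A (N 0)]
    (hfree : ∀ i, 1 ≤ i → i ≤ k → Module.Free A (N i) ∧ Module.Finite A (N i))
    (d : ∀ i, N i →ₗ[A] N (i + 1)) (hinj : Function.Injective (d 0))
    (hex : ∀ i, i + 1 < k → LinearMap.range (d i) = LinearMap.ker (d (i + 1)))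
    (p : Ideal A) [p.IsPrime] (hp : p.height ≤ k) :
    Module.Free (Localization.AtPrime p) (LocalizedModule p.primeCompl (N 0)) := by
  classical
  haveI : IsRegularLocalRing (Localization.AtPrime p) :=
    Groth.Agent.Lead.Hom.isRegularLocalRing_localization p
  have hdim : ringKrullDim (Localization.AtPrime p) = p.height :=
    IsLocalization.AtPrime.ringKrullDim_eq_height p (Localization.AtPrime p)
  obtain ⟨e, he⟩ : ∃ e : ℕ, p.height = e := by
    have : p.height ≠ ⊤ := ne_top_of_le_ne_top (ENat.coe_ne_top k) hp
    exact ⟨p.height.toNat, (ENat.coe_toNat this).symm⟩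
  have hek : e ≤ k := by rw [he] at hp; exact_mod_cast hp
  have hgl : ∀ X : ModuleCat.{u} (Localization.AtPrime p),
      CategoryTheory.HasProjectiveDimensionLT X (k + 1) := fun X => by
    haveI := Groth.Agent.Lead.Hom.hasProjectiveDimensionLT_of_isRegularLocalRing (d := e)
      (by rw [hdim, he]; rfl) X
    exact CategoryTheory.hasProjectiveDimensionLT_of_ge X (e + 1) (k + 1) (by omega)
  -- the localized sequence
  let d' : ∀ i, LocalizedModule p.primeCompl (N i) →ₗ[Localization.AtPrime p]
      LocalizedModule p.primeCompl (N (i + 1)) := fun i =>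
    IsLocalizedModule.mapExtendScalars p.primeCompl
      (LocalizedModule.mkLinearMap p.primeCompl (N i))
      (LocalizedModule.mkLinearMap p.primeCompl (N (i + 1))) (Localization.AtPrime p) (d i)
  have hd' : ∀ i (x : LocalizedModule p.primeCompl (N i)), d' i x =
      IsLocalizedModule.map p.primeCompl (LocalizedModule.mkLinearMap p.primeCompl (N i))
      (LocalizedModule.mkLinearMap p.primeCompl (N (i + 1))) (d i) x := fun i x => rfl
  have hinj' : Function.Injective (d' 0) := by
    have := IsLocalizedModule.map_injective p.primeCompl
      (LocalizedModule.mkLinearMap p.primeCompl (N 0))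
      (LocalizedModule.mkLinearMap p.primeCompl (N (0 + 1))) (d 0) hinj
    intro x y hxy
    exact this hxy
  have hex' : ∀ i, i + 1 < k → LinearMap.range (d' i) = LinearMap.ker (d' (i + 1)) := by
    intro i hi
    have h1 : Function.Exact (d i) (d (i + 1)) := by
      rw [LinearMap.exact_iff]
      exact (hex i hi).symm
    have h2 := IsLocalizedModule.map_exact p.primeCompl
      (LocalizedModule.mkLinearMap p.primeCompl (N i))
      (LocalizedModule.mkLinearMap p.primeCompl (N (i + 1)))
      (LocalizedModule.mkLinearMap p.primeCompl (N (i + 1 + 1))) (d i) (d (i + 1)) h1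
    ext x
    rw [LinearMap.mem_ker, LinearMap.mem_range]
    constructor
    · rintro ⟨y, rfl⟩
      rw [hd', hd']
      exact (h2 _).2 ⟨y, rfl⟩
    · intro hx
      rw [hd'] at hx
      obtain ⟨y, hy⟩ := (h2 x).1 hx
      exact ⟨y, hy⟩
  have hproj' : ∀ i, 1 ≤ i → i ≤ k →
      Module.Projective (Localization.AtPrime p) (LocalizedModule p.primeCompl (N i)) := by
    intro i h1 h2
    haveI := (hfree i h1 h2).1
    haveI : Module.Free (Localization.AtPrime p) (LocalizedModule p.primeCompl (N i)) :=
      Module.free_of_isLocalizedModule p.primeCompl
        (LocalizedModule.mkLinearMap p.primeCompl (N i))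
    infer_instance
  -- `N 0` localized is projective
  have hP : CategoryTheory.HasProjectiveDimensionLT
      (ModuleCat.of (Localization.AtPrime p) (LocalizedModule p.primeCompl (N 0))) 1 := by
    rcases Nat.eq_zero_or_pos k with hk | hk
    · have := hgl (ModuleCat.of (Localization.AtPrime p) (LocalizedModule p.primeCompl (N 0)))
      rw [hk] at this
      exact this
    · obtain ⟨n, rfl⟩ : ∃ n, k = n + 1 := ⟨k - 1, by omega⟩
      refine Groth.Agent.Helper5.SyzFree.pd_syzygy
        (fun i => LocalizedModule p.primeCompl (N i)) d' hinj' n hproj'
        (fun i hi => hex' i (by omega)) 1 le_rfl ?_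
      have := hgl (ModuleCat.of (Localization.AtPrime p)
        (LocalizedModule p.primeCompl (N (n + 1)) ⧸ LinearMap.range (d' n)))
      exact CategoryTheory.hasProjectiveDimensionLT_of_ge _ (n + 1 + 1) (1 + (n + 1)) (by omega)
  haveI : CategoryTheory.Projective
      (ModuleCat.of (Localization.AtPrime p) (LocalizedModule p.primeCompl (N 0))) :=
    CategoryTheory.projective_iff_hasProjectiveDimensionLT_one.mpr hP
  haveI : Module.Projective (Localization.AtPrime p) (LocalizedModule p.primeCompl (N 0)) := by
    rw [IsProjective.iff_projective]
    infer_instance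
  haveI : Module.Finite (Localization.AtPrime p) (LocalizedModule p.primeCompl (N 0)) :=
    Module.Finite.of_isLocalizedModule p.primeCompl
      (LocalizedModule.mkLinearMap p.primeCompl (N 0))
  exact Module.free_of_flat_of_isLocalRing

end Groth.Agent.S12491
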