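import Groth.Statements.S1250
-- import your own Groth.Agent.* helpers here
import Mathlib
import Groth.Agent.Lib.Helper27.DvT3
import Groth.Agent.Lib.Helper27.DvT6

set_option autoImplicit false
universe u
open FlatMor

namespace Groth.Agent.S1250

/-- Given an elementary dévissage E of N at q over p in dimension n, the following are equivalent: N_q
is flat over R; G_z is flat over R'; G_y (G viewed as a D-module) is flat over R'. Also equivalent
to each other: N becomes flat over R on some basic open D(g) ∋ q of Spec S; G becomes flat over R'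
on some basic open of Spec C containing z; G as a D-module becomes flat over R' on some basic open
of Spec D containing y. -/
theorem result {R S : Type u} [CommRing R] [CommRing S] [Algebra R S] [Algebra.FiniteType R S]
    (N : Type u) [AddCommGroup N] [Module S N] [Module R N] [IsScalarTower R S N] [Module.Finite S N]
    (p : Ideal R) [p.IsPrime] (q : Ideal S) [q.IsPrime] [q.LiesOver p] (n : ℕ) (E : FlatCA.ElemDevissage R S N p q n) :
    [FlatCA.FlatAt R q N, FlatCA.FlatAt E.R' E.z E.G, FlatCA.FlatAt E.R' E.y E.G].TFAE ∧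
    [∃ g : S, g ∉ q ∧ Module.Flat R (LocalizedModule (Submonoid.powers g) N),
     ∃ g : E.C, g ∉ E.z ∧ Module.Flat E.R' (LocalizedModule (Submonoid.powers g) E.G),
     ∃ g : E.D, g ∉ E.y ∧ Module.Flat E.R' (LocalizedModule (Submonoid.powers g) E.G)].TFAE := by
  classical
  obtain ⟨hEtR, hpp, -⟩ := E.etaleR
  obtain ⟨hEtS, hqq, -⟩ := E.etaleS
  haveI := hEtR
  haveI := hEtS
  haveI := hqq
  haveI : Module.Flat S E.S' := inferInstance
  haveI : Algebra.FinitePresentation S E.S' := inferInstance
  haveI := E.finiteDC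
  -- module structures on `G`
  letI mSG : Module S E.G := Module.compHom E.G (algebraMap S E.S')
  haveI tSS'G : IsScalarTower S E.S' E.G := IsScalarTower.of_algebraMap_smul fun _ _ => rfl
  letI mRG : Module R E.G := Module.compHom E.G (algebraMap R E.R')
  haveI tRR'G : IsScalarTower R E.R' E.G := IsScalarTower.of_algebraMap_smul fun _ _ => rfl
  haveI tR'S'G : IsScalarTower E.R' E.S' E.G := IsScalarTower.of_algebraMap_smul fun r x => by
    rw [← algebraMap_smul E.C (algebraMap E.R' E.S' r) x,
      ← IsScalarTower.algebraMap_apply E.R' E.S' E.C, algebraMap_smul]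
  haveI tRS'G : IsScalarTower R E.S' E.G := IsScalarTower.of_algebraMap_smul fun r x => by
    rw [IsScalarTower.algebraMap_apply R E.R' E.S', algebraMap_smul, algebraMap_smul]
  haveI tRSG : IsScalarTower R S E.G := IsScalarTower.of_algebraMap_smul fun r x => by
    rw [← algebraMap_smul E.S' (algebraMap R S r) x,
      ← IsScalarTower.algebraMap_apply R S E.S', algebraMap_smul]
  -- the base change map
  obtain ⟨φ, hφ⟩ : ∃ φ : N →ₗ[S] E.G, IsBaseChange E.S' φ :=
    ⟨_, IsBaseChange.comp E.isBaseChange (IsBaseChange.ofEquiv E.iso)⟩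
  have h12 : FlatCA.FlatAt R q N ↔ FlatCA.FlatAt E.R' E.z E.G := by
    unfold FlatCA.FlatAt
    exact (Groth.Agent.Helper27.Dv.flatAt_iff_of_isBaseChange R E.R' S E.S' q E.q' N E.G φ hφ).trans
      (Groth.Agent.Helper27.Dv.flatAt_surj_iff E.R' E.S' E.C E.G E.surjC E.q' E.z)
  have h32 : FlatCA.FlatAt E.R' E.y E.G ↔ FlatCA.FlatAt E.R' E.z E.G := by
    unfold FlatCA.FlatAt
    exact Groth.Agent.Helper27.Dv.flatAt_finite_unique_iff E.R' E.D E.C E.G E.y E.z E.uniq
  refine ⟨?_, ?_⟩
  · tfae_have 1 ↔ 2 := h12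
    tfae_have 3 ↔ 2 := h32
    tfae_finish
  · tfae_have 1 → 2 := by
      rintro ⟨g, hg, hfl⟩
      haveI := hfl
      refine ⟨algebraMap E.S' E.C (algebraMap S E.S' g), ?_, ?_⟩
      · intro hz
        exact hg ((Ideal.mem_of_liesOver E.q' q g).mpr
          ((Ideal.mem_of_liesOver E.z E.q' _).mpr hz))
      · exact (Groth.Agent.Helper27.Dv.flat_away_algebraMap_iff E.R' E.S' E.C E.G _).mp
          (Groth.Agent.Helper27.Dv.flat_away_baseChange R E.R' S E.S' N E.G φ hφ g)
    tfae_have 2 → 3 := by
      rintro ⟨c, hc, hfl⟩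
      haveI := hfl
      obtain ⟨w, hw, hdvd⟩ :=
        Groth.Agent.Helper27.Dv.exists_dvd_of_unique_prime E.D E.C E.y E.z E.uniq c hc
      refine ⟨w, hw, ?_⟩
      exact (Groth.Agent.Helper27.Dv.flat_away_algebraMap_iff E.R' E.D E.C E.G w).mpr
        (Groth.Agent.Helper27.Dv.flat_away_of_dvd E.R' E.C E.G c _ hdvd)
    tfae_have 3 → 1 := by
      rintro ⟨d, hd, hfl⟩
      have h1 : Module.Flat E.R'
          (LocalizedModule (Submonoid.powers (algebraMap E.D E.C d)) E.G) :=
        (Groth.Agent.Helper27.Dv.flat_away_algebraMap_iff E.R' E.D E.C E.G d).mp hfl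
      obtain ⟨s', hs'⟩ := E.surjC (algebraMap E.D E.C d)
      have hs'q : s' ∉ E.q' := by
        intro h
        apply hd
        rw [Ideal.mem_of_liesOver E.z E.y d, ← hs']
        exact (Ideal.mem_of_liesOver E.z E.q' s').mp h
      rw [← hs'] at h1
      haveI : Module.Flat E.R' (LocalizedModule (Submonoid.powers s') E.G) :=
        (Groth.Agent.Helper27.Dv.flat_away_algebraMap_iff E.R' E.S' E.C E.G s').mpr h1
      exact Groth.Agent.Helper27.Dv.exists_flat_away_of_baseChange R E.R' S E.S' N E.G φ hφ
        q E.q' s' hs'q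
    tfae_finish

end Groth.Agent.S1250
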