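import Groth.Statements.S1251
-- import your own Groth.Agent.* helpers here
import Mathlib
import Groth.Agent.Lib.Helper27.DvU3
import Groth.Agent.Lib.Helper27.DvU4

set_option autoImplicit false
universe u
open FlatMor

namespace Groth.Agent.S1251

/-- Given an elementary dévissage E of N at q over p in dimension n, with S of finite presentation over
R: the finite map D → C is of finite presentation; the following are equivalent: N_q is a finitely
presented S_q-module; G_z is a finitely presented C_z-module; G_y is a finitely presented
D_y-module. Also equivalent to each other: N is finitely presented on some basic open of Spec S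
containing q; G is finitely presented on some basic open of Spec C containing z; G as a D-module is
finitely presented on some basic open of Spec D containing y. -/
theorem result {R S : Type u} [CommRing R] [CommRing S] [Algebra R S] [Algebra.FinitePresentation R S]
    (N : Type u) [AddCommGroup N] [Module S N] [Module R N] [IsScalarTower R S N] [Module.Finite S N]
    (p : Ideal R) [p.IsPrime] (q : Ideal S) [q.IsPrime] [q.LiesOver p] (n : ℕ) (E : FlatCA.ElemDevissage R S N p q n) :
    Algebra.FinitePresentation E.D E.C ∧
    [Module.FinitePresentation (Localization.AtPrime q) (LocalizedModule q.primeCompl N),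
     Module.FinitePresentation (Localization.AtPrime E.z) (LocalizedModule E.z.primeCompl E.G),
     Module.FinitePresentation (Localization.AtPrime E.y) (LocalizedModule E.y.primeCompl E.G)].TFAE ∧
    [∃ g : S, g ∉ q ∧ Module.FinitePresentation (Localization.Away g) (LocalizedModule (Submonoid.powers g) N),
     ∃ g : E.C, g ∉ E.z ∧ Module.FinitePresentation (Localization.Away g) (LocalizedModule (Submonoid.powers g) E.G),
     ∃ g : E.D, g ∉ E.y ∧ Module.FinitePresentation (Localization.Away g) (LocalizedModule (Submonoid.powers g) E.G)].TFAE := by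
  classical
  obtain ⟨hEtR, hpp, -⟩ := E.etaleR
  obtain ⟨hEtS, hqq, -⟩ := E.etaleS
  haveI := hEtR
  haveI := hEtS
  haveI := hqq
  haveI : Module.Flat S E.S' := inferInstance
  haveI : Algebra.FinitePresentation S E.S' := inferInstance
  haveI := E.finiteDC
  haveI := E.fpC
  -- `D` is finitely presented over `R'`
  haveI hD : Algebra.FinitePresentation E.R' E.D := by
    haveI : AlgebraicGeometry.SmoothOfRelativeDimension n
        (AlgebraicGeometry.Spec.map (CommRingCat.ofHom (algebraMap E.R' E.D))) := E.smooth
    haveI : AlgebraicGeometry.Smooth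
        (AlgebraicGeometry.Spec.map (CommRingCat.ofHom (algebraMap E.R' E.D))) :=
      AlgebraicGeometry.SmoothOfRelativeDimension.smooth n _
    have h : AlgebraicGeometry.LocallyOfFinitePresentation
        (AlgebraicGeometry.Spec.map (CommRingCat.ofHom (algebraMap E.R' E.D))) := inferInstance
    rw [AlgebraicGeometry.LocallyOfFinitePresentation.SpecMap_iff] at h
    exact RingHom.finitePresentation_algebraMap.mp h
  haveI : Algebra.FinitePresentation R E.S' := Algebra.FinitePresentation.trans R S E.S'
  haveI : Algebra.FiniteType R E.R' := inferInstance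
  haveI : Algebra.FinitePresentation E.R' E.S' :=
    Algebra.FinitePresentation.of_restrict_scalars_finitePresentation R E.R' E.S'
  haveI : Algebra.FinitePresentation E.R' E.C := Algebra.FinitePresentation.trans E.R' E.S' E.C
  haveI : Algebra.FiniteType E.R' E.D := inferInstance
  haveI hDC : Algebra.FinitePresentation E.D E.C :=
    Algebra.FinitePresentation.of_restrict_scalars_finitePresentation E.R' E.D E.C
  refine ⟨hDC, ?_⟩
  -- module finiteness of `C`
  haveI : Module.Finite E.S' E.C :=
    Module.Finite.of_surjective (Algebra.linearMap E.S' E.C) E.surjC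
  haveI : Module.FinitePresentation E.S' E.C :=
    Module.FinitePresentation.of_finite_of_finitePresentation E.S' E.C
  haveI : Module.FinitePresentation E.D E.C :=
    Module.FinitePresentation.of_finite_of_finitePresentation E.D E.C
  -- module structures on `G`
  letI mSG : Module S E.G := Module.compHom E.G (algebraMap S E.S')
  haveI tSS'G : IsScalarTower S E.S' E.G := IsScalarTower.of_algebraMap_smul fun _ _ => rfl
  -- the base change map
  obtain ⟨φ, hφ⟩ : ∃ φ : N →ₗ[S] E.G, IsBaseChange E.S' φ :=
    ⟨_, IsBaseChange.comp E.isBaseChange (IsBaseChange.ofEquiv E.iso)⟩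
  have h12 : Module.FinitePresentation (Localization.AtPrime q) (LocalizedModule q.primeCompl N) ↔
      Module.FinitePresentation (Localization.AtPrime E.z)
        (LocalizedModule E.z.primeCompl E.G) :=
    (Groth.Agent.Helper27.Dv.fpAt_iff_of_isBaseChange S E.S' q E.q' N E.G φ hφ).trans
      (Groth.Agent.Helper27.Dv.fpAt_surj_iff E.S' E.C E.G E.surjC E.q' E.z)
  have h32 : Module.FinitePresentation (Localization.AtPrime E.y)
        (LocalizedModule E.y.primeCompl E.G) ↔
      Module.FinitePresentation (Localization.AtPrime E.z)
        (LocalizedModule E.z.primeCompl E.G) :=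
    Groth.Agent.Helper27.Dv.fpAt_finite_unique_iff E.D E.C E.G E.y E.z E.uniq
  refine ⟨?_, ?_⟩
  · tfae_have 1 ↔ 2 := h12
    tfae_have 3 ↔ 2 := h32
    tfae_finish
  · tfae_have 1 → 2 := by
      rintro ⟨g, hg, hfp⟩
      haveI := hfp
      refine ⟨algebraMap E.S' E.C (algebraMap S E.S' g), ?_, ?_⟩
      · intro hz
        exact hg ((Ideal.mem_of_liesOver E.q' q g).mpr
          ((Ideal.mem_of_liesOver E.z E.q' _).mpr hz))
      · exact (Groth.Agent.Helper27.Dv.fp_away_algebraMap_iff E.S' E.C E.G _).mp
          (Groth.Agent.Helper27.Dv.fp_away_baseChange S E.S' N E.G φ hφ g)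
    tfae_have 2 → 3 := by
      rintro ⟨c, hc, hfp⟩
      haveI := hfp
      obtain ⟨w, hw, hdvd⟩ :=
        Groth.Agent.Helper27.Dv.exists_dvd_of_unique_prime E.D E.C E.y E.z E.uniq c hc
      refine ⟨w, hw, ?_⟩
      exact (Groth.Agent.Helper27.Dv.fp_away_algebraMap_iff E.D E.C E.G w).mpr
        (Groth.Agent.Helper27.Dv.fp_away_of_dvd E.C E.G c _ hdvd)
    tfae_have 3 → 1 := by
      rintro ⟨d, hd, hfp⟩
      have h1 : Module.FinitePresentation (Localization.Away (algebraMap E.D E.C d))
          (LocalizedModule (Submonoid.powers (algebraMap E.D E.C d)) E.G) :=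
        (Groth.Agent.Helper27.Dv.fp_away_algebraMap_iff E.D E.C E.G d).mp hfp
      obtain ⟨s', hs'⟩ := E.surjC (algebraMap E.D E.C d)
      have hs'q : s' ∉ E.q' := by
        intro h
        apply hd
        rw [Ideal.mem_of_liesOver E.z E.y d, ← hs']
        exact (Ideal.mem_of_liesOver E.z E.q' s').mp h
      rw [← hs'] at h1
      haveI : Module.FinitePresentation (Localization.Away s')
          (LocalizedModule (Submonoid.powers s') E.G) :=
        (Groth.Agent.Helper27.Dv.fp_away_algebraMap_iff E.S' E.C E.G s').mpr h1
      exact Groth.Agent.Helper27.Dv.exists_fp_away_of_baseChange S E.S' N E.G φ hφ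
        q E.q' s' hs'q
    tfae_finish

end Groth.Agent.S1251
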