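import Groth.Statements.S12513
-- import your own Groth.Agent.* helpers here

set_option autoImplicit false
universe u
open Mero

namespace Groth.Agent.S12513

section
open AlgebraicGeometry CategoryTheory TopologicalSpace

theorem main (X : Scheme.{u}) (U : X.Opens)
    (hU : IsAffineOpen U) : Mero.regSub X U = nonZeroDivisors Γ(X, U) := by
  ext f
  constructor
  · intro hf
    -- f germwise nzd ⇒ f nzd
    have key : ∀ g : Γ(X, U), f * g = 0 → g = 0 := by
      intro g hg
      -- g vanishes in each stalk
      apply TopCat.Presheaf.section_ext X.sheaf U
      intro x hx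
      have h1 := hf ⟨x, hx⟩
      have h2 : X.presheaf.germ U x hx f * X.presheaf.germ U x hx g = 0 := by
        rw [← map_mul, hg, map_zero]
      have h3 := (mem_nonZeroDivisors_iff.mp h1).1 _ h2
      exact h3.trans (map_zero (X.presheaf.germ U x hx).hom).symm
    rw [mem_nonZeroDivisors_iff]
    refine ⟨key, fun g hg => key g (by rw [mul_comm]; exact hg)⟩
  · intro hf x
    haveI := hU.isLocalization_stalk x
    have := IsLocalization.map_nonZeroDivisors_le (hU.primeIdealOf x).asIdeal.primeCompl
      (X.presheaf.stalk x.1)
    exact this ⟨f, hf, rfl⟩
end

open AlgebraicGeometry in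
/-- For a scheme X and an affine open U of X, the sections of O_X over U with nonzerodivisor germ at
every point of U are exactly the nonzerodivisors of the ring O_X(U). No Noetherian hypothesis is
needed. -/
theorem result (X : Scheme.{u}) (U : X.Opens)
    (hU : IsAffineOpen U) : Mero.regSub X U = nonZeroDivisors Γ(X, U) := by
  exact Groth.Agent.S12513.main X U hU

end Groth.Agent.S12513
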