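import Groth.Statements.S12524
import Mathlib.RingTheory.AdicCompletion.RingHom
import Mathlib.RingTheory.LocalRing.ResidueField.Basic
import Mathlib.RingTheory.PowerSeries.Trunc
import Mathlib.Algebra.Polynomial.Div
import Mathlib.Tactic.Ring
import Mathlib.Tactic.LinearCombination

set_option autoImplicit false
universe u v
open CAlg

namespace Groth.Agent.S12524

section aux

variable {K : Type*} {A : Type*} [Field K] [CommRing A] [Algebra K A] (x : A)

open Polynomial in
/-- polynomials agreeing in degrees `< m` have evaluations congruent mod `x ^ m` -/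
theorem aeval_sub_mem {r s : K[X]} {m : ℕ} (h : ∀ d < m, r.coeff d = s.coeff d) :
    aeval x r - aeval x s ∈ Ideal.span {x} ^ m := by
  have hdvd : X ^ m ∣ r - s := by
    rw [X_pow_dvd_iff]
    intro d hd
    rw [coeff_sub, h d hd, sub_self]
  obtain ⟨t, ht⟩ := hdvd
  rw [← map_sub, ht, map_mul, map_pow, aeval_X, Ideal.span_singleton_pow]
  exact Ideal.mul_mem_right _ _ (Ideal.mem_span_singleton_self _)

open Polynomial in
/-- The truncated evaluation maps. -/
noncomputable def F (n : ℕ) : PowerSeries K →ₐ[K] A ⧸ (Ideal.span {x}) ^ n :=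
  AlgHom.ofLinearMap
    ((Ideal.Quotient.mkₐ K ((Ideal.span {x}) ^ n)).toLinearMap ∘ₗ
      (aeval x).toLinearMap ∘ₗ (PowerSeries.trunc n))
    (by
      rcases n with _ | n
      · have : (Ideal.span {x}) ^ 0 = ⊤ := by simp
        apply (Ideal.Quotient.subsingleton_iff.mpr this).elim
      · simp [PowerSeries.trunc_one])
    (by
      intro f g
      simp only [LinearMap.coe_comp, Function.comp_apply, AlgHom.toLinearMap_apply,
        Ideal.Quotient.mkₐ_eq_mk]
      rw [← map_mul, ← map_mul, Ideal.Quotient.eq]
      apply aeval_sub_mem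
      intro d hd
      rw [PowerSeries.coeff_trunc, if_pos hd, PowerSeries.coeff_mul_eq_coeff_trunc_mul_trunc f g hd,
        ← Polynomial.coe_mul, Polynomial.coeff_coe])

theorem F_apply (n : ℕ) (f : PowerSeries K) :
    F x n f = Ideal.Quotient.mk _ (Polynomial.aeval x (PowerSeries.trunc n f)) := rfl

end aux

open IsLocalRing in
/-- Let `A` be a complete discrete valuation ring with maximal ideal `m`, containing a field `K` such
that `K → A → A/m` is bijective (a coefficient field), and let `x` be any generator of `m`. Then the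
`K`-algebra map `K[X] → A`, `X ↦ x`, extends to a bijective `K`-algebra map `φ : K⟦X⟧ → A`,
characterised by `φ(∑ aᵢ Xⁱ) ≡ ∑_{i<n} aᵢ xⁱ (mod mⁿ)` for every `n`. -/
theorem result (K : Type u) (A : Type v) [Field K]
    [CommRing A] [IsDomain A] [IsDiscreteValuationRing A] [Algebra K A]
    [IsAdicComplete (maximalIdeal A) A]
    (hK : Function.Bijective ((residue A).comp (algebraMap K A)))
    (x : A) (hx : maximalIdeal A = Ideal.span {x}) :
    ∃ φ : PowerSeries K →ₐ[K] A, φ PowerSeries.X = x ∧ Function.Bijective φ ∧
      ∀ (f : PowerSeries K) (n : ℕ),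
        φ f - (Finset.range n).sum (fun i => algebraMap K A (PowerSeries.coeff i f) * x ^ i) ∈
          maximalIdeal A ^ n := by
  classical
  have hcomp : IsAdicComplete (Ideal.span {x}) A := by rw [← hx]; infer_instance
  have hx0 : x ≠ 0 := by
    rintro rfl
    apply IsDiscreteValuationRing.not_a_field A
    rw [hx]
    exact Ideal.span_singleton_eq_bot.mpr rfl
  have hcompat : ∀ {m n : ℕ} (hle : m ≤ n),
      (Ideal.Quotient.factorₐ K (Ideal.pow_le_pow_right hle)).comp (F x n) = F x m := by
    intro m n hle
    apply AlgHom.ext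
    intro f
    rw [AlgHom.comp_apply, F_apply, F_apply, Ideal.Quotient.factorₐ_apply_mk, Ideal.Quotient.eq]
    apply aeval_sub_mem
    intro d hd
    rw [PowerSeries.coeff_trunc, PowerSeries.coeff_trunc, if_pos hd, if_pos (lt_of_lt_of_le hd hle)]
  let φ : PowerSeries K →ₐ[K] A := IsAdicComplete.liftAlgHom (Ideal.span {x}) (F x) hcompat
  have hφ : ∀ (n : ℕ) (f : PowerSeries K),
      φ f - Polynomial.aeval x (PowerSeries.trunc n f) ∈ (Ideal.span {x}) ^ n := by
    intro n f
    have h1 := IsAdicComplete.mk_liftAlgHom (Ideal.span {x}) (F x) hcompat n f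
    change Ideal.Quotient.mk ((Ideal.span {x}) ^ n) (φ f) = F x n f at h1
    rw [F_apply] at h1
    exact Ideal.Quotient.eq.mp h1
  have hsum : ∀ (n : ℕ) (f : PowerSeries K), Polynomial.aeval x (PowerSeries.trunc n f) =
      (Finset.range n).sum (fun i => algebraMap K A (PowerSeries.coeff i f) * x ^ i) := by
    intro n f
    rw [Polynomial.aeval_def, PowerSeries.eval₂_trunc_eq_sum_range]
  have hHaus : ∀ a b : A, (∀ n, a - b ∈ (Ideal.span {x}) ^ n) → a = b := by
    intro a b h
    rw [← sub_eq_zero]
    apply IsHausdorff.haus (hcomp.toIsHausdorff) (a - b)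
    intro n
    rw [SModEq.zero, smul_eq_mul, Ideal.mul_top]
    exact h n
  refine ⟨φ, ?_, ⟨?_, ?_⟩, ?_⟩
  · apply hHaus
    intro n
    have h1 := hφ (n + 2) PowerSeries.X
    rw [PowerSeries.trunc_X, Polynomial.aeval_X] at h1
    exact Ideal.pow_le_pow_right (by omega) h1
  · rw [injective_iff_map_eq_zero]
    intro f hf
    ext k
    rw [map_zero]
    induction k using Nat.strong_induction_on with
    | _ k ih =>
      have h1 := hφ (k + 1) f
      rw [hf, zero_sub, neg_mem_iff, hsum, Finset.sum_range_succ] at h1
      rw [Finset.sum_eq_zero (fun i hi => by rw [ih i (Finset.mem_range.mp hi), map_zero, zero_mul]),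
        zero_add, Ideal.span_singleton_pow, Ideal.mem_span_singleton'] at h1
      obtain ⟨b, hb⟩ := h1
      have h2 : algebraMap K A (PowerSeries.coeff k f) = b * x := by
        apply mul_right_cancel₀ (pow_ne_zero k hx0)
        rw [← hb]; ring
      have h3 : algebraMap K A (PowerSeries.coeff k f) ∈ maximalIdeal A := by
        rw [hx, h2]
        exact Ideal.mul_mem_left _ _ (Ideal.mem_span_singleton_self x)
      have h4 : (residue A).comp (algebraMap K A) (PowerSeries.coeff k f) = 0 := by
        rw [RingHom.comp_apply, residue_eq_zero_iff]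
        exact h3
      exact (injective_iff_map_eq_zero _).mp hK.injective _ h4
  · intro a
    have hstep : ∀ b : A, ∃ c : K, ∃ b' : A, b = algebraMap K A c + x * b' := by
      intro b
      obtain ⟨c, hc⟩ := hK.surjective (residue A b)
      have : b - algebraMap K A c ∈ maximalIdeal A := by
        rw [← residue_eq_zero_iff, map_sub, ← hc, RingHom.comp_apply, sub_self]
      rw [hx, Ideal.mem_span_singleton'] at this
      obtain ⟨b', hb'⟩ := this
      exact ⟨c, b', by linear_combination -hb'⟩
    choose c nxt hcn using hstep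
    let s : ℕ → A := fun k => nxt^[k] a
    have hs : ∀ k, s (k + 1) = nxt (s k) := fun k => Function.iterate_succ_apply' nxt k a
    have hexp : ∀ n, a = (Finset.range n).sum (fun i => algebraMap K A (c (s i)) * x ^ i) +
        x ^ n * s n := by
      intro n
      induction n with
      | zero => simp [s]
      | succ n ih =>
        rw [Finset.sum_range_succ, hs]
        have := hcn (s n)
        linear_combination ih + x ^ n * this
    refine ⟨PowerSeries.mk (fun k => c (s k)), ?_⟩
    apply hHaus
    intro n
    have h1 := hφ n (PowerSeries.mk (fun k => c (s k)))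
    rw [hsum] at h1
    simp only [PowerSeries.coeff_mk] at h1
    have h2 : x ^ n * s n ∈ (Ideal.span {x}) ^ n := by
      rw [Ideal.span_singleton_pow]
      exact Ideal.mul_mem_right _ _ (Ideal.mem_span_singleton_self _)
    have := ((Ideal.span {x}) ^ n).sub_mem h1 h2
    convert this using 1
    nth_rewrite 1 [hexp n]
    ring
  · intro f n
    rw [hx, ← hsum]
    exact hφ n f

end Groth.Agent.S12524
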