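import Groth.Statements.S12545
import Groth.Agent.Lib.Helper6.GLinMu1

set_option autoImplicit false
universe u
open TensorProduct LaurentPolynomial
open GIT

namespace Groth.Agent.S12545

/-- Let a commutative bialgebra A over a field k coact linearly on affine ι-space, let λ be a
one-parameter subgroup (a bialgebra map to the Laurent polynomial ring) and v ≠ 0 a vector; write
μ(v, λ) = m when t^m · (v moved by λ(t)) extends to the affine line with non-zero value at t = 0.
Then v moved by λ(t) has no limit as t → 0 exactly when μ(v, λ) > 0, has a limit different from the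
origin exactly when μ(v, λ) = 0, and tends to the origin exactly when μ(v, λ) < 0. -/
theorem result (k : Type u) [Field k] (A : Type u) [CommRing A] [Bialgebra k A]
    (ι : Type u) [Fintype ι] [HopfRep.Comod k A (MvPolynomial ι k)] [GLin.IsCoactAlg k A (MvPolynomial ι k)]
    (hlin : GLin.IsLinear k A ι) (lam : A →ₐc[k] k[T;T⁻¹]) (v : ι → k) (hv : v ≠ 0) :
    (¬ GLin.HasLimit k A lam (GLin.vecPt k ι v) ↔ ∃ m : ℤ, GLin.IsMu k A lam v m ∧ 0 < m) ∧
      ((GLin.HasLimit k A lam (GLin.vecPt k ι v) ∧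
          ¬ GLin.IsLimit k A lam (GLin.vecPt k ι v) (GLin.vecPt k ι (fun _ => (0 : k)))) ↔
        GLin.IsMu k A lam v 0) ∧
      (GLin.IsLimit k A lam (GLin.vecPt k ι v) (GLin.vecPt k ι (fun _ => (0 : k))) ↔
        ∃ m : ℤ, GLin.IsMu k A lam v m ∧ m < 0) := by
  obtain ⟨M, hM⟩ := Groth.Agent.Helper6.GLinMu.exists_isMat hlin
  obtain ⟨d, hd1, i₀, hd2⟩ := Groth.Agent.Helper6.GLinMu.exists_min
    (Groth.Agent.Helper6.GLinMu.wvec M lam v)
    (Groth.Agent.Helper6.GLinMu.exists_wvec_ne_zero M hM lam v hv)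
  have hmu : GLin.IsMu k A lam v (-d) := by
    rw [Groth.Agent.Helper6.GLinMu.isMu_iff M hM, neg_neg]
    exact ⟨hd1, i₀, hd2⟩
  refine ⟨?_, ?_, ?_⟩
  · rw [Groth.Agent.Helper6.GLinMu.hasLimit_iff M hM]
    constructor
    · intro h
      refine ⟨-d, hmu, ?_⟩
      by_contra hd
      apply h
      intro i n hn
      exact hd1 i n (by omega)
    · rintro ⟨m, hm, hpos⟩ h
      rw [Groth.Agent.Helper6.GLinMu.isMu_iff M hM] at hm
      obtain ⟨-, i, hi⟩ := hm
      exact hi (h i (-m) (by omega))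
  · rw [Groth.Agent.Helper6.GLinMu.hasLimit_iff M hM,
      Groth.Agent.Helper6.GLinMu.isLimit_origin_iff M hM,
      Groth.Agent.Helper6.GLinMu.isMu_iff M hM, neg_zero]
    constructor
    · rintro ⟨h1, h2⟩
      refine ⟨h1, ?_⟩
      by_contra h3
      push Not at h3
      exact h2 ⟨h1, h3⟩
    · rintro ⟨h1, i, hi⟩
      exact ⟨h1, fun h => hi (h.2 i)⟩
  · rw [Groth.Agent.Helper6.GLinMu.isLimit_origin_iff M hM]
    constructor
    · rintro ⟨h1, h2⟩
      refine ⟨-d, hmu, ?_⟩
      have hpos : 0 < d := by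
        by_contra hd
        rcases lt_or_eq_of_le (not_lt.1 hd) with h | h
        · exact hd2 (h1 i₀ d h)
        · rw [h] at hd2
          exact hd2 (h2 i₀)
      omega
    · rintro ⟨m, hm, hneg⟩
      rw [Groth.Agent.Helper6.GLinMu.isMu_iff M hM] at hm
      obtain ⟨h1, -⟩ := hm
      exact ⟨fun i n hn => h1 i n (by omega), fun i => h1 i 0 (by omega)⟩

end Groth.Agent.S12545
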