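import Groth.Statements.S12550
import Mathlib.LinearAlgebra.FiniteDimensional.Lemmas
import Mathlib.Tactic.Linarith
import Mathlib.Tactic.NormNum

set_option autoImplicit false
universe u
open GIT

namespace Groth.Agent.S12550

/-- Let V be a finite-dimensional vector space over a field K and x_0, …, x_m non-zero vectors, a
configuration of m + 1 points of the projective space P(V). If for every subspace L with 0 ≠ L ≠ V
the number of indices i with x_i ∈ L, multiplied by dim V, is less than dim L · (m + 1) (the
configuration is stable), then no two proper subspaces L', L'' with L' ∩ L'' = 0 contain between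
them all the x_i. -/
theorem result (K : Type u) [Field K]
    (V : Type u) [AddCommGroup V] [Module K V] [FiniteDimensional K V]
    (m : ℕ) (x : Fin (m + 1) → V) (hx : ∀ i, x i ≠ 0)
    (hst : ∀ L : Submodule K V, L ≠ ⊥ → L ≠ ⊤ →
      Set.ncard {i : Fin (m + 1) | x i ∈ L} * Module.finrank K V < Module.finrank K L * (m + 1)) :
    ¬ ∃ L' L'' : Submodule K V, L' ≠ ⊤ ∧ L'' ≠ ⊤ ∧ Disjoint L' L'' ∧ ∀ i, x i ∈ L' ∨ x i ∈ L'' := by
  rintro ⟨L', L'', hL', hL'', hdisj, hcov⟩
  set n := Module.finrank K V with hn
  set S' : Set (Fin (m + 1)) := {i | x i ∈ L'} with hS'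
  set S'' : Set (Fin (m + 1)) := {i | x i ∈ L''} with hS''
  have hdim : Module.finrank K L' + Module.finrank K L'' ≤ n :=
    Submodule.finrank_add_finrank_le_of_disjoint hdisj
  have hcard : m + 1 ≤ S'.ncard + S''.ncard := by
    have h1 : S' ∪ S'' = Set.univ := by
      ext i
      simp only [Set.mem_union, Set.mem_univ, iff_true]
      exact hcov i
    have h2 := Set.ncard_union_le S' S''
    rw [h1, Set.ncard_univ, Nat.card_fin] at h2
    exact h2
  by_cases h' : L' = ⊥
  · -- all points in L''
    have hall : S'' = Set.univ := by
      ext i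
      simp only [Set.mem_univ, iff_true]
      rcases hcov i with h | h
      · rw [h', Submodule.mem_bot] at h
        exact absurd h (hx i)
      · exact h
    have hne : L'' ≠ ⊥ := by
      intro h
      have : x 0 ∈ L'' := by
        have : (0 : Fin (m + 1)) ∈ S'' := by rw [hall]; trivial
        exact this
      rw [h, Submodule.mem_bot] at this
      exact hx 0 this
    have hs := hst L'' hne hL''
    rw [show {i : Fin (m + 1) | x i ∈ L''} = S'' from rfl, hall, Set.ncard_univ, Nat.card_fin] at hs
    have : Module.finrank K L'' ≤ n := by omega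
    nlinarith
  by_cases h'' : L'' = ⊥
  · have hall : S' = Set.univ := by
      ext i
      simp only [Set.mem_univ, iff_true]
      rcases hcov i with h | h
      · exact h
      · rw [h'', Submodule.mem_bot] at h
        exact absurd h (hx i)
    have hs := hst L' h' hL'
    rw [show {i : Fin (m + 1) | x i ∈ L'} = S' from rfl, hall, Set.ncard_univ, Nat.card_fin] at hs
    have : Module.finrank K L' ≤ n := by omega
    nlinarith
  have hs' := hst L' h' hL'
  have hs'' := hst L'' h'' hL''
  rw [show {i : Fin (m + 1) | x i ∈ L'} = S' from rfl] at hs'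
  rw [show {i : Fin (m + 1) | x i ∈ L''} = S'' from rfl] at hs''
  nlinarith

end Groth.Agent.S12550
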