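import Mathlib
import Groth.Statements.S12580
import Groth.Agent.Lib.Helper16.FF.AutB
-- import your own Groth.Agent.* helpers here

set_option autoImplicit false
universe u v w
open FunFld

namespace Groth.Agent.S12580


/-- In a function field of one variable `K/k`, `Res_P(u dv) = 0` when `u, v ∈ O_P` (already before the
trace), and for a repartition `α` and `v ∈ K`, `Res_P(α_P dv) = 0` for almost all `P`; residues read
through Laurent expansions over `k` at every place. -/
theorem result (k : Type u) (K : Type v) [Field k] [Field K] [Algebra k K] (hK : FunFld.IsFunctionField k K)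
    (F : FunFld.Place k K → Type w) [∀ P, Field (F P)] [∀ P, Algebra k (F P)] [∀ P, FiniteDimensional k (F P)]
    (φ : ∀ P, K →ₐ[k] LaurentSeries (F P)) (hφ : ∀ P, LocRes.IsExpansionAt P.1 (φ P)) :
    (∀ (P : FunFld.Place k K) (u v : K), P.1 u ≤ 1 → P.1 v ≤ 1 → LocRes.resExp (φ P) u v = 0) ∧
    ∀ (a : FunFld.Place k K → K), a ∈ FunFld.adele k K → ∀ v : K,
      {P : FunFld.Place k K | LocRes.resExp (φ P) (a P) v ≠ 0}.Finite := by
  have h1 : ∀ (P : FunFld.Place k K) (u v : K), P.1 u ≤ 1 → P.1 v ≤ 1 →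
      LocRes.resExp (φ P) u v = 0 := by
    intro P u v hu hv
    have hu' : Valued.v (φ P u) ≤ 1 := by rw [(hφ P).1 u]; exact hu
    have hv' : Valued.v (φ P v) ≤ 1 := by rw [(hφ P).1 v]; exact hv
    obtain ⟨U, hU⟩ := (LaurentSeries.val_le_one_iff_eq_coe _ _).1 hu'
    obtain ⟨W, hW⟩ := (LaurentSeries.val_le_one_iff_eq_coe _ _).1 hv'
    unfold LocRes.resExp
    rw [← hU, ← hW, LocRes.D_coe, ← map_mul]
    change (HahnSeries.ofPowerSeries ℤ (F P) (U * _)).coeff (-1) = 0
    rw [PowerSeries.coeff_coe]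
    simp
  refine ⟨h1, fun a ha v => ?_⟩
  have hfa : {P : FunFld.Place k K | ¬ P.1 (a P) ≤ 1}.Finite := by
    have : ∀ᶠ P : FunFld.Place k K in Filter.cofinite, P.1 (a P) ≤ 1 := ha
    rwa [Filter.eventually_cofinite] at this
  have hfv := Groth.Agent.Helper16.FF.finite_poles hK v
  refine (hfa.union hfv).subset ?_
  intro P hP
  by_contra hcon
  rw [Set.mem_union, not_or] at hcon
  simp only [Set.mem_ofPred_eq, not_not] at hcon
  exact hP (h1 P (a P) v hcon.1 hcon.2)

end Groth.Agent.S12580
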