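import Groth.Statements.S12590
-- import your own Groth.Agent.* helpers here
import Groth.Agent.Lib.Helper27.WeilRes4

set_option autoImplicit false
universe u v w
open FunFld

namespace Groth.Agent.S12590

/-- At a place `P` of a geometric function field of one variable `K/k` and for a separating variable
`x`, the local residue `Res_P(y dx)` is nonzero for some `y`; stated at a separable place through a
Laurent expansion over `k`, with `y` found in `K` itself. (The companion assertion on the largest
finite extension of `k` inside the completion is not stated.) -/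
theorem result (k : Type u) (K : Type v) [Field k] [Field K] [Algebra k K] (hK : FunFld.IsFunctionField k K) (hg : FunFld.IsGeometric k K)
    (P : FunFld.Place k K) (F : Type w) [Field F] [Algebra k F] [FiniteDimensional k F]
    (φ : K →ₐ[k] LaurentSeries F) (hφ : LocRes.IsExpansionAt P.1 φ)
    (x : K) (hx : KaehlerDifferential.D k K x ≠ 0) :
    ∃ y : K, LocRes.locRes φ y x ≠ 0 := by
  have h1 := Groth.Agent.Helper16.FF.finrank_kaehler_of_isGeometric hK hg
  obtain ⟨c, hc⟩ := Groth.Agent.Helper27.SepRes.exists_trace_ne_zero hK hg P φ hφ
  obtain ⟨y, -, hy⟩ := Groth.Agent.Helper27.Tate.exists_locRes_eq h1 P φ hφ 1 x one_ne_zero hx c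
  refine ⟨y, ?_⟩
  unfold LocRes.locRes
  rw [mul_one] at hy
  rw [hy]
  exact hc

end Groth.Agent.S12590
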