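import Mathlib
import Groth.Statements.S12602
import Groth.Agent.Lib.Helper19.Jumps
import Groth.Agent.S12595
-- import your own Groth.Agent.* helpers here

set_option autoImplicit false
open FunFld

namespace Groth.Agent.S12602

open Groth.Agent.Helper19.Jumps Module in

/-- Over an algebraically closed constant field, for a birational projective map `φ = (φ₀, …, φₙ)`, `n ≥
1`, with orders `j₁ < ⋯ < jₙ`, and `τ ≠ 1`, the `τ`-orders of `φ` are `(0, j₁, …, j_{m-1}, j_{m+1},
…, jₙ)` for some `m`: the jump indices of `[τ(φ) | D^(0) φ | D^(1) φ | ⋯]` after the leading column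
are `0` and the `jₗ` with `l ≠ m`. -/
theorem result
    (k K : Type*) [Field k] [IsAlgClosed k] [Field K] [Algebra k K]
    (hK : FunFld.IsFunctionField k K) {n : ℕ} (hn : 0 < n) (φ : Fin (n + 1) → K) (hφ : LinearIndependent k φ)
    (h0 : φ 0 ≠ 0) (hbir : IntermediateField.adjoin k (Set.range fun i => φ i / φ 0) = ⊤)
    (τ : K →ₐ[k] K) (hτ : τ ≠ AlgHom.id k K) (s : K) (H : K →ₐ[k] PowerSeries K) (hH : LocRes.IsHasseFamily s H)
    (J : Fin n → ℕ) (hJ : FunFld.IsOrders K (FunFld.hcol (AlgHom.id k K) H φ) J) :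
    ∃ m : Fin n, ∀ j : ℕ,
      FunFld.IsJump K (FunFld.hcol τ H φ) (j + 1) ↔ (j = 0 ∨ ∃ l, l ≠ m ∧ J l = j) := by
  classical
  set c := FunFld.hcol τ H φ with hc
  set c₀ := FunFld.hcol (AlgHom.id k K) H φ with hc₀
  have ha : ∀ j, c (j + 1) = c₀ (j + 1) := fun j => rfl
  have hb0 : c₀ 0 = φ := rfl
  have hb1 : c₀ 1 = φ := by
    funext i
    change LocRes.hasseD H 0 (φ i) = φ i
    rw [LocRes.hasseD_apply, PowerSeries.coeff_zero_eq_constantCoeff_apply, hH.2]
  have hφ0 : φ ≠ 0 := fun h => h0 (congrFun h 0)
  have hjc₀0 : FunFld.IsJump K c₀ 0 := by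
    rw [isJump_iff, S_zero, Submodule.mem_bot, hb0]
    exact hφ0
  have hjc₀1 : ¬ FunFld.IsJump K c₀ 1 := by
    rw [isJump_iff, not_not, hb1, ← hb0]
    exact mem_S c₀ Nat.zero_lt_one
  have hJpos : ∀ l, 1 ≤ J l := by
    intro l
    by_contra h
    have h0' : J l = 0 := by omega
    exact hjc₀1 ((hJ.2 0).1 ⟨l, h0'⟩)
  have hjc0 : FunFld.IsJump K c 0 := by
    rw [isJump_iff, S_zero, Submodule.mem_bot]
    intro h
    have : τ (φ 0) = 0 := congrFun h 0
    exact h0 ((map_eq_zero τ).1 this)
  have hjc1 : FunFld.IsJump K c 1 := by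
    by_contra h
    exact hτ ((Groth.Agent.S12595.result k K hK φ h0 hbir τ s H hH).1 h)
  have hle : ∀ j, 1 ≤ j → S K c₀ (j + 1) ≤ S K c (j + 1) := by
    intro j hj
    apply S_le_S_of_forall_mem
    intro i hi
    rcases i with _ | i'
    · rw [hb0, ← hb1, ← ha 0]
      exact mem_S c (by omega)
    · rw [← ha i']
      exact mem_S c hi
  have hg : ∀ j, 1 ≤ j → FunFld.IsJump K c (j + 1) → FunFld.IsJump K c₀ (j + 1) := by
    intro j hj h
    rw [isJump_iff] at h ⊢
    intro hmem
    apply h
    rw [ha j]
    exact hle j hj hmem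
  -- a large bound
  set M := Finset.univ.sup J + 2 with hM
  have hJM : ∀ l, J l + 1 < M := by
    intro l
    have : J l ≤ Finset.univ.sup J := Finset.le_sup (f := J) (Finset.mem_univ l)
    omega
  have hinjJ : Function.Injective fun l => J l + 1 := by
    intro a b hab
    exact hJ.1.injective (by simpa using hab)
  have hfinV : finrank K (Fin (n + 1) → K) = n + 1 := by simp
  -- c₀ spans everything
  have htop₀ : S K c₀ M = ⊤ := by
    apply Submodule.eq_top_of_finrank_eq
    rw [hfinV]
    apply le_antisymm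
    · exact (Submodule.finrank_le _).trans hfinV.le
    · rw [finrank_S]
      have hsub : insert 0 (Finset.univ.image fun l => J l + 1) ⊆
          (Finset.range M).filter (fun j => FunFld.IsJump K c₀ j) := by
        intro j hj
        rw [Finset.mem_insert, Finset.mem_image] at hj
        rw [Finset.mem_filter, Finset.mem_range]
        rcases hj with rfl | ⟨l, _, rfl⟩
        · exact ⟨by omega, hjc₀0⟩
        · exact ⟨hJM l, (hJ.2 (J l)).1 ⟨l, rfl⟩⟩
      refine le_trans ?_ (Finset.card_le_card hsub)
      rw [Finset.card_insert_of_notMem, Finset.card_image_of_injective _ hinjJ, Finset.card_univ,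
        Fintype.card_fin]
      simp
  have htop : S K c M = ⊤ := by
    have hM2 : M = (Finset.univ.sup J + 1) + 1 := by omega
    have hl1 : 1 ≤ Finset.univ.sup J + 1 := by omega
    have := hle (Finset.univ.sup J + 1) hl1
    rw [← hM2, htop₀] at this
    exact top_le_iff.1 this
  -- the set of surviving orders
  set Lset : Finset (Fin n) := Finset.univ.filter fun l => FunFld.IsJump K c (J l + 1) with hLset
  have hfilter : (Finset.range M).filter (fun j => FunFld.IsJump K c j) =
      insert 0 (insert 1 (Lset.image fun l => J l + 1)) := by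
    ext j
    simp only [Finset.mem_filter, Finset.mem_range, Finset.mem_insert, Finset.mem_image, hLset]
    constructor
    · rintro ⟨hjM, hj⟩
      rcases j with _ | j'
      · left; rfl
      · rcases j' with _ | j''
        · right; left; rfl
        · right; right
          have := hg (j'' + 1) (by omega) hj
          obtain ⟨l, hl⟩ := (hJ.2 (j'' + 1)).2 this
          refine ⟨l, ⟨Finset.mem_univ _, ?_⟩, by rw [hl]⟩
          rw [hl]; exact hj
    · rintro (rfl | rfl | ⟨l, ⟨_, hl⟩, rfl⟩)
      · exact ⟨by omega, hjc0⟩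
      · exact ⟨by omega, hjc1⟩
      · exact ⟨hJM l, hl⟩
  have hcardL : Lset.card + 2 = n + 1 := by
    have h1 : finrank K (S K c M) = n + 1 := by rw [htop, finrank_top, hfinV]
    rw [finrank_S, hfilter] at h1
    rw [Finset.card_insert_of_notMem, Finset.card_insert_of_notMem,
      Finset.card_image_of_injective _ hinjJ] at h1
    · omega
    · simp only [Finset.mem_image, not_exists, not_and]
      intro l _ h
      have := hJpos l
      omega
    · simp only [Finset.mem_insert, Finset.mem_image, not_or, not_exists, not_and]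
      refine ⟨by omega, ?_⟩
      intro l _ h
      omega
  have hcompl : Lsetᶜ.card = 1 := by
    rw [Finset.card_compl, Fintype.card_fin]
    omega
  obtain ⟨m, hm⟩ := Finset.card_eq_one.1 hcompl
  have hmem : ∀ l, l ∈ Lset ↔ l ≠ m := by
    intro l
    have : l ∈ Lsetᶜ ↔ l = m := by rw [hm, Finset.mem_singleton]
    rw [Finset.mem_compl] at this
    constructor
    · intro h1 h2; exact (this.2 h2) h1
    · intro h1; by_contra h2; exact h1 (this.1 h2)
  refine ⟨m, fun j => ?_⟩
  constructor
  · intro hj
    rcases j with _ | j'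
    · left; rfl
    · right
      have := hg (j' + 1) (by omega) hj
      obtain ⟨l, hl⟩ := (hJ.2 (j' + 1)).2 this
      refine ⟨l, (hmem l).1 ?_, hl⟩
      rw [hLset, Finset.mem_filter]
      exact ⟨Finset.mem_univ _, by rw [hl]; exact hj⟩
  · rintro (rfl | ⟨l, hl, rfl⟩)
    · exact hjc1
    · have := (hmem l).2 hl
      rw [hLset, Finset.mem_filter] at this
      exact this.2

end Groth.Agent.S12602
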