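import Mathlib
import Groth.Statements.S12620
-- import your own Groth.Agent.* helpers here

set_option autoImplicit false
universe u v w
open LocRes

namespace Groth.Agent.S12620

open HahnSeries in

/-- Let `K` be a field with a valuation `w` into `ℤ ∪ {0}` and `φ : K → F((X))` a `k`-algebra expansion
at `w` in a local parameter (valuation-compatible, valuation ring onto the coefficient field `F`,
`w` normalised). Then for every nonzero `f` the residue of the logarithmic differential `f⁻¹ df`
read through `φ` — the `X⁻¹`-coefficient of `φ(f)⁻¹ · (φ f)′` — is the order of `f` at `w` (the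
integer `n` with `w f = exp (-n)`), viewed in `F`. (The published statement is for a complete field
with a perfect coefficient field and its intrinsic residue; read through an expansion neither
completeness nor perfectness plays a role.) -/
theorem result {k : Type u} {K : Type v} {F : Type w} [CommRing k] [Field K] [Field F]
    [Algebra k K] [Algebra k F]
    (w : Valuation K (WithZero (Multiplicative ℤ))) (φ : K →ₐ[k] LaurentSeries F)
    (hφ : LocRes.IsExpansionAt w φ) (f : K) (hf : f ≠ 0) :
    LocRes.resExp φ f⁻¹ f = ((-WithZero.log (w f) : ℤ) : F) := by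
  set g := φ f with hg
  have hg0 : g ≠ 0 := by
    intro h
    have := hφ.1 f
    rw [← hg, h, map_zero] at this
    exact hf ((map_eq_zero w).1 this.symm)
  set m := g.order with hm
  set P := g.powerSeriesPart with hP
  have hgP : (single m (1 : F) : LaurentSeries F) * (P : LaurentSeries F) = g :=
    LaurentSeries.single_order_mul_powerSeriesPart g
  have hP0 : PowerSeries.constantCoeff P ≠ 0 := by
    rw [← PowerSeries.coeff_zero_eq_constantCoeff_apply, hP, LaurentSeries.powerSeriesPart_coeff]
    simpa using (HahnSeries.coeff_order_eq_zero (x := g)).not.2 hg0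
  have hPinv : P * P⁻¹ = 1 := PowerSeries.mul_inv_cancel P hP0
  -- valuation
  have hvP : Valued.v (P : LaurentSeries F) = 1 := by
    have h1 : Valued.v (P : LaurentSeries F) ≤ 1 := (LaurentSeries.val_le_one_iff_eq_coe _ _).2 ⟨P, rfl⟩
    have h2 : Valued.v ((P⁻¹ : PowerSeries F) : LaurentSeries F) ≤ 1 :=
      (LaurentSeries.val_le_one_iff_eq_coe _ _).2 ⟨P⁻¹, rfl⟩
    have h3 : Valued.v (P : LaurentSeries F) * Valued.v ((P⁻¹ : PowerSeries F) : LaurentSeries F) = 1 := by
      rw [← map_mul, ← PowerSeries.coe_mul, hPinv, PowerSeries.coe_one, map_one]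
    refine le_antisymm h1 ?_
    by_contra hlt
    push Not at hlt
    have h4 : Valued.v (P : LaurentSeries F) * Valued.v ((P⁻¹ : PowerSeries F) : LaurentSeries F) < 1 :=
      mul_lt_one_of_lt_of_le hlt h2
    rw [h3] at h4
    exact lt_irrefl _ h4
  have hval : w f = WithZero.exp (-m) := by
    rw [← hφ.1 f, ← hg, ← hgP, map_mul, hvP, mul_one, LaurentSeries.valuation_single_zpow]
  have hlog : (-WithZero.log (w f) : ℤ) = m := by
    rw [hval, WithZero.log_exp, neg_neg]
  rw [hlog]
  -- derivative
  have hD : D F g = g * (single (-1) (m : F) + ((P⁻¹ * PowerSeries.derivative F P : PowerSeries F) :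
      LaurentSeries F)) := by
    rw [← hgP, D_apply, derivative_single_mul, ← D_apply, D_coe, mul_add]
    have e1 : single m (1 : F) * (P : LaurentSeries F) * single (-1) (m : F) =
        single (m - 1) (m • (1 : F)) * (P : LaurentSeries F) := by
      rw [mul_comm (single m (1 : F)) (P : LaurentSeries F), mul_assoc, HahnSeries.single_mul_single,
        mul_comm]
      congr 2
      · ring
    have e2 : single m (1 : F) * (P : LaurentSeries F) *
        ((P⁻¹ * PowerSeries.derivative F P : PowerSeries F) : LaurentSeries F) =
        single m (1 : F) * ((PowerSeries.derivative F P : PowerSeries F) : LaurentSeries F) := by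
      rw [mul_assoc, ← PowerSeries.coe_mul, ← mul_assoc, hPinv, one_mul]
    rw [e1, e2, add_comm]
  unfold LocRes.resExp
  rw [map_inv₀, ← hg, hD, ← mul_assoc, inv_mul_cancel₀ hg0, one_mul, map_add, res_apply, res_apply,
    PowerSeries.coeff_coe]
  simp

end Groth.Agent.S12620
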