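import Mathlib
import Groth.Statements.S12621
-- import your own Groth.Agent.* helpers here

set_option autoImplicit false
universe u v w
open LocRes

namespace Groth.Agent.S12621

open PowerSeries in
theorem univ_coeff_tf {R : Type*} [CommRing R] (U : PowerSeries R) (n' : ℕ) (m : ℤ) (N : ℕ)
    (hN : (N : ℤ) = -(m * (n' + 1)))
    (hR : ∀ x : R, ((n' + 1 : ℕ) : R) * x = 0 → x = 0) :
    coeff N (X * U ^ n' * derivative R U + (m : PowerSeries R) * U ^ (n' + 1)) = 0 := by
  apply hR
  set W := U ^ (n' + 1) with hW
  have hd : derivative R W = ((n' + 1 : ℕ) : PowerSeries R) * U ^ n' * derivative R U := by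
    rw [hW, Derivation.leibniz_pow, Nat.add_sub_cancel, smul_eq_mul, nsmul_eq_mul, mul_assoc]
  have e1 : ((n' + 1 : ℕ) : PowerSeries R) * (X * U ^ n' * derivative R U +
      (m : PowerSeries R) * U ^ (n' + 1)) = X * derivative R W +
      ((m * (n' + 1) : ℤ) : PowerSeries R) * W := by
    rw [hd, ← hW]
    push_cast
    ring
  have e2 : ((n' + 1 : ℕ) : R) * coeff N (X * U ^ n' * derivative R U +
      (m : PowerSeries R) * U ^ (n' + 1)) = coeff N (((n' + 1 : ℕ) : PowerSeries R) *
      (X * U ^ n' * derivative R U + (m : PowerSeries R) * U ^ (n' + 1))) := by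
    rw [← map_natCast (C (R := R)), coeff_C_mul]
  rw [e2, e1, map_add, ← map_intCast (C (R := R)), coeff_C_mul]
  have e3 : coeff N (X * derivative R W) = ((N : ℤ) : R) * coeff N W := by
    cases N with
    | zero => simp
    | succ k =>
      rw [coeff_succ_X_mul, coeff_derivative]
      push_cast
      ring
  rw [e3, ← add_mul, ← Int.cast_add, hN]
  simp

open PowerSeries in
theorem coeff_map_derivative {R S : Type*} [CommRing R] [CommRing S] (f : R →+* S)
    (U : PowerSeries R) : PowerSeries.map f (derivative R U) = derivative S (PowerSeries.map f U) := by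
  ext j
  simp [coeff_derivative]

open PowerSeries in
theorem univ_coeff {R : Type*} [CommRing R] (U : PowerSeries R) (n' : ℕ) (m : ℤ) (N : ℕ)
    (hN : (N : ℤ) = -(m * (n' + 1))) :
    coeff N (X * U ^ n' * derivative R U + (m : PowerSeries R) * U ^ (n' + 1)) = 0 := by
  let R₀ := MvPolynomial R ℤ
  let f : R₀ →+* R := MvPolynomial.eval₂Hom (Int.castRingHom R) id
  let U₀ : PowerSeries R₀ := PowerSeries.mk fun j => MvPolynomial.X (coeff j U)
  have hU : PowerSeries.map f U₀ = U := by
    ext j
    simp only [U₀, f, PowerSeries.coeff_map, PowerSeries.coeff_mk]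
    exact MvPolynomial.eval₂_X _ _ _
  have h0 := univ_coeff_tf U₀ n' m N hN (by
    intro x hx
    have hne : ((n' + 1 : ℕ) : R₀) ≠ 0 := Nat.cast_ne_zero.2 (Nat.succ_ne_zero n')
    exact (mul_eq_zero.1 hx).resolve_left hne)
  have := congrArg f h0
  rw [map_zero, ← PowerSeries.coeff_map] at this
  rw [map_add, map_mul, map_mul, map_mul, map_pow, map_pow, coeff_map_derivative, hU,
    PowerSeries.map_X, map_intCast] at this
  exact this

open HahnSeries in
/-- natural exponent case -/
theorem res_pow_mul_D {F : Type*} [Field F] (g : LaurentSeries F) (n' : ℕ) :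
    res F (g ^ n' * D F g) = 0 := by
  set m := g.order with hm
  set U := g.powerSeriesPart with hU
  have hgU : (single m (1 : F) : LaurentSeries F) * (U : LaurentSeries F) = g :=
    LaurentSeries.single_order_mul_powerSeriesPart g
  have hD : D F g = single (m - 1) (1 : F) *
      (((PowerSeries.X * PowerSeries.derivative F U + (m : PowerSeries F) * U : PowerSeries F)) :
        LaurentSeries F) := by
    rw [← hgU, D_apply, derivative_single_mul, ← D_apply, D_coe]
    have e1 : (single m (1 : F) : LaurentSeries F) = single (m - 1) 1 * single 1 1 := by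
      rw [HahnSeries.single_mul_single]
      congr 1
      · ring
      · simp
    have e2 : (single (m - 1) (m • (1 : F)) : LaurentSeries F) =
        single (m - 1) 1 * ((m : PowerSeries F) : LaurentSeries F) := by
      rw [← map_intCast (PowerSeries.C (R := F)), PowerSeries.coe_C, HahnSeries.C_apply,
        HahnSeries.single_mul_single]
      congr 1
      · ring
      · simp
    rw [e1, e2, PowerSeries.coe_add, PowerSeries.coe_mul, PowerSeries.coe_mul, PowerSeries.coe_X]
    ring
  have hpow : g ^ n' = single (m * n') (1 : F) * ((U ^ n' : PowerSeries F) : LaurentSeries F) := by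
    rw [← hgU, mul_pow, PowerSeries.coe_pow]
    congr 1
    induction n' with
    | zero => simp
    | succ k ih =>
      rw [pow_succ, ih, HahnSeries.single_mul_single]
      congr 1
      · push_cast; ring
      · simp
  have hprod : g ^ n' * D F g = single (m * n' + (m - 1)) (1 : F) *
      (((PowerSeries.X * U ^ n' * PowerSeries.derivative F U + (m : PowerSeries F) * U ^ (n' + 1) :
        PowerSeries F)) : LaurentSeries F) := by
    rw [hpow, hD]
    have : (single (m * n' + (m - 1)) (1 : F) : LaurentSeries F) =
        single (m * n') 1 * single (m - 1) 1 := by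
      rw [HahnSeries.single_mul_single]; simp
    rw [this]
    push_cast
    ring
  rw [hprod, res_apply, HahnSeries.coeff_single_mul, one_mul, PowerSeries.coeff_coe]
  split_ifs with hneg
  · rfl
  · push Not at hneg
    obtain ⟨N, hN⟩ := Int.eq_ofNat_of_zero_le hneg
    rw [hN, Int.natAbs_natCast]
    apply univ_coeff
    rw [← hN]
    ring


/-- For a `k`-algebra homomorphism `φ : K → F((X))` from a field into formal Laurent series over a
field, an element `f` of `K` and a nonzero integer `n`, the residue of `f^(n-1) df` read through `φ`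
— the `X⁻¹`-coefficient of `φ(f)^(n-1) · (φ f)′` — vanishes, in every characteristic (also when the
characteristic divides `n`). (The published statement is for the intrinsic residue of a complete
field with a perfect coefficient field; read through an expansion it is this identity of Laurent
series, and no property of `φ` is needed.) -/
theorem result {k : Type u} {K : Type v} {F : Type w} [CommRing k] [Field K] [Field F]
    [Algebra k K] [Algebra k F]
    (φ : K →ₐ[k] LaurentSeries F) (f : K) (n : ℤ) (hn : n ≠ 0) :
    LocRes.resExp φ (f ^ (n - 1)) f = 0 := by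
  unfold LocRes.resExp
  rw [map_zpow₀]
  set g := φ f with hg
  by_cases hg0 : g = 0
  · rw [hg0, map_zero, mul_zero, map_zero]
  rcases lt_or_gt_of_ne hn with hneg | hpos
  · -- negative case
    obtain ⟨j, hj⟩ : ∃ j : ℕ, n = -(j + 1 : ℤ) := ⟨(-n - 1).toNat, by omega⟩
    have hDinv : D F g = -(g ^ 2 * D F g⁻¹) := by
      rw [Derivation.leibniz_inv, smul_eq_mul]
      field_simp
    rw [hDinv, mul_neg, map_neg, neg_eq_zero, ← mul_assoc]
    have : g ^ (n - 1) * g ^ 2 = g⁻¹ ^ j := by
      rw [← zpow_natCast g 2, ← zpow_add₀ hg0, inv_pow, ← zpow_natCast, ← zpow_neg]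
      congr 1
      rw [hj]; push_cast; ring
    rw [this]
    exact res_pow_mul_D g⁻¹ j
  · obtain ⟨j, hj⟩ : ∃ j : ℕ, n = (j + 1 : ℤ) := ⟨(n - 1).toNat, by omega⟩
    have : g ^ (n - 1) = g ^ j := by
      rw [hj, add_sub_cancel_right, zpow_natCast]
    rw [this]
    exact res_pow_mul_D g j

end Groth.Agent.S12621
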