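import Groth.Statements.S12627
import Groth.Agent.Lib.Helper12.TanI

set_option autoImplicit false
universe u
open CategoryTheory CategoryTheory.Limits MonoidalCategory CartesianMonoidalCategory MonObj GrpObj AlgebraicGeometry
open AbVar

namespace Groth.Agent.S12627

/-- Let `k` be an algebraically closed field and `E₁`, `E₂` elliptic curves over `k`, i.e. group schemes
over `Spec k` whose underlying schemes are proper, smooth, integral and one-dimensional. If `φ, φ' :
E₁ → E₂` are homomorphisms with `φ` finite, surjective and étale (a separable isogeny) and `φ'` not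
étale (the zero homomorphism or an inseparable isogeny), then their sum under the group law of `E₂`
— the composite of `(φ, φ')` with the multiplication of `E₂` — is finite, surjective and étale, i.e.
again a separable isogeny. (The published statement is for arbitrary morphisms `φ, φ'` and takes
`φ'` inseparable; this row takes homomorphisms, the case its proof treats — a morphism of elliptic
curves is a homomorphism followed by a translation, which changes neither the hypotheses nor the
conclusion — and allows `φ'` to be the zero map, that case being immediate.) -/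
theorem result (k : Type u) [Field k] [IsAlgClosed k]
    (E₁ E₂ : Over (Spec (CommRingCat.of k)))
    [GrpObj E₁] [IsProper E₁.hom] [Smooth E₁.hom] [IsIntegral E₁.left] (hE₁ : topologicalKrullDim E₁.left = 1)
    [GrpObj E₂] [IsProper E₂.hom] [Smooth E₂.hom] [IsIntegral E₂.left] (hE₂ : topologicalKrullDim E₂.left = 1)
    (φ φ' : E₁ ⟶ E₂) [IsMonHom φ] [IsMonHom φ'] [IsFinite φ.left] [Surjective φ.left] [Etale φ.left]
    (hφ' : ¬ Etale φ'.left) :
    IsFinite (φ * φ').left ∧ Surjective (φ * φ').left ∧ Etale (φ * φ').left := by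
  have hu : η[E₁] ≫ φ = η[E₂] := IsMonHom.one_hom φ
  have hv : η[E₁] ≫ φ' = η[E₂] := IsMonHom.one_hom φ'
  have huv := Groth.Agent.Helper12.Tan.unit_mul φ φ' hu hv
  have hA := Groth.Agent.Helper17.AB2.antiAffine_of_point k E₁.hom η[E₁].left (Over.w η[E₁])
  haveI : IsMonHom (φ * φ') := Groth.Agent.Helper17.AA7.main14578 k E₁ E₂ hA (φ * φ') huv
  have lft : ∀ w : E₁ ⟶ E₂, LocallyOfFiniteType w.left := fun w => by
    haveI : LocallyOfFiniteType (w.left ≫ E₂.hom) := by
      rw [Over.w w]
      infer_instance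
    exact locallyOfFiniteType_of_comp w.left E₂.hom
  haveI := lft φ
  haveI := lft φ'
  haveI := lft (φ * φ')
  have hE₁' : topologicalKrullDim E₁.left = ((1 : ℕ) : WithBot ℕ∞) := by rw [hE₁]; rfl
  have hE₂' : topologicalKrullDim E₂.left = ((1 : ℕ) : WithBot ℕ∞) := by rw [hE₂]; rfl
  haveI : IsLocallyNoetherian E₁.left := LocallyOfFiniteType.isLocallyNoetherian E₁.hom
  -- the maximal ideal at the unit of `E₁` is principal
  have hreg : IsRegularLocalRing ↑(Groth.Agent.Helper12.Tan.Ost E₁ η[E₁]) := by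
    letI : E₁.left.Over (Spec (CommRingCat.of k)) := ⟨E₁.hom⟩
    haveI : Smooth (E₁.left ↘ Spec (CommRingCat.of k)) := ‹Smooth E₁.hom›
    exact Groth.Agent.Helper3.SmoothRegSch.main k E₁.left (Groth.Agent.Helper12.Tan.pt₀ E₁ η[E₁])
  have hdim : ringKrullDim ↑(Groth.Agent.Helper12.Tan.Ost E₁ η[E₁]) = 1 := by
    have := Groth.Agent.Helper12.GrpDim.dim_eq_ringKrullDim_unit E₁
    rw [hE₁] at this
    exact this.symm
  have hsp : (IsLocalRing.maximalIdeal ↑(Groth.Agent.Helper12.Tan.Ost E₁ η[E₁])).spanFinrank = 1 := by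
    have := hreg.spanFinrank_maximalIdeal
    rw [hdim] at this
    exact_mod_cast this
  have hp : (IsLocalRing.maximalIdeal ↑(Groth.Agent.Helper12.Tan.Ost E₁ η[E₁])).IsPrincipal :=
    ((Submodule.spanFinrank_eq_one_iff _).mp hsp).1
  -- `φ` is unramified
  have h1 := (Groth.Agent.Helper12.Tan.formallyUnramified_iff_map φ).mp inferInstance
  -- `φ'` is not unramified
  have h2 : (IsLocalRing.maximalIdeal ↑(Groth.Agent.Helper12.Tan.Ost E₂ η[E₂])).map
      (Groth.Agent.Helper12.Tan.usharp φ' hv) ≠
      IsLocalRing.maximalIdeal ↑(Groth.Agent.Helper12.Tan.Ost E₁ η[E₁]) := by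
    intro h
    haveI : FormallyUnramified φ'.left :=
      (Groth.Agent.Helper12.Tan.formallyUnramified_iff_map φ').mpr h
    exact hφ' (Groth.Agent.Helper12.Tan.etale_of_unramified φ' 1 hE₁' hE₂').1
  have h3 := Groth.Agent.Helper12.Tan.le_sq_of_ne hp _
    (Groth.Agent.Helper12.Tan.map_usharp_le φ' hv) h2
  have h4 : IsLocalRing.maximalIdeal ↑(Groth.Agent.Helper12.Tan.Ost E₁ η[E₁]) ≤
      IsLocalRing.maximalIdeal ↑(Groth.Agent.Helper12.Tan.Ost E₁ η[E₁]) *
        IsLocalRing.maximalIdeal ↑(Groth.Agent.Helper12.Tan.Ost E₁ η[E₁]) ⊔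
      (IsLocalRing.maximalIdeal ↑(Groth.Agent.Helper12.Tan.Ost E₂ η[E₂])).map
        (Groth.Agent.Helper12.Tan.usharp (φ * φ') huv) := by
    refine le_trans (le_of_eq h1.symm) ?_
    rw [Ideal.map_le_iff_le_comap]
    intro x hx
    rw [Ideal.mem_comap]
    have e := Groth.Agent.Helper12.Tan.usharp_mul_sub_mem φ φ' hu hv hx
    have e' := h3 (Ideal.mem_map_of_mem (Groth.Agent.Helper12.Tan.usharp φ' hv) hx)
    have e'' : Groth.Agent.Helper12.Tan.usharp φ hu x =
        Groth.Agent.Helper12.Tan.usharp (φ * φ') huv x -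
          (Groth.Agent.Helper12.Tan.usharp (φ * φ') huv x -
            (Groth.Agent.Helper12.Tan.usharp φ hu x + Groth.Agent.Helper12.Tan.usharp φ' hv x)) -
          Groth.Agent.Helper12.Tan.usharp φ' hv x := by ring
    rw [e'']
    exact sub_mem (sub_mem (Ideal.mem_sup_right (Ideal.mem_map_of_mem _ hx))
      (Ideal.mem_sup_left e)) (Ideal.mem_sup_left e')
  have h5 : (IsLocalRing.maximalIdeal ↑(Groth.Agent.Helper12.Tan.Ost E₂ η[E₂])).map
      (Groth.Agent.Helper12.Tan.usharp (φ * φ') huv) =
      IsLocalRing.maximalIdeal ↑(Groth.Agent.Helper12.Tan.Ost E₁ η[E₁]) := by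
    apply le_antisymm (Groth.Agent.Helper12.Tan.map_usharp_le _ huv)
    refine Submodule.le_of_le_smul_of_le_jacobson_bot (IsNoetherian.noetherian _)
      (IsLocalRing.maximalIdeal_le_jacobson ⊥) ?_
    rw [Ideal.smul_eq_mul, sup_comm]
    exact h4
  haveI : FormallyUnramified (φ * φ').left :=
    (Groth.Agent.Helper12.Tan.formallyUnramified_iff_map (φ * φ')).mpr h5
  obtain ⟨a, b, c⟩ := Groth.Agent.Helper12.Tan.etale_of_unramified (φ * φ') 1 hE₁' hE₂'
  exact ⟨b, c, a⟩

end Groth.Agent.S12627
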