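import Groth.Statements.S1267
import Mathlib
import Groth.Agent.Lib.Helper26.SqZ3

set_option autoImplicit false
universe u
open FlatMor

namespace Groth.Agent.S1267

/-- Let A be a local ring, I an ideal, U a quasi-compact open subset of Spec A and M an A-module such
that M/IM is flat over A/I and M_p is flat over A for all p in U. Let I₂ be the kernel of I → Γ(U,
I/I²), that is the set of x ∈ I such that for every p ∈ U some s outside p has s·x ∈ I². Then M/I₂M
is flat over A/I₂. -/
theorem result {A : Type u} [CommRing A] [IsLocalRing A] (I : Ideal A)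
    (U : Set (PrimeSpectrum A)) (hU : IsOpen U) (hUc : IsCompact U)
    (M : Type u) [AddCommGroup M] [Module A M]
    [Module.Flat (A ⧸ I) (M ⧸ (I • ⊤ : Submodule A M))]
    (hflat : ∀ p ∈ U, Module.Flat A (LocalizedModule p.asIdeal.primeCompl M))
    (I₂ : Ideal A) (hI₂ : ∀ x : A, x ∈ I₂ ↔ x ∈ I ∧ ∀ p ∈ U, ∃ s : A, s ∉ p.asIdeal ∧ s * x ∈ I ^ 2) :
    Module.Flat (A ⧸ I₂) (M ⧸ (I₂ • ⊤ : Submodule A M)) := by
  have hII : I * I ≤ I₂ := by
    intro x hx
    rw [hI₂]
    refine ⟨Ideal.mul_le_left hx, fun p _ => ⟨1, ?_, by rwa [one_mul, pow_two]⟩⟩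
    exact p.asIdeal.primeCompl.one_mem
  exact Groth.Agent.Lib.Helper26.SqZ1.flat_quotient_of_forall_ideal M I₂
    (Groth.Agent.Lib.Helper26.SqZ2.sqzero I I₂ M hII
      (Groth.Agent.Lib.Helper26.SqZ3.h2_of_local I I₂ M hII U hU hUc hflat hI₂))

end Groth.Agent.S1267
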