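import Groth.Statements.S12708
import Mathlib.RingTheory.LocalRing.Length

set_option autoImplicit false
universe u v
open CategoryTheory
open ArtFun

namespace Groth.Agent.S12708

open IsLocalRing LinearMap Module Submodule in
theorem covBy_length {Λ : Type u} {k : Type u} [CommRing Λ] [Field k] [Algebra Λ k]
    (A : Type u) [CommRing A] [Algebra Λ A] [IsLocalRing A] [Algebra A k] [IsScalarTower Λ A k]
    (hres : Function.Surjective (algebraMap A k))
    (M : Type v) [AddCommGroup M] [Module A M] [Module Λ M] [IsScalarTower Λ A M]
    {p q : Submodule A M} (h : p ⋖ q) :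
    Module.length Λ q = Module.length Λ p + Module.length Λ k := by
  let f : p →ₗ[A] q := inclusion h.le
  have key : IsSimpleModule A (q ⧸ LinearMap.range f) := by
    rwa [range_inclusion, ← covBy_iff_quot_is_simple h.le]
  obtain ⟨m, hm, ⟨e⟩⟩ := isSimpleModule_iff_quot_maximal.mp key
  rw [eq_maximalIdeal hm] at e
  have hker : LinearMap.ker (Algebra.linearMap A k) = maximalIdeal A := by
    have h1 : (RingHom.ker (algebraMap A k)).IsMaximal :=
      RingHom.ker_isMaximal_of_surjective _ hres
    have h2 := eq_maximalIdeal h1
    rw [← h2]
    rfl
  let e2 : (A ⧸ maximalIdeal A) ≃ₗ[A] k :=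
    (Submodule.quotEquivOfEq _ _ hker.symm).trans
      (LinearMap.quotKerEquivOfSurjective (Algebra.linearMap A k) hres)
  let g : q →ₗ[A] k := (e2.toLinearMap.comp e.toLinearMap).comp (LinearMap.range f).mkQ
  have hf : Function.Injective f := inclusion_injective _
  have hg : Function.Surjective g :=
    (e2.surjective.comp e.surjective).comp (LinearMap.range f).mkQ_surjective
  have hex : Function.Exact f g := by
    rw [LinearMap.exact_iff]
    have : LinearMap.ker g = LinearMap.ker (LinearMap.range f).mkQ := by
      ext x
      simp only [LinearMap.mem_ker, g, LinearMap.comp_apply, LinearEquiv.coe_coe,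
        LinearEquiv.map_eq_zero_iff]
    rw [this, Submodule.ker_mkQ]
  exact length_eq_add_of_exact (f.restrictScalars Λ) (g.restrictScalars Λ)
    (by simpa using hf) (by simpa using hg) (by simpa using hex)


/-- For Λ Noetherian with a finite map to a field k, A a local Λ-algebra whose residue field is k
(through a surjective Λ-algebra map A → k) and M an A-module, the length of M over Λ equals the
degree of k over the image of Λ times the length of M over A. The degree is written as the length of
k as a Λ-module, which is the same number; lengths are in ℕ∞. -/
theorem result {Λ : Type u} {k : Type u} [CommRing Λ] [Field k] [Algebra Λ k]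
    [IsNoetherianRing Λ] [Module.Finite Λ k]
    (A : Type u) [CommRing A] [Algebra Λ A] [IsLocalRing A] [Algebra A k] [IsScalarTower Λ A k]
    (hres : Function.Surjective (algebraMap A k))
    (M : Type v) [AddCommGroup M] [Module A M] [Module Λ M] [IsScalarTower Λ A M] :
    Module.length Λ k * Module.length A M = Module.length Λ M := by
  have hk0 : Module.length Λ k ≠ 0 := by
    have : 0 < Module.length Λ k := Module.length_pos
    exact pos_iff_ne_zero.mp this
  by_cases h : IsFiniteLength A M
  · obtain ⟨s, hs_bot, hs_top⟩ := isFiniteLength_iff_exists_compositionSeries.mp h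
    rw [← Module.length_compositionSeries s hs_bot hs_top]
    suffices ∀ i, Module.length Λ (s i) = Module.length Λ k * i by
      rw [← Fin.val_last s.length, ← this, ← RelSeries.last, hs_top]
      exact ((Submodule.topEquiv (R := A) (M := M)).restrictScalars Λ).length_eq
    intro i
    induction i using Fin.induction with
    | zero =>
      rw [← RelSeries.head, hs_bot]
      simp
    | succ i hi =>
      have := covBy_length (Λ := Λ) A hres M (s.step i)
      rw [this, hi]
      simp [mul_add, mul_one]
  · have h2 : ¬ IsFiniteLength Λ M := by
      contrapose! h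
      rw [isFiniteLength_iff_isNoetherian_isArtinian] at h ⊢
      exact h.imp (isNoetherian_of_tower Λ) (isArtinian_of_tower Λ)
    rw [← Module.length_ne_top_iff, not_ne_iff] at h h2
    rw [h, h2, ENat.mul_top hk0]


end Groth.Agent.S12708
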