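import Groth.Statements.S1271
import Mathlib
import Groth.Agent.S1291
-- import your own Groth.Agent.* helpers here

set_option autoImplicit false
universe u
open FlatMor

namespace Groth.Agent.S1271

section
open Polynomial

/-- A finitely generated ideal of a localization is the extension of a finitely generated ideal. -/
lemma exists_fg_map_eq {C S : Type*} [CommRing C] [CommRing S] [Algebra C S] (M : Submonoid C)
    [IsLocalization M S] (K : Ideal S) (hK : K.FG) :
    ∃ K₀ : Ideal C, K₀.FG ∧ K₀.map (algebraMap C S) = K := by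
  obtain ⟨s, rfl⟩ := hK
  classical
  induction s using Finset.induction_on with
  | empty => exact ⟨⊥, Submodule.fg_bot, by simp⟩
  | insert x s hx ih =>
    obtain ⟨K₀, hK₀, e⟩ := ih
    obtain ⟨⟨c, m⟩, hc⟩ := IsLocalization.surj M x
    refine ⟨K₀ ⊔ Ideal.span {c}, Submodule.FG.sup hK₀ (Submodule.fg_span_singleton _), ?_⟩
    have hu : IsUnit (algebraMap C S m) := IsLocalization.map_units S m
    have e2 : Ideal.span {algebraMap C S c} = Ideal.span {x} := by
      rw [← hc]
      exact Ideal.span_singleton_mul_right_unit hu x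
    rw [Ideal.map_sup, e, Ideal.map_span, Set.image_singleton, Finset.coe_insert,
      Ideal.span_insert, sup_comm, e2]

/-- If `r` kills a finite module then some power of `r` lies in the zeroth Fitting ideal. -/
lemma mem_radical_fittingZero {R : Type u} [CommRing R] {M : Type u} [AddCommGroup M] [Module R M]
    [Module.Finite R M] (r : R) (hr : ∀ m : M, r • m = 0) :
    r ∈ (FlatCA.fittingZero R M).radical := by
  obtain ⟨n, x, hx⟩ := Module.Finite.exists_fin (R := R) (M := M)
  refine ⟨n, Ideal.subset_span ⟨n, x, Matrix.diagonal (fun _ => r), hx, ?_, by simp⟩⟩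
  intro i
  simp [Matrix.diagonal_apply, ite_smul, hr]

lemma transport {A B' S : Type*} [CommRing A] [CommRing B'] [CommRing S] [Algebra A B']
    [Algebra A S] (e : B' ≃ₐ[A] S) (I : Ideal A) (JB : Ideal B') (J'S : Ideal S)
    (hh : I.map (algebraMap A S) = JB.map (e : B' →+* S) * J'S) :
    I.map (algebraMap A B') = JB * J'S.map (e.symm : S →+* B') := by
  have h1 : I.map (algebraMap A B') = (I.map (algebraMap A S)).map (e.symm : S →+* B') := by
    rw [Ideal.map_map]
    congr 1
    ext x
    simp
  rw [h1, hh, Ideal.map_mul, Ideal.map_map]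
  have : ((e.symm : S →+* B')).comp (e : B' →+* S) = RingHom.id _ := by
    ext x; simp
  rw [this, Ideal.map_id]

theorem main_of_S1291
    (H : ∀ {A C : Type u} [CommRing A] [CommRing C] [Algebra A C] [Module.Finite A C]
      [Module.Projective A C] (d : ℕ)
      (_ : ∀ p : PrimeSpectrum A, Module.rankAtStalk (R := A) C p = d)
      (h : C) [Algebra.Etale A (Localization.Away h)] (J : Ideal C),
      ∃ J' : Ideal (Localization.Away h),
        (FlatCA.fittingZero A (C ⧸ J)).map (algebraMap A (Localization.Away h)) =
          J.map (algebraMap C (Localization.Away h)) * J' ∧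
        (J.FG → (FlatCA.fittingZero A (C ⧸ J)).FG ∧ J'.FG))
    {A B : Type u} [CommRing A] [CommRing B] [Algebra A B] [Algebra.Etale A B]
    (a : A) (J : Ideal B) (hJ : J.FG) (hJa : algebraMap A B a ∈ J.radical)
    (q : Ideal B) [q.IsPrime] :
    ∃ (I : Ideal A) (g : B) (J' : Ideal (Localization.Away g)), I.FG ∧ a ∈ I.radical ∧ g ∉ q ∧
      J'.FG ∧
      I.map (algebraMap A (Localization.Away g)) =
        J.map (algebraMap B (Localization.Away g)) * J' := by
  haveI : Algebra.FormallyEtale B (Localization.AtPrime q) :=
    Algebra.FormallyEtale.of_isLocalization q.primeCompl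
  haveI : Algebra.IsEtaleAt A q := Algebra.FormallyEtale.comp A B (Localization.AtPrime q)
  obtain ⟨g, hgq, hst⟩ := Algebra.IsEtaleAt.exists_isStandardEtale (R := A) q
  let P : StandardEtalePresentation A (Localization.Away g) :=
    hst.nonempty_standardEtalePresentation.some
  let C := AdjoinRoot P.f
  let h : C := AdjoinRoot.mk P.f P.g
  let S := Localization.Away h
  let e : Localization.Away g ≃ₐ[A] S := P.equivRing.trans P.P.equivAwayAdjoinRoot
  haveI : Module.Finite A C := P.monic_f.finite_adjoinRoot
  haveI : Module.Free A C := P.monic_f.free_adjoinRoot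
  haveI : Algebra.Etale A S := Algebra.Etale.of_equiv e
  -- the ideal of `S` corresponding to `J`
  let JS : Ideal S := (J.map (algebraMap B (Localization.Away g))).map (e : Localization.Away g →+* S)
  have hJS : JS.FG := (hJ.map _).map _
  obtain ⟨JC, hJC, hJCe⟩ := exists_fg_map_eq (Submonoid.powers h) JS hJS
  obtain ⟨N, hN⟩ := hJa
  have haN : algebraMap A S (a ^ N) ∈ JS := by
    have h1 : algebraMap B (Localization.Away g) ((algebraMap A B a) ^ N) ∈
        J.map (algebraMap B (Localization.Away g)) := Ideal.mem_map_of_mem _ hN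
    have h2 := Ideal.mem_map_of_mem (e : Localization.Away g →+* S) h1
    have h3 : (e : Localization.Away g →+* S)
        (algebraMap B (Localization.Away g) ((algebraMap A B a) ^ N)) = algebraMap A S (a ^ N) := by
      rw [← map_pow, ← IsScalarTower.algebraMap_apply A B (Localization.Away g)]
      exact e.commutes _
    rwa [h3] at h2
  let JC' : Ideal C := JC ⊔ Ideal.span {algebraMap A C (a ^ N)}
  have hJC' : JC'.FG := Submodule.FG.sup hJC (Submodule.fg_span_singleton _)
  have hJC'e : JC'.map (algebraMap C S) = JS := by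
    rw [Ideal.map_sup, hJCe, Ideal.map_span, Set.image_singleton,
      ← IsScalarTower.algebraMap_apply A C S]
    exact sup_eq_left.mpr ((Ideal.span_singleton_le_iff_mem _).mpr haN)
  obtain ⟨J'S, hfit, hfg⟩ := H (A := A) (C := C) (Module.finrank A C)
    (fun p => by rw [Module.rankAtStalk_eq_finrank_of_free]; rfl) h JC'
  obtain ⟨hIfg, hJ'fg⟩ := hfg hJC'
  refine ⟨FlatCA.fittingZero A (C ⧸ JC'), g, J'S.map (e.symm : S →+* Localization.Away g),
    hIfg, ?_, hgq, hJ'fg.map _, ?_⟩
  · have h1 : (a ^ N) ∈ (FlatCA.fittingZero A (C ⧸ JC')).radical := by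
      apply mem_radical_fittingZero
      intro m
      obtain ⟨c, rfl⟩ := Ideal.Quotient.mk_surjective m
      rw [Algebra.smul_def]
      show Ideal.Quotient.mk JC' (algebraMap A C (a ^ N)) * _ = 0
      rw [← map_mul, Ideal.Quotient.eq_zero_iff_mem]
      exact Ideal.mul_mem_right _ _ (Ideal.mem_sup_right (Ideal.subset_span rfl))
    obtain ⟨k, hk⟩ := h1
    exact ⟨N * k, by rwa [pow_mul]⟩
  · apply transport e
    rw [hfit, hJC'e]

theorem main {A B : Type u} [CommRing A] [CommRing B] [Algebra A B] [Algebra.Etale A B]
    (a : A) (J : Ideal B) (hJ : J.FG) (hJa : algebraMap A B a ∈ J.radical)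
    (q : Ideal B) [q.IsPrime] :
    ∃ (I : Ideal A) (g : B) (J' : Ideal (Localization.Away g)), I.FG ∧ a ∈ I.radical ∧ g ∉ q ∧
      J'.FG ∧
      I.map (algebraMap A (Localization.Away g)) =
        J.map (algebraMap B (Localization.Away g)) * J' :=
  main_of_S1291 (fun d hd h _ J => Groth.Agent.S1291.result d hd h J) a J hJ hJa q

end

/-- Let A → B be an étale ring map, a ∈ A a nonzerodivisor and J a finitely generated ideal of B with
V(J) ⊆ V(aB), i.e. a lies in the radical of J. Then for every prime q of B there exist a finitely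
generated ideal I of A with V(I) ⊆ V(a), an element g of B outside q, and a finitely generated ideal
J' of the localization B_g such that the extension of I to B_g equals the product of the extension
of J with J'. -/
theorem result {A B : Type u} [CommRing A] [CommRing B] [Algebra A B] [Algebra.Etale A B]
    (a : A) (ha : a ∈ nonZeroDivisors A) (J : Ideal B) (hJ : J.FG) (hJa : algebraMap A B a ∈ J.radical)
    (q : Ideal B) [q.IsPrime] :
    ∃ (I : Ideal A) (g : B) (J' : Ideal (Localization.Away g)), I.FG ∧ a ∈ I.radical ∧ g ∉ q ∧ J'.FG ∧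
      I.map (algebraMap A (Localization.Away g)) = J.map (algebraMap B (Localization.Away g)) * J' := by
  exact Groth.Agent.S1271.main a J hJ hJa q

end Groth.Agent.S1271
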