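import Groth.Statements.S12713
import Mathlib

set_option autoImplicit false
universe u v
open CategoryTheory
open ArtFun ArtFun.Art

namespace Groth.Agent.S12713

/-- A small extension f : B → A in the category of Artinian local Λ-algebras with residue field k is not
an essential surjection (some morphism g : C → B is non-surjective although the composite C → A is
surjective) if and only if f has a section A → B in the category. -/
theorem result {Λ : Type u} {k : Type u} [CommRing Λ] [Field k] [Algebra Λ k]
    [IsNoetherianRing Λ] [Module.Finite Λ k]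
    {A B : ArtFun.Art Λ k} (f : B ⟶ A) (hf : ArtFun.Art.IsSmallExt f) :
    (∃ (C : ArtFun.Art Λ k) (g : C ⟶ B), Function.Surjective (g ≫ f) ∧ ¬ Function.Surjective g) ↔
      ∃ s : A ⟶ B, s ≫ f = 𝟙 A := by
  obtain ⟨hfs, hne, hprin, hann⟩ := hf
  constructor
  · rintro ⟨C, g, hgf, hg⟩
    have hgf' : ∀ b : B, ∃ c : C, b - g c ∈ RingHom.ker f.toAlgHom := by
      intro b
      obtain ⟨c, hc⟩ := hgf (f b)
      refine ⟨c, ?_⟩
      rw [RingHom.mem_ker, map_sub, sub_eq_zero]
      exact hc.symm
    have hmk : ∀ (m : B) (x : B), m ∈ IsLocalRing.maximalIdeal B → x ∈ RingHom.ker f.toAlgHom → m * x = 0 := by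
      intro m x hm hx
      have : m * x ∈ IsLocalRing.maximalIdeal B * RingHom.ker f.toAlgHom := Ideal.mul_mem_mul hm hx
      rw [hann] at this
      exact this
    have hresC : ∀ b : B, ∃ c : C, b - g c ∈ IsLocalRing.maximalIdeal B := by
      intro b
      obtain ⟨c, hc⟩ := C.res_surjective (B.res b)
      refine ⟨c, ?_⟩
      rw [ArtFun.Art.mem_maximalIdeal_iff, map_sub, sub_eq_zero]
      change B.res b = B.res (g c)
      rw [ArtFun.Art.res_app, hc]
    -- the image of `g` meets the kernel trivially
    have hinter : ∀ c : C, g c ∈ RingHom.ker f.toAlgHom → g c = 0 := by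
      intro c hc
      by_contra hx
      apply hg
      obtain ⟨t, ht⟩ := hprin.principal
      have hxt : g c ∈ Ideal.span {t} := by
        have : g c ∈ Submodule.span B {t} := by rw [← ht]; exact hc
        exact this
      obtain ⟨u, hu⟩ := Ideal.mem_span_singleton'.1 hxt
      have htk : t ∈ RingHom.ker f.toAlgHom := by
        rw [ht]; exact Submodule.mem_span_singleton_self t
      have huu : IsUnit u := by
        by_contra hnu
        have : u ∈ IsLocalRing.maximalIdeal B := (IsLocalRing.mem_maximalIdeal u).2 hnu
        apply hx
        rw [← hu]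
        exact hmk u t this htk
      obtain ⟨v, hv⟩ := huu.exists_left_inv
      obtain ⟨c₁, hc₁⟩ := hresC v
      have htC : t = g (c₁ * c) := by
        have h1 : t = v * g c := by rw [← hu, ← mul_assoc, hv, one_mul]
        have h2 : (v - g c₁) * g c = 0 := hmk _ _ hc₁ hc
        have h3 : g (c₁ * c) = g c₁ * g c := map_mul g.toAlgHom c₁ c
        rw [h3, h1]
        linear_combination h2
      intro b
      obtain ⟨c₂, hc₂⟩ := hgf' b
      have hb : b - g c₂ ∈ Ideal.span {t} := by
        have : b - g c₂ ∈ Submodule.span B {t} := by rw [← ht]; exact hc₂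
        exact this
      obtain ⟨w, hw⟩ := Ideal.mem_span_singleton'.1 hb
      obtain ⟨c₃, hc₃⟩ := hresC w
      have h4 : (w - g c₃) * t = 0 := hmk _ _ hc₃ htk
      refine ⟨c₂ + c₃ * (c₁ * c), ?_⟩
      have h5 : g (c₂ + c₃ * (c₁ * c)) = g c₂ + g c₃ * g (c₁ * c) := by
        change g.toAlgHom _ = _
        rw [map_add, map_mul]
      rw [h5, ← htC]
      linear_combination hw - h4
    have hinjC : ∀ c c' : C, f (g c) = f (g c') → g c = g c' := by
      intro c c' h
      have h1 : g (c - c') = 0 := by
        apply hinter
        rw [RingHom.mem_ker]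
        change f (g.toAlgHom (c - c')) = 0
        rw [map_sub]
        change f.toAlgHom (g c - g c') = 0
        rw [map_sub, sub_eq_zero]
        exact h
      have h2 : g (c - c') = g c - g c' := map_sub g.toAlgHom c c'
      rw [h2, sub_eq_zero] at h1
      exact h1
    choose τ hτ using hgf
    have hτ' : ∀ a, f (g (τ a)) = a := hτ
    let s : A →ₐ[Λ] B :=
      { toFun := fun a => g (τ a)
        map_one' := by
          have : g (τ 1) = g 1 := hinjC _ _ (by
            rw [hτ']
            have : g (1 : C) = 1 := map_one g.toAlgHom
            rw [this]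
            exact (map_one f.toAlgHom).symm)
          rw [this]
          exact map_one g.toAlgHom
        map_mul' := fun a a' => by
          have : g (τ (a * a')) = g (τ a * τ a') := hinjC _ _ (by
            rw [hτ']
            have h1 : g (τ a * τ a') = g (τ a) * g (τ a') := map_mul g.toAlgHom _ _
            rw [h1]
            have h2 : f (g (τ a) * g (τ a')) = f (g (τ a)) * f (g (τ a')) := map_mul f.toAlgHom _ _
            rw [h2, hτ', hτ'])
          rw [this]
          exact map_mul g.toAlgHom _ _
        map_zero' := by
          have : g (τ 0) = g 0 := hinjC _ _ (by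
            rw [hτ']
            have : g (0 : C) = 0 := map_zero g.toAlgHom
            rw [this]
            exact (map_zero f.toAlgHom).symm)
          rw [this]
          exact map_zero g.toAlgHom
        map_add' := fun a a' => by
          have : g (τ (a + a')) = g (τ a + τ a') := hinjC _ _ (by
            rw [hτ']
            have h1 : g (τ a + τ a') = g (τ a) + g (τ a') := map_add g.toAlgHom _ _
            rw [h1]
            have h2 : f (g (τ a) + g (τ a')) = f (g (τ a)) + f (g (τ a')) := map_add f.toAlgHom _ _
            rw [h2, hτ', hτ'])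
          rw [this]
          exact map_add g.toAlgHom _ _
        commutes' := fun l => by
          have : g (τ (algebraMap Λ A l)) = g (algebraMap Λ C l) := hinjC _ _ (by
            rw [hτ']
            have h1 : g (algebraMap Λ C l) = algebraMap Λ B l := g.toAlgHom.commutes l
            rw [h1]
            exact (f.toAlgHom.commutes l).symm)
          change g (τ (algebraMap Λ A l)) = _
          rw [this]
          exact g.toAlgHom.commutes l }
    have hsf : ∀ a, f (s a) = a := hτ'
    refine ⟨⟨s, ?_⟩, ?_⟩
    · apply AlgHom.ext
      intro a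
      change B.res (s a) = A.res a
      rw [← ArtFun.Art.res_app f (s a), hsf]
    · apply ArtFun.Art.hom_ext
      apply AlgHom.ext
      intro a
      exact hsf a
  · rintro ⟨s, hs⟩
    refine ⟨A, s, ?_, ?_⟩
    · rw [hs]
      exact Function.surjective_id
    · intro hsurj
      apply hne
      rw [eq_bot_iff]
      intro b hb
      obtain ⟨a, rfl⟩ := hsurj b
      have h1 : f (s a) = a := congrArg (fun t : A ⟶ A => t a) hs
      rw [RingHom.mem_ker] at hb
      have h2 : a = 0 := by rw [← h1]; exact hb
      rw [h2]
      change s.toAlgHom 0 ∈ _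
      rw [map_zero]
      exact Submodule.zero_mem _


end Groth.Agent.S12713
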