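import Groth.Statements.S12727
import Groth.Agent.Lib.Helper18.ArtFunBasic

set_option autoImplicit false
universe u v
open CategoryTheory
open ArtFun

namespace Groth.Agent.S12727

theorem surjective_app_of_isVersal {Λ : Type u} {k : Type u} [CommRing Λ] [Field k] [Algebra Λ k]
    {F : ArtFun.Art Λ k ⥤ Type v} (h0 : ArtFun.H0 F)
    {R : Type u} [CommRing R] [Algebra Λ R] {resR : R →ₐ[Λ] k}
    (ξ : ArtFun.Family R resR F) (hξ : ArtFun.IsVersal ξ) (A : ArtFun.Art Λ k) :
    Function.Surjective (ξ.app A) := by
  intro y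
  haveI := h0.2
  have h1 : F.map (ArtFun.Art.toBase A) y = ξ.app _ Groth.Agent.Helper18.homSetBase :=
    Subsingleton.elim _ _
  obtain ⟨ψ, -, hψ⟩ := hξ (ArtFun.Art.toBase A) (Groth.Agent.Helper18.toBase_surjective A)
    Groth.Agent.Helper18.homSetBase y h1
  exact ⟨ψ, hψ⟩


/-- For functors, a functor on Artinian local Λ-algebras with residue field k with F(k) a point which
admits a versal family (over a complete local Noetherian ring with residue field k) satisfies
condition (S1). -/
theorem result {Λ : Type u} {k : Type u} [CommRing Λ] [Field k] [Algebra Λ k]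
    [IsNoetherianRing Λ] [Module.Finite Λ k]
    (F : ArtFun.Art Λ k ⥤ Type v) (h0 : ArtFun.H0 F) (hv : ArtFun.HasVersal F) :
    ArtFun.S1 F := by
  obtain ⟨V⟩ := hv
  intro B A A' A'' p' p'' f' f'' h hf
  exact Groth.Agent.Helper18.cmp_surjective_of_isVersal V.family V.versal
    (surjective_app_of_isVersal h0 V.family V.versal) h hf

end Groth.Agent.S12727
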