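import Groth.Statements.S12735
import Groth.Agent.Lib.Helper18.ArtFunDer
import Groth.Agent.Lib.Helper18.ArtFunFormal

set_option autoImplicit false
universe u v
open CategoryTheory
open ArtFun

namespace Groth.Agent.S12735

/-- Let U be a prorepresentable functor on Artinian local Λ-algebras with residue field k and φ : U → U
an endomorphism of functors which is bijective on the tangent space U(k[ε]). Then φ is an
isomorphism: every component is bijective. -/
theorem result {Λ : Type u} {k : Type u} [CommRing Λ] [Field k] [Algebra Λ k]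
    [IsNoetherianRing Λ] [Module.Finite Λ k]
    {U : ArtFun.Art Λ k ⥤ Type v} (hU : ArtFun.IsProrepresentable U)
    (φ : U ⟶ U) (hd : Function.Bijective (ArtFun.TangentSpace.map φ)) (A : ArtFun.Art Λ k) :
    Function.Bijective (φ.app A) := by
  obtain ⟨⟨R, ξ, hξ⟩⟩ := hU
  obtain ⟨g, hg, hgξ⟩ := Groth.Agent.Helper18.exists_along_eq_of_isVersal ξ
    (Groth.Agent.Helper18.isVersal_of_isUniversal ξ hξ) (fun A => (hξ A).2) R (ξ.push φ)
  -- `ξ (ψ ∘ g) = φ (ξ ψ)`
  have hkey : ∀ (B : ArtFun.Art Λ k) (ψ : ArtFun.HomSet R.carrier R.res B),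
      ξ.app B ⟨ψ.1.comp g, by rw [← AlgHom.comp_assoc, ψ.2, hg]⟩ = φ.app B (ξ.app B ψ) := by
    intro B ψ
    exact congrArg (fun η : ArtFun.Family R.carrier R.res U => η.app B ψ) hgξ
  have hsurj : Function.Surjective g := by
    apply Groth.Agent.Helper18.surjective_of_homSet_dual_injective R R g hg
    intro φ₁ φ₂ h
    apply (hξ _).1
    apply hd.1
    change φ.app _ (ξ.app _ φ₁) = φ.app _ (ξ.app _ φ₂)
    rw [← hkey, ← hkey]
    congr 1
    exact Subtype.ext h
  have hinj : Function.Injective g :=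
    Groth.Agent.Helper18.injective_of_surjective_ringEnd (g : R.carrier →+* R.carrier) hsurj
  let e : R.carrier ≃ₐ[Λ] R.carrier := AlgEquiv.ofBijective g ⟨hinj, hsurj⟩
  have he : ∀ r, g (e.symm r) = r := fun r => e.apply_symm_apply r
  have he' : ∀ r, e.symm (g r) = r := fun r => e.symm_apply_apply r
  have hres : R.res.comp (e.symm : R.carrier →ₐ[Λ] R.carrier) = R.res := by
    apply AlgHom.ext
    intro r
    change R.res (e.symm r) = R.res r
    have h1 : R.res (g (e.symm r)) = R.res (e.symm r) :=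
      congrArg (fun t : R.carrier →ₐ[Λ] k => t (e.symm r)) hg
    rw [← h1, he]
  constructor
  · intro x y hxy
    obtain ⟨ψ₁, rfl⟩ := (hξ A).2 x
    obtain ⟨ψ₂, rfl⟩ := (hξ A).2 y
    rw [← hkey, ← hkey] at hxy
    have h1 := (hξ A).1 hxy
    have h2 : ψ₁.1.comp g = ψ₂.1.comp g := congrArg Subtype.val h1
    have h3 : ψ₁ = ψ₂ := by
      apply Subtype.ext
      apply AlgHom.ext
      intro r
      have := congrArg (fun t : R.carrier →ₐ[Λ] A => t (e.symm r)) h2
      simpa [he] using this
    rw [h3]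
  · intro y
    obtain ⟨ψ, rfl⟩ := (hξ A).2 y
    refine ⟨ξ.app A ⟨ψ.1.comp (e.symm : R.carrier →ₐ[Λ] R.carrier), by
      rw [← AlgHom.comp_assoc, ψ.2, hres]⟩, ?_⟩
    rw [← hkey]
    congr 1
    apply Subtype.ext
    apply AlgHom.ext
    intro r
    change ψ.1 (e.symm (g r)) = ψ.1 r
    rw [he']


end Groth.Agent.S12735
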