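import Groth.Statements.S12738
import Groth.Agent.Lib.Helper18.ArtFunCmp

set_option autoImplicit false
universe u v
open CategoryTheory
open ArtFun

namespace Groth.Agent.S12738

/-- For functors, condition (RS) on a functor F on Artinian local Λ-algebras with residue field k
(bijectivity of F(A₁ ×_A A₂) → F(A₁) ×_{F(A)} F(A₂) for A₂ → A surjective) follows from the same
condition for small extensions A₂ → A. -/
theorem result {Λ : Type u} {k : Type u} [CommRing Λ] [Field k] [Algebra Λ k]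
    [IsNoetherianRing Λ] [Module.Finite Λ k]
    (F : ArtFun.Art Λ k ⥤ Type v)
    (h : ∀ ⦃B A A' A'' : ArtFun.Art Λ k⦄ (p' : B ⟶ A') (p'' : B ⟶ A'') (f' : A' ⟶ A) (f'' : A'' ⟶ A)
        (h : ArtFun.Art.IsFibreProd p' p'' f' f''), ArtFun.Art.IsSmallExt f'' → Function.Bijective (ArtFun.cmp F h)) :
    (∀ ⦃B A A' A'' : ArtFun.Art Λ k⦄ (p' : B ⟶ A') (p'' : B ⟶ A'') (f' : A' ⟶ A) (f'' : A'' ⟶ A)
        (h : ArtFun.Art.IsFibreProd p' p'' f' f''), Function.Surjective f'' → Function.Bijective (ArtFun.cmp F h)) := by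
  intro B A A' A'' p' p'' f' f'' h' hf
  constructor
  · exact Groth.Agent.Helper18.pInj_of_surjective
      (fun A'' A g hg B A' p' p'' f' h₀ => (h p' p'' f' g h₀ hg).1) f'' hf p' p'' f' h'
  · exact Groth.Agent.Helper18.pSurj_of_surjective
      (fun A'' A g hg B A' p' p'' f' h₀ => (h p' p'' f' g h₀ hg).2) f'' hf p' p'' f' h' 

end Groth.Agent.S12738
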