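import Groth.Statements.S12744
import Groth.Agent.Lib.Helper18.ArtFunComplete

set_option autoImplicit false
universe u v
open CategoryTheory
open ArtFun

namespace Groth.Agent.S12744

/-- For functors, if η : F → G is a smooth morphism of functors on Artinian local Λ-algebras with
residue field k and F(k) → G(k) is surjective, then for every complete local Noetherian R with
residue field k the induced map on formal elements over R (compatible systems of elements over the
truncations R/m^(n+1)) is surjective. -/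
theorem result {Λ : Type u} {k : Type u} [CommRing Λ] [Field k] [Algebra Λ k]
    [IsNoetherianRing Λ] [Module.Finite Λ k]
    {F G : ArtFun.Art Λ k ⥤ Type v} (η : F ⟶ G) (hη : ArtFun.IsSmooth η)
    (h0 : Function.Surjective (η.app (ArtFun.Art.base Λ k))) (R : ArtFun.CRing Λ k) :
    Function.Surjective (fun u : ArtFun.FormalElt F R => u.map η) := by
  intro v
  have h00 : ∃ u₀ : F.obj (R.trunc 0), η.app _ u₀ = v.elt 0 := by
    obtain ⟨x, hx⟩ := h0 (G.map (ArtFun.Art.toBase (R.trunc 0)) (v.elt 0))
    obtain ⟨z, hz⟩ := hη (ArtFun.Art.toBase (R.trunc 0)) (Groth.Agent.Helper18.toBase_surjective _)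
      ⟨(x, v.elt 0), hx⟩
    exact ⟨z, congrArg (fun t => t.1.2) hz⟩
  obtain ⟨u₀, hu₀⟩ := h00
  have step : ∀ (n : ℕ) (u : F.obj (R.trunc n)), η.app _ u = v.elt n →
      ∃ u' : F.obj (R.trunc (n + 1)), F.map (R.truncMap n) u' = u ∧ η.app _ u' = v.elt (n + 1) := by
    intro n u hu
    obtain ⟨z, hz⟩ := hη (R.truncMap n) (Groth.Agent.Helper18.truncMap_surjective R n)
      ⟨(u, v.elt (n + 1)), hu.trans (v.compat n).symm⟩
    exact ⟨z, congrArg (fun t => t.1.1) hz, congrArg (fun t => t.1.2) hz⟩
  let U : ∀ n, {u : F.obj (R.trunc n) // η.app _ u = v.elt n} := fun n =>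
    Nat.rec ⟨u₀, hu₀⟩ (fun n p => ⟨(step n p.1 p.2).choose, (step n p.1 p.2).choose_spec.2⟩) n
  refine ⟨⟨fun n => (U n).1, fun n => (step n (U n).1 (U n).2).choose_spec.1⟩, ?_⟩
  apply ArtFun.FormalElt.ext'
  intro n
  exact (U n).2


end Groth.Agent.S12744
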