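import Groth.Statements.S12747
import Groth.Agent.Lib.Helper18.ArtFunPullback
import Groth.Agent.Lib.Helper18.ArtFunRS2
import Groth.Agent.S12717

set_option autoImplicit false
universe u v
open CategoryTheory
open ArtFun

namespace Groth.Agent.S12747

/-- For functors, let H₁ → G, H₂ → G and q : G → F be morphisms of functors on Artinian local Λ-algebras
with residue field k where F and G are deformation functors (value at k a point, condition (RS)) and
q is injective on tangent spaces. Then the induced morphism H₁ ×_G H₂ → H₁ ×_F H₂ is smooth. (The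
published statement also assumes that infinitesimal automorphisms of G map onto those of F; for
functors that condition is empty.) -/
theorem result {Λ : Type u} {k : Type u} [CommRing Λ] [Field k] [Algebra Λ k]
    [IsNoetherianRing Λ] [Module.Finite Λ k]
    {F G H₁ H₂ : ArtFun.Art Λ k ⥤ Type v} (p₁ : H₁ ⟶ G) (p₂ : H₂ ⟶ G) (q : G ⟶ F)
    (hF0 : ArtFun.H0 F) (hF : (∀ ⦃B A A' A'' : ArtFun.Art Λ k⦄ (p' : B ⟶ A') (p'' : B ⟶ A'') (f' : A' ⟶ A) (f'' : A'' ⟶ A)
        (h : ArtFun.Art.IsFibreProd p' p'' f' f''), Function.Surjective f'' → Function.Bijective (ArtFun.cmp F h)))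
    (hG0 : ArtFun.H0 G) (hG : (∀ ⦃B A A' A'' : ArtFun.Art Λ k⦄ (p' : B ⟶ A') (p'' : B ⟶ A'') (f' : A' ⟶ A) (f'' : A'' ⟶ A)
        (h : ArtFun.Art.IsFibreProd p' p'' f' f''), Function.Surjective f'' → Function.Bijective (ArtFun.cmp G h)))
    (hq : Function.Injective (ArtFun.TangentSpace.map q)) :
    ArtFun.IsSmooth (CategoryTheory.Limits.pullback.map p₁ p₂ (p₁ ≫ q) (p₂ ≫ q) (𝟙 H₁) (𝟙 H₂) q
      (CategoryTheory.Category.id_comp _).symm (CategoryTheory.Category.id_comp _).symm) := by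
  have hq' : Function.Injective (q.app (ArtFun.Art.dual Λ k)) := hq
  apply Groth.Agent.S12717.result
  intro B A μ hμ
  rintro ⟨⟨x, y⟩, hxy⟩
  dsimp only at hxy
  set Φ := CategoryTheory.Limits.pullback.map p₁ p₂ (p₁ ≫ q) (p₂ ≫ q) (𝟙 H₁) (𝟙 H₂) q
      (CategoryTheory.Category.id_comp _).symm (CategoryTheory.Category.id_comp _).symm with hΦ
  have hΦ1 : ∀ (C : ArtFun.Art Λ k) (z : (CategoryTheory.Limits.pullback p₁ p₂).obj C),
      (CategoryTheory.Limits.pullback.fst (p₁ ≫ q) (p₂ ≫ q)).app C (Φ.app C z) =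
        (CategoryTheory.Limits.pullback.fst p₁ p₂).app C z := by
    intro C z
    have h1 : Φ ≫ CategoryTheory.Limits.pullback.fst (p₁ ≫ q) (p₂ ≫ q) =
        CategoryTheory.Limits.pullback.fst p₁ p₂ ≫ 𝟙 H₁ :=
      CategoryTheory.Limits.pullback.lift_fst _ _ _
    exact congrFun (congrArg (fun t => t.app C) h1) z
  have hΦ2 : ∀ (C : ArtFun.Art Λ k) (z : (CategoryTheory.Limits.pullback p₁ p₂).obj C),
      (CategoryTheory.Limits.pullback.snd (p₁ ≫ q) (p₂ ≫ q)).app C (Φ.app C z) =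
        (CategoryTheory.Limits.pullback.snd p₁ p₂).app C z := by
    intro C z
    have h1 : Φ ≫ CategoryTheory.Limits.pullback.snd (p₁ ≫ q) (p₂ ≫ q) =
        CategoryTheory.Limits.pullback.snd p₁ p₂ ≫ 𝟙 H₂ :=
      CategoryTheory.Limits.pullback.lift_snd _ _ _
    exact congrFun (congrArg (fun t => t.app C) h1) z
  set h₁ := (CategoryTheory.Limits.pullback.fst (p₁ ≫ q) (p₂ ≫ q)).app B y with hh₁
  set h₂ := (CategoryTheory.Limits.pullback.snd (p₁ ≫ q) (p₂ ≫ q)).app B y with hh₂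
  have hq : q.app B (p₁.app B h₁) = q.app B (p₂.app B h₂) :=
    Groth.Agent.Helper18.pb_condition (p₁ ≫ q) (p₂ ≫ q) y
  have hx1 : (CategoryTheory.Limits.pullback.fst p₁ p₂).app A x = H₁.map μ h₁ := by
    rw [← hΦ1, hxy, hh₁, NatTrans.naturality_apply]
  have hx2 : (CategoryTheory.Limits.pullback.snd p₁ p₂).app A x = H₂.map μ h₂ := by
    rw [← hΦ2, hxy, hh₂, NatTrans.naturality_apply]
  have hA : G.map μ (p₁.app B h₁) = G.map μ (p₂.app B h₂) := by
    rw [← NatTrans.naturality_apply p₁, ← NatTrans.naturality_apply p₂, ← hx1, ← hx2]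
    exact Groth.Agent.Helper18.pb_condition p₁ p₂ x
  have hg : p₁.app B h₁ = p₂.app B h₂ :=
    Groth.Agent.Helper18.eq_of_small hG hF q hq' μ hμ _ _ hA hq
  obtain ⟨z, hz1, hz2⟩ := Groth.Agent.Helper18.pb_exists p₁ p₂ h₁ h₂ hg
  refine ⟨z, ?_⟩
  apply Subtype.ext
  apply Prod.ext
  · change (CategoryTheory.Limits.pullback p₁ p₂).map μ z = x
    apply Groth.Agent.Helper18.pb_ext
    · rw [NatTrans.naturality_apply, hz1, hx1]
    · rw [NatTrans.naturality_apply, hz2, hx2]
  · change Φ.app B z = y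
    apply Groth.Agent.Helper18.pb_ext
    · rw [hΦ1, hz1]
    · rw [hΦ2, hz2]


end Groth.Agent.S12747
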