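import Groth.Statements.S12750
import Mathlib
import Groth.Agent.S12709
import Groth.Agent.Lib.Helper18.ArtFunFibre
import Groth.Agent.Lib.Helper18.ArtFunBasic

set_option autoImplicit false
universe u v
open CategoryTheory
open ArtFun ArtFun.Art

namespace Groth.Agent.S12750

theorem principle {Λ : Type u} {k : Type u} [CommRing Λ] [Field k] [Algebra Λ k]
    [IsNoetherianRing Λ] [Module.Finite Λ k]
    {C B B' : ArtFun.Art Λ k} (g : C ⟶ B) (qB : B ⟶ B')
    (hkB : RingHom.ker qB.toAlgHom = Ideal.map (algebraMap Λ B) (RingHom.ker (algebraMap Λ k)) ⊔ IsLocalRing.maximalIdeal B ^ 2)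
    (h : Function.Surjective (g ≫ qB)) : Function.Surjective g := by
  apply ((Groth.Agent.S12709.result g).out 2 0).1
  have hloc : Ideal.map g.toAlgHom (IsLocalRing.maximalIdeal C) ≤ IsLocalRing.maximalIdeal B := by
    rw [Ideal.map_le_iff_le_comap]
    intro a ha
    rw [Ideal.mem_comap, ArtFun.Art.mem_maximalIdeal_iff]
    rw [ArtFun.Art.mem_maximalIdeal_iff] at ha
    change B.res (g a) = 0
    rw [ArtFun.Art.res_app, ha]
  have hΛ : Ideal.map (algebraMap Λ B) (RingHom.ker (algebraMap Λ k)) ≤ IsLocalRing.maximalIdeal B := by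
    rw [Ideal.map_le_iff_le_comap]
    intro l hl
    rw [Ideal.mem_comap, ArtFun.Art.mem_maximalIdeal_iff, AlgHom.commutes]
    exact hl
  apply le_antisymm
  · exact sup_le (sup_le hΛ hloc) (Ideal.pow_le_self two_ne_zero)
  · intro b hb
    obtain ⟨c, hc⟩ := h (qB b)
    have hc' : qB (g c) = qB b := hc
    have hcm : c ∈ IsLocalRing.maximalIdeal C := by
      rw [ArtFun.Art.mem_maximalIdeal_iff] at hb ⊢
      rw [← ArtFun.Art.res_app g, ← ArtFun.Art.res_app qB, hc', ArtFun.Art.res_app, hb]
    have hker : b - g c ∈ RingHom.ker qB.toAlgHom := by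
      rw [RingHom.mem_ker, map_sub, sub_eq_zero]
      exact hc'.symm
    rw [hkB] at hker
    have : b = g c + (b - g c) := by ring
    rw [this]
    apply Ideal.add_mem
    · exact Ideal.mem_sup_left (Ideal.mem_sup_right (Ideal.mem_map_of_mem _ hcm))
    · rcases Submodule.mem_sup.1 hker with ⟨x, hx, y, hy, hxy⟩
      rw [← hxy]
      apply Ideal.add_mem
      · exact Ideal.mem_sup_left (Ideal.mem_sup_left hx)
      · exact Ideal.mem_sup_right hy


/-- (1) ⇔ (3): let f : B → A be a morphism in the category of Artinian local Λ-algebras with residue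
field k, and let q_B : B → B', q_A : A → A' be the quotients by m_Λ B + m_B² and m_Λ A + m_A² (m_Λ
the kernel of Λ → k), realised as surjective morphisms with these kernels, with f' : B' → A' the
induced morphism. Then f is an essential surjection — surjective, and every morphism g into B whose
composite with f is surjective is itself surjective — if and only if f' is. (The intermediate
equivalence with the map B/m_B² → A/m_A² is the special case Λ-structure trivialised and follows by
applying this one twice.) -/
theorem result {Λ : Type u} {k : Type u} [CommRing Λ] [Field k] [Algebra Λ k]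
    [IsNoetherianRing Λ] [Module.Finite Λ k]
    {A B A' B' : ArtFun.Art Λ k} (f : B ⟶ A)
    (qB : B ⟶ B') (hqB : Function.Surjective qB)
    (hkB : RingHom.ker qB.toAlgHom = Ideal.map (algebraMap Λ B) (RingHom.ker (algebraMap Λ k)) ⊔ IsLocalRing.maximalIdeal B ^ 2)
    (qA : A ⟶ A') (hqA : Function.Surjective qA)
    (hkA : RingHom.ker qA.toAlgHom = Ideal.map (algebraMap Λ A) (RingHom.ker (algebraMap Λ k)) ⊔ IsLocalRing.maximalIdeal A ^ 2)
    (f' : B' ⟶ A') (hf' : qB ≫ f' = f ≫ qA) :
    (Function.Surjective f ∧ ∀ (C : ArtFun.Art Λ k) (g : C ⟶ B), Function.Surjective (g ≫ f) → Function.Surjective g) ↔ (Function.Surjective f' ∧ ∀ (C : ArtFun.Art Λ k) (g : C ⟶ B'), Function.Surjective (g ≫ f') → Function.Surjective g) := by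
  constructor
  · rintro ⟨hfs, hess⟩
    have hf's : Function.Surjective f' := by
      have h1 : Function.Surjective (qB ≫ f') := by
        rw [hf']
        exact hqA.comp hfs
      exact Function.Surjective.of_comp h1
    refine ⟨hf's, ?_⟩
    intro C' g' hg'
    let C := Groth.Agent.Helper18.fibreProd g' qB hqB
    let p₁ : C ⟶ C' := Groth.Agent.Helper18.fibreProd.fst g' qB hqB
    let p₂ : C ⟶ B := Groth.Agent.Helper18.fibreProd.snd g' qB hqB
    have hsq := Groth.Agent.Helper18.isFibreProd_fibreProd g' qB hqB
    have hp₁ : Function.Surjective p₁ := Groth.Agent.Helper18.surjective_fst_of_isFibreProd hsq hqB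
    have h2 : Function.Surjective ((p₂ ≫ f) ≫ qA) := by
      have : (p₂ ≫ f) ≫ qA = p₁ ≫ (g' ≫ f') := by
        rw [Category.assoc, ← hf', ← Category.assoc, ← hsq.w, Category.assoc]
      rw [this]
      exact hg'.comp hp₁
    have h3 : Function.Surjective (p₂ ≫ f) := principle (p₂ ≫ f) qA hkA h2
    have h4 : Function.Surjective p₂ := hess C p₂ h3
    have h5 : Function.Surjective (p₁ ≫ g') := by
      rw [hsq.w]
      exact hqB.comp h4
    exact Function.Surjective.of_comp h5
  · rintro ⟨hf's, hess⟩
    have hfs : Function.Surjective f := by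
      apply principle f qA hkA
      rw [← hf']
      exact hf's.comp hqB
    refine ⟨hfs, ?_⟩
    intro C g hg
    apply principle g qB hkB
    apply hess C (g ≫ qB)
    have : (g ≫ qB) ≫ f' = (g ≫ f) ≫ qA := by
      rw [Category.assoc, hf', ← Category.assoc]
    rw [this]
    exact hqA.comp hg


end Groth.Agent.S12750
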