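import Groth.Statements.S12751
import Mathlib
import Groth.Agent.Lib.Helper18.DerivationSurj

set_option autoImplicit false
universe u v
open CategoryTheory
open scoped TensorProduct
open ArtFun ArtFun.Art

namespace Groth.Agent.S12751

/-- A morphism f : B → A in the category of Artinian local Λ-algebras with residue field k is surjective
if and only if Ω_{B/Λ} ⊗_B k → Ω_{A/Λ} ⊗_A k is surjective; by right exactness of the sequence
Ω_{B/Λ} ⊗_B A → Ω_{A/Λ} → Ω_{A/B} → 0 this surjectivity is the vanishing of Ω_{A/B} ⊗_A k, which is
how it is written here (A a B-algebra through f, k an A-module through the augmentation). -/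
theorem result {Λ : Type u} {k : Type u} [CommRing Λ] [Field k] [Algebra Λ k]
    [IsNoetherianRing Λ] [Module.Finite Λ k]
    {A B : ArtFun.Art Λ k} (f : B ⟶ A) :
    letI : Algebra B A := f.toAlgHom.toRingHom.toAlgebra
    letI : Algebra A k := A.res.toRingHom.toAlgebra
    Function.Surjective f ↔ Subsingleton (k ⊗[A] Ω[A⁄B]) := by
  letI algBA : Algebra B A := f.toAlgHom.toRingHom.toAlgebra
  letI algAk : Algebra A k := A.res.toRingHom.toAlgebra
  change Function.Surjective f ↔ Subsingleton (k ⊗[A] Ω[A⁄B])
  constructor
  · intro hs
    haveI : Subsingleton (Ω[A⁄B]) := KaehlerDifferential.subsingleton_of_surjective B A hs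
    infer_instance
  · intro hsub
    letI algBk : Algebra B k := ((algebraMap A k).comp (algebraMap B A)).toAlgebra
    haveI tower : IsScalarTower B A k := IsScalarTower.of_algebraMap_eq (fun _ => rfl)
    have hresA : Function.Surjective (algebraMap A k) := A.res_surjective
    have hresB : Function.Surjective (Algebra.ofId B k) := by
      intro c
      obtain ⟨b, hb⟩ := B.res_surjective c
      refine ⟨b, ?_⟩
      change A.res (f b) = c
      rw [ArtFun.Art.res_app, hb]
    have key := Groth.Agent.Helper18.surjective_of_derivation_ext (Λ := B) (k := k) (R := B) (S := A)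
      hresA (Algebra.ofId B k) hresB (Algebra.ofId B A) (Subsingleton.elim _ _) ?_
    · exact key
    · intro D₁ D₂ _
      have hzero : ∀ D : Derivation B A k, D = 0 := by
        intro D
        apply Derivation.ext
        intro a
        let l : Ω[A⁄B] →ₗ[A] k := D.liftKaehlerDifferential
        let μ : k ⊗[A] Ω[A⁄B] →ₗ[A] k := TensorProduct.lift ((LinearMap.mul A k).compl₂ l)
        have h1 : μ ((1 : k) ⊗ₜ[A] KaehlerDifferential.D B A a) = D a := by
          change (1 : k) * l (KaehlerDifferential.D B A a) = D a
          rw [one_mul]
          exact D.liftKaehlerDifferential_comp_D a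
        have h2 : ((1 : k) ⊗ₜ[A] KaehlerDifferential.D B A a) = 0 := Subsingleton.elim _ _
        rw [h2, map_zero] at h1
        rw [← h1]
        rfl
      rw [hzero D₁, hzero D₂]


end Groth.Agent.S12751
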