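import Groth.Statements.S12753
import Groth.Agent.Lib.Helper18.Schl.RelCot3

set_option autoImplicit false
universe u v
open CategoryTheory
open ArtFun ArtFun.Art

namespace Groth.Agent.S12753

open Groth.Agent.Helper18

/-- Suppose k is separable over the image of Λ → k. A morphism f : B → A in the category of Artinian
local Λ-algebras with residue field k is an essential surjection (surjective, and any morphism g
into B with g followed by f surjective is surjective) if and only if the map of cotangent spaces
relative to Λ, m_B/(m_Λ B + m_B²) → m_A/(m_Λ A + m_A²), is an isomorphism; surjectivity and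
injectivity are written out in terms of ideals, m_Λ being the kernel of Λ → k. -/
theorem result {Λ : Type u} {k : Type u} [CommRing Λ] [Field k] [Algebra Λ k]
    [IsNoetherianRing Λ] [Module.Finite Λ k]
    [Algebra.IsSeparable (↥(algebraMap Λ k).range) k]
    {A B : ArtFun.Art Λ k} (f : B ⟶ A) :
    (Function.Surjective f ∧ ∀ (C : ArtFun.Art Λ k) (g : C ⟶ B), Function.Surjective (g ≫ f) → Function.Surjective g) ↔
      (Ideal.map (algebraMap Λ A) (RingHom.ker (algebraMap Λ k)) ⊔ Ideal.map f.toAlgHom (IsLocalRing.maximalIdeal B) ⊔ IsLocalRing.maximalIdeal A ^ 2 =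
          IsLocalRing.maximalIdeal A ∧
        ∀ b ∈ IsLocalRing.maximalIdeal B, f b ∈ Ideal.map (algebraMap Λ A) (RingHom.ker (algebraMap Λ k)) ⊔ IsLocalRing.maximalIdeal A ^ 2 →
          b ∈ Ideal.map (algebraMap Λ B) (RingHom.ker (algebraMap Λ k)) ⊔ IsLocalRing.maximalIdeal B ^ 2) := by
  classical
  constructor
  · rintro ⟨hf, hess⟩
    have hfmap : Ideal.map (f.toAlgHom : B →+* A) (IsLocalRing.maximalIdeal B) =
        IsLocalRing.maximalIdeal A :=
      IsLocalRing.map_maximalIdeal_of_surjective (f.toAlgHom : B →+* A) hf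
    constructor
    · apply le_antisymm
      · refine sup_le (sup_le ?_ ?_) (Ideal.pow_le_self two_ne_zero)
        · exact le_sup_left.trans (relIdeal_le_maximalIdeal A)
        · exact hfmap.le
      · exact hfmap.ge.trans (le_sup_right.trans le_sup_left)
    · intro b hbm hfb
      by_contra hb
      obtain ⟨φ, hφ⟩ := exists_dual_hom_of_notMem B b hbm hb
      obtain ⟨C, p₁, p₂, hfp⟩ :=
        exists_isFibreProd_of_isSeparable φ (Art.baseToDual : Art.base Λ k ⟶ Art.dual Λ k)
      have hns : ¬ Function.Surjective p₁ := by
        intro hsurj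
        obtain ⟨z, hz⟩ := hsurj b
        have h1 := hfp.w_apply z
        rw [hz] at h1
        apply hφ
        rw [h1, dsnd_baseToDual]
      apply hns
      apply hess C p₁
      apply art_surjective_of_map_sup_sq
      intro a ha
      obtain ⟨x, rfl⟩ := hf a
      have hx : B.res x = 0 := by
        rw [← Art.res_app f]
        exact (Art.mem_maximalIdeal_iff A _).1 ha
      have hbres : B.res b = 0 := (Art.mem_maximalIdeal_iff B b).1 hbm
      obtain ⟨β, hβ⟩ := B.res_surjective (dsnd (φ x) / dsnd (φ b))
      have hx'0 : φ (x - β * b) = 0 := by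
        have h1 : x = (x - β * b) + β * b := by ring
        have h2 : φ x = φ (x - β * b) + φ β * φ b := by
          conv_lhs => rw [h1]
          rw [map_add φ.toAlgHom, map_mul φ.toAlgHom]
        apply dual_ext
        · rw [dfst_eq_res, Art.res_app, map_sub, map_mul, hx, hbres, mul_zero, sub_zero]
          rfl
        · have h3 := congrArg dsnd h2
          rw [dsnd_add, dsnd_mul, dfst_eq_res, dfst_eq_res, Art.res_app, Art.res_app, hβ, hbres,
            zero_mul, add_zero, div_mul_cancel₀ _ hφ] at h3
          rw [dsnd_zero]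
          exact (add_eq_right.1 h3.symm)
      obtain ⟨z, hz1, hz2⟩ := hfp.surj (x - β * b) 0 (by
        rw [hx'0]
        exact (map_zero (Art.baseToDual : Art.base Λ k ⟶ Art.dual Λ k).toAlgHom).symm)
      have hzm : z ∈ IsLocalRing.maximalIdeal C := by
        rw [Art.mem_maximalIdeal_iff, ← Art.res_app p₁, hz1, map_sub, map_mul, hx, hbres,
          mul_zero, sub_zero]
      have h4 : f x = (p₁ ≫ f) z + f β * f b := by
        change f x = f (p₁ z) + f β * f b
        rw [hz1, ← map_mul f.toAlgHom, ← map_add f.toAlgHom]
        congr 1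
        ring
      rw [h4]
      apply Ideal.add_mem
      · exact Ideal.mem_sup_left (Ideal.mem_map_of_mem _ hzm)
      · have h5 : Ideal.map (algebraMap Λ A) (RingHom.ker (algebraMap Λ k)) ⊔
            IsLocalRing.maximalIdeal A ^ 2 ≤
            Ideal.map ((p₁ ≫ f).toAlgHom : C →+* A) (IsLocalRing.maximalIdeal C) ⊔
              IsLocalRing.maximalIdeal A ^ 2 :=
          sup_le_sup_right (map_ker_le_map_maximalIdeal (p₁ ≫ f)) _
        exact h5 (Ideal.mul_mem_left _ _ hfb)
  · rintro ⟨h1, h2⟩
    have hfs : Function.Surjective f := by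
      apply art_surjective_of_map_sup_sq
      intro a ha
      rw [← h1] at ha
      have h3 : Ideal.map (algebraMap Λ A) (RingHom.ker (algebraMap Λ k)) ⊔
          Ideal.map (f.toAlgHom : B →+* A) (IsLocalRing.maximalIdeal B) ⊔
          IsLocalRing.maximalIdeal A ^ 2 ≤
          Ideal.map (f.toAlgHom : B →+* A) (IsLocalRing.maximalIdeal B) ⊔
            IsLocalRing.maximalIdeal A ^ 2 :=
        sup_le (sup_le ((map_ker_le_map_maximalIdeal f).trans le_sup_left) le_sup_left)
          le_sup_right
      exact h3 ha
    refine ⟨hfs, fun C g hgf => ?_⟩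
    apply art_surjective_of_map_sup_sq
    intro x hx
    obtain ⟨z, hz⟩ := hgf (f x)
    have hz' : f (g z) = f x := hz
    have hxres : B.res x = 0 := (Art.mem_maximalIdeal_iff B x).1 hx
    have hzres : C.res z = 0 := by
      rw [← Art.res_app g, ← Art.res_app f, hz', Art.res_app, hxres]
    have hzm : z ∈ IsLocalRing.maximalIdeal C := (Art.mem_maximalIdeal_iff C z).2 hzres
    have hd : x - g z ∈ IsLocalRing.maximalIdeal B := by
      rw [Art.mem_maximalIdeal_iff, map_sub, hxres, Art.res_app, hzres, sub_zero]
    have h3 := h2 (x - g z) hd (by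
      have : f (x - g z) = 0 := by
        rw [map_sub f.toAlgHom]
        change f x - f (g z) = 0
        rw [hz', sub_self]
      rw [this]
      exact zero_mem _)
    have h4 : x = g z + (x - g z) := by ring
    rw [h4]
    apply Ideal.add_mem
    · exact Ideal.mem_sup_left (Ideal.mem_map_of_mem _ hzm)
    · have h5 : Ideal.map (algebraMap Λ B) (RingHom.ker (algebraMap Λ k)) ⊔
          IsLocalRing.maximalIdeal B ^ 2 ≤
          Ideal.map (g.toAlgHom : C →+* B) (IsLocalRing.maximalIdeal C) ⊔
            IsLocalRing.maximalIdeal B ^ 2 :=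
        sup_le_sup_right (map_ker_le_map_maximalIdeal g) _
      exact h5 h3

end Groth.Agent.S12753
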