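import Groth.Statements.S12757
import Groth.Agent.Lib.Helper18.ArtFunDer
import Groth.Agent.Lib.Helper18.ArtFunFormal

set_option autoImplicit false
universe u v
open CategoryTheory
open ArtFun

namespace Groth.Agent.S12757

/-- For functors, let F be a functor on Artinian local Λ-algebras with residue field k with F(k) a
point. A versal family of F over a complete local Noetherian R with residue field k which is
bijective on tangent spaces (a hull; bijectivity implies bijectivity on orbits of the derivations of
k) is minimal: every morphism of coefficient rings R' → R along which some formal element over R'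
pushes forward to the formal element of the family is surjective. -/
theorem result {Λ : Type u} {k : Type u} [CommRing Λ] [Field k] [Algebra Λ k]
    [IsNoetherianRing Λ] [Module.Finite Λ k]
    {F : ArtFun.Art Λ k ⥤ Type v} (h0 : ArtFun.H0 F) (P : ArtFun.Hull F) :
    P.family.IsMinimalVersal := by
  refine ⟨P.miniversal.1, ?_⟩
  intro R' u f hf hu
  obtain ⟨ξ', hξ'⟩ := (Groth.Agent.Helper18.toFormalElt_bijective (R := R') (F := F)).2 u
  dsimp only at hξ'
  have h1 : ξ'.along f hf = P.family := by
    apply (Groth.Agent.Helper18.toFormalElt_bijective (R := P.ring) (F := F)).1
    dsimp only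
    rw [← Groth.Agent.Helper18.push_toFormalElt, hξ', hu]
  apply Groth.Agent.Helper18.surjective_of_homSet_dual_injective R' P.ring f hf
  intro φ₁ φ₂ h
  apply P.miniversal.2.1
  rw [← h1]
  change ξ'.app _ _ = ξ'.app _ _
  congr 1
  exact Subtype.ext h


end Groth.Agent.S12757
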