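import Groth.Statements.S12758
import Groth.Agent.Lib.Helper18.ArtFunMinimal
import Groth.Agent.Lib.Helper18.NoethSurjEnd

set_option autoImplicit false
universe u v
open CategoryTheory
open ArtFun

namespace Groth.Agent.S12758

/-- For functors, two minimal versal families of a functor F on Artinian local Λ-algebras with residue
field k with F(k) a point — over complete local Noetherian coefficient rings R₁, R₂ with residue
field k — are isomorphic: there is an isomorphism R₁ ≅ R₂ over Λ, compatible with the augmentations,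
along which the formal element of the first family pushes forward to that of the second. -/
theorem result {Λ : Type u} {k : Type u} [CommRing Λ] [Field k] [Algebra Λ k]
    [IsNoetherianRing Λ] [Module.Finite Λ k]
    {F : ArtFun.Art Λ k ⥤ Type v} (h0 : ArtFun.H0 F) {R₁ R₂ : ArtFun.CRing Λ k}
    (ξ₁ : ArtFun.Family R₁.carrier R₁.res F) (ξ₂ : ArtFun.Family R₂.carrier R₂.res F)
    (h₁ : ξ₁.IsMinimalVersal) (h₂ : ξ₂.IsMinimalVersal) :
    ∃ (e : R₁.carrier ≃ₐ[Λ] R₂.carrier) (he : R₂.res.comp (e : R₁.carrier →ₐ[Λ] R₂.carrier) = R₁.res),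
      (ξ₁.along (e : R₁.carrier →ₐ[Λ] R₂.carrier) he).toFormalElt = ξ₂.toFormalElt := by
  obtain ⟨g, hg, hgξ⟩ := Groth.Agent.Helper18.exists_along_eq_of_isVersal' h0 ξ₁ h₁.1 ξ₂
  obtain ⟨g', hg', hgξ'⟩ := Groth.Agent.Helper18.exists_along_eq_of_isVersal' h0 ξ₂ h₂.1 ξ₁
  have hs : Function.Surjective g := by
    apply h₂.2 R₁ ξ₁.toFormalElt g hg
    rw [Groth.Agent.Helper18.push_toFormalElt, hgξ]
  have hs' : Function.Surjective g' := by
    apply h₁.2 R₂ ξ₂.toFormalElt g' hg'
    rw [Groth.Agent.Helper18.push_toFormalElt, hgξ']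
  have hinj : Function.Injective g := by
    have h1 : Function.Injective ((g'.comp g : R₁.carrier →ₐ[Λ] R₁.carrier) : R₁.carrier →+* R₁.carrier) := by
      apply Groth.Agent.Helper18.injective_of_surjective_ringEnd
      exact hs'.comp hs
    exact Function.Injective.of_comp (f := g') h1
  refine ⟨AlgEquiv.ofBijective g ⟨hinj, hs⟩, ?_, ?_⟩
  · exact hg
  · have : ((AlgEquiv.ofBijective g ⟨hinj, hs⟩ : R₁.carrier ≃ₐ[Λ] R₂.carrier) : R₁.carrier →ₐ[Λ] R₂.carrier) = g :=
      AlgHom.ext fun _ => rfl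
    simp only [this]
    rw [hgξ]


end Groth.Agent.S12758
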