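import Groth.Statements.S12759
import Groth.Agent.S12718
import Groth.Agent.Lib.Helper18.Schl.MinVersal2

set_option autoImplicit false
universe u v
open CategoryTheory
open ArtFun

namespace Groth.Agent.S12759

/-- For functors, any versal family (R, ξ) of a functor F on Artinian local Λ-algebras with residue
field k with F(k) a point is the pushforward of a minimal versal family (R', ξ') along a power
series extension: there are g : R' → R compatible with the augmentations and an isomorphism R ≅
R'[[X₁, …, Xₙ]] over Λ carrying g to the constants, and the formal element of ξ is that of ξ' pushed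
forward along g. -/
theorem result {Λ : Type u} {k : Type u} [CommRing Λ] [Field k] [Algebra Λ k]
    [IsNoetherianRing Λ] [Module.Finite Λ k]
    {F : ArtFun.Art Λ k ⥤ Type v} (h0 : ArtFun.H0 F) (V : ArtFun.VersalPair F) :
    ∃ (R' : ArtFun.CRing Λ k) (ξ' : ArtFun.Family R'.carrier R'.res F), ξ'.IsMinimalVersal ∧
      ∃ (g : R'.carrier →ₐ[Λ] V.ring.carrier) (hg : V.ring.res.comp g = R'.res)
        (n : ℕ) (e : V.ring.carrier ≃ₐ[Λ] MvPowerSeries (Fin n) R'.carrier),
        (∀ a : R'.carrier, e (g a) = algebraMap R'.carrier (MvPowerSeries (Fin n) R'.carrier) a) ∧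
        (ξ'.along g hg).toFormalElt = V.family.toFormalElt := by
  obtain ⟨R', q, hq, ι, hι, hqι, hmin, hξ'ι⟩ :=
    Groth.Agent.Helper18.exists_retract_minimal h0 V.ring V.family V.versal
  refine ⟨R', V.family.along q hq, hmin, ι, hι, ?_⟩
  have hv : IsVersal ((V.family.along q hq).along ι hι) := by
    rw [hξ'ι]; exact V.versal
  have hsm := Groth.Agent.Helper18.isVersal_self_along_of_retract R' V.ring ι hι q hq hqι _ hv
  letI : Algebra R'.carrier V.ring.carrier := ι.toRingHom.toAlgebra
  haveI : IsScalarTower Λ R'.carrier V.ring.carrier :=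
    IsScalarTower.of_algebraMap_eq (fun l => (ι.commutes l).symm)
  have heq : IsScalarTower.toAlgHom Λ R'.carrier V.ring.carrier = ι := AlgHom.ext fun _ => rfl
  have hRS : V.ring.res.comp (IsScalarTower.toAlgHom Λ R'.carrier V.ring.carrier) = R'.res := by
    rw [heq]; exact hι
  have hgen : ∀ (g : R'.carrier →ₐ[Λ] V.ring.carrier) (hg : V.ring.res.comp g = R'.res), g = ι →
      IsVersal ((ArtFun.Family.self R'.carrier R'.res).along g hg) := by
    rintro g hg rfl
    exact hsm
  obtain ⟨n, ⟨e⟩⟩ := (Groth.Agent.S12718.result R' V.ring hRS).1 (hgen _ hRS heq)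
  refine ⟨n, e.restrictScalars Λ, ?_, ?_⟩
  · intro a
    exact e.commutes a
  · rw [hξ'ι]


end Groth.Agent.S12759
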