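import Groth.Statements.S1276
import Groth.Statements.S1276
import Mathlib
-- import your own Groth.Agent.* helpers here

set_option autoImplicit false
universe u
open FlatMor

namespace Groth.Agent.S1276

open TensorProduct

/-- Support of a base change of a finite module is the preimage of the support. -/
lemma mem_support_baseChange_iff {B F N : Type u} [CommRing B] [CommRing F] [Algebra B F]
    [AddCommGroup N] [Module B N] [Module.Finite B N] (x : PrimeSpectrum F) :
    x ∈ Module.support F (F ⊗[B] N) ↔
      PrimeSpectrum.comap (algebraMap B F) x ∈ Module.support B N := by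
  set q := PrimeSpectrum.comap (algebraMap B F) x with hq
  rw [Module.mem_support_iff_nontrivial_residueField_tensorProduct,
    Module.mem_support_iff_nontrivial_residueField_tensorProduct]
  let φ : q.asIdeal.ResidueField →+* x.asIdeal.ResidueField :=
    Ideal.ResidueField.map q.asIdeal x.asIdeal (algebraMap B F) rfl
  letI : Algebra q.asIdeal.ResidueField x.asIdeal.ResidueField := φ.toAlgebra
  haveI : IsScalarTower B q.asIdeal.ResidueField x.asIdeal.ResidueField := by
    apply IsScalarTower.of_algebraMap_eq
    intro b
    show _ = φ (algebraMap B q.asIdeal.ResidueField b)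
    rw [Ideal.ResidueField.map_algebraMap]
    rw [← IsScalarTower.algebraMap_apply]
  let e1 := AlgebraTensorModule.cancelBaseChange B F x.asIdeal.ResidueField x.asIdeal.ResidueField N
  let e2 := AlgebraTensorModule.cancelBaseChange B q.asIdeal.ResidueField
    x.asIdeal.ResidueField x.asIdeal.ResidueField N
  rw [e1.nontrivial_congr, ← e2.nontrivial_congr]
  exact Module.FaithfullyFlat.nontrivial_tensorProduct_iff_right _ _

lemma exists_fg_le_map_eq {B F : Type u} [CommRing B] [CommRing F] (f : B →+* F) (I : Ideal B)
    (h : (I.map f).FG) : ∃ J : Ideal B, J.FG ∧ J ≤ I ∧ J.map f = I.map f := by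
  classical
  unfold Ideal.map at h
  obtain ⟨s', hs', hspan⟩ := (Submodule.fg_span_iff_fg_span_finset_subset _).1 h
  obtain ⟨s'', hs'', himg⟩ := Finset.subset_set_image_iff.1 hs'
  refine ⟨Ideal.span (s'' : Set B), ⟨s'', rfl⟩, Ideal.span_le.2 hs'', ?_⟩
  rw [Ideal.map_span]
  unfold Ideal.map
  show Submodule.span F (f '' ↑s'') = Submodule.span F (f '' ↑I)
  rw [hspan, ← himg]
  simp

attribute [local instance] Algebra.TensorProduct.rightAlgebra

theorem aux {A B : Type u} [CommRing A] [CommRing B] [Algebra A B] [Algebra.FiniteType A B]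
    (N : Type u) [AddCommGroup N] [Module B N] [Module A N] [IsScalarTower A B N] [Module.Finite B N]
    (p : Ideal A) [p.IsPrime] :
    ∃ J : Ideal B, J.FG ∧ J ≤ Module.annihilator B N ∧
      ∀ x : PrimeSpectrum (p.Fiber B), FlatCA.fiberIdeal p J ≤ x.asIdeal ↔
        x ∈ Module.support (p.Fiber B) (FlatCA.fiberMod p B N) := by
  haveI : Algebra.FiniteType p.ResidueField (p.Fiber B) := inferInstance
  haveI : IsNoetherianRing (p.Fiber B) := Algebra.FiniteType.isNoetherianRing p.ResidueField _
  let f : B →+* p.Fiber B :=
    (Algebra.TensorProduct.includeRight (R := A) (A := p.ResidueField) (B := B)).toRingHom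
  obtain ⟨J, hJfg, hJle, hJmap⟩ := exists_fg_le_map_eq f (Module.annihilator B N)
    (IsNoetherian.noetherian _)
  refine ⟨J, hJfg, hJle, fun x => ?_⟩
  have h1 : FlatCA.fiberIdeal p J = (Module.annihilator B N).map f := hJmap
  rw [h1, Ideal.map_le_iff_le_comap]
  have h2 : x ∈ Module.support (p.Fiber B) (FlatCA.fiberMod p B N) ↔
      PrimeSpectrum.comap (algebraMap B (p.Fiber B)) x ∈ Module.support B N :=
    mem_support_baseChange_iff (B := B) (F := p.Fiber B) (N := N) x
  rw [h2, Module.support_eq_zeroLocus, PrimeSpectrum.mem_zeroLocus]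
  rfl

/-- Let B be a finite type A-algebra, N a finite B-module and p a prime of A. Then there is a finitely
generated ideal J of B annihilating N (so N is a module on the finitely presented closed subscheme
V(J) of Spec B) such that a point of the fibre Spec(κ(p) ⊗ B) lies in V(J) if and only if it lies in
the support of the fibre module of N. -/
theorem result {A B : Type u} [CommRing A] [CommRing B] [Algebra A B] [Algebra.FiniteType A B]
    (N : Type u) [AddCommGroup N] [Module B N] [Module A N] [IsScalarTower A B N] [Module.Finite B N] (p : Ideal A) [p.IsPrime] :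
    ∃ J : Ideal B, J.FG ∧ J ≤ Module.annihilator B N ∧
      ∀ x : PrimeSpectrum (p.Fiber B), FlatCA.fiberIdeal p J ≤ x.asIdeal ↔ x ∈ Module.support (p.Fiber B) (FlatCA.fiberMod p B N) := by
  exact aux N p

end Groth.Agent.S1276
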