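import Groth.Statements.S1277
import Groth.Agent.Lib.Helper10.FlatLoc
import Mathlib

set_option autoImplicit false
set_option linter.style.haveILetI false
set_option linter.unusedSectionVars false
universe u
open FlatMor

namespace Groth.Agent.S1277

section helpers
open IsLocalRing TensorProduct

/-- a prime of a local ring containing the maximal ideal is the maximal ideal -/
theorem eq_max_of_le {B : Type u} [CommRing B] [IsLocalRing B] (P : Ideal B) [P.IsPrime]
    (h : maximalIdeal B ≤ P) : P = maximalIdeal B :=
  le_antisymm (IsLocalRing.le_maximalIdeal (Ideal.IsPrime.ne_top inferInstance)) h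

theorem main {A B C : Type u} [CommRing A] [IsLocalRing A] [CommRing B] [IsLocalRing B] [CommRing C] [IsLocalRing C]
    [Algebra A B] [IsLocalHom (algebraMap A B)] [Algebra B C] [IsLocalHom (algebraMap B C)] [Algebra A C] [IsScalarTower A B C] [Module.Flat B C]
    (M : Type u) [AddCommGroup M] [Module B M] (N : Type u) [AddCommGroup N] [Module C N] [Module B N] [IsScalarTower B C N]
    (g : M →ₗ[B] N) (hg : IsBaseChange C g)
    (A' : Type u) [CommRing A'] [IsLocalRing A'] [Algebra A A'] [IsLocalHom (algebraMap A A')]
    (B' M' : Type u) [CommRing B'] [Algebra B B'] [Algebra A' B'] [Algebra A B'] [IsScalarTower A B B'] [IsScalarTower A A' B']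
        [Algebra.IsPushout A B A' B']
        [AddCommGroup M'] [Module B' M'] [Module B M'] [IsScalarTower B B' M'] [Module A' M'] [IsScalarTower A' B' M']
        (fB : M →ₗ[B] M') (hfB : IsBaseChange B' fB)
    (C' N' : Type u) [CommRing C'] [Algebra C C'] [Algebra A' C'] [Algebra A C'] [IsScalarTower A C C'] [IsScalarTower A A' C']
        [Algebra.IsPushout A C A' C']
        [AddCommGroup N'] [Module C' N'] [Module C N'] [IsScalarTower C C' N'] [Module A' N'] [IsScalarTower A' C' N']
        (fC : N →ₗ[C] N') (hfC : IsBaseChange C' fC) :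
    FlatCA.FlatAboveClosedPoints B A' B' M' ↔ FlatCA.FlatAboveClosedPoints C A' C' N' := by
  -- the map B' → C'
  let φ : B' →ₐ[A] C' := Algebra.pushoutDesc B'
    ((IsScalarTower.toAlgHom A C C').comp (IsScalarTower.toAlgHom A B C))
    (IsScalarTower.toAlgHom A A' C') (fun x y => mul_comm _ _)
  have hφl : ∀ b : B, φ (algebraMap B B' b) = algebraMap C C' (algebraMap B C b) := fun b =>
    Algebra.pushoutDesc_left B' _ _ _ b
  have hφr : ∀ a : A', φ (algebraMap A' B' a) = algebraMap A' C' a := fun a =>
    Algebra.pushoutDesc_right B' _ _ _ a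
  letI algB'C' : Algebra B' C' := φ.toRingHom.toAlgebra
  have halg : ∀ x : B', algebraMap B' C' x = φ x := fun x => rfl
  letI algBC' : Algebra B C' := ((algebraMap C C').comp (algebraMap B C)).toAlgebra
  have halgB : ∀ x : B, algebraMap B C' x = algebraMap C C' (algebraMap B C x) := fun x => rfl
  haveI tBCC' : IsScalarTower B C C' := IsScalarTower.of_algebraMap_eq (fun x => rfl)
  haveI tBB'C' : IsScalarTower B B' C' := IsScalarTower.of_algebraMap_eq (fun x => by
    rw [halg, hφl, halgB])
  haveI tA'B'C' : IsScalarTower A' B' C' := IsScalarTower.of_algebraMap_eq (fun x => by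
    rw [halg, hφr])
  haveI tAB'C' : IsScalarTower A B' C' := IsScalarTower.of_algebraMap_eq (fun x => by
    rw [halg, IsScalarTower.algebraMap_apply A A' B', hφr, ← IsScalarTower.algebraMap_apply])
  haveI po : Algebra.IsPushout B C B' C' :=
    (Algebra.IsPushout.comp_iff A B A' (S' := B') (T := C) (T' := C')).mp inferInstance
  haveI po' : Algebra.IsPushout B B' C C' := Algebra.IsPushout.symm po
  haveI flB'C' : Module.Flat B' C' :=
    Module.Flat.isBaseChange B B' C C' (Algebra.IsPushout.out (R := B) (S := B') (R' := C) (S' := C'))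
  -- module structures on N'
  letI mBN' : Module B N' := Module.compHom N' (algebraMap B C)
  have hmBN' : ∀ (b : B) (n : N'), b • n = algebraMap B C b • n := fun _ _ => rfl
  haveI tBCN' : IsScalarTower B C N' := ⟨fun b c n => by rw [hmBN', Algebra.smul_def, mul_smul]⟩
  letI mB'N' : Module B' N' := Module.compHom N' (algebraMap B' C')
  have hmB'N' : ∀ (b : B') (n : N'), b • n = algebraMap B' C' b • n := fun _ _ => rfl
  haveI tB'C'N' : IsScalarTower B' C' N' :=
    ⟨fun b c n => by rw [hmB'N', Algebra.smul_def, mul_smul]⟩
  haveI tBC'N' : IsScalarTower B C' N' := ⟨fun b c n => by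
    rw [hmBN', Algebra.smul_def, mul_smul, halgB, algebraMap_smul]⟩
  haveI tBB'N' : IsScalarTower B B' N' := ⟨fun b b' n => by
    rw [hmB'N', hmB'N', hmBN', Algebra.smul_def, map_mul, mul_smul, halg, hφl, algebraMap_smul]⟩
  have hcomp : IsBaseChange C' ((fC.restrictScalars B).comp g) := IsBaseChange.comp hg hfC
  let g' : M' →ₗ[B'] N' := hfB.lift ((fC.restrictScalars B).comp g)
  have hg'c : (g'.restrictScalars B).comp fB = (fC.restrictScalars B).comp g := hfB.lift_comp _
  have hg' : IsBaseChange C' g' := by
    apply IsBaseChange.of_comp hfB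
    rw [show ((g' : M' →ₗ[B] N') ∘ₗ fB) = (fC.restrictScalars B).comp g from hg'c]
    exact hcomp
  constructor
  · intro hM Q _ hQ
    have hQ1 : (maximalIdeal A').map (algebraMap A' C') ≤ Q := le_trans le_sup_left hQ
    have hQ2 : (maximalIdeal C).map (algebraMap C C') ≤ Q := le_trans le_sup_right hQ
    rw [Ideal.map_le_iff_le_comap] at hQ1 hQ2
    have hP : (maximalIdeal A').map (algebraMap A' B') ⊔ (maximalIdeal B).map (algebraMap B B') ≤
        Q.comap (algebraMap B' C') := by
      refine sup_le ?_ ?_
      · rw [Ideal.map_le_iff_le_comap, Ideal.comap_comap, ← IsScalarTower.algebraMap_eq]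
        exact hQ1
      · rw [Ideal.map_le_iff_le_comap, Ideal.comap_comap, ← IsScalarTower.algebraMap_eq,
          IsScalarTower.algebraMap_eq B C C', ← Ideal.comap_comap,
          ← IsLocalRing.maximalIdeal_comap (algebraMap B C)]
        exact Ideal.comap_mono hQ2
    have h1 := hM (Q.comap (algebraMap B' C')) hP
    unfold FlatCA.FlatAt at h1 ⊢
    exact (Groth.Agent.Helper10.FlatLoc.flat_localized_iff (R := A') (S := B') (S' := C') g' hg'
      (Q.comap (algebraMap B' C')) Q rfl).mp h1
  · intro hN P _ hP
    have hP1 : (maximalIdeal A').map (algebraMap A' B') ≤ P := le_trans le_sup_left hP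
    have hP2 : (maximalIdeal B).map (algebraMap B B') ≤ P := le_trans le_sup_right hP
    rw [Ideal.map_le_iff_le_comap] at hP1 hP2
    have hcond : (maximalIdeal C).comap (algebraMap B C) = P.comap (algebraMap B B') := by
      rw [IsLocalRing.maximalIdeal_comap (algebraMap B C)]
      exact (eq_max_of_le _ hP2).symm
    obtain ⟨Q, hQprime, hQC, hQP⟩ :=
      Groth.Agent.S6919.exists_prime_pushout (R := B) (S := C) (R' := B') (S' := C')
        (maximalIdeal C) P hcond
    haveI := hQprime
    have hQ : (maximalIdeal A').map (algebraMap A' C') ⊔ (maximalIdeal C).map (algebraMap C C') ≤ Q := by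
      refine sup_le ?_ ?_
      · rw [Ideal.map_le_iff_le_comap, IsScalarTower.algebraMap_eq A' B' C', ← Ideal.comap_comap, hQP]
        exact hP1
      · rw [Ideal.map_le_iff_le_comap, hQC]
    have h1 := hN Q hQ
    unfold FlatCA.FlatAt at h1 ⊢
    exact (Groth.Agent.Helper10.FlatLoc.flat_localized_iff (R := A') (S := B') (S' := C') g' hg'
      P Q hQP.symm).mpr h1

end helpers

open IsLocalRing in
/-- Let A be a local ring, A → B a local homomorphism of local rings, B → C a flat local homomorphism of
local rings, M a B-module and N = M ⊗_B C. For every local homomorphism of local rings A → A', with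
base changes B' = B ⊗_A A', M', C' = C ⊗_A A', N' (any models): M' is flat over A' at every prime of
B' containing 𝔪_{A'}B' + 𝔪_B B' if and only if N' is flat over A' at every prime of C' containing
𝔪_{A'}C' + 𝔪_C C'. -/
theorem result {A B C : Type u} [CommRing A] [IsLocalRing A] [CommRing B] [IsLocalRing B] [CommRing C] [IsLocalRing C]
    [Algebra A B] [IsLocalHom (algebraMap A B)] [Algebra B C] [IsLocalHom (algebraMap B C)] [Algebra A C] [IsScalarTower A B C] [Module.Flat B C]
    (M : Type u) [AddCommGroup M] [Module B M] (N : Type u) [AddCommGroup N] [Module C N] [Module B N] [IsScalarTower B C N]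
    (g : M →ₗ[B] N) (hg : IsBaseChange C g)
    (A' : Type u) [CommRing A'] [IsLocalRing A'] [Algebra A A'] [IsLocalHom (algebraMap A A')]
    (B' M' : Type u) [CommRing B'] [Algebra B B'] [Algebra A' B'] [Algebra A B'] [IsScalarTower A B B'] [IsScalarTower A A' B']
        [Algebra.IsPushout A B A' B']
        [AddCommGroup M'] [Module B' M'] [Module B M'] [IsScalarTower B B' M'] [Module A' M'] [IsScalarTower A' B' M']
        (fB : M →ₗ[B] M') (hfB : IsBaseChange B' fB)
    (C' N' : Type u) [CommRing C'] [Algebra C C'] [Algebra A' C'] [Algebra A C'] [IsScalarTower A C C'] [IsScalarTower A A' C']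
        [Algebra.IsPushout A C A' C']
        [AddCommGroup N'] [Module C' N'] [Module C N'] [IsScalarTower C C' N'] [Module A' N'] [IsScalarTower A' C' N']
        (fC : N →ₗ[C] N') (hfC : IsBaseChange C' fC) :
    FlatCA.FlatAboveClosedPoints B A' B' M' ↔ FlatCA.FlatAboveClosedPoints C A' C' N' := by
  exact main (A := A) (B := B) (C := C) M N g hg A' B' M' fB hfB C' N' fC hfC

end Groth.Agent.S1277
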