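import Mathlib
import Groth.Statements.S12777
import Groth.Agent.Lib.Helper19.PshSt

set_option autoImplicit false
open CategoryTheory AlgebraicGeometry
universe u
open AlgSt

namespace Groth.Agent.S12777

/-- For presheaves of sets `F`, `G` on `(Sch/S)`, let `a : F ⟶ G` be a morphism between them. Then `a`
is representable by algebraic spaces (as a map of presheaves: every `h_U ×_G F` is an algebraic
space) if and only if the associated 1-morphism of categories fibred in sets is representable by
algebraic spaces. -/
theorem result {S : Scheme.{u}} {F G : AlgSp.PSp S} (a : F ⟶ G) :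
    AlgSp.RepBySp a ↔ AlgSt.RepByAlgSp1 (Stk.ofPshMap a) := by
  have h1 : AlgSp.RepBySp a ↔ AlgSp.RepBySpWith ⊤ a := by
    constructor
    · intro h U ξ F' fst snd sq
      obtain ⟨h', hA⟩ := h ξ fst snd sq
      exact ⟨h', hA, trivial⟩
    · intro h
      exact h.repBySp
  have h2 : AlgSt.RepByAlgSp1 (Stk.ofPshMap a) ↔ AlgSt.RepByAlgSpWith ⊤ (Stk.ofPshMap a) := by
    constructor
    · intro h U y
      obtain ⟨X, e, he⟩ := h U y
      exact ⟨X, e, he, trivial⟩
    · intro h U y
      obtain ⟨X, e, he, -⟩ := h U y
      exact ⟨X, e, he⟩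
  rw [h1, h2]
  exact Groth.Agent.Helper19.PshSt.repBySpWith_iff ⊤ a

end Groth.Agent.S12777
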