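import Groth.Statements.S1278
import Groth.Agent.Lib.Helper10.FlatLoc
import Groth.Agent.S6918
import Mathlib

set_option autoImplicit false
set_option linter.style.haveILetI false
set_option linter.unusedSectionVars false
universe u
open FlatMor

namespace Groth.Agent.S1278

section helpers
open IsLocalRing TensorProduct

/-- a prime of a local ring containing the maximal ideal is the maximal ideal -/
theorem eq_max_of_le {B : Type u} [CommRing B] [IsLocalRing B] (P : Ideal B) [P.IsPrime]
    (h : maximalIdeal B ≤ P) : P = maximalIdeal B :=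
  le_antisymm (IsLocalRing.le_maximalIdeal (Ideal.IsPrime.ne_top inferInstance)) h

theorem main {A B C : Type u} [CommRing A] [IsLocalRing A] [CommRing B] [IsLocalRing B] [CommRing C] [IsLocalRing C]
    [Algebra A B] [IsLocalHom (algebraMap A B)] [Algebra B C] [IsLocalHom (algebraMap B C)] [Algebra A C] [IsScalarTower A B C] [Module.Finite B C]
    (N : Type u) [AddCommGroup N] [Module C N] [Module B N] [IsScalarTower B C N]
    (A' : Type u) [CommRing A'] [IsLocalRing A'] [Algebra A A'] [IsLocalHom (algebraMap A A')]
    (B' M' : Type u) [CommRing B'] [Algebra B B'] [Algebra A' B'] [Algebra A B'] [IsScalarTower A B B'] [IsScalarTower A A' B']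
        [Algebra.IsPushout A B A' B']
        [AddCommGroup M'] [Module B' M'] [Module B M'] [IsScalarTower B B' M'] [Module A' M'] [IsScalarTower A' B' M']
        (fB : N →ₗ[B] M') (hfB : IsBaseChange B' fB)
    (C' N' : Type u) [CommRing C'] [Algebra C C'] [Algebra A' C'] [Algebra A C'] [IsScalarTower A C C'] [IsScalarTower A A' C']
        [Algebra.IsPushout A C A' C']
        [AddCommGroup N'] [Module C' N'] [Module C N'] [IsScalarTower C C' N'] [Module A' N'] [IsScalarTower A' C' N']
        (fC : N →ₗ[C] N') (hfC : IsBaseChange C' fC) :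
    FlatCA.FlatAboveClosedPoints B A' B' M' ↔ FlatCA.FlatAboveClosedPoints C A' C' N' := by
  -- the map B' → C'
  let φ : B' →ₐ[A] C' := Algebra.pushoutDesc B'
    ((IsScalarTower.toAlgHom A C C').comp (IsScalarTower.toAlgHom A B C))
    (IsScalarTower.toAlgHom A A' C') (fun x y => mul_comm _ _)
  have hφl : ∀ b : B, φ (algebraMap B B' b) = algebraMap C C' (algebraMap B C b) := fun b =>
    Algebra.pushoutDesc_left B' _ _ _ b
  have hφr : ∀ a : A', φ (algebraMap A' B' a) = algebraMap A' C' a := fun a =>
    Algebra.pushoutDesc_right B' _ _ _ a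
  letI algB'C' : Algebra B' C' := φ.toRingHom.toAlgebra
  have halg : ∀ x : B', algebraMap B' C' x = φ x := fun x => rfl
  letI algBC' : Algebra B C' := ((algebraMap C C').comp (algebraMap B C)).toAlgebra
  have halgB : ∀ x : B, algebraMap B C' x = algebraMap C C' (algebraMap B C x) := fun x => rfl
  haveI tBCC' : IsScalarTower B C C' := IsScalarTower.of_algebraMap_eq (fun x => rfl)
  haveI tBB'C' : IsScalarTower B B' C' := IsScalarTower.of_algebraMap_eq (fun x => by
    rw [halg, hφl, halgB])
  haveI tA'B'C' : IsScalarTower A' B' C' := IsScalarTower.of_algebraMap_eq (fun x => by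
    rw [halg, hφr])
  haveI tAB'C' : IsScalarTower A B' C' := IsScalarTower.of_algebraMap_eq (fun x => by
    rw [halg, IsScalarTower.algebraMap_apply A A' B', hφr, ← IsScalarTower.algebraMap_apply])
  haveI po : Algebra.IsPushout B C B' C' :=
    (Algebra.IsPushout.comp_iff A B A' (S' := B') (T := C) (T' := C')).mp inferInstance
  haveI po' : Algebra.IsPushout B B' C C' := Algebra.IsPushout.symm po
  -- module structures on N'
  letI mBN' : Module B N' := Module.compHom N' (algebraMap B C)
  have hmBN' : ∀ (b : B) (n : N'), b • n = algebraMap B C b • n := fun _ _ => rfl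
  haveI tBCN' : IsScalarTower B C N' := ⟨fun b c n => by rw [hmBN', Algebra.smul_def, mul_smul]⟩
  letI mB'N' : Module B' N' := Module.compHom N' (algebraMap B' C')
  have hmB'N' : ∀ (b : B') (n : N'), b • n = algebraMap B' C' b • n := fun _ _ => rfl
  haveI tB'C'N' : IsScalarTower B' C' N' :=
    ⟨fun b c n => by rw [hmB'N', Algebra.smul_def, mul_smul]⟩
  haveI tBC'N' : IsScalarTower B C' N' := ⟨fun b c n => by
    rw [hmBN', Algebra.smul_def, mul_smul, halgB, algebraMap_smul]⟩
  haveI tBB'N' : IsScalarTower B B' N' := ⟨fun b b' n => by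
    rw [hmB'N', hmB'N', hmBN', Algebra.smul_def, map_mul, mul_smul, halg, hφl, algebraMap_smul]⟩
  haveI tA'B'N' : IsScalarTower A' B' N' := ⟨fun a b n => by
    rw [hmB'N', hmB'N', Algebra.smul_def, map_mul, mul_smul, ← IsScalarTower.algebraMap_apply,
      algebraMap_smul]⟩
  -- N' is also the base change of N to B'
  let e0 : B' ⊗[B] N ≃ₗ[B'] N' :=
    (Algebra.IsPushout.cancelBaseChange B B' C C' N).symm ≪≫ₗ hfC.equiv.restrictScalars B'
  have he0 : ∀ n : N, e0 (1 ⊗ₜ n) = fC n := by
    intro n
    simp only [e0, LinearEquiv.trans_apply, Algebra.IsPushout.cancelBaseChange_symm_tmul, map_one,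
      LinearEquiv.restrictScalars_apply, IsBaseChange.equiv_tmul, one_smul]
  have hB'N' : IsBaseChange B' (fC.restrictScalars B) := IsBaseChange.of_equiv e0 he0
  let e : M' ≃ₗ[B'] N' := hfB.equiv.symm ≪≫ₗ hB'N'.equiv
  have he : ∀ n : N, e (fB n) = fC n := by
    intro n
    simp only [e, LinearEquiv.trans_apply, IsBaseChange.equiv_symm_apply, IsBaseChange.equiv_tmul,
      one_smul, LinearMap.restrictScalars_apply]
  have hX : ∀ (P : Ideal B') [P.IsPrime], Module.Flat A' (LocalizedModule P.primeCompl M') ↔
      Module.Flat A' (LocalizedModule (Algebra.algebraMapSubmonoid C' P.primeCompl) N') := by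
    intro P _
    haveI i1 : IsLocalizedModule P.primeCompl
        ((LocalizedModule.mkLinearMap (Algebra.algebraMapSubmonoid C' P.primeCompl) N').restrictScalars B') :=
      IsLocalizedModule.restrictScalars P.primeCompl _
    haveI i2 : IsLocalizedModule P.primeCompl
        (((LocalizedModule.mkLinearMap (Algebra.algebraMapSubmonoid C' P.primeCompl) N').restrictScalars B') ∘ₗ
          e.toLinearMap) := IsLocalizedModule.of_linearEquiv_right P.primeCompl _ e
    let iso := IsLocalizedModule.iso P.primeCompl
        (((LocalizedModule.mkLinearMap (Algebra.algebraMapSubmonoid C' P.primeCompl) N').restrictScalars B') ∘ₗ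
          e.toLinearMap)
    have isoA : LocalizedModule P.primeCompl M' ≃ₗ[A']
        LocalizedModule (Algebra.algebraMapSubmonoid C' P.primeCompl) N' := iso.restrictScalars A'
    exact ⟨fun h => Module.Flat.of_linearEquiv isoA.symm, fun h => Module.Flat.of_linearEquiv isoA⟩
  constructor
  · intro hM Q _ hQ
    have hQ1 : (maximalIdeal A').map (algebraMap A' C') ≤ Q := le_trans le_sup_left hQ
    have hQ2 : (maximalIdeal C).map (algebraMap C C') ≤ Q := le_trans le_sup_right hQ
    rw [Ideal.map_le_iff_le_comap] at hQ1 hQ2
    have hP : (maximalIdeal A').map (algebraMap A' B') ⊔ (maximalIdeal B).map (algebraMap B B') ≤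
        Q.comap (algebraMap B' C') := by
      refine sup_le ?_ ?_
      · rw [Ideal.map_le_iff_le_comap, Ideal.comap_comap, ← IsScalarTower.algebraMap_eq]
        exact hQ1
      · rw [Ideal.map_le_iff_le_comap, Ideal.comap_comap, ← IsScalarTower.algebraMap_eq,
          IsScalarTower.algebraMap_eq B C C', ← Ideal.comap_comap,
          ← IsLocalRing.maximalIdeal_comap (algebraMap B C)]
        exact Ideal.comap_mono hQ2
    have h1 := hM (Q.comap (algebraMap B' C')) hP
    unfold FlatCA.FlatAt at h1 ⊢
    have h2 := (hX (Q.comap (algebraMap B' C'))).mp h1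
    have hle : Algebra.algebraMapSubmonoid C' (Q.comap (algebraMap B' C')).primeCompl ≤ Q.primeCompl := by
      rintro _ ⟨b, hb, rfl⟩
      exact hb
    have h3 : Module.Flat A' (LocalizedModule Q.primeCompl
        (LocalizedModule (Algebra.algebraMapSubmonoid C' (Q.comap (algebraMap B' C')).primeCompl) N')) :=
      Groth.Agent.S6918.flat_localizedModule Q.primeCompl _
    let iso := IsLocalizedModule.iso Q.primeCompl
      (IsLocalizedModule.liftOfLE _ Q.primeCompl hle
        (LocalizedModule.mkLinearMap (Algebra.algebraMapSubmonoid C' (Q.comap (algebraMap B' C')).primeCompl) N')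
        (LocalizedModule.mkLinearMap Q.primeCompl N'))
    exact Module.Flat.of_linearEquiv (iso.restrictScalars A').symm
  · intro hN P _ hP
    have hP1 : (maximalIdeal A').map (algebraMap A' B') ≤ P := le_trans le_sup_left hP
    have hP2 : (maximalIdeal B).map (algebraMap B B') ≤ P := le_trans le_sup_right hP
    rw [Ideal.map_le_iff_le_comap] at hP1 hP2
    unfold FlatCA.FlatAt
    rw [hX P]
    haveI finB'C' : Module.Finite B' C' :=
      Module.Finite.equiv (Algebra.IsPushout.equiv B B' C C').toLinearEquiv
    haveI intB'C' : Algebra.IsIntegral B' C' := inferInstance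
    haveI intBC : Algebra.IsIntegral B C := inferInstance
    haveI intL : Algebra.IsIntegral (Localization.AtPrime P)
        (Localization (Algebra.algebraMapSubmonoid C' P.primeCompl)) :=
      ⟨isIntegral_localization (R := B') (M := P.primeCompl) (S := C')
        (Rₘ := Localization.AtPrime P) (Sₘ := Localization (Algebra.algebraMapSubmonoid C' P.primeCompl))⟩
    apply Module.flat_of_isLocalized_maximal (Localization (Algebra.algebraMapSubmonoid C' P.primeCompl))
      (LocalizedModule (Algebra.algebraMapSubmonoid C' P.primeCompl) N')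
      (fun 𝔐 _ => LocalizedModule 𝔐.primeCompl
        (LocalizedModule (Algebra.algebraMapSubmonoid C' P.primeCompl) N'))
      (fun 𝔐 _ => LocalizedModule.mkLinearMap 𝔐.primeCompl _)
    intro 𝔐 h𝔐
    have h1 : 𝔐.comap (algebraMap (Localization.AtPrime P)
        (Localization (Algebra.algebraMapSubmonoid C' P.primeCompl))) =
        maximalIdeal (Localization.AtPrime P) :=
      IsLocalRing.eq_maximalIdeal (Ideal.isMaximal_comap_of_isIntegral_of_isMaximal 𝔐)
    have hQP : (𝔐.comap (algebraMap C' (Localization (Algebra.algebraMapSubmonoid C' P.primeCompl)))).comap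
        (algebraMap B' C') = P := by
      rw [Ideal.comap_comap, ← IsScalarTower.algebraMap_eq,
        IsScalarTower.algebraMap_eq B' (Localization.AtPrime P), ← Ideal.comap_comap, h1]
      exact Localization.AtPrime.under_maximalIdeal
    haveI hQprime : (𝔐.comap (algebraMap C'
        (Localization (Algebra.algebraMapSubmonoid C' P.primeCompl)))).IsPrime := inferInstance
    have hQC : (𝔐.comap (algebraMap C' (Localization (Algebra.algebraMapSubmonoid C' P.primeCompl)))).comap
        (algebraMap C C') = maximalIdeal C := by
      apply IsLocalRing.eq_maximalIdeal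
      apply Ideal.isMaximal_of_isIntegral_of_isMaximal_comap (R := B)
      have : ((𝔐.comap (algebraMap C' (Localization (Algebra.algebraMapSubmonoid C' P.primeCompl)))).comap
          (algebraMap C C')).comap (algebraMap B C) = maximalIdeal B := by
        rw [Ideal.comap_comap, ← IsScalarTower.algebraMap_eq, IsScalarTower.algebraMap_eq B B' C',
          ← Ideal.comap_comap, hQP]
        exact eq_max_of_le _ hP2
      rw [this]
      exact IsLocalRing.maximalIdeal.isMaximal B
    have hQ : (maximalIdeal A').map (algebraMap A' C') ⊔ (maximalIdeal C).map (algebraMap C C') ≤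
        𝔐.comap (algebraMap C' (Localization (Algebra.algebraMapSubmonoid C' P.primeCompl))) := by
      refine sup_le ?_ ?_
      · rw [Ideal.map_le_iff_le_comap, IsScalarTower.algebraMap_eq A' B' C', ← Ideal.comap_comap, hQP]
        exact hP1
      · rw [Ideal.map_le_iff_le_comap, hQC]
    have h2 := hN _ hQ
    unfold FlatCA.FlatAt at h2
    haveI locL : IsLocalization.AtPrime (Localization.AtPrime 𝔐)
        (𝔐.comap (algebraMap C' (Localization (Algebra.algebraMapSubmonoid C' P.primeCompl)))) :=
      IsLocalization.isLocalization_isLocalization_atPrime_isLocalization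
        (Algebra.algebraMapSubmonoid C' P.primeCompl) (Localization.AtPrime 𝔐) 𝔐
    have bc1 : IsBaseChange (Localization (Algebra.algebraMapSubmonoid C' P.primeCompl))
        (LocalizedModule.mkLinearMap (Algebra.algebraMapSubmonoid C' P.primeCompl) N') :=
      IsLocalizedModule.isBaseChange (Algebra.algebraMapSubmonoid C' P.primeCompl) _ _
    have bc2 : IsBaseChange (Localization.AtPrime 𝔐) (LocalizedModule.mkLinearMap 𝔐.primeCompl
        (LocalizedModule (Algebra.algebraMapSubmonoid C' P.primeCompl) N')) :=
      IsLocalizedModule.isBaseChange 𝔐.primeCompl _ _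
    have bc3 := IsBaseChange.comp bc1 bc2
    haveI locM := (isLocalizedModule_iff_isBaseChange
      (𝔐.comap (algebraMap C' (Localization (Algebra.algebraMapSubmonoid C' P.primeCompl)))).primeCompl
      (Localization.AtPrime 𝔐) _).mpr bc3
    let iso := IsLocalizedModule.iso
      (𝔐.comap (algebraMap C' (Localization (Algebra.algebraMapSubmonoid C' P.primeCompl)))).primeCompl
      (((LocalizedModule.mkLinearMap 𝔐.primeCompl
        (LocalizedModule (Algebra.algebraMapSubmonoid C' P.primeCompl) N')).restrictScalars C') ∘ₗ
        (LocalizedModule.mkLinearMap (Algebra.algebraMapSubmonoid C' P.primeCompl) N'))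
    exact Module.Flat.of_linearEquiv (iso.restrictScalars A').symm

end helpers

open IsLocalRing in
/-- Let A be a local ring and B → C a finite local homomorphism of local A-algebras (A → B local), and N
a C-module, viewed also as a B-module. For every local homomorphism of local rings A → A', with base
changes B', C' of B, C and base changes M' (of N over B') and N' (of N over C'): M' is flat over A'
at every prime of B' containing 𝔪_{A'}B' + 𝔪_B B' if and only if N' is flat over A' at every prime
of C' containing 𝔪_{A'}C' + 𝔪_C C'. -/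
theorem result {A B C : Type u} [CommRing A] [IsLocalRing A] [CommRing B] [IsLocalRing B] [CommRing C] [IsLocalRing C]
    [Algebra A B] [IsLocalHom (algebraMap A B)] [Algebra B C] [IsLocalHom (algebraMap B C)] [Algebra A C] [IsScalarTower A B C] [Module.Finite B C]
    (N : Type u) [AddCommGroup N] [Module C N] [Module B N] [IsScalarTower B C N]
    (A' : Type u) [CommRing A'] [IsLocalRing A'] [Algebra A A'] [IsLocalHom (algebraMap A A')]
    (B' M' : Type u) [CommRing B'] [Algebra B B'] [Algebra A' B'] [Algebra A B'] [IsScalarTower A B B'] [IsScalarTower A A' B']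
        [Algebra.IsPushout A B A' B']
        [AddCommGroup M'] [Module B' M'] [Module B M'] [IsScalarTower B B' M'] [Module A' M'] [IsScalarTower A' B' M']
        (fB : N →ₗ[B] M') (hfB : IsBaseChange B' fB)
    (C' N' : Type u) [CommRing C'] [Algebra C C'] [Algebra A' C'] [Algebra A C'] [IsScalarTower A C C'] [IsScalarTower A A' C']
        [Algebra.IsPushout A C A' C']
        [AddCommGroup N'] [Module C' N'] [Module C N'] [IsScalarTower C C' N'] [Module A' N'] [IsScalarTower A' C' N']
        (fC : N →ₗ[C] N') (hfC : IsBaseChange C' fC) :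
    FlatCA.FlatAboveClosedPoints B A' B' M' ↔ FlatCA.FlatAboveClosedPoints C A' C' N' := by
  exact main (A := A) (B := B) (C := C) N A' B' M' fB hfB C' N' fC hfC

end Groth.Agent.S1278
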