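import Groth.Statements.S1279
import Mathlib
import Groth.Agent.Lib.Helper28.IdealExt2
import Groth.Agent.Lib.Helper28.BlowUpExist
open Groth.Agent.Helper28.IdealExt Groth.Agent.Helper28.BlowUpExist Groth.Agent.Helper28.AmbProd AlgebraicGeometry CategoryTheory

set_option autoImplicit false
universe u
open FlatMor

namespace Groth.Agent.S1279

open AlgebraicGeometry CategoryTheory Limits Topology in
/-- Let X be a quasi-compact and quasi-separated scheme, U ⊆ X a quasi-compact open, and T₁, T₂ ⊆ U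
disjoint subsets which are closed and constructible in U. Then there is a U-admissible blow-up b :
X' → X such that the closures in X' of the preimages of T₁ and T₂ are disjoint. (Part (1), about
strict transforms of closed subschemes, is not stated.) -/
theorem result {X : Scheme.{u}} [CompactSpace X] [QuasiSeparatedSpace X]
    (U : X.Opens) (hU : IsCompact (U : Set X)) (T₁ T₂ : Set U)
    (h₁ : IsClosed T₁) (h₂ : IsClosed T₂) (c₁ : IsConstructible T₁) (c₂ : IsConstructible T₂) (hd : Disjoint T₁ T₂) :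
    ∃ (𝓘 : X.IdealSheafData) (X' : Scheme.{u}) (b : X' ⟶ X), BlowUp.IsBlowUp b 𝓘 ∧ BlowUp.IsAdmissibleFor U 𝓘 ∧
      Disjoint (closure (b.base ⁻¹' (Subtype.val '' T₁))) (closure (b.base ⁻¹' (Subtype.val '' T₂))) := by
  classical
  haveI : CompactSpace U.toScheme := isCompact_iff_compactSpace.mp hU
  haveI : QuasiSeparatedSpace U.toScheme :=
    QuasiSeparatedSpace.of_isOpenEmbedding U.ι.isOpenEmbedding
  set R₁ := Scheme.IdealSheafData.vanishingIdeal (X := U.toScheme) ⟨T₁, h₁⟩ with hR₁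
  set R₂ := Scheme.IdealSheafData.vanishingIdeal (X := U.toScheme) ⟨T₂, h₂⟩ with hR₂
  have hR₁s : (R₁.support : Set U.toScheme) = T₁ :=
    Scheme.IdealSheafData.coe_support_vanishingIdeal _
  have hR₂s : (R₂.support : Set U.toScheme) = T₂ :=
    Scheme.IdealSheafData.coe_support_vanishingIdeal _
  have hR : R₁ ⊔ R₂ = ⊤ := by
    rw [← Scheme.IdealSheafData.support_eq_bot_iff, Scheme.IdealSheafData.support_sup]
    ext x
    simp only [TopologicalSpace.Closeds.coe_inf, TopologicalSpace.Closeds.coe_bot,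
      Set.mem_empty_iff_false, iff_false, Set.mem_inter_iff, not_and]
    intro hx1 hx2
    rw [hR₁s] at hx1
    rw [hR₂s] at hx2
    exact Set.disjoint_left.mp hd hx1 hx2
  obtain ⟨I₁, I₂, hI₁, hI₂, hI₁R, hI₂R, hI⟩ := exists_ft_sup_eq_top R₁ R₂ hR
  obtain ⟨J₁, hJ₁, -, hJ₁U⟩ := exists_ft_comap_eq U hU I₁ hI₁ ⊤
    (by rw [Scheme.IdealSheafData.comap_top]; exact le_top)
  obtain ⟨J₂, hJ₂, -, hJ₂U⟩ := exists_ft_comap_eq U hU I₂ hI₂ ⊤
    (by rw [Scheme.IdealSheafData.comap_top]; exact le_top)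
  obtain ⟨X', b, hb⟩ := exists_isBlowUp X (J₁ ⊔ J₂)
  have hdisjU : Disjoint ((J₁ ⊔ J₂).support : Set X) (U : Set X) := by
    rw [Set.disjoint_left]
    intro x hx hxU
    have h1 : (⟨x, hxU⟩ : U.toScheme) ∈ (((J₁ ⊔ J₂).comap U.ι).support : Set U.toScheme) := by
      rw [Scheme.IdealSheafData.support_comap]
      exact hx
    rw [Scheme.IdealSheafData.comap_sup, hJ₁U, hJ₂U, hI, Scheme.IdealSheafData.support_top] at h1
    exact h1
  have hsub : ∀ (T : Set U), Subtype.val '' T ⊆ (U : Set X) := by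
    rintro T _ ⟨y, -, rfl⟩
    exact y.2
  refine ⟨J₁ ⊔ J₂, X', b, hb, ⟨isFiniteTypeIdeal_sup _ _ hJ₁ hJ₂, hdisjU⟩, ?_⟩
  apply disjoint_closure_of_isEffCartier_sup J₁ J₂ b hb.1
  · rintro _ ⟨y, hy, rfl⟩
    have h1 : y ∈ (I₁.support : Set U.toScheme) :=
      Scheme.IdealSheafData.support_antitone hI₁R (show y ∈ (R₁.support : Set U.toScheme) from hR₁s ▸ hy)
    rw [← hJ₁U, Scheme.IdealSheafData.support_comap] at h1
    exact h1
  · rintro _ ⟨y, hy, rfl⟩
    have h1 : y ∈ (I₂.support : Set U.toScheme) :=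
      Scheme.IdealSheafData.support_antitone hI₂R (show y ∈ (R₂.support : Set U.toScheme) from hR₂s ▸ hy)
    rw [← hJ₂U, Scheme.IdealSheafData.support_comap] at h1
    exact h1
  · exact hdisjU.mono_right (hsub T₁)
  · exact hdisjU.mono_right (hsub T₂)


end Groth.Agent.S1279
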