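import Mathlib
import Groth.Statements.S12802
import Groth.Agent.Lib.Helper19.StkCont

set_option autoImplicit false
open CategoryTheory
universe v u
open Stk

namespace Groth.Agent.S12802

/-- Let `F : 𝒳 ⟶ 𝒴` be a functor over `C` between categories fibred in groupoids over `C` and endow `𝒳`
and `𝒴` with the topologies inherited from the topology `J` on `C` (generated by the sieves whose
image in `C` covers). Then `F` maps covering sieves to families generating covering sieves, lifts
coverings (it is cocontinuous), and precomposition with `F` sends sheaves of types on `𝒴` to sheaves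
on `𝒳` (it is continuous). (The published statement is for a 1-morphism of fibred categories with
the inherited topologies; this row is the case of categories fibred in groupoids, and the published
statement phrases continuity through the fibre products of covering families and deduces a morphism
of topoi whose inverse image is precomposition with `F`, which is not stated here.) -/
theorem result {C : Type u} [Category.{v} C] (J : GrothendieckTopology C) {𝒳 𝒴 : BasedCategory.{v, max u v} C}
    (h𝒳 : FibCat.IsFibGrpd 𝒳.p) (h𝒴 : FibCat.IsFibGrpd 𝒴.p) (F : 𝒳 ⥤ᵇ 𝒴) :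
    CoverPreserving (𝒳.p.restrictedTopology J) (𝒴.p.restrictedTopology J) F.toFunctor ∧
      F.toFunctor.IsCocontinuous (𝒳.p.restrictedTopology J) (𝒴.p.restrictedTopology J) ∧
      F.toFunctor.IsContinuous (𝒳.p.restrictedTopology J) (𝒴.p.restrictedTopology J) := by
  have hp : FibCat.IsFibGrpd (F.toFunctor ⋙ 𝒴.p) := by rw [F.w]; exact h𝒳
  have h1 := Groth.Agent.Helper19.StkCont.coverPreserving 𝒴.p F.toFunctor h𝒴 hp J
  have h2 := Groth.Agent.Helper19.StkCont.isCocontinuous 𝒴.p F.toFunctor h𝒴 hp J
  have h3 := Groth.Agent.Helper19.StkCont.isContinuous 𝒴.p F.toFunctor h𝒴 hp J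
  rw [F.w] at h1 h2 h3
  exact ⟨h1, h2, h3⟩

end Groth.Agent.S12802
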