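import Mathlib
import Groth.Statements.S12804
import Groth.Agent.Lib.Helper19.StkRel

set_option autoImplicit false
open CategoryTheory
universe v u
open Stk

namespace Groth.Agent.S12804

/-- Let `𝒳`, `𝒴` be stacks in groupoids over `C` for the topology `J` and `F : 𝒳 ⟶ 𝒴` a functor over `C`
whose underlying functor makes `𝒳` fibred in groupoids over `𝒴`. Then `𝒳`, as a category over `𝒴`
through `F`, is a stack in groupoids for the topology on `𝒴` inherited from `J`. -/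
theorem result {C : Type u} [Category.{v} C] (J : GrothendieckTopology C) {𝒳 𝒴 : BasedCategory.{v, max u v} C}
    (h𝒳 : Stk.IsStack J 𝒳) (h𝒴 : Stk.IsStack J 𝒴) (F : 𝒳 ⥤ᵇ 𝒴) (hF : FibCat.IsFibGrpd F.toFunctor) :
    Stk.IsStack (𝒴.p.restrictedTopology J) (BasedCategory.ofFunctor F.toFunctor) := by
  refine ⟨hF, fun y S hS => ?_⟩
  have hR : S.functorPushforward 𝒴.p ∈ J (𝒴.p.obj y) :=
    (Groth.Agent.Helper19.RestrTop.mem_restrictedTopology_iff 𝒴.p h𝒴.1 J S).1 hS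
  have h1 := (Groth.Agent.Helper19.StkElem.isStackFor_iff h𝒳.1).1 (h𝒳.2 _ hR)
  have h2 := (Groth.Agent.Helper19.StkElem.isStackFor_iff h𝒴.1).1 (h𝒴.2 _ hR)
  exact (Groth.Agent.Helper19.StkElem.isStackFor_iff (𝒳 := Groth.Agent.Helper19.StkRel.ZZ F) hF).2
    ⟨Groth.Agent.Helper19.StkRel.eff F S h𝒴.1 h1.1 h2.2 hF,
      Groth.Agent.Helper19.StkRel.uniq F S h𝒴.1 h1.2 h2.2⟩

end Groth.Agent.S12804
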