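import Groth.Statements.S12807

set_option autoImplicit false
open CategoryTheory CategoryTheory.Limits
universe v₃ u₃ v₂ u₂ v u
open FibCat

namespace Groth.Agent.S12807


/-- Let `u : C ⥤ D` be a functor and `𝒮` a category over `D` whose structure functor is a fibred
category. Then the 2-fibre product `C ×_D 𝒮` of `u` and the structure functor (triples `(U, y, u U ≅
p y)`), with its first projection, is a fibred category over `C`. (The published statement uses the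
strict fibre product, pairs with `u U = p y`; for `𝒮` fibred over `D` it is equivalent over `C` to
the 2-fibre product used here.) -/
theorem result {C : Type u} [Category.{v} C] {D : Type u₂} [Category.{v₂} D] (u : C ⥤ D)
    (𝒮 : BasedCategory.{v₃, u₃} D) [𝒮.p.IsFibered] :
    (CategoricalPullback.π₁ u 𝒮.p).IsFibered := by
  apply Functor.IsFibered.of_exists_isStronglyCartesian
  intro a R f
  change R ⟶ a.fst at f
  obtain ⟨y', φ, hφ⟩ := Functor.IsPreFibered.exists_isCartesian' (p := 𝒮.p)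
    (a := a.snd) (u.map f ≫ a.iso.hom)
  have hsc : 𝒮.p.IsStronglyCartesian (u.map f ≫ a.iso.hom) φ := inferInstance
  have hy' : 𝒮.p.obj y' = u.obj R := IsHomLift.domain_eq 𝒮.p (u.map f ≫ a.iso.hom) φ
  have hφmap : 𝒮.p.map φ = eqToHom hy' ≫ u.map f ≫ a.iso.hom := by
    have := IsHomLift.fac' 𝒮.p (u.map f ≫ a.iso.hom) φ
    simpa using this
  let b : CategoricalPullback u 𝒮.p := ⟨R, y', eqToIso hy'.symm⟩
  let ψ : b ⟶ a := ⟨f, φ, by simp [b, hφmap]⟩
  refine ⟨b, ψ, ?_⟩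
  have hlift : (CategoricalPullback.π₁ u 𝒮.p).IsHomLift f ψ :=
    inferInstanceAs ((CategoricalPullback.π₁ u 𝒮.p).IsHomLift
      ((CategoricalPullback.π₁ u 𝒮.p).map ψ) ψ)
  refine { toIsHomLift := hlift, universal_property' := ?_ }
  intro a' h ψ' hψ'
  change a'.fst ⟶ R at h
  have hfst : ψ'.fst = h ≫ f :=
    (IsHomLift.eq_of_isHomLift (CategoricalPullback.π₁ u 𝒮.p) (h ≫ f) ψ').symm
  -- the map in 𝒮
  have hmap : 𝒮.p.map ψ'.snd = (a'.iso.inv ≫ u.map h) ≫ (u.map f ≫ a.iso.hom) := by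
    have := ψ'.w
    rw [← cancel_epi a'.iso.hom, ← this, hfst]
    simp
  have hl' : 𝒮.p.IsHomLift (𝒮.p.map ψ'.snd) ψ'.snd := inferInstance
  obtain ⟨χ₂, ⟨hχ₂l, hχ₂⟩, huniq⟩ := Functor.IsStronglyCartesian.universal_property 𝒮.p (u.map f ≫ a.iso.hom) φ (a'.iso.inv ≫ u.map h)
    (𝒮.p.map ψ'.snd) hmap ψ'.snd
  have hχ₂map : 𝒮.p.map χ₂ = (a'.iso.inv ≫ u.map h) ≫ eqToHom hy'.symm := by
    have := IsHomLift.fac' 𝒮.p (a'.iso.inv ≫ u.map h) χ₂
    simpa using this
  let χ : a' ⟶ b := ⟨h, χ₂, by simp [b, hχ₂map]⟩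
  refine ⟨χ, ⟨?_, ?_⟩, ?_⟩
  · exact inferInstanceAs ((CategoricalPullback.π₁ u 𝒮.p).IsHomLift
      ((CategoricalPullback.π₁ u 𝒮.p).map χ) χ)
  · apply CategoricalPullback.hom_ext
    · simp [χ, ψ, hfst]
    · simp [χ, ψ, hχ₂]
  · rintro χ' ⟨hχ'l, hχ'⟩
    have h1 : χ'.fst = h :=
      (@IsHomLift.eq_of_isHomLift _ _ _ _ (CategoricalPullback.π₁ u 𝒮.p) a' b h χ' hχ'l).symm
    have h2 : χ'.snd ≫ φ = ψ'.snd := by
      have := congrArg CategoricalPullback.Hom.snd hχ'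
      simpa [ψ] using this
    have h3 : 𝒮.p.IsHomLift (a'.iso.inv ≫ u.map h) χ'.snd := by
      apply IsHomLift.of_fac' _ _ _ rfl hy'
      have := χ'.w
      rw [← cancel_epi a'.iso.hom, ← this, h1]
      simp [b]
    have h4 := huniq χ'.snd ⟨h3, h2⟩
    apply CategoricalPullback.hom_ext
    · simpa [χ] using h1
    · simpa [χ] using h4

end Groth.Agent.S12807
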