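import Mathlib
import Groth.Statements.S12816
import Groth.Agent.S6409
import Groth.Agent.S6397
-- import your own Groth.Agent.* helpers here

set_option autoImplicit false
open CategoryTheory
universe v u
open Stk

namespace Groth.Agent.S12816

open FibCat in
/-- the 2-Yoneda square. -/
def sqIso {C : Type u} [Category.{v} C] {𝒳 𝒴 : BasedCategory.{v, max u v} C} (F : 𝒳 ⟶ 𝒴) (U : C) :
    Bicategory.postcomp (FibCat.overCat U) F ⋙ FibCat.evalAtId 𝒴 U ≅
      FibCat.evalAtId 𝒳 U ⋙ FibCat.fiberFunctor F U :=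
  NatIso.ofComponents (fun G => Iso.refl _) (fun {G H} α => by
    apply Functor.Fiber.hom_ext
    show _ ≫ 𝟙 _ = 𝟙 _ ≫ _
    rw [Category.comp_id, Category.id_comp]
    rfl)


/-- Let `𝒳`, `𝒴` be fibred in groupoids over `C` and `F : 𝒳 ⟶ 𝒴` a functor over `C`. Then the underlying
functor of `F` is fully faithful if and only if, for every object `U` of `C`, postcomposition with
`F` is a fully faithful functor from the category of functors `C/U ⟶ 𝒳` over `C` to that of functors
`C/U ⟶ 𝒴` over `C`; under the 2-Yoneda lemma the latter says that `F` induces bijections between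
morphisms of pullbacks `x|_V ⟶ y|_V` and `F(x)|_V ⟶ F(y)|_V` for all objects `x, y` over `U` and all
`V ⟶ U`, that is, isomorphisms of the presheaves of morphisms. (The published statement is for
stacks over a site, not necessarily in groupoids; the stack property plays no role and is not
assumed here, and this row treats categories fibred in groupoids.) -/
theorem result {C : Type u} [Category.{v} C] {𝒳 𝒴 : BasedCategory.{v, max u v} C}
    (h𝒳 : FibCat.IsFibGrpd 𝒳.p) (h𝒴 : FibCat.IsFibGrpd 𝒴.p) (F : 𝒳 ⟶ 𝒴) :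
    (F.toFunctor.Full ∧ F.toFunctor.Faithful) ↔
      ∀ U : C, (Bicategory.postcomp (FibCat.overCat U) F).Full ∧ (Bicategory.postcomp (FibCat.overCat U) F).Faithful := by
  rw [Groth.Agent.S6397.result F h𝒳 h𝒴]
  refine forall_congr' fun U => ?_
  have hE𝒳 : (FibCat.evalAtId 𝒳 U).IsEquivalence := Groth.Agent.S6409.result h𝒳 U
  have hE𝒴 : (FibCat.evalAtId 𝒴 U).IsEquivalence := Groth.Agent.S6409.result h𝒴 U
  constructor
  · rintro ⟨h1, h2⟩
    have h3 : (FibCat.evalAtId 𝒳 U ⋙ FibCat.fiberFunctor F U).Full := inferInstance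
    have h4 : (FibCat.evalAtId 𝒳 U ⋙ FibCat.fiberFunctor F U).Faithful := inferInstance
    have h5 : (Bicategory.postcomp (FibCat.overCat U) F ⋙ FibCat.evalAtId 𝒴 U).Full :=
      Functor.Full.of_iso (sqIso F U).symm
    have h6 : (Bicategory.postcomp (FibCat.overCat U) F ⋙ FibCat.evalAtId 𝒴 U).Faithful :=
      Functor.Faithful.of_iso (sqIso F U).symm
    exact ⟨Functor.Full.of_comp_faithful _ (FibCat.evalAtId 𝒴 U),
      Functor.Faithful.of_comp _ (FibCat.evalAtId 𝒴 U)⟩
  · rintro ⟨h1, h2⟩
    have h3 : (Bicategory.postcomp (FibCat.overCat U) F ⋙ FibCat.evalAtId 𝒴 U).Full := inferInstance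
    have h4 : (Bicategory.postcomp (FibCat.overCat U) F ⋙ FibCat.evalAtId 𝒴 U).Faithful := inferInstance
    have h5 : (FibCat.evalAtId 𝒳 U ⋙ FibCat.fiberFunctor F U).Full := Functor.Full.of_iso (sqIso F U)
    have h6 : (FibCat.evalAtId 𝒳 U ⋙ FibCat.fiberFunctor F U).Faithful :=
      Functor.Faithful.of_iso (sqIso F U)
    let i : (FibCat.evalAtId 𝒳 U).inv ⋙ (FibCat.evalAtId 𝒳 U ⋙ FibCat.fiberFunctor F U) ≅
        FibCat.fiberFunctor F U :=
      (Functor.associator _ _ _).symm ≪≫
        Functor.isoWhiskerRight (FibCat.evalAtId 𝒳 U).asEquivalence.counitIso _ ≪≫ Functor.leftUnitor _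
    exact ⟨Functor.Full.of_iso i, Functor.Faithful.of_iso i⟩

end Groth.Agent.S12816
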