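import Mathlib
import Groth.Statements.S12824
import Groth.Agent.Lib.Helper19.StPtsQc

set_option autoImplicit false
universe u
open CategoryTheory AlgebraicGeometry
open AlgSt

namespace Groth.Agent.S12824

/-- For an algebraic stack `𝒳` over `S`, every open neighbourhood of a point of `|𝒳|` contains a
quasi-compact open neighbourhood of that point; hence `|𝒳|` is locally quasi-compact. -/
theorem result {S : Scheme.{u}} {𝒳 : AlgSt.Cat S}
    (h𝒳 : AlgSt.IsAlgStack Scheme.fppfPrecoverage 𝒳) (x : AlgSt.Points 𝒳) (W : Set (AlgSt.Points 𝒳)) (hW : IsOpen W) (hx : x ∈ W) :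
    ∃ V : Set (AlgSt.Points 𝒳), IsOpen V ∧ IsCompact V ∧ x ∈ V ∧ V ⊆ W := by
  obtain ⟨U, p, hp₁, hp₂⟩ := h𝒳.atlas
  have hs := Groth.Agent.Helper19.StPts.surjective_ofChart_of_surjective h𝒳.isStack.1 U p hp₂
  have ho := Groth.Agent.Helper19.StPts.isOpenMap_ofChart_of_smooth h𝒳 U p hp₁
  have hc := Groth.Agent.Helper19.StPts.continuous_ofChart h𝒳 p
  obtain ⟨u, rfl⟩ := hs x
  obtain ⟨_, ⟨O, hO, rfl⟩, huO, hOW⟩ :=
    (U.left.isBasis_affineOpens).exists_subset_of_mem_open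
      (show u ∈ AlgSt.Points.ofChart p ⁻¹' W from hx) (hW.preimage hc)
  refine ⟨AlgSt.Points.ofChart p '' (O : Set U.left), ho _ O.isOpen, ?_, ⟨u, huO, rfl⟩, ?_⟩
  · exact (IsAffineOpen.isCompact hO).image hc
  · rintro _ ⟨v, hv, rfl⟩
    exact hOW hv

end Groth.Agent.S12824
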