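import Mathlib
import Groth.Statements.S12828
import Groth.Agent.Lib.Helper19.StPtsUniv

set_option autoImplicit false
universe u
open CategoryTheory AlgebraicGeometry
open AlgSt

namespace Groth.Agent.S12828

/-- For a morphism `f : 𝒳 ⟶ 𝒴` of algebraic stacks over `S` that is representable by algebraic spaces,
every base change of `f` to a scheme is universally closed as a morphism of algebraic spaces exactly
when, for each morphism of algebraic stacks `𝒵 ⟶ 𝒴`, the induced map on points `|𝒵 ×_𝒴 𝒳| → |𝒵|` is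
closed. -/
theorem result {S : Scheme.{u}} {𝒳 𝒴 : AlgSt.Cat S}
    (h𝒳 : AlgSt.IsAlgStack Scheme.fppfPrecoverage 𝒳) (h𝒴 : AlgSt.IsAlgStack Scheme.fppfPrecoverage 𝒴) (f : 𝒳 ⥤ᵇ 𝒴) (hf : AlgSt.RepByAlgSp1 f) :
    AlgSt.RepByAlgSpWith AlgSp.IsUnivClosedMor f ↔ AlgSt.IsUnivClosed Scheme.fppfPrecoverage f := by
  constructor
  · intro h 𝒵 h𝒵 g
    exact Groth.Agent.Helper19.StPts.forall_of_repByAlgSpWith_univSp Groth.Agent.Helper19.StPts.topInv_isClosedMap
      Groth.Agent.Helper19.StPts.chartLocal_isClosedMap h𝒳 h𝒴 f h 𝒵 h𝒵 g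
  · intro h
    exact Groth.Agent.Helper19.StPts.repByAlgSpWith_univSp_of_forall Groth.Agent.Helper19.StPts.topInv_isClosedMap f hf h

end Groth.Agent.S12828
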