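import Mathlib
import Groth.Statements.S12847
import Groth.Agent.Lib.Helper19.StPtsQc

set_option autoImplicit false
open CategoryTheory AlgebraicGeometry
universe u
open AlgSt

namespace Groth.Agent.S12847

/-- (1) ⇔ (2): an algebraic stack `𝒳` over `S` admits a surjective smooth `U ⟶ 𝒳` with `U` an affine
scheme if and only if the topological space `|𝒳|` of its points is quasi-compact. -/
theorem result {S : Scheme.{u}} {𝒳 : AlgSt.Cat S}
    (h𝒳 : AlgSt.IsAlgStack Scheme.fppfPrecoverage 𝒳) :
    AlgSt.IsQuasiCompact 𝒳 ↔ CompactSpace (AlgSt.Points 𝒳) := by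
  constructor
  · intro h
    exact Groth.Agent.Helper19.StPts.compactSpace_points_of_isQuasiCompact h𝒳 h
  · intro h
    exact Groth.Agent.Helper19.StPts.isQuasiCompact_of_compactSpace_points h𝒳

end Groth.Agent.S12847
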