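import Groth.Statements.S1285
-- import your own Groth.Agent.* helpers here
import Mathlib
import Groth.Agent.Lib.Helper27.DvV2
import Groth.Agent.Lib.Helper27.DvV3
import Groth.Agent.Lib.Helper27.DvV4

set_option autoImplicit false
universe u
open FlatMor

namespace Groth.Agent.S1285

/-- Let (C, D, G) be a one-step dévissage of N/S/R over the prime p (see FlatCA.IsOneStepDevissage), and
suppose pD is prime (the generic point of the fibre of Spec D). Then there are r > 0 and a D-linear
map α from D^r to G which becomes bijective after base change to the residue field of pD; moreover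
for every such α the support of the fibre module over p of the cokernel of α has dimension strictly
less than that of the fibre module of N. -/
theorem result {R S : Type u} [CommRing R] [CommRing S] [Algebra R S] [Algebra.FiniteType R S]
    (N : Type u) [AddCommGroup N] [Module S N] [Module R N] [IsScalarTower R S N] [Module.Finite S N] (p : Ideal R) [p.IsPrime]
    (C D G : Type u) [CommRing C] [CommRing D] [Algebra S C] [Algebra R C] [IsScalarTower R S C]
    [Algebra R D] [Algebra D C] [IsScalarTower R D C] [AddCommGroup G] [Module C G] [Module S G] [IsScalarTower S C G]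
    [Module D G] [IsScalarTower D C G] [Module R G] [IsScalarTower R D G]
    (n : ℕ) (h : FlatCA.IsOneStepDevissage R S N p C D G n) [(p.map (algebraMap R D)).IsPrime] :
    (∃ (r : ℕ) (α : (Fin r → D) →ₗ[D] G), 0 < r ∧ Function.Bijective (α.baseChange (p.map (algebraMap R D)).ResidueField)) ∧
    ∀ (r : ℕ) (α : (Fin r → D) →ₗ[D] G), Function.Bijective (α.baseChange (p.map (algebraMap R D)).ResidueField) →
      Module.supportDim (p.Fiber D) (FlatCA.fiberMod p D (G ⧸ LinearMap.range α)) < (n : WithBot ℕ∞) := by
  classical
  obtain ⟨⟨e⟩, hsurj, -, hfinDC, hfinCG, hsm, -, hdim⟩ := h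
  haveI := hfinDC
  haveI := hfinCG
  haveI : Module.Finite S C := Module.Finite.of_surjective (Algebra.linearMap S C) hsurj
  haveI : Module.Finite D G := Module.Finite.trans C G
  haveI : Module.Finite S G := Module.Finite.trans C G
  haveI tRCG : IsScalarTower R C G := IsScalarTower.of_algebraMap_smul fun r x => by
    rw [IsScalarTower.algebraMap_apply R D C, algebraMap_smul, algebraMap_smul]
  haveI tRSG : IsScalarTower R S G := IsScalarTower.of_algebraMap_smul fun r x => by
    rw [← algebraMap_smul C (algebraMap R S r) x, ← IsScalarTower.algebraMap_apply R S C,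
      algebraMap_smul]
  -- the dimension of the fibre support of `G` over `D`
  have h1 : Module.supportDim (p.Fiber S) (FlatCA.fiberMod p S N) =
      Module.supportDim (p.Fiber S) (FlatCA.fiberMod p S G) :=
    Groth.Agent.Helper27.Dv.supportDim_fiberMod_congr R S p N G e
  have h2 : Module.supportDim (p.Fiber S) (FlatCA.fiberMod p S G) =
      Module.supportDim (p.Fiber C) (FlatCA.fiberMod p C G) :=
    Groth.Agent.Helper27.Dv.supportDim_fiberMod_eq_of_finite R S C p G
  have h3 : Module.supportDim (p.Fiber D) (FlatCA.fiberMod p D G) =
      Module.supportDim (p.Fiber C) (FlatCA.fiberMod p C G) :=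
    Groth.Agent.Helper27.Dv.supportDim_fiberMod_eq_of_finite R D C p G
  have hdimG : Module.supportDim (p.Fiber D) (FlatCA.fiberMod p D G) = n := by
    rw [h3, ← h2, ← h1, hdim]
  -- the fibre of `D`
  haveI : Algebra.Smooth R D := Groth.Agent.Helper27.Dv.smooth_of_smoothRelDim R D n hsm
  haveI : Module.Flat R D := inferInstance
  haveI hO : (p.map (algebraMap R D)).LiesOver p :=
    Groth.Agent.Helper27.Dv.liesOver_map_of_flat R D p
  have hdimF : ringKrullDim (p.Fiber D) ≤ n :=
    Groth.Agent.Helper27.Dv.ringKrullDim_fiber_le R D n hsm p
  have hin := Groth.Agent.Helper27.Dv.genPt_mem_support_of_dim R D p G n hdimG hdimF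
  exact ⟨Groth.Agent.Helper27.Dv.exists_alpha_bijective R D p G hin, fun r α hα =>
    Groth.Agent.Helper27.Dv.supportDim_coker_lt R D p G n hin hdimG r α hα⟩

end Groth.Agent.S1285
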