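import Mathlib
import Groth.Statements.S12854
import Groth.Agent.Lib.Helper19.StLib2

set_option autoImplicit false
open CategoryTheory AlgebraicGeometry
universe u
open AlgSt

namespace Groth.Agent.S12854

/-- Suppose `P`, a property of schemes, is local for the smooth topology (for every jointly surjective
family of smooth morphisms `V_i ⟶ U`, `U` has `P` if and only if every `V_i` has `P`) and `U` a
scheme over `S`. Then every scheme admitting a smooth morphism to (the algebraic stack of) `U` has
`P` if and only if `U` has `P`. -/
theorem result {S : Scheme.{u}} (U : Over S) (P : Scheme.{u} → Prop)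
    (hP : ∀ (U : Scheme.{u}) (R : Presieve U), R ∈ Scheme.precoverage @Smooth U →
      (P U ↔ ∀ ⦃V : Scheme.{u}⦄ (g : V ⟶ U), R g → P V)) :
    AlgSt.SmoothLocally P (AlgSt.ofSch U) ↔ P U.left := by
  constructor
  · intro h
    refine h U (AlgSt.ofOverCat U) ?_
    refine Groth.Agent.Helper19.PshSt.repByAlgSpWith_of_equiv _ ?_ _
      (Groth.Agent.Helper19.PshSt.isEquivOver_ofOverCat U)
    intro W U' V' a b h' ha hb hab
    have h1 : (AlgSp.yon S).map h' ≫ b = a := by rw [← hab, Category.comp_id]
    have h2 : Etale h'.left := Groth.Agent.Helper15.etale_of_comp_repWith a b h' h1 ha hb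
    infer_instance
  · intro hPU V x hx
    obtain ⟨g, -, hg⟩ := Groth.Agent.Helper19.PshSt.exists_hom_of_repByAlgSpWith _ x hx
    have hsm : Smooth g.left := AlgSp.locP_yon_map hg
    let X : Bool → Scheme.{u} := fun b => cond b V.left U.left
    let f : ∀ b, X b ⟶ U.left := fun b => match b with
      | true => g.left
      | false => 𝟙 _
    have hmem : Presieve.ofArrows X f ∈ Scheme.precoverage @Smooth U.left := by
      rw [Scheme.ofArrows_mem_precoverage_iff]
      refine ⟨fun x => ⟨false, ⟨x, rfl⟩⟩, fun b => ?_⟩
      cases b
      · exact (inferInstance : Smooth (𝟙 U.left))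
      · exact hsm
    exact (hP U.left _ hmem).1 hPU (f true) (Presieve.ofArrows.mk true)

end Groth.Agent.S12854
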