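import Mathlib
import Groth.Statements.S12855
import Groth.Agent.Lib.Helper19.StLib2
import Groth.Agent.Lib.Helper15.AlgSpLocP2

set_option autoImplicit false
open CategoryTheory AlgebraicGeometry
universe u
open AlgSt

namespace Groth.Agent.S12855

/-- Suppose `P`, a property of schemes, is local for the smooth topology (for every jointly surjective
family of smooth morphisms `V_i ⟶ U`, `U` has `P` if and only if every `V_i` has `P`) and `X` an
algebraic space over `S`. Then every scheme admitting a smooth morphism to (the algebraic stack of)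
`X` has `P` if and only if `X` has `P`, i.e. some surjective etale scheme chart of `X` has `P`. -/
theorem result {S : Scheme.{u}} (X : AlgSp.Space S) (P : Scheme.{u} → Prop)
    (hP : ∀ (U : Scheme.{u}) (R : Presieve U), R ∈ Scheme.precoverage @Smooth U →
      (P U ↔ ∀ ⦃V : Scheme.{u}⦄ (g : V ⟶ U), R g → P V)) :
    AlgSt.SmoothLocally P (AlgSt.ofSp X.obj) ↔ AlgSp.EtaleLocally P X.obj := by
  constructor
  · intro h
    obtain ⟨U, p, hpe, hps⟩ := X.property.atlas
    refine ⟨U, p, hpe, hps, ?_⟩
    refine h U (BasedFunctor.comp (AlgSt.ofOverCat U) (Stk.ofPshMap p.hom)) ?_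
    rw [Groth.Agent.Helper19.StLib.repByAlgSpWith_equiv_comp _
      (Groth.Agent.Helper19.PshSt.isEquivOver_ofOverCat U)]
    refine Groth.Agent.Helper19.PshSt.repByAlgSpWith_ofPshMap_of_repWith @Etale _ ?_ p hpe
    intro F G f hf
    have h1 : AlgSp.LocP @Etale f :=
      Groth.Agent.Helper15.locP_of_repWith (P := @Etale) le_rfl f hf
    refine Groth.Agent.Helper15.locP_mono ?_ h1
    intro A B g hg
    have : Etale g := hg
    exact (inferInstance : Smooth g)
  · rintro ⟨U, p, hpe, hps, hPU⟩ V x hx
    let ξ₀ : (AlgSp.pyon S).obj V ⟶ X.obj.obj := Groth.Agent.Helper19.PshSt.sectionMap x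
    let ξ : (AlgSp.yon S).obj V ⟶ X.obj := ObjectProperty.homMk ξ₀
    have hξ : AlgSt.RepByAlgSpWith (AlgSp.LocP @Smooth) (Stk.ofPshMap ξ.hom) :=
      (Groth.Agent.Helper19.StLib.repByAlgSpWith_equiv_comp (AlgSt.ofOverCat V)
        (Groth.Agent.Helper19.PshSt.isEquivOver_ofOverCat V) _).1
        (Groth.Agent.Helper19.StLib.repByAlgSpWith_of_iso
          (Groth.Agent.Helper19.PshSt.sectionMapIso x).symm hx)
    rw [← Groth.Agent.Helper19.PshSt.repBySpWith_iff, AlgSp.repBySpWith_hom_iff] at hξ
    have hrep := hpe.rep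
    have sq := hrep.isPullback' ξ
    obtain ⟨-, hsm⟩ := hξ p _ _ sq.flip
    have h1 : Smooth (hrep.fst' ξ).left := AlgSp.locP_yon_map hsm
    have h2 : Etale (hrep.snd ξ).left := ((AlgSp.repWith_iff _ p).1 hpe).2 ξ _ _ sq
    have h3 : Surjective (hrep.snd ξ).left := ((AlgSp.repWith_iff _ p).1 hps).2 ξ _ _ sq
    -- P W
    have hPW : P (hrep.pullback ξ).left := by
      let Y : Bool → Scheme.{u} := fun b => cond b (hrep.pullback ξ).left U.left
      let f : ∀ b, Y b ⟶ U.left := fun b => match b with
        | true => (hrep.fst' ξ).left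
        | false => 𝟙 _
      have hmem : Presieve.ofArrows Y f ∈ Scheme.precoverage @Smooth U.left := by
        rw [Scheme.ofArrows_mem_precoverage_iff]
        refine ⟨fun x => ⟨false, ⟨x, rfl⟩⟩, fun b => ?_⟩
        cases b
        · exact (inferInstance : Smooth (𝟙 U.left))
        · exact h1
      exact (hP U.left _ hmem).1 hPU (f true) (Presieve.ofArrows.mk true)
    have hmem : Presieve.singleton (hrep.snd ξ).left ∈ Scheme.precoverage @Smooth V.left := by
      rw [Scheme.singleton_mem_precoverage_iff]
      exact ⟨h3.surj, inferInstance⟩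
    refine (hP V.left _ hmem).2 ?_
    intro W g hg
    cases hg
    exact hPW

end Groth.Agent.S12855
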