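import Mathlib
import Groth.Statements.S12858
import Groth.Agent.Lib.Helper19.StPtsQc

set_option autoImplicit false
open CategoryTheory AlgebraicGeometry
universe u
open AlgSt

namespace Groth.Agent.S12858

/-- (5) ⇒ (2): let `f : 𝒰 ⟶ 𝒳` be a 1-morphism of algebraic stacks over `S` inducing a surjective map on
points. If `𝒰` is quasi-compact (admits a surjective smooth morphism from an affine scheme), so is
`𝒳`. -/
theorem result {S : Scheme.{u}} {𝒰 𝒳 : AlgSt.Cat S}
    (h𝒰 : AlgSt.IsAlgStack Scheme.fppfPrecoverage 𝒰) (h𝒳 : AlgSt.IsAlgStack Scheme.fppfPrecoverage 𝒳) (f : 𝒰 ⥤ᵇ 𝒳) (hf : AlgSt.IsSurjective f)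
    (h𝒰' : AlgSt.IsQuasiCompact 𝒰) : AlgSt.IsQuasiCompact 𝒳 := by
  have h1 : CompactSpace (AlgSt.Points 𝒰) :=
    Groth.Agent.Helper19.StPts.compactSpace_points_of_isQuasiCompact h𝒰 h𝒰'
  have hc : Continuous (AlgSt.Points.map f) := Groth.Agent.Helper19.StPts.continuous_points_map h𝒳 f
  have h2 : CompactSpace (AlgSt.Points 𝒳) := by
    constructor
    rw [← Set.range_eq_univ.2 hf]
    exact isCompact_range hc
  exact Groth.Agent.Helper19.StPts.isQuasiCompact_of_compactSpace_points h𝒳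

end Groth.Agent.S12858
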