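import Mathlib
import Groth.Statements.S12864
import Groth.Agent.Lib.Helper19.OpenCov.Main
import Groth.Agent.Lib.Helper15.AlgSpGlue

set_option autoImplicit false
open CategoryTheory AlgebraicGeometry
universe u w
open AlgSt

namespace Groth.Agent.S12864

/-- Let `𝒳` be an algebraic stack over `S` and `𝒳_i ⊂ 𝒳` a family of open substacks with `𝒳 = ⋃ 𝒳_i`
(their points exhaust `|𝒳|`). If every `𝒳_i` is a scheme (equivalent over `(Sch/S)` to some
`(Sch/U)`), then `𝒳` is a scheme. -/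
theorem result {S : Scheme.{u}} {𝒳 : AlgSt.Cat S}
    (h𝒳 : AlgSt.IsAlgStack Scheme.fppfPrecoverage 𝒳) {ι : Type w} (Q : ι → 𝒳.obj → Prop)
    (hQ : ∀ i, AlgSt.IsOpenSubstack 𝒳 (Q i) Scheme.fppfPrecoverage)
    (hcov : ⋃ i, Set.range (AlgSt.Points.map (AlgSt.subIncl 𝒳 (Q i))) = Set.univ)
    (hsch : ∀ i, FibCat.IsRepresentable (AlgSt.fullSub 𝒳 (Q i))) : FibCat.IsRepresentable 𝒳 := by
  choose Ui Gi hGi using hsch
  have hinv : ∀ i, ∃ G' : FibCat.overCat (Ui i) ⥤ᵇ AlgSt.fullSub 𝒳 (Q i), FibCat.IsEquivOver G' := fun i => by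
    obtain ⟨G', hG', -, -⟩ := Groth.Agent.Helper19.FibLib.IsEquivOver.exists_inv (hGi i)
    exact ⟨G', hG'⟩
  choose Gi' hGi' using hinv
  let Fi : ι → AlgSp.Space S := fun i => ⟨(AlgSp.yon S).obj (Ui i), AlgSp.IsAlgSpace.yon_obj (Ui i)⟩
  let ei : ∀ i, AlgSt.ofSp (Fi i).obj ⥤ᵇ AlgSt.fullSub 𝒳 (Q i) :=
    fun i => BasedFunctor.comp (AlgSt.toOverCat (Ui i)) (Gi' i)
  have hei : ∀ i, FibCat.IsEquivOver (ei i) := fun i =>
    Groth.Agent.Helper19.FibLib.IsEquivOver.comp (Groth.Agent.Helper19.PshSt.isEquivOver_toOverCat (Ui i)) (hGi' i)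
  obtain ⟨F, E', hE', κ, idx, a, hopen, hcovF⟩ :=
    Groth.Agent.Helper19.OpenCov.exists_sheaf_openCover h𝒳 Q hQ hcov Fi ei hei
  obtain ⟨V, e, -, -, -, -⟩ := Groth.Agent.Helper15.exists_rep_of_openCover
    (U := fun k => Ui (idx k)) (a := fun k => a (idx k)) (fun k => hopen (idx k)) hcovF
  obtain ⟨E, hE, -, -⟩ := Groth.Agent.Helper19.FibLib.IsEquivOver.exists_inv hE'
  have he : FibCat.IsEquivOver (AlgSt.ofSpMap e.inv) :=
    Groth.Agent.Helper19.PshLib.isEquivOver_ofPshMap_iso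
      ((sheafToPresheaf (AlgSp.J S) (Type (u + 1))).mapIso e.symm)
  exact ⟨V, BasedFunctor.comp E (BasedFunctor.comp (AlgSt.ofSpMap e.inv) (AlgSt.toOverCat V)),
    Groth.Agent.Helper19.FibLib.IsEquivOver.comp hE
      (Groth.Agent.Helper19.FibLib.IsEquivOver.comp he (Groth.Agent.Helper19.PshSt.isEquivOver_toOverCat V))⟩

end Groth.Agent.S12864
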