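import Mathlib
import Groth.Statements.S12866
import Groth.Agent.Lib.Helper19.ClosedSub

set_option autoImplicit false
open CategoryTheory AlgebraicGeometry
universe u
open AlgSt

namespace Groth.Agent.S12866

/-- Let `𝒳`, `𝒴` be algebraic stacks over `S` with `𝒴` reduced, `𝒵 ⊂ 𝒳` a closed substack and `f : 𝒴 ⟶
𝒳` a 1-morphism. Then `f` factors through `𝒵` (every `f(y)` is an object of the strictly full
subcategory `𝒵`) if and only if `|f|(|𝒴|) ⊂ |𝒵|`. -/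
theorem result {S : Scheme.{u}} {𝒳 𝒴 : AlgSt.Cat S}
    (h𝒳 : AlgSt.IsAlgStack Scheme.fppfPrecoverage 𝒳) (h𝒴 : AlgSt.IsAlgStack Scheme.fppfPrecoverage 𝒴) (hred : AlgSt.SmoothLocally (fun X => IsReduced X) 𝒴)
    (Q : 𝒳.obj → Prop) (hQ : AlgSt.IsClosedSubstack 𝒳 Q Scheme.fppfPrecoverage) (f : 𝒴 ⥤ᵇ 𝒳) :
    (∀ y : 𝒴.obj, Q (f.obj y)) ↔ Set.range (AlgSt.Points.map f) ⊆ Set.range (AlgSt.Points.map (AlgSt.subIncl 𝒳 Q)) := by
  constructor
  · rintro h _ ⟨w, rfl⟩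
    obtain ⟨p, rfl⟩ := AlgSt.Points.mk_surjective w
    let q : AlgSt.FPt 𝒳 := AlgSt.FPt.map f p
    let p' : AlgSt.FPt (AlgSt.fullSub 𝒳 Q) :=
      { K := q.K, str := q.str, obj := ⟨q.obj, h _⟩, lies := q.lies }
    exact ⟨AlgSt.Points.mk p', rfl⟩
  · intro h y
    exact Groth.Agent.Helper19.ClosedSub.of_points_subset h𝒳 h𝒴 hred Q hQ f h y

end Groth.Agent.S12866
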