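import Mathlib
import Groth.Statements.S12869
import Groth.Agent.Lib.Helper19.MonoDesc

set_option autoImplicit false
open CategoryTheory AlgebraicGeometry
universe u
open AlgSt

namespace Groth.Agent.S12869

/-- The composite of two monomorphisms `f : 𝒳 ⟶ 𝒴`, `g : 𝒴 ⟶ 𝒵` of algebraic stacks over `S` is a
monomorphism. -/
theorem result {S : Scheme.{u}} {𝒳 𝒴 𝒵 : AlgSt.Cat S}
    (h𝒳 : AlgSt.IsAlgStack Scheme.fppfPrecoverage 𝒳) (h𝒴 : AlgSt.IsAlgStack Scheme.fppfPrecoverage 𝒴) (h𝒵 : AlgSt.IsAlgStack Scheme.fppfPrecoverage 𝒵)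
    (f : 𝒳 ⥤ᵇ 𝒴) (g : 𝒴 ⥤ᵇ 𝒵) (hf : AlgSt.IsMono f) (hg : AlgSt.IsMono g) :
    AlgSt.IsMono (BasedFunctor.comp f g) := by
  exact Groth.Agent.Helper19.AlgP.repByAlgSpWith_comp Groth.Agent.Helper19.MonoDesc.stableAlg_mono
    Groth.Agent.Helper19.MonoDesc.compAlg_mono Groth.Agent.Helper19.MonoDesc.descAtlas_mono
    h𝒳.isStack.1 h𝒴.isStack.1 f g hf hg

end Groth.Agent.S12869
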