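import Groth.Statements.S12887
import Mathlib
import Groth.Agent.Lib.Helper24.Supp8
import Groth.Agent.Lib.Helper17.MT18

set_option autoImplicit false
universe u
open CategoryTheory CategoryTheory.Limits
open ModSite

namespace Groth.Agent.S12887


open Groth.Agent.Helper24.FrMod Groth.Agent.Helper24.GSS Groth.Agent.Helper17.MT
  Groth.Agent.Helper24.CechH Groth.Agent.Helper24.Supp

/-- On a small ringed site (C, J, O) with O commutative, let X be an object of C, M an O-module and q ≥
0. The formation of the local Ext sheaves ℰxt^q_O(M, -) (right derived functors of the internal Hom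
ℋom_O(M, -)) commutes with localisation: the functor N ↦ ℰxt^q_O(M, N)|_X is isomorphic to N ↦
ℰxt^q_{O|_X}(M|_X, N|_X). (Existence of an isomorphism of functors only. The internal Hom functors
of M and of M|_X and injective resolutions of modules on C and on C/X are the stated instance
hypotheses, all true.) -/
theorem result {C : Type u} [SmallCategory C] {J : GrothendieckTopology C}
    (O : Sheaf J CommRingCat.{u}) (X : C) (M : ModSite.Mod O)
    [ModSite.HasSheafHom M] [ModSite.HasSheafHom ((ModSite.restr O X).obj M)]
    [HasInjectiveResolutions (ModSite.Mod O)] [HasInjectiveResolutions (ModSite.Mod (O.over X))] (q : ℕ) :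
    Nonempty (ModSite.extSh M q ⋙ ModSite.restr O X ≅
      ModSite.restr O X ⋙ ModSite.extSh ((ModSite.restr O X).obj M) q) := by
  have hE : ∀ {D : Type (u + 1)} [Category.{u} D] [Abelian D] [HasInjectiveResolutions D],
      EnoughInjectives D := by
    intro D _ _ _
    refine ⟨fun X => ?_⟩
    let I : InjectiveResolution X := (HasInjectiveResolution.out (Z := X)).some
    exact ⟨{ J := I.cocomplex.X 0
             injective := I.injective 0
             f := (I.ι.f 0 : X ⟶ I.cocomplex.X 0)
             mono := inferInstanceAs (Mono (I.ι.f 0)) }⟩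
  have : EnoughInjectives (ModSite.Mod O) := hE
  have : EnoughInjectives (ModSite.Mod (O.over X)) := hE
  have adjL : TR (O.over X) ((ModSite.restr O X).obj M) ⋙ eS O X ⊣
      ModSite.restr O X ⋙ ModSite.sheafHom ((ModSite.restr O X).obj M) :=
    (ModSite.sheafHomAdj ((ModSite.restr O X).obj M)).comp (eSAdj O X)
  have adjR : eS O X ⋙ TR O M ⊣ ModSite.sheafHom M ⋙ ModSite.restr O X :=
    (eSAdj O X).comp (ModSite.sheafHomAdj M)
  have adjL' := adjL.ofNatIsoLeft (PsiIso O X M)
  let e₀ : ModSite.sheafHom M ⋙ ModSite.restr O X ≅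
      ModSite.restr O X ⋙ ModSite.sheafHom ((ModSite.restr O X).obj M) :=
    adjR.rightAdjointUniq adjL'
  have h1 : PreservesFiniteLimits (ModSite.sheafHom M) := by
    have : PreservesLimitsOfSize.{0, 0} (ModSite.sheafHom M) :=
      (ModSite.sheafHomAdj M).rightAdjoint_preservesLimits
    exact PreservesLimitsOfSize.preservesFiniteLimits _
  have h2 : PreservesFiniteLimits (ModSite.sheafHom ((ModSite.restr O X).obj M)) := by
    have : PreservesLimitsOfSize.{0, 0} (ModSite.sheafHom ((ModSite.restr O X).obj M)) :=
      (ModSite.sheafHomAdj _).rightAdjoint_preservesLimits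
    exact PreservesLimitsOfSize.preservesFiniteLimits _
  obtain ⟨a⟩ := nonempty_rightDerived_comp_exact_iso (ModSite.sheafHom M) (ModSite.restr O X) q
  obtain ⟨b⟩ := nonempty_exact_comp_rightDerived_iso (ModSite.restr O X)
    (fun Q hQ => injective_restr O X Q) (ModSite.sheafHom ((ModSite.restr O X).obj M)) q
  obtain ⟨c⟩ := nonempty_rightDerived_iso_of_iso _ _ e₀ q
  exact ⟨a ≪≫ c ≪≫ b.symm⟩

end Groth.Agent.S12887
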