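import Groth.Statements.S12888
import Groth.Agent.Lib.Helper24.Supp8
import Groth.Agent.Lib.Helper24.ModGroth

set_option autoImplicit false
universe u
open CategoryTheory CategoryTheory.Limits
open ModSite

namespace Groth.Agent.S12888

section helpers

open Opposite DirectSum Groth.Agent.Helper17.MT Groth.Agent.Helper24.Supp
open scoped Classical

variable {C : Type u} [SmallCategory C] {J : GrothendieckTopology C} (O : Sheaf J CommRingCat.{u})

section NullPush

variable [HasBinaryProducts C] (U X : C)

/-- sections of the explicit presheaf extension by zero of a module null on `U × X → X` vanish over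
objects mapping to `U` -/
lemma eP_subsingleton (A : ModSite.Mod (O.over X))
    (hA : ModSite.IsNullOn (O.over X) (Over.mk (prod.snd : U ⨯ X ⟶ X)) A) {Y : C} (g : Y ⟶ U)
    (m : ePS O X ((fgt (O.over X)).obj A) (op Y)) : m = 0 := by
  have hz := (ExtSupp.isNullOn_iff (O.over X) (Over.mk (prod.snd : U ⨯ X ⟶ X)) A).1 hA
  induction m using DirectSum.induction_on with
  | zero => rfl
  | of φ x =>
    have : x = 0 := hz (V := Over.mk φ) (Over.homMk (prod.lift g φ) (prod.lift_snd _ _)) x
    rw [this, map_zero]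
  | add a b ha hb => rw [ha, hb, add_zero]

/-- the explicit extension by zero of a module null on `U × X → X` is null on `U` -/
lemma isNullOn_eS (A : ModSite.Mod (O.over X))
    (hA : ModSite.IsNullOn (O.over X) (Over.mk (prod.snd : U ⨯ X ⟶ X)) A) :
    ModSite.IsNullOn O U ((eS O X).obj A) := by
  rw [ExtSupp.isNullOn_iff]
  intro Y g x
  have hsep := ((eS O X).obj A).isSheaf.isSeparated
  apply hsep _ _ (Presheaf.imageSieve_mem J
    (CategoryTheory.toSheafify J ((eP O X).obj ((fgt (O.over X)).obj A)).presheaf) x)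
  rintro Y' i ⟨t, ht⟩
  have h0 : t = 0 := eP_subsingleton O U X A hA (i ≫ g) t
  rw [h0, map_zero] at ht
  exact ht.symm.trans (map_zero (((eS O X).obj A).val.presheaf.map i.op).hom).symm

/-- Mathlib's extension by zero of a module null on `U × X → X` is null on `U` -/
lemma isNullOn_extZero (A : ModSite.Mod (O.over X))
    (hA : ModSite.IsNullOn (O.over X) (Over.mk (prod.snd : U ⨯ X ⟶ X)) A) :
    ModSite.IsNullOn O U ((ModSite.extZero O X).obj A) :=
  (isNullOn_eS O U X A hA).of_iso ((ModSite.restr O U).mapIso ((extZeroIso O X).app A))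

/-- a morphism vanishing on `U` vanishes, after restriction to `X`, on every `W` over `X` mapping to `U` -/
lemma restr_restr_zero (W : Over X) (t : W.left ⟶ U) {M T : ModSite.Mod O} (φ : M ⟶ T)
    (h : (ModSite.restr O U).map φ = 0) :
    (ModSite.restr (O.over X) W).map ((ModSite.restr O X).map φ) = 0 := by
  apply (SheafOfModules.toSheaf _).map_injective
  ext Y x
  obtain ⟨Y⟩ := Y
  exact congrArg (fun ψ : (ModSite.restr O U).obj M ⟶ (ModSite.restr O U).obj T =>
      (ψ.val.app (op (Over.mk (Y.hom.left ≫ t)))).hom x) h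

end NullPush

section Sect

variable (U : C) [ModSite.HasPushOver O U]

lemma restr_sectOnι (N : ModSite.Mod O) :
    (ModSite.restr O U).map ((ModSite.sectOnι O U).app N) = 0 :=
  (comp_unit_eq_zero_iff O U _).1 (kernel.condition _)

/-- `Γ_Z N` is null on `U` -/
lemma isNullOn_sectOn (N : ModSite.Mod O) :
    ModSite.IsNullOn O U ((ModSite.sectOn O U).obj N) := by
  rw [ModSite.IsNullOn, IsZero.iff_id_eq_zero]
  have hm : Mono ((ModSite.restr O U).map ((ModSite.sectOnι O U).app N)) := inferInstance
  rw [← cancel_mono ((ModSite.restr O U).map ((ModSite.sectOnι O U).app N)), zero_comp,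
    restr_sectOnι, comp_zero]

/-- lift a morphism vanishing on `U` to `Γ_Z` -/
noncomputable def sectLift {T N : ModSite.Mod O} (φ : T ⟶ N) (h : (ModSite.restr O U).map φ = 0) :
    T ⟶ (ModSite.sectOn O U).obj N :=
  kernel.lift _ φ ((comp_unit_eq_zero_iff O U φ).2 h)

lemma sectLift_ι {T N : ModSite.Mod O} (φ : T ⟶ N) (h : (ModSite.restr O U).map φ = 0) :
    sectLift O U φ h ≫ (ModSite.sectOnι O U).app N = φ :=
  kernel.lift_ι _ _ _

end Sect

section Compare

variable [HasBinaryProducts C] (U X : C)
  [ModSite.HasPushOver (O.over X) (Over.mk (prod.snd : U ⨯ X ⟶ X))]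

/-- `(Γ_Z N)|_X ⟶ N|_X` -/
noncomputable abbrev m1 (N : ModSite.Mod O) :
    (ModSite.restr O X).obj ((ModSite.sectOn O U).obj N) ⟶ (ModSite.restr O X).obj N :=
  (ModSite.restr O X).map ((ModSite.sectOnι O U).app N)

/-- `Γ_{Z/X}(N|_X) ⟶ N|_X` -/
noncomputable abbrev m2 (N : ModSite.Mod O) :
    (ModSite.sectOn (O.over X) (Over.mk (prod.snd : U ⨯ X ⟶ X))).obj ((ModSite.restr O X).obj N) ⟶
      (ModSite.restr O X).obj N :=
  (ModSite.sectOnι (O.over X) (Over.mk (prod.snd : U ⨯ X ⟶ X))).app ((ModSite.restr O X).obj N)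

instance mono_m1 (N : ModSite.Mod O) : Mono (m1 O U X N) := by
  unfold m1
  infer_instance

/-- the comparison `(Γ_Z N)|_X ⟶ Γ_{Z/X}(N|_X)` -/
noncomputable def cmpHom (N : ModSite.Mod O) :
    (ModSite.restr O X).obj ((ModSite.sectOn O U).obj N) ⟶
      (ModSite.sectOn (O.over X) (Over.mk (prod.snd : U ⨯ X ⟶ X))).obj ((ModSite.restr O X).obj N) :=
  sectLift (O.over X) (Over.mk (prod.snd : U ⨯ X ⟶ X)) (m1 O U X N)
    (restr_restr_zero O U X (Over.mk (prod.snd : U ⨯ X ⟶ X)) prod.fst _ (restr_sectOnι O U N))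

lemma cmpHom_m2 (N : ModSite.Mod O) : cmpHom O U X N ≫ m2 O U X N = m1 O U X N :=
  sectLift_ι _ _ _ _

lemma m2_comp_unit (N : ModSite.Mod O) :
    m2 O U X N ≫ (ModSite.restr O X).map ((ModSite.restrPushOverAdj O U).unit.app N) = 0 := by
  have hnull := isNullOn_extZero O U X _
    (isNullOn_sectOn (O.over X) (Over.mk (prod.snd : U ⨯ X ⟶ X)) ((ModSite.restr O X).obj N))
  have h1 : (ModSite.restr O U).map (((ModSite.extZeroAdj O X).homEquiv _ _).symm (m2 O U X N)) = 0 :=
    hnull.eq_of_src _ _
  have h2 := (comp_unit_eq_zero_iff O U _).2 h1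
  have h3 := congrArg ((ModSite.extZeroAdj O X).homEquiv _ _) h2
  rw [Adjunction.homEquiv_naturality_right, Equiv.apply_symm_apply] at h3
  rw [h3]
  rw [Adjunction.homEquiv_unit, Functor.map_zero, comp_zero]

/-- the inverse comparison `Γ_{Z/X}(N|_X) ⟶ (Γ_Z N)|_X` -/
noncomputable def cmpInv (N : ModSite.Mod O) :
    (ModSite.sectOn (O.over X) (Over.mk (prod.snd : U ⨯ X ⟶ X))).obj ((ModSite.restr O X).obj N) ⟶
      (ModSite.restr O X).obj ((ModSite.sectOn O U).obj N) :=
  kernel.lift ((ModSite.restr O X).map ((ModSite.restrPushOverAdj O U).unit.app N)) (m2 O U X N)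
    (m2_comp_unit O U X N) ≫
    (PreservesKernel.iso (ModSite.restr O X) ((ModSite.restrPushOverAdj O U).unit.app N)).inv

lemma cmpInv_m1 (N : ModSite.Mod O) : cmpInv O U X N ≫ m1 O U X N = m2 O U X N := by
  have : (PreservesKernel.iso (ModSite.restr O X) ((ModSite.restrPushOverAdj O U).unit.app N)).inv ≫
      m1 O U X N = kernel.ι ((ModSite.restr O X).map ((ModSite.restrPushOverAdj O U).unit.app N)) := by
    rw [Iso.inv_comp_eq, PreservesKernel.iso_hom]
    exact (kernelComparison_comp_ι _ _).symm
  exact (Category.assoc _ _ _).trans ((congrArg (fun z =>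
    kernel.lift ((ModSite.restr O X).map ((ModSite.restrPushOverAdj O U).unit.app N)) (m2 O U X N)
      (m2_comp_unit O U X N) ≫ z) this).trans (kernel.lift_ι _ _ _))

/-- the comparison isomorphism -/
noncomputable def cmpIso (N : ModSite.Mod O) :
    (ModSite.restr O X).obj ((ModSite.sectOn O U).obj N) ≅
      (ModSite.sectOn (O.over X) (Over.mk (prod.snd : U ⨯ X ⟶ X))).obj ((ModSite.restr O X).obj N) where
  hom := cmpHom O U X N
  inv := cmpInv O U X N
  hom_inv_id := by
    rw [← cancel_mono (m1 O U X N), Category.assoc, cmpInv_m1, cmpHom_m2, Category.id_comp]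
  inv_hom_id := by
    rw [← cancel_mono (m2 O U X N), Category.assoc, cmpHom_m2, cmpInv_m1, Category.id_comp]

/-- `Γ_Z(-)|_X ≅ Γ_{Z/X}(-|_X)` as functors -/
noncomputable def cmpNatIso :
    ModSite.sectOn O U ⋙ ModSite.restr O X ≅
      ModSite.restr O X ⋙ ModSite.sectOn (O.over X) (Over.mk (prod.snd : U ⨯ X ⟶ X)) :=
  NatIso.ofComponents (fun N => cmpIso O U X N) (by
    intro N N' f
    change (ModSite.restr O X).map ((ModSite.sectOn O U).map f) ≫ cmpHom O U X N' =
      cmpHom O U X N ≫ (ModSite.sectOn (O.over X) (Over.mk (prod.snd : U ⨯ X ⟶ X))).map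
        ((ModSite.restr O X).map f)
    rw [← cancel_mono (m2 O U X N'), Category.assoc, Category.assoc, cmpHom_m2]
    have e1 : (ModSite.sectOn (O.over X) (Over.mk (prod.snd : U ⨯ X ⟶ X))).map
        ((ModSite.restr O X).map f) ≫ m2 O U X N' = m2 O U X N ≫ (ModSite.restr O X).map f :=
      (ModSite.sectOnι (O.over X) (Over.mk (prod.snd : U ⨯ X ⟶ X))).naturality _
    have e2 : (ModSite.restr O X).map ((ModSite.sectOn O U).map f) ≫ m1 O U X N' =
        m1 O U X N ≫ (ModSite.restr O X).map f := by
      unfold m1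
      rw [← Functor.map_comp, ← Functor.map_comp]
      exact congrArg _ ((ModSite.sectOnι O U).naturality f)
    rw [e1, ← Category.assoc, cmpHom_m2, e2])

end Compare

section Main

open Groth.Agent.Helper24.ModGroth

/-- right derived functors of isomorphic functors are isomorphic -/
noncomputable def rightDerivedIso {A B : Type*} [Category A] [Abelian A] [Category B] [Abelian B]
    [HasInjectiveResolutions A] {F G : A ⥤ B} [F.Additive] [G.Additive] (e : F ≅ G) (n : ℕ) :
    F.rightDerived n ≅ G.rightDerived n where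
  hom := NatTrans.rightDerived e.hom n
  inv := NatTrans.rightDerived e.inv n
  hom_inv_id := by rw [← NatTrans.rightDerived_comp, e.hom_inv_id, NatTrans.rightDerived_id]
  inv_hom_id := by rw [← NatTrans.rightDerived_comp, e.inv_hom_id, NatTrans.rightDerived_id]

theorem main {C : Type u} [SmallCategory C] {J : GrothendieckTopology C}
    (O : Sheaf J CommRingCat.{u}) [HasBinaryProducts C] (U X : C)
    [ModSite.HasPushOver (O.over X) (Over.mk (Limits.prod.snd : U ⨯ X ⟶ X))]
    [HasInjectiveResolutions (ModSite.Mod O)] [HasInjectiveResolutions (ModSite.Mod (O.over X))] (q : ℕ) :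
    Nonempty (ModSite.HZsh O U q ⋙ ModSite.restr O X ≅
      ModSite.restr O X ⋙ ModSite.HZsh (O.over X) (Over.mk (Limits.prod.snd : U ⨯ X ⟶ X)) q) := by
  haveI : PreservesFiniteLimits (ModSite.sectOn O U) := by
    have : PreservesLimitsOfSize.{0, 0} (ModSite.sectOn O U) :=
      (quotSectAdj O U).rightAdjoint_preservesLimits
    exact PreservesLimitsOfSize.preservesFiniteLimits _
  haveI : PreservesFiniteLimits (ModSite.sectOn (O.over X) (Over.mk (Limits.prod.snd : U ⨯ X ⟶ X))) := by
    have : PreservesLimitsOfSize.{0, 0}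
        (ModSite.sectOn (O.over X) (Over.mk (Limits.prod.snd : U ⨯ X ⟶ X))) :=
      (quotSectAdj (O.over X) (Over.mk (Limits.prod.snd : U ⨯ X ⟶ X))).rightAdjoint_preservesLimits
    exact PreservesLimitsOfSize.preservesFiniteLimits _
  obtain ⟨e1⟩ := nonempty_rightDerived_comp_exact_iso (ModSite.sectOn O U) (ModSite.restr O X) q
  obtain ⟨e3⟩ := nonempty_exact_comp_rightDerived_iso (ModSite.restr O X)
    (fun Q hQ => injective_restr O X Q)
    (ModSite.sectOn (O.over X) (Over.mk (Limits.prod.snd : U ⨯ X ⟶ X))) q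
  exact ⟨e1 ≪≫ rightDerivedIso (cmpNatIso O U X) q ≪≫ e3.symm⟩

end Main

end helpers

/-- On a small ringed site (C, J, O) with O commutative and binary products in C, let U and X be
objects, Z the closed complement of the open generated by U, and Z/X the closed complement of the
object U × X → X of the localised site C/X. The formation of the local cohomology sheaves ℋ^q_Z
(right derived functors of the sections-with-support functor Γ_Z on O-modules) commutes with
localisation: M ↦ ℋ^q_Z(M)|_X is isomorphic to M ↦ ℋ^q_{Z/X}(M|_X). (Existence of an isomorphism of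
functors only. The direct image along the localisation at U × X → X and injective resolutions of
modules on C and on C/X are the stated instance hypotheses, all true.) -/
theorem result {C : Type u} [SmallCategory C] {J : GrothendieckTopology C}
    (O : Sheaf J CommRingCat.{u}) [HasBinaryProducts C] (U X : C)
    [ModSite.HasPushOver (O.over X) (Over.mk (Limits.prod.snd : U ⨯ X ⟶ X))]
    [HasInjectiveResolutions (ModSite.Mod O)] [HasInjectiveResolutions (ModSite.Mod (O.over X))] (q : ℕ) :
    Nonempty (ModSite.HZsh O U q ⋙ ModSite.restr O X ≅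
      ModSite.restr O X ⋙ ModSite.HZsh (O.over X) (Over.mk (Limits.prod.snd : U ⨯ X ⟶ X)) q) := by
  exact main O U X q

end Groth.Agent.S12888
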