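import Groth.Statements.S12889
import Mathlib
import Groth.Agent.Lib.Helper24.FrMod4
import Groth.Agent.Lib.Helper24.Supp5

set_option autoImplicit false
universe u
open CategoryTheory CategoryTheory.Limits
open ModSite

namespace Groth.Agent.S12889


open Groth.Agent.Helper24.FrMod Groth.Agent.Helper24.GSS Groth.Agent.Helper17.MT
  Groth.Agent.Helper24.CechH Groth.Agent.Helper24.Supp

lemma isZero_punit : IsZero (AddCommGrpCat.of PUnit.{u + 1}) :=
  @AddCommGrpCat.isZero_of_subsingleton (AddCommGrpCat.of PUnit.{u + 1})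
    (inferInstanceAs (Subsingleton PUnit.{u + 1}))

/-- On a small ringed site (C, J, O) with O commutative, let U be an object with Z the closed complement
of the open it generates, and M an O-module. There is an E₂ spectral sequence of abelian groups with
E₂^{p,q} ≅ H^p(C, ℋ^q_Z(M)) for p, q ≥ 0 (and 0 otherwise), bounded, abutting with finite
filtrations to H^n_Z(M) (n ≥ 0; 0 for n < 0); here ℋ^q_Z are the right derived functors of sections
with support on O-modules, H^p(C, -) is the cohomology of the site with values in the underlying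
abelian sheaf, and H^n_Z(M) are the Ext groups out of ℤ/ℤ_U into the underlying abelian sheaf.
(Existence only: the E₂ identifications and the abutment are some isomorphisms. The direct image
along the localisation at U and injective resolutions of O-modules are the stated instance
hypotheses, both true.) -/
theorem result {C : Type u} [SmallCategory C] {J : GrothendieckTopology C}
    (O : Sheaf J CommRingCat.{u}) (U : C) (M : ModSite.Mod O)
    [ModSite.HasPushOver O U] [HasInjectiveResolutions (ModSite.Mod O)] :
    ∃ (E : E₂CohomologicalSpectralSequence AddCommGrpCat.{u})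
      (a : SpSeq.Abutment E (fun n : ℤ =>
        if 0 ≤ n then AddCommGrpCat.of (ModSite.HZ U M n.toNat) else AddCommGrpCat.of PUnit.{u + 1})),
      (∀ n : ℤ, a.IsFinite n) ∧ SpSeq.IsBounded E ∧
      ∀ p q : ℤ, Nonempty ((E.page 2 le_rfl).X (p, q) ≅
        (if 0 ≤ p ∧ 0 ≤ q then AddCommGrpCat.of (ModSite.HC O ((ModSite.HZsh O U q.toNat).obj M) p.toNat)
          else AddCommGrpCat.of PUnit.{u + 1})) := by
  have : EnoughInjectives (ModSite.Mod O) := by
    refine ⟨fun X => ?_⟩
    let I : InjectiveResolution X := (HasInjectiveResolution.out (Z := X)).some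
    exact ⟨{ J := I.cocomplex.X 0
             injective := I.injective 0
             f := (I.ι.f 0 : X ⟶ I.cocomplex.X 0)
             mono := inferInstanceAs (Mono (I.ι.f 0)) }⟩
  have : HasExt.{u} (ModSite.Mod O) := hasExt_of_enoughInjectives _
  have : HasDerivedCategory.{u + 1} (ModSite.Mod O) := HasDerivedCategory.standard _
  let Z' : Sheaf J AddCommGrpCat.{u} := ToposFin.quotZ (ToposFin.eps J U)
  have hZ' : TF Z' := tf_quotZ _
  have hZ : TF (ZC (J := J)) := tf_constant
  refine exists_grothendieck_spectralSequence' (SZ (O := O) (ZC (J := J))) (ModSite.sectOn O U)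
    ?_ M _ _ ?_ ?_ ?_ ?_
  · intro Q hQ q hq
    obtain ⟨k, rfl⟩ : ∃ k, q = k + 1 := ⟨q - 1, by omega⟩
    have := injective_sectOn O U Q
    obtain ⟨e⟩ := nonempty_SZ_rightDerived_iso (O := O) (ZC (J := J)) hZ
      ((ModSite.sectOn O U).obj Q) (k + 1)
    have : Subsingleton (Abelian.Ext (ZC (J := J))
        (ModSite.toAb ((ModSite.sectOn O U).obj Q)) (k + 1)) :=
      ext_toAb_injective_subsingleton _ hZ _ k
    exact IsZero.of_iso (@AddCommGrpCat.isZero_of_subsingleton
      (AddCommGrpCat.of (Abelian.Ext (ZC (J := J))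
        (ModSite.toAb ((ModSite.sectOn O U).obj Q)) (k + 1))) this) e.symm
  · intro n
    have hn : (0 : ℤ) ≤ (n : ℤ) := by positivity
    simp only [if_pos hn, Int.toNat_natCast]
    obtain ⟨e1⟩ := nonempty_rightDerived_iso_of_iso _ _ (sectOnSZIso O U) n
    obtain ⟨e2⟩ := nonempty_SZ_rightDerived_iso (O := O) Z' hZ' M n
    exact ⟨e1.app M ≪≫ e2.symm⟩
  · intro n hn
    simp only [if_neg (not_le.2 hn)]
    exact isZero_punit
  · intro p q
    have hpq : (0 : ℤ) ≤ (p : ℤ) ∧ (0 : ℤ) ≤ (q : ℤ) := ⟨by positivity, by positivity⟩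
    simp only [if_pos hpq, Int.toNat_natCast]
    obtain ⟨e⟩ := nonempty_SZ_rightDerived_iso (O := O) (ZC (J := J)) hZ
      (((ModSite.sectOn O U).rightDerived q).obj M) p
    exact ⟨e.symm⟩
  · intro p q hpq
    have : ¬ ((0 : ℤ) ≤ p ∧ (0 : ℤ) ≤ q) := fun h => by lia
    simp only [if_neg this]
    exact isZero_punit

end Groth.Agent.S12889
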