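import Groth.Statements.S12890
import Groth.Agent.Lib.Helper24.Supp8
import Groth.Agent.Lib.Helper24.ModGroth
import Groth.Agent.Lib.Helper10.KerLESNat

set_option autoImplicit false
universe u
open CategoryTheory CategoryTheory.Limits
open ModSite

namespace Groth.Agent.S12890

section helpers

open Opposite DirectSum Groth.Agent.Helper17.MT Groth.Agent.Helper24.Supp
open scoped Classical

/-- for adjunctions `L ⊣ R ⊣ S` with the counit of the first one a monomorphism at `S R I`,
the unit `I ⟶ S R I` of the second one is a split epimorphism for injective `I` -/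
lemma exists_section_unit {A B : Type*} [Category A] [Category B] {L : B ⥤ A} {R : A ⥤ B}
    {S : B ⥤ A} (adj1 : L ⊣ R) (adj2 : R ⊣ S) (I : A) [Injective I]
    [Mono (adj1.counit.app (S.obj (R.obj I)))] :
    ∃ s : S.obj (R.obj I) ⟶ I, s ≫ adj2.unit.app I = 𝟙 (S.obj (R.obj I)) := by
  let c : R.obj (S.obj (R.obj I)) ⟶ R.obj I := adj2.counit.app (R.obj I)
  let t : L.obj (R.obj (S.obj (R.obj I))) ⟶ I := L.map c ≫ adj1.counit.app I
  let s : S.obj (R.obj I) ⟶ I := Injective.factorThru t (adj1.counit.app (S.obj (R.obj I)))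
  have hs : adj1.counit.app (S.obj (R.obj I)) ≫ s = t := Injective.comp_factorThru _ _
  have h1 : R.map s = c := by
    have h2 := congrArg (fun g => adj1.unit.app (R.obj (S.obj (R.obj I))) ≫ R.map g) hs
    simp only [Functor.map_comp] at h2
    rw [adj1.right_triangle_components_assoc] at h2
    rw [h2]
    have h3 := adj1.unit.naturality c
    simp only [Functor.id_obj, Functor.id_map, Functor.comp_obj, Functor.comp_map] at h3
    change adj1.unit.app (R.obj (S.obj (R.obj I))) ≫ R.map (L.map c ≫ adj1.counit.app I) = c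
    rw [R.map_comp, ← reassoc_of% h3, adj1.right_triangle_components, Category.comp_id]
  refine ⟨s, ?_⟩
  apply (adj2.homEquiv _ _).symm.injective
  rw [adj2.homEquiv_counit, adj2.homEquiv_counit, Functor.map_comp, Category.assoc,
    adj2.left_triangle_components, Category.comp_id, R.map_id, Category.id_comp, h1]

variable {C : Type u} [SmallCategory C] {J : GrothendieckTopology C} (O : Sheaf J CommRingCat.{u})
  (U : C)

lemma adjFromAb_id_injective (hU : ∀ V : C, Subsingleton (V ⟶ U)) (Q : PSh O) (W : Cᵒᵖ) :
    Function.Injective (adjFromAb (𝟙 ((rP O U).obj Q)) W) := by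
  rw [injective_iff_map_eq_zero]
  intro m hm
  by_cases hne : Nonempty (W.unop ⟶ U)
  · obtain ⟨φ⟩ := hne
    let g : ePc O U ((rP O U).obj Q) W φ →+ ePS O U ((rP O U).obj Q) W :=
      DirectSum.of (fun φ : (W.unop ⟶ U) => ePc O U ((rP O U).obj Q) W φ) φ
    let f' : ePS O U ((rP O U).obj Q) W →+ ePc O U ((rP O U).obj Q) W φ :=
      adjFromAb (𝟙 ((rP O U).obj Q)) W
    have key : g.comp f' = AddMonoidHom.id _ := by
      refine DirectSum.addHom_ext (fun ψ x => ?_)
      obtain rfl : ψ = φ := (hU _).elim _ _
      change g (f' _) = _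
      have : f' (DirectSum.of (fun φ : (W.unop ⟶ U) => ePc O U ((rP O U).obj Q) W φ) ψ x) = x :=
        adjFromAb_of (𝟙 ((rP O U).obj Q)) W ψ x
      rw [this]
      rfl
    have h1 : g (f' m) = m := DFunLike.congr_fun key m
    have h2 : f' m = 0 := hm
    rw [← h1, h2, map_zero]
  · have : ∀ m : ePS O U ((rP O U).obj Q) W, m = 0 := by
      intro m
      induction m using DirectSum.induction_on with
      | zero => rfl
      | of ψ x => exact (hne ⟨ψ⟩).elim
      | add a b ha hb => rw [ha, hb, add_zero]
    exact this m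

lemma mono_counit_eP (hU : ∀ V : C, Subsingleton (V ⟶ U)) (Q : PSh O) :
    Mono ((ePAdj O U).counit.app Q) := by
  apply PresheafOfModules.mono_of_injective
  intro W
  change Function.Injective (adjFromAb (𝟙 ((rP O U).obj Q)) W)
  exact adjFromAb_id_injective O U hU Q W

lemma counit_eS (P : ModSite.Mod O) : (eSAdj O U).counit.app P =
    (shf O).map ((ePAdj O U).counit.app ((fgt O).obj P)) ≫
      (PresheafOfModules.sheafificationAdjunction (𝟙 (ModSite.ringSh O).obj)).counit.app P := by
  have h := Adjunction.map_restrictFullyFaithful_counit_app (iC := fgt (O.over U))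
    (iD := 𝟭 (ModSite.Mod O)) (ePShfAdj O U) (SheafOfModules.fullyFaithfulForget _)
    (Functor.FullyFaithful.id _) (Functor.rightUnitor _).symm
    (Functor.leftUnitor _ ≪≫ fgtRPIso O U) P
  refine (show (eSAdj O U).counit.app P = _ from h).trans ?_
  simp only [Iso.symm_inv, Functor.rightUnitor_hom_app, Iso.trans_inv, NatTrans.comp_app,
    Functor.leftUnitor_inv_app, fgtRPIso, NatIso.ofComponents_inv_app, Iso.refl_inv,
    Category.comp_id, Functor.id_obj, ePShfAdj, Adjunction.comp_counit_app]
  erw [Category.id_comp, (eP O U ⋙ shf O).map_id, Category.id_comp]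

lemma mono_counit_eS (hU : ∀ V : C, Subsingleton (V ⟶ U)) (P : ModSite.Mod O) :
    Mono ((eSAdj O U).counit.app P) := by
  have h1 := mono_counit_eP O U hU ((fgt O).obj P)
  have h0 : (shf O).PreservesMonomorphisms := inferInstance
  have h2 : Mono ((shf O).map ((ePAdj O U).counit.app ((fgt O).obj P))) := (shf O).map_mono _
  have h3 : IsIso ((PresheafOfModules.sheafificationAdjunction
      (𝟙 (ModSite.ringSh O).obj)).counit.app P) := inferInstance
  have h4 : Mono ((shf O).map ((ePAdj O U).counit.app ((fgt O).obj P)) ≫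
      (PresheafOfModules.sheafificationAdjunction (𝟙 (ModSite.ringSh O).obj)).counit.app P) := by
    have h5 : Mono ((PresheafOfModules.sheafificationAdjunction
      (𝟙 (ModSite.ringSh O).obj)).counit.app P) := IsIso.mono_of_iso _
    exact @mono_comp _ _ _ _ _ _ h2 _ h5
  rw [counit_eS]
  exact h4

variable [ModSite.HasPushOver O U]

/-- the unit `I ⟶ j_* j^* I` is a split epimorphism for `I` injective and `U` subterminal -/
lemma exists_section (hU : ∀ V : C, Subsingleton (V ⟶ U)) (I : ModSite.Mod O) [Injective I] :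
    ∃ s : (ModSite.pushOver O U).obj ((ModSite.restr O U).obj I) ⟶ I,
      s ≫ (ModSite.restrPushOverAdj O U).unit.app I = 𝟙 _ := by
  have := mono_counit_eS O U hU ((ModSite.pushOver O U).obj ((ModSite.restr O U).obj I))
  exact exists_section_unit (eSAdj O U) (ModSite.restrPushOverAdj O U) I

lemma w_sect : ModSite.sectOnι O U ≫ (ModSite.restrPushOverAdj O U).unit = 0 := by
  apply NatTrans.ext
  funext F
  exact kernel.condition ((ModSite.restrPushOverAdj O U).unit.app F)

lemma shortExact_inj (hU : ∀ V : C, Subsingleton (V ⟶ U)) (I : ModSite.Mod O) (hI : Injective I) :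
    (Groth.Agent.Helper10.KerLES.sc₀ (ModSite.sectOn O U) (𝟭 (ModSite.Mod O))
      (ModSite.restr O U ⋙ ModSite.pushOver O U) (ModSite.sectOnι O U)
      (ModSite.restrPushOverAdj O U).unit (w_sect O U) I).ShortExact := by
  obtain ⟨s, hs⟩ := exists_section O U hU I
  have hepi : Epi ((ModSite.restrPushOverAdj O U).unit.app I) :=
    (IsSplitEpi.mk' ⟨s, hs⟩ : IsSplitEpi ((ModSite.restrPushOverAdj O U).unit.app I)).epi
  have hmono : Mono ((ModSite.sectOnι O U).app I) := by
    change Mono (kernel.ι _)
    infer_instance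
  refine ShortComplex.ShortExact.mk' ?_ hmono hepi
  exact ShortComplex.exact_of_f_is_kernel _ (kernelIsKernel _)

section Main

open Groth.Agent.Helper24.ModGroth

theorem main {C : Type u} [SmallCategory C] {J : GrothendieckTopology C}
    (O : Sheaf J CommRingCat.{u}) (U : C)
    (hU : ∀ V : C, Subsingleton (V ⟶ U)) [ModSite.HasPushOver O U] [(ModSite.pushOver O U).Additive]
    [HasInjectiveResolutions (ModSite.Mod O)] [HasInjectiveResolutions (ModSite.Mod (O.over U))] :
    Nonempty (ModSite.HZsh O U 1 ≅ cokernel (ModSite.restrPushOverAdj O U).unit) ∧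
      ∀ q : ℕ, 1 ≤ q →
        Nonempty (ModSite.HZsh O U (q + 1) ≅ ModSite.restr O U ⋙ (ModSite.pushOver O U).rightDerived q) := by
  haveI : PreservesFiniteLimits (ModSite.pushOver O U) := by
    have : PreservesLimitsOfSize.{0, 0} (ModSite.pushOver O U) :=
      (ModSite.restrPushOverAdj O U).rightAdjoint_preservesLimits
    exact PreservesLimitsOfSize.preservesFiniteLimits _
  haveI : PreservesFiniteLimits (ModSite.restr O U ⋙ ModSite.pushOver O U) :=
    comp_preservesFiniteLimits _ _
  have h := Groth.Agent.Helper10.KerLESNat.mainNat (ModSite.sectOn O U) (𝟭 (ModSite.Mod O))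
    (ModSite.restr O U ⋙ ModSite.pushOver O U) (ModSite.sectOnι O U)
    (ModSite.restrPushOverAdj O U).unit (w_sect O U) (shortExact_inj O U hU)
  refine ⟨h.1, ?_⟩
  intro q hq
  obtain ⟨e1⟩ := h.2 q hq
  obtain ⟨e2⟩ := nonempty_exact_comp_rightDerived_iso (ModSite.restr O U)
    (fun Q hQ => injective_restr O U Q) (ModSite.pushOver O U) q
  exact ⟨e1 ≪≫ e2.symm⟩

end Main

end helpers

/-- On a small ringed site (C, J, O) with O commutative, let U be a subterminal object (every object has
at most one morphism to U), Z its closed complement and j_{U*} the direct image of modules along the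
localisation C/U → C. Then ℋ^1_Z is isomorphic to the cokernel of the unit M → j_{U*}(M|_U) (so that
0 → ℋ^0_Z(M) → M → j_{U*}(M|_U) → ℋ^1_Z(M) → 0 is exact), and for every q ≥ 1 the functor ℋ^{q+1}_Z
is isomorphic to M ↦ R^q j_{U*}(M|_U). (Existence of isomorphisms of functors only. The direct image
j_{U*} with its additivity and injective resolutions of modules on C and on C/U are the stated
instance hypotheses, all true.) -/
theorem result {C : Type u} [SmallCategory C] {J : GrothendieckTopology C}
    (O : Sheaf J CommRingCat.{u}) (U : C)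
    (hU : ∀ V : C, Subsingleton (V ⟶ U)) [ModSite.HasPushOver O U] [(ModSite.pushOver O U).Additive]
    [HasInjectiveResolutions (ModSite.Mod O)] [HasInjectiveResolutions (ModSite.Mod (O.over U))] :
    Nonempty (ModSite.HZsh O U 1 ≅ cokernel (ModSite.restrPushOverAdj O U).unit) ∧
      ∀ q : ℕ, 1 ≤ q →
        Nonempty (ModSite.HZsh O U (q + 1) ≅ ModSite.restr O U ⋙ (ModSite.pushOver O U).rightDerived q) := by
  exact main O U hU

end Groth.Agent.S12890
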