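import Groth.Statements.S3089
import Mathlib

set_option autoImplicit false
universe u
open CategoryTheory
open CohSite

namespace Groth.Agent.S3089

section helpers

open CategoryTheory.Limits CategoryTheory.Abelian

variable {C : Type u} [SmallCategory C] {J : GrothendieckTopology C}

/-- The free abelian sheaf functor on sheaves of sets. -/
noncomputable abbrev L (J : GrothendieckTopology C) : Sheaf J (Type u) ⥤ Sheaf J AddCommGrpCat.{u} :=
  Sheaf.composeAndSheafify J AddCommGrpCat.free.{u}

lemma mono_L_map {Y X : Sheaf J (Type u)} (ι : Y ⟶ X) [Mono ι] : Mono ((L J).map ι) := by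
  have h1 : Mono ((sheafToPresheaf J (Type u)).map ι) := inferInstance
  have h2 : Mono (((Functor.whiskeringRight Cᵒᵖ _ _).obj AddCommGrpCat.free.{u}).map
      ((sheafToPresheaf J (Type u)).map ι)) := by
    dsimp
    infer_instance
  exact inferInstanceAs (Mono ((presheafToSheaf J AddCommGrpCat.{u}).map
    (((Functor.whiskeringRight Cᵒᵖ _ _).obj AddCommGrpCat.free.{u}).map
      ((sheafToPresheaf J (Type u)).map ι))))

lemma key (F : Sheaf J AddCommGrpCat.{u}) (hF : CohCx.IsTotallyAcyclic F)
    {Y X : Sheaf J (Type u)} (ι : Y ⟶ X) [Mono ι] (s : (L J).obj Y ⟶ F) :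
    ∃ t : (L J).obj X ⟶ F, (L J).map ι ≫ t = s := by
  have hP : IsPushout ι (terminal.from Y) (pushout.inl ι (terminal.from Y))
      (pushout.inr ι (terminal.from Y)) := IsPushout.of_hasPushout _ _
  have hLP := hP.map (L J)
  let S := hLP.shortComplex
  have hSexact : S.Exact := ShortComplex.exact_of_g_is_cokernel _ hLP.isColimitCokernelCofork
  have hfst : S.f ≫ biprod.fst = (L J).map ι := by
    change biprod.lift _ _ ≫ biprod.fst = _
    exact biprod.lift_fst _ _
  have : Mono S.f := by
    have : Mono (S.f ≫ biprod.fst) := by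
      rw [hfst]
      exact mono_L_map ι
    exact mono_of_mono _ biprod.fst
  have : Epi S.g := hLP.epi_shortComplex_g
  have hS : S.ShortExact := { exact := hSexact }
  have hsub : Subsingleton (Ext S.X₃ F 1) := hF (pushout ι (terminal.from Y)) 0
  obtain ⟨x₂, hx₂⟩ := Ext.contravariant_sequence_exact₁ hS F (Ext.mk₀ s) (n₁ := 1) rfl
    (Subsingleton.elim _ _)
  obtain ⟨w, rfl⟩ := (Ext.mk₀_bijective _ _).2 x₂
  rw [Ext.mk₀_comp_mk₀] at hx₂
  have hw : S.f ≫ w = s := (Ext.mk₀_bijective _ _).1 hx₂
  let w' : (L J).obj X ⊞ (L J).obj (⊤_ (Sheaf J (Type u))) ⟶ F := w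
  have hw' : biprod.lift ((L J).map ι) (-(L J).map (terminal.from Y)) ≫ w' = s := hw
  clear_value w'
  refine ⟨biprod.inl ≫ w' - (L J).map (terminal.from X) ≫ biprod.inr ≫ w', ?_⟩
  have hY : (L J).map (terminal.from Y) = (L J).map ι ≫ (L J).map (terminal.from X) := by
    rw [← Functor.map_comp]
    congr 1
    exact (terminal.comp_from ι).symm
  have : biprod.lift ((L J).map ι) (-((L J).map ι ≫ (L J).map (terminal.from X))) =
      (L J).map ι ≫ (biprod.inl - (L J).map (terminal.from X) ≫ biprod.inr) := by
    apply biprod.hom_ext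
    · simp
    · simp
  rw [← hw', hY, this, Category.assoc, Preadditive.sub_comp, Category.assoc]

end helpers

open Opposite in
/-- For abelian sheaves on the topos of sheaves of sets on a small site: let F be an abelian sheaf which
is totally acyclic, i.e. H^q(X, F) = 0 for every sheaf of sets X and every q > 0, and let Y -> X be
a monomorphism of sheaves of sets. Then the restriction map H^0(X, F) -> H^0(Y, F) is surjective. -/
theorem result {C : Type u} [SmallCategory C] {J : GrothendieckTopology C}
    (F : Sheaf J AddCommGrpCat.{u}) (hF : CohCx.IsTotallyAcyclic F) {Y X : Sheaf J (Type u)} (ι : Y ⟶ X) [Mono ι] :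
    Function.Surjective ((CohCx.HK0Functor J F).map ι.op) := by
  intro s
  obtain ⟨t, ht⟩ := key F hF ι s
  exact ⟨t, ht⟩

end Groth.Agent.S3089
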