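import Groth.Statements.S12891
import Groth.Agent.S3089
import Groth.Agent.S0864
import Groth.Agent.S12888
import Groth.Agent.Lib.Helper24.Supp8
import Groth.Agent.Lib.Helper24.ModGroth

set_option autoImplicit false
universe u
open CategoryTheory CategoryTheory.Limits
open ModSite

namespace Groth.Agent.S12891

section helpers

open Opposite CategoryTheory.Abelian Groth.Agent.S3089

variable {C : Type u} [SmallCategory C] {J : GrothendieckTopology C}

/-- `Ext^q(ℤ/ℤ_K, F) = 0` for `q ≥ 1`, `F` totally acyclic, any sheaf of sets `K` -/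
lemma subsingleton_ext_quotZ (F : Sheaf J AddCommGrpCat.{u}) (hF : CohCx.IsTotallyAcyclic F)
    (K : Sheaf J (Type u)) (q : ℕ) :
    Subsingleton (Ext (ToposFin.quotZ K) F (q + 1)) := by
  let t : K ⟶ ⊤_ (Sheaf J (Type u)) := terminal.from K
  have hP : IsPushout t t (pushout.inl t t) (pushout.inr t t) := IsPushout.of_hasPushout _ _
  have hLP := hP.map (L J)
  let π : (L J).obj (⊤_ (Sheaf J (Type u))) ⟶ ToposFin.quotZ K := cokernel.π ((L J).map t)
  have hπ : (L J).map t ≫ π = 0 := cokernel.condition _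
  let r : (L J).obj (pushout t t) ⟶ ToposFin.quotZ K :=
    hLP.desc π 0 (by rw [hπ, comp_zero])
  let i : ToposFin.quotZ K ⟶ (L J).obj (pushout t t) :=
    cokernel.desc ((L J).map t) ((L J).map (pushout.inl t t) - (L J).map (pushout.inr t t)) (by
      rw [Preadditive.comp_sub, hLP.w, sub_self])
  have hir : i ≫ r = 𝟙 _ := by
    apply coequalizer.hom_ext
    change π ≫ i ≫ r = π ≫ 𝟙 _
    have h1 : π ≫ i = (L J).map (pushout.inl t t) - (L J).map (pushout.inr t t) :=
      cokernel.π_desc _ _ _
    have e1 : (L J).map (pushout.inl t t) ≫ r = π := hLP.inl_desc _ _ _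
    have e2 : (L J).map (pushout.inr t t) ≫ r = 0 := hLP.inr_desc _ _ _
    calc π ≫ i ≫ r = (π ≫ i) ≫ r := (Category.assoc _ _ _).symm
      _ = ((L J).map (pushout.inl t t) - (L J).map (pushout.inr t t)) ≫ r := by rw [h1]
      _ = (L J).map (pushout.inl t t) ≫ r - (L J).map (pushout.inr t t) ≫ r :=
        Preadditive.sub_comp _ _ _
      _ = π ≫ 𝟙 _ := by rw [e1, e2, sub_zero, Category.comp_id]
  have hsub : Subsingleton (Ext ((L J).obj (pushout t t)) F (q + 1)) := hF (pushout t t) q
  refine ⟨fun x y => ?_⟩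
  have key : ∀ z : Ext (ToposFin.quotZ K) F (q + 1), z = 0 := by
    intro z
    have h2 : (Ext.mk₀ (i ≫ r)).comp z (zero_add _) = z := by
      rw [hir, Ext.mk₀_id_comp]
    rw [← h2, ← Ext.mk₀_comp_mk₀, Ext.comp_assoc_of_second_deg_zero]
    have h3 : (Ext.mk₀ r).comp z (zero_add _) = 0 := Subsingleton.elim _ _
    rw [h3, Ext.comp_zero]
  rw [key x, key y]

section FreeA

open Groth.Agent.S0864

/-- `Ext^q(coker(ℤ[P'] → ℤ[P]), F) = 0` for `q ≥ 1`, `F` totally acyclic, presheaves of sets `P' → P` -/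
lemma subsingleton_ext_cokernel_freeA (F : Sheaf J AddCommGrpCat.{u}) (hF : CohCx.IsTotallyAcyclic F)
    {P' P : Cᵒᵖ ⥤ Type u} (t : P' ⟶ P) (q : ℕ) :
    Subsingleton (Ext (cokernel ((freeA J).map t)) F (q + 1)) := by
  haveI : PreservesColimitsOfSize.{0, 0} (freeA J) := (adjA J).leftAdjoint_preservesColimits
  have hP : IsPushout t t (pushout.inl t t) (pushout.inr t t) := IsPushout.of_hasPushout _ _
  have hLP := hP.map (freeA J)
  let π : (freeA J).obj P ⟶ cokernel ((freeA J).map t) := cokernel.π ((freeA J).map t)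
  have hπ : (freeA J).map t ≫ π = 0 := cokernel.condition _
  let r : (freeA J).obj (pushout t t) ⟶ cokernel ((freeA J).map t) :=
    hLP.desc π 0 (by rw [hπ, comp_zero])
  let i : cokernel ((freeA J).map t) ⟶ (freeA J).obj (pushout t t) :=
    cokernel.desc ((freeA J).map t)
      ((freeA J).map (pushout.inl t t) - (freeA J).map (pushout.inr t t)) (by
      rw [Preadditive.comp_sub, hLP.w, sub_self])
  have hir : i ≫ r = 𝟙 _ := by
    apply coequalizer.hom_ext
    change π ≫ i ≫ r = π ≫ 𝟙 _
    have h1 : π ≫ i = (freeA J).map (pushout.inl t t) - (freeA J).map (pushout.inr t t) :=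
      cokernel.π_desc _ _ _
    have e1 : (freeA J).map (pushout.inl t t) ≫ r = π := hLP.inl_desc _ _ _
    have e2 : (freeA J).map (pushout.inr t t) ≫ r = 0 := hLP.inr_desc _ _ _
    calc π ≫ i ≫ r = (π ≫ i) ≫ r := (Category.assoc _ _ _).symm
      _ = ((freeA J).map (pushout.inl t t) - (freeA J).map (pushout.inr t t)) ≫ r := by rw [h1]
      _ = (freeA J).map (pushout.inl t t) ≫ r - (freeA J).map (pushout.inr t t) ≫ r :=
        Preadditive.sub_comp _ _ _
      _ = π ≫ 𝟙 _ := by rw [e1, e2, sub_zero, Category.comp_id]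
  have hsub : Subsingleton (Ext ((freeA J).obj (pushout t t)) F (q + 1)) := by
    have h := hF ((presheafToSheaf J (Type u)).obj (pushout t t)) q
    exact subsingleton_ext_of_iso ((freeIso J).app (pushout t t)) (q + 1) (h := h)
  refine ⟨fun x y => ?_⟩
  have key : ∀ z : Ext (cokernel ((freeA J).map t)) F (q + 1), z = 0 := by
    intro z
    have h2 : (Ext.mk₀ (i ≫ r)).comp z (zero_add _) = z := by
      rw [hir, Ext.mk₀_id_comp]
    rw [← h2, ← Ext.mk₀_comp_mk₀, Ext.comp_assoc_of_second_deg_zero]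
    have h3 : (Ext.mk₀ r).comp z (zero_add _) = 0 := Subsingleton.elim _ _
    rw [h3, Ext.comp_zero]
  rw [key x, key y]

end FreeA

section Lift

open Groth.Agent.S0864 CohFree

/-- a morphism out of `ℤ[P]` vanishes if it vanishes on all generators -/
lemma freeA_hom_ext_zero {P : Cᵒᵖ ⥤ Type u} (F : Sheaf J AddCommGrpCat.{u})
    (φ : (freeA J).obj P ⟶ F)
    (h : ∀ (W : Cᵒᵖ) (e : P.obj W),
      (φ.hom.app W).hom ((((shAdj J).unit.app (P ⋙ AddCommGrpCat.free.{u})).app W).hom
        (FreeAbelianGroup.of e)) = 0) : φ = 0 := by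
  apply ((shAdj J).homEquiv (P ⋙ AddCommGrpCat.free.{u}) F).injective
  rw [Adjunction.homEquiv_unit, Adjunction.homEquiv_unit]
  apply NatTrans.ext
  funext W
  apply AddCommGrpCat.hom_ext
  apply FreeAbelianGroup.lift_ext
  intro (e : P.obj W)
  exact (h W e).trans rfl

lemma freeA_map_unit {P' P : Cᵒᵖ ⥤ Type u} (t : P' ⟶ P) (W : Cᵒᵖ) (e : P'.obj W) :
    (((freeA J).map t).hom.app W).hom ((((shAdj J).unit.app (P' ⋙ AddCommGrpCat.free.{u})).app W).hom
        (FreeAbelianGroup.of e)) =
      (((shAdj J).unit.app (P ⋙ AddCommGrpCat.free.{u})).app W).hom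
        (FreeAbelianGroup.of (t.app W e)) := by
  have hn := (shAdj J).unit.naturality (Functor.whiskerRight t AddCommGrpCat.free.{u})
  have h3 := ConcreteCategory.congr_hom (NatTrans.congr_app hn W) (FreeAbelianGroup.of e)
  refine (Eq.trans rfl h3.symm).trans ?_
  change (((shAdj J).unit.app (P ⋙ AddCommGrpCat.free.{u})).app W).hom
    (FreeAbelianGroup.map (t.app W) (FreeAbelianGroup.of e)) = _
  rw [FreeAbelianGroup.map_of_apply]

/-- lifting a section vanishing on all objects over `U` along an epimorphism with totally acyclic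
kernel, keeping the vanishing -/
lemma exists_lift_vanishing (U : C) {S : ShortComplex (Sheaf J AddCommGrpCat.{u})} (hS : S.ShortExact)
    (hF : CohCx.IsTotallyAcyclic S.X₁) (V : C) (x : S.X₃.obj.obj (op V))
    (hx : ∀ (W : C) (f : W ⟶ V) (_ : W ⟶ U), (S.X₃.obj.map f.op).hom x = 0) :
    ∃ a : S.X₂.obj.obj (op V), (S.g.hom.app (op V)).hom a = x ∧
      ∀ (W : C) (f : W ⟶ V) (_ : W ⟶ U), (S.X₂.obj.map f.op).hom a = 0 := by
  let P' : Cᵒᵖ ⥤ Type u := yoneda.obj V ⨯ yoneda.obj U
  let pr : P' ⟶ yoneda.obj V := prod.fst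
  let tA : (freeA J).obj P' ⟶ CohCx.freeSheaf J V := (freeA J).map pr
  let ξ : CohCx.freeSheaf J V ⟶ S.X₃ := ofSect J V S.X₃ x
  have hξ : evalGen J V S.X₃ ξ = x := evalGen_ofSect J V S.X₃ x
  have h0 : tA ≫ ξ = 0 := by
    apply freeA_hom_ext_zero
    intro W e
    have h1 := freeA_map_unit (J := J) pr W e
    change (ξ.hom.app W).hom ((tA.hom.app W).hom _) = 0
    rw [h1]
    have h2 := unit_app_of J V (T := W) (pr.app W e)
    rw [h2]
    have h3 := ConcreteCategory.congr_hom (ξ.hom.naturality (pr.app W e).op) (gen J V)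
    refine (Eq.trans rfl h3).trans ?_
    change (S.X₃.obj.map (pr.app W e).op).hom (evalGen J V S.X₃ ξ) = 0
    rw [hξ]
    exact hx (unop W) (pr.app W e) ((prod.snd : P' ⟶ yoneda.obj U).app W e)
  let ξ' : cokernel tA ⟶ S.X₃ := cokernel.desc tA ξ h0
  have hsub : Subsingleton (Ext (cokernel tA) S.X₁ 1) :=
    subsingleton_ext_cokernel_freeA S.X₁ hF pr 0
  obtain ⟨x₂, hx₂⟩ := Ext.covariant_sequence_exact₃ (cokernel tA) hS (Ext.mk₀ ξ') (n₁ := 1) rfl
    (Subsingleton.elim _ _)
  obtain ⟨ψ, rfl⟩ := (Ext.mk₀_bijective _ _).2 x₂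
  rw [Ext.mk₀_comp_mk₀] at hx₂
  have hψ : ψ ≫ S.g = ξ' := (Ext.mk₀_bijective _ _).1 hx₂
  refine ⟨evalGen J V S.X₂ (cokernel.π tA ≫ ψ), ?_, ?_⟩
  · have : (cokernel.π tA ≫ ψ) ≫ S.g = ξ := by
      rw [Category.assoc, hψ]
      exact cokernel.π_desc _ _ _
    rw [← hξ, ← this]
    rfl
  · intro W f h
    rw [← evalGen_freeSheafMap_comp]
    have hfac : CohCx.freeSheafMap J f =
        (freeA J).map (prod.lift (yoneda.map f) (yoneda.map h) : yoneda.obj W ⟶ P') ≫ tA := by
      change _ = (freeA J).map _ ≫ (freeA J).map pr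
      rw [← Functor.map_comp, prod.lift_fst]
      rfl
    rw [hfac, Category.assoc, cokernel.condition_assoc, zero_comp, comp_zero, map_zero]

end Lift

section Sect

open Groth.Agent.Helper17.MT Groth.Agent.Helper24.Supp

variable (O : Sheaf J CommRingCat.{u}) (U : C)

/-- the free presheaf of modules on `h_V` -/
noncomputable abbrev FP (V : C) : PSh O := PresheafOfModules.freeObj (yoneda.obj V)

/-- the presheaf-level map `O[h_V] ⟶ N` determined by a section of `N` over `V` -/
noncomputable def secP (N : ModSite.Mod O) (V : C) (a : N.val.presheaf.obj (op V)) :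
    FP O V ⟶ (fgt O).obj N :=
  PresheafOfModules.freeObjDesc
    (yonedaEquiv.symm (a : (((fgt O).obj N).presheaf ⋙ forget _).obj (op V)))

/-- the map `a O[h_V] ⟶ N` determined by a section of `N` over `V` -/
noncomputable def secS (N : ModSite.Mod O) (V : C) (a : N.val.presheaf.obj (op V)) :
    (shf O).obj (FP O V) ⟶ N :=
  ((PresheafOfModules.sheafificationAdjunction (𝟙 (ModSite.ringSh O).obj)).homEquiv _ _).symm
    (secP O N V a)

lemma η_secS (N : ModSite.Mod O) (V : C) (a : N.val.presheaf.obj (op V)) :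
    η O (FP O V) ≫ (fgt O).map (secS O N V a) = secP O N V a := by
  have := (PresheafOfModules.sheafificationAdjunction (𝟙 (ModSite.ringSh O).obj)).homEquiv_unit
    (FP O V) N (secS O N V a)
  exact this.symm.trans (Equiv.apply_symm_apply _ _)

lemma secP_app_freeMk (N : ModSite.Mod O) (V : C) (a : N.val.presheaf.obj (op V)) (W : C)
    (e : W ⟶ V) :
    ((secP O N V a).app (op W)).hom (ModuleCat.freeMk e) = (N.val.presheaf.map e.op).hom a := by
  change (ModuleCat.freeDesc _).hom (ModuleCat.freeMk e) = _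
  rw [ModuleCat.freeDesc_apply]
  rfl

/-- the generic section of `a O[h_V]` over `V` -/
noncomputable def genS (V : C) : ((shf O).obj (FP O V)).val.presheaf.obj (op V) :=
  ((η O (FP O V)).app (op V)).hom (ModuleCat.freeMk (𝟙 V))

lemma secS_app_η (N : ModSite.Mod O) (V : C) (a : N.val.presheaf.obj (op V)) (W : C)
    (m : (FP O V).obj (op W)) :
    ((secS O N V a).val.app (op W)).hom (((η O (FP O V)).app (op W)).hom m) =
      ((secP O N V a).app (op W)).hom m :=
  congrArg (fun ψ : FP O V ⟶ (fgt O).obj N => ((ψ.app (op W)).hom m)) (η_secS O N V a)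

lemma secS_gen (N : ModSite.Mod O) (V : C) (a : N.val.presheaf.obj (op V)) :
    ((secS O N V a).val.app (op V)).hom (genS O V) = a := by
  refine (secS_app_η O N V a V _).trans ?_
  rw [secP_app_freeMk]
  have : (𝟙 V : V ⟶ V).op = 𝟙 (op V) := rfl
  rw [this, N.val.presheaf.map_id]
  rfl

lemma secP_app_zero (N : ModSite.Mod O) (V : C) (a : N.val.presheaf.obj (op V))
    (hz : ∀ (W : C) (f : W ⟶ V) (_ : W ⟶ U), (N.val.presheaf.map f.op).hom a = 0)
    (W : C) (h : W ⟶ U) (m : (FP O V).obj (op W)) : ((secP O N V a).app (op W)).hom m = 0 := by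
  have : (secP O N V a).app (op W) = 0 := by
    apply ModuleCat.free_hom_ext
    intro e
    exact (secP_app_freeMk O N V a W e).trans (hz W e h)
  rw [this]
  rfl

lemma restr_secS_zero (N : ModSite.Mod O) (V : C) (a : N.val.presheaf.obj (op V))
    (hz : ∀ (W : C) (f : W ⟶ V) (_ : W ⟶ U), (N.val.presheaf.map f.op).hom a = 0) :
    (ModSite.restr O U).map (secS O N V a) = 0 := by
  apply (SheafOfModules.toSheaf _).map_injective
  ext Y τ
  obtain ⟨Y⟩ := Y
  change ((secS O N V a).val.app (op Y.left)).hom τ = 0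
  have hsep := N.isSheaf.isSeparated
  apply hsep _ _ (Presheaf.imageSieve_mem J
    (CategoryTheory.toSheafify J (FP O V).presheaf) τ)
  rintro W' i ⟨m, hm⟩
  have hnat := congrArg (fun ψ => ψ.hom τ) ((secS O N V a).val.naturality i.op)
  have e1 : (N.val.presheaf.map i.op).hom (((secS O N V a).val.app (op Y.left)).hom τ) =
      ((secS O N V a).val.app (op W')).hom
        ((((shf O).obj (FP O V)).val.presheaf.map i.op).hom τ) := hnat.symm
  have e2 : (((shf O).obj (FP O V)).val.presheaf.map i.op).hom τ =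
      ((η O (FP O V)).app (op W')).hom m := hm.symm
  have e3 : ((secS O N V a).val.app (op W')).hom (((η O (FP O V)).app (op W')).hom m) = 0 :=
    (secS_app_η O N V a W' m).trans
      (secP_app_zero O U N V a hz W' (i ≫ (Y.hom : Y.left ⟶ U)) m)
  refine (e1.trans ?_).trans (map_zero _).symm
  rw [e2]
  exact e3

variable [ModSite.HasPushOver O U]

open Groth.Agent.Helper24.FrMod in
/-- `Γ_Z` is right exact on short exact sequences with totally acyclic kernel -/
lemma epi_sectOn_map {S : ShortComplex (ModSite.Mod O)} (hS : S.ShortExact)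
    (hM : CohCx.IsTotallyAcyclic (ModSite.toAb S.X₁)) :
    Epi ((ModSite.sectOn O U).map S.g) := by
  have hS' : (S.map (SheafOfModules.toSheaf (ModSite.ringSh O))).ShortExact :=
    hS.map_of_exact (SheafOfModules.toSheaf (ModSite.ringSh O))
  let g' := (ModSite.sectOn O U).map S.g
  let ι₂ := (ModSite.sectOnι O U).app S.X₂
  let ι₃ := (ModSite.sectOnι O U).app S.X₃
  have hnat : g' ≫ ι₃ = ι₂ ≫ S.g := (ModSite.sectOnι O U).naturality S.g
  have hsurj : ∀ (V : C) (y : ((ModSite.sectOn O U).obj S.X₃).val.presheaf.obj (op V)),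
      ∃ a' : ((ModSite.sectOn O U).obj S.X₂).val.presheaf.obj (op V),
        (g'.val.app (op V)).hom a' = y := by
    intro V y
    let x : S.X₃.val.presheaf.obj (op V) := (ι₃.val.app (op V)).hom y
    have hnull := (ExtSupp.isNullOn_iff O U _).1 (Groth.Agent.S12888.isNullOn_sectOn O U S.X₃)
    have hx : ∀ (W : C) (f : W ⟶ V) (_ : W ⟶ U), (S.X₃.val.presheaf.map f.op).hom x = 0 := by
      intro W f h
      have h1 := congrArg (fun ψ => ψ.hom y) (ι₃.val.naturality f.op)
      have h2 : (((ModSite.sectOn O U).obj S.X₃).val.presheaf.map f.op).hom y = 0 := hnull h _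
      refine (Eq.trans rfl h1.symm).trans ?_
      change (ι₃.val.app (op W)).hom
        ((((ModSite.sectOn O U).obj S.X₃).val.presheaf.map f.op).hom y) = 0
      refine (congrArg (fun z => (ι₃.val.app (op W)).hom z) h2).trans ?_
      exact map_zero (ι₃.val.app (op W)).hom
    obtain ⟨a₀, ha₀, hz⟩ := exists_lift_vanishing U hS' hM V x hx
    have hφ := restr_secS_zero O U S.X₂ V a₀ hz
    let φ' := Groth.Agent.S12888.sectLift O U (secS O S.X₂ V a₀) hφ
    have hφ' : φ' ≫ ι₂ = secS O S.X₂ V a₀ := Groth.Agent.S12888.sectLift_ι O U _ hφ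
    refine ⟨(φ'.val.app (op V)).hom (genS O V), ?_⟩
    have hinj : Function.Injective ((ι₃.val.app (op V)).hom) := by
      have : Mono ι₃ := by
        change Mono (kernel.ι _)
        infer_instance
      have : Mono ((SheafOfModules.toSheaf (ModSite.ringSh O)).map ι₃) := inferInstance
      exact injective_app_of_mono ((SheafOfModules.toSheaf (ModSite.ringSh O)).map ι₃) (op V)
    apply hinj
    have e1 : (ι₃.val.app (op V)).hom ((g'.val.app (op V)).hom ((φ'.val.app (op V)).hom (genS O V))) =
        (S.g.val.app (op V)).hom ((ι₂.val.app (op V)).hom ((φ'.val.app (op V)).hom (genS O V))) :=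
      congrArg (fun ψ : (ModSite.sectOn O U).obj S.X₂ ⟶ S.X₃ =>
        (ψ.val.app (op V)).hom ((φ'.val.app (op V)).hom (genS O V))) hnat
    have e2 : (ι₂.val.app (op V)).hom ((φ'.val.app (op V)).hom (genS O V)) = a₀ :=
      (congrArg (fun ψ : (shf O).obj (FP O V) ⟶ S.X₂ => (ψ.val.app (op V)).hom (genS O V)) hφ').trans
        (secS_gen O S.X₂ V a₀)
    rw [e1, e2]
    exact ha₀
  have h4 : Sheaf.IsLocallySurjective ((SheafOfModules.toSheaf (ModSite.ringSh O)).map g') :=
    Presheaf.isLocallySurjective_of_surjective J _ (fun W y => hsurj (unop W) y)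
  have h5 : Epi ((SheafOfModules.toSheaf (ModSite.ringSh O)).map g') :=
    (Sheaf.isLocallySurjective_iff_epi' _ _).1 h4
  exact Functor.epi_of_epi_map (SheafOfModules.toSheaf (ModSite.ringSh O)) h5

open Groth.Agent.Helper24.FrMod in
omit [ModSite.HasPushOver O U] in
/-- the cokernel of an embedding of a totally acyclic module into an injective one is totally
acyclic -/
lemma totallyAcyclic_quot {S : ShortComplex (ModSite.Mod O)} (hS : S.ShortExact)
    (hM : CohCx.IsTotallyAcyclic (ModSite.toAb S.X₁)) (hI : Injective S.X₂) :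
    CohCx.IsTotallyAcyclic (ModSite.toAb S.X₃) := by
  have hS' : (S.map (SheafOfModules.toSheaf (ModSite.ringSh O))).ShortExact :=
    hS.map_of_exact (SheafOfModules.toSheaf (ModSite.ringSh O))
  intro K p
  have key : ∀ z : Ext ((presheafToSheaf J AddCommGrpCat.{u}).obj (K.obj ⋙ AddCommGrpCat.free.{u}))
      (S.map (SheafOfModules.toSheaf (ModSite.ringSh O))).X₃ (p + 1), z = 0 := by
    intro z
    have h1 : Subsingleton (Ext ((presheafToSheaf J AddCommGrpCat.{u}).obj
        (K.obj ⋙ AddCommGrpCat.free.{u}))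
        (S.map (SheafOfModules.toSheaf (ModSite.ringSh O))).X₁ (p + 1 + 1)) := hM K (p + 1)
    obtain ⟨x₂, hx₂⟩ := Ext.covariant_sequence_exact₃ _ hS' z (n₁ := p + 1 + 1) rfl
      (Subsingleton.elim _ _)
    have h2 : Subsingleton (Ext ((presheafToSheaf J AddCommGrpCat.{u}).obj
        (K.obj ⋙ AddCommGrpCat.free.{u}))
        (S.map (SheafOfModules.toSheaf (ModSite.ringSh O))).X₂ (p + 1)) :=
      totallyAcyclic_toAb_injective S.X₂ K p
    rw [← hx₂, Subsingleton.elim x₂ 0, Ext.zero_comp]
  exact ⟨fun z w => (key z).trans (key w).symm⟩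

end Sect


section Generic

open Groth.Agent.Helper24.GSS DeltaF

variable {A : Type*} [Category A] [Abelian A] [EnoughInjectives A]
  {B : Type*} [Category B] [Abelian B]

/-- a class of objects stable under cokernels of embeddings into injectives, on which `Γ` is right
exact for such embeddings, is `Γ`-acyclic -/
theorem acyclic_of_class (Γ : A ⥤ B) [Γ.Additive] [PreservesFiniteLimits Γ] (P : A → Prop)
    (h2 : ∀ S : ShortComplex A, S.ShortExact → P S.X₁ → Injective S.X₂ →
      P S.X₃ ∧ Epi (Γ.map S.g)) (q : ℕ) :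
    ∀ M : A, P M → IsZero ((Γ.rightDerived (q + 1)).obj M) := by
  induction q with
  | zero =>
    intro M hM
    let S : ShortComplex A := ShortComplex.mk (Injective.ι M) (cokernel.π (Injective.ι M))
      (cokernel.condition _)
    have hS : S.ShortExact := ShortComplex.ShortExact.mk'
      (ShortComplex.exact_of_g_is_cokernel _ (cokernelIsCokernel _)) inferInstance inferInstance
    obtain ⟨-, hepi⟩ := h2 S hS hM (inferInstanceAs (Injective (Injective.under M)))
    have hz : IsZero ((Γ.rightDerived 1).obj S.X₂) :=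
      Functor.isZero_rightDerived_obj_injective_succ Γ 0 (Injective.under M)
    have e1 := (rdDelta Γ).exact₁ S hS 0 1 rfl
    have hδepi : Epi ((rdDelta Γ).δ S hS 0 1 rfl) :=
      (ShortComplex.exact_iff_epi _ (hz.eq_of_tgt _ _)).1 e1
    have hg0 : Epi ((Γ.rightDerived 0).map S.g) := by
      have hn := Γ.rightDerivedZeroIsoSelf.hom.naturality S.g
      have : (Γ.rightDerived 0).map S.g = Γ.rightDerivedZeroIsoSelf.hom.app S.X₂ ≫ Γ.map S.g ≫
          Γ.rightDerivedZeroIsoSelf.inv.app S.X₃ := by
        rw [← Category.assoc, ← hn, Category.assoc, Iso.hom_inv_id_app, Category.comp_id]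
      rw [this]
      infer_instance
    have hδ0 : (rdDelta Γ).δ S hS 0 1 rfl = 0 := by
      have := (rdDelta Γ).comp_δ S hS 0 1 rfl
      exact (cancel_epi ((Γ.rightDerived 0).map S.g)).1 (this.trans comp_zero.symm)
    exact @IsZero.of_epi_eq_zero _ _ _ _ _ ((rdDelta Γ).δ S hS 0 1 rfl) hδepi hδ0
  | succ q ih =>
    intro M hM
    let S : ShortComplex A := ShortComplex.mk (Injective.ι M) (cokernel.π (Injective.ι M))
      (cokernel.condition _)
    have hS : S.ShortExact := ShortComplex.ShortExact.mk'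
      (ShortComplex.exact_of_g_is_cokernel _ (cokernelIsCokernel _)) inferInstance inferInstance
    obtain ⟨hP3, -⟩ := h2 S hS hM (inferInstanceAs (Injective (Injective.under M)))
    have hz : IsZero ((Γ.rightDerived (q + 1 + 1)).obj S.X₂) :=
      Functor.isZero_rightDerived_obj_injective_succ Γ (q + 1) (Injective.under M)
    have e1 := (rdDelta Γ).exact₁ S hS (q + 1) (q + 1 + 1) rfl
    have hδepi : Epi ((rdDelta Γ).δ S hS (q + 1) (q + 1 + 1) rfl) :=
      (ShortComplex.exact_iff_epi _ (hz.eq_of_tgt _ _)).1 e1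
    exact @IsZero.of_epi _ _ _ _ _ ((rdDelta Γ).δ S hS (q + 1) (q + 1 + 1) rfl) hδepi (ih S.X₃ hP3)

end Generic

section Main

open Groth.Agent.Helper24.ModGroth Groth.Agent.Helper24.Supp

theorem main (O : Sheaf J CommRingCat.{u}) (U : C) (M : ModSite.Mod O)
    (hM : CohCx.IsTotallyAcyclic (ModSite.toAb M))
    [ModSite.HasPushOver O U] [HasInjectiveResolutions (ModSite.Mod O)] (q : ℕ) (hq : 1 ≤ q) :
    IsZero ((ModSite.HZsh O U q).obj M) ∧ Subsingleton (ModSite.HZ U M q) := by
  obtain ⟨k, rfl⟩ : ∃ k, q = k + 1 := ⟨q - 1, by omega⟩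
  constructor
  · haveI : PreservesFiniteLimits (ModSite.sectOn O U) := by
      have : PreservesLimitsOfSize.{0, 0} (ModSite.sectOn O U) :=
        (quotSectAdj O U).rightAdjoint_preservesLimits
      exact PreservesLimitsOfSize.preservesFiniteLimits _
    exact acyclic_of_class (ModSite.sectOn O U)
      (fun N => CohCx.IsTotallyAcyclic (ModSite.toAb N))
      (fun S hS h1 h2 => ⟨totallyAcyclic_quot O hS h1 h2, epi_sectOn_map O U hS h1⟩) k M hM
  · exact subsingleton_ext_quotZ (ModSite.toAb M) hM (ToposFin.eps J U) k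

end Main

end helpers

/-- On a small ringed site (C, J, O) with O commutative, let U be an object with Z the closed complement
of the open it generates, and M an O-module whose underlying abelian sheaf is flasque (totally
acyclic: its cohomology with respect to every sheaf of sets vanishes in positive degrees). Then for
every q ≥ 1 the local cohomology sheaf ℋ^q_Z(M) (right derived functor of sections with support on
O-modules) is zero and the group H^q_Z(M) is trivial. (The direct image along the localisation at U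
and injective resolutions of O-modules are the stated instance hypotheses, both true.) -/
theorem result {C : Type u} [SmallCategory C] {J : GrothendieckTopology C}
    (O : Sheaf J CommRingCat.{u}) (U : C) (M : ModSite.Mod O)
    (hM : CohCx.IsTotallyAcyclic (ModSite.toAb M))
    [ModSite.HasPushOver O U] [HasInjectiveResolutions (ModSite.Mod O)] (q : ℕ) (hq : 1 ≤ q) :
    IsZero ((ModSite.HZsh O U q).obj M) ∧ Subsingleton (ModSite.HZ U M q) := by
  exact main O U M hM q hq

end Groth.Agent.S12891
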