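import Groth.Statements.S12892
import Groth.Agent.S12891
import Groth.Agent.Lib.Helper17.MP2

set_option autoImplicit false
universe u
open CategoryTheory CategoryTheory.Limits
open ModSite

namespace Groth.Agent.S12892

section helpers

open Opposite Groth.Agent.Helper17.MT Groth.Agent.Helper24.Supp Groth.Agent.Helper24.GSS
  Groth.Agent.Helper24.CechH Groth.Agent.Helper24.FrMod Groth.Agent.S12891 Groth.Agent.S12888

variable {C : Type u} [SmallCategory C] {J : GrothendieckTopology C}

section OneRing

variable (O : Sheaf J CommRingCat.{u}) (U : C)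

/-- a morphism of sheaves of modules which is surjective on sections is an epimorphism -/
lemma epi_of_surjective {A B : ModSite.Mod O} (g : A ⟶ B)
    (h : ∀ (V : C) (y : B.val.presheaf.obj (op V)), ∃ a : A.val.presheaf.obj (op V),
      (g.val.app (op V)).hom a = y) : Epi g := by
  have h4 : Sheaf.IsLocallySurjective ((SheafOfModules.toSheaf (ModSite.ringSh O)).map g) :=
    Presheaf.isLocallySurjective_of_surjective J _ (fun W y => h (unop W) y)
  have h5 : Epi ((SheafOfModules.toSheaf (ModSite.ringSh O)).map g) :=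
    (Sheaf.isLocallySurjective_iff_epi' _ _).1 h4
  exact Functor.epi_of_epi_map (SheafOfModules.toSheaf (ModSite.ringSh O)) h5

/-- a monomorphism of sheaves of modules is injective on sections -/
lemma injective_of_mono {A B : ModSite.Mod O} (g : A ⟶ B) [Mono g] (V : C) :
    Function.Injective ((g.val.app (op V)).hom) := by
  have : Mono ((SheafOfModules.toSheaf (ModSite.ringSh O)).map g) := inferInstance
  exact injective_app_of_mono ((SheafOfModules.toSheaf (ModSite.ringSh O)).map g) (op V)

variable [ModSite.HasPushOver O U]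

instance mono_sectOnι (N : ModSite.Mod O) : Mono ((ModSite.sectOnι O U).app N) := by
  change Mono (kernel.ι _)
  infer_instance

/-- sections of `Γ_Z N` vanish on objects over `U` -/
lemma vanishing_of_sect (N : ModSite.Mod O) (V : C)
    (y : ((ModSite.sectOn O U).obj N).val.presheaf.obj (op V)) (W : C) (f : W ⟶ V) (h : W ⟶ U) :
    (N.val.presheaf.map f.op).hom ((((ModSite.sectOnι O U).app N).val.app (op V)).hom y) = 0 := by
  have hnull := (ExtSupp.isNullOn_iff O U _).1 (isNullOn_sectOn O U N)
  have h1 := congrArg (fun ψ => ψ.hom y) (((ModSite.sectOnι O U).app N).val.naturality f.op)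
  have h2 : (((ModSite.sectOn O U).obj N).val.presheaf.map f.op).hom y = 0 := hnull h _
  refine (Eq.trans rfl h1.symm).trans ?_
  change (((ModSite.sectOnι O U).app N).val.app (op W)).hom
    ((((ModSite.sectOn O U).obj N).val.presheaf.map f.op).hom y) = 0
  refine (congrArg (fun z => (((ModSite.sectOnι O U).app N).val.app (op W)).hom z) h2).trans ?_
  exact map_zero (((ModSite.sectOnι O U).app N).val.app (op W)).hom

/-- a section of `N` vanishing on all objects over `U` is a section of `Γ_Z N` -/
lemma exists_sect_of_vanishing (N : ModSite.Mod O) (V : C) (a : N.val.presheaf.obj (op V))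
    (hz : ∀ (W : C) (f : W ⟶ V) (_ : W ⟶ U), (N.val.presheaf.map f.op).hom a = 0) :
    ∃ a' : ((ModSite.sectOn O U).obj N).val.presheaf.obj (op V),
      (((ModSite.sectOnι O U).app N).val.app (op V)).hom a' = a := by
  have hφ := restr_secS_zero O U N V a hz
  let φ' := sectLift O U (secS O N V a) hφ
  have hφ' : φ' ≫ (ModSite.sectOnι O U).app N = secS O N V a := sectLift_ι O U _ hφ
  exact ⟨(φ'.val.app (op V)).hom (genS O V),
    (congrArg (fun ψ : (shf O).obj (FP O V) ⟶ N => (ψ.val.app (op V)).hom (genS O V)) hφ').trans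
      (secS_gen O N V a)⟩

end OneRing

section TwoRings

variable {O O' : Sheaf J CommRingCat.{u}} (φ : O ⟶ O') (U : C)

/-- restriction of scalars along `φ` -/
noncomputable abbrev Rφ : ModSite.Mod O' ⥤ ModSite.Mod O :=
  SheafOfModules.restrictScalars ((sheafCompose J (forget₂ CommRingCat.{u} RingCat.{u})).map φ)

instance preservesFiniteLimits_Rφ : PreservesFiniteLimits (Rφ φ) := by
  have := (Groth.Agent.Helper17.MP.main6160
    ((sheafCompose J (forget₂ CommRingCat.{u} RingCat.{u})).map φ)).1
  exact PreservesLimitsOfSize.preservesFiniteLimits _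

instance preservesFiniteColimits_Rφ : PreservesFiniteColimits (Rφ φ) := by
  have := (Groth.Agent.Helper17.MP.main6160
    ((sheafCompose J (forget₂ CommRingCat.{u} RingCat.{u})).map φ)).2.1
  exact PreservesColimitsOfSize.preservesFiniteColimits _

variable [ModSite.HasPushOver O U] [ModSite.HasPushOver O' U]

lemma isNullOn_R_sectOn (N : ModSite.Mod O') :
    ModSite.IsNullOn O U ((Rφ φ).obj ((ModSite.sectOn O' U).obj N)) := by
  rw [ExtSupp.isNullOn_iff]
  intro V h x
  exact (ExtSupp.isNullOn_iff O' U _).1 (isNullOn_sectOn O' U N) h x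

/-- the comparison `(Γ_Z N)_O ⟶ Γ_Z (N_O)` -/
noncomputable def cmp (N : ModSite.Mod O') :
    (Rφ φ).obj ((ModSite.sectOn O' U).obj N) ⟶ (ModSite.sectOn O U).obj ((Rφ φ).obj N) :=
  sectLift O U ((Rφ φ).map ((ModSite.sectOnι O' U).app N))
    ((isNullOn_R_sectOn φ U N).eq_of_src _ _)

lemma cmp_ι (N : ModSite.Mod O') :
    cmp φ U N ≫ (ModSite.sectOnι O U).app ((Rφ φ).obj N) =
      (Rφ φ).map ((ModSite.sectOnι O' U).app N) :=
  sectLift_ι _ _ _ _

instance mono_cmp (N : ModSite.Mod O') : Mono (cmp φ U N) := by
  have : Mono (cmp φ U N ≫ (ModSite.sectOnι O U).app ((Rφ φ).obj N)) := by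
    rw [cmp_ι]
    infer_instance
  exact mono_of_mono _ ((ModSite.sectOnι O U).app ((Rφ φ).obj N))

instance epi_cmp (N : ModSite.Mod O') : Epi (cmp φ U N) := by
  apply epi_of_surjective O
  intro V a'
  let a : N.val.presheaf.obj (op V) :=
    (((ModSite.sectOnι O U).app ((Rφ φ).obj N)).val.app (op V)).hom a'
  have hz : ∀ (W : C) (f : W ⟶ V) (_ : W ⟶ U), (N.val.presheaf.map f.op).hom a = 0 :=
    fun W f h => vanishing_of_sect O U ((Rφ φ).obj N) V a' W f h
  obtain ⟨a'', ha''⟩ := exists_sect_of_vanishing O' U N V a hz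
  refine ⟨a'', ?_⟩
  apply injective_of_mono O ((ModSite.sectOnι O U).app ((Rφ φ).obj N)) V
  have e1 := congrArg (fun ψ : (Rφ φ).obj ((ModSite.sectOn O' U).obj N) ⟶ (Rφ φ).obj N =>
    (ψ.val.app (op V)).hom a'') (cmp_ι φ U N)
  exact e1.trans ha''

/-- `Γ_Z` commutes with restriction of scalars -/
noncomputable def cmpNatIso : ModSite.sectOn O' U ⋙ Rφ φ ≅ Rφ φ ⋙ ModSite.sectOn O U :=
  NatIso.ofComponents (fun N => by
    haveI := isIso_of_mono_of_epi (cmp φ U N)
    exact asIso (cmp φ U N)) (by
    intro N N' f
    change (Rφ φ).map ((ModSite.sectOn O' U).map f) ≫ cmp φ U N' =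
      cmp φ U N ≫ (ModSite.sectOn O U).map ((Rφ φ).map f)
    rw [← cancel_mono ((ModSite.sectOnι O U).app ((Rφ φ).obj N')), Category.assoc, Category.assoc,
      cmp_ι]
    have e1 : (ModSite.sectOn O U).map ((Rφ φ).map f) ≫ (ModSite.sectOnι O U).app ((Rφ φ).obj N') =
        (ModSite.sectOnι O U).app ((Rφ φ).obj N) ≫ (Rφ φ).map f :=
      (ModSite.sectOnι O U).naturality _
    rw [e1, ← Category.assoc, cmp_ι, ← Functor.map_comp, ← Functor.map_comp]
    exact congrArg _ ((ModSite.sectOnι O' U).naturality f))

end TwoRings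

section Main

open Groth.Agent.Helper24.ModGroth

theorem main {O O' : Sheaf J CommRingCat.{u}} (φ : O ⟶ O') (U : C)
    [ModSite.HasPushOver O U] [ModSite.HasPushOver O' U]
    [HasInjectiveResolutions (ModSite.Mod O)] [HasInjectiveResolutions (ModSite.Mod O')] (q : ℕ) :
    Nonempty (ModSite.HZsh O' U q ⋙
        SheafOfModules.restrictScalars ((sheafCompose J (forget₂ CommRingCat.{u} RingCat.{u})).map φ) ≅
      SheafOfModules.restrictScalars ((sheafCompose J (forget₂ CommRingCat.{u} RingCat.{u})).map φ) ⋙
        ModSite.HZsh O U q) := by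
  haveI : PreservesFiniteLimits (ModSite.sectOn O U) := by
    have : PreservesLimitsOfSize.{0, 0} (ModSite.sectOn O U) :=
      (quotSectAdj O U).rightAdjoint_preservesLimits
    exact PreservesLimitsOfSize.preservesFiniteLimits _
  haveI : PreservesFiniteLimits (ModSite.sectOn O' U) := by
    have : PreservesLimitsOfSize.{0, 0} (ModSite.sectOn O' U) :=
      (quotSectAdj O' U).rightAdjoint_preservesLimits
    exact PreservesLimitsOfSize.preservesFiniteLimits _
  obtain ⟨e1⟩ := nonempty_rightDerived_comp_exact_iso (ModSite.sectOn O' U) (Rφ φ) q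
  obtain ⟨e2⟩ := nonempty_rightDerived_iso_of_iso _ _ (cmpNatIso φ U) q
  obtain ⟨e3⟩ : Nonempty (Rφ φ ⋙ (ModSite.sectOn O U).rightDerived q ≅
      (Rφ φ ⋙ ModSite.sectOn O U).rightDerived q) := by
    have : PreservesFiniteLimits (Rφ φ ⋙ ModSite.sectOn O U) := comp_preservesFiniteLimits _ _
    refine nonempty_iso_rightDerived (comap (Rφ φ) (rdDelta (ModSite.sectOn O U))) ?_
      (Rφ φ ⋙ ModSite.sectOn O U)
      (Functor.isoWhiskerLeft (Rφ φ) (ModSite.sectOn O U).rightDerivedZeroIsoSelf) q
    intro k X
    refine ⟨Injective.under X, Injective.ι X, inferInstance, IsZero.eq_of_tgt ?_ _ _⟩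
    exact (Groth.Agent.S12891.main O U ((Rφ φ).obj (Injective.under X))
      (totallyAcyclic_toAb_injective (Injective.under X)) (k + 1) (by omega)).1
  exact ⟨e1 ≪≫ e2 ≪≫ e3.symm⟩

end Main

end helpers

/-- On a small site (C, J), let φ : O → O' be a morphism of commutative structure sheaves, U an object
with Z the closed complement of the open it generates, and q ≥ 0. The local cohomology sheaf
functors ℋ^q_Z (right derived functors of sections with support) commute with restriction of scalars
along φ: the composite of ℋ^q_Z on O'-modules with restriction of scalars is isomorphic to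
restriction of scalars followed by ℋ^q_Z on O-modules. (Existence of an isomorphism of functors
only. The direct images along the localisation at U and injective resolutions of O- and O'-modules
are the stated instance hypotheses, all true.) -/
theorem result {C : Type u} [SmallCategory C] {J : GrothendieckTopology C}
    {O O' : Sheaf J CommRingCat.{u}} (φ : O ⟶ O') (U : C)
    [ModSite.HasPushOver O U] [ModSite.HasPushOver O' U]
    [HasInjectiveResolutions (ModSite.Mod O)] [HasInjectiveResolutions (ModSite.Mod O')] (q : ℕ) :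
    Nonempty (ModSite.HZsh O' U q ⋙
        SheafOfModules.restrictScalars ((sheafCompose J (forget₂ CommRingCat.{u} RingCat.{u})).map φ) ≅
      SheafOfModules.restrictScalars ((sheafCompose J (forget₂ CommRingCat.{u} RingCat.{u})).map φ) ⋙
        ModSite.HZsh O U q) := by
  exact main φ U q

end Groth.Agent.S12892
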