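import Groth.Statements.S12893
import Mathlib
import Groth.Agent.Lib.Helper24.Supp7

set_option autoImplicit false
universe u
open CategoryTheory CategoryTheory.Limits
open ModSite

namespace Groth.Agent.S12893


open Groth.Agent.Helper24.FrMod Groth.Agent.Helper24.GSS Groth.Agent.Helper17.MT
  Groth.Agent.Helper24.CechH Groth.Agent.Helper24.Supp

/-- On a small ringed site (C, J, O) with O commutative, let U be an object with Z the closed complement
of the open it generates, M an O-module, Γ_Z the sections-with-support functor (kernel of N →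
j_{U*}(N|_U)) and M_Z the cokernel of j_{U!}(M|_U) → M. Then the functors N ↦ Γ_Z(ℋom_O(M, N)), N ↦
ℋom_O(M, Γ_Z(N)) and N ↦ ℋom_O(M_Z, N) are isomorphic. (Existence of isomorphisms of functors only.
The direct image along the localisation at U and the internal Hom functors of M and of M_Z are the
stated instance hypotheses, all true.) -/
theorem result {C : Type u} [SmallCategory C] {J : GrothendieckTopology C}
    (O : Sheaf J CommRingCat.{u}) (U : C) (M : ModSite.Mod O)
    [ModSite.HasPushOver O U] [ModSite.HasSheafHom M] [ModSite.HasSheafHom ((ModSite.quotOn O U).obj M)] :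
    Nonempty (ModSite.sheafHom M ⋙ ModSite.sectOn O U ≅ ModSite.sectOn O U ⋙ ModSite.sheafHom M) ∧
      Nonempty (ModSite.sheafHom M ⋙ ModSite.sectOn O U ≅ ModSite.sheafHom ((ModSite.quotOn O U).obj M)) := by
  let A := (ModSite.quotOn O U).obj (ModSite.unit O)
  let eq : ModSite.quotOn O U ≅ TR O A := (quotOnIso O U).symm ≪≫ TLIsoTR O A
  let adj1 : ModSite.quotOn O U ⋙ TR O M ⊣ ModSite.sheafHom M ⋙ ModSite.sectOn O U :=
    (quotSectAdj O U).comp (ModSite.sheafHomAdj M)
  let adj2 : TR O M ⋙ ModSite.quotOn O U ⊣ ModSite.sectOn O U ⋙ ModSite.sheafHom M :=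
    (ModSite.sheafHomAdj M).comp (quotSectAdj O U)
  let adj3 : TR O ((ModSite.quotOn O U).obj M) ⊣ ModSite.sheafHom ((ModSite.quotOn O U).obj M) :=
    ModSite.sheafHomAdj _
  let i13 : ModSite.quotOn O U ⋙ TR O M ≅ TR O ((ModSite.quotOn O U).obj M) :=
    Functor.isoWhiskerRight eq (TR O M) ≪≫ TRcompIso O A M ≪≫
      (ModSite.tensorBi O).flip.mapIso (thetaIso O U M)
  let i23 : TR O M ⋙ ModSite.quotOn O U ≅ TR O ((ModSite.quotOn O U).obj M) :=
    Functor.isoWhiskerLeft (TR O M) eq ≪≫ TRcompIso O M A ≪≫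
      (ModSite.tensorBi O).flip.mapIso ((TLIsoTR O M).app A) ≪≫
      (ModSite.tensorBi O).flip.mapIso (thetaIso O U M)
  constructor
  · exact ⟨((adj1.ofNatIsoLeft (i13 ≪≫ i23.symm)).rightAdjointUniq adj2)⟩
  · exact ⟨((adj1.ofNatIsoLeft i13).rightAdjointUniq adj3)⟩

end Groth.Agent.S12893
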