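import Groth.Statements.S12895
import Mathlib
import Groth.Agent.Lib.Helper24.FrMod4

set_option autoImplicit false
universe u
open CategoryTheory CategoryTheory.Limits
open ModSite

namespace Groth.Agent.S12895


open Groth.Agent.Helper24.FrMod Groth.Agent.Helper24.GSS Groth.Agent.Helper17.MT
  Groth.Agent.Helper24.CechH

lemma isZero_punit : IsZero (AddCommGrpCat.of PUnit.{u + 1}) :=
  @AddCommGrpCat.isZero_of_subsingleton (AddCommGrpCat.of PUnit.{u + 1})
    (inferInstanceAs (Subsingleton PUnit.{u + 1}))

/-- The local-to-global Ext sequence: on a small ringed site (C, J, O) with O commutative, for O-modules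
M and N there is an E₂ spectral sequence of abelian groups with E₂^{p,q} ≅ H^p(C, ℰxt^q_O(M, N)) for
p, q ≥ 0 (and 0 otherwise), bounded, abutting with finite filtrations to Ext^n_O(M, N) (n ≥ 0; 0 for
n < 0); here ℰxt^q_O(M, -) are the right derived functors of the internal Hom ℋom_O(M, -), H^p(C, -)
is the cohomology of the site with values in the underlying abelian sheaf, and Ext^n_O is computed
in the category of O-modules. (Existence only: the E₂ identifications and the abutment are some
isomorphisms. The internal Hom of M, injective resolutions of O-modules and smallness of the Ext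
groups of O-modules are the stated instance hypotheses, all true.) -/
theorem result {C : Type u} [SmallCategory C] {J : GrothendieckTopology C}
    (O : Sheaf J CommRingCat.{u}) (M N : ModSite.Mod O)
    [ModSite.HasSheafHom M] [HasInjectiveResolutions (ModSite.Mod O)] [HasExt.{u} (ModSite.Mod O)] :
    ∃ (E : E₂CohomologicalSpectralSequence AddCommGrpCat.{u})
      (a : SpSeq.Abutment E (fun n : ℤ =>
        if 0 ≤ n then AddCommGrpCat.of (Abelian.Ext.{u} M N n.toNat) else AddCommGrpCat.of PUnit.{u + 1})),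
      (∀ n : ℤ, a.IsFinite n) ∧ SpSeq.IsBounded E ∧
      ∀ p q : ℤ, Nonempty ((E.page 2 le_rfl).X (p, q) ≅
        (if 0 ≤ p ∧ 0 ≤ q then AddCommGrpCat.of (ModSite.HC O ((ModSite.extSh M q.toNat).obj N) p.toNat)
          else AddCommGrpCat.of PUnit.{u + 1})) := by
  have : EnoughInjectives (ModSite.Mod O) := by
    refine ⟨fun X => ?_⟩
    let I : InjectiveResolution X := (HasInjectiveResolution.out (Z := X)).some
    exact ⟨{ J := I.cocomplex.X 0
             injective := I.injective 0
             f := (I.ι.f 0 : X ⟶ I.cocomplex.X 0)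
             mono := inferInstanceAs (Mono (I.ι.f 0)) }⟩
  have : HasDerivedCategory.{u + 1} (ModSite.Mod O) := HasDerivedCategory.standard _
  have hZ : TF (ZC (J := J)) := tf_constant
  refine exists_grothendieck_spectralSequence' (SZ (O := O) (ZC (J := J))) (ModSite.sheafHom M)
    ?_ N _ _ ?_ ?_ ?_ ?_
  · intro Q hQ q hq
    obtain ⟨k, rfl⟩ : ∃ k, q = k + 1 := ⟨q - 1, by omega⟩
    obtain ⟨e⟩ := nonempty_SZ_rightDerived_iso (O := O) (ZC (J := J)) hZ
      ((ModSite.sheafHom M).obj Q) (k + 1)
    have : Subsingleton (Abelian.Ext (ZC (J := J))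
        (ModSite.toAb ((ModSite.sheafHom M).obj Q)) (k + 1)) :=
      ext_sheafHom_subsingleton _ hZ M Q k
    exact IsZero.of_iso (@AddCommGrpCat.isZero_of_subsingleton
      (AddCommGrpCat.of (Abelian.Ext (ZC (J := J))
        (ModSite.toAb ((ModSite.sheafHom M).obj Q)) (k + 1))) this) e.symm
  · intro n
    have hn : (0 : ℤ) ≤ (n : ℤ) := by positivity
    simp only [if_pos hn, Int.toNat_natCast]
    let e₀ : ModSite.sheafHom M ⋙ SZ (O := O) (ZC (J := J)) ≅
        (extDelta ((Fr O ⋙ TR O M).obj (ZC (J := J)))).F 0 :=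
      (extZeroAdjIso (adjL M) (ZC (J := J))).symm
    obtain ⟨e1⟩ := nonempty_rightDerived_iso_of_iso _ _ e₀ n
    obtain ⟨e2⟩ := nonempty_iso_rightDerived_obj (extDelta ((Fr O ⋙ TR O M).obj (ZC (J := J))))
      (extDelta_effaceable _) _ (Iso.refl _) n N
    obtain ⟨e3⟩ := nonempty_ext_iso_of_iso (LZIso O M) N n
    exact ⟨e1.app N ≪≫ e2.symm ≪≫ e3⟩
  · intro n hn
    simp only [if_neg (not_le.2 hn)]
    exact isZero_punit
  · intro p q
    have hpq : (0 : ℤ) ≤ (p : ℤ) ∧ (0 : ℤ) ≤ (q : ℤ) := ⟨by positivity, by positivity⟩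
    simp only [if_pos hpq, Int.toNat_natCast]
    obtain ⟨e⟩ := nonempty_SZ_rightDerived_iso (O := O) (ZC (J := J)) hZ
      (((ModSite.sheafHom M).rightDerived q).obj N) p
    exact ⟨e.symm⟩
  · intro p q hpq
    have : ¬ ((0 : ℤ) ≤ p ∧ (0 : ℤ) ≤ q) := fun h => by lia
    simp only [if_neg this]
    exact isZero_punit

end Groth.Agent.S12895
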