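import Groth.Statements.S12903
import Mathlib
import Groth.Agent.Lib.Helper13.KerSec
import Groth.Agent.Lib.Helper13.QCoh

set_option autoImplicit false
universe u
open CategoryTheory CategoryTheory.Limits AlgebraicGeometry Opposite
open Coherent

namespace Groth.Agent.S12903

lemma main {U X : Scheme.{u}} (j : U ⟶ X) [IsOpenImmersion j]
    (F : X.Modules) [F.IsQuasicoherent] (V : X.Opens) (hV : IsAffineOpen V)
    (I : Ideal Γ(X, V)) (hI : I.FG)
    (hZ : ∀ x : X, x ∈ V → (x ∉ Set.range j.base ↔ ∀ f ∈ I, x ∉ X.basicOpen f))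
    (s : Γ(F, V)) :
    F.presheaf.map (homOfLE (j.image_preimage_le V)).op s = 0 ↔
      ∃ n : ℕ, ∀ a ∈ I ^ n, a • s = 0 := by
  have hmemW : ∀ x : X, x ∈ j ''ᵁ (j ⁻¹ᵁ V) ↔ (x ∈ Set.range j.base ∧ x ∈ V) := by
    intro x
    rw [j.image_preimage_eq_opensRange_inf V, TopologicalSpace.Opens.mem_inf]
    exact Iff.rfl
  have hA : ∀ f : Γ(X, V), f ∈ I → X.basicOpen f ≤ j ''ᵁ (j ⁻¹ᵁ V) := by
    intro f hf x hx
    have hxV : x ∈ V := X.basicOpen_le f hx
    rw [hmemW]
    refine ⟨?_, hxV⟩
    by_contra hn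
    exact ((hZ x hxV).1 hn) f hf hx
  constructor
  · intro h0
    have hrad : I ≤ (Ideal.torsionOf Γ(X, V) Γ(F, V) s).radical := by
      intro f hf
      have ht : F.presheaf.map (homOfLE (X.basicOpen_le f)).op s = 0 := by
        have e := Groth.Agent.Helper13.QCoh.map_map_eq F (homOfLE (j.image_preimage_le V)).op
          (homOfLE (hA f hf)).op (homOfLE (X.basicOpen_le f)).op s
        rw [h0, map_zero] at e
        exact e.symm
      obtain ⟨n, hn⟩ := Groth.Agent.Helper13.QCoh.exists_pow_smul_eq_zero F hV f s ht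
      exact Ideal.mem_radical_iff.2 ⟨n, (Ideal.mem_torsionOf_iff s (f ^ n)).2 hn⟩
    obtain ⟨n, hn⟩ := Ideal.exists_pow_le_of_le_radical_of_fg hrad hI
    exact ⟨n, fun a ha => (Ideal.mem_torsionOf_iff s a).1 (hn ha)⟩
  · rintro ⟨n, hn⟩
    apply TopCat.Sheaf.eq_of_locally_eq' ⟨F.presheaf, F.isSheaf⟩
      (fun f : I => X.basicOpen (f.1 : Γ(X, V))) (j ''ᵁ (j ⁻¹ᵁ V))
      (fun f => homOfLE (hA f.1 f.2))
    · intro x hx
      rw [hmemW] at hx
      by_contra hcon
      refine (hZ x hx.2).2 ?_ hx.1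
      intro f hf hxf
      exact hcon (TopologicalSpace.Opens.mem_iSup.2 ⟨⟨f, hf⟩, hxf⟩)
    · intro f
      rw [map_zero]
      refine (Groth.Agent.Helper13.QCoh.map_map_eq F (homOfLE (j.image_preimage_le V)).op
          (homOfLE (hA f.1 f.2)).op (homOfLE (X.basicOpen_le f.1)).op s).trans ?_
      have h2 : (f.1 ^ n) • s = 0 := hn _ (Ideal.pow_mem_pow f.2 n)
      have h3 : F.presheaf.map (homOfLE (X.basicOpen_le f.1)).op ((f.1 ^ n) • s) = 0 := by
        rw [h2, map_zero]
      rw [Scheme.Modules.map_smul, map_pow] at h3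
      have hu : IsUnit (X.presheaf.map (homOfLE (X.basicOpen_le f.1)).op f.1) :=
        X.toRingedSpace.isUnit_res_basicOpen f.1
      exact (hu.pow n).smul_eq_zero.1 h3

/-- Let X be a scheme, j : U → X a quasi-compact open immersion with closed complement Z, F a
quasi-coherent O_X-module, V an affine open of X and I a finitely generated ideal of Γ(V, O_X)
cutting out Z ∩ V (a point of V lies outside U if and only if it lies in no basic open X_f with f ∈
I). Then a section s of F over V belongs to the subsheaf Γ_Z(F) of sections supported in Z (the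
kernel of F → j_*(F|_U)) if and only if I^n s = 0 for some n. -/
theorem result {U X : Scheme.{u}} (j : U ⟶ X) [IsOpenImmersion j] [QuasiCompact j]
    (F : X.Modules) (hF : Coh.IsQCoh F) (V : X.Opens) (hV : IsAffineOpen V)
    (I : Ideal (X.ringCatSheaf.obj.obj (op V))) (hI : I.FG)
    (hZ : ∀ x : X, x ∈ V → (x ∉ Set.range j.base ↔ ∀ f ∈ I, x ∉ X.basicOpen (f : Γ(X, V))))
    (s : F.val.obj (op V)) :
    s ∈ Set.range ((((CxOX.gammaZι j).app F).val.app (op V)).hom) ↔ ∃ n : ℕ, ∀ a ∈ I ^ n, a • s = 0 := by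
  haveI : F.IsQuasicoherent := hF
  have hrange : s ∈ Set.range ((((CxOX.gammaZι j).app F).val.app (op V)).hom) ↔
      F.presheaf.map (homOfLE (j.image_preimage_le V)).op (show Γ(F, V) from s) = 0 := by
    constructor
    · rintro ⟨k, rfl⟩
      have e := Groth.Agent.Helper13.KerSec.kernel_ι_app_comp
        ((Scheme.Modules.restrictAdjunction j).unit.app F) V k
      rw [Scheme.Modules.restrictAdjunction_unit_app_app] at e
      exact e
    · intro h
      obtain ⟨k, hk⟩ := Groth.Agent.Helper13.KerSec.exists_kernel_section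
        ((Scheme.Modules.restrictAdjunction j).unit.app F) V s
        (by rw [Scheme.Modules.restrictAdjunction_unit_app_app]; exact h)
      exact ⟨k, hk⟩
  exact hrange.trans (main j F V hV I hI hZ s)

end Groth.Agent.S12903
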