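import Groth.Statements.S12909
import Groth.Agent.Lib.Lead.Vasc1

set_option autoImplicit false
universe u
open CAlgX

namespace Groth.Agent.S12909

/-- Let R be a Noetherian ring and I a nonzero ideal with a finite free resolution 0 → R^{n_e} → … →
R^{n_1} → R^{n_0} → I → 0 with e ≥ 1: the map R^{n_{i+1}} → R^{n_i} is the matrix A_i, the map π :
R^{n_0} → R is linear with image I, the kernel of π is the image of A_0, the kernel of A_i is the
image of A_{i+1} for 0 ≤ i ≤ e - 2, and A_{e-1} is injective. Then I contains a non-zero-divisor of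
R. (The hypothesis that I is nonzero is implicit in the published statement: the zero ideal of a
domain has a finite free resolution and contains no non-zero-divisor.) -/
theorem result {R : Type u} [CommRing R] [IsNoetherianRing R]
    (e : ℕ) (he : 1 ≤ e) (n : ℕ → ℕ) (A : (i : ℕ) → Matrix (Fin (n i)) (Fin (n (i + 1))) R)
    (π : (Fin (n 0) → R) →ₗ[R] R) (hI : LinearMap.range π ≠ ⊥)
    (h0 : LinearMap.ker π = LinearMap.range (A 0).mulVecLin)
    (hA : ∀ i, i + 2 ≤ e → LinearMap.ker (A i).mulVecLin = LinearMap.range (A (i + 1)).mulVecLin)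
    (hlast : LinearMap.ker (A (e - 1)).mulVecLin = ⊥) :
    ∃ x : R, x ∈ LinearMap.range π ∧ x ∈ nonZeroDivisors R := by
  have claim : ∀ (d j : ℕ), j + d + 1 = e →
      ∃ χ : ℤ, Groth.Agent.Lead.Vasc.HasFFR R d (LinearMap.range (A j).mulVecLin) χ := by
    intro d
    induction d with
    | zero =>
      intro j hj
      have hje : j = e - 1 := by omega
      have hinj : Function.Injective (A j).mulVecLin := by
        rw [← LinearMap.ker_eq_bot, hje]
        exact hlast
      exact ⟨(n (j + 1) : ℤ), n (j + 1), rfl,
        ⟨(LinearEquiv.ofInjective (A j).mulVecLin hinj).symm⟩⟩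
    | succ d ih =>
      intro j hj
      obtain ⟨χ', hχ'⟩ := ih (j + 1) (by omega)
      refine ⟨(n (j + 1) : ℤ) - χ', n (j + 1), LinearMap.range (A (j + 1)).mulVecLin,
        inferInstance, inferInstance, (LinearMap.range (A (j + 1)).mulVecLin).subtype,
        (A j).mulVecLin.rangeRestrict, Submodule.injective_subtype _, ?_,
        LinearMap.surjective_rangeRestrict _, ?_⟩
      · rw [LinearMap.exact_iff, LinearMap.ker_rangeRestrict, Submodule.range_subtype]
        exact hA j (by omega)
      · rw [sub_sub_cancel]
        exact hχ'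
  obtain ⟨χ', hχ'⟩ := claim (e - 1) 0 (by omega)
  have hffr : Groth.Agent.Lead.Vasc.HasFFR R (e - 1 + 1) (LinearMap.range π)
      ((n 0 : ℤ) - χ') := by
    refine ⟨n 0, LinearMap.range (A 0).mulVecLin, inferInstance, inferInstance,
      (LinearMap.range (A 0).mulVecLin).subtype, π.rangeRestrict,
      Submodule.injective_subtype _, ?_, LinearMap.surjective_rangeRestrict _, ?_⟩
    · rw [LinearMap.exact_iff, LinearMap.ker_rangeRestrict, Submodule.range_subtype]
      exact h0
    · rw [sub_sub_cancel]
      exact hχ'
  obtain ⟨x, hx, hxr⟩ := Groth.Agent.Lead.Vasc.exists_nonZeroDivisor_mem_of_hasFFR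
    (LinearMap.range π) hI (e - 1 + 1) _ hffr
  exact ⟨x, hx, hxr⟩

end Groth.Agent.S12909
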