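import Mathlib
import Groth.Statements.S12914
import Groth.Agent.Lib.Helper19.Dubreil.Slice

set_option autoImplicit false
universe u
open CAlgX

namespace Groth.Agent.S12914

/-- Let k be a field, Z a finite set of nonzero vectors in k^3, regarded as points of the projective
plane, and I the homogeneous vanishing ideal of Z in k[x_0, x_1, x_2]: a polynomial belongs to I
exactly when every one of its homogeneous components vanishes at every vector of Z. If Z lies on a
curve of degree d, that is I contains a nonzero homogeneous form of degree d, then I is generated by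
at most d + 1 elements. -/
theorem result (k : Type u) [Field k]
    (Z : Finset (Fin 3 → k)) (hZ : ∀ p ∈ Z, p ≠ 0) (I : Ideal (MvPolynomial (Fin 3) k))
    (hI : ∀ f : MvPolynomial (Fin 3) k, f ∈ I ↔
      ∀ p ∈ Z, ∀ j : ℕ, MvPolynomial.eval p (MvPolynomial.homogeneousComponent j f) = 0)
    (d : ℕ) (hf : ∃ f ∈ I, MvPolynomial.IsHomogeneous f d ∧ f ≠ 0) :
    Submodule.spanFinrank I ≤ d + 1 := by
  classical
  obtain ⟨f, hfI, hfd, hf0⟩ := hf
  have hIeq : I = Groth.Agent.Helper19.Dubreil.vanIdeal (↑Z : Set (Fin 3 → k)) := by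
    ext g
    rw [hI, Groth.Agent.Helper19.Dubreil.mem_vanIdeal]
    simp only [Finset.mem_coe]
  -- the auxiliary infinite field
  let t : RatFunc k := algebraMap (Polynomial k) (RatFunc k) Polynomial.X
  have hℓ : ∀ p ∈ Groth.Agent.Helper19.Dubreil.bcSet (RatFunc k) (↑Z : Set (Fin 3 → k)),
      p 2 - (-(t ^ 2)) * p 0 - (-t) * p 1 ≠ 0 := by
    rintro _ ⟨p, hp, rfl⟩
    have hp0 : p ≠ 0 := hZ p (Finset.mem_coe.mp hp)
    have key : algebraMap k (RatFunc k) (p 2) - (-(t ^ 2)) * algebraMap k (RatFunc k) (p 0)
        - (-t) * algebraMap k (RatFunc k) (p 1) =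
        algebraMap (Polynomial k) (RatFunc k)
          (Polynomial.C (p 2) + Polynomial.X ^ 2 * Polynomial.C (p 0)
            + Polynomial.X * Polynomial.C (p 1)) := by
      rw [IsScalarTower.algebraMap_apply k (Polynomial k) (RatFunc k) (p 2),
        IsScalarTower.algebraMap_apply k (Polynomial k) (RatFunc k) (p 0),
        IsScalarTower.algebraMap_apply k (Polynomial k) (RatFunc k) (p 1)]
      simp only [Polynomial.algebraMap_eq, map_add, map_mul, map_pow, t]
      ring
    show algebraMap k (RatFunc k) (p 2) - (-(t ^ 2)) * algebraMap k (RatFunc k) (p 0)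
        - (-t) * algebraMap k (RatFunc k) (p 1) ≠ 0
    rw [key]
    intro h0
    have h1 : (Polynomial.C (p 2) + Polynomial.X ^ 2 * Polynomial.C (p 0)
        + Polynomial.X * Polynomial.C (p 1) : Polynomial k) = 0 :=
      (map_eq_zero_iff _ (RatFunc.algebraMap_injective k)).mp h0
    apply hp0
    have c0 := congrArg (fun q : Polynomial k => q.coeff 0) h1
    have c1 := congrArg (fun q : Polynomial k => q.coeff 1) h1
    have c2 := congrArg (fun q : Polynomial k => q.coeff 2) h1
    simp [Polynomial.coeff_X, Polynomial.coeff_C, Polynomial.coeff_X_pow] at c0 c1 c2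
    funext i
    fin_cases i
    · exact c2
    · exact c1
    · exact c0
  -- the bound on independent families
  have hb : ∀ (M : ℕ) (e : Fin M → MvPolynomial (Fin 3) k), (∀ i, e i ∈ I) →
      (∀ i, ∃ j, (e i).IsHomogeneous j) →
      Groth.Agent.Helper19.Dubreil.IndepMod I e → M ≤ d + 1 := by
    intro M e he1 _ he3
    rw [hIeq] at he1 he3 hfI
    have h1 := Groth.Agent.Helper19.Dubreil.indep_transfer (K := RatFunc k)
      (↑Z : Set (Fin 3 → k)) e he3
    exact Groth.Agent.Helper19.Dubreil.bound3
      (Groth.Agent.Helper19.Dubreil.bcSet (RatFunc k) (↑Z : Set (Fin 3 → k)))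
      (-(t ^ 2)) (-t) hℓ d (MvPolynomial.map (algebraMap k (RatFunc k)) f)
      (Groth.Agent.Helper19.Dubreil.map_mem_vanIdeal _ f hfI)
      (hfd.map _)
      ((map_ne_zero_iff _ (MvPolynomial.map_injective _ (algebraMap k (RatFunc k)).injective)).mpr hf0)
      M _ (fun i => Groth.Agent.Helper19.Dubreil.map_mem_vanIdeal _ (e i) (he1 i)) h1
  have hhom : Groth.Agent.Helper19.Dubreil.IsHomIdeal I := by
    rw [hIeq]
    exact Groth.Agent.Helper19.Dubreil.vanIdeal_isHom _
  obtain ⟨M, e, hM, he⟩ := Groth.Agent.Helper19.Dubreil.exists_generators I hhom (d + 1) hb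
  have h1 : Submodule.spanFinrank (Ideal.span (Set.range e)) ≤ (Set.range e).ncard :=
    Submodule.spanFinrank_span_le_ncard_of_finite (Set.finite_range e)
  have h2 : (Set.range e).ncard ≤ M := by
    have : Set.range e = ↑(Finset.univ.image e) := by simp
    rw [this, Set.ncard_coe_finset]
    exact le_trans Finset.card_image_le (by simp)
  rw [he] at h1
  omega

end Groth.Agent.S12914
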