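import Groth.Statements.S12915
import Mathlib
-- import your own Groth.Agent.* helpers here

set_option autoImplicit false
universe u
open CAlgX

namespace Groth.Agent.S12915

section
open MvPolynomial Module

theorem finrank_homog (k : Type u) [Field k] (r n : ℕ) :
    finrank k (homogeneousSubmodule (Fin (r + 1)) k n) = (n + r).choose r := by
  classical
  rw [homogeneousSubmodule_eq_finsupp_supported]
  rw [(AddMonoidAlgebra.supportedEquivFinsupp (R := k) (S := k)
    {d : Fin (r + 1) →₀ ℕ | d.degree = n}).finrank_eq]
  haveI : Fintype ↥{d : Fin (r + 1) →₀ ℕ | d.degree = n} :=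
    Fintype.ofFinset (Finset.univ.finsuppAntidiag n) (by
      intro d
      simp [Finset.mem_finsuppAntidiag, Finsupp.degree_eq_sum])
  rw [Module.finrank_finsupp_self, Fintype.card_of_subtype (Finset.univ.finsuppAntidiag n) (by
      intro d
      simp [Finset.mem_finsuppAntidiag, Finsupp.degree_eq_sum]),
    Finset.card_finsuppAntidiag_nat_eq_choose]
  simp only [Finset.card_univ, Fintype.card_fin]
  rw [show r + 1 + n - 1 = n + r by omega, Nat.choose_symm_add]

theorem key (k : Type u) [Field k] {σ : Type*} (m n : ℕ)
    (f : MvPolynomial σ k) (hf : f.IsHomogeneous m) (h : MvPolynomial σ k)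
    (hx : (f * h).IsHomogeneous (m + n)) :
    f * h = f * homogeneousComponent n h := by
  classical
  have hfc : (f * homogeneousComponent n h).IsHomogeneous (m + n) :=
    hf.mul (homogeneousComponent_isHomogeneous n h)
  ext d
  by_cases hd : d.degree = m + n
  · rw [coeff_mul, coeff_mul]
    refine Finset.sum_congr rfl fun ab hab => ?_
    by_cases ha : coeff ab.1 f = 0
    · rw [ha, zero_mul, zero_mul]
    · have ha' : ab.1.degree = m := by
        by_contra hne
        exact ha (hf.coeff_eq_zero hne)
      have hb : ab.2.degree = n := by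
        have := Finset.HasAntidiagonal.mem_antidiagonal.mp hab
        have h2 : (ab.1 + ab.2).degree = d.degree := by rw [this]
        rw [map_add, ha', hd] at h2
        omega
      rw [coeff_homogeneousComponent, if_pos hb]
  · rw [hx.coeff_eq_zero hd, hfc.coeff_eq_zero hd]

theorem main (k : Type u) [Field k] (r m : ℕ)
    (f : MvPolynomial (Fin (r + 1)) k) (hf : f.IsHomogeneous m) (hf0 : f ≠ 0) (t : ℕ) (ht : m ≤ t) :
    Module.finrank k
        (Submodule.map ((Ideal.Quotient.mkₐ k (Ideal.span {f})).toLinearMap)
          (MvPolynomial.homogeneousSubmodule (Fin (r + 1)) k t)) =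
      Nat.choose (t + r) r - Nat.choose (t + r - m) r := by
  obtain ⟨n, rfl⟩ := Nat.exists_eq_add_of_le ht
  set L := (Ideal.Quotient.mkₐ k (Ideal.span {f})).toLinearMap with hL
  set Ht := homogeneousSubmodule (Fin (r + 1)) k (m + n) with hHt
  set Hn := homogeneousSubmodule (Fin (r + 1)) k n with hHn
  haveI : Module.Finite k Ht := Module.Finite.iff_fg.mpr (homogeneousSubmodule_fg _ _ _)
  have hrn := LinearMap.finrank_range_add_finrank_ker (L.domRestrict Ht)
  rw [LinearMap.range_domRestrict] at hrn
  let μ : Hn →ₗ[k] Ht :=
    ((LinearMap.mulLeft k f).comp Hn.subtype).codRestrict Ht (fun g => hf.mul g.2)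
  have hμinj : Function.Injective μ := by
    intro g g' hgg
    have := congrArg (fun z : Ht => (z : MvPolynomial (Fin (r + 1)) k)) hgg
    exact Subtype.ext (mul_left_cancel₀ hf0 this)
  have hrange : LinearMap.range μ = LinearMap.ker (L.domRestrict Ht) := by
    ext x
    rw [LinearMap.mem_range, LinearMap.mem_ker]
    constructor
    · rintro ⟨g, rfl⟩
      show Ideal.Quotient.mk (Ideal.span {f}) (f * g.1) = 0
      rw [Ideal.Quotient.eq_zero_iff_mem]
      exact Ideal.mul_mem_right _ _ (Ideal.subset_span rfl)
    · intro hx
      have hx' : (x : MvPolynomial (Fin (r + 1)) k) ∈ Ideal.span {f} :=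
        Ideal.Quotient.eq_zero_iff_mem.mp hx
      obtain ⟨h, hh⟩ := Ideal.mem_span_singleton.mp hx'
      have hxh : (f * h).IsHomogeneous (m + n) := hh ▸ x.2
      refine ⟨⟨homogeneousComponent n h, homogeneousComponent_isHomogeneous n h⟩, ?_⟩
      apply Subtype.ext
      show f * homogeneousComponent n h = x
      rw [hh]
      exact (key k m n f hf h hxh).symm
  have h1 : finrank k (LinearMap.ker (L.domRestrict Ht)) = finrank k Hn := by
    rw [← hrange]
    exact LinearMap.finrank_range_of_inj hμinj
  rw [h1, finrank_homog, finrank_homog] at hrn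
  have : m + n + r - m = n + r := by omega
  rw [this]
  omega

end

/-- Let k be a field, S = k[x_0, …, x_r], and f a nonzero homogeneous polynomial of degree m. For every
t ≥ m the image in S/(f) of the homogeneous polynomials of degree t is a k-vector space of dimension
C(t + r, r) - C(t + r - m, r). (The published clause states that the hypersurface f = 0 in P^r has
degree m; its proof computes exactly this Hilbert function, whose polynomial has leading term m
t^(r-1)/(r-1)!, and that computation is what is stated here.) -/
theorem result (k : Type u) [Field k] (r m : ℕ)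
    (f : MvPolynomial (Fin (r + 1)) k) (hf : f.IsHomogeneous m) (hf0 : f ≠ 0) (t : ℕ) (ht : m ≤ t) :
    Module.finrank k
        (Submodule.map ((Ideal.Quotient.mkₐ k (Ideal.span {f})).toLinearMap)
          (MvPolynomial.homogeneousSubmodule (Fin (r + 1)) k t)) =
      Nat.choose (t + r) r - Nat.choose (t + r - m) r := by
  exact Groth.Agent.S12915.main k r m f hf hf0 t ht

end Groth.Agent.S12915
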