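import Mathlib
import Groth.Statements.S12916
-- import your own Groth.Agent.* helpers here

set_option autoImplicit false
universe u
open CAlgX

namespace Groth.Agent.S12916

open MvPolynomial in
/-- a prime of a polynomial ring over a field containing all variables is maximal. -/
theorem isMaximal_of_X_mem {k : Type*} [Field k] {σ : Type*} (P : Ideal (MvPolynomial σ k))
    [hP : P.IsPrime] (h : ∀ i, (X i : MvPolynomial σ k) ∈ P) : P.IsMaximal := by
  have hmax : (RingHom.ker (constantCoeff : MvPolynomial σ k →+* k)).IsMaximal :=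
    RingHom.ker_isMaximal_of_surjective _ (fun c => ⟨C c, by simp⟩)
  have hle : RingHom.ker (constantCoeff : MvPolynomial σ k →+* k) ≤ P := by
    intro p hp
    rw [RingHom.mem_ker] at hp
    have hmem : p ∈ Ideal.span (X '' (Set.univ : Set σ) : Set (MvPolynomial σ k)) := by
      rw [mem_ideal_span_X_image]
      intro m hm
      have hm0 : m ≠ 0 := by
        rintro rfl
        rw [mem_support_iff] at hm
        exact hm hp
      obtain ⟨i, hi⟩ := Finsupp.ne_iff.1 hm0
      exact ⟨i, Set.mem_univ _, by simpa using hi⟩
    refine (Ideal.span_le.2 ?_) hmem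
    rintro _ ⟨i, _, rfl⟩
    exact h i
  rw [← hmax.eq_of_le hP.ne_top hle]
  exact hmax


/-- Let k be an infinite field, S = k[x_0, …, x_r], M a finitely generated S-module and d a natural
number. Then some nonzero homogeneous polynomial f of degree d is quasi-regular on M: the submodule
(0 :_M f) of elements of M annihilated by f has finite length. (The published statement assumes M
graded; this row assumes only that M is finitely generated.) -/
theorem result (k : Type u) [Field k] [Infinite k] (r d : ℕ)
    (M : Type u) [AddCommGroup M] [Module (MvPolynomial (Fin (r + 1)) k) M] [Module.Finite (MvPolynomial (Fin (r + 1)) k) M] :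
    ∃ f : MvPolynomial (Fin (r + 1)) k, f.IsHomogeneous d ∧ f ≠ 0 ∧
      IsFiniteLength (MvPolynomial (Fin (r + 1)) k) ↥(Submodule.torsionBy (MvPolynomial (Fin (r + 1)) k) M f) := by
  classical
  set S := MvPolynomial (Fin (r + 1)) k with hS
  let E := MvPolynomial.homogeneousSubmodule (Fin (r + 1)) k d
  -- the bad primes
  have hfin : (associatedPrimes S M).Finite := associatedPrimes.finite S M
  let Pbad : Finset (Ideal S) := hfin.toFinset.filter fun P => ¬ P.IsMaximal
  let W : Ideal S → Subspace k E := fun P => (P.restrictScalars k).comap E.subtype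
  let s : Finset (Subspace k E) := insert ⊥ (Pbad.image W)
  have hXd : ∀ i : Fin (r + 1), (MvPolynomial.X i ^ d : S) ∈ E := by
    intro i
    rw [MvPolynomial.mem_homogeneousSubmodule]
    exact MvPolynomial.isHomogeneous_X_pow i d
  have hs : ⊤ ∉ s := by
    intro h
    rcases Finset.mem_insert.1 h with h | h
    · -- ⊤ = ⊥
      have : (⟨MvPolynomial.X 0 ^ d, hXd 0⟩ : E) ∈ (⊥ : Subspace k E) := h ▸ Submodule.mem_top
      rw [Submodule.mem_bot] at this
      have h2 : (MvPolynomial.X 0 ^ d : S) = 0 := congrArg Subtype.val this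
      exact pow_ne_zero d (MvPolynomial.X_ne_zero 0) h2
    · obtain ⟨P, hP, hPW⟩ := Finset.mem_image.1 h
      rw [Finset.mem_filter, Set.Finite.mem_toFinset] at hP
      have : P.IsPrime := hP.1.isPrime
      apply hP.2
      apply isMaximal_of_X_mem
      intro i
      have : (⟨MvPolynomial.X i ^ d, hXd i⟩ : E) ∈ W P := hPW ▸ Submodule.mem_top
      have h2 : (MvPolynomial.X i ^ d : S) ∈ P := this
      exact Ideal.IsPrime.mem_of_pow_mem inferInstance d h2
  have hne := Subspace.biUnion_ne_univ_of_top_notMem hs
  obtain ⟨f, hf⟩ : ∃ f : E, f ∉ ⋃ p ∈ s, (p : Set E) := by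
    by_contra hcon
    push Not at hcon
    exact hne (Set.eq_univ_of_forall hcon)
  simp only [Set.mem_iUnion, not_exists] at hf
  have hf0 : (f : S) ≠ 0 := by
    intro h0
    apply hf ⊥ (Finset.mem_insert_self _ _)
    change f ∈ (⊥ : Subspace k E)
    rw [Submodule.mem_bot]
    exact Subtype.ext h0
  have hfP : ∀ P ∈ associatedPrimes S M, (f : S) ∈ P → P.IsMaximal := by
    intro P hP hfP
    by_contra hmax
    apply hf (W P) (Finset.mem_insert_of_mem (Finset.mem_image_of_mem W
      (Finset.mem_filter.2 ⟨hfin.mem_toFinset.2 hP, hmax⟩)))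
    exact hfP
  refine ⟨f, (MvPolynomial.mem_homogeneousSubmodule _ _).1 f.2, hf0, ?_⟩
  -- finite length
  set N := Submodule.torsionBy S M (f : S) with hN
  have : IsNoetherian S M := isNoetherian_of_isNoetherianRing_of_finite S M
  have : IsNoetherian S N := inferInstance
  have : Module.Finite S N := inferInstance
  refine isFiniteLength_iff_isNoetherian_isArtinian.2 ⟨inferInstance, ?_⟩
  set A := Module.annihilator S N with hA
  let : Module (S ⧸ A) N := Module.quotientAnnihilator
  have : IsScalarTower S (S ⧸ A) N := (Module.isTorsionBySet_annihilator S N).isScalarTower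
  have : IsArtinianRing (S ⧸ A) := by
    rw [isArtinianRing_iff_krullDimLE_zero, Ring.krullDimLE_zero_iff]
    intro I hI
    set Q := I.comap (Ideal.Quotient.mk A) with hQ
    have : Q.IsPrime := Ideal.comap_isPrime _ _
    have hAQ : A ≤ Q := by
      intro a ha
      rw [hQ, Ideal.mem_comap, Ideal.Quotient.eq_zero_iff_mem.2 ha]
      exact I.zero_mem
    obtain ⟨P', hP', hP'Q⟩ := Ideal.exists_minimalPrimes_le hAQ
    have hP'N : P' ∈ associatedPrimes S N :=
      Module.associatedPrimes.minimalPrimes_annihilator_subset_associatedPrimes S N hP'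
    have hP'M : P' ∈ associatedPrimes S M :=
      associatedPrimes.subset_of_injective (f := N.subtype) N.injective_subtype hP'N
    have hfP' : (f : S) ∈ P' := by
      obtain ⟨_, x, hx⟩ := isAssociatedPrime_iff.1 hP'N
      rw [hx, Submodule.mem_colon_singleton, Submodule.mem_bot]
      exact Submodule.smul_torsionBy _ x
    have hP'max : P'.IsMaximal := hfP P' hP'M hfP'
    have hQmax : Q.IsMaximal := by
      rw [← hP'max.eq_of_le (Ideal.IsPrime.ne_top inferInstance) hP'Q]
      exact hP'max
    have := Ideal.map_eq_top_or_isMaximal_of_surjective (Ideal.Quotient.mk A)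
      Ideal.Quotient.mk_surjective hQmax
    rw [hQ, Ideal.map_comap_of_surjective _ Ideal.Quotient.mk_surjective] at this
    exact this.resolve_left hI.ne_top
  have : Module.Finite (S ⧸ A) N := Module.Finite.of_restrictScalars_finite S (S ⧸ A) N
  have : IsArtinian (S ⧸ A) N := inferInstance
  exact isArtinian_of_surjective_algebraMap (S := S) (R := S ⧸ A) (M := N)
    Ideal.Quotient.mk_surjective

end Groth.Agent.S12916
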