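import Mathlib
import Groth.Statements.S12918
import Groth.Agent.Lib.Helper19.HopfLib
-- import your own Groth.Agent.* helpers here

set_option autoImplicit false
universe u v w
open HopfRep

namespace Groth.Agent.S12918

open TensorProduct HopfAlgebra Coalgebra Groth.Agent.Helper19 Groth.Agent.Helper19.HopfLib

section aux

variable (k : Type u) [CommRing k] (A : Type v) [CommRing A] [HopfAlgebra k A]
  (B : Type w) [CommRing B] [Algebra k B] [HopfRep.Comod k A B] [GLin.IsCoactAlg k A B]

/-- `Λ ((x ⊗ c) ⊗ a) = x * α (S c * a)`. -/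
noncomputable def Lam (α : A →ₗ[k] B) : (B ⊗[k] A) ⊗[k] A →ₗ[k] B :=
  LinearMap.mul' k B ∘ₗ
    LinearMap.lTensor B (α ∘ₗ LinearMap.mul' k A ∘ₗ (antipode k).rTensor A) ∘ₗ
    (TensorProduct.assoc k B A A).toLinearMap

theorem Lam_tmul (α : A →ₗ[k] B) (x : B) (c a : A) :
    Lam k A B α ((x ⊗ₜ[k] c) ⊗ₜ[k] a) = x * α (antipode k c * a) := by
  simp [Lam]

/-- `lam (b ⊗ a) = Σ b₀ * α (S b₁ * a)`. -/
noncomputable def lam (α : A →ₗ[k] B) : B ⊗[k] A →ₗ[k] B :=
  Lam k A B α ∘ₗ (Comod.coact (k := k) (A := A) (V := B)).rTensor A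

theorem lam_retraction (α : A →ₗ[k] B) (hα1 : α 1 = 1) (b : B) :
    lam k A B α (Comod.coact (k := k) (A := A) b) = b := by
  unfold lam
  rw [LinearMap.comp_apply, HopfLib.coassoc_apply]
  have key : ∀ t : B ⊗[k] A, Lam k A B α ((TensorProduct.assoc k B A A).symm
      ((Coalgebra.comul (R := k) (A := A)).lTensor B t)) =
      TensorProduct.rid k B ((Coalgebra.counit (R := k) (A := A)).lTensor B t) := by
    intro t
    induction t using TensorProduct.induction_on with
    | zero => simp
    | tmul y a =>
      rw [LinearMap.lTensor_tmul, LinearMap.lTensor_tmul, TensorProduct.rid_tmul]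
      have h2 : ∀ s : A ⊗[k] A, Lam k A B α ((TensorProduct.assoc k B A A).symm (y ⊗ₜ[k] s)) =
          y * α (LinearMap.mul' k A ((antipode k).rTensor A s)) := by
        intro s
        induction s using TensorProduct.induction_on with
        | zero => simp
        | tmul a₁ a₂ =>
          rw [TensorProduct.assoc_symm_tmul, Lam_tmul, LinearMap.rTensor_tmul,
            LinearMap.mul'_apply]
        | add x y hx hy => simp only [TensorProduct.tmul_add, map_add, hx, hy, mul_add]
      rw [h2, HopfAlgebra.mul_antipode_rTensor_comul_apply, Algebra.algebraMap_eq_smul_one,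
        map_smul, hα1, mul_smul_comm, mul_one]
    | add x y hx hy => simp only [map_add, hx, hy]
  rw [key, rid_counit_apply]

local instance : TameAct.IsHopfMod k A B B := isHopfMod_self k A B

theorem L_eq_Lam (α : A →ₗ[k] B) (l : A) (t : B ⊗[k] A) :
    L k A B B (α ∘ₗ LinearMap.mulRight k l) t = Lam k A B α (t ⊗ₜ[k] l) := by
  induction t using TensorProduct.induction_on with
  | zero => simp
  | tmul x c =>
    rw [L_tmul, Lam_tmul, LinearMap.comp_apply, LinearMap.mulRight_apply, smul_eq_mul, mul_comm]
  | add x y hx hy => simp only [map_add, hx, hy, TensorProduct.add_tmul]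

theorem coact_Lam (α : A →ₗ[k] B) (hα : Hoch.IsComodHom A α) (a : A)
    {ι : Type*} (I : Finset ι) (l r : ι → A)
    (hlr : ∑ i ∈ I, l i ⊗ₜ[k] r i = Coalgebra.comul (R := k) a) (t : B ⊗[k] A) :
    Comod.coact (k := k) (A := A) (Lam k A B α (t ⊗ₜ[k] a)) =
      ∑ i ∈ I, TensorProduct.lift (Gam k A B B (α ∘ₗ LinearMap.mulRight k (l i)))
        (TensorProduct.map (Comod.coact (k := k) (A := A) (V := B))
          (Coalgebra.comul (R := k) (A := A)) t) * ((1 : B) ⊗ₜ[k] r i) := by
  induction t using TensorProduct.induction_on with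
  | zero => simp
  | tmul x c =>
    rw [Lam_tmul, GLin.IsCoactAlg.coact_mul]
    have h1 := LinearMap.congr_fun hα (antipode k c * a)
    simp only [LinearMap.comp_apply] at h1
    rw [h1]
    change _ * (α.rTensor A) (Coalgebra.comul (R := k) (antipode k c * a)) = _
    rw [Bialgebra.comul_mul, comul_antipode, ← hlr]
    simp only [TensorProduct.map_tmul, TensorProduct.lift.tmul]
    generalize Coalgebra.comul (R := k) c = s
    generalize Comod.coact (k := k) (A := A) x = y
    induction s using TensorProduct.induction_on with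
    | zero => simp
    | tmul c₁ c₂ =>
      rw [TensorProduct.comm_tmul, TensorProduct.map_tmul, Finset.mul_sum, map_sum, Finset.mul_sum]
      refine Finset.sum_congr rfl fun i _ => ?_
      rw [Gam_tmul, hmSMul_self, Algebra.TensorProduct.tmul_mul_tmul, LinearMap.rTensor_tmul,
        LinearMap.comp_apply, LinearMap.mulRight_apply, mul_comm y, mul_assoc,
        mul_comm y, ← mul_assoc, Algebra.TensorProduct.tmul_mul_tmul, mul_one]
    | add s₁ s₂ h₁ h₂ =>
      simp only [map_add, add_mul, mul_add, h₁, h₂, Finset.sum_add_distrib, LinearMap.add_apply]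
  | add x y hx hy => simp only [map_add, hx, hy, TensorProduct.add_tmul, add_mul, Finset.sum_add_distrib]

theorem lam_comod (α : A →ₗ[k] B) (hα : Hoch.IsComodHom A α) (b : B) (a : A) :
    Comod.coact (k := k) (A := A) (lam k A B α (b ⊗ₜ[k] a)) =
      (lam k A B α).rTensor A
        ((TensorProduct.assoc k B A A).symm (b ⊗ₜ[k] Coalgebra.comul (R := k) a)) := by
  have R := ℛ k a
  have e1 : lam k A B α (b ⊗ₜ[k] a) = Lam k A B α (Comod.coact (k := k) (A := A) b ⊗ₜ[k] a) := by
    simp [lam]
  rw [e1, coact_Lam k A B α hα a R.index R.left R.right R.eq, ← R.eq]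
  simp only [TensorProduct.tmul_sum, map_sum]
  refine Finset.sum_congr rfl fun i _ => ?_
  rw [lift_Gam_coact, TensorProduct.assoc_symm_tmul, LinearMap.rTensor_tmul,
    Algebra.TensorProduct.tmul_mul_tmul, mul_one, one_mul, L_eq_Lam]
  simp [lam]

end aux


/-- Let `k` be a commutative ring, `A` a commutative Hopf algebra over `k`, flat as a `k`-module and `B`
a commutative `k`-algebra with a coaction `ρ : B → B ⊗ A` that is an algebra map (an action of the
affine group scheme `Spec A` on `Spec B`). Then the action admits a total integral — a comodule map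
`α : A → B`, for the regular coaction on `A`, with `α 1 = 1` — if and only if `ρ` has a left inverse
`B ⊗ A → B` which is a comodule map for the coaction `id ⊗ Δ` on `B ⊗ A`. -/
theorem result
    (k : Type u) [CommRing k] (A : Type v) [CommRing A] [HopfAlgebra k A] [Module.Flat k A]
    (B : Type w) [CommRing B] [Algebra k B] [HopfRep.Comod k A B] [GLin.IsCoactAlg k A B] :
    (∃ α : A →ₗ[k] B, Hoch.IsComodHom A α ∧ α 1 = 1) ↔
      ∃ lam : Hoch.Ind k A B →ₗ[k] B, Hoch.IsComodHom A lam ∧ lam ∘ₗ Hoch.toInd k A B = LinearMap.id := by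
  constructor
  · rintro ⟨α, hα, hα1⟩
    refine ⟨lam k A B α, ?_, ?_⟩
    · change Comod.coact (k := k) (A := A) (V := B) ∘ₗ (lam k A B α) =
        (lam k A B α).rTensor A ∘ₗ Hoch.Ind.coactAux k A B
      refine TensorProduct.ext' fun b a => ?_
      simp only [LinearMap.comp_apply, Hoch.Ind.coactAux_tmul]
      exact lam_comod k A B α hα b a
    · refine LinearMap.ext fun b => ?_
      exact lam_retraction k A B α hα1 b
  · rintro ⟨lam0, hlam, hret⟩
    let lam' : B ⊗[k] A →ₗ[k] B := lam0
    have hlam' : Comod.coact (k := k) (A := A) (V := B) ∘ₗ lam' =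
        lam'.rTensor A ∘ₗ Hoch.Ind.coactAux k A B := hlam
    have hret' : ∀ b : B, lam' (Comod.coact (k := k) (A := A) b) = b :=
      fun b => LinearMap.congr_fun hret b
    refine ⟨lam' ∘ₗ TensorProduct.mk k B A 1, ?_, ?_⟩
    · change Comod.coact (k := k) (A := A) (V := B) ∘ₗ (lam' ∘ₗ TensorProduct.mk k B A 1) =
        (lam' ∘ₗ TensorProduct.mk k B A 1).rTensor A ∘ₗ Coalgebra.comul (R := k) (A := A)
      refine LinearMap.ext fun a => ?_
      have h1 := LinearMap.congr_fun hlam' ((1 : B) ⊗ₜ[k] a)
      simp only [LinearMap.comp_apply, Hoch.Ind.coactAux_tmul] at h1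
      simp only [LinearMap.comp_apply, TensorProduct.mk_apply]
      rw [h1]
      generalize Coalgebra.comul (R := k) a = s
      induction s using TensorProduct.induction_on with
      | zero => simp
      | tmul a₁ a₂ => simp
      | add x y hx hy => simp only [map_add, hx, hy, TensorProduct.tmul_add]
    · have h1 := hret' 1
      rw [GLin.IsCoactAlg.coact_one (k := k) (A := A) (R := B), Algebra.TensorProduct.one_def] at h1
      simpa using h1

end Groth.Agent.S12918
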