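import Groth.Statements.S1292
import Groth.Agent.S1235
import Groth.Agent.Lib.Helper11.TorAscent

set_option autoImplicit false
universe u
open CategoryTheory
attribute [local instance] HasDerivedCategory.standard
open FlatMor

namespace Groth.Agent.S1292

open IsLocalRing in
/-- Let A be a ring, p a prime ideal of A, Ah a henselization and Ash a strict henselization of the
local ring A_p, with Ash an Ah-algebra compatibly with the structure maps from A_p, and a, b
integers. Tor amplitude is meant in the flat-representative form: an object of the derived category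
of a ring has tor amplitude in [a, b] when it is isomorphic to a complex of flat modules vanishing
outside degrees [a, b]. For K in D(Ash) the following are equivalent: K with scalars restricted to
A_p has tor amplitude in [a, b]; K with scalars restricted to Ah has tor amplitude in [a, b]; K has
tor amplitude in [a, b] over Ash. Moreover, for L in D(Ah): L with scalars restricted to A_p has tor
amplitude in [a, b] if and only if L has tor amplitude in [a, b] over Ah. (The published statement
is for a general scheme S; this is the case S = Spec A.) -/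
theorem result {A : Type u} [CommRing A] (p : Ideal A) [p.IsPrime]
    (Ah Ash : Type u) [CommRing Ah] [IsLocalRing Ah] [CommRing Ash] [IsLocalRing Ash]
    [Algebra (Localization.AtPrime p) Ah] [IsLocalHom (algebraMap (Localization.AtPrime p) Ah)] [Hensel.IsHenselization (Localization.AtPrime p) Ah]
    [Algebra (Localization.AtPrime p) Ash] [IsLocalHom (algebraMap (Localization.AtPrime p) Ash)] [Hensel.IsStrictHenselization (Localization.AtPrime p) Ash]
    [Algebra Ah Ash] [IsScalarTower (Localization.AtPrime p) Ah Ash]
    (a b : ℤ) (K : Dual.D Ash) (L : Dual.D Ah) :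
    [DRing.HasTorAmplitudeIn (Localization.AtPrime p) a b ((DRing.restrictD (algebraMap (Localization.AtPrime p) Ash)).obj K),
     DRing.HasTorAmplitudeIn Ah a b ((DRing.restrictD (algebraMap Ah Ash)).obj K),
     DRing.HasTorAmplitudeIn Ash a b K].TFAE ∧
    (DRing.HasTorAmplitudeIn (Localization.AtPrime p) a b ((DRing.restrictD (algebraMap (Localization.AtPrime p) Ah)).obj L) ↔
      DRing.HasTorAmplitudeIn Ah a b L) := by
  -- the three flat-ascent statements, from S1235
  have asc13 : ∀ (M : Type u) [AddCommGroup M] [Module Ash M] [Module (Localization.AtPrime p) M]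
      [IsScalarTower (Localization.AtPrime p) Ash M],
      Module.Flat (Localization.AtPrime p) M → Module.Flat Ash M := by
    intro M _ _ _ _ hM
    letI : Module Ah M := Module.compHom M (algebraMap Ah Ash)
    haveI : IsScalarTower Ah Ash M := ⟨fun r a m => by
      rw [Algebra.smul_def, mul_smul]; rfl⟩
    haveI : IsScalarTower (Localization.AtPrime p) Ah M := ⟨fun r h m => by
      change algebraMap Ah Ash (r • h) • m = r • (algebraMap Ah Ash h • m)
      rw [Algebra.smul_def, map_mul, ← IsScalarTower.algebraMap_apply, mul_smul,
        algebraMap_smul]⟩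
    exact ((Groth.Agent.S1235.result p Ah Ash M Ah).1.out 0 2).mp hM
  have asc23 : ∀ (M : Type u) [AddCommGroup M] [Module Ash M] [Module Ah M]
      [IsScalarTower Ah Ash M], Module.Flat Ah M → Module.Flat Ash M := by
    intro M _ _ _ _ hM
    letI : Module (Localization.AtPrime p) M :=
      Module.compHom M (algebraMap (Localization.AtPrime p) Ash)
    haveI : IsScalarTower (Localization.AtPrime p) Ash M := ⟨fun r a m => by
      rw [Algebra.smul_def, mul_smul]; rfl⟩
    haveI : IsScalarTower (Localization.AtPrime p) Ah M := ⟨fun r h m => by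
      change (r • h) • m = algebraMap (Localization.AtPrime p) Ash r • (h • m)
      rw [← algebraMap_smul Ash (r • h) m, ← algebraMap_smul Ash h m, Algebra.smul_def, map_mul,
        ← IsScalarTower.algebraMap_apply, mul_smul]⟩
    exact ((Groth.Agent.S1235.result p Ah Ash M Ah).1.out 1 2).mp hM
  have asc12 : ∀ (M : Type u) [AddCommGroup M] [Module Ah M] [Module (Localization.AtPrime p) M]
      [IsScalarTower (Localization.AtPrime p) Ah M],
      Module.Flat (Localization.AtPrime p) M → Module.Flat Ah M := by
    intro M _ _ _ _ hM
    exact (Groth.Agent.S1235.result p Ah Ash Ash M).2.mp hM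
  haveI hf13 : Module.Flat (Localization.AtPrime p) Ash :=
    ((Groth.Agent.S1235.result p Ah Ash Ash Ah).1.out 2 0).mp (inferInstance : Module.Flat Ash Ash)
  haveI hf23 : Module.Flat Ah Ash :=
    ((Groth.Agent.S1235.result p Ah Ash Ash Ah).1.out 2 1).mp (inferInstance : Module.Flat Ash Ash)
  haveI hf12 : Module.Flat (Localization.AtPrime p) Ah :=
    (Groth.Agent.S1235.result p Ah Ash Ash Ah).2.mpr (inferInstance : Module.Flat Ah Ah)
  have h13 : DRing.HasTorAmplitudeIn (Localization.AtPrime p) a b
        ((DRing.restrictD (algebraMap (Localization.AtPrime p) Ash)).obj K) ↔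
      DRing.HasTorAmplitudeIn Ash a b K :=
    ⟨Groth.Agent.Helper11.TA.hasTorAmplitudeIn_of_restrict asc13 K a b,
      Groth.Agent.Helper11.TA.hasTorAmplitudeIn_restrict_of_flat K a b⟩
  have h23 : DRing.HasTorAmplitudeIn Ah a b ((DRing.restrictD (algebraMap Ah Ash)).obj K) ↔
      DRing.HasTorAmplitudeIn Ash a b K :=
    ⟨Groth.Agent.Helper11.TA.hasTorAmplitudeIn_of_restrict asc23 K a b,
      Groth.Agent.Helper11.TA.hasTorAmplitudeIn_restrict_of_flat K a b⟩
  refine ⟨?_, ⟨Groth.Agent.Helper11.TA.hasTorAmplitudeIn_of_restrict asc12 L a b,
      Groth.Agent.Helper11.TA.hasTorAmplitudeIn_restrict_of_flat L a b⟩⟩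
  tfae_have 1 ↔ 3 := h13
  tfae_have 2 ↔ 3 := h23
  tfae_finish

end Groth.Agent.S1292
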