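import Mathlib
import Groth.Statements.S12923
import Groth.Agent.Lib.Helper19.HopfLib
-- import your own Groth.Agent.* helpers here

set_option autoImplicit false
universe u v w
open HopfRep

namespace Groth.Agent.S12923

open Groth.Agent.Helper19.HopfLib in

/-- Let `k` be a commutative ring, `A` a commutative Hopf algebra over `k`, flat as a `k`-module, `B` a
commutative `k`-algebra with a coaction of `A` that is an algebra map and admits a total integral (a
comodule map `α : A → B` with `α 1 = 1`), `C = B^A`, and `b` an ideal of `B` which is a subcomodule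
(a closed subscheme of `Spec B` stable under the action). Then the image of `V(b)` under `Spec B →
Spec C` is the closed set `V(b ∩ C)`. (The published statement assumes only that taking invariants
is exact on `(B, A)`-modules; a total integral, assumed here, gives that exactness.) -/
theorem result
    (k : Type u) [CommRing k] (A : Type v) [CommRing A] [HopfAlgebra k A] [Module.Flat k A]
    (B : Type w) [CommRing B] [Algebra k B] [HopfRep.Comod k A B] [GLin.IsCoactAlg k A B]
    (htame : ∃ α : A →ₗ[k] B, Hoch.IsComodHom A α ∧ α 1 = 1)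
    (b : Ideal B) (hb : HopfRep.IsSubcomod (k := k) (A := A) (b.restrictScalars k)) :
    PrimeSpectrum.comap (algebraMap (GLin.invariants k A B) B) '' PrimeSpectrum.zeroLocus (b : Set B) =
      PrimeSpectrum.zeroLocus ((b.comap (algebraMap (GLin.invariants k A B) B) : Ideal (GLin.invariants k A B)) : Set (GLin.invariants k A B)) := by
  obtain ⟨α, hα, hα1⟩ := htame
  have hHM := isHopfMod_self k A B
  obtain ⟨E, hEmem, hEfix, hEmul, hEb⟩ : ∃ E : B →ₗ[k] B, (∀ x, E x ∈ GLin.invariants k A B) ∧
      (∀ x : GLin.invariants k A B, E (x : B) = x) ∧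
      (∀ (c' : GLin.invariants k A B) (x : B), E ((c' : B) * x) = (c' : B) * E x) ∧
      (∀ x ∈ b, E x ∈ b) := by
    refine ⟨TameAct.reynolds k A B B α, fun b => reynolds_mem_fixedPts k A B B hα b,
      fun x => reynolds_of_mem_fixedPts k A B B α hα1 _ x.2,
      fun c' b => reynolds_mul_invariant k A B α _ c'.2 b, ?_⟩
    intro x hx
    obtain ⟨t, ht⟩ := hb x hx
    rw [reynolds_eq, ← ht]
    clear ht
    induction t using TensorProduct.induction_on with
    | zero => simp
    | tmul w a =>
      rw [LinearMap.rTensor_tmul, L_tmul]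
      exact b.mul_mem_left _ w.2
    | add t₁ t₂ h₁ h₂ =>
      rw [map_add, map_add]
      exact b.add_mem h₁ h₂
  set C := GLin.invariants k A B with hC
  apply Set.Subset.antisymm
  · rintro _ ⟨p, hp, rfl⟩
    rw [PrimeSpectrum.mem_zeroLocus] at hp ⊢
    intro x hx
    exact hp hx
  · intro q hq
    rw [PrimeSpectrum.mem_zeroLocus] at hq
    let f : C →+* B ⧸ b := (Ideal.Quotient.mk b).comp (algebraMap C B)
    have key : ∀ y ∈ q.asIdeal.map (algebraMap C B), ∀ x : B,
        ∃ z ∈ q.asIdeal, (z : B) = E (x * y) := by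
      intro y hy
      refine Submodule.span_induction ?_ ?_ ?_ ?_ hy
      · rintro _ ⟨c', hc', rfl⟩ x
        refine ⟨c' * ⟨E x, hEmem x⟩, q.asIdeal.mul_mem_right _ hc', ?_⟩
        rw [mul_comm x]
        exact (hEmul c' x).symm
      · intro x
        exact ⟨0, q.asIdeal.zero_mem, by rw [mul_zero, map_zero]; rfl⟩
      · intro y₁ y₂ _ _ h₁ h₂ x
        obtain ⟨z₁, hz₁, e₁⟩ := h₁ x
        obtain ⟨z₂, hz₂, e₂⟩ := h₂ x
        refine ⟨z₁ + z₂, q.asIdeal.add_mem hz₁ hz₂, ?_⟩
        rw [mul_add, map_add, ← e₁, ← e₂]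
        rfl
      · intro a y _ h x
        obtain ⟨z, hz, e⟩ := h (x * a)
        refine ⟨z, hz, ?_⟩
        rw [e, smul_eq_mul, mul_assoc]
    have hcm : (q.asIdeal.map f).comap f = q.asIdeal := by
      refine le_antisymm ?_ Ideal.le_comap_map
      intro c hc
      rw [Ideal.mem_comap] at hc
      have h1 : q.asIdeal.map f = (q.asIdeal.map (algebraMap C B)).map (Ideal.Quotient.mk b) :=
        (Ideal.map_map _ _).symm
      rw [h1] at hc
      have h2 : (algebraMap C B c) ∈ q.asIdeal.map (algebraMap C B) ⊔ b := by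
        rw [← Ideal.mem_quotient_iff_mem_sup]
        exact hc
      obtain ⟨y, hy, β, hβ, hsum⟩ := Submodule.mem_sup.1 h2
      obtain ⟨z, hz, e⟩ := key y hy 1
      rw [one_mul] at e
      have h3 : (c : B) = E y + E β := by
        rw [← map_add, hsum]
        exact (hEfix c).symm
      have h4 : (⟨E β, hEmem β⟩ : C) ∈ q.asIdeal := hq (show (⟨E β, hEmem β⟩ : C) ∈
        b.comap (algebraMap C B) from hEb β hβ)
      have h5 : c = z + ⟨E β, hEmem β⟩ := by
        apply Subtype.ext
        rw [h3, ← e]
        rfl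
      rw [h5]
      exact q.asIdeal.add_mem hz h4
    obtain ⟨P, hP, hPq⟩ := (Ideal.comap_map_eq_self_iff_of_isPrime q.asIdeal).1 hcm
    refine ⟨⟨P.comap (Ideal.Quotient.mk b), inferInstance⟩, ?_, ?_⟩
    · rw [PrimeSpectrum.mem_zeroLocus]
      intro x hx
      change Ideal.Quotient.mk b x ∈ P
      rw [Ideal.Quotient.eq_zero_iff_mem.2 hx]
      exact P.zero_mem
    · apply PrimeSpectrum.ext
      change (P.comap (Ideal.Quotient.mk b)).comap (algebraMap C B) = q.asIdeal
      rw [Ideal.comap_comap]
      exact hPq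

end Groth.Agent.S12923
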