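import Mathlib
import Groth.Statements.S12925
-- import your own Groth.Agent.* helpers here

set_option autoImplicit false
universe u w
open HopfRep

namespace Groth.Agent.S12925

open TensorProduct in

/-- Let `k` be a commutative ring, `M` a commutative group and `B` a commutative `k`-algebra with a
coaction of the group algebra `k[M]` that is an algebra map (an action of the diagonalizable group
scheme `D(M) = Spec k[M]` on `Spec B`). Then the action is tame: there is a comodule map `α : k[M] →
B`, for the regular coaction on `k[M]`, with `α 1 = 1`. -/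
theorem result
    (k : Type u) [CommRing k] (M : Type u) [CommGroup M]
    (B : Type w) [CommRing B] [Algebra k B] [HopfRep.Comod k (MonoidAlgebra k M) B]
    [GLin.IsCoactAlg k (MonoidAlgebra k M) B] :
    ∃ α : MonoidAlgebra k M →ₗ[k] B, Hoch.IsComodHom (MonoidAlgebra k M) α ∧ α 1 = 1 := by
  classical
  let c : MonoidAlgebra k M →ₗ[k] k :=
    Finsupp.lapply (1 : M) ∘ₗ (MonoidAlgebra.coeffLinearEquiv k).toLinearMap
  have hc : ∀ (x : M) (a : k), c (MonoidAlgebra.single x a) = if x = 1 then a else 0 := by
    intro x a
    simp only [c, LinearMap.comp_apply, LinearEquiv.coe_coe, Finsupp.lapply_apply]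
    change (MonoidAlgebra.single x a).coeff 1 = _
    rw [MonoidAlgebra.coeff_single, Finsupp.single_apply]
  refine ⟨Algebra.linearMap k B ∘ₗ c, ?_, ?_⟩
  · unfold Hoch.IsComodHom
    apply MonoidAlgebra.lhom_ext'
    intro x
    apply LinearMap.ext
    intro a
    simp only [LinearMap.comp_apply, MonoidAlgebra.lsingle_apply, Algebra.linearMap_apply]
    change _ = LinearMap.rTensor _ _ (Coalgebra.comul (R := k) (MonoidAlgebra.single x a))
    rw [MonoidAlgebra.comul_single, hc]
    have : Coalgebra.comul (R := k) (a : k) = a ⊗ₜ[k] (1 : k) := by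
      simp only [CommSemiring.comul_apply]
      rw [← mul_one a, ← smul_eq_mul, ← TensorProduct.smul_tmul, smul_eq_mul, mul_one]
    rw [this, TensorProduct.map_tmul, LinearMap.rTensor_tmul, LinearMap.comp_apply,
      MonoidAlgebra.lsingle_apply, MonoidAlgebra.lsingle_apply, hc, Algebra.linearMap_apply]
    split_ifs with hx
    · subst hx
      rw [Algebra.algebraMap_eq_smul_one, map_smul,
        GLin.IsCoactAlg.coact_one (k := k) (A := MonoidAlgebra k M) (R := B),
        Algebra.TensorProduct.one_def, TensorProduct.smul_tmul', MonoidAlgebra.one_def]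
    · simp
  · simp only [LinearMap.comp_apply, Algebra.linearMap_apply]
    rw [MonoidAlgebra.one_def, hc, if_pos rfl, map_one]

end Groth.Agent.S12925
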