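import Groth.Statements.S12928
import Groth.Agent.Lib.Helper6.HomComodProj
import Groth.Agent.Lib.Helper19.HopfLib

set_option autoImplicit false
universe u
open HopfRep TensorProduct

namespace Groth.Agent.S12928

/-- Let `k` be a commutative ring, `A` a commutative Hopf algebra over `k` which is finite locally free
(finite projective, in particular flat) as a `k`-module, `B` a commutative `k`-algebra with a
coaction of `A` that is an algebra map, and `C = B^A` the ring of invariants; assume `C` Noetherian
and `B` finite and flat over `C`. If taking invariants is exact on `(B, A)`-modules — for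
`B`-modules `M`, `N` with compatible `A`-coactions (in the universe of `k`, `A`, `B`) every
surjective `B`-linear comodule map `M → N` maps `M^A` onto `N^A` — then the action is tame: there is
a comodule map `α : A → B` with `α 1 = 1`. Together with the converse (a total integral makes
invariants exact) this says that tameness of the action is the exactness of invariants. (The
published statement does not assume `B` finite over `C`; its proof uses that finiteness, which is
assumed here.) -/
theorem result
    (k : Type u) [CommRing k] (A : Type u) [CommRing A] [HopfAlgebra k A] [Module.Flat k A]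
    [Module.Finite k A] [Module.Projective k A]
    (B : Type u) [CommRing B] [Algebra k B] [HopfRep.Comod k A B] [GLin.IsCoactAlg k A B]
    [IsNoetherianRing (GLin.invariants k A B)] [Module.Finite (GLin.invariants k A B) B] [Module.Flat (GLin.invariants k A B) B]
    (hexact : ∀ (M N : Type u) [AddCommGroup M] [Module k M] [Module B M] [IsScalarTower k B M]
      [HopfRep.Comod k A M] [TameAct.IsHopfMod k A B M]
      [AddCommGroup N] [Module k N] [Module B N] [IsScalarTower k B N]
      [HopfRep.Comod k A N] [TameAct.IsHopfMod k A B N] (f : M →ₗ[B] N),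
      Hoch.IsComodHom A (f.restrictScalars k) → Function.Surjective f →
      ∀ n ∈ HopfRep.fixedPts k A N, ∃ m ∈ HopfRep.fixedPts k A M, f m = n) :
    ∃ α : A →ₗ[k] B, Hoch.IsComodHom A α ∧ α 1 = 1 := by
  classical
  letI instC : HopfRep.Comod k A (A →ₗ[k] B) := Groth.Agent.Helper6.HomComodProj.homComod k A A B
  have hcoactM : ∀ φ : A →ₗ[k] B, HopfRep.Comod.coact (k := k) (A := A) φ =
      Groth.Agent.Helper6.HomComodProj.homCoact k A A B φ := fun _ => rfl
  -- `mu2` as multiplication
  have hmu2 : ∀ (y : B ⊗[k] A) (a : A),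
      Groth.Agent.Helper12.Kleisli.mu2 (k := k) B A (y ⊗ₜ[k] a) = y * ((1 : B) ⊗ₜ[k] a) := by
    intro y a
    induction y using TensorProduct.induction_on with
    | zero => simp
    | tmul b c => simp
    | add y₁ y₂ h₁ h₂ => rw [TensorProduct.add_tmul, map_add, h₁, h₂, add_mul]
  -- key formula: Psi (hmSMul x y) a = x * Psi y a
  have hPsi_smul : ∀ (x : B ⊗[k] A) (y : (A →ₗ[k] B) ⊗[k] A) (a : A),
      Groth.Agent.Helper6.HomComodProj.Psi k A B A (TameAct.hmSMul k A B (A →ₗ[k] B) x y) a =
        x * Groth.Agent.Helper6.HomComodProj.Psi k A B A y a := by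
    intro x y a
    induction x using TensorProduct.induction_on with
    | zero => simp
    | tmul b a' =>
      induction y using TensorProduct.induction_on with
      | zero => simp
      | tmul φ a'' =>
        rw [TameAct.hmSMul_tmul, Groth.Agent.Helper6.HomComodProj.Psi_tmul,
          Groth.Agent.Helper6.HomComodProj.Psi_tmul, LinearMap.smul_apply, smul_eq_mul,
          Algebra.TensorProduct.tmul_mul_tmul]
      | add y₁ y₂ h₁ h₂ =>
        rw [map_add, map_add, LinearMap.add_apply, h₁, h₂, map_add, LinearMap.add_apply, mul_add]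
    | add x₁ x₂ h₁ h₂ =>
      rw [map_add, LinearMap.add_apply, map_add, LinearMap.add_apply, h₁, h₂, add_mul]
  have hc_smul : ∀ (b : B) (φ : A →ₗ[k] B) (a : A),
      Groth.Agent.Helper6.HomComodProj.c k A A B (b • φ) a =
        HopfRep.Comod.coact (k := k) (A := A) b * Groth.Agent.Helper6.HomComodProj.c k A A B φ a := by
    intro b φ a
    show Groth.Agent.Helper12.Kleisli.mu2 B A
        ((Groth.Agent.Helper12.Kleisli.rho k A B ∘ₗ (b • φ)).rTensor A
          (Groth.Agent.Helper12.Kleisli.sigma k A A a)) =
      _ * Groth.Agent.Helper12.Kleisli.mu2 B A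
        ((Groth.Agent.Helper12.Kleisli.rho k A B ∘ₗ φ).rTensor A
          (Groth.Agent.Helper12.Kleisli.sigma k A A a))
    generalize Groth.Agent.Helper12.Kleisli.sigma k A A a = t
    induction t using TensorProduct.induction_on with
    | zero => simp
    | tmul a₁ a₂ =>
      simp only [LinearMap.rTensor_tmul, LinearMap.comp_apply, LinearMap.smul_apply, smul_eq_mul]
      rw [GLin.IsCoactAlg.coact_mul, hmu2, hmu2, mul_assoc]
    | add t₁ t₂ h₁ h₂ => rw [map_add, map_add, h₁, h₂, map_add, map_add, mul_add]
  haveI instHM : TameAct.IsHopfMod k A B (A →ₗ[k] B) := by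
    constructor
    intro b φ
    rw [hcoactM, hcoactM]
    apply (Groth.Agent.Helper6.HomComodProj.Psi k A B A).injective
    refine LinearMap.ext fun a => ?_
    rw [hPsi_smul, Groth.Agent.Helper6.HomComodProj.Psi_homCoact,
      Groth.Agent.Helper6.HomComodProj.Psi_homCoact, hc_smul]
  haveI instHB : TameAct.IsHopfMod k A B B := Groth.Agent.Helper19.HopfLib.isHopfMod_self k A B
  -- evaluation at 1
  let ev1 : (A →ₗ[k] B) →ₗ[B] B :=
    { toFun := fun φ => φ 1
      map_add' := fun _ _ => rfl
      map_smul' := fun _ _ => rfl }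
  have hev_Psi : ∀ y : (A →ₗ[k] B) ⊗[k] A,
      (ev1.restrictScalars k).rTensor A y = Groth.Agent.Helper6.HomComodProj.Psi k A B A y 1 := by
    intro y
    induction y using TensorProduct.induction_on with
    | zero => simp
    | tmul ψ a => rw [LinearMap.rTensor_tmul, Groth.Agent.Helper6.HomComodProj.Psi_tmul]; rfl
    | add y₁ y₂ h₁ h₂ => rw [map_add, map_add, LinearMap.add_apply, h₁, h₂]
  have hsigma1 : Groth.Agent.Helper12.Kleisli.sigma k A A (1 : A) = (1 : A) ⊗ₜ[k] (1 : A) := by
    show (HopfAlgebra.antipodeAlgHom k A).toLinearMap.lTensor A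
      (CoalgebraStruct.comul (R := k) (A := A) (1 : A)) = _
    rw [Bialgebra.comul_one, Algebra.TensorProduct.one_def, LinearMap.lTensor_tmul]
    simp
  have hcomod : Hoch.IsComodHom A (ev1.restrictScalars k) := by
    refine LinearMap.ext fun φ => ?_
    show HopfRep.Comod.coact (k := k) (A := A) (φ 1) =
      (ev1.restrictScalars k).rTensor A (Groth.Agent.Helper6.HomComodProj.homCoact k A A B φ)
    rw [hev_Psi, Groth.Agent.Helper6.HomComodProj.Psi_homCoact]
    show _ = Groth.Agent.Helper12.Kleisli.mu2 B A
        ((Groth.Agent.Helper12.Kleisli.rho k A B ∘ₗ φ).rTensor A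
          (Groth.Agent.Helper12.Kleisli.sigma k A A 1))
    rw [hsigma1, LinearMap.rTensor_tmul, Groth.Agent.Helper12.Kleisli.mu2_one]
    rfl
  have hsurj : Function.Surjective ev1 := by
    intro b
    refine ⟨b • (Algebra.linearMap k B ∘ₗ CoalgebraStruct.counit (R := k) (A := A)), ?_⟩
    show b • (Algebra.linearMap k B (CoalgebraStruct.counit (R := k) (A := A) (1 : A))) = b
    rw [Bialgebra.counit_one]
    simp
  have h1 : (1 : B) ∈ HopfRep.fixedPts k A B := by
    show HopfRep.Comod.coact (k := k) (A := A) (1 : B) = (1 : B) ⊗ₜ[k] (1 : A)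
    rw [GLin.IsCoactAlg.coact_one (k := k) (A := A) (R := B), Algebra.TensorProduct.one_def]
  obtain ⟨φ, hφ, hφ1⟩ := hexact (A →ₗ[k] B) B ev1 hcomod hsurj 1 h1
  refine ⟨φ, Groth.Agent.Helper6.HomComodProj.isComodHom_of_invariant k A A B φ hφ, hφ1⟩

end Groth.Agent.S12928
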