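import Mathlib
import Groth.Statements.S12929
-- import your own Groth.Agent.* helpers here

set_option autoImplicit false
universe u v w w'
open HopfRep

namespace Groth.Agent.S12929

open TensorProduct in

/-- Let `k` be a commutative ring, `A` a commutative Hopf algebra over `k`, `M` a right `A`-comodule and
`N` a `k`-module; give `N ⊗ A` the coaction `id ⊗ Δ`. Then for every `k`-linear map `h : M → N` the
composite `(h ⊗ id_A) ∘ ρ_M : M → N ⊗ A` is a comodule map, and every comodule map `f : M → N ⊗ A`
is of this form for exactly one `h` (which is `(id_N ⊗ ε) ∘ f`): comodule maps `M → N ⊗ A`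
correspond bijectively to linear maps `M → N`. -/
theorem result
    (k : Type u) [CommRing k] (A : Type v) [CommRing A] [HopfAlgebra k A]
    (M : Type w) [AddCommGroup M] [Module k M] [HopfRep.Comod k A M]
    (N : Type w') [AddCommGroup N] [Module k N] :
    (∀ h : M →ₗ[k] N, Hoch.IsComodHom A
        ((Hoch.Ind.equiv k A N).toLinearMap ∘ₗ h.rTensor A ∘ₗ HopfRep.Comod.coact (k := k) (A := A))) ∧
      ∀ f : M →ₗ[k] Hoch.Ind k A N, Hoch.IsComodHom A f →
        ∃! h : M →ₗ[k] N,
          f = (Hoch.Ind.equiv k A N).toLinearMap ∘ₗ h.rTensor A ∘ₗ HopfRep.Comod.coact (k := k) (A := A) := by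
  -- abbreviations
  set ρ : M →ₗ[k] M ⊗[k] A := HopfRep.Comod.coact (k := k) (A := A) with hρ
  have hcoassoc : ∀ m, ρ.rTensor A (ρ m) =
      (TensorProduct.assoc k M A A).symm ((Coalgebra.comul (R := k) (A := A)).lTensor M (ρ m)) := by
    intro m
    have := LinearMap.congr_fun (HopfRep.Comod.coassoc (k := k) (A := A) (V := M)) m
    simp only [LinearMap.comp_apply, LinearEquiv.coe_coe] at this
    rw [← this, LinearEquiv.symm_apply_apply]
  have hcounit : ∀ m, (Coalgebra.counit (R := k) (A := A)).lTensor M (ρ m) = m ⊗ₜ[k] (1 : k) := by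
    intro m
    have := LinearMap.congr_fun (HopfRep.Comod.counit_comp (k := k) (A := A) (V := M)) m
    simpa using this
  -- naturality of the induced coaction
  have hnat : ∀ (h : M →ₗ[k] N) (t : M ⊗[k] A),
      Hoch.Ind.coactAux k A N (h.rTensor A t) =
        (h.rTensor A).rTensor A ((TensorProduct.assoc k M A A).symm
          ((Coalgebra.comul (R := k) (A := A)).lTensor M t)) := by
    intro h t
    induction t using TensorProduct.induction_on with
    | zero => first | rfl | exact map_zero _ | simp only [map_zero, TensorProduct.tmul_zero] | (simp only [map_zero, TensorProduct.tmul_zero]; rfl)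
    | tmul m a =>
      rw [LinearMap.rTensor_tmul, Hoch.Ind.coactAux_tmul, LinearMap.lTensor_tmul]
      generalize Coalgebra.comul (R := k) a = s
      induction s using TensorProduct.induction_on with
      | zero => first | rfl | exact map_zero _ | simp only [map_zero, TensorProduct.tmul_zero] | (simp only [map_zero, TensorProduct.tmul_zero]; rfl)
      | tmul a₁ a₂ => simp
      | add x y hx hy => simp only [TensorProduct.tmul_add, map_add, hx, hy]
    | add x y hx hy => simp only [map_add, hx, hy]
  have hE : ∀ x : (N ⊗[k] A) ⊗[k] A,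
      (LinearMap.rTensor A (Hoch.Ind.equiv k A N).toLinearMap) x = x := by
    intro x
    induction x using TensorProduct.induction_on with
    | zero => exact map_zero _
    | tmul y a => rw [LinearMap.rTensor_tmul]; rfl
    | add x y hx hy => exact (map_add _ x y).trans (congrArg₂ (· + ·) hx hy)
  have part1 : ∀ h : M →ₗ[k] N, Hoch.IsComodHom A
      ((Hoch.Ind.equiv k A N).toLinearMap ∘ₗ h.rTensor A ∘ₗ ρ) := by
    intro h
    unfold Hoch.IsComodHom
    apply LinearMap.ext
    intro m
    simp only [LinearMap.comp_apply, LinearEquiv.coe_coe]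
    rw [Hoch.Ind.coact_eq]
    change Hoch.Ind.coactAux k A N (h.rTensor A (ρ m)) = _
    rw [hnat, ← hcoassoc, LinearMap.rTensor_comp, LinearMap.rTensor_comp]
    simp only [LinearMap.comp_apply]
    rw [hE]
  refine ⟨part1, ?_⟩
  intro f hf
  -- plain-typed versions
  let f' : M →ₗ[k] N ⊗[k] A := f
  let ε : N ⊗[k] A →ₗ[k] N := Hoch.Ind.counit k A N
  have hεtmul : ∀ (n : N) (a : A), ε (n ⊗ₜ[k] a) = Coalgebra.counit (R := k) a • n :=
    fun n a => Hoch.Ind.counit_equiv_tmul k A N n a
  have hf' : Hoch.Ind.coactAux k A N ∘ₗ f' = f'.rTensor A ∘ₗ ρ := hf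
  have hε : ∀ t : N ⊗[k] A, ε.rTensor A (Hoch.Ind.coactAux k A N t) = t := by
    intro t
    induction t using TensorProduct.induction_on with
    | zero => simp only [map_zero]
    | tmul n a =>
      rw [Hoch.Ind.coactAux_tmul]
      have key : ∀ s : A ⊗[k] A, ε.rTensor A ((TensorProduct.assoc k N A A).symm (n ⊗ₜ[k] s)) =
          n ⊗ₜ[k] (TensorProduct.lid k A ((Coalgebra.counit (R := k) (A := A)).rTensor A s)) := by
        intro s
        induction s using TensorProduct.induction_on with
        | zero => simp only [map_zero, TensorProduct.tmul_zero]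
        | tmul a₁ a₂ =>
          simp only [TensorProduct.assoc_symm_tmul, LinearMap.rTensor_tmul, TensorProduct.lid_tmul]
          rw [hεtmul, TensorProduct.smul_tmul, TensorProduct.tmul_smul]
        | add x y hx hy => simp only [TensorProduct.tmul_add, map_add, hx, hy]
      rw [key, Coalgebra.rTensor_counit_comul]
      simp
    | add x y hx hy => simp only [map_add, hx, hy]
  have hfapply : ∀ m, Hoch.Ind.coactAux k A N (f' m) = f'.rTensor A (ρ m) :=
    fun m => LinearMap.congr_fun hf' m
  refine ⟨ε ∘ₗ f', ?_, ?_⟩
  · apply LinearMap.ext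
    intro m
    change f' m = ((ε ∘ₗ f').rTensor A) (ρ m)
    rw [LinearMap.rTensor_comp, LinearMap.comp_apply, ← hfapply, hε]
  · intro h hh
    apply LinearMap.ext
    intro m
    have hh' : f' m = (h.rTensor A) (ρ m) := by
      rw [show f' = f from rfl, hh]
      rfl
    rw [LinearMap.comp_apply, hh']
    have key : ∀ t : M ⊗[k] A, ε (h.rTensor A t) =
        h (TensorProduct.rid k M ((Coalgebra.counit (R := k) (A := A)).lTensor M t)) := by
      intro t
      induction t using TensorProduct.induction_on with
      | zero => simp only [map_zero]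
      | tmul m' a =>
        rw [LinearMap.rTensor_tmul, hεtmul, LinearMap.lTensor_tmul,
          TensorProduct.rid_tmul, map_smul]
      | add x y hx hy => simp only [map_add, hx, hy]
    rw [key, hcounit, TensorProduct.rid_tmul, one_smul]

end Groth.Agent.S12929
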