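import Groth.Statements.S12933
import Mathlib.LinearAlgebra.TensorProduct.Pi

set_option autoImplicit false
universe u v w w'
open TensorProduct
open InvTh

namespace Groth.Agent.S12933

/-- Let `R` be a commutative ring, `B` a commutative `R`-algebra with an action of a finite group `Γ` by
`R`-algebra automorphisms, and `R'` a flat commutative `R`-algebra; let `Γ` act on `R' ⊗_R B`
through the factor `B`. Then an element of `R' ⊗_R B` is fixed by every element of `Γ` if and only
if it lies in the `R'`-submodule spanned by the tensors `1 ⊗ b` with `b ∈ B^Γ`: taking invariants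
commutes with flat base change (the map `R' ⊗_R B^Γ → R' ⊗_R B` being moreover injective by
flatness). -/
theorem result
    (R : Type u) [CommRing R] (B : Type v) [CommRing B] [Algebra R B]
    (Γ : Type w) [Group Γ] [Finite Γ] [MulSemiringAction Γ B] [SMulCommClass Γ R B]
    (R' : Type w') [CommRing R'] [Algebra R R'] [Module.Flat R R']
    (x : R' ⊗[R] B) :
    (∀ γ : Γ, Algebra.TensorProduct.map (AlgHom.id R R') (MulSemiringAction.toAlgHom R B γ) x = x) ↔
      x ∈ Submodule.span R' ((fun b : B => (1 : R') ⊗ₜ[R] b) '' {b : B | ∀ γ : Γ, γ • b = b}) := by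
  classical
  let _ : Fintype Γ := Fintype.ofFinite Γ
  -- the invariants as an R-submodule
  let I : Submodule R B :=
    { carrier := {b : B | ∀ γ : Γ, γ • b = b}
      add_mem' := by
        intro a b ha hb γ
        rw [smul_add, ha γ, hb γ]
      zero_mem' := by intro γ; exact smul_zero γ
      smul_mem' := by
        intro r b hb γ
        rw [smul_comm, hb γ] }
  have hI : ∀ b, b ∈ I ↔ ∀ γ : Γ, γ • b = b := fun b => Iff.rfl
  let g : B →ₗ[R] (Γ → B) :=
    LinearMap.pi (fun γ => (MulSemiringAction.toAlgHom R B γ).toLinearMap - LinearMap.id)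
  have hg : ∀ b γ, g b γ = γ • b - b := fun b γ => rfl
  have hexact : Function.Exact I.subtype g := by
    intro b
    constructor
    · intro hb
      refine ⟨⟨b, ?_⟩, rfl⟩
      rw [hI]
      intro γ
      have := congrFun hb γ
      rw [hg] at this
      exact sub_eq_zero.mp this
    · rintro ⟨⟨b', hb'⟩, rfl⟩
      funext γ
      rw [hg]
      exact sub_eq_zero.mpr (hb' γ)
  have hexact' := Module.Flat.lTensor_exact R' hexact
  have hcomp : ∀ (y : R' ⊗[R] B) (γ : Γ),
      TensorProduct.piRight R R R' (fun _ : Γ => B) (g.lTensor R' y) γ =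
        Algebra.TensorProduct.map (AlgHom.id R R') (MulSemiringAction.toAlgHom R B γ) y - y := by
    intro y γ
    induction y using TensorProduct.induction_on with
    | zero => simp
    | tmul r b =>
      simp only [LinearMap.lTensor_tmul, TensorProduct.piRight_apply,
        TensorProduct.piRightHom_tmul, hg, Algebra.TensorProduct.map_tmul, AlgHom.coe_id, id_eq,
        MulSemiringAction.toAlgHom_apply, tmul_sub]
    | add y z hy hz =>
      simp only [map_add, Pi.add_apply, hy, hz]
      abel
  have hsmul : ∀ (r : R') (y : R' ⊗[R] B), r • y = (r ⊗ₜ[R] (1 : B)) * y := by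
    intro r y
    induction y using TensorProduct.induction_on with
    | zero => simp
    | tmul a b =>
      rw [TensorProduct.smul_tmul', Algebra.TensorProduct.tmul_mul_tmul, one_mul, smul_eq_mul]
    | add y z hy hz => rw [smul_add, mul_add, hy, hz]
  have hrange : ∀ t : R' ⊗[R] I, LinearMap.lTensor R' I.subtype t ∈
      Submodule.span R' ((fun b : B => (1 : R') ⊗ₜ[R] b) '' {b : B | ∀ γ : Γ, γ • b = b}) := by
    intro t
    induction t using TensorProduct.induction_on with
    | zero => simp
    | tmul r b =>
      rw [LinearMap.lTensor_tmul]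
      have : r ⊗ₜ[R] (I.subtype b) = r • ((1 : R') ⊗ₜ[R] (b : B)) := by
        rw [TensorProduct.smul_tmul', smul_eq_mul, mul_one]
        rfl
      rw [this]
      apply Submodule.smul_mem
      apply Submodule.subset_span
      exact ⟨b, b.2, rfl⟩
    | add y z hy hz =>
      rw [map_add]
      exact Submodule.add_mem _ hy hz
  constructor
  · intro hx
    have h0 : g.lTensor R' x = 0 := by
      apply (TensorProduct.piRight R R R' (fun _ : Γ => B)).injective
      rw [map_zero]
      funext γ
      rw [hcomp, hx γ, sub_self]
      rfl
    obtain ⟨t, rfl⟩ := (hexact' x).mp h0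
    exact hrange t
  · intro hx γ
    induction hx using Submodule.span_induction with
    | mem y hy =>
      obtain ⟨b, hb, rfl⟩ := hy
      simp only [Algebra.TensorProduct.map_tmul, AlgHom.coe_id, id_eq,
        MulSemiringAction.toAlgHom_apply]
      rw [hb γ]
    | zero => simp
    | add y z _ _ hy hz => rw [map_add, hy, hz]
    | smul r y _ hy =>
      rw [hsmul, map_mul, hy]
      simp

end Groth.Agent.S12933
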