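import Groth.Statements.S12935
import Mathlib.RingTheory.Invariant.Basic

set_option autoImplicit false
universe u v
open InvTh

namespace Groth.Agent.S12935

open scoped Pointwise

/-- Let `B` be a commutative ring with an action of a finite group `Γ` by ring automorphisms, `Ω` a
normal subgroup of `Γ`, `B^Ω` the subring of `Ω`-invariants (stable under `Γ`, with the induced
action of `Γ/Ω`), and `P` a prime ideal of `B`. Then (decomposition groups) an element `γ` maps `P ∩
B^Ω` onto itself if and only if `γω` maps `P` onto itself for some `ω ∈ Ω`; and (inertia groups) `γ`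
fixes `B^Ω` modulo `P ∩ B^Ω` if and only if `γω` fixes `B` modulo `P` for some `ω ∈ Ω`. In other
words the decomposition and inertia groups of `P ∩ B^Ω` under `Γ/Ω` are the images of those of `P`.
(The published statement also asserts the same for the ramification groups, the Sylow subgroups of
the inertia groups at the residue characteristic; that clause is not included here.) -/
theorem result
    (B : Type u) [CommRing B] (Γ : Type v) [Group Γ] [Finite Γ] [MulSemiringAction Γ B]
    (Ω : Subgroup Γ) [Ω.Normal] (P : Ideal B) [P.IsPrime] (γ : Γ) :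
    ((∀ x : B, (∀ ω ∈ Ω, ω • x = x) → (x ∈ P ↔ γ • x ∈ P)) ↔
        ∃ ω ∈ Ω, ∀ x : B, x ∈ P ↔ (γ * ω) • x ∈ P) ∧
      ((∀ x : B, (∀ ω ∈ Ω, ω • x = x) → γ • x - x ∈ P) ↔
        ∃ ω ∈ Ω, ∀ x : B, (γ * ω) • x - x ∈ P) := by
  classical
  let A := FixedPoints.subring B Ω
  have hA : ∀ x : B, x ∈ A ↔ ∀ ω ∈ Ω, ω • x = x := by
    intro x
    constructor
    · intro hx ω hω
      exact hx ⟨ω, hω⟩
    · intro hx ω
      exact hx ω.1 ω.2
  have : Algebra.IsInvariant A B Ω := ⟨fun b hb => ⟨⟨b, hb⟩, rfl⟩⟩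
  -- Part 1, forward direction as a lemma
  have part1 : (∀ x : B, (∀ ω ∈ Ω, ω • x = x) → (x ∈ P ↔ γ • x ∈ P)) →
      ∃ ω ∈ Ω, ∀ x : B, x ∈ P ↔ (γ * ω) • x ∈ P := by
    intro h
    let Q : Ideal B := Ideal.comap (MulSemiringAction.toRingHom Γ B γ) P
    have : Q.IsPrime := Ideal.comap_isPrime _ _
    have hQ : ∀ x, x ∈ Q ↔ γ • x ∈ P := fun x => Iff.rfl
    have hPQ : P.under A = Q.under A := by
      ext x
      rw [Ideal.under_def, Ideal.under_def, Ideal.mem_comap, Ideal.mem_comap, hQ]
      exact h _ ((hA _).mp x.2)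
    obtain ⟨ω, hω⟩ := Algebra.IsInvariant.exists_smul_of_under_eq A B Ω P Q hPQ
    refine ⟨ω.1, ω.2, fun x => ?_⟩
    rw [mul_smul, ← hQ, hω]
    exact (Ideal.smul_mem_pointwise_smul_iff (a := ω) (S := P) (x := x)).symm
  refine ⟨⟨part1, ?_⟩, ⟨?_, ?_⟩⟩
  · rintro ⟨ω, hω, h⟩ x hx
    rw [h x, mul_smul, hx ω hω]
  · intro h
    -- γ fixes P ∩ A
    have h1 : ∀ x : B, (∀ ω ∈ Ω, ω • x = x) → (x ∈ P ↔ γ • x ∈ P) := by
      intro x hx
      have := h x hx
      constructor
      · intro hxP
        have := P.add_mem this hxP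
        rwa [sub_add_cancel] at this
      · intro hxP
        have := P.sub_mem hxP this
        rwa [sub_sub_cancel] at this
    obtain ⟨ω₀, hω₀, hstab⟩ := part1 h1
    set γ' := γ * ω₀ with hγ'
    let p : Ideal A := P.under A
    have : P.LiesOver p := ⟨rfl⟩
    have hmap : P = P.map ((MulSemiringAction.toRingEquiv Γ B γ' : B ≃+* B) : B →+* B) := by
      ext x
      rw [Ideal.map_comap_of_equiv, Ideal.mem_comap]
      have := hstab ((MulSemiringAction.toRingEquiv Γ B γ').symm x)
      rw [this]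
      change x ∈ P ↔ (MulSemiringAction.toRingEquiv Γ B γ')
        ((MulSemiringAction.toRingEquiv Γ B γ').symm x) ∈ P
      rw [RingEquiv.apply_symm_apply]
    have hγ'A : ∀ a : A, γ' • (a : B) - (a : B) ∈ P := by
      intro a
      have ha := (hA _).mp a.2
      rw [hγ', mul_smul, ha ω₀ hω₀]
      exact h _ ha
    let σ : (B ⧸ P) ≃ₐ[A ⧸ p] (B ⧸ P) :=
      { Ideal.quotientEquiv P P (MulSemiringAction.toRingEquiv Γ B γ') hmap with
        commutes' := by
          intro r
          obtain ⟨a, rfl⟩ := Ideal.Quotient.mk_surjective r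
          change Ideal.quotientEquiv P P (MulSemiringAction.toRingEquiv Γ B γ') hmap
            (Ideal.Quotient.mk P (a : B)) = Ideal.Quotient.mk P (a : B)
          rw [Ideal.quotientEquiv_mk, Ideal.Quotient.eq]
          exact hγ'A a }
    have hσ : ∀ x : B, σ (Ideal.Quotient.mk P x) = Ideal.Quotient.mk P (γ' • x) := fun x => rfl
    obtain ⟨g, hg⟩ := Ideal.Quotient.stabilizerHom_surjective Ω p P σ
    have hg' : ∀ x : B, (g.1.1 : Γ) • x - γ' • x ∈ P := by
      intro x
      have := congrArg (fun τ => τ (Ideal.Quotient.mk P x)) hg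
      simp only [hσ] at this
      rw [← Ideal.Quotient.eq, ← this]
      rfl
    refine ⟨ω₀ * (g.1.1)⁻¹, Ω.mul_mem hω₀ (Ω.inv_mem g.1.2), fun x => ?_⟩
    have := hg' ((g.1.1 : Γ)⁻¹ • x)
    rw [smul_inv_smul, ← Ideal.neg_mem_iff, neg_sub] at this
    rwa [← mul_assoc, mul_smul]
  · rintro ⟨ω, hω, h⟩ x hx
    have := h x
    rwa [mul_smul, hx ω hω] at this

end Groth.Agent.S12935
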