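import Groth.Statements.S12936
import Mathlib.RingTheory.Ideal.Operations
import Mathlib.RingTheory.Ideal.Maps
import Mathlib.GroupTheory.Coset.Defs
import Mathlib.GroupTheory.Coset.Card
import Mathlib.Tactic.Group
import Mathlib.RingTheory.Ideal.Quotient.Basic
import Mathlib.Tactic.Ring
import Mathlib.GroupTheory.GroupAction.Quotient
import Mathlib.Algebra.BigOperators.GroupWithZero.Action

set_option autoImplicit false
universe u v
open InvTh

namespace Groth.Agent.S12936

/-- Let `B` be a commutative ring with an action of a finite group `Γ` by ring automorphisms and `P` a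
maximal ideal of `B`, with decomposition group `D_P = {γ | γP = P}` and decomposition ring `D =
B^{D_P}`. Then `D = B^Γ + (P ∩ D)`: every element of `B` fixed by `D_P` is congruent modulo `P` to a
`Γ`-invariant element. Hence the residue field of `D` at `P ∩ D` is that of `B^Γ` at `P ∩ B^Γ`; for
an arbitrary prime `P` the same equality of residue fields follows by localising at `P ∩ B^Γ`. (The
published statement prints this residue field as `k(P)`; the proof establishes the equality with the
residue field of `B^Γ` stated here.) -/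
theorem result
    (B : Type u) [CommRing B] (Γ : Type v) [Group Γ] [Finite Γ] [MulSemiringAction Γ B]
    (P : Ideal B) [P.IsMaximal] (x : B)
    (hx : ∀ γ : Γ, (∀ y : B, y ∈ P ↔ γ • y ∈ P) → γ • x = x) :
    ∃ c : B, (∀ γ : Γ, γ • c = c) ∧ x - c ∈ P := by
  classical
  let _ : Fintype Γ := Fintype.ofFinite Γ
  have hPprime : P.IsPrime := Ideal.IsMaximal.isPrime inferInstance
  let H : Subgroup Γ :=
    { carrier := {γ | ∀ y : B, y ∈ P ↔ γ • y ∈ P}
      one_mem' := by intro y; simp
      mul_mem' := by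
        intro a b ha hb y
        rw [mul_smul]
        exact (hb y).trans (ha (b • y))
      inv_mem' := by
        intro a ha y
        have := ha (a⁻¹ • y)
        rw [smul_inv_smul] at this
        exact this.symm }
  have hH : ∀ γ, γ ∈ H ↔ ∀ y : B, y ∈ P ↔ γ • y ∈ P := fun γ => Iff.rfl
  have hz : ∀ σ : Γ, σ ∉ H → ∃ z : B, z ∉ P ∧ σ • z ∈ P := by
    intro σ hσ
    let f : B →+* B := MulSemiringAction.toRingHom Γ B σ
    have hf : Function.Surjective f := fun b => ⟨σ⁻¹ • b, smul_inv_smul σ b⟩
    have hPσmax : (P.comap f).IsMaximal := Ideal.comap_isMaximal_of_surjective f hf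
    by_contra hcon
    push Not at hcon
    have hle : P.comap f ≤ P := fun z hz => by
      by_contra h
      exact hcon z h hz
    have heq : P.comap f = P := hPσmax.eq_of_le (Ideal.IsMaximal.ne_top inferInstance) hle
    apply hσ
    rw [hH]
    intro y
    conv_lhs => rw [← heq]
    rfl
  choose! z hz1 hz2 using hz
  let Z : B := ∏ σ ∈ Finset.univ.filter (fun σ : Γ => σ ∉ H), z σ
  have hZ1 : Z ∉ P := by
    intro h
    rw [Ideal.IsPrime.prod_mem_iff] at h
    obtain ⟨σ, hσ, hσP⟩ := h
    exact hz1 σ (Finset.mem_filter.mp hσ).2 hσP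
  have hZ2 : ∀ σ : Γ, σ ∉ H → σ • Z ∈ P := by
    intro σ hσ
    have : σ • Z = ∏ τ ∈ Finset.univ.filter (fun σ : Γ => σ ∉ H), σ • z τ := by
      simp only [Z]
      exact Finset.smul_prod'
    rw [this, Ideal.IsPrime.prod_mem_iff]
    exact ⟨σ, Finset.mem_filter.mpr ⟨Finset.mem_univ _, hσ⟩, hz2 σ hσ⟩
  obtain ⟨v, i, hi, hvi⟩ := Ideal.IsMaximal.exists_inv (inferInstance : P.IsMaximal) hZ1
  let u : B := v * Z
  have hu1 : u - 1 ∈ P := by
    have : u - 1 = -i := by
      simp only [u]
      rw [← hvi]; ring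
    rw [this]
    exact neg_mem hi
  have hu2 : ∀ σ : Γ, σ ∉ H → σ • u ∈ P := by
    intro σ hσ
    simp only [u, smul_mul']
    exact Ideal.mul_mem_left _ _ (hZ2 σ hσ)
  let N : B := ∏ h : H, (h : Γ) • u
  have hN_inv : ∀ h' : Γ, h' ∈ H → h' • N = N := by
    intro h' hh'
    have : h' • N = ∏ h : H, h' • ((h : Γ) • u) := by
      simp only [N]
      exact Finset.smul_prod'
    rw [this]
    simp only [← mul_smul]
    exact Fintype.prod_bijective (fun h : H => (⟨h', hh'⟩ : H) * h)
      (Group.mulLeft_bijective _) _ _ (fun h => rfl)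
  have hN1 : N - 1 ∈ P := by
    rw [← Ideal.Quotient.eq, map_one]
    simp only [N, map_prod]
    apply Finset.prod_eq_one
    intro h _
    rw [← map_one (Ideal.Quotient.mk P), Ideal.Quotient.eq]
    have : (h : Γ) • u - 1 = (h : Γ) • (u - 1) := by
      rw [smul_sub, smul_one]
    rw [this]
    exact ((hH h).mp h.2 (u - 1)).mp hu1
  have hN2 : ∀ σ : Γ, σ ∉ H → σ • N ∈ P := by
    intro σ hσ
    have : σ • N = ∏ h : H, σ • ((h : Γ) • u) := by
      simp only [N]
      exact Finset.smul_prod'
    rw [this, Ideal.IsPrime.prod_mem_iff]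
    refine ⟨1, Finset.mem_univ _, ?_⟩
    simp only [OneMemClass.coe_one, one_smul]
    exact hu2 σ hσ
  let y : B := x * N
  have hy_inv : ∀ h : Γ, h ∈ H → h • y = y := by
    intro h hh
    simp only [y, smul_mul']
    rw [hx h ((hH h).mp hh), hN_inv h hh]
  have hy1 : x - y ∈ P := by
    have : x - y = -(x * (N - 1)) := by simp only [y]; ring
    rw [this]
    exact neg_mem (Ideal.mul_mem_left _ _ hN1)
  have hy2 : ∀ σ : Γ, σ ∉ H → σ • y ∈ P := by
    intro σ hσ
    simp only [y, smul_mul']
    exact Ideal.mul_mem_left _ _ (hN2 σ hσ)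
  let _ : Fintype (Γ ⧸ H) := Fintype.ofFinite _
  let c : B := ∑ q : Γ ⧸ H, q.out • y
  have hout : ∀ g : Γ, ((g : Γ ⧸ H)).out • y = g • y := by
    intro g
    have h1 : ((g : Γ ⧸ H).out : Γ ⧸ H) = (g : Γ ⧸ H) := QuotientGroup.out_eq' _
    rw [QuotientGroup.eq] at h1
    have h2 := hy_inv _ h1
    calc (g : Γ ⧸ H).out • y = (g : Γ ⧸ H).out • (((g : Γ ⧸ H).out⁻¹ * g) • y) := by rw [h2]
      _ = g • y := by
        rw [← mul_smul, mul_inv_cancel_left]
  refine ⟨c, ?_, ?_⟩
  · intro g
    simp only [c, Finset.smul_sum]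
    have : ∀ q : Γ ⧸ H, g • (q.out • y) = (g • q).out • y := by
      intro q
      rw [← mul_smul, ← hout (g * q.out)]
      congr 2
      conv_rhs => rw [← QuotientGroup.out_eq' q]
      rfl
    simp only [this]
    exact Fintype.sum_bijective (fun q : Γ ⧸ H => g • q) (MulAction.bijective g) _ _ (fun q => rfl)
  · have hsplit : c = y + ∑ q ∈ Finset.univ.erase ((1 : Γ) : Γ ⧸ H), q.out • y := by
      simp only [c]
      rw [← Finset.add_sum_erase _ _ (Finset.mem_univ ((1 : Γ) : Γ ⧸ H)), hout, one_smul]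
    have : x - c = (x - y) - ∑ q ∈ Finset.univ.erase ((1 : Γ) : Γ ⧸ H), q.out • y := by
      rw [hsplit]; ring
    rw [this]
    apply sub_mem hy1
    apply sum_mem
    intro q hq
    apply hy2
    intro hmem
    apply (Finset.mem_erase.mp hq).1
    rw [← QuotientGroup.out_eq' q, QuotientGroup.eq]
    simpa using H.inv_mem hmem

end Groth.Agent.S12936
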