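import Mathlib
import Groth.Statements.S12940
import Groth.Agent.Lib.Helper19.DiagRep
import Groth.Agent.Lib.Helper19.ImmLib

set_option autoImplicit false
universe u
open CategoryTheory AlgebraicGeometry
open AlgSt

namespace Groth.Agent.S12940

/-- If a morphism f of algebraic stacks is representable by algebraic spaces, then its diagonal is
representable by schemes: every base change of the diagonal to a scheme is (equivalent over the base
to the slice category of) a scheme. -/
theorem result
    (S : Scheme.{u}) (𝒳 : AlgSt.Cat S) (𝒴 : AlgSt.Cat S)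
    (h𝒳 : AlgSt.IsAlgStack Scheme.fppfPrecoverage 𝒳)
    (h𝒴 : AlgSt.IsAlgStack Scheme.fppfPrecoverage 𝒴)
    (f : 𝒳 ⥤ᵇ 𝒴)
    (hf : AlgSt.RepByAlgSp1 f) :
    FibCat.IsRepresentable1 (FibCat.diag f) := by
  intro T t
  have h := Groth.Agent.Helper19.DiagRep.repByAlgSpWith_diag
    (Groth.Agent.Helper19.DiagRep.sectionEq_repWith ⊤ (fun A T a => by
      rw [AlgSp.repWith_iff]
      exact ⟨(Groth.Agent.Helper15.diagonal_properties A.property a).1, fun _ _ _ _ _ _ => trivial⟩)) f hf T t
  obtain ⟨T', τ, e', he', -, -⟩ := Groth.Agent.Helper19.ImmLib.exists_scheme_of_repOver_repWith ⊤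
    (FibCat.fpFst t (FibCat.diag f)) h
  obtain ⟨G, hG, -, -⟩ := Groth.Agent.Helper19.FibLib.IsEquivOver.exists_inv he'
  exact ⟨T', G, hG⟩

end Groth.Agent.S12940
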