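import Mathlib
import Groth.Statements.S12946
-- import your own Groth.Agent.* helpers here

set_option autoImplicit false
universe u
open CategoryTheory AlgebraicGeometry
open AlgSt

namespace Groth.Agent.S12946

theorem lqf_of_lft_unram {X Y : Scheme.{u}} (f : X ⟶ Y) [LocallyOfFiniteType f] [FormallyUnramified f] :
    LocallyQuasiFinite f := by
  constructor
  intro U hU V hV e
  have h1 : (f.appLE U V e).hom.FiniteType := LocallyOfFiniteType.finiteType_appLE f hU hV e
  have h2 : (f.appLE U V e).hom.FormallyUnramified :=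
    HasRingHomProperty.appLE @FormallyUnramified f inferInstance ⟨U, hU⟩ ⟨V, hV⟩ e
  algebraize [(f.appLE U V e).hom]
  have : Algebra.FormallyUnramified Γ(Y, U) Γ(X, V) := h2
  have : Algebra.FiniteType Γ(Y, U) Γ(X, V) := h1
  have : Algebra.QuasiFinite Γ(Y, U) Γ(X, V) := inferInstance
  exact this


/-- A DM morphism of algebraic stacks is quasi-DM (an unramified morphism of algebraic spaces being
locally quasi-finite). -/
theorem result
    (S : Scheme.{u}) (𝒳 : AlgSt.Cat S) (𝒴 : AlgSt.Cat S)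
    (h𝒳 : AlgSt.IsAlgStack Scheme.fppfPrecoverage 𝒳)
    (h𝒴 : AlgSt.IsAlgStack Scheme.fppfPrecoverage 𝒴)
    (f : 𝒳 ⥤ᵇ 𝒴) :
    AlgSt.IsDMMor f → AlgSt.IsQuasiDMMor f := by
  intro h U y
  obtain ⟨F, e, he, hP⟩ := h U y
  refine ⟨F, e, he, ?_⟩
  intro U' V' a b g ha hb hcomm
  obtain ⟨h1, h2⟩ := hP a b g ha hb hcomm
  have : LocallyOfFiniteType g.left := h1
  have : FormallyUnramified g.left := h2
  exact ⟨lqf_of_lft_unram g.left, h1⟩

end Groth.Agent.S12946
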