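import Mathlib
import Groth.Statements.S12951
import Groth.Agent.Lib.Helper19.DiagComp
import Groth.Agent.Lib.Helper19.SpProps

set_option autoImplicit false
universe u
open CategoryTheory AlgebraicGeometry
open AlgSt

namespace Groth.Agent.S12951

/-- The composition of two quasi-DM morphisms of algebraic stacks is quasi-DM (quasi-DM: the diagonal is
representable by algebraic spaces and locally quasi-finite (and locally of finite type)). -/
theorem result
    (S : Scheme.{u}) (𝒳 : AlgSt.Cat S) (𝒴 : AlgSt.Cat S) (𝒵 : AlgSt.Cat S)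
    (h𝒳 : AlgSt.IsAlgStack Scheme.fppfPrecoverage 𝒳)
    (h𝒴 : AlgSt.IsAlgStack Scheme.fppfPrecoverage 𝒴)
    (h𝒵 : AlgSt.IsAlgStack Scheme.fppfPrecoverage 𝒵)
    (f : 𝒳 ⥤ᵇ 𝒴) (g : 𝒴 ⥤ᵇ 𝒵) :
    AlgSt.IsQuasiDMMor f → AlgSt.IsQuasiDMMor g → AlgSt.IsQuasiDMMor (BasedFunctor.comp f g) := by
  intro hf hg
  exact Groth.Agent.Helper19.DiagComp.repByAlgSpWith_diag_comp
    (Groth.Agent.Helper19.SpProps.stableAlg_locP Groth.Agent.Helper15.goodP_lqf_lft
      Groth.Agent.Helper16.AS.srcEtLoc_lqf_lft)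
    (Groth.Agent.Helper19.SpProps.compAlg_locP Groth.Agent.Helper15.goodP_lqf_lft
      Groth.Agent.Helper16.AS.srcEtLoc_lqf_lft)
    (Groth.Agent.Helper19.SpProps.descAtlas_of_fpqc Groth.Agent.Helper16.AS.isLocalOnBase_fpqc_locP_lqf_lft)
    h𝒳.isStack.1 h𝒴.isStack.1 f g hf hg

end Groth.Agent.S12951
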