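import Mathlib
import Groth.Statements.S12969
import Groth.Agent.Lib.Helper19.DiagLft

set_option autoImplicit false
universe u
open CategoryTheory AlgebraicGeometry
open AlgSt

namespace Groth.Agent.S12969

/-- Let 𝒳 be an algebraic stack and W → 𝒳 a surjective, flat, locally finitely presented morphism from
an algebraic space which is moreover unramified. Then 𝒳 is DM over the base scheme: its diagonal
over the base is unramified. (The published statement concludes DM over the integers; this row
concludes it over the base scheme, which is equivalent for algebraic stacks.) -/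
theorem result
    (S : Scheme.{u}) (𝒳 : AlgSt.Cat S)
    (h𝒳 : AlgSt.IsAlgStack Scheme.fppfPrecoverage 𝒳)
    (W : AlgSp.Space S) (w : AlgSt.ofSp W.obj ⥤ᵇ 𝒳)
    (hw₁ : AlgSt.RepByAlgSpWith (AlgSp.LocP @Flat) w)
    (hw₂ : AlgSt.RepByAlgSpWith (AlgSp.LocP @LocallyOfFinitePresentation) w)
    (hw₃ : AlgSt.RepByAlgSpWith AlgSp.IsSurjectiveMor w)
    (hw₄ : AlgSt.RepByAlgSpWith (AlgSp.LocP (@LocallyOfFiniteType ⊓ @FormallyUnramified)) w) :
    AlgSt.IsDMOver 𝒳 := by
  exact Groth.Agent.Helper19.ProdCover.repByAlgSpWith_diag_of_atlas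
    (Groth.Agent.Helper19.SpProps.stableAlg_locP Groth.Agent.Helper15.goodP_lft_unramified Groth.Agent.Helper16.AS.srcEtLoc_unramified)
    (Groth.Agent.Helper19.SpProps.compAlg_locP Groth.Agent.Helper15.goodP_lft_unramified Groth.Agent.Helper16.AS.srcEtLoc_unramified)
    Groth.Agent.Helper19.DiagCover.isLocalOnBase_fppf_unramified
    h𝒳.isStack.1 (Groth.Agent.Helper19.CancelLib.isFibGrpd_selfOver (Over S)) (Stk.isFibGrpd_ofPsh W.obj.obj)
    (FibCat.toSelf 𝒳) h𝒳.diag w
    (Groth.Agent.Helper19.DescCover.repByAlgSpWith_fppfP w hw₁ hw₂ hw₃) hw₄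
    (Groth.Agent.Helper19.DiagRep.repByAlgSpWith_diag Groth.Agent.Helper19.DiagRep.sectionEq_unramified _
      (Groth.Agent.Helper19.ProdCover.repByAlgSp1_to_selfOver (Groth.Agent.Helper19.DiagAlgSp.repByAlgSp_ofSp W) _))

end Groth.Agent.S12969
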