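import Mathlib
import Groth.Statements.S12971
import Groth.Agent.Lib.Helper19.CancelLib

set_option autoImplicit false
universe u
open CategoryTheory AlgebraicGeometry
open AlgSt

namespace Groth.Agent.S12971

/-- A monomorphism of algebraic stacks (representable by algebraic spaces and a monomorphism) is
separated and DM. -/
theorem result
    (S : Scheme.{u}) (𝒳 : AlgSt.Cat S) (𝒴 : AlgSt.Cat S)
    (h𝒳 : AlgSt.IsAlgStack Scheme.fppfPrecoverage 𝒳)
    (h𝒴 : AlgSt.IsAlgStack Scheme.fppfPrecoverage 𝒴)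
    (f : 𝒳 ⥤ᵇ 𝒴) :
    AlgSt.IsMono f → AlgSt.IsSeparatedMor f ∧ AlgSt.IsDMMor f := by
  intro hf
  refine ⟨?_, ?_⟩
  · refine Groth.Agent.Helper19.CancelLib.repByAlgSpWith_isProperMor_diag f
      (Groth.Agent.Helper19.CancelLib.repByAlgSpWith_mono (fun _ _ a h => ?_) hf)
    have : Mono a := h
    exact Groth.Agent.Helper15.isSeparatedMor_of_mono a
  · exact Groth.Agent.Helper19.DiagRep.repByAlgSpWith_diag Groth.Agent.Helper19.DiagRep.sectionEq_unramified f
      (Groth.Agent.Helper19.PshSt.RepByAlgSpWith.repByAlgSp1 hf)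

end Groth.Agent.S12971
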