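import Mathlib
import Groth.Statements.S12979
import Groth.Agent.Lib.Helper19.DiagLft
import Groth.Agent.Lib.Helper19.DiagConv
import Groth.Agent.Lib.Helper19.InfLib

set_option autoImplicit false
universe u
open CategoryTheory AlgebraicGeometry
open AlgSt

namespace Groth.Agent.S12979

/-- If the first and second diagonals of a morphism f of algebraic stacks are both universally closed
(as morphisms representable by algebraic spaces), then f is separated. (The published statement is
an equivalence; this row states the implication from the two diagonals to separatedness.) -/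
theorem result
    (S : Scheme.{u}) (𝒳 : AlgSt.Cat S) (𝒴 : AlgSt.Cat S)
    (h𝒳 : AlgSt.IsAlgStack Scheme.fppfPrecoverage 𝒳)
    (h𝒴 : AlgSt.IsAlgStack Scheme.fppfPrecoverage 𝒴)
    (f : 𝒳 ⥤ᵇ 𝒴) :
    AlgSt.RepByAlgSpWith AlgSp.IsUnivClosedMor (FibCat.diag f) →
      AlgSt.RepByAlgSpWith AlgSp.IsUnivClosedMor (FibCat.diag (FibCat.diag f)) → AlgSt.IsSeparatedMor f := by
  intro h1 h2
  have hΔ : AlgSt.RepByAlgSp1 (FibCat.diag f) :=
    Groth.Agent.Helper19.CancelLib.repByAlgSp1_diag h𝒳.isStack.1 h𝒴.isStack.1 h𝒳.diag h𝒴.diag f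
  have hsep : AlgSt.RepByAlgSpWith AlgSp.IsSeparatedMor (FibCat.diag f) :=
    Groth.Agent.Helper19.DiagConv.repByAlgSpWith_isSeparatedMor_of_univClosed_diag (FibCat.diag f) hΔ h2
  have hlft : AlgSt.RepByAlgSpWith (AlgSp.LocP @LocallyOfFiniteType) (FibCat.diag f) :=
    Groth.Agent.Helper19.DiagLft.repByAlgSpWith_lft_diag h𝒳 h𝒴 f
  have hqc : AlgSt.RepByAlgSpWith AlgSp.IsQuasiCompactMor (FibCat.diag f) :=
    Groth.Agent.Helper19.CancelLib.repByAlgSpWith_mono (fun A T a h =>
      Groth.Agent.Helper15.isQuasiCompactMor_of_isUnivClosedMor A.property (AlgSp.IsAlgSpace.yon_obj T) a h) h1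
  have h3 := Groth.Agent.Helper19.InfLib.repByAlgSpWith_inf
    Groth.Agent.Helper19.SpProps.stableAlg_isQuasiCompactMor hlft hqc
  have h4 := Groth.Agent.Helper19.InfLib.repByAlgSpWith_inf
    Groth.Agent.Helper19.SpProps.stableAlg_isUnivClosedMor h3 h1
  have h5 := Groth.Agent.Helper19.InfLib.repByAlgSpWith_inf
    (Groth.Agent.Helper19.SpProps.stableAlg_inf (Groth.Agent.Helper19.SpProps.stableAlg_inf
      (Groth.Agent.Helper19.SpProps.stableAlg_locP Groth.Agent.Helper15.goodP_lft Groth.Agent.Helper16.AS.srcEtLoc_lft)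
      Groth.Agent.Helper19.SpProps.stableAlg_isQuasiCompactMor)
      Groth.Agent.Helper19.SpProps.stableAlg_isUnivClosedMor) hsep h4
  exact h5

end Groth.Agent.S12979
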