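import Mathlib
import Groth.Statements.S12980
import Groth.Agent.Lib.Helper19.InfLib

set_option autoImplicit false
universe u
open CategoryTheory AlgebraicGeometry
open AlgSt

namespace Groth.Agent.S12980

/-- A morphism f of algebraic stacks is quasi-separated if and only if its first and second diagonals
are both quasi-compact (as morphisms representable by algebraic spaces). -/
theorem result
    (S : Scheme.{u}) (𝒳 : AlgSt.Cat S) (𝒴 : AlgSt.Cat S)
    (h𝒳 : AlgSt.IsAlgStack Scheme.fppfPrecoverage 𝒳)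
    (h𝒴 : AlgSt.IsAlgStack Scheme.fppfPrecoverage 𝒴)
    (f : 𝒳 ⥤ᵇ 𝒴) :
    AlgSt.IsQuasiSeparatedMor f ↔
      AlgSt.RepByAlgSpWith AlgSp.IsQuasiCompactMor (FibCat.diag f) ∧
        AlgSt.RepByAlgSpWith AlgSp.IsQuasiCompactMor (FibCat.diag (FibCat.diag f)) := by
  constructor
  · intro h
    have h1 : AlgSt.RepByAlgSpWith AlgSp.IsQuasiCompactMor (FibCat.diag f) :=
      Groth.Agent.Helper19.CancelLib.repByAlgSpWith_mono (fun _ _ a ha => ha.1) h
    have h2 : AlgSt.RepByAlgSpWith AlgSp.IsQuasiSeparatedMor (FibCat.diag f) :=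
      Groth.Agent.Helper19.CancelLib.repByAlgSpWith_mono (fun _ _ a ha => ha.2) h
    exact ⟨h1, Groth.Agent.Helper19.CancelLib.repByAlgSpWith_mono (fun _ _ a ha => ha.2)
      (Groth.Agent.Helper19.DiagConv.repByAlgSpWith_isFiniteTypeMor_diag (FibCat.diag f) h2)⟩
  · rintro ⟨h1, h2⟩
    exact Groth.Agent.Helper19.InfLib.repByAlgSpWith_inf
      Groth.Agent.Helper19.SpProps.stableAlg_isQuasiSeparatedMor h1
      (Groth.Agent.Helper19.DiagConv.repByAlgSpWith_isQuasiSeparatedMor_of_qc_diag (FibCat.diag f)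
        (Groth.Agent.Helper19.PshSt.RepByAlgSpWith.repByAlgSp1 h1) h2)

end Groth.Agent.S12980
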