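import Mathlib
import Groth.Statements.S12984
import Groth.Agent.Lib.Helper19.ImmLib

set_option autoImplicit false
universe u
open CategoryTheory AlgebraicGeometry
open AlgSt

namespace Groth.Agent.S12984

/-- A closed immersion of algebraic stacks is quasi-compact. -/
theorem result
    (S : Scheme.{u}) (𝒳 : AlgSt.Cat S) (𝒴 : AlgSt.Cat S)
    (h𝒳 : AlgSt.IsAlgStack Scheme.fppfPrecoverage 𝒳)
    (h𝒴 : AlgSt.IsAlgStack Scheme.fppfPrecoverage 𝒴)
    (f : 𝒳 ⥤ᵇ 𝒴) :
    AlgSt.IsClosedImm f → AlgSt.IsQuasiCompactMor Scheme.fppfPrecoverage f := by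
  intro hf 𝒵 h𝒵' hqc g
  obtain ⟨U, u, hU, hsm, hsurj⟩ := hqc
  obtain ⟨T', τ, e', he', -, hτ⟩ := Groth.Agent.Helper19.ImmLib.exists_scheme_of_repOver_repWith @IsClosedImmersion
    (FibCat.fpFst (BasedFunctor.comp u g) f) (hf U (BasedFunctor.comp u g))
  have : IsClosedImmersion τ.left := hτ
  have : IsAffine U.left := hU
  have hT' : IsAffine T'.left := isAffine_of_isAffineHom τ.left
  have hE : FibCat.IsEquivOver (BasedFunctor.comp e' (Groth.Agent.Helper19.FibLib.pasteL u g f)) :=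
    Groth.Agent.Helper19.FibLib.IsEquivOver.comp he' (Groth.Agent.Helper19.FibLib.isEquivOver_pasteL u g f)
  refine ⟨T', BasedFunctor.comp (BasedFunctor.comp e' (Groth.Agent.Helper19.FibLib.pasteL u g f))
    (FibCat.fpSnd u (FibCat.fpFst g f)), hT', ?_, ?_⟩
  · exact (Groth.Agent.Helper19.StLib.repByAlgSpWith_equiv_comp _ hE _).2
      (Groth.Agent.Helper19.StLib.repByAlgSpWith_fpSnd u (FibCat.fpFst g f) hsm)
  · exact (Groth.Agent.Helper19.StLib.repByAlgSpWith_equiv_comp _ hE _).2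
      (Groth.Agent.Helper19.StLib.repByAlgSpWith_fpSnd u (FibCat.fpFst g f) hsurj)

end Groth.Agent.S12984
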