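import Mathlib
import Groth.Statements.S12988
import Groth.Agent.Lib.Helper19.QcPts2
import Groth.Agent.S12954
import Groth.Agent.S12955
import Groth.Agent.S12959

set_option autoImplicit false
universe u
open CategoryTheory AlgebraicGeometry
open AlgSt

namespace Groth.Agent.S12988

/-- Over a quasi-separated base scheme, a 2-fibre product of algebraic stacks that are quasi-compact and
quasi-separated over the base scheme is quasi-compact and quasi-separated over the base scheme. (The
published statement is about stacks quasi-compact and quasi-separated over the integers and puts no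
condition on the base scheme; this row assumes the base scheme quasi-separated and uses
quasi-separatedness over it. Without quasi-separatedness of the base the quasi-compactness
conclusion fails: for the base glued from two copies of infinite-dimensional affine space along the
complement of the origin, the two copies are quasi-compact and quasi-separated over the base while
their fibre product over the base is that complement, which is not quasi-compact.) -/
theorem result
    (S : Scheme.{u}) [QuasiSeparatedSpace S] (𝒳 : AlgSt.Cat S) (𝒴 : AlgSt.Cat S) (𝒵 : AlgSt.Cat S)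
    (h𝒳 : AlgSt.IsAlgStack Scheme.fppfPrecoverage 𝒳)
    (h𝒴 : AlgSt.IsAlgStack Scheme.fppfPrecoverage 𝒴)
    (h𝒵 : AlgSt.IsAlgStack Scheme.fppfPrecoverage 𝒵)
    (a : 𝒳 ⥤ᵇ 𝒴) (b : 𝒵 ⥤ᵇ 𝒴) :
    AlgSt.IsQuasiCompact 𝒳 → AlgSt.IsQuasiSeparatedOver 𝒳 →
      AlgSt.IsQuasiCompact 𝒴 → AlgSt.IsQuasiSeparatedOver 𝒴 →
      AlgSt.IsQuasiCompact 𝒵 → AlgSt.IsQuasiSeparatedOver 𝒵 →
      AlgSt.IsQuasiCompact (FibCat.fp a b) ∧ AlgSt.IsQuasiSeparatedOver (FibCat.fp a b) := by
  intro hX hXs hY hYs hZ hZs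
  have hself := Groth.Agent.Helper19.QcPts.isAlgStack_selfOver S
  have hfp : AlgSt.IsAlgStack Scheme.fppfPrecoverage (FibCat.fp a b) :=
    Groth.Agent.Helper19.ProdAlg.isAlgStack_fp h𝒴.isStack h𝒴.diag h𝒳 h𝒵 a b
  refine ⟨?_, ?_⟩
  · exact Groth.Agent.Helper19.QcPts.isQuasiCompactMor_of_isQuasiCompact_of_isQuasiSeparatedOver h𝒵 h𝒴 b hZ hYs
      𝒳 h𝒳 hX a
  · have hbs : AlgSt.IsQuasiSeparatedMor (BasedFunctor.comp b (FibCat.toSelf 𝒴)) :=
      Groth.Agent.Helper19.CancelLib.repByAlgSpWith_diag_congr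
        (Groth.Agent.Helper19.DiagLib.selfOverIso (FibCat.toSelf 𝒵) (BasedFunctor.comp b (FibCat.toSelf 𝒴))) hZs
    have hb : AlgSt.IsQuasiSeparatedMor b :=
      Groth.Agent.S12959.result S 𝒵 𝒴 _ h𝒵 h𝒴 hself b (FibCat.toSelf 𝒴) hbs
        (Groth.Agent.Helper19.CancelLib.repByAlgSpWith_mono (fun _ _ _ h => h.2) hYs)
    have h1 : AlgSt.IsQuasiSeparatedMor (FibCat.fpFst a b) :=
      Groth.Agent.S12954.result S 𝒵 𝒴 𝒳 h𝒵 h𝒴 h𝒳 b a hb
    have h2 : AlgSt.IsQuasiSeparatedMor (BasedFunctor.comp (FibCat.fpFst a b) (FibCat.toSelf 𝒳)) :=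
      Groth.Agent.S12955.result S _ 𝒳 _ hfp h𝒳 hself (FibCat.fpFst a b) (FibCat.toSelf 𝒳) h1 hXs
    exact Groth.Agent.Helper19.CancelLib.repByAlgSpWith_diag_congr
      (Groth.Agent.Helper19.DiagLib.selfOverIso (BasedFunctor.comp (FibCat.fpFst a b) (FibCat.toSelf 𝒳))
        (FibCat.toSelf (FibCat.fp a b))) h2

end Groth.Agent.S12988
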