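import Groth.Statements.S1303
import Groth.Agent.Lib.Helper2.Thickening

set_option autoImplicit false
universe u
open FlatMor

namespace Groth.Agent.S1303

open AlgebraicGeometry CategoryTheory Limits in
/-- For a morphism of thickenings, that is a commutative square whose horizontal maps are thickenings
(closed immersions that are surjective on points), the morphism between the thin schemes is
quasi-compact if and only if the morphism between the thick ones is. -/
theorem result {X X' S S' : Scheme.{u}} (iX : X ⟶ X') (iS : S ⟶ S') (f : X ⟶ S) (f' : X' ⟶ S')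
    (hX : MoreMor.IsThickening iX) (hS : MoreMor.IsThickening iS) (w : iX ≫ f' = f ≫ iS) :
    QuasiCompact f ↔ QuasiCompact f' := by
  have hiX := Groth.Agent.Helper2.thick_isHomeomorph hX
  have hiS := Groth.Agent.Helper2.thick_isHomeomorph hS
  have hc : ∀ x : X, f' (iX x) = iS (f x) := fun x => by
    rw [← Scheme.Hom.comp_apply, ← Scheme.Hom.comp_apply, w]
  rw [quasiCompact_iff, quasiCompact_iff]
  constructor
  · intro h U hU hUc
    have e : f' ⁻¹' U = iX '' (f ⁻¹' (iS ⁻¹' U)) := by
      ext x'
      obtain ⟨x, rfl⟩ := hiX.surjective x'
      simp only [Set.mem_preimage, hc, Set.mem_image]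
      constructor
      · intro hx; exact ⟨x, hx, rfl⟩
      · rintro ⟨y, hy, hyx⟩
        rwa [← hiX.injective hyx]
    rw [e]
    apply IsCompact.image _ iX.continuous
    apply h _ (hU.preimage iS.continuous)
    exact hiS.isClosedEmbedding.isCompact_preimage hUc
  · intro h U hU hUc
    have e : f ⁻¹' U = iX ⁻¹' (f' ⁻¹' (iS '' U)) := by
      ext x
      simp only [Set.mem_preimage, hc, Set.mem_image]
      constructor
      · intro hx; exact ⟨_, hx, rfl⟩
      · rintro ⟨y, hy, hyx⟩
        rwa [← hiS.injective hyx]
    rw [e]
    apply hiX.isClosedEmbedding.isCompact_preimage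
    apply h _ (hiS.isOpenMap _ hU)
    exact hUc.image iS.continuous

end Groth.Agent.S1303
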