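import Groth.Statements.S13041
import Mathlib.RingTheory.Flat.Basic

set_option autoImplicit false
universe u
open MaxMod

namespace Groth.Agent.S13041

open TensorProduct

/-- Let R be a domain with fraction field K, let A → B be a homomorphism of commutative R-algebras that
are flat over R, with B module-finite over A, such that the induced map K ⊗_R A → K ⊗_R B is
bijective. If the A-linear map Hom_A(B, A) → A evaluating at 1 is surjective, then A → B is
bijective. (The published statement concerns a finite morphism of flat schemes over a discrete
valuation ring, with locally free relative dualizing sheaves, that is an isomorphism over a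
schematically dense open and whose trace map on dualizing sheaves is surjective; this row is the
statement about rings to which the printed proof reduces it and which that proof establishes, and
the argument uses only that R is a domain.) -/
theorem result
    (R K A B : Type u) [CommRing R] [IsDomain R] [Field K] [Algebra R K] [IsFractionRing R K]
    [CommRing A] [CommRing B] [Algebra R A] [Algebra R B] [Algebra A B] [IsScalarTower R A B]
    [Module.Flat R A] [Module.Flat R B] [Module.Finite A B]
    (hK : Function.Bijective
      (Algebra.TensorProduct.map (AlgHom.id R K) (IsScalarTower.toAlgHom R A B)))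
    (htr : Function.Surjective (fun u : B →ₗ[A] A => u 1)) :
    Function.Bijective (algebraMap A B) := by
  obtain ⟨u, hu⟩ := htr 1
  simp only at hu
  have hinj : ∀ a : A, u (algebraMap A B a) = a := by
    intro a
    rw [Algebra.algebraMap_eq_smul_one, map_smul, hu, smul_eq_mul, mul_one]
  refine ⟨Function.LeftInverse.injective hinj, fun b => ⟨u b, ?_⟩⟩
  set b' := b - algebraMap A B (u b) with hb'
  have hub' : u b' = 0 := by rw [hb', map_sub, hinj, sub_self]
  set T := Algebra.TensorProduct.map (AlgHom.id R K) (IsScalarTower.toAlgHom R A B) with hT
  let U : K ⊗[R] B →ₗ[R] K ⊗[R] A := LinearMap.lTensor K (u.restrictScalars R)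
  have hUT : ∀ z, U (T z) = z := by
    intro z
    induction z using TensorProduct.induction_on with
    | zero => simp
    | tmul k a =>
      simp only [hT, Algebra.TensorProduct.map_tmul, AlgHom.coe_id, id_eq, IsScalarTower.coe_toAlgHom',
        U, LinearMap.lTensor_tmul, LinearMap.coe_restrictScalars, hinj]
    | add x y hx hy => rw [map_add, map_add, hx, hy]
  obtain ⟨z, hz⟩ := hK.2 ((1 : K) ⊗ₜ[R] b')
  have hz0 : z = 0 := by
    rw [← hUT z, hz]
    simp only [U, LinearMap.lTensor_tmul, LinearMap.coe_restrictScalars, hub', tmul_zero]
  have h1 : (1 : K) ⊗ₜ[R] b' = 0 := by rw [← hz, hz0, map_zero]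
  have hflat : Function.Injective (LinearMap.rTensor B (Algebra.linearMap R K)) :=
    Module.Flat.rTensor_preserves_injective_linearMap _ (IsFractionRing.injective R K)
  have h2 : (1 : R) ⊗ₜ[R] b' = 0 := by
    apply hflat
    rw [LinearMap.rTensor_tmul, Algebra.linearMap_apply, map_one, h1, map_zero]
  have h3 : b' = 0 := by
    have := congrArg (TensorProduct.lid R B) h2
    simpa using this
  rw [hb', sub_eq_zero] at h3
  exact h3.symm

end Groth.Agent.S13041
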