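import Groth.Statements.S13042
import Mathlib

set_option autoImplicit false
universe u
open MaxMod

namespace Groth.Agent.S13042

theorem add_pow_p {S : Type*} [CommRing S] (p : ℕ) (hp : p.Prime) (hpS : (p : S) = 0) (x y : S) :
    (x + y) ^ p = x ^ p + y ^ p := by
  rw [add_pow_prime_eq hp, hpS]
  ring

theorem sub_pow_p {S : Type*} [CommRing S] (p : ℕ) (hp : p.Prime) (hpS : (p : S) = 0) (x y : S) :
    (x - y) ^ p = x ^ p - y ^ p := by
  have := add_pow_p p hp hpS (x - y) y
  rw [sub_add_cancel] at this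
  rw [this]
  ring


open MvPolynomial in
/-- Let p be a prime, R a local ring of characteristic p, λ an element of the maximal ideal of R and f ∈
R. Then there is an isomorphism of R-algebras R[W₁, W₂]/(W₁^p − f, W₂^p − f) ≅ R[x, W]/(x^p, W^p −
f) with W₁ ↦ x + W + λ·x·W and W₂ ↦ W; that is, Spec R[W]/(W^p − f) with the action w ↦ x + w + λxw
is a torsor under the group scheme Spec R[x]/(x^p) with law x₁ ∘ x₂ = x₁ + x₂ + λx₁x₂. (The
published statement is over a complete discrete valuation ring of characteristic p with λ a nonzero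
nonunit, and also asserts that for f in the fraction field with negative valuation v(f) > −p·v(λ)
the torsor W^p = f extends to a torsor over R, using the coordinate 1/W; that second case fails: for
p = 2, λ = π a uniformizer and f = 1/π, every model is Spec R[π^a t] with t² = π, and none of these
is a torsor since the coaction sends t to t − π(1 + t)x. Only the case f ∈ R is stated, and the
argument there uses only that R is local of characteristic p.) -/
theorem result
    (p : ℕ) [Fact p.Prime] (R : Type u) [CommRing R] [IsLocalRing R] [CharP R p]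
    (lam f : R) (hlam : lam ∈ IsLocalRing.maximalIdeal R) :
    ∃ e : (MvPolynomial (Fin 2) R ⧸ Ideal.span {(X 0 ^ p - C f : MvPolynomial (Fin 2) R), X 1 ^ p - C f}) ≃ₐ[R]
        (MvPolynomial (Fin 2) R ⧸ Ideal.span {(X 0 ^ p : MvPolynomial (Fin 2) R), X 1 ^ p - C f}),
      e (Ideal.Quotient.mk _ (X 0)) = Ideal.Quotient.mk _ (X 0 + X 1 + C lam * X 0 * X 1) ∧
      e (Ideal.Quotient.mk _ (X 1)) = Ideal.Quotient.mk _ (X 1) := by
  classical
  have hp : p.Prime := Fact.out
  set I₁ : Ideal (MvPolynomial (Fin 2) R) :=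
    Ideal.span {(X 0 ^ p - C f : MvPolynomial (Fin 2) R), X 1 ^ p - C f} with hI₁
  set I₂ : Ideal (MvPolynomial (Fin 2) R) :=
    Ideal.span {(X 0 ^ p : MvPolynomial (Fin 2) R), X 1 ^ p - C f} with hI₂
  have hpS : ∀ (S : Type u) [CommRing S] [Algebra R S], ((p : ℕ) : S) = 0 := by
    intro S _ _
    rw [← map_natCast (algebraMap R S) p, CharP.cast_eq_zero R p, map_zero]
  have hmkC : ∀ (I : Ideal (MvPolynomial (Fin 2) R)) (a : R),
      Ideal.Quotient.mk I (C a) = algebraMap R (MvPolynomial (Fin 2) R ⧸ I) a := fun I a => rfl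
  -- elements of the target
  set x : MvPolynomial (Fin 2) R ⧸ I₂ := Ideal.Quotient.mk I₂ (X 0) with hxdef
  set W : MvPolynomial (Fin 2) R ⧸ I₂ := Ideal.Quotient.mk I₂ (X 1) with hWdef
  have hx : x ^ p = 0 := by
    rw [hxdef, ← map_pow]
    exact Ideal.Quotient.eq_zero_iff_mem.2 (Ideal.subset_span (by simp))
  have hW : W ^ p = algebraMap R _ f := by
    have h0 : Ideal.Quotient.mk I₂ (X 1 ^ p - C f) = 0 :=
      Ideal.Quotient.eq_zero_iff_mem.2 (Ideal.subset_span (by simp))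
    rw [map_sub, map_pow, sub_eq_zero, hmkC] at h0
    exact h0
  -- elements of the source
  set W₁ : MvPolynomial (Fin 2) R ⧸ I₁ := Ideal.Quotient.mk I₁ (X 0) with hW₁def
  set W₂ : MvPolynomial (Fin 2) R ⧸ I₁ := Ideal.Quotient.mk I₁ (X 1) with hW₂def
  have hW₁ : W₁ ^ p = algebraMap R _ f := by
    have h0 : Ideal.Quotient.mk I₁ (X 0 ^ p - C f) = 0 :=
      Ideal.Quotient.eq_zero_iff_mem.2 (Ideal.subset_span (by simp))
    rw [map_sub, map_pow, sub_eq_zero, hmkC] at h0
    exact h0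
  have hW₂ : W₂ ^ p = algebraMap R _ f := by
    have h0 : Ideal.Quotient.mk I₁ (X 1 ^ p - C f) = 0 :=
      Ideal.Quotient.eq_zero_iff_mem.2 (Ideal.subset_span (by simp))
    rw [map_sub, map_pow, sub_eq_zero, hmkC] at h0
    exact h0
  -- the unit 1 + lam W₂
  have hunitR : IsUnit (1 + lam ^ p * f) := by
    by_contra h
    have h1 : 1 + lam ^ p * f ∈ IsLocalRing.maximalIdeal R := (IsLocalRing.mem_maximalIdeal _).2 h
    have h2 : lam ^ p * f ∈ IsLocalRing.maximalIdeal R :=
      Ideal.mul_mem_right _ _ (Ideal.pow_mem_of_mem _ hlam p hp.pos)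
    have h3 : (1 : R) ∈ IsLocalRing.maximalIdeal R := by
      have := Ideal.sub_mem _ h1 h2
      simpa using this
    exact (Ideal.ne_top_iff_one _).1 (IsLocalRing.maximalIdeal.isMaximal R).ne_top h3
  have hupow : (1 + algebraMap R (MvPolynomial (Fin 2) R ⧸ I₁) lam * W₂) ^ p =
      algebraMap R _ (1 + lam ^ p * f) := by
    rw [add_pow_p p hp (hpS _), one_pow, mul_pow, hW₂, map_add, map_one, map_mul, map_pow]
  have hu : IsUnit (1 + algebraMap R (MvPolynomial (Fin 2) R ⧸ I₁) lam * W₂) := by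
    rw [← isUnit_pow_iff hp.ne_zero, hupow]
    exact hunitR.map _
  obtain ⟨v, hv⟩ := hu.exists_right_inv
  -- forward map
  let g₁ : MvPolynomial (Fin 2) R →ₐ[R] (MvPolynomial (Fin 2) R ⧸ I₂) :=
    aeval ![x + W + algebraMap R _ lam * x * W, W]
  have hg₁0 : g₁ (X 0) = x + W + algebraMap R _ lam * x * W := by
    simp [g₁]
  have hg₁1 : g₁ (X 1) = W := by
    simp [g₁]
  have hg₁ : ∀ a ∈ I₁, g₁ a = 0 := by
    have hle : I₁ ≤ RingHom.ker g₁.toRingHom := by
      rw [hI₁, Ideal.span_le]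
      intro a ha
      rcases ha with rfl | rfl
      · show g₁ (X 0 ^ p - C f) = 0
        rw [map_sub, map_pow, hg₁0, ← algebraMap_eq, AlgHom.commutes,
          add_pow_p p hp (hpS _), add_pow_p p hp (hpS _), mul_pow, mul_pow, hx, hW]
        ring
      · show g₁ (X 1 ^ p - C f) = 0
        rw [map_sub, map_pow, hg₁1, ← algebraMap_eq, AlgHom.commutes, hW, sub_self]
    intro a ha
    exact hle ha
  let e₁ : (MvPolynomial (Fin 2) R ⧸ I₁) →ₐ[R] (MvPolynomial (Fin 2) R ⧸ I₂) :=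
    Ideal.Quotient.liftₐ I₁ g₁ hg₁
  -- backward map
  let g₂ : MvPolynomial (Fin 2) R →ₐ[R] (MvPolynomial (Fin 2) R ⧸ I₁) :=
    aeval ![(W₁ - W₂) * v, W₂]
  have hg₂0 : g₂ (X 0) = (W₁ - W₂) * v := by
    simp [g₂]
  have hg₂1 : g₂ (X 1) = W₂ := by
    simp [g₂]
  have hg₂ : ∀ a ∈ I₂, g₂ a = 0 := by
    have hle : I₂ ≤ RingHom.ker g₂.toRingHom := by
      rw [hI₂, Ideal.span_le]
      intro a ha
      rcases ha with rfl | rfl
      · show g₂ (X 0 ^ p) = 0
        rw [map_pow, hg₂0, mul_pow, sub_pow_p p hp (hpS _), hW₁, hW₂, sub_self, zero_mul]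
      · show g₂ (X 1 ^ p - C f) = 0
        rw [map_sub, map_pow, hg₂1, ← algebraMap_eq, AlgHom.commutes, hW₂, sub_self]
    intro a ha
    exact hle ha
  let e₂ : (MvPolynomial (Fin 2) R ⧸ I₂) →ₐ[R] (MvPolynomial (Fin 2) R ⧸ I₁) :=
    Ideal.Quotient.liftₐ I₂ g₂ hg₂
  have he₁W₁ : e₁ W₁ = x + W + algebraMap R _ lam * x * W := by
    show e₁ (Ideal.Quotient.mk I₁ (X 0)) = _
    rw [Ideal.Quotient.liftₐ_apply, Ideal.Quotient.lift_mk]
    exact hg₁0
  have he₁W₂ : e₁ W₂ = W := by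
    show e₁ (Ideal.Quotient.mk I₁ (X 1)) = _
    rw [Ideal.Quotient.liftₐ_apply, Ideal.Quotient.lift_mk]
    exact hg₁1
  have he₂x : e₂ x = (W₁ - W₂) * v := by
    show e₂ (Ideal.Quotient.mk I₂ (X 0)) = _
    rw [Ideal.Quotient.liftₐ_apply, Ideal.Quotient.lift_mk]
    exact hg₂0
  have he₂W : e₂ W = W₂ := by
    show e₂ (Ideal.Quotient.mk I₂ (X 1)) = _
    rw [Ideal.Quotient.liftₐ_apply, Ideal.Quotient.lift_mk]
    exact hg₂1
  have h12 : e₁.comp e₂ = AlgHom.id R _ := by
    apply Ideal.Quotient.algHom_ext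
    apply MvPolynomial.algHom_ext
    intro i
    have hv' : e₁ (1 + algebraMap R _ lam * W₂) * e₁ v = 1 := by
      rw [← map_mul, hv, map_one]
    rw [map_add, map_one, map_mul, AlgHom.commutes, he₁W₂] at hv'
    fin_cases i
    · show e₁ (e₂ x) = x
      rw [he₂x, map_mul, map_sub, he₁W₁, he₁W₂]
      calc (x + W + algebraMap R _ lam * x * W - W) * e₁ v
          = x * ((1 + algebraMap R _ lam * W) * e₁ v) := by ring
        _ = x := by rw [hv', mul_one]
    · show e₁ (e₂ W) = W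
      rw [he₂W, he₁W₂]
  have h21 : e₂.comp e₁ = AlgHom.id R _ := by
    apply Ideal.Quotient.algHom_ext
    apply MvPolynomial.algHom_ext
    intro i
    fin_cases i
    · show e₂ (e₁ W₁) = W₁
      rw [he₁W₁, map_add, map_add, map_mul, map_mul, AlgHom.commutes, he₂x, he₂W]
      calc (W₁ - W₂) * v + W₂ + algebraMap R _ lam * ((W₁ - W₂) * v) * W₂
          = (W₁ - W₂) * ((1 + algebraMap R _ lam * W₂) * v) + W₂ := by ring
        _ = W₁ := by rw [hv, mul_one, sub_add_cancel]
    · show e₂ (e₁ W₂) = W₂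
      rw [he₁W₂, he₂W]
  refine ⟨AlgEquiv.ofAlgHom e₁ e₂ h12 h21, ?_, ?_⟩
  · show e₁ W₁ = _
    rw [he₁W₁, map_add, map_add, map_mul, map_mul, hmkC]
  · show e₁ W₂ = _
    exact he₁W₂

end Groth.Agent.S13042
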