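import Groth.Statements.S13044
import Groth.Agent.Lib.Helper23.SchDense

set_option autoImplicit false
universe u
open MaxMod

namespace Groth.Agent.S13044

open CategoryTheory Limits AlgebraicGeometry in
/-- Let R be a discrete valuation ring with fraction field K, let Y be a flat separated R-scheme and let
Γ → Y ×_R Y be a closed subscheme, with projections p₁, p₂ : Γ → Y, such that Γ is flat over R
(equivalently, Γ is the schematic closure of its generic fibre) and p₁, p₂ are flat. If for every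
scheme T over Spec K the relation on the T-valued points of Y defined by the T-valued points of Γ is
an equivalence relation, then for every scheme T over Spec R that relation is an equivalence
relation: Γ is a flat equivalence relation on Y. -/
theorem result
    (R K : Type u) [CommRing R] [IsDomain R] [IsDiscreteValuationRing R]
    [Field K] [Algebra R K] [IsFractionRing R K]
    (Y Γ : Scheme.{u}) (f : Y ⟶ Spec (CommRingCat.of R)) [IsSeparated f] [Flat f]
    (p₁ p₂ : Γ ⟶ Y) (h : p₁ ≫ f = p₂ ≫ f)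
    (hΓ : IsClosedImmersion (pullback.lift p₁ p₂ h))
    [Flat (p₁ ≫ f)] [Flat p₁] [Flat p₂]
    (hK : ∀ (T : Scheme.{u}) (t : T ⟶ Spec (CommRingCat.of R)),
      (∃ s : T ⟶ Spec (CommRingCat.of K), t = s ≫ Spec.map (CommRingCat.ofHom (algebraMap R K))) →
      _root_.Equivalence fun a b : {a : T ⟶ Y // a ≫ f = t} =>
        ∃ c : T ⟶ Γ, c ≫ p₁ = a.1 ∧ c ≫ p₂ = b.1) :
    ∀ (T : Scheme.{u}) (t : T ⟶ Spec (CommRingCat.of R)),
      _root_.Equivalence fun a b : {a : T ⟶ Y // a ≫ f = t} =>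
        ∃ c : T ⟶ Γ, c ≫ p₁ = a.1 ∧ c ≫ p₂ = b.1 := by
  have hγ1 : pullback.lift p₁ p₂ h ≫ pullback.fst f f = p₁ := pullback.lift_fst _ _ _
  have hγ2 : pullback.lift p₁ p₂ h ≫ pullback.snd f f = p₂ := pullback.lift_snd _ _ _
  have key : ∀ (Z : Scheme.{u}) (g : Z ⟶ Spec (CommRingCat.of R)) [Flat g] (a b : Z ⟶ Y)
      (ha : a ≫ f = g) (hb : b ≫ f = g),
      (∃ c : pullback g (Spec.map (CommRingCat.ofHom (algebraMap R K))) ⟶ Γ,
        c ≫ p₁ = pullback.fst g (Spec.map (CommRingCat.ofHom (algebraMap R K))) ≫ a ∧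
        c ≫ p₂ = pullback.fst g (Spec.map (CommRingCat.ofHom (algebraMap R K))) ≫ b) →
      ∃ m : Z ⟶ Γ, m ≫ p₁ = a ∧ m ≫ p₂ = b := by
    intro Z g _ a b ha hb ⟨c, hc1, hc2⟩
    have := Groth.Agent.Helper23.SchDense.isSchemeTheoreticallyDominant_genericFibre R K g
    obtain ⟨m, hm⟩ := Groth.Agent.Helper23.SchDense.exists_lift_of_dominant
      (pullback.lift p₁ p₂ h) (pullback.lift a b (ha.trans hb.symm))
      (pullback.fst g (Spec.map (CommRingCat.ofHom (algebraMap R K)))) c (by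
        apply pullback.hom_ext
        · rw [Category.assoc, hγ1, Category.assoc, pullback.lift_fst, hc1]
        · rw [Category.assoc, hγ2, Category.assoc, pullback.lift_snd, hc2])
    refine ⟨m, ?_, ?_⟩
    · rw [← hγ1, ← Category.assoc, hm, pullback.lift_fst]
    · rw [← hγ2, ← Category.assoc, hm, pullback.lift_snd]
  obtain ⟨δ, hδ1, hδ2⟩ : ∃ δ : Y ⟶ Γ, δ ≫ p₁ = 𝟙 Y ∧ δ ≫ p₂ = 𝟙 Y := by
    apply key Y f (𝟙 Y) (𝟙 Y) (Category.id_comp _) (Category.id_comp _)
    have hE := hK (pullback f (Spec.map (CommRingCat.ofHom (algebraMap R K))))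
      (pullback.fst f (Spec.map (CommRingCat.ofHom (algebraMap R K))) ≫ f)
      ⟨pullback.snd f _, pullback.condition⟩
    obtain ⟨c, hc1, hc2⟩ := hE.refl ⟨pullback.fst f _, rfl⟩
    exact ⟨c, by rw [Category.comp_id]; exact hc1, by rw [Category.comp_id]; exact hc2⟩
  obtain ⟨σ, hσ1, hσ2⟩ : ∃ σ : Γ ⟶ Γ, σ ≫ p₁ = p₂ ∧ σ ≫ p₂ = p₁ := by
    apply key Γ (p₁ ≫ f) p₂ p₁ h.symm rfl
    have hE := hK (pullback (p₁ ≫ f) (Spec.map (CommRingCat.ofHom (algebraMap R K))))
      (pullback.fst (p₁ ≫ f) (Spec.map (CommRingCat.ofHom (algebraMap R K))) ≫ p₁ ≫ f)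
      ⟨pullback.snd _ _, pullback.condition⟩
    exact hE.symm (x := ⟨pullback.fst _ _ ≫ p₁, by rw [Category.assoc]⟩)
      (y := ⟨pullback.fst _ _ ≫ p₂, by rw [Category.assoc, h]⟩) ⟨pullback.fst _ _, rfl, rfl⟩
  obtain ⟨τ, hτ1, hτ2⟩ : ∃ τ : pullback p₂ p₁ ⟶ Γ, τ ≫ p₁ = pullback.fst p₂ p₁ ≫ p₁ ∧
      τ ≫ p₂ = pullback.snd p₂ p₁ ≫ p₂ := by
    have hcond : pullback.fst p₂ p₁ ≫ p₂ = pullback.snd p₂ p₁ ≫ p₁ := pullback.condition
    have hflat : Flat (pullback.fst p₂ p₁ ≫ p₁ ≫ f) := inferInstance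
    apply key _ (pullback.fst p₂ p₁ ≫ p₁ ≫ f) (pullback.fst p₂ p₁ ≫ p₁) (pullback.snd p₂ p₁ ≫ p₂)
      (by rw [Category.assoc])
      (by rw [Category.assoc, ← h, ← Category.assoc, ← hcond, Category.assoc, ← h])
    have hE := hK (pullback (pullback.fst p₂ p₁ ≫ p₁ ≫ f)
        (Spec.map (CommRingCat.ofHom (algebraMap R K))))
      (pullback.fst (pullback.fst p₂ p₁ ≫ p₁ ≫ f)
        (Spec.map (CommRingCat.ofHom (algebraMap R K))) ≫ pullback.fst p₂ p₁ ≫ p₁ ≫ f)
      ⟨pullback.snd _ _, pullback.condition⟩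
    exact hE.trans
      (x := ⟨pullback.fst _ _ ≫ pullback.fst p₂ p₁ ≫ p₁, by simp only [Category.assoc]⟩)
      (y := ⟨pullback.fst _ _ ≫ pullback.fst p₂ p₁ ≫ p₂, by simp only [Category.assoc, h]⟩)
      (z := ⟨pullback.fst _ _ ≫ pullback.snd p₂ p₁ ≫ p₂, by
        simp only [Category.assoc]
        rw [← h, ← Category.assoc (pullback.snd p₂ p₁), ← hcond, Category.assoc, ← h]⟩)
      ⟨pullback.fst _ _ ≫ pullback.fst p₂ p₁, by simp only [Category.assoc],
        by simp only [Category.assoc]⟩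
      ⟨pullback.fst _ _ ≫ pullback.snd p₂ p₁, by simp only [Category.assoc, hcond],
        by simp only [Category.assoc]⟩
  intro T t
  refine ⟨?_, ?_, ?_⟩
  · intro a
    exact ⟨a.1 ≫ δ, by rw [Category.assoc, hδ1, Category.comp_id],
      by rw [Category.assoc, hδ2, Category.comp_id]⟩
  · rintro a b ⟨c, hc1, hc2⟩
    exact ⟨c ≫ σ, by rw [Category.assoc, hσ1, hc2], by rw [Category.assoc, hσ2, hc1]⟩
  · rintro a b c ⟨c₁, h1, h2⟩ ⟨c₂, h3, h4⟩
    refine ⟨pullback.lift c₁ c₂ (by rw [h2, h3]) ≫ τ, ?_, ?_⟩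
    · rw [Category.assoc, hτ1, ← Category.assoc, pullback.lift_fst, h1]
    · rw [Category.assoc, hτ2, ← Category.assoc, pullback.lift_snd, h4]

end Groth.Agent.S13044
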