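import Mathlib
import Groth.Statements.S13048
-- import your own Groth.Agent.* helpers here

set_option autoImplicit false
universe u
open FrobAlg

namespace Groth.Agent.S13048

/-- Let k be an algebraically closed field of characteristic p > 0 and let A be a reduced finitely
generated commutative k-algebra with connected spectrum (A ≠ 0 and 0, 1 are its only idempotents).
If x ∈ A is a p^n-th power in A for every n ≥ 0, then x lies in the image of k; that is, ⋂_n A^{p^n}
= k. (The published statement is: for an artinian local ring R of characteristic p and a flat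
R-algebra A of finite type, the maps A^ét → O(π₀(A)) → A^{p^∞/R} from the largest étale subalgebra
to the preperfection are isomorphisms. This row is the case R = k algebraically closed and A reduced
with connected spectrum, where A^ét = k and the preperfection is ⋂_n A^{p^n}; the printed proof
reduces to this case and its last step proves it.) -/
theorem result
    (p : ℕ) [Fact p.Prime] (k : Type u) [Field k] [IsAlgClosed k] [CharP k p]
    (A : Type u) [CommRing A] [Algebra k A] [Algebra.FiniteType k A] [IsReduced A] [Nontrivial A]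
    (hconn : ∀ e : A, IsIdempotentElem e → e = 0 ∨ e = 1)
    (x : A) (hx : ∀ n : ℕ, ∃ a : A, a ^ p ^ n = x) :
    x ∈ (algebraMap k A).range := by
  have : CharP A p := charP_of_injective_algebraMap (algebraMap k A).injective p
  have : IsNoetherianRing A := Algebra.FiniteType.isNoetherianRing k A
  have hp : p.Prime := Fact.out
  -- key local statement
  have key : ∀ m : Ideal A, m.IsMaximal →
      ∃ c : k, ∃ s : A, s ∉ m ∧ s * (x - algebraMap k A c) = 0 := by
    intro m hm
    let := Ideal.Quotient.field m
    have : Module.Finite k (A ⧸ m) := finite_of_finite_type_of_isJacobsonRing k (A ⧸ m)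
    have hbij : Function.Bijective (algebraMap k (A ⧸ m)) :=
      IsAlgClosed.algebraMap_bijective_of_isIntegral
    obtain ⟨c, hc⟩ := hbij.2 (Ideal.Quotient.mk m x)
    refine ⟨c, ?_⟩
    have hxc : x - algebraMap k A c ∈ m := by
      rw [← Ideal.Quotient.eq, ← hc]
      rfl
    have hmem : x - algebraMap k A c ∈ (⨅ n : ℕ, m ^ n • ⊤ : Submodule A A) := by
      rw [Submodule.mem_iInf]
      intro n
      obtain ⟨a, ha⟩ := hx n
      obtain ⟨d, hd⟩ : ∃ d : k, d ^ p ^ n = c := by
        have := IsAlgClosed.exists_pow_nat_eq c (n := p ^ n) (pow_pos hp.pos n)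
        exact this
      have h1 : x - algebraMap k A c = (a - algebraMap k A d) ^ p ^ n := by
        rw [sub_pow_char_pow, ha, ← map_pow, hd]
      have hmem1 : a - algebraMap k A d ∈ m := by
        have : (a - algebraMap k A d) ^ p ^ n ∈ m := by rw [← h1]; exact hxc
        exact hm.isPrime.mem_of_pow_mem _ this
      rw [h1, smul_eq_mul, Ideal.mul_top]
      exact Ideal.pow_le_pow_right (Nat.lt_pow_self hp.one_lt).le (Ideal.pow_mem_pow hmem1 _)
    obtain ⟨r, hr⟩ := (Ideal.mem_iInf_smul_pow_eq_bot_iff m (x - algebraMap k A c)).1 hmem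
    refine ⟨1 - r, ?_, ?_⟩
    · intro h
      have : (1 : A) ∈ m := by
        have := m.add_mem h r.2
        simpa using this
      exact hm.ne_top ((Ideal.eq_top_iff_one m).2 this)
    · rw [sub_mul, one_mul, ← smul_eq_mul (r : A), hr, sub_self]
  obtain ⟨m0, hm0⟩ := Ideal.exists_maximal A
  obtain ⟨c0, s0, hs0, hs0'⟩ := key m0 hm0
  have hxc0 : x - algebraMap k A c0 ∈ m0 :=
    (hm0.isPrime.mem_or_mem (hs0' ▸ m0.zero_mem)).resolve_left hs0
  let I : k → Ideal A := fun c => LinearMap.ker (LinearMap.mulRight A (x - algebraMap k A c))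
  have hI : ∀ c s, s ∈ I c ↔ s * (x - algebraMap k A c) = 0 := by
    intro c s
    simp only [I, LinearMap.mem_ker, LinearMap.mulRight_apply]
  have hunit : ∀ c, c ≠ c0 → IsUnit (algebraMap k A c - algebraMap k A c0) := by
    intro c hc
    rw [← map_sub]
    exact (IsUnit.mk0 _ (sub_ne_zero.2 hc)).map _
  let K : Ideal A := ⨆ c : {c : k // c ≠ c0}, I c.1
  have hIm0 : ∀ c, c ≠ c0 → I c ≤ m0 := by
    intro c hc s hs
    rw [hI] at hs
    rcases hm0.isPrime.mem_or_mem (hs ▸ m0.zero_mem) with h | h
    · exact h
    · exfalso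
      have h2 : algebraMap k A c - algebraMap k A c0 ∈ m0 := by
        have := m0.sub_mem hxc0 h
        simpa using this
      exact hm0.ne_top (Ideal.eq_top_of_isUnit_mem _ h2 (hunit c hc))
  have hKm0 : K ≤ m0 := iSup_le fun c => hIm0 c.1 c.2
  have htop : I c0 ⊔ K = ⊤ := by
    by_contra hne
    obtain ⟨m, hm, hle⟩ := Ideal.exists_le_maximal _ hne
    obtain ⟨c, s, hs, hs'⟩ := key m hm
    apply hs
    by_cases hc : c = c0
    · subst hc
      exact hle (Ideal.mem_sup_left ((hI _ _).2 hs'))
    · exact hle (Ideal.mem_sup_right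
        (Ideal.mem_iSup_of_mem (⟨c, hc⟩ : {c : k // c ≠ c0}) ((hI _ _).2 hs')))
  obtain ⟨e, he, e', he', hsum⟩ := Submodule.mem_sup.1 (htop ▸ Submodule.mem_top : (1 : A) ∈ I c0 ⊔ K)
  have hee' : ∀ z ∈ K, e * z = 0 := by
    intro z hz
    refine Submodule.iSup_induction (fun c : {c : k // c ≠ c0} => I c.1)
      (motive := fun z => e * z = 0) hz ?_ (mul_zero e) ?_
    · intro c z hz
      rw [hI] at hz he
      have h3 : e * z * (algebraMap k A c.1 - algebraMap k A c0) = 0 := by
        linear_combination z * he - e * hz
      exact (hunit c.1 c.2).mul_left_eq_zero.1 h3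
    · intro a b ha hb
      rw [mul_add, ha, hb, add_zero]
  have hidem : IsIdempotentElem e := by
    unfold IsIdempotentElem
    have := hee' e' he'
    calc e * e = e * (e + e') := by rw [mul_add, this, add_zero]
      _ = e := by rw [hsum, mul_one]
  rcases hconn e hidem with h0 | h1
  · exfalso
    rw [h0, zero_add] at hsum
    rw [hsum] at he'
    exact hm0.ne_top ((Ideal.eq_top_iff_one m0).2 (hKm0 he'))
  · rw [h1, hI, one_mul, sub_eq_zero] at he
    exact ⟨c0, he.symm⟩

end Groth.Agent.S13048
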