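import Groth.Statements.S13049
import Mathlib.Algebra.CharP.Lemmas

set_option autoImplicit false
universe u
open FrobAlg

namespace Groth.Agent.S13049

/-- Let p be a prime and A a commutative ring of characteristic p whose nilradical N satisfies x^(p^e) =
0 for all x ∈ N and some fixed e (for instance A Noetherian). Then the map between the inverse-limit
perfections along the absolute Frobenius, lim (⋯ → A → A) → lim (⋯ → A/N → A/N), induced by the
projection A → A/N, is bijective. (The published argument takes A of finite type over a field, where
the nilradical is finitely generated; this row assumes only that the nilradical is killed by one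
fixed iterate of Frobenius, which is all that argument uses.) -/
theorem result
    (p : ℕ) [Fact p.Prime] (A : Type u) [CommRing A] [CharP A p]
    [CharP (A ⧸ nilradical A) p] (e : ℕ) (he : ∀ x ∈ nilradical A, x ^ p ^ e = 0) :
    Function.Bijective (Perfection.map p (Ideal.Quotient.mk (nilradical A))) := by
  have key : ∀ a b : A, a - b ∈ nilradical A → a ^ p ^ e = b ^ p ^ e := by
    intro a b hab
    have := he _ hab
    rw [sub_pow_char_pow] at this
    exact sub_eq_zero.mp this
  constructor
  · intro f g hfg
    apply Perfection.ext
    intro n
    have h1 : ∀ m, Perfection.coeff A p m f - Perfection.coeff A p m g ∈ nilradical A := by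
      intro m
      have := congrArg (Perfection.coeff (A ⧸ nilradical A) p m) hfg
      rw [Perfection.coeff_map, Perfection.coeff_map] at this
      rw [← Ideal.Quotient.eq]
      exact this
    have h2 := key _ _ (h1 (n + e))
    have hf : Perfection.coeff A p (n + e) f ^ p ^ e = Perfection.coeff A p n f :=
      Perfection.coeffMonoidHom_pow_p_pow' f n e
    have hg : Perfection.coeff A p (n + e) g ^ p ^ e = Perfection.coeff A p n g :=
      Perfection.coeffMonoidHom_pow_p_pow' g n e
    rw [← hf, ← hg, h2]
  · intro c
    choose a ha using fun n => Ideal.Quotient.mk_surjective (Perfection.coeff (A ⧸ nilradical A) p n c)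
    have hstep : ∀ n, (a (n + 1)) ^ p - a n ∈ nilradical A := by
      intro n
      rw [← Ideal.Quotient.eq, map_pow, ha, ha]
      exact Perfection.coeff_pow_p' c n
    have hf : ∀ n, (a (n + 1 + e) ^ p ^ e) ^ p = a (n + e) ^ p ^ e := by
      intro n
      have h := key _ _ (hstep (n + e))
      rw [← h, ← pow_mul, ← pow_mul, mul_comm, show n + 1 + e = n + e + 1 by ring]
    let f : Perfection A p := ⟨fun n => a (n + e) ^ p ^ e, hf⟩
    refine ⟨f, ?_⟩
    apply Perfection.ext
    intro n
    rw [Perfection.coeff_map]
    show Ideal.Quotient.mk (nilradical A) (a (n + e) ^ p ^ e) = _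
    rw [map_pow, ha]
    exact Perfection.coeffMonoidHom_pow_p_pow' c n e

end Groth.Agent.S13049
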