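import Mathlib
import Groth.Statements.S13051
import Groth.Agent.Lib.Helper19.ZetaPS
-- import your own Groth.Agent.* helpers here

set_option autoImplicit false
universe u
open CategoryTheory AlgebraicGeometry
open Zeta

namespace Groth.Agent.S13051

open Groth.Agent.Helper19.ZetaPS PowerSeries in
theorem aux (a : ℕ → ℕ) (g : ℚ⟦X⟧)
    (hg : g = PowerSeries.mk fun m => ((∑ e ∈ m.divisors, e * a e : ℕ) : ℚ) / m) :
    (∀ n : ℕ, PowerSeries.trunc (n + 1)
        ((exp ℚ).subst g * ∏ r ∈ Finset.Icc 1 n, (1 - PowerSeries.X ^ r) ^ a r) = 1) ∧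
      ∀ n : ℕ, ∃ z : ℤ, PowerSeries.coeff n ((exp ℚ).subst g) = (z : ℚ) := by
  have hg0 : constantCoeff g = 0 := by
    rw [hg, ← coeff_zero_eq_constantCoeff_apply, coeff_mk]
    simp
  have hdg : d⁄dX ℚ g = PowerSeries.mk fun m => ((∑ e ∈ (m + 1).divisors, e * a e : ℕ) : ℚ) := by
    ext m
    rw [coeff_derivative, hg, coeff_mk, coeff_mk]
    have : ((m + 1 : ℕ) : ℚ) ≠ 0 := by positivity
    push_cast at this ⊢
    field_simp
  have hLD : ∀ n, LD (E g * ∏ r ∈ Finset.Icc 1 n, (1 - X ^ r) ^ a r)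
      (d⁄dX ℚ g + ∑ r ∈ Finset.Icc 1 n, (a r : ℚ⟦X⟧) * hLin 1 r) := by
    intro n
    refine (LD_E g hg0).mul (LD.prod _ _ _ fun r hr => ?_)
    have hr1 : 1 ≤ r := (Finset.mem_Icc.1 hr).1
    have := (LD_one_sub 1 r hr1).pow (a r)
    simpa using this
  have hcoeff : ∀ n m, m < n →
      coeff m (d⁄dX ℚ g + ∑ r ∈ Finset.Icc 1 n, (a r : ℚ⟦X⟧) * hLin 1 r) = 0 := by
    intro n m hmn
    rw [map_add, map_sum, hdg, coeff_mk]
    have h1 : ∀ r ∈ Finset.Icc 1 n, coeff m ((a r : ℚ⟦X⟧) * hLin 1 r) =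
        if r ∣ m + 1 then -((r * a r : ℕ) : ℚ) else 0 := by
      intro r _
      rw [← map_natCast (C : ℚ →+* ℚ⟦X⟧), coeff_C_mul]
      simp only [hLin, coeff_mk, one_pow, mul_one]
      split_ifs
      · push_cast; ring
      · simp
    rw [Finset.sum_congr rfl h1, ← Finset.sum_filter, Finset.sum_neg_distrib]
    have hdiv : (m + 1).divisors = (Finset.Icc 1 n).filter (· ∣ m + 1) := by
      ext e
      simp only [Nat.mem_divisors, Finset.mem_filter, Finset.mem_Icc]
      constructor
      · rintro ⟨h, _⟩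
        exact ⟨⟨Nat.pos_of_dvd_of_pos h (by omega), (Nat.le_of_dvd (by omega) h).trans (by omega)⟩, h⟩
      · rintro ⟨_, h⟩
        exact ⟨h, by omega⟩
    rw [hdiv]
    push_cast
    ring
  have hc0 : ∀ n, constantCoeff (E g * ∏ r ∈ Finset.Icc 1 n, (1 - X ^ r) ^ a r) = 1 := by
    intro n
    rw [map_mul, constantCoeff_E g hg0, one_mul, map_prod]
    refine Finset.prod_eq_one fun r hr => ?_
    have hr1 : r ≠ 0 := by have := (Finset.mem_Icc.1 hr).1; omega
    simp [hr1]
  have hck : ∀ n k, 1 ≤ k → k ≤ n → coeff k (E g * ∏ r ∈ Finset.Icc 1 n, (1 - X ^ r) ^ a r) = 0 :=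
    fun n k hk1 hkn => (hLD n).coeff_eq_zero n (hcoeff n) k hk1 hkn
  refine ⟨fun n => ?_, fun n => ?_⟩
  · ext m
    rw [coeff_trunc]
    change (if m < n + 1 then coeff m (E g * _) else 0) = _
    rw [Polynomial.coeff_one]
    by_cases hm0 : m = 0
    · subst hm0
      rw [if_pos (by omega), if_pos rfl, coeff_zero_eq_constantCoeff_apply, hc0]
    · rw [if_neg hm0]
      split_ifs with h
      · exact hck n m (by omega) (by omega)
      · rfl
  · -- integrality
    let Pz : ℤ⟦X⟧ := ∏ r ∈ Finset.Icc 1 n, (1 - X ^ r) ^ a r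
    have hPz : IsUnit Pz := by
      rw [isUnit_iff_constantCoeff]
      have : constantCoeff Pz = 1 := by
        simp only [Pz, map_prod]
        refine Finset.prod_eq_one fun r hr => ?_
        have hr1 : r ≠ 0 := by have := (Finset.mem_Icc.1 hr).1; omega
        simp [hr1]
      rw [this]; exact isUnit_one
    obtain ⟨R, hR⟩ := hPz.exists_right_inv
    have hmap : PowerSeries.map (Int.castRingHom ℚ) Pz = ∏ r ∈ Finset.Icc 1 n, (1 - X ^ r) ^ a r := by
      simp [Pz, map_prod]
    have hR' : (∏ r ∈ Finset.Icc 1 n, ((1 : ℚ⟦X⟧) - X ^ r) ^ a r) *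
        PowerSeries.map (Int.castRingHom ℚ) R = 1 := by
      rw [← hmap, ← map_mul, hR, map_one]
    have hE : E g = (E g * ∏ r ∈ Finset.Icc 1 n, (1 - X ^ r) ^ a r) *
        PowerSeries.map (Int.castRingHom ℚ) R := by
      rw [mul_assoc, hR', mul_one]
    refine ⟨coeff n R, ?_⟩
    change coeff n (E g) = _
    rw [hE, coeff_mul, Finset.sum_eq_single (0, n)]
    · rw [coeff_zero_eq_constantCoeff_apply, hc0, one_mul, coeff_map]
      rfl
    · rintro ⟨i, j⟩ hij hne
      have hij' := Finset.HasAntidiagonal.mem_antidiagonal.1 hij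
      simp only at hij'
      have hi : i ≠ 0 := by
        rintro rfl
        apply hne
        simp only [zero_add] at hij'
        rw [hij']
      rw [hck n i (by omega) (by omega), zero_mul]
    · intro h
      exact absurd (Finset.HasAntidiagonal.mem_antidiagonal.2 (by simp)) h


/-- For a scheme X of finite type over a finite field k, Z(X, t) = ∏ over the closed points x of (1 −
t^{deg x})^{−1}, that is ∏_{r ≥ 1} (1 − t^r)^{−a_r} with a_r the number of closed points of residue
degree r; equivalently, for every n the product Z(X, t) · ∏_{r = 1}^{n} (1 − t^r)^{a_r} is ≡ 1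
modulo t^{n+1}. In particular Z(X, t) has integer coefficients. (Stated for any scheme of finite
type over k; reducedness plays no role.) -/
theorem result {k : Type u} [Field k] [Finite k] {X : Scheme.{u}}
    (f : X ⟶ Spec (CommRingCat.of k)) [LocallyOfFiniteType f] [QuasiCompact f] :
    (∀ n : ℕ, PowerSeries.trunc (n + 1)
        (Zeta.zetaFun f * ∏ r ∈ Finset.Icc 1 n, (1 - PowerSeries.X ^ r) ^ Zeta.degCount f r) = 1) ∧
      ∀ n : ℕ, ∃ z : ℤ, PowerSeries.coeff n (Zeta.zetaFun f) = (z : ℚ) := by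
  exact aux (fun r => Zeta.degCount f r) (Zeta.logZeta f) rfl

end Groth.Agent.S13051
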