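import Groth.Statements.S13054
import Groth.Agent.Lib.Helper23.ZetaPt14
import Groth.Agent.Lib.Helper23.ZetaPt16

set_option autoImplicit false
universe u
open CategoryTheory AlgebraicGeometry Limits
open Zeta

namespace Groth.Agent.S13054

/-- Let X be a scheme of finite type over a finite field k, k'/k a finite extension of degree r and X' =
X ×_{Spec k} Spec k', a k'-scheme. Then Z(X', t^r) = ∏_{i = 1}^{r} Z(X, ξ^i t) for ξ a primitive
r-th root of unity; stated in ℂ⟦t⟧ with the product over the exponents 0, …, r − 1. (Reducedness of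
X plays no role.) -/
theorem result {k : Type u} [Field k] [Finite k]
    {X : Scheme.{u}} (f : X ⟶ Spec (CommRingCat.of k)) [LocallyOfFiniteType f] [QuasiCompact f]
    (k' : Type u) [Field k'] [Algebra k k'] [Finite k'] (ξ : ℂ)
    (hξ : IsPrimitiveRoot ξ (Module.finrank k k')) :
    PowerSeries.subst ((PowerSeries.X : PowerSeries ℂ) ^ Module.finrank k k')
        (PowerSeries.map (algebraMap ℚ ℂ) (Zeta.zetaFun
          (pullback.snd f (Spec.map (CommRingCat.ofHom (algebraMap k k')))))) =
      ∏ i ∈ Finset.range (Module.finrank k k'),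
        PowerSeries.rescale (ξ ^ i) (PowerSeries.map (algebraMap ℚ ℂ) (Zeta.zetaFun f)) := by
  haveI : Module.Finite k k' := Module.Finite.of_finite
  have hr : Module.finrank k k' ≠ 0 := Module.finrank_pos.ne'
  exact Groth.Agent.Helper23.ZetaPt.E_baseChange (Zeta.nPts f)
    (Zeta.nPts (pullback.snd f (Spec.map (CommRingCat.ofHom (algebraMap k k')))))
    (Module.finrank k k') hr
    (fun m => Groth.Agent.Helper23.ZetaPt.nPts_baseChange f k' m) ξ hξ

end Groth.Agent.S13054
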