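import Mathlib
import Groth.Statements.S13055
import Groth.Agent.Lib.Helper19.ZetaPS
-- import your own Groth.Agent.* helpers here

set_option autoImplicit false
universe u
open CategoryTheory AlgebraicGeometry
open Zeta

namespace Groth.Agent.S13055

open Groth.Agent.Helper19.ZetaPS PowerSeries in
theorem aux (N : ℕ → ℕ) (q : ℕ) (g : ℚ⟦X⟧) (P : Polynomial ℤ)
    (hg : g = PowerSeries.mk fun m => (N m : ℚ) / m)
    (hP : ∀ m : ℕ, 1 ≤ m → (N m : ℤ) = P.eval ((q : ℤ) ^ m)) :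
    (exp ℚ).subst g * ∏ i ∈ Finset.range (P.natDegree + 1),
        (1 - PowerSeries.C ((q : ℚ) ^ i) * PowerSeries.X) ^ (P.coeff i).toNat =
      ∏ i ∈ Finset.range (P.natDegree + 1),
        (1 - PowerSeries.C ((q : ℚ) ^ i) * PowerSeries.X) ^ (-P.coeff i).toNat := by
  have hg0 : constantCoeff g = 0 := by
    rw [hg, ← coeff_zero_eq_constantCoeff_apply, coeff_mk]
    simp
  have hdg : d⁄dX ℚ g = PowerSeries.mk fun m => (N (m + 1) : ℚ) := by
    ext m
    rw [coeff_derivative, hg, coeff_mk, coeff_mk]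
    have : ((m + 1 : ℕ) : ℚ) ≠ 0 := by positivity
    push_cast at this ⊢
    field_simp
  have hL : LD (E g * ∏ i ∈ Finset.range (P.natDegree + 1),
        (1 - C ((q : ℚ) ^ i) * X) ^ (P.coeff i).toNat)
      (d⁄dX ℚ g + ∑ i ∈ Finset.range (P.natDegree + 1),
        ((P.coeff i).toNat : ℚ⟦X⟧) * hLin ((q : ℚ) ^ i) 1) := by
    refine (LD_E g hg0).mul (LD.prod _ _ _ fun i _ => ?_)
    have := (LD_one_sub ((q : ℚ) ^ i) 1 le_rfl).pow (P.coeff i).toNat
    simpa using this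
  have hR : LD (∏ i ∈ Finset.range (P.natDegree + 1),
        (1 - C ((q : ℚ) ^ i) * X) ^ (-P.coeff i).toNat)
      (∑ i ∈ Finset.range (P.natDegree + 1),
        ((-P.coeff i).toNat : ℚ⟦X⟧) * hLin ((q : ℚ) ^ i) 1) := by
    refine LD.prod _ _ _ fun i _ => ?_
    have := (LD_one_sub ((q : ℚ) ^ i) 1 le_rfl).pow (-P.coeff i).toNat
    simpa using this
  have hh : d⁄dX ℚ g + ∑ i ∈ Finset.range (P.natDegree + 1),
        ((P.coeff i).toNat : ℚ⟦X⟧) * hLin ((q : ℚ) ^ i) 1 =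
      ∑ i ∈ Finset.range (P.natDegree + 1),
        ((-P.coeff i).toNat : ℚ⟦X⟧) * hLin ((q : ℚ) ^ i) 1 := by
    ext m
    rw [map_add, map_sum, map_sum, hdg, coeff_mk]
    have h1 : ∀ (n : ℕ) (i : ℕ), coeff m ((n : ℚ⟦X⟧) * hLin ((q : ℚ) ^ i) 1) =
        -((n : ℚ) * ((q : ℚ) ^ i) ^ (m + 1)) := by
      intro n i
      rw [← map_natCast (C : ℚ →+* ℚ⟦X⟧), coeff_C_mul]
      simp only [hLin, coeff_mk, one_dvd, if_true, Nat.div_one, Nat.cast_one, one_mul]
      ring
    simp only [h1]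
    have h2 : ((N (m + 1) : ℤ) : ℚ) = ((P.eval ((q : ℤ) ^ (m + 1)) : ℤ) : ℚ) := by
      rw [hP (m + 1) (by omega)]
    rw [Polynomial.eval_eq_sum_range] at h2
    push_cast at h2
    rw [h2, Finset.sum_neg_distrib, Finset.sum_neg_distrib, ← sub_eq_add_neg, sub_eq_iff_eq_add,
      neg_add_eq_sub, ← Finset.sum_sub_distrib]
    refine Finset.sum_congr rfl fun i _ => ?_
    have h3 : ((P.coeff i : ℤ) : ℚ) = ((P.coeff i).toNat : ℚ) - ((-P.coeff i).toNat : ℚ) := by
      have := Int.toNat_sub_toNat_neg (P.coeff i)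
      have h4 : (((P.coeff i).toNat : ℤ) : ℚ) - (((-P.coeff i).toNat : ℤ) : ℚ) = ((P.coeff i : ℤ) : ℚ) := by
        rw [← Int.cast_sub, this]
      rw [← h4]
      push_cast
      rfl
    rw [h3, ← pow_mul, ← pow_mul, mul_comm (m + 1) i]
    ring
  rw [hh] at hL
  refine hL.unique hR ?_
  rw [map_mul, constantCoeff_E g hg0, one_mul, map_prod, map_prod]
  simp


/-- Let X be a scheme of finite type over a finite field k with q elements and P = a_d y^d + ⋯ + a_0 ∈
ℤ[y] with N_m = P(q^m) for every m ≥ 1 (X is of polynomial count). Then Z(X, t) = ∏_{i = 0}^{d} (1 −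
q^i t)^{−a_i}; stated cleared of denominators, with the factors of positive exponent moved to the
left. -/
theorem result {k : Type u} [Field k] [Finite k] {X : Scheme.{u}}
    (f : X ⟶ Spec (CommRingCat.of k)) [LocallyOfFiniteType f] [QuasiCompact f] (P : Polynomial ℤ)
    (hP : ∀ m : ℕ, 1 ≤ m → (Zeta.nPts f m : ℤ) = P.eval ((Nat.card k : ℤ) ^ m)) :
    Zeta.zetaFun f * ∏ i ∈ Finset.range (P.natDegree + 1),
        (1 - PowerSeries.C ((Nat.card k : ℚ) ^ i) * PowerSeries.X) ^ (P.coeff i).toNat =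
      ∏ i ∈ Finset.range (P.natDegree + 1),
        (1 - PowerSeries.C ((Nat.card k : ℚ) ^ i) * PowerSeries.X) ^ (-P.coeff i).toNat := by
  exact aux (fun m => Zeta.nPts f m) (Nat.card k) (Zeta.logZeta f) P rfl hP

end Groth.Agent.S13055
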