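import Groth.Statements.S13057
import Mathlib.LinearAlgebra.Basis.VectorSpace
import Mathlib.LinearAlgebra.Pi
import Mathlib.RingTheory.PowerSeries.Trunc
import Mathlib.Algebra.BigOperators.NatAntidiagonal
import Mathlib.Algebra.BigOperators.Fin
import Mathlib.Algebra.Polynomial.Degree.Definitions
import Mathlib.Algebra.Polynomial.BigOperators

set_option autoImplicit false
universe u
open Zeta

namespace Groth.Agent.S13057

section aux

variable {L : Type*} [Field L]

theorem key (f : PowerSeries L) (Q : Polynomial L) (N : ℕ) (hQ : Q.natDegree ≤ N) (i : ℕ) :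
    PowerSeries.coeff (i + N) (f * (Q : PowerSeries L)) =
      ∑ j : Fin (N + 1), PowerSeries.coeff (i + (j : ℕ)) f * Q.coeff (N - (j : ℕ)) := by
  rw [PowerSeries.coeff_mul,
    Finset.Nat.sum_antidiagonal_eq_sum_range_succ
      (fun a b => PowerSeries.coeff a f * PowerSeries.coeff b (Q : PowerSeries L)) (i + N)]
  have : (i + N).succ = i + (N + 1) := by omega
  rw [this, Finset.sum_range_add]
  have h0 : ∑ x ∈ Finset.range i,
      PowerSeries.coeff x f * PowerSeries.coeff (i + N - x) (Q : PowerSeries L) = 0 := by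
    apply Finset.sum_eq_zero
    intro x hx
    rw [Finset.mem_range] at hx
    rw [Polynomial.coeff_coe, Polynomial.coeff_eq_zero_of_natDegree_lt (by omega), mul_zero]
  rw [h0, zero_add, Fin.sum_univ_eq_sum_range
    (fun j => PowerSeries.coeff (i + j) f * Q.coeff (N - j)) (N + 1)]
  refine Finset.sum_congr rfl fun x hx => ?_
  rw [Polynomial.coeff_coe]
  congr 2
  omega

end aux

/-- A power series f = ∑_{m ≥ 0} a_m t^m over a field L lies in L(t), i.e. f · Q = P for some
polynomials P, Q with Q ≠ 0, if and only if there are natural numbers M, N such that the vectors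
(a_i, a_{i+1}, …, a_{i+N}) ∈ L^{N+1}, i ≥ M, span a proper subspace. -/
theorem result {L : Type u} [Field L]
    (f : PowerSeries L) :
    (∃ P Q : Polynomial L, Q ≠ 0 ∧ f * (Q : PowerSeries L) = (P : PowerSeries L)) ↔
      ∃ M N : ℕ, Submodule.span L
          {v : Fin (N + 1) → L | ∃ i : ℕ, M ≤ i ∧ v = fun j : Fin (N + 1) => PowerSeries.coeff (i + (j : ℕ)) f} ≠ ⊤ := by
  classical
  constructor
  · rintro ⟨P, Q, hQ, h⟩
    refine ⟨P.natDegree + 1, Q.natDegree, ?_⟩
    intro htop
    let φ : (Fin (Q.natDegree + 1) → L) →ₗ[L] L :=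
      ∑ j : Fin (Q.natDegree + 1), Q.coeff (Q.natDegree - (j : ℕ)) • LinearMap.proj j
    have hφ : ∀ v, φ v = ∑ j : Fin (Q.natDegree + 1), v j * Q.coeff (Q.natDegree - (j : ℕ)) := by
      intro v
      simp only [φ, LinearMap.sum_apply, LinearMap.smul_apply, LinearMap.proj_apply, smul_eq_mul]
      exact Finset.sum_congr rfl fun j _ => mul_comm _ _
    have hker : Submodule.span L
        {v : Fin (Q.natDegree + 1) → L | ∃ i : ℕ, P.natDegree + 1 ≤ i ∧
          v = fun j : Fin (Q.natDegree + 1) => PowerSeries.coeff (i + (j : ℕ)) f} ≤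
        LinearMap.ker φ := by
      rw [Submodule.span_le]
      rintro v ⟨i, hi, rfl⟩
      rw [SetLike.mem_coe, LinearMap.mem_ker, hφ, ← key f Q Q.natDegree le_rfl i, h,
        Polynomial.coeff_coe, Polynomial.coeff_eq_zero_of_natDegree_lt (by omega)]
    rw [htop, top_le_iff, LinearMap.ker_eq_top] at hker
    have h1 : φ (Pi.single 0 1) = Q.leadingCoeff := by
      rw [hφ, Finset.sum_eq_single 0]
      · rw [Pi.single_eq_same, one_mul, Polynomial.leadingCoeff]
        rfl
      · intro j _ hj
        rw [Pi.single_eq_of_ne hj, zero_mul]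
      · intro h; exact absurd (Finset.mem_univ _) h
    rw [hker, LinearMap.zero_apply] at h1
    exact hQ (Polynomial.leadingCoeff_eq_zero.mp h1.symm)
  · rintro ⟨M, N, hspan⟩
    obtain ⟨φ, hφ0, hφ⟩ := Submodule.exists_le_ker_of_lt_top _ (lt_top_iff_ne_top.mpr hspan)
    let c : Fin (N + 1) → L := fun j => φ (fun j' => if j = j' then 1 else 0)
    have hφv : ∀ v, φ v = ∑ j, v j * c j := by
      intro v
      rw [LinearMap.pi_apply_eq_sum_univ φ v]
      rfl
    let Q : Polynomial L := ∑ j : Fin (N + 1), Polynomial.monomial (N - (j : ℕ)) (c j)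
    have hQcoeff : ∀ j : Fin (N + 1), Q.coeff (N - (j : ℕ)) = c j := by
      intro j
      simp only [Q, Polynomial.finsetSum_coeff, Polynomial.coeff_monomial]
      rw [Finset.sum_eq_single j]
      · rw [if_pos rfl]
      · intro j' _ hj'
        rw [if_neg]
        intro heq
        apply hj'
        have h1 := j.2
        have h2 := j'.2
        exact Fin.ext (by omega)
      · intro h; exact absurd (Finset.mem_univ _) h
    have hQdeg : Q.natDegree ≤ N := by
      apply Polynomial.natDegree_sum_le_of_forall_le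
      intro j _
      exact (Polynomial.natDegree_monomial_le _).trans (Nat.sub_le _ _)
    have hQ0 : Q ≠ 0 := by
      intro hQ
      apply hφ0
      apply LinearMap.ext
      intro v
      rw [hφv, LinearMap.zero_apply]
      apply Finset.sum_eq_zero
      intro j _
      rw [← hQcoeff j, hQ, Polynomial.coeff_zero, mul_zero]
    refine ⟨PowerSeries.trunc (M + N) (f * (Q : PowerSeries L)), Q, hQ0, ?_⟩
    ext n
    rw [Polynomial.coeff_coe, PowerSeries.coeff_trunc]
    split_ifs with hn
    · rfl
    · obtain ⟨i, rfl⟩ : ∃ i, n = i + N := ⟨n - N, by omega⟩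
      have hi : M ≤ i := by omega
      rw [key f Q N hQdeg i]
      have := hφ (Submodule.subset_span ⟨i, hi, rfl⟩)
      rw [LinearMap.mem_ker, hφv] at this
      rw [← this]
      exact Finset.sum_congr rfl fun j _ => by rw [hQcoeff]

end Groth.Agent.S13057
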