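import Groth.Statements.S13058
import Mathlib.LinearAlgebra.Dual.Lemmas
import Mathlib.RingTheory.PowerSeries.Basic
import Mathlib.Algebra.Polynomial.Coeff

set_option autoImplicit false
universe u v
open Zeta

namespace Groth.Agent.S13058

section aux

variable {L : Type*} {L' : Type*} [Field L] [Field L'] [Algebra L L']

/-- apply a linear functional coefficientwise -/
noncomputable def mapLin (l : L' →ₗ[L] L) (p : Polynomial L') : Polynomial L :=
  ∑ i ∈ Finset.range (p.natDegree + 1), Polynomial.monomial i (l (p.coeff i))

theorem coeff_mapLin (l : L' →ₗ[L] L) (p : Polynomial L') (n : ℕ) :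
    (mapLin l p).coeff n = l (p.coeff n) := by
  rw [mapLin, Polynomial.finsetSum_coeff]
  simp only [Polynomial.coeff_monomial]
  rw [Finset.sum_ite_eq' (Finset.range (p.natDegree + 1)) n]
  split_ifs with h
  · rfl
  · rw [Finset.mem_range, not_lt] at h
    rw [Polynomial.coeff_eq_zero_of_natDegree_lt (by omega), map_zero]

end aux

/-- If L'/L is a field extension, a power series f ∈ L⟦t⟧ belongs to L(t) exactly when it belongs to
L'(t); here membership in L(t) means f · Q = P for polynomials P, Q over the field in question with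
Q ≠ 0. -/
theorem result {L : Type u} {L' : Type v} [Field L] [Field L']
    [Algebra L L'] (f : PowerSeries L) :
    (∃ P Q : Polynomial L', Q ≠ 0 ∧
        PowerSeries.map (algebraMap L L') f * (Q : PowerSeries L') = (P : PowerSeries L')) ↔
      ∃ P Q : Polynomial L, Q ≠ 0 ∧ f * (Q : PowerSeries L) = (P : PowerSeries L) := by
  constructor
  · rintro ⟨P', Q', hQ', h⟩
    obtain ⟨j, hj⟩ : ∃ j, Q'.coeff j ≠ 0 := by
      by_contra hcon
      push_neg at hcon
      exact hQ' (Polynomial.ext fun n => by rw [hcon n, Polynomial.coeff_zero])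
    obtain ⟨l, hl⟩ : ∃ l : L' →ₗ[L] L, l (Q'.coeff j) ≠ 0 := by
      by_contra hcon
      push_neg at hcon
      exact hj ((Module.forall_dual_apply_eq_zero_iff L (Q'.coeff j)).mp hcon)
    refine ⟨mapLin l P', mapLin l Q', ?_, ?_⟩
    · intro h0
      apply hl
      rw [← coeff_mapLin, h0, Polynomial.coeff_zero]
    · ext n
      rw [PowerSeries.coeff_mul, Polynomial.coeff_coe, coeff_mapLin]
      have h1 := congrArg (PowerSeries.coeff n) h
      rw [PowerSeries.coeff_mul, Polynomial.coeff_coe] at h1
      rw [← h1, map_sum]
      refine Finset.sum_congr rfl fun x _ => ?_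
      rw [Polynomial.coeff_coe, Polynomial.coeff_coe, coeff_mapLin, PowerSeries.coeff_map,
        ← Algebra.smul_def, map_smul, smul_eq_mul]
  · rintro ⟨P, Q, hQ, h⟩
    refine ⟨P.map (algebraMap L L'), Q.map (algebraMap L L'), ?_, ?_⟩
    · exact (Polynomial.map_ne_zero_iff (algebraMap L L').injective).mpr hQ
    · have := congrArg (PowerSeries.map (algebraMap L L')) h
      rw [map_mul] at this
      rw [Polynomial.polynomial_map_coe, Polynomial.polynomial_map_coe]
      exact this

end Groth.Agent.S13058
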