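import Groth.Statements.S13060
import Mathlib.LinearAlgebra.TensorProduct.Basis
import Mathlib.LinearAlgebra.FreeModule.Basic
import Mathlib.LinearAlgebra.Basis.VectorSpace

set_option autoImplicit false
universe u v w x
open TensorProduct
open Zeta

namespace Groth.Agent.S13060

/-- Let k be a field, V and W vector spaces over k and G a group acting on V by k-linear automorphisms;
for the induced action on V ⊗_k W (trivial on W) one has (V ⊗_k W)^G = V^G ⊗_k W, i.e. the
invariants of V ⊗ W are the image of V^G ⊗ W → V ⊗ W. -/
theorem result {k : Type u} [Field k] {G : Type v} [Group G]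
    {V : Type w} {W : Type x} [AddCommGroup V] [Module k V] [AddCommGroup W] [Module k W]
    (ρ : Representation k G V) :
    (ρ.tprod (Representation.trivial k G W)).invariants =
      LinearMap.range (TensorProduct.map ρ.invariants.subtype (LinearMap.id : W →ₗ[k] W)) := by
  classical
  let 𝒞 := Module.Free.chooseBasis k W
  apply le_antisymm
  · intro x hx
    rw [Representation.mem_invariants] at hx
    obtain ⟨b, rfl⟩ := TensorProduct.eq_repr_basis_right 𝒞 x
    have hb : ∀ g i, ρ g (b i) = b i := by
      intro g i
      have h1 := hx g
      have h2 : (ρ.tprod (Representation.trivial k G W)) g (b.sum fun i m => m ⊗ₜ[k] 𝒞 i) =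
          (b.mapRange (ρ g) (map_zero _)).sum fun i m => m ⊗ₜ[k] 𝒞 i := by
        rw [Finsupp.sum_mapRange_index (by simp)]
        simp [Finsupp.sum, map_sum]
      rw [h2] at h1
      have h3 := TensorProduct.sum_tmul_basis_right_injective (M := V) 𝒞
      have h4 : b.mapRange (ρ g) (map_zero _) = b := by
        apply h3
        simp only [Finsupp.lsum_apply]
        exact h1
      have := DFunLike.congr_fun h4 i
      simpa using this
    refine Submodule.sum_mem _ ?_
    intro i _
    refine ⟨(⟨b i, ?_⟩ : ρ.invariants) ⊗ₜ[k] 𝒞 i, ?_⟩
    · rw [Representation.mem_invariants]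
      intro g
      exact hb g i
    · simp
  · rintro _ ⟨x, rfl⟩
    rw [Representation.mem_invariants]
    intro g
    induction x using TensorProduct.induction_on with
    | zero => simp
    | tmul m s =>
      have := m.2 g
      simp [this]
    | add x y hx hy => simp only [map_add, hx, hy]

end Groth.Agent.S13060
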