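import Groth.Statements.S13061
import Mathlib.Data.Nat.Choose.Lucas
import Mathlib.Algebra.CharP.Lemmas
import Mathlib.RingTheory.Ideal.Quotient.Operations
import Mathlib.Data.Finset.Powerset
import Mathlib.Tactic.Ring
import Mathlib.Tactic.LinearCombination

set_option autoImplicit false
universe u v w
open Zeta

namespace Groth.Agent.S13061

/-- Let A be a commutative algebra over a field k, G a finite group acting on A by k-algebra
automorphisms and I ⊆ A an ideal preserved by G. If p^n is the largest power of p = char(k) dividing
|G| (with p^n = 1 when char(k) = 0), then for every G-invariant b ∈ A/I the power b^{p^n} lies in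
the image of A^G → (A/I)^G. (The published statement takes A finitely generated over k, which the
proof does not use.) -/
theorem result {k : Type u} [Field k]
    {A : Type v} [CommRing A] [Algebra k A] {G : Type w} [Group G] [Finite G]
    [MulSemiringAction G A] [SMulCommClass G k A] (I : Ideal A)
    (hI : ∀ (g : G) (a : A), a ∈ I → g • a ∈ I) (u : A) (hu : ∀ g : G, g • u - u ∈ I) :
    ∃ a : A, (∀ g : G, g • a = a) ∧
      Ideal.Quotient.mk I a =
        Ideal.Quotient.mk I u ^ (ringChar k ^ (Nat.card G).factorization (ringChar k)) := by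
  classical
  cases nonempty_fintype G
  set p := ringChar k with hp
  set N := Nat.card G with hN
  set q := p ^ N.factorization p with hq
  have hNpos : 0 < N := Nat.card_pos
  have hNcard : N = Fintype.card G := Nat.card_eq_fintype_card
  -- the binomial coefficient is nonzero in k
  have hc : ((N.choose q : ℕ) : k) ≠ 0 := by
    have : CharP k p := ringChar.charP k
    rcases CharP.char_is_prime_or_zero k p with hpp | hp0
    · haveI : Fact p.Prime := ⟨hpp⟩
      have hNeq : p ^ N.factorization p * (N / p ^ N.factorization p) = N :=
        Nat.ordProj_mul_ordCompl_eq_self N p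
      have hndvd : ¬ p ∣ N / p ^ N.factorization p := Nat.not_dvd_ordCompl hpp hNpos.ne'
      have hmod : N.choose q ≡ (N / p ^ N.factorization p).choose 1 [MOD p] := by
        have := Choose.choose_pow_mul_pow_mul_modEq_choose_nat (k := N.factorization p)
          (a := N / p ^ N.factorization p) (b := 1) (p := p)
        rwa [mul_one, hNeq] at this
      rw [Nat.choose_one_right] at hmod
      rw [Ne, CharP.cast_eq_zero_iff k p]
      intro hdvd
      exact hndvd ((Nat.modEq_zero_iff_dvd.mpr hdvd).symm.trans hmod |>.symm |> Nat.modEq_zero_iff_dvd.mp)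
    · have : CharP k 0 := hp0 ▸ ‹CharP k p›
      have : CharZero k := CharP.charP_to_charZero k
      have hq1 : q = 1 := by rw [hq, hp0]; simp
      rw [hq1, Nat.choose_one_right]
      exact Nat.cast_ne_zero.mpr hNpos.ne'
  set c : k := ((N.choose q : ℕ) : k) with hcdef
  let a' : A := ∑ T ∈ (Finset.univ : Finset G).powersetCard q, ∏ g ∈ T, g • u
  have ha'inv : ∀ h : G, h • a' = a' := by
    intro h
    simp only [a', Finset.smul_sum, Finset.smul_prod', smul_smul]
    let e : G ≃ G := Equiv.mulLeft h
    refine Finset.sum_bij (fun T _ => T.map e.toEmbedding) ?_ ?_ ?_ ?_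
    · intro T hT
      rw [Finset.mem_powersetCard] at hT ⊢
      exact ⟨Finset.subset_univ _, by rw [Finset.card_map]; exact hT.2⟩
    · intro T₁ _ T₂ _ h12
      exact Finset.map_injective _ h12
    · intro T hT
      refine ⟨T.map e.symm.toEmbedding, ?_, ?_⟩
      · rw [Finset.mem_powersetCard] at hT ⊢
        exact ⟨Finset.subset_univ _, by rw [Finset.card_map]; exact hT.2⟩
      · rw [Finset.map_map]
        convert Finset.map_refl
        ext x; simp [e]
    · intro T _
      rw [Finset.prod_map]
      rfl
  have ha'mk : Ideal.Quotient.mk I a' = c • (Ideal.Quotient.mk I u) ^ q := by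
    simp only [a', map_sum, map_prod]
    have : ∀ T ∈ (Finset.univ : Finset G).powersetCard q,
        ∏ g ∈ T, Ideal.Quotient.mk I (g • u) = (Ideal.Quotient.mk I u) ^ q := by
      intro T hT
      rw [Finset.mem_powersetCard] at hT
      rw [← hT.2, ← Finset.prod_const]
      refine Finset.prod_congr rfl fun g _ => ?_
      rw [Ideal.Quotient.eq]
      exact hu g
    rw [Finset.sum_congr rfl this, Finset.sum_const, Finset.card_powersetCard, Finset.card_univ,
      ← hNcard, hcdef, Nat.cast_smul_eq_nsmul]
  refine ⟨c⁻¹ • a', fun g => ?_, ?_⟩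
  · rw [smul_comm, ha'inv]
  · have : Ideal.Quotient.mk I (c⁻¹ • a') = c⁻¹ • Ideal.Quotient.mk I a' :=
      map_smul (Ideal.Quotient.mkₐ k I) c⁻¹ a'
    rw [this, ha'mk, smul_smul, inv_mul_cancel₀ hc, one_smul]

end Groth.Agent.S13061
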