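import Mathlib
import Groth.Statements.S13062
import Groth.Agent.Lib.Helper19.PtCount.Sch
import Groth.Agent.Lib.Helper19.PtCount.Count

set_option autoImplicit false
universe u
open CategoryTheory AlgebraicGeometry
open Zeta

namespace Groth.Agent.S13062

/-- If X is a variety of dimension r over a finite field k with q elements, there is a constant c_X > 0
with #X(F_{q^e}) ≤ c_X q^{re} for every e ≥ 1. Stated for any scheme of finite type over k of
dimension at most r, with a natural-number constant. -/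
theorem result {k : Type u} [Field k] [Finite k] {X : Scheme.{u}}
    (f : X ⟶ Spec (CommRingCat.of k)) [LocallyOfFiniteType f] [QuasiCompact f] (r : ℕ)
    (hr : topologicalKrullDim X ≤ r) :
    ∃ c : ℕ, ∀ (k' : Type u) [Field k'] [Algebra k k'] [Finite k'],
      SgaExt.pointCount f k' ≤ c * Nat.card k ^ (r * Module.finrank k k') := by
  obtain ⟨ι, hι, A, ρ, j, hft, hdim, hjf, hsurj⟩ :=
    Groth.Agent.Helper19.PtCount.exists_affine_data f r hr
  have hcount : ∀ i, ∃ e : ℕ, ∀ (F : Type u) [Field F] [Finite F] (φ : k →+* F),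
      Finite {ψ : A i →+* F // ψ.comp (ρ i).hom = φ} ∧
      Nat.card {ψ : A i →+* F // ψ.comp (ρ i).hom = φ} ≤ e * Nat.card F ^ r := by
    intro i
    letI := (ρ i).hom.toAlgebra
    haveI : Algebra.FiniteType k (A i) := hft i
    exact Groth.Agent.Helper19.PtCount.field_count k (A i) r (hdim i)
  choose e he using hcount
  haveI := Fintype.ofFinite ι
  refine ⟨∑ i, e i, fun k' _ _ _ => ?_⟩
  let Θ : (Σ i, {ψ : A i →+* k' // ψ.comp (ρ i).hom = algebraMap k k'}) →
      { g : Spec (CommRingCat.of k') ⟶ X //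
        g ≫ f = Spec.map (CommRingCat.ofHom (algebraMap k k')) } :=
    fun q => ⟨Spec.map (CommRingCat.ofHom q.2.1) ≫ j q.1, by
      rw [Category.assoc, hjf, ← Spec.map_comp]
      congr 1
      ext x
      exact DFunLike.congr_fun q.2.2 x⟩
  have hΘ : Function.Surjective Θ := by
    rintro ⟨g, hg⟩
    obtain ⟨i, ψ, rfl⟩ := hsurj k' g
    refine ⟨⟨i, ψ.hom, ?_⟩, ?_⟩
    · rw [Category.assoc, hjf, ← Spec.map_comp] at hg
      have h1 := Spec.map_injective hg
      ext x
      exact congrArg (fun h => h.hom x) h1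
    · apply Subtype.ext
      rfl
  haveI : ∀ i, Finite {ψ : A i →+* k' // ψ.comp (ρ i).hom = algebraMap k k'} :=
    fun i => (he i k' _).1
  have h1 := Nat.card_le_card_of_surjective Θ hΘ
  have h2 : Nat.card (Σ i, {ψ : A i →+* k' // ψ.comp (ρ i).hom = algebraMap k k'}) =
      ∑ i, Nat.card {ψ : A i →+* k' // ψ.comp (ρ i).hom = algebraMap k k'} := Nat.card_sigma
  have h3 : Nat.card k' = Nat.card k ^ Module.finrank k k' :=
    Module.natCard_eq_pow_finrank (K := k) (V := k')
  calc SgaExt.pointCount f k'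
      ≤ ∑ i, Nat.card {ψ : A i →+* k' // ψ.comp (ρ i).hom = algebraMap k k'} :=
        h1.trans h2.le
    _ ≤ ∑ i, e i * Nat.card k' ^ r := Finset.sum_le_sum fun i _ => (he i k' _).2
    _ = (∑ i, e i) * Nat.card k ^ (r * Module.finrank k k') := by
        rw [Finset.sum_mul, h3, ← pow_mul, mul_comm r]

end Groth.Agent.S13062
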