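import Mathlib
import Groth.Statements.S13070
import Groth.Agent.Lib.Helper19.PtCount.Sch
import Groth.Agent.Lib.Helper19.PtCount.IntCount

set_option autoImplicit false
universe u
open CategoryTheory AlgebraicGeometry
open Zeta

namespace Groth.Agent.S13070

/-- For an arithmetic scheme X (of finite type over ℤ) of dimension r there are c_X > 0 and p₀ such that
#X(F_{p^m}) ≤ c_X p^{m(r−1)} for all primes p ≥ p₀ and m ≥ 1, and #X(F_{p^m}) ≤ c_X p^{mr} for p <
p₀ and m ≥ 1. Here #X(F) is the number of morphisms Spec F → X, and the dimension is only assumed ≤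
r. -/
theorem result {X : Scheme.{u}}
    (f : X ⟶ Spec (CommRingCat.of (ULift.{u} ℤ))) [LocallyOfFiniteType f] [QuasiCompact f] (r : ℕ)
    (hr : topologicalKrullDim X ≤ r) :
    ∃ (c : ℝ) (p₀ : ℕ), 0 < c ∧ ∀ (p m : ℕ), p.Prime → 1 ≤ m →
      ∀ (F : Type u) [Field F], Nat.card F = p ^ m →
        (p₀ ≤ p → (Nat.card (Spec (CommRingCat.of F) ⟶ X) : ℝ) ≤
            c * (p : ℝ) ^ ((m : ℝ) * ((r : ℝ) - 1))) ∧
        (p < p₀ → (Nat.card (Spec (CommRingCat.of F) ⟶ X) : ℝ) ≤ c * (p : ℝ) ^ ((m : ℝ) * r)) := by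
  obtain ⟨ι, hι, A, ρ, j, hft, hdim, hjf, hsurj⟩ :=
    Groth.Agent.Helper19.PtCount.exists_affine_data f r hr
  have hFT : ∀ i, Algebra.FiniteType ℤ (A i) := by
    intro i
    have h1 : ((ρ i).hom.comp (ULift.ringEquiv.symm : ℤ ≃+* ULift.{u} ℤ).toRingHom).FiniteType :=
      (hft i).comp (RingHom.FiniteType.of_surjective _
        (ULift.ringEquiv.symm : ℤ ≃+* ULift.{u} ℤ).surjective)
    have h2 : algebraMap ℤ (A i) =
        (ρ i).hom.comp (ULift.ringEquiv.symm : ℤ ≃+* ULift.{u} ℤ).toRingHom :=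
      RingHom.ext_int _ _
    rw [← RingHom.finiteType_algebraMap, h2]
    exact h1
  have hcount : ∀ i, ∃ (c p₀ : ℕ), ∀ (p m : ℕ), p.Prime → 1 ≤ m → ∀ (F : Type u) [Field F],
      Nat.card F = p ^ m →
        Finite (A i →+* F) ∧
        (p₀ ≤ p → Nat.card (A i →+* F) = 0 ∨
          (1 ≤ r ∧ Nat.card (A i →+* F) ≤ c * (p ^ m) ^ (r - 1))) ∧
        Nat.card (A i →+* F) ≤ c * (p ^ m) ^ r := by
    intro i
    haveI := hFT i
    exact Groth.Agent.Helper19.PtCount.int_count.{u} (A i) r (hdim i)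
  choose c p₀ hc using hcount
  haveI := Fintype.ofFinite ι
  refine ⟨((1 + ∑ i, c i : ℕ) : ℝ), ∑ i, p₀ i, by positivity, fun p m hp hm F _ hF => ?_⟩
  -- the surjection from the affine pieces
  let Θ : (Σ i, (A i →+* F)) → (Spec (CommRingCat.of F) ⟶ X) :=
    fun q => Spec.map (CommRingCat.ofHom q.2) ≫ j q.1
  have hΘ : Function.Surjective Θ := by
    intro g
    obtain ⟨i, ψ, rfl⟩ := hsurj F g
    exact ⟨⟨i, ψ.hom⟩, rfl⟩
  haveI : ∀ i, Finite (A i →+* F) := fun i => (hc i p m hp hm F hF).1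
  have h1 := Nat.card_le_card_of_surjective Θ hΘ
  have h2 : Nat.card (Σ i, (A i →+* F)) = ∑ i, Nat.card (A i →+* F) := Nat.card_sigma
  have hle : Nat.card (Spec (CommRingCat.of F) ⟶ X) ≤ ∑ i, Nat.card (A i →+* F) :=
    h1.trans h2.le
  have hp0 : (0 : ℝ) ≤ (p : ℝ) := Nat.cast_nonneg p
  have hpow : ∀ k : ℕ, (((p ^ m) ^ k : ℕ) : ℝ) = (p : ℝ) ^ ((m : ℝ) * (k : ℝ)) := by
    intro k
    rw [← Nat.cast_mul, Real.rpow_natCast, ← pow_mul]
    push_cast
    rfl
  constructor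
  · intro hp₀
    by_cases hr1 : 1 ≤ r
    · have h3 : ∀ i, Nat.card (A i →+* F) ≤ c i * (p ^ m) ^ (r - 1) := by
        intro i
        have hpi : p₀ i ≤ p :=
          (Finset.single_le_sum (f := p₀) (fun _ _ => Nat.zero_le _) (Finset.mem_univ i)).trans hp₀
        rcases (hc i p m hp hm F hF).2.1 hpi with h0 | ⟨_, h0⟩
        · rw [h0]; exact Nat.zero_le _
        · exact h0
      have h4 : Nat.card (Spec (CommRingCat.of F) ⟶ X) ≤
          (1 + ∑ i, c i) * (p ^ m) ^ (r - 1) := by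
        calc Nat.card (Spec (CommRingCat.of F) ⟶ X) ≤ ∑ i, Nat.card (A i →+* F) := hle
          _ ≤ ∑ i, c i * (p ^ m) ^ (r - 1) := Finset.sum_le_sum fun i _ => h3 i
          _ = (∑ i, c i) * (p ^ m) ^ (r - 1) := by rw [Finset.sum_mul]
          _ ≤ (1 + ∑ i, c i) * (p ^ m) ^ (r - 1) :=
            Nat.mul_le_mul_right _ (Nat.le_add_left _ _)
      have h5 : ((r : ℝ) - 1) = ((r - 1 : ℕ) : ℝ) := by
        rw [Nat.cast_sub hr1]; simp
      rw [h5, ← hpow]
      exact_mod_cast h4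
    · have hr0 : r = 0 := by omega
      have h3 : ∀ i, Nat.card (A i →+* F) = 0 := by
        intro i
        have hpi : p₀ i ≤ p :=
          (Finset.single_le_sum (f := p₀) (fun _ _ => Nat.zero_le _) (Finset.mem_univ i)).trans hp₀
        rcases (hc i p m hp hm F hF).2.1 hpi with h0 | ⟨h0, _⟩
        · exact h0
        · omega
      have h4 : Nat.card (Spec (CommRingCat.of F) ⟶ X) = 0 := by
        have : ∑ i, Nat.card (A i →+* F) = 0 := Finset.sum_eq_zero fun i _ => h3 i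
        omega
      rw [h4]
      have : (0 : ℝ) ≤ (p : ℝ) ^ ((m : ℝ) * ((r : ℝ) - 1)) := Real.rpow_nonneg hp0 _
      simp only [Nat.cast_zero]
      positivity
  · intro _
    have h4 : Nat.card (Spec (CommRingCat.of F) ⟶ X) ≤ (1 + ∑ i, c i) * (p ^ m) ^ r := by
      calc Nat.card (Spec (CommRingCat.of F) ⟶ X) ≤ ∑ i, Nat.card (A i →+* F) := hle
        _ ≤ ∑ i, c i * (p ^ m) ^ r := Finset.sum_le_sum fun i _ => (hc i p m hp hm F hF).2.2
        _ = (∑ i, c i) * (p ^ m) ^ r := by rw [Finset.sum_mul]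
        _ ≤ (1 + ∑ i, c i) * (p ^ m) ^ r := Nat.mul_le_mul_right _ (Nat.le_add_left _ _)
    rw [← hpow]
    exact_mod_cast h4

end Groth.Agent.S13070
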