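import Groth.Statements.S13075
import Mathlib.RingTheory.PowerSeries.Log
import Mathlib.RingTheory.PowerSeries.Derivative

set_option autoImplicit false
open Zeta

namespace Groth.Agent.S13075

open PowerSeries in
theorem log_eq : (PowerSeries.mk fun m : ℕ => if m = 0 then (0 : ℚ) else (-1) ^ (m + 1) / (m : ℚ)) =
    PowerSeries.log ℚ := by
  ext n
  simp [PowerSeries.coeff_log]

open PowerSeries in
theorem geom_mul : (1 + (X : ℚ⟦X⟧)) * (mk fun n : ℕ => ((-1 : ℚ) ^ n)) = 1 := by
  ext n
  rw [add_mul, one_mul, map_add]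
  cases n with
  | zero => simp
  | succ n =>
    rw [coeff_succ_X_mul, coeff_mk, coeff_mk, coeff_one]
    simp [pow_succ]

open PowerSeries in
theorem part1 : (log ℚ).subst (exp ℚ - 1) = (X : ℚ⟦X⟧) := by
  have hu : HasSubst (exp ℚ - 1) := HasSubst.exp_sub_one
  apply derivative.ext
  · rw [derivative_subst hu, deriv_log, derivative_X, map_sub, derivative_exp, derivative_one,
      sub_zero]
    have h := congrArg (substAlgHom hu) geom_mul
    rw [map_mul, map_add, map_one, substAlgHom_X, coe_substAlgHom] at h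
    simp only [add_sub_cancel] at h
    rw [mul_comm]
    simpa using h
  · rw [constantCoeff_X]
    have h0 : MvPowerSeries.constantCoeff (exp ℚ - 1) = 0 := by
      show PowerSeries.constantCoeff (exp ℚ - 1) = 0
      simp [constantCoeff_exp]
    exact constantCoeff_subst_eq_zero h0 _ constantCoeff_log

open PowerSeries in
theorem part2 : (exp ℚ).subst (log ℚ) = 1 + (X : ℚ⟦X⟧) := by
  set P : ℚ⟦X⟧ := exp ℚ - 1 with hPdef
  have hP0 : P.constantCoeff = 0 := by simp [hPdef, constantCoeff_exp]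
  have hP1 : IsUnit (P.coeff 1) := by
    simp [hPdef, coeff_exp]
  have hPs : HasSubst P := HasSubst.exp_sub_one
  obtain ⟨Q, hQs, hPQ⟩ : ∃ Q : ℚ⟦X⟧, HasSubst Q ∧ P.subst Q = X :=
    ⟨_, HasSubst.substInvOfIsUnit P hP1, subst_substInvOfIsUnit_right P hP0 hP1⟩
  have hLQ : log ℚ = Q := by
    calc log ℚ = PowerSeries.subst (X : ℚ⟦X⟧) (log ℚ) := (X_subst _).symm
      _ = PowerSeries.subst (PowerSeries.subst Q P) (log ℚ) := by rw [hPQ]
      _ = PowerSeries.subst Q (PowerSeries.subst P (log ℚ)) :=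
        (subst_comp_subst_apply (R := ℚ) (S := ℚ) (T := ℚ) hPs hQs (log ℚ)).symm
      _ = PowerSeries.subst Q (X : ℚ⟦X⟧) := by rw [part1]
      _ = Q := subst_X hQs
  have hL : HasSubst (log ℚ) := HasSubst.log
  have h2 : P.subst (log ℚ) = X := by rw [hLQ]; exact hPQ
  rw [hPdef, subst_sub hL] at h2
  have h1 : (1 : ℚ⟦X⟧).subst (log ℚ) = (1 : ℚ⟦X⟧) := by
    have := map_one (substAlgHom (R := ℚ) hL)
    rwa [coe_substAlgHom] at this
  rw [h1] at h2
  rw [← h2]; ring

/-- For the formal power series exp(t) = ∑_{m ≥ 0} t^m / m! and log(1 + t) = ∑_{m ≥ 1} (−1)^{m+1} t^m /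
m over ℚ, log(exp(u)) = u and exp(log(1 + u)) = 1 + u for every u ∈ tℚ⟦t⟧; stated for u = t (the
general case is obtained by substitution): substituting exp(t) − 1 into log(1 + ·) gives t, and
substituting log(1 + t) into exp gives 1 + t. -/
theorem result :
    PowerSeries.subst (PowerSeries.exp ℚ - 1)
        (PowerSeries.mk fun m : ℕ => if m = 0 then (0 : ℚ) else (-1) ^ (m + 1) / (m : ℚ)) =
      PowerSeries.X ∧
    PowerSeries.subst (PowerSeries.mk fun m : ℕ => if m = 0 then (0 : ℚ) else (-1) ^ (m + 1) / (m : ℚ))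
        (PowerSeries.exp ℚ) = 1 + PowerSeries.X := by
  rw [log_eq]
  exact ⟨part1, part2⟩

end Groth.Agent.S13075
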