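import Groth.Statements.S1308
import Groth.Agent.Lib.Helper2.Thickening

set_option autoImplicit false
universe u
open FlatMor

namespace Groth.Agent.S1308

open AlgebraicGeometry CategoryTheory Limits in
/-- For a morphism of thickenings, that is a commutative square whose horizontal maps are thickenings
(closed immersions that are surjective on points), the morphism between the thin schemes is
universally open if and only if the morphism between the thick ones is. -/
theorem result {X X' S S' : Scheme.{u}} (iX : X ⟶ X') (iS : S ⟶ S') (f : X ⟶ S) (f' : X' ⟶ S')
    (hX : MoreMor.IsThickening iX) (hS : MoreMor.IsThickening iS) (w : iX ≫ f' = f ≫ iS) :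
    UniversallyOpen f ↔ UniversallyOpen f' := by
  have h1 : IsClosedImmersion iX := hX.1
  have h2 : Surjective iX := hX.2
  have h3 : IsClosedImmersion iS := hS.1
  have h4 : UniversallyOpen iX := Groth.Agent.Helper2.thick_universallyOpen hX
  have h5 : UniversallyOpen iS := Groth.Agent.Helper2.thick_universallyOpen hS
  constructor
  · intro h
    have : UniversallyOpen (iX ≫ f') := by rw [w]; infer_instance
    exact Groth.Agent.Helper2.universallyOpen_of_comp_surjective iX f'
  · intro h
    have : UniversallyOpen (f ≫ iS) := by rw [← w]; infer_instance
    exact MorphismProperty.of_postcomp (W := @UniversallyOpen)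
      (W' := MorphismProperty.monomorphisms Scheme) f iS (inferInstanceAs (Mono iS)) this

end Groth.Agent.S1308
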