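import Groth.Statements.S13083
import Groth.Agent.Lib.Helper23.GeomFib2
import Groth.Agent.Lib.Helper23.GeomFib3

set_option autoImplicit false
universe u
open CategoryTheory AlgebraicGeometry Limits
open Zeta

namespace Groth.Agent.S13083

/-- Let X be a variety over a perfect field k, k̄ an algebraic closure and π : X_{k̄} → X the
projection. Sending a closed point x to the sum of the points of π⁻¹(x) induces a bijection between
effective 0-cycles of degree n on X and effective 0-cycles of degree n on X_{k̄} fixed by G(k̄/k).
Stated for schemes of finite type over k, with 0-cycles as finitely supported ℕ-valued functions on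
closed points, the degree on X weighted by the residue degrees [κ(x) : k], the map being c ↦ c ∘ π,
and the Galois automorphisms τ_σ = id × Spec σ pinned by their projections. -/
theorem result {k : Type u} [Field k]
    [PerfectField k] {X : Scheme.{u}} (f : X ⟶ Spec (CommRingCat.of k)) [LocallyOfFiniteType f]
    [QuasiCompact f]
    (τ : (AlgebraicClosure k ≃ₐ[k] AlgebraicClosure k) →
      (pullback f (Spec.map (CommRingCat.ofHom (algebraMap k (AlgebraicClosure k)))) ⟶
        pullback f (Spec.map (CommRingCat.ofHom (algebraMap k (AlgebraicClosure k))))))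
    (hτ1 : ∀ σ, τ σ ≫ pullback.fst f _ = pullback.fst f _)
    (hτ2 : ∀ σ, τ σ ≫ pullback.snd f (Spec.map (CommRingCat.ofHom (algebraMap k (AlgebraicClosure k)))) =
        pullback.snd f _ ≫ Spec.map (CommRingCat.ofHom (σ : AlgebraicClosure k →+* AlgebraicClosure k)))
    (n : ℕ) :
    Set.BijOn
      (fun c : X → ℕ => c ∘ (pullback.fst f (Spec.map (CommRingCat.ofHom
        (algebraMap k (AlgebraicClosure k))))).base)
      {c : X → ℕ | (Function.support c).Finite ∧ (∀ x, c x ≠ 0 → IsClosed ({x} : Set X)) ∧
        ∑ᶠ x, c x * EGA4loc.residueDegree f x = n}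
      {d : ↑(pullback f (Spec.map (CommRingCat.ofHom (algebraMap k (AlgebraicClosure k))))) → ℕ |
        (Function.support d).Finite ∧ (∀ y, d y ≠ 0 → IsClosed ({y} : Set _)) ∧
        ∑ᶠ y, d y = n ∧ ∀ σ y, d ((τ σ).base y) = d y} := by
  haveI : Algebra.IsAlgebraic k (AlgebraicClosure k) := inferInstance
  haveI : Algebra.IsIntegral k (AlgebraicClosure k) := inferInstance
  haveI : Surjective (Spec.map (CommRingCat.ofHom (algebraMap k (AlgebraicClosure k)))) :=
    Groth.Agent.Helper18.KPts.surjective_cK
  have key := Groth.Agent.Helper23.GeomFibComb.bijOn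
    (π := fun y => (pullback.fst f (Spec.map (CommRingCat.ofHom
      (algebraMap k (AlgebraicClosure k))))).base y)
    (rd := EGA4loc.residueDegree f)
    (τ := fun σ y => (τ σ).base y)
    (fun x => (pullback.fst f (Spec.map (CommRingCat.ofHom
      (algebraMap k (AlgebraicClosure k))))).surjective x)
    (fun x hx => Groth.Agent.Helper23.GeomFib.finite_and_ncard_fibre (AlgebraicClosure k) f x hx)
    (fun y hy => Groth.Agent.Helper23.GeomFib.isClosed_of_mem_fibre (AlgebraicClosure k) f _ hy y rfl)
    (fun y hy => by
      have := Groth.Agent.Helper23.GeomFib.isClosedMap_fst (AlgebraicClosure k) f _ hy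
      rwa [Set.image_singleton] at this)
    (fun x hx y y' hy hy' =>
      Groth.Agent.Helper23.GeomFib.exists_tau_eq (AlgebraicClosure k) f τ hτ1 hτ2 x hx y y' hy hy')
    (fun σ y => by
      show (pullback.fst f _).base ((τ σ).base y) = _
      have := congrArg (fun g => g.base y) (hτ1 σ)
      exact this) n
  exact key

end Groth.Agent.S13083
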