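import Mathlib
import Groth.Statements.S13084
import Groth.Agent.Lib.Helper19.PtCount.SchCount
import Groth.Agent.Lib.Helper19.ZetaAbs.Main

set_option autoImplicit false
universe u
open CategoryTheory AlgebraicGeometry
open Zeta

namespace Groth.Agent.S13084

/-- If Y is a scheme of finite type over F_p (here: over any finite field) of dimension r, then the
Dirichlet series L_Y(s) = Σ_{n ≥ 1} a_n n^{−s}, where a_n is the number of effective 0-cycles on Y
of norm n, is convergent for Re(s) > r and has no zeros in this half-plane. The dimension is only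
assumed ≤ r. -/
theorem result {k : Type u} [Field k] [Finite k]
    {Y : Scheme.{u}} (f : Y ⟶ Spec (CommRingCat.of k)) [LocallyOfFiniteType f] [QuasiCompact f] (r : ℕ)
    (hr : topologicalKrullDim Y ≤ r) :
    LSeries.abscissaOfAbsConv (Zeta.arithCoeff Y) ≤ (r : ℝ) ∧
      ∀ s : ℂ, (r : ℝ) < s.re → LSeries (Zeta.arithCoeff Y) s ≠ 0 := by
  obtain ⟨c, hc⟩ := Groth.Agent.Helper19.PtCount.sch_field_count f r hr
  obtain ⟨pk, hpk⟩ := CharP.exists k
  refine Groth.Agent.Helper19.ZetaAbs.zeta_main Y r (c : ℝ) (pk + 1) (Nat.cast_nonneg c) ?_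
  intro p m hp hm
  obtain ⟨F, instF, hF⟩ := Groth.Agent.Helper19.ZetaAbs.exists_field_card.{u} p m hp hm
  obtain ⟨hFfin, hFchar⟩ := Groth.Agent.Helper19.PtCount.charP_of_card hp hm hF
  obtain ⟨h1, h2, h3⟩ := hc F
  refine ⟨F, instF, hF, h1, fun hp₀ => ?_, ?_⟩
  · have hempty : IsEmpty (k →+* F) := ⟨fun φ => by
      haveI : CharP k p := RingHom.charP φ φ.injective p
      have := CharP.eq k hpk this
      omega⟩
    haveI := h3 hempty
    rw [Nat.card_of_isEmpty, Nat.cast_zero]
    exact mul_nonneg (Nat.cast_nonneg c) (Real.rpow_nonneg (Nat.cast_nonneg _) _)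
  · rw [Real.rpow_natCast, ← hF]
    exact_mod_cast h2

end Groth.Agent.S13084
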