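import Mathlib
import Groth.Statements.S13086
import Groth.Agent.Lib.Helper19.PtCount.SchCount
import Groth.Agent.Lib.Helper19.ZetaAbs.Main

set_option autoImplicit false
universe u
open CategoryTheory AlgebraicGeometry
open Zeta

namespace Groth.Agent.S13086

/-- If X is an arithmetic scheme (of finite type over ℤ) of dimension r, the Dirichlet series with
nonnegative coefficients L_X(s) = Σ_{n ≥ 1} a_n n^{−s}, a_n the number of effective 0-cycles on X of
norm n, converges in the half-plane Re(s) > r and has no zeros there. The dimension is only assumed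
≤ r. -/
theorem result {X : Scheme.{u}}
    (f : X ⟶ Spec (CommRingCat.of (ULift.{u} ℤ))) [LocallyOfFiniteType f] [QuasiCompact f] (r : ℕ)
    (hr : topologicalKrullDim X ≤ r) :
    LSeries.abscissaOfAbsConv (Zeta.arithCoeff X) ≤ (r : ℝ) ∧
      ∀ s : ℂ, (r : ℝ) < s.re → LSeries (Zeta.arithCoeff X) s ≠ 0 := by
  obtain ⟨c, p₀, hcp⟩ := Groth.Agent.Helper19.PtCount.sch_int_count f r hr
  refine Groth.Agent.Helper19.ZetaAbs.zeta_main X r (c : ℝ) p₀ (Nat.cast_nonneg c) ?_
  intro p m hp hm
  obtain ⟨F, instF, hF⟩ := Groth.Agent.Helper19.ZetaAbs.exists_field_card.{u} p m hp hm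
  obtain ⟨h1, h2, h3⟩ := hcp p m hp hm F hF
  refine ⟨F, instF, hF, h1, fun hp₀ => ?_, ?_⟩
  · rcases h2 hp₀ with h0 | ⟨hr1, h0⟩
    · rw [h0, Nat.cast_zero]
      exact mul_nonneg (Nat.cast_nonneg c) (Real.rpow_nonneg (Nat.cast_nonneg _) _)
    · have h5 : ((r : ℝ) - 1) = ((r - 1 : ℕ) : ℝ) := by
        rw [Nat.cast_sub hr1]
        simp
      rw [h5, Real.rpow_natCast]
      exact_mod_cast h0
  · rw [Real.rpow_natCast]
    exact_mod_cast h3

end Groth.Agent.S13086
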