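import Groth.Statements.S13088
import Groth.Agent.Lib.Helper19.Lie3Mod

set_option autoImplicit false
universe u
open Lie3Mod

namespace Groth.Agent.S13088

open Groth.Agent.Helper19.Lie3

/-- Let A be a commutative domain and D = A[a,b,c,d,e,f,g,h,i]. Then the ideal L = (a − i, b + f, d + h)
of D is minimal among the prime ideals of D containing the Jacobi ideal I = (Q1, Q2, Q3), where Q1 =
ah + di − fg − bg, Q2 = ie + bd − fh − ae, Q3 = hc + dc − af − bi. (The published statement is made
with a regular base ring in force, used there as a domain; the printed argument uses only that the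
base ring is a domain, which is the hypothesis taken here.) -/
theorem result (A : Type u) [CommRing A] [IsDomain A] :
    Lie3Mod.idL A ∈ (Lie3Mod.idI A).minimalPrimes := by
  have hker : Lie3Mod.idL A = RingHom.ker (ρ A).toRingHom := by
    ext x
    rw [mem_idL_iff, RingHom.mem_ker]
    rfl
  have hprime : (Lie3Mod.idL A).IsPrime := by
    rw [hker]
    exact RingHom.ker_isPrime _
  have hdet : Lie3Mod.detM A ∉ Lie3Mod.idL A := by
    rw [mem_idL_iff]
    exact nonZeroDivisors.ne_zero (ρ_detM_mem_nonZeroDivisors A)
  refine ⟨⟨hprime, idI_le_idL A⟩, ?_⟩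
  rintro P ⟨hP, hIP⟩ hPL
  have hdetP : Lie3Mod.detM A ∉ P := fun h => hdet (hPL h)
  intro x hx
  have h1 : x * Lie3Mod.detM A ∈ P := hIP (mul_detM_mem_idI A hx)
  exact (hP.mem_or_mem h1).resolve_right hdetP

end Groth.Agent.S13088
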