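import Mathlib
import Groth.Statements.S13089
import Groth.Agent.Lib.Helper19.Lie3.Final

set_option autoImplicit false
universe u
open Lie3Mod

namespace Groth.Agent.S13089

/-- Let A be a regular commutative ring (Noetherian with regular localizations) and D =
A[a,b,c,d,e,f,g,h,i]. With I = (Q1, Q2, Q3) the Jacobi ideal (Q1 = ah + di − fg − bg, Q2 = ie + bd −
fh − ae, Q3 = hc + dc − af − bi), L = (a − i, b + f, d + h) and det M = −ch² + gbf + ei² − gec + hbi
− ihf, the colon ideal (I : L) = {x ∈ D | xL ⊆ I} equals J = I + (det M). (The printed statement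
also says that this ideal is perfect of height 3; that clause is not restated here.) -/
theorem result (A : Type u) [CommRing A] [IsRegularRing A] :
    (Lie3Mod.idI A).colon (Lie3Mod.idL A : Set (Lie3Mod.D A)) = Lie3Mod.idJ A := by
  rcases subsingleton_or_nontrivial A with hA | hA
  · haveI : Subsingleton (Lie3Mod.D A) := inferInstance
    exact Subsingleton.elim _ _
  · exact Groth.Agent.Helper19.Lie3.NC.colon_eq A

end Groth.Agent.S13089
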