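import Mathlib
import Groth.Statements.S13095
import Groth.Agent.Lib.Helper19.Lie3.FlatZ

set_option autoImplicit false
open Lie3Mod

namespace Groth.Agent.S13095

/-- The moduli scheme of based three-dimensional Lie algebras is flat over the integers and reduced:
with I = (Q1, Q2, Q3) the Jacobi ideal of Z[a,b,c,d,e,f,g,h,i] (Q1 = ah + di − fg − bg, Q2 = ie + bd
− fh − ae, Q3 = hc + dc − af − bi), the ring Z[a,b,c,d,e,f,g,h,i]/I is a flat Z-module and I is a
radical ideal. -/
theorem result :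
    Module.Flat ℤ (Lie3Mod.D ℤ ⧸ Lie3Mod.idI ℤ) ∧ (Lie3Mod.idI ℤ).IsRadical := by
  exact ⟨Groth.Agent.Helper19.Lie3.NC.flat_idI, Groth.Agent.Helper19.Lie3.NC.idI_isRadical ℤ⟩

end Groth.Agent.S13095
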