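import Groth.Statements.S13097
import Groth.Agent.Lib.Helper21.SchImg

set_option autoImplicit false
universe u
open FlatMor

namespace Groth.Agent.S13097

open CategoryTheory AlgebraicGeometry in
/-- Let f : X → S be a quasi-compact, separated morphism of schemes with a section e : S → X (e followed
by f is the identity of S), and U ⊆ S an open subscheme such that f⁻¹(U) is schematically dense in X
(for every open V of X, restriction of functions from V to V ∩ f⁻¹(U) is injective) and such that
the restriction f⁻¹(U) → U of f is a homeomorphism of underlying spaces. Then f is universally a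
homeomorphism (every base change of f is a homeomorphism), and f is finite as soon as it is locally
of finite type. (The published statement also lists surjectivity of f, which a section forces, and
offers as an alternative to the section the hypothesis that f be flat, still with f⁻¹(U) → U only a
homeomorphism; that flat alternative fails: the spectrum of a separable quadratic field extension
over the spectrum of the ground field, with U the whole base, is flat, surjective, quasi-compact,
separated and a homeomorphism over U, yet not universally injective. Only the case of a section,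
whose published proof is complete, is stated here.) -/
theorem result {X S : Scheme.{u}} (f : X ⟶ S)
    [QuasiCompact f] [IsSeparated f] (U : S.Opens)
    (hdense : CInt.IsSchematicallyDense (f ⁻¹ᵁ U)) (hU : IsHomeomorph (f ∣_ U).base)
    (e : S ⟶ X) (he : e ≫ f = 𝟙 S) :
    FlatMor.IsUnivHomeo f ∧ (LocallyOfFiniteType f → IsFinite f) := by
  classical
  -- topological density of f⁻¹U
  have hd : Dense ((f ⁻¹ᵁ U : X.Opens) : Set X) := by
    rw [dense_iff_inter_open]
    intro V hV hVne
    by_contra hcon
    rw [Set.not_nonempty_iff_eq_empty] at hcon
    let V' : X.Opens := ⟨V, hV⟩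
    have hbot : V' ⊓ (f ⁻¹ᵁ U) = ⊥ := by
      ext x
      simp only [TopologicalSpace.Opens.coe_inf, TopologicalSpace.Opens.coe_bot]
      exact Set.ext_iff.mp hcon x
    have hinj := hdense V'
    haveI : Nonempty V' := by
      obtain ⟨x, hx⟩ := hVne
      exact ⟨⟨x, hx⟩⟩
    haveI : Nontrivial Γ(X, V') := Scheme.component_nontrivial X V'
    haveI : Subsingleton Γ(X, V' ⊓ (f ⁻¹ᵁ U)) := by
      rw [hbot]
      infer_instance
    obtain ⟨a, b, hab⟩ := exists_pair_ne Γ(X, V')
    exact hab (hinj (Subsingleton.elim _ _))
  -- the section is a closed immersion
  haveI : IsClosedImmersion (e ≫ f) := by rw [he]; infer_instance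
  haveI : IsClosedImmersion e := IsClosedImmersion.of_comp e f
  -- injectivity of f on f⁻¹U
  have hinjU : ∀ x y : X, f.base x ∈ U → f.base y ∈ U → f.base x = f.base y → x = y := by
    intro x y hx hy hxy
    have h1 : (f ∣_ U).base ⟨x, hx⟩ = (f ∣_ U).base ⟨y, hy⟩ := by
      apply U.ι.injective
      rw [← Scheme.Hom.comp_apply, ← Scheme.Hom.comp_apply, morphismRestrict_ι]
      exact hxy
    have h2 := hU.injective h1
    exact congrArg Subtype.val h2
  have hsub : ((f ⁻¹ᵁ U : X.Opens) : Set X) ⊆ Set.range e.base := by
    intro x hx
    have hfe : ∀ s : S, f.base (e.base s) = s := by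
      intro s
      rw [← Scheme.Hom.comp_apply, he]
      rfl
    refine ⟨f.base x, ?_⟩
    apply hinjU
    · rw [hfe]; exact hx
    · exact hx
    · rw [hfe]
  have hrange : Set.range e.base = Set.univ := by
    have hcl : IsClosed (Set.range e.base) := e.isClosedEmbedding.isClosed_range
    have := hd.mono hsub
    rw [← hcl.closure_eq]
    exact this.closure_eq
  haveI : Surjective e := ⟨Set.range_eq_univ.mp hrange⟩
  have hUHid : FlatMor.IsUnivHomeo (e ≫ f) := by
    rw [Groth.Agent.Helper11.UH.isUnivHomeo_iff, he]
    exact ⟨inferInstance, inferInstance, inferInstance⟩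
  have hUH : FlatMor.IsUnivHomeo f := Groth.Agent.Helper21.SImg.uh_of_comp_surjective e f hUHid
  refine ⟨hUH, fun hft => ?_⟩
  haveI := hft
  exact Groth.Agent.Helper21.SImg.isFinite_of_uh f hUH

end Groth.Agent.S13097
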