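import Groth.Statements.S13098
import Mathlib.Tactic.LinearCombination
import Mathlib.Tactic.Module
import Mathlib.Tactic.FinCases
import Mathlib.Tactic.Abel
import Mathlib.LinearAlgebra.Basis.Basic

set_option autoImplicit false
universe u v
open Lie3Mod

namespace Groth.Agent.S13098

/-- Let R be a commutative ring, M an R-module with a basis x = bs 0, y = bs 1, z = bs 2 indexed by Fin
3, and B an R-bilinear alternating map on M (B m m = 0) with B x y = a x + b y + c z, B x z = d x +
e y + f z and B y z = g x + h y + i z. Then B satisfies the Jacobi identity for all triples if and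
only if the three Jacobi polynomials vanish: ah + di − fg − bg = 0, ie + bd − fh − ae = 0 and hc +
dc − af − bi = 0. (This is the statement that Lie brackets on a based free module of rank 3 are the
points of the closed subscheme of affine 9-space defined by these three equations.) -/
theorem result (R : Type u) [CommRing R] (M : Type v) [AddCommGroup M] [Module R M]
    (bs : Module.Basis (Fin 3) R M) (B : M →ₗ[R] M →ₗ[R] M) (halt : ∀ m : M, B m m = 0)
    (a b c d e f g h i : R)
    (hxy : B (bs 0) (bs 1) = a • bs 0 + b • bs 1 + c • bs 2)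
    (hxz : B (bs 0) (bs 2) = d • bs 0 + e • bs 1 + f • bs 2)
    (hyz : B (bs 1) (bs 2) = g • bs 0 + h • bs 1 + i • bs 2) :
    (∀ u v w : M, B u (B v w) + B v (B w u) + B w (B u v) = 0) ↔
      (a * h + d * i - f * g - b * g = 0 ∧ i * e + b * d - f * h - a * e = 0 ∧
        h * c + d * c - a * f - b * i = 0) := by
  have hskew : ∀ u v : M, B u v = -B v u := by
    intro u v
    have h1 := halt (u + v)
    simp only [map_add, LinearMap.add_apply, halt, zero_add, add_zero] at h1
    exact eq_neg_of_add_eq_zero_right h1
  have hyx : B (bs 1) (bs 0) = -(a • bs 0 + b • bs 1 + c • bs 2) := by rw [hskew, hxy]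
  have hzx : B (bs 2) (bs 0) = -(d • bs 0 + e • bs 1 + f • bs 2) := by rw [hskew, hxz]
  have hzy : B (bs 2) (bs 1) = -(g • bs 0 + h • bs 1 + i • bs 2) := by rw [hskew, hyz]
  have hxx := halt (bs 0)
  have hyy := halt (bs 1)
  have hzz := halt (bs 2)
  have key : B (bs 0) (B (bs 1) (bs 2)) + B (bs 1) (B (bs 2) (bs 0)) + B (bs 2) (B (bs 0) (bs 1)) =
      (a * h + d * i - f * g - b * g) • bs 0 + (i * e + b * d - f * h - a * e) • bs 1 +
        (h * c + d * c - a * f - b * i) • bs 2 := by
    simp only [hxy, hxz, hyz, hyx, hzx, hzy, hxx, hyy, hzz, map_add, map_smul, map_neg, smul_zero,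
      neg_zero, add_zero, zero_add]
    module
  constructor
  · intro hJ
    have h0 := hJ (bs 0) (bs 1) (bs 2)
    rw [key] at h0
    have hli := bs.linearIndependent
    rw [Fintype.linearIndependent_iff] at hli
    have := hli ![a * h + d * i - f * g - b * g, i * e + b * d - f * h - a * e,
      h * c + d * c - a * f - b * i] (by simpa [Fin.sum_univ_three, add_assoc] using h0)
    exact ⟨this 0, this 1, this 2⟩
  · rintro ⟨h1, h2, h3⟩
    have hbasis : ∀ p q r : Fin 3,
        B (bs p) (B (bs q) (bs r)) + B (bs q) (B (bs r) (bs p)) + B (bs r) (B (bs p) (bs q)) = 0 := by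
      intro p q r
      fin_cases p <;> fin_cases q <;> fin_cases r <;>
        simp only [Fin.zero_eta, Fin.mk_one, Fin.reduceFinMk, hxy, hxz, hyz, hyx, hzx, hzy, hxx, hyy, hzz, map_add,
          map_smul, map_neg, smul_zero, neg_zero, add_zero, zero_add, map_zero] <;>
        first
        | module
        | linear_combination (norm := module) h1 • bs 0 + h2 • bs 1 + h3 • bs 2
        | linear_combination (norm := module) (-h1) • bs 0 + (-h2) • bs 1 + (-h3) • bs 2
    intro u v w
    -- reduce to basis vectors by linearity
    have step1 : ∀ (v w : M), (∀ p, B (bs p) (B v w) + B v (B w (bs p)) + B w (B (bs p) v) = 0) →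
        ∀ u, B u (B v w) + B v (B w u) + B w (B u v) = 0 := by
      intro v w hp u
      have : (B.flip (B v w)) + (B v) ∘ₗ (B w) + (B w) ∘ₗ (B.flip v) = 0 := by
        apply bs.ext
        intro p
        simpa using hp p
      have := LinearMap.congr_fun this u
      simpa using this
    apply step1
    intro p
    have hcyc : ∀ u v w : M, B u (B v w) + B v (B w u) + B w (B u v) =
        B v (B w u) + B w (B u v) + B u (B v w) := by
      intro u v w; abel
    rw [hcyc]
    revert v
    intro v
    apply step1
    intro q
    rw [hcyc]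
    apply step1
    intro r
    rw [hcyc]
    exact hbasis p q r

end Groth.Agent.S13098
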