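import Groth.Statements.S13100
import Mathlib.RingTheory.AdicCompletion.Completeness
import Mathlib.RingTheory.Henselian
import Mathlib.Tactic.Ring
import Mathlib.Tactic.LinearCombination

set_option autoImplicit false
universe u
open GrpSch

namespace Groth.Agent.S13100

open Polynomial in
/-- Square roots of power series with square non-zero constant coefficient (char ≠ 2). -/
theorem exists_sq_powerSeries (k : Type*) [Field k] (h2 : (2 : k) ≠ 0) (P : PowerSeries k) (c : k)
    (hc : c ≠ 0) (hP : PowerSeries.constantCoeff P = c * c) : ∃ g : PowerSeries k, g * g = P := by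
  have hH : HenselianRing (PowerSeries k) (Ideal.span {PowerSeries.X}) := inferInstance
  let f : (PowerSeries k)[X] := X ^ 2 - C P
  have hf : f.Monic := monic_X_pow_sub_C P (by norm_num)
  have h1 : f.eval (PowerSeries.C c) ∈ Ideal.span {(PowerSeries.X : PowerSeries k)} := by
    rw [Ideal.mem_span_singleton, PowerSeries.X_dvd_iff]
    simp [f, hP, pow_two]
  have h2' : IsUnit (Ideal.Quotient.mk (Ideal.span {(PowerSeries.X : PowerSeries k)})
      (f.derivative.eval (PowerSeries.C c))) := by
    apply IsUnit.map
    have : f.derivative.eval (PowerSeries.C c) = PowerSeries.C (2 * c) := by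
      simp only [f, derivative_sub, derivative_X_pow, derivative_C, sub_zero, eval_mul, eval_pow,
        eval_X, eval_C, map_mul, Nat.cast_ofNat, Nat.add_one_sub_one, pow_one]
      congr 1
    rw [this]
    exact (IsUnit.mk0 _ (mul_ne_zero h2 hc)).map _
  obtain ⟨a, ha, -⟩ := hH.is_henselian f hf (PowerSeries.C c) h1 h2'
  refine ⟨a, ?_⟩
  have : a ^ 2 - P = 0 := by simpa [f, IsRoot] using ha
  linear_combination this

/-- Let k be an algebraically closed field of characteristic different from 2 and K = k((t)) the field
of Laurent series over k. Then a non-zero Laurent series f is a square in K if and only if its order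
in t is even; consequently the group Kˣ/Kˣ² of non-zero elements modulo squares has exactly two
elements, represented by 1 and t. -/
theorem result (k : Type u) [Field k] [IsAlgClosed k] (h2 : (2 : k) ≠ 0)
    (f : LaurentSeries k) (hf : f ≠ 0) : IsSquare f ↔ Even f.order := by
  constructor
  · rintro ⟨g, rfl⟩
    have hg : g ≠ 0 := by
      rintro rfl
      simp at hf
    exact ⟨g.order, HahnSeries.order_mul hg hg⟩
  · rintro ⟨m, hm⟩
    set P := f.powerSeriesPart with hPdef
    have hcoeff : PowerSeries.constantCoeff P = f.coeff f.order := by
      rw [← PowerSeries.coeff_zero_eq_constantCoeff_apply, hPdef, LaurentSeries.powerSeriesPart_coeff]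
      simp
    have hne : f.coeff f.order ≠ 0 := fun h => hf (HahnSeries.coeff_order_eq_zero.mp h)
    obtain ⟨c, hc⟩ := IsAlgClosed.exists_eq_mul_self (f.coeff f.order)
    have hc0 : c ≠ 0 := by
      rintro rfl
      rw [mul_zero] at hc
      exact hne hc
    obtain ⟨g, hg⟩ := exists_sq_powerSeries k h2 P c hc0 (hcoeff.trans hc)
    refine ⟨HahnSeries.single m 1 * HahnSeries.ofPowerSeries ℤ k g, ?_⟩
    have := LaurentSeries.single_order_mul_powerSeriesPart f
    rw [← this, ← hPdef, ← hg, hm]
    have hs : (HahnSeries.single (m + m) (1 : k) : LaurentSeries k) =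
        HahnSeries.single m 1 * HahnSeries.single m 1 := by
      rw [HahnSeries.single_mul_single, mul_one]
    rw [hs]
    simp only [map_mul]
    ring

end Groth.Agent.S13100
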