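import Groth.Statements.S13101
import Groth.Agent.Lib.Helper19.Basis3
import Mathlib.Tactic.LinearCombination
import Mathlib.Tactic.Ring

set_option autoImplicit false
universe u v
open GrpSch

namespace Groth.Agent.S13101

open Groth.Agent.Helper19

/-- Let A be a commutative ring in which 2 is a unit, and L a Lie algebra over A, free as a module with
basis x = bs 0, y = bs 1, z = bs 2 and brackets [x,y] = y, [x,z] = y + z, [y,z] = 0. Then for every
Lie algebra automorphism φ of L over A there are b, c, h ∈ A and a unit i of A with φ(x) = x + b y +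
c z, φ(y) = i y and φ(z) = h y + i z. Only the form of an automorphism is stated, not that every map
of this form is one. (The published statement identifies the automorphism group scheme with a
semidirect product of two additive groups by the product of the multiplicative and additive group,
for algebras over a field of Laurent series of characteristic not 2, and deduces the vanishing of
its first cohomology; this row records the determination of the automorphisms, over any base ring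
with 2 invertible; the cohomological consequence is not restated.) -/
theorem result (A : Type u) [CommRing A] (h2 : IsUnit (2 : A))
    (L : Type v) [LieRing L] [LieAlgebra A L] (bs : Module.Basis (Fin 3) A L)
    (hxy : ⁅bs 0, bs 1⁆ = bs 1) (hxz : ⁅bs 0, bs 2⁆ = bs 1 + bs 2) (hyz : ⁅bs 1, bs 2⁆ = 0)
    (φ : L ≃ₗ⁅A⁆ L) :
    ∃ b c h i : A, IsUnit i ∧ φ (bs 0) = bs 0 + b • bs 1 + c • bs 2 ∧ φ (bs 1) = i • bs 1 ∧
      φ (bs 2) = h • bs 1 + i • bs 2 := by
  have hyx : ⁅bs 1, bs 0⁆ = -bs 1 := by rw [← lie_skew, hxy]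
  have hzx : ⁅bs 2, bs 0⁆ = -(bs 1 + bs 2) := by rw [← lie_skew, hxz]
  have hzy : ⁅bs 2, bs 1⁆ = 0 := by rw [← lie_skew, hyz, neg_zero]
  have key : ∀ u1 u2 u3 v1 v2 v3 : A,
      ⁅u1 • bs 0 + u2 • bs 1 + u3 • bs 2, v1 • bs 0 + v2 • bs 1 + v3 • bs 2⁆ =
        (0 : A) • bs 0 + ((u1 * v2 - u2 * v1) + (u1 * v3 - u3 * v1)) • bs 1 +
          (u1 * v3 - u3 * v1) • bs 2 := by
    intro u1 u2 u3 v1 v2 v3
    simp only [lie_add, add_lie, lie_smul, smul_lie, lie_self, hxy, hxz, hyz, hyx, hzx, hzy]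
    module
  -- general constraints on a Lie endomorphism
  have constraints : ∀ ψ : L ≃ₗ⁅A⁆ L, ∀ p1 p2 p3 q1 q2 q3 r1 r2 r3 : A,
      ψ (bs 0) = p1 • bs 0 + p2 • bs 1 + p3 • bs 2 →
      ψ (bs 1) = q1 • bs 0 + q2 • bs 1 + q3 • bs 2 →
      ψ (bs 2) = r1 • bs 0 + r2 • bs 1 + r3 • bs 2 →
      q1 = 0 ∧ r1 = 0 ∧ q2 = p1 * q2 + p1 * q3 ∧ q3 = p1 * q3 ∧
        q2 + r2 = p1 * r2 + p1 * r3 ∧ q3 + r3 = p1 * r3 := by
    intro ψ p1 p2 p3 q1 q2 q3 r1 r2 r3 hx hy hz
    have e1 : ψ ⁅bs 0, bs 1⁆ = ⁅ψ (bs 0), ψ (bs 1)⁆ := LieEquiv.map_lie ψ _ _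
    have e2 : ψ ⁅bs 0, bs 2⁆ = ⁅ψ (bs 0), ψ (bs 2)⁆ := LieEquiv.map_lie ψ _ _
    rw [hxy, hx, hy, key] at e1
    rw [hxz, map_add, hx, hy, hz, key] at e2
    have e2' : (q1 + r1) • bs 0 + (q2 + r2) • bs 1 + (q3 + r3) • bs 2 =
        (0 : A) • bs 0 + (p1 * r2 - p2 * r1 + (p1 * r3 - p3 * r1)) • bs 1 +
          (p1 * r3 - p3 * r1) • bs 2 := by
      refine Eq.trans ?_ e2
      module
    obtain ⟨a1, a2, a3⟩ := basis3_ext bs e1
    obtain ⟨b1, b2, b3⟩ := basis3_ext bs e2'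
    subst a1
    have hr1 : r1 = 0 := by simpa using b1
    subst hr1
    refine ⟨rfl, rfl, ?_, ?_, ?_, ?_⟩
    · linear_combination a2
    · linear_combination a3
    · linear_combination b2
    · linear_combination b3
  obtain ⟨p1, p2, p3, hx⟩ := basis3_exists bs (φ (bs 0))
  obtain ⟨q1, q2, q3, hy⟩ := basis3_exists bs (φ (bs 1))
  obtain ⟨r1, r2, r3, hz⟩ := basis3_exists bs (φ (bs 2))
  obtain ⟨p1', p2', p3', hx'⟩ := basis3_exists bs (φ.symm (bs 0))
  obtain ⟨q1', q2', q3', hy'⟩ := basis3_exists bs (φ.symm (bs 1))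
  obtain ⟨r1', r2', r3', hz'⟩ := basis3_exists bs (φ.symm (bs 2))
  obtain ⟨hq1, hr1, c1, c2, c3, c4⟩ := constraints φ _ _ _ _ _ _ _ _ _ hx hy hz
  obtain ⟨hq1', hr1', -⟩ := constraints φ.symm _ _ _ _ _ _ _ _ _ hx' hy' hz'
  subst hq1 hr1 hq1' hr1'
  -- inverse relations
  have i1 : φ.symm (φ (bs 1)) = bs 1 := φ.symm_apply_apply _
  have i2 : φ.symm (φ (bs 2)) = bs 2 := φ.symm_apply_apply _
  rw [hy, map_add, map_add, map_smul, map_smul, map_smul, hx', hy', hz'] at i1
  rw [hz, map_add, map_add, map_smul, map_smul, map_smul, hx', hy', hz'] at i2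
  have i1' : (0 : A) • bs 0 + (q2 * q2' + q3 * r2') • bs 1 + (q2 * q3' + q3 * r3') • bs 2 =
      (0 : A) • bs 0 + (1 : A) • bs 1 + (0 : A) • bs 2 := by
    refine Eq.trans ?_ (i1.trans ?_)
    · module
    · module
  have i2' : (0 : A) • bs 0 + (r2 * q2' + r3 * r2') • bs 1 + (r2 * q3' + r3 * r3') • bs 2 =
      (0 : A) • bs 0 + (0 : A) • bs 1 + (1 : A) • bs 2 := by
    refine Eq.trans ?_ (i2.trans ?_)
    · module
    · module
  obtain ⟨-, e11, e12⟩ := basis3_ext bs i1'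
  obtain ⟨-, e21, e22⟩ := basis3_ext bs i2'
  have hD : (q2 * r3 - q3 * r2) * (q2' * r3' - q3' * r2') = 1 := by
    linear_combination (r2 * q3' + r3 * r3') * e11 + e22 - (r2 * q2' + r3 * r2') * e12
  have hDu : IsUnit (q2 * r3 - q3 * r2) := IsUnit.of_mul_eq_one _ hD
  -- n = 1 - p1
  have n1 : (1 - p1) * q3 = 0 := by linear_combination c2
  have n2 : (1 - p1) * r3 = -q3 := by linear_combination c4
  have n3 : (1 - p1) * q2 = q3 := by linear_combination c1 - n1
  have n4 : (1 - p1) * r2 = r3 + q3 - q2 := by linear_combination c3 - n2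
  have nD : (1 - p1) * (q2 * r3 - q3 * r2) = q3 * r3 := by
    linear_combination r3 * n3 - r2 * n1
  have nnD : (1 - p1) ^ 2 * (q2 * r3 - q3 * r2) = 0 := by
    linear_combination (1 - p1) * nD + r3 * n1
  have hnn : (1 - p1) ^ 2 = 0 := (hDu.mul_left_eq_zero).mp nnD
  have h2q3 : 2 * q3 = 0 := by
    linear_combination (1 - p1) * n4 - r2 * hnn + n2 + n1 - n3
  have hq3 : q3 = 0 := (h2.mul_right_eq_zero).mp h2q3
  have hn : 1 - p1 = 0 := by
    have : (1 - p1) * (q2 * r3 - q3 * r2) = 0 := by rw [nD, hq3, zero_mul]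
    exact (hDu.mul_left_eq_zero).mp this
  have hp1 : p1 = 1 := by linear_combination -hn
  have hq2 : q2 = r3 := by linear_combination n4 - r2 * hn + hq3
  refine ⟨p2, p3, r2, q2, ?_, ?_, ?_, ?_⟩
  · have : IsUnit (q2 * q2) := by
      convert hDu using 1
      rw [hq3, ← hq2]; ring
    exact isUnit_of_mul_isUnit_left this
  · rw [hx, hp1, one_smul]
  · rw [hy, hq3]; module
  · rw [hz, ← hq2]; module

end Groth.Agent.S13101
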