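import Groth.Statements.S13102
import Groth.Agent.Lib.Helper19.Basis3
import Mathlib.Tactic.LinearCombination
import Mathlib.Tactic.Ring

set_option autoImplicit false
universe u v w
open GrpSch

namespace Groth.Agent.S13102

open Groth.Agent.Helper19

/-- Let K be a field, α ∈ K, A a commutative K-algebra and L a Lie algebra over A which is free as an
A-module with basis x = bs 0, y = bs 1, z = bs 2 and brackets [x,y] = y, [x,z] = α z, [y,z] = 0. If
α² ≠ 1 then every Lie algebra automorphism φ of L over A satisfies φ(x) = x + b y + c z, φ(y) = e y,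
φ(z) = i z for some b, c ∈ A and units e, i of A. If α = 1 then every such φ satisfies φ(x) = x + b
y + c z, φ(y) = e y + f z, φ(z) = h y + i z with e i − f h a unit of A. (The printed statement
identifies the automorphism group schemes with the corresponding semidirect products, treats also α
= −1 in characteristic not 2, and computes first cohomology over a field of Laurent series; those
clauses are not restated here.) -/
theorem result (K : Type u) [Field K] (α : K) (A : Type v) [CommRing A] [Algebra K A]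
    (L : Type w) [LieRing L] [LieAlgebra A L] (bs : Module.Basis (Fin 3) A L)
    (hxy : ⁅bs 0, bs 1⁆ = bs 1) (hxz : ⁅bs 0, bs 2⁆ = algebraMap K A α • bs 2) (hyz : ⁅bs 1, bs 2⁆ = 0)
    (φ : L ≃ₗ⁅A⁆ L) :
    (α ^ 2 ≠ 1 → ∃ b c e i : A, IsUnit e ∧ IsUnit i ∧ φ (bs 0) = bs 0 + b • bs 1 + c • bs 2 ∧
        φ (bs 1) = e • bs 1 ∧ φ (bs 2) = i • bs 2) ∧
    (α = 1 → ∃ b c e f h i : A, IsUnit (e * i - f * h) ∧ φ (bs 0) = bs 0 + b • bs 1 + c • bs 2 ∧
        φ (bs 1) = e • bs 1 + f • bs 2 ∧ φ (bs 2) = h • bs 1 + i • bs 2) := by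
  set a : A := algebraMap K A α with ha
  have hyx : ⁅bs 1, bs 0⁆ = -bs 1 := by rw [← lie_skew, hxy]
  have hzx : ⁅bs 2, bs 0⁆ = -(a • bs 2) := by rw [← lie_skew, hxz]
  have hzy : ⁅bs 2, bs 1⁆ = 0 := by rw [← lie_skew, hyz, neg_zero]
  have key : ∀ u1 u2 u3 v1 v2 v3 : A,
      ⁅u1 • bs 0 + u2 • bs 1 + u3 • bs 2, v1 • bs 0 + v2 • bs 1 + v3 • bs 2⁆ =
        (0 : A) • bs 0 + (u1 * v2 - u2 * v1) • bs 1 + (a * (u1 * v3 - u3 * v1)) • bs 2 := by
    intro u1 u2 u3 v1 v2 v3
    simp only [lie_add, add_lie, lie_smul, smul_lie, lie_self, hxy, hxz, hyz, hyx, hzx, hzy]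
    module
  -- general constraints on a Lie automorphism
  have constraints : ∀ ψ : L ≃ₗ⁅A⁆ L, ∀ p1 p2 p3 q1 q2 q3 r1 r2 r3 : A,
      ψ (bs 0) = p1 • bs 0 + p2 • bs 1 + p3 • bs 2 →
      ψ (bs 1) = q1 • bs 0 + q2 • bs 1 + q3 • bs 2 →
      ψ (bs 2) = r1 • bs 0 + r2 • bs 1 + r3 • bs 2 →
      q1 = 0 ∧ q2 = p1 * q2 - p2 * q1 ∧ q3 = a * (p1 * q3 - p3 * q1) ∧ a * r1 = 0 ∧
        a * r2 = p1 * r2 - p2 * r1 ∧ a * r3 = a * (p1 * r3 - p3 * r1) := by
    intro ψ p1 p2 p3 q1 q2 q3 r1 r2 r3 hx hy hz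
    have e1 : ψ ⁅bs 0, bs 1⁆ = ⁅ψ (bs 0), ψ (bs 1)⁆ := LieEquiv.map_lie ψ _ _
    have e2 : ψ ⁅bs 0, bs 2⁆ = ⁅ψ (bs 0), ψ (bs 2)⁆ := LieEquiv.map_lie ψ _ _
    rw [hxy, hx, hy, key] at e1
    rw [hxz, map_smul, hx, hz, key] at e2
    have e2' : (a * r1) • bs 0 + (a * r2) • bs 1 + (a * r3) • bs 2 =
        (0 : A) • bs 0 + (p1 * r2 - p2 * r1) • bs 1 + (a * (p1 * r3 - p3 * r1)) • bs 2 := by
      refine Eq.trans ?_ e2
      module
    obtain ⟨a1, a2, a3⟩ := basis3_ext bs e1
    obtain ⟨b1, b2, b3⟩ := basis3_ext bs e2'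
    exact ⟨a1, a2, a3, b1, b2, b3⟩
  obtain ⟨p1, p2, p3, hx⟩ := basis3_exists bs (φ (bs 0))
  obtain ⟨q1, q2, q3, hy⟩ := basis3_exists bs (φ (bs 1))
  obtain ⟨r1, r2, r3, hz⟩ := basis3_exists bs (φ (bs 2))
  obtain ⟨p1', p2', p3', hx'⟩ := basis3_exists bs (φ.symm (bs 0))
  obtain ⟨q1', q2', q3', hy'⟩ := basis3_exists bs (φ.symm (bs 1))
  obtain ⟨r1', r2', r3', hz'⟩ := basis3_exists bs (φ.symm (bs 2))
  obtain ⟨hq1, c1, c2, c3, c4, c5⟩ := constraints φ _ _ _ _ _ _ _ _ _ hx hy hz
  obtain ⟨hq1', -, -, c3', -, -⟩ := constraints φ.symm _ _ _ _ _ _ _ _ _ hx' hy' hz'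
  subst hq1 hq1'
  have hinv : ∀ v, φ.symm (φ v) = v := φ.symm_apply_apply
  constructor
  · intro hα
    have hα1 : IsUnit (a ^ 2 - 1) := by
      have : a ^ 2 - 1 = algebraMap K A (α ^ 2 - 1) := by rw [ha, map_sub, map_pow, map_one]
      rw [this]
      exact (IsUnit.mk0 _ (sub_ne_zero.mpr hα)).map _
    -- first show r1 = 0, r1' = 0
    have hr : r1 = 0 ∧ r1' = 0 := by
      by_cases hα0 : α = 0
      · -- z is central
        have ha0 : a = 0 := by rw [ha, hα0, map_zero]
        have hcen : ∀ w : L, ⁅bs 2, w⁆ = 0 := by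
          intro w
          rw [basis3_repr bs w]
          simp only [lie_add, lie_smul, lie_self, hzx, hzy, ha0]
          simp
        have hcen' : ∀ (ψ : L ≃ₗ⁅A⁆ L) (w : L), ⁅ψ (bs 2), w⁆ = 0 := by
          intro ψ w
          have : ⁅ψ (bs 2), ψ (ψ.symm w)⁆ = 0 := by
            rw [← LieEquiv.map_lie, hcen, map_zero]
          rwa [ψ.apply_symm_apply] at this
        have aux : ∀ (ψ : L ≃ₗ⁅A⁆ L) (s1 s2 s3 : A),
            ψ (bs 2) = s1 • bs 0 + s2 • bs 1 + s3 • bs 2 → s1 = 0 := by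
          intro ψ s1 s2 s3 hs
          have h1 := hcen' ψ (bs 1)
          rw [hs] at h1
          have h1' : ⁅s1 • bs 0 + s2 • bs 1 + s3 • bs 2,
              (0 : A) • bs 0 + (1 : A) • bs 1 + (0 : A) • bs 2⁆ = 0 := by
            rw [← h1]; congr 1; module
          rw [key] at h1'
          have h1'' : (0 : A) • bs 0 + (s1 * 1 - s2 * 0) • bs 1 + (a * (s1 * 0 - s3 * 0)) • bs 2 =
              (0 : A) • bs 0 + (0 : A) • bs 1 + (0 : A) • bs 2 := by
            rw [h1']; module
          obtain ⟨-, e, -⟩ := basis3_ext bs h1''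
          linear_combination e
        exact ⟨aux φ _ _ _ hz, aux φ.symm _ _ _ hz'⟩
      · have hau : IsUnit a := (IsUnit.mk0 _ hα0).map _
        exact ⟨(hau.mul_right_eq_zero).mp c3, (hau.mul_right_eq_zero).mp c3'⟩
    obtain ⟨hr1, hr1'⟩ := hr
    subst hr1 hr1'
    obtain ⟨hp, hD⟩ := basis3_block_unit bs φ φ.symm hinv hx hy hz hx' hy' hz'
    have hDu : IsUnit (q2 * r3 - q3 * r2) := IsUnit.of_mul_eq_one _ hD
    have n1 : (1 - p1) * q2 = 0 := by linear_combination c1
    have m1 : (1 - a * p1) * q3 = 0 := by linear_combination c2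
    have m2 : (a - p1) * r2 = 0 := by linear_combination c4
    have n2' : a * ((1 - p1) * r3) = 0 := by linear_combination c5
    have main : 1 - p1 = 0 ∧ q3 = 0 ∧ r2 = 0 := by
      by_cases hα0 : α = 0
      · have ha0 : a = 0 := by rw [ha, hα0, map_zero]
        have hq3 : q3 = 0 := by rw [ha0] at m1; linear_combination m1
        have h : p1 * r2 = 0 := by rw [ha0] at m2; linear_combination -m2
        have hr2 : r2 = 0 := by linear_combination p1' * h - r2 * hp
        have hnD : (1 - p1) * (q2 * r3 - q3 * r2) = 0 := by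
          linear_combination r3 * n1 - (1 - p1) * r2 * hq3
        exact ⟨(hDu.mul_left_eq_zero).mp hnD, hq3, hr2⟩
      · have hau : IsUnit a := (IsUnit.mk0 _ hα0).map _
        have n2 : (1 - p1) * r3 = 0 := (hau.mul_right_eq_zero).mp n2'
        have hnm : (1 - p1) * (1 - a * p1) = 0 := by
          have : (1 - p1) * (1 - a * p1) * (q2 * r3 - q3 * r2) = 0 := by
            linear_combination (1 - a * p1) * r3 * n1 - (1 - p1) * r2 * m1
          exact (hDu.mul_left_eq_zero).mp this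
        have hnm' : (1 - p1) * (a - p1) = 0 := by
          have : (1 - p1) * (a - p1) * (q2 * r3 - q3 * r2) = 0 := by
            linear_combination (a - p1) * r3 * n1 - (1 - p1) * q3 * m2
          exact (hDu.mul_left_eq_zero).mp this
        have hn' : (a ^ 2 - 1) * (1 - p1) = 0 := by
          linear_combination a * hnm' - hnm
        have hn : 1 - p1 = 0 := (hα1.mul_right_eq_zero).mp hn'
        have hp1 : p1 = 1 := by linear_combination -hn
        have ha1u : IsUnit (a - 1) := by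
          have : IsUnit ((a - 1) * (a + 1)) := by convert hα1 using 1; ring
          exact isUnit_of_mul_isUnit_left this
        have hq3 : q3 = 0 := by
          have : (a - 1) * q3 = 0 := by rw [hp1] at m1; linear_combination -m1
          exact (ha1u.mul_right_eq_zero).mp this
        have hr2 : r2 = 0 := by
          have : (a - 1) * r2 = 0 := by rw [hp1] at m2; linear_combination m2
          exact (ha1u.mul_right_eq_zero).mp this
        exact ⟨hn, hq3, hr2⟩
    obtain ⟨hn, hq3, hr2⟩ := main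
    have hp1 : p1 = 1 := by linear_combination -hn
    have hDu' : IsUnit (q2 * r3) := by
      convert hDu using 1
      rw [hq3]; ring
    refine ⟨p2, p3, q2, r3, isUnit_of_mul_isUnit_left hDu', isUnit_of_mul_isUnit_right hDu',
      ?_, ?_, ?_⟩
    · rw [hx, hp1, one_smul]
    · rw [hy, hq3]; module
    · rw [hz, hr2]; module
  · intro hα
    have ha1 : a = 1 := by rw [ha, hα, map_one]
    rw [ha1] at c2 c3 c4 c5 c3'
    have hr1 : r1 = 0 := by linear_combination c3
    have hr1' : r1' = 0 := by linear_combination c3'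
    subst hr1 hr1'
    obtain ⟨hp, hD⟩ := basis3_block_unit bs φ φ.symm hinv hx hy hz hx' hy' hz'
    have hDu : IsUnit (q2 * r3 - q3 * r2) := IsUnit.of_mul_eq_one _ hD
    have hnD : (1 - p1) * (q2 * r3 - q3 * r2) = 0 := by
      linear_combination r3 * c1 - r2 * c2
    have hn : 1 - p1 = 0 := (hDu.mul_left_eq_zero).mp hnD
    have hp1 : p1 = 1 := by linear_combination -hn
    refine ⟨p2, p3, q2, q3, r2, r3, hDu, ?_, ?_, ?_⟩
    · rw [hx, hp1, one_smul]
    · rw [hy]; module
    · rw [hz]; module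

end Groth.Agent.S13102
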