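import Groth.Statements.S13104
import Mathlib
-- import your own Groth.Agent.* helpers here

set_option autoImplicit false
universe u
open GrpSch

namespace Groth.Agent.S13104

section
open CategoryTheory AlgebraicGeometry Limits

theorem epi_like {T T' G : Scheme.{u}} [IsAffine T] (j : T' ⟶ T) (hsurj : Function.Surjective j)
    (hinj : Function.Injective j.appTop.hom) (u₁ u₂ : T ⟶ G) (h : j ≫ u₁ = j ≫ u₂) : u₁ = u₂ := by
  let e := equalizer.ι u₁ u₂
  let j' := equalizer.lift j h
  have hj : j' ≫ e = j := equalizer.lift_ι _ _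
  have hes : Function.Surjective e := by
    intro t
    obtain ⟨t', rfl⟩ := hsurj t
    exact ⟨j' t', by rw [← Scheme.Hom.comp_apply, hj]⟩
  haveI : IsClosedImmersion e :=
    .of_isPreimmersion _ (by rw [hes.range_eq]; exact isClosed_univ)
  have hinj' : Function.Injective e.appTop := by
    have h1 : j.appTop = e.appTop ≫ j'.appTop := by
      rw [← hj, Scheme.Hom.comp_appTop]
    intro a b hab
    apply hinj
    rw [h1]
    simp only [CommRingCat.hom_comp, RingHom.coe_comp, Function.comp_apply]
    exact congrArg _ hab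
  haveI := IsClosedImmersion.isIso_of_injective_of_isAffine hinj'
  rw [← cancel_epi e]
  exact equalizer.condition _ _

theorem spec_surj {R S : Type u} [CommRing R] [CommRing S] (ψ : R →+* S) {B : Type u} [CommRing B]
    (π₁ : R →+* B) (π₂ : S →+* B) (hπ : π₂.comp ψ = π₁) (hπ₁ : Function.Surjective π₁)
    (hker : ∀ x, π₁ x = 0 → IsNilpotent x) :
    Function.Surjective (Spec.map (CommRingCat.ofHom ψ)) := by
  intro p
  have hp : p ∈ Set.range (PrimeSpectrum.comap π₁) := by
    rw [range_comap_of_surjective _ π₁ hπ₁]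
    have : PrimeSpectrum.zeroLocus (RingHom.ker π₁ : Set R) = Set.univ := by
      rw [PrimeSpectrum.zeroLocus_eq_univ_iff]
      intro x hx
      exact mem_nilradical.mpr (hker x hx)
    rw [this]
    trivial
  obtain ⟨p₀, rfl⟩ := hp
  refine ⟨PrimeSpectrum.comap π₂ p₀, ?_⟩
  rw [Spec.map_apply]
  show PrimeSpectrum.comap ψ (PrimeSpectrum.comap π₂ p₀) = _
  rw [← hπ]
  rfl

theorem appTop_inj {R S : CommRingCat.{u}} (f : R ⟶ S) (hf : Function.Injective f.hom) :
    Function.Injective (Spec.map f).appTop.hom := by
  intro a b hab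
  have h1 : ∀ x, (Scheme.ΓSpecIso S).hom.hom ((Spec.map f).appTop.hom x) =
      f.hom ((Scheme.ΓSpecIso R).hom.hom x) := by
    intro x
    have := Scheme.ΓSpecIso_naturality f
    exact congrArg (fun g => g.hom x) this
  have h2 : f.hom ((Scheme.ΓSpecIso R).hom.hom a) = f.hom ((Scheme.ΓSpecIso R).hom.hom b) := by
    rw [← h1, ← h1, hab]
  have h3 := hf h2
  exact (ConcreteCategory.bijective_of_isIso (Scheme.ΓSpecIso R).hom).injective h3

theorem main (B : Type u) [CommRing B]
    (ψ : DualNumber B →+* DualNumber (DualNumber B))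
    (hψB : ∀ b : B, ψ (algebraMap B (DualNumber B) b) = algebraMap B (DualNumber (DualNumber B)) b)
    (hψ : ψ DualNumber.eps = algebraMap (DualNumber B) (DualNumber (DualNumber B)) DualNumber.eps * DualNumber.eps)
    (G : Scheme.{u}) :
    Function.Injective (fun u : Spec (CommRingCat.of (DualNumber B)) ⟶ G =>
      Spec.map (CommRingCat.ofHom (R := DualNumber B) (S := DualNumber (DualNumber B)) ψ) ≫ u) := by
  intro u₁ u₂ h
  have ha : ∀ b, algebraMap B (DualNumber B) b = TrivSqZeroExt.inl b := fun b => rfl
  have he : (DualNumber.eps : DualNumber B) = TrivSqZeroExt.inr 1 := rfl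
  have haa : ∀ y : DualNumber B, algebraMap (DualNumber B) (DualNumber (DualNumber B)) y =
      TrivSqZeroExt.inl y := fun y => rfl
  have hab : ∀ b : B, algebraMap B (DualNumber (DualNumber B)) b =
      TrivSqZeroExt.inl (TrivSqZeroExt.inl b) := fun b => rfl
  have hee : (DualNumber.eps : DualNumber (DualNumber B)) = TrivSqZeroExt.inr 1 := rfl
  have hform : ∀ x : DualNumber B, ψ x =
      TrivSqZeroExt.inl (TrivSqZeroExt.inl x.fst) + TrivSqZeroExt.inr (TrivSqZeroExt.inr x.snd) := by
    intro x
    have hx : x = algebraMap B (DualNumber B) x.fst +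
        algebraMap B (DualNumber B) x.snd * DualNumber.eps := by
      rw [ha, ha, he, TrivSqZeroExt.inl_mul_inr, smul_eq_mul, mul_one,
        TrivSqZeroExt.inl_fst_add_inr_snd_eq]
    conv_lhs => rw [hx]
    rw [map_add, map_mul, hψB, hψB, hψ, hab, hab, haa, he, hee, TrivSqZeroExt.inl_mul_inr,
      smul_eq_mul, mul_one, TrivSqZeroExt.inl_mul_inr, smul_eq_mul, TrivSqZeroExt.inl_mul_inr,
      smul_eq_mul, mul_one]
  have hψinj : Function.Injective ψ := by
    intro x y hxy
    rw [hform, hform] at hxy
    have h1 := congrArg (fun z => z.fst.fst) hxy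
    have h2 := congrArg (fun z => z.snd.snd) hxy
    simp at h1 h2
    exact TrivSqZeroExt.ext h1 h2
  let π₁ : DualNumber B →+* B := (TrivSqZeroExt.fstHom B B B).toRingHom
  let π₂ : DualNumber (DualNumber B) →+* B :=
    π₁.comp (TrivSqZeroExt.fstHom (DualNumber B) (DualNumber B) (DualNumber B)).toRingHom
  have hπ : π₂.comp ψ = π₁ := by
    refine RingHom.ext fun x => ?_
    show (ψ x).fst.fst = x.fst
    rw [hform]
    simp
  have hπ₁ : Function.Surjective π₁ := fun b => ⟨TrivSqZeroExt.inl b, rfl⟩
  have hker : ∀ x, π₁ x = 0 → IsNilpotent x := by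
    intro x hx
    have hx' : x.fst = 0 := hx
    refine ⟨2, ?_⟩
    rw [pow_two]
    apply TrivSqZeroExt.ext <;> simp [hx']
  have hs := spec_surj (R := DualNumber B) (S := DualNumber (DualNumber B)) (B := B) ψ π₁ π₂ hπ hπ₁ hker
  have hi := appTop_inj (CommRingCat.ofHom (R := DualNumber B) (S := DualNumber (DualNumber B)) ψ) hψinj
  exact epi_like _ hs hi u₁ u₂ h

end

open CategoryTheory AlgebraicGeometry in
/-- Let B be a commutative ring, B[ε] the ring of dual numbers (ε² = 0) and B[α, β]/(α², β²) the double
dual numbers, realised as dual numbers over the dual numbers with α the inner and β the outer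
generator, and let ψ : B[ε] → B[α, β]/(α², β²) be the B-algebra homomorphism with ψ(ε) = αβ. Then
for every scheme G the map u ↦ Spec(ψ) ≫ u from morphisms Spec B[ε] → G to morphisms Spec
B[α,β]/(α²,β²) → G is injective. (The printed statement is its consequence for a group scheme G: the
map Lie(G)(B) → G(B[α,β]/(α²,β²)), x ↦ exp(αβ x), is injective; the injectivity on all B[ε]-points
stated here is what the printed argument establishes.) -/
theorem result (B : Type u) [CommRing B]
    (ψ : DualNumber B →+* DualNumber (DualNumber B))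
    (hψB : ∀ b : B, ψ (algebraMap B (DualNumber B) b) = algebraMap B (DualNumber (DualNumber B)) b)
    (hψ : ψ DualNumber.eps = algebraMap (DualNumber B) (DualNumber (DualNumber B)) DualNumber.eps * DualNumber.eps)
    (G : Scheme.{u}) :
    Function.Injective (fun u : Spec (CommRingCat.of (DualNumber B)) ⟶ G =>
      Spec.map (CommRingCat.ofHom (R := DualNumber B) (S := DualNumber (DualNumber B)) ψ) ≫ u) := by
  exact Groth.Agent.S13104.main B ψ hψB hψ G

end Groth.Agent.S13104
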