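import Groth.Statements.S13106


set_option autoImplicit false
universe u
open GrpSch

namespace Groth.Agent.S13106

open CategoryTheory AlgebraicGeometry in
/-- Let f : X → Y be a morphism of schemes and U ⊆ Y a schematically dense open subscheme (for every
open V of Y, restriction of functions from V to V ∩ U is injective) such that the restriction f⁻¹(U)
→ U of f is an isomorphism. Then two morphisms from Y to a scheme separated over a base T that agree
after composing with f and have the same composite to T are equal: if Z → T is separated and v₁, v₂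
: Y → Z satisfy v₁ ≫ (Z → T) = v₂ ≫ (Z → T) and f ≫ v₁ = f ≫ v₂, then v₁ = v₂. (The published
statement is the case of a morphism between two prolongations over A[[t]] of a finite group scheme
over A((t)), where U is the generic fibre, schematically dense by flatness; uniqueness of
prolongation maps follows.) -/
theorem result {X Y Z T : Scheme.{u}} (f : X ⟶ Y)
    (U : Y.Opens) (hU : CInt.IsSchematicallyDense U) [IsIso (f ∣_ U)]
    (z : Z ⟶ T) [IsSeparated z] (v₁ v₂ : Y ⟶ Z) (hz : v₁ ≫ z = v₂ ≫ z) (h : f ≫ v₁ = f ≫ v₂) :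
    v₁ = v₂ := by
  classical
  -- `U.ι ≫ v₁ = U.ι ≫ v₂`
  have hUι : U.ι ≫ v₁ = U.ι ≫ v₂ := by
    have h1 : U.ι = inv (f ∣_ U) ≫ (f ⁻¹ᵁ U).ι ≫ f := by
      rw [← morphismRestrict_ι, IsIso.inv_hom_id_assoc]
    rw [h1, Category.assoc, Category.assoc, Category.assoc, Category.assoc, h]
  let Y' : Over T := Over.mk (v₁ ≫ z)
  let Z' : Over T := Over.mk z
  let U' : Over T := Over.mk (U.ι ≫ v₁ ≫ z)
  let f' : Y' ⟶ Z' := Over.homMk v₁
  let g' : Y' ⟶ Z' := Over.homMk v₂ hz.symm
  let ι' : U' ⟶ Y' := Over.homMk U.ι
  haveI : IsSeparated Z'.hom := ‹_›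
  have hι' : ι' ≫ f' = ι' ≫ g' := by ext1; exact hUι
  let k : U' ⟶ Limits.equalizer f' g' := Limits.equalizer.lift ι' hι'
  have hk : k.left ≫ (Limits.equalizer.ι f' g').left = U.ι := by
    rw [← Over.comp_left, Limits.equalizer.lift_ι]; rfl
  have hker : (Limits.equalizer.ι f' g').left.ker = ⊥ := by
    ext V a
    have h2 : Function.Injective (U.ι.app V.1).hom := by
      rw [Scheme.Opens.ι_app]
      have hW : ∀ (W : Y.Opens) (hW : W ≤ V.1), W = V.1 ⊓ U →
          Function.Injective (Y.presheaf.map (homOfLE hW).op).hom := by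
        rintro W hW rfl
        exact hU V.1
      apply hW
      ext x
      constructor
      · rintro ⟨y, hy, rfl⟩
        exact ⟨hy, y.2⟩
      · rintro ⟨hxV, hxU⟩
        exact ⟨⟨x, hxU⟩, hxV, rfl⟩
    have hinj : Function.Injective ((Limits.equalizer.ι f' g').left.app V.1).hom := by
      rw [injective_iff_map_eq_zero]
      intro a ha
      apply h2
      rw [map_zero]
      have h4 := Scheme.Hom.congr_app hk.symm V.1
      have h5 : ((k.left ≫ (Limits.equalizer.ι f' g').left).app V.1).hom a =
          (k.left.app ((Limits.equalizer.ι f' g').left ⁻¹ᵁ V.1)).hom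
            (((Limits.equalizer.ι f' g').left.app V.1).hom a) := by
        rw [Scheme.Hom.comp_app]; rfl
      rw [h4]
      simp only [CommRingCat.hom_comp, RingHom.comp_apply]
      rw [h5, ha, map_zero]
      exact map_zero _
    rw [Scheme.Hom.ker_apply, RingHom.mem_ker]
    simp only [Scheme.IdealSheafData.ideal_bot, Pi.bot_apply, Ideal.mem_bot]
    exact ⟨fun ha => hinj (by rw [ha, map_zero]), fun ha => by rw [ha, map_zero]⟩
  haveI : IsIso (Limits.equalizer.ι f' g').left := IsClosedImmersion.isIso_iff_ker_eq_bot.mpr hker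
  rw [← cancel_epi (Limits.equalizer.ι f' g').left]
  exact congr($(Limits.equalizer.condition f' g').left)

end Groth.Agent.S13106
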