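import Groth.Statements.S13107
import Groth.Agent.Lib.Helper19.Basis3
import Mathlib.Tactic.LinearCombination
import Mathlib.Tactic.Ring

set_option autoImplicit false
universe u v w
open GrpSch

namespace Groth.Agent.S13107

open Groth.Agent.Helper19

theorem aux (K : Type*) [Field K] (T : K)
    (F : Type*) [LieRing F] [LieAlgebra K F] (bF : Module.Basis (Fin 3) K F)
    (hF01 : ⁅bF 0, bF 1⁆ = bF 2) (hF02 : ⁅bF 0, bF 2⁆ = T • bF 1)
    (hF12 : ⁅bF 1, bF 2⁆ = 0)
    (L : Type*) [LieRing L] [LieAlgebra K L] (bL : Module.Basis (Fin 3) K L)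
    (hL01 : ⁅bL 0, bL 1⁆ = bL 1) (φ : L ≃ₗ⁅K⁆ F) : ∃ p1 : K, T * p1 ^ 2 = 1 := by
  have hF10 : ⁅bF 1, bF 0⁆ = -bF 2 := by rw [← lie_skew, hF01]
  have hF20 : ⁅bF 2, bF 0⁆ = -(T • bF 1) := by rw [← lie_skew, hF02]
  have hF21 : ⁅bF 2, bF 1⁆ = 0 := by rw [← lie_skew, hF12, neg_zero]
  have key : ∀ u1 u2 u3 v1 v2 v3 : K,
      ⁅u1 • bF 0 + u2 • bF 1 + u3 • bF 2, v1 • bF 0 + v2 • bF 1 + v3 • bF 2⁆ =
        (0 : K) • bF 0 + (T * (u1 * v3 - u3 * v1)) • bF 1 +
          (u1 * v2 - u2 * v1) • bF 2 := by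
    intro u1 u2 u3 v1 v2 v3
    simp only [lie_add, add_lie, lie_smul, smul_lie, lie_self, hF01, hF02, hF12, hF10, hF20, hF21]
    module
  obtain ⟨p1, p2, p3, hx⟩ := basis3_exists bF (φ (bL 0))
  obtain ⟨q1, q2, q3, hy⟩ := basis3_exists bF (φ (bL 1))
  have e1 : φ ⁅bL 0, bL 1⁆ = ⁅φ (bL 0), φ (bL 1)⁆ := LieEquiv.map_lie φ _ _
  rw [hL01, hx, hy, key] at e1
  obtain ⟨a1, a2, a3⟩ := basis3_ext bF e1
  subst a1
  -- q2 = T p1 q3, q3 = p1 q2
  have hq : (q2, q3) ≠ (0, 0) := by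
    intro h
    rw [Prod.mk.injEq] at h
    have : φ (bL 1) = 0 := by rw [hy, h.1, h.2]; simp
    have h0 : bL 1 = 0 := by
      have := congrArg φ.symm this
      rwa [φ.symm_apply_apply, map_zero] at this
    exact bL.ne_zero 1 h0
  refine ⟨p1, ?_⟩
  have h2 : (1 - T * p1 ^ 2) * q2 = 0 := by
    linear_combination a2 + T * p1 * a3
  have h3 : (1 - T * p1 ^ 2) * q3 = 0 := by
    linear_combination a3 + p1 * a2
  by_contra hne
  have hne' : 1 - T * p1 ^ 2 ≠ 0 := fun h => hne (by linear_combination -h)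
  apply hq
  rw [Prod.mk.injEq]
  exact ⟨(mul_eq_zero.mp h2).resolve_left hne', (mul_eq_zero.mp h3).resolve_left hne'⟩

/-- Let k be a field, K = k((t)) the field of Laurent series over k, F a Lie algebra over K with a basis
x' = bF 0, y' = bF 1, z' = bF 2 and brackets [x',y'] = z', [x',z'] = t y', [y',z'] = 0, and L a Lie
algebra over K with a basis x = bL 0, y = bL 1, z = bL 2 and brackets [x,y] = y, [x,z] = −z, [y,z] =
0. Then there is no K-linear isomorphism of Lie algebras between L and F: F is a non-trivial form of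
L over K. (The published result is the classification of three-dimensional Lie algebras over k((t))
for k algebraically closed of characteristic not 2, with F its only non-split entry; this row states
the non-isomorphism of F and L over k((t)) for every field k.) -/
theorem result (k : Type u) [Field k]
    (F : Type v) [LieRing F] [LieAlgebra (LaurentSeries k) F] (bF : Module.Basis (Fin 3) (LaurentSeries k) F)
    (hF01 : ⁅bF 0, bF 1⁆ = bF 2) (hF02 : ⁅bF 0, bF 2⁆ = (HahnSeries.single 1 (1 : k) : LaurentSeries k) • bF 1)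
    (hF12 : ⁅bF 1, bF 2⁆ = 0)
    (L : Type w) [LieRing L] [LieAlgebra (LaurentSeries k) L] (bL : Module.Basis (Fin 3) (LaurentSeries k) L)
    (hL01 : ⁅bL 0, bL 1⁆ = bL 1) (hL02 : ⁅bL 0, bL 2⁆ = -bL 2) (hL12 : ⁅bL 1, bL 2⁆ = 0) :
    IsEmpty (L ≃ₗ⁅LaurentSeries k⁆ F) := by
  refine ⟨fun φ => ?_⟩
  set T : LaurentSeries k := HahnSeries.single 1 (1 : k) with hT
  obtain ⟨p1, hTp⟩ := aux (LaurentSeries k) T F bF hF01 hF02 hF12 L bL hL01 φ
  have hp1 : p1 ≠ 0 := by
    rintro rfl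
    simp at hTp
  have hT0 : T ≠ 0 := by
    rintro h
    rw [h, zero_mul] at hTp
    exact zero_ne_one hTp
  have hord := congrArg HahnSeries.order hTp
  rw [HahnSeries.order_mul hT0 (pow_ne_zero 2 hp1), HahnSeries.order_pow, HahnSeries.order_one,
    hT, HahnSeries.order_single one_ne_zero] at hord
  rw [nsmul_eq_mul] at hord
  push_cast at hord
  omega

end Groth.Agent.S13107
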