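import Groth.Statements.S13108
import Groth.Agent.Lib.Helper19.Basis3
import Mathlib.Tactic.LinearCombination
import Mathlib.Tactic.Ring
import Mathlib.Tactic.FieldSimp
import Mathlib.LinearAlgebra.Basis.Basic
import Mathlib.LinearAlgebra.Basis.SMul

set_option autoImplicit false
universe u v w
open GrpSch

namespace Groth.Agent.S13108

open Groth.Agent.Helper19

section aux

variable {k : Type*} [Field k] {M : Type*} [LieRing M] [LieAlgebra k M]
  {M' : Type*} [LieRing M'] [LieAlgebra k M']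

theorem key (s : k) (c : Module.Basis (Fin 3) k M)
    (h01 : ⁅c 0, c 1⁆ = c 1) (h02 : ⁅c 0, c 2⁆ = s • c 2) (h12 : ⁅c 1, c 2⁆ = 0)
    (u1 u2 u3 v1 v2 v3 : k) :
    ⁅u1 • c 0 + u2 • c 1 + u3 • c 2, v1 • c 0 + v2 • c 1 + v3 • c 2⁆ =
      (0 : k) • c 0 + (u1 * v2 - u2 * v1) • c 1 + (s * (u1 * v3 - u3 * v1)) • c 2 := by
  have h10 : ⁅c 1, c 0⁆ = -c 1 := by rw [← lie_skew, h01]
  have h20 : ⁅c 2, c 0⁆ = -(s • c 2) := by rw [← lie_skew, h02]
  have h21 : ⁅c 2, c 1⁆ = 0 := by rw [← lie_skew, h12, neg_zero]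
  simp only [lie_add, add_lie, lie_smul, smul_lie, lie_self, h01, h02, h12, h10, h20, h21]
  module

theorem constraints (s s' : k) (hs : s ≠ 0) (c : Module.Basis (Fin 3) k M)
    (c' : Module.Basis (Fin 3) k M')
    (h01 : ⁅c 0, c 1⁆ = c 1) (h02 : ⁅c 0, c 2⁆ = s • c 2)
    (h01' : ⁅c' 0, c' 1⁆ = c' 1) (h02' : ⁅c' 0, c' 2⁆ = s' • c' 2) (h12' : ⁅c' 1, c' 2⁆ = 0)
    (ψ : M ≃ₗ⁅k⁆ M') (p1 p2 p3 q1 q2 q3 r1 r2 r3 : k)
    (hx : ψ (c 0) = p1 • c' 0 + p2 • c' 1 + p3 • c' 2)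
    (hy : ψ (c 1) = q1 • c' 0 + q2 • c' 1 + q3 • c' 2)
    (hz : ψ (c 2) = r1 • c' 0 + r2 • c' 1 + r3 • c' 2) :
    q1 = 0 ∧ r1 = 0 ∧ q2 = p1 * q2 ∧ q3 = s' * (p1 * q3) ∧ s * r2 = p1 * r2 ∧
      s * r3 = s' * (p1 * r3) := by
  have e1 : ψ ⁅c 0, c 1⁆ = ⁅ψ (c 0), ψ (c 1)⁆ := LieEquiv.map_lie ψ _ _
  have e2 : ψ ⁅c 0, c 2⁆ = ⁅ψ (c 0), ψ (c 2)⁆ := LieEquiv.map_lie ψ _ _
  rw [h01, hx, hy, key s' c' h01' h02' h12'] at e1
  rw [h02, map_smul, hx, hz, key s' c' h01' h02' h12'] at e2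
  have e2' : (s * r1) • c' 0 + (s * r2) • c' 1 + (s * r3) • c' 2 =
      (0 : k) • c' 0 + (p1 * r2 - p2 * r1) • c' 1 + (s' * (p1 * r3 - p3 * r1)) • c' 2 := by
    refine Eq.trans ?_ e2
    module
  obtain ⟨a1, a2, a3⟩ := basis3_ext c' e1
  obtain ⟨b1, b2, b3⟩ := basis3_ext c' e2'
  have hr1 : r1 = 0 := by
    rcases mul_eq_zero.mp b1 with h | h
    · exact absurd h hs
    · exact h
  subst a1 hr1
  refine ⟨rfl, rfl, ?_, ?_, ?_, ?_⟩
  · linear_combination a2
  · linear_combination a3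
  · linear_combination b2
  · linear_combination b3

/-- Two based Lie algebras with the same structure constants are isomorphic. -/
theorem iso_of_same (s : k) (c : Module.Basis (Fin 3) k M) (c' : Module.Basis (Fin 3) k M')
    (h01 : ⁅c 0, c 1⁆ = c 1) (h02 : ⁅c 0, c 2⁆ = s • c 2) (h12 : ⁅c 1, c 2⁆ = 0)
    (h01' : ⁅c' 0, c' 1⁆ = c' 1) (h02' : ⁅c' 0, c' 2⁆ = s • c' 2) (h12' : ⁅c' 1, c' 2⁆ = 0) :
    Nonempty (M ≃ₗ⁅k⁆ M') := by
  let e : M ≃ₗ[k] M' := c.equiv c' (Equiv.refl _)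
  have he : ∀ i, e (c i) = c' i := fun i => by simp [e]
  have h10 : ⁅c 1, c 0⁆ = -c 1 := by rw [← lie_skew, h01]
  have h20 : ⁅c 2, c 0⁆ = -(s • c 2) := by rw [← lie_skew, h02]
  have h21 : ⁅c 2, c 1⁆ = 0 := by rw [← lie_skew, h12, neg_zero]
  have h10' : ⁅c' 1, c' 0⁆ = -c' 1 := by rw [← lie_skew, h01']
  have h20' : ⁅c' 2, c' 0⁆ = -(s • c' 2) := by rw [← lie_skew, h02']
  have h21' : ⁅c' 2, c' 1⁆ = 0 := by rw [← lie_skew, h12', neg_zero]
  have hlie : ∀ u v, e.toLinearMap ⁅u, v⁆ = ⁅e.toLinearMap u, e.toLinearMap v⁆ := by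
    apply map_lie_of_basis3 c
    intro i j
    simp only [LinearEquiv.coe_coe, he]
    fin_cases i <;> fin_cases j <;>
      simp [h01, h02, h12, h10, h20, h21, h01', h02', h12', h10', h20', h21', he]
  exact ⟨{ toLieHom := { toLinearMap := e.toLinearMap, map_lie' := fun {u v} => hlie u v }
           invFun := e.symm
           left_inv := e.left_inv
           right_inv := e.right_inv }⟩

end aux

/-- Let k be a field and t, t' ∈ k both non-zero; let L be a Lie algebra over k with a basis x = b 0, y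
= b 1, z = b 2 and brackets [x,y] = y, [x,z] = t z, [y,z] = 0, and L' a Lie algebra over k with a
basis x' = b' 0, y' = b' 1, z' = b' 2 and brackets [x',y'] = y', [x',z'] = t' z', [y',z'] = 0. Then
L and L' are isomorphic Lie algebras over k if and only if t' = t or t' = t⁻¹. -/
theorem result (k : Type u) [Field k] (t t' : k) (ht : t ≠ 0) (ht' : t' ≠ 0)
    (L : Type v) [LieRing L] [LieAlgebra k L] (b : Module.Basis (Fin 3) k L)
    (h01 : ⁅b 0, b 1⁆ = b 1) (h02 : ⁅b 0, b 2⁆ = t • b 2) (h12 : ⁅b 1, b 2⁆ = 0)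
    (L' : Type w) [LieRing L'] [LieAlgebra k L'] (b' : Module.Basis (Fin 3) k L')
    (h01' : ⁅b' 0, b' 1⁆ = b' 1) (h02' : ⁅b' 0, b' 2⁆ = t' • b' 2) (h12' : ⁅b' 1, b' 2⁆ = 0) :
    Nonempty (L ≃ₗ⁅k⁆ L') ↔ (t' = t ∨ t' = t⁻¹) := by
  constructor
  · rintro ⟨φ⟩
    obtain ⟨p1, p2, p3, hx⟩ := basis3_exists b' (φ (b 0))
    obtain ⟨q1, q2, q3, hy⟩ := basis3_exists b' (φ (b 1))
    obtain ⟨r1, r2, r3, hz⟩ := basis3_exists b' (φ (b 2))
    obtain ⟨p1', p2', p3', hx'⟩ := basis3_exists b (φ.symm (b' 0))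
    obtain ⟨q1', q2', q3', hy'⟩ := basis3_exists b (φ.symm (b' 1))
    obtain ⟨r1', r2', r3', hz'⟩ := basis3_exists b (φ.symm (b' 2))
    obtain ⟨hq1, hr1, c1, c2, c3, c4⟩ :=
      constraints t t' ht b b' h01 h02 h01' h02' h12' φ _ _ _ _ _ _ _ _ _ hx hy hz
    obtain ⟨hq1', hr1', -⟩ :=
      constraints t' t ht' b' b h01' h02' h01 h02 h12 φ.symm _ _ _ _ _ _ _ _ _ hx' hy' hz'
    subst hq1 hr1 hq1' hr1'
    obtain ⟨hp, hD⟩ := basis3_block_unit' b b' φ φ.symm φ.symm_apply_apply hx hy hz hx' hy' hz'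
    have hD0 : q2 * r3 - q3 * r2 ≠ 0 := left_ne_zero_of_mul_eq_one hD
    by_cases h : q2 * r3 = 0
    · -- then q3 r2 ≠ 0
      have h' : q3 * r2 ≠ 0 := by
        intro h'
        apply hD0
        rw [h, h', sub_zero]
      have hq3 : q3 ≠ 0 := left_ne_zero_of_mul h'
      have hr2 : r2 ≠ 0 := right_ne_zero_of_mul h'
      right
      have e1 : t' * p1 = 1 := by
        have : (1 - t' * p1) * q3 = 0 := by linear_combination c2
        rcases mul_eq_zero.mp this with h1 | h1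
        · linear_combination -h1
        · exact absurd h1 hq3
      have e2 : t = p1 := by
        have : (t - p1) * r2 = 0 := by linear_combination c3
        rcases mul_eq_zero.mp this with h1 | h1
        · linear_combination h1
        · exact absurd h1 hr2
      rw [e2]
      exact eq_inv_of_mul_eq_one_left e1
    · have hq2 : q2 ≠ 0 := left_ne_zero_of_mul h
      have hr3 : r3 ≠ 0 := right_ne_zero_of_mul h
      left
      have e1 : p1 = 1 := by
        have : (1 - p1) * q2 = 0 := by linear_combination c1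
        rcases mul_eq_zero.mp this with h1 | h1
        · linear_combination -h1
        · exact absurd h1 hq2
      have : (t - t' * p1) * r3 = 0 := by linear_combination c4
      rcases mul_eq_zero.mp this with h1 | h1
      · rw [e1] at h1; linear_combination -h1
      · exact absurd h1 hr3
  · rintro (h | h)
    · subst h
      exact iso_of_same t' b b' h01 h02 h12 h01' h02' h12'
    · -- new basis of L'
      let w : Fin 3 → kˣ := fun i => if i = 0 then Units.mk0 t ht else 1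
      let c : Module.Basis (Fin 3) k L' := (b'.reindex (Equiv.swap 1 2)).unitsSMul w
      have hc0 : c 0 = t • b' 0 := by
        simp [c, w, Module.Basis.unitsSMul_apply, Module.Basis.reindex_apply, Equiv.swap_apply_def,
          Units.smul_def]
      have hc1 : c 1 = b' 2 := by
        simp [c, w, Module.Basis.unitsSMul_apply, Module.Basis.reindex_apply, Equiv.swap_apply_def]
      have hc2 : c 2 = b' 1 := by
        simp [c, w, Module.Basis.unitsSMul_apply, Module.Basis.reindex_apply, Equiv.swap_apply_def]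
      have htt : t * t' = 1 := by rw [h]; exact mul_inv_cancel₀ ht
      refine iso_of_same t b c h01 h02 h12 ?_ ?_ ?_
      · rw [hc0, hc1, smul_lie, h02', smul_smul, htt, one_smul]
      · rw [hc0, hc2, smul_lie, h01']
      · rw [hc1, hc2, ← lie_skew, h12', neg_zero]

end Groth.Agent.S13108
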