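import Mathlib
import Groth.Statements.S13111
import Groth.Agent.Lib.Helper19.HTop.SemiN

set_option autoImplicit false
universe u
open HTop

namespace Groth.Agent.S13111

open AlgebraicGeometry W4c1hilbchowinc in
/-- Let A be a reduced Noetherian ring whose integral closure in its total ring of fractions is a finite
A-module. Suppose that any pointwise function on Spec A that is algebraic along every discrete
valuation ring (for every discrete valuation ring R and every morphism Spec R → Spec A there is an
element of R whose values at the two points of Spec R are the images of the chosen values) is the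
family of values of exactly one global section. Then A is seminormal: whenever x^3 = y^2 there is
exactly one a with x = a^2 and y = a^3. Test rings range over the universe of A. -/
theorem result
    (A : Type u) [CommRing A] [IsReduced A] [IsNoetherianRing A]
    (hfin : Module.Finite A (integralClosure A (FractionRing A)))
    (h : ∀ f : PtFun (Spec (CommRingCat.of A)), f.VariesAlongDVR →
      ∃! a : Γ(Spec (CommRingCat.of A), ⊤), PtFun.ofSection (Spec (CommRingCat.of A)) a = f) :
    HTop.IsSeminormalRing A := by
  classical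
  let X := Spec (CommRingCat.of A)
  let e : Γ(X, ⊤) ≃+* A := (Scheme.ΓSpecIso (CommRingCat.of A)).commRingCatIsoToRingEquiv
  haveI : IsReduced X := inferInstance
  -- seminormality of Γ(X, ⊤)
  have key : ∀ xs ys : Γ(X, ⊤), xs ^ 3 = ys ^ 2 → ∃! a : Γ(X, ⊤), xs = a ^ 2 ∧ ys = a ^ 3 := by
    intro xs ys hxy
    obtain ⟨a, ha, hau⟩ := h (Groth.Agent.Helper19.HTopSN.cuspFun X xs ys)
      (Groth.Agent.Helper19.HTopSN.cuspFun_variesAlongDVR X xs ys hxy)
    have hval : ∀ p : X, X.Γevaluation p a = Groth.Agent.Helper19.HTopSN.cuspFun X xs ys p := by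
      intro p
      exact congrFun ha p
    refine ⟨a, ⟨?_, ?_⟩, ?_⟩
    · rw [← sub_eq_zero]
      apply Groth.Agent.Helper19.HTopSN.eq_zero_of_forall_Γevaluation
      intro p
      rw [map_sub, map_pow, hval p,
        (Groth.Agent.Helper19.HTopSN.cuspFun_sq X xs ys hxy p).1, sub_self]
    · rw [← sub_eq_zero]
      apply Groth.Agent.Helper19.HTopSN.eq_zero_of_forall_Γevaluation
      intro p
      rw [map_sub, map_pow, hval p,
        (Groth.Agent.Helper19.HTopSN.cuspFun_sq X xs ys hxy p).2, sub_self]
    · rintro b ⟨hb2, hb3⟩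
      exact hau b (Groth.Agent.Helper19.HTopSN.ofSection_eq_cuspFun X xs ys b hb2 hb3)
  intro x y hxy
  have hxy' : (e.symm x) ^ 3 = (e.symm y) ^ 2 := by
    rw [← map_pow, ← map_pow, hxy]
  obtain ⟨a, ⟨ha2, ha3⟩, hau⟩ := key _ _ hxy'
  refine ⟨e a, ⟨?_, ?_⟩, ?_⟩
  · rw [← map_pow, ← ha2, RingEquiv.apply_symm_apply]
  · rw [← map_pow, ← ha3, RingEquiv.apply_symm_apply]
  · rintro b ⟨hb2, hb3⟩
    have := hau (e.symm b) ⟨by rw [hb2, map_pow], by rw [hb3, map_pow]⟩
    rw [← this, RingEquiv.apply_symm_apply]

end Groth.Agent.S13111
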