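import Groth.Statements.S13117
import Mathlib
-- import your own Groth.Agent.* helpers here

set_option autoImplicit false
universe u
open HilbChow

namespace Groth.Agent.S13117

section
open Polynomial

lemma det_blockDiagonal'' {R : Type*} [CommRing R] {ι : Type*} [Fintype ι] [DecidableEq ι]
    [LinearOrder ι] {m' : ι → Type*} [∀ i, Fintype (m' i)] [∀ i, DecidableEq (m' i)]
    (d : ∀ i, Matrix (m' i) (m' i) R) :
    (Matrix.blockDiagonal' d).det = ∏ i, (d i).det := by
  rw [(Matrix.blockTriangular_blockDiagonal' d).det_fintype]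
  refine Finset.prod_congr rfl (fun a _ => ?_)
  have : (Matrix.blockDiagonal' d).toSquareBlock Sigma.fst a =
      (d a).submatrix (Equiv.sigmaSubtype a) (Equiv.sigmaSubtype a) := by
    ext ⟨⟨i, x⟩, hi⟩ ⟨⟨j, y⟩, hj⟩
    dsimp at hi hj
    subst hi
    subst hj
    simp [Matrix.toSquareBlock_def]
  rw [this, Matrix.det_submatrix_equiv_self]

lemma det_pi' {R : Type*} [CommRing R] {ι : Type*} [Fintype ι] [DecidableEq ι] {M : ι → Type*}
    [∀ i, AddCommGroup (M i)] [∀ i, Module R (M i)] [∀ i, Module.Free R (M i)]
    [∀ i, Module.Finite R (M i)] (f : ∀ i, M i →ₗ[R] M i) :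
    LinearMap.det (LinearMap.pi (fun i => (f i).comp (LinearMap.proj i))) =
      ∏ i, LinearMap.det (f i) := by
  classical
  letI : LinearOrder ι := LinearOrder.lift' (Fintype.equivFin ι) (Fintype.equivFin ι).injective
  let b := fun i => Module.Free.chooseBasis R (M i)
  let B := Pi.basis b
  have h2 : ∀ i, LinearMap.det (f i) = (LinearMap.toMatrix (b i) (b i) (f i)).det :=
    fun i => (LinearMap.det_toMatrix (b i) (f i)).symm
  simp_rw [h2]
  rw [← LinearMap.det_toMatrix B]
  have : LinearMap.toMatrix B B (LinearMap.pi fun i ↦ f i ∘ₗ LinearMap.proj i) =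
      Matrix.blockDiagonal' (fun i => LinearMap.toMatrix (b i) (b i) (f i)) := by
    ext ⟨i₁, i₂⟩ ⟨j₁, j₂⟩
    unfold B
    rw [Matrix.blockDiagonal'_apply']
    simp_rw [LinearMap.toMatrix_apply', Pi.basis_apply, Pi.basis_repr, LinearMap.pi_apply,
      LinearMap.coe_comp, Function.comp_apply, LinearMap.coe_proj, Function.eval]
    by_cases h : i₁ = j₁
    · subst h
      simp
    · rw [dif_neg h]
      rw [Pi.single_eq_of_ne h]
      simp
  rw [this, det_blockDiagonal'']


/-- determinant of `c + nilpotent` -/
lemma det_add_nilpotent {k : Type*} [Field k] {M : Type*} [AddCommGroup M] [Module k M]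
    [Module.Finite k M] (c : k) (N : Module.End k M) (hN : IsNilpotent N) :
    LinearMap.det (algebraMap k (Module.End k M) c + N) = c ^ Module.finrank k M := by
  have hN' : IsNilpotent (-N) := hN.neg
  have h1 := LinearMap.eval_charpoly (-N) c
  rw [hN'.charpoly_eq_X_pow_finrank, eval_pow, eval_X, sub_neg_eq_add] at h1
  exact h1.symm

variable (k A : Type u) [Field k] [IsAlgClosed k] [CommRing A] [Algebra k A] [Module.Finite k A]

/-- the character attached to a maximal ideal -/
noncomputable def chi (I : MaximalSpectrum A) : A →ₐ[k] k :=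
  haveI : I.asIdeal.IsMaximal := I.isMaximal
  letI : Field (A ⧸ I.asIdeal) := Ideal.Quotient.field I.asIdeal
  haveI : Algebra.IsIntegral k (A ⧸ I.asIdeal) := Algebra.IsIntegral.of_finite k _
  ((AlgEquiv.ofBijective (Algebra.ofId k (A ⧸ I.asIdeal))
    (IsAlgClosed.algebraMap_bijective_of_isIntegral)).symm : (A ⧸ I.asIdeal) →ₐ[k] k).comp
    (Ideal.Quotient.mkₐ k I.asIdeal)

lemma chi_eq_iff (I : MaximalSpectrum A) (a : A) (c : k) :
    chi k A I a = c ↔ a - algebraMap k A c ∈ I.asIdeal := by
  haveI : I.asIdeal.IsMaximal := I.isMaximal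
  letI : Field (A ⧸ I.asIdeal) := Ideal.Quotient.field I.asIdeal
  haveI : Algebra.IsIntegral k (A ⧸ I.asIdeal) := Algebra.IsIntegral.of_finite k _
  unfold chi
  rw [AlgHom.comp_apply, AlgEquiv.coe_toAlgHom, AlgEquiv.symm_apply_eq]
  rw [← Ideal.Quotient.eq]
  rfl

lemma ker_chi (I : MaximalSpectrum A) : RingHom.ker (chi k A I) = I.asIdeal := by
  ext a
  rw [RingHom.mem_ker]
  change chi k A I a = 0 ↔ _
  rw [chi_eq_iff, map_zero, sub_zero]

lemma chi_bijective : Function.Bijective (chi k A) := by
  constructor
  · intro I J h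
    apply MaximalSpectrum.ext
    rw [← ker_chi k A I, ← ker_chi k A J, h]
  · intro φ
    have hmax : (RingHom.ker φ).IsMaximal := RingHom.ker_isMaximal_of_surjective φ (fun c =>
      ⟨algebraMap k A c, by simp⟩)
    refine ⟨⟨RingHom.ker φ, hmax⟩, ?_⟩
    ext a
    rw [chi_eq_iff]
    change _ ∈ RingHom.ker φ
    rw [RingHom.mem_ker, map_sub, AlgHom.commutes]
    simp


section main
variable (k A : Type u) [Field k] [IsAlgClosed k] [CommRing A] [Algebra k A] [Module.Finite k A]

lemma norm_local (I : MaximalSpectrum A) (f : A)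
    [Module.Finite k (Localization.AtPrime I.asIdeal)] :
    Algebra.norm k (algebraMap A (Localization.AtPrime I.asIdeal) f) =
      chi k A I f ^ Module.finrank k (Localization.AtPrime I.asIdeal) := by
  haveI : IsArtinianRing A := IsArtinianRing.of_finite k A
  haveI : IsArtinianRing (Localization.AtPrime I.asIdeal) := IsArtinianRing.of_finite k _
  set c := chi k A I f with hc
  set L := Localization.AtPrime I.asIdeal with hL
  have hmem : f - algebraMap k A c ∈ I.asIdeal := (chi_eq_iff k A I f c).mp rfl
  set ν : L := algebraMap A L (f - algebraMap k A c) with hν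
  have hνm : ν ∈ IsLocalRing.maximalIdeal L :=
    (IsLocalization.AtPrime.to_map_mem_maximal_iff L I.asIdeal _).mpr hmem
  have hνn : IsNilpotent ν := by
    have h1 : IsNilpotent (Ideal.jacobson (⊥ : Ideal L)) := IsArtinianRing.isNilpotent_jacobson_bot
    rw [IsLocalRing.jacobson_eq_maximalIdeal ⊥ bot_ne_top] at h1
    obtain ⟨n, hn⟩ := h1
    refine ⟨n, ?_⟩
    have : ν ^ n ∈ (IsLocalRing.maximalIdeal L) ^ n := Ideal.pow_mem_pow hνm n
    rw [hn] at this
    exact this
  have hdecomp : algebraMap A L f = algebraMap k L c + ν := by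
    rw [hν, map_sub, ← IsScalarTower.algebraMap_apply k A L]
    ring
  rw [Algebra.norm_apply, hdecomp, map_add]
  have h2 : Algebra.lmul k L (algebraMap k L c) = algebraMap k (Module.End k L) c := by
    ext x
    simp [Algebra.smul_def]
  rw [h2]
  apply det_add_nilpotent
  exact hνn.map (Algebra.lmul k L)

theorem norm_eq_prod (f : A) :
    haveI : Fintype (MaximalSpectrum A) := by
      haveI : IsArtinianRing A := IsArtinianRing.of_finite k A
      exact Fintype.ofFinite _
    Algebra.norm k f =
      ∏ I : MaximalSpectrum A, chi k A I f ^ Module.finrank k (Localization.AtPrime I.asIdeal) := by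
  classical
  haveI : IsArtinianRing A := IsArtinianRing.of_finite k A
  letI : Fintype (MaximalSpectrum A) := Fintype.ofFinite _
  let e : A ≃ₐ[A] MaximalSpectrum.PiLocalization A := MaximalSpectrum.toPiLocalizationEquiv A
  let e' : A ≃ₐ[k] MaximalSpectrum.PiLocalization A := e.restrictScalars k
  haveI hfinPi : Module.Finite k (MaximalSpectrum.PiLocalization A) :=
    Module.Finite.equiv e'.toLinearEquiv
  haveI hfin : ∀ I : MaximalSpectrum A, Module.Finite k (Localization.AtPrime I.asIdeal) := by
    intro I
    exact Module.Finite.of_surjective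
      (LinearMap.proj I : (MaximalSpectrum.PiLocalization A) →ₗ[k] Localization.AtPrime I.asIdeal)
      (LinearMap.proj_surjective I)
  rw [← Algebra.norm_eq_of_algEquiv e' f, Algebra.norm_apply]
  have h1 : Algebra.lmul k (MaximalSpectrum.PiLocalization A) (e' f) =
      LinearMap.pi (fun I => (Algebra.lmul k (Localization.AtPrime I.asIdeal)
        (algebraMap A _ f)).comp (LinearMap.proj I)) := by
    ext x I
    rfl
  rw [h1, det_pi']
  refine Finset.prod_congr rfl (fun I _ => ?_)
  rw [← Algebra.norm_apply]
  exact norm_local k A I f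

lemma finrank_congr_prime (P Q : Ideal A) [P.IsPrime] [Q.IsPrime] (h : P = Q) :
    Module.finrank k (Localization.AtPrime P) = Module.finrank k (Localization.AtPrime Q) := by
  subst h
  rfl

lemma comap_chi (I : MaximalSpectrum A) : Ideal.comap (chi k A I) ⊥ = I.asIdeal := by
  rw [← ker_chi k A I]
  rfl

theorem main (f : A) :
    Algebra.norm k f =
      ∏ᶠ φ : A →ₐ[k] k, φ f ^ Module.finrank k (Localization.AtPrime (Ideal.comap φ ⊥)) := by
  classical
  haveI : IsArtinianRing A := IsArtinianRing.of_finite k A
  letI : Fintype (MaximalSpectrum A) := Fintype.ofFinite _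
  rw [norm_eq_prod k A f]
  rw [← finprod_eq_prod_of_fintype]
  apply finprod_eq_of_bijective (chi k A) (chi_bijective k A)
  intro I
  congr 1
  haveI : (Ideal.comap (chi k A I) (⊥ : Ideal k)).IsPrime := Ideal.comap_isPrime _ _
  exact (finrank_congr_prime k A _ _ (comap_chi k A I)).symm

end main
end

/-- Let k be an algebraically closed field, A a finite-dimensional commutative k-algebra (the coordinate
ring of a zero-dimensional subscheme Z of length dim_k A) and f ∈ A. Then the determinant of
multiplication by f on A is the product over the points x of Z — the k-algebra homomorphisms A → k —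
of the value f(x) raised to the length of the local ring of Z at x, that length being the
k-dimension of the localisation of A at the corresponding maximal ideal. This is the formula by
which the Hilbert-to-Chow morphism for zero-cycles sends Z to its fundamental cycle Σ ℓ(O_{Z,x})[x]. -/
theorem result
    (k A : Type u) [Field k] [IsAlgClosed k] [CommRing A] [Algebra k A] [Module.Finite k A] (f : A) :
    Algebra.norm k f =
      ∏ᶠ φ : A →ₐ[k] k, φ f ^ Module.finrank k (Localization.AtPrime (Ideal.comap φ ⊥)) := by
  exact Groth.Agent.S13117.main k A f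

end Groth.Agent.S13117
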