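import Mathlib
import Groth.Statements.S13124
-- import your own Groth.Agent.* helpers here

set_option autoImplicit false
universe u v w
open KumFam

namespace Groth.Agent.S13124

open TensorProduct in
theorem mem_invariants_of_mul_mem (k : Type u) [CommRing k]
    (A : Type v) [CommRing A] [Bialgebra k A] [Module.Flat k A]
    (R : Type w) [CommRing R] [Algebra k R] [IsDomain R]
    [HopfRep.Comod k A R] [GLin.IsCoactAlg k A R] (z a b : R) (hb : b ≠ 0)
    (ha : a ∈ GLin.invariants k A R) (hbC : b ∈ GLin.invariants k A R) (h : z * b = a) :
    z ∈ GLin.invariants k A R := by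
  rw [GLin.mem_invariants_iff] at ha hbC ⊢
  have h1 : HopfRep.Comod.coact (k := k) (A := A) z * (b ⊗ₜ[k] (1 : A)) =
      (z ⊗ₜ[k] (1 : A)) * (b ⊗ₜ[k] (1 : A)) := by
    rw [← hbC, ← GLin.IsCoactAlg.coact_mul, h, ha, hbC, Algebra.TensorProduct.tmul_mul_tmul, h,
      one_mul]
  let μ : R →ₗ[k] R := LinearMap.mulRight k b
  have hμ : Function.Injective μ := by
    intro x y hxy
    exact mul_right_cancel₀ hb hxy
  have hinj : Function.Injective (μ.rTensor A) :=
    Module.Flat.rTensor_preserves_injective_linearMap μ hμ
  have hform : ∀ t : R ⊗[k] A, μ.rTensor A t = t * (b ⊗ₜ[k] (1 : A)) := by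
    intro t
    induction t using TensorProduct.induction_on with
    | zero => simp
    | tmul r a' =>
      rw [LinearMap.rTensor_tmul, Algebra.TensorProduct.tmul_mul_tmul, mul_one]
      rfl
    | add x y hx hy => rw [map_add, hx, hy, add_mul]
  apply hinj
  rw [hform, hform, h1]


/-- Let k be a commutative ring, A a commutative k-bialgebra that is flat over k, and R a commutative
k-algebra which is an integrally closed domain, with a coaction R → R ⊗ A that is an algebra
homomorphism. Then the ring of invariants (the elements f with coaction f ⊗ 1) is an integrally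
closed domain. (The published statement is for a finite group scheme acting on a normal scheme whose
quotient is, locally, the spectrum of the ring of invariants; this row is the affine integral case
and allows any commutative bialgebra flat over k, flatness being automatic over a field.) -/
theorem result (k : Type u) [CommRing k]
    (A : Type v) [CommRing A] [Bialgebra k A] [Module.Flat k A]
    (R : Type w) [CommRing R] [Algebra k R] [IsDomain R] [IsIntegrallyClosed R]
    [HopfRep.Comod k A R] [GLin.IsCoactAlg k A R] :
    IsIntegrallyClosed (GLin.invariants k A R) := by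
  set C := GLin.invariants k A R with hC
  let K := FractionRing C
  let L := FractionRing R
  rw [isIntegrallyClosed_iff K]
  intro x hx
  obtain ⟨a, b, hb, rfl⟩ := IsFractionRing.div_surjective (A := C) x
  have hb0 : (b : C) ≠ 0 := nonZeroDivisors.ne_zero hb
  have hinjCL : Function.Injective ((algebraMap R L).comp (algebraMap C R)) :=
    (IsFractionRing.injective R L).comp Subtype.val_injective
  let φ : K →+* L := IsFractionRing.lift hinjCL
  have hφ : ∀ c : C, φ (algebraMap C K c) = algebraMap R L (c : R) := fun c =>
    IsFractionRing.lift_algebraMap hinjCL c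
  -- φ x is integral over R
  have hint : IsIntegral R (φ (algebraMap C K a / algebraMap C K b)) := by
    obtain ⟨P, hP, hPx⟩ := hx
    refine ⟨P.map (algebraMap C R), hP.map _, ?_⟩
    have hcomp : (algebraMap R L).comp (algebraMap C R) = φ.comp (algebraMap C K) := by
      ext c
      exact (hφ c).symm
    rw [Polynomial.eval₂_map, hcomp, ← Polynomial.hom_eval₂, hPx, map_zero]
  obtain ⟨z, hz⟩ := IsIntegrallyClosed.isIntegral_iff.1 hint
  have hzb : z * (b : R) = (a : R) := by
    apply IsFractionRing.injective R L
    rw [map_mul, hz, ← hφ b, ← map_mul, div_mul_cancel₀, hφ]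
    exact fun h => hb0 ((IsFractionRing.injective C K) (by rw [h, map_zero]))
  have hbR : (b : R) ≠ 0 := fun h => hb0 (Subtype.ext h)
  have hzC : z ∈ C := mem_invariants_of_mul_mem k A R z a b hbR a.2 b.2 hzb
  refine ⟨⟨z, hzC⟩, ?_⟩
  rw [eq_div_iff (fun h => hb0 ((IsFractionRing.injective C K) (by rw [h, map_zero]))), ← map_mul]
  congr 1
  exact Subtype.ext hzb

end Groth.Agent.S13124
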