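import Groth.Statements.S13125
import Mathlib.GroupTheory.QuotientGroup.Defs
import Mathlib.Algebra.DirectSum.Decomposition

set_option autoImplicit false
universe u v
open KumFam

namespace Groth.Agent.S13125

theorem exists_lift (A : Type*) [CommRing A] (I : Ideal A) (M : Type*) [AddCommGroup M]
    (φ : A →+ M) (h : ∀ x ∈ I, φ x = 0) :
    ∃ ψ : A ⧸ I →+ M, ∀ a, ψ (Ideal.Quotient.mk I a) = φ a :=
  ⟨(QuotientAddGroup.lift I.toAddSubgroup φ (fun x hx => h x hx) : A ⧸ I →+ M), fun _ => rfl⟩

/-- Let A be a commutative ring graded by an additive monoid ι (an abelian group in the published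
statement) through additive subgroups 𝒜 i, and I an ideal of A. Then I is a homogeneous ideal if and
only if A/I carries a structure of ι-graded ring ℬ for which the quotient map sends 𝒜 i into ℬ i for
all i. -/
theorem result (ι : Type u) [DecidableEq ι] [AddMonoid ι]
    (A : Type v) [CommRing A] (𝒜 : ι → AddSubgroup A) [GradedRing 𝒜] (I : Ideal A) :
    I.IsHomogeneous 𝒜 ↔
      ∃ ℬ : ι → AddSubgroup (A ⧸ I), Nonempty (GradedRing ℬ) ∧
        ∀ i : ι, (𝒜 i).map (Ideal.Quotient.mk I : A →+ A ⧸ I) ≤ ℬ i := by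
  classical
  constructor
  · intro hI
    let π : A →+ A ⧸ I := (Ideal.Quotient.mk I : A →+ A ⧸ I)
    let ℬ : ι → AddSubgroup (A ⧸ I) := fun i => (𝒜 i).map π
    have hπmem : ∀ i (a : A), a ∈ 𝒜 i → π a ∈ ℬ i := fun i a ha => ⟨a, ha, rfl⟩
    -- restricted projection
    let g : ∀ i, 𝒜 i →+ ℬ i := fun i =>
      { toFun := fun a => ⟨π a, hπmem i a a.2⟩
        map_zero' := by ext; simp
        map_add' := by intro a b; ext; simp }
    let φ : A →+ DirectSum ι (fun i => ℬ i) :=
      (DirectSum.map g).comp (DirectSum.decomposeAddEquiv 𝒜).toAddMonoidHom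
    have hφI : ∀ x ∈ I, φ x = 0 := by
      intro x hx
      show DirectSum.map g (DirectSum.decompose 𝒜 x) = 0
      apply DirectSum.ext
      intro i
      rw [DirectSum.map_apply]
      have : (DirectSum.decompose 𝒜 x i : A) ∈ I := hI i hx
      ext
      simp only [g, AddMonoidHom.coe_mk, ZeroHom.coe_mk, DirectSum.zero_apply,
        ZeroMemClass.coe_zero]
      exact Ideal.Quotient.eq_zero_iff_mem.mpr this
    obtain ⟨ψ, hψ⟩ := exists_lift A I _ φ hφI
    have hφhom : ∀ i (a : 𝒜 i), φ (a : A) = DirectSum.of (fun i => ℬ i) i (g i a) := by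
      intro i a
      show DirectSum.map g (DirectSum.decompose 𝒜 (a : A)) = _
      rw [DirectSum.decompose_coe, DirectSum.map_of]
    have hleft : (DirectSum.coeAddMonoidHom ℬ).comp ψ = AddMonoidHom.id _ := by
      apply AddMonoidHom.ext
      intro q
      obtain ⟨a, rfl⟩ := Ideal.Quotient.mk_surjective q
      simp only [AddMonoidHom.comp_apply, AddMonoidHom.id_apply]
      rw [hψ]
      induction a using DirectSum.Decomposition.inductionOn 𝒜 with
      | zero => simp
      | homogeneous a =>
        rw [hφhom, DirectSum.coeAddMonoidHom_of]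
        rfl
      | add a b ha hb =>
        rw [map_add, map_add, ha, hb, map_add]
    have hright : ψ.comp (DirectSum.coeAddMonoidHom ℬ) = AddMonoidHom.id _ := by
      apply DirectSum.addHom_ext
      intro i b
      obtain ⟨a, ha, hab⟩ := b.2
      simp only [AddMonoidHom.comp_apply, AddMonoidHom.id_apply, DirectSum.coeAddMonoidHom_of]
      have : (b : A ⧸ I) = Ideal.Quotient.mk I a := hab.symm
      rw [this, hψ]
      have h2 := hφhom i ⟨a, ha⟩
      simp only at h2
      rw [h2]
      congr 1
      ext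
      exact hab
    refine ⟨ℬ, ⟨?_⟩, fun i => le_rfl⟩
    exact
      { one_mem := ⟨1, SetLike.GradedOne.one_mem, map_one (Ideal.Quotient.mk I)⟩
        mul_mem := by
          rintro i j _ _ ⟨a, ha, rfl⟩ ⟨b, hb, rfl⟩
          exact ⟨a * b, SetLike.GradedMul.mul_mem ha hb, map_mul (Ideal.Quotient.mk I) a b⟩
        toDecomposition := DirectSum.Decomposition.ofAddHom ℬ ψ hleft hright }
  · rintro ⟨ℬ, ⟨hℬ⟩, hle⟩
    intro i x hx
    let π : A →+ A ⧸ I := (Ideal.Quotient.mk I : A →+ A ⧸ I)
    have hπmem : ∀ i (a : A), a ∈ 𝒜 i → π a ∈ ℬ i := fun i a ha => hle i ⟨a, ha, rfl⟩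
    let g : ∀ i, 𝒜 i →+ ℬ i := fun i =>
      { toFun := fun a => ⟨π a, hπmem i a a.2⟩
        map_zero' := by ext; simp
        map_add' := by intro a b; ext; simp }
    have hcomm : (DirectSum.decomposeAddEquiv ℬ).toAddMonoidHom.comp π =
        (DirectSum.map g).comp (DirectSum.decomposeAddEquiv 𝒜).toAddMonoidHom := by
      apply AddMonoidHom.ext
      intro a
      induction a using DirectSum.Decomposition.inductionOn 𝒜 with
      | zero => simp
      | @homogeneous j a =>
        simp only [AddMonoidHom.comp_apply, AddEquiv.coe_toAddMonoidHom,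
          DirectSum.decomposeAddEquiv_apply, DirectSum.decompose_coe, DirectSum.map_of]
        exact DirectSum.decompose_coe ℬ (g j a)
      | add a b ha hb =>
        rw [map_add, map_add, ha, hb]
    have h1 := DFunLike.congr_fun hcomm x
    simp only [AddMonoidHom.comp_apply, AddEquiv.coe_toAddMonoidHom,
      DirectSum.decomposeAddEquiv_apply] at h1
    have hx0 : π x = 0 := Ideal.Quotient.eq_zero_iff_mem.mpr hx
    rw [hx0, DirectSum.decompose_zero] at h1
    have h2 := congrArg (fun y => ((y i : ℬ i) : A ⧸ I)) h1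
    simp only [DirectSum.zero_apply, ZeroMemClass.coe_zero, DirectSum.map_apply] at h2
    exact Ideal.Quotient.eq_zero_iff_mem.mp h2.symm

end Groth.Agent.S13125
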