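import Groth.Statements.S13126
import Mathlib.Algebra.Polynomial.RingDivision
import Mathlib.Algebra.Polynomial.BigOperators
import Mathlib.RingTheory.Coprime.Lemmas
import Mathlib.Algebra.Polynomial.Div
import Mathlib.Tactic.Ring
import Mathlib.Tactic.LinearCombination

set_option autoImplicit false
universe u
open KumFam

namespace Groth.Agent.S13126

open Polynomial in
/-- Let R be a commutative ring, n a natural number which is a unit in R, and ζ ∈ R with ζ^n = 1 and 1 −
ζ^i a unit for 0 < i < n (a primitive n-th root of unity in the fibrewise sense: the powers ζ^0, …,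
ζ^(n−1) are roots of X^n − 1 with pairwise unit differences; over an integral domain in which n is a
unit this is the same as ζ having multiplicative order n). Then the R-algebra homomorphism R[X] →
(Fin n → R) sending a polynomial to its values at ζ^0, …, ζ^(n−1) is surjective and its kernel is
the ideal generated by X^n − 1; hence R[X]/(X^n − 1) ≅ R^n as R-algebras, i.e. the scheme of n-th
roots of unity over Spec R is the disjoint union of n copies of Spec R. (The published statement
asks that R contain a primitive n-th root of unity without defining the term; its Chinese-remainder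
argument uses that the ideals (X − ζ^i), i < n, are pairwise comaximal, which is the unit-difference
condition taken as the hypothesis here, whereas under the reading 'ζ has multiplicative order n'
alone the surjectivity fails over a product of two fields. The published statement also asserts that
the isomorphism respects the group-scheme structures of the n-th roots of unity and of the constant
group ℤ/n; this row does not state that.) -/
theorem result (R : Type u) [CommRing R]
    (n : ℕ) (hn : IsUnit (n : R)) (ζ : R) (hζ : ζ ^ n = 1)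
    (hprim : ∀ i : ℕ, 0 < i → i < n → IsUnit (1 - ζ ^ i)) :
    Function.Surjective (AlgHom.pi (fun i : Fin n => Polynomial.aeval (R := R) (ζ ^ (i : ℕ)))) ∧
      RingHom.ker (AlgHom.pi (fun i : Fin n => Polynomial.aeval (R := R) (ζ ^ (i : ℕ)))) =
        Ideal.span {(X ^ n - 1 : R[X])} := by
  classical
  -- unit differences
  have hlt : ∀ i j : ℕ, i < j → j < n → IsUnit (ζ ^ i - ζ ^ j) := by
    intro i j hij hj
    have hζu : IsUnit ζ := by
      have hn0 : n ≠ 0 := by omega
      exact IsUnit.of_pow_eq_one hζ hn0
    have : ζ ^ i - ζ ^ j = ζ ^ i * (1 - ζ ^ (j - i)) := by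
      rw [mul_sub, mul_one, ← pow_add]
      congr 2
      omega
    rw [this]
    exact (hζu.pow i).mul (hprim (j - i) (by omega) (by omega))
  have hdiff : ∀ i j : Fin n, i ≠ j → IsUnit (ζ ^ (i : ℕ) - ζ ^ (j : ℕ)) := by
    intro i j hij
    rcases lt_or_gt_of_ne (fun h => hij (Fin.ext h) : (i : ℕ) ≠ j) with h | h
    · exact hlt i j h j.2
    · have := hlt j i h i.2
      rw [← neg_sub]
      exact this.neg
  have hcop : Pairwise (Function.onFun IsCoprime fun i : Fin n => (X - C (ζ ^ (i : ℕ)) : R[X])) :=
    fun i j hij => isCoprime_X_sub_C_of_isUnit_sub (hdiff i j hij)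
  set φ := AlgHom.pi (fun i : Fin n => Polynomial.aeval (R := R) (ζ ^ (i : ℕ))) with hφ
  have hφ_apply : ∀ (f : R[X]) (i : Fin n), φ f i = f.eval (ζ ^ (i : ℕ)) := by
    intro f i
    rw [hφ]
    change Polynomial.aeval (ζ ^ (i : ℕ)) f = _
    rw [Polynomial.coe_aeval_eq_eval]
  have hker_iff : ∀ f : R[X], f ∈ RingHom.ker φ ↔ ∏ i : Fin n, (X - C (ζ ^ (i : ℕ))) ∣ f := by
    intro f
    rw [RingHom.mem_ker]
    constructor
    · intro hf
      apply Fintype.prod_dvd_of_coprime hcop
      intro i
      rw [Polynomial.dvd_iff_isRoot, IsRoot, ← hφ_apply, hf]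
      rfl
    · intro hf
      funext i
      rw [hφ_apply]
      have : (X - C (ζ ^ (i : ℕ)) : R[X]) ∣ f :=
        (Finset.dvd_prod_of_mem _ (Finset.mem_univ i)).trans hf
      rw [Polynomial.dvd_iff_isRoot] at this
      exact this
  have hprod : ∏ i : Fin n, (X - C (ζ ^ (i : ℕ)) : R[X]) = X ^ n - 1 := by
    by_cases hn0 : n = 0
    · subst hn0
      have : Subsingleton R := by
        rw [Nat.cast_zero] at hn
        exact subsingleton_of_zero_eq_one (isUnit_zero_iff.mp hn)
      exact Subsingleton.elim _ _
    have hmonic : (∏ i : Fin n, (X - C (ζ ^ (i : ℕ)) : R[X])).Monic :=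
      monic_prod_of_monic _ _ fun i _ => monic_X_sub_C _
    have hmonic' : (X ^ n - 1 : R[X]).Monic := by
      have := monic_X_pow_sub_C (1 : R) hn0
      rwa [C_1] at this
    have hdvd : ∏ i : Fin n, (X - C (ζ ^ (i : ℕ)) : R[X]) ∣ X ^ n - 1 := by
      rw [← hker_iff, RingHom.mem_ker]
      funext i
      rw [hφ_apply]
      simp only [eval_sub, eval_pow, eval_X, eval_one, Pi.zero_apply]
      rw [← pow_mul, mul_comm, pow_mul, hζ, one_pow, sub_self]
    have hdeg : (X ^ n - 1 : R[X]).natDegree ≤
        (∏ i : Fin n, (X - C (ζ ^ (i : ℕ)) : R[X])).natDegree := by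
      rcases subsingleton_or_nontrivial R with h | h
      · rw [Subsingleton.elim (X ^ n - 1 : R[X]) 0]; simp
      rw [natDegree_prod_of_monic _ _ fun i _ => monic_X_sub_C _]
      simp only [natDegree_X_sub_C, Finset.sum_const, Finset.card_univ, Fintype.card_fin,
        smul_eq_mul, mul_one]
      have := natDegree_X_pow_sub_C (R := R) (n := n) (r := 1)
      rw [C_1] at this
      rw [this]
    exact (eq_of_monic_of_dvd_of_natDegree_le hmonic hmonic' hdvd hdeg).symm
  constructor
  · -- surjectivity by Lagrange interpolation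
    intro v
    have hu : ∀ i : Fin n, IsUnit (∏ j ∈ Finset.univ.erase i, (ζ ^ (i : ℕ) - ζ ^ (j : ℕ))) := by
      intro i
      rw [IsUnit.prod_iff]
      intro j hj
      exact hdiff i j (Finset.ne_of_mem_erase hj).symm
    -- Lagrange basis polynomials
    let ℓ : Fin n → R[X] := fun i =>
      C ((hu i).unit⁻¹ : Rˣ).val * ∏ j ∈ Finset.univ.erase i, (X - C (ζ ^ (j : ℕ)))
    have hℓ : ∀ i m : Fin n, (ℓ i).eval (ζ ^ (m : ℕ)) = if m = i then 1 else 0 := by
      intro i m
      simp only [ℓ, eval_mul, eval_C, eval_prod, eval_sub, eval_X]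
      split_ifs with h
      · subst h
        exact (hu m).val_inv_mul
      · have : ∏ j ∈ Finset.univ.erase i, (ζ ^ (m : ℕ) - ζ ^ (j : ℕ)) = 0 :=
          Finset.prod_eq_zero (Finset.mem_erase.mpr ⟨h, Finset.mem_univ m⟩) (sub_self _)
        rw [this, mul_zero]
    refine ⟨∑ i, C (v i) * ℓ i, ?_⟩
    funext m
    rw [hφ_apply, eval_finset_sum]
    simp only [eval_mul, eval_C, hℓ, mul_ite, mul_one, mul_zero]
    rw [Finset.sum_ite_eq]
    simp
  · ext f
    rw [hker_iff, hprod, Ideal.mem_span_singleton]

end Groth.Agent.S13126
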