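import Groth.Statements.S13127
import Groth.Agent.Lib.Helper5.InvFun3

set_option autoImplicit false
universe u
open KumFam

namespace Groth.Agent.S13127

open MvPowerSeries in
/-- Let R be a commutative ring of characteristic 2 and l0, l2, l4, s0, s2, s4, τ, lam, sig ∈ R with l4,
s4, lam, sig units, and let κ₁, κ₂ ∈ R satisfy s4² κ₁³ = sig² and l4² κ₂³ = lam² (cube roots of
sig²/s4² and lam²/l4²). In the power series ring R[[a, b, c]] (a = X 0, b = X 1, c = X 2) put F = c²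
+ s0² a³ b⁴ + s2² a³ b² + s4² a³ + l0² a⁴ b³ + l2² a² b³ + l4² b³ + τ² a³ b³ and F₀ = c² + sig² a³ +
lam² b³. Then some R-algebra automorphism of R[[a, b, c]] maps F to F₀; consequently R[[a, b,
c]]/(F) ≅ R[[a, b, c]]/(F₀). (In the published statement lam, sig are the representatives in the
ground field of the residues of l4, s4 at a rational point, so that F₀ is the equation of the
special fibre made constant; this row takes them to be arbitrary units.) -/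
theorem result (R : Type u) [CommRing R] [CharP R 2]
    (l0 l2 l4 s0 s2 s4 τ lam sig κ₁ κ₂ : R) (hl4 : IsUnit l4) (hs4 : IsUnit s4) (hlam : IsUnit lam)
    (hsig : IsUnit sig) (h₁ : s4 ^ 2 * κ₁ ^ 3 = sig ^ 2) (h₂ : l4 ^ 2 * κ₂ ^ 3 = lam ^ 2) :
    ∃ φ : MvPowerSeries (Fin 3) R ≃ₐ[R] MvPowerSeries (Fin 3) R,
      φ ((X 2 ^ 2 + C (s0 ^ 2) * X 0 ^ 3 * X 1 ^ 4 + C (s2 ^ 2) * X 0 ^ 3 * X 1 ^ 2 +
          C (s4 ^ 2) * X 0 ^ 3 + C (l0 ^ 2) * X 0 ^ 4 * X 1 ^ 3 + C (l2 ^ 2) * X 0 ^ 2 * X 1 ^ 3 +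
          C (l4 ^ 2) * X 1 ^ 3 + C (τ ^ 2) * X 0 ^ 3 * X 1 ^ 3 : MvPowerSeries (Fin 3) R)) =
        (X 2 ^ 2 + C (sig ^ 2) * X 0 ^ 3 + C (lam ^ 2) * X 1 ^ 3 : MvPowerSeries (Fin 3) R) := by
  classical
  have h2R : (2 : R) = 0 := by
    have := CharP.cast_eq_zero R 2
    exact_mod_cast this
  have h3 : IsUnit ((3 : ℕ) : R) := by
    have : ((3 : ℕ) : R) = 1 := by
      push_cast
      linear_combination h2R
    rw [this]; exact isUnit_one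
  obtain ⟨s4i, hs4i⟩ := hs4.exists_right_inv
  obtain ⟨l4i, hl4i⟩ := hl4.exists_right_inv
  have hκ₁ : IsUnit κ₁ := by
    have h : IsUnit (s4 ^ 2 * κ₁ ^ 3) := by rw [h₁]; exact hsig.pow 2
    have : IsUnit (κ₁ ^ 3) := (IsUnit.mul_iff.mp h).2
    exact (isUnit_pow_iff (by norm_num)).mp this
  have hκ₂ : IsUnit κ₂ := by
    have h : IsUnit (l4 ^ 2 * κ₂ ^ 3) := by rw [h₂]; exact hlam.pow 2
    have : IsUnit (κ₂ ^ 3) := (IsUnit.mul_iff.mp h).2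
    exact (isUnit_pow_iff (by norm_num)).mp this
  obtain ⟨k1i, hk1i⟩ := hκ₁.exists_right_inv
  obtain ⟨k2i, hk2i⟩ := hκ₂.exists_right_inv
  have hk1u : IsUnit k1i := IsUnit.of_mul_eq_one κ₁ (by rw [mul_comm]; exact hk1i)
  have hk2u : IsUnit k2i := IsUnit.of_mul_eq_one κ₂ (by rw [mul_comm]; exact hk2i)
  have hA : sig ^ 2 * k1i ^ 3 = s4 ^ 2 := by
    linear_combination (-k1i ^ 3) * h₁ + s4 ^ 2 * ((κ₁ * k1i) ^ 2 + κ₁ * k1i + 1) * hk1i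
  have hA' : lam ^ 2 * k2i ^ 3 = l4 ^ 2 := by
    linear_combination (-k2i ^ 3) * h₂ + l4 ^ 2 * ((κ₂ * k2i) ^ 2 + κ₂ * k2i + 1) * hk2i
  have hB : s4 ^ 2 * s4i ^ 2 = 1 := by
    linear_combination (s4 * s4i + 1) * hs4i
  have hB' : l4 ^ 2 * l4i ^ 2 = 1 := by
    linear_combination (l4 * l4i + 1) * hl4i
  have hAS : (C (sig ^ 2) : MvPowerSeries (Fin 3) R) * C k1i ^ 3 = C (s4 ^ 2) := by
    rw [← map_pow, ← map_mul, hA]
  have hAS' : (C (lam ^ 2) : MvPowerSeries (Fin 3) R) * C k2i ^ 3 = C (l4 ^ 2) := by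
    rw [← map_pow, ← map_mul, hA']
  have hBS : (C (s4 ^ 2) : MvPowerSeries (Fin 3) R) * C (s4i ^ 2) = 1 := by
    rw [← map_mul, hB, map_one]
  have hBS' : (C (l4 ^ 2) : MvPowerSeries (Fin 3) R) * C (l4i ^ 2) = 1 := by
    rw [← map_mul, hB', map_one]
  let a : MvPowerSeries (Fin 3) R := X 0
  let b : MvPowerSeries (Fin 3) R := X 1
  let c : MvPowerSeries (Fin 3) R := X 2
  let m₁ : MvPowerSeries (Fin 3) R :=
    C (s4i ^ 2) * (C (s2 ^ 2) * b ^ 2 + C (s0 ^ 2) * b ^ 4 + C (τ ^ 2) * b ^ 3)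
  let m₂ : MvPowerSeries (Fin 3) R := C (l4i ^ 2) * (C (l2 ^ 2) * a ^ 2 + C (l0 ^ 2) * a ^ 4)
  obtain ⟨v₁, hv₁, hv₁c⟩ := Groth.Agent.Helper5.InvFun.exists_root_one_add 3 h3 m₁
    (by simp [m₁, b])
  obtain ⟨v₂, hv₂, hv₂c⟩ := Groth.Agent.Helper5.InvFun.exists_root_one_add 3 h3 m₂
    (by simp [m₂, a])
  have hv₁c' : coeff 0 v₁ = 1 := hv₁c
  have hv₂c' : coeff 0 v₂ = 1 := hv₂c
  let g : Fin 3 → MvPowerSeries (Fin 3) R := ![a * (C k1i * v₁), b * (C k2i * v₂), c]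
  have hg : ∀ i, constantCoeff (g i) = 0 := by
    intro i
    fin_cases i <;> simp [g, a, b, c]
  have hM : (Matrix.of fun i j : Fin 3 => coeff (Finsupp.single j 1) (g i)) =
      !![k1i, 0, 0; 0, k2i, 0; 0, 0, 1] := by
    ext i j
    fin_cases i <;> fin_cases j <;>
      simp [g, a, b, c, Groth.Agent.Helper5.InvFun.coeff_single_mul,
        coeff_index_single_X, hv₁c', hv₂c',
        coeff_C_mul]
  have hJ : IsUnit (Matrix.det (Matrix.of fun i j : Fin 3 =>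
      coeff (Finsupp.single j 1) (g i))) := by
    rw [hM]
    simpa [Matrix.det_fin_three] using hk1u.mul hk2u
  let e := Groth.Agent.Helper5.InvFun.substEquiv g hg hJ
  refine ⟨e.symm, ?_⟩
  rw [AlgEquiv.symm_apply_eq]
  have e0 : e (X 0) = a * (C k1i * v₁) := Groth.Agent.Helper5.InvFun.substEquiv_X g hg hJ 0
  have e1 : e (X 1) = b * (C k2i * v₂) := Groth.Agent.Helper5.InvFun.substEquiv_X g hg hJ 1
  have e2 : e (X 2) = c := Groth.Agent.Helper5.InvFun.substEquiv_X g hg hJ 2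
  have eC : ∀ r : R, e (C r) = C r := fun r => by
    rw [c_eq_algebraMap]; exact e.commutes r
  have e3 : e (X 2 ^ 2 + C (sig ^ 2) * X 0 ^ 3 + C (lam ^ 2) * X 1 ^ 3) =
      c ^ 2 + C (sig ^ 2) * (a * (C k1i * v₁)) ^ 3 + C (lam ^ 2) * (b * (C k2i * v₂)) ^ 3 := by
    simp only [map_add, map_mul, map_pow, e0, e1, e2, eC]
  rw [e3]
  have hv1 : C (sig ^ 2) * (a * (C k1i * v₁)) ^ 3 =
      a ^ 3 * (C (s4 ^ 2) + C (s2 ^ 2) * b ^ 2 + C (s0 ^ 2) * b ^ 4 + C (τ ^ 2) * b ^ 3) := by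
    have : C (sig ^ 2) * (a * (C k1i * v₁)) ^ 3 = a ^ 3 * (C (sig ^ 2) * C k1i ^ 3) * v₁ ^ 3 := by
      ring
    rw [this, hAS, hv₁]
    simp only [m₁]
    linear_combination
      (a ^ 3 * (C (s2 ^ 2) * b ^ 2 + C (s0 ^ 2) * b ^ 4 + C (τ ^ 2) * b ^ 3)) * hBS
  have hv2 : C (lam ^ 2) * (b * (C k2i * v₂)) ^ 3 =
      b ^ 3 * (C (l4 ^ 2) + C (l2 ^ 2) * a ^ 2 + C (l0 ^ 2) * a ^ 4) := by
    have : C (lam ^ 2) * (b * (C k2i * v₂)) ^ 3 = b ^ 3 * (C (lam ^ 2) * C k2i ^ 3) * v₂ ^ 3 := by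
      ring
    rw [this, hAS', hv₂]
    simp only [m₂]
    linear_combination
      (b ^ 3 * (C (l2 ^ 2) * a ^ 2 + C (l0 ^ 2) * a ^ 4)) * hBS'
  rw [hv1, hv2]
  simp only [a, b, c]
  ring

end Groth.Agent.S13127
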