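import Groth.Statements.S13128
import Groth.Agent.Lib.Helper5.InvFun2

set_option autoImplicit false
universe u
open KumFam

namespace Groth.Agent.S13128

open MvPowerSeries in
/-- Let R be a commutative ring of characteristic 2, l0, l2, l4, s0, s2, s4, τ ∈ R with τ a unit, and α,
β ∈ R with l4² α⁴ + l2² α² + τ² α + l0² = 0 and s4² β⁴ + s2² β² + τ² β + s0² = 0. In characteristic
2 these relations give τ² α = (l4 α² + l2 α + l0)² and τ² β = (s4 β² + s2 β + s0)², so α = α′² and β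
= β′² with α′ = (l4 α² + l2 α + l0)/τ and β′ = (s4 β² + s2 β + s0)/τ. In R[[a, b, c]] (a = X 0, b =
X 1, c = X 2) put h = c² + τ² a b + (s4² b⁴ + s2² b²) a + (l4² a⁴ + l2² a²) b + l4² β a⁴ + l2² β a²
+ s4² α b⁴ + s2² α b²; this is the chart equation c² + τ² a b + (s4² b⁴ + s2² b² + s0²) a + (l4² a⁴
+ l2² a² + l0²) b after the substitution a ↦ a + α, b ↦ b + β, c ↦ c + τ α′ β′, which moves the
point (α, β, τ α′ β′) of that surface, where all partial derivatives vanish, to the origin. Then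
some R-algebra automorphism of R[[a, b, c]] maps h to c² + a b; consequently R[[a, b, c]]/(h) ≅
R[[a, b, c]]/(c² + a b), the completed local ring of an ordinary double point, constant over R. (The
published statement translates only a and b, so that its h carries the additional constant term τ² α
β; with that term h is a unit of R[[a, b, c]] whenever τ α β is a unit, for instance c² + a b + 1
over the field with two elements with l0 = s0 = τ = α = β = 1 and l2 = l4 = s2 = s4 = 0, and no ring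
automorphism carries a unit to c² + a b. The published proof begins by shifting c by a polynomial in
a, b whose constant term is τ α′ β′, a substitution of the polynomial ring which removes the term τ²
α β, and the rest of its argument takes place in R[[a, b, c]]; this row states the result for the
fully translated equation, which is what that argument proves.) -/
theorem result (R : Type u) [CommRing R] [CharP R 2]
    (l0 l2 l4 s0 s2 s4 τ α β : R) (hτ : IsUnit τ)
    (hα : l4 ^ 2 * α ^ 4 + l2 ^ 2 * α ^ 2 + τ ^ 2 * α + l0 ^ 2 = 0)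
    (hβ : s4 ^ 2 * β ^ 4 + s2 ^ 2 * β ^ 2 + τ ^ 2 * β + s0 ^ 2 = 0) :
    ∃ φ : MvPowerSeries (Fin 3) R ≃ₐ[R] MvPowerSeries (Fin 3) R,
      φ ((X 2 ^ 2 + C (τ ^ 2) * X 0 * X 1 + (C (s4 ^ 2) * X 1 ^ 4 + C (s2 ^ 2) * X 1 ^ 2) * X 0 +
          (C (l4 ^ 2) * X 0 ^ 4 + C (l2 ^ 2) * X 0 ^ 2) * X 1 + C (l4 ^ 2 * β) * X 0 ^ 4 +
          C (l2 ^ 2 * β) * X 0 ^ 2 + C (s4 ^ 2 * α) * X 1 ^ 4 + C (s2 ^ 2 * α) * X 1 ^ 2 :
          MvPowerSeries (Fin 3) R)) =
        (X 2 ^ 2 + X 0 * X 1 : MvPowerSeries (Fin 3) R) := by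
  classical
  obtain ⟨ti, hti⟩ : ∃ ti : R, τ * ti = 1 := ⟨↑(hτ.unit⁻¹), by simp⟩
  have h2R : (2 : R) = 0 := by
    have := CharP.cast_eq_zero R 2
    exact_mod_cast this
  have h2 : (2 : MvPowerSeries (Fin 3) R) = 0 := by
    have : (2 : MvPowerSeries (Fin 3) R) = C (2 : R) := (map_ofNat C 2).symm
    rw [this, h2R, map_zero]
  set α' : R := (l4 * α ^ 2 + l2 * α + l0) * ti with hα'
  set β' : R := (s4 * β ^ 2 + s2 * β + s0) * ti with hβ'
  have hαsq : α' ^ 2 = α := by
    rw [hα']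
    linear_combination ti ^ 2 * hα - α * (τ * ti + 1) * hti +
      (ti ^ 2 * (l4 * l2 * α ^ 3 + l4 * l0 * α ^ 2 + l2 * l0 * α) - α) * h2R
  have hβsq : β' ^ 2 = β := by
    rw [hβ']
    linear_combination ti ^ 2 * hβ - β * (τ * ti + 1) * hti +
      (ti ^ 2 * (s4 * s2 * β ^ 3 + s4 * s0 * β ^ 2 + s2 * s0 * β) - β) * h2R
  have hαS : (C α' : MvPowerSeries (Fin 3) R) ^ 2 = C α := by rw [← map_pow, hαsq]
  have hβS : (C β' : MvPowerSeries (Fin 3) R) ^ 2 = C β := by rw [← map_pow, hβsq]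
  let a : MvPowerSeries (Fin 3) R := X 0
  let b : MvPowerSeries (Fin 3) R := X 1
  let c : MvPowerSeries (Fin 3) R := X 2
  let P : MvPowerSeries (Fin 3) R := C l4 * a ^ 2 + C l2 * a
  let Q : MvPowerSeries (Fin 3) R := C s4 * b ^ 2 + C s2 * b
  let U : MvPowerSeries (Fin 3) R := C (τ ^ 2) + b * (C (s4 ^ 2) * b ^ 2 + C (s2 ^ 2)) +
    a * (C (l4 ^ 2) * a ^ 2 + C (l2 ^ 2))
  let g : Fin 3 → MvPowerSeries (Fin 3) R := ![a * U, b, c + C β' * P + C α' * Q]
  have hg : ∀ i, constantCoeff (g i) = 0 := by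
    intro i
    fin_cases i <;> simp [g, a, b, c, P, Q, U]
  have hM : (Matrix.of fun i j : Fin 3 => coeff (Finsupp.single j 1) (g i)) =
      !![τ ^ 2, 0, 0; 0, 1, 0; β' * l2, α' * s2, 1] := by
    ext i j
    fin_cases i <;> fin_cases j <;>
      simp [g, a, b, c, P, Q, U, Groth.Agent.Helper5.InvFun.coeff_single_mul,
        Groth.Agent.Helper5.InvFun.coeff_single_C, coeff_index_single_X, pow_succ]
  have hJ : IsUnit (Matrix.det (Matrix.of fun i j : Fin 3 =>
      coeff (Finsupp.single j 1) (g i))) := by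
    rw [hM]
    simpa [Matrix.det_fin_three] using hτ.pow 2
  let e := Groth.Agent.Helper5.InvFun.substEquiv g hg hJ
  refine ⟨e.symm, ?_⟩
  rw [AlgEquiv.symm_apply_eq]
  have e0 : e (X 0) = a * U := Groth.Agent.Helper5.InvFun.substEquiv_X g hg hJ 0
  have e1 : e (X 1) = b := Groth.Agent.Helper5.InvFun.substEquiv_X g hg hJ 1
  have e2 : e (X 2) = c + C β' * P + C α' * Q :=
    Groth.Agent.Helper5.InvFun.substEquiv_X g hg hJ 2
  have e3 : e (X 2 ^ 2 + X 0 * X 1) = (c + C β' * P + C α' * Q) ^ 2 + a * U * b := by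
    rw [map_add, map_mul, map_pow, e0, e1, e2]
  rw [e3]
  simp only [a, b, c, P, Q, U, map_mul, map_pow]
  linear_combination (-(C l4 * X 0 ^ 2 + C l2 * X 0) ^ 2) * hβS +
    (-(C s4 * X 1 ^ 2 + C s2 * X 1) ^ 2) * hαS -
    (X 2 * C β' * (C l4 * X 0 ^ 2 + C l2 * X 0) + X 2 * C α' * (C s4 * X 1 ^ 2 + C s2 * X 1) +
      C β' * (C l4 * X 0 ^ 2 + C l2 * X 0) * C α' * (C s4 * X 1 ^ 2 + C s2 * X 1) +
      C β * C l4 * C l2 * X 0 ^ 3 + C α * C s4 * C s2 * X 1 ^ 3) * h2

end Groth.Agent.S13128
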