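import Groth.Statements.S13130
import Mathlib.RingTheory.IntegralClosure.IsIntegralClosure.Basic
import Mathlib.GroupTheory.OrderOfElement

set_option autoImplicit false
universe u v
open KumFam

namespace Groth.Agent.S13130

/-- Let R be a nontrivial commutative ring and M a commutative group, with group algebra R[M], the
coordinate ring of the diagonalizable group scheme D(M) over Spec R. Then D(M) is integral over Spec
R, i.e. R[M] is an integral R-algebra, if and only if M is a torsion group. (The published statement
is over an arbitrary base scheme; the question is local and this row is the affine form, with R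
nontrivial so that the elements of M are R-linearly independent.) -/
theorem result (R : Type u) [CommRing R] [Nontrivial R]
    (M : Type v) [CommGroup M] :
    Algebra.IsIntegral R (MonoidAlgebra R M) ↔ IsMulTorsion M := by
  classical
  constructor
  · intro hint m
    by_contra hm
    have hinj : Function.Injective (fun n : ℕ => m ^ n) :=
      (injective_pow_iff_not_isOfFinOrder).mpr hm
    obtain ⟨p, hp, hp0⟩ := hint.isIntegral (MonoidAlgebra.of R M m)
    rw [← Polynomial.aeval_def, Polynomial.aeval_eq_sum_range] at hp0
    have hpow : ∀ i : ℕ, (MonoidAlgebra.of R M m) ^ i = MonoidAlgebra.single (m ^ i) 1 := by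
      intro i
      rw [← map_pow, MonoidAlgebra.of_apply]
    simp only [hpow] at hp0
    have h1 := congrArg (fun x : MonoidAlgebra R M => x.coeff (m ^ p.natDegree)) hp0
    simp only [MonoidAlgebra.coeff_sum, MonoidAlgebra.coeff_smul,
      MonoidAlgebra.coeff_single, Finsupp.coe_finsetSum, Finset.sum_apply, Finsupp.smul_apply,
      smul_eq_mul, MonoidAlgebra.coeff_zero, Finsupp.coe_zero, Pi.zero_apply] at h1
    rw [Finset.sum_eq_single p.natDegree] at h1
    · simp only [Finsupp.single_eq_same, mul_one] at h1
      rw [hp.coeff_natDegree] at h1
      exact one_ne_zero h1
    · intro i _ hi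
      rw [Finsupp.single_eq_of_ne, mul_zero]
      intro h
      exact hi (hinj h.symm)
    · intro h
      exact absurd (Finset.mem_range.mpr (Nat.lt_succ_self _)) h
  · intro htors
    refine ⟨fun x => ?_⟩
    induction x using MonoidAlgebra.induction_on with
    | of m =>
      obtain ⟨n, hn, hmn⟩ := (htors m).exists_pow_eq_one
      apply IsIntegral.of_pow hn
      rw [← map_pow, hmn, map_one]
      exact isIntegral_one
    | add x y hx hy => exact hx.add hy
    | smul r x hx => exact hx.smul r

end Groth.Agent.S13130
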