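import Mathlib
import Groth.Statements.S13131
import Groth.Agent.Lib.Helper19.SigmaConst

set_option autoImplicit false
universe u
open CategoryTheory CategoryTheory.Limits AlgebraicGeometry
open KumFam

namespace Groth.Agent.S13131

/-- Let S be a scheme, M a set and p : T → S a scheme over S. The S-morphisms T → ∐_{m ∈ M} S (the
constant S-scheme on M, with its structure map the codiagonal) are in bijection with the locally
constant maps T → M, a morphism f corresponding to the function sending t to the index of the copy
of S containing f(t). (In the published statement M is a group and ∐_M S the constant group scheme;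
the group structures play no role in this description of T-points.) -/
theorem result (S : Scheme.{u}) (M : Type u)
    (T : Scheme.{u}) (p : T ⟶ S) :
    ∃ e : {f : T ⟶ ∐ (fun _ : M => S) // f ≫ Sigma.desc (fun _ : M => 𝟙 S) = p} ≃
        LocallyConstant T M,
      ∀ (f : {f : T ⟶ ∐ (fun _ : M => S) // f ≫ Sigma.desc (fun _ : M => 𝟙 S) = p}) (t : T),
        e f t = ((sigmaMk (fun _ : M => S)).symm (f.1.base t)).1 := by
  classical
  let toFun : {f : T ⟶ ∐ (fun _ : M => S) // f ≫ Sigma.desc (fun _ : M => 𝟙 S) = p} → LocallyConstant T M :=
    fun f => ⟨Groth.Agent.Helper19.SigmaConst.idx f.1, Groth.Agent.Helper19.SigmaConst.isLocallyConstant_idx f.1⟩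
  have hinj : Function.Injective toFun := by
    intro f₁ f₂ h
    apply Subtype.ext
    refine Groth.Agent.Helper19.SigmaConst.idx_injective p f₁.1 f₂.1 f₁.2 f₂.2 ?_
    exact congrArg (fun φ : LocallyConstant T M => (φ : T → M)) h
  have hsurj : Function.Surjective toFun := by
    intro φ
    obtain ⟨f, hf, hidx⟩ := Groth.Agent.Helper19.SigmaConst.exists_of_locallyConstant p φ
    refine ⟨⟨f, hf⟩, ?_⟩
    apply LocallyConstant.ext
    intro t
    exact congrFun hidx t
  exact ⟨Equiv.ofBijective toFun ⟨hinj, hsurj⟩, fun f t => rfl⟩

end Groth.Agent.S13131
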