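import Mathlib
import Groth.Statements.S13132
import Groth.Agent.Lib.Helper19.ArtReg
-- import your own Groth.Agent.* helpers here

set_option autoImplicit false
universe u v
open CAlg

namespace Groth.Agent.S13132

open Groth.Agent.Helper19.ArtReg Groth.Agent.Helper22.ArtFlat Pointwise in

/-- Let A' be an Artinian local ring, I a proper ideal of A' and S' a flat A'-algebra. An element f' of
S' is a non-zero-divisor exactly when its image in S'/IS' is one; and when f' is a non-zero-divisor,
the quotient S'/(f') is flat over A'. (The published statement is for local Artinian algebras with a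
fixed residue field over a ring of Witt vectors and a surjection between two of them; the argument
uses only that A' is Artinian local and I is a proper ideal, which is the form taken here.) -/
theorem result
    {A' : Type u} [CommRing A'] [IsArtinianRing A'] [IsLocalRing A'] (I : Ideal A') (hI : I ≠ ⊤)
    {S' : Type v} [CommRing S'] [Algebra A' S'] [Module.Flat A' S'] (f' : S') :
    (f' ∈ nonZeroDivisors S' ↔
      Ideal.Quotient.mk (I.map (algebraMap A' S')) f' ∈ nonZeroDivisors (S' ⧸ I.map (algebraMap A' S'))) ∧
    (f' ∈ nonZeroDivisors S' → Module.Flat A' (S' ⧸ Ideal.span {f'})) := by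
  have hm := isNilpotent_maximalIdeal A'
  have ha : f' ∈ nonZeroDivisors S' ↔ NzdMod (⊥ : Ideal A') f' S' := by
    rw [nzdMod_bot_iff, mem_nonZeroDivisors_iff_left]
    rfl
  have hb : Ideal.Quotient.mk (I.map (algebraMap A' S')) f' ∈
      nonZeroDivisors (S' ⧸ I.map (algebraMap A' S')) ↔ NzdMod I f' S' := by
    rw [mem_nonZeroDivisors_iff_left]
    unfold NzdMod
    rw [Ideal.smul_top_eq_map]
    constructor
    · intro h z hz
      have := h (Ideal.Quotient.mk _ z) (by
        rw [← map_mul, Ideal.Quotient.eq_zero_iff_mem]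
        exact hz)
      exact Ideal.Quotient.eq_zero_iff_mem.1 this
    · intro h w hw
      obtain ⟨z, rfl⟩ := Ideal.Quotient.mk_surjective w
      rw [← map_mul, Ideal.Quotient.eq_zero_iff_mem] at hw
      exact Ideal.Quotient.eq_zero_iff_mem.2 (h z hw)
  have hbot : (⊥ : Ideal A') ≠ ⊤ := bot_ne_top
  refine ⟨?_, fun hf => ?_⟩
  · rw [ha, hb]
    constructor
    · intro h
      exact nzdMod_of_nzdMod_maximalIdeal hm f'
        (nzdMod_maximalIdeal_of_nzdMod hm f' ⊥ hbot h) I
    · intro h
      exact nzdMod_of_nzdMod_maximalIdeal hm f'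
        (nzdMod_maximalIdeal_of_nzdMod hm f' I hI h) ⊥
  · have h1 := nzdMod_maximalIdeal_of_nzdMod hm f' ⊥ hbot (ha.1 hf)
    have h2 : Module.Flat A' (QuotSMulTop f' S') := flat_quotSMulTop_of_nzdMod_maximalIdeal hm f' h1
    have heq : f' • (⊤ : Submodule S' S') = Ideal.span {f'} := by
      ext x
      rw [Submodule.mem_smul_pointwise_iff_exists, Ideal.mem_span_singleton']
      constructor
      · rintro ⟨y, _, rfl⟩
        exact ⟨y, by rw [smul_eq_mul, mul_comm]⟩
      · rintro ⟨y, rfl⟩
        exact ⟨y, Submodule.mem_top, by rw [smul_eq_mul, mul_comm]⟩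
    exact Module.Flat.of_linearEquiv ((Submodule.quotEquivOfEq _ _ heq).restrictScalars A').symm

end Groth.Agent.S13132
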