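import Mathlib
import Groth.Statements.S13134
import Groth.Agent.Lib.Helper19.ArtRegSeq
-- import your own Groth.Agent.* helpers here

set_option autoImplicit false
universe u v
open CAlg

namespace Groth.Agent.S13134

open Groth.Agent.Helper19.ArtReg Groth.Agent.Helper22.ArtFlat Pointwise in

/-- Let A' be an Artinian local ring, I a proper ideal, A = A'/I and f_1, …, f_m ∈ A[x_1, …, x_n]. Every
flat A'-algebra B' equipped with a surjection π onto A[x]/(f_1, …, f_m) with kernel I·B', compatible
with A' → A, is a quotient of A'[x_1, …, x_n] by the ideal generated by some lifts f'_1, …, f'_m of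
the f_i, compatibly with π and with reduction of polynomials modulo I. (The published statement is
for a surjection of local Artinian algebras with a fixed residue field over a ring of Witt vectors;
only the Artinian local base and the proper ideal are used, which is the form taken here.) -/
theorem result
    {A' : Type u} [CommRing A'] [IsArtinianRing A'] [IsLocalRing A'] (I : Ideal A') (hI : I ≠ ⊤)
    {n m : ℕ} (f : Fin m → MvPolynomial (Fin n) (A' ⧸ I))
    {B' : Type v} [CommRing B'] [Algebra A' B'] [Module.Flat A' B']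
    (π : B' →+* MvPolynomial (Fin n) (A' ⧸ I) ⧸ Ideal.span (Set.range f))
    (hπ : Function.Surjective π) (hker : RingHom.ker π = I.map (algebraMap A' B'))
    (hcomp : π.comp (algebraMap A' B') =
      ((Ideal.Quotient.mk (Ideal.span (Set.range f))).comp MvPolynomial.C).comp (Ideal.Quotient.mk I)) :
    ∃ (f' : Fin m → MvPolynomial (Fin n) A') (ψ : MvPolynomial (Fin n) A' →ₐ[A'] B'),
      (∀ i, MvPolynomial.map (Ideal.Quotient.mk I) (f' i) = f i) ∧
      Function.Surjective ψ ∧ RingHom.ker ψ.toRingHom = Ideal.span (Set.range f') ∧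
      ∀ q, π (ψ q) = Ideal.Quotient.mk (Ideal.span (Set.range f)) (MvPolynomial.map (Ideal.Quotient.mk I) q) := by
  classical
  have hm := isNilpotent_maximalIdeal A'
  have hInil : IsNilpotent I := by
    obtain ⟨k, hk⟩ := hm
    refine ⟨k, ?_⟩
    have := Ideal.pow_right_mono (IsLocalRing.le_maximalIdeal hI) k
    rw [hk] at this
    exact le_bot_iff.1 this
  set φ : MvPolynomial (Fin n) A' →+* MvPolynomial (Fin n) (A' ⧸ I) :=
    MvPolynomial.map (Ideal.Quotient.mk I) with hφ
  have hφs : Function.Surjective φ := MvPolynomial.map_surjective _ Ideal.Quotient.mk_surjective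
  have hkerφ : RingHom.ker φ = I.map (MvPolynomial.C : A' →+* MvPolynomial (Fin n) A') := by
    rw [hφ, MvPolynomial.ker_map, Ideal.mk_ker]
  set mkf := Ideal.Quotient.mk (Ideal.span (Set.range f)) with hmkf
  -- Step 1: the map ψ
  choose b hb using fun j : Fin n => hπ (mkf (MvPolynomial.X j))
  let ψ : MvPolynomial (Fin n) A' →ₐ[A'] B' := MvPolynomial.aeval b
  have hπψ' : π.comp ψ.toRingHom = mkf.comp φ := by
    refine MvPolynomial.ringHom_ext ?_ ?_
    · intro a
      have h1 : ψ (MvPolynomial.C a) = algebraMap A' B' a := by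
        simp [ψ]
      have h2 := RingHom.congr_fun hcomp a
      simp only [RingHom.comp_apply] at h2 ⊢
      rw [AlgHom.toRingHom_eq_coe, RingHom.coe_coe, h1, h2, hφ, MvPolynomial.map_C]
    · intro j
      simp only [RingHom.comp_apply]
      rw [AlgHom.toRingHom_eq_coe, RingHom.coe_coe, hφ, MvPolynomial.map_X]
      simp only [ψ, MvPolynomial.aeval_X]
      exact hb j
  have hπψ : ∀ q, π (ψ q) = mkf (φ q) := fun q => RingHom.congr_fun hπψ' q
  -- Step 2: surjectivity
  have hψs : Function.Surjective ψ := by
    have htop : (⊤ : Submodule A' B') ≤ LinearMap.range ψ.toLinearMap := by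
      apply le_of_le_sup_smul I hInil
      intro x _
      obtain ⟨q0, hq0⟩ := Ideal.Quotient.mk_surjective (π x)
      obtain ⟨q, rfl⟩ := hφs q0
      have hx : x - ψ q ∈ RingHom.ker π := by
        rw [RingHom.mem_ker, map_sub, hπψ, ← hq0, sub_self]
      rw [hker] at hx
      have hx' : x - ψ q ∈ I • (⊤ : Submodule A' B') := by
        rw [Ideal.smul_top_eq_map]
        exact hx
      have : x = ψ q + (x - ψ q) := by ring
      rw [this]
      exact Submodule.add_mem_sup ⟨q, rfl⟩ hx'
    intro x
    obtain ⟨q, hq⟩ := htop (Submodule.mem_top (x := x))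
    exact ⟨q, hq⟩
  have hIB : I.map (algebraMap A' B') =
      (I.map (MvPolynomial.C : A' →+* MvPolynomial (Fin n) A')).map ψ.toRingHom := by
    rw [Ideal.map_map]
    congr 1
    ext a
    simp [ψ]
  -- Step 3: the lifts
  have hex : ∀ i, ∃ g, φ g = f i ∧ ψ g = 0 := by
    intro i
    obtain ⟨g0, hg0⟩ := hφs (f i)
    have h1 : ψ g0 ∈ RingHom.ker π := by
      rw [RingHom.mem_ker, hπψ, hg0, hmkf, Ideal.Quotient.eq_zero_iff_mem]
      exact Ideal.subset_span ⟨i, rfl⟩
    rw [hker, hIB] at h1
    obtain ⟨y, hy, hy2⟩ := (Ideal.mem_map_iff_of_surjective ψ.toRingHom hψs).1 h1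
    rw [← hkerφ, RingHom.mem_ker] at hy
    refine ⟨g0 - y, ?_, ?_⟩
    · rw [map_sub, hy, sub_zero, hg0]
    · rw [map_sub]
      have : ψ y = ψ g0 := hy2
      rw [this, sub_self]
  choose f' hf'1 hf'2 using hex
  refine ⟨f', ψ, hf'1, hψs, ?_, hπψ⟩
  -- Step 4: the kernel
  have hFK : Ideal.span (Set.range f') ≤ RingHom.ker ψ.toRingHom := by
    rw [Ideal.span_le]
    rintro _ ⟨i, rfl⟩
    exact hf'2 i
  refine le_antisymm ?_ hFK
  set K : Submodule A' (MvPolynomial (Fin n) A') := LinearMap.ker ψ.toLinearMap with hK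
  set F : Submodule A' (MvPolynomial (Fin n) A') :=
    (Ideal.span (Set.range f')).restrictScalars A' with hF
  have hflat : Module.Flat A' (MvPolynomial (Fin n) A' ⧸ K) :=
    Module.Flat.of_linearEquiv (ψ.toLinearMap.quotKerEquivOfSurjective hψs)
  have hmapF : (Ideal.span (Set.range f')).map φ = Ideal.span (Set.range f) := by
    rw [Ideal.map_span, ← Set.range_comp]
    congr 2
    funext i
    exact hf'1 i
  have hKF : K ≤ F := by
    apply le_of_le_sup_smul I hInil
    intro q hq
    have hq' : ψ q = 0 := hq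
    have h1 : φ q ∈ (Ideal.span (Set.range f')).map φ := by
      rw [hmapF, ← Ideal.Quotient.eq_zero_iff_mem, ← hmkf, ← hπψ, hq', map_zero]
    obtain ⟨g, hg, hg2⟩ := (Ideal.mem_map_iff_of_surjective φ hφs).1 h1
    have hd : q - g ∈ K := by
      change ψ (q - g) = 0
      rw [map_sub, hq']
      have : ψ g = 0 := hFK hg
      rw [this, sub_self]
    have hd2 : q - g ∈ I • (⊤ : Submodule A' (MvPolynomial (Fin n) A')) := by
      rw [Ideal.smul_top_eq_map]
      change q - g ∈ I.map (algebraMap A' (MvPolynomial (Fin n) A'))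
      rw [MvPolynomial.algebraMap_eq, ← hkerφ, RingHom.mem_ker, map_sub, hg2, sub_self]
    have h3 := mem_smul_of_mem_smul_top_of_flat_quotient K I (q - g) hd hd2
    have : q = g + (q - g) := by ring
    rw [this]
    exact Submodule.add_mem_sup hg h3
  intro q hq
  exact hKF hq

end Groth.Agent.S13134
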