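import Mathlib
import Groth.Statements.S13135
import Groth.Agent.Lib.Helper19.ArtRegSeq
-- import your own Groth.Agent.* helpers here

set_option autoImplicit false
universe u
open CAlg

namespace Groth.Agent.S13135

open Groth.Agent.Helper19.ArtReg Groth.Agent.Helper22.ArtFlat Pointwise RingTheory.Sequence in

/-- Let A' be an Artinian local ring, I a proper ideal, A = A'/I and f_1, …, f_m a regular sequence in
A[x_1, …, x_n]. For every choice of lifts f'_1, …, f'_m in A'[x_1, …, x_n] the quotient A'[x]/(f'_1,
…, f'_m) is flat over A' (so it is a flat lifting of A[x]/(f_1, …, f_m)). (The published statement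
is for a surjection of local Artinian algebras with a fixed residue field over a ring of Witt
vectors; only the Artinian local base and the proper ideal are used, which is the form taken here.) -/
theorem result
    {A' : Type u} [CommRing A'] [IsArtinianRing A'] [IsLocalRing A'] (I : Ideal A') (hI : I ≠ ⊤)
    {n m : ℕ} (f : Fin m → MvPolynomial (Fin n) (A' ⧸ I))
    (hreg : RingTheory.Sequence.IsRegular (MvPolynomial (Fin n) (A' ⧸ I)) (List.ofFn f))
    (f' : Fin m → MvPolynomial (Fin n) A') (hf' : ∀ i, MvPolynomial.map (Ideal.Quotient.mk I) (f' i) = f i) :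
    Module.Flat A' (MvPolynomial (Fin n) A' ⧸ Ideal.span (Set.range f')) := by
  have hm := isNilpotent_maximalIdeal A'
  set φ : MvPolynomial (Fin n) A' →+* MvPolynomial (Fin n) (A' ⧸ I) :=
    MvPolynomial.map (Ideal.Quotient.mk I) with hφ
  have hφs : Function.Surjective φ := MvPolynomial.map_surjective _ Ideal.Quotient.mk_surjective
  have hker : (I.map (algebraMap A' (MvPolynomial (Fin n) A')) •
      (⊤ : Submodule (MvPolynomial (Fin n) A') (MvPolynomial (Fin n) A'))) = RingHom.ker φ := by
    rw [smul_eq_mul, Ideal.mul_top, MvPolynomial.ker_map, Ideal.mk_ker]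
    rfl
  let e : (MvPolynomial (Fin n) A' ⧸ (I.map (algebraMap A' (MvPolynomial (Fin n) A')) •
      (⊤ : Submodule (MvPolynomial (Fin n) A') (MvPolynomial (Fin n) A')))) ≃+
      MvPolynomial (Fin n) (A' ⧸ I) :=
    (Submodule.quotEquivOfEq _ _ hker).toAddEquiv.trans
      (RingHom.quotientKerEquivOfSurjective hφs).toAddEquiv
  have he : ∀ y, e (Submodule.Quotient.mk y) = φ y := fun y => rfl
  have hl : List.ofFn f = (List.ofFn f').map φ := by
    rw [List.map_ofFn]
    congr 1
    funext i
    exact (hf' i).symm
  have h1 : IsRegular (MvPolynomial (Fin n) A' ⧸ (I.map (algebraMap A' (MvPolynomial (Fin n) A')) •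
      (⊤ : Submodule (MvPolynomial (Fin n) A') (MvPolynomial (Fin n) A')))) (List.ofFn f') := by
    refine (e.isRegular_congr (bs := List.ofFn f) ?_).2 hreg
    rw [hl, List.forall₂_map_right_iff, List.forall₂_same]
    intro r _ x
    obtain ⟨y, rfl⟩ := Submodule.Quotient.mk_surjective _ x
    rw [← Submodule.Quotient.mk_smul, he, he, smul_eq_mul, map_mul, smul_eq_mul]
  have h2 : IsRegular (MvPolynomial (Fin n) A') (List.ofFn f') :=
    (isRegular_iff_isRegular_quot hm I hI (List.ofFn f') (MvPolynomial (Fin n) A')).2 h1
  have h3 := flat_quot_of_isWeaklyRegular (A := A') hm (List.ofFn f') (MvPolynomial (Fin n) A')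
    h2.toIsWeaklyRegular
  have heq : (Ideal.ofList (List.ofFn f') •
      (⊤ : Submodule (MvPolynomial (Fin n) A') (MvPolynomial (Fin n) A'))) =
      Ideal.span (Set.range f') := by
    rw [smul_eq_mul, Ideal.mul_top]
    unfold Ideal.ofList
    congr 1
    ext x
    simp [List.mem_ofFn]
  exact Module.Flat.of_linearEquiv ((Submodule.quotEquivOfEq _ _ heq).restrictScalars A').symm

end Groth.Agent.S13135
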