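import Mathlib
import Groth.Statements.S13137
import Groth.Agent.Lib.Helper19.W2
-- import your own Groth.Agent.* helpers here

set_option autoImplicit false
universe u v
open FrobAlg

namespace Groth.Agent.S13137

open Groth.Agent.Helper19.W2 in

/-- For a perfect field k of characteristic p, a flat W₂(k)-algebra B and an ideal J of B, the quotient
B/J is flat over W₂(k) if and only if (p) ∩ J = pJ in B. (With B a flat lifting of A = B/pB this
says: B/J is a flat lifting of A modulo the image of J exactly when (p) ∩ J = pJ.) -/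
theorem result
    (p : ℕ) [Fact p.Prime] (k : Type u) [Field k] [CharP k p] [PerfectRing k p]
    (B : Type v) [CommRing B] [Algebra (FrobAlg.W2 p k) B] [Module.Flat (FrobAlg.W2 p k) B]
    (J : Ideal B) :
    Module.Flat (FrobAlg.W2 p k) (B ⧸ J) ↔
      Ideal.span {(p : B)} ⊓ J = Ideal.span {(p : B)} * J := by
  have hsm : ∀ b : B, (p : W2 p k) • b = (p : B) * b := by
    intro b
    rw [Algebra.smul_def, map_natCast]
  have hpp : (p : B) * (p : B) = 0 := by
    have := congrArg (algebraMap (W2 p k) B) (p_mul_p p k)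
    simpa using this
  have hB := (flat_iff p k B).1 inferInstance
  rw [flat_iff]
  constructor
  · intro H
    refine le_antisymm ?_ Ideal.mul_le_inf
    rintro x ⟨hx1, hx2⟩
    obtain ⟨b, rfl⟩ := Ideal.mem_span_singleton'.1 hx1
    rw [mul_comm b (p : B)] at hx2 ⊢
    have h1 : (p : W2 p k) • (Ideal.Quotient.mk J b) = 0 := by
      rw [← Ideal.Quotient.mk_eq_mk, ← Submodule.Quotient.mk_smul, hsm]
      exact (Submodule.Quotient.mk_eq_zero _).2 hx2
    obtain ⟨m', hm'⟩ := H _ h1
    obtain ⟨b', rfl⟩ := Ideal.Quotient.mk_surjective m'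
    rw [← Ideal.Quotient.mk_eq_mk, ← Ideal.Quotient.mk_eq_mk, ← Submodule.Quotient.mk_smul, hsm,
      Submodule.Quotient.eq] at hm'
    rw [Ideal.mem_span_singleton_mul]
    refine ⟨b - p * b', hm', ?_⟩
    rw [mul_sub, ← mul_assoc, hpp, zero_mul, sub_zero]
  · intro H m hm
    obtain ⟨b, rfl⟩ := Ideal.Quotient.mk_surjective m
    rw [← Ideal.Quotient.mk_eq_mk, ← Submodule.Quotient.mk_smul, hsm,
      Submodule.Quotient.mk_eq_zero] at hm
    have h1 : (p : B) * b ∈ Ideal.span {(p : B)} ⊓ J :=
      ⟨Ideal.mul_mem_right _ _ (Ideal.mem_span_singleton_self _), hm⟩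
    rw [H, Ideal.mem_span_singleton_mul] at h1
    obtain ⟨j, hj, hj2⟩ := h1
    have h2 : (p : W2 p k) • (b - j) = 0 := by
      rw [hsm, mul_sub, hj2, sub_self]
    obtain ⟨b', hb'⟩ := hB _ h2
    refine ⟨Ideal.Quotient.mk J b', ?_⟩
    rw [← Ideal.Quotient.mk_eq_mk, ← Ideal.Quotient.mk_eq_mk, ← Submodule.Quotient.mk_smul,
      Submodule.Quotient.eq, ← hb', sub_sub_cancel]
    exact hj

end Groth.Agent.S13137
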