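import Groth.Statements.S13139
import Groth.Agent.Lib.Helper20.W2ci

set_option autoImplicit false
universe u
open scoped BigOperators
open FrobAlg

namespace Groth.Agent.S13139


theorem result
    (p : ℕ) [Fact p.Prime] (k : Type u) [Field k] [CharP k p] [PerfectRing k p]
    {n m : ℕ} (f : Fin m → MvPolynomial (Fin n) k)
    (hreg : RingTheory.Sequence.IsRegular (MvPolynomial (Fin n) k) (List.ofFn f)) :
    FrobAlg.IsFLiftable p k (MvPolynomial (Fin n) k ⧸ Ideal.span (Set.range f)) ↔
    ∃ (f' : Fin m → MvPolynomial (Fin n) (FrobAlg.W2 p k)) (h : Fin n → MvPolynomial (Fin n) (FrobAlg.W2 p k)),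
      (∀ i, MvPolynomial.map (FrobAlg.res p k) (f' i) = f i) ∧
      ∀ i, FrobAlg.polyFrob p k (Fin n) (f' i) - f' i ^ p
        - (p : MvPolynomial (Fin n) (FrobAlg.W2 p k)) * ∑ j, MvPolynomial.pderiv j (f' i) ^ p * h j
        ∈ Ideal.span {(p : MvPolynomial (Fin n) (FrobAlg.W2 p k))} * Ideal.span (Set.range f') := by
  constructor
  · intro hL
    exact Groth.Agent.Helper20.W2P.criterion_of_isFLiftable f hreg.toIsWeaklyRegular _ rfl hL
  · rintro ⟨f', h, hf', hh⟩
    have hfun : (fun i => MvPolynomial.map (FrobAlg.res p k) (f' i)) = f := funext hf'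
    refine Groth.Agent.Helper20.W2P.isFLiftable_of_criterion f' _ ?_ ?_ h hh
    · rw [Ideal.map_span, ← Set.range_comp, ← hfun]
      rfl
    · exact Groth.Agent.Helper20.W2P.flat_quot_of_regular f' (by rw [hfun]; exact hreg.toIsWeaklyRegular)

end Groth.Agent.S13139
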