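import Groth.Statements.S13141
import Mathlib.RepresentationTheory.Invariants

set_option autoImplicit false
universe u v w w'
open scoped TensorProduct
open GrpAlg

namespace Groth.Agent.S13141

theorem averageMap_eq {R : Type u} [CommRing R] {G : Type v} [Group G] [Fintype G]
    [Invertible ((Fintype.card G : ℕ) : R)]
    {M : Type w} [AddCommGroup M] [Module R M] (ρ : Representation R G M) :
    Representation.averageMap ρ = ⅟((Fintype.card G : ℕ) : R) • ∑ g : G, ρ g := by
  simp [Representation.averageMap, GroupAlgebra.average, map_smul, map_sum]

/-- Let G be a finite group, R a commutative ring with |G| invertible in R, M a projective R-module with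
an R-linear G-action and S an R-algebra. The natural map M^G ⊗_R S → M ⊗_R S is injective and its
image is the submodule of G-invariants of M ⊗_R S (G acting on the first factor); that is, M^G ⊗_R S
→ (M ⊗_R S)^G is bijective. -/
theorem result
    (R : Type u) [CommRing R] (G : Type v) [Group G] [Finite G] (hG : IsUnit ((Nat.card G : ℕ) : R))
    (M : Type w) [AddCommGroup M] [Module R M] [Module.Projective R M] (ρ : Representation R G M)
    (S : Type w') [CommRing S] [Algebra R S] :
    Function.Injective (TensorProduct.map ρ.invariants.subtype (LinearMap.id : S →ₗ[R] S)) ∧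
    LinearMap.range (TensorProduct.map ρ.invariants.subtype (LinearMap.id : S →ₗ[R] S)) =
      ⨅ g : G, LinearMap.eqLocus (LinearMap.rTensor S (ρ g)) LinearMap.id := by
  classical
  let _ : Fintype G := Fintype.ofFinite G
  have hG' : IsUnit ((Fintype.card G : ℕ) : R) := by rwa [Nat.card_eq_fintype_card] at hG
  let _ : Invertible ((Fintype.card G : ℕ) : R) := hG'.invertible
  let e' : M →ₗ[R] ρ.invariants :=
    (Representation.averageMap ρ).codRestrict ρ.invariants (Representation.averageMap_invariant ρ)
  have he' : e' ∘ₗ ρ.invariants.subtype = LinearMap.id := by
    ext ⟨v, hv⟩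
    exact Representation.averageMap_id ρ v hv
  have he'' : ρ.invariants.subtype ∘ₗ e' = Representation.averageMap ρ := by
    ext v
    simp [e']
  constructor
  · have h : (TensorProduct.map e' LinearMap.id) ∘ₗ
        (TensorProduct.map ρ.invariants.subtype (LinearMap.id : S →ₗ[R] S)) = LinearMap.id := by
      rw [← TensorProduct.map_comp, he', LinearMap.id_comp, TensorProduct.map_id]
    exact Function.LeftInverse.injective (fun x => LinearMap.congr_fun h x)
  · apply le_antisymm
    · rintro _ ⟨x, rfl⟩
      simp only [Submodule.mem_iInf, LinearMap.mem_eqLocus]
      intro g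
      induction x using TensorProduct.induction_on with
      | zero => simp
      | tmul m s =>
        have := m.2 g
        simp [this]
      | add x y hx hy => simp only [map_add, hx, hy]
    · intro x hx
      simp only [Submodule.mem_iInf, LinearMap.mem_eqLocus] at hx
      have h1 : LinearMap.rTensor S (Representation.averageMap ρ) x = x := by
        have hsum : LinearMap.rTensor S (∑ g : G, ρ g) = ∑ g : G, LinearMap.rTensor S (ρ g) := by
          rw [← LinearMap.coe_rTensorHom, map_sum]
        rw [averageMap_eq, LinearMap.rTensor_smul, hsum]
        simp only [LinearMap.smul_apply, LinearMap.sum_apply, hx, LinearMap.id_apply,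
          Finset.sum_const, Finset.card_univ]
        rw [← Nat.cast_smul_eq_nsmul R, smul_smul, invOf_mul_self, one_smul]
      refine ⟨TensorProduct.map e' LinearMap.id x, ?_⟩
      rw [← LinearMap.comp_apply, ← TensorProduct.map_comp, he'', LinearMap.id_comp]
      exact h1

end Groth.Agent.S13141
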