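import Groth.Statements.S13142
import Mathlib.RingTheory.Flat.Basic

set_option autoImplicit false
universe u v
open GrpAlg

namespace Groth.Agent.S13142

/-- Let G be a finite group and R a commutative ring with |G| invertible in R, acting on R[x_1, …, x_n]
by R-algebra automorphisms. The invariant subring R[x_1, …, x_n]^G is a flat R-module (so the
quotient of affine n-space over R by G is flat over R). -/
theorem result
    (R : Type u) [CommRing R] (G : Type v) [Group G] [Finite G] (hG : IsUnit ((Nat.card G : ℕ) : R))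
    (n : ℕ) (ρ : G →* (MvPolynomial (Fin n) R ≃ₐ[R] MvPolynomial (Fin n) R)) :
    Module.Flat R ↥(⨅ g : G, LinearMap.eqLocus (ρ g).toLinearMap (LinearMap.id : MvPolynomial (Fin n) R →ₗ[R] MvPolynomial (Fin n) R)) := by
  classical
  let _ : Fintype G := Fintype.ofFinite G
  have hG' : IsUnit ((Fintype.card G : ℕ) : R) := by rwa [Nat.card_eq_fintype_card] at hG
  let _ : Invertible ((Fintype.card G : ℕ) : R) := hG'.invertible
  set P := MvPolynomial (Fin n) R with hP
  set I : Submodule R P := ⨅ g : G, LinearMap.eqLocus (ρ g).toLinearMap (LinearMap.id : P →ₗ[R] P) with hI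
  have hmemI : ∀ x : P, x ∈ I ↔ ∀ g : G, ρ g x = x := by
    intro x
    simp [hI, Submodule.mem_iInf, LinearMap.mem_eqLocus]
  let e : P →ₗ[R] P := ⅟((Fintype.card G : ℕ) : R) • ∑ g : G, (ρ g).toLinearMap
  have he_apply : ∀ x, e x = ⅟((Fintype.card G : ℕ) : R) • ∑ g : G, ρ g x := by
    intro x
    simp [e, LinearMap.sum_apply]
  have he_mem : ∀ x, e x ∈ I := by
    intro x
    rw [hmemI]
    intro h
    rw [he_apply, map_smul, map_sum]
    congr 1
    have : ∀ g : G, ρ h (ρ g x) = ρ (h * g) x := by
      intro g
      rw [map_mul]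
      rfl
    simp only [this]
    exact Fintype.sum_bijective (fun g => h * g) (Group.mulLeft_bijective h) _ _ (fun _ => rfl)
  have he_id : ∀ x ∈ I, e x = x := by
    intro x hx
    rw [hmemI] at hx
    rw [he_apply]
    simp only [hx, Finset.sum_const, Finset.card_univ]
    rw [← Nat.cast_smul_eq_nsmul R, smul_smul, invOf_mul_self, one_smul]
  let r : P →ₗ[R] I := e.codRestrict I he_mem
  apply Module.Flat.of_retract (M := P) I.subtype r
  apply LinearMap.ext
  rintro ⟨x, hx⟩
  apply Subtype.ext
  exact he_id x hx

end Groth.Agent.S13142
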