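import Groth.Statements.S13143
import Groth.Agent.Lib.Helper20.W2desc

set_option autoImplicit false
universe u
open FrobAlg

namespace Groth.Agent.S13143


theorem result
    (p : ℕ) [Fact p.Prime] (k : Type u) [Field k] [CharP k p] [PerfectRing k p]
    (A B : Type u) [CommRing A] [CommRing B] [Algebra k A] [Algebra k B]
    [IsNoetherianRing A] [IsNoetherianRing B] [Algebra A B] [IsScalarTower k A B]
    (r : B →ₗ[A] A) (hr : ∀ a : A, r (algebraMap A B a) = a)
    (hB : FrobAlg.IsW2Liftable p k B) : FrobAlg.IsW2Liftable p k A := by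
  exact Groth.Agent.Helper20.W2.isW2Liftable_of_retraction r hr hB

end Groth.Agent.S13143
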