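import Groth.Statements.S13144
import Groth.Agent.Lib.Helper20.W2retr

set_option autoImplicit false
universe u
open FrobAlg

namespace Groth.Agent.S13144


theorem result
    (p : ℕ) [Fact p.Prime] (k : Type u) [Field k] [CharP k p] [PerfectRing k p]
    (A B : Type u) [CommRing A] [CommRing B] [Algebra k A] [Algebra k B]
    [IsNoetherianRing A] [IsNoetherianRing B] [Algebra A B] [IsScalarTower k A B]
    (r : B →ₗ[A] A) (hr : ∀ a : A, r (algebraMap A B a) = a)
    (A' B' : Type u) [CommRing A'] [CommRing B']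
    (ιA : FrobAlg.W2 p k →+* A') (πA : A' →+* A) (hA : FrobAlg.IsLift p k A A' ιA πA)
    (ιB : FrobAlg.W2 p k →+* B') (πB : B' →+* B) (hB : FrobAlg.IsLift p k B B' ιB πB)
    (φ' : A' →+* B') (hφι : φ'.comp ιA = ιB) (hφπ : πB.comp φ' = (algebraMap A B).comp πA)
    (ΦB : B' →+* B') (hΦB : FrobAlg.IsFrobLift p k B B' ιB πB ΦB) :
    ∃ ΦA : A' →+* A', FrobAlg.IsFrobLift p k A A' ιA πA ΦA := by
  obtain ⟨θB, hθ1, hθ2⟩ := Groth.Agent.Helper20.W2.exists_theta hB ΦB hΦB.semi hΦB.red
  have hψ0 : ∀ a', ((θB.comp φ') a').coeff 0 = algebraMap A B (πA a') := by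
    intro a'
    have h1 := congrArg (fun f => f (φ' a')) hθ1
    simp only [RingHom.comp_apply, FrobAlg.res_apply] at h1
    have h2 := congrArg (fun f => f a') hφπ
    simp only [RingHom.comp_apply] at h2
    rw [RingHom.comp_apply, h1, h2]
  have hψι : (θB.comp φ').comp ιA = WittGrp.truncMap p 2 (algebraMap k B) := by
    rw [RingHom.comp_assoc, hφι, hθ2]
  obtain ⟨θA, h1, h2⟩ := Groth.Agent.Helper20.W2.exists_theta_of_retraction r hr ιA πA hA.comm
    (θB.comp φ') hψ0 hψι
  exact Groth.Agent.Helper20.W2.exists_frobLift hA θA h1 h2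

end Groth.Agent.S13144
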