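import Groth.Statements.S13147
import Groth.Agent.Lib.Helper20.W2split

set_option autoImplicit false
universe u
open FrobAlg

namespace Groth.Agent.S13147

open Groth.Agent.Helper20.W2 in
theorem aux_main
    (p : ℕ) [Fact p.Prime] (k : Type u) [Field k] [CharP k p] [PerfectRing k p]
    (A : Type u) [CommRing A] [Algebra k A] [CharP A p] (φ : A →+ A)
    (hφ : ∀ a b : A, φ (a ^ p * b) = a * φ b) (hφ1 : φ 1 = 1) :
    FrobAlg.IsLift p k A (FrobAlg.W2 p A ⧸ FrobAlg.splitIdeal p A φ)
      ((Ideal.Quotient.mk (FrobAlg.splitIdeal p A φ)).comp (WittGrp.truncMap p 2 (algebraMap k A)))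
      (FrobAlg.splitRes p A φ) := by
  have hres : ∀ x : FrobAlg.W2 p A, FrobAlg.splitRes p A φ
      (Ideal.Quotient.mk (FrobAlg.splitIdeal p A φ) x) = x.coeff 0 := by
    intro x
    unfold FrobAlg.splitRes
    rw [Ideal.Quotient.lift_mk, FrobAlg.res_apply]
  refine ⟨?_, ?_, ?_, ?_⟩
  · rw [RingHom.Flat]
    letI := ((Ideal.Quotient.mk (FrobAlg.splitIdeal p A φ)).comp
      (WittGrp.truncMap p 2 (algebraMap k A))).toAlgebra
    apply flat_of_torsion ((p : ℕ) : FrobAlg.W2 p k) p_mul_p ideal_cases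
    intro m hm
    obtain ⟨x, rfl⟩ := Ideal.Quotient.mk_surjective m
    have h1 : ∀ y : FrobAlg.W2 p A ⧸ FrobAlg.splitIdeal p A φ,
        ((p : ℕ) : FrobAlg.W2 p k) • y = ((p : ℕ) : FrobAlg.W2 p A ⧸ FrobAlg.splitIdeal p A φ) * y := by
      intro y
      rw [Algebra.smul_def, RingHom.algebraMap_toAlgebra, map_natCast]
    rw [h1, ← map_natCast (Ideal.Quotient.mk (FrobAlg.splitIdeal p A φ)), ← map_mul,
      Ideal.Quotient.eq_zero_iff_mem] at hm
    have h2 := coeff_zero_eq_zero_of_p_mul_mem φ hφ hφ1 hm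
    refine ⟨Ideal.Quotient.mk (FrobAlg.splitIdeal p A φ) (mk2 p (φ (x.coeff 1)) 0), ?_⟩
    rw [h1]
    exact mk_eq_p_mul φ hφ hφ1 h2
  · intro a
    refine ⟨Ideal.Quotient.mk _ (mk2 p a 0), ?_⟩
    rw [hres, mk2_coeff_zero]
  · rw [ker_res, Ideal.map_span, Set.image_singleton, map_natCast]
    apply le_antisymm
    · intro m hm
      obtain ⟨x, rfl⟩ := Ideal.Quotient.mk_surjective m
      rw [RingHom.mem_ker, hres] at hm
      rw [mk_eq_p_mul φ hφ hφ1 hm]
      exact Ideal.mul_mem_right _ _ (Ideal.mem_span_singleton_self _)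
    · rw [Ideal.span_le, Set.singleton_subset_iff, SetLike.mem_coe, RingHom.mem_ker, map_natCast]
      exact CharP.cast_eq_zero A p
  · ext x
    rw [RingHom.comp_apply, RingHom.comp_apply, RingHom.comp_apply, hres, WittGrp.coeff_truncMap,
      FrobAlg.res_apply]

theorem result
    (p : ℕ) [Fact p.Prime] (k : Type u) [Field k] [CharP k p] [PerfectRing k p]
    (A : Type u) [CommRing A] [Algebra k A] (φ : A →+ A)
    (hφ : ∀ a b : A, φ (a ^ p * b) = a * φ b) (hφ1 : φ 1 = 1) :
    FrobAlg.IsLift p k A (FrobAlg.W2 p A ⧸ FrobAlg.splitIdeal p A φ)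
      ((Ideal.Quotient.mk (FrobAlg.splitIdeal p A φ)).comp (WittGrp.truncMap p 2 (algebraMap k A)))
      (FrobAlg.splitRes p A φ) := by
  rcases subsingleton_or_nontrivial A with hA | hA
  · haveI : Subsingleton (FrobAlg.W2 p A) :=
      ⟨fun x y => TruncatedWittVector.ext fun i => Subsingleton.elim _ _⟩
    haveI : Subsingleton (FrobAlg.W2 p A ⧸ FrobAlg.splitIdeal p A φ) :=
      (Ideal.Quotient.mk_surjective (I := FrobAlg.splitIdeal p A φ)).subsingleton
    refine ⟨?_, ?_, ?_, ?_⟩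
    · rw [RingHom.Flat]
      letI := ((Ideal.Quotient.mk (FrobAlg.splitIdeal p A φ)).comp
        (WittGrp.truncMap p 2 (algebraMap k A))).toAlgebra
      infer_instance
    · intro a
      exact ⟨0, Subsingleton.elim _ _⟩
    · ext x
      rw [Subsingleton.elim x 0]
      simp only [Submodule.zero_mem]
    · ext x
      exact Subsingleton.elim _ _
  · haveI : CharP A p := charP_of_injective_algebraMap (algebraMap k A).injective p
    exact aux_main p k A φ hφ hφ1

end Groth.Agent.S13147
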