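import Groth.Statements.S13148
import Mathlib
import Groth.Agent.Lib.Helper20.W2k
import Groth.Agent.Lib.Helper2.IndSm1
-- import your own Groth.Agent.* helpers here

set_option autoImplicit false
universe u
open FrobAlg

namespace Groth.Agent.S13148

section

open Groth.Agent.Helper20.W2 Groth.Agent.Helper2.IndSm

/-- A type synonym carrying a twisted algebra structure. -/
def Tw (X : Type u) : Type u := X

instance (X : Type u) [CommRing X] : CommRing (Tw X) := inferInstanceAs (CommRing X)

set_option maxHeartbeats 1600000 in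
theorem main (p : ℕ) [Fact p.Prime] (k : Type u) [Field k] [CharP k p] [PerfectRing k p]
    (A : Type u) [CommRing A] [Algebra k A] [Algebra.Smooth k A] :
    FrobAlg.IsFLiftable p k A := by
  classical
  letI : Algebra (FrobAlg.W2 p k) k := (FrobAlg.res p k).toAlgebra
  letI : Algebra (FrobAlg.W2 p k) A := ((algebraMap k A).comp (FrobAlg.res p k)).toAlgebra
  haveI : IsScalarTower (FrobAlg.W2 p k) k A := IsScalarTower.of_algebraMap_eq (fun _ => rfl)
  have hsurj : Function.Surjective (algebraMap (FrobAlg.W2 p k) k) := by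
    intro a
    refine ⟨mk2 p a 0, ?_⟩
    change FrobAlg.res p k (mk2 p a 0) = a
    rw [FrobAlg.res_apply, mk2_coeff_zero]
  have hker : RingHom.ker (algebraMap (FrobAlg.W2 p k) k) =
      Ideal.span {((p : ℕ) : FrobAlg.W2 p k)} := ker_res
  have hI2 : (Ideal.span {((p : ℕ) : FrobAlg.W2 p k)}) ^ 2 = ⊥ := by
    rw [pow_two, Ideal.span_singleton_mul_span_singleton, p_mul_p, Ideal.span_singleton_eq_bot]
  obtain ⟨B, _, _, hsm, Φ, hΦsurj, hΦker⟩ :=
    exists_lift_general (Ideal.span {((p : ℕ) : FrobAlg.W2 p k)}) hsurj hker A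
  haveI := hsm
  have hlift : FrobAlg.IsLift p k A B (algebraMap (FrobAlg.W2 p k) B) (Φ : B →+* A) := by
    refine ⟨?_, hΦsurj, ?_, ?_⟩
    · exact (RingHom.flat_algebraMap_iff).mpr inferInstance
    · have : RingHom.ker (Φ : B →+* A) = RingHom.ker Φ := rfl
      rw [this, hΦker, ← hker]
      rfl
    · ext w
      exact Φ.commutes w
  have hnilB : IsNilpotent (RingHom.ker (Φ : B →+* A)) := by
    have : RingHom.ker (Φ : B →+* A) =
        (Ideal.span {((p : ℕ) : FrobAlg.W2 p k)}).map (algebraMap (FrobAlg.W2 p k) B) := hΦker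
    rw [this]
    exact isNilpotent_map_of_sq_zero _ hI2
  rcases subsingleton_or_nontrivial A with hA | hA
  · -- `A = 0`, hence `B = 0`
    haveI : Subsingleton B := by
      have h1 : (1 : B) ∈ RingHom.ker (Φ : B →+* A) := by
        rw [RingHom.mem_ker]
        exact Subsingleton.elim _ _
      obtain ⟨m, hm⟩ := hnilB
      have h2 : (1 : B) ^ m ∈ RingHom.ker (Φ : B →+* A) ^ m := Ideal.pow_mem_pow h1 m
      rw [hm, one_pow] at h2
      have h3 : (1 : B) = 0 := h2
      exact subsingleton_of_zero_eq_one h3.symm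
    refine ⟨B, inferInstance, algebraMap (FrobAlg.W2 p k) B, (Φ : B →+* A), RingHom.id B,
      ⟨hlift, ?_, ?_⟩⟩
    · ext w
      exact Subsingleton.elim _ _
    · intro b
      exact Subsingleton.elim _ _
  · haveI : CharP A p := charP_of_injective_algebraMap (algebraMap k A).injective p
    -- the twisted algebra structures
    letI : Algebra (FrobAlg.W2 p k) (Tw B) :=
      ((algebraMap (FrobAlg.W2 p k) B).comp (FrobAlg.sigma p k)).toAlgebra
    letI : Algebra (FrobAlg.W2 p k) (Tw A) :=
      ((algebraMap (FrobAlg.W2 p k) A).comp (FrobAlg.sigma p k)).toAlgebra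
    let gtw : Tw B →ₐ[FrobAlg.W2 p k] Tw A :=
      { toRingHom := (Φ : B →+* A)
        commutes' := fun w => Φ.commutes (FrobAlg.sigma p k w) }
    have hσ : ∀ w : FrobAlg.W2 p k,
        FrobAlg.res p k (FrobAlg.sigma p k w) = (FrobAlg.res p k w) ^ p := by
      intro w
      rw [FrobAlg.res_apply, FrobAlg.res_apply]
      rfl
    let ftw : B →ₐ[FrobAlg.W2 p k] Tw A :=
      { toRingHom := (frobenius A p).comp (Φ : B →+* A)
        commutes' := fun w => by
          change (Φ (algebraMap (FrobAlg.W2 p k) B w)) ^ p =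
            algebraMap k A (FrobAlg.res p k (FrobAlg.sigma p k w))
          rw [Φ.commutes, hσ, map_pow]
          rfl }
    have hgsurj : Function.Surjective gtw := hΦsurj
    have hgnil : IsNilpotent (RingHom.ker (gtw : Tw B →+* Tw A)) := hnilB
    let Ψ : B →ₐ[FrobAlg.W2 p k] Tw B :=
      Algebra.FormallySmooth.liftOfSurjective ftw gtw hgsurj hgnil
    have hΨ : ∀ b, gtw (Ψ b) = ftw b := fun b =>
      Algebra.FormallySmooth.liftOfSurjective_apply ftw gtw hgsurj hgnil b
    refine ⟨B, inferInstance, algebraMap (FrobAlg.W2 p k) B, (Φ : B →+* A),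
      (Ψ : B →+* Tw B), ⟨hlift, ?_, ?_⟩⟩
    · ext w
      exact Ψ.commutes w
    · intro b
      exact hΨ b

end

/-- Over a perfect field k of characteristic p, every smooth affine scheme Spec A admits a flat lifting
over W₂(k) together with a lifting of Frobenius (not necessarily unique). -/
theorem result
    (p : ℕ) [Fact p.Prime] (k : Type u) [Field k] [CharP k p] [PerfectRing k p]
    (A : Type u) [CommRing A] [Algebra k A] [Algebra.Smooth k A] :
    FrobAlg.IsFLiftable p k A := by
  exact Groth.Agent.S13148.main p k A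

end Groth.Agent.S13148
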