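import Groth.Statements.S13150
import Groth.Agent.Lib.Helper20.W2frob

set_option autoImplicit false
universe u
open FrobAlg

namespace Groth.Agent.S13150


theorem result
    (p : ℕ) [Fact p.Prime] (k : Type u) [Field k] [CharP k p] [PerfectRing k p]
    (A B : Type u) [CommRing A] [Algebra k A] [IsNoetherianRing A] [CommRing B]
    (ι : FrobAlg.W2 p k →+* B) (π : B →+* A) (hB : FrobAlg.IsLift p k A B ι π) :
    (∃ Φ : B →+* B, FrobAlg.IsFrobLift p k A B ι π Φ) ↔
      ∃ θ : B →+* FrobAlg.W2 p A,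
        (FrobAlg.res p A).comp θ = π ∧ θ.comp ι = WittGrp.truncMap p 2 (algebraMap k A) := by
  constructor
  · rintro ⟨Φ, hΦ⟩
    exact Groth.Agent.Helper20.W2.exists_theta hB Φ hΦ.semi hΦ.red
  · rintro ⟨θ, h1, h2⟩
    exact Groth.Agent.Helper20.W2.exists_frobLift hB θ h1 h2

end Groth.Agent.S13150
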