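import Groth.Statements.S13151

set_option autoImplicit false
set_option linter.style.haveILetI false
universe u
open CAlg

namespace Groth.Agent.S13151

theorem comap_eq {A B : Type u} [CommRing A] [CommRing B]
    [IsDomain A] [IsDomain B] [IsIntegrallyClosed A] [Algebra A B] [Algebra.IsIntegral A B]
    (hinj : Function.Injective (algebraMap A B)) (π : A) :
    (Ideal.span {algebraMap A B π}).comap (algebraMap A B) = Ideal.span {π} := by
  apply le_antisymm
  · intro a ha
    rw [Ideal.mem_comap, Ideal.mem_span_singleton'] at ha
    obtain ⟨b, hb⟩ := ha
    rw [Ideal.mem_span_singleton']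
    by_cases hπ : π = 0
    · subst hπ
      refine ⟨0, ?_⟩
      rw [map_zero, mul_zero] at hb
      have : a = 0 := hinj (by rw [← hb, map_zero])
      rw [this, zero_mul]
    · let K := FractionRing A
      let L := FractionRing B
      haveI : IsScalarTower A B L := inferInstance
      haveI : FaithfulSMul A L := by
        rw [faithfulSMul_iff_algebraMap_injective, IsScalarTower.algebraMap_eq A B L]
        exact (IsFractionRing.injective B L).comp hinj
      letI : Algebra K L := FractionRing.liftAlgebra A L
      haveI : IsScalarTower A K L := FractionRing.isScalarTower_liftAlgebra A L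
      have hπK : algebraMap A K π ≠ 0 := by
        rw [Ne, map_eq_zero_iff _ (IsFractionRing.injective A K)]
        exact hπ
      have hx : IsIntegral A (algebraMap A K a / algebraMap A K π) := by
        rw [← isIntegral_algebraMap_iff (algebraMap K L).injective]
        have : algebraMap K L (algebraMap A K a / algebraMap A K π) = algebraMap B L b := by
          rw [map_div₀, ← IsScalarTower.algebraMap_apply, ← IsScalarTower.algebraMap_apply,
            IsScalarTower.algebraMap_apply A B L, IsScalarTower.algebraMap_apply A B L, ← hb,
            map_mul, mul_div_assoc, div_self, mul_one]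
          rw [← IsScalarTower.algebraMap_apply, IsScalarTower.algebraMap_apply A K L]
          rw [Ne, map_eq_zero_iff _ (algebraMap K L).injective]
          exact hπK
        rw [this]
        exact (Algebra.IsIntegral.isIntegral b).algebraMap
      obtain ⟨y, hy⟩ := IsIntegrallyClosed.isIntegral_iff.mp hx
      refine ⟨y, ?_⟩
      apply IsFractionRing.injective A K
      rw [map_mul, hy, div_mul_cancel₀ _ hπK]
  · rw [Ideal.span_le, Set.singleton_subset_iff]
    exact Ideal.mem_comap.mpr (Ideal.subset_span rfl)

theorem result {A B : Type u} [CommRing A] [CommRing B]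
    [IsDomain A] [IsDomain B] [IsIntegrallyClosed A] [Algebra A B] [Algebra.IsIntegral A B]
    (hinj : Function.Injective (algebraMap A B)) (π : A) :
    (Ideal.span {algebraMap A B π}).comap (algebraMap A B) = Ideal.span {π} ∧
      (IsDomain (B ⧸ Ideal.span {algebraMap A B π}) → IsDomain (A ⧸ Ideal.span {π})) := by
  refine ⟨comap_eq hinj π, fun h => ?_⟩
  rw [Ideal.Quotient.isDomain_iff_prime] at h ⊢
  rw [← comap_eq hinj π]
  exact Ideal.comap_isPrime _ _

end Groth.Agent.S13151
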