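import Groth.Statements.S13153
import Mathlib
import Groth.Agent.Lib.Helper20.KaehlerTransc

set_option autoImplicit false
universe u
open CAlg

namespace Groth.Agent.S13153

section
variable {R : Type u} [CommRing R] [IsDomain R] [IsDiscreteValuationRing R]
  {K : Type u} [Field K] [Algebra R K] [IsFractionRing R K]

theorem exists_pow_smul_eq (ϖ : R) (hϖ : Irreducible ϖ) (k : K) :
    ∃ (N : ℕ) (r : R), (ϖ ^ N) • k = algebraMap R K r := by
  obtain ⟨r, s, hs, rfl⟩ := IsFractionRing.div_surjective (A := R) k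
  have hs0 : s ≠ 0 := nonZeroDivisors.ne_zero hs
  obtain ⟨N, u, hu⟩ := IsDiscreteValuationRing.eq_unit_mul_pow_irreducible hs0 hϖ
  refine ⟨N, r * ((u⁻¹ : Rˣ) : R), ?_⟩
  have h1 : algebraMap R K s ≠ 0 := by
    rw [Ne, map_eq_zero_iff _ (IsFractionRing.injective R K)]; exact hs0
  rw [Algebra.smul_def, mul_div_assoc', div_eq_iff h1, ← map_mul, ← map_mul, hu]
  congr 1
  have : ((u⁻¹ : Rˣ) : R) * (u : R) = 1 := Units.inv_mul u
  linear_combination (-(r * ϖ ^ N)) * this

theorem descend {A : Type u} [CommRing A] [IsDomain A] [Algebra R A] [Module.FaithfullyFlat R A]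
    (ϖ : R) (hϖ : Irreducible ϖ) (N : ℕ) :
    ∀ (f : A) (r : R), (ϖ ^ N) • f = algebraMap R A r → f ∈ (algebraMap R A).range := by
  have hRA : Function.Injective (algebraMap R A) := FaithfulSMul.algebraMap_injective R A
  have hϖA : algebraMap R A ϖ ≠ 0 := by
    rw [Ne, map_eq_zero_iff _ hRA]; exact hϖ.ne_zero
  have hnu : ¬ IsUnit (algebraMap R A ϖ) := by
    intro hu
    have hmem : ϖ ∈ IsLocalRing.maximalIdeal R := by
      rw [IsLocalRing.mem_maximalIdeal]; exact hϖ.not_isUnit
    apply Module.FaithfullyFlat.submodule_ne_top (R := R) (M := A)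
      (IsLocalRing.maximalIdeal.isMaximal R)
    rw [eq_top_iff]
    intro a _
    obtain ⟨v, hv⟩ := hu
    have : a = ϖ • ((v⁻¹ : Aˣ) * a) := by
      rw [Algebra.smul_def, ← hv, ← mul_assoc, Units.mul_inv, one_mul]
    rw [this]
    exact Submodule.smul_mem_smul hmem trivial
  induction N with
  | zero =>
    intro f r h
    exact ⟨r, by rw [← h]; simp⟩
  | succ N ih =>
    intro f r h
    by_cases hr : ϖ ∣ r
    · obtain ⟨r', rfl⟩ := hr
      apply ih f r'
      have h2 : algebraMap R A ϖ * ((ϖ ^ N) • f) = algebraMap R A ϖ * algebraMap R A r' := by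
        rw [← map_mul, ← h, pow_succ, mul_comm (ϖ ^ N) ϖ, mul_smul, Algebra.smul_def ϖ]
      exact mul_left_cancel₀ hϖA h2
    · exfalso
      have hru : IsUnit r := by
        by_contra hnr
        have : r ∈ IsLocalRing.maximalIdeal R := by
          rw [IsLocalRing.mem_maximalIdeal]; exact hnr
        rw [hϖ.maximalIdeal_eq, Ideal.mem_span_singleton] at this
        exact hr this
      have hu : IsUnit ((ϖ ^ (N + 1)) • f) := by rw [h]; exact hru.map _
      rw [Algebra.smul_def, map_pow, pow_succ, mul_assoc, mul_comm, mul_assoc] at hu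
      exact hnu (isUnit_of_mul_isUnit_left hu)
end

theorem result (R : Type u) [CommRing R] [IsDomain R]
    [IsDiscreteValuationRing R] [CharZero R] (K : Type u) [Field K] [Algebra R K] [IsFractionRing R K]
    (A : Type u) [CommRing A] [IsDomain A] [Algebra R A] [Module.FaithfullyFlat R A]
    (L : Type u) [Field L] [Algebra A L] [IsFractionRing A L] [Algebra R L] [Algebra K L]
    [IsScalarTower R A L] [IsScalarTower R K L]
    (hac : ∀ x : L, IsAlgebraic K x → x ∈ (algebraMap K L).range)
    (f : A) (hf : KaehlerDifferential.D R A f = 0) : f ∈ (algebraMap R A).range := by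
  haveI : CharZero K := charZero_of_injective_algebraMap (IsFractionRing.injective R K)
  haveI : SMulCommClass K A L := ⟨fun k a l => by
    rw [Algebra.smul_def, Algebra.smul_def, Algebra.smul_def, Algebra.smul_def]; ring⟩
  have h1 : KaehlerDifferential.D K L (algebraMap A L f) = 0 := by
    rw [← KaehlerDifferential.map_D R K A L, hf, map_zero]
  have h2 := Groth.Agent.Helper20.KaehlerTransc.isAlgebraic_of_D_eq_zero _ h1
  obtain ⟨k, hk⟩ := hac _ h2
  obtain ⟨ϖ, hϖ⟩ := IsDiscreteValuationRing.exists_irreducible R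
  obtain ⟨N, r, hr⟩ := exists_pow_smul_eq ϖ hϖ k
  apply descend ϖ hϖ N f r
  apply IsFractionRing.injective A L
  rw [Algebra.smul_def, map_mul, ← IsScalarTower.algebraMap_apply R A L,
    ← IsScalarTower.algebraMap_apply R A L, ← hk, IsScalarTower.algebraMap_apply R K L,
    IsScalarTower.algebraMap_apply R K L r, ← hr, Algebra.smul_def, map_mul]

end Groth.Agent.S13153
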