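import Groth.Statements.S13154
import Mathlib

set_option autoImplicit false
universe u
open scoped TensorProduct
open CAlg

namespace Groth.Agent.S13154

theorem map_eq {R A B C : Type*} [CommRing R] [CommRing A] [CommRing B] [CommRing C] [Algebra R A]
    [Algebra R B] [Algebra R C] (f : A →ₐ[R] B) (z : A ⊗[R] C) :
    TensorProduct.map f.toLinearMap LinearMap.id z =
      Algebra.TensorProduct.map f (AlgHom.id R C) z := by
  induction z using TensorProduct.induction_on with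
  | zero => simp
  | tmul a c => simp
  | add x y hx hy => rw [map_add, map_add, hx, hy]

section
variable {R : Type u} [CommRing R] [IsDomain R] [IsDiscreteValuationRing R]
  {K : Type u} [Field K] [Algebra R K] [IsFractionRing R K]

theorem exists_pow_smul_eq (ϖ : R) (hϖ : Irreducible ϖ) (k : K) :
    ∃ (N : ℕ) (r : R), (ϖ ^ N) • k = algebraMap R K r := by
  obtain ⟨r, s, hs, rfl⟩ := IsFractionRing.div_surjective (A := R) k
  have hs0 : s ≠ 0 := nonZeroDivisors.ne_zero hs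
  obtain ⟨N, u, hu⟩ := IsDiscreteValuationRing.eq_unit_mul_pow_irreducible hs0 hϖ
  refine ⟨N, r * ((u⁻¹ : Rˣ) : R), ?_⟩
  have h1 : algebraMap R K s ≠ 0 := by
    rw [Ne, map_eq_zero_iff _ (IsFractionRing.injective R K)]; exact hs0
  rw [Algebra.smul_def, mul_div_assoc', div_eq_iff h1, ← map_mul, ← map_mul, hu]
  congr 1
  have : ((u⁻¹ : Rˣ) : R) * (u : R) = 1 := Units.inv_mul u
  linear_combination (-(r * ϖ ^ N)) * this

variable {M : Type u} [AddCommGroup M] [Module R M]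

theorem exists_pow_smul_eq_tmul (ϖ : R) (hϖ : Irreducible ϖ) (x : K ⊗[R] M) :
    ∃ (N : ℕ) (m : M), (ϖ ^ N) • x = (1 : K) ⊗ₜ[R] m := by
  induction x using TensorProduct.induction_on with
  | zero => exact ⟨0, 0, by simp⟩
  | tmul k m' =>
    obtain ⟨N, r, h⟩ := exists_pow_smul_eq ϖ hϖ k
    refine ⟨N, r • m', ?_⟩
    rw [TensorProduct.smul_tmul', h, Algebra.algebraMap_eq_smul_one, TensorProduct.smul_tmul]
  | add x₁ x₂ h₁ h₂ =>
    obtain ⟨N₁, m₁, h₁⟩ := h₁
    obtain ⟨N₂, m₂, h₂⟩ := h₂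
    refine ⟨N₁ + N₂, ϖ ^ N₂ • m₁ + ϖ ^ N₁ • m₂, ?_⟩
    rw [smul_add, TensorProduct.tmul_add]
    congr 1
    · rw [pow_add, mul_comm, mul_smul, h₁, TensorProduct.tmul_smul]
    · rw [pow_add, mul_smul, h₂, TensorProduct.tmul_smul]

omit [IsDomain R] [IsDiscreteValuationRing R] in
theorem smul_cancel {V : Type*} [AddCommGroup V] [Module R V] [Module K V] [IsScalarTower R K V]
    (r : R) (hr : r ≠ 0) (v w : V) (h : r • v = r • w) : v = w := by
  rw [← algebraMap_smul K r v, ← algebraMap_smul K r w] at h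
  have hr' : algebraMap R K r ≠ 0 := by
    rw [Ne, map_eq_zero_iff _ (IsFractionRing.injective R K)]; exact hr
  exact smul_right_injective V hr' h

variable {A : Type u} [CommRing A] [Algebra R A] [Module.FaithfullyFlat R A] [Module.Flat R M]

theorem key (x : K ⊗[R] M) (y : A ⊗[R] M)
    (h : TensorProduct.map (Algebra.TensorProduct.includeLeft : K →ₐ[R] K ⊗[R] A).toLinearMap
        LinearMap.id x =
      TensorProduct.map (Algebra.TensorProduct.includeRight : A →ₐ[R] K ⊗[R] A).toLinearMap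
        LinearMap.id y) :
    ∃ c : M, x = (1 : K) ⊗ₜ[R] c ∧ y = (1 : A) ⊗ₜ[R] c := by
  obtain ⟨ϖ, hϖ⟩ := IsDiscreteValuationRing.exists_irreducible R
  obtain ⟨N, m, hx⟩ := exists_pow_smul_eq_tmul ϖ hϖ x
  have hϖN : ϖ ^ N ≠ 0 := pow_ne_zero _ hϖ.ne_zero
  have hRK : Function.Injective (algebraMap R K) := IsFractionRing.injective R K
  -- injectivity of `j`
  have hj : Function.Injective
      (TensorProduct.map (Algebra.TensorProduct.includeRight : A →ₐ[R] K ⊗[R] A).toLinearMap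
        (LinearMap.id : M →ₗ[R] M)) :=
    Module.Flat.rTensor_preserves_injective_linearMap
      (Algebra.TensorProduct.includeRight : A →ₐ[R] K ⊗[R] A).toLinearMap
      (Algebra.TensorProduct.includeRight_injective hRK)
  have hy : (ϖ ^ N) • y = (1 : A) ⊗ₜ[R] m := by
    apply hj
    rw [map_smul, ← h, ← map_smul, hx]
    simp
  -- `m` is divisible by `ϖ ^ N`
  let P : Submodule R M := LinearMap.range (LinearMap.lsmul R M (ϖ ^ N))
  have hkill : ∀ z : A ⊗[R] (M ⧸ P), (ϖ ^ N) • z = 0 := by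
    intro z
    induction z using TensorProduct.induction_on with
    | zero => simp
    | tmul a m' =>
      obtain ⟨m'', rfl⟩ := P.mkQ_surjective m'
      rw [← TensorProduct.tmul_smul, ← map_smul]
      have : P.mkQ ((ϖ ^ N) • m'') = 0 := by
        rw [Submodule.mkQ_apply, Submodule.Quotient.mk_eq_zero]
        exact ⟨m'', rfl⟩
      rw [this, TensorProduct.tmul_zero]
    | add z₁ z₂ h₁ h₂ => rw [smul_add, h₁, h₂, add_zero]
  have hm : m ∈ P := by
    have h1 : (P.mkQ.lTensor A) ((ϖ ^ N) • y) = 0 := by rw [map_smul]; exact hkill _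
    rw [hy, LinearMap.lTensor_tmul] at h1
    have h2 := Module.FaithfullyFlat.tensorProduct_mk_injective (A := R) (B := A) (M ⧸ P)
    have h3 : P.mkQ m = 0 := h2 (by simpa using h1)
    rwa [Submodule.mkQ_apply, Submodule.Quotient.mk_eq_zero] at h3
  obtain ⟨c, hc⟩ := hm
  have hc' : (ϖ ^ N) • c = m := hc
  refine ⟨c, ?_, ?_⟩
  · apply smul_cancel (K := K) (ϖ ^ N) hϖN
    rw [hx, ← TensorProduct.tmul_smul, hc']
  · apply hj
    apply smul_cancel (K := K) (ϖ ^ N) hϖN
    rw [← map_smul, ← map_smul, hy, ← TensorProduct.tmul_smul, hc']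
end

theorem result (R : Type u) [CommRing R] [IsDomain R]
    [IsDiscreteValuationRing R] (K : Type u) [Field K] [Algebra R K] [IsFractionRing R K]
    (A : Type u) [CommRing A] [Algebra R A] [Module.FaithfullyFlat R A]
    (B₁ B₂ : Type u) [CommRing B₁] [CommRing B₂] [Algebra R B₁] [Algebra R B₂]
    [Module.Flat R B₁] [Module.Flat R B₂]
    (φK : K ⊗[R] B₂ →ₐ[K] K ⊗[R] B₁) (φA : A ⊗[R] B₂ →ₐ[A] A ⊗[R] B₁)
    (hcomp : ∀ b : B₂,
      Algebra.TensorProduct.map (Algebra.TensorProduct.includeLeft : K →ₐ[R] K ⊗[R] A) (AlgHom.id R B₁)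
          (φK (1 ⊗ₜ b)) =
        Algebra.TensorProduct.map (Algebra.TensorProduct.includeRight : A →ₐ[R] K ⊗[R] A) (AlgHom.id R B₁)
          (φA (1 ⊗ₜ b))) :
    ∃! φ : B₂ →ₐ[R] B₁, (∀ b : B₂, φK (1 ⊗ₜ b) = 1 ⊗ₜ φ b) ∧ (∀ b : B₂, φA (1 ⊗ₜ b) = 1 ⊗ₜ φ b) := by
  have hRK : Function.Injective (algebraMap R K) := IsFractionRing.injective R K
  have hinj : Function.Injective (fun b : B₁ => (1 : K) ⊗ₜ[R] b) :=
    Algebra.TensorProduct.includeRight_injective (R := R) (A := K) (B := B₁) hRK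
  have hex : ∀ b : B₂, ∃ c : B₁, φK (1 ⊗ₜ b) = (1 : K) ⊗ₜ[R] c ∧ φA (1 ⊗ₜ b) = (1 : A) ⊗ₜ[R] c := by
    intro b
    apply key
    rw [map_eq, map_eq]
    exact hcomp b
  choose c hcK hcA using hex
  have hone : c 1 = 1 := by
    apply hinj
    change (1 : K) ⊗ₜ[R] c 1 = (1 : K) ⊗ₜ[R] (1 : B₁)
    rw [← hcK, ← Algebra.TensorProduct.one_def, map_one, Algebra.TensorProduct.one_def]
  have hmul : ∀ b b', c (b * b') = c b * c b' := by
    intro b b'
    apply hinj
    change (1 : K) ⊗ₜ[R] c (b * b') = (1 : K) ⊗ₜ[R] (c b * c b')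
    rw [← hcK, ← one_mul (1 : K), ← Algebra.TensorProduct.tmul_mul_tmul, map_mul, hcK, hcK,
      Algebra.TensorProduct.tmul_mul_tmul]
  have hadd : ∀ b b', c (b + b') = c b + c b' := by
    intro b b'
    apply hinj
    change (1 : K) ⊗ₜ[R] c (b + b') = (1 : K) ⊗ₜ[R] (c b + c b')
    rw [← hcK, TensorProduct.tmul_add, map_add, hcK, hcK, TensorProduct.tmul_add]
  have hsmul : ∀ (r : R) b, c (r • b) = r • c b := by
    intro r b
    apply hinj
    change (1 : K) ⊗ₜ[R] c (r • b) = (1 : K) ⊗ₜ[R] (r • c b)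
    rw [← hcK, TensorProduct.tmul_smul, TensorProduct.tmul_smul, ← hcK,
      ← algebraMap_smul K r ((1 : K) ⊗ₜ[R] b), map_smul, algebraMap_smul]
  let φL : B₂ →ₗ[R] B₁ := { toFun := c, map_add' := hadd, map_smul' := hsmul }
  let φ : B₂ →ₐ[R] B₁ := AlgHom.ofLinearMap φL hone hmul
  refine ⟨φ, ⟨hcK, hcA⟩, ?_⟩
  intro φ' ⟨h1, _⟩
  ext b
  apply hinj
  change (1 : K) ⊗ₜ[R] φ' b = (1 : K) ⊗ₜ[R] c b
  rw [← h1, hcK]

end Groth.Agent.S13154
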