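import Groth.Statements.S13155
-- import your own Groth.Agent.* helpers here
import Groth.Agent.Lib.Helper3.KummerNorm

set_option autoImplicit false
universe u
open CAlg

namespace Groth.Agent.S13155

/-- Let R be a discrete valuation ring of characteristic zero with uniformizer π, and A a Noetherian
integrally closed domain which is an R-algebra with injective structure map and in which πA is a
prime ideal (X = Spec A is normal, flat over R, with integral special fibre). Let m ≥ 1 and let f ∈
A be invertible in A[1/π] (so Z^m = f defines a μ_m-torsor over the generic fibre), such that S =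
A[1/π][Z]/(Z^m − f) is an integral domain and, writing B for the integral closure of A in S (the
normalization of X in that cover), πB is a prime ideal of B (the normalization has integral special
fibre). Then f is, up to a unit of A, an m-th power of a power of π: f = π^{mq}·u with q ≥ 0 and u ∈
A^×, so that the cover extends to the μ_m-torsor Z^m = u over all of X. (The published statement is
the existence and uniqueness of the extending μ_m-torsor over a normal faithfully flat R-scheme with
integral fibres, R containing a primitive m-th root of unity; this row is the affine computation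
that carries the proof.) -/
theorem result (R : Type u) [CommRing R]
    [IsDomain R] [IsDiscreteValuationRing R] [CharZero R] (ϖ : R) (hϖ : Irreducible ϖ)
    (A : Type u) [CommRing A] [IsDomain A] [IsNoetherianRing A] [IsIntegrallyClosed A] [Algebra R A]
    (hinj : Function.Injective (algebraMap R A)) (hprime : (Ideal.span {algebraMap R A ϖ}).IsPrime)
    (m : ℕ) (hm : 0 < m) (f : A) (hf : IsUnit (algebraMap A (Localization.Away (algebraMap R A ϖ)) f))
    [IsDomain (AdjoinRoot (Polynomial.X ^ m - Polynomial.C (algebraMap A (Localization.Away (algebraMap R A ϖ)) f)))]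
    (hsp : (Ideal.span {algebraMap A (integralClosure A
        (AdjoinRoot (Polynomial.X ^ m - Polynomial.C (algebraMap A (Localization.Away (algebraMap R A ϖ)) f))))
          (algebraMap R A ϖ)}).IsPrime) :
    ∃ (q : ℕ) (u : Aˣ), f = algebraMap R A ϖ ^ (m * q) * (u : A) := by
  have hϖ0 : algebraMap R A ϖ ≠ 0 := by
    intro h
    exact hϖ.ne_zero (hinj (by rw [h, map_zero]))
  have hp : Prime (algebraMap R A ϖ) := (Ideal.span_singleton_prime hϖ0).mp hprime
  obtain ⟨a, u, hfu⟩ := Groth.Agent.Helper3.KummerNorm.exists_eq_pow_mul_unit hp
    (Localization.Away (algebraMap R A ϖ)) f hf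
  have hpS : IsUnit (algebraMap A (AdjoinRoot (Polynomial.X ^ m - Polynomial.C
      (algebraMap A (Localization.Away (algebraMap R A ϖ)) f))) (algebraMap R A ϖ)) := by
    rw [AdjoinRoot.algebraMap_eq', RingHom.comp_apply]
    exact (IsLocalization.Away.algebraMap_isUnit (algebraMap R A ϖ)).map _
  have hZ : (AdjoinRoot.root (Polynomial.X ^ m - Polynomial.C
      (algebraMap A (Localization.Away (algebraMap R A ϖ)) f))) ^ m =
      algebraMap A (AdjoinRoot (Polynomial.X ^ m - Polynomial.C
      (algebraMap A (Localization.Away (algebraMap R A ϖ)) f)))
        (algebraMap R A ϖ ^ a * (u : A)) := by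
    have h1 := AdjoinRoot.eval₂_root (Polynomial.X ^ m - Polynomial.C
      (algebraMap A (Localization.Away (algebraMap R A ϖ)) f))
    rw [Polynomial.eval₂_sub, Polynomial.eval₂_pow, Polynomial.eval₂_X, Polynomial.eval₂_C,
      sub_eq_zero] at h1
    rw [h1, ← hfu, AdjoinRoot.algebraMap_eq', RingHom.comp_apply]
  obtain ⟨q, hq⟩ := Groth.Agent.Helper3.KummerNorm.dvd_exponent _ (algebraMap R A ϖ) hpS hsp m hm
    _ a u hZ
  exact ⟨q, u, by rw [hfu, hq]⟩

end Groth.Agent.S13155
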