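import Groth.Statements.S13156
import Mathlib
-- import your own Groth.Agent.* helpers here

set_option autoImplicit false
universe u
open scoped Polynomial
open CAlg

namespace Groth.Agent.S13156

section
open Polynomial

variable {A : Type u} [CommRing A]

/-- the `T`-derivative on `A[S][T]` as an `A`-derivation -/
noncomputable def dT : Derivation A A[X][X] A[X][X] :=
  (Polynomial.derivative' (R := A[X])).restrictScalars A

lemma dT_apply (P : A[X][X]) : dT P = derivative P := rfl

lemma dT_aeval (F : A[X]) (g : A[X][X]) :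
    derivative (aeval g F) = aeval g (derivative F) * derivative g := by
  have h := Derivation.map_aeval (dT (A := A)) F g
  rw [dT_apply, dT_apply, smul_eq_mul] at h
  exact h

/-- evaluation at `T = 0` as an `A`-algebra map -/
noncomputable def ev0 : A[X][X] →ₐ[A] A[X] :=
  (Polynomial.aeval (0 : A[X]) : A[X][X] →ₐ[A[X]] A[X]).restrictScalars A

lemma ev0_apply (P : A[X][X]) : ev0 P = P.coeff 0 := by
  simp [ev0, Polynomial.coeff_zero_eq_aeval_zero]

lemma aeval_C_X (F : A[X]) : aeval (C X : A[X][X]) F = C F := by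
  have h := Polynomial.aeval_algHom_apply (IsScalarTower.toAlgHom A A[X] A[X][X]) (X : A[X]) F
  simp only [IsScalarTower.coe_toAlgHom', Polynomial.algebraMap_apply, Algebra.algebraMap_self,
    RingHom.id_apply, aeval_X_left_apply] at h
  exact h


lemma isUnit_natCast_of_lt (p : ℕ) (hu : IsUnit ((Nat.factorial (p - 1) : ℕ) : A)) (m : ℕ)
    (hm0 : 0 < m) (hm : m < p) : IsUnit (m : A) := by
  have hdvd : m ∣ Nat.factorial (p - 1) := Nat.dvd_factorial hm0 (by omega)
  obtain ⟨c, hc⟩ := hdvd
  rw [hc, Nat.cast_mul] at hu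
  exact isUnit_of_mul_isUnit_left hu

lemma ode_unique (p : ℕ) (hunit : ∀ m : ℕ, 0 < m → m < p → IsUnit (m : A)) (μ a₁ : A)
    (Y : A[X][X]) (hdeg : Y.natDegree < p)
    (hode : (1 + C (C μ) * X) * derivative Y = C (C a₁) * Y) (h0 : Y.coeff 0 = 0) : Y = 0 := by
  have hall : ∀ n, Y.coeff n = 0 := by
    intro n
    induction n with
    | zero => exact h0
    | succ n ih =>
      by_cases hn : n + 1 < p
      · have h1 := congrArg (fun P => P.coeff n) hode
        simp only [add_mul, one_mul, mul_assoc, coeff_add, coeff_C_mul, coeff_derivative] at h1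
        have h2 : (X * derivative Y).coeff n = 0 := by
          rcases Nat.eq_zero_or_pos n with hn0 | hn0
          · subst hn0; simp
          · obtain ⟨k, rfl⟩ := Nat.exists_eq_succ_of_ne_zero (Nat.pos_iff_ne_zero.mp hn0)
            rw [coeff_X_mul, coeff_derivative, ih, zero_mul]
        rw [h2, ih, mul_zero, mul_zero, add_zero] at h1
        have h3 : IsUnit (((n + 1 : ℕ) : A[X])) := by
          have := (hunit (n + 1) (Nat.succ_pos n) hn).map (C : A →+* A[X])
          simpa using this
        have h4 : Y.coeff (n + 1) * ((n + 1 : ℕ) : A[X]) = 0 := by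
          push_cast
          exact h1
        exact (h3.mul_left_eq_zero).mp h4
      · exact coeff_eq_zero_of_natDegree_lt (by omega)
  ext n : 1
  rw [hall n, coeff_zero]


/-- the polynomial `S + T + μ S T` in `A[S][T]` -/
noncomputable def gb (μ : A) : A[X][X] := C X + X + C (C μ) * C X * X

lemma coeff_zero_gb (μ : A) : (gb μ).coeff 0 = X := by
  simp [gb]

lemma derivative_gb (μ : A) : derivative (gb μ) = C (1 + C μ * X) := by
  simp only [gb, derivative_C, derivative_X, derivative_mul, zero_mul, zero_add,
    mul_zero, mul_one, map_add, map_one, map_mul]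

lemma natDegree_gb_le (μ : A) : (gb μ).natDegree ≤ 1 := by
  have h : gb μ = C (1 + C μ * X) * X + C X := by
    simp only [gb, map_add, map_one, map_mul]
    ring
  rw [h]
  exact natDegree_linear_le

lemma key_ring (μ : A) :
    (1 + C (C μ) * X) * C (1 + C μ * X) = (1 + C (C μ) * gb μ : A[X][X]) := by
  simp only [gb, map_add, map_one, map_mul]
  ring

variable (μ : A) (F : A[X])

lemma coeff_zero_rel (hode : F * C (F.coeff 1) = derivative F * (1 + C μ * X)) :
    F.coeff 1 * (F.coeff 0 - 1) = 0 := by
  have h := congrArg (fun P => P.coeff 0) hode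
  simp only [mul_coeff_zero, coeff_derivative, coeff_add, coeff_one_zero,
    coeff_X_zero, mul_zero, add_zero, mul_one, coeff_C_zero] at h
  simp only [Nat.cast_zero, zero_add, mul_one] at h
  linear_combination h

lemma coeff_rel (p : ℕ) (hunit : ∀ m : ℕ, 0 < m → m < p → IsUnit (m : A)) (hF : F.natDegree < p)
    (hode : F * C (F.coeff 1) = derivative F * (1 + C μ * X)) (n : ℕ) (hn : 1 ≤ n) :
    (F.coeff 0 - 1) * F.coeff n = 0 := by
  induction n, hn using Nat.le_induction with
  | base =>
    have := coeff_zero_rel μ F hode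
    linear_combination this
  | succ n hn ih =>
    by_cases hlt : n + 1 < p
    · have h := congrArg (fun P => P.coeff n) hode
      obtain ⟨k, rfl⟩ := Nat.exists_eq_succ_of_ne_zero (by omega : n ≠ 0)
      simp only [coeff_mul_C, mul_add, mul_one, coeff_add, coeff_derivative, ← mul_assoc,
        coeff_mul_X, coeff_mul_C] at h
      have hu := hunit (k + 1 + 1) (Nat.succ_pos _) hlt
      have h2 : (F.coeff 0 - 1) * F.coeff (k + 1 + 1) * ((k + 1 + 1 : ℕ) : A) = 0 := by
        push_cast
        push_cast at h
        linear_combination (-(F.coeff 0 - 1)) * h + (F.coeff 1 - μ * (k + 1)) * ih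
      exact (hu.mul_left_eq_zero).mp h2
    · have h0 : F.coeff (n + 1) = 0 := coeff_eq_zero_of_natDegree_lt (by omega)
      rw [h0, mul_zero]

lemma const_rel (p : ℕ) (hunit : ∀ m : ℕ, 0 < m → m < p → IsUnit (m : A)) (hF : F.natDegree < p)
    (hode : F * C (F.coeff 1) = derivative F * (1 + C μ * X)) :
    (C (F.coeff 0) - 1) * (F - C (F.coeff 0)) = 0 := by
  ext n
  rw [← map_one (C : A →+* A[X]), ← map_sub, coeff_C_mul, coeff_sub, coeff_zero]
  rcases Nat.eq_zero_or_pos n with hn | hn
  · subst hn
    simp
  · rw [coeff_C, if_neg (by omega), sub_zero]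
    exact coeff_rel μ F p hunit hF hode n hn


lemma aeval_X_ode (hode : F * C (F.coeff 1) = derivative F * (1 + C μ * X)) (g : A[X][X]) :
    aeval g F * C (C (F.coeff 1)) = aeval g (derivative F) * (1 + C (C μ) * g) := by
  have h := congrArg (aeval g) hode
  simp only [map_mul, map_add, map_one, aeval_C, aeval_X] at h
  exact h

lemma ev0_aeval (g : A[X][X]) : (aeval g F).coeff 0 = aeval (g.coeff 0) F := by
  rw [← ev0_apply, ← ev0_apply]
  exact (Polynomial.aeval_algHom_apply ev0 g F).symm

lemma natDegree_aeval_le (g : A[X][X]) (hg : g.natDegree ≤ 1) :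
    (aeval g F).natDegree ≤ F.natDegree := by
  have h : aeval g F = (F.map (algebraMap A A[X])).comp g := by
    rw [Polynomial.comp, Polynomial.eval₂_map]
    rfl
  rw [h]
  refine le_trans natDegree_comp_le ?_
  calc (F.map (algebraMap A A[X])).natDegree * g.natDegree
      ≤ F.natDegree * 1 := Nat.mul_le_mul natDegree_map_le hg
    _ = F.natDegree := mul_one _

theorem identity_of_ode (p : ℕ) (hunit : ∀ m : ℕ, 0 < m → m < p → IsUnit (m : A))
    (hF : F.natDegree < p)
    (hode : F * C (F.coeff 1) = derivative F * (1 + C μ * X)) :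
    C F * aeval (X : A[X][X]) F - C (C (F.coeff 0 ^ 2)) =
      aeval (gb μ) F - C (C (F.coeff 0)) := by
  set Y : A[X][X] := C F * aeval (X : A[X][X]) F - aeval (gb μ) F -
    C (C (F.coeff 0 ^ 2 - F.coeff 0)) with hY
  have hK : (1 + C (C μ) * X) * derivative (C F * aeval (X : A[X][X]) F) =
      C (C (F.coeff 1)) * (C F * aeval (X : A[X][X]) F) := by
    rw [derivative_mul, derivative_C, zero_mul, zero_add, dT_aeval, derivative_X, mul_one]
    have h := aeval_X_ode μ F hode X
    linear_combination (-(C F : A[X][X])) * h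
  have hH : (1 + C (C μ) * X) * derivative (aeval (gb μ) F) =
      C (C (F.coeff 1)) * aeval (gb μ) F := by
    rw [dT_aeval, derivative_gb]
    have h := aeval_X_ode μ F hode (gb μ)
    have hk := key_ring μ
    linear_combination (-1 : A[X][X]) * h + (aeval (gb μ) (derivative F)) * hk
  have hc : (C (C (F.coeff 1)) : A[X][X]) * C (C (F.coeff 0 ^ 2 - F.coeff 0)) = 0 := by
    rw [← map_mul, ← map_mul]
    have : F.coeff 1 * (F.coeff 0 ^ 2 - F.coeff 0) = 0 := by
      have := coeff_zero_rel μ F hode
      linear_combination (F.coeff 0) * this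
    rw [this, map_zero, map_zero]
  have hYode : (1 + C (C μ) * X) * derivative Y = C (C (F.coeff 1)) * Y := by
    rw [hY, derivative_sub, derivative_sub, derivative_C]
    linear_combination hK - hH + hc
  have hY0 : Y.coeff 0 = 0 := by
    rw [hY, coeff_sub, coeff_sub, coeff_C_zero, coeff_C_mul, ev0_aeval, ev0_aeval, coeff_X_zero,
      coeff_zero_gb, aeval_X_left_apply]
    have h1 : aeval (0 : A[X]) F = C (F.coeff 0) := by
      rw [← Polynomial.coeff_zero_eq_aeval_zero']
      rfl
    rw [h1]
    have h2 := const_rel μ F p hunit hF hode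
    simp only [map_sub, map_pow]
    linear_combination h2
  have hYdeg : Y.natDegree < p := by
    refine lt_of_le_of_lt ?_ hF
    rw [hY]
    refine le_trans (natDegree_sub_le _ _) (max_le (le_trans (natDegree_sub_le _ _) (max_le ?_ ?_)) ?_)
    · refine le_trans (natDegree_C_mul_le _ _) ?_
      exact natDegree_aeval_le F X (natDegree_X_le)
    · exact natDegree_aeval_le F (gb μ) (natDegree_gb_le μ)
    · rw [natDegree_C]
      exact Nat.zero_le _
  have hY00 := ode_unique p hunit μ (F.coeff 1) Y hYdeg hYode hY0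
  rw [hY] at hY00
  simp only [map_sub, map_pow] at hY00 ⊢
  linear_combination hY00

theorem ode_of_identity
    (h : C F * aeval (X : A[X][X]) F - C (C (F.coeff 0 ^ 2)) =
      aeval (gb μ) F - C (C (F.coeff 0))) :
    F * C (F.coeff 1) = derivative F * (1 + C μ * X) := by
  have h1 := congrArg (fun P => (derivative P).coeff 0) h
  simp only [derivative_sub, derivative_C, sub_zero, derivative_mul, zero_mul, zero_add, dT_aeval,
    derivative_X, mul_one, derivative_gb, coeff_C_mul, coeff_mul_C, ev0_aeval, coeff_X_zero,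
    coeff_zero_gb, aeval_X_left_apply] at h1
  have h2 : aeval (0 : A[X]) (derivative F) = C (F.coeff 1) := by
    rw [← Polynomial.coeff_zero_eq_aeval_zero', coeff_derivative]
    simp
  rw [h2] at h1
  exact h1


/-- `A[S,T] → A[S][T]` -/
noncomputable def Phi : MvPolynomial (Fin 2) A →ₐ[A] A[X][X] :=
  MvPolynomial.aeval ![C X, X]

/-- `A[S][T] → A[S,T]` -/
noncomputable def Psi : A[X][X] →+* MvPolynomial (Fin 2) A :=
  Polynomial.eval₂RingHom
    ((Polynomial.aeval (MvPolynomial.X 0 : MvPolynomial (Fin 2) A) : A[X] →ₐ[A] _) : A[X] →+* _)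
    (MvPolynomial.X 1)

lemma Psi_Phi : (Psi (A := A)).comp (Phi (A := A) : MvPolynomial (Fin 2) A →+* A[X][X]) =
    RingHom.id _ := by
  apply MvPolynomial.ringHom_ext
  · intro a
    simp [Psi, Phi]
  · intro i
    fin_cases i
    · simp [Psi, Phi]
    · simp [Psi, Phi]

lemma Phi_injective : Function.Injective (Phi (A := A)) := by
  intro x y hxy
  have h := congrArg (Psi (A := A)) hxy
  have h1 : ∀ z, Psi (Phi z) = z := fun z => by
    have := congrArg (fun f => f z) (Psi_Phi (A := A))
    simpa using this
  rw [h1, h1] at h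
  exact h

lemma Phi_lhs : Phi (Polynomial.aeval (MvPolynomial.X 0 : MvPolynomial (Fin 2) A) F *
      Polynomial.aeval (MvPolynomial.X 1 : MvPolynomial (Fin 2) A) F -
        MvPolynomial.C (F.coeff 0 ^ 2)) =
    C F * aeval (X : A[X][X]) F - C (C (F.coeff 0 ^ 2)) := by
  rw [map_sub, map_mul, ← Polynomial.aeval_algHom_apply, ← Polynomial.aeval_algHom_apply]
  simp only [Phi, MvPolynomial.aeval_X, MvPolynomial.aeval_C, Matrix.cons_val_zero,
    Matrix.cons_val_one, aeval_C_X]
  rfl

lemma Phi_rhs : Phi (Polynomial.aeval (MvPolynomial.X 0 + MvPolynomial.X 1 +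
      MvPolynomial.C μ * MvPolynomial.X 0 * MvPolynomial.X 1 : MvPolynomial (Fin 2) A) F -
        MvPolynomial.C (F.coeff 0)) =
    aeval (gb μ) F - C (C (F.coeff 0)) := by
  rw [map_sub, ← Polynomial.aeval_algHom_apply]
  simp only [Phi, map_add, map_mul, MvPolynomial.aeval_X, MvPolynomial.aeval_C,
    Matrix.cons_val_zero, Matrix.cons_val_one, gb]
  rfl

theorem main (A : Type u) [CommRing A] (p : ℕ) [Fact p.Prime]
    (hu : IsUnit ((Nat.factorial (p - 1) : ℕ) : A)) (μ : A) (F : A[X]) (hF : F.natDegree < p) :
    (Polynomial.aeval (MvPolynomial.X 0 : MvPolynomial (Fin 2) A) F *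
          Polynomial.aeval (MvPolynomial.X 1 : MvPolynomial (Fin 2) A) F - MvPolynomial.C (F.coeff 0 ^ 2) =
        Polynomial.aeval (MvPolynomial.X 0 + MvPolynomial.X 1 +
            MvPolynomial.C μ * MvPolynomial.X 0 * MvPolynomial.X 1 : MvPolynomial (Fin 2) A) F -
          MvPolynomial.C (F.coeff 0)) ↔
      F * Polynomial.C (F.coeff 1) = Polynomial.derivative F * (1 + Polynomial.C μ * Polynomial.X) := by
  constructor
  · intro h
    have h1 := congrArg (Phi (A := A)) h
    rw [Phi_lhs, Phi_rhs] at h1
    exact ode_of_identity μ F h1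
  · intro h
    apply Phi_injective
    rw [Phi_lhs, Phi_rhs]
    exact identity_of_ode μ F p (fun m hm0 hm => isUnit_natCast_of_lt p hu m hm0 hm) hF h

end

/-- Let p be a prime number, A a commutative ring in which (p−1)! is invertible, μ an element of A, and
F ∈ A[X] a polynomial of degree at most p − 1 with coefficients a_0, a_1, …. Then the identity
F(S)·F(T) − a_0² = F(S + T + μST) − a_0 holds in the polynomial ring A[S, T] if and only if a_1·F(S)
= F′(S)·(1 + μS) holds in A[S], F′ the formal derivative. (The published statement is over the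
quotient of a discrete valuation ring of residue characteristic p by a nonzero element of its
maximal ideal; only the invertibility of 1, …, p − 1 is used, so an arbitrary such ring A is allowed
here.) -/
theorem result (A : Type u) [CommRing A] (p : ℕ) [Fact p.Prime]
    (hu : IsUnit ((Nat.factorial (p - 1) : ℕ) : A)) (μ : A) (F : A[X]) (hF : F.natDegree < p) :
    (Polynomial.aeval (MvPolynomial.X 0 : MvPolynomial (Fin 2) A) F *
          Polynomial.aeval (MvPolynomial.X 1 : MvPolynomial (Fin 2) A) F - MvPolynomial.C (F.coeff 0 ^ 2) =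
        Polynomial.aeval (MvPolynomial.X 0 + MvPolynomial.X 1 +
            MvPolynomial.C μ * MvPolynomial.X 0 * MvPolynomial.X 1 : MvPolynomial (Fin 2) A) F -
          MvPolynomial.C (F.coeff 0)) ↔
      F * Polynomial.C (F.coeff 1) = Polynomial.derivative F * (1 + Polynomial.C μ * Polynomial.X) := by
  exact Groth.Agent.S13156.main A p hu μ F hF

end Groth.Agent.S13156
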