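import Groth.Statements.S13157
-- import your own Groth.Agent.* helpers here
import Groth.Agent.Lib.Helper25.Misc1

set_option autoImplicit false
universe u
open scoped Polynomial
open CAlg

namespace Groth.Agent.S13157

/-- (i) ⇔ (ii): let p be a prime number, A a commutative ring in which (p−1)! is invertible, μ ∈ A, and
F ∈ A[X] a polynomial of degree at most p − 1 with constant term a_0 = 1 and coefficients a_1, a_2,
…. Then the relations a_{r−1}·a_1 = (r − 1)μ·a_{r−1} + r·a_r for 1 ≤ r ≤ p (with a_p = 0), written
here as the single identity a_1·F = F′·(1 + μX), hold if and only if r!·a_r = ∏_{k=0}^{r−1} (a_1 −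
kμ) for every 1 ≤ r ≤ p − 1 and ∏_{k=0}^{p−1} (a_1 − kμ) = 0. (The published statement lists the
relations only for 1 ≤ r ≤ p − 1, while its proof uses and derives the relation for r = p as well,
which is needed for the vanishing of the last product; it is included here. The published setting is
the quotient of a discrete valuation ring of residue characteristic p by a nonzero non-unit; only
the invertibility of 1, …, p − 1 is used.) -/
theorem result (A : Type u) [CommRing A] (p : ℕ) [Fact p.Prime]
    (hu : IsUnit ((Nat.factorial (p - 1) : ℕ) : A)) (μ : A) (F : A[X]) (hF : F.natDegree < p)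
    (h0 : F.coeff 0 = 1) :
    F * Polynomial.C (F.coeff 1) = Polynomial.derivative F * (1 + Polynomial.C μ * Polynomial.X) ↔
      ((∀ r : ℕ, 1 ≤ r → r < p →
          (r.factorial : A) * F.coeff r = ∏ k ∈ Finset.range r, (F.coeff 1 - (k : A) * μ)) ∧
        ∏ k ∈ Finset.range p, (F.coeff 1 - (k : A) * μ) = 0) := by
  have hp : p.Prime := Fact.out
  have hcoeff : (F * Polynomial.C (F.coeff 1) =
      Polynomial.derivative F * (1 + Polynomial.C μ * Polynomial.X)) ↔
      ∀ n : ℕ, F.coeff n * F.coeff 1 =
        F.coeff (n + 1) * ((n : A) + 1) + μ * ((n : A) * F.coeff n) := by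
    rw [Polynomial.ext_iff]
    refine forall_congr' fun n => ?_
    have e : Polynomial.derivative F * (1 + Polynomial.C μ * Polynomial.X) =
        Polynomial.derivative F + Polynomial.C μ * (Polynomial.derivative F * Polynomial.X) := by
      ring
    rw [e, Polynomial.coeff_mul_C, Polynomial.coeff_add, Polynomial.coeff_C_mul,
      Polynomial.coeff_derivative]
    cases n with
    | zero =>
      rw [Polynomial.coeff_mul_X_zero]
      simp
    | succ m =>
      rw [Polynomial.coeff_mul_X, Polynomial.coeff_derivative]
      push_cast
      constructor <;> intro h <;> linear_combination h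
  rw [hcoeff]
  have hdeg : ∀ n, p ≤ n → F.coeff n = 0 := fun n hn =>
    Polynomial.coeff_eq_zero_of_natDegree_lt (lt_of_lt_of_le hF hn)
  constructor
  · intro hR
    have hall : ∀ r : ℕ, (r.factorial : A) * F.coeff r =
        ∏ k ∈ Finset.range r, (F.coeff 1 - (k : A) * μ) := by
      intro r
      induction r with
      | zero => simp [h0]
      | succ r ih =>
        rw [Finset.prod_range_succ, ← ih, Nat.factorial_succ]
        push_cast
        linear_combination (-(r.factorial : A)) * hR r
    exact ⟨fun r _ _ => hall r, by rw [← hall p, hdeg p le_rfl, mul_zero]⟩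
  · rintro ⟨h1, h2⟩
    have hall : ∀ r : ℕ, r ≤ p → (r.factorial : A) * F.coeff r =
        ∏ k ∈ Finset.range r, (F.coeff 1 - (k : A) * μ) := by
      intro r hr
      rcases Nat.eq_zero_or_pos r with rfl | hr0
      · simp [h0]
      rcases lt_or_eq_of_le hr with hlt | rfl
      · exact h1 r hr0 hlt
      · rw [h2, hdeg r le_rfl, mul_zero]
    have hunit : ∀ n : ℕ, n < p → IsUnit ((n.factorial : ℕ) : A) := by
      intro n hn
      have hd : n.factorial ∣ (p - 1).factorial := Nat.factorial_dvd_factorial (by omega)
      obtain ⟨c, hc⟩ := hd
      rw [hc] at hu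
      push_cast at hu
      exact isUnit_of_mul_isUnit_left hu
    intro n
    rcases lt_or_ge n p with hn | hn
    · apply (hunit n hn).mul_left_cancel
      have e1 := hall (n + 1) hn
      have e2 := hall n hn.le
      rw [Finset.prod_range_succ, ← e2, Nat.factorial_succ] at e1
      push_cast at e1 ⊢
      linear_combination (-1 : A) * e1
    · rw [hdeg n hn, hdeg (n + 1) (by omega)]
      ring

end Groth.Agent.S13157
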