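import Groth.Statements.S13159
import Mathlib

set_option autoImplicit false
universe u
open CAlg

namespace Groth.Agent.S13159


theorem result (R : Type u) [CommRing R]
    [IsDomain R] [IsDiscreteValuationRing R] (K : Type u) [Field K] [Algebra R K] [IsFractionRing R K]
    (C : Type u) [CommRing C] [Algebra R C] [Module.Finite R C]
    (A : Type u) [CommRing A] [IsDomain A] [Algebra R A] (hinj : Function.Injective (algebraMap R A))
    (L : Type u) [Field L] [Algebra A L] [IsFractionRing A L] [Algebra R L] [Algebra K L]
    [IsScalarTower R A L] [IsScalarTower R K L]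
    (hac : ∀ x : L, IsAlgebraic K x → x ∈ (algebraMap K L).range)
    (φ : C →ₐ[R] A) : ∃! ψ : C →ₐ[R] R, φ = (Algebra.ofId R A).comp ψ := by
  have key : ∀ c : C, φ c ∈ (Algebra.ofId R A).range := by
    intro c
    have hc : IsIntegral R c := Algebra.IsIntegral.isIntegral c
    have h1 : IsIntegral R (φ c) := hc.map φ
    have h2 : IsIntegral R (algebraMap A L (φ c)) := h1.map (IsScalarTower.toAlgHom R A L)
    have h3 : IsAlgebraic K (algebraMap A L (φ c)) :=
      h2.isAlgebraic.extendScalars (IsFractionRing.injective R K)
    obtain ⟨x, hx⟩ := hac _ h3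
    have hx' : algebraMap K L x = algebraMap A L (φ c) := hx
    have h4 : IsIntegral R x := by
      have h5 : IsIntegral R (algebraMap K L x) := by rw [hx']; exact h2
      exact (isIntegral_algebraMap_iff (algebraMap K L).injective).1 h5
    obtain ⟨r, hr⟩ := (IsIntegrallyClosed.isIntegral_iff (R := R) (K := K)).1 h4
    refine ⟨r, ?_⟩
    apply IsFractionRing.injective A L
    show algebraMap A L (algebraMap R A r) = _
    rw [← hx', ← hr, ← IsScalarTower.algebraMap_apply, ← IsScalarTower.algebraMap_apply]
  have hinj' : Function.Injective (Algebra.ofId R A) := hinj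
  let e := AlgEquiv.ofInjective (Algebra.ofId R A) hinj'
  refine ⟨e.symm.toAlgHom.comp (φ.codRestrict _ key), ?_, ?_⟩
  · ext c
    have := congrArg Subtype.val (e.apply_symm_apply (φ.codRestrict _ key c))
    exact this.symm
  · intro ψ' hψ'
    ext c
    apply hinj
    have h1 : φ c = algebraMap R A (ψ' c) := by rw [hψ']; rfl
    have := congrArg Subtype.val (e.apply_symm_apply (φ.codRestrict _ key c))
    rw [← h1]
    exact this.symm

end Groth.Agent.S13159
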