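import Groth.Statements.S1316
import Groth.Statements.S1316
import Groth.Agent.S1313
-- import your own Groth.Agent.* helpers here

set_option autoImplicit false
universe u
open FlatMor

namespace Groth.Agent.S1316

open AlgebraicGeometry CategoryTheory Limits

theorem aux {X X' Y Y' : Scheme.{u}} (iX : X ⟶ X') (iY : Y ⟶ Y') (f : X ⟶ Y) (f' : X' ⟶ Y')
    (hY : MoreMor.IsThickening iY) (hc : IsPullback iX f f' iY) [LocallyOfFiniteType f] [LocallyOfFiniteType f'] :
    IsImmersion f ↔ IsImmersion f' := by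
  constructor
  · intro hf
    have hiX : MoreMor.IsThickening iX := Groth.Agent.Helper2.thick_of_isPullback hY hc.flip
    have hhY := Groth.Agent.Helper2.thick_isHomeomorph hY
    have hhX := Groth.Agent.Helper2.thick_isHomeomorph hiX
    have hcomm : ∀ x : X, f' (iX x) = iY (f x) := fun x => by
      rw [← Scheme.Hom.comp_apply, ← Scheme.Hom.comp_apply, hc.w]
    -- the open of Y'
    let U' : Y'.Opens := ⟨iY '' (f.coborderRange : Set Y), hhY.isOpenMap _ f.coborderRange.2⟩
    have hpre : iY ⁻¹ᵁ U' = f.coborderRange := by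
      ext y
      show iY y ∈ iY '' (f.coborderRange : Set Y) ↔ _
      exact hhY.injective.mem_set_image
    have hfV : ∀ x : X, f x ∈ f.coborderRange := by
      intro x
      have := f.liftCoborder_ι
      have h2 : f x = f.coborderRange.ι (f.liftCoborder x) := by
        rw [← Scheme.Hom.comp_apply, f.liftCoborder_ι]
      rw [h2]
      exact (f.liftCoborder x).2
    have hr' : Set.range f' ⊆ Set.range U'.ι := by
      rintro _ ⟨x', rfl⟩
      obtain ⟨x, rfl⟩ := hhX.surjective x'
      rw [hcomm, Scheme.Opens.range_ι]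
      exact ⟨f x, hfV x, rfl⟩
    have hr : Set.range f ⊆ Set.range (iY ⁻¹ᵁ U').ι := by
      rintro _ ⟨x, rfl⟩
      rw [Scheme.Opens.range_ι, hpre]
      exact hfV x
    let h' : X' ⟶ U' := IsOpenImmersion.lift U'.ι f' hr'
    have hh' : h' ≫ U'.ι = f' := IsOpenImmersion.lift_fac _ _ _
    let k : X ⟶ (iY ⁻¹ᵁ U') := IsOpenImmersion.lift (iY ⁻¹ᵁ U').ι f hr
    have hk : k ≫ (iY ⁻¹ᵁ U').ι = f := IsOpenImmersion.lift_fac _ _ _
    have hsq : iX ≫ h' = k ≫ (iY ∣_ U') := by
      rw [← cancel_mono U'.ι, Category.assoc, Category.assoc, hh', morphismRestrict_ι,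
        ← Category.assoc, hk, hc.w]
    have t : IsPullback (iY ∣_ U') (iY ⁻¹ᵁ U').ι U'.ι iY := isPullback_morphismRestrict iY U'
    have s : IsPullback iX (k ≫ (iY ⁻¹ᵁ U').ι) (h' ≫ U'.ι) iY := by
      rw [hk, hh']; exact hc
    have hp : IsPullback iX k h' (iY ∣_ U') := IsPullback.of_bot s hsq t
    have hthick : MoreMor.IsThickening (iY ∣_ U') :=
      Groth.Agent.Helper2.thick_of_isPullback hY t.flip
    have : LocallyOfFiniteType (k ≫ (iY ⁻¹ᵁ U').ι) := by rw [hk]; infer_instance
    have : LocallyOfFiniteType k := locallyOfFiniteType_of_comp k (iY ⁻¹ᵁ U').ι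
    have : LocallyOfFiniteType (h' ≫ U'.ι) := by rw [hh']; infer_instance
    have : LocallyOfFiniteType h' := locallyOfFiniteType_of_comp h' U'.ι
    have hkcl : IsClosedImmersion k := by
      have hk2 : k = f.liftCoborder ≫ (Y.isoOfEq hpre).inv := by
        rw [← cancel_mono (iY ⁻¹ᵁ U').ι, hk, Category.assoc, Scheme.isoOfEq_inv_ι,
          f.liftCoborder_ι]
      rw [hk2]
      infer_instance
    have hh'cl : IsClosedImmersion h' :=
      (Groth.Agent.S1313.result iX (iY ∣_ U') k h' hthick hp).1 hkcl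
    rw [← hh']
    infer_instance
  · intro h
    exact MorphismProperty.of_isPullback (P := @IsImmersion) hc h

open AlgebraicGeometry CategoryTheory Limits in
/-- Let Y ⟶ Y' be a thickening, let X be the base change to Y of a scheme X' over Y', and assume both X
⟶ Y and X' ⟶ Y' are locally of finite type. Then X ⟶ Y is an immersion if and only if X' ⟶ Y' is. -/
theorem result {X X' Y Y' : Scheme.{u}} (iX : X ⟶ X') (iY : Y ⟶ Y') (f : X ⟶ Y) (f' : X' ⟶ Y')
    (hY : MoreMor.IsThickening iY) (hc : IsPullback iX f f' iY) [LocallyOfFiniteType f] [LocallyOfFiniteType f'] :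
    IsImmersion f ↔ IsImmersion f' := by
  exact aux iX iY f f' hY hc

end Groth.Agent.S1316
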