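import Groth.Statements.S13160
import Mathlib
-- import your own Groth.Agent.* helpers here

set_option autoImplicit false
universe u
open CAlg

namespace Groth.Agent.S13160

section
open MvPolynomial Finset

variable (p : ℕ) [hp : Fact p.Prime]

lemma wittAdd_rel (n : ℕ) :
    ∑ i ∈ range (n + 1), C ((p : ℤ) ^ i) * (WittVector.wittAdd p i) ^ p ^ (n - i) =
      ∑ i ∈ range (n + 1), C ((p : ℤ) ^ i) *
        ((X ((0 : Fin 2), i)) ^ p ^ (n - i) + (X ((1 : Fin 2), i)) ^ p ^ (n - i)) := by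
  have h := wittStructureInt_prop p (X (0 : Fin 2) + X 1) n
  simp only [wittPolynomial_eq_sum_C_mul_X_pow, map_sum, map_mul, map_pow, map_add,
    bind₁_X_right, algHom_C, rename_X, algebraMap_eq] at h
  rw [← Finset.sum_add_distrib] at h
  unfold WittVector.wittAdd
  have h2 : ∀ i : ℕ, (C ((p : ℤ) ^ i) : MvPolynomial (Fin 2 × ℕ) ℤ) = (C (p : ℤ)) ^ i :=
    fun i => map_pow _ _ _
  simp only [h2]
  rw [h]
  apply Finset.sum_congr rfl
  intro i _
  ring

lemma mem_vars_of_constantCoeff {σ : Type*} (f : MvPolynomial σ ℤ) (h : constantCoeff f = 0) :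
    f ∈ idealOfVars σ ℤ := by
  have := (mem_pow_idealOfVars_iff' (σ := σ) (R := ℤ) 1 f).mpr (by
    intro x hx
    have hx0 : x = 0 := by
      have : x.degree = 0 := by omega
      exact (Finsupp.degree_eq_zero_iff x).mp this
    rw [hx0]
    exact h)
  simpa using this

lemma wittAdd_mem (n : ℕ) :
    WittVector.wittAdd p n - X ((0 : Fin 2), n) - X ((1 : Fin 2), n) ∈
      idealOfVars (Fin 2 × ℕ) ℤ ^ p := by
  have hrel := wittAdd_rel p n
  rw [Finset.sum_range_succ, Finset.sum_range_succ, Nat.sub_self, pow_zero, pow_one, pow_one,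
    pow_one] at hrel
  have hkey : C ((p : ℤ) ^ n) * (WittVector.wittAdd p n - X ((0 : Fin 2), n) - X ((1 : Fin 2), n)) =
      ∑ i ∈ range n, C ((p : ℤ) ^ i) *
        ((X ((0 : Fin 2), i)) ^ p ^ (n - i) + (X ((1 : Fin 2), i)) ^ p ^ (n - i) -
          (WittVector.wittAdd p i) ^ p ^ (n - i)) := by
    have : ∑ i ∈ range n, C ((p : ℤ) ^ i) *
        ((X ((0 : Fin 2), i)) ^ p ^ (n - i) + (X ((1 : Fin 2), i)) ^ p ^ (n - i) -
          (WittVector.wittAdd p i) ^ p ^ (n - i)) =
        ∑ i ∈ range n, C ((p : ℤ) ^ i) *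
          ((X ((0 : Fin 2), i)) ^ p ^ (n - i) + (X ((1 : Fin 2), i)) ^ p ^ (n - i)) -
        ∑ i ∈ range n, C ((p : ℤ) ^ i) * (WittVector.wittAdd p i) ^ p ^ (n - i) := by
      rw [← Finset.sum_sub_distrib]
      apply Finset.sum_congr rfl
      intro i _
      ring
    rw [this]
    linear_combination hrel
  have hmem : C ((p : ℤ) ^ n) * (WittVector.wittAdd p n - X ((0 : Fin 2), n) - X ((1 : Fin 2), n)) ∈
      idealOfVars (Fin 2 × ℕ) ℤ ^ p := by
    rw [hkey]
    apply Ideal.sum_mem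
    intro i hi
    apply Ideal.mul_mem_left
    have hi' : i < n := Finset.mem_range.mp hi
    have hpe : p ≤ p ^ (n - i) := by
      calc p = p ^ 1 := (pow_one p).symm
        _ ≤ p ^ (n - i) := Nat.pow_le_pow_right hp.out.pos (by omega)
    have hle : idealOfVars (Fin 2 × ℕ) ℤ ^ p ^ (n - i) ≤ idealOfVars (Fin 2 × ℕ) ℤ ^ p :=
      Ideal.pow_le_pow_right hpe
    refine Ideal.sub_mem _ (Ideal.add_mem _ ?_ ?_) ?_
    · exact hle (Ideal.pow_mem_pow (Ideal.subset_span (Set.mem_range_self _)) _)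
    · exact hle (Ideal.pow_mem_pow (Ideal.subset_span (Set.mem_range_self _)) _)
    · exact hle (Ideal.pow_mem_pow
        (mem_vars_of_constantCoeff _ (WittVector.constantCoeff_wittAdd p i)) _)
  rw [mem_pow_idealOfVars_iff'] at hmem ⊢
  intro x hx
  have := hmem x hx
  rw [coeff_C_mul] at this
  rcases mul_eq_zero.mp this with h | h
  · exact absurd h (pow_ne_zero _ (by exact_mod_cast hp.out.ne_zero))
  · exact h


lemma exists_nil_ideal (R : Type*) [CommRing R] [IsDomain R] [IsDiscreteValuationRing R]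
    (q : ℕ) (hq : 0 < q) (lam : R) :
    ∃ N : Ideal (R ⧸ Ideal.span {lam}), N ^ q = ⊥ ∧
      ∀ x : R ⧸ Ideal.span {lam}, x ^ q = 0 → x ∈ N := by
  by_cases hl : lam = 0
  · refine ⟨⊥, by rw [Ideal.bot_pow hq.ne'], ?_⟩
    intro x hx
    obtain ⟨y, rfl⟩ := Ideal.Quotient.mk_surjective x
    rw [← map_pow, Ideal.Quotient.eq_zero_iff_mem, hl, Ideal.span_singleton_zero,
      Ideal.mem_bot] at hx
    rw [pow_eq_zero_iff hq.ne'] at hx
    rw [hx, map_zero]
    exact Ideal.zero_mem _
  · obtain ⟨ϖ, hϖ⟩ := IsDiscreteValuationRing.exists_irreducible R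
    obtain ⟨e, u, hlam⟩ := IsDiscreteValuationRing.eq_unit_mul_pow_irreducible hl hϖ
    have hex : ∃ s : ℕ, e ≤ s * q := ⟨e, by nlinarith⟩
    classical
    let s := Nat.find hex
    have hs : e ≤ s * q := Nat.find_spec hex
    have hmin : ∀ t : ℕ, e ≤ t * q → s ≤ t := fun t ht => Nat.find_min' hex ht
    refine ⟨Ideal.map (Ideal.Quotient.mk _) (Ideal.span {ϖ ^ s}), ?_, ?_⟩
    · rw [← Ideal.map_pow, Ideal.span_singleton_pow, ← pow_mul, Ideal.map_eq_bot_iff_le_ker,
        Ideal.mk_ker, Ideal.span_singleton_le_span_singleton, hlam]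
      have : ϖ ^ (s * q) = (u : R) * ϖ ^ e * (((u⁻¹ : Rˣ) : R) * ϖ ^ (s * q - e)) := by
        have h1 : ϖ ^ (s * q) = ϖ ^ e * ϖ ^ (s * q - e) := by
          rw [← pow_add, Nat.add_sub_cancel' hs]
        rw [h1]
        have h2 : (u : R) * ((u⁻¹ : Rˣ) : R) = 1 := by simp
        linear_combination (-(ϖ ^ e * ϖ ^ (s * q - e))) * h2
      exact ⟨_, this⟩
    · intro x hx
      obtain ⟨y, rfl⟩ := Ideal.Quotient.mk_surjective x
      rw [← map_pow, Ideal.Quotient.eq_zero_iff_mem, Ideal.mem_span_singleton] at hx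
      apply Ideal.mem_map_of_mem
      rw [Ideal.mem_span_singleton]
      by_cases hy : y = 0
      · rw [hy]; exact dvd_zero _
      · obtain ⟨t, v, hy'⟩ := IsDiscreteValuationRing.eq_unit_mul_pow_irreducible hy hϖ
        have hdvd : ϖ ^ e ∣ ϖ ^ (t * q) := by
          have h1 : ϖ ^ e ∣ y ^ q := dvd_trans ⟨(u : R), by rw [hlam]; ring⟩ hx
          rw [hy', mul_pow, ← pow_mul] at h1
          exact (IsUnit.dvd_mul_left ((v.isUnit).pow q)).mp h1
        have hle : e ≤ t * q := (pow_dvd_pow_iff hϖ.ne_zero hϖ.not_isUnit).mp hdvd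
        have hst := hmin t hle
        rw [hy']
        exact Dvd.dvd.mul_left (pow_dvd_pow ϖ hst) _


theorem main (R : Type u) [CommRing R] [IsDomain R]
    [IsDiscreteValuationRing R] (p : ℕ) [Fact p.Prime] (lam : R) (hlam : lam ∣ (p : R))
    (a b : WittVector p (R ⧸ Ideal.span {lam})) (ha : WittVector.frobenius a = 0)
    (hb : WittVector.frobenius b = 0) (n : ℕ) : (a + b).coeff n = a.coeff n + b.coeff n := by
  rcases subsingleton_or_nontrivial (R ⧸ Ideal.span {lam}) with hS | hS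
  · exact Subsingleton.elim _ _
  have hp0 : ((p : ℕ) : R ⧸ Ideal.span {lam}) = 0 := by
    have : ((p : ℕ) : R ⧸ Ideal.span {lam}) = Ideal.Quotient.mk _ ((p : ℕ) : R) := by
      rw [map_natCast]
    rw [this, Ideal.Quotient.eq_zero_iff_mem, Ideal.mem_span_singleton]
    exact hlam
  haveI : CharP (R ⧸ Ideal.span {lam}) p := (CharP.charP_iff_prime_eq_zero (Fact.out : p.Prime)).mpr hp0
  obtain ⟨N, hN, hmem⟩ := exists_nil_ideal R p (Fact.out : p.Prime).pos lam
  have hac : ∀ i, a.coeff i ∈ N := by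
    intro i
    apply hmem
    rw [← WittVector.coeff_frobenius_charP, ha, WittVector.zero_coeff]
  have hbc : ∀ i, b.coeff i ∈ N := by
    intro i
    apply hmem
    rw [← WittVector.coeff_frobenius_charP, hb, WittVector.zero_coeff]
  rw [WittVector.add_coeff]
  unfold WittVector.peval
  set f : Fin 2 × ℕ → R ⧸ Ideal.span {lam} := Function.uncurry ![a.coeff, b.coeff] with hf
  have hf0 : ∀ i, f (0, i) = a.coeff i := fun i => rfl
  have hf1 : ∀ i, f (1, i) = b.coeff i := fun i => rfl
  have hfN : ∀ q, f q ∈ N := by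
    rintro ⟨j, i⟩
    fin_cases j
    · exact hac i
    · exact hbc i
  have h1 := wittAdd_mem p n
  have h2 : aeval f (WittVector.wittAdd p n - X ((0 : Fin 2), n) - X ((1 : Fin 2), n)) ∈
      Ideal.map (aeval f : MvPolynomial (Fin 2 × ℕ) ℤ →ₐ[ℤ] _) (idealOfVars (Fin 2 × ℕ) ℤ ^ p) :=
    Ideal.mem_map_of_mem _ h1
  have h3 : Ideal.map (aeval f : MvPolynomial (Fin 2 × ℕ) ℤ →ₐ[ℤ] _)
      (idealOfVars (Fin 2 × ℕ) ℤ ^ p) ≤ N ^ p := by
    rw [Ideal.map_pow]
    apply Ideal.pow_right_mono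
    rw [Ideal.map_span, Ideal.span_le]
    rintro _ ⟨_, ⟨q, rfl⟩, rfl⟩
    change aeval f (X q) ∈ N
    rw [aeval_X]
    exact hfN q
  have h4 := h3 h2
  rw [hN, Ideal.mem_bot, map_sub, map_sub, aeval_X, aeval_X, hf0, hf1] at h4
  have h5 : aeval f (WittVector.wittAdd p n) = a.coeff n + b.coeff n := by
    linear_combination h4
  exact h5

end

/-- Let R be a discrete valuation ring, p a prime number and λ an element of R dividing p (so that R/λR
is an 𝔽_p-algebra), and let a and b be p-typical Witt vectors with coefficients in R/λR which are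
killed by the Frobenius endomorphism. Then the Witt sum a + b has components a_n + b_n for every n.
(The published statement allows an arbitrary λ ∈ R and is stated for Witt vectors with finitely many
nonzero components; this row assumes that λ divides p, so that p = 0 in R/λR, and allows all Witt
vectors.) -/
theorem result (R : Type u) [CommRing R] [IsDomain R]
    [IsDiscreteValuationRing R] (p : ℕ) [Fact p.Prime] (lam : R) (hlam : lam ∣ (p : R))
    (a b : WittVector p (R ⧸ Ideal.span {lam})) (ha : WittVector.frobenius a = 0)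
    (hb : WittVector.frobenius b = 0) (n : ℕ) : (a + b).coeff n = a.coeff n + b.coeff n := by
  exact Groth.Agent.S13160.main R p lam hlam a b ha hb n

end Groth.Agent.S13160
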