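import Groth.Statements.S13161
import Mathlib

set_option autoImplicit false
universe u
open scoped TensorProduct
open CAlg

namespace Groth.Agent.S13161

section aux
variable {R : Type u} [CommRing R] [IsDomain R] {K : Type u} [Field K] [Algebra R K]
  [IsFractionRing R K] {A : Type u} [CommRing A] [Algebra R A]

theorem exists_denom (z : A ⊗[R] K) : ∃ (s : R) (a : A), s ≠ 0 ∧ s • z = a ⊗ₜ[R] (1 : K) := by
  induction z using TensorProduct.induction_on with
  | zero => exact ⟨1, 0, one_ne_zero, by simp⟩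
  | tmul a k =>
    obtain ⟨r, s, hs, rfl⟩ := IsFractionRing.div_surjective (A := R) k
    refine ⟨s, r • a, nonZeroDivisors.ne_zero hs, ?_⟩
    have hs' : algebraMap R K s ≠ 0 :=
      (map_ne_zero_iff _ (IsFractionRing.injective R K)).2 (nonZeroDivisors.ne_zero hs)
    rw [TensorProduct.smul_tmul', TensorProduct.smul_tmul, TensorProduct.smul_tmul,
      Algebra.smul_def, Algebra.smul_def, mul_one, mul_div_cancel₀ _ hs']
  | add x y hx hy =>
    obtain ⟨s, a, hs, h1⟩ := hx
    obtain ⟨s', a', hs', h2⟩ := hy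
    refine ⟨s * s', s' • a + s • a', mul_ne_zero hs hs', ?_⟩
    rw [smul_add, mul_smul s s' y, mul_comm, mul_smul s' s x, h1, h2, TensorProduct.add_tmul,
      TensorProduct.smul_tmul', TensorProduct.smul_tmul']

theorem smul_eq_zero_tensor (s : R) (hs : s ≠ 0) (z : A ⊗[R] K) (h : s • z = 0) : z = 0 := by
  have hs' : algebraMap R K s ≠ 0 := (map_ne_zero_iff _ (IsFractionRing.injective R K)).2 hs
  let m : K →ₗ[R] K := LinearMap.mulLeft R ((algebraMap R K s)⁻¹)
  have key : ∀ w : A ⊗[R] K, s • (m.lTensor A w) = w := by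
    intro w
    induction w using TensorProduct.induction_on with
    | zero => simp
    | tmul a k =>
      rw [LinearMap.lTensor_tmul, TensorProduct.smul_tmul', TensorProduct.smul_tmul]
      congr 1
      show s • ((algebraMap R K s)⁻¹ * k) = k
      rw [Algebra.smul_def, ← mul_assoc, mul_inv_cancel₀ hs', one_mul]
    | add x y hx hy => rw [map_add, smul_add, hx, hy]
  rw [← key z, ← map_smul, h, map_zero]

theorem tmul_one_injective (hA : ∀ a : A, a ≠ 0 → ∃ f : A →ₗ[R] R, f a ≠ 0) (a : A)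
    (h : a ⊗ₜ[R] (1 : K) = 0) : a = 0 := by
  by_contra ha
  obtain ⟨f, hf⟩ := hA a ha
  have h1 := congrArg (fun z => TensorProduct.lid R K (f.rTensor K z)) h
  simp only [LinearMap.rTensor_tmul, TensorProduct.lid_tmul, map_zero] at h1
  rw [Algebra.smul_def, mul_one] at h1
  exact hf ((map_eq_zero_iff _ (IsFractionRing.injective R K)).1 h1)

theorem exists_common_denom {n : ℕ} (z : Fin n → A ⊗[R] K) :
    ∃ s : R, s ≠ 0 ∧ ∀ i, ∃ a : A, s • z i = a ⊗ₜ[R] (1 : K) := by
  classical
  choose s a hs h using fun i => exists_denom (z i)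
  refine ⟨∏ i, s i, Finset.prod_ne_zero_iff.2 (fun i _ => hs i), fun i => ?_⟩
  refine ⟨(∏ j ∈ Finset.univ.erase i, s j) • a i, ?_⟩
  rw [← Finset.mul_prod_erase Finset.univ s (Finset.mem_univ i), mul_comm, mul_smul, h,
    TensorProduct.smul_tmul']

end aux

theorem result (R : Type u) [CommRing R] [IsDomain R]
    [IsDiscreteValuationRing R] (K : Type u) [Field K] [Algebra R K] [IsFractionRing R K]
    (A B : Type u) [CommRing A] [CommRing B] [Algebra R A] [Algebra R B] [Algebra A B] [IsScalarTower R A B]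
    [Module.Finite A B] [Module.Flat R B]
    (hA : ∀ a : A, a ≠ 0 → ∃ f : A →ₗ[R] R, f a ≠ 0)
    (hBK : ∀ b : B, b ≠ 0 → ∃ g : B →ₗ[A] A ⊗[R] K, g b ≠ 0) :
    ∀ b : B, b ≠ 0 → ∃ h : B →ₗ[R] R, h b ≠ 0 := by
  intro b hb
  obtain ⟨g, hg⟩ := hBK b hb
  obtain ⟨n, bs, hbs⟩ := Module.Finite.exists_fin (R := A) (M := B)
  obtain ⟨s, hs, hsa⟩ := exists_common_denom (fun i => g (bs i))
  let j : A →ₗ[A] A ⊗[R] K := LinearMap.toSpanSingleton A (A ⊗[R] K) (1 ⊗ₜ[R] 1)
  have hj : ∀ a : A, j a = a ⊗ₜ[R] (1 : K) := by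
    intro a
    show a • ((1 : A) ⊗ₜ[R] (1 : K)) = _
    rw [TensorProduct.smul_tmul', smul_eq_mul, mul_one]
  have hjinj : Function.Injective j := by
    rw [← LinearMap.ker_eq_bot, LinearMap.ker_eq_bot']
    intro a ha
    rw [hj] at ha
    exact tmul_one_injective hA a ha
  let gs : B →ₗ[A] A ⊗[R] K := (algebraMap R A s) • g
  have hgs : ∀ x, gs x = s • g x := by
    intro x
    show (algebraMap R A s) • g x = s • g x
    rw [algebraMap_smul]
  have hrange : ∀ x : B, gs x ∈ LinearMap.range j := by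
    intro x
    have hx : x ∈ Submodule.span A (Set.range bs) := by rw [hbs]; trivial
    induction hx using Submodule.span_induction with
    | mem y hy =>
      obtain ⟨i, rfl⟩ := hy
      obtain ⟨a, ha⟩ := hsa i
      exact ⟨a, by rw [hj, hgs, ← ha]⟩
    | zero => rw [map_zero]; exact Submodule.zero_mem _
    | add y y' _ _ h1 h2 => rw [map_add]; exact Submodule.add_mem _ h1 h2
    | smul c y _ h1 => rw [map_smul]; exact Submodule.smul_mem _ c h1
  let g' : B →ₗ[A] A := (LinearEquiv.ofInjective j hjinj).symm.toLinearMap ∘ₗ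
    (gs.codRestrict (LinearMap.range j) hrange)
  have hg' : ∀ x, j (g' x) = gs x := by
    intro x
    show j ((LinearEquiv.ofInjective j hjinj).symm ⟨gs x, hrange x⟩) = gs x
    have := (LinearEquiv.ofInjective j hjinj).apply_symm_apply ⟨gs x, hrange x⟩
    exact congrArg Subtype.val this
  have hne : g' b ≠ 0 := by
    intro h0
    have h1 := hg' b
    rw [h0, map_zero, hgs] at h1
    exact hg (smul_eq_zero_tensor s hs _ h1.symm)
  obtain ⟨f, hf⟩ := hA _ hne
  exact ⟨f ∘ₗ (g'.restrictScalars R), hf⟩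

end Groth.Agent.S13161
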