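import Groth.Statements.S13162
import Mathlib

set_option autoImplicit false
universe u v
open ZeroCyc

namespace Groth.Agent.S13162

open Polynomial in
theorem choose_not_dvd (p k m : ℕ) [Fact p.Prime] (hm : ¬ p ∣ m) :
    ¬ p ∣ (p ^ k * m).choose (p ^ k) := by
  intro h
  apply hm
  rw [← ZMod.natCast_eq_zero_iff] at h ⊢
  have e : ((1 + X : (ZMod p)[X]) ^ (p ^ k * m)) = Polynomial.expand (ZMod p) (p ^ k) ((1 + X) ^ m) := by
    rw [pow_mul, add_pow_char_pow, one_pow, map_pow, map_add, map_one, Polynomial.expand_X]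
  have e2 : Polynomial.coeff ((1 + X : (ZMod p)[X]) ^ (p ^ k * m)) (1 * p ^ k) =
      Polynomial.coeff (Polynomial.expand (ZMod p) (p ^ k) ((1 + X) ^ m)) (1 * p ^ k) := by rw [e]
  rw [Polynomial.coeff_expand_mul (pow_pos (Fact.out : p.Prime).pos k), one_mul,
    Polynomial.coeff_one_add_X_pow, Polynomial.coeff_one_add_X_pow, Nat.choose_one_right] at e2
  rw [← e2, h]


theorem result {A : Type u} [CommRing A] {G : Type v} [Group G] [Fintype G]
    [MulSemiringAction G A] (p : ℕ) [Fact p.Prime]
    (hA : ∀ m : ℕ, ¬ p ∣ m → IsUnit (m : A))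
    (I : Ideal A) (f : A) (hf : ∀ g : G, g • f - f ∈ I) :
    ∃ a : A, (∀ g : G, g • a = a) ∧ a - f ^ (p ^ (Fintype.card G).factorization p) ∈ I := by
  classical
  set N := Fintype.card G with hN
  set k := N.factorization p with hk
  set m := N / p ^ k with hm
  have hp : p.Prime := Fact.out
  have hN0 : N ≠ 0 := Fintype.card_ne_zero
  have hNkm : p ^ k * m = N := Nat.ordProj_mul_ordCompl_eq_self N p
  have hpm : ¬ p ∣ m := Nat.not_dvd_ordCompl hp hN0
  have hunit : IsUnit ((N.choose (p ^ k) : ℕ) : A) := by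
    apply hA
    rw [← hNkm]
    exact choose_not_dvd p k m hpm
  obtain ⟨u, hu⟩ := hunit
  set j := p ^ k with hj
  set e : A := ∑ T ∈ Finset.powersetCard j (Finset.univ : Finset G), ∏ g ∈ T, g • f with he
  have hinv : ∀ h : G, h • e = e := by
    intro h
    have h1 : h • e = ∑ T ∈ Finset.powersetCard j (Finset.univ : Finset G), ∏ g ∈ T, (h * g) • f := by
      rw [he, Finset.smul_sum]
      apply Finset.sum_congr rfl
      intro T _
      rw [Finset.smul_prod']
      apply Finset.prod_congr rfl
      intro g _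
      rw [mul_smul]
    rw [h1]
    apply Finset.sum_equiv (Equiv.finsetCongr (Equiv.mulLeft h))
    · intro T
      rw [Finset.mem_powersetCard_univ, Finset.mem_powersetCard_univ, Equiv.finsetCongr_apply,
        Finset.card_map]
    · intro T _
      rw [Equiv.finsetCongr_apply, Finset.prod_map]
      rfl
  have hπf : ∀ g : G, Ideal.Quotient.mk I (g • f) = Ideal.Quotient.mk I f := by
    intro g
    rw [← sub_eq_zero, ← map_sub, Ideal.Quotient.eq_zero_iff_mem]
    exact hf g
  have hπe : Ideal.Quotient.mk I e = Ideal.Quotient.mk I ((u : A) * f ^ j) := by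
    rw [he, map_sum, map_mul, hu, map_natCast, map_pow]
    have : ∀ T ∈ Finset.powersetCard j (Finset.univ : Finset G),
        Ideal.Quotient.mk I (∏ g ∈ T, g • f) = (Ideal.Quotient.mk I f) ^ j := by
      intro T hT
      rw [map_prod, Finset.prod_congr rfl (fun g _ => hπf g), Finset.prod_const,
        Finset.mem_powersetCard_univ.mp hT]
    rw [Finset.sum_congr rfl this, Finset.sum_const, Finset.card_powersetCard, Finset.card_univ,
      nsmul_eq_mul]
  refine ⟨(↑u⁻¹ : A) * e, fun g => ?_, ?_⟩
  · have hgu : g • (u : A) = (u : A) := by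
      rw [hu]
      exact map_natCast (MulSemiringAction.toRingHom G A g) _
    have h1 : (u : A) * (g • ((↑u⁻¹ : A) * e)) = (u : A) * ((↑u⁻¹ : A) * e) := by
      conv_lhs => rw [← hgu, ← smul_mul', ← mul_assoc, Units.mul_inv, one_mul, hinv g]
      rw [← mul_assoc, Units.mul_inv, one_mul]
    exact (Units.mul_right_inj u).mp h1
  · rw [← Ideal.Quotient.eq_zero_iff_mem, map_sub, sub_eq_zero, map_mul, hπe, ← map_mul,
      ← mul_assoc, Units.inv_mul, one_mul]

end Groth.Agent.S13162
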