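import Groth.Statements.S13163

set_option autoImplicit false
universe u
open ZeroCyc

namespace Groth.Agent.S13163

open Polynomial in
theorem result (d : ℕ) (k : Type u) [Field k]
    (φ : (ℤ[X] ⧸ Ideal.span {(∏ j ∈ Finset.range (d + 1), ∏ i ∈ Finset.range j,
        ((X : ℤ[X]) ^ i - X ^ j)) - 1}) →+* k) :
    ((d + 1 : ℕ) : Cardinal) ≤ Cardinal.mk k := by
  set P : ℤ[X] := ∏ j ∈ Finset.range (d + 1), ∏ i ∈ Finset.range j, ((X : ℤ[X]) ^ i - X ^ j) with hP
  set ψ : ℤ[X] →+* k := φ.comp (Ideal.Quotient.mk _) with hψ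
  set t : k := ψ X with ht
  have h1 : ψ (P - 1) = 0 := by
    rw [hψ, RingHom.comp_apply]
    have : (Ideal.Quotient.mk (Ideal.span {P - 1})) (P - 1) = 0 :=
      Ideal.Quotient.eq_zero_iff_mem.mpr (Ideal.subset_span rfl)
    rw [this, map_zero]
  have h2 : ∏ j ∈ Finset.range (d + 1), ∏ i ∈ Finset.range j, (t ^ i - t ^ j) = 1 := by
    have : ψ P = 1 := by
      rw [map_sub, map_one, sub_eq_zero] at h1
      exact h1
    rw [hP, map_prod] at this
    simp only [map_prod, map_sub, map_pow] at this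
    exact this
  have hne : ∀ j ∈ Finset.range (d + 1), ∀ i ∈ Finset.range j, t ^ i - t ^ j ≠ 0 := by
    intro j hj i hi h0
    have : ∏ j ∈ Finset.range (d + 1), ∏ i ∈ Finset.range j, (t ^ i - t ^ j) = 0 := by
      apply Finset.prod_eq_zero hj
      exact Finset.prod_eq_zero hi h0
    rw [h2] at this
    exact one_ne_zero this
  have hinj : Function.Injective (fun i : Fin (d + 1) => t ^ (i : ℕ)) := by
    intro a b hab
    by_contra hne'
    rcases lt_or_gt_of_ne (fun h => hne' (Fin.ext h)) with h | h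
    · exact hne b (Finset.mem_range.mpr b.2) a (Finset.mem_range.mpr h) (sub_eq_zero.mpr hab)
    · exact hne a (Finset.mem_range.mpr a.2) b (Finset.mem_range.mpr h) (sub_eq_zero.mpr hab.symm)
  have hinj' : Function.Injective (fun i : ULift.{u} (Fin (d + 1)) => t ^ (i.down : ℕ)) :=
    fun a b hab => ULift.ext _ _ (hinj hab)
  have := Cardinal.mk_le_of_injective hinj'
  simpa using this

end Groth.Agent.S13163
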