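import Groth.Statements.S13166
import Mathlib
import Groth.Agent.Lib.Helper20.Cover

set_option autoImplicit false
universe u
open ZeroCyc

namespace Groth.Agent.S13166


theorem result {k : Type u} [Field k] {B : Type u} [CommRing B] [Algebra k B] (V : Submodule k B)
    (hV : Algebra.adjoin k (V : Set B) = ⊤) {k' : Type u} [Field k'] [Algebra k k']
    {d : ℕ} (x : Fin d → (B →ₐ[k] k')) (hx : Function.Injective x)
    (hk : ((d.choose 2 : ℕ) : Cardinal) ≤ Cardinal.mk k) :
    ∃ b ∈ V, Function.Injective fun i => x i b := by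
  classical
  let L : Fin d → Fin d → (V →ₗ[k] k') := fun i j =>
    ((x i).toLinearMap - (x j).toLinearMap).comp V.subtype
  have hL : ∀ i j (b : V), L i j b = x i (b : B) - x j (b : B) := fun i j b => rfl
  let W : Finset (Fin d) → Submodule k V := fun t => ⨅ i ∈ t, ⨅ j ∈ t, LinearMap.ker (L i j)
  have hWmem : ∀ t (b : V), b ∈ W t ↔ ∀ i ∈ t, ∀ j ∈ t, x i (b : B) = x j (b : B) := by
    intro t b
    simp only [W, Submodule.mem_iInf, LinearMap.mem_ker, hL, sub_eq_zero]
  let s : Finset (Submodule k V) := (Finset.powersetCard 2 (Finset.univ : Finset (Fin d))).image W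
  have hs : ∀ U ∈ s, U ≠ ⊤ := by
    intro U hU
    obtain ⟨t, ht, rfl⟩ := Finset.mem_image.mp hU
    rw [Finset.mem_powersetCard] at ht
    obtain ⟨i, j, hij, rfl⟩ := Finset.card_eq_two.mp ht.2
    intro htop
    apply hij
    apply hx
    apply AlgHom.ext_of_adjoin_eq_top hV
    intro b hb
    have : (⟨b, hb⟩ : V) ∈ W {i, j} := by rw [htop]; exact Submodule.mem_top
    rw [hWmem] at this
    exact this i (by simp) j (by simp)
  have hcard : (s.card : Cardinal.{u}) ≤ Cardinal.mk k := by
    refine le_trans ?_ hk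
    have h1 : s.card ≤ (Finset.powersetCard 2 (Finset.univ : Finset (Fin d))).card :=
      Finset.card_image_le
    rw [Finset.card_powersetCard, Finset.card_univ, Fintype.card_fin] at h1
    exact_mod_cast h1
  obtain ⟨v, hv⟩ := Groth.Agent.Helper20.Cover.exists_not_mem_of_card_le s hs hcard
  refine ⟨v, v.2, ?_⟩
  intro i j hij
  by_contra hne
  have hmem : W {i, j} ∈ s := by
    apply Finset.mem_image_of_mem
    rw [Finset.mem_powersetCard]
    exact ⟨Finset.subset_univ _, Finset.card_pair hne⟩
  apply hv _ hmem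
  rw [hWmem]
  intro a ha b hb
  simp only [Finset.mem_insert, Finset.mem_singleton] at ha hb
  rcases ha with rfl | rfl <;> rcases hb with rfl | rfl
  · rfl
  · exact hij
  · exact hij.symm
  · rfl

end Groth.Agent.S13166
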