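import Groth.Statements.S13173
import Mathlib
import Groth.Agent.Lib.Helper28.TwistGen


set_option autoImplicit false
universe u
open AlgebraicGeometry
open ZeroCyc

namespace Groth.Agent.S13173

/-- Let B be a graded R-algebra generated by elements of degree at most d, such that X = Proj B is
quasi-compact and covered by the opens D_+(g), g ∈ B_1. Then O_X(n) is ample for every n ≥ 1. (The
published statement does not assume X quasi-compact, which ampleness as used here requires and which
fails for a polynomial ring in infinitely many degree-one variables; this row assumes it.) -/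
theorem result {R A : Type u} [CommRing R] [CommRing A] [Algebra R A] (𝒜 : ℕ → Submodule R A) [GradedAlgebra 𝒜]
    (d : ℕ) (hgen : Algebra.adjoin R (⋃ i ∈ Finset.range (d + 1), (𝒜 i : Set A)) = ⊤)
    (hcov : (⨆ g : 𝒜 1, Proj.basicOpen 𝒜 (g : A)) = ⊤) [CompactSpace (Proj 𝒜)] (n : ℕ) (hn : 0 < n) :
    CohB1.IsAmple (Twist.twist 𝒜 (n : ℤ)) := by
  have hc : ∀ x : Proj 𝒜, ∃ g ∈ 𝒜 1, g ∉ x.asHomogeneousIdeal := by
    intro x
    have hx : x ∈ (⨆ g : 𝒜 1, Proj.basicOpen 𝒜 (g : A)) := by rw [hcov]; trivial
    obtain ⟨g, hg⟩ := TopologicalSpace.Opens.mem_iSup.mp hx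
    exact ⟨g.1, g.2, hg⟩
  exact Groth.Agent.Helper28.TwistMul.twist_isAmple_of_degree_one 𝒜 hc n hn

end Groth.Agent.S13173
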