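import Groth.Statements.S13174
import Mathlib

set_option autoImplicit false
universe u v w
open scoped TensorProduct
open ZeroCyc

namespace Groth.Agent.S13174

open MvPolynomial LinearMap

section WD

variable {A : Type u} [CommRing A] {M : Type v} [AddCommGroup M] [Module A M]
  {N : Type w} [AddCommGroup N] [Module A N]

theorem rT_comp {Q : Type*} [AddCommGroup Q] [Module A Q] {S S' S'' : Type*} [CommSemiring S] [Algebra A S]
    [CommSemiring S'] [Algebra A S'] [CommSemiring S''] [Algebra A S'']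
    (f : S →ₐ[A] S') (g : S' →ₐ[A] S'') (x : S ⊗[A] Q) :
    (g.comp f).toLinearMap.rTensor Q x = g.toLinearMap.rTensor Q (f.toLinearMap.rTensor Q x) := by
  rw [AlgHom.comp_toLinearMap, LinearMap.rTensor_comp, LinearMap.comp_apply]

variable (T : ∀ n : ℕ, MvPolynomial (Fin n) A ⊗[A] M → MvPolynomial (Fin n) A ⊗[A] N)
  (hT : ∀ (n m : ℕ) (φ : MvPolynomial (Fin n) A →ₐ[A] MvPolynomial (Fin m) A),
    φ.toLinearMap.rTensor N ∘ T n = T m ∘ φ.toLinearMap.rTensor M)

include hT

theorem push {S : Type u} [CommSemiring S] [Algebra A S] {n l : ℕ}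
    (α : MvPolynomial (Fin n) A →ₐ[A] MvPolynomial (Fin l) A) (Φ : MvPolynomial (Fin l) A →ₐ[A] S)
    (p : MvPolynomial (Fin n) A ⊗[A] M) :
    (Φ.comp α).toLinearMap.rTensor N (T n p) =
      Φ.toLinearMap.rTensor N (T l (α.toLinearMap.rTensor M p)) := by
  rw [rT_comp]
  congr 1
  exact congrFun (hT n l α) p

theorem step {S : Type u} [CommSemiring S] [Algebra A S] {l : ℕ}
    (Φ : MvPolynomial (Fin l) A →ₐ[A] S) (r : MvPolynomial (Fin l) A) (hr : Φ r = 0) (m : M)
    (q : MvPolynomial (Fin l) A ⊗[A] M) :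
    Φ.toLinearMap.rTensor N (T l (q + r ⊗ₜ[A] m)) = Φ.toLinearMap.rTensor N (T l q) := by
  let ι : MvPolynomial (Fin l) A →ₐ[A] MvPolynomial (Fin (l + 1)) A := rename Fin.castSucc
  let αr : MvPolynomial (Fin (l + 1)) A →ₐ[A] MvPolynomial (Fin l) A :=
    aeval (Fin.lastCases r X : Fin (l + 1) → MvPolynomial (Fin l) A)
  let α0 : MvPolynomial (Fin (l + 1)) A →ₐ[A] MvPolynomial (Fin l) A :=
    aeval (Fin.lastCases 0 X : Fin (l + 1) → MvPolynomial (Fin l) A)
  let Q : MvPolynomial (Fin (l + 1)) A ⊗[A] M :=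
    ι.toLinearMap.rTensor M q + (X (Fin.last l)) ⊗ₜ[A] m
  have h1 : αr.comp ι = AlgHom.id A _ := by
    apply MvPolynomial.algHom_ext
    intro i
    simp [ι, αr]
  have h0 : α0.comp ι = AlgHom.id A _ := by
    apply MvPolynomial.algHom_ext
    intro i
    simp [ι, α0]
  have e_r : αr.toLinearMap.rTensor M Q = q + r ⊗ₜ[A] m := by
    simp only [Q, map_add, LinearMap.rTensor_tmul, AlgHom.toLinearMap_apply]
    rw [← rT_comp, h1]
    simp [αr]
  have e_0 : α0.toLinearMap.rTensor M Q = q := by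
    simp only [Q, map_add, LinearMap.rTensor_tmul, AlgHom.toLinearMap_apply]
    rw [← rT_comp, h0]
    simp [α0]
  have hΦ : Φ.comp αr = Φ.comp α0 := by
    apply MvPolynomial.algHom_ext
    intro i
    refine Fin.lastCases ?_ (fun j => ?_) i
    · simp [αr, α0, hr]
    · simp [αr, α0]
  calc Φ.toLinearMap.rTensor N (T l (q + r ⊗ₜ[A] m))
      = Φ.toLinearMap.rTensor N (T l (αr.toLinearMap.rTensor M Q)) := by rw [e_r]
    _ = (Φ.comp αr).toLinearMap.rTensor N (T (l + 1) Q) := (push T hT αr Φ Q).symm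
    _ = (Φ.comp α0).toLinearMap.rTensor N (T (l + 1) Q) := by rw [hΦ]
    _ = Φ.toLinearMap.rTensor N (T l (α0.toLinearMap.rTensor M Q)) := push T hT α0 Φ Q
    _ = _ := by rw [e_0]

theorem KL {S : Type u} [CommSemiring S] [Algebra A S] {l : ℕ}
    (Φ : MvPolynomial (Fin l) A →ₐ[A] S) (q q' : MvPolynomial (Fin l) A ⊗[A] M)
    (h : Φ.rangeRestrict.toLinearMap.rTensor M q = Φ.rangeRestrict.toLinearMap.rTensor M q') :
    Φ.toLinearMap.rTensor N (T l q) = Φ.toLinearMap.rTensor N (T l q') := by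
  have hsurj : Function.Surjective Φ.rangeRestrict := Φ.rangeRestrict_surjective
  set I : Ideal (MvPolynomial (Fin l) A) := RingHom.ker Φ.rangeRestrict with hI
  let e := Ideal.quotientKerAlgEquivOfSurjective hsurj
  have hmk : Ideal.Quotient.mkₐ A I = (e.symm : Φ.range →ₐ[A] _).comp Φ.rangeRestrict := by
    refine AlgHom.ext fun a => ?_
    simp only [AlgHom.comp_apply]
    rw [← Ideal.quotientKerAlgEquivOfSurjective_mk hsurj a]
    exact (e.symm_apply_apply _).symm
  have hex : Function.Exact ((I.restrictScalars A).subtype) (Ideal.Quotient.mkₐ A I).toLinearMap := by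
    intro x
    simp [Ideal.Quotient.eq_zero_iff_mem]
  have hex' := rTensor_exact M hex (Ideal.Quotient.mkₐ_surjective A I)
  have hd : (Ideal.Quotient.mkₐ A I).toLinearMap.rTensor M (q - q') = 0 := by
    rw [map_sub, hmk, rT_comp, rT_comp, h, sub_self]
  obtain ⟨ω, hω⟩ := (hex' (q - q')).1 hd
  have hq : q = q' + (I.restrictScalars A).subtype.rTensor M ω := by rw [hω]; abel
  rw [hq]
  clear hq hω hd h
  induction ω using TensorProduct.induction_on generalizing q' with
  | zero => simp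
  | tmul r m =>
    rw [LinearMap.rTensor_tmul]
    refine step T hT Φ r.1 ?_ m q'
    have h2 : Φ.rangeRestrict r.1 = 0 := r.2
    exact congrArg Subtype.val h2
  | add w1 w2 h1 h2 => rw [map_add, ← add_assoc, h2, h1]

theorem WD {S : Type u} [CommSemiring S] [Algebra A S] {n m : ℕ}
    (ψ : MvPolynomial (Fin n) A →ₐ[A] S) (ψ' : MvPolynomial (Fin m) A →ₐ[A] S)
    (p : MvPolynomial (Fin n) A ⊗[A] M) (p' : MvPolynomial (Fin m) A ⊗[A] M)
    (h : ψ.toLinearMap.rTensor M p = ψ'.toLinearMap.rTensor M p') :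
    ψ.toLinearMap.rTensor N (T n p) = ψ'.toLinearMap.rTensor N (T m p') := by
  set u := ψ.rangeRestrict.toLinearMap.rTensor M p with hu
  set u' := ψ'.rangeRestrict.toLinearMap.rTensor M p' with hu'
  have uFG : Subalgebra.FG (R := A) ψ.range := by
    rw [← Algebra.map_top]
    exact Subalgebra.FG.map _ Algebra.FiniteType.out
  have u'FG : Subalgebra.FG (R := A) ψ'.range := by
    rw [← Algebra.map_top]
    exact Subalgebra.FG.map _ Algebra.FiniteType.out
  have huu' : ψ.range.val.toLinearMap.rTensor M u = ψ'.range.val.toLinearMap.rTensor M u' := by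
    rw [hu, hu', ← rT_comp, ← rT_comp, AlgHom.val_comp_rangeRestrict, AlgHom.val_comp_rangeRestrict, h]
  obtain ⟨B, hAB, hA'B, ⟨t, hB⟩, hBeq⟩ :=
    TensorProduct.Algebra.eq_of_fg_of_subtype_eq' (R := A) uFG u'FG huu'
  rw [← PolynomialLaw.range_φ A t] at hB
  set Φ := PolynomialLaw.φ A t with hΦ
  have hBΦ : B ≤ Φ.range := le_of_eq hB.symm
  have hle : ψ.range ≤ Φ.range := hAB.trans hBΦ
  have hle' : ψ'.range ≤ Φ.range := hA'B.trans hBΦ
  have hex : ∀ i : Fin n, ∃ y, Φ y = ψ (X i) := fun i => hle ⟨X i, rfl⟩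
  choose y hy using hex
  have hex' : ∀ i : Fin m, ∃ y, Φ y = ψ' (X i) := fun i => hle' ⟨X i, rfl⟩
  choose y' hy' using hex'
  let α : MvPolynomial (Fin n) A →ₐ[A] MvPolynomial (Fin t.card) A := aeval y
  let α' : MvPolynomial (Fin m) A →ₐ[A] MvPolynomial (Fin t.card) A := aeval y'
  have hα : Φ.comp α = ψ := MvPolynomial.algHom_ext (fun i => by simp [α, hy])
  have hα' : Φ.comp α' = ψ' := MvPolynomial.algHom_ext (fun i => by simp [α', hy'])
  have hr : Φ.rangeRestrict.comp α = (Subalgebra.inclusion hle).comp ψ.rangeRestrict := by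
    refine AlgHom.ext fun x => ?_
    simp only [AlgHom.comp_apply]
    apply Subtype.ext
    show Φ (α x) = ψ x
    rw [← hα]; rfl
  have hr' : Φ.rangeRestrict.comp α' = (Subalgebra.inclusion hle').comp ψ'.rangeRestrict := by
    refine AlgHom.ext fun x => ?_
    simp only [AlgHom.comp_apply]
    apply Subtype.ext
    show Φ (α' x) = ψ' x
    rw [← hα']; rfl
  have hkey : Φ.rangeRestrict.toLinearMap.rTensor M (α.toLinearMap.rTensor M p) =
      Φ.rangeRestrict.toLinearMap.rTensor M (α'.toLinearMap.rTensor M p') := by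
    rw [← rT_comp, ← rT_comp, hr, hr', rT_comp, rT_comp, ← hu, ← hu']
    have h1 : Subalgebra.inclusion hle = (Subalgebra.inclusion hBΦ).comp (Subalgebra.inclusion hAB) := by
      refine AlgHom.ext fun x => ?_; rfl
    have h2 : Subalgebra.inclusion hle' = (Subalgebra.inclusion hBΦ).comp (Subalgebra.inclusion hA'B) := by
      refine AlgHom.ext fun x => ?_; rfl
    rw [h1, h2, rT_comp, rT_comp, hBeq]
  have := KL T hT Φ _ _ hkey
  rw [← hα, ← hα', push T hT, push T hT]
  exact this

end WD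

section Law

variable {A : Type u} [CommRing A] {M : Type v} [AddCommGroup M] [Module A M]
  {N : Type w} [AddCommGroup N] [Module A N]

noncomputable def liftN {S : Type u} [CommSemiring S] [Algebra A S] (x : S ⊗[A] M) : ℕ :=
  (PolynomialLaw.exists_lift x).choose

noncomputable def liftψ {S : Type u} [CommSemiring S] [Algebra A S] (x : S ⊗[A] M) :
    MvPolynomial (Fin (liftN x)) A →ₐ[A] S :=
  (PolynomialLaw.exists_lift x).choose_spec.choose

noncomputable def liftp {S : Type u} [CommSemiring S] [Algebra A S] (x : S ⊗[A] M) :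
    MvPolynomial (Fin (liftN x)) A ⊗[A] M :=
  (PolynomialLaw.exists_lift x).choose_spec.choose_spec.choose

theorem lift_spec {S : Type u} [CommSemiring S] [Algebra A S] (x : S ⊗[A] M) :
    (liftψ x).toLinearMap.rTensor M (liftp x) = x :=
  (PolynomialLaw.exists_lift x).choose_spec.choose_spec.choose_spec

noncomputable def mkLaw
    (T : ∀ n : ℕ, MvPolynomial (Fin n) A ⊗[A] M → MvPolynomial (Fin n) A ⊗[A] N)
    (hT : ∀ (n m : ℕ) (φ : MvPolynomial (Fin n) A →ₐ[A] MvPolynomial (Fin m) A),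
      φ.toLinearMap.rTensor N ∘ T n = T m ∘ φ.toLinearMap.rTensor M) : M →ₚₗ[A] N where
  toFun' S _ _ x := (liftψ x).toLinearMap.rTensor N (T (liftN x) (liftp x))
  isCompat' {S _ _ S' _ _} φ := by
    funext x
    simp only [Function.comp_apply]
    rw [← rT_comp]
    apply WD T hT
    rw [rT_comp, lift_spec, lift_spec]

end Law

theorem result {A : Type u} [CommRing A] {M : Type v} [AddCommGroup M] [Module A M] {N : Type w} [AddCommGroup N] [Module A N] :
    Function.Bijective (fun F : M →ₚₗ[A] N =>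
      (⟨fun n => F.toFun' (MvPolynomial (Fin n) A), fun n m φ => F.isCompat' φ⟩ :
        {T : ∀ n : ℕ, MvPolynomial (Fin n) A ⊗[A] M → MvPolynomial (Fin n) A ⊗[A] N //
          ∀ (n m : ℕ) (φ : MvPolynomial (Fin n) A →ₐ[A] MvPolynomial (Fin m) A),
            φ.toLinearMap.rTensor N ∘ T n = T m ∘ φ.toLinearMap.rTensor M})) := by
  constructor
  · intro F G hFG
    have h : ∀ n, F.toFun' (MvPolynomial (Fin n) A) = G.toFun' (MvPolynomial (Fin n) A) :=
      fun n => congrFun (congrArg Subtype.val hFG) n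
    ext S _ _ x
    obtain ⟨n, ψ, p, rfl⟩ := PolynomialLaw.exists_lift x
    rw [← PolynomialLaw.isCompat_apply', ← PolynomialLaw.isCompat_apply', h n]
  · rintro ⟨T, hT⟩
    refine ⟨mkLaw T hT, ?_⟩
    apply Subtype.ext
    funext n x
    show (liftψ x).toLinearMap.rTensor N (T (liftN x) (liftp x)) = T n x
    have h1 := WD T hT (liftψ x) (AlgHom.id A _) (liftp x) x (by
      rw [lift_spec]; simp)
    rw [h1]
    simp

end Groth.Agent.S13174
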