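import Groth.Statements.S1319
import Groth.Statements.S1319
import Groth.Agent.S1322
import Mathlib.AlgebraicGeometry.Morphisms.FlatMono
import Mathlib.AlgebraicGeometry.Morphisms.IsIso
-- import your own Groth.Agent.* helpers here

set_option autoImplicit false
universe u
open FlatMor

namespace Groth.Agent.S1319

open AlgebraicGeometry CategoryTheory Limits

/-- The common core: if `f` is an open immersion then `f'` is. -/
theorem aux {X X' Y Y' S S' : Scheme.{u}} (iX : X ⟶ X') (iY : Y ⟶ Y') (iS : S ⟶ S')
    (f : X ⟶ Y) (f' : X' ⟶ Y') (g : Y ⟶ S) (g' : Y' ⟶ S')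
    (hS : MoreMor.IsFiniteOrderThickening iS) (hcX : IsPullback iX (f ≫ g) (f' ≫ g') iS) (hcY : IsPullback iY g g' iS)
    (w : iX ≫ f' = f ≫ iY) [Flat (f' ≫ g')] :
    IsOpenImmersion f ↔ IsOpenImmersion f' := by
  have hsq := Groth.Agent.Helper2.ThickRed.isPullback_of_deform hcX hcY w
  constructor
  · intro hf
    have het : Etale f' := (Groth.Agent.S1322.result iX iY iS f f' g g' hS hcX hcY w).1 inferInstance
    have hiY : MoreMor.IsThickening iY := Groth.Agent.Helper2.thick_of_isPullback hS.1 hcY.flip
    have hiX : MoreMor.IsThickening iX := Groth.Agent.Helper2.thick_of_isPullback hiY hsq.flip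
    have : IsClosedImmersion iY := hiY.1
    have : Surjective iX := hiX.2
    have h1 : UniversallyInjective (iX ≫ f') := by
      rw [w]
      infer_instance
    have h2 : UniversallyInjective f' :=
      Groth.Agent.Helper2.universallyInjective_of_comp_surjective iX f'
    have h3 : Surjective (pullback.diagonal f') := (UniversallyInjective.iff_diagonal f').1 h2
    have h4 : IsIso (pullback.diagonal f') :=
      (isIso_iff_isOpenImmersion_and_surjective _).2 ⟨inferInstance, h3⟩
    have h5 : Mono f' := (pullback.isIso_diagonal_iff f').1 h4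
    exact IsOpenImmersion.of_flat_of_mono f'
  · intro h
    exact MorphismProperty.of_isPullback (P := @IsOpenImmersion) hsq h

open AlgebraicGeometry CategoryTheory Limits in
/-- Let S ⟶ S' be a finite order thickening, let X' ⟶ Y' be a morphism of schemes over S' with X' flat
over S', and let X ⟶ Y be its base change to S. Then X' ⟶ Y' is an open immersion exactly when X ⟶ Y
is one. -/
theorem result {X X' Y Y' S S' : Scheme.{u}} (iX : X ⟶ X') (iY : Y ⟶ Y') (iS : S ⟶ S')
    (f : X ⟶ Y) (f' : X' ⟶ Y') (g : Y ⟶ S) (g' : Y' ⟶ S')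
    (hS : MoreMor.IsFiniteOrderThickening iS) (hcX : IsPullback iX (f ≫ g) (f' ≫ g') iS) (hcY : IsPullback iY g g' iS)
    (w : iX ≫ f' = f ≫ iY) [Flat (f' ≫ g')] :
    IsOpenImmersion f ↔ IsOpenImmersion f' := by
  exact aux iX iY iS f f' g g' hS hcX hcY w

end Groth.Agent.S1319
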