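import Groth.Statements.S13181
import Groth.Agent.Lib.Helper6.ProjQuotA

set_option autoImplicit false
universe u
open CategoryTheory CategoryTheory.Limits AlgebraicGeometry
open ZeroCyc

namespace Groth.Agent.S13181

/-- Over an affine base Spec R, let B be a graded R-algebra generated by its degree-one part and let a
finite group G act on B by graded R-algebra automorphisms, with ring of invariants C = B^G (graded
by C_n = B_n ∩ B^G, given here as a graded ring with an injective graded map ι onto the invariants).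
Let ρ be the induced action of G on X = Proj B (on each chart D_+(σf) → D_+(f) it is Spec of b/f^k ↦
σ(b)/σ(f)^k) and π : Proj B → Proj C the morphism induced by ι (on D_+(ι c) → D_+(c) it is Spec of
C_(c) → B_(ι c)). Then π is a quotient of X by G: affine, G-invariant, with O_{Proj C} the
G-invariant sections of O_X. (The published statement is over a general base scheme with a
quasi-coherent graded algebra and includes the existence of the quotient; this row is its
affine-local content, with ρ and π characterised chartwise.) -/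
theorem result {R A : Type u} [CommRing R] [CommRing A] [Algebra R A] (𝒜 : ℕ → Submodule R A) [GradedAlgebra 𝒜]
    (hgen : Algebra.adjoin R (𝒜 1 : Set A) = ⊤)
    {G : Type u} [Group G] [Finite G] [MulSemiringAction G A]
    (hGR : ∀ (σ : G) (r : R), σ • algebraMap R A r = algebraMap R A r)
    (hGdeg : ∀ (σ : G) (i : ℕ) (a : A), a ∈ 𝒜 i → σ • a ∈ 𝒜 i)
    {C : Type u} [CommRing C] [Algebra R C] (𝒞 : ℕ → Submodule R C) [GradedAlgebra 𝒞]
    (ι : C →ₐ[R] A) (hι : Function.Injective ι)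
    (hιdeg : ∀ (i : ℕ) (a : A), a ∈ (𝒞 i).map ι.toLinearMap ↔ (a ∈ 𝒜 i ∧ ∀ σ : G, σ • a = a))
    (ρ : G →* Aut (Proj 𝒜))
    (hρ : ∀ (σ : G) (n : ℕ) (f : A) (hn : 0 < n) (hf : f ∈ 𝒜 n)
      (θ : CommRingCat.of (HomogeneousLocalization.Away 𝒜 f) ⟶ CommRingCat.of (HomogeneousLocalization.Away 𝒜 (σ • f))),
      (algebraMap (HomogeneousLocalization.Away 𝒜 (σ • f)) (Localization.Away (σ • f))).comp θ.hom =
        (Localization.awayMap (MulSemiringAction.toRingHom G A σ) f).comp
          (algebraMap (HomogeneousLocalization.Away 𝒜 f) (Localization.Away f)) →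
      Proj.awayι 𝒜 (σ • f) (hGdeg σ n f hf) hn ≫ (ρ σ).inv = Spec.map θ ≫ Proj.awayι 𝒜 f hf hn)
    (π : Proj 𝒜 ⟶ Proj 𝒞)
    (hπ : ∀ (n : ℕ) (c : C) (hn : 0 < n) (hc : c ∈ 𝒞 n)
      (θ : CommRingCat.of (HomogeneousLocalization.Away 𝒞 c) ⟶ CommRingCat.of (HomogeneousLocalization.Away 𝒜 (ι c))),
      (algebraMap (HomogeneousLocalization.Away 𝒜 (ι c)) (Localization.Away (ι c))).comp θ.hom =
        (Localization.awayMap ι.toRingHom c).comp
          (algebraMap (HomogeneousLocalization.Away 𝒞 c) (Localization.Away c)) →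
      Proj.awayι 𝒜 (ι c) ((hιdeg n (ι c)).mp (Submodule.mem_map_of_mem hc)).1 hn ≫ π =
        Spec.map θ ≫ Proj.awayι 𝒞 c hc hn) :
    SGA1.IsQuot ρ π := by
  have hφ0 : ∀ n c, c ∈ 𝒞 n → ι.toRingHom c ∈ 𝒜 n :=
    fun n c hc => ((hιdeg n (ι c)).mp (Submodule.mem_map_of_mem hc)).1
  have hφinv : ∀ n c, c ∈ 𝒞 n → ∀ s : G, s • ι.toRingHom c = ι.toRingHom c :=
    fun n c hc => ((hιdeg n (ι c)).mp (Submodule.mem_map_of_mem hc)).2
  have hφsurj : ∀ n a, a ∈ 𝒜 n → (∀ s : G, s • a = a) → ∃ c ∈ 𝒞 n, ι.toRingHom c = a := by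
    intro n a ha hinv
    obtain ⟨c, hc, hca⟩ := (hιdeg n a).mpr ⟨ha, hinv⟩
    exact ⟨c, hc, hca⟩
  have hι' : Function.Injective ι.toRingHom := hι
  refine Groth.Agent.Helper6.ProjQuot.isQuot_proj 𝒜 𝒞 hGdeg ι.toRingHom hφ0 hφinv hφsurj hι' ρ π ?_ ?_
  · intro s n f hn hf
    exact hρ s n f hn hf
      (CommRingCat.ofHom (Groth.Agent.Helper6.VeroneseB.theta1 𝒜 𝒜
        (MulSemiringAction.toRingHom G A s) (fun m b hb => hGdeg s m b hb) f (s • f) rfl))
      (Groth.Agent.Helper6.VeroneseB.theta1_compat 𝒜 𝒜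
        (MulSemiringAction.toRingHom G A s) (fun m b hb => hGdeg s m b hb) f)
  · intro n c hn hc
    exact hπ n c hn hc
      (CommRingCat.ofHom (Groth.Agent.Helper6.VeroneseB.theta1 𝒜 𝒞 ι.toRingHom hφ0 c (ι c) rfl))
      (Groth.Agent.Helper6.VeroneseB.theta1_compat 𝒜 𝒞 ι.toRingHom hφ0 c)

end Groth.Agent.S13181
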