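import Groth.Statements.S13184
import Mathlib
-- import your own Groth.Agent.* helpers here

set_option autoImplicit false
universe u
open ZeroCyc

namespace Groth.Agent.S13184

section
open Polynomial IntermediateField

variable {k : Type u} [Field k] (p : ℕ) [Fact p.Prime] [CharP k p]
    {W : Type u} [Field W] [Algebra k W] (e : ℕ)

/-- the generating set of `k^{p^{-e}}` -/
def rootSet (k : Type u) [Field k] (W : Type u) [Field W] [Algebra k W] (p e : ℕ) : Set W := {y : W | y ^ (p ^ e) ∈ Set.range (algebraMap k W)}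

/-- the field `k^{p^{-e}}` -/
noncomputable def Fe (k : Type u) [Field k] (W : Type u) [Field W] [Algebra k W] (p e : ℕ) :
    IntermediateField k W := IntermediateField.adjoin k (rootSet k W p e)

lemma charP_W (k' : Type u) [Field k'] (p' : ℕ) [CharP k' p'] {W' : Type u} [Field W']
    [Algebra k' W'] : CharP W' p' :=
  charP_of_injective_algebraMap (algebraMap k' W').injective p'

lemma mem_Fe_pow (x : W) (hx : x ∈ Fe k W p e) :
    x ^ (p ^ e) ∈ Set.range (algebraMap k W) := by
  haveI : CharP W p := charP_W k p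
  induction hx using IntermediateField.adjoin_induction with
  | mem x hx => exact hx
  | algebraMap x => exact ⟨x ^ (p ^ e), by rw [map_pow]⟩
  | add x y _ _ hx hy =>
    obtain ⟨a, ha⟩ := hx
    obtain ⟨b, hb⟩ := hy
    exact ⟨a + b, by rw [map_add, ha, hb, add_pow_char_pow]⟩
  | inv x _ hx =>
    obtain ⟨a, ha⟩ := hx
    exact ⟨a⁻¹, by rw [map_inv₀, ha, inv_pow]⟩
  | mul x y _ _ hx hy =>
    obtain ⟨a, ha⟩ := hx
    obtain ⟨b, hb⟩ := hy
    exact ⟨a * b, by rw [map_mul, ha, hb, mul_pow]⟩


lemma eval_frob (q : W[X]) (z : W) [ExpChar W p] :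
    (q.map (iterateFrobenius W p e)).eval (z ^ (p ^ e)) = (q.eval z) ^ (p ^ e) := by
  rw [← iterateFrobenius_def (R := W) (p := p) (n := e) (x := z), eval_map, eval₂_at_apply,
    iterateFrobenius_def]

lemma sep_of_pow_sep [IsAlgClosed W] (z : W) (hz : IsSeparable k (z ^ (p ^ e))) :
    IsSeparable (Fe k W p e) z := by
  haveI : CharP W p := charP_W k p
  haveI : ExpChar W p := ExpChar.prime Fact.out
  set g := minpoly k (z ^ (p ^ e)) with hg
  have hgsep : g.Separable := hz
  have hroot : ∀ i, ∃ d : W, d ^ (p ^ e) = algebraMap k W (g.coeff i) := fun i =>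
    IsAlgClosed.exists_pow_nat_eq _ (pow_pos (Nat.Prime.pos Fact.out) e)
  choose d hd using hroot
  have hdF : ∀ i, d i ∈ Fe k W p e := fun i =>
    IntermediateField.subset_adjoin _ _ ⟨g.coeff i, (hd i).symm⟩
  let h : (Fe k W p e)[X] :=
    ∑ i ∈ Finset.range (g.natDegree + 1), C (⟨d i, hdF i⟩ : Fe k W p e) * X ^ i
  have hmap : (h.map (algebraMap (Fe k W p e) W)).map (iterateFrobenius W p e) =
      g.map (algebraMap k W) := by
    conv_rhs => rw [g.as_sum_range_C_mul_X_pow]
    simp only [h, Polynomial.map_sum, Polynomial.map_mul, Polynomial.map_pow, map_C, map_X]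
    refine Finset.sum_congr rfl (fun i _ => ?_)
    congr 2
    rw [iterateFrobenius_def]
    exact hd i
  have hsep : h.Separable := by
    rw [← Polynomial.separable_map (algebraMap (Fe k W p e) W),
      ← Polynomial.separable_map (iterateFrobenius W p e), hmap, Polynomial.separable_map]
    exact hgsep
  have hzero : aeval z h = 0 := by
    have h1 : (aeval z h) ^ (p ^ e) = 0 := by
      rw [aeval_def, ← eval_map, ← eval_frob p e, hmap, eval_map, ← aeval_def]
      exact minpoly.aeval k _
    exact pow_eq_zero_iff (pow_pos (Nat.Prime.pos Fact.out) e).ne' |>.mp h1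
  exact hsep.of_dvd (minpoly.dvd _ _ hzero)


lemma pow_sep_of_sep (z : W) (hz : IsSeparable (Fe k W p e) z) :
    IsSeparable k (z ^ (p ^ e)) := by
  haveI : CharP W p := charP_W k p
  haveI : ExpChar W p := ExpChar.prime Fact.out
  set h := minpoly (Fe k W p e) z with hh
  have hsep : h.Separable := hz
  have hlift : (h.map (algebraMap (Fe k W p e) W)).map (iterateFrobenius W p e) ∈
      Polynomial.lifts (algebraMap k W) := by
    rw [Polynomial.lifts_iff_coeff_lifts]
    intro n
    rw [coeff_map, coeff_map, iterateFrobenius_def]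
    exact mem_Fe_pow p e _ (h.coeff n).2
  rw [Polynomial.mem_lifts] at hlift
  obtain ⟨g, hg⟩ := hlift
  have hgsep : g.Separable := by
    rw [← Polynomial.separable_map (algebraMap k W), hg, Polynomial.separable_map,
      Polynomial.separable_map]
    exact hsep
  have hgz : aeval (z ^ (p ^ e)) g = 0 := by
    rw [aeval_def, ← eval_map, hg, eval_frob, eval_map, ← aeval_def, minpoly.aeval, zero_pow]
    exact (pow_pos (Nat.Prime.pos Fact.out) e).ne'
  exact hgsep.of_dvd (minpoly.dvd _ _ hgz)


theorem main {k : Type u} [Field k] (p : ℕ) [Fact p.Prime] [CharP k p]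
    {K : Type u} [Field K] [Algebra k K] [FiniteDimensional k K]
    {Ω : Type u} [Field Ω] [Algebra k Ω] [Algebra K Ω] [IsScalarTower k K Ω] [IsAlgClosed Ω] (e : ℕ) :
    (∀ x : Ω, x ∈ IntermediateField.adjoin k {y : Ω | y ^ (p ^ e) ∈ Set.range (algebraMap k Ω)} ⊔
        IntermediateField.adjoin k (Set.range (algebraMap K Ω)) →
      IsSeparable (IntermediateField.adjoin k {y : Ω | y ^ (p ^ e) ∈ Set.range (algebraMap k Ω)}) x) ↔
    ∀ x : K, x ^ (p ^ e) ∈ separableClosure k K := by
  constructor
  · intro H x
    rw [mem_separableClosure_iff]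
    have hz : algebraMap K Ω x ∈
        IntermediateField.adjoin k {y : Ω | y ^ (p ^ e) ∈ Set.range (algebraMap k Ω)} ⊔
          IntermediateField.adjoin k (Set.range (algebraMap K Ω)) :=
      (le_sup_right : IntermediateField.adjoin k (Set.range (algebraMap K Ω)) ≤ _)
        (IntermediateField.subset_adjoin _ _ ⟨x, rfl⟩)
    have h1 := pow_sep_of_sep (k := k) p e (algebraMap K Ω x) (H _ hz)
    rw [← map_pow] at h1
    exact h1.tower_bot
  · intro H x hx
    have hle : IntermediateField.adjoin k {y : Ω | y ^ (p ^ e) ∈ Set.range (algebraMap k Ω)} ⊔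
        IntermediateField.adjoin k (Set.range (algebraMap K Ω)) ≤
        (separableClosure (Fe k Ω p e) Ω).restrictScalars k := by
      apply sup_le
      · intro y hy
        change y ∈ separableClosure (Fe k Ω p e) Ω
        exact (separableClosure (Fe k Ω p e) Ω).algebraMap_mem (⟨y, hy⟩ : Fe k Ω p e)
      · rw [IntermediateField.adjoin_le_iff]
        rintro _ ⟨x', rfl⟩
        change algebraMap K Ω x' ∈ separableClosure (Fe k Ω p e) Ω
        rw [mem_separableClosure_iff]
        apply sep_of_pow_sep
        rw [← map_pow]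
        have h2 : IsSeparable k (x' ^ (p ^ e)) := mem_separableClosure_iff.mp (H x')
        exact h2.map (IsScalarTower.toAlgHom k K Ω) (algebraMap K Ω).injective
    have h3 := hle hx
    change x ∈ separableClosure (Fe k Ω p e) Ω at h3
    exact mem_separableClosure_iff.mp h3

end

/-- Let k ⊆ K be a finite extension of fields of characteristic p > 0, viewed inside an algebraically
closed field Ω, and for e ≥ 0 let k^{p^{-e}} ⊆ Ω be the field of elements whose p^e-th power lies in
k. Then the compositum k^{p^{-e}}K is separable over k^{p^{-e}} if and only if x^{p^e} is separable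
over k for every x ∈ K; hence the exponent of K/k (the least n ≥ 1 with K^n separable over k, a
power of p) is the least p^e for which k^{p^{-e}} ⊆ k^{p^{-e}}K is separable. -/
theorem result {k : Type u} [Field k] (p : ℕ) [Fact p.Prime] [CharP k p]
    {K : Type u} [Field K] [Algebra k K] [FiniteDimensional k K]
    {Ω : Type u} [Field Ω] [Algebra k Ω] [Algebra K Ω] [IsScalarTower k K Ω] [IsAlgClosed Ω] (e : ℕ) :
    (∀ x : Ω, x ∈ IntermediateField.adjoin k {y : Ω | y ^ (p ^ e) ∈ Set.range (algebraMap k Ω)} ⊔
        IntermediateField.adjoin k (Set.range (algebraMap K Ω)) →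
      IsSeparable (IntermediateField.adjoin k {y : Ω | y ^ (p ^ e) ∈ Set.range (algebraMap k Ω)}) x) ↔
    ∀ x : K, x ^ (p ^ e) ∈ separableClosure k K := by
  exact Groth.Agent.S13184.main p e

end Groth.Agent.S13184
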