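import Groth.Statements.S13185
import Mathlib
import Groth.Agent.S13264

set_option autoImplicit false
universe u v w x
open GalCoh

namespace Groth.Agent.S13185


theorem result {G : Type u} {A : Type v} {B : Type w} {C : Type x}
    [Group G] [Group A] [Group B] [Group C]
    [MulDistribMulAction G A] [MulDistribMulAction G B] [MulDistribMulAction G C]
    {ι : A →* B} {π : B →* C} (h : GpH1.IsGExt G ι π)
    (c c' : MulAction.fixedPoints G C) :
    GpH1.delta0 h c = GpH1.delta0 h c' ↔
      ∃ b : B, b ∈ MulAction.fixedPoints G B ∧ (c' : C) = π b * (c : C) := by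
  obtain ⟨b, hb⟩ := h.surjective c.1
  obtain ⟨b', hb'⟩ := h.surjective c'.1
  rw [Groth.Agent.S13264.delta0_eq_cl h c b hb, Groth.Agent.S13264.delta0_eq_cl h c' b' hb',
    GpH1.OneCocycle.cl_eq_cl_iff]
  constructor
  · rintro ⟨a, ha⟩
    have key : ∀ σ : G, b⁻¹ * σ • b = (b' * ι a)⁻¹ * σ • (b' * ι a) := by
      intro σ
      have := congrArg ι (ha σ)
      rw [map_mul, map_mul, map_inv, h.smul_ι, h.ι_cocycleOfLift, h.ι_cocycleOfLift] at this
      rw [this, smul_mul', mul_inv_rev]
      group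
    refine ⟨b' * ι a * b⁻¹, ?_, ?_⟩
    · intro σ
      rw [smul_mul', smul_inv']
      have := key σ
      have e : σ • (b' * ι a) = (b' * ι a) * (b⁻¹ * σ • b) := by rw [this]; group
      rw [e]
      group
    · have hιa : π (ι a) = 1 := (h.exact _).mpr ⟨a, rfl⟩
      rw [map_mul, map_mul, map_inv, hιa, hb, hb']
      group
  · rintro ⟨g, hg, hc'⟩
    have hgb : π (g * b) = c' := by rw [map_mul, hb, hc']
    have e1 := Groth.Agent.S13264.cl_eq_of_lifts h b' (g * b) (hb' ▸ c'.2) (hgb ▸ c'.2) (hb'.trans hgb.symm)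
    rw [GpH1.OneCocycle.cl_eq_cl_iff] at e1
    refine GpH1.Cohomologous.trans ?_ e1
    refine ⟨1, fun σ => ?_⟩
    apply h.injective
    rw [smul_one, inv_one, one_mul, mul_one, h.ι_cocycleOfLift, h.ι_cocycleOfLift, smul_mul', hg σ]
    group

end Groth.Agent.S13185
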