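import Groth.Statements.S13186
import Mathlib
import Groth.Agent.Lib.Helper20.H90

set_option autoImplicit false
universe u
open GalCoh

namespace Groth.Agent.S13186

open Matrix in
theorem map_inv_val {K L : Type u} [Field K] [Field L] [Algebra K L] {n : ℕ}
    (σ : L ≃ₐ[K] L) (P : GL (Fin n) L) :
    (P : Matrix (Fin n) (Fin n) L).map σ * ((P⁻¹ : GL (Fin n) L) : Matrix (Fin n) (Fin n) L).map σ = 1 := by
  have h : (P : Matrix (Fin n) (Fin n) L) * ((P⁻¹ : GL (Fin n) L) : Matrix (Fin n) (Fin n) L) = 1 := by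
    rw [← Units.val_mul, mul_inv_cancel, Units.val_one]
  have h2 : ((P : Matrix (Fin n) (Fin n) L) * ((P⁻¹ : GL (Fin n) L) : Matrix (Fin n) (Fin n) L)).map σ =
      (1 : Matrix (Fin n) (Fin n) L).map σ := by rw [h]
  rw [Matrix.map_mul] at h2
  rw [h2]
  ext i j
  simp [Matrix.one_apply, apply_ite]

theorem result (K L : Type u) [Field K] [Field L]
    [Algebra K L] [FiniteDimensional K L] [IsGalois K L] (n : ℕ)
    (B : (L ≃ₐ[K] L) → GL (Fin n) L)
    (hB : ∀ σ τ : L ≃ₐ[K] L,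
      (B σ : Matrix (Fin n) (Fin n) L) * (B τ : Matrix (Fin n) (Fin n) L).map σ =
        (B (σ * τ) : Matrix (Fin n) (Fin n) L))
    (hdet : ∀ σ : L ≃ₐ[K] L, Matrix.det (B σ : Matrix (Fin n) (Fin n) L) = 1) :
    ∃ A : GL (Fin n) L, Matrix.det (A : Matrix (Fin n) (Fin n) L) = 1 ∧ ∀ σ : L ≃ₐ[K] L,
      (B σ : Matrix (Fin n) (Fin n) L) =
        ((A⁻¹ : GL (Fin n) L) : Matrix (Fin n) (Fin n) L) * (A : Matrix (Fin n) (Fin n) L).map σ := by
  classical
  obtain ⟨P, hP⟩ := Groth.Agent.Helper20.H90.exists_GL B (fun σ τ => (hB σ τ).symm)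
  have hBP : ∀ σ : L ≃ₐ[K] L, (B σ : Matrix (Fin n) (Fin n) L) =
      (P : Matrix (Fin n) (Fin n) L) * ((P⁻¹ : GL (Fin n) L) : Matrix (Fin n) (Fin n) L).map σ := by
    intro σ
    have h : (B σ : Matrix (Fin n) (Fin n) L) * (P : Matrix (Fin n) (Fin n) L).map σ *
        ((P⁻¹ : GL (Fin n) L) : Matrix (Fin n) (Fin n) L).map σ =
        (P : Matrix (Fin n) (Fin n) L) * ((P⁻¹ : GL (Fin n) L) : Matrix (Fin n) (Fin n) L).map σ := by
      rw [hP σ]
    rw [Matrix.mul_assoc, map_inv_val, Matrix.mul_one] at h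
    exact h
  rcases n with _ | m
  · refine ⟨1, Matrix.det_isEmpty, fun σ => Subsingleton.elim _ _⟩
  · set d : L := Matrix.det (P : Matrix (Fin (m+1)) (Fin (m+1)) L) with hd
    have hfix : ∀ σ : L ≃ₐ[K] L, σ d = d := by
      intro σ
      have h := congrArg Matrix.det (hP σ)
      rw [Matrix.det_mul, hdet, one_mul] at h
      exact (RingHom.map_det (σ : L →+* L) _).trans h
    have hd0 : d ≠ 0 := by
      have h : (P : Matrix (Fin (m+1)) (Fin (m+1)) L) * ((P⁻¹ : GL (Fin (m+1)) L) : Matrix (Fin (m+1)) (Fin (m+1)) L) = 1 := by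
        rw [← Units.val_mul, mul_inv_cancel, Units.val_one]
      have h2 := congrArg Matrix.det h
      rw [Matrix.det_mul, Matrix.det_one] at h2
      exact left_ne_zero_of_mul_eq_one h2
    have hdinv : Matrix.det ((P⁻¹ : GL (Fin (m+1)) L) : Matrix (Fin (m+1)) (Fin (m+1)) L) = d⁻¹ := by
      have h : (P : Matrix (Fin (m+1)) (Fin (m+1)) L) * ((P⁻¹ : GL (Fin (m+1)) L) : Matrix (Fin (m+1)) (Fin (m+1)) L) = 1 := by
        rw [← Units.val_mul, mul_inv_cancel, Units.val_one]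
      have h2 := congrArg Matrix.det h
      rw [Matrix.det_mul, Matrix.det_one] at h2
      exact eq_inv_of_mul_eq_one_right h2
    let v : Fin (m+1) → L := Function.update (fun _ => (1 : L)) 0 d
    let D : Matrix (Fin (m+1)) (Fin (m+1)) L := Matrix.diagonal v
    have hDdet : D.det = d := by
      rw [Matrix.det_diagonal, Finset.prod_update_of_mem (Finset.mem_univ _)]
      simp
    have hDmap : ∀ σ : L ≃ₐ[K] L, D.map σ = D := by
      intro σ
      rw [Matrix.diagonal_map (map_zero σ)]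
      congr 1
      funext i
      by_cases hi : i = 0
      · subst hi; simp [v, hfix]
      · simp [v, Function.update_of_ne hi]
    let Du : GL (Fin (m+1)) L := Matrix.GeneralLinearGroup.mkOfDetNeZero D (by rw [hDdet]; exact hd0)
    have hDu : (Du : Matrix (Fin (m+1)) (Fin (m+1)) L) = D := rfl
    refine ⟨Du * P⁻¹, ?_, fun σ => ?_⟩
    · rw [Units.val_mul, Matrix.det_mul, hDu, hDdet, hdinv, mul_inv_cancel₀ hd0]
    · rw [mul_inv_rev, inv_inv, Units.val_mul, Units.val_mul, hDu, Matrix.map_mul, hDmap, hBP σ]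
      have h : ((Du⁻¹ : GL (Fin (m+1)) L) : Matrix (Fin (m+1)) (Fin (m+1)) L) * D = 1 := by
        rw [← hDu, ← Units.val_mul, inv_mul_cancel, Units.val_one]
      rw [Matrix.mul_assoc, ← Matrix.mul_assoc _ D, h, Matrix.one_mul]

end Groth.Agent.S13186
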