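import Groth.Statements.S13189
import Mathlib

set_option autoImplicit false
universe u
open CAlg

namespace Groth.Agent.S13189

/-- For a finite field K of cardinality q and n ≥ 0, a polynomial p in n variables over K vanishes at
every point of K^n if and only if p belongs to the ideal generated by the X_i^q − X_i, i = 1, …, n;
in other words that ideal is the kernel of the evaluation homomorphism from K[X_1, …, X_n] to the
ring of K-valued functions on K^n. -/
theorem result (K : Type u) [Field K] [Fintype K]
    (n : ℕ) (p : MvPolynomial (Fin n) K) :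
    (∀ a : Fin n → K, MvPolynomial.eval a p = 0) ↔
      p ∈ Ideal.span (Set.range fun i : Fin n =>
        (MvPolynomial.X i ^ Fintype.card K - MvPolynomial.X i : MvPolynomial (Fin n) K)) := by
  classical
  have hq2 : 2 ≤ Fintype.card K := Fintype.one_lt_card
  set q := Fintype.card K with hq
  set I : Ideal (MvPolynomial (Fin n) K) := Ideal.span (Set.range fun i : Fin n =>
        (MvPolynomial.X i ^ q - MvPolynomial.X i : MvPolynomial (Fin n) K)) with hI
  have hI_eval : ∀ f ∈ I, ∀ a : Fin n → K, MvPolynomial.eval a f = 0 := by
    intro f hf a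
    have hle : I ≤ RingHom.ker (MvPolynomial.eval a) := by
      rw [hI, Ideal.span_le]
      rintro _ ⟨i, rfl⟩
      simp only [SetLike.mem_coe, RingHom.mem_ker, map_sub, map_pow, MvPolynomial.eval_X]
      rw [hq, FiniteField.pow_card, sub_self]
    exact hle hf
  have hpow : ∀ (i : Fin n) (e : ℕ), ∃ e' ≤ q - 1,
      (MvPolynomial.X i ^ e - MvPolynomial.X i ^ e' : MvPolynomial (Fin n) K) ∈ I := by
    intro i e
    induction e using Nat.strong_induction_on with
    | _ e ih =>
      by_cases he : e ≤ q - 1
      · exact ⟨e, he, by simp⟩
      · push_neg at he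
        have he' : q ≤ e := by omega
        obtain ⟨e', he'1, he'2⟩ := ih (e - q + 1) (by omega)
        refine ⟨e', he'1, ?_⟩
        have h1 : (MvPolynomial.X i ^ e - MvPolynomial.X i ^ (e - q + 1) :
            MvPolynomial (Fin n) K) ∈ I := by
          have : (MvPolynomial.X i ^ e - MvPolynomial.X i ^ (e - q + 1) : MvPolynomial (Fin n) K)
              = MvPolynomial.X i ^ (e - q) * (MvPolynomial.X i ^ q - MvPolynomial.X i) := by
            rw [mul_sub, ← pow_add, ← pow_succ]
            congr 2; omega
          rw [this]
          exact Ideal.mul_mem_left _ _ (Ideal.subset_span ⟨i, rfl⟩)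
        have := Ideal.add_mem _ h1 he'2
        rw [sub_add_sub_cancel] at this
        exact this
  have hmono : ∀ (s : Fin n →₀ ℕ) (c : K),
      ∃ r ∈ MvPolynomial.restrictDegree (Fin n) K (q - 1),
      (MvPolynomial.monomial s c - r) ∈ I := by
    intro s c
    choose e' he'1 he'2 using fun i => hpow i (s i)
    let s' : Fin n →₀ ℕ := Finsupp.equivFunOnFinite.symm e'
    have hs' : ∀ i, s' i = e' i := fun i => rfl
    refine ⟨MvPolynomial.monomial s' c, ?_, ?_⟩
    · rw [MvPolynomial.mem_restrictDegree]
      intro t ht i
      have : t = s' := by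
        have := MvPolynomial.support_monomial_subset ht
        simpa using this
      rw [this, hs']; exact he'1 i
    · rw [← Ideal.Quotient.eq]
      rw [MvPolynomial.monomial_eq, MvPolynomial.monomial_eq, map_mul, map_mul]
      congr 1
      rw [Finsupp.prod_fintype _ _ (by simp), Finsupp.prod_fintype _ _ (by simp), map_prod,
        map_prod]
      refine Finset.prod_congr rfl fun i _ => ?_
      rw [Ideal.Quotient.eq, hs']
      exact he'2 i
  have hred : ∀ p : MvPolynomial (Fin n) K,
      ∃ r ∈ MvPolynomial.restrictDegree (Fin n) K (q - 1), p - r ∈ I := by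
    intro p
    induction p using MvPolynomial.induction_on' with
    | monomial s c => exact hmono s c
    | add p1 p2 h1 h2 =>
      obtain ⟨r1, hr1, h1⟩ := h1
      obtain ⟨r2, hr2, h2⟩ := h2
      refine ⟨r1 + r2, Submodule.add_mem _ hr1 hr2, ?_⟩
      have := Ideal.add_mem _ h1 h2
      convert this using 1; ring
  constructor
  · intro h
    obtain ⟨r, hr, hpr⟩ := hred p
    have hr0 : r = 0 := by
      let f : Fin n → ULift.{u} (Fin n) := ULift.up
      have hf : Function.Injective f := ULift.up_injective
      have h1 : MvPolynomial.rename f r = 0 := by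
        apply MvPolynomial.eq_zero_of_eval_eq_zero (ULift.{u} (Fin n)) K
        · intro v
          rw [MvPolynomial.eval_rename]
          have := hI_eval _ hpr (v ∘ f)
          rw [map_sub, h (v ∘ f), zero_sub, neg_eq_zero] at this
          exact this
        · rw [MvPolynomial.mem_restrictDegree]
          intro t ht i
          rw [MvPolynomial.support_rename_of_injective hf] at ht
          obtain ⟨t0, ht0, rfl⟩ := Finset.mem_image.mp ht
          obtain ⟨i0⟩ := i
          rw [show (ULift.up i0 : ULift.{u} (Fin n)) = f i0 from rfl, Finsupp.mapDomain_apply hf]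
          exact ((MvPolynomial.mem_restrictDegree _ _ _).mp hr) t0 ht0 i0
      exact MvPolynomial.rename_injective f hf (by rw [h1, map_zero])
    rw [hr0, sub_zero] at hpr
    exact hpr
  · intro h a; exact hI_eval p h a

end Groth.Agent.S13189
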