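import Groth.Statements.S13191
import Mathlib

set_option autoImplicit false
universe u v w x
open GalCoh

namespace Groth.Agent.S13191


theorem result {G : Type u} {A : Type v} {E : Type w} {E' : Type x}
    [Group G] [Group A] [MulDistribMulAction G A]
    [MulAction G E] [MulAction Aᵐᵒᵖ E]
    (hfree : ∀ m₁ m₂ : E, ∃! a : A, m₂ = MulOpposite.op a • m₁)
    (hcompat : ∀ (g : G) (a : A) (m : E), g • (MulOpposite.op a • m) = MulOpposite.op (g • a) • g • m)
    [MulAction G E'] [MulAction Aᵐᵒᵖ E']
    (hfree' : ∀ m₁ m₂ : E', ∃! a : A, m₂ = MulOpposite.op a • m₁)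
    (hcompat' : ∀ (g : G) (a : A) (m : E'), g • (MulOpposite.op a • m) = MulOpposite.op (g • a) • g • m)
    (m : E) (a : G → A) (ha : ∀ g : G, g • m = MulOpposite.op (a g) • m)
    (m' : E') (a' : G → A) (ha' : ∀ g : G, g • m' = MulOpposite.op (a' g) • m') :
    (∃ f : E ≃ E', (∀ (g : G) (e : E), f (g • e) = g • f e) ∧
        ∀ (b : A) (e : E), f (MulOpposite.op b • e) = MulOpposite.op b • f e) ↔
      GpH1.Cohomologous a a' := by
  constructor
  · rintro ⟨f, hfG, hfA⟩
    obtain ⟨c, hc, -⟩ := hfree' m' (f m)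
    refine ⟨c, fun g => ?_⟩
    have h1 : g • f m = MulOpposite.op (c * a g) • m' := by
      rw [← hfG, ha g, hfA, hc, ← mul_smul, ← MulOpposite.op_mul]
    have h2 : g • f m = MulOpposite.op (a' g * g • c) • m' := by
      rw [hc, hcompat', ha' g, ← mul_smul, ← MulOpposite.op_mul]
    have := (hfree' m' (g • f m)).unique h1 h2
    rw [mul_assoc, ← this]
    group
  · rintro ⟨c, hc⟩
    have hc2 : ∀ g : G, c * a g = a' g * g • c := by
      intro g
      rw [hc g]
      group
    choose x hx hxu using fun e => hfree m e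
    choose x' hx' hxu' using fun e' => hfree' m' e'
    have hxop : ∀ b : A, x (MulOpposite.op b • m) = b := fun b => (hxu _ b rfl).symm
    have hxop' : ∀ b : A, x' (MulOpposite.op b • m') = b := fun b => (hxu' _ b rfl).symm
    have hxb : ∀ (b : A) (e : E), x (MulOpposite.op b • e) = x e * b := by
      intro b e
      symm
      apply hxu
      conv_lhs => rw [hx e]
      rw [← mul_smul, ← MulOpposite.op_mul]
    have hxg : ∀ (g : G) (e : E), x (g • e) = a g * g • x e := by
      intro g e
      symm
      apply hxu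
      conv_lhs => rw [hx e]
      rw [hcompat, ha g, ← mul_smul, ← MulOpposite.op_mul]
    refine ⟨⟨fun e => MulOpposite.op (c * x e) • m', fun e' => MulOpposite.op (c⁻¹ * x' e') • m, ?_, ?_⟩, ?_, ?_⟩
    · intro e
      simp only
      rw [hxop', inv_mul_cancel_left, ← hx e]
    · intro e'
      simp only
      rw [hxop, mul_inv_cancel_left, ← hx' e']
    · intro g e
      show MulOpposite.op (c * x (g • e)) • m' = g • (MulOpposite.op (c * x e) • m')
      rw [hcompat', ha' g, ← mul_smul, ← MulOpposite.op_mul, hxg, smul_mul', ← mul_assoc, hc2 g, mul_assoc]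
    · intro b e
      show MulOpposite.op (c * x (MulOpposite.op b • e)) • m' = MulOpposite.op b • (MulOpposite.op (c * x e) • m')
      rw [hxb, ← mul_smul, ← MulOpposite.op_mul, mul_assoc]

end Groth.Agent.S13191
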