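import Groth.Statements.S13192
import Mathlib

set_option autoImplicit false
universe u v
open GalCoh

namespace Groth.Agent.S13192

section
variable {G : Type u} {A : Type v} [Group G] [Group A] [MulDistribMulAction G A]

theorem cocycle_one (a : G → A) (ha : GpH1.IsOneCocycle a) : a 1 = 1 := by
  have := ha 1 1
  rw [mul_one, one_smul] at this
  exact (mul_eq_left.mp this.symm)

@[reducible] def twAction (a : G → A) (ha : GpH1.IsOneCocycle a) : MulAction G A where
  smul g e := a g * g • e
  one_smul e := by
    show a 1 * (1 : G) • e = e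
    rw [cocycle_one a ha, one_smul, one_mul]
  mul_smul g h e := by
    show a (g * h) * (g * h) • e = a g * g • (a h * h • e)
    rw [ha g h, mul_smul, smul_mul', mul_assoc]

theorem twAction_smul (a : G → A) (ha : GpH1.IsOneCocycle a) (g : G) (e : A) :
    (twAction a ha).smul g e = a g * g • e := rfl
end


theorem result {G : Type u} {A : Type v}
    [Group G] [Group A] [MulDistribMulAction G A] (a : G → A) (ha : GpH1.IsOneCocycle a) :
    ∃ (E : Type v) (_ : MulAction G E) (_ : MulAction Aᵐᵒᵖ E) (m : E),
      (∀ m₁ m₂ : E, ∃! b : A, m₂ = MulOpposite.op b • m₁) ∧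
      (∀ (g : G) (b : A) (e : E), g • (MulOpposite.op b • e) = MulOpposite.op (g • b) • g • e) ∧
      ∀ g : G, g • m = MulOpposite.op (a g) • m := by
  refine ⟨A, twAction a ha, Monoid.toOppositeMulAction, (1 : A), ?_, ?_, ?_⟩
  · intro m₁ m₂
    refine ⟨m₁⁻¹ * m₂, ?_, ?_⟩
    · show m₂ = m₁ * (m₁⁻¹ * m₂)
      rw [mul_inv_cancel_left]
    · intro b hb
      have hb' : m₂ = m₁ * b := hb
      rw [hb', inv_mul_cancel_left]
  · intro g b e
    show a g * g • (e * b) = (a g * g • e) * (g • b)
    rw [smul_mul', mul_assoc]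
  · intro g
    show a g * g • (1 : A) = 1 * a g
    rw [smul_one, mul_one, one_mul]

end Groth.Agent.S13192
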