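import Groth.Statements.S13200
import Groth.Agent.Lib.Helper1.EX1

set_option autoImplicit false
universe u
open Hensel

namespace Groth.Agent.S13200

/-- Let R be an excellent local ring which is strictly henselian (henselian with separably closed
residue field), and let R^ denote its completion at the maximal ideal. An element Δ of R is a prime
element of R exactly when its image in R^ is a prime element of R^. -/
theorem result
    (R : Type u) [CommRing R] [HenselianLocalRing R] [IsSepClosed (IsLocalRing.ResidueField R)]
    (hR : EGA4.IsExcellent R) (Δ : R) :
    Prime Δ ↔ Prime (algebraMap R (AdicCompletion (IsLocalRing.maximalIdeal R) R) Δ) := by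
  haveI := hR.1
  exact Groth.Agent.Helper1.EX.prime_iff_prime_cpl R
    (Groth.Agent.Helper1.EX.hasGeomNormalFormalFibres_of_isGRing R hR.2.2.1) Δ

end Groth.Agent.S13200
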