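import Groth.Statements.S13206
import Groth.Agent.Lib.Helper23.FixPt

set_option autoImplicit false
universe u
open CategoryTheory AlgebraicGeometry
open AlgGrp

namespace Groth.Agent.S13206

/-- Let X → S be a separated morphism of schemes and let a finite group G act on X through
S-automorphisms. Then the functor of G-fixed points is represented by a closed subscheme of X: there
are a scheme Z and a closed immersion i : Z → X with i ∘ g = i for all g ∈ G such that every
morphism x : T → X with g ∘ x = x for all g ∈ G factors uniquely through i. (The published statement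
is for an algebraic space X over S, also treats the locally separated case and notes compatibility
with base change; this row is the separated case for schemes.) -/
theorem result
    {X S : Scheme.{u}} (p : X ⟶ S) [IsSeparated p]
    (G : Type u) [Group G] [Finite G] (ρ : G →* Aut X) (hρ : ∀ g : G, (ρ g).hom ≫ p = p) :
    ∃ (Z : Scheme.{u}) (i : Z ⟶ X), IsClosedImmersion i ∧ (∀ g : G, i ≫ (ρ g).hom = i) ∧
      ∀ (T : Scheme.{u}) (x : T ⟶ X), (∀ g : G, x ≫ (ρ g).hom = x) → ∃! z : T ⟶ Z, z ≫ i = x := by
  classical
  haveI : Fintype G := Fintype.ofFinite G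
  obtain ⟨Z, i, hi, hfix, huniv⟩ := Groth.Agent.Helper23.FixPt.exists_fix p
    (fun g : G => (ρ g).hom) hρ Finset.univ
  refine ⟨Z, i, hi, fun g => hfix g (Finset.mem_univ g), ?_⟩
  intro T x hx
  obtain ⟨z, hz⟩ := huniv T x (fun g _ => hx g)
  refine ⟨z, hz, ?_⟩
  intro z' hz'
  haveI : Mono i := inferInstance
  exact (cancel_mono i).1 (hz'.trans hz.symm)

end Groth.Agent.S13206
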