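import Groth.Statements.S13358
import Groth.Agent.Lib.Helper22.GaCoc4

set_option autoImplicit false
universe u
open GaDual

namespace Groth.Agent.S13358

/-- Over a commutative algebra R of prime characteristic p, a polynomial F(X,Y) is symmetric and
satisfies the two-cocycle identity F(X,Y+Z) + F(Y,Z) − F(X+Y,Z) − F(X,Y) = 0 if and only if it has
the form G(X+Y) − G(X) − G(Y) + Σ_i r_i S(X^(p^i), Y^(p^i)) with G a one-variable polynomial, r_i in
R and S(X,Y) = Σ_{0<j<p} (C(p,j)/p) X^j Y^(p−j) the reduction mod p of ((X+Y)^p − X^p − Y^p)/p. -/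
theorem result (p : ℕ) [Fact p.Prime] (R : Type u) [CommRing R] [CharP R p]
    (F : MvPolynomial (Fin 2) R) :
    (MvPolynomial.aeval ![MvPolynomial.X 1, MvPolynomial.X 0] F = F ∧
      MvPolynomial.aeval ![MvPolynomial.X 0, MvPolynomial.X 1 + MvPolynomial.X 2] F
          + MvPolynomial.aeval ![MvPolynomial.X 1, MvPolynomial.X 2] F
          - MvPolynomial.aeval ![MvPolynomial.X 0 + MvPolynomial.X 1, MvPolynomial.X 2] F
          - MvPolynomial.aeval ![MvPolynomial.X 0, MvPolynomial.X 1] F = (0 : MvPolynomial (Fin 3) R)) ↔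
      ∃ (G : Polynomial R) (N : ℕ) (r : ℕ → R),
        F = Polynomial.aeval (MvPolynomial.X 0 + MvPolynomial.X 1 : MvPolynomial (Fin 2) R) G
              - Polynomial.aeval (MvPolynomial.X 0 : MvPolynomial (Fin 2) R) G
              - Polynomial.aeval (MvPolynomial.X 1 : MvPolynomial (Fin 2) R) G
            + ∑ i ∈ Finset.range N, MvPolynomial.C (r i) *
                MvPolynomial.aeval ![MvPolynomial.X 0 ^ p ^ i, MvPolynomial.X 1 ^ p ^ i]
                  (∑ j ∈ Finset.Ioo 0 p, MvPolynomial.C ((p.choose j / p : ℕ) : R) *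
                    MvPolynomial.X 0 ^ j * MvPolynomial.X 1 ^ (p - j) : MvPolynomial (Fin 2) R) := by
  constructor
  · rintro ⟨hs, hc⟩
    obtain ⟨G, N, r, -, -, hF⟩ := Groth.Agent.Helper22.GaCoc.lazard p (⊤ : Ideal R) F.totalDegree F rfl hs
      (by rw [Groth.Agent.Helper22.GaCoc.cocL_apply]; exact hc) (by rw [Ideal.map_top]; trivial)
    refine ⟨G, N, r, ?_⟩
    rw [hF, Groth.Agent.Helper22.GaCoc.delL_apply]; rfl
  · rintro ⟨G, N, r, hF⟩
    have hF' : F = Groth.Agent.Helper22.GaCoc.delL G + ∑ i ∈ Finset.range N,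
        MvPolynomial.C (r i) * Groth.Agent.Helper22.GaCoc.Sq p (p ^ i) := by
      rw [hF, Groth.Agent.Helper22.GaCoc.delL_apply]; rfl
    constructor
    · show Groth.Agent.Helper22.GaCoc.sw F = F
      rw [hF', map_add, Groth.Agent.Helper22.GaCoc.sw_delL, map_sum]
      congr 1
      apply Finset.sum_congr rfl
      intro i _
      rw [map_mul, Groth.Agent.Helper22.GaCoc.sw_Sq, MvPolynomial.algHom_C,
        MvPolynomial.algebraMap_eq]
    · rw [← Groth.Agent.Helper22.GaCoc.cocL_apply, hF', map_add,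
        Groth.Agent.Helper22.GaCoc.cocL_delL, map_sum, zero_add]
      apply Finset.sum_eq_zero
      intro i _
      rw [MvPolynomial.C_mul', map_smul, Groth.Agent.Helper22.GaCoc.cocL_Sq, smul_zero]

end Groth.Agent.S13358
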