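import Groth.Statements.S13359
import Mathlib
import Groth.Agent.Lib.Helper20.PiLoc

set_option autoImplicit false
universe u
open UltraProd

namespace Groth.Agent.S13359


theorem result {ι : Type u} [Nonempty ι] (R : ι → Type u)
    [∀ i, CommRing (R i)] [∀ i, IsDomain (R i)] [∀ i, IsIntegrallyClosed (R i)]
    (P : Ideal (∀ i, R i)) [P.IsPrime] :
    IsDomain (Localization.AtPrime P) ∧ IsIntegrallyClosed (Localization.AtPrime P) := by
  exact ⟨Groth.Agent.Helper20.PiLoc.isDomain P, Groth.Agent.Helper20.PiLoc.isIntegrallyClosed P⟩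

end Groth.Agent.S13359
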