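import Groth.Statements.S13360
import Mathlib
import Groth.Agent.Lib.Helper20.PiLoc

set_option autoImplicit false
universe u
open UltraProd

namespace Groth.Agent.S13360


theorem result {ι : Type u} [Nonempty ι] (R : ι → Type u)
    [∀ i, CommRing (R i)] [∀ i, IsDomain (R i)] [∀ i, ValuationRing (R i)]
    (P : Ideal (∀ i, R i)) [P.IsPrime] :
    IsDomain (Localization.AtPrime P) ∧ PreValuationRing (Localization.AtPrime P) := by
  refine ⟨Groth.Agent.Helper20.PiLoc.isDomain P, ⟨fun a b => ?_⟩⟩
  obtain ⟨⟨x, s⟩, rfl⟩ := IsLocalization.mk'_surjective P.primeCompl a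
  obtain ⟨⟨y, t⟩, rfl⟩ := IsLocalization.mk'_surjective P.primeCompl b
  simp only
  have hdiv : ∀ i, ∃ w : R i, x i * w = y i ∨ y i * w = x i := fun i => ValuationRing.cond (x i) (y i)
  choose w hw using hdiv
  let S : Set ι := {i | x i * w i = y i}
  rcases Groth.Agent.Helper20.PiLoc.ind_or_compl P S with hS | hS
  · refine ⟨IsLocalization.mk' _ (w * s) t, Or.inl ?_⟩
    rw [IsLocalization.eq_mk'_iff_mul_eq, mul_assoc, IsLocalization.mk'_spec, map_mul, ← mul_assoc,
      mul_comm _ (algebraMap _ _ w), mul_assoc, IsLocalization.mk'_spec, ← map_mul]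
    apply Groth.Agent.Helper20.PiLoc.algebraMap_eq_of_eqOn P hS
    intro i hi
    simp only [Pi.mul_apply]
    rw [mul_comm]
    exact hi
  · refine ⟨IsLocalization.mk' _ (w * t) s, Or.inr ?_⟩
    rw [IsLocalization.eq_mk'_iff_mul_eq, mul_assoc, IsLocalization.mk'_spec, map_mul, ← mul_assoc,
      mul_comm _ (algebraMap _ _ w), mul_assoc, IsLocalization.mk'_spec, ← map_mul]
    apply Groth.Agent.Helper20.PiLoc.algebraMap_eq_of_eqOn P hS
    intro i hi
    simp only [Pi.mul_apply]
    rw [mul_comm]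
    rcases hw i with h | h
    · exact absurd h hi
    · exact h

end Groth.Agent.S13360
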