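import Groth.Statements.S13361
import Mathlib

set_option autoImplicit false
universe u
open ProCompl

namespace Groth.Agent.S13361


theorem result {A : Type u} [AddCommGroup A] [Finite A]
    (a : A) (ha : a ≠ 0) (h : ∀ B : AddSubgroup A, B ≠ ⊥ → a ∈ B) :
    ∃ p n : ℕ, p.Prime ∧ Nonempty (A ≃+ ZMod (p ^ n)) := by
  classical
  obtain ⟨ι, _, p, hp, e, ⟨φ⟩⟩ := AddCommGroup.equiv_directSum_zmod_of_finite A
  let ψ : A ≃+ ∀ i, ZMod (p i ^ e i) := φ.trans (DirectSum.addEquivProd _)
  have hx : ψ a ≠ 0 := by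
    intro h0
    apply ha
    have := congrArg ψ.symm h0
    simpa using this
  obtain ⟨i, hi⟩ : ∃ i, ψ a i ≠ 0 := by
    by_contra hcon
    push Not at hcon
    exact hx (funext hcon)
  have hsub : ∀ j, j ≠ i → Subsingleton (ZMod (p j ^ e j)) := by
    intro j hji
    by_contra hns
    rw [not_subsingleton_iff_nontrivial] at hns
    obtain ⟨y, hy⟩ := exists_ne (0 : ZMod (p j ^ e j))
    have hne : AddSubgroup.zmultiples (ψ.symm (Pi.single j y)) ≠ ⊥ := by
      rw [Ne, AddSubgroup.zmultiples_eq_bot]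
      intro h0
      have h1 := congrArg ψ h0
      rw [AddEquiv.apply_symm_apply, map_zero] at h1
      have h2 := congrFun h1 j
      rw [Pi.single_eq_same] at h2
      exact hy h2
    obtain ⟨k, hk⟩ := AddSubgroup.mem_zmultiples_iff.mp (h _ hne)
    apply hi
    rw [← hk, map_zsmul, AddEquiv.apply_symm_apply, Pi.smul_apply, Pi.single_eq_of_ne hji.symm, smul_zero]
  let f : A →+ ZMod (p i ^ e i) := (Pi.evalAddMonoidHom _ i).comp ψ.toAddMonoidHom
  have hf : ∀ x, f x = ψ x i := fun x => rfl
  have hinj : Function.Injective f := by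
    rw [injective_iff_map_eq_zero]
    intro x hfx
    apply ψ.injective
    rw [map_zero]
    funext j
    by_cases hji : j = i
    · subst hji
      exact hfx
    · haveI := hsub j hji
      exact Subsingleton.elim _ _
  have hsurj : Function.Surjective f := by
    intro y
    refine ⟨ψ.symm (Pi.single i y), ?_⟩
    rw [hf, AddEquiv.apply_symm_apply, Pi.single_eq_same]
  exact ⟨p i, e i, hp i, ⟨AddEquiv.ofBijective f ⟨hinj, hsurj⟩⟩⟩

end Groth.Agent.S13361
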