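import Groth.Statements.S13362
import Mathlib

set_option autoImplicit false
universe u
open ProCompl

namespace Groth.Agent.S13362

section
variable {A : Type u} [AddCommGroup A]

theorem torsion_prime_subset (a : A) (ha : a ≠ 0) (h : ∀ B : AddSubgroup A, B ≠ ⊥ → a ∈ B)
    (q : ℕ) (hq : q.Prime) : {x : A | q • x = 0} ⊆ (AddSubgroup.zmultiples a : Set A) := by
  intro x hx
  have hx' : q • x = 0 := hx
  by_cases hx0 : x = 0
  · rw [hx0]
    exact (AddSubgroup.zmultiples a).zero_mem
  · have hne : AddSubgroup.zmultiples x ≠ ⊥ := by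
      rw [Ne, AddSubgroup.zmultiples_eq_bot]
      exact hx0
    obtain ⟨k, hk⟩ := AddSubgroup.mem_zmultiples_iff.mp (h _ hne)
    by_cases hdvd : (q : ℤ) ∣ k
    · obtain ⟨k', rfl⟩ := hdvd
      have : a = 0 := by
        rw [← hk, mul_comm, mul_smul, natCast_zsmul, hx', smul_zero]
      exact absurd this ha
    · have hcop : IsCoprime (q : ℤ) k :=
        (Nat.prime_iff_prime_int.mp hq).irreducible.coprime_iff_not_dvd.mpr hdvd
      obtain ⟨u, v, huv⟩ := hcop
      rw [SetLike.mem_coe, AddSubgroup.mem_zmultiples_iff]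
      refine ⟨v, ?_⟩
      have : x = (u * q + v * k) • x := by rw [huv, one_smul]
      rw [add_smul, mul_smul, mul_smul, natCast_zsmul, hx', smul_zero, zero_add, hk] at this
      exact this.symm

theorem torsion_finite (a : A) (ha : a ≠ 0) (hfin : IsOfFinAddOrder a) (h : ∀ B : AddSubgroup A, B ≠ ⊥ → a ∈ B)
    (n : ℕ) (hn : 0 < n) : {x : A | n • x = 0}.Finite := by
  induction n using Nat.strong_induction_on with
  | _ n ih =>
    by_cases h1 : n = 1
    · subst h1
      have : {x : A | 1 • x = 0} = {0} := by
        ext x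
        simp
      rw [this]
      exact Set.finite_singleton 0
    · obtain ⟨q, hq, hqn⟩ := Nat.exists_prime_and_dvd h1
      obtain ⟨m, rfl⟩ := hqn
      have hm : 0 < m := Nat.pos_of_mul_pos_left hn
      have hmlt : m < q * m := by
        have := hq.one_lt
        nlinarith
      have hs : {y : A | q • y = 0}.Finite :=
        (finite_zmultiples.mpr hfin).subset (torsion_prime_subset a ha h q hq)
      have : {x : A | (q * m) • x = 0} = (fun x : A => m • x) ⁻¹' {y : A | q • y = 0} := by
        ext x
        simp [mul_smul]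
      rw [this]
      apply Set.Finite.preimage' hs
      intro b _
      by_cases hemp : ((fun x : A => m • x) ⁻¹' {b}) = ∅
      · rw [hemp]
        exact Set.finite_empty
      · obtain ⟨x₀, hx₀⟩ := Set.nonempty_iff_ne_empty.mpr hemp
        have hx₀' : m • x₀ = b := hx₀
        apply ((ih m hmlt hm).image (fun z => x₀ + z)).subset
        intro x hx
        have hx' : m • x = b := hx
        refine ⟨x - x₀, ?_, by simp⟩
        show m • (x - x₀) = 0
        rw [smul_sub, hx', hx₀', sub_self]
end


theorem result {A : Type u} [AddCommGroup A]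
    (hA : AddMonoid.exponent A ≠ 0) (a : A) (ha : a ≠ 0) (h : ∀ B : AddSubgroup A, B ≠ ⊥ → a ∈ B) :
    Finite A := by
  have hfin : IsOfFinAddOrder a := by
    rw [isOfFinAddOrder_iff_nsmul_eq_zero]
    exact ⟨AddMonoid.exponent A, Nat.pos_of_ne_zero hA, AddMonoid.exponent_nsmul_eq_zero a⟩
  have := torsion_finite a ha hfin h (AddMonoid.exponent A) (Nat.pos_of_ne_zero hA)
  have huniv : {x : A | AddMonoid.exponent A • x = 0} = Set.univ := by
    ext x
    simp [AddMonoid.exponent_nsmul_eq_zero]
  rw [huniv] at this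
  exact Set.finite_univ_iff.mp this

end Groth.Agent.S13362
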