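import Groth.Statements.S13363
import Mathlib
import Groth.Agent.S13362

set_option autoImplicit false
universe u
open ProCompl

namespace Groth.Agent.S13363


theorem result {A : Type u} [AddCommGroup A]
    [TopologicalSpace A] [IsTopologicalAddGroup A]
    (hn : ∀ n : ℕ, 0 < n → IsOpen (Set.range (fun x : A => n • x))) (a : A) :
    (∃ B : AddSubgroup A, IsOpen (B : Set A) ∧ B.FiniteIndex ∧ a ∉ B) ↔
      ¬ (∀ n : ℕ, 0 < n → ∃ b : A, n • b = a) := by
  constructor
  · rintro ⟨B, _, hBfin, haB⟩ hdiv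
    have hidx : B.index ≠ 0 := hBfin.index_ne_zero
    obtain ⟨b, hb⟩ := hdiv B.index (Nat.pos_of_ne_zero hidx)
    apply haB
    rw [← hb]
    exact B.nsmul_index_mem b
  · intro hnd
    push Not at hnd
    obtain ⟨n, hn0, hna⟩ := hnd
    set C₀ : AddSubgroup A := (nsmulAddMonoidHom n : A →+ A).range with hC₀
    have hC₀open : IsOpen (C₀ : Set A) := by
      have := hn n hn0
      convert this using 1
      ext x
      simp [hC₀, AddMonoidHom.mem_range]
    have haC₀ : a ∉ C₀ := by
      rintro ⟨b, hb⟩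
      exact hna b hb
    let s : Set (AddSubgroup A) := {M | C₀ ≤ M ∧ a ∉ M}
    have hC₀s : C₀ ∈ s := ⟨le_rfl, haC₀⟩
    obtain ⟨M, _, hMmax⟩ := zorn_le_nonempty₀ s (by
      intro c hcs hchain y hy
      refine ⟨sSup c, ⟨?_, ?_⟩, fun z hz => le_sSup hz⟩
      · exact le_trans (hcs hy).1 (le_sSup hy)
      · intro hmem
        rw [AddSubgroup.mem_sSup_of_directedOn ⟨y, hy⟩ hchain.directedOn] at hmem
        obtain ⟨M', hM'c, haM'⟩ := hmem
        exact (hcs hM'c).2 haM') C₀ hC₀s
    have hMs : M ∈ s := hMmax.prop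
    have hMopen : IsOpen (M : Set A) := AddSubgroup.isOpen_mono hMs.1 hC₀open
    refine ⟨M, hMopen, ?_, hMs.2⟩
    have hexp : AddMonoid.exponent (A ⧸ M) ≠ 0 := by
      rw [AddMonoid.exponent_ne_zero]
      refine ⟨n, hn0, fun g => ?_⟩
      induction g using QuotientAddGroup.induction_on with
      | H x =>
        rw [← QuotientAddGroup.mk_nsmul, QuotientAddGroup.eq_zero_iff]
        exact hMs.1 ⟨x, rfl⟩
    have ha0 : (QuotientAddGroup.mk a : A ⧸ M) ≠ 0 := by
      rw [Ne, QuotientAddGroup.eq_zero_iff]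
      exact hMs.2
    have hsub : ∀ B : AddSubgroup (A ⧸ M), B ≠ ⊥ → (QuotientAddGroup.mk a : A ⧸ M) ∈ B := by
      intro B hB
      by_contra haB
      have hle : M ≤ B.comap (QuotientAddGroup.mk' M) := by
        intro x hx
        rw [AddSubgroup.mem_comap]
        have : (QuotientAddGroup.mk' M) x = 0 := (QuotientAddGroup.eq_zero_iff x).mpr hx
        rw [this]
        exact B.zero_mem
      have hmem : B.comap (QuotientAddGroup.mk' M) ∈ s := ⟨le_trans hMs.1 hle, haB⟩
      have heq : B.comap (QuotientAddGroup.mk' M) ≤ M := hMmax.le_of_ge hmem hle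
      apply hB
      rw [← AddSubgroup.map_comap_eq_self_of_surjective (QuotientAddGroup.mk'_surjective M) B,
        eq_bot_iff]
      rintro _ ⟨x, hx, rfl⟩
      rw [AddSubgroup.mem_bot]
      exact (QuotientAddGroup.eq_zero_iff x).mpr (heq hx)
    have : Finite (A ⧸ M) := Groth.Agent.S13362.result hexp _ ha0 hsub
    exact AddSubgroup.finiteIndex_of_finite_quotient

end Groth.Agent.S13363
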