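import Groth.Statements.S13365
import Mathlib

set_option autoImplicit false
universe u
open ProCompl

namespace Groth.Agent.S13365


theorem result {A : Type u} [AddCommGroup A] [TopologicalSpace A]
    [IsTopologicalAddGroup A] [CompactSpace A] [T2Space A] [TotallyDisconnectedSpace A]
    (B : AddSubgroup A) (hB : IsCompact (B : Set A)) :
    CompactSpace (A ⧸ B) ∧ T2Space (A ⧸ B) ∧ TotallyDisconnectedSpace (A ⧸ B) := by
  have hBc : IsClosed (B : Set A) := hB.isClosed
  have hT2 : T2Space (A ⧸ B) := inferInstance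
  refine ⟨inferInstance, hT2, ?_⟩
  have hna : NonarchimedeanAddGroup (A ⧸ B) := by
    refine { is_nonarchimedean := ?_ }
    intro U hU
    obtain ⟨W, hWU, hWo, h0W⟩ := mem_nhds_iff.mp hU
    have hpre : IsOpen ((QuotientAddGroup.mk : A → A ⧸ B) ⁻¹' W) :=
      hWo.preimage QuotientAddGroup.continuous_mk
    have h0 : (0 : A) ∈ (QuotientAddGroup.mk : A → A ⧸ B) ⁻¹' W := by
      show ((0 : A) : A ⧸ B) ∈ W
      exact h0W
    obtain ⟨V, hV⟩ := ProfiniteGrp.exist_openNormalAddSubgroup_sub_open_nhds_of_zero hpre h0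
    refine ⟨⟨V.toAddSubgroup.map (QuotientAddGroup.mk' B), ?_⟩, ?_⟩
    · have := QuotientAddGroup.isOpenMap_coe (N := B) _ V.isOpen'
      convert this using 1
      ext x
      simp [AddSubgroup.mem_map]
    · rintro _ ⟨v, hv, rfl⟩
      exact hWU (hV hv)
  infer_instance

end Groth.Agent.S13365
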