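import Groth.Statements.S13368
import Mathlib

set_option autoImplicit false
universe u
open GaDual

namespace Groth.Agent.S13368

open Polynomial in
theorem lemA {R : Type u} [CommRing R] [IsDomain R] (p : ℕ) (π : R) (hπ : Prime π)
    (b : Fin p → R) (h : π ^ p ∣ ∑ i : Fin p, π ^ (i : ℕ) * b i ^ p) : ∀ j : Fin p, π ∣ b j := by
  have key : ∀ n : ℕ, ∀ j : Fin p, (j : ℕ) = n → π ∣ b j := by
    intro n
    induction n using Nat.strong_induction_on with
    | _ n ih =>
      intro j hjn
      have hj : (j : ℕ) < p := j.2
      have h1 : ∀ i ∈ (Finset.univ : Finset (Fin p)).erase j,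
          π ^ ((j : ℕ) + 1) ∣ π ^ (i : ℕ) * b i ^ p := by
        intro i hi
        have hne : i ≠ j := (Finset.mem_erase.mp hi).1
        have hne' : (i : ℕ) ≠ (j : ℕ) := fun h => hne (Fin.ext h)
        rcases lt_or_gt_of_ne hne' with hlt | hgt
        · have := ih (i : ℕ) (hjn ▸ hlt) i rfl
          have h2 : π ^ p ∣ b i ^ p := pow_dvd_pow_of_dvd this p
          exact Dvd.dvd.mul_left ((pow_dvd_pow π (by omega)).trans h2) _
        · exact Dvd.dvd.mul_right (pow_dvd_pow π (by omega)) _
      have h2 : π ^ ((j : ℕ) + 1) ∣ ∑ i ∈ (Finset.univ : Finset (Fin p)).erase j,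
          π ^ (i : ℕ) * b i ^ p := Finset.dvd_sum h1
      have h3 : π ^ ((j : ℕ) + 1) ∣ ∑ i : Fin p, π ^ (i : ℕ) * b i ^ p :=
        (pow_dvd_pow π (by omega)).trans h
      rw [← Finset.add_sum_erase _ _ (Finset.mem_univ j)] at h3
      have h4 : π ^ ((j : ℕ) + 1) ∣ π ^ (j : ℕ) * b j ^ p := (dvd_add_left h2).mp h3
      rw [pow_succ] at h4
      have h5 : π ∣ b j ^ p := (mul_dvd_mul_iff_left (pow_ne_zero _ hπ.ne_zero)).mp h4
      exact hπ.dvd_of_dvd_pow h5
  exact fun j => key j j rfl

theorem lemA' {R : Type u} [CommRing R] [IsDomain R] [IsDiscreteValuationRing R] (p : ℕ)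
    (π : R) (hπ : Irreducible π) (b : Fin p → R)
    (h : ∑ i : Fin p, π ^ (i : ℕ) * b i ^ p = 0) : b = 0 := by
  have hπp : Prime π := hπ.prime
  have key : ∀ n : ℕ, ∀ b : Fin p → R, ∑ i : Fin p, π ^ (i : ℕ) * b i ^ p = 0 →
      ∀ j, π ^ n ∣ b j := by
    intro n
    induction n with
    | zero => intro b _ j; simp
    | succ n ih =>
      intro b hb j
      have h1 : ∀ j, π ∣ b j := lemA p π hπp b (hb ▸ dvd_zero _)
      choose c hc using h1
      have h2 : ∑ i : Fin p, π ^ (i : ℕ) * c i ^ p = 0 := by
        have : π ^ p * ∑ i : Fin p, π ^ (i : ℕ) * c i ^ p = 0 := by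
          rw [← hb, Finset.mul_sum]
          refine Finset.sum_congr rfl fun i _ => ?_
          rw [hc i]; ring
        exact (mul_eq_zero.mp this).resolve_left (pow_ne_zero _ hπp.ne_zero)
      rw [hc j, pow_succ']
      exact mul_dvd_mul_left π (ih c h2 j)
  funext j
  by_contra hne
  obtain ⟨n, hn⟩ := FiniteMultiplicity.of_not_isUnit hπ.not_isUnit hne
  exact hn (key (n + 1) b h j)

theorem lemC {R : Type u} [CommRing R] [IsDomain R] [IsDiscreteValuationRing R]
    {K : Type u} [Field K] [Algebra R K] [IsFractionRing R K] (p : ℕ)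
    (π : R) (hπ : Irreducible π) (a : Fin p → K) (r : R)
    (h : ∑ i : Fin p, (algebraMap R K π) ^ (i : ℕ) * a i ^ p = algebraMap R K r) :
    ∀ j, ∃ c : R, algebraMap R K c = a j := by
  have hπp : Prime π := hπ.prime
  have hinj := IsFractionRing.injective R K
  have hπK : algebraMap R K π ≠ 0 := by
    intro h0
    exact hπp.ne_zero (hinj (by rw [h0, map_zero]))
  have key : ∀ m : ℕ, (∀ j, ∃ c : R, algebraMap R K c = (algebraMap R K π) ^ m * a j) →
      ∀ j, ∃ c : R, algebraMap R K c = a j := by
    intro m
    induction m with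
    | zero => intro hc j; simpa using hc j
    | succ m ih =>
      intro hc
      choose c hc using hc
      have h1 : ∑ i : Fin p, π ^ (i : ℕ) * c i ^ p = π ^ p * (π ^ (m * p) * r) := by
        apply hinj
        simp only [map_sum, map_mul, map_pow, hc]
        rw [← h, Finset.mul_sum, Finset.mul_sum]
        refine Finset.sum_congr rfl fun i _ => ?_
        ring
      have h2 : ∀ j, π ∣ c j := lemA p π hπp c (h1 ▸ dvd_mul_right _ _)
      choose d hd using h2
      refine ih (fun j => ⟨d j, ?_⟩)
      have := hc j
      rw [hd j, map_mul, pow_succ'] at this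
      exact mul_left_cancel₀ hπK (by rw [this]; ring)
  obtain ⟨⟨b, hb⟩, hbint⟩ := IsLocalization.exist_integer_multiples_of_finite (nonZeroDivisors R) a
  have hb0 : b ≠ 0 := nonZeroDivisors.ne_zero hb
  obtain ⟨m, u, hu⟩ := IsDiscreteValuationRing.eq_unit_mul_pow_irreducible hb0 hπ
  refine key m (fun j => ?_)
  obtain ⟨c, hc⟩ := hbint j
  refine ⟨↑u⁻¹ * c, ?_⟩
  have hc' : algebraMap R K c = algebraMap R K b * a j := by rw [hc, Algebra.smul_def]
  rw [map_mul, hc', hu, map_mul, map_pow, ← mul_assoc, ← mul_assoc, ← map_mul, Units.inv_mul,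
    map_one, one_mul]

open Polynomial in
noncomputable def phi (p : ℕ) [Fact p.Prime] {R : Type u} [CommRing R] [CharP R p] (π : R) :
    R[X] →+* R := Polynomial.eval₂RingHom (frobenius R p) π

open Polynomial in
noncomputable def psi (p : ℕ) [Fact p.Prime] {R : Type u} [CommRing R] [CharP R p] (π : R)
    (f : R[X]) : R := Polynomial.eval π (Polynomial.derivative (f.map (frobenius R p)))

open Polynomial in
theorem psi_add (p : ℕ) [Fact p.Prime] {R : Type u} [CommRing R] [CharP R p] (π : R)
    (f g : R[X]) : psi p π (f + g) = psi p π f + psi p π g := by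
  simp [psi, Polynomial.map_add]

open Polynomial in
theorem psi_sub (p : ℕ) [Fact p.Prime] {R : Type u} [CommRing R] [CharP R p] (π : R)
    (f g : R[X]) : psi p π (f - g) = psi p π f - psi p π g := by
  simp [psi, Polynomial.map_sub]

open Polynomial in
theorem psi_mul (p : ℕ) [Fact p.Prime] {R : Type u} [CommRing R] [CharP R p] (π : R)
    (f g : R[X]) : psi p π (f * g) = psi p π f * phi p π g + phi p π f * psi p π g := by
  simp [psi, phi, Polynomial.map_mul, Polynomial.derivative_mul, Polynomial.eval_map]


/-- Let R be a discrete valuation ring of prime characteristic p whose fraction field k has degree p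
over its subfield k^p of p-th powers, and π a uniformizer. Then every element of R is, in a unique
way, a sum of π^i c_i^p over 0 ≤ i < p with c_i in R, and the Kähler differentials of R (absolute,
i.e. over the integers, equivalently over the prime field) form a free module of rank one generated
by dπ. -/
theorem result (p : ℕ) [Fact p.Prime] {R : Type u} [CommRing R]
    [IsDomain R] [IsDiscreteValuationRing R] [CharP R p]
    (kp : Subfield (FractionRing R)) (hkp : ∀ x : FractionRing R, x ∈ kp ↔ ∃ y : FractionRing R, y ^ p = x)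
    (hdeg : Module.finrank kp (FractionRing R) = p)
    (π : R) (hπ : Irreducible π) :
    (∀ r : R, ∃! c : Fin p → R, r = ∑ i : Fin p, π ^ (i : ℕ) * c i ^ p) ∧
      Function.Bijective (fun r : R => r • KaehlerDifferential.D ℤ R π) := by
  classical
  have hp : p.Prime := Fact.out
  have hinj : Function.Injective (algebraMap R (FractionRing R)) :=
    IsFractionRing.injective R (FractionRing R)
  -- uniqueness helper
  have huniq : ∀ c c' : Fin p → R, ∑ i : Fin p, π ^ (i : ℕ) * c i ^ p =
      ∑ i : Fin p, π ^ (i : ℕ) * c' i ^ p → c = c' := by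
    intro c c' h
    have h0 : c - c' = 0 := by
      apply lemA' p π hπ
      have h1 : ∀ i, (c - c') i ^ p = c i ^ p - c' i ^ p := fun i => by
        rw [Pi.sub_apply, sub_pow_char]
      simp only [h1, mul_sub, Finset.sum_sub_distrib, h, sub_self]
    exact sub_eq_zero.mp h0
  -- linear independence
  have hli : LinearIndependent kp
      (fun i : Fin p => (algebraMap R (FractionRing R) π) ^ (i : ℕ)) := by
    rw [Fintype.linearIndependent_iff]
    intro g hg i
    have hy : ∀ i, ∃ y : FractionRing R, y ^ p = (g i : FractionRing R) :=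
      fun i => (hkp _).mp (g i).2
    choose y hy using hy
    obtain ⟨⟨b, hb⟩, hbint⟩ :=
      IsLocalization.exist_integer_multiples_of_finite (nonZeroDivisors R) y
    have hb0 : b ≠ 0 := nonZeroDivisors.ne_zero hb
    have hc : ∀ j, ∃ c : R, algebraMap R (FractionRing R) c =
        algebraMap R (FractionRing R) b * y j := fun j => by
      obtain ⟨c, hc⟩ := hbint j
      exact ⟨c, by rw [hc, Algebra.smul_def]⟩
    choose c hc using hc
    have h0 : c = 0 := by
      apply lemA' p π hπ
      apply hinj
      simp only [map_sum, map_mul, map_pow, hc, map_zero]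
      have : ∑ x : Fin p, (algebraMap R (FractionRing R) π) ^ (x : ℕ) *
          (algebraMap R (FractionRing R) b * y x) ^ p =
          (algebraMap R (FractionRing R) b) ^ p *
            ∑ i, g i • (algebraMap R (FractionRing R) π) ^ (i : ℕ) := by
        rw [Finset.mul_sum]
        refine Finset.sum_congr rfl fun i _ => ?_
        rw [Subfield.smul_def, smul_eq_mul, ← hy i]; ring
      rw [this, hg, mul_zero]
    have hyi : y i = 0 := by
      have h1 := hc i
      rw [h0, Pi.zero_apply, map_zero] at h1
      have hbK : algebraMap R (FractionRing R) b ≠ 0 := fun h => hb0 (hinj (by rw [h, map_zero]))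
      exact (mul_eq_zero.mp h1.symm).resolve_left hbK
    apply Subtype.ext
    rw [← hy i, hyi, zero_pow hp.ne_zero]
    rfl
  have : Module.Finite kp (FractionRing R) :=
    Module.finite_of_finrank_pos (by rw [hdeg]; exact hp.pos)
  have hspan : Submodule.span kp
      (Set.range (fun i : Fin p => (algebraMap R (FractionRing R) π) ^ (i : ℕ))) = ⊤ :=
    hli.span_eq_top_of_card_eq_finrank' (by simp [hdeg])
  -- existence
  have hex : ∀ r : R, ∃ c : Fin p → R, r = ∑ i : Fin p, π ^ (i : ℕ) * c i ^ p := by
    intro r
    have hmem : algebraMap R (FractionRing R) r ∈ Submodule.span kp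
        (Set.range (fun i : Fin p => (algebraMap R (FractionRing R) π) ^ (i : ℕ))) := by
      rw [hspan]; trivial
    obtain ⟨g, hg⟩ := (Submodule.mem_span_range_iff_exists_fun kp).mp hmem
    have hy : ∀ i, ∃ y : FractionRing R, y ^ p = (g i : FractionRing R) :=
      fun i => (hkp _).mp (g i).2
    choose y hy using hy
    have hsum : ∑ i : Fin p, (algebraMap R (FractionRing R) π) ^ (i : ℕ) * y i ^ p =
        algebraMap R (FractionRing R) r := by
      rw [← hg]
      refine Finset.sum_congr rfl fun i _ => ?_
      rw [Subfield.smul_def, smul_eq_mul, hy i, mul_comm]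
    have hc := lemC p π hπ y r hsum
    choose c hc using hc
    refine ⟨c, hinj ?_⟩
    rw [← hsum]
    simp only [map_sum, map_mul, map_pow, hc]
  refine ⟨fun r => ?_, ?_, ?_⟩
  · obtain ⟨c, hc⟩ := hex r
    exact ⟨c, hc, fun c' hc' => huniq c' c (hc'.symm.trans hc)⟩
  · -- injective
    have hg : (Polynomial.X ^ p - Polynomial.C π : Polynomial R).Monic :=
      Polynomial.monic_X_pow_sub_C π hp.ne_zero
    have hφg : phi p π (Polynomial.X ^ p - Polynomial.C π) = 0 := by
      simp [phi, frobenius_def]
    have hψg0 : psi p π (Polynomial.X ^ p - Polynomial.C π) = 0 := by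
      simp [psi, Polynomial.map_sub, Polynomial.map_pow, Polynomial.derivative_X_pow,
        CharP.cast_eq_zero]
    have hψg : ∀ q, psi p π ((Polynomial.X ^ p - Polynomial.C π) * q) = 0 := by
      intro q
      rw [psi_mul, hφg, hψg0, zero_mul, zero_mul, add_zero]
    have hφlow : ∀ q : Polynomial R, q.natDegree < p →
        phi p π q = ∑ i : Fin p, π ^ (i : ℕ) * (q.coeff i) ^ p := by
      intro q hq
      simp only [phi, Polynomial.coe_eval₂RingHom]
      rw [Polynomial.eval₂_eq_sum_range' _ hq, Finset.sum_range]
      refine Finset.sum_congr rfl fun i _ => ?_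
      rw [frobenius_def, mul_comm]
    have hwd : ∀ f : Polynomial R, phi p π f = 0 → psi p π f = 0 := by
      intro f hf
      have hdec := Polynomial.modByMonic_add_div f (Polynomial.X ^ p - Polynomial.C π)
      have hφr : phi p π (f %ₘ (Polynomial.X ^ p - Polynomial.C π)) = 0 := by
        have := congrArg (phi p π) hdec
        rw [map_add, map_mul, hφg, zero_mul, add_zero, hf] at this
        exact this
      have hg1 : (Polynomial.X ^ p - Polynomial.C π : Polynomial R) ≠ 1 := by
        intro h
        have := congrArg Polynomial.natDegree h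
        rw [Polynomial.natDegree_X_pow_sub_C, Polynomial.natDegree_one] at this
        exact hp.ne_zero this
      have hdeg' : (f %ₘ (Polynomial.X ^ p - Polynomial.C π)).natDegree < p := by
        have := Polynomial.natDegree_modByMonic_lt f hg hg1
        rwa [Polynomial.natDegree_X_pow_sub_C] at this
      have hr0 : f %ₘ (Polynomial.X ^ p - Polynomial.C π) = 0 := by
        rw [hφlow _ hdeg'] at hφr
        have := lemA' p π hπ
          (fun i : Fin p => (f %ₘ (Polynomial.X ^ p - Polynomial.C π)).coeff i) hφr
        ext n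
        by_cases hn : n < p
        · exact congrFun this ⟨n, hn⟩
        · exact Polynomial.coeff_eq_zero_of_natDegree_lt (by omega)
      rw [← hdec, hr0, zero_add]
      exact hψg _
    have hφsurj : ∀ r, ∃ f, phi p π f = r := by
      intro r
      obtain ⟨c, hc⟩ := hex r
      refine ⟨∑ i : Fin p, Polynomial.C (c i) * Polynomial.X ^ (i : ℕ), ?_⟩
      rw [map_sum, hc]
      refine Finset.sum_congr rfl fun i _ => ?_
      simp only [phi, Polynomial.coe_eval₂RingHom, Polynomial.eval₂_mul, Polynomial.eval₂_C,
        Polynomial.eval₂_pow, Polynomial.eval₂_X, frobenius_def]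
      ring
    choose F hF using hφsurj
    have hD : ∀ f, psi p π f = psi p π (F (phi p π f)) := by
      intro f
      have h1 : phi p π (f - F (phi p π f)) = 0 := by rw [map_sub, hF, sub_self]
      have h2 := hwd _ h1
      rw [psi_sub, sub_eq_zero] at h2
      exact h2
    let Dadd : R →+ R := AddMonoidHom.mk' (fun r => psi p π (F r)) (fun r s => by
      show psi p π (F (r + s)) = psi p π (F r) + psi p π (F s)
      rw [← psi_add, hD (F r + F s), map_add, hF, hF])
    let Dder : Derivation ℤ R R := Derivation.mk' Dadd.toIntLinearMap (fun a b => by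
      show psi p π (F (a * b)) = a • psi p π (F b) + b • psi p π (F a)
      rw [smul_eq_mul, smul_eq_mul]
      have h1 := hD (F a * F b)
      rw [map_mul, hF, hF] at h1
      rw [← h1, psi_mul, hF, hF]; ring)
    have hDπ : Dder π = 1 := by
      show psi p π (F π) = 1
      have h1 : phi p π Polynomial.X = π := by simp [phi]
      have h2 := hD Polynomial.X
      rw [h1] at h2
      rw [← h2]
      simp [psi]
    intro r s hrs
    have h3 := congrArg Dder.liftKaehlerDifferential hrs
    simp only [map_smul, Derivation.liftKaehlerDifferential_comp_D, hDπ, smul_eq_mul,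
      mul_one] at h3
    exact h3
  · -- surjective
    intro ω
    have hω : ω ∈ Submodule.span R (Set.range (KaehlerDifferential.D ℤ R)) := by
      rw [KaehlerDifferential.span_range_derivation]; trivial
    have hle : Submodule.span R (Set.range (KaehlerDifferential.D ℤ R)) ≤
        LinearMap.range (LinearMap.toSpanSingleton R _ (KaehlerDifferential.D ℤ R π)) := by
      rw [Submodule.span_le]
      rintro _ ⟨r, rfl⟩
      obtain ⟨c, hc⟩ := hex r
      refine ⟨∑ i : Fin p, ((i : ℕ) : R) * π ^ ((i : ℕ) - 1) * c i ^ p, ?_⟩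
      rw [LinearMap.toSpanSingleton_apply, hc, map_sum, Finset.sum_smul]
      refine Finset.sum_congr rfl fun i _ => ?_
      rw [Derivation.leibniz, Derivation.leibniz_pow, Derivation.leibniz_pow]
      have h1 : (p : ℕ) • (c i ^ (p - 1) • KaehlerDifferential.D ℤ R (c i)) = 0 := by
        rw [← Nat.cast_smul_eq_nsmul R, CharP.cast_eq_zero, zero_smul]
      rw [h1, smul_zero, zero_add, ← Nat.cast_smul_eq_nsmul R, smul_smul, smul_smul]
      congr 1; ring
    obtain ⟨r, hr⟩ := hle hω
    exact ⟨r, by simpa using hr⟩

end Groth.Agent.S13368
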