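import Groth.Statements.S13386

set_option autoImplicit false
universe u
open scoped TensorProduct
open ZeroCyc

namespace Groth.Agent.S13386

theorem exists_smul_eq_one_tmul {A A' M : Type u} [CommRing A] [CommRing A']
    [Algebra A A'] (T : Submonoid A) [IsLocalization T A'] [AddCommGroup M] [Module A M]
    (x : A' ⊗[A] M) : ∃ t : T, ∃ m : M, (algebraMap A A' t) • x = (1 : A') ⊗ₜ[A] m := by
  induction x using TensorProduct.induction_on with
  | zero => exact ⟨1, 0, by simp⟩
  | tmul a m =>
    obtain ⟨⟨b, t⟩, h⟩ := IsLocalization.surj T a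
    refine ⟨t, b • m, ?_⟩
    rw [TensorProduct.smul_tmul', smul_eq_mul, mul_comm, h, TensorProduct.tmul_smul,
      TensorProduct.smul_tmul', Algebra.algebraMap_eq_smul_one]
  | add x y hx hy =>
    obtain ⟨t1, m1, h1⟩ := hx
    obtain ⟨t2, m2, h2⟩ := hy
    refine ⟨t1 * t2, (t2 : A) • m1 + (t1 : A) • m2, ?_⟩
    rw [Submonoid.coe_mul, map_mul, smul_add, TensorProduct.tmul_add]
    congr 1
    · rw [mul_comm, mul_smul, h1, TensorProduct.tmul_smul, algebraMap_smul]
    · rw [mul_smul, h2, TensorProduct.tmul_smul, algebraMap_smul]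


theorem result {A A' M : Type u} [CommRing A] [CommRing A']
    [Algebra A A'] (T : Submonoid A) [IsLocalization T A'] [AddCommGroup M] [Module A M] (d : ℕ) :
    Submodule.span A' (Set.range fun m : M => DividedPowerAlgebra.dp A' d ((1 : A') ⊗ₜ[A] m)) =
      Submodule.span A' (Set.range (DividedPowerAlgebra.dp A' d (M := A' ⊗[A] M))) := by
  apply le_antisymm
  · apply Submodule.span_mono
    rintro _ ⟨m, rfl⟩
    exact ⟨_, rfl⟩
  · rw [Submodule.span_le]
    rintro _ ⟨x, rfl⟩
    obtain ⟨t, m, h⟩ := exists_smul_eq_one_tmul T x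
    have hu : IsUnit (algebraMap A A' t) := IsLocalization.map_units A' t
    obtain ⟨u, hu⟩ := hu
    have hx : x = (↑u⁻¹ : A') • ((1 : A') ⊗ₜ[A] m) := by
      rw [← h, ← hu, smul_smul, Units.inv_mul, one_smul]
    rw [hx, DividedPowerAlgebra.dp_smul]
    apply Submodule.smul_mem
    apply Submodule.subset_span
    exact ⟨m, rfl⟩

end Groth.Agent.S13386
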