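import Groth.Statements.S13387
import Groth.Agent.Lib.Helper20.DPLoc

set_option autoImplicit false
universe u
open ZeroCyc

namespace Groth.Agent.S13387


theorem result {A M : Type u} [CommRing A] [AddCommGroup M]
    [Module A M] (d : ℕ)
    (h : ∀ p : PrimeSpectrum A, (d : Cardinal) ≤ Cardinal.mk p.asIdeal.ResidueField ∨
      ∃ x : LocalizedModule p.asIdeal.primeCompl M, Submodule.span (Localization.AtPrime p.asIdeal) {x} = ⊤) :
    Submodule.span A (Set.range (DividedPowerAlgebra.dp A d : M → DividedPowerAlgebra A M)) =
      PolLaw.gammaPiece A M d := by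
  exact Groth.Agent.Helper20.DPLoc.span_dp_eq d h

end Groth.Agent.S13387
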