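import Groth.Statements.S13388
import Groth.Agent.Lib.Helper20.DPForms

set_option autoImplicit false
universe u
open ZeroCyc

namespace Groth.Agent.S13388


theorem result {A M : Type u} [CommRing A] [AddCommGroup M]
    [Module A M] [Module.Finite A M] (d : ℕ)
    (h : Submodule.span A (Set.range (DividedPowerAlgebra.dp A d : M → DividedPowerAlgebra A M)) =
      PolLaw.gammaPiece A M d)
    (p : PrimeSpectrum A) :
    (d : Cardinal) ≤ Cardinal.mk p.asIdeal.ResidueField ∨
      ∃ x : LocalizedModule p.asIdeal.primeCompl M, Submodule.span (Localization.AtPrime p.asIdeal) {x} = ⊤ := by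
  classical
  by_contra hcon
  push Not at hcon
  obtain ⟨hcard, hcyc⟩ := hcon
  have hlt : Cardinal.mk p.asIdeal.ResidueField < Cardinal.aleph0 :=
    lt_trans hcard (Cardinal.natCast_lt_aleph0)
  haveI : Finite p.asIdeal.ResidueField := Cardinal.lt_aleph0_iff_finite.mp hlt
  have hd : Nat.card p.asIdeal.ResidueField < d := by
    have h1 : ((Nat.card p.asIdeal.ResidueField : ℕ) : Cardinal) < (d : Cardinal) := by
      rw [Nat.cast_card]; exact hcard
    exact_mod_cast h1
  obtain ⟨ξ, η, m₁, m₂, h11, h12, h21, h22⟩ :=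
    Groth.Agent.Helper20.DPDual.exists_forms (M := M) p.asIdeal hcyc
  have hnot := Groth.Agent.Helper20.DPDual.not_mem_span (k := p.asIdeal.ResidueField) d hd ξ η m₁ m₂
    h11 h12 h21 h22
  apply hnot
  rw [h]
  apply Submodule.subset_span
  refine ⟨2, ![d - 1, 1], ![m₁, m₂], ?_, ?_⟩
  · simp only [Fin.sum_univ_two, Matrix.cons_val_zero, Matrix.cons_val_one]
    have : 0 < d := lt_of_le_of_lt (Nat.zero_le _) hd
    omega
  · simp only [Fin.prod_univ_two, Matrix.cons_val_zero, Matrix.cons_val_one]

end Groth.Agent.S13388
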