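import Groth.Statements.S13389
import Mathlib

set_option autoImplicit false
universe u
open ZeroCyc

namespace Groth.Agent.S13389

section Aux
open DividedPowerAlgebra Finset

variable {A M : Type u} [CommRing A] [AddCommGroup M] [Module A M]

/-- the span of the `e`-th divided powers -/
noncomputable def W (A M : Type u) [CommRing A] [AddCommGroup M] [Module A M] (e : ℕ) :
    Submodule A (DividedPowerAlgebra A M) :=
  Submodule.span A (Set.range (dp A e : M → DividedPowerAlgebra A M))

theorem dp_add_smul (e : ℕ) (s : A) (m m' : M) :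
    dp A e (m + s • m') = ∑ b ∈ range (e + 1), s ^ b • (dp A (e - b) m * dp A b m') := by
  rw [dp_add, Finset.Nat.sum_antidiagonal_eq_sum_range_succ_mk]
  rw [← Finset.sum_flip]
  apply Finset.sum_congr rfl
  intro b hb
  have hb' : b ≤ e := Nat.lt_succ_iff.mp (Finset.mem_range.mp hb)
  simp only [Nat.sub_sub_self hb']
  rw [dp_smul, mul_smul_comm]

theorem two_var (t : A) (e : ℕ)
    (hdet : IsUnit (Matrix.vandermonde (fun j : Fin (e + 1) => t ^ (j : ℕ))).det)
    (m m' : M) (b : ℕ) (hb : b ≤ e) :
    dp A (e - b) m * dp A b m' ∈ W A M e := by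
  classical
  set V := Matrix.vandermonde (fun j : Fin (e + 1) => t ^ (j : ℕ)) with hV
  let u : Fin (e + 1) → DividedPowerAlgebra A M := fun c => dp A (e - c) m * dp A c m'
  let v : Fin (e + 1) → DividedPowerAlgebra A M := fun j => dp A e (m + t ^ (j : ℕ) • m')
  have hv : ∀ j, v j = ∑ c, V j c • u c := by
    intro j
    show dp A e (m + t ^ (j : ℕ) • m') = _
    rw [dp_add_smul, Finset.sum_range]
    rfl
  have hvW : ∀ j, v j ∈ W A M e := fun j => Submodule.subset_span ⟨_, rfl⟩
  have hinv : V⁻¹ * V = 1 := Matrix.nonsing_inv_mul V hdet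
  have hu : ∀ c, u c = ∑ j, V⁻¹ c j • v j := by
    intro c
    simp_rw [hv, Finset.smul_sum, smul_smul]
    rw [Finset.sum_comm]
    simp_rw [← Finset.sum_smul]
    have : ∀ c', ∑ j, V⁻¹ c j * V j c' = (1 : Matrix (Fin (e + 1)) (Fin (e + 1)) A) c c' := by
      intro c'
      rw [← hinv, Matrix.mul_apply]
    simp_rw [this, Matrix.one_apply, ite_smul, one_smul, zero_smul]
    simp
  have := hu ⟨b, Nat.lt_succ_of_le hb⟩
  change dp A (e - b) m * dp A b m' = _ at this
  rw [this]
  exact Submodule.sum_mem _ fun j _ => Submodule.smul_mem _ _ (hvW j)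

end Aux

open Polynomial in
theorem result {A M : Type u} [CommRing A] [AddCommGroup M]
    [Module A M] (d : ℕ)
    (φ : (ℤ[X] ⧸ Ideal.span {(∏ j ∈ Finset.range (d + 1), ∏ i ∈ Finset.range j,
        ((X : ℤ[X]) ^ i - X ^ j)) - 1}) →+* A) :
    Submodule.span A (Set.range (DividedPowerAlgebra.dp A d : M → DividedPowerAlgebra A M)) =
      PolLaw.gammaPiece A M d := by
  classical
  set t : A := φ (Ideal.Quotient.mk _ X) with ht
  have hprod : ∏ j ∈ Finset.range (d + 1), ∏ i ∈ Finset.range j, (t ^ i - t ^ j) = 1 := by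
    have h0 : (Ideal.Quotient.mk (Ideal.span {(∏ j ∈ Finset.range (d + 1), ∏ i ∈ Finset.range j,
        ((X : ℤ[X]) ^ i - X ^ j)) - 1})) ((∏ j ∈ Finset.range (d + 1), ∏ i ∈ Finset.range j,
        ((X : ℤ[X]) ^ i - X ^ j)) - 1) = 0 :=
      Ideal.Quotient.eq_zero_iff_mem.mpr (Ideal.subset_span rfl)
    rw [map_sub, map_one, sub_eq_zero] at h0
    have h1 := congrArg φ h0
    rw [map_one] at h1
    simpa only [map_prod, map_sub, map_pow] using h1
  have hunit : ∀ i j, i < j → j ≤ d → IsUnit (t ^ i - t ^ j) := by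
    intro i j hij hjd
    apply isUnit_of_dvd_one
    rw [← hprod]
    exact (Finset.dvd_prod_of_mem (fun i => t ^ i - t ^ j) (Finset.mem_range.mpr hij)).trans
      (Finset.dvd_prod_of_mem (fun j => ∏ i ∈ Finset.range j, (t ^ i - t ^ j))
        (Finset.mem_range.mpr (Nat.lt_succ_of_le hjd)))
  have hdet : ∀ e, e ≤ d → IsUnit (Matrix.vandermonde (fun j : Fin (e + 1) => t ^ (j : ℕ))).det := by
    intro e he
    rw [Matrix.det_vandermonde]
    apply Finset.prod_induction _ IsUnit (fun a b => IsUnit.mul) isUnit_one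
    intro i _
    apply Finset.prod_induction _ IsUnit (fun a b => IsUnit.mul) isUnit_one
    intro j hj
    have hij' : i < j := Finset.mem_Ioi.mp hj
    have hij : (i : ℕ) < (j : ℕ) := hij'
    have := hunit i j hij (by have := j.2; omega)
    rw [← neg_sub]
    exact this.neg
  have key : ∀ (n : ℕ) (e : ℕ), e ≤ d → ∀ (k : Fin n → ℕ) (m : Fin n → M), (∑ i, k i) = e →
      ∏ i, DividedPowerAlgebra.dp A (k i) (m i) ∈ W A M e := by
    intro n
    induction n with
    | zero =>
      intro e _ k m hk
      simp only [Finset.univ_eq_empty, Finset.sum_empty, Finset.prod_empty] at hk ⊢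
      subst hk
      exact Submodule.subset_span ⟨0, DividedPowerAlgebra.dp_zero⟩
    | succ n ih =>
      intro e he k m hk
      rw [Fin.prod_univ_succ]
      rw [Fin.sum_univ_succ] at hk
      have hrest := ih (e - k 0) (by omega) (fun i => k i.succ) (fun i => m i.succ) (by omega)
      have hk0 : k 0 = e - (e - k 0) := by omega
      refine Submodule.span_induction (p := fun x _ => DividedPowerAlgebra.dp A (k 0) (m 0) * x ∈
        W A M e) ?_ ?_ ?_ ?_ hrest
      · rintro _ ⟨m', rfl⟩
        have := two_var t e (hdet e he) (m 0) m' (e - k 0) (by omega)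
        rwa [← hk0] at this
      · rw [mul_zero]; exact Submodule.zero_mem _
      · intro x y _ _ hx hy
        rw [mul_add]; exact Submodule.add_mem _ hx hy
      · intro a x _ hx
        rw [mul_smul_comm]; exact Submodule.smul_mem _ _ hx
  apply le_antisymm
  · apply Submodule.span_le.mpr
    rintro _ ⟨m, rfl⟩
    apply Submodule.subset_span
    exact ⟨1, fun _ => d, fun _ => m, by simp, by simp⟩
  · apply Submodule.span_le.mpr
    rintro _ ⟨n, k, m, hk, rfl⟩
    exact key n d le_rfl k m hk

end Groth.Agent.S13389
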