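import Groth.Statements.S1340
import Mathlib.AlgebraicGeometry.Morphisms.Proper
import Mathlib.Topology.Sheaves.SheafCondition.Sites
-- import your own Groth.Agent.* helpers here

set_option autoImplicit false
universe u
open FlatMor

namespace Groth.Agent.S1340

open AlgebraicGeometry CategoryTheory Limits TopologicalSpace Opposite

/-- A morphism of schemes inducing isomorphisms on sections over a basis induces isomorphisms on
sections over all opens. -/
theorem isIso_app_of_isBasis {X Y : Scheme.{u}} (g : X ⟶ Y) {ι : Type*} (B : ι → Y.Opens)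
    (hB : Opens.IsBasis (Set.range B)) (h : ∀ i, IsIso (g.app (B i))) (U : Y.Opens) :
    IsIso (g.app U) := by
  let F : TopCat.Sheaf CommRingCat Y := Y.sheaf
  let G : TopCat.Sheaf CommRingCat Y := (TopCat.Sheaf.pushforward CommRingCat g.base).obj X.sheaf
  let φ : F ⟶ G := ⟨g.c⟩
  have hφ : IsIso φ := TopCat.Sheaf.isIso_iff_isIso_basis (B := B) hB (φ := φ) (fun i => h i)
  have h2 : IsIso ((TopCat.Sheaf.forget CommRingCat Y).map φ) := inferInstance
  have h3 : IsIso (((TopCat.Sheaf.forget CommRingCat Y).map φ).app (op U)) := inferInstance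
  exact h3


theorem isLocalization_away_of_eq {X : Scheme.{u}} {U : X.Opens} (hc : IsCompact U.1)
    (hqs : IsQuasiSeparated U.1) (r' : Γ(X, U)) (U' : X.Opens) (hU' : U' = X.basicOpen r') :
    letI : Algebra Γ(X, U) Γ(X, U') :=
      (X.presheaf.map (homOfLE (hU' ▸ X.basicOpen_le r') : U' ⟶ U).op).hom.toAlgebra
    IsLocalization.Away r' Γ(X, U') := by
  subst hU'
  exact isLocalization_basicOpen_of_qcqs hc hqs r'

theorem isIso_app_basicOpen {X Y : Scheme.{u}} (g : X ⟶ Y) (W : Y.Opens) (hW : IsAffineOpen W)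
    (hc : IsCompact (g ⁻¹ᵁ W).1) (hqs : IsQuasiSeparated (g ⁻¹ᵁ W).1) [IsIso (g.app W)]
    (r : Γ(Y, W)) : IsIso (g.app (Y.basicOpen r)) := by
  rw [ConcreteCategory.isIso_iff_bijective]
  have hle : g ⁻¹ᵁ Y.basicOpen r ≤ g ⁻¹ᵁ W := g.preimage_mono (Y.basicOpen_le r)
  have hU' : g ⁻¹ᵁ Y.basicOpen r = X.basicOpen (g.app W r) := Scheme.preimage_basicOpen g r
  let alg1 : Algebra Γ(X, g ⁻¹ᵁ W) Γ(X, g ⁻¹ᵁ Y.basicOpen r) :=
    (X.presheaf.map (homOfLE hle).op).hom.toAlgebra
  have hloc' : IsLocalization.Away (g.app W r) Γ(X, g ⁻¹ᵁ Y.basicOpen r) :=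
    isLocalization_away_of_eq hc hqs (g.app W r) _ hU'
  let alg2 : Algebra Γ(Y, W) Γ(X, g ⁻¹ᵁ Y.basicOpen r) :=
    ((X.presheaf.map (homOfLE hle).op).hom.comp (g.app W).hom).toAlgebra
  have hloc1 : IsLocalization.Away r Γ(Y, Y.basicOpen r) := hW.isLocalization_basicOpen r
  have hloc2 : IsLocalization.Away r Γ(X, g ⁻¹ᵁ Y.basicOpen r) := by
    refine IsLocalization.of_ringEquiv_left (M₁ := Submonoid.powers (g.app W r))
      (asIso (g.app W)).commRingCatIsoToRingEquiv ?_ ?_
    · rw [Submonoid.map_powers]; rfl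
    · intro x; rfl
  refine IsLocalization.bijective (Submonoid.powers r) (g.app (Y.basicOpen r)).hom ?_
  ext x
  simp only [RingHom.algebraMap_toAlgebra, RingHom.comp_apply]
  exact congr($(g.naturality (homOfLE (Y.basicOpen_le r)).op) x)


theorem isIntegral_app_of_universallyClosed {X S : Scheme.{u}} (f : X ⟶ S) [UniversallyClosed f]
    (V : S.Opens) (hV : IsAffineOpen V) : (f.app V).hom.IsIntegral := by
  have : IsAffine (V : Scheme.{u}) := hV
  have h1 := isIntegral_appTop_of_universallyClosed (f ∣_ V)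
  rw [Scheme.Hom.appTop, Scheme.Hom.app_eq_appLE, morphismRestrict_appLE] at h1
  rw [Scheme.Hom.app_eq_appLE]
  refine (Scheme.Hom.appLE_congr f _ ?_ ?_ (fun φ => φ.hom.IsIntegral)).mp h1
  · simp
  · simp

theorem isIso_app_preimage_affine {X S : Scheme.{u}} (f : X ⟶ S) [UniversallyClosed f]
    [QuasiSeparated f] (V : S.Opens) (hV : IsAffineOpen V) :
    IsIso (f.toNormalization.app (f.fromNormalization ⁻¹ᵁ V)) := by
  have key := f.toNormalization_app_preimage ⟨V, hV⟩
  let := (f.app V).hom.toAlgebra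
  have htop : integralClosure Γ(S, V) Γ(X, f ⁻¹ᵁ V) = ⊤ := by
    rw [integralClosure_eq_top_iff, ← algebraMap_isIntegral_iff, RingHom.algebraMap_toAlgebra]
    exact isIntegral_app_of_universallyClosed f V hV
  dsimp only at key
  rw [key]
  refine IsIso.comp_isIso' inferInstance (IsIso.comp_isIso' ?_ inferInstance)
  rw [ConcreteCategory.isIso_iff_bijective]
  refine ⟨Subtype.val_injective, fun b => ⟨⟨b, ?_⟩, rfl⟩⟩
  rw [htop]; exact Algebra.mem_top


theorem aux {X S : Scheme.{u}} (f : X ⟶ S) [UniversallyClosed f] [QuasiSeparated f]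
    (U : f.normalization.Opens) : IsIso (f.toNormalization.app U) := by
  let B : (Σ V : S.affineOpens, Γ(f.normalization, f.fromNormalization ⁻¹ᵁ V.1)) →
      f.normalization.Opens := fun p => f.normalization.basicOpen p.2
  refine isIso_app_of_isBasis f.toNormalization B ?_ ?_ U
  · rw [Opens.isBasis_iff_nbhd]
    intro U x hx
    obtain ⟨_, ⟨V, hV, rfl⟩, hxV, -⟩ := S.isBasis_affineOpens.exists_subset_of_mem_open
      (Set.mem_univ (f.fromNormalization x)) isOpen_univ
    have hW : IsAffineOpen (f.fromNormalization ⁻¹ᵁ V) := hV.preimage f.fromNormalization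
    obtain ⟨r, hr1, hr2⟩ := hW.exists_basicOpen_le ⟨x, hx⟩ hxV
    exact ⟨_, ⟨⟨⟨V, hV⟩, r⟩, rfl⟩, hr2, hr1⟩
  · rintro ⟨V, r⟩
    have hW : IsAffineOpen (f.fromNormalization ⁻¹ᵁ V.1) := V.2.preimage f.fromNormalization
    have hpre : f.toNormalization ⁻¹ᵁ (f.fromNormalization ⁻¹ᵁ V.1) = f ⁻¹ᵁ V.1 := by
      rw [← Scheme.Hom.comp_preimage, f.toNormalization_fromNormalization]
    have : IsIso (f.toNormalization.app (f.fromNormalization ⁻¹ᵁ V.1)) :=
      isIso_app_preimage_affine f V.1 V.2
    refine isIso_app_basicOpen f.toNormalization _ hW ?_ ?_ r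
    · rw [hpre]; exact f.isCompact_preimage V.2.isCompact
    · rw [hpre]; exact f.isQuasiSeparated_preimage V.2.isQuasiSeparated

open AlgebraicGeometry CategoryTheory Limits in
/-- Stein factorization, universally closed case: let f : X ⟶ S be universally closed and
quasi-separated, and let X ⟶ X' ⟶ S be its factorization through the normalization X' of S in X.
Then the canonical morphism X ⟶ X' identifies the structure sheaf of X' with the pushforward of the
structure sheaf of X: for every open U of X' the induced map from O_{X'}(U) to the sections of O_X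
over the inverse image of U is an isomorphism. (That X ⟶ X' is surjective and universally closed and
that X' ⟶ S is integral are separate facts not restated here.) -/
theorem result {X S : Scheme.{u}} (f : X ⟶ S) [UniversallyClosed f] [QuasiSeparated f]
    (U : f.normalization.Opens) : IsIso (f.toNormalization.app U) := by
  exact aux f U

end Groth.Agent.S1340
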