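import Groth.Statements.S13401
import Groth.Agent.Lib.Helper6.GrpSchEtA

set_option autoImplicit false
universe u
open CategoryTheory CategoryTheory.Limits MonoidalCategory CartesianMonoidalCategory MonObj GrpObj AlgebraicGeometry
open GrpSch

namespace Groth.Agent.S13401

/-- Let S be a scheme and G an S-group scheme whose structure morphism is finite, flat and locally of
finite presentation (a finite locally free group scheme), and suppose that at every point s of S the
rank of G → S at s is non-zero in the residue field κ(s), i.e. the order of G is invertible on the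
base. Then G → S is étale. -/
theorem result {S : Scheme.{u}} (G : Over S) [GrpObj G]
    [IsFinite G.hom] [Flat G.hom] [LocallyOfFinitePresentation G.hom]
    (h : ∀ s : S, (Scheme.Hom.finrank G.hom s : S.residueField s) ≠ 0) : Etale G.hom := by
  rw [IsZariskiLocalAtTarget.iff_of_openCover (P := @Etale) S.affineCover]
  intro i
  dsimp only [Scheme.Cover.pullbackHom]
  haveI : GrpObj (Over.mk G.hom) := inferInstanceAs (GrpObj G)
  letI inst : GrpObj (Over.mk (Limits.pullback.snd G.hom (S.affineCover.f i))) :=
    Over.grpObjMkPullbackSnd
  have hfin : IsFinite (Limits.pullback.snd G.hom (S.affineCover.f i)) := inferInstance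
  have hflat : Flat (Limits.pullback.snd G.hom (S.affineCover.f i)) := inferInstance
  have hfp : LocallyOfFinitePresentation (Limits.pullback.snd G.hom (S.affineCover.f i)) :=
    inferInstance
  refine @Groth.Agent.Helper6.GrpSchEt.etale_of_affine' _ ⟨_, rfl⟩
    (Over.mk (Limits.pullback.snd G.hom (S.affineCover.f i))) inst hfin hflat hfp (fun y => ?_)
  have h1 := h ((S.affineCover.f i) y)
  have h2 : Scheme.Hom.finrank (Limits.pullback.snd G.hom (S.affineCover.f i)) y =
      Scheme.Hom.finrank G.hom ((S.affineCover.f i) y) :=
    Scheme.Hom.finrank_pullback_snd G.hom (S.affineCover.f i) y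
  have h3 := Groth.Agent.Helper6.GrpSchEt.natCast_ne_zero_of_ringHom
    ((S.affineCover.f i).residueFieldMap y).hom _ h1
  rw [← h2] at h3
  exact h3

end Groth.Agent.S13401
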