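import Groth.Statements.S13404
import Groth.Agent.Lib.Helper6.UnitComp
import Groth.Agent.Lib.Helper6.HenselTransfer

set_option autoImplicit false
universe u v
open Hopf

namespace Groth.Agent.S13404

/-- Let R be a henselian local ring and G = Spec A a finite flat group scheme over R (A a commutative
Hopf algebra over R, finite and flat as an R-module; G need not be commutative). Let e be an
idempotent of A on which the counit takes the value 1 and such that A/(1 - e) is a local ring, so
that Spec A/(1 - e) is the connected component G⁰ of G containing the unit section. Then the ideal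
(1 - e) is a Hopf ideal (G⁰ is a closed subgroup scheme of G), A/(1 - e) is a henselian local ring
with the same residue field as R (the composite R → A/(1 - e) → residue field is surjective), and
A/(1 - e) is flat over R. (The published statement also asserts that G⁰ is normal in G; this row
does not state normality.) -/
theorem result (R : Type u) [CommRing R] [HenselianLocalRing R]
    (A : Type v) [CommRing A] [HopfAlgebra R A] [Module.Finite R A] [Module.Flat R A]
    (e : A) (he : IsIdempotentElem e) (hε : Bialgebra.counitAlgHom R A e = 1)
    [IsLocalRing (A ⧸ Ideal.span ({1 - e} : Set A))] :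
    (Ideal.span ({1 - e} : Set A)).IsHopfIdeal R ∧ HenselianLocalRing (A ⧸ Ideal.span ({1 - e} : Set A)) ∧
      Function.Surjective (⇑(IsLocalRing.residue (A ⧸ Ideal.span ({1 - e} : Set A))) ∘ ⇑(algebraMap R (A ⧸ Ideal.span ({1 - e} : Set A)))) ∧
      Module.Flat R (A ⧸ Ideal.span ({1 - e} : Set A)) := by
  haveI : Nontrivial R := inferInstance
  refine ⟨Groth.Agent.Lib.Helper6.UnitComp.isHopfIdeal e he hε,
    Groth.Agent.Lib.Helper6.HenselTransfer.henselianLocalRing_of_finite R _, ?_, ?_⟩
  · intro y
    obtain ⟨q, rfl⟩ := IsLocalRing.residue_surjective y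
    obtain ⟨a, rfl⟩ := Ideal.Quotient.mk_surjective q
    refine ⟨Bialgebra.counitAlgHom R A a, ?_⟩
    show IsLocalRing.residue _ (algebraMap R (A ⧸ Ideal.span ({1 - e} : Set A))
      (Bialgebra.counitAlgHom R A a)) = IsLocalRing.residue _ (Ideal.Quotient.mk _ a)
    rw [eq_comm, ← sub_eq_zero, ← map_sub, IsLocalRing.residue_eq_zero_iff]
    set εb := Groth.Agent.Lib.Helper6.UnitComp.counitBar e hε with hεb
    have hne : RingHom.ker εb ≠ ⊤ := by
      intro htop
      have h2 : (1 : A ⧸ Ideal.span ({1 - e} : Set A)) ∈ RingHom.ker εb := by
        rw [htop]; exact Submodule.mem_top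
      rw [RingHom.mem_ker, map_one] at h2
      exact one_ne_zero h2
    apply IsLocalRing.le_maximalIdeal hne
    rw [RingHom.mem_ker, map_sub, AlgHom.commutes, hεb,
      Groth.Agent.Lib.Helper6.UnitComp.counitBar_mk]
    exact sub_self _
  · haveI : IsLocalization.Away e (A ⧸ Ideal.span ({1 - e} : Set A)) :=
      IsLocalization.Away.quotient_of_isIdempotentElem he
    haveI : Module.Flat A (A ⧸ Ideal.span ({1 - e} : Set A)) :=
      IsLocalization.flat _ (Submonoid.powers e)
    exact Module.Flat.trans R A _

end Groth.Agent.S13404
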