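import Groth.Statements.S13407
import Mathlib
-- import your own Groth.Agent.* helpers here

set_option autoImplicit false
universe u
open TensorProduct
open Hopf

namespace Groth.Agent.S13407

section
open TensorProduct

variable {R : Type u} [CommRing R] [IsDomain R]
    {K : Type u} [Field K] [Algebra R K] [IsFractionRing R K]
    {A : Type u} [CommRing A] [Algebra R A]

/-- F1: every element of `K ⊗ A` becomes of the form `1 ⊗ a` after multiplying by a nonzero `s`. -/
lemma exists_smul_eq (y : K ⊗[R] A) : ∃ s : R, s ≠ 0 ∧ ∃ a : A, s • y = (1 : K) ⊗ₜ[R] a := by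
  obtain ⟨⟨a, s⟩, h⟩ := IsLocalizedModule.surj (nonZeroDivisors R) (TensorProduct.mk R K A 1) y
  exact ⟨s, nonZeroDivisors.ne_zero s.2, a, h⟩

lemma inv_smul_smul' (s : R) (hs : s ≠ 0) (y : K ⊗[R] A) :
    ((algebraMap R K s)⁻¹ ⊗ₜ[R] (1 : A)) * (s • y) = y := by
  have h0 : algebraMap R K s ≠ 0 := by
    rwa [Ne, FaithfulSMul.algebraMap_eq_zero_iff]
  rw [Algebra.mul_smul_comm, ← Algebra.smul_mul_assoc, TensorProduct.smul_tmul',
    Algebra.smul_def, mul_inv_cancel₀ h0, ← Algebra.TensorProduct.one_def, one_mul]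

/-- F3 -/
lemma mem_map_iff (J' : Ideal A) (y : K ⊗[R] A) :
    y ∈ Ideal.map (Algebra.TensorProduct.includeRight : A →ₐ[R] K ⊗[R] A) J' ↔
      ∃ s : R, s ≠ 0 ∧ ∃ j ∈ J', s • y = (1 : K) ⊗ₜ[R] j := by
  constructor
  · intro hy
    refine Submodule.span_induction ?_ ?_ ?_ ?_ hy
    · rintro _ ⟨j, hj, rfl⟩
      exact ⟨1, one_ne_zero, j, hj, by simp⟩
    · exact ⟨1, one_ne_zero, 0, J'.zero_mem, by simp⟩
    · rintro x y _ _ ⟨s, hs, j, hj, h1⟩ ⟨t, ht, i, hi, h2⟩
      refine ⟨s * t, mul_ne_zero hs ht, t • j + s • i,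
        J'.add_mem (J'.smul_of_tower_mem t hj) (J'.smul_of_tower_mem s hi), ?_⟩
      have e : (s * t) • (x + y) = t • (s • x) + s • (t • y) := by
        rw [smul_add, smul_smul, smul_smul, mul_comm t s]
      rw [e, h1, h2, TensorProduct.tmul_add, TensorProduct.tmul_smul, TensorProduct.tmul_smul]
    · rintro c x _ ⟨s, hs, j, hj, h1⟩
      obtain ⟨t, ht, a, h2⟩ := exists_smul_eq c
      refine ⟨t * s, mul_ne_zero ht hs, a * j, J'.mul_mem_left a hj, ?_⟩
      rw [smul_eq_mul, mul_smul, ← Algebra.mul_smul_comm, ← Algebra.smul_mul_assoc, h1, h2,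
        Algebra.TensorProduct.tmul_mul_tmul, one_mul]
  · rintro ⟨s, hs, j, hj, h⟩
    rw [← inv_smul_smul' s hs y, h]
    exact Ideal.mul_mem_left _ _ (Ideal.mem_map_of_mem _ hj)

lemma one_tmul_eq_zero [Module.IsTorsionFree R A] (a : A) (h : (1 : K) ⊗ₜ[R] a = 0) : a = 0 := by
  have h' : TensorProduct.mk R K A 1 a = TensorProduct.mk R K A 1 0 := by simpa using h
  obtain ⟨s, hs⟩ := IsLocalizedModule.exists_of_eq (S := nonZeroDivisors R) h'
  rw [smul_zero] at hs
  exact (smul_eq_zero_iff_right (nonZeroDivisors.ne_zero s.2)).mp hs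

/-- F4 -/
lemma comap_map_eq [Module.IsTorsionFree R A] (J' : Ideal A)
    (hJ' : ∀ (s : R) (a : A), s ≠ 0 → s • a ∈ J' → a ∈ J') :
    Ideal.comap (Algebra.TensorProduct.includeRight : A →ₐ[R] K ⊗[R] A)
      (Ideal.map (Algebra.TensorProduct.includeRight : A →ₐ[R] K ⊗[R] A) J') = J' := by
  refine le_antisymm ?_ Ideal.le_comap_map
  intro a ha
  rw [Ideal.mem_comap, mem_map_iff] at ha
  obtain ⟨s, hs, j, hj, h⟩ := ha
  have h1 : (1 : K) ⊗ₜ[R] (s • a - j) = 0 := by
    rw [TensorProduct.tmul_sub, TensorProduct.tmul_smul, sub_eq_zero]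
    exact h
  have h2 := one_tmul_eq_zero (s • a - j) h1
  rw [sub_eq_zero] at h2
  exact hJ' s a hs (h2 ▸ hj)

lemma torsionFree_of_flat_quot (J' : Ideal A) [Module.Flat R (A ⧸ J')] (s : R) (a : A)
    (hs : s ≠ 0) (h : s • a ∈ J') : a ∈ J' := by
  rw [← Ideal.Quotient.eq_zero_iff_mem] at h ⊢
  have : s • (Ideal.Quotient.mk J' a) = 0 := h
  exact (smul_eq_zero_iff_right hs).mp this

end

section Hopf
open TensorProduct

variable {R : Type u} [CommRing R] [IsDomain R]
    {K : Type u} [Field K] [Algebra R K] [IsFractionRing R K]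
    {A : Type u} [CommRing A] [HopfAlgebra R A]

lemma counit_one_tmul (a : A) :
    Coalgebra.counit (R := K) ((1 : K) ⊗ₜ[R] a) = algebraMap R K (Coalgebra.counit (R := R) a) := by
  rw [TensorProduct.counit_tmul, Algebra.smul_def]
  simp

lemma antipode_one_tmul (a : A) :
    HopfAlgebra.antipode K ((1 : K) ⊗ₜ[R] a) = (1 : K) ⊗ₜ[R] HopfAlgebra.antipode R a := by
  rw [TensorProduct.antipode_def]
  simp

variable (R K A) in
/-- the natural map `A ⊗_R A → (K ⊗ A) ⊗_K (K ⊗ A)` -/
noncomputable def ψ : A ⊗[R] A →ₗ[R] (K ⊗[R] A) ⊗[K] (K ⊗[R] A) :=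
  (TensorProduct.mapOfCompatibleSMul K R R (K ⊗[R] A) (K ⊗[R] A)) ∘ₗ
    TensorProduct.map (TensorProduct.mk R K A 1) (TensorProduct.mk R K A 1)

lemma ψ_tmul (a b : A) : ψ R K A (a ⊗ₜ b) = ((1 : K) ⊗ₜ[R] a) ⊗ₜ[K] ((1 : K) ⊗ₜ[R] b) := rfl

lemma comul_one_tmul (a : A) :
    Coalgebra.comul (R := K) ((1 : K) ⊗ₜ[R] a) = ψ R K A (Coalgebra.comul (R := R) a) := by
  rw [TensorProduct.comul_tmul]
  have h1 : Coalgebra.comul (R := K) (1 : K) = (1 : K) ⊗ₜ[K] (1 : K) := by
    simp
  rw [h1]
  generalize Coalgebra.comul (R := R) a = u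
  induction u with
  | zero => simp
  | add x y hx hy => rw [TensorProduct.tmul_add, map_add, map_add, hx, hy]
  | tmul x y => simp [ψ_tmul]

section Square
variable (J' : Ideal A) (J : Ideal (K ⊗[R] A))
  (hJJ : J' ≤ Ideal.comap (Algebra.TensorProduct.includeRight : A →ₐ[R] K ⊗[R] A) J)

/-- the map `A/J' → (K ⊗ A)/J` -/
noncomputable def jmap :
    (A ⧸ J'.restrictScalars R) →ₗ[R] ((K ⊗[R] A) ⧸ J.restrictScalars K) :=
  Submodule.liftQ _ (((J.restrictScalars K).mkQ.restrictScalars R) ∘ₗ (TensorProduct.mk R K A 1))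
    (by
      intro a ha
      rw [LinearMap.mem_ker]
      have : (1 : K) ⊗ₜ[R] a ∈ J := hJJ ha
      simpa using this)

lemma jmap_mk (a : A) : jmap J' J hJJ (Submodule.Quotient.mk a)
    = Submodule.Quotient.mk ((1 : K) ⊗ₜ[R] a) := rfl

/-- `ψ'` -/
noncomputable def ψ' : (A ⧸ J'.restrictScalars R) ⊗[R] (A ⧸ J'.restrictScalars R) →ₗ[R]
    ((K ⊗[R] A) ⧸ J.restrictScalars K) ⊗[K] ((K ⊗[R] A) ⧸ J.restrictScalars K) :=
  (TensorProduct.mapOfCompatibleSMul K R R _ _) ∘ₗ TensorProduct.map (jmap J' J hJJ) (jmap J' J hJJ)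

lemma square (u : A ⊗[R] A) :
    TensorProduct.map (J.restrictScalars K).mkQ (J.restrictScalars K).mkQ (ψ R K A u)
      = ψ' J' J hJJ (TensorProduct.map (J'.restrictScalars R).mkQ (J'.restrictScalars R).mkQ u) := by
  induction u with
  | zero => simp
  | add x y hx hy => simp only [map_add, hx, hy]
  | tmul x y => rfl

lemma jmap_injective (hJ' : J' = Ideal.comap (Algebra.TensorProduct.includeRight : A →ₐ[R] K ⊗[R] A) J) :
    Function.Injective (jmap J' J hJJ) := by
  rw [← LinearMap.ker_eq_bot, LinearMap.ker_eq_bot']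
  intro m hm
  obtain ⟨a, rfl⟩ := Submodule.Quotient.mk_surjective _ m
  rw [jmap_mk, Submodule.Quotient.mk_eq_zero] at hm
  rw [Submodule.Quotient.mk_eq_zero]
  show a ∈ J'
  rw [hJ']
  exact hm

instance flat_NQ : Module.Flat R ((K ⊗[R] A) ⧸ J.restrictScalars K) := by
  haveI : Module.Flat R K := IsLocalization.flat K (nonZeroDivisors R)
  exact Module.Flat.trans R K _

lemma ψ'_injective (hJ' : J' = Ideal.comap (Algebra.TensorProduct.includeRight : A →ₐ[R] K ⊗[R] A) J)
    [Module.Flat R (A ⧸ J'.restrictScalars R)] :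
    Function.Injective (ψ' J' J hJJ) := by
  have hj := jmap_injective J' J hJJ hJ'
  haveI : TensorProduct.CompatibleSMul R K ((K ⊗[R] A) ⧸ J.restrictScalars K)
      ((K ⊗[R] A) ⧸ J.restrictScalars K) :=
    IsLocalization.tensorProduct_compatibleSMul (nonZeroDivisors R) K _ _
  have h1 : Function.Injective
      (TensorProduct.mapOfCompatibleSMul K R R ((K ⊗[R] A) ⧸ J.restrictScalars K)
        ((K ⊗[R] A) ⧸ J.restrictScalars K)) :=
    (TensorProduct.equivOfCompatibleSMul K R R _ _).injective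
  have h2 : Function.Injective (TensorProduct.map (jmap J' J hJJ) (jmap J' J hJJ)) := by
    have e : TensorProduct.map (jmap J' J hJJ) (jmap J' J hJJ)
        = (jmap J' J hJJ).rTensor _ ∘ₗ (jmap J' J hJJ).lTensor _ := by
      ext x y
      simp
    rw [e]
    exact (Module.Flat.rTensor_preserves_injective_linearMap _ hj).comp
      (Module.Flat.lTensor_preserves_injective_linearMap _ hj)
  exact h1.comp h2

end Square

end Hopf

section Main
open TensorProduct

theorem main (R : Type u) [CommRing R] [IsDedekindDomain R]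
    (K : Type u) [Field K] [Algebra R K] [IsFractionRing R K]
    (A : Type u) [CommRing A] [HopfAlgebra R A] [Module.Finite R A] [Module.Flat R A] :
    Set.BijOn (fun J' : Ideal A => Ideal.map (Algebra.TensorProduct.includeRight : A →ₐ[R] K ⊗[R] A) J')
      {J' : Ideal A | J'.IsHopfIdeal R ∧ Module.Flat R (A ⧸ J')}
      {J : Ideal (K ⊗[R] A) | J.IsHopfIdeal K} := by
  have hinjRK : Function.Injective (algebraMap R K) := IsFractionRing.injective R K
  refine ⟨?_, ?_, ?_⟩
  · -- MapsTo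
    rintro J' ⟨hH, hF⟩
    show (Ideal.map (Algebra.TensorProduct.includeRight : A →ₐ[R] K ⊗[R] A) J').IsHopfIdeal K
    set J := Ideal.map (Algebra.TensorProduct.includeRight : A →ₐ[R] K ⊗[R] A) J' with hJ
    have hJJ : J' ≤ Ideal.comap (Algebra.TensorProduct.includeRight : A →ₐ[R] K ⊗[R] A) J :=
      Ideal.le_comap_map
    have key : ∀ y ∈ J, ∃ c : K, c ≠ 0 ∧ ∃ j ∈ J', c • y = (1 : K) ⊗ₜ[R] j := by
      intro y hy
      obtain ⟨s, hs, j, hj, h⟩ := (mem_map_iff J' y).mp hy
      refine ⟨algebraMap R K s, ?_, j, hj, ?_⟩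
      · rwa [Ne, FaithfulSMul.algebraMap_eq_zero_iff]
      · rw [algebraMap_smul]; exact h
    rw [Ideal.isHopfIdeal_iff]
    refine ⟨⟨?_, ?_⟩, ?_⟩
    · intro y hy
      obtain ⟨c, hc, j, hj, h⟩ := key y hy
      have h1 : c • Coalgebra.counit (R := K) y = 0 := by
        rw [← map_smul, h, counit_one_tmul, hH.counit_eq_zero hj, map_zero]
      exact (smul_eq_zero_iff_right hc).mp h1
    · intro y hy
      obtain ⟨c, hc, j, hj, h⟩ := key y hy
      have h1 : c • (TensorProduct.map (J.restrictScalars K).mkQ (J.restrictScalars K).mkQ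
          (Coalgebra.comul (R := K) y)) = 0 := by
        rw [← map_smul, ← map_smul, h, comul_one_tmul, square J' J hJJ,
          hH.map_mkQ_comul_eq_zero hj, map_zero]
      exact (smul_eq_zero_iff_right hc).mp h1
    · intro y hy
      obtain ⟨c, hc, j, hj, h⟩ := key y hy
      have h1 : c • HopfAlgebra.antipode K y ∈ J := by
        rw [← map_smul, h, antipode_one_tmul]
        exact Ideal.mem_map_of_mem _ (hH.antipode_mem hj)
      have h2 := J.smul_of_tower_mem c⁻¹ h1
      rwa [smul_smul, inv_mul_cancel₀ hc, one_smul] at h2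
  · -- InjOn
    rintro J₁ ⟨_, hF₁⟩ J₂ ⟨_, hF₂⟩ h
    have e1 := comap_map_eq (R := R) (K := K) J₁
      (fun s a hs h => torsionFree_of_flat_quot (R := R) J₁ s a hs h)
    have e2 := comap_map_eq (R := R) (K := K) J₂
      (fun s a hs h => torsionFree_of_flat_quot (R := R) J₂ s a hs h)
    rw [← e1, ← e2]
    exact congrArg _ h
  · -- SurjOn
    intro J hJ
    have hJH : J.IsHopfIdeal K := hJ
    set J' := Ideal.comap (Algebra.TensorProduct.includeRight : A →ₐ[R] K ⊗[R] A) J with hJ'
    have hJJ : J' ≤ Ideal.comap (Algebra.TensorProduct.includeRight : A →ₐ[R] K ⊗[R] A) J := le_rfl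
    have hj := jmap_injective J' J hJJ rfl
    haveI : Module.IsTorsionFree R (A ⧸ J'.restrictScalars R) :=
      Function.Injective.moduleIsTorsionFree (jmap J' J hJJ) hj (fun r m => map_smul _ r m)
    haveI : Module.Flat R (A ⧸ J'.restrictScalars R) := inferInstance
    refine ⟨J', ⟨(Ideal.isHopfIdeal_iff R J').mpr ⟨⟨?_, ?_⟩, ?_⟩, ?_⟩, ?_⟩
    · intro a ha
      have h1 : (1 : K) ⊗ₜ[R] a ∈ J := ha
      have h2 := hJH.counit_eq_zero h1
      rw [counit_one_tmul] at h2
      exact hinjRK (by rw [h2, map_zero])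
    · intro a ha
      have h1 : (1 : K) ⊗ₜ[R] a ∈ J := ha
      have h2 := hJH.map_mkQ_comul_eq_zero h1
      rw [comul_one_tmul, square J' J hJJ] at h2
      exact ψ'_injective J' J hJJ rfl (by rw [h2, map_zero])
    · intro a ha
      have h1 : (1 : K) ⊗ₜ[R] a ∈ J := ha
      have h2 := hJH.antipode_mem h1
      rw [antipode_one_tmul] at h2
      exact h2
    · exact Module.Flat.of_linearEquiv (Submodule.Quotient.restrictScalarsEquiv R J').symm
    · show Ideal.map _ J' = J
      refine le_antisymm Ideal.map_comap_le ?_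
      intro y hy
      rw [mem_map_iff]
      obtain ⟨s, hs, a, h⟩ := exists_smul_eq y
      refine ⟨s, hs, a, ?_, h⟩
      show (1 : K) ⊗ₜ[R] a ∈ J
      rw [← h]
      exact J.smul_of_tower_mem s hy

end Main

/-- Let R be a Dedekind domain with fraction field K and let G = Spec A be a finite flat group scheme
over R (A a commutative Hopf algebra over R, finite and flat as an R-module). Closed flat R-subgroup
schemes of G correspond one-to-one to closed K-subgroup schemes of the generic fibre G_K under H ↦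
H_K: the map sending a Hopf ideal J' of A with A/J' flat over R to the ideal it generates in K ⊗_R A
is a bijection onto the set of Hopf ideals of the Hopf algebra K ⊗_R A over K (its inverse takes a
Hopf ideal of K ⊗_R A to its preimage in A). -/
theorem result (R : Type u) [CommRing R] [IsDedekindDomain R]
    (K : Type u) [Field K] [Algebra R K] [IsFractionRing R K]
    (A : Type u) [CommRing A] [HopfAlgebra R A] [Module.Finite R A] [Module.Flat R A] :
    Set.BijOn (fun J' : Ideal A => Ideal.map (Algebra.TensorProduct.includeRight : A →ₐ[R] K ⊗[R] A) J')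
      {J' : Ideal A | J'.IsHopfIdeal R ∧ Module.Flat R (A ⧸ J')}
      {J : Ideal (K ⊗[R] A) | J.IsHopfIdeal K} := by
  exact Groth.Agent.S13407.main R K A

end Groth.Agent.S13407
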