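import Groth.Statements.S1341
import Groth.Agent.Lib.Helper16.Sch.CMSch2
import Groth.Agent.Lib.Helper16.Sch.CMSch3
import Groth.Agent.Lib.Helper16.Sch.CMDense

set_option autoImplicit false
universe u
open FlatMor

namespace Groth.Agent.S1341

open AlgebraicGeometry CategoryTheory Limits in
/-- Let f : X ⟶ S be flat and locally of finite presentation. Then the set of points of X at which f is
Cohen–Macaulay is open in X, and its intersection with every fibre of f is dense in that fibre. -/
theorem result {X S : Scheme.{u}} (f : X ⟶ S) [Flat f] [LocallyOfFinitePresentation f] :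
    IsOpen {x : ↑X | MoreMor.IsCMAt f x} ∧ ∀ s : S, Dense ((f.fiberι s) ⁻¹' {x : ↑X | MoreMor.IsCMAt f x}) := by
  refine ⟨?_, fun s => Groth.Agent.Helper16.CMSch.dense_cm_fiber f s⟩
  rw [isOpen_iff_forall_mem_open]
  intro x hx
  obtain ⟨n, U, hxU, g, hcomm, hqf, hfl⟩ :=
    Groth.Agent.Helper16.CMSch.exists_qf_flat_to_affineSpace f x hx
  haveI := hqf
  haveI := hfl
  refine ⟨U, ?_, U.2, hxU⟩
  intro x' hx'
  exact Groth.Agent.Helper16.CMSch.isCMAt_of_qf_flat_to_affineSpace f x' n U hx' g hcomm
    (AlgebraicGeometry.Flat.stalkMap g ⟨x', hx'⟩)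

end Groth.Agent.S1341
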