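import Groth.Statements.S13422
import Groth.Agent.Lib.Helper12.QSecThrough
import Groth.Agent.Lib.Helper12.AgreeOpen

set_option autoImplicit false
universe u
open CategoryTheory AlgebraicGeometry
open NeronHD

namespace Groth.Agent.S13422

/-- Let S be a locally Noetherian scheme over a field of characteristic 0, S₀ ⊆ S a scheme-theoretically
dense open, and N a smooth S-scheme with the weak Néron mapping property for S₀ ⊆ S: for every étale
S-scheme U, restriction to S₀ is a bijection from S-morphisms U → N onto S₀-morphisms U|S₀ → N|S₀.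
Then N has the uniqueness half of the Néron mapping property: for every smooth S-scheme Z,
restriction of S-morphisms Z → N to S₀ is injective. (Case of schemes of a statement about algebraic
spaces.) -/
theorem result {k : Type u} [Field k] [CharZero k] {S : Scheme.{u}} (σ : S ⟶ Spec (CommRingCat.of k)) [IsLocallyNoetherian S] (S₀ : S.Opens) (hS₀ : CInt.IsSchematicallyDense S₀)
    (N : Over S) [Smooth N.hom]
    (hN : ∀ U : Over S, Etale U.hom → Function.Bijective (fun g : U ⟶ N => (Over.pullback S₀.ι).map g))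
    (Z : Over S) [Smooth Z.hom] :
    Function.Injective (fun g : Z ⟶ N => (Over.pullback S₀.ι).map g) := by
  classical
  intro g₁ g₂ h12
  have h12' : (Over.pullback S₀.ι).map g₁ = (Over.pullback S₀.ι).map g₂ := h12
  haveI : Flat Z.hom := inferInstance
  have hDdense : CInt.IsSchematicallyDense (Z.hom ⁻¹ᵁ S₀) :=
    Groth.Agent.Helper12.AgreeOpen.isSchematicallyDense_preimage Z.hom S₀ hS₀
  have hfst : Limits.pullback.fst Z.hom S₀.ι ≫ g₁.left =
      Limits.pullback.fst Z.hom S₀.ι ≫ g₂.left := by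
    have h := congrArg (fun φ => φ.left ≫ Limits.pullback.fst N.hom S₀.ι) h12'
    simp only [Over.pullback_map_left] at h
    rw [Limits.pullback.lift_fst, Limits.pullback.lift_fst] at h
    exact h
  have hD : (Z.hom ⁻¹ᵁ S₀).ι ≫ g₁.left = (Z.hom ⁻¹ᵁ S₀).ι ≫ g₂.left := by
    have hfac : (Z.hom ⁻¹ᵁ S₀).ι = Limits.pullback.lift (Z.hom ⁻¹ᵁ S₀).ι (Z.hom ∣_ S₀)
        (morphismRestrict_ι Z.hom S₀).symm ≫ Limits.pullback.fst Z.hom S₀.ι :=
      (Limits.pullback.lift_fst _ _ _).symm
    rw [hfac, Category.assoc, Category.assoc, hfst]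
  have hsec : ∀ (S' : Scheme.{u}) (g' : S' ⟶ S) (h : S' ⟶ Z.left), Etale g' → h ≫ Z.hom = g' →
      h ≫ g₁.left = h ≫ g₂.left := by
    intro S' g' h hg' hh
    have h3 : (Over.homMk h hh : Over.mk g' ⟶ Z) ≫ g₁ = (Over.homMk h hh : Over.mk g' ⟶ Z) ≫ g₂ := by
      apply (hN (Over.mk g') hg').1
      show (Over.pullback S₀.ι).map ((Over.homMk h hh : Over.mk g' ⟶ Z) ≫ g₁) =
        (Over.pullback S₀.ι).map ((Over.homMk h hh : Over.mk g' ⟶ Z) ≫ g₂)
      rw [Functor.map_comp, Functor.map_comp, h12']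
    exact congrArg (fun φ => φ.left) h3
  have hpt : ∀ z : Z.left, g₁.left z = g₂.left z := by
    intro z
    obtain ⟨S', g', s', h, hg', hh, hsp⟩ :=
      Groth.Agent.Helper12.QSecThrough.smooth_section_specializing σ Z.hom z
    have h1 := hsec S' g' h hg' hh
    have h2 : g₁.left (h s') = g₂.left (h s') := by
      rw [← Scheme.Hom.comp_apply, h1, Scheme.Hom.comp_apply]
    obtain ⟨W, hW, hWeq⟩ := Groth.Agent.Helper12.AgreeOpen.exists_open_agree g₁.left g₂.left
      (Z.hom ⁻¹ᵁ S₀) hDdense hD (h s') h2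
    have hzW : z ∈ W := hsp.mem_open W.2 hW
    have h4 := congrArg (fun φ : (W : Scheme.{u}) ⟶ N.left => φ ⟨z, hzW⟩) hWeq
    exact h4
  exact Over.OverMorphism.ext
    (Groth.Agent.Helper12.AgreeOpen.eq_of_forall_apply_eq g₁.left g₂.left
      (Z.hom ⁻¹ᵁ S₀) hDdense hD hpt)

end Groth.Agent.S13422
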