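import Groth.Statements.S4997
import Mathlib
import Groth.Agent.Lib.Helper6.QFEtale
-- import your own Groth.Agent.* helpers here

set_option autoImplicit false
universe u
open CategoryTheory CategoryTheory.Limits AlgebraicGeometry TopologicalSpace
open Unram17

namespace Groth.Agent.S4997

section

theorem etale_of_smooth_of_quasiFinite (A B : Type u) [CommRing A] [CommRing B] [Algebra A B]
    [Algebra.Smooth A B] [Algebra.QuasiFinite A B] : Algebra.Etale A B := by
  haveI : Algebra.FinitePresentation A B := Algebra.Smooth.finitePresentation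
  rw [← Algebra.etaleLocus_eq_univ_iff_etale]
  rw [Set.eq_univ_iff_forall]
  intro q
  rw [Algebra.mem_etaleLocus_iff]
  haveI : Algebra.QuasiFiniteAt A q.asIdeal := inferInstance
  apply Groth.Agent.Helper6.QFEtale.isEtaleAt_of_isSmoothAt_of_quasiFiniteAt A B q.asIdeal
  have h := Algebra.smoothLocus_eq_univ (R := A) (A := B)
  have hq : q ∈ Algebra.smoothLocus A B := by rw [h]; trivial
  exact hq

theorem ringHom_iff {R S : Type u} [CommRing R] [CommRing S] (φ : R →+* S) :
    φ.Etale ↔ φ.Smooth ∧ φ.QuasiFinite := by
  constructor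
  · intro h
    algebraize [φ]
    haveI : Algebra.Etale R S := h
    refine ⟨?_, ?_⟩
    · show Algebra.Smooth R S
      infer_instance
    · show Algebra.QuasiFinite R S
      infer_instance
  · rintro ⟨h1, h2⟩
    algebraize [φ]
    haveI : Algebra.Smooth R S := h1
    haveI : Algebra.QuasiFinite R S := h2
    exact etale_of_smooth_of_quasiFinite R S

theorem main {X Y : Scheme.{u}} (f : X ⟶ Y) :
    Etale f ↔ Smooth f ∧ LocallyQuasiFinite f := by
  rw [etale_iff, smooth_iff, locallyQuasiFinite_iff]
  constructor
  · intro h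
    exact ⟨fun {U} hU {V} hV e => ((ringHom_iff _).mp (h hU hV e)).1,
      fun {U} hU {V} hV e => ((ringHom_iff _).mp (h hU hV e)).2⟩
  · rintro ⟨h1, h2⟩ U hU V hV e
    exact (ringHom_iff _).mpr ⟨h1 hU hV e, h2 hU hV e⟩

end

/-- A morphism of schemes is etale if and only if it is smooth and locally quasi-finite. -/
theorem result {X Y : Scheme.{u}} (f : X ⟶ Y) :
    Etale f ↔ Smooth f ∧ LocallyQuasiFinite f := by
  exact Groth.Agent.S4997.main f

end Groth.Agent.S4997
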