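import Groth.Statements.S13423
import Groth.Agent.S1450
import Groth.Agent.S4997
import Groth.Agent.Lib.Helper15.UnramifiedFibers
import Groth.Agent.Lib.Helper18.GenSep
import Groth.Agent.Lib.Lead.ConnIrr

set_option autoImplicit false
universe u
open CategoryTheory AlgebraicGeometry
open NeronHD

namespace Groth.Agent.S13423

open Groth.Agent.Lead.ConnIrr in
theorem irreducibleSpace_of_locNoeth (S : Scheme.{u}) [IsLocallyNoetherian S] [ConnectedSpace S]
    (h : ∀ x : S, IsDomain (S.presheaf.stalk x)) : IrreducibleSpace S := by
  refine Groth.Agent.Helper1.GU.irreducibleSpace_of_preconnected (maxPts S) ?_ ?_ ?_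
  · intro x
    obtain ⟨ζ, hζ, hsp, -⟩ := exists_maxPt_specializes x
    exact ⟨ζ, hζ, hsp⟩
  · intro x ζ₁ ζ₂ h₁ h₂ hs₁ hs₂
    haveI := h x
    exact maxPt_unique S x ζ₁ ζ₂ h₁ h₂ hs₁ hs₂
  · intro x
    obtain ⟨U, hUa, hxU, -⟩ := exists_isAffineOpen_mem_and_subset (x := x) (U := (⊤ : S.Opens)) trivial
    haveI : IsNoetherianRing Γ(S, U) := IsLocallyNoetherian.component_noetherian ⟨U, hUa⟩
    haveI : TopologicalSpace.NoetherianSpace U := noetherianSpace_of_isAffineOpen U hUa
    refine ⟨U, U.2, hxU, ?_⟩
    have hfin : (maxPts (U : Scheme.{u})).Finite := finite_maxPts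
    refine (hfin.image (fun z : (U : Scheme.{u}) => (z.1 : S))).subset ?_
    rintro ζ ⟨hζ, hζU⟩
    refine ⟨⟨ζ, hζU⟩, ?_, rfl⟩
    intro y hy
    have h1 : (y.1 : S) ⤳ ζ := hy.map continuous_subtype_val
    exact Subtype.ext (hζ _ h1)

/-- Let S be a reduced, locally Noetherian scheme over a field of characteristic 0 whose local rings are
all geometrically unibranch, and let f : X → S be quasi-finite (locally of finite type,
quasi-compact, with finite discrete fibres), separated and dominant, with X connected and nonempty,
such that every fibre X_s over the residue field k(s) is smooth. Then f is étale. (Case of schemes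
of a statement about algebraic spaces.) -/
theorem result {k : Type u} [Field k] [CharZero k] {S : Scheme.{u}} (σ : S ⟶ Spec (CommRingCat.of k)) [IsLocallyNoetherian S] [IsReduced S]
    (hS : ∀ s : S, CAlg2.IsGeomUnibranch (S.presheaf.stalk s))
    {X : Scheme.{u}} (f : X ⟶ S) [LocallyOfFiniteType f] [QuasiCompact f] [LocallyQuasiFinite f] [IsSeparated f] [IsDominant f]
    [ConnectedSpace X]
    (hfib : ∀ s : S, Smooth (Limits.pullback.snd f (S.fromSpecResidueField s))) :
    Etale f := by
  classical
  -- stalks of S are domains
  have hdom : ∀ s : S, IsDomain (S.presheaf.stalk s) := by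
    intro s
    haveI h1 : IsDomain (CAlg2.red (S.presheaf.stalk s)) := (hS s).1.1
    have hnil : nilradical (S.presheaf.stalk s) = ⊥ := nilradical_eq_zero _
    have hinj : Function.Injective (Ideal.Quotient.mk (nilradical (S.presheaf.stalk s))) := by
      rw [hnil]
      exact (RingEquiv.quotientBot _).symm.injective
    exact hinj.isDomain _
  -- S is connected
  haveI : ConnectedSpace S := by
    have h1 : _root_.IsConnected (Set.range f) := isConnected_range f.continuous
    have h2 : closure (Set.range f) = Set.univ := f.denseRange.closure_range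
    have h3 : _root_.IsConnected (Set.univ : Set S) := h2 ▸ h1.closure
    exact connectedSpace_iff_univ.mpr h3
  haveI : IrreducibleSpace S := irreducibleSpace_of_locNoeth S hdom
  haveI : IsIntegral S := isIntegral_of_irreducibleSpace_of_isReduced S
  -- f is formally unramified
  haveI : FormallyUnramified f := by
    refine Groth.Agent.Helper15.formallyUnramified_of_fibers f fun s => ?_
    haveI : Smooth (f.fiberToSpecResidueField s) := hfib s
    haveI : LocallyQuasiFinite (f.fiberToSpecResidueField s) :=
      MorphismProperty.pullback_snd (P := @LocallyQuasiFinite) _ _ inferInstance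
    haveI : Etale (f.fiberToSpecResidueField s) :=
      (Groth.Agent.S4997.result _).2 ⟨inferInstance, inferInstance⟩
    infer_instance
  have hgen : genericPoint ↑S ∈ Set.range ⇑f := by
    refine Groth.Agent.Helper18.GenSep.genericPoint_mem_range f ?_
    rw [f.denseRange.closure_range]
    trivial
  exact (Groth.Agent.S1450.result f hS hgen).1

end Groth.Agent.S13423
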