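import Groth.Statements.S13424
import Groth.Agent.Lib.Helper12.ClosureOpen
import Groth.Agent.Lib.Helper16.Sch.NormalEtaleSch

set_option autoImplicit false
universe u
open CategoryTheory AlgebraicGeometry
open GrpSch

namespace Groth.Agent.S13424

/-- Let S be a normal, locally Noetherian scheme over a field of characteristic 0. Let p : G → S and q :
H → S be smooth morphisms with sections e_G and e_H, and f : G → H an étale morphism over S with f ∘
e_G = e_H (the case in view: an étale homomorphism of smooth group schemes and their unit sections).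
Call such a pointed S-scheme aligned when the scheme-theoretic image of its section is étale over S.
If H is aligned then G is aligned. (The published statement has an arbitrary locally Noetherian
base; over the reducible curve xy = 0 the étale group scheme obtained from two copies of the base
glued along the complement of one branch maps to the trivial group by an étale homomorphism and is
not aligned, so the base is taken normal here, where the closure of the section is a union of
connected components of the preimage of the image of e_H. Schemes only.) -/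
theorem result {k : Type u} [Field k] [CharZero k] {S : Scheme.{u}} (σ : S ⟶ Spec (CommRingCat.of k)) [IsLocallyNoetherian S] (hS : Pi1.IsNormalScheme S)
    {G H : Scheme.{u}} (p : G ⟶ S) (q : H ⟶ S) [Smooth p] [Smooth q]
    (eG : S ⟶ G) (eH : S ⟶ H) (heG : eG ≫ p = 𝟙 S) (heH : eH ≫ q = 𝟙 S)
    (f : G ⟶ H) [Etale f] (hf : f ≫ q = p) (hfe : eG ≫ f = eH)
    (hH : Etale (eH.ker.subschemeι ≫ q)) :
    Etale (eG.ker.subschemeι ≫ p) := by
  classical
  haveI : IsLocallyNoetherian G := LocallyOfFiniteType.isLocallyNoetherian p
  haveI : QuasiCompact eG := Groth.Agent.Helper12.ClosureOpen.quasiCompact_of_section eG p heG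
  haveI : Etale (eH.ker.subschemeι ≫ q) := hH
  haveI : IsClosedImmersion (Limits.pullback.fst f eH.ker.subschemeι) := inferInstance
  haveI : Etale (Limits.pullback.snd f eH.ker.subschemeι) := inferInstance
  have hTS : Limits.pullback.fst f eH.ker.subschemeι ≫ p =
      Limits.pullback.snd f eH.ker.subschemeι ≫ eH.ker.subschemeι ≫ q := by
    rw [← hf, ← Category.assoc, Limits.pullback.condition, Category.assoc]
  haveI hTet : Etale (Limits.pullback.fst f eH.ker.subschemeι ≫ p) := by
    rw [hTS]; infer_instance
  have hlift : eG ≫ f = eH.toImage ≫ eH.ker.subschemeι := by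
    rw [hfe]; exact eH.toImage_imageι.symm
  have ha : Limits.pullback.lift eG eH.toImage hlift ≫
      Limits.pullback.fst f eH.ker.subschemeι = eG := Limits.pullback.lift_fst _ _ _
  haveI : IsLocallyNoetherian (Limits.pullback f eH.ker.subschemeι) :=
    LocallyOfFiniteType.isLocallyNoetherian (Limits.pullback.fst f eH.ker.subschemeι ≫ p)
  have hdomT : ∀ t : ↥(Limits.pullback f eH.ker.subschemeι),
      IsDomain ((Limits.pullback f eH.ker.subschemeι).presheaf.stalk t) := fun t => by
    haveI := (hS ((Limits.pullback.fst f eH.ker.subschemeι ≫ p) t)).1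
    haveI := (hS ((Limits.pullback.fst f eH.ker.subschemeι ≫ p) t)).2
    exact (Groth.Agent.Helper16.NormalEtale.stalk_normal_of_etale
      (Limits.pullback.fst f eH.ker.subschemeι ≫ p) t).1
  have haS : Limits.pullback.lift eG eH.toImage hlift ≫
      (Limits.pullback.fst f eH.ker.subschemeι ≫ p) = 𝟙 S := by
    rw [← Category.assoc, ha, heG]
  haveI hoa : IsOpenImmersion (Limits.pullback.lift eG eH.toImage hlift) := by
    haveI : Etale (Limits.pullback.lift eG eH.toImage hlift ≫
        (Limits.pullback.fst f eH.ker.subschemeι ≫ p)) := by rw [haS]; infer_instance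
    haveI : Etale (Limits.pullback.lift eG eH.toImage hlift) :=
      Etale.of_comp _ (Limits.pullback.fst f eH.ker.subschemeι ≫ p)
    haveI : Mono (Limits.pullback.lift eG eH.toImage hlift) := mono_of_mono_fac haS
    exact IsOpenImmersion.of_flat_of_mono _
  have hopen_a : IsOpen (Set.range (Limits.pullback.lift eG eH.toImage hlift)) :=
    (Limits.pullback.lift eG eH.toImage hlift).isOpenEmbedding.isOpen_range
  have hcl_open := Groth.Agent.Helper12.ClosureOpen.isOpen_closure_of_isOpen _ hdomT _ hopen_a
  -- the closed immersion Z_G → T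
  have hker : (Limits.pullback.fst f eH.ker.subschemeι).ker ≤ eG.ker.subschemeι.ker := by
    rw [Scheme.IdealSheafData.ker_subschemeι, ← ha]
    exact Scheme.Hom.le_ker_comp _ _
  have hc : IsClosedImmersion.lift (Limits.pullback.fst f eH.ker.subschemeι) eG.ker.subschemeι hker ≫
      Limits.pullback.fst f eH.ker.subschemeι = eG.ker.subschemeι :=
    IsClosedImmersion.lift_fac _ _ _
  haveI : IsClosedImmersion (IsClosedImmersion.lift (Limits.pullback.fst f eH.ker.subschemeι)
      eG.ker.subschemeι hker ≫ Limits.pullback.fst f eH.ker.subschemeι) := by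
    rw [hc]; infer_instance
  haveI hcci : IsClosedImmersion (IsClosedImmersion.lift (Limits.pullback.fst f eH.ker.subschemeι)
      eG.ker.subschemeι hker) :=
    IsClosedImmersion.of_comp _ (Limits.pullback.fst f eH.ker.subschemeι)
  have hrange : Set.range (IsClosedImmersion.lift (Limits.pullback.fst f eH.ker.subschemeι)
      eG.ker.subschemeι hker) = closure (Set.range (Limits.pullback.lift eG eH.toImage hlift)) := by
    have hinj : Function.Injective (Limits.pullback.fst f eH.ker.subschemeι) :=
      (Limits.pullback.fst f eH.ker.subschemeι).isClosedEmbedding.injective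
    have h1 : Set.range eG.ker.subschemeι = closure (Set.range eG) := by
      rw [Scheme.IdealSheafData.range_subschemeι, Scheme.Hom.support_ker]
    have h2 : Set.range eG = (Limits.pullback.fst f eH.ker.subschemeι) ''
        Set.range (Limits.pullback.lift eG eH.toImage hlift) := by
      ext g
      constructor
      · rintro ⟨s, rfl⟩
        refine ⟨_, ⟨s, rfl⟩, ?_⟩
        rw [← Scheme.Hom.comp_apply]
        exact congrArg (fun φ : S ⟶ G => φ s) ha
      · rintro ⟨_, ⟨s, rfl⟩, rfl⟩
        refine ⟨s, ?_⟩
        rw [← Scheme.Hom.comp_apply]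
        exact (congrArg (fun φ : S ⟶ G => φ s) ha).symm
    have h3 : closure (Set.range eG) = (Limits.pullback.fst f eH.ker.subschemeι) ''
        closure (Set.range (Limits.pullback.lift eG eH.toImage hlift)) := by
      rw [h2]
      exact ((Limits.pullback.fst f eH.ker.subschemeι).isClosedEmbedding.closure_image_eq _)
    ext t
    constructor
    · rintro ⟨z, rfl⟩
      have h4 : (Limits.pullback.fst f eH.ker.subschemeι) ((IsClosedImmersion.lift
          (Limits.pullback.fst f eH.ker.subschemeι) eG.ker.subschemeι hker) z) ∈
          Set.range eG.ker.subschemeι := by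
        rw [← Scheme.Hom.comp_apply, hc]
        exact ⟨z, rfl⟩
      rw [h1, h3] at h4
      obtain ⟨t', ht', ht'e⟩ := h4
      rw [← hinj ht'e]
      exact ht'
    · intro ht
      have h4 : (Limits.pullback.fst f eH.ker.subschemeι) t ∈ Set.range eG.ker.subschemeι := by
        rw [h1, h3]
        exact ⟨t, ht, rfl⟩
      obtain ⟨z, hz⟩ := h4
      refine ⟨z, hinj ?_⟩
      rw [← Scheme.Hom.comp_apply, hc]
      exact hz
  -- factor through the clopen
  obtain ⟨T', hT'⟩ : ∃ T' : (Limits.pullback f eH.ker.subschemeι).Opens,
      (T' : Set ↥(Limits.pullback f eH.ker.subschemeι)) =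
        closure (Set.range (Limits.pullback.lift eG eH.toImage hlift)) := ⟨⟨_, hcl_open⟩, rfl⟩
  have hsub : Set.range (IsClosedImmersion.lift (Limits.pullback.fst f eH.ker.subschemeι)
      eG.ker.subschemeι hker) ⊆ Set.range T'.ι := by
    rw [Scheme.Opens.range_ι, hT']
    exact hrange.le
  have hc' := IsOpenImmersion.lift_fac T'.ι _ hsub
  haveI : IsClosedImmersion (IsOpenImmersion.lift T'.ι _ hsub ≫ T'.ι) := by
    rw [hc']; exact hcci
  haveI hcci' : IsClosedImmersion (IsOpenImmersion.lift T'.ι _ hsub) :=
    IsClosedImmersion.of_comp _ T'.ι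
  haveI : Surjective (IsOpenImmersion.lift T'.ι _ hsub) := by
    constructor
    rintro ⟨t, ht⟩
    have ht' : t ∈ Set.range (IsClosedImmersion.lift (Limits.pullback.fst f eH.ker.subschemeι)
      eG.ker.subschemeι hker) := by
      rw [hrange, ← hT']; exact ht
    obtain ⟨z, hz⟩ := ht'
    refine ⟨z, ?_⟩
    apply T'.ι.injective
    rw [← Scheme.Hom.comp_apply, hc']
    exact hz
  haveI : ∀ t : ↥(Limits.pullback f eH.ker.subschemeι),
      _root_.IsReduced ((Limits.pullback f eH.ker.subschemeι).presheaf.stalk t) := fun t => by
    haveI := hdomT t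
    infer_instance
  haveI : IsReduced (Limits.pullback f eH.ker.subschemeι) := isReduced_of_isReduced_stalk _
  haveI : IsReduced (T' : Scheme.{u}) := isReduced_of_isOpenImmersion T'.ι
  haveI := isIso_of_isClosedImmersion_of_surjective (IsOpenImmersion.lift T'.ι _ hsub)
  have hfinal : eG.ker.subschemeι ≫ p = IsOpenImmersion.lift T'.ι _ hsub ≫ T'.ι ≫
      (Limits.pullback.fst f eH.ker.subschemeι ≫ p) := by
    rw [← Category.assoc, hc', ← Category.assoc, hc]
  rw [hfinal]
  infer_instance

end Groth.Agent.S13424
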