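import Mathlib
import Groth.Statements.S13427
import Groth.Agent.Lib.Helper19.NeronFormal

set_option autoImplicit false
universe u
open CategoryTheory AlgebraicGeometry
open NeronHD

namespace Groth.Agent.S13427

/-- Let S be a locally Noetherian scheme over a field of characteristic 0, S₀ ⊆ S a scheme-theoretically
dense open, and G, H smooth S-schemes with the Néron mapping property for S₀ ⊆ S (restriction to S₀
of S-morphisms from smooth S-schemes is bijective). Let f : G → H be an S-morphism and e : S → H a
section of H → S, and let K = G ×_H S be the fibre of f over e (the case in view: f a homomorphism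
of smooth group schemes, e the unit, K the kernel, so that 1 → K → G → H is left exact). If K → S is
smooth, then K has the Néron mapping property for S₀ ⊆ S. (Case of schemes, with smooth test
schemes, of a statement about group algebraic spaces.) -/
theorem result {k : Type u} [Field k] [CharZero k] {S : Scheme.{u}} (σ : S ⟶ Spec (CommRingCat.of k)) [IsLocallyNoetherian S] (S₀ : S.Opens) (hS₀ : CInt.IsSchematicallyDense S₀)
    (G H : Over S) [Smooth G.hom] [Smooth H.hom]
    (hG : ∀ Z : Over S, Smooth Z.hom → Function.Bijective (fun g : Z ⟶ G => (Over.pullback S₀.ι).map g))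
    (hH : ∀ Z : Over S, Smooth Z.hom → Function.Bijective (fun g : Z ⟶ H => (Over.pullback S₀.ι).map g))
    (f : G ⟶ H) (e : S ⟶ H.left) (he : e ≫ H.hom = 𝟙 S)
    [Smooth (Limits.pullback.snd f.left e)] :
    ∀ Z : Over S, Smooth Z.hom → Function.Bijective (fun g : Z ⟶ Over.mk (Limits.pullback.snd f.left e) => (Over.pullback S₀.ι).map g) := by
  intro Z hZ
  have hcond : Limits.pullback.fst f.left e ≫ G.hom = Limits.pullback.snd f.left e := by
    have h1 := Limits.pullback.condition (f := f.left) (g := e)
    have h2 := congr($h1 ≫ H.hom)
    simpa [he] using h2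
  let K : Over S := Over.mk (Limits.pullback.snd f.left e)
  let U : Over S := Over.mk (𝟙 S)
  let ι : K ⟶ G := Over.homMk (Limits.pullback.fst f.left e) hcond
  let e' : U ⟶ H := Over.homMk e he
  let p : K ⟶ U := Over.homMk (Limits.pullback.snd f.left e) (by simp [K, U])
  let tZ : Z ⟶ U := Over.homMk Z.hom (by simp [U])
  haveI : Mono (e ≫ H.hom) := by rw [he]; infer_instance
  haveI : Mono e := mono_of_mono e H.hom
  haveI : Mono ι := by
    haveI : Mono ι.left := by
      change Mono (Limits.pullback.fst f.left e)
      infer_instance
    exact Over.mono_of_mono_left ι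
  haveI : Mono ((Over.pullback S₀.ι).map ι) := inferInstance
  refine Groth.Agent.Lib.Helper19.NeronFormal.bijective_fibre (Over.pullback S₀.ι) ι f p e' tZ
    ?_ ?_ ?_ (hG Z hZ) (hH Z hZ).1
  · intro W x y
    exact ((Over.mkIdTerminal (X := S)).isTerminalObj (Over.pullback S₀.ι)).hom_ext x y
  · ext
    simp [ι, p, e', Limits.pullback.condition]
  · intro a ha
    have ha' : a.left ≫ f.left = Z.hom ≫ e := by
      have := congr($(ha).left)
      simpa [tZ, e'] using this
    refine ⟨Over.homMk (Limits.pullback.lift a.left Z.hom ha')
      (Limits.pullback.lift_snd _ _ _), ?_⟩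
    ext
    exact Limits.pullback.lift_fst _ _ _

end Groth.Agent.S13427
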