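import Groth.Statements.S13428
import Groth.Agent.Lib.Helper12.EtDense
import Groth.Agent.Lib.Helper6.SchDenseRed

set_option autoImplicit false
universe u
open CategoryTheory AlgebraicGeometry
open NeronHD

namespace Groth.Agent.S13428

/-- Let S be a normal Noetherian scheme over a field of characteristic 0 and S₀ ⊆ S a
scheme-theoretically dense open. Let N be a smooth, separated and quasi-compact S-scheme with the
Néron mapping property for S₀ ⊆ S (restriction to S₀ of S-morphisms from smooth S-schemes is
bijective) such that N|S₀ → S₀ is étale, so that N is a quasi-projective Néron model of the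
quasi-projective étale S₀-scheme N|S₀. If M is a separated, quasi-compact, étale S-scheme and φ : M
→ N is an S-morphism restricting to an isomorphism over S₀ (so M is another quasi-projective étale
extension of N|S₀, and φ is its canonical map to the Néron model), then φ is an open immersion.
(Case of schemes of the published statement.) -/
theorem result {k : Type u} [Field k] [CharZero k] {S : Scheme.{u}} (σ : S ⟶ Spec (CommRingCat.of k)) [IsNoetherian S] (hS : Pi1.IsNormalScheme S) (S₀ : S.Opens) (hS₀ : CInt.IsSchematicallyDense S₀)
    (N : Over S) [Smooth N.hom] [IsSeparated N.hom] [QuasiCompact N.hom]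
    (hN : ∀ Z : Over S, Smooth Z.hom → Function.Bijective (fun g : Z ⟶ N => (Over.pullback S₀.ι).map g))
    [Etale ((Over.pullback S₀.ι).obj N).hom]
    (M : Over S) [Etale M.hom] [IsSeparated M.hom] [QuasiCompact M.hom]
    (φ : M ⟶ N) [IsIso ((Over.pullback S₀.ι).map φ)] :
    IsOpenImmersion φ.left := by
  classical
  have hdense : Dense (S₀ : Set S) := Groth.Agent.Helper6.dense_of_isSchematicallyDense hS₀
  -- N is étale over S
  haveI hNet : Etale N.hom := by
    refine Groth.Agent.Helper12.EtDense.etale_of_smooth_of_dense N.hom (N.hom ⁻¹ᵁ S₀) ?_ ?_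
    · rw [dense_iff_inter_open]
      intro V hV hVne
      have h1 : IsOpen (N.hom '' V) := N.hom.isOpenMap V hV
      obtain ⟨s, ⟨v, hvV, rfl⟩, hs⟩ := hdense.inter_open_nonempty _ h1 (hVne.image _)
      exact ⟨v, hvV, hs⟩
    · haveI : Etale (Limits.pullback.snd N.hom S₀.ι) :=
        inferInstanceAs (Etale ((Over.pullback S₀.ι).obj N).hom)
      haveI : Etale (N.hom ∣_ S₀) := by
        have h1 : N.hom ∣_ S₀ = (pullbackRestrictIsoRestrict N.hom S₀).inv ≫
            Limits.pullback.snd N.hom S₀.ι := by
          rw [← pullbackRestrictIsoRestrict_hom_morphismRestrict, Iso.inv_hom_id_assoc]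
        rw [h1]
        infer_instance
      rw [← morphismRestrict_ι]
      infer_instance
  have hw : φ.left ≫ N.hom = M.hom := Over.w φ
  haveI : Etale (φ.left ≫ N.hom) := by rw [hw]; infer_instance
  haveI : IsSeparated (φ.left ≫ N.hom) := by rw [hw]; infer_instance
  haveI : Etale φ.left := Etale.of_comp φ.left N.hom
  haveI : IsSeparated φ.left := IsSeparated.of_comp φ.left N.hom
  haveI : IsIso ((Over.pullback S₀.ι).map φ).left := by
    change IsIso ((Over.forget _).map ((Over.pullback S₀.ι).map φ))
    infer_instance
  refine Groth.Agent.Helper12.EtDense.isOpenImmersion_of_dense φ.left N.hom S₀ hdense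
    (Limits.pullback.fst M.hom S₀.ι) (Limits.pullback.fst N.hom S₀.ι) ((Over.pullback S₀.ι).map φ).left ?_ ?_
  · simp only [Over.pullback_map_left]
    rw [Limits.pullback.lift_fst]
  · intro m hm
    rw [Scheme.Pullback.range_fst, Scheme.Opens.range_ι]
    rw [hw] at hm
    exact hm

end Groth.Agent.S13428
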