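import Groth.Statements.S13432
import Groth.Agent.Lib.Helper12.QSecThrough
import Groth.Agent.Lib.Helper12.AgreeOpen
import Groth.Agent.Lib.Helper12.NormalExt
import Groth.Agent.Lib.Helper12.FinSecOpen
import Groth.Agent.Lib.Helper16.Sch.NormalSmoothSch
import Groth.Agent.Lib.Helper6.SchDenseRed

set_option autoImplicit false
universe u
open CategoryTheory AlgebraicGeometry
open NeronHD

namespace Groth.Agent.S13432

/-- Let S be a normal Noetherian scheme over a field of characteristic 0 and S₀ ⊆ S a
scheme-theoretically dense open. Let π : T → S be finite with T normal, and let N ⊆ T be the open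
subscheme where π is smooth (equivalently étale, π being finite). Then N → S has the Néron mapping
property for S₀ ⊆ S: for every smooth S-scheme Z, restriction to S₀ is a bijection from S-morphisms
Z → N onto S₀-morphisms Z|S₀ → N|S₀. (In the published statement T is the normal finite S-scheme
compactifying a given quasi-projective étale S-scheme and N is the maximal quasi-projective étale
scheme containing it; that origin of T plays no role in this part of the proof, so any finite T → S
with T normal is allowed here. Case of schemes, with smooth test schemes, of a statement about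
algebraic spaces.) -/
theorem result {k : Type u} [Field k] [CharZero k] {S : Scheme.{u}} (σ : S ⟶ Spec (CommRingCat.of k)) [IsNoetherian S] (hS : Pi1.IsNormalScheme S) (S₀ : S.Opens) (hS₀ : CInt.IsSchematicallyDense S₀)
    {T : Scheme.{u}} (π : T ⟶ S) [IsFinite π] [LocallyOfFinitePresentation π] (hT : Pi1.IsNormalScheme T) :
    ∀ Z : Over S, Smooth Z.hom → Function.Bijective (fun g : Z ⟶ Over.mk (π.smoothLocus.ι ≫ π) => (Over.pullback S₀.ι).map g) := by
  classical
  intro Z hZ
  have : Smooth Z.hom := hZ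
  have : Flat Z.hom := inferInstance
  have : IsLocallyNoetherian Z.left := LocallyOfFiniteType.isLocallyNoetherian Z.hom
  have : IsLocallyNoetherian T := LocallyOfFiniteType.isLocallyNoetherian π
  have hDdense : CInt.IsSchematicallyDense (Z.hom ⁻¹ᵁ S₀) :=
    Groth.Agent.Helper12.AgreeOpen.isSchematicallyDense_preimage Z.hom S₀ hS₀
  have : IsSchemeTheoreticallyDominant (Z.hom ⁻¹ᵁ S₀).ι :=
    Groth.Agent.Helper14.Ner.isSchemeTheoreticallyDominant_ι hDdense
  have hDd : Dense ((Z.hom ⁻¹ᵁ S₀ : Z.left.Opens) : Set Z.left) :=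
    Groth.Agent.Helper6.dense_of_isSchematicallyDense hDdense
  have hZn : ∀ z : Z.left, IsDomain (Z.left.presheaf.stalk z) ∧
      IsIntegrallyClosed (Z.left.presheaf.stalk z) := by
    intro z
    have hz : z ∈ Z.hom.smoothLocus := by rw [Scheme.Hom.smoothLocus_eq_top]; trivial
    exact (Groth.Agent.Helper16.NormalSmooth.stalk_ascent_of_mem_smoothLocus Z.hom z hz).2
      (hS (Z.hom z))
  -- the comparison iso `D ≅ Z ×_S S₀`
  have hi1 : (pullbackRestrictIsoRestrict Z.hom S₀).inv ≫ Limits.pullback.fst Z.hom S₀.ι =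
      (Z.hom ⁻¹ᵁ S₀).ι := pullbackRestrictIsoRestrict_inv_fst Z.hom S₀
  constructor
  · intro g₁ g₂ h12
    have h12' : (Over.pullback S₀.ι).map g₁ = (Over.pullback S₀.ι).map g₂ := h12
    have hfst : Limits.pullback.fst Z.hom S₀.ι ≫ g₁.left =
        Limits.pullback.fst Z.hom S₀.ι ≫ g₂.left := by
      have h := congrArg (fun φ => φ.left ≫
        Limits.pullback.fst (Over.mk (π.smoothLocus.ι ≫ π)).hom S₀.ι) h12'
      simp only [Over.pullback_map_left] at h
      rw [Limits.pullback.lift_fst, Limits.pullback.lift_fst] at h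
      exact h
    have hD : (Z.hom ⁻¹ᵁ S₀).ι ≫ g₁.left = (Z.hom ⁻¹ᵁ S₀).ι ≫ g₂.left := by
      rw [← hi1, Category.assoc, Category.assoc, hfst]
    have hw : g₁.left ≫ (π.smoothLocus.ι ≫ π) = g₂.left ≫ (π.smoothLocus.ι ≫ π) :=
      (Over.w g₁).trans (Over.w g₂).symm
    exact Over.OverMorphism.ext
      (Groth.Agent.Helper14.Ner.ext_of_isSchemeTheoreticallyDominant (π.smoothLocus.ι ≫ π) hw
        (Z.hom ⁻¹ᵁ S₀).ι hD)
  · intro g₀
    let f₁ : ((Z.hom ⁻¹ᵁ S₀ : Z.left.Opens) : Scheme.{u}) ⟶ T :=
      (pullbackRestrictIsoRestrict Z.hom S₀).inv ≫ g₀.left ≫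
        Limits.pullback.fst (π.smoothLocus.ι ≫ π) S₀.ι ≫ π.smoothLocus.ι
    have hg₀w : g₀.left ≫ Limits.pullback.snd (π.smoothLocus.ι ≫ π) S₀.ι =
        Limits.pullback.snd Z.hom S₀.ι := Over.w g₀
    have hf₁ : f₁ ≫ π = (Z.hom ⁻¹ᵁ S₀).ι ≫ Z.hom := by
      simp only [f₁, Category.assoc]
      rw [Limits.pullback.condition, reassoc_of% hg₀w, ← Limits.pullback.condition,
        reassoc_of% hi1]
    obtain ⟨h, hhπ, hhD⟩ := Groth.Agent.Helper12.NormalExt.exists_extension hZn
      (Z.hom ⁻¹ᵁ S₀) hDd π Z.hom f₁ hf₁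
    have hmem : ∀ z : Z.left, h z ∈ π.smoothLocus := by
      intro z
      obtain ⟨S', g', s', u', hg', hu', hsp⟩ :=
        Groth.Agent.Helper12.QSecThrough.smooth_section_specializing σ Z.hom z
      have : Etale g' := hg'
      have h1 : (u' ≫ h) s' ∈ π.smoothLocus :=
        Groth.Agent.Helper12.FinSecOpen.mem_smoothLocus_of_etale_lift π hT g' (u' ≫ h)
          (by rw [Category.assoc, hhπ, hu']) s'
      exact (hsp.map h.continuous).mem_open π.smoothLocus.2 h1
    have hle : Set.range h ⊆ Set.range π.smoothLocus.ι := by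
      rw [Scheme.Opens.range_ι]
      rintro _ ⟨z, rfl⟩
      exact hmem z
    let h' : Z.left ⟶ π.smoothLocus := IsOpenImmersion.lift π.smoothLocus.ι h hle
    have hh' : h' ≫ π.smoothLocus.ι = h := IsOpenImmersion.lift_fac _ _ _
    refine ⟨Over.homMk h' (by
      show h' ≫ (π.smoothLocus.ι ≫ π) = Z.hom
      rw [← Category.assoc, hh', hhπ]), ?_⟩
    apply Over.OverMorphism.ext
    show ((Over.pullback S₀.ι).map _).left = g₀.left
    simp only [Over.pullback_map_left]
    apply Limits.pullback.hom_ext
    · rw [Limits.pullback.lift_fst]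
      rw [← cancel_mono π.smoothLocus.ι, ← cancel_epi (pullbackRestrictIsoRestrict Z.hom S₀).inv]
      simp only [Over.homMk_left, Category.assoc]
      rw [hh', reassoc_of% hi1, hhD]
      rfl
    · rw [Limits.pullback.lift_snd]
      exact hg₀w.symm

end Groth.Agent.S13432
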