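import Groth.Statements.S13429
import Groth.Agent.S13432
import Groth.Agent.Lib.Helper12.NormFinSep
import Groth.Agent.Lib.Helper12.NormNormal
import Groth.Agent.Lib.Helper12.EtDense

set_option autoImplicit false
universe u
open CategoryTheory AlgebraicGeometry
open NeronHD

namespace Groth.Agent.S13429

open Limits in
theorem aux {k : Type u} [Field k] [CharZero k] {S : Scheme.{u}} (σ : S ⟶ Spec (CommRingCat.of k))
    [IsNoetherian S] (S₀ : S.Opens) (hS₀ : CInt.IsSchematicallyDense S₀)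
    (N₀ : Over (S₀ : Scheme.{u})) [Etale N₀.hom]
    {T : Scheme.{u}} (j : N₀.left ⟶ T) [IsOpenImmersion j] (π : T ⟶ S) [IsFinite π]
    [LocallyOfFinitePresentation π] (hT : Pi1.IsNormalScheme T)
    (hjπ : j ≫ π = N₀.hom ≫ S₀.ι)
    (key : ∀ Z : Over S, Smooth Z.hom → Function.Bijective
      (fun g : Z ⟶ Over.mk (π.smoothLocus.ι ≫ π) => (Over.pullback S₀.ι).map g)) :
    ∃ (N : Over S) (e : (Over.pullback S₀.ι).obj N ≅ N₀), Etale N.hom ∧ IsSeparated N.hom ∧
      QuasiCompact N.hom ∧ ∀ Z : Over S, Smooth Z.hom →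
        Function.Bijective (fun g : Z ⟶ N => (Over.pullback S₀.ι).map g) := by
  classical
  have hTn : IsLocallyNoetherian T := LocallyOfFiniteType.isLocallyNoetherian π
  have hetf : Etale (j ≫ π) := by rw [hjπ]; infer_instance
  obtain ⟨O, hO⟩ : ∃ O : T.Opens, (O : Set T) =
      (closure (((π ⁻¹ᵁ S₀ : T.Opens) : Set T) \ Set.range j))ᶜ :=
    ⟨⟨_, isClosed_closure.isOpen_compl⟩, rfl⟩
  -- facts about `range j`
  have ha : Set.range j ⊆ (π.smoothLocus : Set T) := by
    rintro _ ⟨x, rfl⟩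
    have h1 : j ⁻¹ᵁ π.smoothLocus = ⊤ := by
      rw [Scheme.Hom.preimage_smoothLocus_eq, Scheme.Hom.smoothLocus_eq_top]
    have h2 : x ∈ j ⁻¹ᵁ π.smoothLocus := by rw [h1]; trivial
    exact h2
  have hb : Set.range j ⊆ (O : Set T) := by
    rw [hO]
    have hdisj : Disjoint (Set.range j) (((π ⁻¹ᵁ S₀ : T.Opens) : Set T) \ Set.range j) :=
      Set.disjoint_sdiff_right
    have h2 := hdisj.closure_right j.isOpenEmbedding.isOpen_range
    exact fun t ht hc => Set.disjoint_iff.mp h2 ⟨ht, hc⟩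
  have hc : Set.range j ⊆ ((π ⁻¹ᵁ S₀ : T.Opens) : Set T) := by
    rintro _ ⟨x, rfl⟩
    show π (j x) ∈ S₀
    rw [← Scheme.Hom.comp_apply, hjπ, Scheme.Hom.comp_apply]
    exact (N₀.hom x).2
  have hd : ∀ t : T, t ∈ O → π t ∈ S₀ → t ∈ Set.range j := by
    intro t htO htS
    by_contra hnj
    have : t ∈ (O : Set T) := htO
    rw [hO] at this
    exact this (subset_closure ⟨htS, hnj⟩)
  obtain ⟨N, hN⟩ : ∃ N : T.Opens, N = π.smoothLocus ⊓ O := ⟨_, rfl⟩
  have hNsm : N ≤ π.smoothLocus := hN ▸ inf_le_left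
  have hNO : N ≤ O := hN ▸ inf_le_right
  have hjN : Set.range j ⊆ (N : Set T) := by
    intro t ht
    rw [hN]
    exact ⟨ha ht, hb ht⟩
  have hsm : Smooth (N.ι ≫ π) := by
    rw [← Scheme.Hom.smoothLocus_eq_top_iff, ← Scheme.Hom.preimage_smoothLocus_eq, eq_top_iff]
    rintro ⟨t, ht⟩ -
    exact hNsm ht
  -- the open immersion `N|S₀ ⟶ T` and its range
  have hra : Set.range (pullback.fst (N.ι ≫ π) S₀.ι ≫ N.ι) = Set.range j := by
    apply Set.Subset.antisymm
    · rintro _ ⟨p, rfl⟩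
      apply hd
      · rw [Scheme.Hom.comp_apply]
        exact hNO (pullback.fst (N.ι ≫ π) S₀.ι p).2
      · have h1 : π ((pullback.fst (N.ι ≫ π) S₀.ι ≫ N.ι) p) =
            (pullback.snd (N.ι ≫ π) S₀.ι ≫ S₀.ι) p := by
          rw [← pullback.condition]
          rfl
        rw [h1, Scheme.Hom.comp_apply]
        exact (pullback.snd (N.ι ≫ π) S₀.ι p).2
    · intro t ht
      have htN : t ∈ N := hjN ht
      have htS : π t ∈ S₀ := hc ht
      have h1 : (⟨t, htN⟩ : N) ∈ Set.range (pullback.fst (N.ι ≫ π) S₀.ι) := by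
        rw [Scheme.Pullback.range_fst, Scheme.Opens.range_ι]
        exact htS
      obtain ⟨p, hp⟩ := h1
      refine ⟨p, ?_⟩
      rw [Scheme.Hom.comp_apply, hp]
      rfl
  let iso : pullback (N.ι ≫ π) S₀.ι ≅ N₀.left :=
    IsOpenImmersion.isoOfRangeEq (pullback.fst (N.ι ≫ π) S₀.ι ≫ N.ι) j hra
  have hiso : iso.hom ≫ j = pullback.fst (N.ι ≫ π) S₀.ι ≫ N.ι :=
    IsOpenImmersion.isoOfRangeEq_hom_fac _ _ hra
  have hisow : iso.hom ≫ N₀.hom = pullback.snd (N.ι ≫ π) S₀.ι := by
    rw [← cancel_mono S₀.ι, Category.assoc, ← hjπ, reassoc_of% hiso, ← pullback.condition]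
  let e : (Over.pullback S₀.ι).obj (Over.mk (N.ι ≫ π)) ≅ N₀ := Over.isoMk iso hisow
  -- étale
  have hflat : Flat (N.ι ≫ π) := inferInstance
  have hDdense : CInt.IsSchematicallyDense ((N.ι ≫ π) ⁻¹ᵁ S₀) :=
    Groth.Agent.Helper12.AgreeOpen.isSchematicallyDense_preimage (N.ι ≫ π) S₀ hS₀
  have hDd : Dense ((((N.ι ≫ π) ⁻¹ᵁ S₀ : (N : Scheme.{u}).Opens)) : Set ↥(N : Scheme.{u})) :=
    Groth.Agent.Helper6.dense_of_isSchematicallyDense hDdense
  have hunr : FormallyUnramified (((N.ι ≫ π) ⁻¹ᵁ S₀).ι ≫ N.ι ≫ π) := by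
    have hle : Set.range (((N.ι ≫ π) ⁻¹ᵁ S₀).ι ≫ N.ι) ⊆ Set.range j := by
      rintro _ ⟨w, rfl⟩
      apply hd
      · rw [Scheme.Hom.comp_apply]
        exact hNO (((N.ι ≫ π) ⁻¹ᵁ S₀).ι w).2
      · exact w.2
    obtain ⟨l, hfac⟩ : ∃ l : (((N.ι ≫ π) ⁻¹ᵁ S₀ : (N : Scheme.{u}).Opens) : Scheme.{u}) ⟶ N₀.left,
        l ≫ j = ((N.ι ≫ π) ⁻¹ᵁ S₀).ι ≫ N.ι := ⟨_, IsOpenImmersion.lift_fac _ _ hle⟩
    have h1 : ((N.ι ≫ π) ⁻¹ᵁ S₀).ι ≫ N.ι ≫ π = l ≫ (j ≫ π) := by
      rw [← Category.assoc, ← hfac, Category.assoc]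
    have : IsOpenImmersion l := by
      have : IsOpenImmersion (l ≫ j) := by
        rw [hfac]; infer_instance
      exact IsOpenImmersion.of_comp _ j
    rw [h1]
    infer_instance
  have het : Etale (N.ι ≫ π) :=
    Groth.Agent.Helper12.EtDense.etale_of_smooth_of_dense (N.ι ≫ π) _ hDd hunr
  have hsep : IsSeparated (N.ι ≫ π) := inferInstance
  have hqc : QuasiCompact (N.ι ≫ π) := inferInstance
  refine ⟨Over.mk (N.ι ≫ π), e, het, hsep, hqc, ?_⟩
  intro Z hZ
  have : Smooth Z.hom := hZ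
  let inc : Over.mk (N.ι ≫ π) ⟶ Over.mk (π.smoothLocus.ι ≫ π) := Over.homMk (T.homOfLE hNsm) (by
    show T.homOfLE hNsm ≫ (π.smoothLocus.ι ≫ π) = N.ι ≫ π
    rw [← Category.assoc, Scheme.homOfLE_ι])
  have hincl : inc.left = T.homOfLE hNsm := rfl
  have : Mono inc.left := by rw [hincl]; infer_instance
  have hmono_inc : ∀ {A : Over S} (g₁ g₂ : A ⟶ Over.mk (N.ι ≫ π)),
      g₁ ≫ inc = g₂ ≫ inc → g₁ = g₂ := by
    intro A g₁ g₂ h
    apply Over.OverMorphism.ext
    have h' := congrArg (fun φ => φ.left) h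
    simp only [Over.comp_left] at h'
    exact (cancel_mono inc.left).mp h'
  constructor
  · intro g₁ g₂ h12
    have h12' : (Over.pullback S₀.ι).map g₁ = (Over.pullback S₀.ι).map g₂ := h12
    apply hmono_inc
    apply (key Z hZ).1
    show (Over.pullback S₀.ι).map (g₁ ≫ inc) = (Over.pullback S₀.ι).map (g₂ ≫ inc)
    rw [Functor.map_comp, Functor.map_comp, h12']
  · intro g₀
    obtain ⟨g', hg'⟩ := (key Z hZ).2 (g₀ ≫ (Over.pullback S₀.ι).map inc)
    have hg'' : (Over.pullback S₀.ι).map g' = g₀ ≫ (Over.pullback S₀.ι).map inc := hg'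
    obtain ⟨h, hh⟩ : ∃ h : Z.left ⟶ T, h = g'.left ≫ π.smoothLocus.ι := ⟨_, rfl⟩
    have hhπ : h ≫ π = Z.hom := by
      rw [hh, Category.assoc]
      exact Over.w g'
    have hfst : pullback.fst Z.hom S₀.ι ≫ g'.left =
        g₀.left ≫ pullback.fst (N.ι ≫ π) S₀.ι ≫ T.homOfLE hNsm := by
      have h := congrArg (fun φ => φ.left ≫
        pullback.fst (Over.mk (π.smoothLocus.ι ≫ π)).hom S₀.ι) hg''
      simp only [Over.pullback_map_left, Over.comp_left, Category.assoc] at h
      rw [pullback.lift_fst, pullback.lift_fst] at h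
      exact h
    have e1 : pullback.fst Z.hom S₀.ι ≫ h = g₀.left ≫ pullback.fst (N.ι ≫ π) S₀.ι ≫ N.ι := by
      rw [hh, reassoc_of% hfst, Scheme.homOfLE_ι]
    have hD : ∀ z : Z.left, Z.hom z ∈ S₀ → h z ∈ Set.range j := by
      intro z hz
      have h1 : z ∈ Set.range (pullback.fst Z.hom S₀.ι) := by
        rw [Scheme.Pullback.range_fst, Scheme.Opens.range_ι]
        exact hz
      obtain ⟨p, rfl⟩ := h1
      rw [← hra]
      refine ⟨g₀.left p, ?_⟩
      rw [← Scheme.Hom.comp_apply, ← Scheme.Hom.comp_apply, e1]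
    have hO' : ∀ z : Z.left, h z ∈ O := by
      intro z
      by_contra hz
      have hzc : h z ∈ closure (((π ⁻¹ᵁ S₀ : T.Opens) : Set T) \ Set.range j) := by
        have h0 : h z ∉ (O : Set T) := hz
        rw [hO] at h0
        exact Set.notMem_compl_iff.mp h0
      obtain ⟨S', g'', s', u', hg''et, hu', hsp⟩ :=
        Groth.Agent.Helper12.QSecThrough.smooth_section_specializing σ Z.hom z
      have : Etale g'' := hg''et
      have hv : (u' ≫ h) ≫ π = g'' := by rw [Category.assoc, hhπ, hu']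
      have : Etale (u' ≫ h) :=
        Groth.Agent.Helper12.FinSecOpen.etale_of_lift π hT g'' (u' ≫ h) hv
      have h2 : (u' ≫ h) s' ∈ closure (((π ⁻¹ᵁ S₀ : T.Opens) : Set T) \ Set.range j) :=
        (hsp.map h.continuous).mem_closed isClosed_closure hzc
      have hopen : IsOpen (Set.range (u' ≫ h)) := (u' ≫ h).isOpenMap.isOpen_range
      obtain ⟨_, ⟨s₁, rfl⟩, hs₁S, hs₁j⟩ := mem_closure_iff.mp h2 _ hopen ⟨s', rfl⟩
      apply hs₁j
      rw [Scheme.Hom.comp_apply]
      apply hD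
      have h3 : Z.hom (u' s₁) = π ((u' ≫ h) s₁) := by
        rw [← Scheme.Hom.comp_apply, ← Scheme.Hom.comp_apply, Category.assoc, hhπ]
      rw [h3]
      exact hs₁S
    have hle : Set.range h ⊆ Set.range N.ι := by
      rw [Scheme.Opens.range_ι]
      rintro _ ⟨z, rfl⟩
      show h z ∈ N
      rw [hN]
      refine ⟨?_, hO' z⟩
      rw [hh, Scheme.Hom.comp_apply]
      exact (g'.left z).2
    obtain ⟨gl, hgl⟩ : ∃ gl : Z.left ⟶ N, gl ≫ N.ι = h := ⟨_, IsOpenImmersion.lift_fac _ _ hle⟩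
    refine ⟨Over.homMk gl (by
      show gl ≫ (N.ι ≫ π) = Z.hom
      rw [← Category.assoc, hgl, hhπ]), ?_⟩
    apply Over.OverMorphism.ext
    show ((Over.pullback S₀.ι).map _).left = g₀.left
    simp only [Over.pullback_map_left]
    apply pullback.hom_ext
    · rw [pullback.lift_fst]
      rw [← cancel_mono N.ι]
      simp only [Over.homMk_left, Category.assoc]
      rw [hgl, e1]
      rfl
    · rw [pullback.lift_snd]
      exact (Over.w g₀).symm

/-- Let S be a normal Noetherian scheme over a field of characteristic 0, S₀ ⊆ S a scheme-theoretically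
dense open, and N₀ → S₀ separated, quasi-compact and étale (a quasi-projective étale S₀-scheme).
Then N₀ has a quasi-projective Néron model: there exist a separated, quasi-compact, étale S-scheme N
and an isomorphism of S₀-schemes N|S₀ ≅ N₀ such that N has the Néron mapping property for S₀ ⊆ S,
i.e. for every smooth S-scheme Z restriction to S₀ is a bijection from S-morphisms Z → N onto
S₀-morphisms Z|S₀ → N|S₀ (this determines N up to unique isomorphism). (Case of schemes, with smooth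
test schemes, of the published statement.) -/
theorem result {k : Type u} [Field k] [CharZero k] {S : Scheme.{u}} (σ : S ⟶ Spec (CommRingCat.of k)) [IsNoetherian S] (hS : Pi1.IsNormalScheme S) (S₀ : S.Opens) (hS₀ : CInt.IsSchematicallyDense S₀)
    (N₀ : Over (S₀ : Scheme.{u})) [Etale N₀.hom] [IsSeparated N₀.hom] [QuasiCompact N₀.hom] :
    ∃ (N : Over S) (e : (Over.pullback S₀.ι).obj N ≅ N₀), Etale N.hom ∧ IsSeparated N.hom ∧ QuasiCompact N.hom ∧
      ∀ Z : Over S, Smooth Z.hom → Function.Bijective (fun g : Z ⟶ N => (Over.pullback S₀.ι).map g) := by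
  classical
  have hSn : ∀ s : S, IsDomain (S.presheaf.stalk s) ∧ IsIntegrallyClosed (S.presheaf.stalk s) := hS
  have hf_et : Etale (N₀.hom ≫ S₀.ι) := inferInstance
  have hf_sep : IsSeparated (N₀.hom ≫ S₀.ι) := inferInstance
  have hf_qc : QuasiCompact (N₀.hom ≫ S₀.ι) := inferInstance
  obtain ⟨f, hf⟩ : ∃ f : N₀.left ⟶ S, f = N₀.hom ≫ S₀.ι := ⟨_, rfl⟩
  rw [← hf] at hf_et hf_sep hf_qc
  have : IsLocallyNoetherian N₀.left := LocallyOfFiniteType.isLocallyNoetherian f
  have : CompactSpace N₀.left := QuasiCompact.compactSpace_of_compactSpace f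
  have : IsNoetherian N₀.left := {}
  have : TopologicalSpace.NoetherianSpace N₀.left := inferInstance
  have hXn : Pi1.IsNormalScheme N₀.left := by
    intro x
    have := (hSn (f x)).1
    have := (hSn (f x)).2
    exact Groth.Agent.Helper16.NormalEtale.stalk_normal_of_etale f x
  have : LocallyQuasiFinite f := by
    refine ⟨fun {U} hU {V} hV e => ?_⟩
    have h := f.etale_appLE hU hV e
    algebraize [(f.appLE U V e).hom]
    show Algebra.QuasiFinite _ _
    infer_instance
  have hj : IsOpenImmersion f.toNormalization := inferInstance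
  have hπfin : IsFinite f.fromNormalization :=
    Groth.Agent.Helper12.NormFinSep.isFinite_fromNormalization_of_etale hSn f
  have hTn : IsLocallyNoetherian f.normalization :=
    LocallyOfFiniteType.isLocallyNoetherian f.fromNormalization
  have hπfp : LocallyOfFinitePresentation f.fromNormalization := inferInstance
  have hT : Pi1.IsNormalScheme f.normalization := fun z =>
    Groth.Agent.Helper12.NormNormal.stalk_normal_normalization hXn f z
  have key := Groth.Agent.S13432.result σ hS S₀ hS₀ f.fromNormalization hT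
  have hjπ : f.toNormalization ≫ f.fromNormalization = N₀.hom ≫ S₀.ι :=
    f.toNormalization_fromNormalization.trans hf
  exact aux σ S₀ hS₀ N₀ f.toNormalization f.fromNormalization hT hjπ key

end Groth.Agent.S13429
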