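import Groth.Statements.S13434
-- import your own Groth.Agent.* helpers here
import Groth.Agent.Lib.Helper25.HilbDecomp

set_option autoImplicit false
universe u
open W4c1hilbpn

namespace Groth.Agent.S13434

open W4c1hilbpn in
/-- Let k be an infinite field, n ≥ 2, S the polynomial ring over k in n variables, I a monomial ideal
of S of finite colength and T(I) = Hom_S(I, S/I) with its grading by integer vectors. The graded
piece of T(I) in every multidegree all of whose entries are nonnegative, or all of whose entries are
negative, vanishes, and T(I) is spanned by its pieces of non-constant sign pattern (the spans, over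
the sets N of variable indices that are neither empty nor all indices, of the graded pieces whose
multidegree is negative exactly at N). -/
theorem result (k : Type u) [Field k] [Infinite k]
    (n : ℕ) (hn : 2 ≤ n) (I : Ideal (MvPolynomial (Fin n) k)) (hI : IsMonomial I)
    [Module.Finite k (MvPolynomial (Fin n) k ⧸ I)] :
    (∀ α : Fin n → ℤ, ((∀ i, 0 ≤ α i) ∨ (∀ i, α i < 0)) → tPiece I α = ⊥) ∧
      (⨆ N : {N : Set (Fin n) // N.Nonempty ∧ N ≠ Set.univ}, sigPiece I N.1) = ⊤ := by
  haveI : Nontrivial (Fin n) := Fin.nontrivial_iff_two_le.2 hn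
  haveI := Groth.Agent.Helper25.HilbTgt.finite_compl_exps hI
  refine ⟨?_, Groth.Agent.Helper25.HilbTgt.iSup_sigPiece_eq_top hI⟩
  intro α hα
  rw [Groth.Agent.Helper25.HilbTgt.tPiece_eq_bot_iff hI]
  rcases hα with h | h
  · exact Groth.Agent.Helper25.HilbTgt.isEmpty_Bdd_of_all_nonneg h
  · exact Groth.Agent.Helper25.HilbTgt.isEmpty_Bdd_of_all_neg h

end Groth.Agent.S13434
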