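import Groth.Statements.S13444
import Groth.Agent.Lib.Helper12.ExtChi3

set_option autoImplicit false
universe u
open W4c1hilbpn

namespace Groth.Agent.S13444

/-- Let R be a regular local ring of Krull dimension 2 and I, J ideals of R such that R/I and R/J have
finite length. Then the length of Hom_R(I, R/J) equals the length of R/J plus the length of (I :
J)/I; here the last length is moved to the other side as the length of R/(I : J), using that I ⊆ (I
: J) and all lengths are finite. -/
theorem result (R : Type u) [CommRing R]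
    [IsRegularLocalRing R] (hdim : ringKrullDim R = 2) (I J : Ideal R)
    (hI : Module.length R (R ⧸ I) < ⊤) (hJ : Module.length R (R ⧸ J) < ⊤) :
    Module.length R (↥I →ₗ[R] (R ⧸ J)) + Module.length R (R ⧸ I.colon J) =
      Module.length R (R ⧸ J) + Module.length R (R ⧸ I) := by
  open CategoryTheory Abelian Groth.Agent.Helper12.ExtChi in
  have hIfl : IsFiniteLength R (R ⧸ I) := Module.length_ne_top_iff.mp hI.ne
  have hJfl : IsFiniteLength R (R ⧸ J) := Module.length_ne_top_iff.mp hJ.ne
  have hS := Groth.Agent.Helper8.LC.isSES_subtype_mkQ (R := R) (M := R) I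
  have hproj : Projective (ModuleCat.of R R) :=
    (IsProjective.iff_projective (R := R) (P := R)).1 inferInstance
  have h4 := four_term hS.shortExact (ModuleCat.of R (R ⧸ J))
    ⟨fun a b => (Ext.eq_zero_of_projective a).trans (Ext.eq_zero_of_projective b).symm⟩
  have hchi := chi0_of_isFiniteLength hdim (R ⧸ I) (R ⧸ J) hIfl hJfl
  have hdual := dual2_quot_ideal hdim J (R ⧸ I) hIfl
  have hcolon := length_hom_quot_add_colon I J
  have hfin := length_ext_ne_top (R ⧸ I) (R ⧸ J) hJfl 0
  have hE0I : Module.length R (Ext (ModuleCat.of R ↥I) (ModuleCat.of R (R ⧸ J)) 0) =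
      Module.length R (↥I →ₗ[R] (R ⧸ J)) :=
    (Ext.linearEquiv₀.trans ModuleCat.homLinearEquiv).length_eq
  have hE0R : Module.length R (Ext (ModuleCat.of R R) (ModuleCat.of R (R ⧸ J)) 0) =
      Module.length R (R ⧸ J) :=
    ((Ext.linearEquiv₀.trans ModuleCat.homLinearEquiv).trans
      (LinearMap.ringLmapEquivSelf R R (R ⧸ J))).length_eq
  change Module.length R (Ext (ModuleCat.of R ↥I) (ModuleCat.of R (R ⧸ J)) 0) +
      Module.length R (Ext (ModuleCat.of R (R ⧸ I)) (ModuleCat.of R (R ⧸ J)) 0) =
      Module.length R (Ext (ModuleCat.of R R) (ModuleCat.of R (R ⧸ J)) 0) +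
      Module.length R (Ext (ModuleCat.of R (R ⧸ I)) (ModuleCat.of R (R ⧸ J)) 1) at h4
  unfold Chi0 at hchi
  rw [hE0I, hE0R, ← hchi, hdual] at h4
  have h5 : Module.length R (↥I →ₗ[R] (R ⧸ J)) =
      Module.length R (R ⧸ J) + Module.length R ((R ⧸ J) →ₗ[R] (R ⧸ I)) := by
    apply ENat.add_left_injective_of_ne_top hfin
    show _ + _ = _ + _
    rw [h4]
    ring
  rw [h5, add_assoc, hcolon]

end Groth.Agent.S13444
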