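import Groth.Statements.S13448
import Groth.Agent.Lib.Helper20.HilbQB7

set_option autoImplicit false
universe u
open W4c1hilbpn

namespace Groth.Agent.S13448


open W4c1hilbpn in
theorem result (k : Type u) [Field k] (n : ℕ) (hn : 4 ≤ n) :
    Module.finrank k ↥(⨆ α : {α : Fin (n + 1) → ℤ // ∑ i, α i = 0}, tPiece (Ideal.span ({f : MvPolynomial (Fin (n + 1)) k | ∃ i : Fin (n + 1), i.val + 1 ≤ n ∧ f = MvPolynomial.X 0 * MvPolynomial.X i} ∪ {f : MvPolynomial (Fin (n + 1)) k | ∃ i : Fin (n + 1), 1 ≤ i.val ∧ i.val ≤ n - 2 ∧ f = MvPolynomial.X 1 * MvPolynomial.X i})) α.1) = 6 * n - 6 := by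
  exact Groth.Agent.Helper20.HilbQB.main n k hn

end Groth.Agent.S13448
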