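import Groth.Statements.S13450
import Groth.Agent.Lib.Helper20.HilbPP6

set_option autoImplicit false
universe u
open W4c1hilbpn

namespace Groth.Agent.S13450


open W4c1hilbpn in
theorem result (k : Type u) [Field k] (n q : ℕ)
    (hcase : (n = 3 ∧ 4 ≤ q) ∨ (4 ≤ n ∧ 2 ≤ q)) :
    Module.finrank k ↥(⨆ α : {α : Fin (n + 1) → ℤ // ∑ i, α i = 0},
      tPiece (Ideal.span ({f : MvPolynomial (Fin (n + 1)) k | ∃ i : Fin (n + 1), i.val + 1 ≤ n ∧ f = MvPolynomial.X 0 * MvPolynomial.X i} ∪ {MvPolynomial.X 1 ^ q})) α.1) =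
      2 * n - 1 + Nat.choose (n + q - 1) (n - 1) := by
  exact Groth.Agent.Helper20.HilbPP.main n q k hcase

end Groth.Agent.S13450
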