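import Groth.Statements.S13451
import Groth.Agent.Lib.Helper20.HilbPL2

set_option autoImplicit false
universe u
open W4c1hilbpn

namespace Groth.Agent.S13451


open W4c1hilbpn in
theorem result (k : Type u) [Field k] [IsAlgClosed k] (hchar : ringChar k ≠ 2)
    (n c d : ℕ) (hc : 2 ≤ c) (hcd : c ≤ d) (hn : c + d ≤ n) :
    Module.finrank k ↥(⨆ α : {α : Fin (n + 1) → ℤ // ∑ i, α i = 0},
      tPiece (Ideal.span {f : MvPolynomial (Fin (n + 1)) k | ∃ i j : Fin (n + 1), i.val + 1 ≤ c ∧ n + 1 ≤ j.val + d ∧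
        f = MvPolynomial.X i * MvPolynomial.X j}) α.1) = c * (n - c + 1) + d * (n - d + 1) := by
  exact Groth.Agent.Helper20.HilbPL.main n c d k hc (by omega) hn

end Groth.Agent.S13451
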