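import Groth.Statements.S13499
import Mathlib
import Groth.Prelude.Def_EtBase
import Groth.Prelude.Def_EtCore
import Groth.Agent.S7744

set_option autoImplicit false
universe u
open CategoryTheory CategoryTheory.Limits AlgebraicGeometry Opposite
open GalCoh

namespace Groth.Agent.S13499

section helpers

open CategoryTheory.Abelian

abbrev QZ := ℚ ⧸ AddSubgroup.zmultiples (1 : ℚ)

/-- `ULift ℤ → ULift ℚ`. -/
def fZ : ULift.{u + 1} ℤ →+ ULift.{u + 1} ℚ :=
  (AddEquiv.ulift.symm.toAddMonoidHom.comp (Int.castAddHom ℚ)).comp AddEquiv.ulift.toAddMonoidHom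

/-- `ULift ℚ → ULift ℚ/ℤ`. -/
def gQ : ULift.{u + 1} ℚ →+ ULift.{u + 1} QZ :=
  (AddEquiv.ulift.symm.toAddMonoidHom.comp
    (QuotientAddGroup.mk' (AddSubgroup.zmultiples (1 : ℚ)))).comp AddEquiv.ulift.toAddMonoidHom

/-- The short complex `0 → ℤ → ℚ → ℚ/ℤ → 0` of abelian groups. -/
def S0 : ShortComplex AddCommGrpCat.{u + 1} :=
  ShortComplex.mk (AddCommGrpCat.ofHom fZ.{u}) (AddCommGrpCat.ofHom gQ.{u}) (by
    ext ⟨n⟩
    show (QuotientAddGroup.mk' (AddSubgroup.zmultiples (1 : ℚ))) ((n : ℤ) : ℚ) = 0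
    have : ((n : ℤ) : ℚ) ∈ AddSubgroup.zmultiples (1 : ℚ) := ⟨n, by simp⟩
    rw [QuotientAddGroup.mk'_apply, (QuotientAddGroup.eq_zero_iff _).2 this])

lemma S0_shortExact : S0.{u}.ShortExact := by
  refine ShortComplex.ShortExact.mk' ?_ ?_ ?_
  · rw [ShortComplex.ab_exact_iff_function_exact]
    intro ⟨q⟩
    constructor
    · intro h
      have h1 : (QuotientAddGroup.mk' (AddSubgroup.zmultiples (1 : ℚ))) q = 0 :=
        congrArg ULift.down h
      rw [QuotientAddGroup.mk'_apply, QuotientAddGroup.eq_zero_iff] at h1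
      obtain ⟨n, hn⟩ := h1
      refine ⟨ULift.up n, ?_⟩
      show (ULift.up ((n : ℤ) : ℚ) : ULift.{u + 1} ℚ) = ULift.up q
      congr 1
      simpa using hn
    · rintro ⟨⟨n⟩, hn⟩
      have := ConcreteCategory.congr_hom S0.{u}.zero (ULift.up n)
      rw [← hn]
      exact this
  · rw [AddCommGrpCat.mono_iff_injective]
    intro ⟨a⟩ ⟨b⟩ h
    have h1 : ((a : ℤ) : ℚ) = ((b : ℤ) : ℚ) := congrArg ULift.down h
    congr 1
    exact_mod_cast h1
  · rw [AddCommGrpCat.epi_iff_surjective]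
    intro ⟨y⟩
    obtain ⟨q, rfl⟩ := QuotientAddGroup.mk'_surjective _ y
    exact ⟨ULift.up q, rfl⟩

instance (X : Scheme.{u}) :
    PreservesFiniteLimits (constantSheaf X.smallEtaleTopology AddCommGrpCat.{u + 1}) := by
  unfold constantSheaf
  infer_instance

instance (X : Scheme.{u}) :
    PreservesFiniteColimits (constantSheaf X.smallEtaleTopology AddCommGrpCat.{u + 1}) := by
  have : PreservesColimitsOfSize.{0, 0} (constantSheaf X.smallEtaleTopology AddCommGrpCat.{u + 1}) :=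
    (constantSheafAdj X.smallEtaleTopology AddCommGrpCat.{u + 1}
      (EtCore.topIsTerminal X)).leftAdjoint_preservesColimits
  exact PreservesColimitsOfSize.preservesFiniteColimits _

instance (X : Scheme.{u}) :
    (constantSheaf X.smallEtaleTopology AddCommGrpCat.{u + 1}).Additive := by
  unfold constantSheaf
  infer_instance

/-- `0 → ℤ → ℚ → ℚ/ℤ → 0` as constant sheaves. -/
noncomputable def SX (X : Scheme.{u}) : ShortComplex (EtCoh.Ab X) :=
  S0.{u}.map (constantSheaf X.smallEtaleTopology AddCommGrpCat.{u + 1})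

lemma SX_shortExact (X : Scheme.{u}) : (SX X).ShortExact :=
  S0_shortExact.map_of_exact _

lemma isIso_nsmul_Q (m : ℕ) (hm : 0 < m) :
    IsIso (m • 𝟙 (AddCommGrpCat.of (ULift.{u + 1} ℚ))) := by
  rw [ConcreteCategory.isIso_iff_bijective]
  have h : ∀ x : ULift.{u + 1} ℚ,
      (m • 𝟙 (AddCommGrpCat.of (ULift.{u + 1} ℚ))).hom x = m • x := by
    intro x
    rw [AddCommGrpCat.hom_nsmul]
    rfl
  have hm' : (m : ℚ) ≠ 0 := by exact_mod_cast hm.ne'
  constructor
  · intro ⟨a⟩ ⟨b⟩ hab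
    have h1 : m • (ULift.up a : ULift.{u + 1} ℚ) = m • ULift.up b := by
      rw [← h, ← h]; exact hab
    have h2 : m • a = m • b := congrArg ULift.down h1
    congr 1
    rw [nsmul_eq_mul, nsmul_eq_mul] at h2
    exact mul_left_cancel₀ hm' h2
  · intro ⟨b⟩
    refine ⟨ULift.up (b / m), ?_⟩
    show (m • 𝟙 (AddCommGrpCat.of (ULift.{u + 1} ℚ))).hom (ULift.up (b / m)) = ULift.up b
    rw [h]
    show ULift.up (m • (b / m)) = ULift.up b
    congr 1
    rw [nsmul_eq_mul]
    field_simp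

theorem main (k : Type u) [Field k] (i : ℕ) (hi : 2 ≤ i) :
    Nonempty (EtCoh.H (Spec (CommRingCat.of k)) (EtCoh.const (Spec (CommRingCat.of k)) ℤ) i ≃+
      EtCoh.H (Spec (CommRingCat.of k))
        (EtCoh.const (Spec (CommRingCat.of k)) (ℚ ⧸ AddSubgroup.zmultiples (1 : ℚ))) (i - 1)) := by
  obtain ⟨n, rfl⟩ : ∃ n, i = n + 2 := ⟨i - 2, by omega⟩
  let X := Spec (CommRingCat.of k)
  have hS := SX_shortExact X
  have hdiv : ∀ m : ℕ, 0 < m → IsIso (m • 𝟙 (EtCoh.const X ℚ)) := by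
    intro m hm
    haveI := isIso_nsmul_Q.{u} m hm
    have : m • 𝟙 (EtCoh.const X ℚ) =
        (constantSheaf X.smallEtaleTopology AddCommGrpCat.{u + 1}).map
          (m • 𝟙 (AddCommGrpCat.of (ULift.{u + 1} ℚ))) := by
      rw [Functor.map_nsmul, CategoryTheory.Functor.map_id]
    rw [this]
    infer_instance
  have hQ : ∀ j : ℕ, 0 < j → Subsingleton (EtCoh.H X (EtCoh.const X ℚ) j) :=
    fun j hj => Groth.Agent.S7744.main k (EtCoh.const X ℚ) hdiv j hj
  let Z := EtCoh.const X ℤ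
  let δ : Ext Z (SX X).X₃ (n + 1) →+ Ext Z (SX X).X₁ (n + 2) :=
    hS.extClass.postcomp Z (rfl : n + 1 + 1 = n + 2)
  have hbij : Function.Bijective δ := by
    constructor
    · rw [injective_iff_map_eq_zero]
      intro x₃ h3
      obtain ⟨x₂, hx₂⟩ := Ext.covariant_sequence_exact₃ _ hS x₃ (rfl : n + 1 + 1 = n + 2) h3
      haveI : Subsingleton (Ext Z (SX X).X₂ (n + 1)) := hQ (n + 1) (Nat.succ_pos n)
      rw [← hx₂, Subsingleton.elim x₂ 0, Ext.zero_comp]
    · intro x₁
      haveI : Subsingleton (Ext Z (SX X).X₂ (n + 2)) := hQ (n + 2) (Nat.succ_pos _)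
      obtain ⟨x₃, hx₃⟩ := Ext.covariant_sequence_exact₁ _ hS x₁ (Subsingleton.elim _ _)
        (rfl : n + 1 + 1 = n + 2)
      exact ⟨x₃, hx₃⟩
  exact ⟨(AddEquiv.ofBijective δ hbij).symm⟩

end helpers

/-- For a field k and i ≥ 2 there is an isomorphism between H^i(Spec k, Z) and H^{i-1}(Spec k, Q/Z),
étale cohomology of Spec k with coefficients in the constant sheaves Z and Q/Z (existence of an
additive isomorphism only; the published statement is for an arbitrary profinite group with trivial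
action and identifies the two groups through the boundary map of 0 → Z → Q → Q/Z → 0). -/
theorem result (k : Type u) [Field k] (i : ℕ) (hi : 2 ≤ i) :
    Nonempty (EtCoh.H (Spec (CommRingCat.of k)) (EtCoh.const (Spec (CommRingCat.of k)) ℤ) i ≃+
      EtCoh.H (Spec (CommRingCat.of k))
        (EtCoh.const (Spec (CommRingCat.of k)) (ℚ ⧸ AddSubgroup.zmultiples (1 : ℚ))) (i - 1)) := by
  exact main k i hi

end Groth.Agent.S13499
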