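import Groth.Statements.S13513
import Mathlib
import Groth.Agent.Lib.Helper10.FibTot

set_option autoImplicit false
universe u
open CategoryTheory CategoryTheory.Limits Opposite Pseudofunctor.CoGrothendieck
open FibSite

namespace Groth.Agent.S13513

section helpers

universe w' w v₂' u₂' v₁' u₁'

/-- For a fully faithful functor that is continuous and cocontinuous, the unit of the adjunction
`sheafPullback ⊣ sheafPushforwardContinuous` is an isomorphism. -/
lemma isIso_unit_of_fullyFaithful {C : Type u₁'} [Category.{v₁'} C] {D : Type u₂'} [Category.{v₂'} D]
    (G : C ⥤ D) [G.Full] [G.Faithful] (J : GrothendieckTopology C) (K : GrothendieckTopology D)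
    (A : Type w) [Category.{w'} A]
    [G.IsContinuous J K] [G.IsCocontinuous J K]
    [∀ (P : Cᵒᵖ ⥤ A), G.op.HasPointwiseRightKanExtension P]
    [(G.sheafPushforwardContinuous A J K).IsRightAdjoint] :
    IsIso (G.sheafAdjunctionContinuous A J K).unit := by
  have hcounit : IsIso (G.sheafAdjunctionCocontinuous A J K).counit := by
    refine @NatIso.isIso_of_isIso_app _ _ _ _ _ _ _ (fun P => ?_)
    have h1 := G.sheafAdjunctionCocontinuous_counit_app_hom A J K P
    have h2 : IsIso ((G.sheafAdjunctionCocontinuous A J K).counit.app P).hom := by
      rw [h1]
      have : G.op.Full := inferInstance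
      have : G.op.Faithful := inferInstance
      have : IsIso ((G.op.ranAdjunction A).counit.app P.obj) := by
        rw [Functor.ranAdjunction_counit]
        infer_instance
      exact this
    exact (isIso_iff_of_reflects_iso _ (sheafToPresheaf J A)).1 h2
  let t : Adjunction.Triple (G.sheafPullback A J K) (G.sheafPushforwardContinuous A J K)
      (G.sheafPushforwardCocontinuous A J K) :=
    { adj₁ := G.sheafAdjunctionContinuous A J K
      adj₂ := G.sheafAdjunctionCocontinuous A J K }
  exact t.isIso_unit_iff_isIso_counit.2 hcounit

end helpers

/-- Let `F` be a fibred site over a small category `𝒮` with small fibres (every inverse-image functor is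
a morphism of sites) and let `i` be a final object of `𝒮`. Then the left adjoint `α_{i!}` of the
restriction of sheaves of sets from the total site to the fibre over `i` is full and faithful;
equivalently the composite "extend from the fibre over `i`, then restrict back" is isomorphic to the
identity through the unit of the adjunction. The continuity of the fibre inclusion and the existence
of the left adjoint are carried as instance hypotheses. -/
theorem result {𝒮 : Type u} [SmallCategory 𝒮]
    (F : Pseudofunctor (LocallyDiscrete 𝒮ᵒᵖ) Cat.{u, u}) (J : FibSite.Topologies F)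
    (hF : FibSite.IsFibSite F J) (i : 𝒮) (hi : IsTerminal i)
    [(ι F i).IsContinuous (J i) (FibSite.totalTopology F J)]
    [((ι F i).sheafPushforwardContinuous (Type u) (J i) (FibSite.totalTopology F J)).IsRightAdjoint] :
    (FibSite.extend F J (Type u) i).Full ∧ (FibSite.extend F J (Type u) i).Faithful := by
  have hpre := hF.isPreFibSite
  have : (ι F i).Full := ⟨fun {V' V} a => by
    obtain ⟨a', rfl⟩ := Groth.Agent.Helper10.FibTot.exists_vert F a (hi.hom_ext _ _)
    exact ⟨a', rfl⟩⟩
  have := Groth.Agent.Helper10.FibTot.isCocontinuous_ι J hpre i
  have hu := isIso_unit_of_fullyFaithful (ι F i) (J i) (FibSite.totalTopology F J) (Type u)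
  have ff := ((ι F i).sheafAdjunctionContinuous (Type u) (J i)
      (FibSite.totalTopology F J)).fullyFaithfulLOfIsIsoUnit
  exact ⟨ff.full, ff.faithful⟩

end Groth.Agent.S13513
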