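import Groth.Statements.S13514
import Mathlib
import Groth.Agent.Lib.Helper10.FibExt

set_option autoImplicit false
universe u
open CategoryTheory CategoryTheory.Limits Opposite Pseudofunctor.CoGrothendieck
open FibSite

namespace Groth.Agent.S13514

/-- Let `F` be a fibred site over a small category `𝒮` with small fibres (every inverse-image functor is
a morphism of sites) and let `i` be a final object of `𝒮`. Then the left adjoint `α_{i!}` of the
restriction of sheaves of sets from the total site to the fibre over `i` is left exact (it preserves
finite limits), so that the pair (`α_{i!}`, restriction) is a morphism of topoi from the total topos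
to the topos of the fibre. The continuity of the fibre inclusion and the existence of the left
adjoint are carried as instance hypotheses. -/
theorem result {𝒮 : Type u} [SmallCategory 𝒮]
    (F : Pseudofunctor (LocallyDiscrete 𝒮ᵒᵖ) Cat.{u, u}) (J : FibSite.Topologies F)
    (hF : FibSite.IsFibSite F J) (i : 𝒮) (hi : IsTerminal i)
    [(ι F i).IsContinuous (J i) (FibSite.totalTopology F J)]
    [((ι F i).sheafPushforwardContinuous (Type u) (J i) (FibSite.totalTopology F J)).IsRightAdjoint] :
    PreservesFiniteLimits (FibSite.extend F J (Type u) i) := by
  have hpre := hF.isPreFibSite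
  have : ∀ j, (ι F j).IsContinuous (J j) (FibSite.totalTopology F J) :=
    fun j => Groth.Agent.Helper10.FibTot.isContinuous_ι hpre j
  have : ∀ j, (ι F j).IsCocontinuous (J j) (FibSite.totalTopology F J) :=
    fun j => Groth.Agent.Helper10.FibTot.isCocontinuous_ι J hpre j
  have : ∀ (R S : 𝒮) (f : R ⟶ S), (FibSite.invImage F f).IsContinuous (J S) (J R) :=
    fun R S f => hpre f
  have : ∀ (R S : 𝒮) (f : R ⟶ S),
      ((FibSite.invImage F f).sheafPushforwardContinuous (Type u) (J S) (J R)).IsRightAdjoint :=
    fun R S f => (hF f).2.1
  have : ∀ j, PreservesFiniteLimits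
      ((ι F j).sheafPushforwardContinuous (Type u) (J j) (FibSite.totalTopology F J)) := by
    intro j
    have : PreservesLimitsOfSize.{0, 0} ((ι F j).sheafPushforwardContinuous (Type u) (J j)
        (FibSite.totalTopology F J)) :=
      (Adjunction.ofIsRightAdjoint ((ι F j).sheafPushforwardContinuous (Type u) (J j)
        (FibSite.totalTopology F J))).rightAdjoint_preservesLimits
    exact PreservesLimitsOfSize.preservesFiniteLimits _
  exact Groth.Agent.Helper10.FibExt.preservesFiniteLimits_extend F J i hi
    (fun j f => (hF f).2.2)

end Groth.Agent.S13514
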