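import Groth.Statements.S13515
import Mathlib
import Groth.Agent.Lib.Helper10.FibMap

set_option autoImplicit false
universe u
open CategoryTheory CategoryTheory.Limits Opposite Pseudofunctor.CoGrothendieck
open scoped CategoryTheory.Pseudofunctor.StrongTrans
open FibSite

namespace Groth.Agent.S13515

/-- Let `F` and `G` be fibred sites over a small category `𝒮` with small fibres and let `α : G ⟶ F` be a
strong transformation of pseudofunctors, i.e. a cartesian functor `∫ᶜ G ⥤ ∫ᶜ F` over `𝒮`, which is a
morphism of fibred sites: on each fibre the functor `α_S : G(S) ⥤ F(S)` is a morphism of sites from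
`(F(S), J S)` to `(G(S), K S)` (continuous, with left exact inverse image on sheaves of sets). Then
the induced functor between the total categories is a morphism of sites from the total site of `F`
to the total site of `G`: it is continuous for the total topologies and the inverse image of sheaves
of sets along it exists and is left exact. -/
theorem result {𝒮 : Type u} [SmallCategory 𝒮]
    (F G : Pseudofunctor (LocallyDiscrete 𝒮ᵒᵖ) Cat.{u, u}) (J : FibSite.Topologies F) (K : FibSite.Topologies G)
    (hF : FibSite.IsFibSite F J) (hG : FibSite.IsFibSite G K) (α : G ⟶ F)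
    (hα : ∀ S : 𝒮, ∃ (_ : (α.app ⟨op S⟩).toFunctor.IsContinuous (K S) (J S))
      (_ : ((α.app ⟨op S⟩).toFunctor.sheafPushforwardContinuous (Type u) (K S) (J S)).IsRightAdjoint),
      PreservesFiniteLimits ((α.app ⟨op S⟩).toFunctor.sheafPullback (Type u) (K S) (J S))) :
    ∃ (_ : (Pseudofunctor.CoGrothendieck.map α).IsContinuous
        (FibSite.totalTopology G K) (FibSite.totalTopology F J))
      (_ : ((Pseudofunctor.CoGrothendieck.map α).sheafPushforwardContinuous (Type u)
        (FibSite.totalTopology G K) (FibSite.totalTopology F J)).IsRightAdjoint),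
      PreservesFiniteLimits ((Pseudofunctor.CoGrothendieck.map α).sheafPullback (Type u)
        (FibSite.totalTopology G K) (FibSite.totalTopology F J)) := by
  have hpF := hF.isPreFibSite
  have hpG := hG.isPreFibSite
  have : ∀ S, (ι F S).IsContinuous (J S) (FibSite.totalTopology F J) :=
    fun S => Groth.Agent.Helper10.FibTot.isContinuous_ι hpF S
  have : ∀ S, (ι F S).IsCocontinuous (J S) (FibSite.totalTopology F J) :=
    fun S => Groth.Agent.Helper10.FibTot.isCocontinuous_ι J hpF S
  have : ∀ S, (ι G S).IsContinuous (K S) (FibSite.totalTopology G K) :=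
    fun S => Groth.Agent.Helper10.FibTot.isContinuous_ι hpG S
  have : ∀ S, (ι G S).IsCocontinuous (K S) (FibSite.totalTopology G K) :=
    fun S => Groth.Agent.Helper10.FibTot.isCocontinuous_ι K hpG S
  have hc : ∀ S, (Groth.Agent.Helper10.FibMap.fib α S).IsContinuous (K S) (J S) :=
    fun S => (hα S).1
  have hcont : (Pseudofunctor.CoGrothendieck.map α).IsContinuous
      (FibSite.totalTopology G K) (FibSite.totalTopology F J) :=
    Groth.Agent.Helper10.FibMap.isContinuous_map α K J hpG hpF hc
  have hra : ((Pseudofunctor.CoGrothendieck.map α).sheafPushforwardContinuous (Type u)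
      (FibSite.totalTopology G K) (FibSite.totalTopology F J)).IsRightAdjoint := inferInstance
  refine ⟨hcont, hra, ?_⟩
  have : ∀ S, ((Groth.Agent.Helper10.FibMap.fib α S).sheafPushforwardContinuous (Type u)
      (K S) (J S)).IsRightAdjoint := fun S => (hα S).2.1
  have : ∀ S, PreservesFiniteLimits
      ((ι F S).sheafPushforwardContinuous (Type u) (J S) (FibSite.totalTopology F J)) := by
    intro S
    have : PreservesLimitsOfSize.{0, 0} ((ι F S).sheafPushforwardContinuous (Type u) (J S)
        (FibSite.totalTopology F J)) :=
      (Adjunction.ofIsRightAdjoint ((ι F S).sheafPushforwardContinuous (Type u) (J S)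
        (FibSite.totalTopology F J))).rightAdjoint_preservesLimits
    exact PreservesLimitsOfSize.preservesFiniteLimits _
  have : ∀ S, PreservesFiniteLimits
      ((ι G S).sheafPushforwardContinuous (Type u) (K S) (FibSite.totalTopology G K)) := by
    intro S
    have : PreservesLimitsOfSize.{0, 0} ((ι G S).sheafPushforwardContinuous (Type u) (K S)
        (FibSite.totalTopology G K)) :=
      (Adjunction.ofIsRightAdjoint ((ι G S).sheafPushforwardContinuous (Type u) (K S)
        (FibSite.totalTopology G K))).rightAdjoint_preservesLimits
    exact PreservesLimitsOfSize.preservesFiniteLimits _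
  exact Groth.Agent.Helper10.FibMap.preservesFiniteLimits_sheafPullback_map α K J
    (fun S => (hα S).2.2)

end Groth.Agent.S13515
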