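import Groth.Statements.S13532
import Mathlib
import Groth.Agent.Lib.Helper14.PointwiseDim
import Groth.Agent.Lib.Helper14.EquidimAt
import Groth.Agent.Lib.Helper14.GenFibBound
import Groth.Agent.Lib.Helper14.MaxPoints
import Groth.Agent.Lib.Helper14.DimFT
import Groth.Agent.Lib.Helper15.FibDim0
import Groth.Agent.Lib.Helper16.Sch.QFCodim
-- import your own Groth.Agent.* helpers here

set_option autoImplicit false
universe u
open CategoryTheory CategoryTheory.Limits AlgebraicGeometry
open ResProp

namespace Groth.Agent.S13532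

/-- A morphism of finite type between locally Noetherian schemes which is birational (an isomorphism
over a dense open of the target whose preimage is dense in the source) has finite fibres over all
points of the target of codimension at most 1, i.e. whose local ring has Krull dimension at most 1. -/
theorem result {X Y : Scheme.{u}}
    [IsLocallyNoetherian X] [IsLocallyNoetherian Y] (f : Y ⟶ X) [LocallyOfFiniteType f] [QuasiCompact f]
    (U : X.Opens) (hU : Dense (U : Set X)) (hU' : Dense ((f ⁻¹ᵁ U : Y.Opens) : Set Y)) (hiso : IsIso (f ∣_ U))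
    (x : X) (hx : ringKrullDim (X.presheaf.stalk x) ≤ 1) :
    (f.base ⁻¹' {x}).Finite := by
  show (f ⁻¹' {x}).Finite
  by_cases hxU : x ∈ U
  · apply Set.Subsingleton.finite
    intro y hy y' hy'
    have hy1 : f y = x := hy
    have hy1' : f y' = x := hy'
    have hyU : y ∈ f ⁻¹ᵁ U := by show f y ∈ U; rw [hy1]; exact hxU
    have hyU' : y' ∈ f ⁻¹ᵁ U := by show f y' ∈ U; rw [hy1']; exact hxU
    have hinj : Function.Injective (f ∣_ U) :=
      ((TopCat.homeoOfIso (asIso (f ∣_ U).base)).injective)
    have h1 : (f ∣_ U) ⟨y, hyU⟩ = (f ∣_ U) ⟨y', hyU'⟩ := by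
      apply Subtype.ext
      rw [morphismRestrict_base_coe, morphismRestrict_base_coe]
      exact hy1.trans hy1'.symm
    exact congrArg Subtype.val (hinj h1)
  · have key : ∀ y : Y, f y = x → f.QuasiFiniteAt y := by
      intro y hy
      rw [← Groth.Agent.Helper15.FibDim.fibreDimAt_eq_zero_iff_quasiFiniteAt]
      obtain ⟨z, n, hzy, hfz, hzmax, hn, hdim⟩ :=
        Groth.Agent.Helper14.EquidimAt.exists_maximal_trdeg_eq_fibreDimAt f y
      rw [hdim]
      obtain ⟨ξ, hξmax, hξz⟩ := Groth.Agent.Helper14.MaxPoints.exists_maximal_specializes z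
      have hξU : ξ ∈ f ⁻¹ᵁ U := Groth.Agent.Helper14.DimFT.maximal_mem_of_dense _ hU' ξ hξmax
      have hne : ξ ≠ z := by
        rintro rfl
        apply hxU
        rw [← hy, ← hfz]
        exact hξU
      have h1 := Groth.Agent.Helper14.GenFibBound.one_le_dim_locQuot z ξ hξz hne
      haveI : IsOpenImmersion ((f ⁻¹ᵁ U).ι ≫ f) := by
        rw [← morphismRestrict_ι]; infer_instance
      have hE : @Algebra.trdeg (X.residueField (f ξ)) (Y.residueField ξ) _ _
          (f.residueFieldMap ξ).hom.toAlgebra = ((0 : ℕ) : Cardinal) := by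
        have := Groth.Agent.Helper14.EquidimAt.trdeg_opens f (f ⁻¹ᵁ U) ⟨ξ, hξU⟩
        rw [Groth.Agent.Helper14.FibreComp.trdeg_of_surjectiveOnStalks] at this
        rw [Nat.cast_zero]; exact this.symm
      have h4 := (Groth.Agent.Helper14.PointwiseDim.formula_aux f z ξ hξz n 0 hn hE).1
      have h5 : ringKrullDim (Cyc.LocQuot (f z) (f ξ) (hξz.map f.continuous)) ≤
          ringKrullDim (X.presheaf.stalk (f z)) := ringKrullDim_quotient_le _
      have h6 : ringKrullDim (X.presheaf.stalk (f z)) ≤ 1 := by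
        rw [Groth.Agent.Helper14.GenFibBound.stalk_dim_congr (hfz.trans hy)]
        exact hx
      have h7 : (1 : WithBot ℕ∞) + (n : WithBot ℕ∞) ≤ 1 := by
        calc (1 : WithBot ℕ∞) + (n : WithBot ℕ∞)
            ≤ ringKrullDim (Cyc.LocQuot z ξ hξz) + (n : WithBot ℕ∞) := by gcongr
          _ ≤ ringKrullDim (Cyc.LocQuot (f z) (f ξ) (hξz.map f.continuous)) + ((0 : ℕ) : WithBot ℕ∞) := h4
          _ = ringKrullDim (Cyc.LocQuot (f z) (f ξ) (hξz.map f.continuous)) := by simp
          _ ≤ 1 := h5.trans h6
      have h8 : ((1 + n : ℕ) : WithBot ℕ∞) ≤ ((1 : ℕ) : WithBot ℕ∞) := by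
        push_cast; exact h7
      have h9 : 1 + n ≤ 1 := by exact_mod_cast h8
      have : n = 0 := by omega
      subst this
      simp
    have hc : IsCompact (f ⁻¹' {x}) := f.isCompact_preimage_singleton x
    refine hc.finite ⟨?_⟩
    rw [discreteTopology_iff_isOpen_singleton]
    rintro ⟨y, hy⟩
    have hy1 : f y = x := hy
    subst hy1
    exact (Groth.Agent.Helper16.QFCodim.quasiFiniteAt_iff_isOpen_singleton f y).mp (key y rfl)

end Groth.Agent.S13532
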