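import Groth.Statements.S13536
import Mathlib
import Groth.Agent.Lib.Helper9.CdIso

set_option autoImplicit false
universe u
open CategoryTheory CategoryTheory.Limits AlgebraicGeometry
open ResProp

namespace Groth.Agent.S13536

/-- On a Noetherian scheme X let Z be a closed subscheme of cohomological dimension at most k (every
quasi-coherent module on Z has zero cohomology in degrees ≥ k + 1) and let F, F' be coherent modules
which are isomorphic on the open complement of Z. Then H^i(X, F) and H^i(X, F') are isomorphic for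
all i ≥ k + 2 (existence of an additive isomorphism only; the identification depends on choices). -/
theorem result (X : Scheme.{u}) [IsNoetherian X]
    {Z : Scheme.{u}} (ι : Z ⟶ X) [IsClosedImmersion ι] (k : ℕ)
    (hcd : ∀ G : Z.Modules, Coh.IsQCoh G → ∀ i : ℕ, k + 1 ≤ i → Subsingleton (Coh.HH Z G i))
    (U : X.Opens) (hU : (U : Set X) = (Set.range ι.base)ᶜ)
    (F F' : X.Modules) (hF : Coh.IsCoh F) (hF' : Coh.IsCoh F')
    (hiso : Nonempty (F.restrict U.ι ≅ F'.restrict U.ι)) (i : ℕ) (hi : k + 2 ≤ i) :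
    Nonempty (Coh.HH X F i ≃+ Coh.HH X F' i) := by
  obtain ⟨e⟩ := hiso
  obtain ⟨G, p₁, p₂, hG, h₁, h₂⟩ := Groth.Agent.Helper9.CohGraph.main X U F F' hF hF' e
  haveI := h₁
  haveI := h₂
  haveI : G.IsQuasicoherent := hG.1
  haveI : F.IsQuasicoherent := hF.1
  haveI : F'.IsQuasicoherent := hF'.1
  have hv : ∀ M : X.Modules, M.IsQuasicoherent → IsZero (M.restrict U.ι) →
      ∀ q : ℕ, k < q → Subsingleton (Coh.HH X M q) := by
    intro M hM hz q hq
    haveI := hM
    exact Groth.Agent.Helper9.CdIso.HH_subsingleton_of_zeroOn ι k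
      (fun G hG q hq => hcd G hG q (Nat.succ_le_of_lt hq)) U hU M hz q hq
  obtain ⟨e₁⟩ := Groth.Agent.Helper9.CdIso.HH_equiv_of_isIso_restrict U k hv p₁ i hi
  obtain ⟨e₂⟩ := Groth.Agent.Helper9.CdIso.HH_equiv_of_isIso_restrict U k hv p₂ i hi
  exact ⟨e₁.symm.trans e₂⟩

end Groth.Agent.S13536
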