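import Mathlib
import Groth.Statements.S13567
import Groth.Agent.Lib.Helper19.UnivInj

set_option autoImplicit false
universe u
open CategoryTheory AlgebraicGeometry
open AlgSt

namespace Groth.Agent.S13567

/-- The base change of a universally injective morphism of algebraic stacks along any morphism of
algebraic stacks is universally injective: if every base change of `f : 𝒳 ⟶ 𝒴` to an algebraic stack
is injective on points, then the same holds for the projection `𝒵 ×_𝒴 𝒳 ⟶ 𝒵` for every morphism `g :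
𝒵 ⟶ 𝒴` of algebraic stacks. -/
theorem result {S : Scheme.{u}} {𝒳 𝒴 𝒵 : AlgSt.Cat S}
    (h𝒳 : AlgSt.IsAlgStack Scheme.fppfPrecoverage 𝒳) (h𝒴 : AlgSt.IsAlgStack Scheme.fppfPrecoverage 𝒴)
    (h𝒵 : AlgSt.IsAlgStack Scheme.fppfPrecoverage 𝒵)
    (f : 𝒳 ⥤ᵇ 𝒴) (g : 𝒵 ⥤ᵇ 𝒴) (hf : AlgSt.IsUnivInjective Scheme.fppfPrecoverage f) :
    AlgSt.IsUnivInjective Scheme.fppfPrecoverage (FibCat.fpFst g f) := by
  have hfp : AlgSt.IsAlgStack Scheme.fppfPrecoverage (FibCat.fp g f) :=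
    Groth.Agent.Helper19.ProdAlg.isAlgStack_fp h𝒴.isStack h𝒴.diag h𝒵 h𝒳 g f
  rw [Groth.Agent.Helper19.StPts.isUnivInjective_iff_isSurjective_diag hfp h𝒵 (FibCat.fpFst g f)]
  exact Groth.Agent.Helper19.StPts.isSurjective_diag_fpFst h𝒳.isStack.1 h𝒴.isStack.1 h𝒵.isStack.1 f g
    ((Groth.Agent.Helper19.StPts.isUnivInjective_iff_isSurjective_diag h𝒳 h𝒴 f).1 hf)

end Groth.Agent.S13567
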