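import Mathlib
import Groth.Statements.S13568
import Groth.Agent.Lib.Helper19.UnivInj

set_option autoImplicit false
universe u
open CategoryTheory AlgebraicGeometry
open AlgSt

namespace Groth.Agent.S13568

/-- The composition of two universally injective morphisms of algebraic stacks is universally injective
(universally injective: every base change to an algebraic stack is injective on points). -/
theorem result {S : Scheme.{u}} {𝒳 𝒴 𝒵 : AlgSt.Cat S}
    (h𝒳 : AlgSt.IsAlgStack Scheme.fppfPrecoverage 𝒳) (h𝒴 : AlgSt.IsAlgStack Scheme.fppfPrecoverage 𝒴)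
    (h𝒵 : AlgSt.IsAlgStack Scheme.fppfPrecoverage 𝒵)
    (f : 𝒳 ⥤ᵇ 𝒴) (g : 𝒴 ⥤ᵇ 𝒵) (hf : AlgSt.IsUnivInjective Scheme.fppfPrecoverage f)
    (hg : AlgSt.IsUnivInjective Scheme.fppfPrecoverage g) :
    AlgSt.IsUnivInjective Scheme.fppfPrecoverage (BasedFunctor.comp f g) := by
  intro 𝒲 h𝒲 h
  have hfp : AlgSt.IsAlgStack Scheme.fppfPrecoverage (FibCat.fp h g) :=
    Groth.Agent.Helper19.ProdAlg.isAlgStack_fp h𝒵.isStack h𝒵.diag h𝒲 h𝒴 h g
  have h1 : Function.Injective (AlgSt.Points.map (FibCat.fpFst (FibCat.fpSnd h g) f)) :=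
    hf (FibCat.fp h g) hfp (FibCat.fpSnd h g)
  have h2 : Function.Injective (AlgSt.Points.map (FibCat.fpFst h g)) := hg 𝒲 h𝒲 h
  have he := Groth.Agent.Helper19.FibLib.isEquivOver_pasteR h g f
  have hcomp : ∀ z, AlgSt.Points.map (FibCat.fpFst h (BasedFunctor.comp f g)) z =
      AlgSt.Points.map (FibCat.fpFst h g) (AlgSt.Points.map (FibCat.fpFst (FibCat.fpSnd h g) f)
        (AlgSt.Points.map (Groth.Agent.Helper19.FibLib.pasteR h g f) z)) := by
    intro z
    rw [← Groth.Agent.Helper19.StPts.map_comp, ← Groth.Agent.Helper19.StPts.map_comp]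
    rfl
  intro a b hab
  rw [hcomp, hcomp] at hab
  exact (Groth.Agent.Helper19.StPts.mapHomeo _ he).injective (h1 (h2 hab))

end Groth.Agent.S13568
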