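import Groth.Statements.S13580
import Groth.Agent.Lib.Helper10.ExtAdj
import Groth.Agent.Lib.Helper24.ModGroth
import Groth.Agent.S9086

set_option autoImplicit false
universe w' w u
open CategoryTheory CategoryTheory.Limits
open ExtSupp

namespace Groth.Agent.S13580

section helpers

open Opposite

variable {C : Type u} [SmallCategory C] {J : GrothendieckTopology C} {O : Sheaf J CommRingCat.{u}}

/-- The underlying morphism of abelian presheaves of a morphism between restrictions, as an element of
`presheafHom`. -/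
noncomputable def toPH (V : C) {M N : ModSite.Mod O}
    (φ' : (ModSite.restr O V).obj M ⟶ (ModSite.restr O V).obj N) :
    (presheafHom M.val.presheaf N.val.presheaf).obj (op V) :=
  (PresheafOfModules.toPresheaf _).map φ'.val

lemma toPH_app (V : C) {M N : ModSite.Mod O}
    (φ' : (ModSite.restr O V).obj M ⟶ (ModSite.restr O V).obj N) (Y : Over V) (x : M.val.obj (op Y.left)) :
    ((toPH V φ').app (op Y)) x = (φ'.val.app (op Y)).hom x := rfl

lemma restr_zero_app (V : C) (W : Over V) {A B : ModSite.Mod (O.over V)} (φ' : A ⟶ B)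
    (h : (ModSite.restr (O.over V) W).map φ' = 0) (Y : Over V) (t : Y ⟶ W)
    (x : A.val.obj (op Y)) : (φ'.val.app (op Y)).hom x = 0 := by
  have := congrArg (fun ψ : (ModSite.restr (O.over V) W).obj A ⟶ (ModSite.restr (O.over V) W).obj B =>
    (ψ.val.app (op (Over.mk t))).hom x) h
  exact this

section Glue

variable (U V : C) [HasBinaryProducts C] (hV : ∀ X : C, Subsingleton (X ⟶ V))
  (hUV : J.CoversTop (fun b : Bool => cond b U V)) {M N : ModSite.Mod O}
  (φ' : (ModSite.restr O V).obj M ⟶ (ModSite.restr O V).obj N)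
  (hφ' : (ModSite.restr (O.over V) (Over.mk (prod.snd : U ⨯ V ⟶ V))).map φ' = 0)

/-- the family: zero on `U`, `φ'` on `V` -/
noncomputable def fam : Presheaf.FamilyOfElementsOnObjects
    (presheafHom M.val.presheaf N.val.presheaf) (fun b : Bool => cond b U V) :=
  fun b => match b with
    | true => (0 : (Over.forget U).op ⋙ M.val.presheaf ⟶ (Over.forget U).op ⋙ N.val.presheaf)
    | false => toPH V φ'

include hV hφ' in
lemma fam_compatible : (fam U V φ').IsCompatible := by
  have key : ∀ (Z : C) (f : Z ⟶ U) (g : Z ⟶ V),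
      (presheafHom M.val.presheaf N.val.presheaf).map f.op (fam U V φ' true) =
      (presheafHom M.val.presheaf N.val.presheaf).map g.op (fam U V φ' false) := by
    intro Z f g
    apply NatTrans.ext
    funext T
    obtain ⟨T⟩ := T
    have h1 := presheafHom_map_app (F := M.val.presheaf) (G := N.val.presheaf) T.hom f (T.hom ≫ f) rfl
      (fam U V φ' true)
    have h2 := presheafHom_map_app (F := M.val.presheaf) (G := N.val.presheaf) T.hom g (T.hom ≫ g) rfl
      (fam U V φ' false)
    refine h1.trans (Eq.trans ?_ h2.symm)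
    ext x
    have := restr_zero_app V (Over.mk (prod.snd : U ⨯ V ⟶ V)) φ' hφ' (Over.mk (T.hom ≫ g))
      (Over.homMk (prod.lift (T.hom ≫ f) (T.hom ≫ g)) (prod.lift_snd _ _)) x
    exact this.symm
  intro Z i j f g
  cases i <;> cases j
  · have : f = g := (hV Z).elim _ _
    rw [this]
  · exact (key Z g f).symm
  · exact key Z f g
  · apply NatTrans.ext
    funext T
    obtain ⟨T⟩ := T
    have h1 := presheafHom_map_app (F := M.val.presheaf) (G := N.val.presheaf) T.hom f (T.hom ≫ f) rfl
      (fam U V φ' true)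
    have h2 := presheafHom_map_app (F := M.val.presheaf) (G := N.val.presheaf) T.hom g (T.hom ≫ g) rfl
      (fam U V φ' true)
    exact h1.trans h2.symm

end Glue

section Glue2

variable (U V : C) [HasBinaryProducts C] (hV : ∀ X : C, Subsingleton (X ⟶ V))
  (hUV : J.CoversTop (fun b : Bool => cond b U V)) {M N : ModSite.Mod O}
  (φ' : (ModSite.restr O V).obj M ⟶ (ModSite.restr O V).obj N)
  (hφ' : (ModSite.restr (O.over V) (Over.mk (prod.snd : U ⨯ V ⟶ V))).map φ' = 0)

/-- the glued section of the hom presheaf -/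
noncomputable def glueSec : (presheafHom M.val.presheaf N.val.presheaf).sections :=
  (fam_compatible U V hV φ' hφ').section_ hUV (Presheaf.IsSheaf.hom _ _ N.isSheaf)

/-- the glued morphism of abelian presheaves -/
noncomputable def glueAb : M.val.presheaf ⟶ N.val.presheaf :=
  presheafHomSectionsEquiv _ _ (glueSec U V hV hUV φ' hφ')

lemma glueAb_app_V {Z : C} (g : Z ⟶ V) :
    (glueAb U V hV hUV φ' hφ').app (op Z) = (toPH V φ').app (op (Over.mk g)) := by
  have h1 : (glueSec U V hV hUV φ' hφ').1 (op V) = toPH V φ' :=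
    (fam_compatible U V hV φ' hφ').section_apply hUV (Presheaf.IsSheaf.hom _ _ N.isSheaf) false
  have h2 := (glueSec U V hV hUV φ' hφ').2 g.op
  change ((glueSec U V hV hUV φ' hφ').1 (op Z)).app (op (Over.mk (𝟙 Z))) = _
  rw [← h2, h1]
  exact presheafHom_map_app_op_mk_id g _

lemma glueAb_app_U {Z : C} (g : Z ⟶ U) :
    (glueAb U V hV hUV φ' hφ').app (op Z) = 0 := by
  have h1 : (glueSec U V hV hUV φ' hφ').1 (op U) =
      (0 : (Over.forget U).op ⋙ M.val.presheaf ⟶ (Over.forget U).op ⋙ N.val.presheaf) :=
    (fam_compatible U V hV φ' hφ').section_apply hUV (Presheaf.IsSheaf.hom _ _ N.isSheaf) true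
  have h2 := (glueSec U V hV hUV φ' hφ').2 g.op
  change ((glueSec U V hV hUV φ' hφ').1 (op Z)).app (op (Over.mk (𝟙 Z))) = _
  rw [← h2, h1]
  exact presheafHom_map_app_op_mk_id g _

end Glue2

section Glue3

variable (U V : C) [HasBinaryProducts C] (hV : ∀ X : C, Subsingleton (X ⟶ V))
  (hUV : J.CoversTop (fun b : Bool => cond b U V)) {M N : ModSite.Mod O}
  (φ' : (ModSite.restr O V).obj M ⟶ (ModSite.restr O V).obj N)
  (hφ' : (ModSite.restr (O.over V) (Over.mk (prod.snd : U ⨯ V ⟶ V))).map φ' = 0)

lemma glueAb_linear (X : Cᵒᵖ) (r : (ModSite.ringSh O).obj.obj X) (m : M.val.obj X) :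
    (glueAb U V hV hUV φ' hφ').app X (r • m) = r • (glueAb U V hV hUV φ' hφ').app X m := by
  obtain ⟨X⟩ := X
  apply N.isSheaf.isSeparated _ _ (hUV X)
  rintro Z a ⟨b, ⟨g⟩⟩
  have hnat : ∀ z : M.val.obj (op X), N.val.map a.op ((glueAb U V hV hUV φ' hφ').app (op X) z) =
      (glueAb U V hV hUV φ' hφ').app (op Z) (M.val.map a.op z) :=
    fun z => (CategoryTheory.congr_fun ((glueAb U V hV hUV φ' hφ').naturality a.op) z).symm
  have key : ∀ (r' : (ModSite.ringSh O).obj.obj (op Z)) (m' : M.val.obj (op Z)),
      (glueAb U V hV hUV φ' hφ').app (op Z) (r' • m') =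
        r' • (glueAb U V hV hUV φ' hφ').app (op Z) m' := by
    intro r' m'
    cases b
    · rw [glueAb_app_V U V hV hUV φ' hφ' g]
      exact (φ'.val.app (op (Over.mk g))).hom.map_smul r' m'
    · rw [glueAb_app_U U V hV hUV φ' hφ' g]
      exact (smul_zero _).symm
  refine (hnat (r • m)).trans ?_
  refine (congrArg _ (M.val.map_smul a.op r m)).trans ?_
  refine (key _ _).trans ?_
  refine Eq.trans ?_ (N.val.map_smul a.op r _).symm
  exact congrArg _ (hnat m).symm

/-- the glued morphism of sheaves of modules -/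
noncomputable def glue : M ⟶ N :=
  ⟨PresheafOfModules.homMk (glueAb U V hV hUV φ' hφ') (glueAb_linear U V hV hUV φ' hφ')⟩

lemma restr_V_glue : (ModSite.restr O V).map (glue U V hV hUV φ' hφ') = φ' := by
  apply (SheafOfModules.toSheaf _).map_injective
  ext Y x
  obtain ⟨Y⟩ := Y
  exact CategoryTheory.congr_fun (glueAb_app_V U V hV hUV φ' hφ' Y.hom) x

lemma restr_U_glue : (ModSite.restr O U).map (glue U V hV hUV φ' hφ') = 0 := by
  apply (SheafOfModules.toSheaf _).map_injective
  ext Y x
  obtain ⟨Y⟩ := Y
  exact CategoryTheory.congr_fun (glueAb_app_U U V hV hUV φ' hφ' Y.hom) x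

end Glue3

section Quot

/-- morphisms agreeing on `U` and on `V` (which cover) are equal -/
lemma hom_ext_cover (U V : C) (hUV : J.CoversTop (fun b : Bool => cond b U V)) {M T : ModSite.Mod O}
    (φ₁ φ₂ : M ⟶ T) (hV' : (ModSite.restr O V).map φ₁ = (ModSite.restr O V).map φ₂)
    (hU' : (ModSite.restr O U).map φ₁ = (ModSite.restr O U).map φ₂) : φ₁ = φ₂ := by
  apply (SheafOfModules.toSheaf _).map_injective
  ext X x
  obtain ⟨X⟩ := X
  apply T.isSheaf.isSeparated _ _ (hUV X)
  rintro Z a ⟨b, ⟨g⟩⟩
  have hn1 : T.val.map a.op ((φ₁.val.app (op X)).hom x) = (φ₁.val.app (op Z)).hom (M.val.map a.op x) :=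
    (PresheafOfModules.naturality_apply φ₁.val a.op x).symm
  have hn2 : T.val.map a.op ((φ₂.val.app (op X)).hom x) = (φ₂.val.app (op Z)).hom (M.val.map a.op x) :=
    (PresheafOfModules.naturality_apply φ₂.val a.op x).symm
  refine hn1.trans (Eq.trans ?_ hn2.symm)
  cases b
  · exact congrArg (fun ψ : (ModSite.restr O V).obj M ⟶ (ModSite.restr O V).obj T =>
      (ψ.val.app (op (Over.mk g))).hom (M.val.map a.op x)) hV'
  · exact congrArg (fun ψ : (ModSite.restr O U).obj M ⟶ (ModSite.restr O U).obj T =>
      (ψ.val.app (op (Over.mk g))).hom (M.val.map a.op x)) hU'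

/-- a morphism vanishing on `U` vanishes, after restriction to `V`, on every `W` over `V` mapping to `U` -/
lemma restr_restr_zero (U V : C) (W : Over V) (t : W.left ⟶ U) {M T : ModSite.Mod O} (φ : M ⟶ T)
    (h : (ModSite.restr O U).map φ = 0) :
    (ModSite.restr (O.over V) W).map ((ModSite.restr O V).map φ) = 0 := by
  apply (SheafOfModules.toSheaf _).map_injective
  ext Y x
  obtain ⟨Y⟩ := Y
  exact congrArg (fun ψ : (ModSite.restr O U).obj M ⟶ (ModSite.restr O U).obj T =>
      (ψ.val.app (op (Over.mk (Y.hom.left ≫ t)))).hom x) h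

lemma restr_quotOnπ (U : C) (M : ModSite.Mod O) :
    (ModSite.restr O U).map ((ModSite.quotOnπ O U).app M) = 0 := by
  have h0 : (ModSite.extZeroAdj O U).counit.app M ≫ (ModSite.quotOnπ O U).app M = 0 :=
    cokernel.condition _
  exact (mem_homZ_iff U _).2 h0

instance epi_quotOnπ (U : C) (M : ModSite.Mod O) : Epi ((ModSite.quotOnπ O U).app M) := by
  change Epi (cokernel.π _)
  infer_instance

/-- factor a morphism vanishing on `U` through `M/M_U` -/
noncomputable def quotDesc (U : C) {M T : ModSite.Mod O} (φ : M ⟶ T) (h : (ModSite.restr O U).map φ = 0) :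
    (ModSite.quotOn O U).obj M ⟶ T :=
  cokernel.desc ((ModSite.extZeroAdj O U).counit.app M) φ ((mem_homZ_iff U φ).1 h)

lemma π_quotDesc (U : C) {M T : ModSite.Mod O} (φ : M ⟶ T) (h : (ModSite.restr O U).map φ = 0) :
    (ModSite.quotOnπ O U).app M ≫ quotDesc U φ h = φ :=
  cokernel.π_desc _ _ _

end Quot

section Iso

variable (U V : C) [HasBinaryProducts C] (hV : ∀ X : C, Subsingleton (X ⟶ V))
  (hUV : J.CoversTop (fun b : Bool => cond b U V)) (M : ModSite.Mod O)

/-- `Q_W (M|_V) ⟶ (Q_U M)|_V` -/
noncomputable def beta :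
    (ModSite.quotOn (O.over V) (Over.mk (prod.snd : U ⨯ V ⟶ V))).obj ((ModSite.restr O V).obj M) ⟶
      (ModSite.restr O V).obj ((ModSite.quotOn O U).obj M) :=
  quotDesc (O := O.over V) (Over.mk (prod.snd : U ⨯ V ⟶ V))
    ((ModSite.restr O V).map ((ModSite.quotOnπ O U).app M))
    (restr_restr_zero U V (Over.mk (prod.snd : U ⨯ V ⟶ V)) prod.fst _ (restr_quotOnπ U M))

lemma π_beta :
    (ModSite.quotOnπ (O.over V) (Over.mk (prod.snd : U ⨯ V ⟶ V))).app ((ModSite.restr O V).obj M) ≫
      beta U V M = (ModSite.restr O V).map ((ModSite.quotOnπ O U).app M) :=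
  π_quotDesc (O := O.over V) _ _ _

/-- `j_! Q_W (M|_V) ⟶ Q_U M` -/
noncomputable def alpha :
    (ModSite.extZero O V).obj
      ((ModSite.quotOn (O.over V) (Over.mk (prod.snd : U ⨯ V ⟶ V))).obj ((ModSite.restr O V).obj M)) ⟶
      (ModSite.quotOn O U).obj M :=
  ((ModSite.extZeroAdj O V).homEquiv _ _).symm (beta U V M)

lemma homEquiv_alpha_comp {T : ModSite.Mod O} (ψ : (ModSite.quotOn O U).obj M ⟶ T) :
    (ModSite.extZeroAdj O V).homEquiv _ _ (alpha U V M ≫ ψ) = beta U V M ≫ (ModSite.restr O V).map ψ := by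
  rw [Adjunction.homEquiv_naturality_right]
  unfold alpha
  rw [Equiv.apply_symm_apply]

include hV hUV in
lemma isIso_alpha : IsIso (alpha U V M) := by
  rw [isIso_iff_coyoneda_map_bijective]
  intro T
  constructor
  · intro ψ₁ ψ₂ h
    have h' : alpha U V M ≫ ψ₁ = alpha U V M ≫ ψ₂ := h
    have h1 : beta U V M ≫ (ModSite.restr O V).map ψ₁ = beta U V M ≫ (ModSite.restr O V).map ψ₂ := by
      rw [← homEquiv_alpha_comp, ← homEquiv_alpha_comp, h']
    have h2 : (ModSite.restr O V).map ((ModSite.quotOnπ O U).app M ≫ ψ₁) =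
        (ModSite.restr O V).map ((ModSite.quotOnπ O U).app M ≫ ψ₂) := by
      rw [Functor.map_comp, Functor.map_comp, ← π_beta, Category.assoc, Category.assoc, h1]
    have h3 : (ModSite.restr O U).map ((ModSite.quotOnπ O U).app M ≫ ψ₁) =
        (ModSite.restr O U).map ((ModSite.quotOnπ O U).app M ≫ ψ₂) := by
      rw [Functor.map_comp, Functor.map_comp, restr_quotOnπ, zero_comp, zero_comp]
    have h4 := hom_ext_cover U V hUV _ _ h2 h3
    exact (cancel_epi _).1 h4
  · intro χ
    let χ' := (ModSite.extZeroAdj O V).homEquiv _ _ χ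
    let φ' : (ModSite.restr O V).obj M ⟶ (ModSite.restr O V).obj T :=
      (ModSite.quotOnπ (O.over V) (Over.mk (prod.snd : U ⨯ V ⟶ V))).app ((ModSite.restr O V).obj M) ≫ χ'
    have hφ' : (ModSite.restr (O.over V) (Over.mk (prod.snd : U ⨯ V ⟶ V))).map φ' = 0 := by
      rw [Functor.map_comp, restr_quotOnπ, zero_comp]
    let φ : M ⟶ T := glue U V hV hUV φ' hφ'
    have hφV : (ModSite.restr O V).map φ = φ' := restr_V_glue U V hV hUV φ' hφ'
    have hφU : (ModSite.restr O U).map φ = 0 := restr_U_glue U V hV hUV φ' hφ'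
    refine ⟨quotDesc U φ hφU, ?_⟩
    change alpha U V M ≫ quotDesc U φ hφU = χ
    apply ((ModSite.extZeroAdj O V).homEquiv _ _).injective
    rw [homEquiv_alpha_comp]
    change _ = χ'
    rw [← cancel_epi ((ModSite.quotOnπ (O.over V) (Over.mk (prod.snd : U ⨯ V ⟶ V))).app
      ((ModSite.restr O V).obj M))]
    rw [← Category.assoc, π_beta, ← Functor.map_comp, π_quotDesc, hφV]

end Iso

section Main

open Groth.Agent.Helper24.ModGroth Groth.Agent.Helper10.ExtAdj CategoryTheory.Abelian

theorem main {C : Type u} [SmallCategory C] [HasBinaryProducts C]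
    {J : GrothendieckTopology C} {O : Sheaf J CommRingCat.{u}} [HasExt.{w} (ModSite.Mod O)]
    (U V : C) [HasExt.{w'} (ModSite.Mod (O.over V))]
    (hV : ∀ X : C, Subsingleton (X ⟶ V)) (hUV : J.CoversTop (fun b : Bool => cond b U V)) (M N : ModSite.Mod O)
    (i : ℕ) :
    Nonempty (ExtSupp.ExtZ U M N i ≃+ ExtSupp.ExtZover V (Over.mk (prod.snd : U ⨯ V ⟶ V)) M N i) := by
  haveI : (ModSite.extZero O V).Additive := (ModSite.extZeroAdj O V).left_adjoint_additive
  haveI : PreservesFiniteLimits (ModSite.extZero O V) := Groth.Agent.S9086.result O V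
  haveI : PreservesFiniteColimits (ModSite.extZero O V) := by
    have : PreservesColimitsOfSize.{0, 0} (ModSite.extZero O V) :=
      (ModSite.extZeroAdj O V).leftAdjoint_preservesColimits
    exact PreservesColimitsOfSize.preservesFiniteColimits _
  haveI : PreservesFiniteLimits (ModSite.restr O V) := by
    have : PreservesLimitsOfSize.{0, 0} (ModSite.restr O V) :=
      (ModSite.extZeroAdj O V).rightAdjoint_preservesLimits
    exact PreservesLimitsOfSize.preservesFiniteLimits _
  haveI : PreservesFiniteColimits (ModSite.restr O V) := by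
    have : PreservesColimitsOfSize.{0, 0} (ModSite.restr O V) :=
      (ModSite.restrPushOverAdj O V).leftAdjoint_preservesColimits
    exact PreservesColimitsOfSize.preservesFiniteColimits _
  haveI := isIso_alpha U V hV hUV M
  let e1 := extAdjEquiv (ModSite.extZeroAdj O V)
    ((ModSite.quotOn (O.over V) (Over.mk (prod.snd : U ⨯ V ⟶ V))).obj ((ModSite.restr O V).obj M)) N i
  let e2 := extCongrLeft (asIso (alpha U V M)) N i
  exact ⟨e2.trans e1⟩

end Main

end helpers

/-- Let `U`, `V` be objects of a ringed site which together cover it, with `V` subterminal (every object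
has at most one morphism to `V`, so that `V` is an open of the topos and the closed complement `Z`
of `U` is contained in it), and let `M`, `N` be sheaves of modules. Then `Ext^i_Z(M, N)` computed on
the whole site is isomorphic to `Ext^i_{Z}(V; M|_V, N|_V)`, the Ext group with supports computed on
the localised site over `V` with support the complement of `U × V ⟶ V`. Existence of an isomorphism
of groups in each degree only. (The published statement is for a ringed space, where every open set
is subterminal, a locally closed `Z` and an isomorphism of cohomological functors; this row is the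
closed case on a ringed site, degree by degree, with the subterminality of `V` made an explicit
hypothesis. Without the covering hypothesis the statement fails, e.g. for `V = U`; without the
subterminality of `V` it fails already in degree `0`, because restricting to the localised site over
an object that receives two different morphisms from one object can enlarge the group of sections.) -/
theorem result {C : Type u} [SmallCategory C] [HasBinaryProducts C]
    {J : GrothendieckTopology C} {O : Sheaf J CommRingCat.{u}} [HasExt.{w} (ModSite.Mod O)]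
    (U V : C) [HasExt.{w'} (ModSite.Mod (O.over V))]
    (hV : ∀ X : C, Subsingleton (X ⟶ V)) (hUV : J.CoversTop (fun b : Bool => cond b U V)) (M N : ModSite.Mod O)
    (i : ℕ) :
    Nonempty (ExtSupp.ExtZ U M N i ≃+ ExtSupp.ExtZover V (Over.mk (prod.snd : U ⨯ V ⟶ V)) M N i) := by
  exact main U V hV hUV M N i

end Groth.Agent.S13580
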