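import Groth.Statements.S13581
import Groth.Agent.Lib.Helper24.GSSExt
import Groth.Agent.Lib.Helper24.ModGroth
import Groth.Agent.Lib.Helper24.Supp8

set_option autoImplicit false
universe w' w u
open CategoryTheory CategoryTheory.Limits
open ExtSupp

namespace Groth.Agent.S13581

open Groth.Agent.Helper24 Groth.Agent.Helper24.GSS Groth.Agent.Helper24.CechH
  Groth.Agent.Helper24.Supp Groth.Agent.Helper24.ModGroth Abelian

/-- additive change of universe for `Ext` -/
noncomputable def chgUnivAdd {A : Type*} [Category A] [Abelian A] [HasExt.{w} A] [HasExt.{w'} A]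
    (X Y : A) (n : ℕ) : Ext.{w} X Y n ≃+ Ext.{w'} X Y n :=
  letI := HasDerivedCategory.standard A
  (show Ext.{w} X Y n ≃+ ShiftedHom ((DerivedCategory.singleFunctor A 0).obj X)
    ((DerivedCategory.singleFunctor A 0).obj Y) (n : ℤ) from Ext.homAddEquiv).trans
    (show Ext.{w'} X Y n ≃+ ShiftedHom ((DerivedCategory.singleFunctor A 0).obj X)
    ((DerivedCategory.singleFunctor A 0).obj Y) (n : ℤ) from Ext.homAddEquiv).symm

/-- On a ringed site, for an object `U` and sheaves of modules `M`, `N`, the group `Ext^i(M_U, N)`,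
where `M_U = j_!(M|_U)` is the extension by zero of the restriction, is isomorphic to
`Ext^i_{O|_U}(M|_U, N|_U)` computed on the localised site over `U`; hence the long exact sequence
`Ext^i_Z(M, N) → Ext^i(M, N) → Ext^i(M_U, N) → Ext^{i+1}_Z(M, N)` for the closed complement `Z` of
`U` has the Ext groups of the restrictions as its third terms. Existence of an isomorphism of groups
in each degree only. (The published statements give the long exact sequence itself, on a ringed
space resp. a ringed topos; its exactness over these definitions is formal and is not part of this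
row.) -/
theorem result {C : Type u} [SmallCategory C]
    {J : GrothendieckTopology C} {O : Sheaf J CommRingCat.{u}} [HasExt.{w} (ModSite.Mod O)]
    (U : C) [HasExt.{w'} (ModSite.Mod (O.over U))] (M N : ModSite.Mod O) (i : ℕ) :
    Nonempty (Abelian.Ext.{w} (ExtSupp.openMod U M) N i ≃+
      Abelian.Ext.{w'} ((ModSite.restr O U).obj M) ((ModSite.restr O U).obj N) i) := by
  let _ : HasExt.{u+1} (ModSite.Mod O) := HasExt.standard _
  let _ : HasExt.{u+1} (ModSite.Mod (O.over U)) := HasExt.standard _
  have : EnoughInjectives (ModSite.Mod O) := enoughInjectives_sheafOfModules _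
  have : EnoughInjectives (ModSite.Mod (O.over U)) := enoughInjectives_sheafOfModules _
  let L := ModSite.extZero O U
  let T := ModSite.restr O U
  let adj : L ⊣ T := ModSite.extZeroAdj O U
  let Z₀ := T.obj M
  obtain ⟨e1⟩ := nonempty_iso_rightDerived_obj (extDelta.{u+1} (L.obj Z₀)) (extDelta_effaceable _)
      (T ⋙ (extDelta.{u+1} Z₀).F 0) (extZeroAdjIso adj Z₀) i N
  have heff : (comap T (extDelta.{u+1} Z₀)).IsEffaceable := fun n X => by
    refine ⟨Injective.under X, Injective.ι X, inferInstance, ?_⟩
    have : Injective (T.obj (Injective.under X)) := injective_restr O U _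
    have hz : IsZero (((extDelta.{u+1} Z₀).F (n + 1)).obj (T.obj (Injective.under X))) := by
      have : Subsingleton (Ext.{u+1} Z₀ (T.obj (Injective.under X)) (n + 1)) :=
        Ext.subsingleton_of_injective _ _ n
      exact @AddCommGrpCat.isZero_of_subsingleton
        (AddCommGrpCat.of (Ext.{u+1} Z₀ (T.obj (Injective.under X)) (n + 1))) this
    exact hz.eq_of_tgt _ _
  obtain ⟨e2⟩ := nonempty_iso_rightDerived_obj (comap T (extDelta.{u+1} Z₀)) heff
      (T ⋙ (extDelta.{u+1} Z₀).F 0) (Iso.refl _) i N
  have e3 : AddCommGrpCat.of (Ext.{u+1} (L.obj Z₀) N i) ≅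
      AddCommGrpCat.of (Ext.{u+1} Z₀ (T.obj N) i) := e1 ≪≫ e2.symm
  have a1 : Ext.{w} (L.obj Z₀) N i ≃+ Ext.{u+1} (L.obj Z₀) N i := chgUnivAdd _ _ _
  have a2 : Ext.{u+1} Z₀ (T.obj N) i ≃+ Ext.{w'} Z₀ (T.obj N) i := chgUnivAdd _ _ _
  exact ⟨a1.trans (e3.addCommGroupIsoToAddEquiv.trans a2)⟩

end Groth.Agent.S13581
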