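import Groth.Statements.S13587
import Mathlib
import Groth.Agent.Lib.Helper24.FrMod4
import Groth.Agent.Lib.Helper24.Supp6

set_option autoImplicit false
universe u
open CategoryTheory CategoryTheory.Limits
open ExtSupp

namespace Groth.Agent.S13587


open Groth.Agent.Helper24.FrMod Groth.Agent.Helper24.GSS Groth.Agent.Helper17.MT
  Groth.Agent.Helper24.CechH Groth.Agent.Helper24.Supp

lemma isZero_punit : IsZero (AddCommGrpCat.of PUnit.{u + 1}) :=
  @AddCommGrpCat.isZero_of_subsingleton (AddCommGrpCat.of PUnit.{u + 1})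
    (inferInstanceAs (Subsingleton PUnit.{u + 1}))

/-- On a ringed site, for an object `U` with closed complement `Z` and sheaves of modules `M`, `N`,
there is a bounded `E_2` spectral sequence of abelian groups with `E_2^{p,q}` isomorphic to
`H^p(ℰxt^q_{O,Z}(M, N))` (cohomology of the site) for `p, q ≥ 0` and zero otherwise, together with
abutment data whose filtrations are finite on `Ext^n_Z(M, N)` (`n ≥ 0`; zero for `n < 0`). The `E_2`
identifications and the abutment isomorphisms are asserted to exist only and are not pinned to the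
canonical maps, so edge maps are not part of this statement; the internal hom out of `M`, the right
adjoint of restriction to `U` and injective resolutions of sheaves of modules are assumed to exist.
(The published statement, on a ringed topos and likewise on a ringed space, is functorial in `M`,
`N` and in an object `X` of the topos; this row is the case of the final object.) -/
theorem result {C : Type u} [SmallCategory C]
    {J : GrothendieckTopology C} {O : Sheaf J CommRingCat.{u}} [HasExt.{u} (ModSite.Mod O)]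
    (U : C) [ModSite.HasPushOver O U] (M N : ModSite.Mod O) [ModSite.HasSheafHom M]
    [HasInjectiveResolutions (ModSite.Mod O)] :
    ∃ (E : E₂CohomologicalSpectralSequence AddCommGrpCat.{u})
      (a : SpSeq.Abutment E (fun n : ℤ =>
        if 0 ≤ n then AddCommGrpCat.of (ExtSupp.ExtZ U M N n.toNat) else AddCommGrpCat.of PUnit.{u + 1})),
      (∀ n, a.IsFinite n) ∧ SpSeq.IsBounded E ∧
      ∀ p q : ℤ, Nonempty ((E.page 2 le_rfl).X (p, q) ≅
        (if 0 ≤ p ∧ 0 ≤ q then AddCommGrpCat.of (ModSite.HC O ((ModSite.extZSh U M q.toNat).obj N) p.toNat)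
         else AddCommGrpCat.of PUnit.{u + 1})) := by
  have : EnoughInjectives (ModSite.Mod O) := by
    refine ⟨fun X => ?_⟩
    let I : InjectiveResolution X := (HasInjectiveResolution.out (Z := X)).some
    exact ⟨{ J := I.cocomplex.X 0
             injective := I.injective 0
             f := (I.ι.f 0 : X ⟶ I.cocomplex.X 0)
             mono := inferInstanceAs (Mono (I.ι.f 0)) }⟩
  have : HasDerivedCategory.{u + 1} (ModSite.Mod O) := HasDerivedCategory.standard _
  let Z' : Sheaf J AddCommGrpCat.{u} := ToposFin.quotZ (ToposFin.eps J U)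
  have hZ' : TF Z' := tf_quotZ _
  have hZ : TF (ZC (J := J)) := tf_constant
  obtain ⟨eL⟩ := nonempty_L_quotZ_iso O U M
  refine exists_grothendieck_spectralSequence' (SZ (O := O) (ZC (J := J)))
    (ModSite.sheafHom M ⋙ ModSite.sectOn O U) ?_ N _ _ ?_ ?_ ?_ ?_
  · intro Q hQ q hq
    obtain ⟨k, rfl⟩ : ∃ k, q = k + 1 := ⟨q - 1, by omega⟩
    obtain ⟨e⟩ := nonempty_SZ_rightDerived_iso (O := O) (ZC (J := J)) hZ
      ((ModSite.sheafHom M ⋙ ModSite.sectOn O U).obj Q) (k + 1)
    have : Subsingleton (Abelian.Ext (ZC (J := J))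
        (ModSite.toAb ((ModSite.sectOn O U).obj ((ModSite.sheafHom M).obj Q))) (k + 1)) :=
      ext_sectOn_sheafHom_subsingleton O U M _ hZ Q k
    exact IsZero.of_iso (@AddCommGrpCat.isZero_of_subsingleton
      (AddCommGrpCat.of (Abelian.Ext (ZC (J := J))
        (ModSite.toAb ((ModSite.sectOn O U).obj ((ModSite.sheafHom M).obj Q))) (k + 1))) this)
      e.symm
  · intro n
    have hn : (0 : ℤ) ≤ (n : ℤ) := by positivity
    simp only [if_pos hn, Int.toNat_natCast]
    let e₀ : (ModSite.sheafHom M ⋙ ModSite.sectOn O U) ⋙ SZ (O := O) (ZC (J := J)) ≅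
        (extDelta ((Fr O ⋙ TR O M).obj Z')).F 0 :=
      Functor.isoWhiskerLeft (ModSite.sheafHom M) (sectOnSZIso O U) ≪≫
      (extZeroAdjIso (adjL M) Z').symm
    obtain ⟨e1⟩ := nonempty_rightDerived_iso_of_iso _ _ e₀ n
    obtain ⟨e2⟩ := nonempty_iso_rightDerived_obj (extDelta ((Fr O ⋙ TR O M).obj Z'))
      (extDelta_effaceable _) _ (Iso.refl _) n N
    obtain ⟨e3⟩ := nonempty_ext_iso_of_iso eL N n
    exact ⟨e1.app N ≪≫ e2.symm ≪≫ e3⟩
  · intro n hn
    simp only [if_neg (not_le.2 hn)]
    exact isZero_punit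
  · intro p q
    have hpq : (0 : ℤ) ≤ (p : ℤ) ∧ (0 : ℤ) ≤ (q : ℤ) := ⟨by positivity, by positivity⟩
    simp only [if_pos hpq, Int.toNat_natCast]
    obtain ⟨e⟩ := nonempty_SZ_rightDerived_iso (O := O) (ZC (J := J)) hZ
      (((ModSite.sheafHom M ⋙ ModSite.sectOn O U).rightDerived q).obj N) p
    exact ⟨e.symm⟩
  · intro p q hpq
    have : ¬ ((0 : ℤ) ≤ p ∧ (0 : ℤ) ≤ q) := fun h => by lia
    simp only [if_neg this]
    exact isZero_punit

end Groth.Agent.S13587
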