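import Groth.Statements.S13588
import Mathlib
import Groth.Agent.Lib.Helper24.FrMod4
import Groth.Agent.Lib.Helper24.Supp4

set_option autoImplicit false
universe u
open CategoryTheory CategoryTheory.Limits
open ExtSupp

namespace Groth.Agent.S13588


open Groth.Agent.Helper24.FrMod Groth.Agent.Helper24.GSS Groth.Agent.Helper17.MT
  Groth.Agent.Helper24.CechH Groth.Agent.Helper24.Supp

lemma isZero_punit : IsZero (AddCommGrpCat.of PUnit.{u + 1}) :=
  @AddCommGrpCat.isZero_of_subsingleton (AddCommGrpCat.of PUnit.{u + 1})
    (inferInstanceAs (Subsingleton PUnit.{u + 1}))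

lemma rdDelta_effaceable {A B : Type*} [Category A] [Abelian A] [EnoughInjectives A]
    [Category B] [Abelian B] (F : A ⥤ B) [F.Additive] :
    (Groth.Agent.Helper24.GSS.rdDelta F).IsEffaceable := fun n X =>
  ⟨Injective.under X, Injective.ι X, inferInstance,
    (Functor.isZero_rightDerived_obj_injective_succ F n _).eq_of_tgt _ _⟩

/-- On a ringed site, for an object `U` with closed complement `Z` and sheaves of modules `M`, `N`,
there is a bounded `E_2` spectral sequence of abelian groups with `E_2^{p,q}` isomorphic to
`Ext^p_O(M, ℋ^q_Z(N))` for `p, q ≥ 0` and zero otherwise, together with abutment data whose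
filtrations are finite on `Ext^n_Z(M, N)` (`n ≥ 0`; zero for `n < 0`). The `E_2` identifications and
the abutment isomorphisms are asserted to exist only and are not pinned to the canonical maps, so
edge maps are not part of this statement; the internal hom out of `M`, the right adjoint of
restriction to `U` and injective resolutions of sheaves of modules are assumed to exist. (The
published statement, on a ringed topos and likewise on a ringed space, is functorial in `M`, `N` and
in an object `X` of the topos; this row is the case of the final object.) -/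
theorem result {C : Type u} [SmallCategory C]
    {J : GrothendieckTopology C} {O : Sheaf J CommRingCat.{u}} [HasExt.{u} (ModSite.Mod O)]
    (U : C) [ModSite.HasPushOver O U] (M N : ModSite.Mod O) [ModSite.HasSheafHom M]
    [HasInjectiveResolutions (ModSite.Mod O)] :
    ∃ (E : E₂CohomologicalSpectralSequence AddCommGrpCat.{u})
      (a : SpSeq.Abutment E (fun n : ℤ =>
        if 0 ≤ n then AddCommGrpCat.of (ExtSupp.ExtZ U M N n.toNat) else AddCommGrpCat.of PUnit.{u + 1})),
      (∀ n, a.IsFinite n) ∧ SpSeq.IsBounded E ∧
      ∀ p q : ℤ, Nonempty ((E.page 2 le_rfl).X (p, q) ≅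
        (if 0 ≤ p ∧ 0 ≤ q then AddCommGrpCat.of (Abelian.Ext.{u} M ((ModSite.HZsh O U q.toNat).obj N) p.toNat)
         else AddCommGrpCat.of PUnit.{u + 1})) := by
  have : EnoughInjectives (ModSite.Mod O) := by
    refine ⟨fun X => ?_⟩
    let I : InjectiveResolution X := (HasInjectiveResolution.out (Z := X)).some
    exact ⟨{ J := I.cocomplex.X 0
             injective := I.injective 0
             f := (I.ι.f 0 : X ⟶ I.cocomplex.X 0)
             mono := inferInstanceAs (Mono (I.ι.f 0)) }⟩
  have : HasDerivedCategory.{u + 1} (ModSite.Mod O) := HasDerivedCategory.standard _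
  have hTlim : PreservesFiniteLimits (ModSite.sectOn O U) := by
    have : PreservesLimitsOfSize.{0, 0} (ModSite.sectOn O U) :=
      (quotSectAdj O U).rightAdjoint_preservesLimits
    exact PreservesLimitsOfSize.preservesFiniteLimits _
  refine exists_ext_spectralSequence (quotSectAdj O U)
    (rdDelta (ModSite.sectOn O U)) (rdDelta_effaceable _)
    ((ModSite.sectOn O U).rightDerivedZeroIsoSelf) M N _ _ ?_ ?_ ?_ ?_
  · intro n
    have hn : (0 : ℤ) ≤ (n : ℤ) := by positivity
    simp only [if_pos hn, Int.toNat_natCast]
    exact ⟨Iso.refl _⟩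
  · intro n hn
    simp only [if_neg (not_le.2 hn)]
    exact isZero_punit
  · intro p q
    have hpq : (0 : ℤ) ≤ (p : ℤ) ∧ (0 : ℤ) ≤ (q : ℤ) := ⟨by positivity, by positivity⟩
    simp only [if_pos hpq, Int.toNat_natCast]
    exact ⟨Iso.refl _⟩
  · intro p q hpq
    have : ¬ ((0 : ℤ) ≤ p ∧ (0 : ℤ) ≤ q) := fun h => by lia
    simp only [if_neg this]
    exact isZero_punit

end Groth.Agent.S13588
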