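import Groth.Statements.S13598
import Mathlib

set_option autoImplicit false
universe u
open Hensel

namespace Groth.Agent.S13598

open Polynomial IsLocalRing in
theorem henselian_quotient {S : Type u} [CommRing S] [HenselianLocalRing S] (J : Ideal S)
    (hJ : J ≤ IsLocalRing.maximalIdeal S) [IsLocalRing (S ⧸ J)] : HenselianLocalRing (S ⧸ J) := by
  have hloc : ∀ y : S, IsUnit (Ideal.Quotient.mk J y) → IsUnit y := by
    intro y hy
    by_contra hny
    have hym : y ∈ maximalIdeal S := hny
    obtain ⟨z, hz⟩ := hy.exists_right_inv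
    obtain ⟨z', rfl⟩ := Ideal.Quotient.mk_surjective z
    rw [← map_mul, ← map_one (Ideal.Quotient.mk J), Ideal.Quotient.eq] at hz
    have h1 : y * z' - 1 ∈ maximalIdeal S := hJ hz
    have h2 : y * z' ∈ maximalIdeal S := Ideal.mul_mem_right _ _ hym
    have h3 : (1 : S) ∈ maximalIdeal S := by
      have := Ideal.sub_mem _ h2 h1
      simpa using this
    exact (maximalIdeal S).ne_top_iff_one.mp (maximalIdeal.isMaximal S).ne_top h3
  refine { toIsLocalRing := inferInstance, is_henselian := ?_ }
  intro f hf a₀ h₁ h₂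
  obtain ⟨q, hq⟩ := Polynomial.map_surjective (Ideal.Quotient.mk J) Ideal.Quotient.mk_surjective f
  obtain ⟨g, hg, -, hgm⟩ := Polynomial.lifts_and_natDegree_eq_and_monic
    ((Polynomial.mem_lifts _).2 ⟨q, hq⟩) hf
  obtain ⟨b₀, rfl⟩ := Ideal.Quotient.mk_surjective a₀
  have e1 : g.eval b₀ ∈ maximalIdeal S := by
    show g.eval b₀ ∈ nonunits S
    intro hu
    apply h₁
    rw [← hg, Polynomial.eval_map_apply]
    exact hu.map _
  have e2 : IsUnit (g.derivative.eval b₀) := by
    apply hloc
    rw [← Polynomial.eval_map_apply, ← Polynomial.derivative_map, hg]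
    exact h₂
  obtain ⟨b, hb, hbb⟩ := HenselianLocalRing.is_henselian g hgm b₀ e1 e2
  refine ⟨Ideal.Quotient.mk J b, ?_, ?_⟩
  · rw [Polynomial.IsRoot.def, ← hg, Polynomial.eval_map_apply, hb, map_zero]
  · rw [← map_sub]
    show Ideal.Quotient.mk J (b - b₀) ∈ nonunits (S ⧸ J)
    intro hu
    exact hbb (hloc _ hu)

theorem result {A S : Type u} [CommRing A] [IsLocalRing A] [CommRing S]
    [IsLocalRing S] [Algebra A S] [IsLocalHom (algebraMap A S)] [Hensel.IsHenselization A S]
    (I : Ideal A) (hI : I ≤ IsLocalRing.maximalIdeal A)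
    [IsLocalRing (A ⧸ I)] [IsLocalRing (S ⧸ I.map (algebraMap A S))]
    [IsLocalHom (algebraMap (A ⧸ I) (S ⧸ I.map (algebraMap A S)))] :
    Hensel.IsHenselization (A ⧸ I) (S ⧸ I.map (algebraMap A S)) := by
  have hS : HenselianLocalRing S := Hensel.IsHenselization.henselian A
  have hJ : I.map (algebraMap A S) ≤ IsLocalRing.maximalIdeal S := by
    rw [Ideal.map_le_iff_le_comap]
    intro a ha
    rw [Ideal.mem_comap]
    exact _root_.map_nonunit (algebraMap A S) a (hI ha)
  have hmk : IsLocalHom (Ideal.Quotient.mk I) := by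
    constructor
    intro y hy
    by_contra hny
    have hym : y ∈ IsLocalRing.maximalIdeal A := hny
    obtain ⟨z, hz⟩ := hy.exists_right_inv
    obtain ⟨z', rfl⟩ := Ideal.Quotient.mk_surjective z
    rw [← map_mul, ← map_one (Ideal.Quotient.mk I), Ideal.Quotient.eq] at hz
    have h1 : y * z' - 1 ∈ IsLocalRing.maximalIdeal A := hI hz
    have h2 : y * z' ∈ IsLocalRing.maximalIdeal A := Ideal.mul_mem_right _ _ hym
    have h3 : (1 : A) ∈ IsLocalRing.maximalIdeal A := by
      have := Ideal.sub_mem _ h2 h1
      simpa using this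
    exact (IsLocalRing.maximalIdeal A).ne_top_iff_one.mp (IsLocalRing.maximalIdeal.isMaximal A).ne_top h3
  refine { henselian := henselian_quotient _ hJ, universal := ?_ }
  intro T _ _ f hf
  have hloc : IsLocalHom (f.comp (Ideal.Quotient.mk I)) := by
    constructor
    intro a ha
    exact hmk.map_nonunit a (hf.map_nonunit _ ha)
  obtain ⟨g, hg, huniq⟩ := Hensel.IsHenselization.universal (R := A) (S := S) T
    (f.comp (Ideal.Quotient.mk I)) hloc
  have hker : ∀ s ∈ I.map (algebraMap A S), g s = 0 := by
    intro s hs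
    have : I.map (algebraMap A S) ≤ RingHom.ker g := by
      rw [Ideal.map_le_iff_le_comap]
      intro a ha
      rw [Ideal.mem_comap, RingHom.mem_ker]
      have h1 := RingHom.congr_fun hg a
      simp only [RingHom.comp_apply] at h1
      rw [h1, Ideal.Quotient.eq_zero_iff_mem.2 ha, map_zero]
    exact this hs
  refine ⟨Ideal.Quotient.lift _ g hker, ?_, ?_⟩
  · apply Ideal.Quotient.ringHom_ext
    ext a
    simp only [RingHom.comp_apply]
    rw [Ideal.Quotient.algebraMap_quotient_map_quotient, Ideal.Quotient.lift_mk]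
    exact RingHom.congr_fun hg a
  · intro h hh
    have h1 : h.comp (Ideal.Quotient.mk (I.map (algebraMap A S))) = g := by
      apply huniq
      ext a
      have h2 := RingHom.congr_fun hh (Ideal.Quotient.mk I a)
      simp only [RingHom.comp_apply] at h2 ⊢
      rw [← h2, Ideal.Quotient.algebraMap_quotient_map_quotient]
    apply Ideal.Quotient.ringHom_ext
    rw [h1]
    ext s
    simp

end Groth.Agent.S13598
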