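import Groth.Statements.S1360
import Groth.Statements.S1360
import Groth.Agent.Lib.Helper2.InfNbhdEtale
import Groth.Agent.Lib.Helper2.InfNbhdScheme
-- import your own Groth.Agent.* helpers here

set_option autoImplicit false
universe u
open FlatMor

namespace Groth.Agent.S1360

open AlgebraicGeometry CategoryTheory Limits Groth.Agent.Helper2.InfNbhd

theorem aux {X S : Scheme.{u}} (f : X ⟶ S) [IsLocallyNoetherian S] [LocallyOfFinitePresentation f] [QuasiCompact f]
    (I : S.IdealSheafData) (h : ∀ n : ℕ, Etale (pullback.snd f (I ^ (n + 1)).subschemeι)) (x : X) (hx : f x ∈ I.support) :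
    ∃ U : X.Opens, x ∈ U ∧ Etale (U.ι ≫ f) := by
  obtain ⟨_, ⟨U, hU, rfl⟩, hxU, -⟩ :=
    S.isBasis_affineOpens.exists_subset_of_mem_open (Set.mem_univ (f x)) isOpen_univ
  obtain ⟨_, ⟨V, hV, rfl⟩, hxV, hVU⟩ :=
    X.isBasis_affineOpens.exists_subset_of_mem_open hxU (U.2.preimage f.continuous)
  have hfp := f.finitePresentation_appLE hU hV hVU
  algebraize [(f.appLE U V hVU).hom]
  haveI : IsNoetherianRing Γ(S, U) := IsLocallyNoetherian.component_noetherian ⟨U, hU⟩
  haveI : Algebra.IsEtaleAt Γ(S, U) (hV.primeIdealOf ⟨x, hxV⟩).asIdeal := by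
    refine isEtaleAt_of_etale_quotients (I.ideal ⟨U, hU⟩) _ ?_ ?_
    · exact map_ideal_le_primeIdealOf f I x hx ⟨U, hU⟩ ⟨V, hV⟩ hVU hxV
    · intro n
      exact quotientMap_pow f I @Etale @RingHom.Etale n (h n) ⟨U, hU⟩ ⟨V, hV⟩ hVU
  obtain ⟨r, hrx, hr⟩ := Algebra.exists_etale_of_isEtaleAt (R := Γ(S, U))
    (hV.primeIdealOf ⟨x, hxV⟩).asIdeal
  have hxr : x ∈ X.basicOpen r := mem_basicOpen_of_notMem_primeIdealOf hV x hxV r hrx
  have hWU : X.basicOpen r ≤ f ⁻¹ᵁ U := (X.basicOpen_le r).trans hVU
  have hW : IsAffineOpen (X.basicOpen r) := hV.basicOpen r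
  refine ⟨X.basicOpen r, hxr, ?_⟩
  have hQ : (f.appLE U (X.basicOpen r) hWU).hom.Etale := by
    have := hV.isLocalization_basicOpen r
    rw [← RingHom.etale_algebraMap] at hr
    convert!
      RingHom.Etale.respectsIso.1 _
        (IsLocalization.algEquiv (.powers r) _ Γ(X, X.basicOpen r)).toRingEquiv hr
    ext
    dsimp
    simp only [IsScalarTower.algebraMap_apply Γ(S, U) Γ(X, V) (Localization _)]
    rw [AlgEquiv.commutes, RingHom.algebraMap_toAlgebra,
      ← f.appLE_map hVU (homOfLE (X.basicOpen_le r)).op]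
    rfl
  have hres : Etale (f.resLE U (X.basicOpen r) hWU) := by
    have : IsAffine _ := hU
    have : IsAffine _ := hW
    rw [HasRingHomProperty.iff_of_isAffine (P := @Etale)]
    exact (RingHom.Etale.respectsIso.arrow_mk_iso_iff
      (arrowResLEAppIso f U (X.basicOpen r) hWU)).mpr hQ
  rw [← Scheme.Hom.resLE_comp_ι f hWU]
  infer_instance

open AlgebraicGeometry CategoryTheory Limits in
/-- Let S be locally Noetherian, f : X → S of finite type, and Z the closed subscheme of S cut out by an
ideal sheaf I. If the base change of f to every infinitesimal neighbourhood of Z is étale, then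
every point of X over Z has an open neighbourhood on which f is étale. -/
theorem result {X S : Scheme.{u}} (f : X ⟶ S) [IsLocallyNoetherian S] [LocallyOfFinitePresentation f] [QuasiCompact f]
    (I : S.IdealSheafData) (h : ∀ n : ℕ, Etale (pullback.snd f (I ^ (n + 1)).subschemeι)) (x : X) (hx : f x ∈ I.support) :
    ∃ U : X.Opens, x ∈ U ∧ Etale (U.ι ≫ f) := by
  exact aux f I h x hx

end Groth.Agent.S1360
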