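import Groth.Statements.S13602
import Mathlib
import Groth.Agent.Lib.Helper9.FibPowAff

set_option autoImplicit false
universe u
open CategoryTheory AlgebraicGeometry
open SymProd

namespace Groth.Agent.S13602

/-- Let f : X ⟶ S be a morphism of schemes satisfying (AF): every finite set of points of X over a
single point of S lies in an affine open of X. Then for every d ≥ 0 and every point x of the d-fold
fibre power X ×_S ⋯ ×_S X, some affine open of the fibre power contains the whole orbit of x under
the symmetric group on d letters permuting the factors. (With the existence of a quotient by a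
finite group whose orbits lie in affine opens, this is the existence of the symmetric power
Sym^d(X/S) for X/S satisfying (AF).) -/
theorem result {X S : Scheme.{u}} (f : X ⟶ S) (hAF : SymProd.IsAF f)
    (d : ℕ) (x : ↥(SymProd.fibPow f d)) :
    ∃ U : (SymProd.fibPow f d).Opens, IsAffineOpen U ∧
      ∀ σ : Equiv.Perm (Fin d), (SymProd.permHom f d σ).base x ∈ U := by
  classical
  obtain ⟨s, hs⟩ : ∃ s : S, s = (Limits.WidePullback.base (fun _ : Fin d => f)) x := ⟨_, rfl⟩
  obtain ⟨T, hTdef⟩ : ∃ T : Finset X, T = Finset.univ.image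
      (fun i : Fin d => (Limits.WidePullback.π (fun _ : Fin d => f) i) x) := ⟨_, rfl⟩
  have hTmem : ∀ i : Fin d, (Limits.WidePullback.π (fun _ : Fin d => f) i) x ∈ T := by
    intro i; rw [hTdef]; exact Finset.mem_image_of_mem _ (Finset.mem_univ _)
  have hT : ∀ y ∈ T, f.base y = s := by
    intro y hy
    rw [hTdef] at hy
    obtain ⟨i, -, rfl⟩ := Finset.mem_image.1 hy
    rw [hs]
    exact Groth.Agent.Helper9.FibPowAff.comp_apply' _ _ _
      (Limits.WidePullback.π_arrow (fun _ : Fin d => f) i) x
  obtain ⟨U₀, hU₀, hU₀T⟩ := hAF s T hT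
  obtain ⟨V, hV, hsV⟩ : ∃ V : S.Opens, IsAffineOpen V ∧ s ∈ V := by
    obtain ⟨_, ⟨V, hV, rfl⟩, hsV, -⟩ :=
      S.isBasis_affineOpens.exists_subset_of_mem_open (Set.mem_univ s) isOpen_univ
    exact ⟨V, hV, hsV⟩
  obtain ⟨U, hU, hUle, hUT⟩ := Groth.Agent.Helper9.FibPowAff.exists_affine_le_of_finite U₀ hU₀
    (f ⁻¹ᵁ V) T (fun y hy => ⟨hU₀T y hy, by
      show f.base y ∈ V
      rw [hT y hy]; exact hsV⟩)
  refine ⟨Groth.Agent.Helper9.FibPowAff.boxOpen f d U V,
    Groth.Agent.Helper9.FibPowAff.isAffineOpen_boxOpen f d hU hV hUle, fun σ => ?_⟩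
  rw [Groth.Agent.Helper9.FibPowAff.mem_boxOpen]
  constructor
  · intro i
    have h1 := Groth.Agent.Helper9.FibPowAff.comp_apply' (SymProd.permHom f d σ)
      (Limits.WidePullback.π (fun _ : Fin d => f) i) _ (SymProd.permHom_π f d σ i) x
    rw [h1]
    exact hUT _ (hTmem _)
  · have h1 := Groth.Agent.Helper9.FibPowAff.comp_apply' (SymProd.permHom f d σ)
      (Limits.WidePullback.base (fun _ : Fin d => f)) _ (SymProd.permHom_base f d σ) x
    rw [h1, ← hs]
    exact hsV

end Groth.Agent.S13602
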