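import Groth.Statements.S13603
import Mathlib

set_option autoImplicit false
universe u v
open CAlg

namespace Groth.Agent.S13603


theorem result {B : Type u} [CommRing B]
    {G : Type v} [Group G] [MulSemiringAction G B] (hfin : ∀ b : B, (MulAction.orbit G b).Finite)
    (S : Submonoid B) (hS : ∀ (g : G) (s : B), s ∈ S → g • s = s)
    (hS' : ∀ g : G, S ≤ S.comap (MulSemiringAction.toRingHom G B g)) (x : Localization S) :
    (∀ g : G, IsLocalization.map (Localization S) (MulSemiringAction.toRingHom G B g) (hS' g) x = x) ↔
      ∃ (b : B) (s : S), (∀ g : G, g • b = b) ∧ x = IsLocalization.mk' (Localization S) b s := by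
  classical
  constructor
  · intro hx
    obtain ⟨⟨b, s⟩, rfl⟩ := IsLocalization.mk'_surjective S x
    have key : ∀ g : G, ∃ t ∈ S, t * (g • b) = t * b := by
      intro g
      have h1 := hx g
      simp only at h1
      rw [IsLocalization.map_mk', IsLocalization.mk'_eq_iff_eq,
        IsLocalization.eq_iff_exists S] at h1
      obtain ⟨c, hc⟩ := h1
      refine ⟨c * s, S.mul_mem c.2 s.2, ?_⟩
      have e1 : (MulSemiringAction.toRingHom G B g) b = g • b := rfl
      have e2 : (MulSemiringAction.toRingHom G B g) (s : B) = s := hS g s s.2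
      simp only [e1, e2] at hc
      rw [mul_assoc, hc, mul_assoc]
    let τ : B → B := fun b' => if h : ∃ t ∈ S, t * b' = t * b then Classical.choose h else 1
    have hτ : ∀ g : G, τ (g • b) ∈ S ∧ τ (g • b) * (g • b) = τ (g • b) * b := by
      intro g
      have h := key g
      simp only [τ, dif_pos h]
      exact Classical.choose_spec h
    have hτS : ∀ b' : B, τ b' ∈ S := by
      intro b'
      by_cases h : ∃ t ∈ S, t * b' = t * b
      · simp only [τ, dif_pos h]
        exact (Classical.choose_spec h).1
      · simp only [τ, dif_neg h]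
        exact S.one_mem
    set T : Finset B := (hfin b).toFinset with hT
    set t : B := ∏ b' ∈ T, τ b' with ht
    have htS : t ∈ S := Submonoid.prod_mem S (fun b' _ => hτS b')
    have htb : ∀ g : G, t * (g • b) = t * b := by
      intro g
      have hmem : g • b ∈ T := by
        rw [hT, Set.Finite.mem_toFinset]
        exact MulAction.mem_orbit b g
      rw [ht, ← Finset.mul_prod_erase T τ hmem]
      rw [mul_comm (τ (g • b)), mul_assoc, (hτ g).2, mul_assoc]
    refine ⟨t * b, ⟨t, htS⟩ * s, fun g => ?_, ?_⟩
    · rw [smul_mul', hS g t htS, htb g]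
    · rw [IsLocalization.mk'_eq_iff_eq]
      congr 1
      simp only [Submonoid.coe_mul]
      ring
  · rintro ⟨b, s, hb, rfl⟩ g
    rw [IsLocalization.map_mk']
    have e1 : (MulSemiringAction.toRingHom G B g) b = b := hb g
    congr 1
    apply Subtype.ext
    exact hS g s s.2

end Groth.Agent.S13603
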