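import Groth.Statements.S13605
import Mathlib
import Groth.Agent.Lib.Helper9.FibPowAff
import Groth.Agent.Lib.Helper21.GQuot3

set_option autoImplicit false
universe u
open CategoryTheory AlgebraicGeometry
open CategoryTheory.Limits
open SymProd

namespace Groth.Agent.S13605

/-- Let f : X ⟶ S be a morphism of schemes satisfying (AF) (every finite set of points of X over a
single point of S lies in an affine open of X), let 𝒮 be a cover of S by affine opens, let d ≥ 1 and
let (Y, q, g) be a d-th symmetric power of X over S: q : X ×_S ⋯ ×_S X ⟶ Y is a quotient by the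
symmetric group on d letters permuting the factors (affine, invariant, sections of O_Y = invariant
sections) and q ≫ g is the structure map of the fibre power. Then Y is covered by affine opens of
the form Sym^d(U/V) with V in the given cover: for every point y of Y there are V ∈ 𝒮 and an affine
open U ⊆ f⁻¹V of X such that the open W = ⋂_i pr_i⁻¹ U of the fibre power (the fibre power of U over
V) is affine and stable under every permutation of the factors, and an affine open W' of Y
containing y with q⁻¹ W' = W. (The published statement also fixes an affine open cover of X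
subordinate to the cover of S, in which any d points over a common point of a member V lie in a
common member mapping into V, and concludes that the corresponding opens Sym^d(U/V) cover Y; this
row states the pointwise form, producing U for each y.) -/
theorem result {X S Y : Scheme.{u}} (f : X ⟶ S) (hAF : SymProd.IsAF f)
    (𝒮 : Set S.Opens) (h𝒮 : ∀ V ∈ 𝒮, IsAffineOpen V) (hcov : ∀ s : S, ∃ V ∈ 𝒮, s ∈ V)
    (d : ℕ) (hd : 0 < d) (q : SymProd.fibPow f d ⟶ Y) (g : Y ⟶ S) (hq : SymProd.IsSymProd f d q g) (y : Y) :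
    ∃ V ∈ 𝒮, ∃ U : X.Opens, IsAffineOpen U ∧ U ≤ f ⁻¹ᵁ V ∧
      ∃ W : (SymProd.fibPow f d).Opens,
        (W : Set ↥(SymProd.fibPow f d)) =
          ⋂ i : Fin d, (WidePullback.π (fun _ : Fin d => f) i).base ⁻¹' (U : Set X) ∧
        IsAffineOpen W ∧ (∀ σ : Equiv.Perm (Fin d), (SymProd.permHom f d σ) ⁻¹ᵁ W = W) ∧
        ∃ W' : Y.Opens, y ∈ W' ∧ IsAffineOpen W' ∧ q ⁻¹ᵁ W' = W := by
  classical
  have hQ := hq.isQuot
  obtain ⟨x, hx⟩ := (Groth.Agent.Helper21.GQuot.surjective _ q hQ).surj y
  obtain ⟨s, hs⟩ : ∃ s : S, s = (WidePullback.base (fun _ : Fin d => f)) x := ⟨_, rfl⟩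
  obtain ⟨V, hV𝒮, hsV⟩ := hcov s
  have hV := h𝒮 V hV𝒮
  obtain ⟨T, hTdef⟩ : ∃ T : Finset X, T = Finset.univ.image
      (fun i : Fin d => (WidePullback.π (fun _ : Fin d => f) i) x) := ⟨_, rfl⟩
  have hTmem : ∀ i : Fin d, (WidePullback.π (fun _ : Fin d => f) i) x ∈ T := by
    intro i; rw [hTdef]; exact Finset.mem_image_of_mem _ (Finset.mem_univ _)
  have hT : ∀ z ∈ T, f.base z = s := by
    intro z hz
    rw [hTdef] at hz
    obtain ⟨i, -, rfl⟩ := Finset.mem_image.1 hz
    rw [hs]
    exact Groth.Agent.Helper9.FibPowAff.comp_apply' _ _ _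
      (WidePullback.π_arrow (fun _ : Fin d => f) i) x
  obtain ⟨U₀, hU₀, hU₀T⟩ := hAF s T hT
  obtain ⟨U, hU, hUle, hUT⟩ := Groth.Agent.Helper9.FibPowAff.exists_affine_le_of_finite U₀ hU₀
    (f ⁻¹ᵁ V) T (fun z hz => ⟨hU₀T z hz, by
      show f.base z ∈ V
      rw [hT z hz]; exact hsV⟩)
  obtain ⟨W, hWdef⟩ : ∃ W, W = Groth.Agent.Helper9.FibPowAff.boxOpen f d U V := ⟨_, rfl⟩
  have hWaff : IsAffineOpen W := by
    rw [hWdef]
    exact Groth.Agent.Helper9.FibPowAff.isAffineOpen_boxOpen f d hU hV hUle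
  have hWmem : ∀ p, p ∈ W ↔ ∀ i : Fin d, (WidePullback.π (fun _ : Fin d => f) i) p ∈ U := by
    intro p
    rw [hWdef, Groth.Agent.Helper9.FibPowAff.mem_boxOpen]
    constructor
    · exact fun h => h.1
    · intro h
      refine ⟨h, ?_⟩
      have h0 : f.base ((WidePullback.π (fun _ : Fin d => f) ⟨0, hd⟩) p) ∈ V := hUle (h ⟨0, hd⟩)
      have e := Groth.Agent.Helper9.FibPowAff.comp_apply' _ _ _
        (WidePullback.π_arrow (fun _ : Fin d => f) ⟨0, hd⟩) p
      rw [← e]
      exact h0
  have hxW : x ∈ W := (hWmem x).2 (fun i => hUT _ (hTmem i))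
  have hWstab : ∀ (σ : Equiv.Perm (Fin d)) (p : ↥(SymProd.fibPow f d)),
      (SymProd.permHom f d σ) p ∈ W ↔ p ∈ W := by
    intro σ p
    rw [hWmem, hWmem]
    constructor
    · intro h i
      have h1 := Groth.Agent.Helper9.FibPowAff.comp_apply' (SymProd.permHom f d σ)
        (WidePullback.π (fun _ : Fin d => f) (σ i)) _ (SymProd.permHom_π f d σ (σ i)) p
      have h2 := h (σ i)
      rw [h1, Equiv.symm_apply_apply] at h2
      exact h2
    · intro h i
      have h1 := Groth.Agent.Helper9.FibPowAff.comp_apply' (SymProd.permHom f d σ)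
        (WidePullback.π (fun _ : Fin d => f) i) _ (SymProd.permHom_π f d σ i) p
      rw [h1]
      exact h _
  refine ⟨V, hV𝒮, U, hU, hUle, W, ?_, hWaff, ?_, ?_⟩
  · ext p
    rw [SetLike.mem_coe, hWmem, Set.mem_iInter]
    exact Iff.rfl
  · intro σ
    exact TopologicalSpace.Opens.ext (Set.ext (fun p => hWstab σ p))
  · have hsat : q.base ⁻¹' (q.base '' (W : Set ↥(SymProd.fibPow f d))) =
        (W : Set ↥(SymProd.fibPow f d)) := by
      apply Set.Subset.antisymm
      · rintro p ⟨p', hp', hpp'⟩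
        obtain ⟨γ, hγ⟩ := Groth.Agent.Helper21.GQuot.orbit _ q hQ p' p hpp'
        have h3 : (SymProd.permHom f d γ.down) p' ∈ W := (hWstab γ.down p').2 hp'
        rw [← hγ]
        exact h3
      · exact Set.subset_preimage_image _ _
    have hopen : IsOpen (q.base '' (W : Set ↥(SymProd.fibPow f d))) := by
      rw [← (Groth.Agent.Helper21.GQuot.isQuotientMap _ q hQ).isOpen_preimage, hsat]
      exact W.isOpen
    obtain ⟨W', hW'⟩ : ∃ W' : Y.Opens,
        (W' : Set Y) = q.base '' (W : Set ↥(SymProd.fibPow f d)) := ⟨⟨_, hopen⟩, rfl⟩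
    have hpre : q ⁻¹ᵁ W' = W := by
      apply TopologicalSpace.Opens.ext
      show q.base ⁻¹' (W' : Set Y) = W
      rw [hW', hsat]
    refine ⟨W', ?_, ?_, hpre⟩
    · show y ∈ (W' : Set Y)
      rw [hW', ← hx]
      exact ⟨x, hxW, rfl⟩
    · apply Groth.Agent.Helper21.GQuot3.isAffineOpen_of_preimage _ q hQ W'
      rw [hpre]
      exact hWaff

end Groth.Agent.S13605
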