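import Groth.Statements.S13608
import Groth.Agent.Lib.Helper1.AdicLib

set_option autoImplicit false
set_option linter.style.haveILetI false
universe u v
open CAlg

namespace Groth.Agent.S13608

/-- Let A be a commutative ring, I a finitely generated ideal of A and (M_n) an inverse system of
A-modules with transition maps f_n : M_(n+1) → M_n such that I^(n+1) M_n = 0 for every n. If L is an
inverse limit of the system (projections π_n compatible with the f_n, jointly injective, and such
that every compatible family of elements lifts to L), then L is complete and separated for the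
I-adic topology. No surjectivity of the transition maps is assumed. -/
theorem result
    (A : Type u) [CommRing A] (I : Ideal A) (hI : I.FG)
    (M : ℕ → Type v) [∀ n, AddCommGroup (M n)] [∀ n, Module A (M n)]
    (f : ∀ n, M (n + 1) →ₗ[A] M n)
    (hkill : ∀ n, I ^ (n + 1) • (⊤ : Submodule A (M n)) = ⊥)
    (L : Type v) [AddCommGroup L] [Module A L] (π : ∀ n, L →ₗ[A] M n)
    (hπ : ∀ n, f n ∘ₗ π (n + 1) = π n)
    (hinj : ∀ x : L, (∀ n, π n x = 0) → x = 0)
    (hlift : ∀ y : (∀ n, M n), (∀ n, f n (y (n + 1)) = y n) → ∃ x : L, ∀ n, π n x = y n) :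
    IsAdicComplete I L := by
  classical
  -- `π n` kills `I^(n+1) L`
  have hk : ∀ n (z : L), z ∈ (I ^ (n + 1) • ⊤ : Submodule A L) → π n z = 0 := by
    intro n z hz
    have : π n z ∈ (I ^ (n + 1) • ⊤ : Submodule A (M n)) := by
      have h1 : π n z ∈ Submodule.map (π n) (I ^ (n + 1) • ⊤) := Submodule.mem_map_of_mem hz
      rw [Submodule.map_smul''] at h1
      exact Submodule.smul_mono le_rfl le_top h1
    rw [hkill n] at this
    exact (Submodule.mem_bot A).mp this
  have hk' : ∀ n j (z : L), n + 1 ≤ j → z ∈ (I ^ j • ⊤ : Submodule A L) → π n z = 0 :=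
    fun n j z hj hz => hk n z (Submodule.smul_mono_left (Ideal.pow_le_pow_right hj) hz)
  -- limits of sequences with small successive differences exist in `L`
  have hlim : ∀ w : ℕ → L, (∀ j, w (j + 1) - w j ∈ (I ^ j • ⊤ : Submodule A L)) →
      ∃ W : L, ∀ n N, n + 1 ≤ N → π n W = π n (w N) := by
    intro w hw
    have hconst : ∀ n N, n + 1 ≤ N → π n (w N) = π n (w (n + 1)) := by
      intro n N hN
      induction N, hN using Nat.le_induction with
      | base => rfl
      | succ N hN ih =>
        rw [← ih, ← sub_eq_zero, ← map_sub]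
        exact hk' n N _ hN (hw N)
    obtain ⟨W, hW⟩ := hlift (fun n => π n (w (n + 1))) (by
      intro n
      have := LinearMap.congr_fun (hπ n) (w (n + 1 + 1))
      simp only [LinearMap.comp_apply] at this
      rw [this]
      exact hconst n (n + 1 + 1) (by omega))
    exact ⟨W, fun n N hN => (hW n).trans (hconst n N hN).symm⟩
  refine { haus' := ?_, prec' := ?_ }
  · intro x hx
    apply hinj
    intro n
    apply hk n
    have := hx (n + 1)
    rwa [SModEq.zero] at this
  · intro x hx
    have hd : ∀ j, x (j + 1) - x j ∈ (I ^ j • ⊤ : Submodule A L) := by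
      intro j
      have := (hx (Nat.le_succ j)).symm
      rwa [SModEq.sub_mem] at this
    obtain ⟨X, hX⟩ := hlim x hd
    refine ⟨X, fun k => ?_⟩
    obtain ⟨t, g, hg⟩ := Submodule.fg_iff_exists_fin_generating_family.mp (Ideal.FG.pow (n := k) hI)
    have hdk : ∀ j, ∃ z : Fin t → L, (∀ i, z i ∈ (I ^ j • ⊤ : Submodule A L)) ∧
        x (k + j + 1) - x (k + j) = ∑ i, g i • z i := by
      intro j
      apply Groth.Agent.Helper1.exists_sum_smul_of_mem_span_smul
      have h1 := hd (k + j)
      rw [pow_add, Submodule.mul_smul] at h1
      rw [show Ideal.span (Set.range g) = I ^ k from hg]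
      exact h1
    choose z hz hdz using hdk
    have hZ : ∀ i, ∃ Z : L, ∀ n N, n + 1 ≤ N → π n Z = π n (∑ j ∈ Finset.range N, z j i) := by
      intro i
      apply hlim (fun N => ∑ j ∈ Finset.range N, z j i)
      intro j
      simp only [Finset.sum_range_succ, add_sub_cancel_left]
      exact hz j i
    choose Z hZ' using hZ
    have hkey : X - x k = ∑ i, g i • Z i := by
      rw [← sub_eq_zero]
      apply hinj
      intro n
      have hsum : ∑ i, g i • (∑ j ∈ Finset.range (n + 1), z j i) = x (k + (n + 1)) - x k := by
        have h2 := Finset.sum_range_sub (fun j => x (k + j)) (n + 1)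
        simp only [add_zero] at h2
        rw [← h2]
        simp only [Finset.smul_sum]
        rw [Finset.sum_comm]
        refine Finset.sum_congr rfl fun j _ => ?_
        rw [← hdz j]
        rfl
      rw [map_sub, map_sub, map_sum, hX n (k + (n + 1)) (by omega)]
      simp only [map_smul]
      simp only [hZ' _ n (n + 1) le_rfl]
      simp only [← map_smul, ← map_sum, ← map_sub]
      rw [hsum, sub_self, map_zero]
    have hmem : X - x k ∈ (I ^ k • ⊤ : Submodule A L) := by
      rw [hkey]
      refine Submodule.sum_mem _ fun i _ => Submodule.smul_mem_smul ?_ Submodule.mem_top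
      rw [← show Ideal.span (Set.range g) = I ^ k from hg]
      exact Ideal.subset_span ⟨i, rfl⟩
    rw [SModEq.sub_mem, ← neg_sub]
    exact Submodule.neg_mem _ hmem

end Groth.Agent.S13608
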