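import Groth.Statements.S13609
import Mathlib

set_option autoImplicit false
universe u v
open CAlg

namespace Groth.Agent.S13609

theorem smodEq_map {A : Type*} [CommRing A] (I : Ideal A) {M N : Type*} [AddCommGroup M] [Module A M]
    [AddCommGroup N] [Module A N] (f : M →ₗ[A] N) (n : ℕ) {x y : M}
    (h : x ≡ y [SMOD (I ^ n • ⊤ : Submodule A M)]) :
    f x ≡ f y [SMOD (I ^ n • ⊤ : Submodule A N)] := by
  refine (h.map f).mono ?_
  rw [Submodule.map_smul'']
  exact Submodule.smul_mono le_rfl le_top

theorem isAdicComplete_of_retract {A : Type*} [CommRing A] (I : Ideal A) {M N : Type*}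
    [AddCommGroup M] [Module A M] [AddCommGroup N] [Module A N]
    (i : N →ₗ[A] M) (r : M →ₗ[A] N) (hri : ∀ x, r (i x) = x) [IsAdicComplete I M] :
    IsAdicComplete I N := by
  have hH : IsHausdorff I N := by
    refine ⟨fun x hx => ?_⟩
    have : i x = 0 := by
      apply IsHausdorff.haus' (I := I) (i x)
      intro n
      have := smodEq_map I i n (hx n)
      rwa [map_zero] at this
    rw [← hri x, this, map_zero]
  have hP : IsPrecomplete I N := by
    refine ⟨fun f hf => ?_⟩
    obtain ⟨L, hL⟩ := IsPrecomplete.prec' (I := I) (fun n => i (f n))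
      (fun {m n} hmn => smodEq_map I i m (hf hmn))
    refine ⟨r L, fun n => ?_⟩
    have := smodEq_map I r n (hL n)
    rwa [hri] at this
  exact { toIsHausdorff := hH, toIsPrecomplete := hP }


theorem result (A : Type u) [CommRing A] (I : Ideal A)
    (M₁ M₂ : Type v) [AddCommGroup M₁] [Module A M₁] [AddCommGroup M₂] [Module A M₂]
    [IsAdicComplete I (M₁ × M₂)] : IsAdicComplete I M₁ := by
  exact isAdicComplete_of_retract I (LinearMap.inl A M₁ M₂) (LinearMap.fst A M₁ M₂) (fun x => rfl)

end Groth.Agent.S13609
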