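import Groth.Statements.S13614
import Groth.Agent.Lib.Helper10.LcGlueMod
import Groth.Agent.Lib.Helper10.ARFunctor
import Groth.Agent.Lib.Helper10.LanExactMod

set_option autoImplicit false
open CategoryTheory CategoryTheory.Limits AlgebraicGeometry Opposite
universe u
open EtModW

namespace Groth.Agent.S13614

section helpers

open ARSys Groth.Agent.Helper5.ARS Groth.Agent.Helper10.ARFunctor



variable (Λ : Type (u + 1)) [CommRing Λ]

instance push_linear {X Y : Scheme.{u}} (f : X ⟶ Y) : (EtModW.push Λ f).Linear Λ where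
  map_smul := by
    intro F G φ a
    rfl

theorem main (I : Ideal Λ) {X X' : Scheme.{u}} (f : X' ⟶ X)
    (F : ARSys.PS (EtModW.Mod Λ X))
    (hF : (ARSys.TermKilled I F ∧ ∃ (Y : ARSys.PS (EtModW.Mod Λ X)) (v : Y ⟶ F), ARSys.IsAdic I Y ∧ (∀ n : ℕ, EtModW.IsConstructible Λ (Y.obj (op n))) ∧ ARSys.IsARIso v)) :
    (ARSys.TermKilled I (F ⋙ EtModW.pull Λ f) ∧ ∃ (Y : ARSys.PS (EtModW.Mod Λ X')) (v : Y ⟶ (F ⋙ EtModW.pull Λ f)), ARSys.IsAdic I Y ∧ (∀ n : ℕ, EtModW.IsConstructible Λ (Y.obj (op n))) ∧ ARSys.IsARIso v) := by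
  obtain ⟨hk, Y, v, hY, hYc, hv⟩ := hF
  have adj : EtModW.pull Λ f ⊣ EtModW.push Λ f :=
    (EtCoh.bc f).sheafAdjunctionContinuous (ModuleCat.{u + 1} Λ) X.smallEtaleTopology
      X'.smallEtaleTopology
  have : PreservesFiniteLimits (EtModW.pull Λ f) :=
    Groth.Agent.Helper10.LanExactMod.preservesFiniteLimits_sheafPullback_mod Λ (EtCoh.bc f) _ _
  have : PreservesFiniteColimits (EtModW.pull Λ f) := by
    have : PreservesColimitsOfSize.{0, 0} (EtModW.pull Λ f) := adj.leftAdjoint_preservesColimits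
    exact PreservesColimitsOfSize.preservesFiniteColimits _
  have : (EtModW.pull Λ f).Additive := adj.left_adjoint_additive
  refine ⟨termKilled_of_adj adj I hk, Y ⋙ EtModW.pull Λ f, Functor.whiskerRight v _,
    isAdic_of_adj adj I hY, fun n => ?_, isARIso_whiskerRight _ v hv⟩
  exact Groth.Agent.Helper10.LcGlueMod.isConstructible_pull Λ f _ (hYc n)

end helpers

/-- Let f : X' → X be a morphism of Noetherian schemes, Λ a Noetherian ring, I an ideal of Λ and F =
(F_n) an inverse system of constructible sheaves of Λ-modules on the small etale site of X which is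
AR I-adic: I^(n+1) F_n = 0 for all n and F receives a morphism with kernel and cokernel null up to
translation from an I-adic system of constructible sheaves. Then the system of pullbacks (f^* F_n)_n
on X' is AR I-adic in the same sense. -/
theorem result
    (Λ : Type (u + 1)) [CommRing Λ] [IsNoetherianRing Λ] (I : Ideal Λ)
    {X X' : Scheme.{u}} [IsNoetherian X] [IsNoetherian X'] (f : X' ⟶ X)
    (F : ARSys.PS (EtModW.Mod Λ X)) (hc : ∀ n : ℕ, EtModW.IsConstructible Λ (F.obj (op n)))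
    (hF : (ARSys.TermKilled I F ∧ ∃ (Y : ARSys.PS (EtModW.Mod Λ X)) (v : Y ⟶ F), ARSys.IsAdic I Y ∧ (∀ n : ℕ, EtModW.IsConstructible Λ (Y.obj (op n))) ∧ ARSys.IsARIso v)) :
    (ARSys.TermKilled I (F ⋙ EtModW.pull Λ f) ∧ ∃ (Y : ARSys.PS (EtModW.Mod Λ X')) (v : Y ⟶ (F ⋙ EtModW.pull Λ f)), ARSys.IsAdic I Y ∧ (∀ n : ℕ, EtModW.IsConstructible Λ (Y.obj (op n))) ∧ ARSys.IsARIso v) := by
  exact main Λ I f F hF

end Groth.Agent.S13614
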