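import Groth.Statements.S13620
import Groth.Agent.Lib.Helper10.StalkMod
import Groth.Agent.Lib.Helper10.ARFunctor
import Groth.Agent.Lib.Helper5.ARSys6
import Groth.Agent.Lib.Helper5.ARSysE1
import Groth.Agent.Lib.Helper1.SHC5

set_option autoImplicit false
open CategoryTheory CategoryTheory.Limits AlgebraicGeometry Opposite
universe u
open EtModW

namespace Groth.Agent.S13620

section helpers

open ARSys Groth.Agent.Helper5.ARS Groth.Agent.Helper10.ARFunctor Groth.Agent.Helper10.StalkMod

section general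

universe v₁ u₁

variable {C : Type u₁} [Category.{v₁} C] [Abelian C] [HasLimitsOfShape ℕᵒᵖ C]

lemma isZero_limit_of_isARNull (M : PS C) (h : IsARNull M) : IsZero (limit M) := by
  obtain ⟨r, hr⟩ := h
  rw [IsZero.iff_id_eq_zero]
  apply limit.hom_ext
  rintro ⟨n⟩
  have h0 : tr M (Nat.le_add_right n r) = 0 := hr n
  rw [Category.id_comp, zero_comp, ← limit_π_tr M (Nat.le_add_right n r), h0, comp_zero]

lemma isZero_limit_shift (M : PS C) (k : ℕ) (h : IsZero (limit M)) :
    IsZero (limit ((shift C k).obj M)) := by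
  have := isIso_limMap_of_isARIso (shiftNat M k) (isARIso_shiftNat M k)
  exact h.of_iso (asIso (limMap (shiftNat M k)))

lemma isARNull_of_isARIso_of_isZero {Y F : PS C} (v : Y ⟶ F) (hv : IsARIso v)
    (hY : ∀ n : ℕ, IsZero (Y.obj (op n))) : IsARNull F := by
  obtain ⟨r, hr⟩ := (isARNull_cokernel_iff v).1 hv.2
  refine ⟨r, fun n => ?_⟩
  have h0 : v.app (op n) = 0 := (hY n).eq_of_src _ _
  have h1 := hr n
  have : Mono (cokernel.π (v.app (op n))) := by
    rw [h0]
    infer_instance
  rw [← cancel_mono (cokernel.π (v.app (op n))), zero_comp]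
  exact h1

end general

variable (Λ : Type (u + 1)) [CommRing Λ]

lemma isARNull_whiskerRight {C D : Type*} [Category C] [Category D] [Preadditive C]
    [Preadditive D] (G : C ⥤ D) [G.Additive] (M : PS C) (h : IsARNull M) : IsARNull (M ⋙ G) := by
  obtain ⟨r, hr⟩ := h
  refine ⟨r, fun n => ?_⟩
  have h0 : tr M (Nat.le_add_right n r) = 0 := hr n
  change G.map (tr M (Nat.le_add_right n r)) = 0
  rw [h0, G.map_zero]

lemma isZero_of_isZero_limit (I : Ideal Λ) (N : PS (ModuleCat.{u + 1} Λ)) (hN : IsAdic I N)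
    (h0 : IsZero (limit N)) (n : ℕ) : IsZero (N.obj (op n)) := by
  have hs := isStrict_of_isAdic I hN
  have h1 := isZero_limit_shift N n h0
  have hsurj : Function.Surjective (limit.π ((shift _ n).obj N) ⟨0⟩) := by
    apply Concrete.surjective_π_app_zero_of_surjective_map (limit.isLimit _)
    intro k
    have : Epi (tr N (show k + n ≤ k + 1 + n by omega)) := hs _ _ _
    exact (ModuleCat.epi_iff_surjective _).1 this
  have hsub : Subsingleton (limit ((shift _ n).obj N) : ModuleCat.{u + 1} Λ) :=
    ModuleCat.subsingleton_of_isZero h1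
  have h2 : Subsingleton (N.obj (op (0 + n))) := by
    refine ⟨fun a b => ?_⟩
    obtain ⟨a', rfl⟩ := hsurj a
    obtain ⟨b', rfl⟩ := hsurj b
    rw [Subsingleton.elim a' b']
  have h3 : IsZero (N.obj (op (0 + n))) := ModuleCat.isZero_of_subsingleton _
  rwa [zero_add] at h3

lemma isZero_of_stalks {X : Scheme.{u}} (G : EtModW.Mod Λ X)
    (h : ∀ (Ω : Type u) [Field Ω] [IsSepClosed Ω] (ξ : Spec (CommRingCat.of Ω) ⟶ X),
      IsZero ((EtModW.stalk Λ ξ).obj G)) : IsZero G := by
  have pf : PreservesFilteredColimitsOfSize.{u, u} (forget (ModuleCat.{u + 1} Λ)) :=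
    preservesFilteredColimitsOfSize_shrink.{u, u + 1, u, u + 1} _
  have hli : Presheaf.IsLocallyInjective X.smallEtaleTopology (0 : G.obj ⟶ G.obj) := by
    apply Groth.Agent.Helper1.SHC.isLocallyInjective_of_stalks
    intro Ω _ _ ξ a b _
    have hz : IsZero ((Scheme.pointSmallEtale ξ).presheafFiber.obj G.obj) := h Ω ξ
    have : Subsingleton ((Scheme.pointSmallEtale ξ).presheafFiber.obj G.obj : ModuleCat.{u + 1} Λ) :=
      ModuleCat.subsingleton_of_isZero hz
    exact Subsingleton.elim a b
  have hli' : Sheaf.IsLocallyInjective (0 : G ⟶ G) := hli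
  have hinj := (Sheaf.isLocallyInjective_iff_injective (0 : G ⟶ G)).1 hli'
  rw [IsZero.iff_id_eq_zero]
  apply Sheaf.hom_ext
  apply NatTrans.ext
  funext U
  apply ModuleCat.hom_ext
  apply LinearMap.ext
  intro a
  apply hinj U
  rfl

theorem main (I : Ideal Λ) {X : Scheme.{u}}
    (F : ARSys.PS (EtModW.Mod Λ X))
    (hF : (ARSys.TermKilled I F ∧ ∃ (Y : ARSys.PS (EtModW.Mod Λ X)) (v : Y ⟶ F), ARSys.IsAdic I Y ∧ (∀ n : ℕ, EtModW.IsConstructible Λ (Y.obj (op n))) ∧ ARSys.IsARIso v)) :
    ARSys.IsARNull F ↔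
      ∀ (Ω : Type u) [Field Ω] [IsSepClosed Ω] (x : Spec (CommRingCat.of Ω) ⟶ X),
        IsZero (limit (F ⋙ EtModW.stalk Λ x)) := by
  constructor
  · intro h Ω _ _ x
    have : (EtModW.stalk Λ x).Additive := additive_stalk Λ x
    exact isZero_limit_of_isARNull _ (isARNull_whiskerRight (EtModW.stalk Λ x) F h)
  · intro h
    obtain ⟨hk, Y, v, hY, hYc, hv⟩ := hF
    refine isARNull_of_isARIso_of_isZero v hv fun n => ?_
    apply isZero_of_stalks
    intro Ω _ _ ξ
    have adj := stalkAdj Λ ξ
    have : PreservesFiniteLimits (EtModW.stalk Λ ξ) := preservesFiniteLimits_stalk Λ ξ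
    have : (EtModW.stalk Λ ξ).Additive := additive_stalk Λ ξ
    have hv' : IsARIso (Functor.whiskerRight v (EtModW.stalk Λ ξ)) := isARIso_whiskerRight _ v hv
    have hY' : IsAdic I (Y ⋙ EtModW.stalk Λ ξ) := isAdic_of_adj adj I hY
    have := isIso_limMap_of_isARIso _ hv'
    have h0 : IsZero (limit (Y ⋙ EtModW.stalk Λ ξ)) :=
      (h Ω ξ).of_iso (asIso (limMap (Functor.whiskerRight v (EtModW.stalk Λ ξ))))
    exact isZero_of_isZero_limit Λ I _ hY' h0 n

end helpers

/-- For a Noetherian scheme X, a Noetherian coefficient ring Λ and an ideal I of Λ, let F = (F_n) be an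
inverse system of sheaves of Λ-modules on the small etale site of X which is AR I-adic (I^(n+1) F_n
= 0 for all n, and F receives a morphism with kernel and cokernel null up to translation from an
I-adic system of constructible sheaves). Then F is null up to translation if and only if for every
geometric point x of X the limit of the stalk system, lim_n F_n,x, is the zero module. (The
published lemma assumes Λ I-adically complete, which only its first assertion uses; this row states
the second assertion without it.) -/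
theorem result
    (Λ : Type (u + 1)) [CommRing Λ] [IsNoetherianRing Λ] (I : Ideal Λ)
    {X : Scheme.{u}} [IsNoetherian X]
    (F : ARSys.PS (EtModW.Mod Λ X))
    (hF : (ARSys.TermKilled I F ∧ ∃ (Y : ARSys.PS (EtModW.Mod Λ X)) (v : Y ⟶ F), ARSys.IsAdic I Y ∧ (∀ n : ℕ, EtModW.IsConstructible Λ (Y.obj (op n))) ∧ ARSys.IsARIso v)) :
    ARSys.IsARNull F ↔
      ∀ (Ω : Type u) [Field Ω] [IsSepClosed Ω] (x : Spec (CommRingCat.of Ω) ⟶ X),
        IsZero (limit (F ⋙ EtModW.stalk Λ x)) := by
  exact main Λ I F hF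

end Groth.Agent.S13620
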