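import Groth.Statements.S13622
import Groth.Agent.S2291
import Groth.Agent.Lib.Helper1.AdicLib

set_option autoImplicit false
set_option linter.style.haveILetI false
universe u v
open CAlg

namespace Groth.Agent.S13622

/-- Let A be a commutative ring, I a finitely generated ideal and (M_n) an inverse system of finitely
generated A-modules whose transition maps f_n : M_(n+1) → M_n are surjective with kernel I^(n+1)
M_(n+1), and with I^(n+1) M_n = 0 for all n. If L is an inverse limit of the system (projections π_n
compatible with the f_n, jointly injective, every compatible family lifting to L), endowed with a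
module structure over the I-adic completion A^ of A that is compatible with its A-module structure,
then L is finitely generated as an A^-module. No completeness of A is assumed. -/
theorem result
    (A : Type u) [CommRing A] (I : Ideal A) (hI : I.FG)
    (M : ℕ → Type v) [∀ n, AddCommGroup (M n)] [∀ n, Module A (M n)] [∀ n, Module.Finite A (M n)]
    (f : ∀ n, M (n + 1) →ₗ[A] M n) (hf : ∀ n, Function.Surjective (f n))
    (hker : ∀ n, LinearMap.ker (f n) = I ^ (n + 1) • (⊤ : Submodule A (M (n + 1))))
    (hkill : ∀ n, I ^ (n + 1) • (⊤ : Submodule A (M n)) = ⊥)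
    (L : Type v) [AddCommGroup L] [Module A L] (π : ∀ n, L →ₗ[A] M n)
    (hπ : ∀ n, f n ∘ₗ π (n + 1) = π n)
    (hinj : ∀ x : L, (∀ n, π n x = 0) → x = 0)
    (hlift : ∀ y : (∀ n, M n), (∀ n, f n (y (n + 1)) = y n) → ∃ x : L, ∀ n, π n x = y n)
    [Module (AdicCompletion I A) L] [IsScalarTower A (AdicCompletion I A) L] :
    Module.Finite (AdicCompletion I A) L := by
  classical
  obtain ⟨hcomplete, hπs, -⟩ :=
    Groth.Agent.S2291.result A I hI M f hf hker L π hπ hinj hlift
  set Ahat := AdicCompletion I A with hAhat
  set Ihat : Ideal Ahat := I.map (algebraMap A Ahat) with hIhat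
  haveI hc0 : IsAdicComplete I Ahat := AdicCompletion.isAdicComplete hI
  haveI : IsHausdorff Ihat Ahat := IsHausdorff.map_algebraMap_iff.mpr hc0.toIsHausdorff
  haveI : IsPrecomplete Ihat Ahat := IsPrecomplete.map_algebraMap_iff.mpr hc0.toIsPrecomplete
  haveI : IsAdicComplete Ihat Ahat := {}
  haveI : IsHausdorff Ihat L := IsHausdorff.map_algebraMap_iff.mpr hcomplete.toIsHausdorff
  apply Groth.Agent.Helper1.finite_of_isAdicComplete_of_finite_quotient Ihat
  -- the quotient is a quotient of `M 0`
  have hle : (I • ⊤ : Submodule A L) ≤ (Ihat • ⊤ : Submodule Ahat L).restrictScalars A := by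
    rw [Submodule.smul_le]
    intro r hr x _
    rw [Submodule.restrictScalars_mem, ← algebraMap_smul Ahat r x]
    exact Submodule.smul_mem_smul (Ideal.mem_map_of_mem _ hr) Submodule.mem_top
  let φ : L →ₗ[A] (L ⧸ (Ihat • ⊤ : Submodule Ahat L)) :=
    (Submodule.mkQ (Ihat • ⊤ : Submodule Ahat L)).restrictScalars A
  have hφ : Function.Surjective φ := Submodule.mkQ_surjective _
  have hker0 : LinearMap.ker (π 0) = (I • ⊤ : Submodule A L) := by
    rw [(hπs 0).2, zero_add, pow_one]
  have hφker : LinearMap.ker (π 0) ≤ LinearMap.ker φ := by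
    rw [hker0]
    intro x hx
    rw [LinearMap.mem_ker]
    exact (Submodule.Quotient.mk_eq_zero _).mpr (hle hx)
  let ψ : M 0 →ₗ[A] (L ⧸ (Ihat • ⊤ : Submodule Ahat L)) :=
    (Submodule.liftQ (LinearMap.ker (π 0)) φ hφker).comp
      ((π 0).quotKerEquivOfSurjective (hπs 0).1).symm.toLinearMap
  have hψ : Function.Surjective ψ := by
    intro y
    obtain ⟨x, rfl⟩ := hφ y
    refine ⟨π 0 x, ?_⟩
    simp only [ψ, LinearMap.comp_apply, LinearEquiv.coe_coe]
    have : ((π 0).quotKerEquivOfSurjective (hπs 0).1).symm (π 0 x) =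
        Submodule.Quotient.mk x := by
      rw [LinearEquiv.symm_apply_eq]
      rfl
    rw [this]
    rfl
  haveI : Module.Finite A (L ⧸ (Ihat • ⊤ : Submodule Ahat L)) := Module.Finite.of_surjective ψ hψ
  exact Module.Finite.of_restrictScalars_finite A Ahat _

end Groth.Agent.S13622
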