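import Groth.Statements.S13623
import Mathlib

set_option autoImplicit false
universe u
open TensorProduct
open CAlg

namespace Groth.Agent.S13623

section aux

/-- a proper submodule of a finite module is contained in the kernel of a surjection onto a
residue field -/
theorem exists_residue_functional {A : Type u} [CommRing A] {N : Type u} [AddCommGroup N]
    [Module A N] [Module.Finite A N] (W : Submodule A N) (hW : W ≠ ⊤) :
    ∃ (m : Ideal A) (_ : m.IsMaximal) (μ : N →ₗ[A] A ⧸ m), Function.Surjective μ ∧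
      W ≤ LinearMap.ker μ := by
  obtain ⟨W', hW', hle⟩ := (eq_top_or_exists_le_coatom W).resolve_left hW
  have hs : IsSimpleModule A (N ⧸ W') := isSimpleModule_iff_isCoatom.2 hW'
  obtain ⟨m, hm, ⟨e⟩⟩ := isSimpleModule_iff_quot_maximal.1 hs
  refine ⟨m, hm, e.toLinearMap ∘ₗ W'.mkQ, ?_, ?_⟩
  · exact e.surjective.comp (Submodule.mkQ_surjective W')
  · intro w hw
    rw [LinearMap.mem_ker, LinearMap.comp_apply]
    have : W'.mkQ w = 0 := (Submodule.Quotient.mk_eq_zero W').2 (hle hw)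
    rw [this, map_zero]

variable {A : Type u} [CommRing A] {B : Type u} [CommRing B] [Algebra A B]
  (𝒜 : ℕ → Submodule A B) [GradedAlgebra 𝒜]

theorem pow_le_graded (n : ℕ) : (𝒜 1) ^ n ≤ 𝒜 n := by
  induction n with
  | zero =>
    rw [pow_zero, Submodule.one_le]
    exact SetLike.GradedOne.one_mem
  | succ n ih =>
    rw [pow_succ, Submodule.mul_le]
    intro m hm r hr
    exact SetLike.GradedMul.mul_mem (ih hm) hr

theorem pow_le_adjoin (n : ℕ) :
    (𝒜 1) ^ n ≤ Subalgebra.toSubmodule (Algebra.adjoin A (𝒜 1 : Set B)) := by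
  induction n with
  | zero =>
    rw [pow_zero, Submodule.one_le]
    exact Subalgebra.one_mem _
  | succ n ih =>
    rw [pow_succ, Submodule.mul_le]
    intro m hm r hr
    exact Subalgebra.mul_mem _ (ih hm) (Algebra.subset_adjoin hr)

/-- projection to the degree `m` part -/
noncomputable def projL (m : ℕ) : B →ₗ[A] 𝒜 m :=
  (DirectSum.component A ℕ (fun i => 𝒜 i) m) ∘ₗ (DirectSum.decomposeLinearEquiv 𝒜).toLinearMap

theorem projL_of_mem {m : ℕ} {b : B} (hb : b ∈ 𝒜 m) : projL 𝒜 m b = ⟨b, hb⟩ := by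
  apply Subtype.ext
  show ((DirectSum.decompose 𝒜 b) m : B) = b
  exact DirectSum.decompose_of_mem_same 𝒜 hb

theorem projL_of_mem_ne {m j : ℕ} {b : B} (hb : b ∈ 𝒜 j) (hj : j ≠ m) : projL 𝒜 m b = 0 := by
  apply Subtype.ext
  show ((DirectSum.decompose 𝒜 b) m : B) = 0
  exact DirectSum.decompose_of_mem_ne 𝒜 hb hj

end aux

theorem result
    (A : Type u) [CommRing A] (B : Type u) [CommRing B] [Algebra A B]
    (𝒜 : ℕ → Submodule A B) [GradedAlgebra 𝒜]
    (hfin : ∀ m : ℕ, Module.Finite A (𝒜 m))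
    (hgen : ∀ (k : Type u) [Field k] [IsAlgClosed k] [Algebra A k],
      Algebra.adjoin k ((Algebra.TensorProduct.includeRight : B →ₐ[A] k ⊗[A] B) '' (𝒜 1 : Set B)) = ⊤) :
    Algebra.adjoin A (𝒜 1 : Set B) = ⊤ := by
  classical
  have key : ∀ m : ℕ, 𝒜 m ≤ (𝒜 1) ^ m := by
    intro m
    haveI := hfin m
    let W : Submodule A (𝒜 m) := ((𝒜 1) ^ m).comap (𝒜 m).subtype
    by_contra hne
    have hW : W ≠ ⊤ := by
      intro h
      apply hne
      intro b hb
      have : (⟨b, hb⟩ : 𝒜 m) ∈ W := by rw [h]; trivial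
      exact this
    obtain ⟨𝔪, h𝔪, μ, hμsurj, hμW⟩ := exists_residue_functional W hW
    letI : Field (A ⧸ 𝔪) := Ideal.Quotient.field 𝔪
    let k := AlgebraicClosure (A ⧸ 𝔪)
    let ι : (A ⧸ 𝔪) →ₗ[A] k := (IsScalarTower.toAlgHom A (A ⧸ 𝔪) k).toLinearMap
    let μ' : B →ₗ[A] k := ι ∘ₗ μ ∘ₗ projL 𝒜 m
    let Λ : k ⊗[A] B →ₗ[k] k := μ'.liftBaseChange k
    have hcl : ∀ z ∈ Submonoid.closure
        ((Algebra.TensorProduct.includeRight : B →ₐ[A] k ⊗[A] B) '' (𝒜 1 : Set B)),
        ∃ (j : ℕ) (u : B), u ∈ (𝒜 1) ^ j ∧ z = (1 : k) ⊗ₜ[A] u := by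
      intro z hz
      induction hz using Submonoid.closure_induction with
      | mem z hz =>
        obtain ⟨b, hb, rfl⟩ := hz
        exact ⟨1, b, by rw [pow_one]; exact hb, rfl⟩
      | one => exact ⟨0, 1, by rw [pow_zero]; exact Submodule.one_le.1 le_rfl, rfl⟩
      | mul x y _ _ hx hy =>
        obtain ⟨j, u, hu, rfl⟩ := hx
        obtain ⟨j', u', hu', rfl⟩ := hy
        exact ⟨j + j', u * u', by rw [pow_add]; exact Submodule.mul_mem_mul hu hu',
          by rw [Algebra.TensorProduct.tmul_mul_tmul, one_mul]⟩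
    have hΛ0 : ∀ z ∈ Submonoid.closure
        ((Algebra.TensorProduct.includeRight : B →ₐ[A] k ⊗[A] B) '' (𝒜 1 : Set B)), Λ z = 0 := by
      intro z hz
      obtain ⟨j, u, hu, rfl⟩ := hcl z hz
      rw [LinearMap.liftBaseChange_tmul, one_smul]
      show ι (μ (projL 𝒜 m u)) = 0
      by_cases hj : j = m
      · subst hj
        have hu' : u ∈ 𝒜 j := pow_le_graded 𝒜 j hu
        rw [projL_of_mem 𝒜 hu']
        have hmem : (⟨u, hu'⟩ : 𝒜 j) ∈ W := hu
        rw [LinearMap.mem_ker.1 (hμW hmem), map_zero]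
      · rw [projL_of_mem_ne 𝒜 (pow_le_graded 𝒜 j hu) hj, map_zero, map_zero]
    have hΛ : ∀ z : k ⊗[A] B, Λ z = 0 := by
      intro z
      have hz : z ∈ Algebra.adjoin k
          ((Algebra.TensorProduct.includeRight : B →ₐ[A] k ⊗[A] B) '' (𝒜 1 : Set B)) := by
        rw [hgen k]
        trivial
      rw [← Subalgebra.mem_toSubmodule, Algebra.adjoin_eq_span] at hz
      induction hz using Submodule.span_induction with
      | mem z hz => exact hΛ0 z hz
      | zero => exact map_zero _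
      | add x y _ _ hx hy => rw [map_add, hx, hy, add_zero]
      | smul c x _ hx => rw [map_smul, hx, smul_zero]
    obtain ⟨n, hn⟩ := hμsurj 1
    have h1 := hΛ ((1 : k) ⊗ₜ[A] (n : B))
    rw [LinearMap.liftBaseChange_tmul, one_smul] at h1
    have h2 : μ' (n : B) = ι (μ n) := by
      show ι (μ (projL 𝒜 m n)) = _
      rw [projL_of_mem 𝒜 n.2]
    rw [h2, hn] at h1
    have h3 : ι 1 = 1 := map_one (IsScalarTower.toAlgHom A (A ⧸ 𝔪) k)
    rw [h3] at h1
    exact one_ne_zero h1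
  rw [eq_top_iff]
  intro b _
  rw [← DirectSum.sum_support_decompose 𝒜 b]
  refine Subalgebra.sum_mem _ (fun i _ => ?_)
  exact pow_le_adjoin 𝒜 i (key i (SetLike.coe_mem _))

end Groth.Agent.S13623
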