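import Groth.Statements.S13626
import Groth.Agent.S0927
import Groth.Agent.Lib.Helper13.LerayBase

set_option autoImplicit false
universe u
open CategoryTheory CategoryTheory.Limits AlgebraicGeometry
open Coh

namespace Groth.Agent.S13626

/-- Let f : X → Y be a morphism of schemes with R^i f_* O_X = 0 for every i ≥ 1 and f_* O_X ≅ O_Y. Then
for every invertible O_Y-module L and every p ≥ 0 the groups H^p(X, f^* L) and H^p(Y, L) are
isomorphic (existence of a group isomorphism; the higher direct images are the right derived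
functors of f_* on O_X-modules, under the instance argument recording that O_X-modules have
injective resolutions). -/
theorem result
    {X Y : Scheme.{u}} (f : X ⟶ Y) [HasInjectiveResolutions X.Modules]
    (hR : ∀ i : ℕ, IsZero ((Coh.Rpush f (i + 1)).obj (Coh.structureModule X)))
    (h0 : Nonempty ((Coh.push f).obj (Coh.structureModule X) ≅ Coh.structureModule Y))
    (L : Y.Modules) (hL : PicF.IsInvertible L) (p : ℕ) :
    Nonempty (Coh.HH X ((Scheme.Modules.pullback f).obj L) p ≃+ Coh.HH Y L p) := by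
  have hLf : FlatMod.IsFinLocFree L := by
    intro x
    obtain ⟨U, hxU, ⟨e⟩⟩ := hL x
    exact ⟨U, 1, hxU,
      ⟨e ≪≫ (coproductUniqueIso (fun _ : Fin 1 => Coh.structureModule (↑U : Scheme.{u}))).symm⟩⟩
  have key : ∀ q, Nonempty (CohB1.tensorMod L ((Coh.Rpush f q).obj (Coh.structureModule X)) ≅
      (Coh.Rpush f q).obj ((Scheme.Modules.pullback f).obj L)) := fun q => by
    obtain ⟨e⟩ := Groth.Agent.S0927.result f (Coh.structureModule X) L hLf q
    exact ⟨e ≪≫ (Coh.Rpush f q).mapIso (Groth.Agent.Helper13.Tensor.rid _)⟩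
  have hvanM : ∀ q, IsZero ((Coh.Rpush f (q + 1)).obj ((Scheme.Modules.pullback f).obj L)) := by
    intro q
    obtain ⟨e⟩ := key (q + 1)
    refine IsZero.of_iso ?_ e.symm
    refine IsZero.of_iso ?_ (Groth.Agent.Helper13.Tensor.braid _ _)
    exact Functor.map_isZero (Groth.Agent.Helper13.TensorFunctor.tensorRight L) (hR q)
  have hvanA : ∀ q, IsZero ((CohTop.Rpush f.base (q + 1)).obj
      (Coh.toAb ((Scheme.Modules.pullback f).obj L))) := by
    intro q
    obtain ⟨e⟩ := Groth.Agent.Helper13.RpushCmp.main f ((Scheme.Modules.pullback f).obj L) (q + 1)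
    refine IsZero.of_iso ?_ e.symm
    exact Functor.map_isZero (Groth.Agent.Helper13.ToAbExact.toAbF Y) (hvanM q)
  obtain ⟨e1⟩ := Groth.Agent.Helper13.LerayZero.main f.base p
    (Coh.toAb ((Scheme.Modules.pullback f).obj L)) hvanA
  obtain ⟨e0⟩ := key 0
  obtain ⟨i0⟩ := h0
  let ι : (Scheme.Modules.pushforward f).obj ((Scheme.Modules.pullback f).obj L) ≅ L :=
    ((Scheme.Modules.pushforward f).rightDerivedZeroIsoSelf.app _).symm ≪≫ e0.symm ≪≫
      Groth.Agent.Helper13.Tensor.mapIso (Iso.refl L)
        (((Scheme.Modules.pushforward f).rightDerivedZeroIsoSelf.app (Coh.structureModule X)) ≪≫ i0) ≪≫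
      Groth.Agent.Helper13.Tensor.rid L
  exact ⟨e1.trans (Groth.Agent.Helper13.LerayBase.HEquivOfIso
    ((Groth.Agent.Helper13.ToAbExact.toAbF Y).mapIso ι) p)⟩

end Groth.Agent.S13626
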