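import Groth.Statements.S13635
import Groth.Agent.Lib.Helper18.MultSchLib3

set_option autoImplicit false
universe u w
open CategoryTheory CategoryTheory.Limits MonoidalCategory CartesianMonoidalCategory MonObj AlgebraicGeometry
open MultSch

namespace Groth.Agent.S13635

/-- Let M₁ → M₂ → M₃ → 0 be a sequence of R-module schemes over a scheme S, with R-linear homomorphisms
j : M₁ → M₂ and π : M₂ → M₃, exact as a sequence of fppf sheaves. For n ≥ 1 and an R-module scheme
N, the sequence 0 → Alt(M₃^n, N) → Alt(M₂^n, N) → Alt(M₁ × M₂^(n-1), N) of R-multilinear alternating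
morphisms is exact: an R-multilinear alternating φ : M₂^n → N which is trivial on all points with
first coordinate in the image of j is of the form φ' ∘ π^n for a unique morphism φ' : M₃^n → N
(unique among all morphisms), and this φ' is R-multilinear and alternating. -/
theorem result
    {S : Scheme.{u}} {R : Type w} [CommRing R] {M₁ M₂ M₃ N : Over S}
    [GrpObj M₁] [IsCommMonObj M₁] [GrpObj M₂] [IsCommMonObj M₂] [GrpObj M₃] [IsCommMonObj M₃]
    [GrpObj N] [IsCommMonObj N]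
    (ρ₁ : MultSch.RMod R M₁) (ρ₂ : MultSch.RMod R M₂) (ρ₃ : MultSch.RMod R M₃) (ρN : MultSch.RMod R N)
    (j : M₁ ⟶ M₂) (π : M₂ ⟶ M₃) [IsMonHom j] [IsMonHom π]
    (hj : ∀ a : R, j ≫ ρ₂.act a = ρ₁.act a ≫ j) (hπ : ∀ a : R, π ≫ ρ₃.act a = ρ₂.act a ≫ π)
    (w : j ≫ π = 1) (hex : (CGrpSh.seq Scheme.fppfPrecoverage j π w).Exact)
    (hepi : Epi (CGrpSh.ptsMap Scheme.fppfPrecoverage π))
    {n : ℕ} (hn : 1 ≤ n) (φ : MultSch.pow M₂ n ⟶ N)
    (hmult : MultSch.IsMultilinear φ) (hlin : MultSch.IsRLinear ρ₂ ρN φ) (halt : MultSch.IsAlternating φ)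
    (hvan : ∀ (T : Over S) (y : T ⟶ M₁) (x : Fin n → (T ⟶ M₂)), x ⟨0, hn⟩ = y ≫ j →
      MultSch.tuple x ≫ φ = 1) :
    ∃ φ' : MultSch.pow M₃ n ⟶ N,
      (∀ (T : Over S) (x : Fin n → (T ⟶ M₂)), MultSch.tuple x ≫ φ = MultSch.tuple (fun l => x l ≫ π) ≫ φ') ∧
      MultSch.IsMultilinear φ' ∧ MultSch.IsRLinear ρ₃ ρN φ' ∧ MultSch.IsAlternating φ' ∧
      ∀ φ'' : MultSch.pow M₃ n ⟶ N,
        (∀ (T : Over S) (x : Fin n → (T ⟶ M₂)), MultSch.tuple x ≫ φ = MultSch.tuple (fun l => x l ≫ π) ≫ φ'') →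
          φ'' = φ' := by
  have hvan' : ∀ (T : Over S) (y : T ⟶ M₁) (x : Fin n → (T ⟶ M₂)) (i : Fin n),
      x i = y ≫ j → MultSch.tuple x ≫ φ = 1 := by
    intro T y x i hxi
    by_cases hi : i = ⟨0, hn⟩
    · subst hi; exact hvan T y x hxi
    · have h1 := Groth.Agent.Helper18.MultSchLib3.swap_mul φ hmult halt x ⟨0, hn⟩ i (Ne.symm hi)
      have h2 : MultSch.tuple (Function.update (Function.update x ⟨0, hn⟩ (x i)) i (x ⟨0, hn⟩)) ≫ φ
          = 1 := hvan T y _ (by
            rw [Function.update_of_ne (Ne.symm hi), Function.update_self, hxi])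
      rw [h2, _root_.one_mul] at h1
      exact h1
  have hone : ∀ (T : Over S) (x : Fin n → (T ⟶ M₂)) (i : Fin n) (z : T ⟶ M₂),
      x i ≫ π = z ≫ π → MultSch.tuple (Function.update x i z) ≫ φ = MultSch.tuple x ≫ φ := by
    intro T x i z hz
    have hw : (x i * z⁻¹) ≫ π = 1 := by
      rw [MonObj.mul_comp, GrpObj.inv_comp, hz, mul_inv_cancel]
    obtain ⟨R, hR, hl⟩ := Groth.Agent.Helper18.MultSchLib2.exists_lift_of_exact
      Scheme.fppfPrecoverage j π w hex (x i * z⁻¹) hw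
    have h1 : MultSch.tuple (Function.update x i (x i * z⁻¹)) ≫ φ = 1 := by
      apply Groth.Agent.Helper18.MultSchLib2.hom_ext_of_cover Scheme.fppfPrecoverage _ _ R hR
      intro Z c hc
      obtain ⟨y', hy'⟩ := hl c hc
      rw [MonObj.comp_one, ← Category.assoc, Groth.Agent.Helper18.MultSchLib.comp_tuple]
      exact hvan' Z y' _ i (by simp only [Function.update_self]; exact hy'.symm)
    have h2 := hmult T x i (x i * z⁻¹) z
    rw [inv_mul_cancel_right, Function.update_eq_self, h1, _root_.one_mul] at h2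
    exact h2.symm
  have hind : ∀ (T : Over S) (x x' : Fin n → (T ⟶ M₂)), (∀ l, x l ≫ π = x' l ≫ π) →
      MultSch.tuple x ≫ φ = MultSch.tuple x' ≫ φ := by
    intro T x x' h
    exact (Groth.Agent.Helper18.MultSchLib3.indep_all (fun x => MultSch.tuple x ≫ φ)
      (fun a b => a ≫ π = b ≫ π) (hone T) x x' h).symm
  obtain ⟨φ', hφ'⟩ := Groth.Agent.Helper18.MultSchLib3.exists_desc_pow
    Scheme.fppfPrecoverage π hepi φ hind
  refine ⟨φ', fun T x => (hφ' T x).symm,
    Groth.Agent.Helper18.MultSchLib3.mult_desc Scheme.fppfPrecoverage π hepi φ φ' hφ' hmult, ?_,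
    Groth.Agent.Helper18.MultSchLib3.alt_desc Scheme.fppfPrecoverage π hepi φ φ' hφ' halt, ?_⟩
  · intro T x i a
    exact Groth.Agent.Helper18.MultSchLib3.lin_desc Scheme.fppfPrecoverage π hepi φ φ' hφ'
      (ρ₂.act a) (ρ₃.act a) (ρN.act a) (hπ a) (fun T x i => hlin T x i a) x i
  · intro φ'' h
    exact Groth.Agent.Helper18.MultSchLib3.desc_unique Scheme.fppfPrecoverage π hepi φ φ' hφ' φ''
      (fun T x => (h T x).symm)

end Groth.Agent.S13635
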