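import Groth.Statements.S13664
import Mathlib

set_option autoImplicit false
universe u
open GrRing

namespace Groth.Agent.S13664

section aux
variable {R A : Type u} [CommRing R] [CommRing A] [Algebra R A]
  (𝒜 : ℤ → Submodule R A) [GradedAlgebra 𝒜]

theorem pow_le_graded (d : ℤ) (n : ℕ) : (𝒜 d) ^ n ≤ 𝒜 (n • d) := by
  induction n with
  | zero =>
    rw [pow_zero, zero_smul, Submodule.one_le]
    exact SetLike.GradedOne.one_mem
  | succ n ih =>
    rw [pow_succ, Submodule.mul_le]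
    intro m hm r hr
    have : (n + 1) • d = n • d + d := by rw [add_smul, one_smul]
    rw [this]
    exact SetLike.GradedMul.mul_mem (ih hm) hr

theorem pow_le_ideal_pow (W : Submodule R A) (I : Ideal A) (h : ∀ r ∈ W, r ∈ I) (n : ℕ) :
    ∀ r ∈ W ^ n, r ∈ I ^ n := by
  induction n with
  | zero =>
    intro r _
    rw [pow_zero, Ideal.one_eq_top]
    trivial
  | succ n ih =>
    intro r hr
    rw [pow_succ] at hr
    refine Submodule.mul_induction_on hr ?_ ?_
    · intro m hm r' hr'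
      rw [pow_succ]
      exact Ideal.mul_mem_mul (ih m hm) (h r' hr')
    · intro x y hx hy
      exact Ideal.add_mem _ hx hy

/-- in large degrees the graded pieces lie in the powers of the irrelevant ideal -/
theorem graded_le_pow {p : ℕ} (f : Fin p → A) (deg : Fin p → ℤ) (hdeg : ∀ i, 0 < deg i)
    (hf : ∀ i, f i ∈ 𝒜 (deg i))
    (hgen : Ideal.span {a : A | ∃ n : ℤ, 0 < n ∧ a ∈ 𝒜 n} = Ideal.span (Set.range f))
    (D : ℤ) (hD1 : 1 ≤ D) (hD : ∀ i, deg i ≤ D) :
    ∀ (N : ℕ) (n : ℤ), (N : ℤ) * D ≤ n → ∀ r ∈ 𝒜 n, r ∈ (Ideal.span (Set.range f)) ^ N := by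
  intro N
  induction N with
  | zero =>
    intro n _ r _
    rw [pow_zero, Ideal.one_eq_top]
    trivial
  | succ N ih =>
    intro n hn r hr
    have hnpos : 0 < n := by
      have : (0 : ℤ) ≤ (N : ℤ) * D := mul_nonneg (Int.natCast_nonneg N) (by omega)
      push_cast at hn
      nlinarith
    have hrI : r ∈ Ideal.span (Set.range f) := by
      rw [← hgen]
      exact Ideal.subset_span ⟨n, hnpos, hr⟩
    obtain ⟨a, ha⟩ := Ideal.mem_span_range_iff_exists_fun.1 hrI
    have h1 : r = ∑ i, (DirectSum.decompose 𝒜 (a i) (n - deg i) : A) * f i := by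
      have h2 : (DirectSum.decompose 𝒜 r n : A) = r := DirectSum.decompose_of_mem_same 𝒜 hr
      rw [← h2, ← ha, DirectSum.decompose_sum, DFinsupp.finsetSum_apply,
        AddSubmonoidClass.coe_finsetSum]
      refine Finset.sum_congr rfl (fun i _ => ?_)
      have h3 : n = (n - deg i) + deg i := by ring
      conv_lhs => rw [h3]
      exact DirectSum.coe_decompose_mul_add_of_right_mem 𝒜 (hf i)
    rw [h1, pow_succ]
    refine Ideal.sum_mem _ (fun i _ => ?_)
    refine Ideal.mul_mem_mul (ih (n - deg i) ?_ _ (SetLike.coe_mem _))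
      (Ideal.subset_span ⟨i, rfl⟩)
    have := hD i
    push_cast at hn
    nlinarith

end aux

theorem result {R A : Type u} [CommRing R] [CommRing A] [Algebra R A]
    (𝒜 : ℤ → Submodule R A) [GradedAlgebra 𝒜]
    {p : ℕ} (f : Fin p → A) (deg : Fin p → ℤ) (hdeg : ∀ i, 0 < deg i) (hf : ∀ i, f i ∈ 𝒜 (deg i))
    (hgen : Ideal.span {a : A | ∃ n : ℤ, 0 < n ∧ a ∈ 𝒜 n} = Ideal.span (Set.range f))
    (d : ℤ) (hd : 0 < d) (hdvd : ∀ i, deg i ∣ d)
    {M : Type u} [AddCommGroup M] [Module A M] (x : M) :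
    [x ∈ GrLC.gam (Ideal.span (Set.range f)) M,
     ∃ n₀ : ℕ, ∀ n : ℕ, n₀ ≤ n → ∀ r ∈ (𝒜 d) ^ n, r • x = 0,
     ∃ s : ℤ, ∀ n : ℤ, s ≤ n → ∀ r ∈ 𝒜 n, r • x = 0].TFAE := by
  classical
  have mem_gam : x ∈ GrLC.gam (Ideal.span (Set.range f)) M ↔
      ∃ n : ℕ, ∀ r ∈ (Ideal.span (Set.range f)) ^ n, r • x = 0 := Iff.rfl
  rw [mem_gam]
  tfae_have 1 → 3 := by
    rintro ⟨N, hN⟩
    let D : ℤ := 1 + ∑ i, deg i
    have hsum : 0 ≤ ∑ i, deg i := Finset.sum_nonneg (fun i _ => (hdeg i).le)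
    have hD1 : 1 ≤ D := by
      show 1 ≤ 1 + ∑ i, deg i
      omega
    have hD : ∀ i, deg i ≤ D := fun i => by
      have := Finset.single_le_sum (f := deg) (fun j _ => (hdeg j).le) (Finset.mem_univ i)
      show deg i ≤ 1 + ∑ i, deg i
      omega
    exact ⟨N * D, fun n hn r hr =>
      hN r (graded_le_pow 𝒜 f deg hdeg hf hgen D hD1 hD N n hn r hr)⟩
  tfae_have 3 → 2 := by
    rintro ⟨s, hs⟩
    refine ⟨s.toNat, fun n hn r hr => hs (n • d) ?_ r (pow_le_graded 𝒜 d n hr)⟩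
    rw [nsmul_eq_mul]
    have h1 : (s.toNat : ℤ) ≤ n := by exact_mod_cast hn
    have h2 : s ≤ s.toNat := Int.self_le_toNat s
    nlinarith
  tfae_have 2 → 1 := by
    rintro ⟨n₀, hn₀⟩
    let K : Ideal A := LinearMap.ker (LinearMap.toSpanSingleton A M x)
    have hK : ∀ r, r ∈ K ↔ r • x = 0 := fun r => by
      simp [K, LinearMap.mem_ker, LinearMap.toSpanSingleton_apply]
    have hrad : Ideal.span (Set.range f) ≤ K.radical := by
      rw [Ideal.span_le]
      rintro _ ⟨i, rfl⟩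
      obtain ⟨c, hc⟩ := hdvd i
      have hcpos : 0 < c := by
        have := hdeg i
        by_contra hneg
        have : deg i * c ≤ 0 := mul_nonpos_of_nonneg_of_nonpos (hdeg i).le (not_lt.1 hneg)
        omega
      refine ⟨c.toNat * n₀, ?_⟩
      rw [hK, pow_mul]
      apply hn₀ n₀ le_rfl
      apply Submodule.pow_mem_pow
      have h3 := SetLike.pow_mem_graded c.toNat (hf i)
      have h4 : c.toNat • deg i = d := by
        rw [nsmul_eq_mul, Int.toNat_of_nonneg hcpos.le, hc, mul_comm]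
      rw [h4] at h3
      exact h3
    have hfg : (Ideal.span (Set.range f)).FG := ⟨Finset.univ.image f, by simp⟩
    obtain ⟨k, hk⟩ := Ideal.exists_pow_le_of_le_radical_of_fg hrad hfg
    exact ⟨k, fun r hr => (hK r).1 (hk hr)⟩
  tfae_finish

end Groth.Agent.S13664
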