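import Groth.Statements.S13665
import Groth.Statements.S13665
import Mathlib
-- import your own Groth.Agent.* helpers here

set_option autoImplicit false
universe u
open GrRing

namespace Groth.Agent.S13665

section
open DirectSum

variable {R A : Type u} [CommRing R] [CommRing A] [Algebra R A]
    (𝒜 : ℤ → Submodule R A) [GradedAlgebra 𝒜]

/-- key lemma: homogeneous coefficients -/
theorem key (T : Finset A) (deg : A → ℤ) (hdeg : ∀ t ∈ T, t ∈ 𝒜 (deg t))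
    (n : ℤ) (x : A) (hx : x ∈ 𝒜 n) (hxT : x ∈ Ideal.span (T : Set A)) :
    ∃ c : A → A, (∀ t ∈ T, c t ∈ 𝒜 (n - deg t)) ∧ x = ∑ t ∈ T, c t * t := by
  obtain ⟨f, -, hf⟩ := Submodule.mem_span_finset.mp hxT
  refine ⟨fun t => (decompose 𝒜 (f t) (n - deg t) : A), fun t _ => Submodule.coe_mem _, ?_⟩
  have h1 : (decompose 𝒜 x n : A) = x := decompose_of_mem_same 𝒜 hx
  rw [← h1, ← hf, decompose_sum, DFinsupp.finsetSum_apply, AddSubmonoidClass.coe_finsetSum]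
  refine Finset.sum_congr rfl fun t ht => ?_
  have := coe_decompose_mul_add_of_right_mem 𝒜 (a := f t) (i := n - deg t) (hdeg t ht)
  rw [sub_add_cancel] at this
  rw [smul_eq_mul, this]

theorem smul_coe (a : A) (ha : a ∈ 𝒜 0) (t : A) : (⟨a, ha⟩ : 𝒜 0) • t = a * t := by
  rw [Algebra.smul_def]; rfl

/-- Step B : each graded piece is a finite `𝒜 0`-module. -/
theorem stepB (h2 : ∀ I : Ideal A, I.IsHomogeneous 𝒜 → I.FG) (i : ℤ) :
    ∃ T : Finset A, (T : Set A) ⊆ 𝒜 i ∧ ∀ x ∈ 𝒜 i, x ∈ Submodule.span (𝒜 0) (T : Set A) := by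
  have hJ : (Ideal.span (𝒜 i : Set A)).IsHomogeneous 𝒜 :=
    Ideal.homogeneous_span 𝒜 _ fun x hx => ⟨i, hx⟩
  obtain ⟨T, hT, hTs⟩ := (Submodule.fg_span_iff_fg_span_finset_subset _).mp (h2 _ hJ)
  refine ⟨T, hT, fun x hx => ?_⟩
  have hxT : x ∈ Ideal.span (T : Set A) := by
    rw [Ideal.span, ← hTs]; exact Submodule.subset_span hx
  obtain ⟨c, hc, rfl⟩ := key 𝒜 T (fun _ => i) (fun t ht => hT ht) i x hx hxT
  refine Submodule.sum_mem _ fun t ht => ?_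
  have hc0 : c t ∈ 𝒜 0 := by simpa using hc t ht
  rw [← smul_coe 𝒜 (c t) hc0 t]
  exact Submodule.smul_mem _ _ (Submodule.subset_span ht)

/-- Step A : `𝒜 0` is Noetherian. -/
theorem stepA (h2 : ∀ I : Ideal A, I.IsHomogeneous 𝒜 → I.FG) : IsNoetherianRing (𝒜 0) := by
  classical
  rw [isNoetherianRing_iff_ideal_fg]
  intro I
  have hJ : (Ideal.span (Subtype.val '' (I : Set (𝒜 0)))).IsHomogeneous 𝒜 :=
    Ideal.homogeneous_span 𝒜 _ fun x hx => by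
      obtain ⟨y, -, rfl⟩ := hx; exact ⟨0, y.2⟩
  obtain ⟨T, hT, hTs⟩ := (Submodule.fg_span_iff_fg_span_finset_subset _).mp (h2 _ hJ)
  have hT0 : ∀ t ∈ T, t ∈ 𝒜 0 := fun t ht => by
    obtain ⟨y, -, rfl⟩ := hT ht; exact y.2
  have hTI : ∀ t (ht : t ∈ T), (⟨t, hT0 t ht⟩ : 𝒜 0) ∈ I := fun t ht => by
    obtain ⟨y, hy, rfl⟩ := hT ht; exact hy
  refine ⟨T.attach.image fun t => (⟨t.1, hT0 t.1 t.2⟩ : 𝒜 0), le_antisymm ?_ fun x hx => ?_⟩
  · rw [Submodule.span_le]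
    intro y hy
    simp only [Finset.coe_image, Set.mem_image] at hy
    obtain ⟨t, -, rfl⟩ := hy
    exact hTI t.1 t.2
  · have hxT : (x : A) ∈ Ideal.span (T : Set A) := by
      rw [Ideal.span, ← hTs]; exact Submodule.subset_span ⟨x, hx, rfl⟩
    obtain ⟨c, hc, hxc⟩ := key 𝒜 T (fun _ => 0) hT0 0 x x.2 hxT
    have hc0 : ∀ t ∈ T, c t ∈ 𝒜 0 := fun t ht => by simpa using hc t ht
    have : x = ∑ t ∈ T.attach, (⟨c t.1, hc0 t.1 t.2⟩ : 𝒜 0) • (⟨t.1, hT0 t.1 t.2⟩ : 𝒜 0) := by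
      apply Subtype.ext
      rw [hxc, AddSubmonoidClass.coe_finsetSum, ← Finset.sum_attach]
      rfl
    rw [this]
    refine Submodule.sum_mem _ fun t _ => Submodule.smul_mem _ _ (Submodule.subset_span ?_)
    simp only [Finset.coe_image, Set.mem_image]
    exact ⟨t, Finset.mem_coe.2 (Finset.mem_attach _ _), rfl⟩

/-- Step C : the `ε`-half is finitely generated over `𝒜 0`. -/
theorem stepC (h2 : ∀ I : Ideal A, I.IsHomogeneous 𝒜 → I.FG) (ε : ℤ) :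
    (Algebra.adjoin (𝒜 0) {a : A | ∃ n : ℕ, a ∈ 𝒜 (ε * n)}).FG := by
  classical
  set P : Set A := {a : A | ∃ m : ℕ, 0 < m ∧ a ∈ 𝒜 (ε * m)} with hP
  have hJ : (Ideal.span P).IsHomogeneous 𝒜 :=
    Ideal.homogeneous_span 𝒜 _ fun x hx => by
      obtain ⟨m, -, hm⟩ := hx; exact ⟨_, hm⟩
  obtain ⟨X, hX, hXs⟩ := (Submodule.fg_span_iff_fg_span_finset_subset _).mp (h2 _ hJ)
  -- degrees
  have hXdeg : ∀ x : A, ∃ m : ℕ, x ∈ X → 0 < m ∧ x ∈ 𝒜 (ε * m) := fun x => by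
    by_cases hx : x ∈ X
    · obtain ⟨m, hm⟩ := hX hx; exact ⟨m, fun _ => hm⟩
    · exact ⟨0, fun h => (hx h).elim⟩
  choose deg' hdeg' using hXdeg
  obtain ⟨d, hd⟩ := Finset.exists_le (X.image deg')
  have hd' : ∀ x ∈ X, deg' x ≤ d := fun x hx => hd _ (Finset.mem_image_of_mem _ hx)
  choose T hTsub hTgen using stepB 𝒜 h2
  set S : Finset A := X ∪ (Finset.range (d + 1)).biUnion (fun k => T (ε * k)) with hS
  have hXS : ∀ x ∈ X, x ∈ Algebra.adjoin (𝒜 0) (S : Set A) := fun x hx =>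
    Algebra.subset_adjoin (by rw [hS]; exact Finset.mem_coe.2 (Finset.mem_union_left _ hx))
  have hTS : ∀ k : ℕ, k ≤ d → ∀ a ∈ 𝒜 (ε * k), a ∈ Algebra.adjoin (𝒜 0) (S : Set A) := by
    intro k hk a ha
    have h1 := hTgen (ε * k) a ha
    have h2' : Submodule.span (𝒜 0) (T (ε * k) : Set A) ≤
        Subalgebra.toSubmodule (Algebra.adjoin (𝒜 0) (S : Set A)) := by
      rw [Submodule.span_le]
      intro t ht
      refine Algebra.subset_adjoin ?_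
      rw [hS]
      refine Finset.mem_coe.2 (Finset.mem_union_right _ (Finset.mem_biUnion.2 ⟨k, ?_, ht⟩))
      exact Finset.mem_range.2 (by omega)
    exact h2' h1
  have main : ∀ n : ℕ, ∀ a ∈ 𝒜 (ε * n), a ∈ Algebra.adjoin (𝒜 0) (S : Set A) := by
    intro n
    induction n using Nat.strong_induction_on with
    | _ n ih =>
      intro a ha
      by_cases hnd : n ≤ d
      · exact hTS n hnd a ha
      · have hn0 : 0 < n := by omega
        have haX : a ∈ Ideal.span (X : Set A) := by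
          rw [Ideal.span, ← hXs]; exact Submodule.subset_span ⟨n, hn0, ha⟩
        obtain ⟨c, hc, rfl⟩ := key 𝒜 X (fun x => ε * deg' x)
          (fun x hx => (hdeg' x hx).2) (ε * n) a ha haX
        refine Subalgebra.sum_mem _ fun x hx => Subalgebra.mul_mem _ ?_ (hXS x hx)
        have h1 := hd' x hx
        have h2' := (hdeg' x hx).1
        have h3 : ε * (n : ℤ) - ε * (deg' x : ℤ) = ε * ((n - deg' x : ℕ) : ℤ) := by
          rw [Nat.cast_sub (by omega)]; ring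
        have h4 := hc x hx
        rw [h3] at h4
        exact ih (n - deg' x) (by omega) _ h4
  refine ⟨S, le_antisymm (Algebra.adjoin_le ?_) (Algebra.adjoin_le ?_)⟩
  · intro s hs
    rw [hS, Finset.coe_union, Set.mem_union] at hs
    rcases hs with hs | hs
    · obtain ⟨m, -, hm⟩ := hX hs
      exact Algebra.subset_adjoin ⟨m, hm⟩
    · obtain ⟨k, -, hk⟩ := Finset.mem_biUnion.1 (Finset.mem_coe.1 hs)
      exact Algebra.subset_adjoin ⟨k, hTsub _ hk⟩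
  · rintro a ⟨n, hn⟩
    exact main n a hn

theorem setP : {a : A | ∃ n : ℤ, 0 ≤ n ∧ a ∈ 𝒜 n} = {a : A | ∃ n : ℕ, a ∈ 𝒜 ((1 : ℤ) * n)} := by
  ext a
  constructor
  · rintro ⟨n, hn, ha⟩
    refine ⟨n.toNat, ?_⟩
    rw [one_mul, Int.toNat_of_nonneg hn]; exact ha
  · rintro ⟨n, ha⟩
    rw [one_mul] at ha
    exact ⟨n, Int.natCast_nonneg n, ha⟩

theorem setN : {a : A | ∃ n : ℤ, n ≤ 0 ∧ a ∈ 𝒜 n} = {a : A | ∃ n : ℕ, a ∈ 𝒜 ((-1 : ℤ) * n)} := by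
  ext a
  constructor
  · rintro ⟨n, hn, ha⟩
    refine ⟨(-n).toNat, ?_⟩
    rw [Int.toNat_of_nonneg (by omega)]
    simpa using ha
  · rintro ⟨n, ha⟩
    exact ⟨_, by have := Int.natCast_nonneg n; omega, ha⟩

theorem top_of [DecidableEq A] (s1 s2 : Finset A)
    (h1 : Algebra.adjoin (𝒜 0) (s1 : Set A) = Algebra.adjoin (𝒜 0) {a : A | ∃ n : ℤ, 0 ≤ n ∧ a ∈ 𝒜 n})
    (h2 : Algebra.adjoin (𝒜 0) (s2 : Set A) = Algebra.adjoin (𝒜 0) {a : A | ∃ n : ℤ, n ≤ 0 ∧ a ∈ 𝒜 n}) :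
    Algebra.adjoin (𝒜 0) ((s1 ∪ s2 : Finset A) : Set A) = ⊤ := by
  classical
  rw [eq_top_iff]
  intro a _
  rw [Finset.coe_union, Algebra.adjoin_union, h1, h2]
  rw [← sum_support_decompose 𝒜 a]
  refine Subalgebra.sum_mem _ fun i _ => ?_
  rcases le_total 0 i with hi | hi
  · have h : Algebra.adjoin (𝒜 0) {a : A | ∃ n : ℤ, 0 ≤ n ∧ a ∈ 𝒜 n} ≤
        Algebra.adjoin (𝒜 0) {a : A | ∃ n : ℤ, 0 ≤ n ∧ a ∈ 𝒜 n} ⊔
          Algebra.adjoin (𝒜 0) {a : A | ∃ n : ℤ, n ≤ 0 ∧ a ∈ 𝒜 n} := le_sup_left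
    exact h (Algebra.subset_adjoin ⟨i, hi, Submodule.coe_mem _⟩)
  · have h : Algebra.adjoin (𝒜 0) {a : A | ∃ n : ℤ, n ≤ 0 ∧ a ∈ 𝒜 n} ≤
        Algebra.adjoin (𝒜 0) {a : A | ∃ n : ℤ, 0 ≤ n ∧ a ∈ 𝒜 n} ⊔
          Algebra.adjoin (𝒜 0) {a : A | ∃ n : ℤ, n ≤ 0 ∧ a ∈ 𝒜 n} := le_sup_right
    exact h (Algebra.subset_adjoin ⟨i, hi, Submodule.coe_mem _⟩)

theorem main : [IsNoetherianRing A,
     ∀ I : Ideal A, I.IsHomogeneous 𝒜 → I.FG,
     IsNoetherianRing (𝒜 0) ∧ (Algebra.adjoin (𝒜 0) {a : A | ∃ n : ℤ, 0 ≤ n ∧ a ∈ 𝒜 n}).FG ∧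
       (Algebra.adjoin (𝒜 0) {a : A | ∃ n : ℤ, n ≤ 0 ∧ a ∈ 𝒜 n}).FG,
     IsNoetherianRing (𝒜 0) ∧ Algebra.FiniteType (𝒜 0) A].TFAE := by
  classical
  tfae_have 1 → 2 := fun h I _ => (isNoetherianRing_iff_ideal_fg A).mp h I
  tfae_have 2 → 3 := fun h2 => by
    refine ⟨stepA 𝒜 h2, ?_, ?_⟩
    · rw [setP]; exact stepC 𝒜 h2 1
    · rw [setN]; exact stepC 𝒜 h2 (-1)
  tfae_have 3 → 4 := by
    rintro ⟨h0, ⟨s1, h1⟩, ⟨s2, h2⟩⟩
    exact ⟨h0, ⟨⟨s1 ∪ s2, top_of 𝒜 s1 s2 h1 h2⟩⟩⟩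
  tfae_have 4 → 1 := by
    rintro ⟨h0, hft⟩
    exact Algebra.FiniteType.isNoetherianRing (𝒜 0) A
  tfae_finish

end

/-- For a commutative ring A graded by the integers, with degree-zero subring A_0, the following are
equivalent: A is Noetherian; each homogeneous ideal of A has a finite generating set; A_0 is
Noetherian and the subalgebras A_{≥0}, A_{≤0} are each of finite type over A_0; A_0 is Noetherian
and A is an A_0-algebra of finite type. -/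
theorem result {R A : Type u} [CommRing R] [CommRing A] [Algebra R A]
    (𝒜 : ℤ → Submodule R A) [GradedAlgebra 𝒜] :
    [IsNoetherianRing A,
     ∀ I : Ideal A, I.IsHomogeneous 𝒜 → I.FG,
     IsNoetherianRing (𝒜 0) ∧ (Algebra.adjoin (𝒜 0) {a : A | ∃ n : ℤ, 0 ≤ n ∧ a ∈ 𝒜 n}).FG ∧
       (Algebra.adjoin (𝒜 0) {a : A | ∃ n : ℤ, n ≤ 0 ∧ a ∈ 𝒜 n}).FG,
     IsNoetherianRing (𝒜 0) ∧ Algebra.FiniteType (𝒜 0) A].TFAE := by
  exact Groth.Agent.S13665.main 𝒜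

end Groth.Agent.S13665
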