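import Groth.Statements.S13681

set_option autoImplicit false
open BTGrp

namespace Groth.Agent.S13681


theorem result (r M : ℕ) (d : Fin r → ℕ)
    (hmin : ∃ i, d i = 0) (hmax : ∀ i, d i < M) :
    ((∃ i, Finset.univ.sup d - d i = 0) ∧ (∀ i, Finset.univ.sup d - d i < M)) ∧
      (fun i => Finset.univ.sup (fun j => Finset.univ.sup d - d j) - (Finset.univ.sup d - d i)) = d := by
  obtain ⟨i0, hi0⟩ := hmin
  have hne : (Finset.univ : Finset (Fin r)).Nonempty := ⟨i0, Finset.mem_univ _⟩
  obtain ⟨i1, -, hi1⟩ := Finset.exists_mem_eq_sup Finset.univ hne d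
  have hle : ∀ i, d i ≤ Finset.univ.sup d := fun i => Finset.le_sup (f := d) (Finset.mem_univ i)
  have hsup : Finset.univ.sup (fun j => Finset.univ.sup d - d j) = Finset.univ.sup d := by
    apply le_antisymm
    · apply Finset.sup_le
      intro j _
      exact Nat.sub_le _ _
    · have := Finset.le_sup (f := fun j => Finset.univ.sup d - d j) (Finset.mem_univ i0)
      simpa [hi0] using this
  refine ⟨⟨⟨i1, ?_⟩, ?_⟩, ?_⟩
  · rw [hi1, Nat.sub_self]
  · intro i
    calc Finset.univ.sup d - d i ≤ Finset.univ.sup d := Nat.sub_le _ _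
      _ = d i1 := hi1
      _ < M := hmax i1
  · funext i
    rw [hsup]
    have := hle i
    omega

end Groth.Agent.S13681
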