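import Groth.Statements.S13683
import Mathlib

set_option autoImplicit false
universe u v
open BTGrp

namespace Groth.Agent.S13683

theorem iterate_map_nsmul {M : Type*} [AddCommGroup M] (V : M →+ M) (n c : ℕ) (x : M) :
    (⇑V)^[n] (c • x) = c • (⇑V)^[n] x := by
  induction n generalizing x with
  | zero => rfl
  | succ n ih => rw [Function.iterate_succ_apply, Function.iterate_succ_apply, map_nsmul, ih]

theorem iter_VF {M : Type*} [AddCommGroup M] (p : ℕ) (F V : M →+ M)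
    (hVF : ∀ x, V (F x) = p • x) (n : ℕ) (x : M) :
    (⇑V)^[n] ((⇑F)^[n] x) = p ^ n • x := by
  induction n generalizing x with
  | zero => simp
  | succ n ih =>
    rw [Function.iterate_succ_apply, Function.iterate_succ_apply', hVF, iterate_map_nsmul, ih,
      smul_smul, pow_succ']

theorem iter_phi {r : ℕ} (M : Fin r → Type*) (N : Type*) [∀ i, AddCommGroup (M i)] [AddCommGroup N]
    (V : ∀ i, M i →+ M i) (V₀ : N →+ N) (φ : MultilinearMap ℤ M N)
    (hφ : ∀ x : ∀ i, M i, φ (fun i => V i (x i)) = V₀ (φ x)) (n : ℕ) (x : ∀ i, M i) :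
    (⇑V₀)^[n] (φ x) = φ (fun i => (⇑(V i))^[n] (x i)) := by
  induction n generalizing x with
  | zero => rfl
  | succ n ih =>
    rw [Function.iterate_succ_apply, ← hφ, ih]
    rfl

theorem phi_nsmul_all {r : ℕ} (M : Fin r → Type*) (N : Type*) [∀ i, AddCommGroup (M i)] [AddCommGroup N]
    (φ : MultilinearMap ℤ M N) (c : ℕ) (x : ∀ i, M i) :
    φ (fun i => c • x i) = c ^ r • φ x := by
  have := φ.map_smul_univ (fun _ => (c : ℤ)) x
  simp only [natCast_zsmul, Finset.prod_const, Finset.card_univ, Fintype.card_fin] at this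
  rw [this, ← Nat.cast_pow, natCast_zsmul]


theorem result (p : ℕ) {r : ℕ} (hr : 0 < r)
    (M : Fin r → Type u) (N : Type v) [∀ i, AddCommGroup (M i)] [AddCommGroup N]
    (F V : ∀ i, M i →+ M i) (F₀ V₀ : N →+ N)
    (hVF : ∀ i (x : M i), V i (F i x) = p • x) (hVF₀ : ∀ x : N, V₀ (F₀ x) = p • x)
    (hV₀ : Function.Injective V₀)
    (φ : MultilinearMap ℤ M N) (hφ : ∀ x : ∀ i, M i, φ (fun i => V i (x i)) = V₀ (φ x))
    (Nn Mm : ℕ) (d : Fin r → ℕ) (y z : ∀ i, M i)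
    (hyz : ∀ i, (⇑(F i))^[Nn] (z i) = (⇑(V i))^[Mm] (y i)) :
    (⇑F₀)^[Nn] (p ^ ((r - 1) * Nn) • φ (fun i => (⇑(V i))^[d i] (z i))) =
      (⇑V₀)^[Mm] (φ (fun i => (⇑(V i))^[d i] (y i))) := by
  apply (hV₀.iterate Nn)
  rw [iter_VF p F₀ V₀ hVF₀, smul_smul, iter_phi M N V V₀ φ hφ, iter_phi M N V V₀ φ hφ]
  have hslot : ∀ i, (⇑(V i))^[Nn] ((⇑(V i))^[Mm] ((⇑(V i))^[d i] (y i))) =
      p ^ Nn • (⇑(V i))^[d i] (z i) := by
    intro i
    rw [← Function.iterate_add_apply, ← Function.iterate_add_apply,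
      show Nn + Mm + d i = d i + (Nn + Mm) by omega, Function.iterate_add_apply,
      Function.iterate_add_apply _ Nn Mm, ← hyz i, iter_VF p (F i) (V i) (hVF i), iterate_map_nsmul]
  rw [funext hslot, phi_nsmul_all, ← pow_add, ← pow_mul]
  congr 2
  obtain ⟨r', rfl⟩ : ∃ r', r = r' + 1 := ⟨r - 1, by omega⟩
  simp only [Nat.add_sub_cancel]
  ring

end Groth.Agent.S13683
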