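import Groth.Statements.S13695
import Groth.Agent.Lib.Helper20.CHUse

set_option autoImplicit false
universe u
open scoped TensorProduct
open ZeroCyc

namespace Groth.Agent.S13695

open Groth.Agent.Helper20.PLKer in
theorem aux {A : Type u} [CommRing A] {B : Type u} [CommRing B] [Algebra A B]
    {d : ℕ} (F : PolLaw.MulLaw A B A d) (y : B ⧸ PolLaw.ker F.law) : IsIntegral A y := by
  obtain ⟨b, rfl⟩ := Ideal.Quotient.mk_surjective y
  obtain ⟨p, hp, hmem⟩ := exists_monic_chiB F b
  refine ⟨p, hp, ?_⟩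
  have h1 : Polynomial.aeval (Ideal.Quotient.mkₐ A (PolLaw.ker F.law) b) p =
      Ideal.Quotient.mkₐ A (PolLaw.ker F.law) (Polynomial.aeval b p) :=
    Polynomial.aeval_algHom_apply (Ideal.Quotient.mkₐ A (PolLaw.ker F.law)) b p
  rw [← Polynomial.aeval_def]
  refine h1.trans ?_
  exact Ideal.Quotient.eq_zero_iff_mem.2 hmem


theorem result {A : Type u} [CommRing A] {B : Type u} [CommRing B] [Algebra A B]
    {d : ℕ} (F : PolLaw.MulLaw A B A d) :
    Algebra.IsIntegral A (PolLaw.image F.law) := by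
  exact ⟨fun y => aux F y⟩

end Groth.Agent.S13695
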