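import Groth.Statements.S13696
import Groth.Agent.Lib.Helper20.CHUse

set_option autoImplicit false
universe u
open scoped TensorProduct
open ZeroCyc

namespace Groth.Agent.S13696


theorem result {A : Type u} [CommRing A] {B : Type u} [CommRing B] [Algebra A B]
    {d : ℕ} (F : PolLaw.MulLaw A B A d) (χ : B → Polynomial A)
    (hχ : ∀ b : B, χ b = TensorProduct.rid A (Polynomial A)
      (F.law.toFun' (Polynomial A) ((1 : Polynomial A) ⊗ₜ[A] b - Polynomial.X ⊗ₜ[A] (1 : B)))) :
    Ideal.span (Set.range fun b : B => Polynomial.aeval b (χ b)) ≤ PolLaw.ker F.law ∧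
      PolLaw.ker F.law ≤ (Ideal.span (Set.range fun b : B => Polynomial.aeval b (χ b))).radical := by
  have hχ' : ∀ b, χ b = Groth.Agent.Helper20.PLKer.chiB F.law b := fun b => hχ b
  constructor
  · rw [Ideal.span_le]
    rintro _ ⟨b, rfl⟩
    show Polynomial.aeval b (χ b) ∈ PolLaw.ker F.law
    rw [hχ']
    exact Groth.Agent.Helper20.PLKer.aeval_chiB_mem_ker F b
  · intro b hb
    refine ⟨d, ?_⟩
    have h1 : Polynomial.aeval b (χ b) = (-b) ^ d := by
      rw [hχ', Groth.Agent.Helper20.PLKer.chiB_of_mem_ker F hb, map_pow, map_neg,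
        Polynomial.aeval_X]
    have h2 : b ^ d = (-1) ^ d * Polynomial.aeval b (χ b) := by
      rw [h1, ← mul_pow]
      norm_num
    rw [h2]
    exact Ideal.mul_mem_left _ _ (Ideal.subset_span ⟨b, rfl⟩)

end Groth.Agent.S13696
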