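import Groth.Statements.S13697
import Groth.Agent.Lib.Helper20.CHBC

set_option autoImplicit false
universe u
open scoped TensorProduct
open ZeroCyc

namespace Groth.Agent.S13697


theorem result {A : Type u} [CommRing A] {B : Type u} [CommRing B] [Algebra A B]
    {d : ℕ} (F : PolLaw.MulLaw A B A d) (A' : Type u) [CommRing A'] [Algebra A A'] :
    (PolLaw.kerBC F.law A').radical =
      ((PolLaw.ker F.law).map (Algebra.TensorProduct.includeRight : B →ₐ[A] A' ⊗[A] B)).radical := by
  apply le_antisymm
  · rw [Ideal.radical_le_radical_iff]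
    intro b' hb'
    exact ⟨d, Groth.Agent.Helper20.PLKer.pow_mem_map_of_mem_kerBC F A' hb'⟩
  · exact Ideal.radical_mono (Groth.Agent.Helper20.PLKer.map_ker_le_kerBC F.law A')

end Groth.Agent.S13697
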