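import Groth.Statements.S13702
import Mathlib

set_option autoImplicit false
universe u
open ZeroCyc

namespace Groth.Agent.S13702

open Polynomial in
theorem field_key {k : Type u} [Field k] (p : ℕ) [Fact p.Prime] [CharP k p] (f : k[X])
    (hf : f.Separable) (s : ℕ) (h : k[X]) (hdeg : h.natDegree < f.natDegree)
    (hdvd : f ∣ h.comp (X ^ (p ^ s))) : h = 0 := by
  classical
  let K := AlgebraicClosure k
  haveI : CharP K p := charP_of_injective_algebraMap (algebraMap k K).injective p
  let fK := f.map (algebraMap k K)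
  let hK := h.map (algebraMap k K)
  have hsplit : fK.Splits := IsAlgClosed.splits _
  have hcard : fK.roots.card = f.natDegree := by
    rw [splits_iff_card_roots.1 hsplit, natDegree_map]
  have hnodup : fK.roots.Nodup := nodup_roots hf.map
  have hinj : Function.Injective (fun a : K => a ^ (p ^ s)) := by
    intro a b hab
    have h1 : (a - b) ^ (p ^ s) = 0 := by
      rw [sub_pow_char_pow]
      exact sub_eq_zero.2 hab
    exact sub_eq_zero.1 (eq_zero_of_pow_eq_zero h1)
  let S : Finset K := (fK.roots.map (fun a : K => a ^ (p ^ s))).toFinset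
  have hScard : S.card = f.natDegree := by
    rw [Multiset.toFinset_card_of_nodup (hnodup.map hinj), Multiset.card_map, hcard]
  have hdvdK : fK ∣ hK.comp (X ^ (p ^ s)) := by
    have := Polynomial.map_dvd (algebraMap k K) hdvd
    rwa [Polynomial.map_comp, Polynomial.map_pow, Polynomial.map_X] at this
  have heval : ∀ b ∈ S, hK.eval b = 0 := by
    intro b hb
    rw [Multiset.mem_toFinset, Multiset.mem_map] at hb
    obtain ⟨a, ha, rfl⟩ := hb
    have ha' : fK.eval a = 0 := (mem_roots'.1 ha).2
    obtain ⟨c, hc⟩ := hdvdK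
    have := congrArg (Polynomial.eval a) hc
    rw [eval_comp, eval_pow, eval_X, eval_mul, ha', zero_mul] at this
    exact this
  have hK0 : hK = 0 := by
    apply eq_zero_of_natDegree_lt_card_of_eval_eq_zero' hK S heval
    rw [hScard]
    exact lt_of_le_of_lt natDegree_map_le hdeg
  exact (Polynomial.map_eq_zero (algebraMap k K)).1 hK0

theorem result {A : Type u} [CommRing A] [IsLocalRing A] (p : ℕ) [Fact p.Prime]
    [CharP (IsLocalRing.ResidueField A) p] (g : Polynomial A) (hg : g.Monic) (hsep : g.Separable) (s : ℕ) :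
    ∃ b : Module.Basis (Fin g.natDegree) A (AdjoinRoot g),
      ∀ i : Fin g.natDegree, b i = AdjoinRoot.root g ^ (p ^ s * (i : ℕ)) := by
  classical
  let k := IsLocalRing.ResidueField A
  let res : A →+* k := IsLocalRing.residue A
  let v : Fin g.natDegree → AdjoinRoot g := fun i => AdjoinRoot.root g ^ (p ^ s * (i : ℕ))
  have hrepr : ∀ i j : Fin g.natDegree, (AdjoinRoot.powerBasisAux' hg).repr (v i) j =
      ((Polynomial.X : Polynomial A) ^ (p ^ s * (i : ℕ)) %ₘ g).coeff j := by
    intro i j
    show (AdjoinRoot.powerBasisAux' hg).repr (v i) j = _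
    rw [AdjoinRoot.powerBasisAux'_repr_apply_to_fun]
    show (AdjoinRoot.modByMonicHom hg (AdjoinRoot.root g ^ _)).coeff _ = _
    rw [← AdjoinRoot.mk_X, ← map_pow, AdjoinRoot.modByMonicHom_mk]
  have hdet : IsUnit ((AdjoinRoot.powerBasisAux' hg).det v) := by
    rw [← IsLocalRing.residue_ne_zero_iff_isUnit, Module.Basis.det_apply, RingHom.map_det]
    intro h0
    obtain ⟨c, hc0, hc⟩ : ∃ c : Fin g.natDegree → k, c ≠ 0 ∧
        ∀ j : Fin g.natDegree, ∑ i : Fin g.natDegree,
          res (((Polynomial.X : Polynomial A) ^ (p ^ s * (i : ℕ)) %ₘ g).coeff j) * c i = 0 := by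
      obtain ⟨c, hc0, hc⟩ := Matrix.exists_mulVec_eq_zero_iff.2 h0
      refine ⟨c, hc0, fun j => ?_⟩
      have h1 : ∑ i, (IsLocalRing.residue A).mapMatrix
          ((AdjoinRoot.powerBasisAux' hg).toMatrix v) j i * c i = 0 := congrFun hc j
      rw [← h1]
      refine Finset.sum_congr rfl (fun i _ => ?_)
      show res _ * c i = res ((AdjoinRoot.powerBasisAux' hg).toMatrix v j i) * c i
      rw [Module.Basis.toMatrix_apply, hrepr]
    let gbar : Polynomial k := g.map res
    have hgbar : gbar.Monic := hg.map res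
    have hdeg : gbar.natDegree = g.natDegree := hg.natDegree_map res
    let h : Polynomial k := ∑ i : Fin g.natDegree, Polynomial.C (c i) * Polynomial.X ^ (i : ℕ)
    have hcomp : h.comp (Polynomial.X ^ (p ^ s)) =
        ∑ i : Fin g.natDegree, c i • (Polynomial.X : Polynomial k) ^ (p ^ s * (i : ℕ)) := by
      show (∑ i : Fin g.natDegree, Polynomial.C (c i) * Polynomial.X ^ (i : ℕ)).comp _ = _
      rw [Polynomial.sum_comp]
      refine Finset.sum_congr rfl (fun i _ => ?_)
      rw [Polynomial.mul_comp, Polynomial.C_comp, Polynomial.X_pow_comp, ← pow_mul,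
        Polynomial.smul_eq_C_mul]
    have hmodX : ∀ i : Fin g.natDegree,
        ((Polynomial.X : Polynomial k) ^ (p ^ s * (i : ℕ)) %ₘ gbar) =
          ((Polynomial.X : Polynomial A) ^ (p ^ s * (i : ℕ)) %ₘ g).map res := by
      intro i
      rw [Polynomial.map_modByMonic res hg, Polynomial.map_pow, Polynomial.map_X]
    have hmod : h.comp (Polynomial.X ^ (p ^ s)) %ₘ gbar = 0 := by
      rw [hcomp, ← Polynomial.modByMonicHom_apply, map_sum]
      ext j
      rw [Polynomial.finsetSum_coeff, Polynomial.coeff_zero]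
      by_cases hj : j < g.natDegree
      · have h1 := hc ⟨j, hj⟩
        rw [← h1]
        refine Finset.sum_congr rfl (fun i _ => ?_)
        rw [map_smul, Polynomial.coeff_smul, Polynomial.modByMonicHom_apply, hmodX,
          Polynomial.coeff_map, smul_eq_mul, mul_comm]
      · refine Finset.sum_eq_zero (fun i _ => ?_)
        rw [map_smul, Polynomial.coeff_smul, Polynomial.modByMonicHom_apply]
        have h2 : ((Polynomial.X : Polynomial k) ^ (p ^ s * (i : ℕ)) %ₘ gbar).degree < j := by
          refine lt_of_lt_of_le (Polynomial.degree_modByMonic_lt _ hgbar) ?_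
          rw [Polynomial.degree_eq_natDegree hgbar.ne_zero, hdeg]
          exact_mod_cast not_lt.1 hj
        rw [Polynomial.coeff_eq_zero_of_degree_lt h2, smul_zero]
    have hdvd : gbar ∣ h.comp (Polynomial.X ^ (p ^ s)) :=
      (Polynomial.modByMonic_eq_zero_iff_dvd hgbar).1 hmod
    have hh : h = 0 := by
      by_contra hne
      have hd : h.natDegree < gbar.natDegree := by
        rw [hdeg, Polynomial.natDegree_lt_iff_degree_lt hne]
        exact Polynomial.degree_sum_fin_lt c
      exact hne (field_key p gbar (hsep.map) s h hd hdvd)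
    apply hc0
    funext i
    have h3 := congrArg (fun f : Polynomial k => f.coeff (i : ℕ)) hh
    simp only [Polynomial.coeff_zero] at h3
    show c i = 0
    rw [← h3]
    show c i = (∑ j : Fin g.natDegree, Polynomial.C (c j) * Polynomial.X ^ (j : ℕ)).coeff (i : ℕ)
    rw [Polynomial.finsetSum_coeff]
    simp only [Polynomial.coeff_C_mul_X_pow]
    rw [Finset.sum_eq_single i]
    · rw [if_pos rfl]
    · intro j _ hji
      rw [if_neg]
      intro h4
      exact hji (Fin.ext h4.symm)
    · intro h5
      exact absurd (Finset.mem_univ i) h5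
  obtain ⟨hli, hsp⟩ := (Module.Basis.is_basis_iff_det (AdjoinRoot.powerBasisAux' hg)).2 hdet
  refine ⟨Module.Basis.mk hli (le_of_eq hsp.symm), fun i => ?_⟩
  rw [Module.Basis.mk_apply]

end Groth.Agent.S13702
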