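import Groth.Statements.S13703
import Groth.Agent.Lib.Helper20.PLTors

set_option autoImplicit false
universe u
open scoped TensorProduct
open ZeroCyc

namespace Groth.Agent.S13703

open Groth.Agent.Helper20.PLKer in
theorem aux_int {A : Type u} [CommRing A] {B : Type u} [CommRing B] [Algebra A B]
    {d : ℕ} (F : PolLaw.MulLaw A B A d) (P : Ideal B) (hP : PolLaw.ker F.law ≤ P) :
    Algebra.IsIntegral A (B ⧸ P) := by
  refine ⟨fun y => ?_⟩
  obtain ⟨b, rfl⟩ := Ideal.Quotient.mk_surjective y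
  obtain ⟨p, hp, hmem⟩ := exists_monic_chiB F b
  refine ⟨p, hp, ?_⟩
  have h1 : Polynomial.aeval (Ideal.Quotient.mkₐ A P b) p =
      Ideal.Quotient.mkₐ A P (Polynomial.aeval b p) :=
    Polynomial.aeval_algHom_apply (Ideal.Quotient.mkₐ A P) b p
  rw [← Polynomial.aeval_def]
  refine h1.trans ?_
  exact Ideal.Quotient.eq_zero_iff_mem.2 (hP hmem)


theorem result {A : Type u} [CommRing A] [IsDomain A] {B : Type u} [CommRing B] [Algebra A B]
    {d : ℕ} (F : PolLaw.MulLaw A B A d) {P : Ideal B} (hP : P ∈ (PolLaw.ker F.law).minimalPrimes) :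
    P.comap (algebraMap A B) = ⊥ ∧
      ∀ q : Ideal A, q.IsPrime → ∃ Q : Ideal B, Q.IsPrime ∧ P ≤ Q ∧ Q.comap (algebraMap A B) = q := by
  have hPprime : P.IsPrime := hP.1.1
  have hle : PolLaw.ker F.law ≤ P := hP.1.2
  have h1 : P.comap (algebraMap A B) = ⊥ := by
    rw [eq_bot_iff]
    intro a ha
    rw [Ideal.mem_comap] at ha
    rw [Ideal.mem_bot]
    by_contra ha0
    rw [Ideal.minimalPrimes_eq_comap] at hP
    obtain ⟨P', hP', rfl⟩ := hP
    rw [Ideal.mem_comap] at ha
    have hnzd : (Ideal.Quotient.mk (PolLaw.ker F.law)) (algebraMap A B a) ∈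
        nonZeroDivisors (B ⧸ PolLaw.ker F.law) := by
      rw [mem_nonZeroDivisors_iff_right]
      intro c hc
      obtain ⟨b, rfl⟩ := Ideal.Quotient.mk_surjective c
      rw [← map_mul, Ideal.Quotient.eq_zero_iff_mem, mul_comm, ← Algebra.smul_def] at hc
      exact Ideal.Quotient.eq_zero_iff_mem.2
        (Groth.Agent.Helper20.PLKer.mem_ker_of_smul_mem F.law a
          (mem_nonZeroDivisors_of_ne_zero ha0) b hc)
    exact Set.disjoint_left.1 (Ideal.disjoint_nonZeroDivisors_of_mem_minimalPrimes hP') ha hnzd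
  refine ⟨h1, fun q hq => ?_⟩
  haveI := aux_int F P hle
  haveI : IsDomain (B ⧸ P) := Ideal.Quotient.isDomain P
  have hker : RingHom.ker (algebraMap A (B ⧸ P)) ≤ q := by
    intro a ha
    rw [RingHom.mem_ker, IsScalarTower.algebraMap_apply A B (B ⧸ P)] at ha
    have : a ∈ P.comap (algebraMap A B) := by
      rw [Ideal.mem_comap]
      exact Ideal.Quotient.eq_zero_iff_mem.1 ha
    rw [h1, Ideal.mem_bot] at this
    rw [this]
    exact zero_mem _
  obtain ⟨Q', hQ'prime, hQ'⟩ :=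
    Ideal.exists_ideal_over_prime_of_isIntegral_of_isDomain (S := B ⧸ P) q hker
  refine ⟨Q'.comap (Ideal.Quotient.mk P), Ideal.comap_isPrime _ _, ?_, ?_⟩
  · intro b hb
    rw [Ideal.mem_comap, Ideal.Quotient.eq_zero_iff_mem.2 hb]
    exact zero_mem _
  · rw [← hQ', Ideal.comap_comap]
    rfl

end Groth.Agent.S13703
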