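import Groth.Statements.S13704
import Groth.Agent.Lib.Helper20.CHGen

set_option autoImplicit false
universe u
open scoped TensorProduct
open ZeroCyc

namespace Groth.Agent.S13704


theorem result {A : Type u} [CommRing A] {B : Type u} [CommRing B] [Algebra A B]
    {d : ℕ} (F : PolLaw.MulLaw A B A d) (A' : Type u) [CommRing A'] [Algebra A A'] :
    GeneralizingMap (PrimeSpectrum.comap (algebraMap A' (A' ⊗[A] PolLaw.image F.law))) := by
  haveI := Groth.Agent.Helper20.PLKer.hasGoingDown_tensor_image F A'
  exact Algebra.HasGoingDown.iff_generalizingMap_primeSpectrumComap.mp inferInstance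

end Groth.Agent.S13704
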