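import Groth.Statements.S13707
import Groth.Agent.Lib.Helper20.CHPts2
import Groth.Agent.S13695

set_option autoImplicit false
universe u
open scoped TensorProduct
open ZeroCyc

namespace Groth.Agent.S13707

open Groth.Agent.Helper20.PLKer in
theorem aux_emb {k : Type u} [Field k] {B : Type u} [CommRing B] [Algebra k B]
    {d : ℕ} (F : PolLaw.MulLaw k B k d) (P : Ideal (B ⧸ PolLaw.ker F.law)) [P.IsMaximal] :
    Finite (Field.Emb k P.ResidueField) := by
  refine (finite_card_le_of_forall_inj d ?_).1
  intro m σ hσ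
  let π : B →ₐ[k] P.ResidueField :=
    (IsScalarTower.toAlgHom k (B ⧸ PolLaw.ker F.law) P.ResidueField).comp
      (Ideal.Quotient.mkₐ k (PolLaw.ker F.law))
  have hπ : Function.Surjective π :=
    (Ideal.algebraMap_residueField_surjective P).comp Ideal.Quotient.mk_surjective
  refine card_algHom_le F (AlgebraicClosure P.ResidueField) m (fun j => (σ j).comp π) ?_ ?_
  · intro i j hij
    apply hσ
    refine AlgHom.ext (fun z => ?_)
    obtain ⟨b, rfl⟩ := hπ z
    exact DFunLike.congr_fun hij b
  · intro j b hb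
    rw [RingHom.mem_ker]
    show σ j (algebraMap (B ⧸ PolLaw.ker F.law) P.ResidueField
      (Ideal.Quotient.mk (PolLaw.ker F.law) b)) = 0
    rw [Ideal.Quotient.eq_zero_iff_mem.2 hb, map_zero, map_zero]


theorem result {k : Type u} [Field k] {B : Type u} [CommRing B] [Algebra k B]
    {d : ℕ} (F : PolLaw.MulLaw k B k d) :
    Finite (PrimeSpectrum (PolLaw.image F.law)) ∧ Nat.card (PrimeSpectrum (PolLaw.image F.law)) ≤ d ∧
      ∀ P : PrimeSpectrum (PolLaw.image F.law), P.asIdeal.IsMaximal ∧
        Finite (Field.Emb k P.asIdeal.ResidueField) := by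
  haveI : Algebra.IsIntegral k (B ⧸ PolLaw.ker F.law) := Groth.Agent.S13695.result F
  have h1 := Groth.Agent.Helper20.PLKer.card_primeSpectrum_le F k (B ⧸ PolLaw.ker F.law)
    (Ideal.Quotient.mkₐ k (PolLaw.ker F.law))
    (fun b hb => by
      rw [RingHom.mem_ker]
      exact Ideal.Quotient.eq_zero_iff_mem.2 hb)
    (by
      rw [eq_top_iff]
      rintro z -
      obtain ⟨b, rfl⟩ := Ideal.Quotient.mk_surjective z
      exact Algebra.subset_adjoin (Set.mem_range_self b))
  refine ⟨h1.1, h1.2, fun P => ?_⟩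
  haveI hmax : P.asIdeal.IsMaximal :=
    Groth.Agent.Helper20.PLKer.isMaximal_of_isIntegral_field k _ P.asIdeal
  exact ⟨hmax, aux_emb F P.asIdeal⟩

end Groth.Agent.S13707
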