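import Groth.Statements.S13708
import Groth.Agent.Lib.Helper2.PrimeAvoid
import Groth.Agent.S10953
-- import your own Groth.Agent.* helpers here

set_option autoImplicit false
universe u
open CategoryTheory CategoryTheory.Limits AlgebraicGeometry
open ZeroCyc

namespace Groth.Agent.S13708

section
open CategoryTheory AlgebraicGeometry TopologicalSpace Limits

theorem main {X S : Scheme.{u}} (f : X ⟶ S) (hX : SymProd.IsAF f) :
    IsSeparated f := by
  classical
  rw [IsZariskiLocalAtTarget.iff_of_iSup_eq_top (P := @IsSeparated) _ (iSup_affineOpens_eq_top S)]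
  intro V
  haveI : IsAffine (V.1 : Scheme.{u}) := V.2
  apply Groth.Agent.S10953.main
  intro x y hxy
  have hxy' : f x.1 = f y.1 := by
    have := congrArg Subtype.val hxy
    rw [morphismRestrict_base_coe, morphismRestrict_base_coe] at this
    exact this
  obtain ⟨U, hU, hUT⟩ := hX (f x.1) {x.1, y.1} (by
    intro z hz
    rw [Finset.mem_insert, Finset.mem_singleton] at hz
    rcases hz with rfl | rfl
    · rfl
    · exact hxy'.symm)
  obtain ⟨a, ha1, ha2⟩ := Groth.Agent.Helper2.PrimeAvoid.exists_basicOpen_of_finite hU
    (f ⁻¹ᵁ V.1) {x.1, y.1} (by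
    intro z hz
    refine ⟨hUT z hz, ?_⟩
    rw [Finset.mem_insert, Finset.mem_singleton] at hz
    rcases hz with rfl | rfl
    · exact x.2
    · exact y.2)
  refine ⟨(f ⁻¹ᵁ V.1).ι ⁻¹ᵁ X.basicOpen a, ?_, ?_, ?_⟩
  · apply (hU.basicOpen a).preimage_of_isOpenImmersion
    rw [Scheme.Opens.opensRange_ι]
    exact ha2
  · exact ha1 x.1 (by simp)
  · exact ha1 y.1 (by simp)

end

/-- Let X be a scheme over S such that every finite set of points of X over a common point of S lies in
some affine open subscheme of X (the condition (AF)). Then X is separated over S. (The published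
condition (AF) asks for an open U with U → S quasi-affine rather than U affine; with U affine, as
here, the same argument applies verbatim, and the two conditions agree over a quasi-separated base.) -/
theorem result {X S : Scheme.{u}} (f : X ⟶ S) (hX : SymProd.IsAF f) :
    IsSeparated f := by
  exact Groth.Agent.S13708.main f hX

end Groth.Agent.S13708
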