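import Groth.Statements.S13715
import Groth.Agent.Lib.Helper20.GDInt

set_option autoImplicit false
universe u
open scoped TensorProduct
open ZeroCyc

namespace Groth.Agent.S13715


theorem result {A : Type u} [CommRing A] {B : Type u} [CommRing B] [Algebra A B] {C : Type u} [CommRing C] [Algebra A C]
    {d : ℕ} (γ : PolLaw.MulLaw A B C d) (hγ : PolLaw.IsGammaD γ) [Module.Finite A B] :
    Module.Finite A C := by
  obtain ⟨E₀, hfg, hV⟩ := Groth.Agent.Helper20.GD.exists_fg_valuedIn γ.law γ.mult
  have h := Groth.Agent.Helper20.GD.eq_top_of_valuedIn γ hγ E₀ hV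
  rw [Module.finite_def]
  rw [h, Algebra.top_toSubmodule] at hfg
  exact hfg

end Groth.Agent.S13715
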