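import Groth.Statements.S13716
import Groth.Agent.Lib.Helper20.GDInt

set_option autoImplicit false
universe u
open scoped TensorProduct
open ZeroCyc

namespace Groth.Agent.S13716


theorem result {A : Type u} [CommRing A] {B : Type u} [CommRing B] [Algebra A B] {C : Type u} [CommRing C] [Algebra A C]
    {d : ℕ} (γ : PolLaw.MulLaw A B C d) (hγ : PolLaw.IsGammaD γ) [Algebra.IsIntegral A B] :
    Algebra.IsIntegral A C := by
  have hV := Groth.Agent.Helper20.GD.valuedIn_integralClosure (E := C) γ
  have h := Groth.Agent.Helper20.GD.eq_top_of_valuedIn γ hγ _ hV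
  constructor
  intro c
  have hc : c ∈ integralClosure A C := by
    rw [h]
    trivial
  exact hc

end Groth.Agent.S13716
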