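import Groth.Statements.S13718
import Groth.Agent.Lib.Helper20.CHUse

set_option autoImplicit false
universe u
open scoped TensorProduct
open ZeroCyc

namespace Groth.Agent.S13718

open Groth.Agent.Helper20.PLKer in
theorem aux1 {A : Type u} [CommRing A] {B : Type u} [CommRing B] [Algebra A B]
    {B' : Type u} [CommRing B'] [Algebra A B'] {d : ℕ} (F : PolLaw.MulLaw A B A d) (φ : B' →ₐ[A] B) :
    (PolLaw.ker F.law).comap φ ≤ PolLaw.ker (F.precomp φ).law := by
  intro b' hb'
  rw [Ideal.mem_comap] at hb'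
  rw [mem_ker_iff]
  intro S _ _ x w
  show F.law.toFun' S (φ.toLinearMap.lTensor S (x + w * (1 ⊗ₜ[A] b'))) =
    F.law.toFun' S (φ.toLinearMap.lTensor S x)
  rw [PolLaw.lTensor_algHom_apply, PolLaw.lTensor_algHom_apply, map_add, map_mul,
    Algebra.TensorProduct.map_tmul, AlgHom.id_apply]
  exact (mem_ker_iff F.law _).1 hb' S _ _

open Groth.Agent.Helper20.PLKer in
theorem aux2 {A : Type u} [CommRing A] {B : Type u} [CommRing B] [Algebra A B]
    {B' : Type u} [CommRing B'] [Algebra A B'] {d : ℕ} (F : PolLaw.MulLaw A B A d) (φ : B' →ₐ[A] B)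
    (b' : B') : chiB (F.precomp φ).law b' = chiB F.law (φ b') := by
  unfold chiB
  congr 1
  show F.law.toFun' _ (φ.toLinearMap.lTensor _ _) = _
  rw [PolLaw.lTensor_algHom_apply, map_sub, Algebra.TensorProduct.map_tmul,
    Algebra.TensorProduct.map_tmul, AlgHom.id_apply, AlgHom.id_apply, map_one]


theorem result {A : Type u} [CommRing A] {B : Type u} [CommRing B] [Algebra A B]
    {B' : Type u} [CommRing B'] [Algebra A B'] {d : ℕ} (F : PolLaw.MulLaw A B A d) (φ : B' →ₐ[A] B) :
    (PolLaw.ker (F.precomp φ).law).radical = ((PolLaw.ker F.law).comap φ).radical := by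
  apply le_antisymm
  · rw [Ideal.radical_le_radical_iff]
    intro b' hb'
    refine ⟨d, ?_⟩
    rw [Ideal.mem_comap, map_pow]
    have h1 := Groth.Agent.Helper20.PLKer.aeval_chiB_mem_ker F (φ b')
    rw [← aux2, Groth.Agent.Helper20.PLKer.chiB_of_mem_ker (F.precomp φ) hb', map_pow, map_neg,
      Polynomial.aeval_X] at h1
    have h3 : φ b' ^ d = (-1) ^ d * (-(φ b')) ^ d := by
      rw [← mul_pow]
      norm_num
    rw [h3]
    exact Ideal.mul_mem_left _ _ h1
  · exact Ideal.radical_mono (aux1 F φ)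

end Groth.Agent.S13718
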