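import Groth.Statements.S13720
import Mathlib

set_option autoImplicit false
universe u
open scoped TensorProduct
open ZeroCyc

namespace Groth.Agent.S13720

section Aux
variable {A : Type u} [CommRing A] {B : Type u} [CommRing B] [Algebra A B]
    {C : Type u} [CommRing C] [Algebra A C] {ι : Type u} [Preorder ι] [IsDirected ι (fun i j => i ≤ j)]
    [Nonempty ι]
    (Bi : ι → Type u) [∀ i, CommRing (Bi i)] [∀ i, Algebra A (Bi i)]
    (t : ∀ i j : ι, i ≤ j → (Bi i →ₐ[A] Bi j)) (φ : ∀ i : ι, Bi i →ₐ[A] B)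

include t in
theorem lift_mono (hcomp : ∀ (i j : ι) (h : i ≤ j), (φ j).comp (t i j h) = φ i)
    (S : Type u) [CommSemiring S] [Algebra A S] (z : S ⊗[A] B) {j j' : ι} (h : j ≤ j')
    (hz : ∃ z' : S ⊗[A] Bi j, Algebra.TensorProduct.map (AlgHom.id S S) (φ j) z' = z) :
    ∃ z' : S ⊗[A] Bi j', Algebra.TensorProduct.map (AlgHom.id S S) (φ j') z' = z := by
  obtain ⟨z', rfl⟩ := hz
  refine ⟨Algebra.TensorProduct.map (AlgHom.id S S) (t j j' h) z', ?_⟩
  rw [← AlgHom.comp_apply, ← Algebra.TensorProduct.map_comp, hcomp]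
  rfl

include t in
theorem exists_lift (hcomp : ∀ (i j : ι) (h : i ≤ j), (φ j).comp (t i j h) = φ i)
    (hsurj : ∀ b : B, ∃ (i : ι) (x : Bi i), φ i x = b)
    (S : Type u) [CommSemiring S] [Algebra A S] (z : S ⊗[A] B) (i₀ : ι) :
    ∃ j, i₀ ≤ j ∧ ∃ z' : S ⊗[A] Bi j, Algebra.TensorProduct.map (AlgHom.id S S) (φ j) z' = z := by
  induction z using TensorProduct.induction_on with
  | zero => exact ⟨i₀, le_rfl, 0, map_zero _⟩
  | tmul s b =>
    obtain ⟨i, x, rfl⟩ := hsurj b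
    obtain ⟨j, hij, hi₀j⟩ := exists_ge_ge i i₀
    refine ⟨j, hi₀j, s ⊗ₜ[A] (t i j hij x), ?_⟩
    rw [Algebra.TensorProduct.map_tmul]
    have := congrArg (fun f => f x) (hcomp i j hij)
    simp only [AlgHom.comp_apply] at this
    rw [this]
    rfl
  | add z₁ z₂ h₁ h₂ =>
    obtain ⟨j₁, hj₁, hz₁⟩ := h₁
    obtain ⟨j₂, hj₂, hz₂⟩ := h₂
    obtain ⟨j, h1, h2⟩ := exists_ge_ge j₁ j₂
    obtain ⟨z₁', hz₁'⟩ := lift_mono Bi t φ hcomp S z₁ h1 hz₁
    obtain ⟨z₂', hz₂'⟩ := lift_mono Bi t φ hcomp S z₂ h2 hz₂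
    exact ⟨j, hj₁.trans h1, z₁' + z₂', by rw [map_add, hz₁', hz₂']⟩

end Aux

theorem result {A : Type u} [CommRing A] {B : Type u} [CommRing B] [Algebra A B]
    {C : Type u} [CommRing C] [Algebra A C] {ι : Type u} [Preorder ι] [IsDirected ι (fun i j => i ≤ j)] [Nonempty ι]
    (Bi : ι → Type u) [∀ i, CommRing (Bi i)] [∀ i, Algebra A (Bi i)]
    (t : ∀ i j : ι, i ≤ j → (Bi i →ₐ[A] Bi j)) (φ : ∀ i : ι, Bi i →ₐ[A] B)
    (hcomp : ∀ (i j : ι) (h : i ≤ j), (φ j).comp (t i j h) = φ i)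
    (hsurj : ∀ b : B, ∃ (i : ι) (x : Bi i), φ i x = b)
    (hzero : ∀ (i : ι) (x : Bi i), φ i x = 0 → ∃ (j : ι) (h : i ≤ j), t i j h x = 0)
    {d : ℕ} (F : PolLaw.MulLaw A B C d) (b : B) :
    b ∈ PolLaw.ker F.law ↔ ∃ (i : ι) (x : Bi i), φ i x = b ∧
      ∀ (j : ι) (h : i ≤ j), t i j h x ∈ PolLaw.ker (F.precomp (φ j)).law := by
  have hmem : ∀ b : B, b ∈ PolLaw.ker F.law ↔ ∀ (S : Type u) [CommSemiring S] [Algebra A S]
      (x w : S ⊗[A] B), F.law.toFun' S (x + w * (1 ⊗ₜ[A] b)) = F.law.toFun' S x := fun b => Iff.rfl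
  have hmem' : ∀ (j : ι) (y : Bi j), y ∈ PolLaw.ker (F.precomp (φ j)).law ↔
      ∀ (S : Type u) [CommSemiring S] [Algebra A S] (x w : S ⊗[A] Bi j),
        F.law.toFun' S (Algebra.TensorProduct.map (AlgHom.id S S) (φ j) (x + w * (1 ⊗ₜ[A] y))) =
          F.law.toFun' S (Algebra.TensorProduct.map (AlgHom.id S S) (φ j) x) := by
    intro j y
    constructor
    · intro h S _ _ x w
      have := h S x w
      change F.law.toFun' S ((φ j).toLinearMap.lTensor S (x + w * (1 ⊗ₜ[A] y))) =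
        F.law.toFun' S ((φ j).toLinearMap.lTensor S x) at this
      rwa [PolLaw.lTensor_algHom_apply, PolLaw.lTensor_algHom_apply] at this
    · intro h S _ _ x w
      change F.law.toFun' S ((φ j).toLinearMap.lTensor S (x + w * (1 ⊗ₜ[A] y))) =
        F.law.toFun' S ((φ j).toLinearMap.lTensor S x)
      rw [PolLaw.lTensor_algHom_apply, PolLaw.lTensor_algHom_apply]
      exact h S x w
  constructor
  · intro hb
    obtain ⟨i, x, hx⟩ := hsurj b
    refine ⟨i, x, hx, fun j h => ?_⟩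
    rw [hmem']
    intro S _ _ x' w'
    rw [map_add, map_mul, Algebra.TensorProduct.map_tmul, map_one]
    have h1 : φ j (t i j h x) = b := by
      have := congrArg (fun f => f x) (hcomp i j h)
      simp only [AlgHom.comp_apply] at this
      rw [this, hx]
    rw [h1]
    exact (hmem b).mp hb S _ _
  · rintro ⟨i, x, hx, hker⟩
    rw [hmem]
    intro S _ _ x' w'
    obtain ⟨j₁, hj₁, hx₁⟩ := exists_lift Bi t φ hcomp hsurj S x' i
    obtain ⟨j₂, hj₂, hw₂⟩ := exists_lift Bi t φ hcomp hsurj S w' i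
    obtain ⟨j, h1, h2⟩ := exists_ge_ge j₁ j₂
    obtain ⟨x'', rfl⟩ := lift_mono Bi t φ hcomp S x' h1 hx₁
    obtain ⟨w'', rfl⟩ := lift_mono Bi t φ hcomp S w' h2 hw₂
    have hij : i ≤ j := hj₁.trans h1
    have h3 := (hmem' j _).mp (hker j hij) S x'' w''
    rw [map_add, map_mul, Algebra.TensorProduct.map_tmul, map_one] at h3
    have h4 : φ j (t i j hij x) = b := by
      have := congrArg (fun f => f x) (hcomp i j hij)
      simp only [AlgHom.comp_apply] at this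
      rw [this, hx]
    rw [h4] at h3
    exact h3

end Groth.Agent.S13720
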