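import Groth.Statements.S13722
import Groth.Agent.Lib.Helper20.PLRed

set_option autoImplicit false
universe u
open scoped TensorProduct
open ZeroCyc

namespace Groth.Agent.S13722


theorem result {A : Type u} [CommRing A] {B : Type u} [CommRing B] [Algebra A B]
    {C : Type u} [CommRing C] [Algebra A C] [IsReduced C] {d : ℕ} (F : PolLaw.MulLaw A B C d) :
    IsReduced (PolLaw.image F.law) := by
  exact Groth.Agent.Helper20.PLKer.isReduced_image F.law F.mult

end Groth.Agent.S13722
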