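import Groth.Statements.S13723
import Groth.Agent.Lib.Helper20.CHPts2
import Groth.Agent.S13695

set_option autoImplicit false
universe u
open scoped TensorProduct
open ZeroCyc

namespace Groth.Agent.S13723


theorem result {A : Type u} [CommRing A] {B : Type u} [CommRing B] [Algebra A B]
    {d : ℕ} (F : PolLaw.MulLaw A B A d) (K : Type u) [Field K] [Algebra A K] :
    Finite (PrimeSpectrum (K ⊗[A] PolLaw.image F.law)) ∧
      Nat.card (PrimeSpectrum (K ⊗[A] PolLaw.image F.law)) ≤ d := by
  haveI : Algebra.IsIntegral A (B ⧸ PolLaw.ker F.law) := Groth.Agent.S13695.result F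
  let g : B →ₐ[A] K ⊗[A] (B ⧸ PolLaw.ker F.law) :=
    (Algebra.TensorProduct.includeRight : (B ⧸ PolLaw.ker F.law) →ₐ[A] K ⊗[A] (B ⧸ PolLaw.ker F.law)).comp
      (Ideal.Quotient.mkₐ A (PolLaw.ker F.law))
  refine Groth.Agent.Helper20.PLKer.card_primeSpectrum_le F K (K ⊗[A] (B ⧸ PolLaw.ker F.law)) g ?_ ?_
  · intro b hb
    rw [RingHom.mem_ker]
    show (1 : K) ⊗ₜ[A] (Ideal.Quotient.mk (PolLaw.ker F.law) b) = 0
    rw [Ideal.Quotient.eq_zero_iff_mem.2 hb, TensorProduct.tmul_zero]
  · rw [eq_top_iff]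
    rintro z -
    induction z using TensorProduct.induction_on with
    | zero => exact zero_mem _
    | tmul k c =>
      obtain ⟨b, rfl⟩ := Ideal.Quotient.mk_surjective c
      have : k ⊗ₜ[A] (Ideal.Quotient.mk (PolLaw.ker F.law) b) = k • g b := by
        show _ = k • ((1 : K) ⊗ₜ[A] (Ideal.Quotient.mk (PolLaw.ker F.law) b))
        rw [TensorProduct.smul_tmul', smul_eq_mul, mul_one]
      rw [this]
      exact Subalgebra.smul_mem _ (Algebra.subset_adjoin (Set.mem_range_self b)) k
    | add x y hx hy => exact add_mem hx hy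

end Groth.Agent.S13723
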