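import Groth.Statements.S13724
import Groth.Agent.S13695
import Groth.Agent.S13723

set_option autoImplicit false
universe u
open scoped TensorProduct
open ZeroCyc

namespace Groth.Agent.S13724

theorem finite_fibre (A C : Type u) [CommRing A] [CommRing C] [Algebra A C] (𝔪 : Ideal A)
    (hfin : Finite (PrimeSpectrum ((A ⧸ 𝔪) ⊗[A] C))) :
    {M : MaximalSpectrum C | M.asIdeal.comap (algebraMap A C) = 𝔪}.Finite := by
  have key : ∀ M : {M : MaximalSpectrum C // M.asIdeal.comap (algebraMap A C) = 𝔪},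
      ∃ Q : PrimeSpectrum ((A ⧸ 𝔪) ⊗[A] C),
        Q.asIdeal.comap (Algebra.TensorProduct.includeRight : C →ₐ[A] (A ⧸ 𝔪) ⊗[A] C) =
          M.1.asIdeal := by
    rintro ⟨M, hM⟩
    haveI := M.isMaximal
    have h0 : ∀ a : A, a ∈ 𝔪 → (Algebra.ofId A (C ⧸ M.asIdeal)) a = 0 := by
      intro a ha
      rw [← hM, Ideal.mem_comap] at ha
      show algebraMap A (C ⧸ M.asIdeal) a = 0
      rw [IsScalarTower.algebraMap_apply A C (C ⧸ M.asIdeal)]
      exact Ideal.Quotient.eq_zero_iff_mem.2 ha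
    let Φ : (A ⧸ 𝔪) ⊗[A] C →ₐ[A] C ⧸ M.asIdeal :=
      Algebra.TensorProduct.productMap (Ideal.Quotient.liftₐ 𝔪 (Algebra.ofId A (C ⧸ M.asIdeal)) h0)
        (Ideal.Quotient.mkₐ A M.asIdeal)
    refine ⟨⟨RingHom.ker Φ, RingHom.ker_isPrime _⟩, ?_⟩
    ext c
    rw [Ideal.mem_comap, RingHom.mem_ker, Algebra.TensorProduct.includeRight_apply]
    show Φ ((1 : A ⧸ 𝔪) ⊗ₜ[A] c) = 0 ↔ _
    simp only [Φ, Algebra.TensorProduct.productMap_apply_tmul, map_one, one_mul]
    exact Ideal.Quotient.eq_zero_iff_mem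
  choose g hg using key
  have hinj : Function.Injective g := by
    intro M M' h
    apply Subtype.ext
    apply MaximalSpectrum.ext
    rw [← hg M, ← hg M', h]
  exact Set.finite_coe_iff.1 (Finite.of_injective g hinj)


theorem result {A : Type u} [CommRing A] [Finite (MaximalSpectrum A)] {B : Type u} [CommRing B] [Algebra A B]
    {d : ℕ} (F : PolLaw.MulLaw A B A d) :
    Finite (MaximalSpectrum (PolLaw.image F.law)) := by
  haveI hint : Algebra.IsIntegral A (B ⧸ PolLaw.ker F.law) := Groth.Agent.S13695.result F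
  let h : MaximalSpectrum (B ⧸ PolLaw.ker F.law) → MaximalSpectrum A := fun M =>
    ⟨M.asIdeal.comap (algebraMap A (B ⧸ PolLaw.ker F.law)),
      haveI := M.isMaximal
      Ideal.isMaximal_comap_of_isIntegral_of_isMaximal (R := A) M.asIdeal⟩
  have huniv : (Set.univ : Set (MaximalSpectrum (B ⧸ PolLaw.ker F.law))).Finite := by
    refine Set.Finite.of_finite_fibers h (Set.toFinite _) ?_
    intro 𝔪 _
    haveI := 𝔪.isMaximal
    letI : Field (A ⧸ 𝔪.asIdeal) := Ideal.Quotient.field _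
    have h1 := (Groth.Agent.S13723.result F (A ⧸ 𝔪.asIdeal)).1
    refine (finite_fibre A (B ⧸ PolLaw.ker F.law) 𝔪.asIdeal h1).subset ?_
    rintro M ⟨-, hM⟩
    rw [Set.mem_preimage, Set.mem_singleton_iff] at hM
    show Ideal.comap _ M.asIdeal = 𝔪.asIdeal
    rw [← hM]
  exact Set.finite_univ_iff.1 huniv

end Groth.Agent.S13724
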