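import Groth.Statements.S13725
import Mathlib

set_option autoImplicit false
universe u
open scoped TensorProduct
open ZeroCyc

namespace Groth.Agent.S13725


theorem result {k : Type u} [Field k] (p : ℕ) [Fact p.Prime] [CharP k p] :
    PolLaw.ker (PolLaw.MulLaw.pow k k p).law = ⊥ ∧
      PolLaw.kerBC (PolLaw.MulLaw.pow k k p).law (AdjoinRoot ((Polynomial.X : Polynomial k) ^ p)) ≠ ⊥ := by
  have hp : p.Prime := Fact.out
  constructor
  · rw [eq_bot_iff]
    intro b hb
    have hb' : ∀ (S : Type u) [CommSemiring S] [Algebra k S] (x w : S ⊗[k] k),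
        (x + w * ((1 : S) ⊗ₜ[k] b)) ^ p = x ^ p := hb
    have h := hb' k 0 1
    rw [zero_add, one_mul, zero_pow hp.ne_zero] at h
    have h2 := congrArg (Algebra.TensorProduct.lid k k) h
    rw [map_pow, map_zero] at h2
    simp only [Algebra.TensorProduct.lid_tmul, one_smul] at h2
    simpa using pow_eq_zero_iff hp.ne_zero |>.1 h2
  · intro hbot
    have hmem : ((AdjoinRoot.root ((Polynomial.X : Polynomial k) ^ p)) ⊗ₜ[k] (1 : k)) ∈
        PolLaw.kerBC (PolLaw.MulLaw.pow k k p).law (AdjoinRoot ((Polynomial.X : Polynomial k) ^ p)) := by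
      intro R _ _ _ _ x w
      show (x + w * _) ^ p = x ^ p
      obtain ⟨r, hr⟩ := exists_add_pow_prime_eq hp x
        (w * Algebra.TensorProduct.map (IsScalarTower.toAlgHom k (AdjoinRoot ((Polynomial.X : Polynomial k) ^ p)) R)
          (AlgHom.id k k) ((AdjoinRoot.root ((Polynomial.X : Polynomial k) ^ p)) ⊗ₜ[k] (1 : k)))
      rw [hr]
      have hp0 : ((p : ℕ) : R ⊗[k] k) = 0 := by
        rw [← map_natCast (algebraMap k (R ⊗[k] k)) p, CharP.cast_eq_zero, map_zero]
      have hroot : (AdjoinRoot.root ((Polynomial.X : Polynomial k) ^ p)) ^ p = 0 := by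
        have := AdjoinRoot.eval₂_root ((Polynomial.X : Polynomial k) ^ p)
        simpa using this
      rw [hp0, mul_pow, ← map_pow, Algebra.TensorProduct.tmul_pow, hroot]
      simp
    rw [hbot, Ideal.mem_bot] at hmem
    have h2 := congrArg (Algebra.TensorProduct.rid k k (AdjoinRoot ((Polynomial.X : Polynomial k) ^ p))) hmem
    simp only [Algebra.TensorProduct.rid_tmul, one_smul, map_zero] at h2
    rw [← AdjoinRoot.mk_X, AdjoinRoot.mk_eq_zero] at h2
    have hd := Polynomial.natDegree_le_of_dvd h2 Polynomial.X_ne_zero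
    rw [Polynomial.natDegree_X_pow, Polynomial.natDegree_X] at hd
    exact absurd hd (by have := hp.two_le; omega)

end Groth.Agent.S13725
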