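import Groth.Statements.S13726
import Mathlib

set_option autoImplicit false
universe u
open scoped TensorProduct
open ZeroCyc

namespace Groth.Agent.S13726

section aux
variable (k : Type u) [Field k] (p : ℕ)

/-- the ideal `(t_i^p)` -/
noncomputable abbrev Ip : Ideal (MvPolynomial ℕ k) :=
  Ideal.span (Set.range fun i : ℕ => (MvPolynomial.X i : MvPolynomial ℕ k) ^ p)

/-- the ring `k[t_i]/(t_i^p)` -/
noncomputable abbrev Qp : Type u := MvPolynomial ℕ k ⧸ Ip k p

variable {k p}

theorem mem_span_X_of_constantCoeff (f : MvPolynomial ℕ k) (h : MvPolynomial.constantCoeff f = 0) :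
    f ∈ Ideal.span (Set.range fun i : ℕ => (MvPolynomial.X i : MvPolynomial ℕ k)) := by
  have h1 := (MvPolynomial.mem_pow_idealOfVars_iff' (σ := ℕ) (R := k) 1 f).2 (by
    intro x hx
    have hx0 : x = 0 := by
      have : x.degree = 0 := by omega
      exact (Finsupp.degree_eq_zero_iff x).1 this
    rw [hx0]
    exact h)
  rw [pow_one] at h1
  exact h1

variable [hp : Fact p.Prime] [CharP k p]

theorem natCast_eq_zero (T : Type u) [CommSemiring T] [Algebra (Qp k p) T] : (p : T) = 0 := by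
  have h1 : (p : T) = algebraMap (Qp k p) T (algebraMap k (Qp k p) (p : k)) := by
    rw [map_natCast, map_natCast]
  rw [h1, CharP.cast_eq_zero, map_zero, map_zero]

theorem add_pow_p {T : Type u} [CommSemiring T] (hT : (p : T) = 0) (x y : T) :
    (x + y) ^ p = x ^ p + y ^ p := by
  obtain ⟨r, hr⟩ := exists_add_pow_prime_eq hp.out x y
  rw [hr, hT]
  simp

theorem key1 {T : Type u} [CommSemiring T] (hT : (p : T) = 0) (x w c : T) (hc : c ^ p = 0) :
    (x + w * c) ^ p = x ^ p := by
  rw [add_pow_p hT, mul_pow, hc, mul_zero, add_zero]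

theorem key2 {T : Type u} [CommSemiring T] (c : T) (h : (0 + 1 * c) ^ p = 0 ^ p) : c ^ p = 0 := by
  rw [zero_add, one_mul, zero_pow hp.out.ne_zero] at h
  exact h

theorem pow_mem_ker (b : Qp k p) (hb : b ^ p = 0) :
    b ∈ PolLaw.ker (PolLaw.MulLaw.pow (Qp k p) (Qp k p) p).law := by
  intro S _ _ x w
  refine key1 (natCast_eq_zero (k := k) (S ⊗[Qp k p] Qp k p)) x w _ ?_
  rw [Algebra.TensorProduct.tmul_pow, hb, TensorProduct.tmul_zero]

theorem tmul_pow_eq_zero_of_mem_ker (b : Qp k p)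
    (hb : b ∈ PolLaw.ker (PolLaw.MulLaw.pow (Qp k p) (Qp k p) p).law)
    (S : Type u) [CommSemiring S] [Algebra (Qp k p) S] :
    ((1 : S) ⊗ₜ[Qp k p] b) ^ p = 0 :=
  key2 _ (hb S 0 1)

theorem pow_eq_zero_of_mem_ker (b : Qp k p)
    (hb : b ∈ PolLaw.ker (PolLaw.MulLaw.pow (Qp k p) (Qp k p) p).law) : b ^ p = 0 := by
  have h2 := tmul_pow_eq_zero_of_mem_ker b hb (Qp k p)
  have h3 := congrArg (Algebra.TensorProduct.lid (Qp k p) (Qp k p)) h2
  rw [map_pow, Algebra.TensorProduct.lid_tmul, one_smul, map_zero] at h3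
  exact h3

/-- evaluation at the origin -/
noncomputable def eps : Qp k p →ₐ[k] k :=
  Ideal.Quotient.liftₐ (Ip k p) (MvPolynomial.aeval (fun _ : ℕ => (0 : k))) (by
    intro a ha
    have : Ip k p ≤ RingHom.ker (MvPolynomial.aeval (fun _ : ℕ => (0 : k)) :
        MvPolynomial ℕ k →ₐ[k] k) := by
      rw [Ideal.span_le]
      rintro _ ⟨i, rfl⟩
      show _ ∈ RingHom.ker _
      rw [RingHom.mem_ker, map_pow, MvPolynomial.aeval_X, zero_pow hp.out.ne_zero]
    exact this ha)

theorem eps_mk (f : MvPolynomial ℕ k) :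
    eps (k := k) (p := p) (Ideal.Quotient.mk (Ip k p) f) = MvPolynomial.constantCoeff f := by
  show MvPolynomial.aeval (fun _ : ℕ => (0 : k)) f = _
  rw [MvPolynomial.aeval_zero']
  rfl

/-- the ideal generated by the classes of the variables -/
noncomputable abbrev Jp (k : Type u) [Field k] (p : ℕ) : Ideal (Qp k p) :=
  (Ideal.span (Set.range fun i : ℕ => (MvPolynomial.X i : MvPolynomial ℕ k))).map
    (Ideal.Quotient.mk (Ip k p))

theorem ker_eq : PolLaw.ker (PolLaw.MulLaw.pow (Qp k p) (Qp k p) p).law = Jp k p := by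
  apply le_antisymm
  · intro b hb
    have h1 := pow_eq_zero_of_mem_ker b hb
    obtain ⟨f, rfl⟩ := Ideal.Quotient.mk_surjective b
    have h2 : eps (k := k) (p := p) (Ideal.Quotient.mk (Ip k p) f) = 0 := by
      have := congrArg (eps (k := k) (p := p)) h1
      rw [map_pow, map_zero] at this
      exact eq_zero_of_pow_eq_zero this
    rw [eps_mk] at h2
    exact Ideal.mem_map_of_mem _ (mem_span_X_of_constantCoeff f h2)
  · rw [Ideal.map_le_iff_le_comap, Ideal.span_le]
    rintro _ ⟨i, rfl⟩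
    show _ ∈ PolLaw.ker _
    apply pow_mem_ker
    rw [← map_pow]
    exact Ideal.Quotient.eq_zero_iff_mem.2 (Ideal.subset_span ⟨i, rfl⟩)

open DualNumber in
/-- the map to the dual numbers sending `t_N` to `ε` and the other variables to `0` -/
noncomputable def psi (N : ℕ) : Qp k p →ₐ[k] DualNumber k :=
  Ideal.Quotient.liftₐ (Ip k p)
    (MvPolynomial.aeval (fun i : ℕ => if i = N then (DualNumber.eps : DualNumber k) else 0)) (by
    intro a ha
    have : Ip k p ≤ RingHom.ker (MvPolynomial.aeval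
        (fun i : ℕ => if i = N then (DualNumber.eps : DualNumber k) else 0) :
        MvPolynomial ℕ k →ₐ[k] DualNumber k) := by
      rw [Ideal.span_le]
      rintro _ ⟨i, rfl⟩
      show _ ∈ RingHom.ker _
      rw [RingHom.mem_ker, map_pow, MvPolynomial.aeval_X]
      split_ifs
      · have h2 : 2 ≤ p := hp.out.two_le
        obtain ⟨m, rfl⟩ := Nat.exists_eq_add_of_le h2
        rw [pow_add, pow_two, DualNumber.eps_mul_eps, zero_mul]
      · exact zero_pow hp.out.ne_zero
    exact this ha)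

theorem psi_mk_X (N i : ℕ) :
    psi (k := k) (p := p) N (Ideal.Quotient.mk (Ip k p) (MvPolynomial.X i)) =
      if i = N then (DualNumber.eps : DualNumber k) else 0 := by
  show MvPolynomial.aeval _ (MvPolynomial.X i) = _
  rw [MvPolynomial.aeval_X]

theorem not_fg : ¬ (Jp k p).FG := by
  classical
  intro hfg
  have hc := (Submodule.fg_iff_compact (Jp k p)).1 hfg
  have hle : Jp k p ≤ ⨆ i : ℕ, (Ideal.span {(MvPolynomial.X i : MvPolynomial ℕ k)}).map
      (Ideal.Quotient.mk (Ip k p)) := by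
    show Ideal.map _ (Ideal.span _) ≤ _
    rw [Ideal.span, Submodule.span_range_eq_iSup]
    exact le_of_eq (Ideal.map_iSup _ _)
  obtain ⟨s, hs⟩ := CompleteLattice.IsCompactElement.exists_finset_of_le_iSup _ hc _ hle
  let N := s.sup id + 1
  have hN : ∀ i ∈ s, i ≠ N := by
    intro i hi h
    have : i ≤ s.sup id := Finset.le_sup (f := id) hi
    omega
  have h1 : (⨆ i ∈ s, (Ideal.span {(MvPolynomial.X i : MvPolynomial ℕ k)}).map
      (Ideal.Quotient.mk (Ip k p))) ≤ RingHom.ker (psi (k := k) (p := p) N) := by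
    refine iSup₂_le (fun i hi => ?_)
    rw [Ideal.map_le_iff_le_comap, Ideal.span_le]
    rintro _ rfl
    show _ ∈ RingHom.ker _
    rw [RingHom.mem_ker, psi_mk_X, if_neg (hN i hi)]
  have h2 : Ideal.Quotient.mk (Ip k p) (MvPolynomial.X N) ∈ Jp k p :=
    Ideal.mem_map_of_mem _ (Ideal.subset_span ⟨N, rfl⟩)
  have h3 := h1 (hs h2)
  rw [RingHom.mem_ker, psi_mk_X, if_pos rfl] at h3
  have h4 := congrArg TrivSqZeroExt.snd h3
  rw [DualNumber.snd_eps] at h4
  exact one_ne_zero h4

end aux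

theorem result {k : Type u} [Field k] (p : ℕ) [Fact p.Prime] [CharP k p] :
    PolLaw.ker (PolLaw.MulLaw.pow
        (MvPolynomial ℕ k ⧸ Ideal.span (Set.range fun i : ℕ => (MvPolynomial.X i : MvPolynomial ℕ k) ^ p))
        (MvPolynomial ℕ k ⧸ Ideal.span (Set.range fun i : ℕ => (MvPolynomial.X i : MvPolynomial ℕ k) ^ p)) p).law =
      (Ideal.span (Set.range fun i : ℕ => (MvPolynomial.X i : MvPolynomial ℕ k))).map
        (Ideal.Quotient.mk (Ideal.span (Set.range fun i : ℕ => (MvPolynomial.X i : MvPolynomial ℕ k) ^ p))) ∧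
    ¬ (PolLaw.ker (PolLaw.MulLaw.pow
        (MvPolynomial ℕ k ⧸ Ideal.span (Set.range fun i : ℕ => (MvPolynomial.X i : MvPolynomial ℕ k) ^ p))
        (MvPolynomial ℕ k ⧸ Ideal.span (Set.range fun i : ℕ => (MvPolynomial.X i : MvPolynomial ℕ k) ^ p)) p).law).FG := by
  refine ⟨ker_eq, ?_⟩
  rw [ker_eq]
  exact not_fg

end Groth.Agent.S13726
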