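import Groth.Statements.S13727
import Groth.Agent.Lib.Helper20.PLIdem2
import Groth.Agent.Lib.Helper20.SpecComp

set_option autoImplicit false
universe u
open scoped TensorProduct
open ZeroCyc

namespace Groth.Agent.S13727


theorem result {A : Type u} [CommRing A] [ConnectedSpace (PrimeSpectrum A)]
    {B : Type u} [CommRing B] [Algebra A B] {d : ℕ} (F : PolLaw.MulLaw A B A d) :
    Finite (ConnectedComponents (PrimeSpectrum (PolLaw.image F.law))) ∧
      Nat.card (ConnectedComponents (PrimeSpectrum (PolLaw.image F.law))) ≤ d := by
  apply Groth.Agent.Helper20.SpecComp.card_connectedComponents_le d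
  intro m ebar hebar
  obtain ⟨hid, horth, hsum, hnz⟩ := hebar
  have hsurj : Function.Surjective (Ideal.Quotient.mk (PolLaw.ker F.law)) :=
    Ideal.Quotient.mk_surjective
  choose e he using fun i => hsurj (ebar i)
  apply Groth.Agent.Helper20.PLKer.card_le_degree m d F.law F.mult F.homog e
  · intro i j hij
    rw [← Ideal.Quotient.eq_zero_iff_mem, map_mul, he, he]
    exact horth i j hij
  · rw [← Ideal.Quotient.eq_zero_iff_mem, map_sub, map_sum, map_one]
    simp only [he]
    rw [hsum, sub_self]
  · intro i hi
    rw [← Ideal.Quotient.eq_zero_iff_mem, he] at hi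
    exact hnz i hi

end Groth.Agent.S13727
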