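import Groth.Statements.S1373
import Groth.Agent.Lib.Helper4.UOpen6

set_option autoImplicit false
universe u
open FlatMor

namespace Groth.Agent.S1373

open AlgebraicGeometry CategoryTheory Limits in
/-- (1) ⇔ (3): a morphism f : X → S is universally open if and only if for every n the induced morphism
from affine n-space over X to affine n-space over S is open. -/
theorem result {X S : Scheme.{u}} (f : X ⟶ S) :
    UniversallyOpen f ↔ ∀ n : ℕ, IsOpenMap ⇑(AffineSpace.map (ULift.{u} (Fin n)) f) := by
  constructor
  · intro hf n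
    haveI : UniversallyOpen (AffineSpace.map (ULift.{u} (Fin n)) f) :=
      MorphismProperty.of_isPullback (P := @UniversallyOpen)
        (AffineSpace.isPullback_map (n := ULift.{u} (Fin n)) f).flip hf
    exact (AffineSpace.map (ULift.{u} (Fin n)) f).isOpenMap
  · intro h
    apply Groth.Agent.Helper4.UOpen.universallyOpen_of_affineSpace f
    intro n _
    have hp := AffineSpace.isPullback_map (n := ULift.{u} (Fin n)) f
    -- `𝔸ⁿ_X ≅ X ×_S 𝔸ⁿ_S`
    let e : 𝔸(ULift.{u} (Fin n); X) ≅ CategoryTheory.Limits.pullback f (𝔸(ULift.{u} (Fin n); S) ↘ S) :=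
      hp.flip.isoPullback
    have he : e.inv ≫ AffineSpace.map (ULift.{u} (Fin n)) f =
        CategoryTheory.Limits.pullback.snd f (𝔸(ULift.{u} (Fin n); S) ↘ S) :=
      hp.flip.isoPullback_inv_snd
    rw [← he]
    change IsOpenMap ((AffineSpace.map (ULift.{u} (Fin n)) f).base ∘ e.inv.base)
    exact (h n).comp e.inv.homeomorph.isOpenMap

end Groth.Agent.S1373
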