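import Groth.Statements.S13731
import Groth.Agent.Lib.Helper22.SubmSpec

set_option autoImplicit false
universe u
open HTop

namespace Groth.Agent.S13731

open CategoryTheory CategoryTheory.Limits AlgebraicGeometry in
/-- Let X be a separated Noetherian scheme and {p_i : U_i → X} a finite family of separated morphisms of
finite type whose induced morphism from the disjoint union of the U_i to X is universally submersive
(an h-covering). Then every point x of X is p_i(u) for some i and some point u of U_i admitting a
generization ξ in U_i whose image p_i(ξ) is a generic point of an irreducible component of X.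
Equivalently, the irreducible components of the U_i dominating an irreducible component of X jointly
cover X. -/
theorem result {X : Scheme.{u}} [IsNoetherian X] [X.IsSeparated] (E : PreZeroHypercover.{u} X) [Finite E.I₀] [∀ i, LocallyOfFiniteType (E.f i)] [∀ i, QuasiCompact (E.f i)] [∀ i, IsSeparated (E.f i)] (hE : SGA1.UnivSubmersive (Sigma.desc E.f)) (x : X) : ∃ (i : E.I₀) (ξ u : E.X i), ξ ⤳ u ∧ E.f i u = x ∧ closure {E.f i ξ} ∈ irreducibleComponents ↥X := by
  classical
  -- the generic point of an irreducible component through x
  have hirr : IsIrreducible (irreducibleComponent x) := isIrreducible_irreducibleComponent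
  set η : X := hirr.genericPoint with hη
  have hgen : closure {η} = irreducibleComponent x := by
    have h1 := hirr.isGenericPoint_genericPoint_closure
    rw [isClosed_irreducibleComponent.closure_eq] at h1
    exact h1.def
  have hsp : η ⤳ x := by
    rw [specializes_iff_mem_closure, hgen]
    exact mem_irreducibleComponent
  obtain ⟨ξ₀, u₀, hξu, hξ₀, hu₀⟩ :=
    Groth.Agent.Helper22.SubmSpec.exists_specializes_lift (Sigma.desc E.f) hE hsp
  obtain ⟨⟨i, u⟩, hiu⟩ := (sigmaMk E.X).surjective u₀
  rw [sigmaMk_mk] at hiu
  have hξmem : ξ₀ ∈ Set.range (Sigma.ι E.X i) :=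
    hξu.mem_open (Sigma.ι E.X i).isOpenEmbedding.isOpen_range ⟨u, hiu⟩
  obtain ⟨ξ, hξ⟩ := hξmem
  refine ⟨i, ξ, u, ?_, ?_, ?_⟩
  · rw [← (Sigma.ι E.X i).isOpenEmbedding.toIsInducing.specializes_iff, hξ, hiu]
    exact hξu
  · rw [← hu₀, ← hiu, ← Scheme.Hom.comp_apply, Sigma.ι_desc]
  · have : E.f i ξ = η := by
      rw [← hξ₀, ← hξ, ← Scheme.Hom.comp_apply, Sigma.ι_desc]
    rw [this, hgen]
    exact irreducibleComponent_mem_irreducibleComponents x

end Groth.Agent.S13731
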