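import Groth.Statements.S14771
import Groth.Agent.Lib.Helper22.SubtrNoeth

set_option autoImplicit false
universe u
open CategoryTheory CategoryTheory.Limits AlgebraicGeometry
open Subtr

namespace Groth.Agent.S14771

/-- Let Y be locally Noetherian and f : X ⟶ Y quasi-compact and locally of finite type. The following
are equivalent: (i) f is universally submersive; (ii) every base change of f has the lifting
property for ordered pairs of points; (iii) for every discrete valuation ring D and morphism g :
Spec D ⟶ Y there are a discrete valuation ring D', a morphism a : Spec D' ⟶ X and a surjective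
morphism b : Spec D' ⟶ Spec D with a ≫ f = b ≫ g. (The published statement assumes f only locally of
finite type. Quasi-compactness cannot be dropped: over the local ring of a regular surface at a
closed point s, the disjoint union of the punctured surface, a regular curve C through s and, for
every n ≥ 1, the n-fold blow-up along successive points of the strict transform of C with the n-th
such point removed, satisfies (iii) with D' = D, while (ii) fails at a valuation ring of rank two
whose centres are exactly the removed points; the limit argument behind the published proof uses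
quasi-compactness of the fibres.) -/
theorem result {X Y : Scheme.{u}} [IsLocallyNoetherian Y]
    (f : X ⟶ Y) [LocallyOfFiniteType f] [QuasiCompact f] :
    List.TFAE [
      SGA1.UnivSubmersive f,
      Subtr.UnivSSubtrusive f,
      ∀ (D : Type u) [CommRing D] [IsDomain D] [IsDiscreteValuationRing D] (g : Spec (CommRingCat.of D) ⟶ Y),
        ∃ (D' : Type u) (_ : CommRing D') (_ : IsDomain D') (_ : IsDiscreteValuationRing D')
          (a : Spec (CommRingCat.of D') ⟶ X) (b : Spec (CommRingCat.of D') ⟶ Spec (CommRingCat.of D)),
          Surjective b ∧ a ≫ f = b ≫ g] := by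
  tfae_have 1 → 2 := Groth.Agent.Helper22.SubtrNoeth.univSSubtrusive_of_univSubmersive f
  tfae_have 2 → 1 := Groth.Agent.Helper22.SubtrNoeth.univSubmersive_of_univSSubtrusive f
  tfae_have 1 → 3 := by
    intro hf D _ _ _ g
    have hfD := Groth.Agent.Helper22.SubtrNoeth.univSubmersive_pullback_snd f g hf
    haveI : IsLocallyNoetherian (Spec (CommRingCat.of D)) := inferInstance
    have hηs : (⟨⊥, Ideal.isPrime_bot⟩ : PrimeSpectrum D) ⤳ IsLocalRing.closedPoint D :=
      (PrimeSpectrum.le_iff_specializes _ _).1 bot_le
    obtain ⟨ξ, u, hξu, hξ, hu⟩ :=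
      Groth.Agent.Helper22.SubmSpec.exists_specializes_lift (pullback.snd f g) hfD hηs
    haveI : LocallyOfFiniteType (pullback.snd f g) :=
      MorphismProperty.pullback_snd (P := @LocallyOfFiniteType) _ _ inferInstance
    haveI : IsLocallyNoetherian (pullback f g) :=
      LocallyOfFiniteType.isLocallyNoetherian (pullback.snd f g)
    obtain ⟨D', _, _, _, k, hk1, hk2⟩ :=
      Groth.Agent.Helper22.SubtrNoeth.exists_dvr_of_specializes hξu
    refine ⟨D', inferInstance, inferInstance, inferInstance, k ≫ pullback.fst f g,
      k ≫ pullback.snd f g, ⟨?_⟩, ?_⟩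
    · intro z
      rcases Groth.Agent.S14766.dvr_prime_cases D z with rfl | rfl
      · exact ⟨(⟨⊥, Ideal.isPrime_bot⟩ : PrimeSpectrum D'), by
          rw [Scheme.Hom.comp_apply, hk2, hξ]⟩
      · exact ⟨IsLocalRing.closedPoint D', by
          rw [Scheme.Hom.comp_apply, hk1, hu]⟩
    · rw [Category.assoc, Category.assoc, pullback.condition]
  tfae_have 3 → 2 := by
    intro h3
    apply Groth.Agent.Helper22.SubtrAn.univSSubtrusive_of_affineSpace f
    intro n _
    haveI : IsLocallyNoetherian (AffineSpace (ULift.{u} (Fin n)) Y) :=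
      LocallyOfFiniteType.isLocallyNoetherian (AffineSpace (ULift.{u} (Fin n)) Y ↘ Y)
    intro y y' hyy
    obtain ⟨D, _, _, _, g, hg1, hg2⟩ :=
      Groth.Agent.Helper22.SubtrNoeth.exists_dvr_of_specializes hyy
    obtain ⟨D', _, _, _, a, b, hb, hab⟩ :=
      h3 D (g ≫ (AffineSpace (ULift.{u} (Fin n)) Y ↘ Y))
    obtain ⟨hb1, hb2⟩ :=
      Groth.Agent.Helper22.SubtrNoeth.dvr_surjective_points D D' b hb.surj
    let c : Spec (CommRingCat.of D') ⟶ pullback f (AffineSpace (ULift.{u} (Fin n)) Y ↘ Y) :=
      pullback.lift a (b ≫ g) (by rw [Category.assoc]; exact hab)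
    have hc : c ≫ pullback.snd f (AffineSpace (ULift.{u} (Fin n)) Y ↘ Y) = b ≫ g :=
      pullback.lift_snd _ _ _
    have hsp' : (⟨⊥, Ideal.isPrime_bot⟩ : PrimeSpectrum D') ⤳ IsLocalRing.closedPoint D' :=
      (PrimeSpectrum.le_iff_specializes _ _).1 bot_le
    refine ⟨c (IsLocalRing.closedPoint D'), c (⟨⊥, Ideal.isPrime_bot⟩ : PrimeSpectrum D'),
      hsp'.map c.continuous, ?_, ?_⟩
    · rw [← Scheme.Hom.comp_apply, hc, Scheme.Hom.comp_apply, hb1, hg1]
    · rw [← Scheme.Hom.comp_apply, hc, Scheme.Hom.comp_apply, hb2, hg2]
  tfae_finish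

end Groth.Agent.S14771
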