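import Groth.Statements.S13738
import Groth.Agent.Lib.Helper23.OrbitTopo

set_option autoImplicit false
universe u
open SGA1

namespace Groth.Agent.S13738

open CategoryTheory CategoryTheory.Limits AlgebraicGeometry in
/-- Let S be a separated irreducible Noetherian scheme, q : X → S finite and surjective with X
separated, and G a finite group acting on X by S-automorphisms, transitively on the geometric points
of X over every geometric point of S. Then every irreducible component of X maps onto S and G acts
transitively on the set of irreducible components of X. -/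
theorem result {X S : Scheme.{u}} [IsNoetherian S] [S.IsSeparated] [X.IsSeparated] [IrreducibleSpace ↥S] (q : X ⟶ S) [IsFinite q] [Surjective q] {G : Type u} [Group G] [Finite G] (ρ : G →* Aut X) (hρ : ∀ g : G, (ρ g).hom ≫ q = q) (htrans : ∀ (Ω : Type u) [Field Ω] [IsAlgClosed Ω] (τ₁ τ₂ : Spec (CommRingCat.of Ω) ⟶ X), τ₁ ≫ q = τ₂ ≫ q → ∃ g : G, τ₁ ≫ (ρ g).hom = τ₂) : (∀ T ∈ irreducibleComponents ↥X, Set.image (fun x => q x) T = Set.univ) ∧ ∀ T₁ ∈ irreducibleComponents ↥X, ∀ T₂ ∈ irreducibleComponents ↥X, ∃ g : G, Set.image (fun x => (ρ g).hom x) T₁ = T₂ := by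
  -- pointwise transitivity
  have htr : ∀ x y : X, q x = q y → ∃ g : G, (ρ g).hom x = y := by
    intro x y hxy
    obtain ⟨z, hz1, hz2⟩ := Scheme.Pullback.exists_preimage_pullback (f := q) (g := q) x y hxy
    obtain ⟨Ω, _, _, t, ht0⟩ : ∃ (Ω : Type u) (_ : Field Ω) (_ : IsAlgClosed Ω)
        (t : Spec (CommRingCat.of Ω) ⟶ pullback q q), t default = z :=
      ⟨AlgebraicClosure ((pullback q q).residueField z), inferInstance, inferInstance,
        Spec.map (CommRingCat.ofHom (algebraMap ((pullback q q).residueField z)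
          (AlgebraicClosure ((pullback q q).residueField z)))) ≫
        (pullback q q).fromSpecResidueField z, by
          rw [Scheme.Hom.comp_apply, Scheme.fromSpecResidueField_apply]⟩
    obtain ⟨g, hg⟩ := htrans Ω (t ≫ pullback.fst q q) (t ≫ pullback.snd q q)
      (by rw [Category.assoc, Category.assoc, pullback.condition])
    refine ⟨g, ?_⟩
    have h1 := congrArg (fun τ : Spec (CommRingCat.of Ω) ⟶ X => τ default) hg
    simp only [Scheme.Hom.comp_apply, ht0, hz1, hz2] at h1
    exact h1
  haveI : IsLocallyNoetherian X := LocallyOfFiniteType.isLocallyNoetherian q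
  haveI : CompactSpace X := QuasiCompact.compactSpace_of_compactSpace q
  haveI : IsNoetherian X := {}
  have hfin : (irreducibleComponents ↥X).Finite :=
    TopologicalSpace.NoetherianSpace.finite_irreducibleComponents
  have hcompat : ∀ (g : G) (x : X), q (Scheme.homeoOfIso (ρ g) x) = q x := by
    intro g x
    rw [Scheme.homeoOfIso_apply, ← Scheme.Hom.comp_apply, hρ]
  have key := Groth.Agent.Helper23.OrbitTopo.main (fun x : X => q x) q.isClosedMap q.surjective
    (fun g : G => Scheme.homeoOfIso (ρ g)) hcompat
    (fun x y hxy => by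
      obtain ⟨g, hg⟩ := htr x y hxy
      exact ⟨g, by rw [Scheme.homeoOfIso_apply]; exact hg⟩) hfin
  refine ⟨key.1, ?_⟩
  intro T₁ hT₁ T₂ hT₂
  obtain ⟨g, hg⟩ := key.2 T₁ hT₁ T₂ hT₂
  refine ⟨g, ?_⟩
  rw [← hg]
  apply Set.image_congr
  intro x _
  rw [Scheme.homeoOfIso_apply]

end Groth.Agent.S13738
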