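import Groth.Statements.S13739
import Groth.Agent.Lib.Helper23.SigmaFinite

set_option autoImplicit false
universe u
open SGA1

namespace Groth.Agent.S13739

open CategoryTheory CategoryTheory.Limits AlgebraicGeometry in
/-- Let S be a separated Noetherian scheme, q : X → S finite surjective with X separated, G a finite
group acting on X by S-automorphisms and transitively on the geometric points of X over every
geometric point of S, and r : Y → X a morphism with Y separated. If υ is the morphism from the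
disjoint union of G copies of Y to Y ×_S X (Y over S through r ≫ q) whose σ-th component is (id_Y, r
≫ σ), then υ is finite and surjective. -/
theorem result {X S Y : Scheme.{u}} [IsNoetherian S] [S.IsSeparated] [X.IsSeparated] [Y.IsSeparated] (q : X ⟶ S) [IsFinite q] [Surjective q] {G : Type u} [Group G] [Finite G] (ρ : G →* Aut X) (hρ : ∀ g : G, (ρ g).hom ≫ q = q) (htrans : ∀ (Ω : Type u) [Field Ω] [IsAlgClosed Ω] (τ₁ τ₂ : Spec (CommRingCat.of Ω) ⟶ X), τ₁ ≫ q = τ₂ ≫ q → ∃ g : G, τ₁ ≫ (ρ g).hom = τ₂) (r : Y ⟶ X) (υ : (∐ fun _ : G => Y) ⟶ pullback (r ≫ q) q) (hυ₁ : ∀ σ : G, Sigma.ι (fun _ : G => Y) σ ≫ υ ≫ pullback.fst (r ≫ q) q = 𝟙 Y) (hυ₂ : ∀ σ : G, Sigma.ι (fun _ : G => Y) σ ≫ υ ≫ pullback.snd (r ≫ q) q = r ≫ (ρ σ).hom) : IsFinite υ ∧ Surjective υ := by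
  constructor
  · haveI : IsFinite (pullback.fst (r ≫ q) q) := inferInstance
    have h1 : υ ≫ pullback.fst (r ≫ q) q = Sigma.desc (fun _ : G => 𝟙 Y) := by
      apply Sigma.hom_ext
      intro σ
      rw [Sigma.ι_desc, hυ₁ σ]
    haveI : IsFinite (υ ≫ pullback.fst (r ≫ q) q) := by
      rw [h1]
      exact Groth.Agent.Helper23.SigmaFinite.isFinite_sigmaDesc _ _
    exact IsFinite.of_comp υ (pullback.fst (r ≫ q) q)
  · constructor
    intro z
    obtain ⟨Ω, _, _, t, ht0⟩ : ∃ (Ω : Type u) (_ : Field Ω) (_ : IsAlgClosed Ω)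
        (t : Spec (CommRingCat.of Ω) ⟶ pullback (r ≫ q) q), t default = z :=
      ⟨AlgebraicClosure ((pullback (r ≫ q) q).residueField z), inferInstance, inferInstance,
        Spec.map (CommRingCat.ofHom (algebraMap ((pullback (r ≫ q) q).residueField z)
          (AlgebraicClosure ((pullback (r ≫ q) q).residueField z)))) ≫
        (pullback (r ≫ q) q).fromSpecResidueField z, by
          rw [Scheme.Hom.comp_apply, Scheme.fromSpecResidueField_apply]⟩
    obtain ⟨g, hg⟩ := htrans Ω (t ≫ pullback.fst (r ≫ q) q ≫ r) (t ≫ pullback.snd (r ≫ q) q)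
      (by
        rw [Category.assoc, Category.assoc, Category.assoc, pullback.condition])
    have ht : t = (t ≫ pullback.fst (r ≫ q) q ≫ Sigma.ι (fun _ : G => Y) g) ≫ υ := by
      apply pullback.hom_ext
      · rw [Category.assoc, Category.assoc, Category.assoc, hυ₁ g, Category.comp_id]
      · rw [Category.assoc, Category.assoc, Category.assoc, hυ₂ g, ← hg, Category.assoc,
          Category.assoc]
    refine ⟨(t ≫ pullback.fst (r ≫ q) q ≫ Sigma.ι (fun _ : G => Y) g) default, ?_⟩
    rw [← Scheme.Hom.comp_apply, ← ht, ht0]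

end Groth.Agent.S13739
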