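import Groth.Statements.S1374
import Groth.Agent.Lib.Helper22.ClFib8

set_option autoImplicit false
universe u
open FlatMor

namespace Groth.Agent.S1374

open AlgebraicGeometry CategoryTheory Limits in
theorem key {X S : Scheme.{u}} (f : X ⟶ S) [LocallyOfFiniteType f] (x x' : X) (hsp : x ⤳ x') (hne : f x ≠ f x')
    (hcl : IsClosed (Subtype.val ⁻¹' {x'} : Set ↑(f ⁻¹' {f x'})))
    (U' : Set X) (hU' : IsOpen U') (hxU' : x ∈ U') :
    ∃ x₁ : X, x₁ ∈ U' ∧ f x₁ = f x ∧ IsClosed (Subtype.val ⁻¹' {x₁} : Set ↑(f ⁻¹' {f x})) ∧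
      x ⤳ x₁ ∧ x₁ ⤳ x' := by
  obtain ⟨W, hW, hs'W, -⟩ := (TopologicalSpace.Opens.isBasis_iff_nbhd.mp S.isBasis_affineOpens)
    (show f x' ∈ (⊤ : S.Opens) from trivial)
  obtain ⟨V, hV, hx'V, hVW⟩ := (TopologicalSpace.Opens.isBasis_iff_nbhd.mp X.isBasis_affineOpens)
    (show x' ∈ f ⁻¹ᵁ W from hs'W)
  have hW : IsAffineOpen W := hW
  have hV : IsAffineOpen V := hV
  have hxV : x ∈ V := hsp.mem_open V.2 hx'V
  letI : Algebra Γ(S, W) Γ(X, V) := (f.appLE W V hVW).hom.toAlgebra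
  haveI : Algebra.FiniteType Γ(S, W) Γ(X, V) := LocallyOfFiniteType.finiteType_appLE f hW hV hVW
  have hcomm : ∀ y : Spec Γ(X, V), f (hV.fromSpec y) = hW.fromSpec (Spec.map (f.appLE W V hVW) y) := by
    intro y
    have h := congrArg (fun g : Spec Γ(X, V) ⟶ S => g y) (IsAffineOpen.SpecMap_appLE_fromSpec f hW hV hVW)
    simp only [Scheme.Hom.comp_apply] at h
    exact h.symm
  have hinjW : Function.Injective hW.fromSpec := hW.fromSpec.isOpenEmbedding.injective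
  have hinjV : Function.Injective hV.fromSpec := hV.fromSpec.isOpenEmbedding.injective
  have hfib : ∀ y₁ y₂ : PrimeSpectrum Γ(X, V), f (hV.fromSpec y₁) = f (hV.fromSpec y₂) ↔
      y₁.asIdeal.comap (algebraMap Γ(S, W) Γ(X, V)) = y₂.asIdeal.comap (algebraMap Γ(S, W) Γ(X, V)) := by
    intro y₁ y₂
    rw [hcomm, hcomm]
    constructor
    · intro h
      have h' := hinjW h
      exact congrArg PrimeSpectrum.asIdeal h'
    · intro h
      have h' : Spec.map (f.appLE W V hVW) y₁ = Spec.map (f.appLE W V hVW) y₂ := PrimeSpectrum.ext h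
      rw [h']
  have hspec : ∀ y₁ y₂ : PrimeSpectrum Γ(X, V), hV.fromSpec y₁ ⤳ hV.fromSpec y₂ ↔ y₁.asIdeal ≤ y₂.asIdeal := by
    intro y₁ y₂
    exact (hV.fromSpec.isOpenEmbedding.isInducing.specializes_iff).trans
      (PrimeSpectrum.le_iff_specializes y₁ y₂).symm
  have hrange : ∀ z : X, z ∈ V → ∃ y : PrimeSpectrum Γ(X, V), hV.fromSpec y = z := by
    intro z hz
    have : z ∈ Set.range hV.fromSpec := by rw [hV.range_fromSpec]; exact hz
    exact this
  obtain ⟨yx, rfl⟩ := hrange x hxV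
  obtain ⟨yx', rfl⟩ := hrange x' hx'V
  have hle : yx.asIdeal ≤ yx'.asIdeal := (hspec _ _).mp hsp
  have hne' : yx.asIdeal.comap (algebraMap Γ(S, W) Γ(X, V)) ≠ yx'.asIdeal.comap (algebraMap Γ(S, W) Γ(X, V)) :=
    fun h => hne ((hfib _ _).mpr h)
  have hcl' : ∀ Q : Ideal Γ(X, V), Q.IsPrime → yx'.asIdeal ≤ Q →
      Q.comap (algebraMap Γ(S, W) Γ(X, V)) = yx'.asIdeal.comap (algebraMap Γ(S, W) Γ(X, V)) →
      Q = yx'.asIdeal := by
    intro Q hQ hle' hco
    let yQ : PrimeSpectrum Γ(X, V) := ⟨Q, hQ⟩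
    have h1 : f (hV.fromSpec yQ) = f (hV.fromSpec yx') := (hfib yQ yx').mpr hco
    have h2 : hV.fromSpec yx' ⤳ hV.fromSpec yQ := (hspec yx' yQ).mpr hle'
    let a : ↑(f ⁻¹' {f (hV.fromSpec yx')}) := ⟨hV.fromSpec yx', rfl⟩
    let b : ↑(f ⁻¹' {f (hV.fromSpec yx')}) := ⟨hV.fromSpec yQ, h1⟩
    have h3 : a ⤳ b := (Topology.IsInducing.subtypeVal.specializes_iff (x := a) (y := b)).mp h2
    have h4 : b ∈ (Subtype.val ⁻¹' {hV.fromSpec yx'} : Set ↑(f ⁻¹' {f (hV.fromSpec yx')})) :=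
      h3.mem_closed hcl rfl
    have h5 : hV.fromSpec yQ = hV.fromSpec yx' := h4
    have h6 : yQ = yx' := hinjV h5
    exact congrArg PrimeSpectrum.asIdeal h6
  have hopen : IsOpen (hV.fromSpec ⁻¹' U') := hU'.preimage hV.fromSpec.continuous
  obtain ⟨_, ⟨g, rfl⟩, hgx, hgU⟩ := PrimeSpectrum.isTopologicalBasis_basic_opens.exists_subset_of_mem_open
    (show yx ∈ hV.fromSpec ⁻¹' U' from hxU') hopen
  have hgx' : g ∉ yx.asIdeal := (PrimeSpectrum.mem_basicOpen g yx).mp hgx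
  obtain ⟨q₁, hq₁, hqq₁, hq₁q', hco₁, hg₁, hmax⟩ :=
    Groth.Agent.Helper22.ClFib.exists_prime_between (A := Γ(S, W)) (B := Γ(X, V))
      yx.asIdeal yx'.asIdeal hle hne' hcl' g hgx'
  let y₁ : PrimeSpectrum Γ(X, V) := ⟨q₁, hq₁⟩
  have hfx₁ : f (hV.fromSpec y₁) = f (hV.fromSpec yx) := (hfib y₁ yx).mpr hco₁
  refine ⟨hV.fromSpec y₁, ?_, hfx₁, ?_, (hspec yx y₁).mpr hqq₁, (hspec y₁ yx').mpr hq₁q'⟩
  · exact hgU ((PrimeSpectrum.mem_basicOpen g y₁).mpr hg₁)
  · -- closedness in the fibre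
    haveI : JacobsonSpace ↑(f ⁻¹' {f (hV.fromSpec yx)}) :=
      JacobsonSpace.of_isOpenEmbedding (f.fiberHomeo (f (hV.fromSpec yx))).symm.isOpenEmbedding
    let z₁ : ↑(f ⁻¹' {f (hV.fromSpec yx)}) := ⟨hV.fromSpec y₁, hfx₁⟩
    have hset : (Subtype.val ⁻¹' {hV.fromSpec y₁} : Set ↑(f ⁻¹' {f (hV.fromSpec yx)})) = {z₁} :=
      Set.ext fun z => ⟨fun h => Subtype.ext h, fun h => congrArg Subtype.val h⟩
    rw [hset]
    apply isClosed_singleton_of_isLocallyClosed_singleton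
    refine ⟨Subtype.val ⁻¹' (V : Set X), closure {z₁}, V.2.preimage continuous_subtype_val,
      isClosed_closure, ?_⟩
    apply Set.Subset.antisymm
    · intro z hz
      rw [Set.mem_singleton_iff] at hz
      subst hz
      refine ⟨?_, subset_closure rfl⟩
      show hV.fromSpec y₁ ∈ (V : Set X)
      rw [← hV.range_fromSpec]
      exact Set.mem_range_self _
    · rintro z ⟨hzV, hzc⟩
      obtain ⟨yz, hyz⟩ := hrange z.val hzV
      have hs1 : z₁ ⤳ z := specializes_iff_mem_closure.mpr hzc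
      have hs2 : hV.fromSpec y₁ ⤳ hV.fromSpec yz := by
        rw [hyz]
        exact (Topology.IsInducing.subtypeVal.specializes_iff (x := z₁) (y := z)).mpr hs1
      have hle₁ : q₁ ≤ yz.asIdeal := (hspec y₁ yz).mp hs2
      have hfz : f (hV.fromSpec yz) = f (hV.fromSpec yx) := by
        rw [hyz]; exact z.2
      have hco : yz.asIdeal.comap (algebraMap Γ(S, W) Γ(X, V)) =
          yx.asIdeal.comap (algebraMap Γ(S, W) Γ(X, V)) := (hfib yz yx).mp hfz
      have heq : yz.asIdeal = q₁ := hmax yz.asIdeal yz.2 hle₁ hco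
      have heq' : yz = y₁ := PrimeSpectrum.ext heq
      rw [Set.mem_singleton_iff]
      apply Subtype.ext
      show z.val = hV.fromSpec y₁
      rw [← hyz, heq']

open AlgebraicGeometry CategoryTheory Limits in
/-- Let f : X ⟶ S be locally of finite type and x ⤳ x' a specialization of points of X, with x' a closed
point of its fibre f⁻¹(f(x')) and f(x) ≠ f(x'). Then the points x₁ with f(x₁) = f(x) which are
closed in the fibre f⁻¹(f(x)) and satisfy x ⤳ x₁ ⤳ x' are dense in the closure of {x} intersected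
with the fibre f⁻¹(f(x)) (fibres taken as subspaces of X). (The published statement omits the
condition f(x) ≠ f(x'), but the claim fails without it; it is stated here with that condition.) -/
theorem result {X S : Scheme.{u}} (f : X ⟶ S) [LocallyOfFiniteType f] (x x' : X) (hsp : x ⤳ x') (hne : f x ≠ f x')
    (hcl : IsClosed (Subtype.val ⁻¹' {x'} : Set ↑(f ⁻¹' {f x'}))) :
    Dense (Subtype.val ⁻¹' {x₁ : ↑X | f x₁ = f x ∧ IsClosed (Subtype.val ⁻¹' {x₁} : Set ↑(f ⁻¹' {f x})) ∧ x ⤳ x₁ ∧ x₁ ⤳ x'} :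
      Set ↑(closure {x} ∩ f ⁻¹' {f x})) := by
  rw [dense_iff_inter_open]
  intro U hU hne'
  obtain ⟨U', hU', rfl⟩ := isOpen_induced_iff.mp hU
  obtain ⟨z, hz⟩ := hne'
  have hxz : x ⤳ z.val := specializes_iff_mem_closure.mpr z.2.1
  have hxU' : x ∈ U' := hxz.mem_open hU' hz
  obtain ⟨x₁, hx₁U, h1, h2, h3, h4⟩ := key f x x' hsp hne hcl U' hU' hxU'
  exact ⟨⟨x₁, specializes_iff_mem_closure.mp h3, h1⟩, hx₁U, h1, h2, h3, h4⟩

end Groth.Agent.S1374
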