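import Groth.Statements.S13740
import Groth.Agent.Lib.Helper23.SigmaFinite
import Groth.Agent.S13739

set_option autoImplicit false
universe w u
open SGA1

namespace Groth.Agent.S13740

section Aux
open CategoryTheory CategoryTheory.Limits AlgebraicGeometry

theorem univSubmersive_of_finite_surjective {X Y : Scheme.{u}} (p : X ⟶ Y) [IsFinite p]
    [Surjective p] : SGA1.UnivSubmersive p := by
  intro X' Y' i₁ i₂ f' hpb
  haveI : IsFinite f' := MorphismProperty.of_isPullback hpb.flip inferInstance
  haveI : Surjective f' := MorphismProperty.of_isPullback hpb.flip inferInstance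
  exact f'.isClosedMap.isQuotientMap f'.continuous f'.surjective

theorem univSubmersive_sigmaDesc {ι : Type u} [Finite ι] {S : Scheme.{u}} (Y : ι → Scheme.{u})
    (f : ∀ i, Y i ⟶ S) [∀ i, IsFinite (f i)] (hs : ∀ s : S, ∃ i, s ∈ Set.range (f i)) :
    SGA1.UnivSubmersive (Sigma.desc f) := by
  haveI := Groth.Agent.Helper23.SigmaFinite.isFinite_sigmaDesc Y f
  haveI : Surjective (Sigma.desc f) := by
    constructor
    intro s
    obtain ⟨i, y, rfl⟩ := hs s
    refine ⟨Sigma.ι Y i y, ?_⟩
    rw [← Scheme.Hom.comp_apply, Sigma.ι_desc]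
  exact univSubmersive_of_finite_surjective _

end Aux

open CategoryTheory CategoryTheory.Limits AlgebraicGeometry in
/-- Let S be a separated Noetherian scheme, π : X → S finite and surjective with X separated, G a finite
group acting on X by S-automorphisms and transitively on the geometric points of X over every
geometric point of S, and F a presheaf of sets on schemes satisfying the sheaf condition for every
finite family of quasi-finite morphisms of finite type whose induced morphism from the disjoint
union is universally submersive (a qfh-sheaf). Then pulling back along π identifies F(S) with the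
G-invariant elements of F(X): F(π) is injective with image the invariants. (The published statement
takes F a qfh-sheaf on Noetherian schemes over S; this row takes a presheaf on all schemes with the
sheaf property for every such family, a stronger hypothesis.) -/
theorem result {X S : Scheme.{u}} [IsNoetherian S] [S.IsSeparated] [X.IsSeparated] (q : X ⟶ S) [IsFinite q] [Surjective q] {G : Type u} [Group G] [Finite G] (ρ : G →* Aut X) (hρ : ∀ g : G, (ρ g).hom ≫ q = q) (htrans : ∀ (Ω : Type u) [Field Ω] [IsAlgClosed Ω] (τ₁ τ₂ : Spec (CommRingCat.of Ω) ⟶ X), τ₁ ≫ q = τ₂ ≫ q → ∃ g : G, τ₁ ≫ (ρ g).hom = τ₂) (F : Scheme.{u}ᵒᵖ ⥤ Type w) (hF : ∀ ⦃T : Scheme.{u}⦄ (E : PreZeroHypercover.{u} T), Finite E.I₀ → (∀ i, LocallyOfFiniteType (E.f i)) → (∀ i, QuasiCompact (E.f i)) → (∀ i, LocallyQuasiFinite (E.f i)) → SGA1.UnivSubmersive (Sigma.desc E.f) → Presieve.IsSheafFor F E.presieve₀) : Function.Injective (F.map q.op) ∧ Set.range (F.map q.op) = {f : F.obj (Opposite.op X) | ∀ g : G, F.map (ρ g).hom.op f = f} := by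
  -- the sheaf condition for the covering `q`
  have hq := hF (PreZeroHypercover.singleton q) (inferInstanceAs (Finite PUnit))
    (fun _ => inferInstanceAs (LocallyOfFiniteType q)) (fun _ => inferInstanceAs (QuasiCompact q))
    (fun _ => inferInstanceAs (LocallyQuasiFinite q))
    (by
      haveI : ∀ i : PUnit.{u+1}, IsFinite ((PreZeroHypercover.singleton q).f i) :=
        fun _ => inferInstanceAs (IsFinite q)
      exact univSubmersive_sigmaDesc _ _ (fun s => ⟨PUnit.unit, q.surjective s⟩))
  rw [PreZeroHypercover.presieve₀_singleton, Presieve.isSheafFor_singleton] at hq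
  -- the covering of the fibre product
  have hcond : ∀ σ : G, 𝟙 X ≫ (𝟙 X ≫ q) = (ρ σ).hom ≫ q := by
    intro σ
    rw [Category.id_comp, Category.id_comp, hρ]
  let E₂ : PreZeroHypercover.{u} (pullback (𝟙 X ≫ q) q) :=
    { I₀ := G
      X := fun _ => X
      f := fun σ => pullback.lift (𝟙 X) (ρ σ).hom (hcond σ) }
  have hfst : ∀ σ : G, E₂.f σ ≫ pullback.fst (𝟙 X ≫ q) q = 𝟙 X := fun σ => pullback.lift_fst _ _ _
  have hsnd : ∀ σ : G, E₂.f σ ≫ pullback.snd (𝟙 X ≫ q) q = (ρ σ).hom :=
    fun σ => pullback.lift_snd _ _ _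
  have hfin₂ : ∀ σ : G, IsFinite (E₂.f σ) := by
    intro σ
    haveI : IsFinite (E₂.f σ ≫ pullback.fst (𝟙 X ≫ q) q) := by
      rw [hfst]; infer_instance
    exact IsFinite.of_comp (E₂.f σ) (pullback.fst (𝟙 X ≫ q) q)
  have h13739 := Groth.Agent.S13739.result q ρ hρ htrans (𝟙 X) (Sigma.desc E₂.f)
    (fun σ => by rw [← Category.assoc, Sigma.ι_desc]; exact hfst σ)
    (fun σ => by
      rw [← Category.assoc, Sigma.ι_desc]
      exact (hsnd σ).trans (Category.id_comp _).symm)
  have hE₂ := hF E₂ (inferInstanceAs (Finite G))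
    (fun σ => by haveI := hfin₂ σ; infer_instance)
    (fun σ => by haveI := hfin₂ σ; infer_instance)
    (fun σ => by haveI := hfin₂ σ; infer_instance)
    (by
      haveI := h13739.1
      haveI := h13739.2
      exact univSubmersive_of_finite_surjective _)
  constructor
  · intro a b hab
    obtain ⟨y, -, hy⟩ := hq (F.map q.op a) (by
      intro Z p₁ p₂ hp
      rw [← FunctorToTypes.map_comp_apply, ← FunctorToTypes.map_comp_apply, ← op_comp, ← op_comp,
        hp])
    rw [hy a rfl, hy b hab.symm]
  · ext f
    simp only [Set.mem_range, Set.mem_ofPred_eq]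
    constructor
    · rintro ⟨a, rfl⟩ g
      rw [← FunctorToTypes.map_comp_apply, ← op_comp, hρ]
    · intro hf
      have hpr : F.map (pullback.fst (𝟙 X ≫ q) q).op f = F.map (pullback.snd (𝟙 X ≫ q) q).op f := by
        apply hE₂.isSeparatedFor.ext
        rintro _ _ ⟨σ⟩
        rw [← FunctorToTypes.map_comp_apply, ← FunctorToTypes.map_comp_apply, ← op_comp,
          ← op_comp, hfst, hsnd, hf σ, op_id, FunctorToTypes.map_id_apply]
      obtain ⟨y, hy, -⟩ := hq f (by
        intro Z p₁ p₂ hp
        obtain ⟨l, hl₁, hl₂⟩ : ∃ l : Z ⟶ pullback (𝟙 X ≫ q) q,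
            l ≫ pullback.fst (𝟙 X ≫ q) q = p₁ ∧ l ≫ pullback.snd (𝟙 X ≫ q) q = p₂ :=
          ⟨pullback.lift p₁ p₂ (by rw [Category.id_comp, hp]), pullback.lift_fst _ _ _,
            pullback.lift_snd _ _ _⟩
        rw [← hl₁, ← hl₂, op_comp, op_comp, FunctorToTypes.map_comp_apply,
          FunctorToTypes.map_comp_apply, hpr])
      exact ⟨y, hy⟩

end Groth.Agent.S13740
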