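import Groth.Statements.S13741

set_option autoImplicit false
universe u
open SGA1

namespace Groth.Agent.S13741

section Aux
open CategoryTheory CategoryTheory.Limits AlgebraicGeometry

theorem exists_repr {X : Scheme.{u}} {K : Type u} [Field K] (τ : Spec (CommRingCat.of K) ⟶ X) :
    ∃ (x : X) (φ : X.residueField x ⟶ CommRingCat.of K), τ = Spec.map φ ≫ X.fromSpecResidueField x :=
  ⟨_, _, (Scheme.descResidueField_stalkClosedPointTo_fromSpecResidueField K X τ).symm⟩

theorem repr_inj {S : Scheme.{u}} {K : Type u} [Field K] (y : S)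
    (ψ₁ ψ₂ : S.residueField y ⟶ CommRingCat.of K)
    (h : Spec.map ψ₁ ≫ S.fromSpecResidueField y = Spec.map ψ₂ ≫ S.fromSpecResidueField y) :
    ψ₁ = ψ₂ := by
  have h1 : (Scheme.SpecToEquivOfField K S).symm ⟨y, ψ₁⟩ =
      (Scheme.SpecToEquivOfField K S).symm ⟨y, ψ₂⟩ := h
  have h2 := (Scheme.SpecToEquivOfField K S).symm.injective h1
  rw [Scheme.SpecToEquivOfField_eq_iff] at h2
  obtain ⟨e, h3⟩ := h2
  simpa using h3

theorem same_point {X S : Scheme.{u}} (q : X ⟶ S) {G : Type u} [Group G] (ρ : G →* Aut X)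
    (h2 : ∀ x : X, @Normal (S.residueField (q x)) (X.residueField x) _ _
      (q.residueFieldMap x).hom.toAlgebra)
    (h3 : ∀ (x : X) (σ : X.residueField x ≅ X.residueField x),
      q.residueFieldMap x ≫ σ.hom = q.residueFieldMap x →
      ∃ g : G, X.fromSpecResidueField x ≫ (ρ g).hom = Spec.map σ.hom ≫ X.fromSpecResidueField x)
    (Ω : Type u) [Field Ω] (x : X) (φ₁ φ₂ : X.residueField x ⟶ CommRingCat.of Ω)
    (hτ : (Spec.map φ₁ ≫ X.fromSpecResidueField x) ≫ q =
      (Spec.map φ₂ ≫ X.fromSpecResidueField x) ≫ q) :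
    ∃ g : G, (Spec.map φ₁ ≫ X.fromSpecResidueField x) ≫ (ρ g).hom =
      Spec.map φ₂ ≫ X.fromSpecResidueField x := by
  have hr : q.residueFieldMap x ≫ φ₁ = q.residueFieldMap x ≫ φ₂ := by
    apply repr_inj (q x)
    rw [Spec.map_comp, Spec.map_comp, Category.assoc, Category.assoc,
      Scheme.Hom.SpecMap_residueFieldMap_fromSpecResidueField, ← Category.assoc, ← Category.assoc]
    exact hτ
  letI algFE : Algebra (S.residueField (q x)) (X.residueField x) :=
    (q.residueFieldMap x).hom.toAlgebra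
  letI algEΩ : Algebra (X.residueField x) Ω := φ₁.hom.toAlgebra
  letI algFΩ : Algebra (S.residueField (q x)) Ω := (q.residueFieldMap x ≫ φ₁).hom.toAlgebra
  haveI : IsScalarTower (S.residueField (q x)) (X.residueField x) Ω :=
    IsScalarTower.of_algebraMap_eq (fun _ => rfl)
  haveI : Normal (S.residueField (q x)) (X.residueField x) := h2 x
  let φ₂' : X.residueField x →ₐ[S.residueField (q x)] Ω :=
    { φ₂.hom with
      commutes' := fun a => by
        have := congrArg (fun ψ => ψ.hom a) hr
        exact this.symm }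
  let σ : X.residueField x ≃ₐ[S.residueField (q x)] X.residueField x :=
    AlgHom.restrictNormal' φ₂' (X.residueField x)
  have hσ : ∀ a, φ₁.hom (σ a) = φ₂.hom a := by
    intro a
    exact AlgHom.restrictNormal_commutes φ₂' (X.residueField x) a
  let σi : X.residueField x ≅ X.residueField x := (σ : X.residueField x ≃+* X.residueField x).toCommRingCatIso
  have hσr : q.residueFieldMap x ≫ σi.hom = q.residueFieldMap x := by
    ext a
    exact σ.commutes a
  obtain ⟨g, hg⟩ := h3 x σi hσr
  refine ⟨g, ?_⟩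
  rw [Category.assoc, hg, ← Category.assoc, ← Spec.map_comp]
  congr 2
  ext a
  exact hσ a

end Aux

open CategoryTheory CategoryTheory.Limits AlgebraicGeometry in
/-- Let S be a separated Noetherian scheme, q : X → S finite and surjective with X separated, and G a
finite group acting on X by S-automorphisms. Assume that G acts transitively on every fibre of q,
that each residue field extension k(x)/k(q x) is normal, and that for each x every k(q
x)-automorphism of k(x) is induced by an element of G fixing x. Then for every algebraically closed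
field Ω, any two Ω-points of X with the same composite to S are conjugate under G. -/
theorem result {X S : Scheme.{u}} [IsNoetherian S] [S.IsSeparated] [X.IsSeparated] (q : X ⟶ S) [IsFinite q] [Surjective q] {G : Type u} [Group G] [Finite G] (ρ : G →* Aut X) (hρ : ∀ g : G, (ρ g).hom ≫ q = q) (h1 : ∀ x y : X, q x = q y → ∃ g : G, (ρ g).hom x = y) (h2 : ∀ x : X, @Normal (S.residueField (q x)) (X.residueField x) _ _ (q.residueFieldMap x).hom.toAlgebra) (h3 : ∀ (x : X) (σ : X.residueField x ≅ X.residueField x), q.residueFieldMap x ≫ σ.hom = q.residueFieldMap x → ∃ g : G, X.fromSpecResidueField x ≫ (ρ g).hom = Spec.map σ.hom ≫ X.fromSpecResidueField x) (Ω : Type u) [Field Ω] [IsAlgClosed Ω] (τ₁ τ₂ : Spec (CommRingCat.of Ω) ⟶ X) (hτ : τ₁ ≫ q = τ₂ ≫ q) : ∃ g : G, τ₁ ≫ (ρ g).hom = τ₂ := by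
  have hmul : ∀ a b : G, (ρ a).hom ≫ (ρ b).hom = (ρ (b * a)).hom := by
    intro a b
    rw [map_mul]
    rfl
  obtain ⟨x₁, φ₁, rfl⟩ := exists_repr τ₁
  obtain ⟨x₂, φ₂, rfl⟩ := exists_repr τ₂
  have hq : q x₁ = q x₂ := by
    have := congrArg (fun t : Spec (CommRingCat.of Ω) ⟶ S => t default) hτ
    simpa [Scheme.Hom.comp_apply, Scheme.fromSpecResidueField_apply] using this
  obtain ⟨g₀, hg₀⟩ := h1 x₁ x₂ hq
  obtain ⟨x₁', φ₁', h₁'⟩ := exists_repr ((Spec.map φ₁ ≫ X.fromSpecResidueField x₁) ≫ (ρ g₀).hom)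
  have e : x₁' = x₂ := by
    have := congrArg (fun t : Spec (CommRingCat.of Ω) ⟶ X => t default) h₁'
    simp only [Scheme.Hom.comp_apply, Scheme.fromSpecResidueField_apply] at this
    rw [← this, hg₀]
  subst e
  have hτ' : (Spec.map φ₁' ≫ X.fromSpecResidueField x₁') ≫ q =
      (Spec.map φ₂ ≫ X.fromSpecResidueField x₁') ≫ q := by
    rw [← h₁', Category.assoc, hρ, hτ]
  obtain ⟨g, hg⟩ := same_point q ρ h2 h3 Ω x₁' φ₁' φ₂ hτ'
  refine ⟨g * g₀, ?_⟩
  rw [← hmul, ← Category.assoc, h₁', hg]

end Groth.Agent.S13741
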