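import Groth.Statements.S13749
import Groth.Agent.Lib.Helper7.NeronDesc2
import Groth.Agent.Lib.Helper19.NeronBC

set_option autoImplicit false
universe u
open CategoryTheory AlgebraicGeometry
open Neron

namespace Groth.Agent.S13749

/-- Let S be a locally Noetherian scheme, U ⊆ S a schematically dense open subscheme, N → S a smooth
separated morphism of finite type and g : S' → S a flat surjective morphism, and put U' = g⁻¹(U).
Suppose the base change N ×_S S' → S' has the Néron mapping property with respect to U': for every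
smooth S'-scheme Y', sending an S'-morphism Y' → N ×_S S' to its restriction over U' is a bijection
onto the U'-morphisms Y' ×_{S'} U' → (N ×_S S') ×_{S'} U'. Then N → S has the Néron mapping property
with respect to U: for every smooth S-scheme Y, restriction to U is a bijection from S-morphisms Y →
N onto U-morphisms Y ×_S U → N ×_S U. (The published statement is for an arbitrary base S and open
U, with N an algebraic space which is a model of an abelian scheme over U, tested against smooth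
schemes; this row takes N a scheme, drops the abelian-scheme hypothesis, and assumes S locally
Noetherian with U schematically dense, the setting in which schematic closures of U-sections commute
with flat base change and fill S'.) -/
theorem result
    {S S' : Scheme.{u}} [IsLocallyNoetherian S] (g : S' ⟶ S) [Flat g] [Surjective g]
    (U : S.Opens) (hU : CInt.IsSchematicallyDense U)
    (N : Over S) [Smooth N.hom] [IsSeparated N.hom] [QuasiCompact N.hom]
    (hN' : ∀ Y' : Over S', Smooth Y'.hom →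
      Function.Bijective (fun f : Y' ⟶ (Over.pullback g).obj N => (Over.pullback (g ⁻¹ᵁ U).ι).map f))
    (Y : Over S) [Smooth Y.hom] :
    Function.Bijective (fun f : Y ⟶ N => (Over.pullback U.ι).map f) := by
  classical
  have : IsLocallyNoetherian Y.left := LocallyOfFiniteType.isLocallyNoetherian Y.hom
  obtain ⟨V, hVdef⟩ : ∃ V : Y.left.Opens, V = Y.hom ⁻¹ᵁ U := ⟨_, rfl⟩
  have hV : CInt.IsSchematicallyDense V := hVdef ▸ Groth.Agent.S3844.result Y.hom U hU
  -- the comparison iso `V ≅ Y ×_S U`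
  have hpb : IsPullback V.ι (hVdef ▸ (Y.hom ∣_ U) : (V : Scheme.{u}) ⟶ U) Y.hom U.ι := by
    subst hVdef
    exact (isPullback_morphismRestrict Y.hom U).flip
  obtain ⟨r, hr⟩ : ∃ r : (V : Scheme.{u}) ⟶ U, r = (hVdef ▸ (Y.hom ∣_ U) : (V : Scheme.{u}) ⟶ U) :=
    ⟨_, rfl⟩
  rw [← hr] at hpb
  obtain ⟨jV, hjV⟩ : ∃ jV : (V : Scheme.{u}) ≅ Limits.pullback Y.hom U.ι, jV = hpb.isoPullback := ⟨_, rfl⟩
  have hjV1 : jV.hom ≫ Limits.pullback.fst Y.hom U.ι = V.ι := by rw [hjV]; exact hpb.isoPullback_hom_fst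
  have hjV2 : jV.hom ≫ Limits.pullback.snd Y.hom U.ι = r := by rw [hjV]; exact hpb.isoPullback_hom_snd
  have hrι : r ≫ U.ι = V.ι ≫ Y.hom := hpb.w.symm
  constructor
  · intro f₁ f₂ h
    dsimp only at h
    have e1 : ∀ f : Y ⟶ N, ((Over.pullback U.ι).map f).left ≫ Limits.pullback.fst N.hom U.ι =
        Limits.pullback.fst Y.hom U.ι ≫ f.left := fun f => Limits.pullback.lift_fst _ _ _
    have h2 : Limits.pullback.fst Y.hom U.ι ≫ f₁.left = Limits.pullback.fst Y.hom U.ι ≫ f₂.left := by
      rw [← e1, ← e1, h]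
    have hD : V.ι ≫ f₁.left = V.ι ≫ f₂.left := by
      rw [← hjV1, Category.assoc, Category.assoc, h2]
    have := Groth.Agent.Helper14.Ner.isSchemeTheoreticallyDominant_ι hV
    ext
    exact Groth.Agent.Helper14.Ner.ext_of_isSchemeTheoreticallyDominant N.hom
      (by rw [Over.w f₁, Over.w f₂]) V.ι hD
  · intro ψ
    have hψ : ψ.left ≫ Limits.pullback.snd N.hom U.ι = Limits.pullback.snd Y.hom U.ι := by
      have := Over.w ψ
      simpa only [Over.pullback_obj_hom] using this
    obtain ⟨u₀, hu₀⟩ : ∃ u₀ : (V : Scheme.{u}) ⟶ N.left,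
        u₀ = jV.hom ≫ ψ.left ≫ Limits.pullback.fst N.hom U.ι := ⟨_, rfl⟩
    -- the base-changed morphism
    obtain ⟨κY, hκ1, hκ2⟩ : ∃ κY : Limits.pullback (Limits.pullback.snd Y.hom g) (g ⁻¹ᵁ U).ι ⟶ Limits.pullback Y.hom U.ι,
        κY ≫ Limits.pullback.fst Y.hom U.ι = Limits.pullback.fst _ _ ≫ Limits.pullback.fst Y.hom g ∧
        κY ≫ Limits.pullback.snd Y.hom U.ι = Limits.pullback.snd _ _ ≫ g ∣_ U :=
      ⟨Groth.Agent.Lib.Helper19.NeronBC.κ g U Y, Groth.Agent.Lib.Helper19.NeronBC.κ_fst g U Y,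
        Groth.Agent.Lib.Helper19.NeronBC.κ_snd g U Y⟩
    have c1 : (κY ≫ ψ.left ≫ Limits.pullback.fst N.hom U.ι) ≫ N.hom =
        (Limits.pullback.fst (Limits.pullback.snd Y.hom g) (g ⁻¹ᵁ U).ι ≫ Limits.pullback.snd Y.hom g) ≫ g := by
      rw [Category.assoc, Category.assoc, Limits.pullback.condition, ← Category.assoc ψ.left, hψ,
        ← Category.assoc, hκ2, Category.assoc, morphismRestrict_ι, ← Category.assoc,
        ← Limits.pullback.condition, Category.assoc]
    obtain ⟨m, hm1, hm2⟩ : ∃ m : Limits.pullback (Limits.pullback.snd Y.hom g) (g ⁻¹ᵁ U).ι ⟶ Limits.pullback N.hom g,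
        m ≫ Limits.pullback.fst N.hom g = κY ≫ ψ.left ≫ Limits.pullback.fst N.hom U.ι ∧
        m ≫ Limits.pullback.snd N.hom g =
          Limits.pullback.fst (Limits.pullback.snd Y.hom g) (g ⁻¹ᵁ U).ι ≫ Limits.pullback.snd Y.hom g :=
      ⟨Limits.pullback.lift _ _ c1, Limits.pullback.lift_fst _ _ _, Limits.pullback.lift_snd _ _ _⟩
    have c2 : m ≫ Limits.pullback.snd N.hom g =
        Limits.pullback.snd (Limits.pullback.snd Y.hom g) (g ⁻¹ᵁ U).ι ≫ (g ⁻¹ᵁ U).ι := by
      rw [hm2, Limits.pullback.condition]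
    obtain ⟨ψ', hψ'1, hψ'2⟩ : ∃ ψ' : (Over.pullback (g ⁻¹ᵁ U).ι).obj ((Over.pullback g).obj Y) ⟶
        (Over.pullback (g ⁻¹ᵁ U).ι).obj ((Over.pullback g).obj N),
        ψ'.left ≫ Limits.pullback.fst (Limits.pullback.snd N.hom g) (g ⁻¹ᵁ U).ι = m ∧
        ψ'.left ≫ Limits.pullback.snd (Limits.pullback.snd N.hom g) (g ⁻¹ᵁ U).ι =
          Limits.pullback.snd (Limits.pullback.snd Y.hom g) (g ⁻¹ᵁ U).ι :=
      ⟨Over.homMk (Limits.pullback.lift m (Limits.pullback.snd _ _) c2) (Limits.pullback.lift_snd _ _ _),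
        Limits.pullback.lift_fst _ _ _, Limits.pullback.lift_snd _ _ _⟩
    have hY'sm : Smooth ((Over.pullback g).obj Y).hom := by
      change Smooth (Limits.pullback.snd Y.hom g)
      infer_instance
    obtain ⟨v', hv'⟩ := (hN' _ hY'sm).2 ψ'
    dsimp only at hv'
    have hv'w : v'.left ≫ Limits.pullback.snd N.hom g = Limits.pullback.snd Y.hom g := by
      have := Over.w v'
      simpa only [Over.pullback_obj_hom] using this
    have hv'1 : ((Over.pullback (g ⁻¹ᵁ U).ι).map v').left ≫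
        Limits.pullback.fst (Limits.pullback.snd N.hom g) (g ⁻¹ᵁ U).ι =
        Limits.pullback.fst (Limits.pullback.snd Y.hom g) (g ⁻¹ᵁ U).ι ≫ v'.left := Limits.pullback.lift_fst _ _ _
    obtain ⟨h', hh'def⟩ : ∃ h' : Limits.pullback Y.hom g ⟶ N.left, h' = v'.left ≫ Limits.pullback.fst N.hom g :=
      ⟨_, rfl⟩
    have hh' : h' ≫ N.hom = Limits.pullback.fst Y.hom g ≫ Y.hom := by
      rw [hh'def, Category.assoc, Limits.pullback.condition, ← Category.assoc, hv'w, Limits.pullback.condition]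
    have hkey : Limits.pullback.fst (Limits.pullback.snd Y.hom g) (g ⁻¹ᵁ U).ι ≫ h' =
        κY ≫ ψ.left ≫ Limits.pullback.fst N.hom U.ι := by
      rw [hh'def, ← Category.assoc, ← hv'1, hv', Category.assoc, ← hm1, ← hψ'1, Category.assoc]
    have hc : ∀ (Q : Scheme.{u}) (a : Q ⟶ Limits.pullback Y.hom g) (b : Q ⟶ (V : Scheme.{u})),
        a ≫ Limits.pullback.fst Y.hom g = b ≫ V.ι → a ≫ h' = b ≫ u₀ := by
      intro Q a b hab
      have hcond : (b ≫ r) ≫ U.ι = (a ≫ Limits.pullback.snd Y.hom g) ≫ g := by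
        rw [Category.assoc, hrι, ← Category.assoc, ← hab, Category.assoc, Category.assoc,
          Limits.pullback.condition]
      obtain ⟨d, hd1, hd2⟩ : ∃ d : Q ⟶ (g ⁻¹ᵁ U : Scheme.{u}), d ≫ g ∣_ U = b ≫ r ∧
          d ≫ (g ⁻¹ᵁ U).ι = a ≫ Limits.pullback.snd Y.hom g :=
        ⟨(isPullback_morphismRestrict g U).lift _ _ hcond,
          (isPullback_morphismRestrict g U).lift_fst _ _ hcond,
          (isPullback_morphismRestrict g U).lift_snd _ _ hcond⟩
      obtain ⟨c, hc1, hc2⟩ : ∃ c : Q ⟶ Limits.pullback (Limits.pullback.snd Y.hom g) (g ⁻¹ᵁ U).ι,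
          c ≫ Limits.pullback.fst _ _ = a ∧ c ≫ Limits.pullback.snd _ _ = d :=
        ⟨Limits.pullback.lift a d hd2.symm, Limits.pullback.lift_fst _ _ _, Limits.pullback.lift_snd _ _ _⟩
      have hcκ : c ≫ κY = b ≫ jV.hom := by
        apply Limits.pullback.hom_ext
        · rw [Category.assoc, hκ1, ← Category.assoc, hc1, hab, Category.assoc, hjV1]
        · rw [Category.assoc, hκ2, ← Category.assoc, hc2, hd1, Category.assoc, hjV2]
      calc a ≫ h' = c ≫ Limits.pullback.fst _ _ ≫ h' := by rw [← Category.assoc, hc1]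
        _ = (c ≫ κY) ≫ ψ.left ≫ Limits.pullback.fst N.hom U.ι := by rw [hkey, Category.assoc]
        _ = b ≫ u₀ := by rw [hcκ, hu₀, Category.assoc]
    obtain ⟨h, hh1, hh2⟩ := Groth.Agent.Helper7.NeronDesc.core (Limits.pullback.fst Y.hom g) V hV
      Y.hom N.hom u₀ h' hh' hc
    refine ⟨Over.homMk h hh1, ?_⟩
    dsimp only
    ext
    apply Limits.pullback.hom_ext
    · have e1 : ((Over.pullback U.ι).map (Over.homMk h hh1 : Y ⟶ N)).left ≫
          Limits.pullback.fst N.hom U.ι = Limits.pullback.fst Y.hom U.ι ≫ h := Limits.pullback.lift_fst _ _ _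
      rw [e1, ← cancel_epi jV.hom, ← Category.assoc, hjV1, hh2, hu₀]
    · have e2 : ((Over.pullback U.ι).map (Over.homMk h hh1 : Y ⟶ N)).left ≫
          Limits.pullback.snd N.hom U.ι = Limits.pullback.snd Y.hom U.ι := Limits.pullback.lift_snd _ _ _
      rw [e2, hψ]

end Groth.Agent.S13749
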