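import Groth.Statements.S13757
import Mathlib

set_option autoImplicit false
universe u
open LabGraph

namespace Groth.Agent.S13757

/-- Let G be a finite connected multigraph (loops and multiple edges allowed) with vertex set V, edge
set E, endpoint map E → V × V and a labelling of the edges by positive integers l. A vertex
labelling φ : V → ℤ is Cartier when l(e) divides the difference of the values of φ at the two
endpoints of every edge e; its multidegree is the vertex labelling whose value at v is the sum, over
the edge-ends at v, of (value of φ at the other endpoint − φ(v)) / l(e). Then the Cartier vertex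
labellings of multidegree zero are exactly the constant ones: the kernel of the multidegree operator
on Cartier labellings is ℤ, embedded as the constants. -/
theorem result
    {V E : Type u} [Fintype V] [Fintype E] [DecidableEq V] [DecidableEq E]
    (ends : E → V × V) (l : E → ℕ) (hl : ∀ e, 0 < l e) (hconn : LabGraph.Connected ends)
    (φ : V → ℤ) (hφ : LabGraph.IsCartier ends l φ) :
    (∀ v : V, LabGraph.mdeg ends l φ v = 0) ↔ ∀ v w : V, φ v = φ w := by
  constructor
  · intro h
    have hs : ∀ e, ∃ s : ℤ, φ (ends e).2 - φ (ends e).1 = (l e : ℤ) * s := fun e => by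
      obtain ⟨t, ht⟩ := hφ e
      exact ⟨-t, by rw [mul_neg, ← ht]; ring⟩
    choose s hs using hs
    have hl' : ∀ e, (l e : ℤ) ≠ 0 := fun e => by exact_mod_cast (hl e).ne'
    have hd1 : ∀ e, (φ (ends e).2 - φ (ends e).1) / (l e : ℤ) = s e := fun e => by
      rw [hs e]
      exact Int.mul_ediv_cancel_left _ (hl' e)
    have hd2 : ∀ e, (φ (ends e).1 - φ (ends e).2) / (l e : ℤ) = - s e := fun e => by
      have h1 : φ (ends e).1 - φ (ends e).2 = (l e : ℤ) * (- s e) := by
        rw [mul_neg, ← hs e]
        ring
      rw [h1]
      exact Int.mul_ediv_cancel_left _ (hl' e)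
    have hm : ∀ v, LabGraph.mdeg ends l φ v =
        ∑ e, ((if (ends e).1 = v then s e else 0) + (if (ends e).2 = v then - s e else 0)) := by
      intro v
      unfold LabGraph.mdeg
      refine Finset.sum_congr rfl fun e _ => ?_
      rw [hd1, hd2]
    have hq : ∑ v, φ v * LabGraph.mdeg ends l φ v = - ∑ e, (l e : ℤ) * s e ^ 2 := by
      simp only [hm, Finset.mul_sum]
      rw [Finset.sum_comm, ← Finset.sum_neg_distrib]
      refine Finset.sum_congr rfl fun e _ => ?_
      simp only [mul_add, mul_ite, mul_zero, Finset.sum_add_distrib, Finset.sum_ite_eq,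
        Finset.mem_univ, if_true]
      linear_combination (-(s e)) * hs e
    have h0 : ∑ e, (l e : ℤ) * s e ^ 2 = 0 := by
      have h1 : ∑ v, φ v * LabGraph.mdeg ends l φ v = 0 :=
        Finset.sum_eq_zero fun v _ => by rw [h v, mul_zero]
      rw [hq] at h1
      linarith
    have hs0 : ∀ e, s e = 0 := by
      intro e
      have h1 := (Finset.sum_eq_zero_iff_of_nonneg (fun e _ =>
        mul_nonneg (Int.natCast_nonneg (l e)) (sq_nonneg (s e)))).mp h0 e (Finset.mem_univ e)
      rcases mul_eq_zero.mp h1 with h2 | h2
      · exact absurd h2 (hl' e)
      · exact pow_eq_zero_iff (two_ne_zero) |>.mp h2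
    have hedge : ∀ e, φ (ends e).1 = φ (ends e).2 := by
      intro e
      have := hs e
      rw [hs0 e, mul_zero] at this
      linarith
    have hadj : ∀ a b, LabGraph.Adj ends a b → φ a = φ b := by
      rintro a b ⟨e, he | he⟩
      · have := hedge e
        rw [he] at this
        exact this
      · have := hedge e
        rw [he] at this
        exact this.symm
    intro v w
    have hvw := hconn.2 v w
    induction hvw with
    | refl => rfl
    | tail _ hbc ih => exact ih.trans (hadj _ _ hbc)
  · intro h v
    unfold LabGraph.mdeg
    refine Finset.sum_eq_zero fun e _ => ?_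
    rw [h (ends e).2 (ends e).1, sub_self, Int.zero_ediv, ite_self, ite_self, add_zero]

end Groth.Agent.S13757
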