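import Groth.Statements.S1377
import Mathlib.AlgebraicGeometry.Normalization
import Mathlib.AlgebraicGeometry.IdealSheaf.Subscheme
import Mathlib.AlgebraicGeometry.Morphisms.ClosedImmersion
-- import your own Groth.Agent.* helpers here

set_option autoImplicit false
universe u
open FlatMor

namespace Groth.Agent.S1377

open AlgebraicGeometry CategoryTheory Limits

theorem isPullback_normalization {V U S : Scheme.{u}} (v : V ⟶ U) (j : U ⟶ S)
    [IsIntegralHom v] [IsOpenImmersion j] [QuasiCompact j] :
    IsPullback (v ≫ j).toNormalization v (v ≫ j).fromNormalization j := by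
  have hfst : IsIso (pullback.fst (v ≫ j) j) := inferInstance
  have hsnd : pullback.snd (v ≫ j) j = pullback.fst (v ≫ j) j ≫ v := by
    rw [← cancel_mono j, Category.assoc, ← pullback.condition]
  have hint : IsIntegralHom (pullback.snd (v ≫ j) j) := by rw [hsnd]; infer_instance
  have h1 : IsIso ((v ≫ j).normalizationPullback j) := inferInstance
  have h2 : IsIso (pullback.snd (v ≫ j) j).toNormalization := inferInstance
  let ψ : V ⟶ pullback (v ≫ j).fromNormalization j :=
    inv (pullback.fst (v ≫ j) j) ≫ (pullback.snd (v ≫ j) j).toNormalization ≫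
      (v ≫ j).normalizationPullback j
  have hψ1 : ψ ≫ pullback.fst _ _ = (v ≫ j).toNormalization := by
    simp only [ψ, Category.assoc, Scheme.Hom.toNormalization_normalizationPullback_fst,
      IsIso.inv_hom_id_assoc]
  have hψ2 : ψ ≫ pullback.snd _ _ = v := by
    simp only [ψ, Category.assoc, Scheme.Hom.normalizationPullback_snd,
      Scheme.Hom.toNormalization_fromNormalization, hsnd, IsIso.inv_hom_id_assoc]
  have : IsIso ψ := by dsimp only [ψ]; infer_instance
  exact IsPullback.of_iso_pullback ⟨by simp [Scheme.Hom.toNormalization_fromNormalization]⟩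
    (asIso ψ) hψ1 hψ2


open Scheme.IdealSheafData in
theorem aux {S V : Scheme.{u}} (U : S.Opens) [QuasiCompact U.ι]
    (v : V ⟶ (U : Scheme.{u})) [IsIntegralHom v] [Surjective v] :
    ∃ (V' : Scheme.{u}) (π : V' ⟶ S) (i : V ⟶ V'), Surjective π ∧ IsIntegralHom π ∧ IsPullback i v π U.ι := by
  have hpb := isPullback_normalization v U.ι
  set a := (v ≫ U.ι).fromNormalization with ha
  set i₀ := (v ≫ U.ι).toNormalization with hi₀
  have hcl : IsClosed ((U : Set S)ᶜ) := U.isOpen.isClosed_compl
  let Z := (vanishingIdeal ⟨(U : Set S)ᶜ, hcl⟩).subscheme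
  let ιZ : Z ⟶ S := (vanishingIdeal ⟨(U : Set S)ᶜ, hcl⟩).subschemeι
  have hιZ : Set.range ιZ = (U : Set S)ᶜ := by
    rw [range_subschemeι, coe_support_vanishingIdeal]
    rfl
  have hi₀open : IsOpenImmersion i₀ :=
    MorphismProperty.of_isPullback (P := @IsOpenImmersion) hpb.flip inferInstance
  have hi₀range : ∀ n, n ∈ Set.range i₀ ↔ a n ∈ U := by
    intro n
    constructor
    · rintro ⟨y, rfl⟩
      have : a (i₀ y) = U.ι (v y) := by
        rw [← Scheme.Hom.comp_apply, ← Scheme.Hom.comp_apply, hpb.w]
      rw [this]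
      exact (v y).2
    · intro hn
      obtain ⟨z, hz1, hz2⟩ := Scheme.Pullback.exists_preimage_pullback (f := a) (g := U.ι) n ⟨a n, hn⟩ rfl
      refine ⟨hpb.isoPullback.inv z, ?_⟩
      rw [← hz1, ← Scheme.Hom.comp_apply, hpb.isoPullback_inv_fst]
  let π : _ ⨿ Z ⟶ S := coprod.desc a ιZ
  let i : V ⟶ _ ⨿ Z := i₀ ≫ coprod.inl
  have hw : i ≫ π = v ≫ U.ι := by
    simp only [i, π, Category.assoc, coprod.inl_desc]
    exact hpb.w
  refine ⟨_ ⨿ Z, π, i, ?_, inferInstance, ?_⟩
  · constructor
    intro s
    by_cases hs : s ∈ U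
    · obtain ⟨y, hy⟩ := v.surjective ⟨s, hs⟩
      refine ⟨i y, ?_⟩
      rw [← Scheme.Hom.comp_apply, hw, Scheme.Hom.comp_apply, hy]
      rfl
    · have : s ∈ Set.range ιZ := by rw [hιZ]; exact hs
      obtain ⟨z, rfl⟩ := this
      refine ⟨(coprod.inr : Z ⟶ _ ⨿ Z) z, ?_⟩
      rw [← Scheme.Hom.comp_apply]
      simp only [π, coprod.inr_desc]
  · refine (IsOpenImmersion.isPullback v i U.ι π hw ?_).flip
    ext y
    simp only [Scheme.Opens.opensRange_ι]
    change π y ∈ U ↔ y ∈ Set.range i
    have hy := (isCompl_range_inl_inr (v ≫ U.ι).normalization Z).codisjoint.top_le (Set.mem_univ y)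
    rcases hy with ⟨n, rfl⟩ | ⟨z, rfl⟩
    · have e1 : π ((coprod.inl : _ ⟶ _ ⨿ Z) n) = a n := by
        rw [← Scheme.Hom.comp_apply]; simp only [π, coprod.inl_desc]
      rw [e1, ← hi₀range]
      constructor
      · rintro ⟨y, rfl⟩
        exact ⟨y, by simp [i]⟩
      · rintro ⟨y, hy⟩
        refine ⟨y, (coprod.inl : _ ⟶ _ ⨿ Z).isOpenEmbedding.injective ?_⟩
        rw [← hy]; simp [i]
    · have e1 : π ((coprod.inr : Z ⟶ _ ⨿ Z) z) = ιZ z := by
        rw [← Scheme.Hom.comp_apply]; simp only [π, coprod.inr_desc]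
      rw [e1]
      constructor
      · intro h
        have : ιZ z ∈ (U : Set S)ᶜ := by rw [← hιZ]; exact ⟨z, rfl⟩
        exact absurd h this
      · rintro ⟨y, hy⟩
        exact absurd hy (by simp [i, inl_ne_inr _ _ (i₀ y) z])

open AlgebraicGeometry CategoryTheory Limits in
/-- Let S be a scheme, U ⊆ S an open subscheme whose inclusion U → S is quasi-compact (U retrocompact in
S), and V → U a surjective integral morphism. Then there are a scheme V' and a surjective integral
morphism V' → S whose base change to U is V → U. (The published statement puts no condition on U,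
and in that generality it is false: e.g. S = Spec ∏_i ℤ/4^i with U = D(2) ∪ ⋃_i D(e_i), e_i the
idempotents, and V equal to U except that over D(2) it is cut out by x = (2^i)_i. Stated here with U
→ S quasi-compact, under which hypothesis the published argument applies.) -/
theorem result {S V : Scheme.{u}} (U : S.Opens) [QuasiCompact U.ι]
    (v : V ⟶ (U : Scheme.{u})) [IsIntegralHom v] [Surjective v] :
    ∃ (V' : Scheme.{u}) (π : V' ⟶ S) (i : V ⟶ V'), Surjective π ∧ IsIntegralHom π ∧ IsPullback i v π U.ι := by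
  exact aux U v

end Groth.Agent.S1377
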