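import Groth.Statements.S13771
import Mathlib

set_option autoImplicit false
universe u v w
open PLie

namespace Groth.Agent.S13771

section
variable {R : Type u} [CommRing R] {p : ℕ} [CharP R p]
variable {L₁ : Type v} [LieRing L₁] [LieAlgebra R L₁] {L' : Type w} [LieRing L'] [LieAlgebra R L']

theorem map_bracketWord (g : L₁ →ₗ⁅R⁆ L') (x y z : L₁) (l : List Bool) :
    g (PLie.bracketWord (PLie.pair x y) z l) = PLie.bracketWord (PLie.pair (g x) (g y)) (g z) l := by
  induction l with
  | nil => rfl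
  | cons b l ih =>
    rw [PLie.bracketWord_cons, PLie.bracketWord_cons, LieHom.map_lie, ih]
    congr 1
    cases b <;> simp [PLie.pair]

theorem map_jacobson (g : L₁ →ₗ⁅R⁆ L') (x y : L₁) :
    g (PLie.jacobson R p x y) = PLie.jacobson R p (g x) (g y) := by
  unfold PLie.jacobson
  rw [map_sum]
  apply Finset.sum_congr rfl
  intro t _
  rw [map_smul, map_bracketWord]

theorem bracketWord_zero (x : L') (l : List Bool) :
    PLie.bracketWord (PLie.pair x 0) 0 l = 0 := by
  induction l with
  | nil => rfl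
  | cons b l ih => rw [PLie.bracketWord_cons, ih, lie_zero]

theorem jacobson_zero (x : L') : PLie.jacobson R p x 0 = 0 := by
  unfold PLie.jacobson
  apply Finset.sum_eq_zero
  intro t _
  rw [bracketWord_zero, smul_zero]

theorem map_ad_pow' (g : L₁ →ₗ⁅R⁆ L') (x z : L₁) (n : ℕ) :
    g ((LieAlgebra.ad R L₁ x ^ n) z) = (LieAlgebra.ad R L' (g x) ^ n) (g z) := by
  induction n generalizing z with
  | zero => simp
  | succ n ih =>
    rw [pow_succ, pow_succ, Module.End.mul_apply, Module.End.mul_apply, ih, LieAlgebra.ad_apply,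
      LieAlgebra.ad_apply, LieHom.map_lie]

theorem existsUnique_of_surjective (φ : PLie.PMap R p L₁) (g : L₁ →ₗ⁅R⁆ L')
    (hg : Function.Surjective g) (hker : ∀ x : L₁, g x = 0 → g (φ x) = 0) :
    ∃! ψ : PLie.PMap R p L', PLie.IsPHom φ ψ g := by
  have wd : ∀ x x' : L₁, g x = g x' → g (φ x) = g (φ x') := by
    intro x x' h
    have hd : g (x' - x) = 0 := by rw [map_sub, h, sub_self]
    have : φ x' = φ x + φ (x' - x) - PLie.jacobson R p x (x' - x) := by
      have := φ.map_add x (x' - x)
      rw [add_sub_cancel] at this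
      exact this
    rw [this, map_sub, map_add, hker _ hd, map_jacobson, hd, jacobson_zero]
    simp
  choose s hs using hg
  have key : ∀ x, g (φ (s (g x))) = g (φ x) := fun x => wd _ _ (hs (g x))
  refine ⟨{ toFun := fun y => g (φ (s y)), map_smul := ?_, ad_map := ?_, map_add := ?_ }, ?_, ?_⟩
  · intro c y
    obtain ⟨x, rfl⟩ : ∃ x, g x = y := ⟨s y, hs y⟩
    rw [← map_smul, key, key]
    have := φ.map_smul c x
    rw [show φ.toFun (c • x) = φ (c • x) from rfl, show φ.toFun x = φ x from rfl] at this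
    rw [this, map_smul]
  · intro y
    obtain ⟨x, rfl⟩ : ∃ x, g x = y := ⟨s y, hs y⟩
    ext z
    obtain ⟨x', rfl⟩ : ∃ x', g x' = z := ⟨s z, hs z⟩
    rw [key, LieAlgebra.ad_apply, ← LieHom.map_lie, ← map_ad_pow']
    have := φ.ad_map x
    rw [show φ.toFun x = φ x from rfl] at this
    rw [← this, LieAlgebra.ad_apply]
  · intro y y'
    obtain ⟨x, rfl⟩ : ∃ x, g x = y := ⟨s y, hs y⟩
    obtain ⟨x', rfl⟩ : ∃ x', g x' = y' := ⟨s y', hs y'⟩
    rw [← map_add, key, key, key, ← map_jacobson]
    have := φ.map_add x x'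
    rw [show φ.toFun (x + x') = φ (x + x') from rfl, show φ.toFun x = φ x from rfl,
      show φ.toFun x' = φ x' from rfl] at this
    rw [this, map_sub, map_add]
  · intro x
    exact (key x).symm
  · intro ψ' hψ'
    have : ψ'.toFun = fun y => g (φ (s y)) := by
      funext y
      obtain ⟨x, rfl⟩ : ∃ x, g x = y := ⟨s y, hs y⟩
      rw [key]
      exact (hψ' x).symm
    cases ψ'
    simp only at this
    subst this
    rfl
end


theorem result (R : Type u) [CommRing R] (p : ℕ) [Fact p.Prime] [CharP R p]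
    (L₁ : Type v) [LieRing L₁] [LieAlgebra R L₁] (L₂ : Type w) [LieRing L₂] [LieAlgebra R L₂]
    (φ : PLie.PMap R p L₁) (f : L₁ →ₗ⁅R⁆ L₂) (hker : ∀ x : L₁, f x = 0 → f (φ x) = 0) :
    ∃! ψ : PLie.PMap R p f.range, PLie.IsPHom φ ψ f.rangeRestrict := by
  apply existsUnique_of_surjective φ f.rangeRestrict f.surjective_rangeRestrict
  intro x hx
  have h1 : f x = 0 := by
    have := congrArg Subtype.val hx
    simpa using this
  apply Subtype.ext
  simpa using hker x h1

end Groth.Agent.S13771
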