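import Groth.Statements.S13772
import Mathlib

set_option autoImplicit false
universe u v
open PLie

namespace Groth.Agent.S13772


theorem result (R : Type u) [CommRing R] (p : ℕ) [Fact p.Prime] [CharP R p]
    (L : Type v) [LieRing L] [LieAlgebra R L] (γ : PLie.PMap R p L) (g : L → L) :
    (∃ γ' : PLie.PMap R p L, ∀ x : L, γ' x = γ x + g x) ↔
      ((∀ x y : L, g (x + y) = g x + g y) ∧ (∀ (c : R) (x : L), g (c • x) = c ^ p • g x) ∧
        ∀ x : L, g x ∈ LieAlgebra.center R L) := by
  constructor
  · rintro ⟨γ', h⟩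
    have hg : ∀ x, g x = γ' x - γ x := fun x => by rw [h x]; abel
    refine ⟨fun x y => ?_, fun c x => ?_, fun x => ?_⟩
    · rw [hg, hg, hg, γ'.map_add, γ.map_add]
      abel
    · rw [hg, hg, γ'.map_smul, γ.map_smul, smul_sub]
    · rw [LieAlgebra.center, LieModule.mem_maxTrivSubmodule]
      intro y
      rw [← lie_skew, neg_eq_zero, hg, sub_lie, sub_eq_zero]
      have h1 : ⁅γ' x, y⁆ = LieAlgebra.ad R L (γ' x) y := (LieAlgebra.ad_apply R L _ _).symm
      have h2 : ⁅γ x, y⁆ = LieAlgebra.ad R L (γ x) y := (LieAlgebra.ad_apply R L _ _).symm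
      rw [h1, h2]
      have e1 := γ'.ad_map x
      have e2 := γ.ad_map x
      rw [show γ'.toFun x = γ' x from rfl] at e1
      rw [show γ.toFun x = γ x from rfl] at e2
      rw [e1, e2]
  · rintro ⟨hadd, hsmul, hcen⟩
    have hcen' : ∀ x y : L, ⁅g x, y⁆ = 0 := by
      intro x y
      have := hcen x
      rw [LieAlgebra.center, LieModule.mem_maxTrivSubmodule] at this
      rw [← lie_skew, this y, neg_zero]
    refine ⟨{ toFun := fun x => γ x + g x, map_smul := ?_, ad_map := ?_, map_add := ?_ }, fun x => rfl⟩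
    · intro c x
      rw [hsmul, smul_add]
      congr 1
      exact γ.map_smul c x
    · intro x
      rw [← γ.ad_map x]
      ext y
      rw [LieAlgebra.ad_apply, LieAlgebra.ad_apply, add_lie, hcen', add_zero]
    · intro x y
      rw [hadd]
      have := γ.map_add x y
      rw [show γ.toFun (x + y) = γ (x + y) from rfl, show γ.toFun x = γ x from rfl,
        show γ.toFun y = γ y from rfl] at this
      rw [this]
      abel

end Groth.Agent.S13772
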