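import Groth.Statements.S13773
import Groth.Agent.Lib.Helper6.RPBW3

set_option autoImplicit false
universe u v w
open PLie

namespace Groth.Agent.S13773

/-- Let R be a commutative ring of prime characteristic p and L a Lie algebra over R, free as an
R-module with basis b indexed by ι, and let y : ι → L satisfy (ad (b i)) ^ p = ad (y i) in the
R-linear endomorphisms of L for every i. Then L carries exactly one p-mapping φ with φ (b i) = y i
for all i. -/
theorem result (R : Type u) [CommRing R] (p : ℕ) [Fact p.Prime] [CharP R p]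
    (L : Type v) [LieRing L] [LieAlgebra R L] {ι : Type w} (b : Module.Basis ι R L) (y : ι → L)
    (hy : ∀ i : ι, LieAlgebra.ad R L (b i) ^ p = LieAlgebra.ad R L (y i)) :
    ∃! φ : PLie.PMap R p L, ∀ i : ι, φ (b i) = y i := by
  obtain ⟨φ, hφ⟩ := Groth.Agent.Helper6.RPBW.exists_pmap_basis p b y hy
  refine ⟨φ, hφ, fun ψ hψ => ?_⟩
  have hp0 : p ≠ 0 := (Fact.out : p.Prime).ne_zero
  have key : ∀ x : L, ψ x = φ x := by
    intro x
    have hx : x ∈ Submodule.span R (Set.range b) := by rw [b.span_eq]; trivial
    induction hx using Submodule.span_induction with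
    | mem x hx =>
      obtain ⟨i, rfl⟩ := hx
      rw [hψ, hφ]
    | zero =>
      have h1 := ψ.map_smul 0 0
      have h2 := φ.map_smul 0 0
      rw [zero_smul, zero_pow hp0, zero_smul] at h1 h2
      exact h1.trans h2.symm
    | add s t _ _ h1 h2 =>
      have a1 := ψ.map_add s t
      have a2 := φ.map_add s t
      show ψ.toFun (s + t) = φ.toFun (s + t)
      rw [a1, a2]
      show ψ s + ψ t - _ = φ s + φ t - _
      rw [h1, h2]
    | smul c s _ h =>
      show ψ.toFun (c • s) = φ.toFun (c • s)
      rw [ψ.map_smul, φ.map_smul]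
      show c ^ p • ψ s = c ^ p • φ s
      rw [h]
  obtain ⟨f1, a1, b1, c1⟩ := ψ
  obtain ⟨f2, a2, b2, c2⟩ := φ
  have hf : f1 = f2 := funext key
  subst hf
  rfl

end Groth.Agent.S13773
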