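import Groth.Statements.S13775
import Mathlib

set_option autoImplicit false
universe u v
open PLie

namespace Groth.Agent.S13775

theorem ad_pow_y (R : Type u) [CommRing R]
    (L : Type v) [LieRing L] [LieAlgebra R L] (x y : L) (hxy : ⁅x, y⁆ = y) (n : ℕ) :
    (LieAlgebra.ad R L x ^ n) y = y := by
  induction n with
  | zero => simp
  | succ n ih => rw [pow_succ, Module.End.mul_apply, LieAlgebra.ad_apply, hxy, ih]

theorem ad_pow_z (R : Type u) [CommRing R]
    (L : Type v) [LieRing L] [LieAlgebra R L] (x y z : L) (hxy : ⁅x, y⁆ = y) (hxz : ⁅x, z⁆ = y + z) (n : ℕ) :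
    (LieAlgebra.ad R L x ^ n) z = z + (n : R) • y := by
  induction n with
  | zero => simp
  | succ n ih =>
    rw [pow_succ, Module.End.mul_apply, LieAlgebra.ad_apply, hxz, map_add, ih, ad_pow_y R L x y hxy]
    push_cast
    rw [add_smul, one_smul]
    abel


theorem result (R : Type u) [CommRing R] (p : ℕ) [Fact p.Prime] [CharP R p]
    (L : Type v) [LieRing L] [LieAlgebra R L] (bs : Module.Basis (Fin 3) R L)
    (hxy : ⁅bs 0, bs 1⁆ = bs 1) (hxz : ⁅bs 0, bs 2⁆ = bs 1 + bs 2) (hyz : ⁅bs 1, bs 2⁆ = 0) :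
    IsEmpty (PLie.PMap R p L) := by
  refine ⟨fun φ => ?_⟩
  have : Nontrivial R := CharP.nontrivial_of_char_ne_one (v := p) (Fact.out : p.Prime).ne_one
  have had := φ.ad_map (bs 0)
  set w := φ.toFun (bs 0) with hw
  have hwy : ⁅w, bs 1⁆ = bs 1 := by
    have := congrArg (fun e => e (bs 1)) had
    simp only [LieAlgebra.ad_apply] at this
    rw [this, ad_pow_y R L _ _ hxy]
  have hwz : ⁅w, bs 2⁆ = bs 2 := by
    have := congrArg (fun e => e (bs 2)) had
    simp only [LieAlgebra.ad_apply] at this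
    rw [this, ad_pow_z R L _ _ _ hxy hxz, CharP.cast_eq_zero R p, zero_smul, add_zero]
  have hsum : w = bs.repr w 0 • bs 0 + bs.repr w 1 • bs 1 + bs.repr w 2 • bs 2 := by
    conv_lhs => rw [← bs.sum_repr w]
    rw [Fin.sum_univ_three]
  have hzy : ⁅bs 2, bs 1⁆ = 0 := by rw [← lie_skew, hyz, neg_zero]
  have e1 : ⁅w, bs 1⁆ = bs.repr w 0 • bs 1 := by
    rw [hsum, add_lie, add_lie, smul_lie, smul_lie, smul_lie, hxy, lie_self, hzy]
    simp
  have e2 : ⁅w, bs 2⁆ = bs.repr w 0 • (bs 1 + bs 2) := by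
    rw [hsum, add_lie, add_lie, smul_lie, smul_lie, smul_lie, hxz, hyz, lie_self]
    simp
  have c1 : bs.repr w 0 = 1 := by
    have := congrArg (fun v => bs.repr v 1) (e1.symm.trans hwy)
    simpa using this
  have c2 : bs.repr w 0 = 0 := by
    have := congrArg (fun v => bs.repr v 1) (e2.symm.trans hwz)
    simpa using this
  rw [c1] at c2
  exact one_ne_zero c2

end Groth.Agent.S13775
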