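import Groth.Statements.S13776
import Mathlib
import Groth.Agent.Lib.Helper22.SemiDirect3

set_option autoImplicit false
universe u v
open PLie

namespace Groth.Agent.S13776

/-- Let R be a commutative ring of prime characteristic p, t ∈ R, and L a Lie algebra over R, free as a
module with basis x = bs 0, y = bs 1, z = bs 2 and brackets [x,y] = y, [x,z] = t • z, [y,z] = 0.
Then L carries a p-mapping if and only if t ^ p = t. (The published statement is the corresponding
entry of the classification table over an algebraically closed field of characteristic p, where the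
condition reads: t lies in the prime field; this row states it over every commutative ring of
characteristic p.) -/
theorem result (R : Type u) [CommRing R] (p : ℕ) [Fact p.Prime] [CharP R p] (t : R)
    (L : Type v) [LieRing L] [LieAlgebra R L] (bs : Module.Basis (Fin 3) R L)
    (hxy : ⁅bs 0, bs 1⁆ = bs 1) (hxz : ⁅bs 0, bs 2⁆ = t • bs 2) (hyz : ⁅bs 1, bs 2⁆ = 0) :
    Nonempty (PLie.PMap R p L) ↔ t ^ p = t := by
  have S : Groth.Agent.Helper22.SD3.Str bs (1:R) 0 0 t := ⟨by simpa using hxy, by simpa using hxz, hyz⟩
  constructor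
  · rintro ⟨φ⟩
    obtain ⟨X, Y, Z, hu⟩ := Groth.Agent.Helper22.SD3.exists_vec bs (φ.toFun (bs 0))
    have had := φ.ad_map (bs 0)
    have hpow : ∀ n : ℕ, (LieAlgebra.ad R L (bs 0) ^ n) (bs 2) = t ^ n • bs 2 := by
      intro n
      induction n with
      | zero => simp
      | succ n ih =>
        rw [pow_succ', Module.End.mul_apply, ih, map_smul, LieAlgebra.ad_apply, hxz, smul_smul,
          pow_succ]
    have hpow1 : ∀ n : ℕ, (LieAlgebra.ad R L (bs 0) ^ n) (bs 1) = bs 1 := by
      intro n
      induction n with
      | zero => simp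
      | succ n ih => rw [pow_succ', Module.End.mul_apply, ih, LieAlgebra.ad_apply, hxy]
    have h1 : ⁅φ.toFun (bs 0), bs 1⁆ = bs 1 := by
      have := congrArg (fun f => f (bs 1)) had
      simpa [hpow1] using this
    have h2 : ⁅φ.toFun (bs 0), bs 2⁆ = t ^ p • bs 2 := by
      have := congrArg (fun f => f (bs 2)) had
      simpa [hpow] using this
    rw [hu, Groth.Agent.Helper22.SD3.bs1 bs, S.lie_vec] at h1
    rw [hu, Groth.Agent.Helper22.SD3.bs2 bs, S.lie_vec, Groth.Agent.Helper22.SD3.vec_smul] at h2
    have hX := (Groth.Agent.Helper22.SD3.vec_inj bs h1).2.1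
    have hZ := (Groth.Agent.Helper22.SD3.vec_inj bs h2).2.2
    linear_combination (-1) * hZ + t * hX
  · intro ht
    have hp1 : p - 1 + 1 = p := Nat.sub_add_cancel (Fact.out : p.Prime).one_le
    let g : L → L := fun u => Groth.Agent.Helper22.SD3.vec bs ((bs.repr u 0) ^ p)
      ((bs.repr u 0) ^ (p - 1) * bs.repr u 1) (((bs.repr u 0) * t) ^ (p - 1) * bs.repr u 2)
    obtain ⟨φ, -⟩ := Groth.Agent.Helper22.SD3.exists_pmap S (fun X h1 _ _ _ => by simpa using h1) p g (by
      intro X Y Z
      obtain ⟨h0, h1, h2⟩ := Groth.Agent.Helper22.SD3.repr_vec bs X Y Z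
      simp only [g, h0, h1, h2]
      rw [Groth.Agent.Helper22.SD3.emb_vec]
      have hpow : ∀ n : ℕ, (Groth.Agent.Helper22.SD3.mat 1 0 0 t X Y Z) ^ (n + 1) =
          !![X ^ (n + 1), 0, X ^ n * Y; 0, (X * t) ^ (n + 1), (X * t) ^ n * Z; 0, 0, 0] := by
        intro n
        induction n with
        | zero =>
          ext i j
          fin_cases i <;> fin_cases j <;> simp [Groth.Agent.Helper22.SD3.mat]
        | succ n ih =>
          rw [pow_succ, ih]
          ext i j
          fin_cases i <;> fin_cases j <;>
            simp [Groth.Agent.Helper22.SD3.mat, Matrix.mul_apply, Fin.sum_univ_three] <;> ring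
      have hpp := hpow (p - 1)
      rw [hp1] at hpp
      rw [hpp]
      ext i j
      fin_cases i <;> fin_cases j <;> simp [Groth.Agent.Helper22.SD3.mat, mul_pow, ht])
    exact ⟨φ⟩

end Groth.Agent.S13776
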