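import Groth.Statements.S13777
import Mathlib

set_option autoImplicit false
universe u v
open PLie

namespace Groth.Agent.S13777


theorem result (R : Type u) [CommRing R] [CharP R 2]
    (L : Type v) [LieRing L] [LieAlgebra R L] (bs : Module.Basis (Fin 3) R L)
    (hxy : ⁅bs 0, bs 1⁆ = bs 2) (hxz : ⁅bs 0, bs 2⁆ = -bs 0) (hyz : ⁅bs 1, bs 2⁆ = bs 1) :
    IsEmpty (PLie.PMap R 2 L) := by
  refine ⟨fun φ => ?_⟩
  have : Nontrivial R := CharP.nontrivial_of_char_ne_one (v := 2) (by norm_num)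
  have had := φ.ad_map (bs 0)
  set w := φ.toFun (bs 0) with hw
  have hwy : ⁅w, bs 1⁆ = -bs 0 := by
    have := congrArg (fun e => e (bs 1)) had
    simp only [LieAlgebra.ad_apply] at this
    rw [this, pow_two, Module.End.mul_apply, LieAlgebra.ad_apply, LieAlgebra.ad_apply, hxy, hxz]
  have hsum : w = bs.repr w 0 • bs 0 + bs.repr w 1 • bs 1 + bs.repr w 2 • bs 2 := by
    conv_lhs => rw [← bs.sum_repr w]
    rw [Fin.sum_univ_three]
  have hzy : ⁅bs 2, bs 1⁆ = -bs 1 := by rw [← lie_skew, hyz]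
  have e1 : ⁅w, bs 1⁆ = bs.repr w 0 • bs 2 + bs.repr w 2 • (-bs 1) := by
    rw [hsum, add_lie, add_lie, smul_lie, smul_lie, smul_lie, hxy, lie_self, hzy]
    simp
  have c1 : (0 : R) = -1 := by
    have := congrArg (fun v => bs.repr v 0) (e1.symm.trans hwy)
    simpa using this
  have : (1 : R) = 0 := by linear_combination c1
  exact one_ne_zero this

end Groth.Agent.S13777
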