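import Groth.Statements.S13779
import Mathlib
import Groth.Agent.Lib.Helper22.SemiDirect3

set_option autoImplicit false
universe u v
open PLie

namespace Groth.Agent.S13779

/-- Let p be an odd prime, R a commutative ring of characteristic p, t ∈ R, and L a Lie algebra over R,
free as a module with basis x = bs 0, y = bs 1, z = bs 2 and brackets [x,y] = z, [x,z] = t • y,
[y,z] = 0. Then L carries a p-mapping φ with φ x = t ^ ((p - 1) / 2) • x, φ y = 0 and φ z = 0. (The
published statement concerns the Lie algebra with these brackets over a field of Laurent series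
k((t)), k algebraically closed of odd characteristic, t the variable; this row states its
restrictability over every commutative ring of odd prime characteristic and every t.) -/
theorem result (R : Type u) [CommRing R] (p : ℕ) [Fact p.Prime] [CharP R p] (hp : p ≠ 2)
    (t : R) (L : Type v) [LieRing L] [LieAlgebra R L] (bs : Module.Basis (Fin 3) R L)
    (hxy : ⁅bs 0, bs 1⁆ = bs 2) (hxz : ⁅bs 0, bs 2⁆ = t • bs 1) (hyz : ⁅bs 1, bs 2⁆ = 0) :
    ∃ φ : PLie.PMap R p L, φ (bs 0) = t ^ ((p - 1) / 2) • bs 0 ∧ φ (bs 1) = 0 ∧ φ (bs 2) = 0 := by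
  have hpr : p.Prime := Fact.out
  have S : Groth.Agent.Helper22.SD3.Str bs (0:R) t 1 0 :=
    ⟨by simpa using hxy, by simpa using hxz, hyz⟩
  obtain ⟨k, hk⟩ : ∃ k, p = 2 * k + 1 := by
    rcases hpr.eq_two_or_odd' with h2 | hodd
    · exact absurd h2 hp
    · exact hodd
  have hk2 : (p - 1) / 2 = k := by omega
  have hp0 : p ≠ 0 := hpr.ne_zero
  have hp10 : p - 1 ≠ 0 := by have := hpr.two_le; omega
  let g : L → L := fun u => Groth.Agent.Helper22.SD3.vec bs ((bs.repr u 0) ^ p * t ^ k)
    ((bs.repr u 0) ^ (p - 1) * t ^ k * bs.repr u 1) ((bs.repr u 0) ^ (p - 1) * t ^ k * bs.repr u 2)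
  obtain ⟨φ, hφ⟩ := Groth.Agent.Helper22.SD3.exists_pmap S (fun X _ _ h3 _ => by simpa using h3) p g (by
    intro X Y Z
    obtain ⟨h0, h1, h2⟩ := Groth.Agent.Helper22.SD3.repr_vec bs X Y Z
    simp only [g, h0, h1, h2]
    rw [Groth.Agent.Helper22.SD3.emb_vec]
    have hpow : ∀ n : ℕ, (Groth.Agent.Helper22.SD3.mat 0 t 1 0 X Y Z) ^ (2 * n + 1) =
        !![0, X ^ (2 * n + 1) * t ^ (n + 1), X ^ (2 * n) * t ^ n * Y;
           X ^ (2 * n + 1) * t ^ n, 0, X ^ (2 * n) * t ^ n * Z; 0, 0, 0] := by
      intro n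
      induction n with
      | zero =>
        ext i j
        fin_cases i <;> fin_cases j <;> simp [Groth.Agent.Helper22.SD3.mat]
      | succ n ih =>
        rw [show 2 * (n + 1) + 1 = (2 * n + 1) + 1 + 1 by ring, pow_succ, pow_succ, ih]
        ext i j
        fin_cases i <;> fin_cases j <;>
          simp [Groth.Agent.Helper22.SD3.mat, Matrix.mul_apply, Fin.sum_univ_three] <;> ring
    have hpp := hpow k
    rw [← hk] at hpp
    rw [hpp]
    have hk' : p - 1 = 2 * k := by omega
    ext i j
    fin_cases i <;> fin_cases j <;> simp [Groth.Agent.Helper22.SD3.mat, hk'] <;> ring)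
  refine ⟨φ, ?_, ?_, ?_⟩
  · rw [hφ, hk2]
    simp [g, Groth.Agent.Helper22.SD3.vec, Finsupp.single_apply]
  · rw [hφ]
    simp [g, Groth.Agent.Helper22.SD3.vec, Finsupp.single_apply, hp0, hp10]
  · rw [hφ]
    simp [g, Groth.Agent.Helper22.SD3.vec, Finsupp.single_apply, hp0, hp10]

end Groth.Agent.S13779
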