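import Groth.Statements.S13780
import Mathlib

set_option autoImplicit false
universe u v w
open PLie

namespace Groth.Agent.S13780

theorem map_ad_pow (R : Type u) [CommRing R]
    (L : Type v) [LieRing L] [LieAlgebra R L] (L' : Type w) [LieRing L'] [LieAlgebra R L']
    (φ : L ≃ₗ⁅R⁆ L') (x z : L) (n : ℕ) :
    φ ((LieAlgebra.ad R L x ^ n) z) = (LieAlgebra.ad R L' (φ x) ^ n) (φ z) := by
  induction n generalizing z with
  | zero => simp
  | succ n ih =>
    rw [pow_succ, pow_succ, Module.End.mul_apply, Module.End.mul_apply, ih, LieAlgebra.ad_apply,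
      LieAlgebra.ad_apply, LieEquiv.map_lie]


theorem result (R : Type u) [CommRing R] (p : ℕ) [Fact p.Prime] [CharP R p]
    (L : Type v) [LieRing L] [LieAlgebra R L] (L' : Type w) [LieRing L'] [LieAlgebra R L']
    (γ : PLie.PMap R p L) (γ' : PLie.PMap R p L') (hZ : LieAlgebra.center R L' = ⊥) (φ : L ≃ₗ⁅R⁆ L') :
    PLie.IsPHom γ γ' φ.toLieHom := by
  intro x
  rw [← sub_eq_zero]
  have hmem : φ.toLieHom (γ x) - γ' (φ.toLieHom x) ∈ LieAlgebra.center R L' := by
    rw [LieAlgebra.center, LieModule.mem_maxTrivSubmodule]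
    intro y
    rw [← lie_skew, neg_eq_zero, sub_lie, sub_eq_zero]
    have h1 : ⁅γ' (φ.toLieHom x), y⁆ = (LieAlgebra.ad R L' (φ x) ^ p) y := by
      rw [← γ'.ad_map, LieAlgebra.ad_apply]
      rfl
    have h2 : ⁅φ.toLieHom (γ x), y⁆ = φ ((LieAlgebra.ad R L x ^ p) (φ.symm y)) := by
      rw [← γ.ad_map, LieAlgebra.ad_apply, LieEquiv.map_lie, LieEquiv.apply_symm_apply]
      rfl
    rw [h1, h2, map_ad_pow, LieEquiv.apply_symm_apply]
  rw [hZ] at hmem
  exact (LieSubmodule.mem_bot _).mp hmem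

end Groth.Agent.S13780
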