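import Groth.Statements.S13784
import Mathlib

set_option autoImplicit false
universe u
open CAlg

namespace Groth.Agent.S13784

theorem eq_one_of_residue_eq_one {A : Type u} [CommRing A] [IsLocalRing A]
    (g : Aˣ) (n : ℕ) (hn : IsUnit (n : A)) (hgn : g ^ n = 1)
    (hres : IsLocalRing.residue A (g : A) = 1) : g = 1 := by
  have h1 : (∑ i ∈ Finset.range n, (g : A) ^ i) * ((g : A) - 1) = 0 := by
    rw [geom_sum_mul, ← Units.val_pow_eq_pow_val, hgn, Units.val_one, sub_self]
  have h2 : IsLocalRing.residue A (∑ i ∈ Finset.range n, (g : A) ^ i) = (n : IsLocalRing.ResidueField A) := by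
    rw [map_sum]
    simp [hres]
  have h3 : IsUnit (∑ i ∈ Finset.range n, (g : A) ^ i) := by
    by_contra hnu
    have hmem : (∑ i ∈ Finset.range n, (g : A) ^ i) ∈ IsLocalRing.maximalIdeal A :=
      (IsLocalRing.mem_maximalIdeal _).mpr hnu
    have h0 : IsLocalRing.residue A (∑ i ∈ Finset.range n, (g : A) ^ i) = 0 :=
      (IsLocalRing.residue_eq_zero_iff _).mpr hmem
    rw [h2] at h0
    have : IsUnit (IsLocalRing.residue A (n : A)) := hn.map _
    rw [map_natCast, h0] at this
    exact not_isUnit_zero this
  have h4 : (g : A) - 1 = 0 := by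
    obtain ⟨u, hu⟩ := h3
    rw [← hu] at h1
    exact (Units.mul_right_eq_zero u).mp h1
  apply Units.ext
  rw [Units.val_one]
  exact sub_eq_zero.mp h4


theorem result {A : Type u} [CommRing A] [IsLocalRing A]
    (G : Subgroup Aˣ) [Finite G] (hG : IsUnit ((Nat.card G : ℕ) : A)) : IsCyclic G := by
  let ψ : G →* (IsLocalRing.ResidueField A)ˣ :=
    (Units.map (IsLocalRing.residue A).toMonoidHom).comp G.subtype
  have hψ : Function.Injective ψ := by
    rw [injective_iff_map_eq_one]
    intro g hg
    have hres : IsLocalRing.residue A ((g : Aˣ) : A) = 1 := by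
      have := congrArg Units.val hg
      simpa [ψ] using this
    have hgn : (g : Aˣ) ^ (Nat.card G) = 1 := by
      have := pow_card_eq_one' (G := G) (x := g)
      exact_mod_cast congrArg Subtype.val this
    have := eq_one_of_residue_eq_one (g : Aˣ) (Nat.card G) hG hgn hres
    exact Subtype.ext this
  exact isCyclic_of_injective_ringHom ((Units.coeHom _).comp ψ) (Units.val_injective.comp hψ)

end Groth.Agent.S13784
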