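import Groth.Statements.S13785
import Mathlib

set_option autoImplicit false
universe u
open CAlg

namespace Groth.Agent.S13785

theorem X_mem_nzd {σ A : Type*} [CommRing A] (p : σ) :
    (MvPolynomial.X p : MvPolynomial σ A) ∈ nonZeroDivisors (MvPolynomial σ A) := by
  rw [mem_nonZeroDivisors_iff_left]
  intro g hg
  ext m
  have := congrArg (MvPolynomial.coeff (Finsupp.single p 1 + m)) hg
  rwa [MvPolynomial.coeff_X_mul] at this

theorem poly_regular_of_coeff_zero {R : Type*} [CommRing R] (p q : Polynomial R)
    (hp : p.coeff 0 ∈ nonZeroDivisors R) (hpq : p * q = 0) : q = 0 := by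
  by_contra hq
  have h1 : (p * q).coeff q.natTrailingDegree = p.coeff 0 * q.coeff q.natTrailingDegree := by
    rw [Polynomial.coeff_mul]
    apply Finset.sum_eq_single (0, q.natTrailingDegree)
    · rintro ⟨i, j⟩ hij hne
      rw [Finset.HasAntidiagonal.mem_antidiagonal] at hij
      simp only at hij
      have hj : j < q.natTrailingDegree := by
        rcases Nat.eq_zero_or_pos i with rfl | hi
        · exfalso; apply hne; simp at hij; rw [hij]
        · omega
      rw [Polynomial.coeff_eq_zero_of_lt_natTrailingDegree hj, mul_zero]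
    · intro h
      exfalso; apply h; simp
  rw [hpq, Polynomial.coeff_zero] at h1
  have h2 := (mem_nonZeroDivisors_iff_left.mp hp) _ h1.symm
  exact hq (Polynomial.trailingCoeff_eq_zero.mp h2)

theorem result (A : Type u) [CommRing A] (n : ℕ) :
    (Matrix.mvPolynomialX (Fin n) (Fin n) A).det ∈ nonZeroDivisors (MvPolynomial (Fin n × Fin n) A) := by
  classical
  let ψ : MvPolynomial (Fin n × Fin n) A →ₐ[A] Polynomial (MvPolynomial (Fin n × Fin n) A) :=
    MvPolynomial.aeval (fun p : Fin n × Fin n =>
      if p.1 = p.2 then Polynomial.C (MvPolynomial.X p) else Polynomial.X * Polynomial.C (MvPolynomial.X p))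
  have hψX : ∀ p : Fin n × Fin n, ψ (MvPolynomial.X p) =
      if p.1 = p.2 then Polynomial.C (MvPolynomial.X p) else Polynomial.X * Polynomial.C (MvPolynomial.X p) :=
    fun p => MvPolynomial.aeval_X _ p
  have hψ1 : ∀ g : MvPolynomial (Fin n × Fin n) A, Polynomial.eval 1 (ψ g) = g := by
    intro g
    induction g using MvPolynomial.induction_on with
    | C a =>
      rw [MvPolynomial.algHom_C]
      simp [Polynomial.algebraMap_apply, MvPolynomial.algebraMap_eq]
    | add f g hf hg => rw [map_add, Polynomial.eval_add, hf, hg]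
    | mul_X f p hf =>
      rw [map_mul, Polynomial.eval_mul, hf, hψX]
      split_ifs <;> simp
  have hψdet : (ψ (Matrix.mvPolynomialX (Fin n) (Fin n) A).det).coeff 0 =
      ∏ i : Fin n, MvPolynomial.X (i, i) := by
    rw [Polynomial.coeff_zero_eq_eval_zero]
    change ((Polynomial.evalRingHom 0).comp ψ.toRingHom) _ = _
    rw [RingHom.map_det]
    have : ((Polynomial.evalRingHom (0 : MvPolynomial (Fin n × Fin n) A)).comp ψ.toRingHom).mapMatrix
        (Matrix.mvPolynomialX (Fin n) (Fin n) A) =
        Matrix.diagonal (fun i => MvPolynomial.X (i, i)) := by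
      ext i j
      simp only [RingHom.mapMatrix_apply, Matrix.map_apply, Matrix.mvPolynomialX_apply,
        RingHom.comp_apply, AlgHom.toRingHom_eq_coe, RingHom.coe_coe, hψX,
        Polynomial.coe_evalRingHom]
      by_cases hij : i = j
      · subst hij; simp
      · simp [hij]
    rw [this, Matrix.det_diagonal]
  have hc : (ψ (Matrix.mvPolynomialX (Fin n) (Fin n) A).det).coeff 0 ∈
      nonZeroDivisors (MvPolynomial (Fin n × Fin n) A) := by
    rw [hψdet]
    exact Submonoid.prod_mem _ (fun i _ => X_mem_nzd (i, i))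
  rw [mem_nonZeroDivisors_iff_left]
  intro g hg
  have h1 : ψ (Matrix.mvPolynomialX (Fin n) (Fin n) A).det * ψ g = 0 := by
    rw [← map_mul, hg, map_zero]
  have h2 := poly_regular_of_coeff_zero _ _ hc h1
  rw [← hψ1 g, h2, Polynomial.eval_zero]

end Groth.Agent.S13785
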