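import Groth.Statements.S13787
import Mathlib
import Groth.Agent.S13785

set_option autoImplicit false
universe u
open CAlg

namespace Groth.Agent.S13787


theorem result (A : Type u) [CommRing A] [Nontrivial A] (n : ℕ) (hn : 0 < n) :
    Function.Injective (fun p : Aˣ × ℤ =>
        Units.map (algebraMap A (Localization.Away (Matrix.mvPolynomialX (Fin n) (Fin n) A).det)).toMonoidHom p.1 *
          (IsLocalization.Away.algebraMap_isUnit (S := Localization.Away (Matrix.mvPolynomialX (Fin n) (Fin n) A).det)
            (Matrix.mvPolynomialX (Fin n) (Fin n) A).det).unit ^ p.2) := by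
  classical
  have hDnzd := Groth.Agent.S13785.result A n
  have hinj : Function.Injective (algebraMap (MvPolynomial (Fin n × Fin n) A)
      (Localization.Away (Matrix.mvPolynomialX (Fin n) (Fin n) A).det)) :=
    IsLocalization.injective _ (Submonoid.powers_le.mpr hDnzd)
  have heval : MvPolynomial.eval (fun _ => (0:A)) (Matrix.mvPolynomialX (Fin n) (Fin n) A).det = 0 := by
    rw [Matrix.eval_det_mvPolynomialX]
    have h0 : (Matrix.of fun i j : Fin n => (0:A)) = 0 := rfl
    have : Nonempty (Fin n) := ⟨⟨0, hn⟩⟩
    rw [h0]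
    exact Matrix.det_zero
  have key : ∀ (a a' : Aˣ) (m : ℕ),
      (algebraMap A (Localization.Away (Matrix.mvPolynomialX (Fin n) (Fin n) A).det) a) *
        (algebraMap (MvPolynomial (Fin n × Fin n) A) _ (Matrix.mvPolynomialX (Fin n) (Fin n) A).det) ^ m =
      algebraMap A _ (a' : A) → m = 0 ∧ a = a' := by
    intro a a' m h
    rw [IsScalarTower.algebraMap_apply A (MvPolynomial (Fin n × Fin n) A)
        (Localization.Away (Matrix.mvPolynomialX (Fin n) (Fin n) A).det),
      IsScalarTower.algebraMap_apply A (MvPolynomial (Fin n × Fin n) A)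
        (Localization.Away (Matrix.mvPolynomialX (Fin n) (Fin n) A).det) (a' : A),
      ← map_pow, ← map_mul] at h
    have h2 := hinj h
    have h3 := congrArg (MvPolynomial.eval (fun _ => (0:A))) h2
    simp only [map_mul, map_pow, heval, MvPolynomial.algebraMap_eq, MvPolynomial.eval_C] at h3
    rcases Nat.eq_zero_or_pos m with rfl | hm
    · simp only [pow_zero, mul_one] at h3
      exact ⟨rfl, Units.ext h3⟩
    · rw [zero_pow hm.ne', mul_zero] at h3
      exact absurd h3.symm a'.ne_zero
  rintro ⟨a, e⟩ ⟨a', e'⟩ h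
  simp only at h
  wlog hle : e' ≤ e generalizing a a' e e'
  · exact (this a' e' a e h.symm (by omega)).symm
  obtain ⟨m, rfl⟩ := Int.le.dest hle
  rw [zpow_add, zpow_natCast, ← mul_assoc, mul_comm _ (_ ^ e'), mul_comm _ (_ ^ e'), mul_assoc] at h
  have h4 := mul_left_cancel h
  have h5 := congrArg Units.val h4
  simp only [Units.val_mul, Units.coe_map, Units.val_pow_eq_pow_val, IsUnit.unit_spec,
    RingHom.toMonoidHom_eq_coe, MonoidHom.coe_coe] at h5
  obtain ⟨hm, haa⟩ := key a a' m h5
  subst hm haa
  simp

end Groth.Agent.S13787
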