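import Groth.Statements.S13789
import Mathlib

set_option autoImplicit false
universe u
open CAlg

namespace Groth.Agent.S13789

theorem part1 {A Q : Type u} [CommRing A] [CommRing Q] [Algebra A Q] [IsFractionRing A Q] (B : Subalgebra A Q)
    (a : A) (ha : a ∈ nonZeroDivisors A) : algebraMap A B a ∈ nonZeroDivisors B := by
  rw [mem_nonZeroDivisors_iff_right]
  intro x hx
  have hu : IsUnit (algebraMap A Q a) := IsLocalization.map_units Q (⟨a, ha⟩ : nonZeroDivisors A)
  have h1 : (x : Q) * algebraMap A Q a = 0 := by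
    have := congrArg (Subtype.val) hx
    simpa using this
  have h2 : (x : Q) = 0 := by
    obtain ⟨u, hu⟩ := hu
    rw [← hu] at h1
    exact (Units.mul_left_eq_zero u).mp h1
  exact Subtype.ext h2

theorem part2 {A Q : Type u} [CommRing A] [CommRing Q] [Algebra A Q] [IsFractionRing A Q] (B : Subalgebra A Q)
    (b : B) (hb : b ∈ nonZeroDivisors B) : ∃ r u : A, r ∈ nonZeroDivisors A ∧ u ∈ nonZeroDivisors A ∧
      (b : Q) * algebraMap A Q u = algebraMap A Q r := by
  obtain ⟨⟨a, s⟩, h⟩ := IsLocalization.surj (nonZeroDivisors A) (b : Q)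
  refine ⟨a, s, ?_, s.2, h⟩
  rw [mem_nonZeroDivisors_iff_right]
  intro x hx
  have hu : IsUnit (algebraMap A Q s) := IsLocalization.map_units Q s
  have h1 : algebraMap A Q x * (b : Q) * algebraMap A Q s = 0 := by
    rw [mul_assoc, h, ← map_mul, hx, map_zero]
  have h2 : algebraMap A Q x * (b : Q) = 0 := by
    obtain ⟨u, hu⟩ := hu
    rw [← hu] at h1
    exact (Units.mul_left_eq_zero u).mp h1
  have h3 : algebraMap A B x * b = 0 := Subtype.ext (by simpa using h2)
  have h4 : algebraMap A B x = 0 := (mul_right_mem_nonZeroDivisors_eq_zero_iff hb).mp h3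
  have h5 : algebraMap A Q x = 0 := by
    have := congrArg Subtype.val h4
    simpa using this
  exact (IsFractionRing.injective A Q) (by rw [h5, map_zero])


theorem result {A Q : Type u} [CommRing A] [CommRing Q] [Algebra A Q] [IsFractionRing A Q] (B : Subalgebra A Q) :
    (∀ a : A, a ∈ nonZeroDivisors A → algebraMap A B a ∈ nonZeroDivisors B) ∧
    (∀ b : B, b ∈ nonZeroDivisors B → ∃ r u : A, r ∈ nonZeroDivisors A ∧ u ∈ nonZeroDivisors A ∧
      (b : Q) * algebraMap A Q u = algebraMap A Q r) := by
  exact ⟨part1 B, part2 B⟩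

end Groth.Agent.S13789
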