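import Groth.Statements.S13790
import Mathlib
import Groth.Agent.S13789

set_option autoImplicit false
universe u
open CAlg

namespace Groth.Agent.S13790


theorem result {A Q : Type u} [CommRing A] [CommRing Q] [Algebra A Q] [IsFractionRing A Q] (B : Subalgebra A Q) :
    IsFractionRing B Q := by
  rw [IsFractionRing, isLocalization_iff]
  refine ⟨?_, ?_, ?_⟩
  · rintro ⟨b, hb⟩
    obtain ⟨r, u, hr, hu, h⟩ := Groth.Agent.S13789.part2 B b hb
    have hru : IsUnit (algebraMap A Q r) := IsLocalization.map_units Q (⟨r, hr⟩ : nonZeroDivisors A)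
    rw [← h] at hru
    exact isUnit_of_mul_isUnit_left hru
  · intro z
    obtain ⟨⟨a, s⟩, h⟩ := IsLocalization.surj (nonZeroDivisors A) z
    refine ⟨⟨algebraMap A B a, ⟨algebraMap A B s, Groth.Agent.S13789.part1 B s s.2⟩⟩, ?_⟩
    exact h
  · intro x y hxy
    refine ⟨1, ?_⟩
    have : x = y := Subtype.ext hxy
    rw [this]

end Groth.Agent.S13790
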