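import Groth.Statements.S13792
import Mathlib
import Groth.Agent.Lib.Helper14.ConsFin
import Groth.Agent.Lib.Helper16.Sch.FibCl1


set_option autoImplicit false
universe u
open CategoryTheory AlgebraicGeometry
open Curves

namespace Groth.Agent.S13792

/-- Let k be a field and E an integral k-scheme of finite type whose underlying space has dimension 1,
and let ι : G → E be a closed immersion. Then either ι is an isomorphism or G is finite over k. (The
published statement is about a closed subgroup scheme of an elliptic curve and its proof states this
fact for E geometrically integral; this row assumes only that E is integral.) -/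
theorem result {k : Type u} [Field k]
    {E G : Scheme.{u}} (f : E ⟶ Spec (CommRingCat.of k)) [LocallyOfFiniteType f] [QuasiCompact f]
    [IsIntegral E] (hdim : topologicalKrullDim ↥E = 1) (ι : G ⟶ E) [IsClosedImmersion ι] :
    IsIso ι ∨ IsFinite (ι ≫ f) := by
  by_cases hs : Function.Surjective ι
  · left
    haveI : Surjective ι := ⟨hs⟩
    exact isIso_of_isClosedImmersion_of_surjective ι
  · right
    haveI : IsIntegral (Spec (CommRingCat.of k)) := inferInstance
    haveI : Subsingleton ↥(Spec (CommRingCat.of k)) :=
      inferInstanceAs (Subsingleton (PrimeSpectrum k))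
    rw [Groth.Agent.Helper14.ConsFin.isFinite_iff_dim_le_zero (ι ≫ f)]
    by_cases hne : Nonempty G
    · have hcl : IsClosed (Set.range ι) := ι.isClosedEmbedding.isClosed_range
      have hgen : closure ({genericPoint E} : Set E) = Set.univ :=
        (genericPoint_spec E).def
      have hnot : genericPoint E ∉ Set.range ι := by
        intro hmem
        apply hs
        rw [← Set.range_eq_univ]
        apply Set.eq_univ_of_univ_subset
        rw [← hgen]
        exact closure_minimal (Set.singleton_subset_iff.2 hmem) hcl
      haveI : Nonempty (Set.range ι) := ⟨⟨ι hne.some, Set.mem_range_self _⟩⟩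
      have h1 := Groth.Agent.Helper16.FibCl.topologicalKrullDim_add_one_le_of_closed
        (genericPoint E) hgen (Set.range ι) hcl hnot
      have h2 : topologicalKrullDim G = topologicalKrullDim (Set.range ι) := by
        let e : G ≃ₜ Set.range ι := ι.isClosedEmbedding.toIsEmbedding.toHomeomorph
        exact IsHomeomorph.topologicalKrullDim_eq e e.isHomeomorph
      rw [h2]
      rw [hdim] at h1
      have key : ∀ x : WithBot ℕ∞, x + 1 ≤ 1 → x ≤ 0 := by
        intro x hx
        induction x using WithBot.recBotCoe with
        | bot => exact bot_le
        | coe n =>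
          have h4 : (n : WithBot ℕ∞) + 1 = ((n + 1 : ℕ∞) : WithBot ℕ∞) := rfl
          rw [h4, ← WithBot.coe_one, WithBot.coe_le_coe] at hx
          rw [← WithBot.coe_zero, WithBot.coe_le_coe]
          have h5 : n + 1 ≤ 0 + 1 := by simpa using hx
          exact (ENat.add_le_add_iff_right (k := 1) (by simp)).1 h5
      exact key _ h1
    · haveI : IsEmpty G := not_nonempty_iff.1 hne
      haveI : IsEmpty (TopologicalSpace.IrreducibleCloseds ↥G) :=
        ⟨fun Z => by obtain ⟨x, _⟩ := Z.isIrreducible'.nonempty; exact isEmptyElim x⟩
      rw [topologicalKrullDim, Order.krullDim_eq_bot]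
      exact bot_le

end Groth.Agent.S13792
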