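import Groth.Statements.S13794
import Mathlib

set_option autoImplicit false
universe u
open Polynomial
open Curves

namespace Groth.Agent.S13794

theorem cubic_coeffs {k : Type u} [Field k] (c3 c2 c1 c0 : k)
    (h : C c3 * X ^ 3 + C c2 * X ^ 2 + C c1 * X + C c0 = (0 : k[X])) :
    c3 = 0 ∧ c2 = 0 ∧ c1 = 0 ∧ c0 = 0 := by
  refine ⟨?_, ?_, ?_, ?_⟩
  · have := congrArg (fun p => Polynomial.coeff p 3) h
    simpa [Polynomial.coeff_X_pow, Polynomial.coeff_X, Polynomial.coeff_C] using this
  · have := congrArg (fun p => Polynomial.coeff p 2) h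
    simpa [Polynomial.coeff_X_pow, Polynomial.coeff_X, Polynomial.coeff_C] using this
  · have := congrArg (fun p => Polynomial.coeff p 1) h
    simpa [Polynomial.coeff_X_pow, Polynomial.coeff_X, Polynomial.coeff_C] using this
  · have := congrArg (fun p => Polynomial.coeff p 0) h
    simpa [Polynomial.coeff_X_pow, Polynomial.coeff_X, Polynomial.coeff_C] using this


theorem result {k : Type u} [Field k] (h3 : (3 : k) ≠ 0)
    (β a b c : k) (hb : b ≠ 0) (hab : a ^ 3 ≠ b ^ 3) (lam x₀ : k)
    (hflex : (X : k[X]) ^ 3 + (C (-a / b) * X + C (-c / b)) ^ 3 + C β - 3 * X * (C (-a / b) * X + C (-c / b)) =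
      C lam * (X - C x₀) ^ 3) :
    ∃ γ : k, β = γ ^ 3 := by
  set m : k := -a / b with hm
  set n : k := -c / b with hn
  have h : C (1 + m ^ 3 - lam) * X ^ 3 + C (3 * m ^ 2 * n - 3 * m + 3 * lam * x₀) * X ^ 2 +
      C (3 * m * n ^ 2 - 3 * n - 3 * lam * x₀ ^ 2) * X + C (n ^ 3 + β + lam * x₀ ^ 3) = (0 : k[X]) := by
    rw [← sub_eq_zero.mpr hflex]
    simp only [map_add, map_sub, map_mul, map_pow, map_one, map_ofNat]
    ring
  obtain ⟨e3, e2, e1, e0⟩ := cubic_coeffs _ _ _ _ h
  have hlam : lam ≠ 0 := by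
    intro h0
    apply hab
    have h1 : m ^ 3 = -1 := by rw [h0] at e3; linear_combination e3
    rw [hm, div_pow] at h1
    have hb3 : b ^ 3 ≠ 0 := pow_ne_zero 3 hb
    field_simp at h1
    linear_combination (-1 : k) * h1
  have e2' : m ^ 2 * n - m + lam * x₀ = 0 := by
    have : 3 * (m ^ 2 * n - m + lam * x₀) = 0 := by linear_combination e2
    rcases mul_eq_zero.mp this with h | h
    · exact absurd h h3
    · exact h
  have e1' : m * n ^ 2 - n - lam * x₀ ^ 2 = 0 := by
    have : 3 * (m * n ^ 2 - n - lam * x₀ ^ 2) = 0 := by linear_combination e1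
    rcases mul_eq_zero.mp this with h | h
    · exact absurd h h3
    · exact h
  have hw : (m * n - 1) * (m * x₀ + n) = 0 := by linear_combination x₀ * e2' + e1'
  rcases mul_eq_zero.mp hw with hw | hw
  · have hx0 : x₀ = 0 := by
      have : lam * x₀ = 0 := by linear_combination e2' - m * hw
      rcases mul_eq_zero.mp this with h | h
      · exact absurd h hlam
      · exact h
    refine ⟨-n, ?_⟩
    rw [hx0] at e0
    linear_combination e0
  · refine ⟨-x₀, ?_⟩
    have hn' : n = -(m * x₀) := by linear_combination hw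
    rw [hn'] at e0
    linear_combination e0 + x₀ ^ 3 * e3

end Groth.Agent.S13794
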