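import Groth.Statements.S13801
import Mathlib

set_option autoImplicit false
open ChowMon

namespace Groth.Agent.S13801

theorem dvd_choose_of_not_pow_dvd (p : ℕ) [Fact p.Prime] (n a : ℕ) (ha : 0 < a) (han : a ≤ n)
    (h : ¬ p ^ padicValNat p n ∣ a) : p ∣ n.choose a := by
  have hp : p.Prime := Fact.out
  by_contra hnd
  apply h
  obtain ⟨a', rfl⟩ : ∃ a', a = a' + 1 := ⟨a - 1, by omega⟩
  obtain ⟨n', rfl⟩ : ∃ n', n = n' + 1 := ⟨n - 1, by omega⟩
  have hid := Nat.add_one_mul_choose_eq n' a'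
  have hcop : Nat.Coprime (p ^ padicValNat p (n' + 1)) ((n' + 1).choose (a' + 1)) :=
    Nat.Coprime.pow_left _ ((Nat.Prime.coprime_iff_not_dvd hp).mpr hnd)
  have hdvd : p ^ padicValNat p (n' + 1) ∣ (n' + 1).choose (a' + 1) * (a' + 1) := by
    rw [← hid]
    exact Dvd.dvd.mul_right pow_padicValNat_dvd _
  exact hcop.dvd_of_dvd_mul_left hdvd


theorem result {k : ℕ} (p : ℕ) [Fact p.Prime]
    (a : Fin k → ℕ) (ha : ∀ i, 0 < a i) :
    (∑ i, padicValNat p (a i).factorial ≤ padicValNat p (∑ i, a i).factorial) ∧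
      ((∃ i, ¬ p ^ padicValNat p (∑ j, a j) ∣ a i) →
        ∑ i, padicValNat p (a i).factorial < padicValNat p (∑ i, a i).factorial) := by
  classical
  have hp : p.Prime := Fact.out
  set n := ∑ i, a i with hn
  set M := Nat.multinomial Finset.univ a with hM
  have hspec : (∏ i, (a i).factorial) * M = n.factorial := Nat.multinomial_spec Finset.univ a
  have hM0 : M ≠ 0 := (Nat.multinomial_pos _ _).ne'
  have hprod0 : (∏ i, (a i).factorial) ≠ 0 :=
    Finset.prod_ne_zero_iff.mpr (fun i _ => Nat.factorial_ne_zero _)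
  have hval : padicValNat p n.factorial = ∑ i, padicValNat p (a i).factorial + padicValNat p M := by
    rw [← hspec, ← Nat.factorization_def _ hp, Nat.factorization_mul hprod0 hM0,
      Nat.factorization_prod (fun i _ => Nat.factorial_ne_zero _)]
    simp only [Finsupp.coe_add, Pi.add_apply, Finsupp.coe_finsetSum, Finset.sum_apply,
      Nat.factorization_def _ hp]
  refine ⟨by rw [hval]; exact Nat.le_add_right _ _, ?_⟩
  rintro ⟨i₀, hi₀⟩
  have hle : a i₀ ≤ n := Finset.single_le_sum (fun i _ => Nat.zero_le _) (Finset.mem_univ i₀)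
  have h1 : p ∣ n.choose (a i₀) := dvd_choose_of_not_pow_dvd p n (a i₀) (ha i₀) hle hi₀
  have h2 : p ∣ M := by
    have huniv : (Finset.univ : Finset (Fin k)) = insert i₀ (Finset.univ.erase i₀) :=
      (Finset.insert_erase (Finset.mem_univ i₀)).symm
    rw [hM, huniv, Nat.multinomial_insert (Finset.notMem_erase i₀ _)]
    have hsum : a i₀ + ∑ i ∈ Finset.univ.erase i₀, a i = n := by
      rw [hn, Finset.add_sum_erase _ _ (Finset.mem_univ i₀)]
    rw [hsum]
    exact Dvd.dvd.mul_right h1 _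
  have h3 : 1 ≤ padicValNat p M := one_le_padicValNat_of_dvd hM0 h2
  rw [hval]
  omega

end Groth.Agent.S13801
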