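import Groth.Statements.S13803
import Groth.Agent.Lib.Helper20.EtaSpec

set_option autoImplicit false
universe u
open EtaPt

namespace Groth.Agent.S13803


theorem result (η : EtaPt.FieldEndo.{u}) (A : Type u) [CommRing A]
    (hA : (minimalPrimes A).Finite) :
    Function.Bijective (PrimeSpectrum.comap (η.q A)) ∧
      ∀ Q : PrimeSpectrum (η.M A),
        ∃ φ : Q.asIdeal.ResidueField →+* η.obj (PrimeSpectrum.comap (η.q A) Q).asIdeal.ResidueField,
          φ.comp (Ideal.ResidueField.map (PrimeSpectrum.comap (η.q A) Q).asIdeal Q.asIdeal (η.q A) rfl) =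
            η.eta (PrimeSpectrum.comap (η.q A) Q).asIdeal.ResidueField := by
  exact ⟨Groth.Agent.Helper20.EtaSpec.comap_q_bijective η hA, fun Q =>
    ⟨Groth.Agent.Helper20.EtaSpec.phiQ η hA Q, Groth.Agent.Helper20.EtaSpec.phiQ_comp_map η hA Q⟩⟩

end Groth.Agent.S13803
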