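import Groth.Statements.S13805
import Groth.Agent.Lib.Helper20.EtaSpec

set_option autoImplicit false
universe u
open EtaPt

namespace Groth.Agent.S13805


theorem result (η : EtaPt.FieldEndo.{u}) (A : Type u) [CommRing A]
    (hA : (minimalPrimes A).Finite) (B : Type u) [CommRing B] [IsReduced B] (f : η.M A →+* B)
    (hf : f.IsIntegral) (hN : Function.Bijective (η.Nmap f)) : Function.Bijective f := by
  exact Groth.Agent.Helper20.EtaSpec.bijective_of_isIntegral_of_reduced η hA B f hf hN

end Groth.Agent.S13805
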