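import Groth.Statements.S13806
import Groth.Agent.Lib.Helper20.EtaSpec

set_option autoImplicit false
universe u
open EtaPt

namespace Groth.Agent.S13806


theorem result (η : EtaPt.FieldEndo.{u}) (A : Type u) [CommRing A]
    (hA : (minimalPrimes A).Finite) (B : Type u) [CommRing B] (g : A →+* B)
    (hg : g.IsIntegral) (hN : Function.Bijective (η.Nmap g)) :
    ∃! g' : B →+* η.M A, g'.comp g = η.q A := by
  exact Groth.Agent.Helper20.EtaSpec.existsUnique_lift_q η hA B g hg hN

end Groth.Agent.S13806
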