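import Groth.Statements.S13807
import Groth.Agent.Lib.Helper20.EtaBase

set_option autoImplicit false
universe u
open EtaPt

namespace Groth.Agent.S13807


theorem result (η : EtaPt.FieldEndo.{u}) (K : Type u) [Field K] : η.M K = ⊤ := by
  exact Groth.Agent.Helper20.EtaBase.M_field_eq_top η K

end Groth.Agent.S13807
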