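import Groth.Statements.S13809
import Groth.Agent.Lib.Helper20.EtaBase

set_option autoImplicit false
universe u
open EtaPt

namespace Groth.Agent.S13809


theorem result (η : EtaPt.FieldEndo.{u}) (A : Type u) [CommRing A] [IsDomain A] [IsIntegrallyClosed A]
    (hA : η.InV A) : Function.Bijective (η.q A) := by
  exact Groth.Agent.Helper20.EtaBase.bijective_q_of_isIntegrallyClosed η A hA

end Groth.Agent.S13809
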