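import Groth.Statements.S13810
import Groth.Agent.Lib.Helper20.EtaProd

set_option autoImplicit false
universe u
open EtaPt

namespace Groth.Agent.S13810


theorem result (η : EtaPt.FieldEndo.{u}) (A B : Type u) [CommRing A] [CommRing B] :
    Set.BijOn (fun x : η.N (A × B) => (η.Nmap (RingHom.fst A B) x, η.Nmap (RingHom.snd A B) x))
      (η.M (A × B)) ((η.M A : Set (η.N A)) ×ˢ (η.M B : Set (η.N B))) := by
  exact Groth.Agent.Helper20.EtaProd.bijOn_M_prod η

end Groth.Agent.S13810
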