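import Groth.Statements.S13811
import Groth.Agent.Lib.Helper20.EtaSpec

set_option autoImplicit false
universe u
open EtaPt

namespace Groth.Agent.S13811


theorem result (η : EtaPt.FieldEndo.{u}) {A B : Type u} [CommRing A] [CommRing B] (f : A →+* B)
    (hf : f.IsIntegral) (hN : Function.Bijective (η.Nmap f))
    (R : Type u) [CommRing R] [IsDomain R] [ValuationRing R] (hR : η.InV R) (g : A →+* R) :
    ∃ g' : B →+* R, g'.comp f = g := by
  exact Groth.Agent.Helper20.EtaSpec.exists_factor η f hf hN R hR g

end Groth.Agent.S13811
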