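import Groth.Statements.S13813
import Groth.Agent.Lib.Helper20.EtaVal

set_option autoImplicit false
universe u
open EtaPt

namespace Groth.Agent.S13813


theorem result (η : EtaPt.FieldEndo.{u}) (R : Type u) [CommRing R] [IsDomain R] [ValuationRing R]
    (hη : η.InV R ∨ ∀ (k : Type u) [Field k], ringChar k = ringChar R →
      Function.Bijective (η.eta k) → PerfectField k) :
    Set.InjOn (fun x : η.N R => x ⟨⊥, Ideal.isPrime_bot⟩) (η.M R) ∧
      (fun x : η.N R => x ⟨⊥, Ideal.isPrime_bot⟩) '' (η.M R : Set (η.N R)) =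
        {y | ((η.eta (⊥ : Ideal R).ResidueField).comp (algebraMap R (⊥ : Ideal R).ResidueField)).IsIntegralElem y} := by
  exact ⟨Groth.Agent.Helper20.EtaVal.gen_injOn η R, Groth.Agent.Helper20.EtaVal.gen_image η hη⟩

end Groth.Agent.S13813
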