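import Groth.Statements.S13815
import Groth.Agent.Lib.Helper20.EtaSpec

set_option autoImplicit false
universe u
open EtaPt

namespace Groth.Agent.S13815


theorem result (η : EtaPt.FieldEndo.{u}) (A : Type u) [CommRing A] (hA : (minimalPrimes A).Finite) :
    (∀ x : η.M A, η.Nmap (η.q A) (x : η.N A) = η.t (η.M A) x) ∧ Function.Bijective (η.q (η.M A)) := by
  exact ⟨Groth.Agent.Helper20.EtaSpec.Nmap_q_eq_t η hA, Groth.Agent.Helper20.EtaSpec.bijective_q_M η hA⟩

end Groth.Agent.S13815
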