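import Groth.Statements.S13816
import Groth.Agent.Lib.Helper20.EtaInt

set_option autoImplicit false
universe u
open EtaPt

namespace Groth.Agent.S13816


theorem result (η : EtaPt.FieldEndo.{u}) {A B : Type u} [CommRing A] [CommRing B] (f : A →+* B)
    (hf : f.IsIntegral) (hs : Function.Surjective (PrimeSpectrum.comap f)) (x : η.N A) :
    x ∈ η.M A ↔ η.Nmap f x ∈ η.M B := by
  exact ⟨fun h => Groth.Agent.Helper20.EtaBase.Nmap_mem_M η f h,
    fun h => Groth.Agent.Helper20.EtaInt.mem_M_of_Nmap_mem_M_of_surjective η f hf hs x h⟩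

end Groth.Agent.S13816
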