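import Groth.Statements.S13817
import Groth.Agent.Lib.Helper20.EtaRel

set_option autoImplicit false
universe u
open EtaPt

namespace Groth.Agent.S13817


theorem result (η : EtaPt.FieldEndo.{u}) {A B : Type u} [CommRing A] [CommRing B] (hA : (minimalPrimes A).Finite)
    (f : A →+* B) (hs : Function.Surjective (PrimeSpectrum.comap f)) :
    (η.qRel f).IsIntegral ∧ Function.Bijective (PrimeSpectrum.comap (η.qRel f)) := by
  exact ⟨Groth.Agent.Helper20.EtaRel.isIntegral_qRel η hA f,
    Groth.Agent.Helper20.EtaRel.comap_qRel_bijective η f hs hA⟩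

end Groth.Agent.S13817
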