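import Groth.Statements.S13818
import Groth.Agent.Lib.Helper20.EtaRel

set_option autoImplicit false
universe u
open EtaPt

namespace Groth.Agent.S13818


theorem result (η : EtaPt.FieldEndo.{u}) {A B : Type u} [CommRing A] [CommRing B] (hA : (minimalPrimes A).Finite)
    (f : A →+* B) (hs : Function.Surjective (PrimeSpectrum.comap f)) :
    (∀ Q : PrimeSpectrum (η.rel f),
        ∃ φ : Q.asIdeal.ResidueField →+* η.obj (PrimeSpectrum.comap (η.qRel f) Q).asIdeal.ResidueField,
          φ.comp (Ideal.ResidueField.map (PrimeSpectrum.comap (η.qRel f) Q).asIdeal Q.asIdeal (η.qRel f) rfl) =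
            η.eta (PrimeSpectrum.comap (η.qRel f) Q).asIdeal.ResidueField) ∧
      Function.Bijective (η.Nmap (η.qRel f)) := by
  exact ⟨fun Q => ⟨Groth.Agent.Helper20.EtaRel.phiRel η f hs hA Q,
    Groth.Agent.Helper20.EtaRel.phiRel_comp_map η f hs hA Q⟩,
    Groth.Agent.Helper20.EtaRel.bijective_Nmap_qRel η f hs hA⟩

end Groth.Agent.S13818
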