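import Groth.Statements.S13819
import Groth.Agent.Lib.Helper20.EtaRel

set_option autoImplicit false
universe u
open EtaPt

namespace Groth.Agent.S13819


theorem result (η : EtaPt.FieldEndo.{u}) {A B' B : Type u} [CommRing A] [CommRing B'] [CommRing B]
    (hA : (minimalPrimes A).Finite) (f₁ : A →+* B') (f₂ : B' →+* B)
    (hs : Function.Surjective (PrimeSpectrum.comap (f₂.comp f₁)))
    (h₁ : f₁.IsIntegral) (hN : Function.Bijective (η.Nmap f₁)) :
    f₂.range ≤ η.rel (f₂.comp f₁) := by
  exact Groth.Agent.Helper20.EtaRel.range_le_rel η f₁ f₂ h₁ hN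

end Groth.Agent.S13819
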