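import Groth.Statements.S13820
import Groth.Agent.Lib.Helper20.EtaRel

set_option autoImplicit false
universe u
open EtaPt

namespace Groth.Agent.S13820


theorem result (η : EtaPt.FieldEndo.{u}) (A B : Type u) [CommRing A] [CommRing B] [Algebra A B]
    (hA : (minimalPrimes A).Finite) (hs : Function.Surjective (PrimeSpectrum.comap (algebraMap A B))) :
    (η.rel (algebraMap A (integralClosure A B))).map (integralClosure A B).val.toRingHom =
      η.rel (algebraMap A B) := by
  exact Groth.Agent.Helper20.EtaRel.rel_integralClosure η A B hA

end Groth.Agent.S13820
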