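import Groth.Statements.S13821
import Groth.Agent.Lib.Helper20.EtaRel

set_option autoImplicit false
universe u
open EtaPt

namespace Groth.Agent.S13821


theorem result (η : EtaPt.FieldEndo.{u}) {A B C : Type u} [CommRing A] [CommRing B] [CommRing C]
    (hA : (minimalPrimes A).Finite) (hB : (minimalPrimes B).Finite) (f : A →+* B) (g : B →+* C)
    (hf : Function.Surjective (PrimeSpectrum.comap f)) (hg : Function.Surjective (PrimeSpectrum.comap g)) :
    (Function.Bijective (η.qRel f) → Function.Bijective (η.qRel g) → Function.Bijective (η.qRel (g.comp f))) ∧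
      (Function.Injective g → Function.Bijective (η.qRel (g.comp f)) → Function.Bijective (η.qRel f)) := by
  exact ⟨fun h1 h2 => Groth.Agent.Helper20.EtaRel.bijective_qRel_comp η f g hg h1 h2,
    fun hgi h => Groth.Agent.Helper20.EtaRel.bijective_qRel_of_comp η f g hgi h⟩

end Groth.Agent.S13821
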