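import Groth.Statements.S13822
import Groth.Agent.Lib.Helper20.EtaRel

set_option autoImplicit false
universe u
open scoped TensorProduct
open EtaPt

namespace Groth.Agent.S13822


theorem result (η : EtaPt.FieldEndo.{u}) (A A' B : Type u) [CommRing A] [CommRing A'] [CommRing B]
    [Algebra A A'] [Algebra A B] [Module.FaithfullyFlat A A']
    (hA : (minimalPrimes A).Finite) (hA' : (minimalPrimes A').Finite)
    (hs : Function.Surjective (PrimeSpectrum.comap (algebraMap A B)))
    (h : Function.Bijective (η.qRel (Algebra.TensorProduct.includeLeftRingHom : A' →+* A' ⊗[A] B))) :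
    Function.Bijective (η.qRel (algebraMap A B)) := by
  exact Groth.Agent.Helper20.EtaRel.bijective_qRel_of_faithfullyFlat η A A' B h

end Groth.Agent.S13822
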