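import Groth.Statements.S13824
import Groth.Agent.Lib.Helper20.EtaLoc

set_option autoImplicit false
universe u
open EtaPt

namespace Groth.Agent.S13824


theorem result (η : EtaPt.FieldEndo.{u}) (A : Type u) [CommRing A] (f : A) :
    (∀ y : η.N (Localization.Away f), ∃ (x : η.N A) (n : ℕ),
        y * η.t (Localization.Away f) (algebraMap A (Localization.Away f) f) ^ n =
          η.Nmap (algebraMap A (Localization.Away f)) x) ∧
      ∀ x : η.N A, η.Nmap (algebraMap A (Localization.Away f)) x = 0 → ∃ n : ℕ, η.t A f ^ n * x = 0 := by
  exact Groth.Agent.Helper20.EtaLoc.Nmap_away_isLocalization η f (Localization.Away f)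

end Groth.Agent.S13824
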