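import Groth.Statements.S13825
import Groth.Agent.Lib.Helper20.EtaLoc

set_option autoImplicit false
universe u
open EtaPt

namespace Groth.Agent.S13825


theorem result (η : EtaPt.FieldEndo.{u}) (A : Type u) [CommRing A] (hA : (minimalPrimes A).Finite) (f : A) :
    (∀ y ∈ η.M (Localization.Away f), ∃ x ∈ η.M A, ∃ n : ℕ,
        y * η.t (Localization.Away f) (algebraMap A (Localization.Away f) f) ^ n =
          η.Nmap (algebraMap A (Localization.Away f)) x) ∧
      ∀ x ∈ η.M A, η.Nmap (algebraMap A (Localization.Away f)) x = 0 → ∃ n : ℕ, η.t A f ^ n * x = 0 := by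
  exact Groth.Agent.Helper20.EtaLoc.M_away_isLocalization η f (Localization.Away f) hA

end Groth.Agent.S13825
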