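import Groth.Statements.S13826
import Groth.Agent.Lib.Helper20.EtaSN

set_option autoImplicit false
universe u
open EtaPt

namespace Groth.Agent.S13826


theorem result (A : Type u) [CommRing A] (hA : (minimalPrimes A).Finite) :
    HTop.IsRingSN (EtaPt.FieldEndo.ident.{u}.q A) := by
  exact Groth.Agent.Helper20.EtaSN.isRingSN_q_ident A hA

end Groth.Agent.S13826
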