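import Groth.Statements.S13827
import Groth.Agent.Lib.Helper20.EtaNormal

set_option autoImplicit false
universe u
open EtaPt

namespace Groth.Agent.S13827


theorem result (η : EtaPt.FieldEndo.{u}) (A : Type u) [CommRing A] (hn : EGA4.IsNormalRing A)
    (hA : (minimalPrimes A).Finite)
    (hη : ∀ p : PrimeSpectrum A, p.asIdeal ∈ minimalPrimes A → Function.Bijective (η.eta p.asIdeal.ResidueField)) :
    Function.Bijective (η.q A) := by
  exact Groth.Agent.Helper20.EtaNormal.bijective_q_of_isNormalRing η A hn hA hη

end Groth.Agent.S13827
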