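import Groth.Statements.S13829
import Groth.Agent.Lib.Helper20.EtaLoc

set_option autoImplicit false
universe u
open EtaPt

namespace Groth.Agent.S13829


theorem result (η : EtaPt.FieldEndo.{u}) {A B : Type u} [CommRing A] [CommRing B] (hA : (minimalPrimes A).Finite)
    (φ : A →+* B) (hs : Function.Surjective (PrimeSpectrum.comap φ)) (f : A) :
    (η.rel φ).map (algebraMap B (Localization.Away (φ f))) ≤ η.rel (Localization.awayMap φ f) ∧
      ∀ y ∈ η.rel (Localization.awayMap φ f), ∃ x ∈ η.rel φ, ∃ n : ℕ,
        y * algebraMap B (Localization.Away (φ f)) (φ f) ^ n = algebraMap B (Localization.Away (φ f)) x := by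
  exact Groth.Agent.Helper20.EtaLoc.rel_away_isLocalization η hA φ f

end Groth.Agent.S13829
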