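import Groth.Statements.S13831
import Groth.Agent.Lib.Helper21.ResDeg

set_option autoImplicit false
universe u
open AlgebraicGeometry
open ChowMon

namespace Groth.Agent.S13831

/-- For a finite universal homeomorphism p : T' → T of Noetherian schemes there is an integer d ≥ 1 such
that for every point t' of T' over t the residue field degree [k(t') : k(t)] is a power of the
exponential characteristic of k(t) dividing d. -/
theorem result {T' T : Scheme.{u}} (p : T' ⟶ T) [IsFinite p] (hp : FlatMor.IsUnivHomeo p)
    [IsNoetherian T] [IsNoetherian T'] [T.IsSeparated] [T'.IsSeparated] :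
    ∃ d : ℕ, 0 < d ∧ ∀ t' : T', ∃ e : ℕ,
      @Module.finrank (T.residueField (p t')) (T'.residueField t') _ _
          (p.residueFieldMap t').hom.toAlgebra.toModule =
        ringExpChar (T.residueField (p t')) ^ e ∧
      ringExpChar (T.residueField (p t')) ^ e ∣ d := by
  classical
  obtain ⟨N, hN⟩ := Groth.Agent.Helper21.ResDeg.bound p
  have hUI : UniversallyInjective p := ((Groth.Agent.Helper11.UH.isUnivHomeo_iff p).mp hp).2.1
  have h02 := (tfae_universallyInjective p).out 0 2
  have hpi := (h02.mp hUI).2
  refine ⟨N.factorial, Nat.factorial_pos N, fun t' => ?_⟩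
  obtain ⟨hfin, hle⟩ := hN t'
  letI := (p.residueFieldMap t').hom.toAlgebra
  haveI : IsPurelyInseparable (T.residueField (p t')) (T'.residueField t') := hpi t'
  haveI : FiniteDimensional (T.residueField (p t')) (T'.residueField t') := hfin
  obtain ⟨e, he⟩ := IsPurelyInseparable.finrank_eq_pow (T.residueField (p t'))
    (T'.residueField t') (ringExpChar (T.residueField (p t')))
  refine ⟨e, he, ?_⟩
  rw [← he]
  refine Nat.dvd_factorial ?_ hle
  rw [he]
  have hq : 0 < ringExpChar (T.residueField (p t')) := by
    unfold ringExpChar
    exact lt_of_lt_of_le Nat.one_pos (le_max_right _ _)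
  exact pow_pos hq e

end Groth.Agent.S13831
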