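import Groth.Statements.S13834
import Mathlib.AlgebraicGeometry.AffineScheme
import Groth.Agent.Lib.Helper2.GenericPtsTop
import Groth.Agent.S1148
-- import your own Groth.Agent.* helpers here

set_option autoImplicit false
universe u
open AlgebraicGeometry
open EtaPt

namespace Groth.Agent.S13834

section
open AlgebraicGeometry CategoryTheory TopologicalSpace Topology Groth.Agent.Helper2.GenericPtsTop

/-- finiteness of irreducible components of an open subset in terms of generic points of the
ambient scheme. -/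
theorem finite_iff_opens {X : Scheme.{u}} (U : X.Opens) :
    (irreducibleComponents (U : Type u)).Finite ↔ ((U : Set X) ∩ genericPoints X).Finite := by
  have := finite_irreducibleComponents_iff_of_isOpenEmbedding (α := (U : Scheme.{u})) (β := X)
    (j := U.ι) U.ι.isOpenEmbedding
  rw [Scheme.Opens.range_ι] at this
  exact this

theorem finite_iff_affine {X : Scheme.{u}} {U : X.Opens} (hU : IsAffineOpen U) :
    (irreducibleComponents (PrimeSpectrum Γ(X, U))).Finite ↔
      ((U : Set X) ∩ genericPoints X).Finite := by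
  have := finite_irreducibleComponents_iff_of_isOpenEmbedding (α := Spec Γ(X, U)) (β := X)
    (j := hU.fromSpec) hU.fromSpec.isOpenEmbedding
  rw [hU.range_fromSpec] at this
  exact this

theorem affine_piece {Y X : Scheme.{u}} (f : Y ⟶ X) [Flat f] [LocallyOfFinitePresentation f]
    (hX : ∀ U : X.Opens, IsCompact (U : Set X) → (irreducibleComponents (U : Type u)).Finite)
    {W : Y.Opens} (hW : IsAffineOpen W) {U : X.Opens} (hU : IsAffineOpen U) (e : W ≤ f ⁻¹ᵁ U) :
    ((W : Set Y) ∩ genericPoints Y).Finite := by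
  have hA : (irreducibleComponents (PrimeSpectrum Γ(X, U))).Finite :=
    (finite_iff_affine hU).mpr ((finite_iff_opens U).mp (hX U hU.isCompact))
  let φ : Γ(X, U) →+* Γ(Y, W) := (f.appLE U W e).hom
  letI : Algebra Γ(X, U) Γ(Y, W) := φ.toAlgebra
  have hflat : RingHom.Flat φ :=
    HasRingHomProperty.appLE (P := @Flat) f inferInstance ⟨U, hU⟩ ⟨W, hW⟩ e
  have hfp : RingHom.FinitePresentation φ :=
    HasRingHomProperty.appLE (P := @LocallyOfFinitePresentation) f inferInstance ⟨U, hU⟩ ⟨W, hW⟩ e
  haveI : Module.Flat Γ(X, U) Γ(Y, W) := hflat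
  haveI : Algebra.FinitePresentation Γ(X, U) Γ(Y, W) := hfp
  have hB := Groth.Agent.S1148.main Γ(X, U) Γ(Y, W) hA
  exact (finite_iff_affine hW).mp hB

theorem main {Y X : Scheme.{u}} (f : Y ⟶ X) [Flat f] [LocallyOfFinitePresentation f]
    (hX : ∀ U : X.Opens, IsCompact (U : Set X) → (irreducibleComponents (U : Type u)).Finite)
    (V : Y.Opens) (hV : IsCompact (V : Set Y)) : (irreducibleComponents (V : Type u)).Finite := by
  rw [finite_iff_opens]
  -- affine neighbourhoods
  have key : ∀ y ∈ (V : Set Y), ∃ W : Y.Opens, y ∈ W ∧ W ≤ V ∧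
      ((W : Set Y) ∩ genericPoints Y).Finite := by
    intro y hy
    obtain ⟨_, ⟨U, hU, rfl⟩, hfyU, -⟩ :=
      X.isBasis_affineOpens.exists_subset_of_mem_open (Set.mem_univ (f y)) isOpen_univ
    have hyS : y ∈ ((V ⊓ f ⁻¹ᵁ U : Y.Opens) : Set Y) := ⟨hy, hfyU⟩
    obtain ⟨_, ⟨W, hW, rfl⟩, hyW, hWS⟩ :=
      Y.isBasis_affineOpens.exists_subset_of_mem_open hyS (V ⊓ f ⁻¹ᵁ U).isOpen
    have hWV : W ≤ V := fun z hz => (hWS hz).1
    have hWU : W ≤ f ⁻¹ᵁ U := fun z hz => (hWS hz).2
    exact ⟨W, hyW, hWV, affine_piece f hX hW hU hWU⟩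
  choose! W hyW hWV hfin using key
  obtain ⟨t, ht, hcov⟩ := hV.elim_nhds_subcover (fun y => (W y : Set Y))
    (fun y hy => (W y).isOpen.mem_nhds (hyW y hy))
  refine ((t.finite_toSet.biUnion (fun y hy => hfin y (ht y hy))).subset ?_)
  rintro z ⟨hzV, hzg⟩
  obtain ⟨y, hy⟩ := Set.mem_iUnion.mp (hcov hzV)
  obtain ⟨hyt, hzW⟩ := Set.mem_iUnion.mp hy
  exact Set.mem_iUnion₂.mpr ⟨y, hyt, hzW, hzg⟩

end

/-- If f : Y → X is faithfully flat and locally of finite presentation and each quasi-compact open
subset of X has only finitely many irreducible components, the same is true of each quasi-compact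
open subset of Y. -/
theorem result {Y X : Scheme.{u}} (f : Y ⟶ X) [Flat f] [LocallyOfFinitePresentation f] [Surjective f]
    (hX : ∀ U : X.Opens, IsCompact (U : Set X) → (irreducibleComponents (U : Type u)).Finite)
    (V : Y.Opens) (hV : IsCompact (V : Set Y)) : (irreducibleComponents (V : Type u)).Finite := by
  exact Groth.Agent.S13834.main f hX V hV

end Groth.Agent.S13834
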