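import Groth.Statements.S13835
import Groth.Agent.Lib.Helper11.UnivHomeo

set_option autoImplicit false
universe u
open AlgebraicGeometry CategoryTheory
open ChowMon

namespace Groth.Agent.S13835

/-- Let p : T' → T be a universal homeomorphism of separated schemes with T reduced and f' : T' → Y a
morphism (Y separated); if T has an open cover by affine opens U_i such that each restriction of f'
to p⁻¹(U_i) factors through p⁻¹(U_i) → U_i, then f' factors through p. -/
theorem result {T' T Y : Scheme.{u}} (p : T' ⟶ T) (hp : FlatMor.IsUnivHomeo p) [IsReduced T]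
    [T.IsSeparated] [T'.IsSeparated] [Y.IsSeparated] (f' : T' ⟶ Y)
    {ι : Type u} (U : ι → T.affineOpens) (hU : ⨆ i, (U i : T.Opens) = ⊤)
    (hloc : ∀ i, ∃ fi : ((U i : T.Opens) : Scheme.{u}) ⟶ Y, (p ⁻¹ᵁ (U i : T.Opens)).ι ≫ f' = (p ∣_ (U i : T.Opens)) ≫ fi) :
    ∃ f : T ⟶ Y, p ≫ f = f' := by
  choose fi hfi using hloc
  have hsurj : Surjective p := ((Groth.Agent.Helper11.UH.isUnivHomeo_iff p).mp hp).2.2
  let 𝒰 : T.OpenCover := T.openCoverOfIsOpenCover (fun i => (U i : T.Opens)) hU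
  have hcompat : ∀ i j, Limits.pullback.fst (𝒰.f i) (𝒰.f j) ≫ fi i =
      Limits.pullback.snd (𝒰.f i) (𝒰.f j) ≫ fi j := by
    intro (i : ι) (j : ι)
    let g : Limits.pullback (𝒰.f i) (𝒰.f j) ⟶ T := Limits.pullback.fst (𝒰.f i) (𝒰.f j) ≫ 𝒰.f i
    haveI : IsReduced (Limits.pullback (𝒰.f i) (𝒰.f j)) := isReduced_of_isOpenImmersion g
    let w₁ : Limits.pullback p g ⟶ T' := Limits.pullback.fst p g
    let w₂ : Limits.pullback p g ⟶ Limits.pullback (𝒰.f i) (𝒰.f j) := Limits.pullback.snd p g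
    haveI hw₂ : Surjective w₂ := MorphismProperty.pullback_snd (P := @Surjective) p g hsurj
    haveI : IsDominant w₂ := inferInstance
    apply ext_of_isDominant w₂
    have hw : w₁ ≫ p = w₂ ≫ g := Limits.pullback.condition
    have key : ∀ (k : ι) (h : Limits.pullback (𝒰.f i) (𝒰.f j) ⟶ ((U k : T.Opens) : Scheme.{u}))
        (hh : h ≫ (U k : T.Opens).ι = g), w₂ ≫ h ≫ fi k = w₁ ≫ f' := by
      intro k h hh
      have hpb := isPullback_morphismRestrict p (U k : T.Opens)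
      let l := hpb.lift (w₂ ≫ h) w₁ (by rw [Category.assoc, hh, hw])
      have h1 : l ≫ (p ∣_ (U k : T.Opens)) = w₂ ≫ h := hpb.lift_fst _ _ _
      have h2 : l ≫ (p ⁻¹ᵁ (U k : T.Opens)).ι = w₁ := hpb.lift_snd _ _ _
      rw [← Category.assoc, ← h1, Category.assoc, ← hfi k, ← Category.assoc, h2]
    exact (key i (Limits.pullback.fst _ _) rfl).trans
      (key j (Limits.pullback.snd _ _) (Limits.pullback.condition).symm).symm
  refine ⟨𝒰.glueMorphisms fi hcompat, ?_⟩
  have hU' : TopologicalSpace.IsOpenCover (fun i => p ⁻¹ᵁ (U i : T.Opens)) := by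
    rw [TopologicalSpace.IsOpenCover, eq_top_iff]
    intro x _
    have hx : p x ∈ ⨆ i, (U i : T.Opens) := hU.symm ▸ (show p x ∈ (⊤ : T.Opens) by trivial)
    rw [TopologicalSpace.Opens.mem_iSup] at hx ⊢
    obtain ⟨i, hi⟩ := hx
    exact ⟨i, hi⟩
  apply (T'.openCoverOfIsOpenCover _ hU').hom_ext
  intro i
  show (p ⁻¹ᵁ (U i : T.Opens)).ι ≫ p ≫ _ = (p ⁻¹ᵁ (U i : T.Opens)).ι ≫ f'
  rw [hfi i, ← Category.assoc, ← morphismRestrict_ι, Category.assoc]
  congr 1
  exact 𝒰.ι_glueMorphisms fi hcompat i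

end Groth.Agent.S13835
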