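import Groth.Statements.S8525
import Mathlib.AlgebraicGeometry.Sites.EtalePoint

set_option autoImplicit false
universe u
open CategoryTheory CategoryTheory.Limits AlgebraicGeometry Opposite
open EtAcyc

namespace Groth.Agent.S8525

/-- Let L be a set of primes and F an abelian sheaf on the small etale site of a scheme X. Then F is an
L-torsion sheaf if and only if for every geometric point ξ of X every element of the stalk F_ξ is
killed by a positive integer all of whose prime factors lie in L. -/
theorem result {X : Scheme.{u}} (L : Set ℕ) (F : EtCoh.Ab X) :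
    EtAcyc.IsLTorsion L F ↔
      ∀ (Ω : Type u) [Field Ω] [IsSepClosed Ω] (ξ : Spec (CommRingCat.of Ω) ⟶ X)
        (t : (EtCoh.stalk ξ).obj F), ∃ m : ℕ, EtAcyc.PrimesIn L m ∧ m • t = 0 := by
  have : PreservesFilteredColimitsOfSize.{u, u} (forget AddCommGrpCat.{u + 1}) :=
    preservesFilteredColimitsOfSize_shrink.{u, u + 1, u, u + 1} (forget AddCommGrpCat.{u + 1})
  constructor
  · intro hF Ω _ _ ξ t
    obtain ⟨U, x, s, rfl⟩ := (Scheme.pointSmallEtale ξ).toPresheafFiber_jointly_surjective (P := F.obj) t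
    have hxw : x.left ≫ U.hom = ξ := Over.w x
    obtain ⟨V, g, m, ⟨v, hv⟩, hm, hs⟩ := hF U s (x.left.base (default : Spec (CommRingCat.of Ω)))
    obtain ⟨l, hl₁, hl₂⟩ := Scheme.exists_fac_of_etale_of_isSepClosed g.left x.left v hv
    have hgw : g.left ≫ U.hom = V.hom := MorphismProperty.Over.w g
    let y : (Scheme.pointSmallEtale ξ).fiber.obj V := Over.homMk l (by
      change l ≫ V.hom = ξ
      rw [← hgw, ← Category.assoc, hl₁]
      exact hxw)
    have hy : (Scheme.pointSmallEtale ξ).fiber.map g y = x := by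
      apply Over.OverMorphism.ext
      exact hl₁
    refine ⟨m, hm, ?_⟩
    rw [← hy, ← GrothendieckTopology.Point.toPresheafFiber_w_apply]
    erw [← map_nsmul]
    rw [hs]
    exact map_zero ((Scheme.pointSmallEtale ξ).toPresheafFiber V y F.obj).hom
  · intro h U s x
    let s₀ : X := U.hom.base x
    let Ω := SeparableClosure (X.residueField s₀)
    let ξ : Spec (CommRingCat.of Ω) ⟶ X :=
      (Scheme.SpecToEquivOfField Ω X).2 ⟨s₀, CommRingCat.ofHom (algebraMap (X.residueField s₀) Ω)⟩
    have hξ : ξ.base default = s₀ := by simp [ξ, Scheme.SpecToEquivOfField]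
    obtain ⟨x', hx'⟩ := Scheme.pointSmallEtaleFiberObjToPreimage_surjective ξ hξ U ⟨x, rfl⟩
    rw [Subtype.ext_iff] at hx'
    obtain ⟨m, hm, hmt⟩ := h Ω ξ ((Scheme.pointSmallEtale ξ).toPresheafFiber U x' F.obj s)
    have hmt' : (Scheme.pointSmallEtale ξ).toPresheafFiber U x' F.obj (m • s) =
        (Scheme.pointSmallEtale ξ).toPresheafFiber U x' F.obj 0 := by
      rw [map_nsmul, map_zero]
      exact hmt
    rw [GrothendieckTopology.Point.toPresheafFiber_eq_iff'] at hmt'
    obtain ⟨V, g, y, hy, hs⟩ := hmt'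
    refine ⟨V, g, m, ⟨y.left.base (default : Spec (CommRingCat.of Ω)), ?_⟩, hm, ?_⟩
    · rw [← hy] at hx'
      exact hx'
    · rw [← map_nsmul, hs, map_zero]

end Groth.Agent.S8525
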