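import Groth.Statements.S3513
import Mathlib
import Groth.Prelude.Def_EtCore
import Groth.Prelude.Def_EtAcyc
import Groth.Agent.S0101
import Groth.Agent.S8525
import Groth.Agent.Lib.Helper1.SHC11
import Groth.Agent.Lib.Helper10.ExtAdj
import Groth.Agent.Lib.Helper24.EtDesc

set_option autoImplicit false
universe u
open CategoryTheory CategoryTheory.Limits AlgebraicGeometry Opposite
open EtAcyc

namespace Groth.Agent.S3513

section helpers

open CategoryTheory.Abelian Groth.Agent.Helper10.ExtAdj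

variable {X Y Z : Scheme.{u}}

lemma Hpull_apply (h : Y ⟶ X) [PreservesFiniteLimits (EtCoh.pull h)] (A : EtCoh.Ab X) (m : ℕ)
    (x : EtCoh.H X A m) :
    EtCore.Hpull h A m x = (Ext.mk₀ (EtCore.pullConst h ℤ).inv).comp
      (x.mapExactFunctor (EtCoh.pull h)) (zero_add m) := rfl

/-- `Hpull` of a composite is, up to a bijection, the composite of the `Hpull`s. -/
lemma Hpull_comp_factor (a : X ⟶ Y) (b : Y ⟶ Z) (F : EtCoh.Ab Z) (m : ℕ) :
    ∃ B : EtCoh.H X ((EtCoh.pull a).obj ((EtCoh.pull b).obj F)) m ≃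
        EtCoh.H X ((EtCoh.pull (a ≫ b)).obj F) m,
      ∀ x, EtCore.Hpull (a ≫ b) F m x = B (EtCore.Hpull a _ m (EtCore.Hpull b F m x)) := by
  let θ := EtCore.pullComp a b
  let ca := EtCore.pullConst a ℤ
  let cb := EtCore.pullConst b ℤ
  let cab := EtCore.pullConst (a ≫ b) ℤ
  let i₁ : (EtCoh.pull a).obj ((EtCoh.pull b).obj (EtCoh.const Z ℤ)) ≅ EtCoh.const X ℤ :=
    (EtCoh.pull a).mapIso cb ≪≫ ca
  let E₄ := extCongrLeft i₁.symm ((EtCoh.pull a).obj ((EtCoh.pull b).obj F)) m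
  let E₃ := extCongrLeft (θ.app (EtCoh.const Z ℤ)) ((EtCoh.pull a).obj ((EtCoh.pull b).obj F)) m
  let E₂ := extCongrRight ((EtCoh.pull (a ≫ b)).obj (EtCoh.const Z ℤ)) (θ.symm.app F) m
  let E₁ := extCongrLeft cab.symm ((EtCoh.pull (a ≫ b)).obj F) m
  refine ⟨(E₄.symm.trans (E₃.trans (E₂.trans E₁))).toEquiv, fun x => ?_⟩
  let y := (x.mapExactFunctor (EtCoh.pull b)).mapExactFunctor (EtCoh.pull a)
  have h1 : EtCore.Hpull a _ m (EtCore.Hpull b F m x) = E₄ y := by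
    rw [Hpull_apply, Hpull_apply, Ext.mapExactFunctor_comp, Ext.mapExactFunctor_mk₀,
      Ext.mk₀_comp_mk₀_assoc]
    rfl
  have hnat := ExtMap.naturality (ExtMap.ofFunctor (EtCoh.pull (a ≫ b)))
    ((ExtMap.ofFunctor (EtCoh.pull b)).comp (ExtMap.ofFunctor (EtCoh.pull a))) θ.hom m x
  have hnat' : (Ext.mk₀ (θ.hom.app (EtCoh.const Z ℤ))).comp y (zero_add m) =
      (x.mapExactFunctor (EtCoh.pull (a ≫ b))).comp (Ext.mk₀ (θ.hom.app F)) (add_zero m) := hnat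
  have h2 : x.mapExactFunctor (EtCoh.pull (a ≫ b)) = E₂ (E₃ y) := by
    show _ = ((Ext.mk₀ (θ.hom.app (EtCoh.const Z ℤ))).comp y (zero_add m)).comp
      (Ext.mk₀ (θ.inv.app F)) (add_zero m)
    rw [hnat', Ext.comp_assoc_of_third_deg_zero, Ext.mk₀_comp_mk₀, Iso.hom_inv_id_app,
      Ext.comp_mk₀_id]
  rw [h1]
  show _ = E₁ (E₂ (E₃ (E₄.symm (E₄ y))))
  rw [AddEquiv.symm_apply_apply, ← h2]
  rfl


lemma Hpull_id_bijective (F : EtCoh.Ab X) (m : ℕ) :
    Function.Bijective (EtCore.Hpull (𝟙 X) F m) := by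
  let e := Groth.Agent.Helper24.EtDesc.pullId X
  let c := EtCore.pullConst (𝟙 X) ℤ
  let E₃ := extCongrLeft (e.app (EtCoh.const X ℤ)) F m
  let E₂ := extCongrRight ((EtCoh.pull (𝟙 X)).obj (EtCoh.const X ℤ)) (e.symm.app F) m
  let E₁ := extCongrLeft c.symm ((EtCoh.pull (𝟙 X)).obj F) m
  have key : ∀ x, EtCore.Hpull (𝟙 X) F m x = E₁ (E₂ (E₃ x)) := by
    intro x
    have hnat := ExtMap.naturality (ExtMap.ofFunctor (EtCoh.pull (𝟙 X))) ExtMap.id e.hom m x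
    have hnat' : (Ext.mk₀ (e.hom.app (EtCoh.const X ℤ))).comp x (zero_add m) =
        (x.mapExactFunctor (EtCoh.pull (𝟙 X))).comp (Ext.mk₀ (e.hom.app F)) (add_zero m) := hnat
    have h2 : x.mapExactFunctor (EtCoh.pull (𝟙 X)) = E₂ (E₃ x) := by
      show _ = ((Ext.mk₀ (e.hom.app (EtCoh.const X ℤ))).comp x (zero_add m)).comp
        (Ext.mk₀ (e.inv.app F)) (add_zero m)
      rw [hnat', Ext.comp_assoc_of_third_deg_zero, Ext.mk₀_comp_mk₀, Iso.hom_inv_id_app,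
        Ext.comp_mk₀_id]
    rw [← h2]
    rfl
  have : (⇑(EtCore.Hpull (𝟙 X) F m) : _ → _) = ⇑(E₃.trans (E₂.trans E₁)) := funext key
  rw [this]
  exact (E₃.trans (E₂.trans E₁)).bijective

lemma Hpull_bijective_of_eq_id (f : X ⟶ X) (hf : f = 𝟙 X) (F : EtCoh.Ab X) (m : ℕ) :
    Function.Bijective (EtCore.Hpull f F m) := by
  subst hf
  exact Hpull_id_bijective F m

lemma Hpull_iso_injective {A B : Scheme.{u}} (ψ : A ≅ B) (M : EtCoh.Ab B) (m : ℕ) :
    Function.Injective (EtCore.Hpull ψ.hom M m) := by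
  obtain ⟨Bq, hB⟩ := Hpull_comp_factor ψ.inv ψ.hom M m
  have hbij := Hpull_bijective_of_eq_id (ψ.inv ≫ ψ.hom) ψ.inv_hom_id M m
  intro x y hxy
  apply hbij.1
  rw [hB, hB, hxy]

lemma Hpull_iso_bijective {A B : Scheme.{u}} (ψ : A ≅ B) (M : EtCoh.Ab B) (m : ℕ) :
    Function.Bijective (EtCore.Hpull ψ.hom M m) := by
  refine ⟨Hpull_iso_injective ψ M m, fun y => ?_⟩
  obtain ⟨Bq, hB⟩ := Hpull_comp_factor ψ.inv ψ.hom M m
  have hbij := Hpull_bijective_of_eq_id (ψ.inv ≫ ψ.hom) ψ.inv_hom_id M m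
  have hinj : Function.Injective (EtCore.Hpull ψ.inv ((EtCoh.pull ψ.hom).obj M) m) :=
    Hpull_iso_injective ψ.symm _ m
  obtain ⟨x, hx⟩ := hbij.2 (Bq (EtCore.Hpull ψ.inv _ m y))
  refine ⟨x, ?_⟩
  rw [hB] at hx
  exact hinj (Bq.injective hx)

lemma isLTorsion_pull (f : X ⟶ Y) (L : Set ℕ) (G : EtCoh.Ab Y) (hG : EtAcyc.IsLTorsion L G) :
    EtAcyc.IsLTorsion L ((EtCoh.pull f).obj G) := by
  rw [Groth.Agent.S8525.result]
  intro Ω _ _ ξ t
  obtain ⟨e⟩ := Groth.Agent.Helper1.SHC.nonempty_stalk_pull_iso f ξ G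
  obtain ⟨m, hm, hmt⟩ := (Groth.Agent.S8525.result L G).1 hG Ω (ξ ≫ f) (e.hom t)
  refine ⟨m, hm, ?_⟩
  have hinj : Function.Injective e.hom := by
    intro a b hab
    have := congrArg e.inv hab
    simpa using this
  apply hinj
  rw [map_nsmul, hmt, map_zero]


lemma compN_comp {a : X ⟶ Y} {b : Y ⟶ Z} {L : Set ℕ} {n : ℕ} (ha : EtAcyc.CompN a L n)
    (hb : EtAcyc.CompN b L n) : EtAcyc.CompN (a ≫ b) L n := by
  intro F hF _
  obtain ⟨hb1, hb2⟩ := hb F hF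
  obtain ⟨ha1, ha2⟩ := ha ((EtCoh.pull b).obj F) (isLTorsion_pull b L F hF)
  constructor
  · intro q hq
    obtain ⟨B, hB⟩ := Hpull_comp_factor a b F q
    have key : (⇑(EtCore.Hpull (a ≫ b) F q) : _ → _) =
        B ∘ (EtCore.Hpull a _ q) ∘ (EtCore.Hpull b F q) := funext hB
    rw [key]
    exact B.bijective.comp ((ha1 q hq).comp (hb1 q hq))
  · obtain ⟨B, hB⟩ := Hpull_comp_factor a b F (n + 1)
    have key : (⇑(EtCore.Hpull (a ≫ b) F (n + 1)) : _ → _) =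
        B ∘ (EtCore.Hpull a _ (n + 1)) ∘ (EtCore.Hpull b F (n + 1)) := funext hB
    rw [key]
    exact B.injective.comp (ha2.comp hb2)

lemma compN_of_comp {a : X ⟶ Y} {b : Y ⟶ Z} {L : Set ℕ} {n : ℕ} (ha : EtAcyc.CompN a L n)
    (hab : EtAcyc.CompN (a ≫ b) L n) : EtAcyc.CompN b L n := by
  intro F hF _
  obtain ⟨hab1, hab2⟩ := hab F hF
  obtain ⟨ha1, ha2⟩ := ha ((EtCoh.pull b).obj F) (isLTorsion_pull b L F hF)
  constructor
  · intro q hq
    obtain ⟨B, hB⟩ := Hpull_comp_factor a b F q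
    have key : (⇑(EtCore.Hpull (a ≫ b) F q) : _ → _) =
        B ∘ (EtCore.Hpull a _ q) ∘ (EtCore.Hpull b F q) := funext hB
    have h1 := hab1 q hq
    rw [key] at h1
    have h2 : Function.Bijective ((EtCore.Hpull a _ q) ∘ (EtCore.Hpull b F q)) :=
      (Function.Bijective.of_comp_iff' B.bijective _).1 h1
    exact (Function.Bijective.of_comp_iff' (ha1 q hq) _).1 h2
  · obtain ⟨B, hB⟩ := Hpull_comp_factor a b F (n + 1)
    have key : (⇑(EtCore.Hpull (a ≫ b) F (n + 1)) : _ → _) =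
        B ∘ (EtCore.Hpull a _ (n + 1)) ∘ (EtCore.Hpull b F (n + 1)) := funext hB
    rw [key] at hab2
    exact Function.Injective.of_comp (Function.Injective.of_comp hab2)

lemma compN_iso {A B : Scheme.{u}} (ψ : A ≅ B) (L : Set ℕ) (n : ℕ) :
    EtAcyc.CompN ψ.hom L n := by
  intro F _ _
  exact ⟨fun q _ => Hpull_iso_bijective ψ F q, (Hpull_iso_bijective ψ F (n + 1)).1⟩

lemma compN_congr {a a' : X ⟶ Y} (e : a = a') {L : Set ℕ} {n : ℕ} :
    EtAcyc.CompN a L n ↔ EtAcyc.CompN a' L n := by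
  subst e
  rfl

/-- the factorization of the projection for a composite -/
lemma prj_comp (g : X ⟶ Y) (h : Y ⟶ Z) (W : Z.Etale) :
    EtAcyc.prj (g ≫ h) W = (pullbackLeftPullbackSndIso W.hom h g).symm.hom ≫
      EtAcyc.prj g ((EtCoh.bc h).obj W) ≫ EtAcyc.prj h W := by
  rw [Iso.symm_hom, Iso.eq_inv_comp]
  exact pullbackLeftPullbackSndIso_hom_fst W.hom h g

theorem acyclic_part (g : X ⟶ Y) (h : Y ⟶ Z) (L : Set ℕ) (n : ℕ)
    (hg : EtAcyc.IsAcyclicN g L n) :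
    EtAcyc.IsAcyclicN h L n ↔ EtAcyc.IsAcyclicN (g ≫ h) L n := by
  constructor
  · intro hh W
    rw [compN_congr (prj_comp g h W)]
    exact compN_comp (compN_iso _ L n) (compN_comp (hg _) (hh W))
  · intro hgh W
    have h1 := hgh W
    rw [compN_congr (prj_comp g h W)] at h1
    exact compN_of_comp (hg _) (compN_of_comp (compN_iso _ L n) h1)


section Sets

lemma unit_comp_sh (a : X ⟶ Y) (b : Y ⟶ Z) (F : EtDesc.Sh Z) :
    (EtDesc.adjSh (a ≫ b)).unit.app F ≫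
        (EtDesc.pushSh (a ≫ b)).map ((EtDesc.pullCompSh a b).hom.app F) =
      (EtDesc.adjSh b).unit.app F ≫
        ((EtDesc.pushSh b).map ((EtDesc.adjSh a).unit.app ((EtDesc.pullSh b).obj F)) ≫
          (EtDesc.pushCompSh b a).hom.app _) := by
  have h := Adjunction.unit_leftAdjointUniq_hom_app (EtDesc.adjSh (a ≫ b))
    (((EtDesc.adjSh b).comp (EtDesc.adjSh a)).ofNatIsoRight (EtDesc.pushCompSh b a)) F
  rw [EtDesc.pullCompSh, h]
  simp only [Adjunction.ofNatIsoRight_unit, NatTrans.comp_app, Adjunction.comp_unit_app,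
    Functor.whiskerLeft_app, Category.assoc, Functor.comp_obj]

lemma sets_comp_iff (a : X ⟶ Y) (b : Y ⟶ Z) (F : EtDesc.Sh Z)
    (ha : IsIso ((EtDesc.adjSh a).unit.app ((EtDesc.pullSh b).obj F))) :
    IsIso ((EtDesc.adjSh (a ≫ b)).unit.app F) ↔ IsIso ((EtDesc.adjSh b).unit.app F) := by
  have e := unit_comp_sh a b F
  have : IsIso ((EtDesc.pushSh b).map ((EtDesc.adjSh a).unit.app ((EtDesc.pullSh b).obj F)) ≫
      (EtDesc.pushCompSh b a).hom.app _) := inferInstance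
  have : IsIso ((EtDesc.pushSh (a ≫ b)).map ((EtDesc.pullCompSh a b).hom.app F)) := inferInstance
  constructor
  · intro h
    have h1 : IsIso ((EtDesc.adjSh b).unit.app F ≫
        ((EtDesc.pushSh b).map ((EtDesc.adjSh a).unit.app ((EtDesc.pullSh b).obj F)) ≫
          (EtDesc.pushCompSh b a).hom.app _)) := by
      rw [← e]
      infer_instance
    exact IsIso.of_isIso_comp_right _ ((EtDesc.pushSh b).map
      ((EtDesc.adjSh a).unit.app ((EtDesc.pullSh b).obj F)) ≫ (EtDesc.pushCompSh b a).hom.app _)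
  · intro h
    have h1 : IsIso ((EtDesc.adjSh (a ≫ b)).unit.app F ≫
        (EtDesc.pushSh (a ≫ b)).map ((EtDesc.pullCompSh a b).hom.app F)) := by
      rw [e]
      infer_instance
    exact IsIso.of_isIso_comp_right _
      ((EtDesc.pushSh (a ≫ b)).map ((EtDesc.pullCompSh a b).hom.app F))

lemma pushSh_iso_of_eq_id (f : X ⟶ X) (hf : f = 𝟙 X) : Nonempty (EtDesc.pushSh f ≅ 𝟭 _) := by
  subst hf
  exact ⟨Functor.sheafPushforwardContinuousId' (Groth.Agent.Helper24.EtDesc.bcId X) _ _⟩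

lemma isEquivalence_pushSh_iso {A B : Scheme.{u}} (ψ : A ≅ B) :
    (EtDesc.pushSh ψ.hom).IsEquivalence := by
  obtain ⟨e1⟩ := pushSh_iso_of_eq_id (ψ.hom ≫ ψ.inv) ψ.hom_inv_id
  obtain ⟨e2⟩ := pushSh_iso_of_eq_id (ψ.inv ≫ ψ.hom) ψ.inv_hom_id
  exact (CategoryTheory.Equivalence.mk (EtDesc.pushSh ψ.hom) (EtDesc.pushSh ψ.inv)
    ((EtDesc.pushCompSh ψ.inv ψ.hom ≪≫ e1).symm)
    (EtDesc.pushCompSh ψ.hom ψ.inv ≪≫ e2)).isEquivalence_functor

lemma isIso_unit_iso {A B : Scheme.{u}} (ψ : A ≅ B) (F : EtDesc.Sh B) :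
    IsIso ((EtDesc.adjSh ψ.hom).unit.app F) := by
  have := isEquivalence_pushSh_iso ψ
  have : (EtDesc.pullSh ψ.hom).IsEquivalence :=
    (EtDesc.adjSh ψ.hom).isEquivalence_left_of_isEquivalence_right
  infer_instance

lemma unit_congr {a a' : X ⟶ Y} (e : a = a') (F : EtDesc.Sh Y) :
    IsIso ((EtDesc.adjSh a).unit.app F) ↔ IsIso ((EtDesc.adjSh a').unit.app F) := by
  subst e
  rfl

theorem sets_part (g : X ⟶ Y) (h : Y ⟶ Z) (hg : EtAcyc.IsZeroAcyclic g) :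
    EtAcyc.IsZeroAcyclic h ↔ EtAcyc.IsZeroAcyclic (g ≫ h) := by
  have key : ∀ (W : Z.Etale) (F : EtDesc.Sh W.left),
      IsIso ((EtDesc.adjSh (EtAcyc.prj (g ≫ h) W)).unit.app F) ↔
        IsIso ((EtDesc.adjSh (EtAcyc.prj h W)).unit.app F) := by
    intro W F
    exact (unit_congr (prj_comp g h W) F).trans
      ((sets_comp_iff _ _ F (isIso_unit_iso _ _)).trans
        (sets_comp_iff (EtAcyc.prj g ((EtCoh.bc h).obj W)) (EtAcyc.prj h W) F (hg _ _)))
  constructor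
  · intro hh W F
    exact (key W F).2 (hh W F)
  · intro hgh W F
    exact (key W F).1 (hgh W F)

end Sets

theorem main (g : X ⟶ Y) (h : Y ⟶ Z) (L : Set ℕ) (n : ℕ) :
    (EtAcyc.IsAcyclicN g L n → (EtAcyc.IsAcyclicN h L n ↔ EtAcyc.IsAcyclicN (g ≫ h) L n)) ∧
      (EtAcyc.IsZeroAcyclic g → (EtAcyc.IsZeroAcyclic h ↔ EtAcyc.IsZeroAcyclic (g ≫ h))) :=
  ⟨acyclic_part g h L n, sets_part g h⟩

end helpers

/-- Last assertion, abelian and sets cases: let g : X → Y and h : Y → Z be morphisms of schemes, L a set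
of primes and n a natural number. If g is n-acyclic for L, then h is n-acyclic for L if and only if
g ≫ h is; if g is 0-acyclic, then h is 0-acyclic if and only if g ≫ h is. -/
theorem result {X Y Z : Scheme.{u}} (g : X ⟶ Y) (h : Y ⟶ Z) (L : Set ℕ) (n : ℕ) :
    (EtAcyc.IsAcyclicN g L n → (EtAcyc.IsAcyclicN h L n ↔ EtAcyc.IsAcyclicN (g ≫ h) L n)) ∧
      (EtAcyc.IsZeroAcyclic g → (EtAcyc.IsZeroAcyclic h ↔ EtAcyc.IsZeroAcyclic (g ≫ h))) := by
  exact main g h L n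

end Groth.Agent.S3513
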