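import Groth.Statements.S13843
import Mathlib
import Groth.Prelude.Def_EtBase
import Groth.Prelude.Def_EtCore
import Groth.Agent.S3513
import Groth.Agent.Lib.Helper10.FieldTrace

set_option autoImplicit false
universe u
open CategoryTheory CategoryTheory.Limits AlgebraicGeometry
open GalCoh

namespace Groth.Agent.S13843

section helpers

open CategoryTheory.Abelian IntermediateField
open Groth.Agent.Helper10

lemma Hpull_eq_zero_of_eq {X Y : Scheme.{u}} {f f' : X ⟶ Y} (h : f = f')
    [PreservesFiniteLimits (EtCoh.pull f)] [PreservesFiniteLimits (EtCoh.pull f')]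
    (F : EtCoh.Ab Y) (i : ℕ) (x : EtCoh.H Y F i) (hx : EtCore.Hpull f F i x = 0) :
    EtCore.Hpull f' F i x = 0 := by
  subst h
  exact hx

lemma Hpull_comp_zero {X Y Z : Scheme.{u}} (a : X ⟶ Y) (b : Y ⟶ Z)
    [PreservesFiniteLimits (EtCoh.pull a)] [PreservesFiniteLimits (EtCoh.pull b)]
    [PreservesFiniteLimits (EtCoh.pull (a ≫ b))]
    (F : EtCoh.Ab Z) (i : ℕ) (x : EtCoh.H Z F i) (hx : EtCore.Hpull b F i x = 0) :
    EtCore.Hpull (a ≫ b) F i x = 0 := by
  obtain ⟨B, hB⟩ := Groth.Agent.S3513.Hpull_comp_factor a b F i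
  have h0 := hB 0
  rw [map_zero, map_zero, map_zero] at h0
  rw [hB, hx, map_zero, ← h0]

lemma Hpull_comp_zero' {X Y Z : Scheme.{u}} (a : X ⟶ Y) (b : Y ⟶ Z)
    [PreservesFiniteLimits (EtCoh.pull a)] [PreservesFiniteLimits (EtCoh.pull b)]
    [PreservesFiniteLimits (EtCoh.pull (a ≫ b))]
    (F : EtCoh.Ab Z) (i : ℕ) (x : EtCoh.H Z F i) (hx : EtCore.Hpull (a ≫ b) F i x = 0) :
    EtCore.Hpull a _ i (EtCore.Hpull b F i x) = 0 := by
  obtain ⟨B, hB⟩ := Groth.Agent.S3513.Hpull_comp_factor a b F i
  have h0 := hB 0
  rw [map_zero, map_zero, map_zero] at h0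
  apply B.injective
  rw [← hB, hx, h0]

theorem main (K : Type u) [Field K] (F : EtCoh.Ab (Spec (CommRingCat.of K))) (i : ℕ)
    (hi : 0 < i) (α : EtCoh.H (Spec (CommRingCat.of K)) F i) (L : Type u) [Field L] [Algebra K L] [FiniteDimensional K L]
    [Algebra.IsSeparable K L] [PreservesFiniteLimits (EtCoh.pull (Spec.map (CommRingCat.ofHom (algebraMap K L))))]
    (hα : EtCore.Hpull (Spec.map (CommRingCat.ofHom (algebraMap K L))) F i α = 0) (p : ℕ) (hp : p.Prime) (hpα : ¬ p ∣ addOrderOf α) :
    ∃ (L' : Type u) (_ : Field L') (_ : Algebra K L') (_ : FiniteDimensional K L') (_ : Algebra.IsSeparable K L'),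
      ¬ p ∣ Module.finrank K L' ∧
        ∀ [PreservesFiniteLimits (EtCoh.pull (Spec.map (CommRingCat.ofHom (algebraMap K L'))))],
          EtCore.Hpull (Spec.map (CommRingCat.ofHom (algebraMap K L'))) F i α = 0 := by
  haveI : Fact p.Prime := ⟨hp⟩
  let N : IntermediateField K (AlgebraicClosure L) := normalClosure K L (AlgebraicClosure L)
  haveI : Algebra.IsSeparable K N := by
    show Algebra.IsSeparable K (normalClosure K L (AlgebraicClosure L))
    rw [normalClosure_def]
    have : ∀ f : L →ₐ[K] AlgebraicClosure L, Algebra.IsSeparable K f.fieldRange := fun f =>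
      AlgEquiv.Algebra.isSeparable (AlgEquiv.ofInjectiveField f)
    infer_instance
  haveI : Normal K N := inferInstanceAs (Normal K (normalClosure K L (AlgebraicClosure L)))
  haveI : FiniteDimensional K N :=
    inferInstanceAs (FiniteDimensional K (normalClosure K L (AlgebraicClosure L)))
  haveI : IsGalois K N := {}
  let P : Sylow p Gal(N/K) := default
  let L' : IntermediateField K N := fixedField (P : Subgroup Gal(N/K))
  refine ⟨L', inferInstance, inferInstance, inferInstance, inferInstance, ?_, ?_⟩
  · rw [finrank_eq_fixingSubgroup_index, fixingSubgroup_fixedField]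
    exact P.not_dvd_index
  · intro _
    let πL : Spec (CommRingCat.of L) ⟶ Spec (CommRingCat.of K) :=
      Spec.map (CommRingCat.ofHom (algebraMap K L))
    let πNL : Spec (CommRingCat.of N) ⟶ Spec (CommRingCat.of L) :=
      Spec.map (CommRingCat.ofHom (algebraMap L N))
    let πN : Spec (CommRingCat.of N) ⟶ Spec (CommRingCat.of K) :=
      Spec.map (CommRingCat.ofHom (algebraMap K N))
    let πL' : Spec (CommRingCat.of L') ⟶ Spec (CommRingCat.of K) :=
      Spec.map (CommRingCat.ofHom (algebraMap K L'))
    let πNL' : Spec (CommRingCat.of N) ⟶ Spec (CommRingCat.of L') :=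
      Spec.map (CommRingCat.ofHom (algebraMap L' N))
    have hN1 : πNL ≫ πL = πN := by
      show Spec.map _ ≫ Spec.map _ = Spec.map _
      rw [← Spec.map_comp, ← CommRingCat.ofHom_comp, ← IsScalarTower.algebraMap_eq]
    have hN2 : πNL' ≫ πL' = πN := by
      show Spec.map _ ≫ Spec.map _ = Spec.map _
      rw [← Spec.map_comp, ← CommRingCat.ofHom_comp, ← IsScalarTower.algebraMap_eq]
    haveI : ∀ {A B : Scheme.{u}} (f : A ⟶ B), PreservesFiniteLimits (EtCoh.pull f) :=
      fun f => Groth.Agent.S0101.result f
    have h1 : EtCore.Hpull πN F i α = 0 :=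
      Hpull_eq_zero_of_eq hN1 F i α (Hpull_comp_zero πNL πL F i α hα)
    have h2 : EtCore.Hpull (πNL' ≫ πL') F i α = 0 := Hpull_eq_zero_of_eq hN2.symm F i α h1
    have h3 : EtCore.Hpull πNL' _ i (EtCore.Hpull πL' F i α) = 0 :=
      Hpull_comp_zero' πNL' πL' F i α h2
    have h4 : Module.finrank L' N • (EtCore.Hpull πL' F i α) = 0 :=
      FieldTrace.nsmul_eq_zero L' N _ i _ h3
    have h5 : Module.finrank L' N = p ^ (Nat.card Gal(N/K)).factorization p := by
      rw [finrank_fixedField_eq_card]
      exact P.card_eq_multiplicity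
    have h6 : addOrderOf α • (EtCore.Hpull πL' F i α) = 0 := by
      rw [← map_nsmul, addOrderOf_nsmul_eq_zero, map_zero]
    have hcop : Nat.Coprime (p ^ (Nat.card Gal(N/K)).factorization p) (addOrderOf α) :=
      Nat.Coprime.pow_left _ ((Nat.Prime.coprime_iff_not_dvd hp).2 hpα)
    have hd1 : addOrderOf (EtCore.Hpull πL' F i α) ∣ p ^ (Nat.card Gal(N/K)).factorization p := by
      rw [← h5]
      exact addOrderOf_dvd_of_nsmul_eq_zero h4
    have hd2 : addOrderOf (EtCore.Hpull πL' F i α) ∣ addOrderOf α :=
      addOrderOf_dvd_of_nsmul_eq_zero h6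
    have h7 : addOrderOf (EtCore.Hpull πL' F i α) = 1 := Nat.eq_one_of_dvd_coprimes hcop hd1 hd2
    exact AddMonoid.addOrderOf_eq_one_iff.1 h7

end helpers

/-- Let K be a field, F an abelian sheaf on the small étale site of Spec K, i > 0 and α a class in
H^i(Spec K, F) which pulls back to zero over some finite separable field extension L of K. If p is a
prime not dividing the order of α, then there is a finite separable field extension L' of K whose
degree is not divisible by p and over which α pulls back to zero. Hence the period and the index of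
α have the same prime factors. (Exactness of pullback of abelian sheaves, which always holds, is
carried as an instance hypothesis, in the conclusion for every such instance.) -/
theorem result (K : Type u) [Field K] (F : EtCoh.Ab (Spec (CommRingCat.of K))) (i : ℕ)
    (hi : 0 < i) (α : EtCoh.H (Spec (CommRingCat.of K)) F i) (L : Type u) [Field L] [Algebra K L] [FiniteDimensional K L]
    [Algebra.IsSeparable K L] [PreservesFiniteLimits (EtCoh.pull (Spec.map (CommRingCat.ofHom (algebraMap K L))))]
    (hα : EtCore.Hpull (Spec.map (CommRingCat.ofHom (algebraMap K L))) F i α = 0) (p : ℕ) (hp : p.Prime) (hpα : ¬ p ∣ addOrderOf α) :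
    ∃ (L' : Type u) (_ : Field L') (_ : Algebra K L') (_ : FiniteDimensional K L') (_ : Algebra.IsSeparable K L'),
      ¬ p ∣ Module.finrank K L' ∧
        ∀ [PreservesFiniteLimits (EtCoh.pull (Spec.map (CommRingCat.ofHom (algebraMap K L'))))],
          EtCore.Hpull (Spec.map (CommRingCat.ofHom (algebraMap K L'))) F i α = 0 := by
  exact main K F i hi α L hα p hp hpα

end Groth.Agent.S13843
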