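import Groth.Statements.S1556
import Groth.Agent.Lib.Helper4.SepSmooth
import Groth.Agent.Lib.Helper12.FieldSm
import Groth.Agent.Lib.Helper16.Sch.GeomRk2
-- import your own Groth.Agent.* helpers here

set_option autoImplicit false
universe u
open CategoryTheory CategoryTheory.Limits AlgebraicGeometry
attribute [local instance] Curv2.resAlgebra
open Variety

namespace Groth.Agent.S1556

theorem eq_genericPoint_of_primeIdealOf_eq_bot {N : Scheme.{u}} [IsIntegral N] {W : N.Opens}
    (hW : IsAffineOpen W) (z : N) (hz : z ∈ W)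
    (h : (hW.primeIdealOf ⟨z, hz⟩).asIdeal = ⊥) : z = genericPoint N := by
  haveI : Nonempty W := ⟨⟨z, hz⟩⟩
  have hηW : genericPoint N ∈ W :=
    ((genericPoint_spec _).mem_open_set_iff (TopologicalSpace.Opens.isOpen _)).mpr
      ⟨z, Set.mem_univ z, hz⟩
  have hgen := @IsAffineOpen.primeIdealOf_genericPoint _ _ _ hW ⟨⟨z, hz⟩⟩
  have hQ : hW.primeIdealOf ⟨z, hz⟩ = hW.primeIdealOf ⟨genericPoint _, hηW⟩ :=
    (PrimeSpectrum.ext h : hW.primeIdealOf ⟨z, hz⟩ = ⊥).trans
      ((hgen.trans (genericPoint_eq_bot_of_affine _)).symm)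
  have h3 := congrArg hW.fromSpec hQ
  rw [hW.fromSpec_primeIdealOf, hW.fromSpec_primeIdealOf] at h3
  exact h3

theorem isSeparable_of_algebra_eq {K L : Type*} [CommRing K] [Ring L] (a b : Algebra K L)
    (h : a = b) (hs : @Algebra.IsSeparable K L _ _ a) : @Algebra.IsSeparable K L _ _ b := by
  subst h; exact hs

/-- Let X be a curve over k (integral, separated, of finite type, of dimension one) and x a closed point
whose residue field is separable over k. Then the local ring at x is a discrete valuation ring if
and only if x lies in the smooth locus of X → Spec k. -/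
theorem result (k : Type u) [Field k] (X : Scheme.{u}) [X.Over (Spec (CommRingCat.of k))] [IsIntegral X]
    [IsSeparated (X ↘ (Spec (CommRingCat.of k)))] [LocallyOfFinitePresentation (X ↘ (Spec (CommRingCat.of k)))] [QuasiCompact (X ↘ (Spec (CommRingCat.of k)))]
    (hdim : topologicalKrullDim X = 1) (x : X) (hx : IsClosed ({x} : Set X))
    [Algebra.IsSeparable k (X.residueField x)] :
    IsDiscreteValuationRing (X.presheaf.stalk x) ↔ x ∈ (X ↘ (Spec (CommRingCat.of k))).smoothLocus := by
  constructor
  · intro hD
    haveI := hD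
    rw [Groth.Agent.Helper12.FieldSm.mem_smoothLocus_iff]
    letI alg : Algebra k (X.presheaf.stalk x) :=
      (Groth.Agent.Helper12.FieldSm.stalkHom (X ↘ Spec (CommRingCat.of k)) x).toAlgebra
    haveI := Groth.Agent.Helper12.FieldSm.essFiniteType_stalk (X ↘ Spec (CommRingCat.of k)) x
    haveI : IsRegularLocalRing (X.presheaf.stalk x) := inferInstance
    have halg : (Curv2.resAlgebra k X x :
          Algebra k (IsLocalRing.ResidueField (X.presheaf.stalk x))) =
        (inferInstance : Algebra k (IsLocalRing.ResidueField (X.presheaf.stalk x))) := by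
      apply Algebra.algebra_ext
      intro r
      rfl
    have hsep0 : Algebra.IsSeparable k (X.residueField x) := inferInstance
    haveI : Algebra.IsSeparable k (IsLocalRing.ResidueField (X.presheaf.stalk x)) :=
      isSeparable_of_algebra_eq _ _ halg hsep0
    exact Groth.Agent.Helper4.SepSmooth.formallySmooth_of_regular_of_sep k (X.presheaf.stalk x)
  · intro hsm
    haveI : IsRegularLocalRing (X.presheaf.stalk x) :=
      Groth.Agent.Helper16.GeomRk.isRegularLocalRing_stalk_of_mem_smoothLocus
        (X ↘ Spec (CommRingCat.of k)) x hsm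
    obtain ⟨_, ⟨U, hU, rfl⟩, hxU, -⟩ :=
      X.isBasis_affineOpens.exists_subset_of_mem_open (Set.mem_univ x) isOpen_univ
    have hU' : IsAffineOpen U := hU
    letI := TopCat.Presheaf.algebra_section_stalk X.presheaf (⟨x, hxU⟩ : U)
    haveI hloc : IsLocalization.AtPrime (X.presheaf.stalk x)
        (hU'.primeIdealOf ⟨x, hxU⟩).asIdeal := hU'.isLocalization_stalk ⟨x, hxU⟩
    haveI : Nonempty U := ⟨⟨x, hxU⟩⟩
    haveI : IsDomain Γ(X, U) := inferInstance
    -- dim ≤ 1
    have hle : ringKrullDim (X.presheaf.stalk x) ≤ 1 := by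
      rw [IsLocalization.AtPrime.ringKrullDim_eq_height (hU'.primeIdealOf ⟨x, hxU⟩).asIdeal
        (X.presheaf.stalk x)]
      refine (Ideal.height_le_ringKrullDim_of_ne_top (Ideal.IsPrime.ne_top inferInstance)).trans ?_
      rw [← hdim, ← PrimeSpectrum.topologicalKrullDim_eq_ringKrullDim]
      exact hU'.fromSpec.isOpenEmbedding.isInducing.topologicalKrullDim_le
    -- not a field
    have hnf : ¬ IsField (X.presheaf.stalk x) := by
      intro hF
      have hm : IsLocalRing.maximalIdeal (X.presheaf.stalk x) = ⊥ :=
        IsLocalRing.isField_iff_maximalIdeal_eq.mp hF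
      have hp0 : (hU'.primeIdealOf ⟨x, hxU⟩).asIdeal = ⊥ := by
        rw [eq_bot_iff]
        intro a ha
        have h1 : algebraMap Γ(X, U) (X.presheaf.stalk x) a ∈
            IsLocalRing.maximalIdeal (X.presheaf.stalk x) := by
          rw [← IsLocalization.AtPrime.map_eq_maximalIdeal (hU'.primeIdealOf ⟨x, hxU⟩).asIdeal
            (X.presheaf.stalk x)]
          exact Ideal.mem_map_of_mem _ ha
        rw [hm, Ideal.mem_bot] at h1
        have hinj : Function.Injective (algebraMap Γ(X, U) (X.presheaf.stalk x)) :=
          IsLocalization.injective _ (M := (hU'.primeIdealOf ⟨x, hxU⟩).asIdeal.primeCompl)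
            (Ideal.primeCompl_le_nonZeroDivisors _)
        exact Ideal.mem_bot.mpr (hinj (h1.trans (map_zero _).symm))
      have hxη : x = genericPoint X := eq_genericPoint_of_primeIdealOf_eq_bot hU' x hxU hp0
      have hcl : closure ({x} : Set X) = ⊤ := by
        rw [hxη]; exact genericPoint_spec X
      rw [hx.closure_eq, Set.top_eq_univ] at hcl
      haveI : Subsingleton X := ⟨fun a b => by
        have ha : a ∈ ({x} : Set X) := hcl ▸ Set.mem_univ a
        have hb : b ∈ ({x} : Set X) := hcl ▸ Set.mem_univ b
        rw [Set.mem_singleton_iff] at ha hb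
        rw [ha, hb]⟩
      have h0 := topologicalKrullDim_zero_of_discreteTopology X
      rw [hdim] at h0
      exact absurd h0 (not_le.mpr zero_lt_one)
    have hreg := (IsRegularLocalRing.iff_finrank_cotangentSpace (X.presheaf.stalk x)).mp inferInstance
    have h1 : Module.finrank (IsLocalRing.ResidueField (X.presheaf.stalk x))
        (IsLocalRing.CotangentSpace (X.presheaf.stalk x)) ≤ 1 := by
      have : ((Module.finrank (IsLocalRing.ResidueField (X.presheaf.stalk x))
          (IsLocalRing.CotangentSpace (X.presheaf.stalk x)) : ℕ) : WithBot ℕ∞) ≤ 1 := hreg ▸ hle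
      exact_mod_cast this
    have h0 : Module.finrank (IsLocalRing.ResidueField (X.presheaf.stalk x))
        (IsLocalRing.CotangentSpace (X.presheaf.stalk x)) ≠ 0 := by
      rw [Ne, IsLocalRing.finrank_cotangentSpace_eq_zero_iff]
      exact hnf
    exact IsLocalRing.finrank_CotangentSpace_eq_one_iff.mp (by omega)

end Groth.Agent.S1556
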