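import Groth.Statements.S13846
import Mathlib
-- import your own Groth.Agent.* helpers here

set_option autoImplicit false
universe u v
open TwSh

namespace Groth.Agent.S13846

section
open DirectSum

variable {k : Type*} [Field k] {M : Type*} [AddCommGroup M] [Module k M]
  (ℳ : ℤ → Submodule k M) [Decomposition ℳ]

/-- projection to the `i`-th graded piece -/
noncomputable def pr (i : ℤ) : M →ₗ[k] M :=
  (ℳ i).subtype ∘ₗ (DirectSum.component k ℤ (fun i => ℳ i) i) ∘ₗ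
    (decomposeLinearEquiv ℳ).toLinearMap

lemma pr_apply (i : ℤ) (x : M) : pr ℳ i x = (decompose ℳ x i : M) := rfl

lemma pr_mem (i : ℤ) (x : M) : pr ℳ i x ∈ ℳ i := (decompose ℳ x i).2

lemma pr_same {i : ℤ} {x : M} (hx : x ∈ ℳ i) : pr ℳ i x = x := decompose_of_mem_same ℳ hx

lemma pr_ne {i j : ℤ} {x : M} (hx : x ∈ ℳ i) (hij : i ≠ j) : pr ℳ j x = 0 :=
  decompose_of_mem_ne ℳ hx hij

lemma exists_pr_ne_zero {x : M} (hx : x ≠ 0) : ∃ i, pr ℳ i x ≠ 0 := by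
  by_contra h
  push Not at h
  apply hx
  have h1 : decompose ℳ x = 0 := by
    apply DFinsupp.ext
    intro i
    apply Subtype.ext
    exact h i
  have h2 := congrArg (decompose ℳ).symm h1
  simpa using h2

/-- a linear map shifting degrees by `n` intertwines the projections -/
lemma pr_comm {N : Type*} [AddCommGroup N] [Module k N] (𝒩 : ℤ → Submodule k N) [Decomposition 𝒩]
    (T : M →ₗ[k] N) (n : ℤ) (hT : ∀ i x, x ∈ ℳ i → T x ∈ 𝒩 (i + n)) (j : ℤ) :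
    (pr 𝒩 (j + n)) ∘ₗ T = T ∘ₗ (pr ℳ j) := by
  apply decompose_lhom_ext ℳ
  intro m
  ext ⟨v, hv⟩
  simp only [LinearMap.coe_comp, Submodule.coe_subtype, Function.comp_apply]
  by_cases hmj : m = j
  · subst hmj
    rw [pr_same ℳ hv, pr_same 𝒩 (hT _ _ hv)]
  · rw [pr_ne ℳ hv hmj, map_zero, pr_ne 𝒩 (hT _ _ hv) (by omega)]

/-- rank-one map `v ↦ μ(pr_i v) • y` -/
noncomputable def r1 (i : ℤ) (μ : Module.Dual k M) (y : M) : M →ₗ[k] M :=
  (LinearMap.smulRight μ y) ∘ₗ (pr ℳ i)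

lemma r1_apply (i : ℤ) (μ : Module.Dual k M) (y v : M) : r1 ℳ i μ y v = μ (pr ℳ i v) • y := rfl

lemma r1_homog {i j : ℤ} (μ : Module.Dual k M) {y : M} (hy : y ∈ ℳ j) :
    ∀ (l : ℤ) (x : M), x ∈ ℳ l → r1 ℳ i μ y x ∈ ℳ (l + (j - i)) := by
  intro l x hx
  rw [r1_apply]
  by_cases hl : l = i
  · subst hl
    rw [show l + (j - l) = j by ring]
    exact (ℳ j).smul_mem _ hy
  · rw [pr_ne ℳ hx hl, map_zero, zero_smul]
    exact zero_mem _

theorem main (k : Type u) [Field k] (V W : Type v) [AddCommGroup V] [Module k V] [FiniteDimensional k V] [Nontrivial V] [AddCommGroup W] [Module k W] [FiniteDimensional k W] (𝒱 : ℤ → Submodule k V) (h𝒱 : DirectSum.IsInternal 𝒱) (𝒲 : ℤ → Submodule k W) (h𝒲 : DirectSum.IsInternal 𝒲) (φ : Module.End k V ≃ₐ[k] Module.End k W) (hφ : ∀ (d : ℤ) (f : Module.End k V), (∀ (i : ℤ) (x : V), x ∈ 𝒱 i → f x ∈ 𝒱 (i + d)) → ∀ (i : ℤ) (y : W), y ∈ 𝒲 i → φ f y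 ∈ 𝒲 (i + d)) : ∃ (n : ℤ) (g : V ≃ₗ[k] W), (∀ i : ℤ, Submodule.map (g : V →ₗ[k] W) (𝒱 i) = 𝒲 (i + n)) ∧ (∀ f : Module.End k V, φ f = (g : V →ₗ[k] W) ∘ₗ f ∘ₗ (g.symm : W →ₗ[k] V)) ∧ ∀ (n' : ℤ) (g' : V ≃ₗ[k] W), (∀ i : ℤ, Submodule.map (g' : V →ₗ[k] W) (𝒱 i) = 𝒲 (i + n')) → (∀ f : Module.End k V, φ f = (g' : V →ₗ[k] W) ∘ₗ f ∘ₗ (g'.symm : W →ₗ[k] V)) → n' = n ∧ ∃ c : kˣ, ∀ x : V, g' x = c • g x := by
  classical
  letI := h𝒱.chooseDecomposition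
  letI := h𝒲.chooseDecomposition
  obtain ⟨g, hg⟩ := φ.eq_linearEquivConjAlgEquiv
  have hφg : ∀ f : Module.End k V, φ f = (g : V →ₗ[k] W) ∘ₗ f ∘ₗ (g.symm : W →ₗ[k] V) := by
    intro f
    rw [hg]
    rfl
  have hφg' : ∀ (f : Module.End k V) (x : V), φ f (g x) = g (f x) := by
    intro f x
    rw [hφg]
    simp
  have claimA : ∀ i (x : V), x ∈ 𝒱 i → x ≠ 0 → ∃ l, g x ∈ 𝒲 l := by
    intro i x hx hx0
    obtain ⟨μ, hμ⟩ := Module.Projective.exists_dual_eq_one k hx0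
    have hfx : r1 𝒱 i μ x x = x := by
      rw [r1_apply, pr_same 𝒱 hx, hμ, one_smul]
    have hT : ∀ l (w : W), w ∈ 𝒲 l → φ (r1 𝒱 i μ x) w ∈ 𝒲 (l + 0) := by
      intro l w hw
      have := hφ (i - i) (r1 𝒱 i μ x) (r1_homog 𝒱 μ hx) l w hw
      simpa using this
    have hcomm := fun l => pr_comm 𝒲 𝒲 (φ (r1 𝒱 i μ x)) 0 hT l
    have hw0 : g x ≠ 0 := by simpa using hx0
    obtain ⟨l, hl⟩ := exists_pr_ne_zero 𝒲 hw0
    refine ⟨l, ?_⟩
    have h1 : pr 𝒲 l (g x) = φ (r1 𝒱 i μ x) (pr 𝒲 l (g x)) := by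
      have := LinearMap.congr_fun (hcomm l) (g x)
      simp only [LinearMap.comp_apply, add_zero] at this
      rw [← this, hφg', hfx]
    have h2 : ∀ w, φ (r1 𝒱 i μ x) w = μ (pr 𝒱 i (g.symm w)) • g x := by
      intro w
      rw [hφg]
      simp [r1_apply]
    rw [h2] at h1
    obtain ⟨c, hc1⟩ : ∃ c : k, pr 𝒲 l (g x) = c • g x := ⟨_, h1⟩
    have hc : c ≠ 0 := by
      intro hc
      rw [hc, zero_smul] at hc1
      exact hl hc1
    have h3 : g x = c⁻¹ • pr 𝒲 l (g x) := by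
      rw [hc1, smul_smul, inv_mul_cancel₀ hc, one_smul]
    rw [h3]
    exact (𝒲 l).smul_mem _ (pr_mem 𝒲 l _)
  have claimB : ∀ (i j : ℤ) (x y : V), x ∈ 𝒱 i → x ≠ 0 → y ∈ 𝒱 j → ∀ l, g x ∈ 𝒲 l →
      g y ∈ 𝒲 (l + (j - i)) := by
    intro i j x y hx hx0 hy l hgx
    obtain ⟨μ, hμ⟩ := Module.Projective.exists_dual_eq_one k hx0
    have hfx : r1 𝒱 i μ y x = y := by
      rw [r1_apply, pr_same 𝒱 hx, hμ, one_smul]
    have := hφ (j - i) (r1 𝒱 i μ y) (r1_homog 𝒱 μ hy) l (g x) hgx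
    rwa [hφg', hfx] at this
  obtain ⟨v, hv⟩ := exists_ne (0 : V)
  obtain ⟨i₀, hi₀⟩ := exists_pr_ne_zero 𝒱 hv
  obtain ⟨l₀, hl₀⟩ := claimA i₀ _ (pr_mem 𝒱 i₀ v) hi₀
  have hg𝒱 : ∀ j y, y ∈ 𝒱 j → g y ∈ 𝒲 (j + (l₀ - i₀)) := by
    intro j y hy
    have := claimB i₀ j _ y (pr_mem 𝒱 i₀ v) hi₀ hy l₀ hl₀
    rwa [show l₀ + (j - i₀) = j + (l₀ - i₀) by ring] at this
  refine ⟨l₀ - i₀, g, ?_, hφg, ?_⟩
  · intro j
    apply le_antisymm
    · rintro _ ⟨y, hy, rfl⟩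
      exact hg𝒱 j y hy
    · intro w hw
      have hcomm := pr_comm 𝒱 𝒲 (g : V →ₗ[k] W) (l₀ - i₀) hg𝒱 j
      have h1 := LinearMap.congr_fun hcomm (g.symm w)
      simp only [LinearMap.comp_apply, LinearEquiv.coe_coe, LinearEquiv.apply_symm_apply] at h1
      rw [pr_same 𝒲 hw] at h1
      rw [h1]
      exact Submodule.mem_map_of_mem (pr_mem 𝒱 j _)
  · intro n' g' hmap' hconj'
    have heq : g'.conjAlgEquiv k = g.conjAlgEquiv k := by
      ext f : 1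
      change (g' : V →ₗ[k] W) ∘ₗ f ∘ₗ (g'.symm : W →ₗ[k] V) =
        (g : V →ₗ[k] W) ∘ₗ f ∘ₗ (g.symm : W →ₗ[k] V)
      rw [← hconj', ← hφg]
    obtain ⟨c, hc⟩ := (LinearEquiv.conjAlgEquiv_ext_iff' g' g).mp heq
    have hcx : ∀ x : V, g' x = c • g x := by
      intro x
      rw [hc]
      rfl
    refine ⟨?_, c, hcx⟩
    have h1 : g' (pr 𝒱 i₀ v) ∈ 𝒲 (i₀ + n') := by
      rw [← hmap']
      exact Submodule.mem_map_of_mem (pr_mem 𝒱 i₀ v)
    have h2 : g' (pr 𝒱 i₀ v) ∈ 𝒲 (i₀ + (l₀ - i₀)) := by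
      rw [hcx]
      exact (𝒲 _).smul_mem _ (hg𝒱 i₀ _ (pr_mem 𝒱 i₀ v))
    have h3 : g' (pr 𝒱 i₀ v) ≠ 0 := by simpa using hi₀
    have := DirectSum.degree_eq_of_mem_mem 𝒲 h1 h2 h3
    omega

end

/-- Let k be a field and V, W finite-dimensional ℤ-graded k-vector spaces, V = ⊕ V_i with V ≠ 0 and W =
⊕ W_i. Let φ : End_k(V) ≃ End_k(W) be a k-algebra isomorphism which sends every endomorphism
homogeneous of degree d (one mapping V_i into V_{i+d} for all i) to an endomorphism homogeneous of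
degree d. Then there are an integer n and a k-linear isomorphism g : V ≅ W with g(V_i) = W_{i+n} for
every i such that φ(f) = g ∘ f ∘ g⁻¹ for all f; moreover n is unique and g is unique up to a nonzero
scalar: if g' : V ≅ W satisfies g'(V_i) = W_{i+n'} for all i and φ(f) = g' ∘ f ∘ g'⁻¹ for all f,
then n' = n and g' = c·g for some c ∈ kˣ. (The published statement is about non-zero perfect
complexes over k: an isomorphism of their derived endomorphism algebras, as algebra objects of the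
derived category, is induced by an isomorphism from the first complex to a shift of the second, for
a unique shift and up to a unit; this row is its form for finite-dimensional ℤ-graded vector spaces,
to which the bounded derived category of a field is equivalent by taking cohomology.) -/
theorem result (k : Type u) [Field k] (V W : Type v) [AddCommGroup V] [Module k V] [FiniteDimensional k V] [Nontrivial V] [AddCommGroup W] [Module k W] [FiniteDimensional k W] (𝒱 : ℤ → Submodule k V) (h𝒱 : DirectSum.IsInternal 𝒱) (𝒲 : ℤ → Submodule k W) (h𝒲 : DirectSum.IsInternal 𝒲) (φ : Module.End k V ≃ₐ[k] Module.End k W) (hφ : ∀ (d : ℤ) (f : Module.End k V), (∀ (i : ℤ) (x : V), x ∈ 𝒱 i → f x ∈ 𝒱 (i + d)) → ∀ (i : ℤ) (y : W), y ∈ 𝒲 i → φ f y ∈ 𝒲 (i + d)) : ∃ (n : ℤ) (g : V ≃ₗ[k] W), (∀ i : ℤ, Submodule.map (g : V →ₗ[k] W) (𝒱 i) = 𝒲 (i + n)) ∧ (∀ f : Module.End k V, φ f = (g : V →ₗ[k] W)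 ∘ₗ f ∘ₗ (g.symm : W →ₗ[k] V)) ∧ ∀ (n' : ℤ) (g' : V ≃ₗ[k] W), (∀ i : ℤ, Submodule.map (g' : V →ₗ[k] W) (𝒱 i) = 𝒲 (i + n')) → (∀ f : Module.End k V, φ f = (g' : V →ₗ[k] W) ∘ₗ f ∘ₗ (g'.symm : W →ₗ[k] V)) → n' = n ∧ ∃ c : kˣ, ∀ x : V, g' x = c • g x := by
  exact Groth.Agent.S13846.main k V W 𝒱 h𝒱 𝒲 h𝒲 φ hφ

end Groth.Agent.S13846
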