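import Groth.Statements.S13848
import Mathlib.RingTheory.TwoSidedIdeal.Operations
-- import your own Groth.Agent.* helpers here

set_option autoImplicit false
universe u v
open TwSh

namespace Groth.Agent.S13848

/-- trace ideal -/
def T (A : Type u) [Ring A] (P : Type v) [AddCommGroup P] [Module A P] : Ideal A :=
  Ideal.span {a | ∃ (f : P →ₗ[A] A) (x : P), f x = a}

instance instT (A : Type u) [Ring A] (P : Type v) [AddCommGroup P] [Module A P] :
    (T A P).IsTwoSided := by
  refine ⟨fun {a} b ha => ?_⟩
  unfold T at ha ⊢
  induction ha using Submodule.span_induction with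
  | mem a h =>
    obtain ⟨f, x, rfl⟩ := h
    apply Ideal.subset_span
    exact ⟨(LinearMap.toSpanSingleton A A b).comp f, x, by simp⟩
  | zero => simp
  | add x y _ _ hx hy => rw [add_mul]; exact Ideal.add_mem _ hx hy
  | smul c x _ hx => rw [smul_eq_mul, mul_assoc]; exact Ideal.mul_mem_left _ c hx

lemma top_le_T_smul (A : Type u) [Ring A] (P : Type v) [AddCommGroup P] [Module A P]
    [Module.Projective A P] : (⊤ : Submodule A P) ≤ T A P • (⊤ : Submodule A P) := by
  obtain ⟨s, hs⟩ := (Module.projective_def' (R := A) (P := P)).mp inferInstance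
  intro x _
  have hx : x = Finsupp.linearCombination A id (s x) := by
    have := LinearMap.congr_fun hs x
    simpa using this.symm
  rw [hx, Finsupp.linearCombination_apply]
  unfold Finsupp.sum
  apply Submodule.sum_mem
  intro p _
  apply Submodule.smul_mem_smul _ Submodule.mem_top
  apply Ideal.subset_span
  exact ⟨(Finsupp.lapply p).comp s, x, rfl⟩

lemma T_eq_top (A : Type u) [Ring A] (P : Type v) [AddCommGroup P] [Module A P]
    [IsSimpleRing (A ⧸ Ring.jacobson A)] [Module.Finite A P] [Module.Projective A P]
    [Nontrivial P] : T A P = ⊤ := by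
  have hK := (IsSimpleRing.simple (R := A ⧸ Ring.jacobson A)).eq_bot_or_eq_top
    (Ideal.toTwoSided (Ideal.map (Ideal.Quotient.mk (Ring.jacobson A)) (T A P)))
  rcases hK with h | h
  · exfalso
    have hTJ : T A P ≤ Ring.jacobson A := by
      intro t ht
      have : Ideal.Quotient.mk (Ring.jacobson A) t ∈
          Ideal.toTwoSided (Ideal.map (Ideal.Quotient.mk (Ring.jacobson A)) (T A P)) := by
        rw [Ideal.mem_toTwoSided]; exact Ideal.mem_map_of_mem _ ht
      rw [h] at this
      have h0 : Ideal.Quotient.mk (Ring.jacobson A) t = 0 := by simpa using this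
      exact Ideal.Quotient.eq_zero_iff_mem.mp h0
    have h1 : (⊤ : Submodule A P) ≤ Ring.jacobson A • (⊤ : Submodule A P) :=
      (top_le_T_smul A P).trans (Submodule.smul_mono_left hTJ)
    have h2 : (⊤ : Submodule A P) = ⊥ :=
      Submodule.FG.eq_bot_of_le_jacobson_smul Module.Finite.fg_top h1
    exact top_ne_bot h2
  · have h1 : (1 : A ⧸ Ring.jacobson A) ∈
        (Ideal.map (Ideal.Quotient.mk (Ring.jacobson A)) (T A P)) := by
      rw [← Ideal.mem_toTwoSided, h]; trivial
    obtain ⟨t, ht, ht1⟩ :=
      (Ideal.mem_map_iff_of_surjective _ Ideal.Quotient.mk_surjective).mp h1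
    by_contra hne
    obtain ⟨m, hm, hTm⟩ := Ideal.exists_le_maximal _ hne
    have hJm : Ring.jacobson A ≤ m := Ring.jacobson_le_of_isMaximal m
    have h3 : (1 : A) - t ∈ Ring.jacobson A := by
      rw [← Ideal.Quotient.eq_zero_iff_mem, map_sub, ht1, map_one, sub_self]
    have h4 : (1 : A) ∈ m := by
      have := m.add_mem (hTm ht) (hJm h3)
      simpa using this
    exact hm.ne_top ((Ideal.eq_top_iff_one m).mpr h4)

/-- Let A be a ring with A/J a simple left-Artinian ring, J the Jacobson radical, and let P be a
non-zero finitely generated projective left A-module. An A-linear automorphism u of P which commutes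
with every A-linear endomorphism of P (equivalently, induces the identity on End_A(P) by
conjugation) is scalar multiplication by a unique central element a of A: u(x) = a·x for all x ∈ P,
and a is determined by u. (So the automorphisms of P acting trivially on End_A(P) are exactly the
central units of A acting by scalars; the published assertion does not exclude P = 0, where
uniqueness fails.) -/
theorem result (A : Type u) [Ring A] [IsSimpleRing (A ⧸ Ring.jacobson A)] [IsArtinianRing (A ⧸ Ring.jacobson A)] (P : Type v) [AddCommGroup P] [Module A P] [Module.Finite A P] [Module.Projective A P] [Nontrivial P] (u : P ≃ₗ[A] P) (hu : ∀ f : Module.End A P, (u : P →ₗ[A] P) ∘ₗ f = f ∘ₗ (u : P →ₗ[A] P)) : ∃! a : A, (∀ b : A, a * b = b * a) ∧ ∀ x : P, u x = a • x := by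
  have hT : (1 : A) ∈ T A P := by rw [T_eq_top]; trivial
  have hQ : ∀ t ∈ T A P, ∃ a : A, ∀ x : P, t • u x = a • x := by
    intro t ht
    unfold T at ht
    induction ht using Submodule.span_induction with
    | mem t h =>
      obtain ⟨f, y, rfl⟩ := h
      refine ⟨f (u y), fun x => ?_⟩
      have := LinearMap.congr_fun (hu ((LinearMap.toSpanSingleton A P x).comp f)) y
      simpa using this
    | zero => exact ⟨0, by simp⟩
    | add s t _ _ hs ht =>
      obtain ⟨a, ha⟩ := hs
      obtain ⟨b, hb⟩ := ht
      exact ⟨a + b, fun x => by rw [add_smul, add_smul, ha, hb]⟩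
    | smul c t _ ht =>
      obtain ⟨a, ha⟩ := ht
      exact ⟨c * a, fun x => by rw [smul_eq_mul, mul_smul, ha, mul_smul]⟩
  have hR : ∀ t ∈ T A P, ∀ c : A, (∀ x : P, c • x = 0) → c * t = 0 := by
    intro t ht
    unfold T at ht
    induction ht using Submodule.span_induction with
    | mem t h =>
      obtain ⟨f, y, rfl⟩ := h
      intro c hc
      rw [← smul_eq_mul, ← map_smul, hc, map_zero]
    | zero => intro c _; simp
    | add s t _ _ hs ht =>
      intro c hc
      rw [mul_add, hs c hc, ht c hc, add_zero]
    | smul d t _ ht =>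
      intro c hc
      rw [smul_eq_mul, ← mul_assoc]
      exact ht (c * d) (fun x => by rw [mul_smul, hc])
  obtain ⟨a, ha⟩ := hQ 1 hT
  have ha' : ∀ x, u x = a • x := by simpa using ha
  have faithful : ∀ c : A, (∀ x : P, c • x = 0) → c = 0 := fun c hc => by
    simpa using hR 1 hT c hc
  refine ⟨a, ⟨fun b => ?_, ha'⟩, ?_⟩
  · have : a * b - b * a = 0 := faithful _ (fun x => by
      rw [sub_smul, mul_smul, mul_smul, ← ha' x, ← ha' (b • x), map_smul, sub_self])
    exact sub_eq_zero.mp this
  · rintro a' ⟨-, h'⟩
    have : a' - a = 0 := faithful _ (fun x => by rw [sub_smul, ← ha' x, ← h' x, sub_self])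
    exact sub_eq_zero.mp this

end Groth.Agent.S13848
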