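import Groth.Statements.S13860
import Mathlib.Tactic

set_option autoImplicit false
universe u v w
open ModRep

namespace Groth.Agent.S13860

/-- For k a field of characteristic p > 0, G a finite group and P a Sylow p-subgroup of G, a short exact
sequence of k[G]-modules has a k[G]-linear splitting exactly when it has a k[P]-linear one. Stated
here for the surjection of the sequence: a G-equivariant k-linear map g : B → C between k-linear
representations of G admits a G-equivariant k-linear section if and only if it admits a
P-equivariant k-linear section. -/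
theorem result {k : Type u} [Field k] (p : ℕ) [Fact p.Prime]
    [CharP k p] {G : Type v} [Group G] [Finite G] (P : Sylow p G)
    {B C : Type w} [AddCommGroup B] [Module k B] [AddCommGroup C] [Module k C]
    (ρB : Representation k G B) (ρC : Representation k G C)
    (g : B →ₗ[k] C) (hg : ∀ x : G, g ∘ₗ ρB x = ρC x ∘ₗ g) :
    (∃ s : C →ₗ[k] B, g ∘ₗ s = LinearMap.id ∧ ∀ x : G, s ∘ₗ ρC x = ρB x ∘ₗ s) ↔
      (∃ s : C →ₗ[k] B, g ∘ₗ s = LinearMap.id ∧ ∀ x : G, x ∈ P → s ∘ₗ ρC x = ρB x ∘ₗ s) := by
  constructor
  · rintro ⟨s, hs1, hs2⟩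
    exact ⟨s, hs1, fun x _ => hs2 x⟩
  · rintro ⟨s, hs1, hs2⟩
    classical
    have : Fintype (G ⧸ (P : Subgroup G)) := Fintype.ofFinite _
    -- the conjugated sections
    let F : G → (C →ₗ[k] B) := fun x => ρB x ∘ₗ s ∘ₗ ρC x⁻¹
    have hF : ∀ (x h : G), h ∈ P → F (x * h) = F x := by
      intro x h hh
      simp only [F]
      rw [map_mul, mul_inv_rev, map_mul]
      have h1 : s ∘ₗ ρC h⁻¹ = ρB h⁻¹ ∘ₗ s := hs2 h⁻¹ (P.inv_mem hh)
      ext c
      simp only [LinearMap.coe_comp, Function.comp_apply, Module.End.mul_apply]
      have h2 := congrArg (fun φ => φ (ρC x⁻¹ c)) h1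
      simp only [LinearMap.coe_comp, Function.comp_apply] at h2
      rw [h2]
      have h3 : ρB h (ρB h⁻¹ (s (ρC x⁻¹ c))) = s (ρC x⁻¹ c) := by
        rw [← Module.End.mul_apply, ← map_mul, mul_inv_cancel, map_one, Module.End.one_apply]
      rw [h3]
    let Fbar : G ⧸ (P : Subgroup G) → (C →ₗ[k] B) := fun q =>
      Quotient.liftOn' q F (by
        intro a b hab
        have hab' : a⁻¹ * b ∈ (P : Subgroup G) := QuotientGroup.leftRel_apply.mp hab
        have := hF a (a⁻¹ * b) hab'
        rw [mul_inv_cancel_left] at this
        exact this.symm)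
    have hFbar : ∀ x : G, Fbar (QuotientGroup.mk x) = F x := fun x => rfl
    have hact : ∀ (y : G) (q : G ⧸ (P : Subgroup G)), Fbar (y • q) = ρB y ∘ₗ Fbar q ∘ₗ ρC y⁻¹ := by
      intro y q
      induction q using QuotientGroup.induction_on with
      | H x =>
        have : y • (QuotientGroup.mk x : G ⧸ (P : Subgroup G)) = QuotientGroup.mk (y * x) := rfl
        rw [this, hFbar, hFbar]
        simp only [F]
        rw [map_mul, mul_inv_rev, map_mul]
        rfl
    -- index invertible
    have hidx : ((Fintype.card (G ⧸ (P : Subgroup G)) : ℕ) : k) ≠ 0 := by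
      intro h0
      rw [CharP.cast_eq_zero_iff k p] at h0
      have h1 : Fintype.card (G ⧸ (P : Subgroup G)) = (P : Subgroup G).index := by
        rw [Subgroup.index, Nat.card_eq_fintype_card]
      rw [h1] at h0
      exact P.not_dvd_index h0
    let c : k := ((Fintype.card (G ⧸ (P : Subgroup G)) : ℕ) : k)⁻¹
    let s' : C →ₗ[k] B := c • ∑ q : G ⧸ (P : Subgroup G), Fbar q
    refine ⟨s', ?_, ?_⟩
    · -- section
      have h1 : ∀ (q : G ⧸ (P : Subgroup G)) (b : C), g (Fbar q b) = b := by
        intro q b
        induction q using QuotientGroup.induction_on with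
        | H x =>
          rw [hFbar]
          simp only [F, LinearMap.coe_comp, Function.comp_apply]
          have e1 := congrArg (fun φ => φ (s (ρC x⁻¹ b))) (hg x)
          simp only [LinearMap.coe_comp, Function.comp_apply] at e1
          rw [e1]
          have e2 := congrArg (fun φ => φ (ρC x⁻¹ b)) hs1
          simp only [LinearMap.coe_comp, Function.comp_apply, LinearMap.id_coe, id_eq] at e2
          rw [e2, ← Module.End.mul_apply, ← map_mul, mul_inv_cancel, map_one, Module.End.one_apply]
      ext b
      simp only [s', LinearMap.coe_comp, Function.comp_apply, LinearMap.smul_apply,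
        LinearMap.sum_apply, LinearMap.id_coe, id_eq, map_smul, map_sum]
      rw [Finset.sum_congr rfl (fun q _ => h1 q b), Finset.sum_const, Finset.card_univ,
        ← Nat.cast_smul_eq_nsmul k, smul_smul, inv_mul_cancel₀ hidx, one_smul]
    · intro y
      ext b
      simp only [s', LinearMap.coe_comp, Function.comp_apply, LinearMap.smul_apply,
        LinearMap.sum_apply, map_smul, map_sum]
      congr 1
      have h3 : ∀ q : G ⧸ (P : Subgroup G), ρB y (Fbar q b) = Fbar (y • q) (ρC y b) := by
        intro q
        rw [hact y q]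
        simp only [LinearMap.coe_comp, Function.comp_apply]
        rw [← Module.End.mul_apply (ρC y⁻¹), ← map_mul, inv_mul_cancel, map_one,
          Module.End.one_apply]
      rw [Finset.sum_congr rfl (fun q _ => h3 q)]
      exact (Fintype.sum_equiv (MulAction.toPerm y) (fun q => Fbar (y • q) (ρC y b))
        (fun q => Fbar q (ρC y b)) (fun q => rfl)).symm

end Groth.Agent.S13860
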