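import Groth.Statements.S13861
import Groth.Agent.Lib.Helper20.ASPowD

set_option autoImplicit false
universe u
open ASCover

namespace Groth.Agent.S13861


theorem result {k : Type u} [Field k] [IsAlgClosed k] (p : ℕ)
    [Fact p.Prime] [CharP k p] (n : ℕ) (hn : 0 < n) (hpn : ¬ p ∣ n)
    (u : PowerSeries k) (hu1 : PowerSeries.constantCoeff u = 1)
    (hun : u ^ n * (1 + PowerSeries.X ^ n) = 1) (hu : IsUnit u) (a : ℤ)
    {G : Type u} [Group G] [Finite G] (g : G) (hG : Nat.card G = p)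
    (hg : ∀ x : G, x ∈ Subgroup.zpowers g)
    (ρ : Representation k G (PowerSeries k))
    (hρ : ∀ h : PowerSeries k, ρ g h =
      ((hu.unit ^ a : (PowerSeries k)ˣ) : PowerSeries k) * PowerSeries.subst (PowerSeries.X * u) h) :
    Module.Finite k (groupCohomology.H1 (Rep.of ρ)) ∧
      (Module.finrank k (groupCohomology.H1 (Rep.of ρ)) : ℤ) =
        n - (a - 1) / (p : ℤ) + (a - 1 - n) / (p : ℤ) := by
  classical
  have hp : 0 < p := (Fact.out : p.Prime).pos
  obtain ⟨c, hc⟩ := Groth.Agent.Helper20.ASPow.exists_c p hu.unit u hu.unit_spec hn hpn hu1 hun a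
  obtain ⟨v, -⟩ := Groth.Agent.Helper20.ASPow.h1_basis p n hn hpn u hu1 hun hu a g hG hg ρ hρ c hc
  refine ⟨Module.Finite.of_basis v, ?_⟩
  rw [Module.finrank_eq_card_basis v, Fintype.card_coe,
    Groth.Agent.Helper20.ASPow.card_F p hp a n]

end Groth.Agent.S13861
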