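import Groth.Statements.S13862
import Groth.Agent.Lib.Helper20.ASPowF

set_option autoImplicit false
universe u
open ASCover

namespace Groth.Agent.S13862


theorem result {k : Type u} [Field k] [IsAlgClosed k] (p : ℕ)
    [Fact p.Prime] [CharP k p] (n : ℕ) (hn : 0 < n) (hpn : ¬ p ∣ n)
    (u : PowerSeries k) (hu1 : PowerSeries.constantCoeff u = 1)
    (hun : u ^ n * (1 + PowerSeries.X ^ n) = 1)
    {G : Type u} [Group G] [Finite G] (g : G) (hG : Nat.card G = p)
    (hg : ∀ x : G, x ∈ Subgroup.zpowers g)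
    (ρ₀ ρ₁ : Representation k G (PowerSeries k))
    (hρ₀ : ∀ h : PowerSeries k, ρ₀ g h = PowerSeries.subst (PowerSeries.X * u) h)
    (hρ₁ : ∀ h : PowerSeries k, ρ₁ g h = u ^ (n + 1) * PowerSeries.subst (PowerSeries.X * u) h)
    (φ : Rep.of ρ₀ ⟶ Rep.of ρ₁) (hφ : ∀ h : PowerSeries k, φ.hom h = PowerSeries.derivative k h) :
    Module.Finite k (LinearMap.range ((groupCohomology.functor k G 1).map φ).hom) ∧
      (Module.finrank k (LinearMap.range ((groupCohomology.functor k G 1).map φ).hom) : ℤ) =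
        ((n + 1) * (p - 1) : ℤ) / p - 1 - (n - 1 : ℤ) / p := by
  have hp : 0 < p := (Fact.out : p.Prime).pos
  have h := Groth.Agent.Helper20.ASPow.range_H1_map_derivative p n hn hpn u hu1 hun g hG hg ρ₀ ρ₁
    hρ₀ hρ₁ φ hφ ((groupCohomology.functor k G 1).map φ).hom
    (fun f => Groth.Agent.Helper20.CycH1.map_H1π φ f)
  refine ⟨h.1, ?_⟩
  rw [← Groth.Agent.Helper20.ASPow.card_Jset p n hp hn hpn]
  exact_mod_cast h.2

end Groth.Agent.S13862
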