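import Groth.Statements.S13867
import Groth.Agent.Lib.Helper7.TowerA
import Groth.Agent.Lib.Helper7.TowerB
import Groth.Agent.Lib.Helper7.PreimQuot
import Groth.Agent.Lib.Helper7.FibQuotA
import Groth.Agent.S0086

set_option autoImplicit false
universe u
open CategoryTheory MonoidalCategory CartesianMonoidalCategory MonObj GrpObj AlgebraicGeometry
open ParSch

namespace Groth.Agent.S13867

/-- Let k be an algebraically closed field, G a group scheme of finite type over k and H ⊆ H' closed
subgroup schemes of G. Let q : G → X and q' : G → X' be the quotients of G by H and by H' (fppf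
quotients represented by schemes), f : X → X' the morphism with q ≫ f = q', and r : H' → Y the
quotient of H' by H. Then f is a contraction (proper, and O_{X'}(U) → O_X(f⁻¹ U) is an isomorphism
for every open U of X') if and only if Y is proper over k and the global functions of Y reduce to k
(the map k → Γ(Y, O_Y) is an isomorphism). -/
theorem result
    (k : Type u) [Field k] [IsAlgClosed k]
    (G : Over (Spec (CommRingCat.of k))) [GrpObj G] [LocallyOfFiniteType G.hom] [QuasiCompact G.hom]
    (H H' : Over (Spec (CommRingCat.of k))) [GrpObj H] [GrpObj H']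
    (iH : H ⟶ G) [IsMonHom iH] (hH : IsClosedImmersion iH.left)
    (iH' : H' ⟶ G) [IsMonHom iH'] (hH' : IsClosedImmersion iH'.left)
    (e : H ⟶ H') [IsMonHom e] (he : e ≫ iH' = iH)
    (X X' Y : Over (Spec (CommRingCat.of k))) (q : G ⟶ X) (hq : RedSub.IsQuotient iH q) (q' : G ⟶ X') (hq' : RedSub.IsQuotient iH' q')
    (f : X ⟶ X') (hf : q ≫ f = q') (r : H' ⟶ Y) (hr : RedSub.IsQuotient e r) :
    (IsProper f.left ∧ ∀ U : X'.left.Opens, IsIso (f.left.app U)) ↔
      (IsProper Y.hom ∧ IsIso Y.hom.appTop) := by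
  classical
  haveI := hH'
  haveI : Mono iH'.left := inferInstance
  haveI : Mono iH' := Over.mono_of_mono_left iH'
  have hE := Groth.Agent.Helper7.ThirdIso.coverClass_fppfOver (S := Spec (CommRingCat.of k))
  obtain ⟨a, hsq, -⟩ := Groth.Agent.Helper7.ThirdIso.tower hE (fun f φ hf h => Groth.Agent.Helper7.ThirdIso.desc_fppfOver f φ hf h)
    iH iH' e he q ⟨hq.1, hq.2.1, hq.2.2.1⟩ hq.2.2.2 q' hq'.2.2.2 r ⟨hr.1, hr.2.1, hr.2.2.1⟩
    hr.2.2.2 f hf
  haveI : Surjective q'.left := hq'.1
  haveI : Flat q'.left := hq'.2.1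
  haveI : LocallyOfFinitePresentation q'.left := hq'.2.2.1
  -- the two cartesian squares of schemes
  have sq1 : IsPullback a.left (fst G Y).left f.left q'.left :=
    hsq.map (Over.forget (Spec (CommRingCat.of k)))
  have sq2 : IsPullback (snd G Y).left (fst G Y).left Y.hom G.hom :=
    (Groth.Agent.Helper7.ThirdIso.isPullback_fst_snd_toUnit G Y).flip.map (Over.forget (Spec (CommRingCat.of k)))
  -- `G ⟶ Spec k` is an fpqc covering
  haveI : Flat G.hom := inferInstance
  haveI : Surjective G.hom := by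
    refine ⟨fun s => ⟨(η[G] : 𝟙_ _ ⟶ G).left.base s, ?_⟩⟩
    rw [← Scheme.Hom.comp_apply, Over.w]
    rfl
  haveI : MorphismProperty.DescendsAlong @IsProper
      (@Surjective ⊓ @Flat ⊓ @QuasiCompact : MorphismProperty Scheme.{u}) :=
    Groth.Agent.S0086.result
  have hprop1 : IsProper (fst G Y).left ↔ IsProper f.left :=
    MorphismProperty.iff_of_isPullback (P := @IsProper)
      (Q := @Surjective ⊓ @Flat ⊓ @LocallyOfFinitePresentation) sq1.flip
      ⟨⟨inferInstance, inferInstance⟩, inferInstance⟩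
  have hprop2 : IsProper (fst G Y).left ↔ IsProper Y.hom :=
    MorphismProperty.iff_of_isPullback (P := @IsProper)
      (Q := @Surjective ⊓ @Flat ⊓ @QuasiCompact) sq2.flip
      ⟨⟨inferInstance, inferInstance⟩, inferInstance⟩
  have hprop : IsProper f.left ↔ IsProper Y.hom := hprop1.symm.trans hprop2
  constructor
  · rintro ⟨hfp, hfU⟩
    have hYp : IsProper Y.hom := hprop.mp hfp
    refine ⟨hYp, ?_⟩
    -- a point of `G`, an affine neighbourhood `W` of its image, and `V` affine inside `q'⁻¹ W`
    obtain ⟨x₀, -⟩ := G.hom.surjective (Classical.arbitrary (Spec (CommRingCat.of k)))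
    obtain ⟨W, hW, hxW, -⟩ := TopologicalSpace.Opens.isBasis_iff_nbhd.mp X'.left.isBasis_affineOpens
      (show q'.left.base x₀ ∈ (⊤ : X'.left.Opens) from trivial)
    obtain ⟨V, hV, hxV, hVW⟩ := TopologicalSpace.Opens.isBasis_iff_nbhd.mp G.left.isBasis_affineOpens
      (show x₀ ∈ q'.left ⁻¹ᵁ W from hxW)
    have h1 : IsIso ((fst G Y).left.app V) :=
      Groth.Agent.Helper7.TowerB.isIso_app_baseChange sq1 hW hV hVW (hfU W)
    have h2 : IsIso (Y.hom.app ⊤) :=
      Groth.Agent.Helper7.TowerB.isIso_app_descend sq2 (isAffineOpen_top _) hV le_top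
        (fun s _ => ⟨x₀, hxV, Subsingleton.elim _ _⟩) h1
    exact h2
  · rintro ⟨hYp, hYΓ⟩
    have hfp : IsProper f.left := hprop.mpr hYp
    refine ⟨hfp, fun U => ?_⟩
    refine Groth.Agent.Helper7.TowerB.isIso_app_of_cover sq1 (fun V hV => ?_) U
    exact Groth.Agent.Helper7.TowerB.isIso_app_baseChange sq2 (isAffineOpen_top _) hV le_top hYΓ

end Groth.Agent.S13867
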