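import Groth.Statements.S13877
import Groth.Agent.Lib.Helper21.CrimpLen

set_option autoImplicit false
universe u v
open Crimp

namespace Groth.Agent.S13877

/-- Over R = k⟦t⟧ with k an algebraically closed field of characteristic zero, let S' be a commutative
R-algebra with an R-basis of size d whose discriminant generates the ideal (t ^ a) (a finite cover
of the formal disk of degree d, unramified over the punctured disk, with branch divisor (t ^ a)),
and let S be an R-subalgebra of S' with an R-basis of size d whose discriminant generates (t ^ b) (a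
crimp with branch divisor (t ^ b)). Then t ^ b annihilates S' / S and twice the R-length of S' / S
plus a equals b. (The published statement is for a family of such subalgebras over a k-scheme T and
also asserts T-flatness of the quotient; this row is its restriction to T a point.) -/
theorem result {k : Type u} [Field k] [IsAlgClosed k] [CharZero k]
    {St : Type v} [CommRing St] [Algebra (PowerSeries k) St] (d a b : ℕ)
    (bt : Module.Basis (Fin d) (PowerSeries k) St)
    (ha : Ideal.span {Algebra.discr (PowerSeries k) ⇑bt} = Ideal.span {(PowerSeries.X : PowerSeries k) ^ a})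
    (S : Subalgebra (PowerSeries k) St) (bS : Module.Basis (Fin d) (PowerSeries k) S)
    (hb : Ideal.span {Algebra.discr (PowerSeries k) ⇑bS} = Ideal.span {(PowerSeries.X : PowerSeries k) ^ b}) :
    (∀ q : St ⧸ Subalgebra.toSubmodule S, ((PowerSeries.X : PowerSeries k) ^ b) • q = 0) ∧
    2 * Module.length (PowerSeries k) (St ⧸ Subalgebra.toSubmodule S) + (a : ℕ∞) = (b : ℕ∞) := by
  classical
  obtain ⟨hlen, hann⟩ := Groth.Agent.Helper21.CR.length_quotient_eq_ord_det
    (Subalgebra.toSubmodule S) bt (bS.map (Subalgebra.toSubmoduleEquiv S).symm)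
  have hPdet := LinearMap.det_toMatrix bt ((Subalgebra.toSubmodule S).subtype ∘ₗ
      (bt.equiv (bS.map (Subalgebra.toSubmoduleEquiv S).symm) (Equiv.refl _)).toLinearMap)
  have hfb : ∀ j, ((Subalgebra.toSubmodule S).subtype ∘ₗ
      (bt.equiv (bS.map (Subalgebra.toSubmoduleEquiv S).symm) (Equiv.refl _)).toLinearMap) (bt j)
      = ((bS j : S) : St) := by
    intro j
    show ((bt.equiv (bS.map (Subalgebra.toSubmoduleEquiv S).symm) (Equiv.refl _)) (bt j) : St) = _
    rw [Module.Basis.equiv_apply, Equiv.refl_apply, Module.Basis.map_apply]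
    rfl
  have hfam : (fun j => ((bS j : S) : St)) =
      Matrix.vecMul (⇑bt) ((LinearMap.toMatrix bt bt ((Subalgebra.toSubmodule S).subtype ∘ₗ
      (bt.equiv (bS.map (Subalgebra.toSubmoduleEquiv S).symm) (Equiv.refl _)).toLinearMap)).map
        (algebraMap (PowerSeries k) St)) := by
    funext j
    simp only [Matrix.vecMul, dotProduct, Matrix.map_apply, LinearMap.toMatrix_apply, hfb]
    conv_lhs => rw [← bt.sum_repr ((bS j : S) : St)]
    exact Finset.sum_congr rfl (fun i _ => by rw [Algebra.smul_def, mul_comm])
  have hdiscr : Algebra.discr (PowerSeries k) ⇑bS =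
      Algebra.discr (PowerSeries k) (fun j => ((bS j : S) : St)) := by
    rw [Algebra.discr_def, Algebra.discr_def]
    congr 1
    ext i j
    rw [Algebra.traceMatrix_apply, Algebra.traceMatrix_apply, Algebra.traceForm_apply,
      Algebra.traceForm_apply, Groth.Agent.Helper21.CR.trace_subalgebra_eq S bt bS]
    rfl
  have hD : Algebra.discr (PowerSeries k) ⇑bS =
      (LinearMap.toMatrix bt bt ((Subalgebra.toSubmodule S).subtype ∘ₗ
      (bt.equiv (bS.map (Subalgebra.toSubmoduleEquiv S).symm) (Equiv.refl _)).toLinearMap)).det ^ 2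
        * Algebra.discr (PowerSeries k) ⇑bt := by
    rw [hdiscr, hfam, Algebra.discr_of_matrix_vecMul]
  rw [hPdet] at hD
  set δ := LinearMap.det ((Subalgebra.toSubmodule S).subtype ∘ₗ
      (bt.equiv (bS.map (Subalgebra.toSubmoduleEquiv S).symm) (Equiv.refl _)).toLinearMap) with hδ
  have hX : Ring.ord (PowerSeries k) (PowerSeries.X : PowerSeries k) = 1 :=
    Ring.ord_of_irreducible PowerSeries.X_irreducible
  have hXne : (PowerSeries.X : PowerSeries k) ∈ nonZeroDivisors (PowerSeries k) :=
    mem_nonZeroDivisors_of_ne_zero PowerSeries.X_ne_zero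
  have hordpow : ∀ n : ℕ, Ring.ord (PowerSeries k) ((PowerSeries.X : PowerSeries k) ^ n) = n := by
    intro n
    rw [Ring.ord_pow hXne, hX]
    simp
  have hDt : Ring.ord (PowerSeries k) (Algebra.discr (PowerSeries k) ⇑bt) = a := by
    rw [Ring.ord, ha]
    exact hordpow a
  have hDS : Ring.ord (PowerSeries k) (Algebra.discr (PowerSeries k) ⇑bS) = b := by
    rw [Ring.ord, hb]
    exact hordpow b
  have hDtne : Algebra.discr (PowerSeries k) ⇑bt ≠ 0 := by
    intro h0
    rw [h0, Ideal.span_singleton_eq_bot.mpr rfl] at ha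
    exact pow_ne_zero a PowerSeries.X_ne_zero (Ideal.span_singleton_eq_bot.mp ha.symm)
  have hDSne : Algebra.discr (PowerSeries k) ⇑bS ≠ 0 := by
    intro h0
    rw [h0, Ideal.span_singleton_eq_bot.mpr rfl] at hb
    exact pow_ne_zero b PowerSeries.X_ne_zero (Ideal.span_singleton_eq_bot.mp hb.symm)
  have hδne : δ ≠ 0 := by
    intro h0
    apply hDSne
    rw [hD, h0]
    simp
  have hord : (b : ℕ∞) = 2 • Ring.ord (PowerSeries k) δ + a := by
    rw [← hDS, hD, Ring.ord_mul (PowerSeries k) (mem_nonZeroDivisors_of_ne_zero hDtne),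
      Ring.ord_pow (mem_nonZeroDivisors_of_ne_zero hδne), hDt]
  have hdvd : δ ∣ (PowerSeries.X : PowerSeries k) ^ b := by
    have h1 : Associated (Algebra.discr (PowerSeries k) ⇑bS) ((PowerSeries.X : PowerSeries k) ^ b) :=
      Ideal.span_singleton_eq_span_singleton.mp hb
    have h2 : δ ∣ Algebra.discr (PowerSeries k) ⇑bS := by
      rw [hD, pow_two, mul_assoc]
      exact dvd_mul_right _ _
    exact h2.trans h1.dvd
  constructor
  · intro q
    obtain ⟨c, hc⟩ := hdvd
    rw [hc, mul_comm, mul_smul, hann q, smul_zero]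
  · rw [hlen, hord, two_nsmul, two_mul]

end Groth.Agent.S13877
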