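import Groth.Statements.S13878
import Mathlib
import Groth.Agent.Lib.Helper2.CrimpRk2
-- import your own Groth.Agent.* helpers here

set_option autoImplicit false
universe u
open Crimp

namespace Groth.Agent.S13878

section
open Groth.Agent.Lib.Helper2.CrimpRk2

theorem main {k : Type u} [Field k] [IsAlgClosed k] [CharZero k] (m n : ℕ) (hmn : m ≤ n)
    (S : Submodule (PowerSeries k) (Fin 3 → PowerSeries k))
    (h1 : (1 : (Fin 3 → PowerSeries k)) ∈ S)
    (e : ((Fin 3 → PowerSeries k) ⧸ S) ≃ₗ[PowerSeries k]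
      ((PowerSeries k ⧸ Ideal.span {(PowerSeries.X : PowerSeries k) ^ m}) × (PowerSeries k ⧸ Ideal.span {(PowerSeries.X : PowerSeries k) ^ n}))) :
    Ideal.span {(PowerSeries.X : PowerSeries k) ^ n} • (⊤ : Submodule (PowerSeries k) (Fin 3 → PowerSeries k)) ≤ S ∧
    ∃ f : (Fin 3 → PowerSeries k),
      f ∉ Submodule.span (PowerSeries k) {(1 : (Fin 3 → PowerSeries k))} ⊔ Ideal.span {(PowerSeries.X : PowerSeries k)} • (⊤ : Submodule (PowerSeries k) (Fin 3 → PowerSeries k)) ∧
      S = Submodule.span (PowerSeries k) {(1 : (Fin 3 → PowerSeries k)), ((PowerSeries.X : PowerSeries k) ^ m) • f} ⊔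
        Ideal.span {(PowerSeries.X : PowerSeries k) ^ n} • (⊤ : Submodule (PowerSeries k) (Fin 3 → PowerSeries k)) := by
  set R := PowerSeries k with hR
  set t : R := PowerSeries.X with htdef
  have ht : IsLocalRing.maximalIdeal R = Ideal.span {t} := PowerSeries.maximalIdeal_eq_span_X
  let e' := (quotEquivRho S h1).symm.trans e
  obtain ⟨x, y, hD, hT⟩ := rank2_structure t ht m n hmn (S.map rho) e'
  obtain ⟨D', hD'⟩ := hD.exists_right_inv
  have hmem : ∀ v, v ∈ S ↔ rho v ∈ Submodule.span R {t ^ m • x, t ^ n • y} := by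
    intro v; rw [mem_iff_rho_mem S h1, hT]
  have hpow : t ^ n = t ^ (n - m) * t ^ m := by rw [← pow_add]; congr 1; omega
  have hn_top : Ideal.span {t ^ n} • (⊤ : Submodule R (Fin 3 → R)) ≤ S := by
    intro v hv
    rw [mem_span_smul_top] at hv
    obtain ⟨w, rfl⟩ := hv
    rw [hmem, map_smul, Submodule.mem_span_pair]
    refine ⟨t ^ (n - m) * coordA y D' (rho w), coordB x D' (rho w), ?_⟩
    conv_rhs => rw [eq_comb x y (rho w) D' hD']
    rw [smul_add, smul_smul, smul_smul, smul_smul, smul_smul, hpow]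
    congr 2 <;> ring
  refine ⟨hn_top, lift3 x, ?_, ?_⟩
  · intro hf
    rw [Submodule.mem_sup] at hf
    obtain ⟨a, ha, b, hb, hab⟩ := hf
    rw [Submodule.mem_span_singleton] at ha
    obtain ⟨c, rfl⟩ := ha
    rw [mem_span_smul_top] at hb
    obtain ⟨w, rfl⟩ := hb
    have := congrArg rho hab
    rw [map_add, map_smul, rho_one, smul_zero, zero_add, map_smul, rho_lift3] at this
    apply not_isUnit_of_dvd t ht _ hD
    rw [← this]
    simp only [Pi.smul_apply, smul_eq_mul]
    exact ⟨rho w 0 * y 1 - rho w 1 * y 0, by ring⟩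
  · apply le_antisymm
    · intro v hv
      rw [hmem, Submodule.mem_span_pair] at hv
      obtain ⟨a, b, hab⟩ := hv
      rw [Submodule.mem_sup]
      refine ⟨v 0 • 1 + a • (t ^ m • lift3 x), ?_, t ^ n • (b • lift3 y), ?_, ?_⟩
      · rw [Submodule.mem_span_pair]; exact ⟨v 0, a, rfl⟩
      · rw [mem_span_smul_top]; exact ⟨_, rfl⟩
      · conv_rhs => rw [decomp3 v, ← hab]
        rw [lift3_add, lift3_smul, lift3_smul, lift3_smul, lift3_smul, add_assoc]
        congr 2
        rw [smul_comm]
    · apply sup_le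
      · rw [Submodule.span_le]
        rintro v (rfl | rfl)
        · exact h1
        · rw [SetLike.mem_coe, hmem, map_smul, rho_lift3]
          exact Submodule.subset_span (Set.mem_insert _ _)
      · exact hn_top

end

/-- Over R = k⟦t⟧ with k an algebraically closed field of characteristic zero, let S' = R × R × R (the
unramified triple cover of the formal disk) and let S be an R-submodule of S' containing 1 such that
S' / S is isomorphic to R / (t ^ m) ⊕ R / (t ^ n) with m ≤ n. Then t ^ n S' is contained in S, and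
there is f in S', not lying in R·1 + t S', such that S = R·1 + R·(t ^ m f) + t ^ n S'. -/
theorem result {k : Type u} [Field k] [IsAlgClosed k] [CharZero k] (m n : ℕ) (hmn : m ≤ n)
    (S : Submodule (PowerSeries k) (Fin 3 → PowerSeries k))
    (h1 : (1 : (Fin 3 → PowerSeries k)) ∈ S)
    (e : ((Fin 3 → PowerSeries k) ⧸ S) ≃ₗ[PowerSeries k]
      ((PowerSeries k ⧸ Ideal.span {(PowerSeries.X : PowerSeries k) ^ m}) × (PowerSeries k ⧸ Ideal.span {(PowerSeries.X : PowerSeries k) ^ n}))) :
    Ideal.span {(PowerSeries.X : PowerSeries k) ^ n} • (⊤ : Submodule (PowerSeries k) (Fin 3 → PowerSeries k)) ≤ S ∧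
    ∃ f : (Fin 3 → PowerSeries k),
      f ∉ Submodule.span (PowerSeries k) {(1 : (Fin 3 → PowerSeries k))} ⊔ Ideal.span {(PowerSeries.X : PowerSeries k)} • (⊤ : Submodule (PowerSeries k) (Fin 3 → PowerSeries k)) ∧
      S = Submodule.span (PowerSeries k) {(1 : (Fin 3 → PowerSeries k)), ((PowerSeries.X : PowerSeries k) ^ m) • f} ⊔
        Ideal.span {(PowerSeries.X : PowerSeries k) ^ n} • (⊤ : Submodule (PowerSeries k) (Fin 3 → PowerSeries k)) := by
  exact Groth.Agent.S13878.main m n hmn S h1 e

end Groth.Agent.S13878
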