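import Groth.Statements.S13879
-- import your own Groth.Agent.* helpers here

set_option autoImplicit false
universe u
open Crimp

namespace Groth.Agent.S13879

/-- general criterion: `span{1, g} ⊔ I • ⊤` is closed under multiplication iff `g * g` is in it. -/
lemma closed_iff {R B : Type*} [CommRing R] [CommRing B] [Algebra R B] (g : B) (I : Ideal R)
    (S : Submodule R B)
    (hS : S = Submodule.span R {(1 : B), g} ⊔ I • (⊤ : Submodule R B)) :
    (∀ x ∈ S, ∀ y ∈ S, x * y ∈ S) ↔ g * g ∈ S := by
  have h1S : (1 : B) ∈ S := by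
    rw [hS]
    exact Submodule.mem_sup_left (Submodule.subset_span (by simp))
  have hgS : g ∈ S := by
    rw [hS]
    exact Submodule.mem_sup_left (Submodule.subset_span (by simp))
  have hNS : I • (⊤ : Submodule R B) ≤ S := by
    rw [hS]
    exact le_sup_right
  have hNmul : ∀ x ∈ I • (⊤ : Submodule R B), ∀ y : B, x * y ∈ I • (⊤ : Submodule R B) := by
    intro x hx y
    refine Submodule.smul_induction_on hx ?_ ?_
    · intro r hr z _
      rw [smul_mul_assoc]
      exact Submodule.smul_mem_smul hr Submodule.mem_top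
    · intro a b ha hb
      rw [add_mul]
      exact Submodule.add_mem _ ha hb
  constructor
  · intro h
    exact h g hgS g hgS
  · intro hgg x hx y hy
    rw [hS] at hx hy
    obtain ⟨x₁, hx₁, x₂, hx₂, rfl⟩ := Submodule.mem_sup.mp hx
    obtain ⟨y₁, hy₁, y₂, hy₂, rfl⟩ := Submodule.mem_sup.mp hy
    obtain ⟨a, b, rfl⟩ := Submodule.mem_span_pair.mp hx₁
    obtain ⟨a', b', rfl⟩ := Submodule.mem_span_pair.mp hy₁
    have e : (a • (1 : B) + b • g + x₂) * (a' • (1 : B) + b' • g + y₂) =
        ((a * a') • (1 : B) + (a * b' + a' * b) • g + (b * b') • (g * g)) +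
        (x₂ * (a' • (1 : B) + b' • g + y₂) + y₂ * (a • (1 : B) + b • g)) := by
      simp only [Algebra.smul_def, mul_one, map_mul, map_add]
      ring
    rw [e]
    refine S.add_mem (S.add_mem (S.add_mem ?_ ?_) ?_) (S.add_mem ?_ ?_)
    · exact S.smul_mem _ h1S
    · exact S.smul_mem _ hgS
    · exact S.smul_mem _ hgg
    · exact hNS (hNmul _ hx₂ _)
    · exact hNS (hNmul _ hy₂ _)

/-- Over R = k⟦t⟧ with k an algebraically closed field of characteristic zero, let S' = R × R × R and
let S be the R-submodule R·1 + R·(t ^ m f) + t ^ n S' of S' for some f in S' and natural numbers m,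
n. Then S is closed under multiplication (equivalently, is an R-subalgebra of S') if and only if t ^
(2m) f ^ 2 lies in S. (The published statement has m ≤ n and S' / S isomorphic to R / (t ^ m) ⊕ R /
(t ^ n), under which S has this shape; this row states the criterion for every submodule of this
shape.) -/
theorem result {k : Type u} [Field k] [IsAlgClosed k] [CharZero k] (m n : ℕ) (f : (Fin 3 → PowerSeries k))
    (S : Submodule (PowerSeries k) (Fin 3 → PowerSeries k))
    (hS : S = Submodule.span (PowerSeries k) {(1 : (Fin 3 → PowerSeries k)), ((PowerSeries.X : PowerSeries k) ^ m) • f} ⊔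
        Ideal.span {(PowerSeries.X : PowerSeries k) ^ n} • (⊤ : Submodule (PowerSeries k) (Fin 3 → PowerSeries k))) :
    (∀ x ∈ S, ∀ y ∈ S, x * y ∈ S) ↔ ((PowerSeries.X : PowerSeries k) ^ (2 * m)) • (f * f) ∈ S := by
  have key := closed_iff (R := PowerSeries k) (B := Fin 3 → PowerSeries k)
    (((PowerSeries.X : PowerSeries k) ^ m) • f)
    (Ideal.span {(PowerSeries.X : PowerSeries k) ^ n}) S hS
  rw [key]
  have e : ((PowerSeries.X : PowerSeries k) ^ m) • f * (((PowerSeries.X : PowerSeries k) ^ m) • f) =
      ((PowerSeries.X : PowerSeries k) ^ (2 * m)) • (f * f) := by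
    rw [smul_mul_smul_comm, ← pow_add, two_mul]
  rw [e]

end Groth.Agent.S13879
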