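import Groth.Statements.S13880
import Mathlib
import Groth.Agent.Lib.Helper2.DoubleCrimp
-- import your own Groth.Agent.* helpers here

set_option autoImplicit false
universe u
open Crimp

namespace Groth.Agent.S13880

section
open Groth.Agent.Lib.Helper2.DoubleCrimp

theorem main {k : Type u} [Field k] [IsAlgClosed k] [CharZero k] (b : ℕ) (S : Subalgebra (PowerSeries k) (Fin 2 → PowerSeries k)) :
    ((∃ bS : Module.Basis (Fin 2) (PowerSeries k) S,
      Ideal.span {Algebra.discr (PowerSeries k) ⇑bS} = Ideal.span {(PowerSeries.X : PowerSeries k) ^ b}) ↔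
    ∃ n : ℕ, b = 2 * n ∧
      Subalgebra.toSubmodule S = Submodule.span (PowerSeries k) {(1 : (Fin 2 → PowerSeries k))} ⊔
        Ideal.span {(PowerSeries.X : PowerSeries k) ^ n} • (⊤ : Submodule (PowerSeries k) (Fin 2 → PowerSeries k))) ∧
    (∀ n : ℕ, Subalgebra.toSubmodule S = Submodule.span (PowerSeries k) {(1 : (Fin 2 → PowerSeries k))} ⊔
        Ideal.span {(PowerSeries.X : PowerSeries k) ^ n} • (⊤ : Submodule (PowerSeries k) (Fin 2 → PowerSeries k)) →
      Nonempty (S ≃ₐ[PowerSeries k] AdjoinRoot (Polynomial.X ^ 2 - Polynomial.C ((PowerSeries.X : PowerSeries k) ^ (2 * n))))) := by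
  have hirr : Irreducible (PowerSeries.X : PowerSeries k) := PowerSeries.X_prime.irreducible
  have h2 : IsUnit (2 : PowerSeries k) := by
    have h := (isUnit_iff_ne_zero.mpr (two_ne_zero : (2 : k) ≠ 0)).map (algebraMap k (PowerSeries k))
    rwa [map_ofNat] at h
  obtain ⟨h, hh⟩ := h2.exists_right_inv
  obtain ⟨B, hB0, hB1⟩ := exists_basis_prod (R := PowerSeries k) h hh
  refine ⟨⟨?_, ?_⟩, ?_⟩
  · rintro ⟨bS, hdisc⟩
    obtain ⟨n, hn⟩ := structure_of_basis B hB0 PowerSeries.X hirr S bS
    refine ⟨n, ?_, hn⟩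
    have h3 := span_discr B hB0 1 hB1 PowerSeries.X hirr.ne_zero h2 n S hn bS
    rw [mul_one, hdisc] at h3
    exact pow_eq_of_span_eq hirr h3
  · rintro ⟨n, rfl, hn⟩
    obtain ⟨bS, -, -⟩ := exists_special_basis' B hB0 1 hB1 PowerSeries.X hirr.ne_zero n S hn
    refine ⟨bS, ?_⟩
    have h3 := span_discr B hB0 1 hB1 PowerSeries.X hirr.ne_zero h2 n S hn bS
    rw [mul_one] at h3
    exact h3
  · intro n hn
    have h3 := algEquiv_of_eq B hB0 1 hB1 PowerSeries.X hirr.ne_zero n S hn
    rw [mul_one] at h3
    exact h3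

end

/-- Over R = k⟦t⟧ with k an algebraically closed field of characteristic zero, let S' = R × R, the
trivial double cover of the formal disk (branch divisor (t ^ 0)). An R-subalgebra S of S' admits an
R-basis of size 2 whose discriminant generates (t ^ b), that is, S is a crimp with branch divisor (t
^ b), if and only if b = 2n for some n and S = R·1 + t ^ n S'. So there is exactly one such crimp
when b is even and none when b is odd; moreover the subalgebra R·1 + t ^ n S' is isomorphic as an
R-algebra to R[y] / (y ^ 2 - t ^ (2n)) (existence of an isomorphism; y ↦ (t ^ n, -t ^ n)). (The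
published statement also gives the space of crimps its reduced one-point scheme structure; this row
classifies its k-points.) -/
theorem result {k : Type u} [Field k] [IsAlgClosed k] [CharZero k] (b : ℕ) (S : Subalgebra (PowerSeries k) (Fin 2 → PowerSeries k)) :
    ((∃ bS : Module.Basis (Fin 2) (PowerSeries k) S,
      Ideal.span {Algebra.discr (PowerSeries k) ⇑bS} = Ideal.span {(PowerSeries.X : PowerSeries k) ^ b}) ↔
    ∃ n : ℕ, b = 2 * n ∧
      Subalgebra.toSubmodule S = Submodule.span (PowerSeries k) {(1 : (Fin 2 → PowerSeries k))} ⊔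
        Ideal.span {(PowerSeries.X : PowerSeries k) ^ n} • (⊤ : Submodule (PowerSeries k) (Fin 2 → PowerSeries k))) ∧
    (∀ n : ℕ, Subalgebra.toSubmodule S = Submodule.span (PowerSeries k) {(1 : (Fin 2 → PowerSeries k))} ⊔
        Ideal.span {(PowerSeries.X : PowerSeries k) ^ n} • (⊤ : Submodule (PowerSeries k) (Fin 2 → PowerSeries k)) →
      Nonempty (S ≃ₐ[PowerSeries k] AdjoinRoot (Polynomial.X ^ 2 - Polynomial.C ((PowerSeries.X : PowerSeries k) ^ (2 * n))))) := by
  exact Groth.Agent.S13880.main b S

end Groth.Agent.S13880
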