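import Groth.Statements.S13882
import Mathlib
-- import your own Groth.Agent.* helpers here

set_option autoImplicit false
universe u
open FinCov

namespace Groth.Agent.S13882

section
open W4c1hurwitzcpt MvPolynomial

variable (K : Type u) [Field K] (d : ℕ)

/-- index set of the variables: structure constants and unit coordinates -/
abbrev σ (d : ℕ) : Type := (Fin d × Fin d × Fin d) ⊕ Fin d

/-- the variable `c i j k` -/
noncomputable def xc (i j k : Fin d) : MvPolynomial (σ d) K := X (Sum.inl (i, j, k))
/-- the variable `u i` -/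
noncomputable def xu (i : Fin d) : MvPolynomial (σ d) K := X (Sum.inr i)

/-- the relations -/
def rel : Set (MvPolynomial (σ d) K) :=
  {f | (∃ i j k, f = xc K d i j k - xc K d j i k) ∨
    (∃ i j l m, f = (∑ k, xc K d i j k * xc K d k l m) - ∑ k, xc K d j l k * xc K d i k m) ∨
    (∃ j m, f = (∑ i, xu K d i * xc K d i j m) - if j = m then 1 else 0)}

/-- the representing algebra -/
abbrev B : Type u := MvPolynomial (σ d) K ⧸ Ideal.span (rel K d)

variable {K d}
variable {A : Type u} [CommRing A] [Algebra K A]

/-- evaluation of the variables at a based algebra -/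
noncomputable def evalAt (s : BasedAlg d A) : MvPolynomial (σ d) K →ₐ[K] A :=
  aeval (Sum.elim (fun t => s.c t.1 t.2.1 t.2.2) s.u)

lemma evalAt_xc (s : BasedAlg d A) (i j k : Fin d) : evalAt s (xc K d i j k) = s.c i j k := by
  simp [evalAt, xc]

lemma evalAt_xu (s : BasedAlg d A) (i : Fin d) : evalAt s (xu K d i) = s.u i := by
  simp [evalAt, xu]

lemma evalAt_rel (s : BasedAlg d A) : ∀ f ∈ Ideal.span (rel K d), evalAt s f = 0 := by
  intro f hf
  have : Ideal.span (rel K d) ≤ RingHom.ker (evalAt (K := K) s) := by
    rw [Ideal.span_le]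
    intro f hf
    rw [SetLike.mem_coe, RingHom.mem_ker]
    rcases hf with ⟨i, j, k, rfl⟩ | ⟨i, j, l, m, rfl⟩ | ⟨j, m, rfl⟩
    · rw [map_sub, evalAt_xc, evalAt_xc, s.comm, sub_self]
    · rw [map_sub, map_sum, map_sum]
      simp only [map_mul, evalAt_xc]
      rw [s.assoc, sub_self]
    · rw [map_sub, map_sum]
      simp only [map_mul, evalAt_xc, evalAt_xu]
      rw [s.unit]
      split_ifs <;> simp
  exact this hf

/-- the algebra map attached to a based algebra -/
noncomputable def ofBased (s : BasedAlg d A) : B K d →ₐ[K] A :=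
  Ideal.Quotient.liftₐ (Ideal.span (rel K d)) (evalAt s) (evalAt_rel s)

lemma mk_rel_eq_zero {f : MvPolynomial (σ d) K} (hf : f ∈ rel K d) :
    (Ideal.Quotient.mk (Ideal.span (rel K d)) f) = 0 :=
  Ideal.Quotient.eq_zero_iff_mem.mpr (Ideal.subset_span hf)

/-- the based algebra attached to an algebra map -/
noncomputable def toBased (g : B K d →ₐ[K] A) : BasedAlg d A where
  c i j k := g (Ideal.Quotient.mk _ (xc K d i j k))
  u i := g (Ideal.Quotient.mk _ (xu K d i))
  comm i j k := by
    have h := mk_rel_eq_zero (K := K) (d := d) (f := xc K d i j k - xc K d j i k)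
      (Or.inl ⟨i, j, k, rfl⟩)
    rw [map_sub, sub_eq_zero] at h
    rw [h]
  assoc i j l m := by
    have h := mk_rel_eq_zero (K := K) (d := d)
      (f := (∑ k, xc K d i j k * xc K d k l m) - ∑ k, xc K d j l k * xc K d i k m)
      (Or.inr (Or.inl ⟨i, j, l, m, rfl⟩))
    rw [map_sub, sub_eq_zero] at h
    have h2 := congrArg g h
    simpa only [map_sum, map_mul] using h2
  unit j m := by
    have h := mk_rel_eq_zero (K := K) (d := d)
      (f := (∑ i, xu K d i * xc K d i j m) - if j = m then 1 else 0)
      (Or.inr (Or.inr ⟨j, m, rfl⟩))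
    rw [map_sub, sub_eq_zero] at h
    have h2 := congrArg g h
    rw [map_sum] at h2
    simp only [map_sum, map_mul] at h2
    rw [h2]
    split_ifs <;> simp


lemma ofBased_mk (s : BasedAlg d A) (f : MvPolynomial (σ d) K) :
    ofBased s (Ideal.Quotient.mk _ f) = evalAt s f := rfl

lemma toBased_ofBased (s : BasedAlg d A) : toBased (ofBased (K := K) s) = s := by
  apply BasedAlg.ext
  · funext i j k
    change ofBased s (Ideal.Quotient.mk _ (xc K d i j k)) = _
    rw [ofBased_mk, evalAt_xc]
  · funext i
    change ofBased s (Ideal.Quotient.mk _ (xu K d i)) = _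
    rw [ofBased_mk, evalAt_xu]

lemma ofBased_toBased (g : B K d →ₐ[K] A) : ofBased (toBased g) = g := by
  apply Ideal.Quotient.algHom_ext
  apply MvPolynomial.algHom_ext
  intro v
  rcases v with ⟨i, j, k⟩ | i
  · change ofBased (toBased g) (Ideal.Quotient.mk _ (xc K d i j k)) = g (Ideal.Quotient.mk _ (xc K d i j k))
    rw [ofBased_mk, evalAt_xc]
    rfl
  · change ofBased (toBased g) (Ideal.Quotient.mk _ (xu K d i)) = g (Ideal.Quotient.mk _ (xu K d i))
    rw [ofBased_mk, evalAt_xu]
    rfl

theorem main (K : Type u) [Field K] [CharZero K] (d : ℕ) :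
    ∃ (B : Type u) (_ : CommRing B) (_ : Algebra K B) (_ : Algebra.FiniteType K B)
      (η : ∀ (A : Type u) [CommRing A] [Algebra K A], (B →ₐ[K] A) ≃ W4c1hurwitzcpt.BasedAlg d A),
      ∀ (A A' : Type u) [CommRing A] [Algebra K A] [CommRing A'] [Algebra K A']
        (f : A →ₐ[K] A') (g : B →ₐ[K] A),
        η A' (f.comp g) = (η A g).map f.toRingHom := by
  refine ⟨B K d, inferInstance, inferInstance, inferInstance,
    fun A _ _ => ⟨toBased, ofBased, ofBased_toBased, toBased_ofBased⟩, ?_⟩
  intro A A' _ _ _ _ f g
  apply BasedAlg.ext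
  · rfl
  · rfl

end

/-- Over a field K of characteristic zero, the functor that sends a K-scheme S to the set of isomorphism
classes of pairs (A, τ) of an O_S-algebra A and an O_S-module isomorphism τ from A to the free
module of rank d, equivalently to the set of commutative unital algebra structures on the rank-d
free module with its standard basis, is represented by an affine K-scheme of finite type. Stated on
affine K-schemes in one universe: there is a finitely generated commutative K-algebra B with
bijections between K-algebra maps B → A and based algebra structures of rank d over A, natural in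
the commutative K-algebra A. -/
theorem result (K : Type u) [Field K] [CharZero K] (d : ℕ) :
    ∃ (B : Type u) (_ : CommRing B) (_ : Algebra K B) (_ : Algebra.FiniteType K B)
      (η : ∀ (A : Type u) [CommRing A] [Algebra K A], (B →ₐ[K] A) ≃ W4c1hurwitzcpt.BasedAlg d A),
      ∀ (A A' : Type u) [CommRing A] [Algebra K A] [CommRing A'] [Algebra K A']
        (f : A →ₐ[K] A') (g : B →ₐ[K] A),
        η A' (f.comp g) = (η A g).map f.toRingHom := by
  exact Groth.Agent.S13882.main K d

end Groth.Agent.S13882
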