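import Groth.Statements.S13885
import Mathlib
import Groth.Agent.Lib.Helper2.RootDiskBasis
-- import your own Groth.Agent.* helpers here

set_option autoImplicit false
universe u
open Crimp

namespace Groth.Agent.S13885

section
open Groth.Agent.Lib.Helper2.RootDiskBasis W4c1hurwitzcpt

variable {k : Type u} [Field k]

/-- the part of `M` inside the first factor -/
noncomputable def M0 (M : Submodule (PowerSeries k) (RootDisk 2 k × PowerSeries k)) :
    Submodule (PowerSeries k) (RootDisk 2 k) :=
  Submodule.comap (LinearMap.inl (PowerSeries k) (RootDisk 2 k) (PowerSeries k)) M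

lemma mem_M0 (M : Submodule (PowerSeries k) (RootDisk 2 k × PowerSeries k)) (f : RootDisk 2 k) :
    f ∈ M0 M ↔ ((f, 0) : RootDisk 2 k × PowerSeries k) ∈ M := by
  rw [M0, Submodule.mem_comap]
  rfl

lemma sub_mem_M0 (M : Submodule (PowerSeries k) (RootDisk 2 k × PowerSeries k))
    (h1 : (1 : (RootDisk 2 k × PowerSeries k)) ∈ M) (x : RootDisk 2 k × PowerSeries k)
    (hx : x ∈ M) : x.1 - x.2 • (1 : RootDisk 2 k) ∈ M0 M := by
  rw [mem_M0]
  have h2 : ((x.1 - x.2 • (1 : RootDisk 2 k), 0) : RootDisk 2 k × PowerSeries k) =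
      x - x.2 • (1 : RootDisk 2 k × PowerSeries k) := by
    ext
    · simp
    · simp
  rw [h2]
  exact M.sub_mem hx (M.smul_mem _ h1)

lemma add_mem_M (M : Submodule (PowerSeries k) (RootDisk 2 k × PowerSeries k))
    (h1 : (1 : (RootDisk 2 k × PowerSeries k)) ∈ M) (a : PowerSeries k) (m : RootDisk 2 k)
    (hm : m ∈ M0 M) : ((m + a • (1 : RootDisk 2 k), a) : RootDisk 2 k × PowerSeries k) ∈ M := by
  rw [mem_M0] at hm
  have h2 : ((m + a • (1 : RootDisk 2 k), a) : RootDisk 2 k × PowerSeries k) =
      (m, 0) + a • (1 : RootDisk 2 k × PowerSeries k) := by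
    ext
    · simp
    · simp
  rw [h2]
  exact M.add_mem hm (M.smul_mem _ h1)

/-- `M ≃ R × M₀` -/
noncomputable def splitEquiv (M : Submodule (PowerSeries k) (RootDisk 2 k × PowerSeries k))
    (h1 : (1 : (RootDisk 2 k × PowerSeries k)) ∈ M) :
    M ≃ₗ[PowerSeries k] (PowerSeries k × M0 M) where
  toFun x := (x.1.2, ⟨x.1.1 - x.1.2 • (1 : RootDisk 2 k), sub_mem_M0 M h1 x.1 x.2⟩)
  map_add' x y := by
    apply Prod.ext
    · rfl
    · apply Subtype.ext
      simp only [Submodule.coe_add, Prod.fst_add, Prod.snd_add, add_smul]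
      abel
  map_smul' c x := by
    apply Prod.ext
    · rfl
    · apply Subtype.ext
      simp only [Submodule.coe_smul, Prod.smul_fst, Prod.smul_snd, RingHom.id_apply, smul_eq_mul,
        smul_sub, mul_smul]
  invFun y := ⟨(y.2.1 + y.1 • (1 : RootDisk 2 k), y.1), add_mem_M M h1 y.1 y.2.1 y.2.2⟩
  left_inv x := by
    apply Subtype.ext
    apply Prod.ext
    · simp
    · rfl
  right_inv y := by
    apply Prod.ext
    · rfl
    · apply Subtype.ext
      simp


theorem main {k : Type u} [Field k] [IsAlgClosed k] [CharZero k]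
    (M : Submodule (PowerSeries k) (W4c1hurwitzcpt.RootDisk 2 k × PowerSeries k))
    (h1 : (1 : (W4c1hurwitzcpt.RootDisk 2 k × PowerSeries k)) ∈ M)
    (bM : Module.Basis (Fin 3) (PowerSeries k) M) :
    ∃ f₁ f₂ : W4c1hurwitzcpt.RootDisk 2 k,
      ¬ Nat.ModEq 2 (PowerSeries.order (W4c1hurwitzcpt.RootDisk.val (f₁ : W4c1hurwitzcpt.RootDisk 2 k))).toNat (PowerSeries.order (W4c1hurwitzcpt.RootDisk.val (f₂ : W4c1hurwitzcpt.RootDisk 2 k))).toNat ∧
      M = Submodule.span (PowerSeries k) {(1 : (W4c1hurwitzcpt.RootDisk 2 k × PowerSeries k)), (f₁, 0), (f₂, 0)} := by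
  obtain ⟨n, b₀⟩ := Submodule.basisOfPid (BS (k := k) (p := 2)) (M0 M)
  have hcard : n = 2 := by
    have e' := (bM.map (splitEquiv M h1)).indexEquiv
      ((Module.Basis.singleton Unit (PowerSeries k)).prod b₀)
    have := Fintype.card_congr e'
    simp at this
    omega
  subst hcard
  obtain ⟨g, hg⟩ := exists_basis_distinct (M0 M) b₀
  refine ⟨g 0, g 1, ?_, ?_⟩
  · intro hmod
    have h2 := (hg 0).2
    have h3 := (hg 1).2
    unfold o at h2 h3
    unfold Nat.ModEq at hmod
    rw [h2, h3] at hmod
    simp at hmod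
  · apply le_antisymm
    · intro x hx
      have hm0 := sub_mem_M0 M h1 x hx
      set m₀ : M0 M := ⟨x.1 - x.2 • (1 : RootDisk 2 k), hm0⟩ with hm₀
      have hsum := g.sum_repr m₀
      rw [Fin.sum_univ_two] at hsum
      have hsum' : (g.repr m₀ 0) • ((g 0 : M0 M) : RootDisk 2 k) +
          (g.repr m₀ 1) • ((g 1 : M0 M) : RootDisk 2 k) = x.1 - x.2 • (1 : RootDisk 2 k) := by
        have := congrArg Subtype.val hsum
        push_cast at this
        exact this
      have hx' : x = x.2 • (1 : RootDisk 2 k × PowerSeries k) +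
          ((g.repr m₀ 0) • (((g 0 : M0 M) : RootDisk 2 k), (0 : PowerSeries k)) +
            (g.repr m₀ 1) • (((g 1 : M0 M) : RootDisk 2 k), (0 : PowerSeries k))) := by
        ext
        · simp only [Prod.fst_add, Prod.smul_fst, Prod.fst_one]
          rw [hsum']
          abel
        · simp
      rw [hx']
      apply Submodule.add_mem
      · exact Submodule.smul_mem _ _ (Submodule.subset_span (by simp))
      · apply Submodule.add_mem
        · exact Submodule.smul_mem _ _ (Submodule.subset_span (by simp))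
        · exact Submodule.smul_mem _ _ (Submodule.subset_span (by simp))
    · rw [Submodule.span_le]
      intro x hx
      simp only [Set.mem_insert_iff, Set.mem_singleton_iff] at hx
      rcases hx with rfl | rfl | rfl
      · exact h1
      · exact (mem_M0 M _).mp (g 0).2
      · exact (mem_M0 M _).mp (g 1).2

end

/-- Over R = k⟦t⟧ with k an algebraically closed field of characteristic zero, let S' = k⟦x⟧ × R, where
k⟦x⟧ is regarded as an R-algebra through t ↦ x ^ 2, that is S' = R[x] / (x ^ 2 - t) ⊕ R, the smooth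
simply ramified triple cover of the formal disk, with R embedded diagonally. If M is an R-submodule
of S' containing 1 which is free of rank 3, then M is spanned by 1, (f₁, 0) and (f₂, 0) for some
power series f₁, f₂ whose x-adic valuations are distinct modulo 2. (Items (2) and (3) of the
published proposition, on the base change of M to R[s] / (s ^ 2 - t), are not restated.) -/
theorem result {k : Type u} [Field k] [IsAlgClosed k] [CharZero k]
    (M : Submodule (PowerSeries k) (W4c1hurwitzcpt.RootDisk 2 k × PowerSeries k))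
    (h1 : (1 : (W4c1hurwitzcpt.RootDisk 2 k × PowerSeries k)) ∈ M)
    (bM : Module.Basis (Fin 3) (PowerSeries k) M) :
    ∃ f₁ f₂ : W4c1hurwitzcpt.RootDisk 2 k,
      ¬ Nat.ModEq 2 (PowerSeries.order (W4c1hurwitzcpt.RootDisk.val (f₁ : W4c1hurwitzcpt.RootDisk 2 k))).toNat (PowerSeries.order (W4c1hurwitzcpt.RootDisk.val (f₂ : W4c1hurwitzcpt.RootDisk 2 k))).toNat ∧
      M = Submodule.span (PowerSeries k) {(1 : (W4c1hurwitzcpt.RootDisk 2 k × PowerSeries k)), (f₁, 0), (f₂, 0)} := by
  exact Groth.Agent.S13885.main M h1 bM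

end Groth.Agent.S13885
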