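import Groth.Statements.S13886
import Mathlib
import Groth.Agent.Lib.Helper2.CrimpRk2
-- import your own Groth.Agent.* helpers here

set_option autoImplicit false
universe u
open Crimp

namespace Groth.Agent.S13886

section
open Groth.Agent.Lib.Helper2.CrimpRk2

theorem main_gen {R : Type*} [CommRing R] [IsLocalRing R] (t : R)
    (ht : IsLocalRing.maximalIdeal R = Ideal.span {t})
    (m n : ℕ) (hmn : m ≤ n) (hn : n ≤ 2 * m)
    (f : (Fin 3 → R)) (hf : f ∉ Submodule.span R {(1 : (Fin 3 → R))} ⊔ Ideal.span {t} • (⊤ : Submodule R (Fin 3 → R)))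
    (S : Submodule R (Fin 3 → R))
    (hS : S = Submodule.span R {(1 : (Fin 3 → R)), (t ^ m) • f} ⊔
        Ideal.span {t ^ n} • (⊤ : Submodule R (Fin 3 → R))) :
    (∀ x ∈ S, ∀ y ∈ S, x * y ∈ S) ∧
    Nonempty (((Fin 3 → R) ⧸ S) ≃ₗ[R]
      ((R ⧸ Ideal.span {t ^ m}) × (R ⧸ Ideal.span {t ^ n}))) := by
  have hchar : ∀ v, v ∈ S ↔ ∃ (a b : R) (w : Fin 3 → R),
      v = a • (1 : Fin 3 → R) + b • (t ^ m • f) + t ^ n • w := by
    intro v
    rw [hS, Submodule.mem_sup]
    constructor
    · rintro ⟨p, hp, q, hq, rfl⟩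
      rw [Submodule.mem_span_pair] at hp
      obtain ⟨a, b, rfl⟩ := hp
      rw [mem_span_smul_top] at hq
      obtain ⟨w, rfl⟩ := hq
      exact ⟨a, b, w, rfl⟩
    · rintro ⟨a, b, w, rfl⟩
      refine ⟨_, ?_, _, ?_, rfl⟩
      · rw [Submodule.mem_span_pair]; exact ⟨a, b, rfl⟩
      · rw [mem_span_smul_top]; exact ⟨w, rfl⟩
  have h1 : (1 : Fin 3 → R) ∈ S := by
    rw [hchar]; exact ⟨1, 0, 0, by simp⟩
  obtain ⟨d, hd⟩ : ∃ d, 2 * m = n + d := ⟨2 * m - n, by omega⟩
  have hpow : t ^ m * t ^ m = t ^ n * t ^ d := by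
    rw [← pow_add, ← pow_add]; congr 1; omega
  have hpow2 : t ^ n = t ^ (n - m) * t ^ m := by rw [← pow_add]; congr 1; omega
  constructor
  · intro p hp q hq
    rw [hchar] at hp hq ⊢
    obtain ⟨a, b, w, rfl⟩ := hp
    obtain ⟨a', b', w', rfl⟩ := hq
    refine ⟨a * a', a * b' + a' * b, (b * b' * t ^ d) • (f * f) + a • w' + a' • w +
      (b * t ^ m) • (f * w') + (b' * t ^ m) • (f * w) + t ^ n • (w * w'), ?_⟩
    ext i
    simp only [Pi.add_apply, Pi.smul_apply, Pi.mul_apply, Pi.one_apply, smul_eq_mul, mul_one]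
    linear_combination (b * b' * f i * f i) * hpow
  · set x := rho f with hx
    have hxu : IsUnit (x 0) ∨ IsUnit (x 1) := by
      by_contra hcon
      push Not at hcon
      obtain ⟨w0, hw0⟩ := (isUnit_or_dvd t ht (x 0)).resolve_left hcon.1
      obtain ⟨w1, hw1⟩ := (isUnit_or_dvd t ht (x 1)).resolve_left hcon.2
      apply hf
      rw [Submodule.mem_sup]
      refine ⟨f 0 • 1, Submodule.smul_mem _ _ (Submodule.subset_span rfl),
        t • lift3 ![w0, w1], ?_, ?_⟩
      · rw [mem_span_smul_top]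
        exact ⟨_, rfl⟩
      · conv_rhs => rw [decomp3 f]
        congr 1
        rw [← lift3_smul]
        congr 1
        ext i
        fin_cases i <;> simp [← hx, hw0, hw1]
    obtain ⟨y, hD⟩ : ∃ y : Fin 2 → R, IsUnit (x 0 * y 1 - x 1 * y 0) := by
      rcases hxu with hu | hu
      · exact ⟨![0, 1], by simpa using hu⟩
      · exact ⟨![1, 0], by simpa using hu⟩
    obtain ⟨D', hD'⟩ := hD.exists_right_inv
    have hmap : S.map rho = Submodule.span R {t ^ m • x, t ^ n • y} := by
      apply le_antisymm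
      · rintro u ⟨s, hs, rfl⟩
        rw [SetLike.mem_coe, hchar] at hs
        obtain ⟨a, b, w, rfl⟩ := hs
        rw [map_add, map_add, map_smul, rho_one, smul_zero, zero_add, map_smul, map_smul,
          map_smul, ← hx, Submodule.mem_span_pair]
        refine ⟨b + t ^ (n - m) * coordA y D' (rho w), coordB x D' (rho w), ?_⟩
        have hw := eq_comb x y (rho w) D' hD'
        generalize coordA y D' (rho w) = A at hw ⊢
        generalize coordB x D' (rho w) = B at hw ⊢
        rw [hw]
        ext i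
        simp only [Pi.add_apply, Pi.smul_apply, smul_eq_mul]
        linear_combination (-(A * x i)) * hpow2
      · rw [Submodule.span_le]
        rintro u (rfl | rfl)
        · refine ⟨t ^ m • f, ?_, by rw [map_smul]⟩
          rw [SetLike.mem_coe, hchar]
          exact ⟨0, 1, 0, by simp⟩
        · refine ⟨t ^ n • lift3 y, ?_, by rw [map_smul, rho_lift3]⟩
          rw [SetLike.mem_coe, hchar]
          exact ⟨0, 0, lift3 y, by simp⟩
    obtain ⟨E⟩ := quotEquiv t m n x y hD
    exact ⟨(quotEquivRho S h1).trans ((Submodule.quotEquivOfEq _ _ hmap).trans E)⟩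

theorem main {k : Type u} [Field k] [IsAlgClosed k] [CharZero k]
    (m n : ℕ) (hmn : m ≤ n) (hn : n ≤ 2 * m)
    (f : (Fin 3 → PowerSeries k)) (hf : f ∉ Submodule.span (PowerSeries k) {(1 : (Fin 3 → PowerSeries k))} ⊔ Ideal.span {(PowerSeries.X : PowerSeries k)} • (⊤ : Submodule (PowerSeries k) (Fin 3 → PowerSeries k)))
    (S : Submodule (PowerSeries k) (Fin 3 → PowerSeries k))
    (hS : S = Submodule.span (PowerSeries k) {(1 : (Fin 3 → PowerSeries k)), ((PowerSeries.X : PowerSeries k) ^ m) • f} ⊔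
        Ideal.span {(PowerSeries.X : PowerSeries k) ^ n} • (⊤ : Submodule (PowerSeries k) (Fin 3 → PowerSeries k))) :
    (∀ x ∈ S, ∀ y ∈ S, x * y ∈ S) ∧
    Nonempty (((Fin 3 → PowerSeries k) ⧸ S) ≃ₗ[PowerSeries k]
      ((PowerSeries k ⧸ Ideal.span {(PowerSeries.X : PowerSeries k) ^ m}) × (PowerSeries k ⧸ Ideal.span {(PowerSeries.X : PowerSeries k) ^ n}))) :=
  main_gen PowerSeries.X PowerSeries.maximalIdeal_eq_span_X m n hmn hn f hf S hS

end

/-- Over R = k⟦t⟧ with k an algebraically closed field of characteristic zero, let S' = R × R × R be the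
unramified triple cover of the formal disk and let m ≤ n ≤ 2m be natural numbers. For every f in S'
not lying in R·1 + t S', the R-submodule S = R·1 + R·(t ^ m f) + t ^ n S' is closed under
multiplication, hence an R-subalgebra (a crimp), and S' / S is isomorphic to R / (t ^ m) ⊕ R / (t ^
n) (so the crimp has μ-invariant n - m and branch divisor (t ^ (2(m+n)))). Together with the
structure result for submodules with this quotient, this identifies the k-points of the space of
crimps of splitting type (m, n), 2m ≥ n, with the submodules of this shape. (The published statement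
moreover asserts that this stratum is an irreducible variety of dimension n - m; that part is not
restated.) -/
theorem result {k : Type u} [Field k] [IsAlgClosed k] [CharZero k]
    (m n : ℕ) (hmn : m ≤ n) (hn : n ≤ 2 * m)
    (f : (Fin 3 → PowerSeries k)) (hf : f ∉ Submodule.span (PowerSeries k) {(1 : (Fin 3 → PowerSeries k))} ⊔ Ideal.span {(PowerSeries.X : PowerSeries k)} • (⊤ : Submodule (PowerSeries k) (Fin 3 → PowerSeries k)))
    (S : Submodule (PowerSeries k) (Fin 3 → PowerSeries k))
    (hS : S = Submodule.span (PowerSeries k) {(1 : (Fin 3 → PowerSeries k)), ((PowerSeries.X : PowerSeries k) ^ m) • f} ⊔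
        Ideal.span {(PowerSeries.X : PowerSeries k) ^ n} • (⊤ : Submodule (PowerSeries k) (Fin 3 → PowerSeries k))) :
    (∀ x ∈ S, ∀ y ∈ S, x * y ∈ S) ∧
    Nonempty (((Fin 3 → PowerSeries k) ⧸ S) ≃ₗ[PowerSeries k]
      ((PowerSeries k ⧸ Ideal.span {(PowerSeries.X : PowerSeries k) ^ m}) × (PowerSeries k ⧸ Ideal.span {(PowerSeries.X : PowerSeries k) ^ n}))) := by
  exact Groth.Agent.S13886.main m n hmn hn f hf S hS

end Groth.Agent.S13886
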