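import Groth.Statements.S1389
import Mathlib.AlgebraicGeometry.Morphisms.FormallyUnramified
import Mathlib.AlgebraicGeometry.Morphisms.Separated
-- import your own Groth.Agent.* helpers here

set_option autoImplicit false
universe u
open FlatMor

namespace Groth.Agent.S1389

open AlgebraicGeometry CategoryTheory Limits

set_option backward.isDefEq.respectTransparency false in
theorem isOpenImmersion_equalizer_ι_left {S : Scheme.{u}} {X Y : Over S}
    [IsOpenImmersion (pullback.diagonal Y.hom)]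
    (f g : X ⟶ Y) : IsOpenImmersion (equalizer.ι f g).left := by
  refine MorphismProperty.of_isPullback (P := @IsOpenImmersion)
    ((Limits.isPullback_equalizer_prod f g).map (Over.forget _)).flip ?_
  rw [← MorphismProperty.cancel_right_of_respectsIso @IsOpenImmersion _
    (Over.prodLeftIsoPullback Y Y).hom]
  convert! (inferInstance : IsOpenImmersion (pullback.diagonal Y.hom))
  ext1 <;> simp [← Over.comp_left]

theorem aux {S U U' : Scheme.{u}} (s : S) (g : U ⟶ S) (g' : U' ⟶ S) [Etale g] [Etale g'] (u : U) (u' : U')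
    (hu : g u = s) (hu' : g' u' = s) (h₁ h₂ : U ⟶ U') (w₁ : h₁ ≫ g' = g) (w₂ : h₂ ≫ g' = g) (e₁ : h₁ u = u') (e₂ : h₂ u = u')
    (hres : (U'.residueFieldCongr e₁).inv ≫ h₁.residueFieldMap u = (U'.residueFieldCongr e₂).inv ≫ h₂.residueFieldMap u) :
    ∃ (U'' : Scheme.{u}) (g'' : U'' ⟶ S) (u'' : U'') (h : U'' ⟶ U), Etale g'' ∧ g'' u'' = s ∧ h ≫ g = g'' ∧ h u'' = u ∧ h ≫ h₁ = h ≫ h₂ := by
  have key : ∀ (h : U ⟶ U') (e : h u = u'), U.fromSpecResidueField u ≫ h =
      Spec.map ((U'.residueFieldCongr e).inv ≫ h.residueFieldMap u) ≫ U'.fromSpecResidueField u' := by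
    intro h e
    rw [Spec.map_comp, Category.assoc, Scheme.residueFieldCongr_inv,
      Scheme.residueFieldCongr_fromSpecResidueField,
      Scheme.Hom.SpecMap_residueFieldMap_fromSpecResidueField]
  have hk : U.fromSpecResidueField u ≫ h₁ = U.fromSpecResidueField u ≫ h₂ := by
    rw [key h₁ e₁, key h₂ e₂, hres]
  let UO : Over S := Over.mk g
  let UO' : Over S := Over.mk g'
  let H₁ : UO ⟶ UO' := Over.homMk h₁ w₁
  let H₂ : UO ⟶ UO' := Over.homMk h₂ w₂
  let K : Over S := Over.mk (U.fromSpecResidueField u ≫ g)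
  let k : K ⟶ UO := Over.homMk (U.fromSpecResidueField u) rfl
  have hk' : k ≫ H₁ = k ≫ H₂ := by ext1; exact hk
  have : IsOpenImmersion (pullback.diagonal UO'.hom) :=
    inferInstanceAs (IsOpenImmersion (pullback.diagonal g'))
  have hι : IsOpenImmersion (equalizer.ι H₁ H₂).left := isOpenImmersion_equalizer_ι_left H₁ H₂
  have hw : (equalizer.ι H₁ H₂).left ≫ g = (equalizer H₁ H₂).hom := Over.w (equalizer.ι H₁ H₂)
  have hl : (equalizer.lift k hk').left ≫ (equalizer.ι H₁ H₂).left = U.fromSpecResidueField u := by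
    rw [← Over.comp_left, equalizer.lift_ι]
    rfl
  let pt : K.left := (default : Spec (U.residueField u))
  have hpt : (equalizer.ι H₁ H₂).left ((equalizer.lift k hk').left pt) = u := by
    rw [← Scheme.Hom.comp_apply, hl, Scheme.fromSpecResidueField_apply]
  refine ⟨(equalizer H₁ H₂).left, (equalizer H₁ H₂).hom, (equalizer.lift k hk').left pt,
    (equalizer.ι H₁ H₂).left, ?_, ?_, hw, hpt, ?_⟩
  · rw [← hw]
    infer_instance
  · rw [← hw, Scheme.Hom.comp_apply, hpt, hu]
  · exact congr($(equalizer.condition H₁ H₂).left)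

open AlgebraicGeometry CategoryTheory Limits in
/-- Let (U, u) and (U', u') be étale neighbourhoods of a point s of S and h₁, h₂ two S-morphisms U → U'
sending u to u' which induce the same map of residue fields κ(u') → κ(u). Then there is an étale
neighbourhood (U'', u'') of s with an S-morphism h : U'' → U sending u'' to u and with h followed by
h₁ equal to h followed by h₂. -/
theorem result {S U U' : Scheme.{u}} (s : S) (g : U ⟶ S) (g' : U' ⟶ S) [Etale g] [Etale g'] (u : U) (u' : U')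
    (hu : g u = s) (hu' : g' u' = s) (h₁ h₂ : U ⟶ U') (w₁ : h₁ ≫ g' = g) (w₂ : h₂ ≫ g' = g) (e₁ : h₁ u = u') (e₂ : h₂ u = u')
    (hres : (U'.residueFieldCongr e₁).inv ≫ h₁.residueFieldMap u = (U'.residueFieldCongr e₂).inv ≫ h₂.residueFieldMap u) :
    ∃ (U'' : Scheme.{u}) (g'' : U'' ⟶ S) (u'' : U'') (h : U'' ⟶ U), Etale g'' ∧ g'' u'' = s ∧ h ≫ g = g'' ∧ h u'' = u ∧ h ≫ h₁ = h ≫ h₂ := by
  exact aux s g g' u u' hu hu' h₁ h₂ w₁ w₂ e₁ e₂ hres

end Groth.Agent.S1389
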