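import Groth.Statements.S13906
import Groth.Agent.Lib.Helper23.P1Irr

set_option autoImplicit false
universe u
open P1Fin

namespace Groth.Agent.S13906

open AlgebraicGeometry CategoryTheory CategoryTheory.Limits

theorem toP1_fst {X Y : Scheme.{u}} (f : X ⟶ Y) :
    P1.toP1 f ≫ pullback.fst (CohB1.ProjSpace.toSpec 1 (ULift.{u} ℤ))
      (specULiftZIsTerminal.from Y) = pullback.fst _ _ := by
  unfold P1.toP1
  exact (pullback.lift_fst _ _ _).trans (Category.comp_id _)

theorem toP1_snd {X Y : Scheme.{u}} (f : X ⟶ Y) :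
    P1.toP1 f ≫ pullback.snd (CohB1.ProjSpace.toSpec 1 (ULift.{u} ℤ))
      (specULiftZIsTerminal.from Y) = pullback.snd _ _ ≫ f := by
  unfold P1.toP1
  exact pullback.lift_snd _ _ _

theorem sect_fst (X : Scheme.{u}) (i : Fin (1 + 1)) :
    P1.sect X i ≫ pullback.fst (CohB1.ProjSpace.toSpec 1 (ULift.{u} ℤ))
      (specULiftZIsTerminal.from X) = specULiftZIsTerminal.from X ≫ P1.point i := by
  unfold P1.sect
  exact pullback.lift_fst _ _ _

theorem sect_snd (X : Scheme.{u}) (i : Fin (1 + 1)) :
    P1.sect X i ≫ pullback.snd (CohB1.ProjSpace.toSpec 1 (ULift.{u} ℤ))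
      (specULiftZIsTerminal.from X) = 𝟙 X := by
  unfold P1.sect
  exact pullback.lift_snd _ _ _

theorem isPullback_toP1 {X Y : Scheme.{u}} (f : X ⟶ Y) :
    IsPullback (P1.toP1 f) (CohB1.ProjSpaceOver.toBase 1 X) (CohB1.ProjSpaceOver.toBase 1 Y) f := by
  have h1 : IsPullback (pullback.fst (CohB1.ProjSpace.toSpec 1 (ULift.{u} ℤ))
      (specULiftZIsTerminal.from X)) (pullback.snd _ _) (CohB1.ProjSpace.toSpec 1 (ULift.{u} ℤ))
      (f ≫ specULiftZIsTerminal.from Y) := by
    have : f ≫ specULiftZIsTerminal.from Y = specULiftZIsTerminal.from X :=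
      specULiftZIsTerminal.hom_ext _ _
    rw [this]
    exact IsPullback.of_hasPullback _ _
  have h2 : IsPullback (P1.toP1 f ≫ pullback.fst (CohB1.ProjSpace.toSpec 1 (ULift.{u} ℤ))
      (specULiftZIsTerminal.from Y)) (pullback.snd _ _) (CohB1.ProjSpace.toSpec 1 (ULift.{u} ℤ))
      (f ≫ specULiftZIsTerminal.from Y) :=
    (congrArg (fun t => IsPullback t (pullback.snd _ _)
      (CohB1.ProjSpace.toSpec 1 (ULift.{u} ℤ)) (f ≫ specULiftZIsTerminal.from Y))
      (toP1_fst f)).mpr h1
  exact IsPullback.of_right h2 (toP1_snd f) (IsPullback.of_hasPullback _ _)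

theorem sect_toP1 {X Y : Scheme.{u}} (f : X ⟶ Y) (i : Fin (1 + 1)) :
    P1.sect X i ≫ P1.toP1 f = f ≫ P1.sect Y i := by
  apply pullback.hom_ext
  · refine (Category.assoc _ _ _).trans ?_
    refine (congrArg (P1.sect X i ≫ ·) (toP1_fst f)).trans ?_
    refine (sect_fst X i).trans ?_
    refine Eq.symm ?_
    refine (Category.assoc _ _ _).trans ?_
    refine (congrArg (f ≫ ·) (sect_fst Y i)).trans ?_
    refine (Category.assoc _ _ _).symm.trans ?_
    exact congrArg (· ≫ P1.point i) (specULiftZIsTerminal.hom_ext _ _)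
  · refine (Category.assoc _ _ _).trans ?_
    refine (congrArg (P1.sect X i ≫ ·) (toP1_snd f)).trans ?_
    refine (Category.assoc _ _ _).symm.trans ?_
    refine (congrArg (· ≫ f) (sect_snd X i)).trans ?_
    refine (Category.id_comp _).trans ?_
    refine Eq.symm ?_
    refine (Category.assoc _ _ _).trans ?_
    refine (congrArg (f ≫ ·) (sect_snd Y i)).trans ?_
    exact Category.comp_id _

/-- Let S be a scheme and g : X → P^1_S a finite, flat, locally finitely presented morphism. An open and
closed subset W of X that contains every point of X lying over the zero section of P^1_S → S is all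
of X. (In the published corollary W is the locus over which a given equivariant etale morphism T → X
of constant rank is a torsor under a finite group, an open and closed subset of X; that
open-and-closed locus is taken as the hypothesis here, and the conclusion W = X is the corollary's
content.) -/
theorem result (S X : Scheme.{u})
    (g : X ⟶ CohB1.ProjSpaceOver 1 S) [IsFinite g] [Flat g] [LocallyOfFinitePresentation g]
    (W : Set X) (hW : IsClopen W)
    (h0 : ∀ x : X, g x ∈ Set.range (P1.sect S 0) → x ∈ W) : W = Set.univ := by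
  by_contra hne
  obtain ⟨x, hx⟩ : ∃ x, x ∉ W := by
    by_contra h
    push Not at h
    exact hne (Set.eq_univ_of_forall h)
  have hZ : IsClopen (g '' Wᶜ) := ⟨g.isClosedMap _ hW.compl.1, g.isOpenMap _ hW.compl.2⟩
  obtain ⟨s, hs⟩ : ∃ s, s = (CohB1.ProjSpaceOver.toBase 1 S) (g x) := ⟨_, rfl⟩
  have hpb := isPullback_toP1 (S.fromSpecResidueField s)
  obtain ⟨pt⟩ : Nonempty (Spec (S.residueField s)) := inferInstance
  have hjpt : (S.fromSpecResidueField s) pt = s := S.fromSpecResidueField_apply s pt
  obtain ⟨z'', hz1, hz2⟩ := Scheme.Pullback.exists_preimage_pullback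
    (f := CohB1.ProjSpaceOver.toBase 1 S) (g := S.fromSpecResidueField s) (g x) pt
    (by rw [hjpt, hs])
  have he : hpb.isoPullback.inv ≫ P1.toP1 (S.fromSpecResidueField s) = pullback.fst _ _ :=
    hpb.isoPullback_inv_fst
  have hz' : (P1.toP1 (S.fromSpecResidueField s)) (hpb.isoPullback.inv z'') = g x := by
    rw [← Scheme.Hom.comp_apply, he]
    exact hz1
  have hcl : IsClopen ((P1.toP1 (S.fromSpecResidueField s)) ⁻¹' (g '' Wᶜ)) :=
    hZ.preimage (P1.toP1 (S.fromSpecResidueField s)).continuous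
  haveI : IrreducibleSpace (Spec (S.residueField s)) := inferInstance
  haveI : IrreducibleSpace ↥(CohB1.ProjSpaceOver 1 (Spec (S.residueField s))) :=
    Groth.Agent.Helper23.P1Irr.irreducibleSpace_projSpaceOver 1 _
  have huniv := hcl.eq_univ ⟨hpb.isoPullback.inv z'', by
    show (P1.toP1 (S.fromSpecResidueField s)) (hpb.isoPullback.inv z'') ∈ g '' Wᶜ
    rw [hz']
    exact ⟨x, hx, rfl⟩⟩
  have hz0 : (P1.sect (Spec (S.residueField s)) 0) pt ∈
      (P1.toP1 (S.fromSpecResidueField s)) ⁻¹' (g '' Wᶜ) := by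
    rw [huniv]; trivial
  obtain ⟨x', hx'W, hx'⟩ := hz0
  apply hx'W
  apply h0
  refine ⟨(S.fromSpecResidueField s) pt, ?_⟩
  rw [hx', ← Scheme.Hom.comp_apply, ← Scheme.Hom.comp_apply, sect_toP1]

end Groth.Agent.S13906
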