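import Groth.Statements.S13901
import Groth.Agent.S13906

set_option autoImplicit false
universe u
open P1Fin

namespace Groth.Agent.S13901

open AlgebraicGeometry CategoryTheory CategoryTheory.Limits

/-- clopen subsets of `P^1_S` are unions of fibres -/
theorem mem_of_isClopen_of_fibre (S : Scheme.{u}) (A : Set ↥(CohB1.ProjSpaceOver 1 S))
    (hA : IsClopen A) (z w : ↥(CohB1.ProjSpaceOver 1 S)) (hz : z ∈ A)
    (hzw : (CohB1.ProjSpaceOver.toBase 1 S) w = (CohB1.ProjSpaceOver.toBase 1 S) z) : w ∈ A := by
  obtain ⟨s, hs⟩ : ∃ s, s = (CohB1.ProjSpaceOver.toBase 1 S) z := ⟨_, rfl⟩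
  have hpb := Groth.Agent.S13906.isPullback_toP1 (S.fromSpecResidueField s)
  obtain ⟨pt⟩ : Nonempty (Spec (S.residueField s)) := inferInstance
  have hjpt : (S.fromSpecResidueField s) pt = s := S.fromSpecResidueField_apply s pt
  have he : hpb.isoPullback.inv ≫ P1.toP1 (S.fromSpecResidueField s) = pullback.fst _ _ :=
    hpb.isoPullback_inv_fst
  have lift : ∀ v : ↥(CohB1.ProjSpaceOver 1 S), (CohB1.ProjSpaceOver.toBase 1 S) v = s →
      ∃ v', (P1.toP1 (S.fromSpecResidueField s)) v' = v := by
    intro v hv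
    obtain ⟨v'', hv1, -⟩ := Scheme.Pullback.exists_preimage_pullback
      (f := CohB1.ProjSpaceOver.toBase 1 S) (g := S.fromSpecResidueField s) v pt
      (by rw [hjpt, hv])
    refine ⟨hpb.isoPullback.inv v'', ?_⟩
    rw [← Scheme.Hom.comp_apply, he]
    exact hv1
  obtain ⟨z', hz'⟩ := lift z hs.symm
  obtain ⟨w', hw'⟩ := lift w (hzw.trans hs.symm)
  have hcl : IsClopen ((P1.toP1 (S.fromSpecResidueField s)) ⁻¹' A) :=
    hA.preimage (P1.toP1 (S.fromSpecResidueField s)).continuous
  haveI : IrreducibleSpace (Spec (S.residueField s)) := inferInstance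
  haveI : IrreducibleSpace ↥(CohB1.ProjSpaceOver 1 (Spec (S.residueField s))) :=
    Groth.Agent.Helper23.P1Irr.irreducibleSpace_projSpaceOver 1 _
  have huniv := hcl.eq_univ ⟨z', by
    show (P1.toP1 (S.fromSpecResidueField s)) z' ∈ A
    rw [hz']
    exact hz⟩
  have h3 : w' ∈ (P1.toP1 (S.fromSpecResidueField s)) ⁻¹' A := by
    rw [huniv]; trivial
  rw [← hw']
  exact h3

theorem toBase_sect (S : Scheme.{u}) (s : S) :
    (CohB1.ProjSpaceOver.toBase 1 S) ((P1.sect S 0) s) = s := by
  rw [← Scheme.Hom.comp_apply]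
  have h : P1.sect S 0 ≫ CohB1.ProjSpaceOver.toBase 1 S = 𝟙 S := Groth.Agent.S13906.sect_snd S 0
  rw [h]
  rfl

theorem preconnectedSpace_P1 (S : Scheme.{u}) [PreconnectedSpace S] :
    PreconnectedSpace ↥(CohB1.ProjSpaceOver 1 S) := by
  rw [preconnectedSpace_iff_clopen]
  intro A hA
  by_cases hne : A.Nonempty
  · right
    obtain ⟨z, hz⟩ := hne
    have hσ : IsClopen ((P1.sect S 0) ⁻¹' A) := hA.preimage (P1.sect S 0).continuous
    have h1 : (P1.sect S 0) ⁻¹' A = Set.univ :=
      hσ.eq_univ ⟨(CohB1.ProjSpaceOver.toBase 1 S) z,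
        mem_of_isClopen_of_fibre S A hA z _ hz (toBase_sect S _)⟩
    apply Set.eq_univ_of_forall
    intro w
    have h2 : (P1.sect S 0) ((CohB1.ProjSpaceOver.toBase 1 S) w) ∈ A := by
      have : (CohB1.ProjSpaceOver.toBase 1 S) w ∈ (P1.sect S 0) ⁻¹' A := by
        rw [h1]; trivial
      exact this
    exact mem_of_isClopen_of_fibre S A hA _ w h2 (toBase_sect S _).symm
  · left
    exact Set.not_nonempty_iff_eq_empty.mp hne

open AlgebraicGeometry CategoryTheory in
/-- Let S be a scheme with preconnected underlying space and f : X → P^1_S a finite, flat, locally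
finitely presented morphism (finite locally free). Then f restricted to any connected component of X
is surjective onto P^1_S. (The published statement allows an arbitrary base S; over a base with two
points and X a copy of the projective line over one of them, mapped identically into P^1_S, the
connected X misses the other fibre, so the base is taken connected here.) -/
theorem result (S X : Scheme.{u}) [PreconnectedSpace S]
    (f : X ⟶ CohB1.ProjSpaceOver 1 S) [IsFinite f] [Flat f] [LocallyOfFinitePresentation f]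
    (x : X) (p : CohB1.ProjSpaceOver 1 S) : ∃ y ∈ connectedComponent x, f y = p := by
  classical
  haveI := preconnectedSpace_P1 S
  have hsurj : ∀ B : Set X, IsClopen B → B.Nonempty → f '' B = Set.univ := by
    intro B hB hne
    have h1 : IsClopen (f '' B) := ⟨f.isClosedMap _ hB.1, f.isOpenMap _ hB.2⟩
    exact h1.eq_univ (hne.image _)
  have hF : (f ⁻¹' {f x}).Finite := f.finite_preimage_singleton (f x)
  let V : X → Set X := fun q =>
    if h : ∃ U : Set X, IsClopen U ∧ x ∈ U ∧ q ∉ U then h.choose else Set.univ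
  have hV1 : ∀ q, IsClopen (V q) := by
    intro q
    by_cases h : ∃ U : Set X, IsClopen U ∧ x ∈ U ∧ q ∉ U
    · simp only [V, dif_pos h]
      exact h.choose_spec.1
    · simp only [V, dif_neg h]
      exact isClopen_univ
  have hV2 : ∀ q, x ∈ V q := by
    intro q
    by_cases h : ∃ U : Set X, IsClopen U ∧ x ∈ U ∧ q ∉ U
    · simp only [V, dif_pos h]
      exact h.choose_spec.2.1
    · simp only [V, dif_neg h]
      trivial
  have hV3 : ∀ q, (∃ U : Set X, IsClopen U ∧ x ∈ U ∧ q ∉ U) → q ∉ V q := by
    intro q h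
    simp only [V, dif_pos h]
    exact h.choose_spec.2.2
  let U : Set X := ⋂ q ∈ hF.toFinset, V q
  have hU : IsClopen U := isClopen_biInter_finset (fun q _ => hV1 q)
  have hxU : x ∈ U := Set.mem_iInter₂.mpr (fun q _ => hV2 q)
  have hpre : _root_.IsPreconnected U := by
    by_contra hnot
    obtain ⟨a, b, ha, hb, hane, hbne, hab, hUab⟩ := hU.not_isPreconnected_iff.mp hnot
    -- the general step: a clopen piece containing x excludes every point of the other piece
    have key : ∀ a b : Set X, IsClopen a → IsClopen b → b.Nonempty → Disjoint a b → b ⊆ U →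
        x ∈ a → False := by
      intro a b ha hb hbne hab hbU hxa
      have h1 := hsurj b hb hbne
      have h2 : f x ∈ f '' b := by rw [h1]; trivial
      obtain ⟨q, hqb, hq⟩ := h2
      have hqF : q ∈ hF.toFinset := by
        rw [Set.Finite.mem_toFinset]
        exact hq
      have hqU : q ∈ V q := Set.mem_iInter₂.mp (hbU hqb) q hqF
      exact hV3 q ⟨a, ha, hxa, fun hqa => Set.disjoint_left.mp hab hqa hqb⟩ hqU
    have hxab : x ∈ a ∪ b := hUab ▸ hxU
    rcases hxab with hxa | hxb
    · exact key a b ha hb hbne hab (hUab ▸ Set.subset_union_right) hxa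
    · exact key b a hb ha hane hab.symm (hUab ▸ Set.subset_union_left) hxb
  have hUC : U ⊆ connectedComponent x := hpre.subset_connectedComponent hxU
  have h3 : p ∈ f '' U := by
    rw [hsurj U hU ⟨x, hxU⟩]; trivial
  obtain ⟨y, hyU, hy⟩ := h3
  exact ⟨y, hUC hyU, hy⟩

end Groth.Agent.S13901
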