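import Groth.Statements.S13904
import Groth.Agent.Lib.Helper21.IntDim

set_option autoImplicit false
universe u
open CAlg

namespace Groth.Agent.S13904

/-- Let k be a field, A a commutative k-algebra and φ : k[x_1, …, x_r] → A a finite k-algebra map such
that A/p has Krull dimension r for every minimal prime p of A (an equidimensional affine scheme of
dimension r, finite over affine r-space). Then for every minimal prime p of A and every prime q of
k[x_1, …, x_r] there is a prime P ⊇ p of A with φ⁻¹(P) = q: the finite map restricted to each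
irreducible component of Spec A is surjective onto affine r-space. (The published statement is over
an algebraically closed field with φ a Noether normalisation; this row allows any field and any
finite k-algebra map φ.) -/
theorem result (k : Type u) [Field k] (r : ℕ)
    (A : Type u) [CommRing A] [Algebra k A] (φ : MvPolynomial (Fin r) k →ₐ[k] A)
    (hφ : φ.toRingHom.Finite)
    (hdim : ∀ p ∈ minimalPrimes A, ringKrullDim (A ⧸ p) = r)
    (p : Ideal A) (hp : p ∈ minimalPrimes A)
    (q : Ideal (MvPolynomial (Fin r) k)) [q.IsPrime] :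
    ∃ P : Ideal A, P.IsPrime ∧ p ≤ P ∧ P.comap φ.toRingHom = q := by
  classical
  have hpp : p.IsPrime := hp.1.1
  let ψ : MvPolynomial (Fin r) k →+* (A ⧸ p) := (Ideal.Quotient.mk p).comp φ.toRingHom
  have hψ : ψ.IsIntegral := RingHom.IsIntegral.trans _ _ hφ.to_isIntegral
    (RingHom.isIntegral_of_surjective _ Ideal.Quotient.mk_surjective)
  have hdimR : ringKrullDim (MvPolynomial (Fin r) k) = r := by
    rw [MvPolynomial.ringKrullDim_of_isNoetherianRing, ringKrullDim_eq_zero_of_field,
      Nat.card_eq_fintype_card, Fintype.card_fin, zero_add]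
  have hbot : p.comap φ.toRingHom = ⊥ := by
    by_contra hne
    obtain ⟨a, ha, ha0⟩ := Submodule.exists_mem_ne_zero_of_ne_bot hne
    have hreg : a ∈ nonZeroDivisors (MvPolynomial (Fin r) k) := mem_nonZeroDivisors_of_ne_zero ha0
    have h1 := ringKrullDim_quotient_succ_le_of_nonZeroDivisor hreg
    have hker : ∀ x ∈ Ideal.span {a}, ψ x = 0 := by
      intro x hx
      have hx' : x ∈ p.comap φ.toRingHom := ((Ideal.span_singleton_le_iff_mem (I := p.comap φ.toRingHom)).mpr ha) hx
      rw [RingHom.comp_apply, Ideal.Quotient.eq_zero_iff_mem]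
      exact hx'
    let ψ' : MvPolynomial (Fin r) k ⧸ Ideal.span {a} →+* A ⧸ p := Ideal.Quotient.lift _ ψ hker
    have hψ' : ψ'.IsIntegral := by
      apply RingHom.IsIntegral.tower_top (Ideal.Quotient.mk (Ideal.span {a})) ψ'
      have hcomp : ψ'.comp (Ideal.Quotient.mk (Ideal.span {a})) = ψ :=
        Ideal.Quotient.lift_comp_mk _ _ _
      rw [hcomp]; exact hψ
    have h2 := Groth.Agent.Helper21.ID.ringKrullDim_le_of_isIntegral ψ' hψ'
    rw [hdim p hp] at h2
    rw [hdimR] at h1
    have h3 : ((r : ℕ) : WithBot ℕ∞) + 1 ≤ r := le_trans (by gcongr) h1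
    norm_cast at h3
    omega
  let _ : Algebra (MvPolynomial (Fin r) k) A := φ.toRingHom.toAlgebra
  have hint : Algebra.IsIntegral (MvPolynomial (Fin r) k) A := ⟨hφ.to_isIntegral⟩
  obtain ⟨Q, hQ, hQp, hQq⟩ := Ideal.exists_ideal_over_prime_of_isIntegral q p
    (by
      show p.comap φ.toRingHom ≤ q
      rw [hbot]; exact bot_le)
  exact ⟨Q, hQp, hQ, hQq⟩

end Groth.Agent.S13904
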