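import Groth.Statements.S13905
import Mathlib

set_option autoImplicit false
universe u
open ProjGeom

namespace Groth.Agent.S13905

open W4c1etcurveeff3b in
/-- Hyperplanes of projective n-space in general position, in linear-algebra form (V of dimension n + 1
over a field k, hyperplanes as n-dimensional subspaces, points as nonzero vectors): if S is a finite
set of hyperplanes in general position with at least n members and H is a hyperplane containing none
of the lines cut out by n members of S, then S with H added is again in general position. (The
published statement is for hyperplanes of P^n_k and closed points; a closed point lying on n + 1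
members is automatically one of the rational points cut out by n of them, so the condition on
nonzero vectors of V is the same condition.) -/
theorem result (k V : Type u) [Field k]
    [AddCommGroup V] [Module k V] [DecidableEq (Submodule k V)] (n : ℕ) (S : Finset (Submodule k V))
    (hS : InGeneralPosition k V n S) (hn : n ≤ S.card) (H : Submodule k V)
    (hH : Module.finrank k H = n)
    (havoid : ∀ T ⊆ S, T.card = n → ¬ (T.inf id ≤ H)) :
    InGeneralPosition k V n (insert H S) := by
  classical
  obtain ⟨hV, hmem, hinter, hpt⟩ := hS
  have hfd : Module.Finite k V := Module.finite_of_finrank_pos (by rw [hV]; omega)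
  have herase : ∀ T : Finset (Submodule k V), T ⊆ insert H S → T.erase H ⊆ S := by
    intro T hT x hx
    have hx1 := Finset.mem_of_mem_erase hx
    have hx2 := Finset.ne_of_mem_erase hx
    rcases Finset.mem_insert.mp (hT hx1) with h | h
    · exact absurd h hx2
    · exact h
  have hnoH : ∀ T : Finset (Submodule k V), T ⊆ insert H S → H ∉ T → T ⊆ S := by
    intro T hT hHT x hx
    rcases Finset.mem_insert.mp (hT hx) with h | h
    · exact absurd (h ▸ hx) hHT
    · exact h
  refine ⟨hV, ?_, ?_, ?_⟩
  · intro H' hH'
    rcases Finset.mem_insert.mp hH' with rfl | h
    · exact hH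
    · exact hmem H' h
  · intro T hT hcard
    by_cases hHT : H ∈ T
    · have hT'S : T.erase H ⊆ S := herase T hT
      have hcard' : (T.erase H).card + 1 = T.card := Finset.card_erase_add_one hHT
      have hTeq : T = insert H (T.erase H) := (Finset.insert_erase hHT).symm
      have hdimW : Module.finrank k ↥((T.erase H).inf id) = n + 1 - (T.erase H).card :=
        hinter (T.erase H) hT'S (by omega)
      obtain ⟨T'', hT'T'', hT''S, hT''card⟩ :=
        Finset.exists_subsuperset_card_eq hT'S (by omega : (T.erase H).card ≤ n) hn
      have hnot : ¬ ((T.erase H).inf id ≤ H) := by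
        intro hle
        exact havoid T'' hT''S hT''card (le_trans (Finset.inf_mono hT'T'') hle)
      have hsup : H ⊔ (T.erase H).inf id = ⊤ := by
        apply Submodule.eq_top_of_finrank_eq
        have hlt : H < H ⊔ (T.erase H).inf id := by
          refine lt_of_le_of_ne le_sup_left (fun heq => hnot ?_)
          have hle' : (T.erase H).inf id ≤ H ⊔ (T.erase H).inf id := le_sup_right
          rw [← heq] at hle'
          exact hle'
        have h1 := Submodule.finrank_lt_finrank_of_lt hlt
        have h2 := Submodule.finrank_le (H ⊔ (T.erase H).inf id)
        omega
      have hadd := Submodule.finrank_sup_add_finrank_inf_eq H ((T.erase H).inf id)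
      rw [hsup, finrank_top, hV, hH, hdimW] at hadd
      have hinf : T.inf id = H ⊓ (T.erase H).inf id := by
        conv_lhs => rw [hTeq]
        rw [Finset.inf_insert, id]
      rw [hinf]
      omega
    · exact hinter T (hnoH T hT hHT) hcard
  · intro v hv T hT hvT
    by_cases hHT : H ∈ T
    · have hT'S : T.erase H ⊆ S := herase T hT
      have hcard' : (T.erase H).card + 1 = T.card := Finset.card_erase_add_one hHT
      have hvT' : ∀ H' ∈ T.erase H, v ∈ H' := fun H' hH' => hvT H' (Finset.mem_of_mem_erase hH')
      have h1 : (T.erase H).card ≤ n := hpt v hv (T.erase H) hT'S hvT'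
      by_contra hgt
      have hTn : (T.erase H).card = n := by omega
      have hdim : Module.finrank k ↥((T.erase H).inf id) = 1 := by
        rw [hinter (T.erase H) hT'S h1]; omega
      have hvin : v ∈ (T.erase H).inf id := Submodule.mem_finsetInf.mpr hvT'
      have hle : (T.erase H).inf id ≤ H := by
        intro w hw
        have hne : (⟨v, hvin⟩ : ↥((T.erase H).inf id)) ≠ 0 := by
          intro h0
          exact hv (congrArg Subtype.val h0)
        obtain ⟨c, hc⟩ := (finrank_eq_one_iff_of_nonzero' (⟨v, hvin⟩ : ↥((T.erase H).inf id))
          hne).mp hdim ⟨w, hw⟩
        have hw' : w = c • v := (congrArg Subtype.val hc).symm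
        rw [hw']
        exact H.smul_mem c (hvT H hHT)
      exact havoid (T.erase H) hT'S hTn hle
    · exact hpt v hv T (hnoH T hT hHT) hvT

end Groth.Agent.S13905
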