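import Groth.Statements.S13911
import Mathlib
-- import your own Groth.Agent.* helpers here

set_option autoImplicit false
universe u
open PlaneConic

namespace Groth.Agent.S13911

section
open MvPolynomial Matrix

variable {k : Type u} [Field k]

/-- the quadratic form polynomial -/
noncomputable def qf (Q : Matrix (Fin 3) (Fin 3) k) : MvPolynomial (Fin 3) k :=
  ∑ i : Fin 3, ∑ j : Fin 3, Q i j • (X i * X j)

/-- linear form -/
noncomputable def lf (a : Fin 3 → k) : MvPolynomial (Fin 3) k := ∑ i : Fin 3, a i • X i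

/-- the symmetrized rank-two matrix -/
def S (a b : Fin 3 → k) : Matrix (Fin 3) (Fin 3) k := fun i j => (a i * b j + a j * b i) / 2

lemma eval_qf (Q : Matrix (Fin 3) (Fin 3) k) (u : Fin 3 → k) :
    eval u (qf Q) = u ⬝ᵥ Q *ᵥ u := by
  simp only [qf, map_sum, smul_eval, eval_mul, eval_X, dotProduct, mulVec, Finset.mul_sum]
  apply Finset.sum_congr rfl; intro i _
  apply Finset.sum_congr rfl; intro j _
  ring

lemma eval_lf (a u : Fin 3 → k) : eval u (lf a) = a ⬝ᵥ u := by
  simp only [lf, map_sum, smul_eval, eval_X, dotProduct]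

lemma lf_mul (a b : Fin 3 → k) :
    lf a * lf b = ∑ i : Fin 3, ∑ j : Fin 3, (a i * b j) • (X i * X j : MvPolynomial (Fin 3) k) := by
  simp only [lf, Finset.sum_mul_sum]
  apply Finset.sum_congr rfl; intro i _
  apply Finset.sum_congr rfl; intro j _
  rw [smul_mul_smul_comm]

lemma lf_mul' (a b : Fin 3 → k) :
    lf a * lf b = ∑ i : Fin 3, ∑ j : Fin 3, (a j * b i) • (X i * X j : MvPolynomial (Fin 3) k) := by
  rw [mul_comm, lf_mul]
  apply Finset.sum_congr rfl; intro i _
  apply Finset.sum_congr rfl; intro j _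
  rw [mul_comm (b i)]

lemma qf_S [NeZero (2 : k)] (a b : Fin 3 → k) : qf (S a b) = lf a * lf b := by
  have h2 : (2 : k) ≠ 0 := NeZero.ne 2
  have e3 : qf (S a b) = (2 : k)⁻¹ • (lf a * lf b + lf a * lf b) := by
    conv_rhs => enter [2, 1]; rw [lf_mul]
    conv_rhs => enter [2, 2]; rw [lf_mul']
    rw [← Finset.sum_add_distrib, Finset.smul_sum]
    unfold qf
    apply Finset.sum_congr rfl; intro i _
    rw [← Finset.sum_add_distrib, Finset.smul_sum]
    apply Finset.sum_congr rfl; intro j _
    rw [← add_smul, smul_smul]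
    congr 1
    simp only [S]; field_simp
  rw [e3, ← two_smul k (lf a * lf b), smul_smul, inv_mul_cancel₀ h2, one_smul]

lemma eq_S_of_eval [NeZero (2 : k)] (Q : Matrix (Fin 3) (Fin 3) k) (hQ : Q.IsSymm)
    (a b : Fin 3 → k) (h : ∀ u : Fin 3 → k, u ⬝ᵥ Q *ᵥ u = (a ⬝ᵥ u) * (b ⬝ᵥ u)) : Q = S a b := by
  have h2 : (2 : k) ≠ 0 := NeZero.ne 2
  have hd : ∀ i, Q i i = a i * b i := by
    intro i
    have := h (Pi.single i 1)
    simpa [Matrix.mulVec_single_one, single_one_dotProduct, dotProduct_single_one] using this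
  ext i j
  have := h (Pi.single i 1 + Pi.single j 1)
  simp only [Matrix.mulVec_add, add_dotProduct, dotProduct_add, Matrix.mulVec_single_one,
    single_one_dotProduct, dotProduct_single_one, Matrix.col_apply] at this
  have hs : Q j i = Q i j := hQ.apply i j
  rw [hd i, hd j, hs] at this
  simp only [S]
  field_simp
  linear_combination this

lemma eq_S_of_qf [NeZero (2 : k)] [Infinite k] (Q : Matrix (Fin 3) (Fin 3) k) (hQ : Q.IsSymm)
    (a b : Fin 3 → k) (h : qf Q = lf a * lf b) : Q = S a b := by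
  apply eq_S_of_eval Q hQ
  intro u
  rw [← eval_qf, h, map_mul, eval_lf, eval_lf]

lemma eval_pderiv_qf (Q : Matrix (Fin 3) (Fin 3) k) (hQ : Q.IsSymm) (u : Fin 3 → k) (i : Fin 3) :
    eval u (pderiv i (qf Q)) = 2 * (Q *ᵥ u) i := by
  have h1 : ∀ j l : Fin 3, eval u (pderiv i (Q j l • (X j * X l : MvPolynomial (Fin 3) k))) =
      Q j l * ((if j = i then u l else 0) + (if l = i then u j else 0)) := by
    intro j l
    rw [Derivation.map_smul, Derivation.leibniz, pderiv_X, pderiv_X]
    simp only [smul_eval, map_add, smul_eq_mul, eval_mul, eval_X, Pi.single_apply]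
    split_ifs <;> simp only [map_one, map_zero] <;> ring
  simp only [qf, map_sum, h1]
  simp only [mul_add, Finset.sum_add_distrib, mul_ite, mul_zero, Finset.sum_ite_eq',
    Finset.mem_univ, if_true]
  rw [Finset.sum_comm]
  simp only [Finset.sum_ite_eq', Finset.mem_univ, if_true, mulVec, dotProduct]
  rw [two_mul]
  congr 1
  apply Finset.sum_congr rfl
  intro j _
  rw [hQ.apply]

lemma sing_iff [NeZero (2 : k)] (Q : Matrix (Fin 3) (Fin 3) k) (hQ : Q.IsSymm) :
    (∃ u : Fin 3 → k, u ≠ 0 ∧ ∀ i : Fin 3, eval u (pderiv i (qf Q)) = 0) ↔ Q.det = 0 := by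
  have h2 : (2 : k) ≠ 0 := NeZero.ne 2
  rw [← Matrix.exists_mulVec_eq_zero_iff]
  constructor
  · rintro ⟨u, hu, h⟩
    refine ⟨u, hu, ?_⟩
    ext i
    have := h i
    rw [eval_pderiv_qf Q hQ] at this
    simpa [h2] using this
  · rintro ⟨u, hu, h⟩
    refine ⟨u, hu, fun i => ?_⟩
    rw [eval_pderiv_qf Q hQ, h]
    simp

lemma binfac [IsAlgClosed k] [NeZero (2 : k)] (A B C : k) :
    ∃ α β γ δ : k, A = α * γ ∧ 2 * B = α * δ + β * γ ∧ C = β * δ := by
  by_cases hA : A = 0
  · exact ⟨0, 1, 2 * B, C, by simp [hA], by ring, by ring⟩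
  · obtain ⟨d, hd⟩ := IsAlgClosed.exists_pow_nat_eq (B ^ 2 - A * C) (n := 2) (by norm_num)
    refine ⟨1, (B + d) / A, A, B - d, by ring, ?_, ?_⟩
    · field_simp; ring
    · field_simp
      linear_combination hd

lemma B1_case2 [IsAlgClosed k] [NeZero (2 : k)] (Q : Matrix (Fin 3) (Fin 3) k) (hQ : Q.IsSymm)
    (u : Fin 3 → k) (hu2 : u 2 = 1) (hu : Q *ᵥ u = 0) : ∃ a b : Fin 3 → k, Q = S a b := by
  have h2 : (2 : k) ≠ 0 := NeZero.ne 2
  obtain ⟨α, β, γ, δ, hA, hB, hC⟩ := binfac (Q 0 0) (Q 0 1) (Q 1 1)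
  have E : ∀ i, Q i 0 * u 0 + Q i 1 * u 1 + Q i 2 = 0 := by
    intro i
    have := congrFun hu i
    simp only [mulVec, dotProduct, Fin.sum_univ_three, hu2, mul_one, Pi.zero_apply] at this
    exact this
  have s10 : Q 1 0 = Q 0 1 := hQ.apply 0 1
  have s20 : Q 2 0 = Q 0 2 := hQ.apply 0 2
  have s21 : Q 2 1 = Q 1 2 := hQ.apply 1 2
  have h00 : Q 0 0 = α * γ := hA
  have h01 : Q 0 1 = (α * δ + β * γ) / 2 := by field_simp; linear_combination hB
  have h11 : Q 1 1 = β * δ := hC
  have h02 : Q 0 2 = -(α * γ * u 0 + (α * δ + β * γ) / 2 * u 1) := by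
    have := E 0; rw [h00, h01] at this; linear_combination this
  have h12 : Q 1 2 = -((α * δ + β * γ) / 2 * u 0 + β * δ * u 1) := by
    have := E 1; rw [s10, h01, h11] at this; linear_combination this
  have h22 : Q 2 2 = (α * γ * u 0 + (α * δ + β * γ) / 2 * u 1) * u 0 +
      ((α * δ + β * γ) / 2 * u 0 + β * δ * u 1) * u 1 := by
    have := E 2; rw [s20, s21, h02, h12] at this; linear_combination this
  refine ⟨![α, β, -(α * u 0 + β * u 1)], ![γ, δ, -(γ * u 0 + δ * u 1)], ?_⟩
  ext i j
  fin_cases i <;> fin_cases j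
  · simp [S, h00]
  · simp [S, h01]
  · simp [S, h02]; field_simp; ring
  · simp [S, s10, h01]; ring
  · simp [S, h11]
  · simp [S, h12]; field_simp; ring
  · simp [S, s20, h02]; field_simp; ring
  · simp [S, s21, h12]; field_simp; ring
  · simp [S, h22]; field_simp; ring

lemma B1 [IsAlgClosed k] [NeZero (2 : k)] (Q : Matrix (Fin 3) (Fin 3) k) (hQ : Q.IsSymm)
    (hdet : Q.det = 0) : ∃ a b : Fin 3 → k, Q = S a b := by
  obtain ⟨u, hu0, hu⟩ := Matrix.exists_mulVec_eq_zero_iff.mpr hdet
  obtain ⟨m, hm⟩ := Function.ne_iff.mp hu0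
  let σ : Equiv.Perm (Fin 3) := Equiv.swap m 2
  have hσσ : ∀ i, σ (σ i) = i := fun i => Equiv.swap_apply_self m 2 i
  let Q' : Matrix (Fin 3) (Fin 3) k := Q.submatrix σ σ
  have hQ' : Q'.IsSymm := by
    ext i j
    simp only [Q', Matrix.transpose_apply, Matrix.submatrix_apply]
    exact hQ.apply _ _
  let u' : Fin 3 → k := fun i => (u m)⁻¹ * u (σ i)
  have hu'2 : u' 2 = 1 := by
    simp only [u', σ, Equiv.swap_apply_right]
    exact inv_mul_cancel₀ hm
  have hu' : Q' *ᵥ u' = 0 := by
    ext i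
    have := congrFun hu (σ i)
    simp only [mulVec, dotProduct, Pi.zero_apply] at this ⊢
    simp only [Q', u', Matrix.submatrix_apply]
    rw [← Equiv.sum_comp σ] at this
    calc ∑ x, Q (σ i) (σ x) * ((u m)⁻¹ * u (σ x))
        = (u m)⁻¹ * ∑ x, Q (σ i) (σ x) * u (σ x) := by
          rw [Finset.mul_sum]; apply Finset.sum_congr rfl; intro x _; ring
      _ = 0 := by rw [this, mul_zero]
  obtain ⟨a', b', hab⟩ := B1_case2 Q' hQ' u' hu'2 hu'
  refine ⟨a' ∘ σ, b' ∘ σ, ?_⟩
  ext i j
  have : Q i j = Q' (σ i) (σ j) := by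
    simp only [Q', Matrix.submatrix_apply, hσσ]
  rw [this, hab]
  rfl

/-- `S a b` is in terms of `vecMulVec`. -/
lemma S_mulVec [NeZero (2 : k)] (a b u : Fin 3 → k) :
    S a b *ᵥ u = (2 : k)⁻¹ • ((b ⬝ᵥ u) • a + (a ⬝ᵥ u) • b) := by
  ext i
  simp only [mulVec, dotProduct, S, Pi.smul_apply, Pi.add_apply, smul_eq_mul, Fin.sum_univ_three]
  ring

lemma range_S_le [NeZero (2 : k)] (a b : Fin 3 → k) :
    LinearMap.range (S a b).mulVecLin ≤ Submodule.span k {a, b} := by
  rintro _ ⟨u, rfl⟩
  rw [Matrix.mulVecLin_apply, S_mulVec]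
  apply Submodule.smul_mem
  apply Submodule.add_mem
  · exact Submodule.smul_mem _ _ (Submodule.subset_span (by simp))
  · exact Submodule.smul_mem _ _ (Submodule.subset_span (by simp))

lemma rank_S_le [NeZero (2 : k)] (a b : Fin 3 → k) : (S a b).rank ≤ 2 := by
  classical
  unfold Matrix.rank
  refine (Submodule.finrank_mono (range_S_le a b)).trans ?_
  have : ({a, b} : Set (Fin 3 → k)) = (({a, b} : Finset (Fin 3 → k)) : Set (Fin 3 → k)) := by
    simp
  rw [this]
  exact (finrank_span_finset_le_card _).trans Finset.card_le_two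

lemma rank_S_indep [NeZero (2 : k)] (a b : Fin 3 → k) (hab : LinearIndependent k ![a, b]) :
    (S a b).rank = 2 := by
  have h2 : (2 : k) ≠ 0 := NeZero.ne 2
  have hc : a ⨯₃ b ≠ 0 := crossProduct_ne_zero_iff_linearIndependent.mpr hab
  obtain ⟨i, hi0⟩ := Function.ne_iff.mp hc
  have hi : (a ⨯₃ b) i ≠ 0 := hi0
  set w : Fin 3 → k := Pi.single i 1 with hw
  have hcw : w ⬝ᵥ (a ⨯₃ b) = (a ⨯₃ b) i := by rw [hw, single_one_dotProduct]
  have e1 : a ⬝ᵥ (b ⨯₃ w) = (a ⨯₃ b) i := by
    rw [triple_product_permutation, triple_product_permutation, hcw]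
  have e2 : b ⬝ᵥ (a ⨯₃ w) = -(a ⨯₃ b) i := by
    rw [triple_product_permutation, triple_product_permutation, ← cross_anticomm,
      dotProduct_neg, hcw]
  have hb : b ∈ LinearMap.range (S a b).mulVecLin := by
    refine ⟨(2 * ((a ⨯₃ b) i)⁻¹) • (b ⨯₃ w), ?_⟩
    rw [Matrix.mulVecLin_apply, Matrix.mulVec_smul, S_mulVec, dot_self_cross, e1, zero_smul,
      zero_add, smul_smul, smul_smul]
    conv_rhs => rw [← one_smul k b]
    congr 1
    field_simp
  have ha : a ∈ LinearMap.range (S a b).mulVecLin := by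
    refine ⟨(-(2 * ((a ⨯₃ b) i)⁻¹)) • (a ⨯₃ w), ?_⟩
    rw [Matrix.mulVecLin_apply, Matrix.mulVec_smul, S_mulVec, dot_self_cross, e2, zero_smul,
      add_zero, smul_smul, smul_smul]
    conv_rhs => rw [← one_smul k a]
    congr 1
    field_simp
  have hrange : LinearMap.range (S a b).mulVecLin = Submodule.span k (Set.range ![a, b]) := by
    have hset : Set.range ![a, b] = {a, b} := by
      ext x; simp [Set.mem_range, Fin.exists_fin_two, eq_comm, or_comm]
    rw [hset]
    refine le_antisymm (range_S_le a b) ?_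
    rw [Submodule.span_le]
    rintro x (rfl | rfl)
    · exact ha
    · exact hb
  unfold Matrix.rank
  rw [hrange, finrank_span_eq_card hab]
  simp

lemma S_self (a : Fin 3 → k) [NeZero (2 : k)] (i j : Fin 3) : S a a i j = a i * a j := by
  have h2 : (2 : k) ≠ 0 := NeZero.ne 2
  simp only [S]; field_simp; ring

lemma rank_S_self [NeZero (2 : k)] (a : Fin 3 → k) (h : S a a ≠ 0) : (S a a).rank = 1 := by
  have h2 : (2 : k) ≠ 0 := NeZero.ne 2
  apply le_antisymm
  · unfold Matrix.rank
    have : LinearMap.range (S a a).mulVecLin ≤ Submodule.span k {a} := by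
      refine (range_S_le a a).trans ?_
      rw [Submodule.span_le]
      rintro x (rfl | rfl) <;> exact Submodule.subset_span rfl
    refine (Submodule.finrank_mono this).trans ?_
    classical
    have e : ({a} : Set (Fin 3 → k)) = (({a} : Finset (Fin 3 → k)) : Set (Fin 3 → k)) := by simp
    rw [e]
    exact (finrank_span_finset_le_card _).trans (by simp)
  · rw [Nat.one_le_iff_ne_zero]
    intro h0
    apply h
    unfold Matrix.rank at h0
    have hr : LinearMap.range (S a a).mulVecLin = ⊥ := Submodule.finrank_eq_zero.mp h0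
    have : (S a a).mulVecLin = 0 := LinearMap.range_eq_bot.mp hr
    ext i j
    have := congrFun (LinearMap.congr_fun this (Pi.single j 1)) i
    simpa [Matrix.mulVec_single_one] using this

lemma dep_case [IsAlgClosed k] [NeZero (2 : k)] (a b : Fin 3 → k)
    (hdep : ¬ LinearIndependent k ![a, b]) (hne : S a b ≠ 0) :
    ∃ a' : Fin 3 → k, S a b = S a' a' := by
  have h2 : (2 : k) ≠ 0 := NeZero.ne 2
  rw [LinearIndependent.pair_iff] at hdep
  push Not at hdep
  obtain ⟨s, t, hst, hnz⟩ := hdep
  by_cases ht : t = 0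
  · exfalso
    have hs : s ≠ 0 := fun h => (hnz h) ht
    rw [ht, zero_smul, add_zero] at hst
    have ha : a = 0 := by
      rcases smul_eq_zero.mp hst with h | h
      · exact absurd h hs
      · exact h
    apply hne
    ext i j
    simp [S, ha]
  · have hb : b = (-(s / t)) • a := by
      have : t • b = -(s • a) := by rw [eq_neg_iff_add_eq_zero, add_comm]; exact hst
      have h2' : b = t⁻¹ • (t • b) := by rw [smul_smul, inv_mul_cancel₀ ht, one_smul]
      rw [h2', this, smul_neg, smul_smul, neg_smul]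
      congr 2
      field_simp
    obtain ⟨μ, hμ⟩ := IsAlgClosed.exists_pow_nat_eq (-(s / t)) (n := 2) (by norm_num)
    refine ⟨μ • a, ?_⟩
    ext i j
    rw [S_self]
    simp only [S, hb, Pi.smul_apply, smul_eq_mul]
    rw [← hμ]
    field_simp
    ring

lemma lin_decomp (g : MvPolynomial (Fin 3) k) (hg : g.totalDegree ≤ 1) :
    g = C (coeff 0 g) + lf (fun i => coeff (Finsupp.single i 1) g) := by
  classical
  ext d
  simp only [coeff_add, coeff_C, lf, coeff_sum, coeff_smul, coeff_X, smul_eq_mul, mul_ite, mul_one,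
    mul_zero]
  by_cases hd0 : d = 0
  · subst hd0
    have : ∀ i : Fin 3, (Finsupp.single i 1 : Fin 3 →₀ ℕ) ≠ 0 := fun i => by simp
    simp [this]
  · rw [if_neg (Ne.symm hd0), zero_add]
    by_cases hd1 : ∃ i, d = Finsupp.single i 1
    · obtain ⟨i, rfl⟩ := hd1
      rw [Finset.sum_eq_single i]
      · simp
      · intro j _ hji
        rw [if_neg]
        intro h
        apply hji
        have := congrArg (fun f : Fin 3 →₀ ℕ => f j) h
        simp only [Finsupp.single_eq_same] at this
        by_contra hne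
        rw [Finsupp.single_eq_of_ne (Ne.symm hne).symm] at this
        omega
      · simp
    · push Not at hd1
      rw [Finset.sum_eq_zero]
      · apply coeff_eq_zero_of_totalDegree_lt
        refine lt_of_le_of_lt hg ?_
        obtain ⟨i, hi⟩ : ∃ i, d i ≠ 0 := by
          by_contra h
          push Not at h
          exact hd0 (Finsupp.ext h)
        have hi_mem : i ∈ d.support := Finsupp.mem_support_iff.mpr hi
        by_cases h1 : d i = 1
        · obtain ⟨j, hj, hji⟩ : ∃ j, d j ≠ 0 ∧ j ≠ i := by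
            by_contra h
            push Not at h
            apply hd1 i
            ext l
            by_cases hl : l = i
            · subst hl; simp [h1]
            · rw [Finsupp.single_eq_of_ne hl]
              by_contra hdl
              exact hl (h l hdl)
          have hj_mem : j ∈ d.support := Finsupp.mem_support_iff.mpr hj
          calc 1 < d i + d j := by omega
            _ = ∑ x ∈ ({i, j} : Finset (Fin 3)), d x := by
              rw [Finset.sum_pair hji.symm]
            _ ≤ ∑ x ∈ d.support, d x := by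
              apply Finset.sum_le_sum_of_subset
              intro x hx
              rcases Finset.mem_insert.mp hx with rfl | hx
              · exact hi_mem
              · rw [Finset.mem_singleton.mp hx]; exact hj_mem
        · calc 1 < d i := by omega
            _ ≤ ∑ x ∈ d.support, d x := Finset.single_le_sum (fun _ _ => Nat.zero_le _) hi_mem
      · intro i _
        rw [if_neg]
        exact fun h => hd1 i h.symm

lemma lf_zero : lf (0 : Fin 3 → k) = 0 := by simp [lf]

lemma not_isUnit_lf (a : Fin 3 → k) : ¬ IsUnit (lf a) := by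
  intro h
  obtain ⟨r, hr, hr'⟩ := isUnit_iff_eq_C_of_isReduced.mp h
  have := congrArg (eval (0 : Fin 3 → k)) hr'
  rw [eval_lf, eval_C, dotProduct_zero] at this
  exact hr.ne_zero this.symm

lemma qf_ne_zero [NeZero (2 : k)] [Infinite k] (Q : Matrix (Fin 3) (Fin 3) k) (hQ : Q.IsSymm)
    (hQ0 : Q ≠ 0) : qf Q ≠ 0 := by
  intro h
  apply hQ0
  have := eq_S_of_qf Q hQ 0 0 (by rw [h, lf_zero, mul_zero])
  rw [this]
  ext i j
  simp [S]

lemma totalDegree_qf_le (Q : Matrix (Fin 3) (Fin 3) k) : (qf Q).totalDegree ≤ 2 := by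
  unfold qf
  refine (totalDegree_finsetSum_le (fun i _ => ?_))
  refine (totalDegree_finsetSum_le (fun j _ => ?_))
  refine (totalDegree_smul_le _ _).trans ?_
  refine (totalDegree_mul _ _).trans ?_
  rw [totalDegree_X, totalDegree_X]

lemma one_le_totalDegree (g : MvPolynomial (Fin 3) k) (hg0 : g ≠ 0) (hgu : ¬ IsUnit g) :
    1 ≤ g.totalDegree := by
  by_contra h
  have h0 : g.totalDegree = 0 := by omega
  apply hgu
  rw [isUnit_iff_totalDegree_of_isReduced]
  refine ⟨?_, h0⟩
  rw [totalDegree_eq_zero_iff_eq_C] at h0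
  rw [isUnit_iff_ne_zero]
  intro hc
  apply hg0
  rw [h0, hc, C_0]

lemma irr [IsAlgClosed k] [NeZero (2 : k)] [Infinite k] (Q : Matrix (Fin 3) (Fin 3) k)
    (hQ : Q.IsSymm) (hdet : Q.det ≠ 0) : Irreducible (qf Q) := by
  have h2 : (2 : k) ≠ 0 := NeZero.ne 2
  have hQ0 : Q ≠ 0 := by
    rintro rfl
    apply hdet
    simp [Matrix.det_zero]
  have hf0 := qf_ne_zero Q hQ hQ0
  have hrank : Q.rank = 3 := by
    have := Matrix.rank_of_isUnit Q ((Matrix.isUnit_iff_isUnit_det Q).mpr (isUnit_iff_ne_zero.mpr hdet))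
    simpa using this
  refine ⟨?_, ?_⟩
  · intro hu
    obtain ⟨r, hr, hr'⟩ := isUnit_iff_eq_C_of_isReduced.mp hu
    have := congrArg (eval (0 : Fin 3 → k)) hr'
    rw [eval_qf, eval_C] at this
    simp only [Matrix.mulVec_zero, dotProduct_zero] at this
    exact hr.ne_zero this.symm
  · intro g h hgh
    by_contra hcon
    push Not at hcon
    obtain ⟨hgu, hhu⟩ := hcon
    have hg0 : g ≠ 0 := by rintro rfl; exact hf0 (by rw [hgh, zero_mul])
    have hh0 : h ≠ 0 := by rintro rfl; exact hf0 (by rw [hgh, mul_zero])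
    have hdeg : (qf Q).totalDegree = g.totalDegree + h.totalDegree := by
      rw [hgh]; exact totalDegree_mul_of_isDomain hg0 hh0
    have hg1 := one_le_totalDegree g hg0 hgu
    have hh1 := one_le_totalDegree h hh0 hhu
    have hle := totalDegree_qf_le Q
    have hgd := lin_decomp g (by omega)
    have hhd := lin_decomp h (by omega)
    obtain ⟨c, hc⟩ : ∃ c, c = coeff 0 g := ⟨_, rfl⟩
    obtain ⟨d, hd⟩ : ∃ d, d = coeff 0 h := ⟨_, rfl⟩
    obtain ⟨a, ha⟩ : ∃ a : Fin 3 → k, a = fun i => coeff (Finsupp.single i 1) g := ⟨_, rfl⟩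
    obtain ⟨b, hb⟩ : ∃ b : Fin 3 → k, b = fun i => coeff (Finsupp.single i 1) h := ⟨_, rfl⟩
    rw [← hc, ← ha] at hgd
    rw [← hd, ← hb] at hhd
    have hev : ∀ u : Fin 3 → k, u ⬝ᵥ Q *ᵥ u = (c + a ⬝ᵥ u) * (d + b ⬝ᵥ u) := by
      intro u
      rw [← eval_qf, hgh, map_mul, hgd, hhd]
      simp only [map_add, eval_C, eval_lf]
    have hcd : c * d = 0 := by
      have := hev 0
      simp only [Matrix.mulVec_zero, dotProduct_zero, add_zero] at this
      exact this.symm
    have hodd : ∀ u : Fin 3 → k, c * (b ⬝ᵥ u) + d * (a ⬝ᵥ u) = 0 := by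
      intro u
      have h1 := hev u
      have h2' := hev (-u)
      simp only [Matrix.mulVec_neg, neg_dotProduct, dotProduct_neg, neg_neg] at h2'
      have : 2 * (c * (b ⬝ᵥ u) + d * (a ⬝ᵥ u)) = 0 := by linear_combination h2' - h1
      rcases mul_eq_zero.mp this with h | h
      · exact absurd h h2
      · exact h
    have hvec0 : ∀ v : Fin 3 → k, (∀ u : Fin 3 → k, v ⬝ᵥ u = 0) → v = 0 := by
      intro v hv
      ext i
      have := hv (Pi.single i 1)
      simpa [dotProduct_single_one] using this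
    have hc0 : c = 0 := by
      by_contra hc0
      have hd0 : d = 0 := (mul_eq_zero.mp hcd).resolve_left hc0
      have hb0 : b = 0 := by
        apply hvec0
        intro u
        have := hodd u
        rw [hd0, zero_mul, add_zero] at this
        exact (mul_eq_zero.mp this).resolve_left hc0
      apply hh0
      rw [hhd, hd0, hb0, lf_zero, C_0, add_zero]
    have hd0 : d = 0 := by
      by_contra hd0
      have ha0 : a = 0 := by
        apply hvec0
        intro u
        have := hodd u
        rw [hc0, zero_mul, zero_add] at this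
        exact (mul_eq_zero.mp this).resolve_left hd0
      apply hg0
      rw [hgd, hc0, ha0, lf_zero, C_0, add_zero]
    have hQS : Q = S a b := by
      apply eq_S_of_eval Q hQ
      intro u
      rw [hev u, hc0, hd0, zero_add, zero_add]
    have := rank_S_le a b
    rw [← hQS, hrank] at this
    omega

theorem main (k : Type u) [Field k] [IsAlgClosed k] [CharZero k]
    (Q : Matrix (Fin 3) (Fin 3) k) (hQ : Q.IsSymm) (hQ0 : Q ≠ 0) (f : MvPolynomial (Fin 3) k)
    (hf : f = ∑ i : Fin 3, ∑ j : Fin 3, Q i j • (MvPolynomial.X i * MvPolynomial.X j)) :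
    (Irreducible f ↔ Q.det ≠ 0) ∧
    ((∃ u : Fin 3 → k, u ≠ 0 ∧ ∀ i : Fin 3, MvPolynomial.eval u (MvPolynomial.pderiv i f) = 0) ↔ Q.det = 0) ∧
    ((∃ a b : Fin 3 → k, LinearIndependent k ![a, b] ∧
        f = (∑ i : Fin 3, a i • MvPolynomial.X i) * (∑ i : Fin 3, b i • MvPolynomial.X i)) ↔ Q.rank = 2) ∧
    ((∃ a : Fin 3 → k, f = (∑ i : Fin 3, a i • MvPolynomial.X i) ^ 2) ↔ Q.rank = 1) := by
  have hfq : f = qf Q := hf
  have rank_lt_of_det : Q.det ≠ 0 → Q.rank = 3 := by
    intro hdet
    have := Matrix.rank_of_isUnit Q ((Matrix.isUnit_iff_isUnit_det Q).mpr (isUnit_iff_ne_zero.mpr hdet))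
    simpa using this
  refine ⟨?_, ?_, ?_, ?_⟩
  · constructor
    · intro hirr hdet
      obtain ⟨a, b, hab⟩ := B1 Q hQ hdet
      rw [hfq, hab, qf_S] at hirr
      rcases hirr.isUnit_or_isUnit rfl with h | h
      · exact not_isUnit_lf a h
      · exact not_isUnit_lf b h
    · intro hdet
      rw [hfq]
      exact irr Q hQ hdet
  · rw [hfq]
    exact sing_iff Q hQ
  · constructor
    · rintro ⟨a, b, hab, hfab⟩
      have : Q = S a b := eq_S_of_qf Q hQ a b (by rw [← hfq, hfab]; rfl)
      rw [this]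
      exact rank_S_indep a b hab
    · intro hr
      have hdet : Q.det = 0 := by
        by_contra hdet
        have := rank_lt_of_det hdet
        omega
      obtain ⟨a, b, hab⟩ := B1 Q hQ hdet
      have hind : LinearIndependent k ![a, b] := by
        by_contra hdep
        obtain ⟨a', ha'⟩ := dep_case a b hdep (hab ▸ hQ0)
        have h1 := rank_S_self a' (by rw [← ha', ← hab]; exact hQ0)
        rw [← ha', ← hab] at h1
        omega
      refine ⟨a, b, hind, ?_⟩
      rw [hfq, hab, qf_S]
      rfl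
  · constructor
    · rintro ⟨a, hfa⟩
      have : Q = S a a := eq_S_of_qf Q hQ a a (by rw [← hfq, hfa, pow_two]; rfl)
      rw [this]
      exact rank_S_self a (this ▸ hQ0)
    · intro hr
      have hdet : Q.det = 0 := by
        by_contra hdet
        have := rank_lt_of_det hdet
        omega
      obtain ⟨a, b, hab⟩ := B1 Q hQ hdet
      have hdep : ¬ LinearIndependent k ![a, b] := by
        intro hind
        have := rank_S_indep a b hind
        rw [← hab] at this
        omega
      obtain ⟨a', ha'⟩ := dep_case a b hdep (hab ▸ hQ0)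
      refine ⟨a', ?_⟩
      rw [hfq, hab, ha', qf_S, pow_two]
      rfl

end

/-- For an algebraically closed field k of characteristic zero, a nonzero symmetric 3 × 3 matrix Q over
k and the ternary quadratic form f = Σ Q_ij X_i X_j in k[X_0, X_1, X_2] (the equation of a plane
conic): (1) f is irreducible iff det Q ≠ 0; (2) the conic has a singular point, that is a nonzero
vector at which all partial derivatives of f vanish, iff det Q = 0 (so smooth conics are exactly the
irreducible ones); (3) f is the product of two linearly independent linear forms (two distinct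
lines) iff rank Q = 2; (4) f is the square of a linear form (a double line) iff rank Q = 1. -/
theorem result (k : Type u) [Field k] [IsAlgClosed k] [CharZero k]
    (Q : Matrix (Fin 3) (Fin 3) k) (hQ : Q.IsSymm) (hQ0 : Q ≠ 0) (f : MvPolynomial (Fin 3) k)
    (hf : f = ∑ i : Fin 3, ∑ j : Fin 3, Q i j • (MvPolynomial.X i * MvPolynomial.X j)) :
    (Irreducible f ↔ Q.det ≠ 0) ∧
    ((∃ u : Fin 3 → k, u ≠ 0 ∧ ∀ i : Fin 3, MvPolynomial.eval u (MvPolynomial.pderiv i f) = 0) ↔ Q.det = 0) ∧
    ((∃ a b : Fin 3 → k, LinearIndependent k ![a, b] ∧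
        f = (∑ i : Fin 3, a i • MvPolynomial.X i) * (∑ i : Fin 3, b i • MvPolynomial.X i)) ↔ Q.rank = 2) ∧
    ((∃ a : Fin 3 → k, f = (∑ i : Fin 3, a i • MvPolynomial.X i) ^ 2) ↔ Q.rank = 1) := by
  exact Groth.Agent.S13911.main k Q hQ hQ0 f hf

end Groth.Agent.S13911
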