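import Groth.Statements.S13912
import Mathlib
import Groth.Agent.S13911
-- import your own Groth.Agent.* helpers here

set_option autoImplicit false
universe u
open PlaneConic

namespace Groth.Agent.S13912

section
open MvPolynomial Matrix Groth.Agent.S13911

variable {k : Type u} [Field k]

lemma hom1_eq_lf (l : MvPolynomial (Fin 3) k) (hl : l.IsHomogeneous 1) : ∃ a, l = lf a := by
  refine ⟨fun i => coeff (Finsupp.single i 1) l, ?_⟩
  have h1 := lin_decomp l hl.totalDegree_le
  have h0 : coeff 0 l = 0 := hl.coeff_eq_zero (by simp)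
  rw [h0, C_0, zero_add] at h1
  exact h1

lemma rank1 (T : Matrix (Fin 2) (Fin 2) k) (hT : T ≠ 0) (hdet : T.det = 0) :
    ∃ r c : Fin 2 → k, r ≠ 0 ∧ c ≠ 0 ∧ ∀ p q, T p q = r p * c q := by
  rw [Matrix.det_fin_two] at hdet
  have : ∃ p₀ q₀, T p₀ q₀ ≠ 0 := by
    by_contra h
    push Not at h
    exact hT (by ext p q; exact h p q)
  obtain ⟨p₀, q₀, h0⟩ := this
  refine ⟨fun p => T p q₀, fun q => T p₀ q / T p₀ q₀, ?_, ?_, ?_⟩
  · intro h
    exact h0 (congrFun h p₀)
  · intro h
    have := congrFun h q₀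
    simp only [Pi.zero_apply] at this
    rw [div_self h0] at this
    exact one_ne_zero this
  · intro p q
    field_simp
    fin_cases p₀ <;> fin_cases q₀ <;> fin_cases p <;> fin_cases q <;>
      (try simp only [Fin.zero_eta, Fin.mk_one, Fin.isValue]) <;>
      first
      | ring1
      | linear_combination hdet
      | linear_combination -hdet

lemma binroot [IsAlgClosed k] [NeZero (2 : k)] (A B C : k) :
    ∃ s t : k, ¬ (s = 0 ∧ t = 0) ∧ A * s ^ 2 + B * s * t + C * t ^ 2 = 0 := by
  have h2 : (2 : k) ≠ 0 := NeZero.ne 2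
  obtain ⟨α, β, γ, δ, hA, hB, hC⟩ := binfac A (B / 2) C
  have hB' : B = α * δ + β * γ := by rw [← hB]; field_simp
  by_cases h : α = 0 ∧ β = 0
  · refine ⟨1, 0, by simp, ?_⟩
    rw [hA, hB', hC, h.1, h.2]; ring
  · refine ⟨β, -α, ?_, ?_⟩
    · rintro ⟨h1, h2'⟩
      exact h ⟨neg_eq_zero.mp h2', h1⟩
    · rw [hA, hB', hC]; ring

lemma two_forms [IsAlgClosed k] [NeZero (2 : k)] (B B' : Matrix (Fin 2) (Fin 2) k) :
    ∃ r c : Fin 2 → k, r ≠ 0 ∧ c ≠ 0 ∧
      (∑ p, ∑ q, r p * c q * B p q = 0) ∧ (∑ p, ∑ q, r p * c q * B' p q = 0) := by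
  obtain ⟨s, t, hst, hD⟩ := binroot (B 0 0 * B' 1 0 - B 1 0 * B' 0 0)
    (B 0 0 * B' 1 1 + B 0 1 * B' 1 0 - B 1 0 * B' 0 1 - B 1 1 * B' 0 0)
    (B 0 1 * B' 1 1 - B 1 1 * B' 0 1)
  set v0 := B 0 0 * s + B 0 1 * t with hv0
  set v1 := B 1 0 * s + B 1 1 * t with hv1
  set w0 := B' 0 0 * s + B' 0 1 * t with hw0
  set w1 := B' 1 0 * s + B' 1 1 * t with hw1
  have hDD : v0 * w1 - v1 * w0 = 0 := by
    rw [hv0, hv1, hw0, hw1]; linear_combination hD
  have hc : (![s, t] : Fin 2 → k) ≠ 0 := by
    intro h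
    apply hst
    exact ⟨by simpa using congrFun h 0, by simpa using congrFun h 1⟩
  have key : ∀ r : Fin 2 → k, r 0 * v0 + r 1 * v1 = 0 → r 0 * w0 + r 1 * w1 = 0 →
      (∑ p, ∑ q, r p * ![s, t] q * B p q = 0) ∧ (∑ p, ∑ q, r p * ![s, t] q * B' p q = 0) := by
    intro r h1 h2
    simp only [Fin.sum_univ_two, Matrix.cons_val_zero, Matrix.cons_val_one]
    constructor
    · rw [hv0, hv1] at h1; linear_combination h1
    · rw [hw0, hw1] at h2; linear_combination h2
  by_cases hv : v0 = 0 ∧ v1 = 0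
  · by_cases hw : w0 = 0 ∧ w1 = 0
    · refine ⟨![1, 0], ![s, t], ?_, hc, ?_⟩
      · intro h; simpa using congrFun h 0
      · apply key
        · simp [hv.1, hv.2]
        · simp [hw.1, hw.2]
    · refine ⟨![w1, -w0], ![s, t], ?_, hc, ?_⟩
      · intro h
        apply hw
        exact ⟨by simpa using congrFun h 1, by simpa using congrFun h 0⟩
      · apply key
        · simp [hv.1, hv.2]
        · simp; ring
  · refine ⟨![v1, -v0], ![s, t], ?_, hc, ?_⟩
    · intro h
      apply hv
      exact ⟨by simpa using congrFun h 1, by simpa using congrFun h 0⟩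
    · apply key
      · simp; ring
      · simp; linear_combination -hDD

lemma exists_gl_row (r : Fin 2 → k) (hr : r ≠ 0) : ∃ g : GL (Fin 2) k, ∀ a, g.val 0 a = r a := by
  by_cases h0 : r 0 = 0
  · have h1 : r 1 ≠ 0 := by
      intro h1
      apply hr
      ext a; fin_cases a
      · exact h0
      · exact h1
    refine ⟨Matrix.GeneralLinearGroup.mkOfDetNeZero !![r 0, r 1; 1, 0] ?_, ?_⟩
    · rw [Matrix.det_fin_two]; simp [h1]
    · intro a; fin_cases a <;> simp [Matrix.GeneralLinearGroup.mkOfDetNeZero]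
  · refine ⟨Matrix.GeneralLinearGroup.mkOfDetNeZero !![r 0, r 1; 0, 1] ?_, ?_⟩
    · rw [Matrix.det_fin_two]; simp [h0]
    · intro a; fin_cases a <;> simp [Matrix.GeneralLinearGroup.mkOfDetNeZero]

lemma exists_gl_col (c : Fin 2 → k) (hc : c ≠ 0) : ∃ h : GL (Fin 2) k, ∀ b, h.val b 1 = c b := by
  by_cases h0 : c 1 = 0
  · have h1 : c 0 ≠ 0 := by
      intro h1
      apply hc
      ext a; fin_cases a
      · exact h1
      · exact h0
    refine ⟨Matrix.GeneralLinearGroup.mkOfDetNeZero !![0, c 0; 1, c 1] ?_, ?_⟩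
    · rw [Matrix.det_fin_two]; simp [h1]
    · intro a; fin_cases a <;> simp [Matrix.GeneralLinearGroup.mkOfDetNeZero]
  · refine ⟨Matrix.GeneralLinearGroup.mkOfDetNeZero !![1, c 0; 0, c 1] ?_, ?_⟩
    · rw [Matrix.det_fin_two]; simp [h0]
    · intro a; fin_cases a <;> simp [Matrix.GeneralLinearGroup.mkOfDetNeZero]

lemma lf_add (v w : Fin 3 → k) : lf (v + w) = lf v + lf w := by
  simp [lf, add_smul, Finset.sum_add_distrib]

lemma lf_smul (s : k) (v : Fin 3 → k) : lf (s • v) = C s * lf v := by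
  simp only [lf, Pi.smul_apply, smul_eq_mul, Finset.mul_sum]
  apply Finset.sum_congr rfl
  intro i _
  rw [mul_smul, C_mul']

lemma qf_sub (Q Q' : Matrix (Fin 3) (Fin 3) k) : qf (Q - Q') = qf Q - qf Q' := by
  simp only [qf, Matrix.sub_apply, sub_smul, Finset.sum_sub_distrib]

lemma S_isSymm (a b : Fin 3 → k) : (S a b).IsSymm := by
  ext i j
  simp only [Matrix.transpose_apply, S]
  ring

lemma fin3_cases (m i : Fin 3) : i = m ∨ i = m + 1 ∨ i = m + 2 := by
  fin_cases m <;> fin_cases i <;> simp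

theorem forward [IsAlgClosed k] [NeZero (2 : k)] [Infinite k]
    (α : Fin 2 → Fin 2 → Fin 3 → k) (a b : Fin 3 → k)
    (h : lf (α 0 0) * lf (α 1 1) - lf (α 0 1) * lf (α 1 0) = lf a * lf b) :
    ∃ r c : Fin 2 → k, r ≠ 0 ∧ c ≠ 0 ∧ ∑ p, ∑ q, (r p * c q) • α p q = 0 := by
  have h2 : (2 : k) ≠ 0 := NeZero.ne 2
  set Q : Matrix (Fin 3) (Fin 3) k := S (α 0 0) (α 1 1) - S (α 0 1) (α 1 0) with hQdef
  have hQsymm : Q.IsSymm := (S_isSymm _ _).sub (S_isSymm _ _)
  have hqf : qf Q = lf a * lf b := by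
    rw [hQdef, qf_sub, qf_S, qf_S, h]
  have hQS : Q = S a b := eq_S_of_qf Q hQsymm a b hqf
  have hdet : Q.det = 0 := by
    by_contra hdet
    have := Matrix.rank_of_isUnit Q ((Matrix.isUnit_iff_isUnit_det Q).mpr (isUnit_iff_ne_zero.mpr hdet))
    have h3 : Q.rank = 3 := by simpa using this
    have := rank_S_le a b
    rw [← hQS, h3] at this
    omega
  obtain ⟨x, hx0, hx⟩ := Matrix.exists_mulVec_eq_zero_iff.mpr hdet
  set A : Fin 2 → Fin 2 → k := fun p q => α p q ⬝ᵥ x with hA
  have hvec : (A 1 1) • α 0 0 + (A 0 0) • α 1 1 - ((A 1 0) • α 0 1 + (A 0 1) • α 1 0) = 0 := by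
    have := hx
    rw [hQdef, Matrix.sub_mulVec, S_mulVec, S_mulVec, ← smul_sub] at this
    rcases smul_eq_zero.mp this with h' | h'
    · exact absurd h' (inv_ne_zero h2)
    · exact h'
  have hdetA : A 0 0 * A 1 1 - A 0 1 * A 1 0 = 0 := by
    have := congrArg (fun v : Fin 3 → k => v ⬝ᵥ x) hvec
    simp only [sub_dotProduct, add_dotProduct, smul_dotProduct, zero_dotProduct, smul_eq_mul] at this
    have e : ∀ p q, α p q ⬝ᵥ x = A p q := fun p q => rfl
    rw [e, e, e, e] at this
    have h2' : 2 * (A 0 0 * A 1 1 - A 0 1 * A 1 0) = 0 := by linear_combination this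
    rcases mul_eq_zero.mp h2' with h' | h'
    · exact absurd h' h2
    · exact h'
  set T : Matrix (Fin 2) (Fin 2) k := !![A 1 1, -A 1 0; -A 0 1, A 0 0] with hT
  by_cases hT0 : T = 0
  · -- all A p q vanish
    have hA0 : ∀ p q, A p q = 0 := by
      intro p q
      have h00 := congrFun (congrFun hT0 1) 1
      have h01 := congrFun (congrFun hT0 1) 0
      have h10 := congrFun (congrFun hT0 0) 1
      have h11 := congrFun (congrFun hT0 0) 0
      simp only [hT, Matrix.of_apply, Matrix.cons_val', Matrix.cons_val_zero, Matrix.cons_val_one,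
        Matrix.zero_apply, neg_eq_zero] at h00 h01 h10 h11
      fin_cases p <;> fin_cases q
      · exact h00
      · exact h01
      · exact h10
      · exact h11
    obtain ⟨m, hm⟩ := Function.ne_iff.mp hx0
    have hm' : x m ≠ 0 := hm
    obtain ⟨r, c, hr, hc, hB, hB'⟩ := two_forms (Matrix.of fun p q => α p q (m + 1))
      (Matrix.of fun p q => α p q (m + 2))
    refine ⟨r, c, hr, hc, ?_⟩
    set w : Fin 3 → k := ∑ p, ∑ q, (r p * c q) • α p q with hw
    have hw1 : w (m + 1) = 0 := by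
      rw [hw]
      simp only [Finset.sum_apply, Pi.smul_apply, smul_eq_mul]
      exact hB
    have hw2 : w (m + 2) = 0 := by
      rw [hw]
      simp only [Finset.sum_apply, Pi.smul_apply, smul_eq_mul]
      exact hB'
    have hwx : w ⬝ᵥ x = 0 := by
      rw [hw]
      simp only [sum_dotProduct, smul_dotProduct]
      apply Finset.sum_eq_zero; intro p _
      apply Finset.sum_eq_zero; intro q _
      have : α p q ⬝ᵥ x = 0 := hA0 p q
      rw [this, smul_zero]
    have hwm : w m = 0 := by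
      have : w ⬝ᵥ x = w m * x m := by
        unfold dotProduct
        apply Finset.sum_eq_single m
        · intro i _ him
          rcases fin3_cases m i with h' | h' | h'
          · exact absurd h' him
          · rw [h', hw1, zero_mul]
          · rw [h', hw2, zero_mul]
        · simp
      rw [this] at hwx
      exact (mul_eq_zero.mp hwx).resolve_right hm'
    ext i
    rcases fin3_cases m i with h' | h' | h'
    · rw [h']; exact hwm
    · rw [h']; exact hw1
    · rw [h']; exact hw2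
  · have hdetT : T.det = 0 := by
      rw [Matrix.det_fin_two]
      simp only [hT, Matrix.of_apply, Matrix.cons_val', Matrix.cons_val_zero, Matrix.cons_val_one,
        Matrix.cons_val_fin_one]
      linear_combination hdetA
    obtain ⟨r, c, hr, hc, hrc⟩ := rank1 T hT0 hdetT
    refine ⟨r, c, hr, hc, ?_⟩
    simp only [Fin.sum_univ_two, ← hrc]
    simp only [hT, Matrix.of_apply, Matrix.cons_val', Matrix.cons_val_zero, Matrix.cons_val_one,
      Matrix.cons_val_fin_one]
    rw [← hvec]
    simp only [neg_smul]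
    abel

theorem main (k : Type u) [Field k] [IsAlgClosed k] [CharZero k]
    (M : Matrix (Fin 2) (Fin 2) (MvPolynomial (Fin 3) k)) (hM : ∀ a b : Fin 2, (M a b).IsHomogeneous 1) :
    (∃ l₁ l₂ : MvPolynomial (Fin 3) k, l₁.IsHomogeneous 1 ∧ l₂.IsHomogeneous 1 ∧ M.det = l₁ * l₂) ↔
    ∃ g h : GL (Fin 2) k,
      ((MvPolynomial.C : k →+* MvPolynomial (Fin 3) k).mapMatrix g.val * M *
        (MvPolynomial.C : k →+* MvPolynomial (Fin 3) k).mapMatrix h.val) 0 1 = 0 := by
  constructor
  · rintro ⟨l₁, l₂, hl₁, hl₂, hdet⟩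
    choose α hα using fun p q => hom1_eq_lf (M p q) (hM p q)
    obtain ⟨a, rfl⟩ := hom1_eq_lf l₁ hl₁
    obtain ⟨b, rfl⟩ := hom1_eq_lf l₂ hl₂
    rw [Matrix.det_fin_two, hα, hα, hα, hα] at hdet
    obtain ⟨r, c, hr, hc, hrc⟩ := forward α a b hdet
    obtain ⟨g, hg⟩ := exists_gl_row r hr
    obtain ⟨h, hh⟩ := exists_gl_col c hc
    refine ⟨g, h, ?_⟩
    rw [Matrix.mul_apply]
    simp only [Matrix.mul_apply, RingHom.mapMatrix_apply, Matrix.map_apply, Fin.sum_univ_two,
      hg, hh, hα]
    have := congrArg lf hrc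
    simp only [Fin.sum_univ_two, lf_add, lf_smul, map_mul] at this
    have hz : lf (0 : Fin 3 → k) = 0 := lf_zero
    rw [hz] at this
    linear_combination this
  · rintro ⟨g, h, hgh⟩
    set Cm : Matrix (Fin 2) (Fin 2) k →+* Matrix (Fin 2) (Fin 2) (MvPolynomial (Fin 3) k) :=
      (MvPolynomial.C : k →+* MvPolynomial (Fin 3) k).mapMatrix with hCm
    set M' := Cm g.val * M * Cm h.val with hM'
    have hdg : g.val.det ≠ 0 :=
      isUnit_iff_ne_zero.mp ((Matrix.isUnit_iff_isUnit_det _).mp g.isUnit)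
    have hdh : h.val.det ≠ 0 :=
      isUnit_iff_ne_zero.mp ((Matrix.isUnit_iff_isUnit_det _).mp h.isUnit)
    have hhom : ∀ i j, (M' i j).IsHomogeneous 1 := by
      intro i j
      rw [hM', hCm]
      simp only [Matrix.mul_apply, RingHom.mapMatrix_apply, Matrix.map_apply]
      apply IsHomogeneous.sum
      intro b _
      rw [mul_comm]
      apply IsHomogeneous.C_mul
      apply IsHomogeneous.sum
      intro a _
      exact (hM a b).C_mul _
    have hdet' : M'.det = C g.val.det * M.det * C h.val.det := by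
      rw [hM', Matrix.det_mul, Matrix.det_mul, hCm, ← RingHom.map_det, ← RingHom.map_det]
    have hdet2 : M'.det = M' 0 0 * M' 1 1 := by
      rw [Matrix.det_fin_two, hgh, zero_mul, sub_zero]
    refine ⟨C (g.val.det⁻¹ * h.val.det⁻¹) * M' 0 0, M' 1 1, (hhom 0 0).C_mul _, hhom 1 1, ?_⟩
    rw [mul_assoc, ← hdet2, hdet']
    have : C (g.val.det⁻¹ * h.val.det⁻¹) * (C g.val.det * M.det * C h.val.det) =
        C (g.val.det⁻¹ * h.val.det⁻¹ * g.val.det * h.val.det) * M.det := by
      simp only [map_mul]; ring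
    rw [this]
    have e : g.val.det⁻¹ * h.val.det⁻¹ * g.val.det * h.val.det = 1 := by field_simp
    rw [e, map_one, one_mul]

end

/-- Over an algebraically closed field k of characteristic zero, for a 2 × 2 matrix M of linear forms in
k[X_0, X_1, X_2] (entries homogeneous of degree 1, zero allowed), det M is a product of two linear
forms if and only if M can be brought by invertible scalar row and column operations g M h, with g,
h in GL_2(k), to a matrix with zero upper-right entry. (The published statement concerns matrices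
with nonzero determinant; this row also allows determinant zero, where both sides hold.) -/
theorem result (k : Type u) [Field k] [IsAlgClosed k] [CharZero k]
    (M : Matrix (Fin 2) (Fin 2) (MvPolynomial (Fin 3) k)) (hM : ∀ a b : Fin 2, (M a b).IsHomogeneous 1) :
    (∃ l₁ l₂ : MvPolynomial (Fin 3) k, l₁.IsHomogeneous 1 ∧ l₂.IsHomogeneous 1 ∧ M.det = l₁ * l₂) ↔
    ∃ g h : GL (Fin 2) k,
      ((MvPolynomial.C : k →+* MvPolynomial (Fin 3) k).mapMatrix g.val * M *
        (MvPolynomial.C : k →+* MvPolynomial (Fin 3) k).mapMatrix h.val) 0 1 = 0 := by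
  exact Groth.Agent.S13912.main k M hM

end Groth.Agent.S13912
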