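import Groth.Statements.S13913
import Mathlib.RingTheory.MvPolynomial.EulerIdentity
-- import your own Groth.Agent.* helpers here

set_option autoImplicit false
universe u
open PlaneCubic

namespace Groth.Agent.S13913

/-- Over an algebraically closed field of characteristic zero, for linearly independent linear forms z₁,
z₂ and quadratic forms q₁, q₂ in three variables and a nonzero common zero p of z₁ and z₂, the point
p is a singular point of the plane cubic z₁q₂ − z₂q₁ = 0 (all three partial derivatives vanish at p)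
if and only if q₁ and q₂ both vanish at p. -/
theorem result (k : Type u) [Field k] [IsAlgClosed k] [CharZero k]
    (z₁ z₂ q₁ q₂ : MvPolynomial (Fin 3) k) (hz₁ : z₁.IsHomogeneous 1) (hz₂ : z₂.IsHomogeneous 1)
    (hq₁ : q₁.IsHomogeneous 2) (hq₂ : q₂.IsHomogeneous 2) (hind : LinearIndependent k ![z₁, z₂])
    (p : Fin 3 → k) (hp : p ≠ 0) (hp₁ : MvPolynomial.eval p z₁ = 0) (hp₂ : MvPolynomial.eval p z₂ = 0) :
    (∀ i : Fin 3, MvPolynomial.eval p (MvPolynomial.pderiv i (z₁ * q₂ - z₂ * q₁)) = 0) ↔
      (MvPolynomial.eval p q₁ = 0 ∧ MvPolynomial.eval p q₂ = 0) := by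
  have hderiv : ∀ i, MvPolynomial.eval p (MvPolynomial.pderiv i (z₁ * q₂ - z₂ * q₁)) =
      MvPolynomial.eval p (MvPolynomial.pderiv i z₁) * MvPolynomial.eval p q₂ -
      MvPolynomial.eval p (MvPolynomial.pderiv i z₂) * MvPolynomial.eval p q₁ := by
    intro i
    simp only [map_sub, Derivation.leibniz, smul_eq_mul, map_add, map_mul, hp₁, hp₂]
    ring
  constructor
  · intro h
    have hw : (MvPolynomial.eval p q₂ • z₁ - MvPolynomial.eval p q₁ • z₂ :
        MvPolynomial (Fin 3) k).IsHomogeneous 1 :=
      (MvPolynomial.homogeneousSubmodule (Fin 3) k 1).sub_mem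
        ((MvPolynomial.homogeneousSubmodule (Fin 3) k 1).smul_mem _ hz₁)
        ((MvPolynomial.homogeneousSubmodule (Fin 3) k 1).smul_mem _ hz₂)
    have hd : ∀ i, MvPolynomial.pderiv i
        (MvPolynomial.eval p q₂ • z₁ - MvPolynomial.eval p q₁ • z₂) = 0 := by
      intro i
      have hh : (MvPolynomial.pderiv i
          (MvPolynomial.eval p q₂ • z₁ - MvPolynomial.eval p q₁ • z₂)).IsHomogeneous 0 :=
        hw.pderiv
      rw [← MvPolynomial.totalDegree_zero_iff_isHomogeneous,
        MvPolynomial.totalDegree_eq_zero_iff_eq_C] at hh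
      have hev : MvPolynomial.eval p (MvPolynomial.pderiv i
          (MvPolynomial.eval p q₂ • z₁ - MvPolynomial.eval p q₁ • z₂)) = 0 := by
        have h' := h i
        rw [hderiv] at h'
        simp only [map_sub, Derivation.map_smul, MvPolynomial.smul_eval]
        linear_combination h'
      rw [hh, MvPolynomial.eval_C] at hev
      rw [hh, hev, map_zero]
    have hEuler := hw.sum_X_mul_pderiv
    simp only [hd, mul_zero, Finset.sum_const_zero, one_smul] at hEuler
    have hlin := LinearIndependent.pair_iff.mp hind (MvPolynomial.eval p q₂)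
      (-MvPolynomial.eval p q₁) (by
        rw [neg_smul, ← sub_eq_add_neg]
        exact hEuler.symm)
    exact ⟨neg_eq_zero.mp hlin.2, hlin.1⟩
  · rintro ⟨h1, h2⟩ i
    rw [hderiv, h1, h2]
    ring

end Groth.Agent.S13913
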