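import Groth.Statements.S13914
-- import your own Groth.Agent.* helpers here

set_option autoImplicit false
universe u
open PlaneConic

namespace Groth.Agent.S13914

/-- Over an algebraically closed field of characteristic zero, an invertible 3 × 3 matrix g, acting on
row vectors and so on the projective plane, fixes every point of the line u_0 = 0 if and only if g
is a nonzero scalar multiple of a matrix with rows (α, β, γ), (0, 1, 0), (0, 0, 1). -/
theorem result (k : Type u) [Field k] [IsAlgClosed k] [CharZero k]
    (g : Matrix (Fin 3) (Fin 3) k) (hg : IsUnit g.det) :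
    (∀ v : Fin 3 → k, v 0 = 0 → ∃ c : k, Matrix.vecMul v g = c • v) ↔
      ∃ c α β γ : k, c ≠ 0 ∧ g = c • !![α, β, γ; 0, 1, 0; 0, 0, 1] := by
  constructor
  · intro h
    obtain ⟨c1, h1⟩ := h ![0, 1, 0] (by simp)
    obtain ⟨c2, h2⟩ := h ![0, 0, 1] (by simp)
    obtain ⟨c3, h3⟩ := h ![0, 1, 1] (by simp)
    have h10 := congrFun h1 0
    have h11 := congrFun h1 1
    have h12 := congrFun h1 2
    have h20 := congrFun h2 0
    have h21 := congrFun h2 1
    have h22 := congrFun h2 2
    have h31 := congrFun h3 1
    have h32 := congrFun h3 2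
    simp [Matrix.vecMul, dotProduct, Fin.sum_univ_three] at h10 h11 h12 h20 h21 h22 h31 h32
    have hc12 : c1 = c2 := by
      have e1 : c1 = c3 := by rw [← h31, h11, h21, add_zero]
      have e2 : c2 = c3 := by rw [← h32, h12, h22, zero_add]
      rw [e1, e2]
    subst hc12
    have hdet : g.det = g 0 0 * c1 * c1 := by
      rw [Matrix.det_fin_three, h10, h11, h12, h20, h21, h22]
      ring
    have hc : c1 ≠ 0 := by
      rintro rfl
      rw [hdet] at hg
      simp at hg
    refine ⟨c1, g 0 0 / c1, g 0 1 / c1, g 0 2 / c1, hc, ?_⟩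
    ext i j
    fin_cases i <;> fin_cases j <;> simp [h10, h11, h12, h20, h21, h22] <;> field_simp
  · rintro ⟨c, α, β, γ, hc, rfl⟩ v hv
    refine ⟨c, ?_⟩
    ext j
    fin_cases j <;> simp [Matrix.vecMul, dotProduct, Fin.sum_univ_three, hv] <;> ring

end Groth.Agent.S13914
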