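import Groth.Statements.S13916
import Mathlib

set_option autoImplicit false
universe u
open PlaneConic

namespace Groth.Agent.S13916

/-- Over an algebraically closed field k of characteristic zero, with u_0, u_1, u_2 the coordinate
linear forms of k[X_0, X_1, X_2] and 2 × 2 matrices of linear forms compared up to M ↦ g M h with g,
h invertible scalar matrices: (1) the matrices with rows (u_1, 0), (u_0, u_2) and (u_2, 0), (u_0,
u_1) are not equivalent; (2) for α ≠ 0 the matrix with rows (u_1, 0), (αu_0 + βu_1 + γu_2, u_2) is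
equivalent to the one with rows (u_1, 0), (u_0, u_2). -/
theorem result (k : Type u) [Field k] [IsAlgClosed k] [CharZero k] :
    (¬ ∃ g h : GL (Fin 2) k,
      (MvPolynomial.C : k →+* MvPolynomial (Fin 3) k).mapMatrix g.val *
          !![MvPolynomial.X 1, 0; MvPolynomial.X 0, MvPolynomial.X 2] *
        (MvPolynomial.C : k →+* MvPolynomial (Fin 3) k).mapMatrix h.val =
      !![MvPolynomial.X 2, 0; MvPolynomial.X 0, MvPolynomial.X 1]) ∧
    (∀ α β γ : k, α ≠ 0 → ∃ g h : GL (Fin 2) k,
      (MvPolynomial.C : k →+* MvPolynomial (Fin 3) k).mapMatrix g.val *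
          !![MvPolynomial.X 1, 0;
             MvPolynomial.C α * MvPolynomial.X 0 + MvPolynomial.C β * MvPolynomial.X 1 + MvPolynomial.C γ * MvPolynomial.X 2,
             MvPolynomial.X 2] *
        (MvPolynomial.C : k →+* MvPolynomial (Fin 3) k).mapMatrix h.val =
      !![MvPolynomial.X 1, 0; MvPolynomial.X 0, MvPolynomial.X 2]) := by
  refine ⟨?_, ?_⟩
  · rintro ⟨g, h, H⟩
    have e1 : (g.val 0 1) * (h.val 0 0) = 0 := by
      have := congrArg (MvPolynomial.eval (![1,0,0] : Fin 3 → k)) (congrFun (congrFun H 0) 0)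
      simpa [Matrix.mul_apply, Fin.sum_univ_two] using this
    have e2 : (g.val 0 1) * (h.val 0 1) = 0 := by
      have := congrArg (MvPolynomial.eval (![1,0,0] : Fin 3 → k)) (congrFun (congrFun H 0) 1)
      simpa [Matrix.mul_apply, Fin.sum_univ_two] using this
    have e3 : (g.val 0 1) * (h.val 1 0) = 1 := by
      have := congrArg (MvPolynomial.eval (![0,0,1] : Fin 3 → k)) (congrFun (congrFun H 0) 0)
      simpa [Matrix.mul_apply, Fin.sum_univ_two] using this
    have hb : g.val 0 1 ≠ 0 := by
      intro hb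
      rw [hb, zero_mul] at e3
      exact zero_ne_one e3
    have hp : h.val 0 0 = 0 := (mul_eq_zero.mp e1).resolve_left hb
    have hq : h.val 0 1 = 0 := (mul_eq_zero.mp e2).resolve_left hb
    have hdet : IsUnit h.val.det := (Matrix.isUnit_iff_isUnit_det _).mp h.isUnit
    rw [Matrix.det_fin_two, hp, hq, zero_mul, zero_mul, sub_zero] at hdet
    exact not_isUnit_zero hdet
  · intro α β γ hα
    have hg : (!![1, 0; -(β * α⁻¹), α⁻¹] : Matrix (Fin 2) (Fin 2) k).det ≠ 0 := by
      simp [Matrix.det_fin_two, hα]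
    have hh : (!![1, 0; -γ, α] : Matrix (Fin 2) (Fin 2) k).det ≠ 0 := by
      simp [Matrix.det_fin_two, hα]
    refine ⟨Matrix.GeneralLinearGroup.mkOfDetNeZero _ hg,
      Matrix.GeneralLinearGroup.mkOfDetNeZero _ hh, ?_⟩
    have hC : (MvPolynomial.C α⁻¹ : MvPolynomial (Fin 3) k) * MvPolynomial.C α = 1 := by
      rw [← MvPolynomial.C_mul, inv_mul_cancel₀ hα, MvPolynomial.C_1]
    show (MvPolynomial.C : k →+* MvPolynomial (Fin 3) k).mapMatrix !![1, 0; -(β * α⁻¹), α⁻¹] * _ *
      (MvPolynomial.C : k →+* MvPolynomial (Fin 3) k).mapMatrix !![1, 0; -γ, α] = _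
    refine Matrix.ext fun i j => ?_
    fin_cases i <;> fin_cases j
    · simp [Matrix.mul_apply, Fin.sum_univ_two]
    · simp [Matrix.mul_apply, Fin.sum_univ_two]
    · simp only [Matrix.mul_apply, Fin.sum_univ_two, RingHom.mapMatrix_apply, Matrix.map_apply,
        Matrix.of_apply, Matrix.cons_val', Matrix.cons_val_zero, Matrix.cons_val_one,
        Matrix.cons_val_fin_one, Fin.zero_eta, Fin.mk_one, map_neg, map_mul, map_one, map_zero]
      linear_combination (MvPolynomial.X 0 : MvPolynomial (Fin 3) k) * hC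
    · simp only [Matrix.mul_apply, Fin.sum_univ_two, RingHom.mapMatrix_apply, Matrix.map_apply,
        Matrix.of_apply, Matrix.cons_val', Matrix.cons_val_zero, Matrix.cons_val_one,
        Matrix.cons_val_fin_one, Fin.zero_eta, Fin.mk_one, map_neg, map_mul, map_one, map_zero]
      linear_combination (MvPolynomial.X 2 : MvPolynomial (Fin 3) k) * hC

end Groth.Agent.S13916
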