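import Groth.Statements.S13925
import Mathlib.Tactic.Abel

set_option autoImplicit false
universe u v w x
open W4c1limliniiii

namespace Groth.Agent.S13925

theorem indep_of_sum {k : Type u} [Field k] {E : Type w} [AddCommGroup E] [Module k E]
    (A B C : Submodule k E)
    (h : ∀ a ∈ A, ∀ b ∈ B, ∀ c ∈ C, a + b + c = 0 → a = 0 ∧ b = 0 ∧ c = 0) :
    iSupIndep ![A, B, C] := by
  rw [iSupIndep_fin_three]
  show Disjoint A (B ⊔ C) ∧ Disjoint B (C ⊔ A) ∧ Disjoint C (A ⊔ B)
  refine ⟨?_, ?_, ?_⟩
  · rw [Submodule.disjoint_def]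
    intro x hx hx'
    obtain ⟨b, hb, c, hc, rfl⟩ := Submodule.mem_sup.mp hx'
    have := h (-(b + c)) (A.neg_mem hx) b hb c hc (by abel)
    rw [this.2.1, this.2.2, add_zero]
  · rw [Submodule.disjoint_def]
    intro x hx hx'
    obtain ⟨c, hc, a, ha, rfl⟩ := Submodule.mem_sup.mp hx'
    have := h a ha (-(c + a)) (B.neg_mem hx) c hc (by abel)
    rw [this.1, this.2.2, add_zero]
  · rw [Submodule.disjoint_def]
    intro x hx hx'
    obtain ⟨a, ha, b, hb, rfl⟩ := Submodule.mem_sup.mp hx'
    have := h a ha b hb (-(a + b)) (C.neg_mem hx) (by abel)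
    rw [this.1, this.2.1, add_zero]

/-- Let k be a field and U, E, W vector spaces over k with linear maps f : U → E, g' : E → U, f₂ : E → W
and g : W → E such that g' ∘ f = 0, the kernel of f₂ is contained in the image of g, and the image
of g meets the kernel of g' only in 0 — the conditions holding at a point of a linked Grassmannian
at which the linking scalar vanishes. Let V₁ ≤ U and V₂ ≤ E be subspaces and let C' ≤ V₂ be a
subspace contained in the kernel of g' and meeting f(V₁) only in 0. Then the subspaces f(V₁), ker f₂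
∩ V₂ and C' of E are independent: their sum is direct. (The published statement is for two
consecutive members V_{i-1}, V_i of a point of a linked Grassmannian at which the linking scalar
vanishes and adds the decomposition V_i = f(V_{i-1}) ⊕ (ker f_i ∩ V_i) ⊕ C with C ⊇ C'; this row
states the independence, with only the three conditions the argument uses.) -/
theorem result (k : Type u) [Field k]
    (U : Type v) (E : Type w) (W : Type x) [AddCommGroup U] [Module k U] [AddCommGroup E]
    [Module k E] [AddCommGroup W] [Module k W]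
    (f : U →ₗ[k] E) (g' : E →ₗ[k] U) (f₂ : E →ₗ[k] W) (g : W →ₗ[k] E)
    (hgf : g'.comp f = 0) (hII : LinearMap.ker f₂ ≤ LinearMap.range g)
    (hIII : LinearMap.range g ⊓ LinearMap.ker g' = ⊥)
    (V₁ : Submodule k U) (V₂ : Submodule k E) (C' : Submodule k E) (hC : C' ≤ V₂)
    (hCg : C' ≤ LinearMap.ker g') (hCf : Submodule.map f V₁ ⊓ C' = ⊥) :
    iSupIndep ![Submodule.map f V₁, LinearMap.ker f₂ ⊓ V₂, C'] := by
  apply indep_of_sum
  intro a ha b hb c hc habc
  have ha' : g' a = 0 := by
    obtain ⟨y, _, rfl⟩ := ha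
    have := congrArg (fun φ => φ y) hgf
    simpa using this
  have hc' : g' c = 0 := LinearMap.mem_ker.mp (hCg hc)
  have hb1 : b ∈ LinearMap.range g := hII hb.1
  have hb2 : b ∈ LinearMap.ker g' := by
    rw [LinearMap.mem_ker]
    have : b = -(a + c) := by
      have : a + b + c - (a + c) = 0 - (a + c) := by rw [habc]
      rw [zero_sub] at this
      rw [← this]; abel
    rw [this, map_neg, map_add, ha', hc', add_zero, neg_zero]
  have hb0 : b = 0 := by
    have : b ∈ LinearMap.range g ⊓ LinearMap.ker g' := ⟨hb1, hb2⟩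
    rw [hIII] at this
    exact (Submodule.mem_bot k).mp this
  subst hb0
  rw [add_zero] at habc
  have hac : a = -c := eq_neg_of_add_eq_zero_left habc
  have ha0 : a = 0 := by
    have : a ∈ Submodule.map f V₁ ⊓ C' := ⟨ha, by rw [hac]; exact C'.neg_mem hc⟩
    rw [hCf] at this
    exact (Submodule.mem_bot k).mp this
  subst ha0
  refine ⟨rfl, rfl, ?_⟩
  rw [zero_add] at habc
  exact habc

end Groth.Agent.S13925
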