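import Groth.Statements.S13926
import Mathlib.LinearAlgebra.FiniteDimensional.Lemmas
import Mathlib.Tactic

set_option autoImplicit false
universe u v w
open W4c1limliniiii

namespace Groth.Agent.S13926

theorem exists_between {k : Type u} [Field k] {E : Type w} [AddCommGroup E] [Module k E]
    [FiniteDimensional k E] (r : ℕ) :
    ∀ (d : ℕ) (A B : Submodule k E), A ≤ B → Module.finrank k A + d = r → r ≤ Module.finrank k B →
      ∃ V : Submodule k E, A ≤ V ∧ V ≤ B ∧ Module.finrank k V = r := by
  intro d
  induction d with
  | zero =>
    intro A B hAB hA _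
    exact ⟨A, le_rfl, hAB, by simpa using hA⟩
  | succ d ih =>
    intro A B hAB hA hB
    have hlt : Module.finrank k A < Module.finrank k B := by omega
    have hne : ¬ B ≤ A := by
      intro h
      have := Submodule.finrank_mono h
      omega
    obtain ⟨x, hxB, hxA⟩ := Set.not_subset.mp hne
    have h1 := Submodule.finrank_sup_span_singleton hxA
    obtain ⟨V, hV1, hV2, hV3⟩ := ih (A ⊔ Submodule.span k {x}) B
      (sup_le hAB (by rw [Submodule.span_singleton_le_iff_mem]; exact hxB)) (by omega) hB
    exact ⟨V, le_trans le_sup_left hV1, hV2, hV3⟩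

/-- Let k be a field, E₁ and E₂ finite-dimensional vector spaces over k of the same dimension, f : E₁ →
E₂ and g : E₂ → E₁ linear maps whose composite g ∘ f is multiplication by a scalar s, and V₁ a
subspace of E₁. Then there is a subspace V₂ of E₂ of the same dimension as V₁ with f(V₁) ≤ V₂ and
g(V₂) ≤ V₁. (The published statement is the surjectivity of the truncation morphisms of a linked
Grassmannian, with a further assertion on lifting families; this row is the lifting step over a
field — over a point the chain of linked subspaces V_1, …, V_{n'} extends one index at a time — and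
assumes only g ∘ f = s.) -/
theorem result (k : Type u) [Field k]
    (E₁ : Type v) (E₂ : Type w) [AddCommGroup E₁] [Module k E₁] [FiniteDimensional k E₁]
    [AddCommGroup E₂] [Module k E₂] [FiniteDimensional k E₂]
    (hdim : Module.finrank k E₁ = Module.finrank k E₂)
    (f : E₁ →ₗ[k] E₂) (g : E₂ →ₗ[k] E₁) (s : k) (hgf : g.comp f = s • LinearMap.id)
    (V₁ : Submodule k E₁) :
    ∃ V₂ : Submodule k E₂, Module.finrank k V₂ = Module.finrank k V₁ ∧
      Submodule.map f V₁ ≤ V₂ ∧ Submodule.map g V₂ ≤ V₁ := by
  have hgf' : ∀ x, g (f x) = s • x := by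
    intro x
    have := congrArg (fun φ => φ x) hgf
    simpa using this
  by_cases hs : s = 0
  · subst hs
    -- bounds
    have h1 : Submodule.map f V₁ ≤ Submodule.comap g V₁ := by
      rintro _ ⟨x, _, rfl⟩
      rw [Submodule.mem_comap, hgf', zero_smul]
      exact V₁.zero_mem
    have h2 : Module.finrank k (Submodule.map f V₁) ≤ Module.finrank k V₁ :=
      Submodule.finrank_map_le f V₁
    have h3 : Module.finrank k V₁ ≤ Module.finrank k (Submodule.comap g V₁) := by
      let φ : (E₂ ⧸ Submodule.comap g V₁) →ₗ[k] (E₁ ⧸ V₁) :=
        Submodule.mapQ (Submodule.comap g V₁) V₁ g le_rfl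
      have hφ : Function.Injective φ := by
        rw [injective_iff_map_eq_zero]
        intro x hx
        obtain ⟨x, rfl⟩ := Submodule.Quotient.mk_surjective _ x
        simp only [φ, Submodule.mapQ_apply] at hx
        rw [Submodule.Quotient.mk_eq_zero] at hx ⊢
        exact hx
      have h4 := LinearMap.finrank_le_finrank_of_injective hφ
      have h5 := Submodule.finrank_quotient_add_finrank (Submodule.comap g V₁)
      have h6 := Submodule.finrank_quotient_add_finrank V₁
      omega
    obtain ⟨d, hd⟩ := Nat.exists_eq_add_of_le h2
    obtain ⟨V, hV1, hV2, hV3⟩ := exists_between (Module.finrank k V₁) d _ _ h1 hd.symm h3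
    refine ⟨V, hV3, hV1, ?_⟩
    rw [Submodule.map_le_iff_le_comap]
    exact hV2
  · have hinj : Function.Injective f := by
      intro x y hxy
      have : s • x = s • y := by rw [← hgf', ← hgf', hxy]
      exact smul_right_injective _ hs this
    refine ⟨Submodule.map f V₁, ?_, le_rfl, ?_⟩
    · exact (Submodule.equivMapOfInjective f hinj V₁).finrank_eq.symm
    · rintro _ ⟨_, ⟨x, hx, rfl⟩, rfl⟩
      rw [hgf']
      exact V₁.smul_mem s hx

end Groth.Agent.S13926
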