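import Groth.Statements.S1393
import Groth.Agent.Lib.Helper21.MCPF7
import Groth.Agent.Lib.Helper13.LocFree4

set_option autoImplicit false
universe u
open FlatMor

namespace Groth.Agent.S1393

open AlgebraicGeometry CategoryTheory Limits in
/-- Let f : X → S be of finite presentation, F a finitely presented quasi-coherent O_X-module and x a
point with image s. If F is flat over S at x and the stalk at x of the restriction of F to the
fibre, namely F_x / m_s F_x, is flat over the local ring of the fibre at x, namely O_{X,x} / m_s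
O_{X,x}, then F is free of finite rank on some open neighbourhood of x. -/
theorem result {X S : Scheme.{u}} (f : X ⟶ S) [LocallyOfFinitePresentation f] [QuasiCompact f] [QuasiSeparated f]
    (F : X.Modules) (hFq : Coh.IsQCoh F) (hFp : CohB1.IsFP F) (x : X) (h1 : FlatMod.IsFlatOverAt f F x)
    (h2 : Module.Flat (↑(X.presheaf.stalk x) ⧸ Ideal.map (f.stalkMap x).hom (IsLocalRing.maximalIdeal ↑(S.presheaf.stalk (f x))))
      (↑(F.presheaf.stalk x) ⧸ (Ideal.map (f.stalkMap x).hom (IsLocalRing.maximalIdeal ↑(S.presheaf.stalk (f x))) • (⊤ : Submodule ↑(X.presheaf.stalk x) ↑(F.presheaf.stalk x))))) :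
    ∃ (U : X.Opens) (n : ℕ), x ∈ U ∧ Nonempty (F.restrict U.ι ≅ FlatMod.freeMod (↑U) n) := by
  haveI : SheafOfModules.IsFinitePresentation (R := X.ringCatSheaf) F := hFp
  haveI : F.IsQuasicoherent := hFq
  haveI hflat : Module.Flat (X.presheaf.stalk x) (F.presheaf.stalk x) :=
    Groth.Agent.Helper21.MCPF.flat_stalk_of_fibre f F x h1 h2
  haveI : Module.Finite (X.presheaf.stalk x) (F.presheaf.stalk x) :=
    Groth.Agent.Helper13.LocFree.finite_stalk_of_isFiniteType F x
  haveI : Module.Free (X.presheaf.stalk x) (F.presheaf.stalk x) :=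
    Module.free_of_flat_of_isLocalRing
  obtain ⟨_, ⟨U, hU, rfl⟩, hxU, -⟩ :=
    X.isBasis_affineOpens.exists_subset_of_mem_open (Set.mem_univ x) isOpen_univ
  haveI := Groth.Agent.Helper13.LocFree.finitePresentation_sections_of_isFinitePresentation F hU
  obtain ⟨r, hxr, n, ⟨b⟩⟩ := Groth.Agent.Helper13.LocFree.exists_basicOpen_basis F hU ⟨x, hxU⟩
  obtain ⟨e⟩ := Groth.Agent.Helper13.LocFree.restrict_iso_freeMod_of_basis F (hU.basicOpen r) b
  exact ⟨X.basicOpen r, n, hxr, ⟨e⟩⟩

end Groth.Agent.S1393
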