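import Groth.Statements.S9137
import Mathlib
-- import your own Groth.Agent.* helpers here

set_option autoImplicit false
universe u
open CAlg

namespace Groth.Agent.S9137

section
open IsLocalRing

variable (R S : Type u) [CommRing R] [CommRing S] [IsLocalRing R] [IsLocalRing S] [Algebra R S]
  [IsLocalHom (algebraMap R S)]

theorem map_le : (maximalIdeal R).map (algebraMap R S) ≤ maximalIdeal S := by
  rw [Ideal.map_le_iff_le_comap]
  intro x hx
  rw [Ideal.mem_comap, mem_maximalIdeal, mem_nonunits_iff]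
  intro hu
  exact (mem_maximalIdeal x).mp hx (isUnit_of_map_unit (algebraMap R S) x hu)

theorem finite_fibre [Algebra.EssFiniteType R S]
    (hres : Module.Finite (ResidueField R) (ResidueField S))
    (hdim : ringKrullDim (S ⧸ (maximalIdeal R).map (algebraMap R S)) = 0) :
    Module.Finite R (S ⧸ (maximalIdeal R).map (algebraMap R S)) := by
  have hIm := map_le R S
  letI : Field (R ⧸ maximalIdeal R) := Ideal.Quotient.field _
  haveI : Algebra.EssFiniteType (R ⧸ maximalIdeal R)
      (S ⧸ (maximalIdeal R).map (algebraMap R S)) :=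
    Algebra.EssFiniteType.of_comp R (R ⧸ maximalIdeal R) _
  haveI : IsNoetherianRing (S ⧸ (maximalIdeal R).map (algebraMap R S)) :=
    Algebra.EssFiniteType.isNoetherianRing (R ⧸ maximalIdeal R) _
  haveI : Ring.KrullDimLE 0 (S ⧸ (maximalIdeal R).map (algebraMap R S)) :=
    (Ring.krullDimLE_iff).mpr hdim.le
  haveI : Nontrivial (S ⧸ (maximalIdeal R).map (algebraMap R S)) :=
    Ideal.Quotient.nontrivial_iff.mpr (fun h => (maximalIdeal.isMaximal S).ne_top
      (top_le_iff.mp (h ▸ hIm)))
  haveI : IsLocalRing (S ⧸ (maximalIdeal R).map (algebraMap R S)) :=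
    IsLocalRing.of_surjective' (Ideal.Quotient.mk _) Ideal.Quotient.mk_surjective
  haveI : Module.Finite R (ResidueField R) :=
    Module.Finite.of_surjective (Algebra.linearMap R (ResidueField R)) residue_surjective
  haveI : Module.Finite R (ResidueField S) := Module.Finite.trans (ResidueField R) _
  let f : (S ⧸ (maximalIdeal R).map (algebraMap R S)) →ₐ[R] ResidueField S :=
    Ideal.Quotient.liftₐ _ (IsScalarTower.toAlgHom R S (ResidueField S)) (fun x hx => by
      show residue S x = 0
      exact (residue_eq_zero_iff x).mpr (hIm hx))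
  have hfmk : ∀ x : S, f (Ideal.Quotient.mk _ x) = residue S x := fun x => rfl
  refine Module.finite_of_surjective_of_ker_le_nilradical f ?_ ?_ ?_
  · intro y
    obtain ⟨x, rfl⟩ := residue_surjective y
    exact ⟨Ideal.Quotient.mk _ x, hfmk x⟩
  · rw [Ring.KrullDimLE.nilradical_eq_maximalIdeal]
    intro x hx
    rw [mem_maximalIdeal, mem_nonunits_iff]
    intro hu
    have : IsUnit (f x) := hu.map f
    rw [RingHom.mem_ker] at hx
    rw [show f x = 0 from hx] at this
    exact not_isUnit_zero this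
  · exact IsNoetherian.noetherian _

theorem main [Algebra.EssFiniteType R S]
    (hres : Module.Finite (IsLocalRing.ResidueField R) (IsLocalRing.ResidueField S))
    (hdim : ringKrullDim (S ⧸ (IsLocalRing.maximalIdeal R).map (algebraMap R S)) = 0) :
    ∃ (S' : Type u) (_ : CommRing S') (_ : Algebra R S') (_ : Algebra S' S) (_ : IsScalarTower R S' S)
      (q : Ideal S') (_ : q.IsPrime), Module.Finite R S' ∧ IsLocalization.AtPrime S q := by
  classical
  obtain ⟨σ, hσ⟩ := (Algebra.essFiniteType_iff R S).mp (inferInstance : Algebra.EssFiniteType R S)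
  set S₀ : Subalgebra R S := Algebra.adjoin R (σ : Set S) with hS₀
  haveI : Algebra.FiniteType R ↥S₀ := by
    constructor
    rw [Subalgebra.fg_top]
    exact ⟨σ, rfl⟩
  set q₀ : Ideal ↥S₀ := (maximalIdeal S).comap (algebraMap ↥S₀ S) with hq₀
  haveI hq₀p : q₀.IsPrime := Ideal.IsPrime.comap _
  have hq₀mem : ∀ x : ↥S₀, x ∈ q₀ ↔ ¬ IsUnit (x : S) := by
    intro x
    rw [hq₀, Ideal.mem_comap, mem_maximalIdeal, mem_nonunits_iff]
    rfl
  haveI hloc₀ : IsLocalization.AtPrime S q₀ := by
    refine (isLocalization_iff _ _).mpr ⟨?_, ?_, ?_⟩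
    · rintro ⟨x, hx⟩
      have : ¬ x ∈ q₀ := hx
      rw [hq₀mem, not_not] at this
      exact this
    · intro z
      obtain ⟨t, ht, htu, hzt⟩ := hσ z
      refine ⟨(⟨z * t, hzt⟩, ⟨⟨t, ht⟩, ?_⟩), rfl⟩
      show ¬ (⟨t, ht⟩ : ↥S₀) ∈ q₀
      rw [hq₀mem, not_not]
      exact htu
    · intro x y hxy
      exact ⟨1, by rw [Subtype.ext hxy]⟩
  -- weak quasi-finiteness
  haveI : Algebra.WeaklyQuasiFiniteAt R q₀ := by
    rw [Algebra.weaklyQuasiFiniteAt_iff]
    let e : S ≃ₐ[↥S₀] Localization.AtPrime q₀ :=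
      IsLocalization.algEquiv q₀.primeCompl S (Localization.AtPrime q₀)
    let g : S →ₐ[R] Localization.AtPrime q₀ := (e.restrictScalars R).toAlgHom
    have hgsurj : Function.Surjective g := e.surjective
    haveI := finite_fibre R S hres hdim
    let h : (S ⧸ (maximalIdeal R).map (algebraMap R S)) →ₐ[R]
        (Localization.AtPrime q₀ ⧸ (q₀.under R).map (algebraMap R (Localization.AtPrime q₀))) :=
      Ideal.Quotient.liftₐ _ ((Ideal.Quotient.mkₐ R _).comp g) (by
        intro a ha
        have hle : (maximalIdeal R).map (algebraMap R S) ≤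
            RingHom.ker ((Ideal.Quotient.mkₐ R ((q₀.under R).map
              (algebraMap R (Localization.AtPrime q₀)))).comp g).toRingHom := by
          rw [Ideal.map_le_iff_le_comap]
          intro r hr
          rw [Ideal.mem_comap, RingHom.mem_ker]
          show Ideal.Quotient.mk _ (g (algebraMap R S r)) = 0
          rw [g.commutes, Ideal.Quotient.eq_zero_iff_mem]
          apply Ideal.mem_map_of_mem
          rw [Ideal.under_def, Ideal.mem_comap, hq₀mem]
          intro hu
          exact (mem_maximalIdeal r).mp hr (isUnit_of_map_unit (algebraMap R S) r hu)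
        exact hle ha)
    refine Algebra.QuasiFinite.of_surjective_algHom h ?_
    intro y
    obtain ⟨z, rfl⟩ := Ideal.Quotient.mk_surjective y
    obtain ⟨x, rfl⟩ := hgsurj z
    exact ⟨Ideal.Quotient.mk _ x, rfl⟩
  -- Zariski's main theorem
  obtain ⟨S', hS'fg, r, hr, hbij⟩ :=
    Algebra.QuasiFiniteAt.exists_fg_and_exists_notMem_and_awayMap_bijective (R := R) q₀
  have hkey : ∀ a : ↥S₀, ∃ (b : ↥S') (m : ℕ), (b : ↥S₀) = (r : ↥S₀) ^ m * a :=
    Localization.awayMap_surjective_iff.mp hbij.2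
  have hru : IsUnit ((r : ↥S₀) : S) := by
    have := hr
    rw [hq₀mem, not_not] at this
    exact this
  -- the finite subalgebra of `S`
  set S'' : Subalgebra R S := S'.map S₀.val with hS''
  have hS''fg : S''.toSubmodule.FG := by
    rw [hS'', Subalgebra.map_toSubmodule]
    exact hS'fg.map _
  haveI : Module.Finite R ↥S'' := ⟨(Submodule.fg_top _).mpr hS''fg⟩
  have hmemS'' : ∀ b : ↥S', ((b : ↥S₀) : S) ∈ S'' := fun b => ⟨b, b.2, rfl⟩
  set q : Ideal ↥S'' := (maximalIdeal S).comap (algebraMap ↥S'' S) with hq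
  haveI hqp : q.IsPrime := Ideal.IsPrime.comap _
  have hqmem : ∀ x : ↥S'', x ∈ q ↔ ¬ IsUnit (x : S) := by
    intro x
    rw [hq, Ideal.mem_comap, mem_maximalIdeal, mem_nonunits_iff]
    rfl
  refine ⟨↥S'', inferInstance, inferInstance, inferInstance, inferInstance, q, hqp,
    inferInstance, ?_⟩
  refine (isLocalization_iff _ _).mpr ⟨?_, ?_, ?_⟩
  · rintro ⟨x, hx⟩
    have : ¬ x ∈ q := hx
    rw [hqmem, not_not] at this
    exact this
  · intro z
    obtain ⟨t, ht, htu, hzt⟩ := hσ z
    obtain ⟨a₁, m₁, h₁⟩ := hkey ⟨z * t, hzt⟩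
    obtain ⟨t₁, m₂, h₂⟩ := hkey ⟨t, ht⟩
    have h₁' : ((a₁ : ↥S₀) : S) = ((r : ↥S₀) : S) ^ m₁ * (z * t) := by
      have := congrArg (fun x : ↥S₀ => (x : S)) h₁
      simpa using this
    have h₂' : ((t₁ : ↥S₀) : S) = ((r : ↥S₀) : S) ^ m₂ * t := by
      have := congrArg (fun x : ↥S₀ => (x : S)) h₂
      simpa using this
    -- denominator `r^m₁ * t₁`, numerator `r^m₂ * a₁`
    have hden : ((r : ↥S₀) : S) ^ m₁ * ((t₁ : ↥S₀) : S) ∈ S'' :=
      S''.mul_mem (S''.pow_mem (hmemS'' r) m₁) (hmemS'' t₁)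
    have hnum : ((r : ↥S₀) : S) ^ m₂ * ((a₁ : ↥S₀) : S) ∈ S'' :=
      S''.mul_mem (S''.pow_mem (hmemS'' r) m₂) (hmemS'' a₁)
    refine ⟨(⟨_, hnum⟩, ⟨⟨_, hden⟩, ?_⟩), ?_⟩
    · show ¬ (⟨_, hden⟩ : ↥S'') ∈ q
      rw [hqmem, not_not]
      show IsUnit (((r : ↥S₀) : S) ^ m₁ * ((t₁ : ↥S₀) : S))
      rw [h₂']
      exact (hru.pow m₁).mul ((hru.pow m₂).mul htu)
    · show z * (((r : ↥S₀) : S) ^ m₁ * ((t₁ : ↥S₀) : S)) =
        ((r : ↥S₀) : S) ^ m₂ * ((a₁ : ↥S₀) : S)
      rw [h₁', h₂']
      ring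
  · intro x y hxy
    exact ⟨1, by rw [Subtype.ext hxy]⟩

end

/-- Let R → S be a local ring homomorphism between local rings, essentially of finite type, such that
the residue field of S is finite over that of R and S/m_R S has dimension zero. Then S is, as an
R-algebra, the localization of a finite R-algebra at a prime. -/
theorem result (R S : Type u) [CommRing R] [CommRing S]
    [IsLocalRing R] [IsLocalRing S] [Algebra R S] [IsLocalHom (algebraMap R S)]
    [Algebra.EssFiniteType R S]
    (hres : Module.Finite (IsLocalRing.ResidueField R) (IsLocalRing.ResidueField S))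
    (hdim : ringKrullDim (S ⧸ (IsLocalRing.maximalIdeal R).map (algebraMap R S)) = 0) :
    ∃ (S' : Type u) (_ : CommRing S') (_ : Algebra R S') (_ : Algebra S' S) (_ : IsScalarTower R S' S)
      (q : Ideal S') (_ : q.IsPrime), Module.Finite R S' ∧ IsLocalization.AtPrime S q := by
  exact Groth.Agent.S9137.main R S hres hdim

end Groth.Agent.S9137
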