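import Groth.Statements.S1394
import Mathlib
import Groth.Agent.S9137
import Groth.Agent.Lib.Helper2.JacobsonNoeth
-- import your own Groth.Agent.* helpers here

set_option autoImplicit false
universe u
open FlatMor

namespace Groth.Agent.S1394

section
open IsLocalRing

theorem main {A B : Type u} [CommRing A] [CommRing B] [IsLocalRing A] [IsLocalRing B] [IsNoetherianRing A]
    [Algebra A B] [IsLocalHom (algebraMap A B)] [Algebra.EssFiniteType A B]
    [Module.Finite (IsLocalRing.ResidueField A) (IsLocalRing.ResidueField B)]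
    (V : Set (PrimeSpectrum B)) (hV : IsOpen V) (hne : ∃ q ∈ V, q.asIdeal.comap (algebraMap A B) ≠ IsLocalRing.maximalIdeal A) :
    ∃ q ∈ V, q.asIdeal.comap (algebraMap A B) ≠ IsLocalRing.maximalIdeal A ∧ Algebra.QuasiFinite A (B ⧸ q.asIdeal) := by
  classical
  haveI : IsNoetherianRing B := Algebra.EssFiniteType.isNoetherianRing A B
  have hchar : ∀ q : PrimeSpectrum B, q.asIdeal.comap (algebraMap A B) ≠ maximalIdeal A ↔
      ¬ (maximalIdeal A).map (algebraMap A B) ≤ q.asIdeal := by
    intro q
    rw [Ideal.map_le_iff_le_comap]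
    constructor
    · intro h hle
      refine h (le_antisymm (IsLocalRing.le_maximalIdeal ?_) hle)
      exact Ideal.comap_ne_top _ q.isPrime.ne_top
    · intro h heq
      exact h heq.ge
  set W : Set (PrimeSpectrum B) :=
    V ∩ {q | q.asIdeal.comap (algebraMap A B) ≠ maximalIdeal A} with hW
  have hWopen : IsOpen W := by
    refine hV.inter ?_
    have : {q : PrimeSpectrum B | q.asIdeal.comap (algebraMap A B) ≠ maximalIdeal A} =
        (PrimeSpectrum.zeroLocus (((maximalIdeal A).map (algebraMap A B) : Ideal B) : Set B))ᶜ := by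
      ext q
      rw [Set.mem_setOf_eq, hchar, Set.mem_compl_iff, PrimeSpectrum.mem_zeroLocus]
      rfl
    rw [this]
    exact (PrimeSpectrum.isClosed_zeroLocus _).isOpen_compl
  obtain ⟨q₁, hq₁V, hq₁⟩ := hne
  obtain ⟨I, ⟨q, hqW, rfl⟩, hmax⟩ :=
    (set_has_maximal_iff_noetherian (R := B) (M := B)).mpr inferInstance
      ((fun q : PrimeSpectrum B => q.asIdeal) '' W) ⟨_, q₁, ⟨hq₁V, hq₁⟩, rfl⟩
  refine ⟨q, hqW.1, hqW.2, ?_⟩
  obtain ⟨J, hJ⟩ := (PrimeSpectrum.isClosed_iff_zeroLocus_ideal _).mp hWopen.isClosed_compl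
  have hqJ : ¬ (J : Set B) ⊆ q.asIdeal := by
    intro h
    have : q ∈ PrimeSpectrum.zeroLocus (J : Set B) := h
    rw [← hJ] at this
    exact this hqW
  obtain ⟨f, hfJ, hfq⟩ := Set.not_subset.mp hqJ
  haveI : IsDomain (B ⧸ q.asIdeal) := Ideal.Quotient.isDomain _
  haveI : Nontrivial (B ⧸ q.asIdeal) := inferInstance
  haveI : IsLocalRing (B ⧸ q.asIdeal) :=
    IsLocalRing.of_surjective' (Ideal.Quotient.mk q.asIdeal) Ideal.Quotient.mk_surjective
  have hmkloc : IsLocalHom (Ideal.Quotient.mk q.asIdeal) :=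
    IsLocalHom.of_surjective _ Ideal.Quotient.mk_surjective
  haveI : IsLocalHom (Ideal.Quotient.mkₐ A q.asIdeal) :=
    ⟨fun a h => hmkloc.map_nonunit a h⟩
  haveI : IsLocalHom (algebraMap A (B ⧸ q.asIdeal)) :=
    ⟨fun a h => by
      have h1 : IsUnit (algebraMap A B a) := hmkloc.map_nonunit _ h
      exact isUnit_of_map_unit (algebraMap A B) a h1⟩
  -- every nonzero prime of `D` contains the image of `f`
  have hfD0 : Ideal.Quotient.mk q.asIdeal f ≠ 0 := by
    rw [Ne, Ideal.Quotient.eq_zero_iff_mem]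
    exact hfq
  have hfD : ∀ P : Ideal (B ⧸ q.asIdeal), P.IsPrime → P ≠ ⊥ →
      Ideal.Quotient.mk q.asIdeal f ∈ P := by
    intro P hP hP0
    set P' : Ideal B := P.comap (Ideal.Quotient.mk q.asIdeal) with hP'
    haveI : P'.IsPrime := Ideal.IsPrime.comap _
    have hqP' : q.asIdeal ≤ P' := by
      intro x hx
      rw [hP', Ideal.mem_comap, Ideal.Quotient.eq_zero_iff_mem.mpr hx]
      exact P.zero_mem
    have hne' : q.asIdeal ≠ P' := by
      intro h
      apply hP0
      rw [← Ideal.map_comap_of_surjective _ Ideal.Quotient.mk_surjective P, ← hP', ← h,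
        Ideal.map_quotient_self]
    have hlt : q.asIdeal < P' := lt_of_le_of_ne hqP' hne'
    have hnotW : (⟨P', inferInstance⟩ : PrimeSpectrum B) ∉ W := by
      intro hmem
      exact hmax P' ⟨⟨P', inferInstance⟩, hmem, rfl⟩ hlt
    have : (⟨P', inferInstance⟩ : PrimeSpectrum B) ∈ PrimeSpectrum.zeroLocus (J : Set B) := by
      rw [← hJ]
      exact hnotW
    exact this hfJ
  have hht : ∀ Q : Ideal (B ⧸ q.asIdeal), Q.IsPrime → Q.height ≤ 1 := fun Q hQ =>
    Groth.Agent.Helper2.JacobsonNoeth.height_le_one_of_mem _ hfD0 hfD Q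
  -- residue fields
  haveI : Module.Finite (ResidueField A) (ResidueField (B ⧸ q.asIdeal)) := by
    refine Module.Finite.of_surjective
      (ResidueField.mapAlgHom' (Ideal.Quotient.mkₐ A q.asIdeal)).toLinearMap ?_
    intro y
    obtain ⟨d, rfl⟩ := residue_surjective y
    obtain ⟨b, rfl⟩ := Ideal.Quotient.mk_surjective d
    exact ⟨residue B b, rfl⟩
  -- dimension of the closed fibre
  have hIle := Groth.Agent.S9137.map_le A (B ⧸ q.asIdeal)
  obtain ⟨a, haA, haq⟩ : ∃ a ∈ maximalIdeal A, algebraMap A B a ∉ q.asIdeal := by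
    have := (hchar q).mp hqW.2
    rw [Ideal.map_le_iff_le_comap] at this
    obtain ⟨a, ha, ha'⟩ := Set.not_subset.mp this
    exact ⟨a, ha, ha'⟩
  have haD : algebraMap A (B ⧸ q.asIdeal) a ≠ 0 := by
    show Ideal.Quotient.mk q.asIdeal (algebraMap A B a) ≠ 0
    rw [Ne, Ideal.Quotient.eq_zero_iff_mem]
    exact haq
  haveI : Nontrivial ((B ⧸ q.asIdeal) ⧸ (maximalIdeal A).map (algebraMap A (B ⧸ q.asIdeal))) :=
    Ideal.Quotient.nontrivial_iff.mpr (fun h => (maximalIdeal.isMaximal _).ne_top
      (top_le_iff.mp (h ▸ hIle)))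
  have hdim : ringKrullDim ((B ⧸ q.asIdeal) ⧸
      (maximalIdeal A).map (algebraMap A (B ⧸ q.asIdeal))) = 0 := by
    refine le_antisymm ?_ ringKrullDim_nonneg_of_nontrivial
    refine Ring.krullDimLE_iff.mp (Ring.krullDimLE_zero_iff.mpr ?_)
    intro P hP
    set P' : Ideal (B ⧸ q.asIdeal) := P.comap (Ideal.Quotient.mk _) with hP'
    haveI : P'.IsPrime := Ideal.IsPrime.comap _
    have haP' : algebraMap A (B ⧸ q.asIdeal) a ∈ P' := by
      rw [hP', Ideal.mem_comap, Ideal.Quotient.eq_zero_iff_mem.mpr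
        (Ideal.mem_map_of_mem _ haA)]
      exact P.zero_mem
    have hP'0 : P' ≠ ⊥ := by
      intro h
      rw [h, Ideal.mem_bot] at haP'
      exact haD haP'
    have hP'le : P' ≤ maximalIdeal (B ⧸ q.asIdeal) := IsLocalRing.le_maximalIdeal
      (Ideal.IsPrime.ne_top inferInstance)
    have hP'eq : P' = maximalIdeal (B ⧸ q.asIdeal) := by
      by_contra hne'
      have hlt : P' < maximalIdeal (B ⧸ q.asIdeal) := lt_of_le_of_ne hP'le hne'
      have hbot : (⊥ : Ideal (B ⧸ q.asIdeal)) < P' := bot_lt_iff_ne_bot.mpr hP'0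
      haveI : (⊥ : Ideal (B ⧸ q.asIdeal)).IsPrime := Ideal.isPrime_bot
      have h1 := Ideal.height_strict_mono_of_isPrime_of_isPrime hbot
      have h2 := Ideal.height_strict_mono_of_isPrime_of_isPrime hlt
      have h3 := hht (maximalIdeal (B ⧸ q.asIdeal)) inferInstance
      have h4 : (1 : ℕ∞) ≤ P'.height := Order.one_le_iff_pos.mpr (lt_of_le_of_lt bot_le h1)
      exact absurd (lt_of_le_of_lt h4 h2) (not_lt.mpr h3)
    have hPmap : P = P'.map (Ideal.Quotient.mk _) :=
      (Ideal.map_comap_of_surjective _ Ideal.Quotient.mk_surjective P).symm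
    rw [hPmap, hP'eq]
    rcases Ideal.map_eq_top_or_isMaximal_of_surjective (Ideal.Quotient.mk
      ((maximalIdeal A).map (algebraMap A (B ⧸ q.asIdeal)))) Ideal.Quotient.mk_surjective
      (maximalIdeal.isMaximal (B ⧸ q.asIdeal)) with h | h
    · exfalso
      rw [← hP'eq, ← hPmap] at h
      exact hP.ne_top h
    · exact h
  obtain ⟨S', _, _, _, _, q', _, hfin, hloc⟩ :=
    Groth.Agent.S9137.main A (B ⧸ q.asIdeal) inferInstance hdim
  exact Algebra.QuasiFinite.of_isLocalization (R := A) (S := S') q'.primeCompl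

end

/-- Let A → B be a local homomorphism of local rings with A Noetherian, B essentially of finite type
over A, and the residue field of B finite over that of A. Let V ⊆ Spec B be an open subset
containing some prime that does not lie over the maximal ideal of A. Then V contains a prime q, not
lying over the maximal ideal of A, such that B/q is quasi-finite over A in the sense that every
fibre ring of A → B/q is finite over the corresponding residue field of A. (The published statement
is stronger: there B/q is moreover a localization of a quasi-finite A-algebra of finite type, which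
implies this.) -/
theorem result {A B : Type u} [CommRing A] [CommRing B] [IsLocalRing A] [IsLocalRing B] [IsNoetherianRing A]
    [Algebra A B] [IsLocalHom (algebraMap A B)] [Algebra.EssFiniteType A B]
    [Module.Finite (IsLocalRing.ResidueField A) (IsLocalRing.ResidueField B)]
    (V : Set (PrimeSpectrum B)) (hV : IsOpen V) (hne : ∃ q ∈ V, q.asIdeal.comap (algebraMap A B) ≠ IsLocalRing.maximalIdeal A) :
    ∃ q ∈ V, q.asIdeal.comap (algebraMap A B) ≠ IsLocalRing.maximalIdeal A ∧ Algebra.QuasiFinite A (B ⧸ q.asIdeal) := by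
  exact Groth.Agent.S1394.main V hV hne

end Groth.Agent.S1394
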