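import Groth.Statements.S13951
import Groth.Agent.Lib.Helper18.ConnFinGrp

set_option autoImplicit false
universe u
open TateLoc

namespace Groth.Agent.S13951

open CategoryTheory AlgebraicGeometry CategoryTheory.Limits in
/-- Let S be a reduced scheme and I a finite locally free commutative S-group scheme (finite, flat, of
finite presentation) whose fibres over all points of S are connected. Then the restriction of the
sheaf of points of I from the big fppf site of S to the small etale site of S is the zero sheaf. -/
theorem result (S : Scheme.{u}) [IsReduced S]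
    (I : Over S) [GrpObj I] [IsCommMonObj I] [IsFinite I.hom] [Flat I.hom] [LocallyOfFinitePresentation I.hom]
    (hconn : ∀ s : S, ConnectedSpace ↥(I.hom.fiber s)) :
    IsZero ((BigSite.resEt Scheme.fppfPrecoverage S).obj (CGrpSh.pts Scheme.fppfPrecoverage I)) := by
  apply IsZero.of_full_of_faithful_of_isZero (sheafToPresheaf _ _)
  apply Functor.isZero
  intro U
  haveI : Etale (Opposite.unop U).hom := (Opposite.unop U).prop
  haveI : IsReduced ((Functor.fromPUnit S).obj (Opposite.unop U).right) := ‹IsReduced S›
  haveI : IsReduced (Opposite.unop U).left := Groth.Agent.Helper15.isReduced_of_etale (Opposite.unop U).hom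
  haveI : IsReduced ((EtFppf.a S).obj (Opposite.unop U)).left := ‹IsReduced (Opposite.unop U).left›
  change IsZero ((CGrpSh.ptsPre I).obj (Opposite.op ((EtFppf.a S).obj (Opposite.unop U))))
  haveI : Subsingleton ((CGrpSh.ptsPre I).obj (Opposite.op ((EtFppf.a S).obj (Opposite.unop U)))) := by
    refine ⟨fun a b => ?_⟩
    apply ULift.ext
    apply Additive.toMul.injective
    rw [Groth.Agent.Helper18.ConnFinGrp.eq_one_of_isReduced I hconn _ (Additive.toMul a.down),
      Groth.Agent.Helper18.ConnFinGrp.eq_one_of_isReduced I hconn _ (Additive.toMul b.down)]
  exact AddCommGrpCat.isZero_of_subsingleton _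

end Groth.Agent.S13951
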