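import Groth.Statements.S13953
import Mathlib.Tactic
import Mathlib.Algebra.Group.Pi.Units

set_option autoImplicit false
universe u
open TateLoc

namespace Groth.Agent.S13953

open Classical in
/-- indicator element of a subset -/
noncomputable def ind {ι : Type u} (R : ι → Type u) [∀ i, CommRing (R i)] (S : Set ι) : ∀ i, R i :=
  fun i => if i ∈ S then 1 else 0

open Classical in
theorem key_max {ι : Type u} (R : ι → Type u) [∀ i, CommRing (R i)] [∀ i, IsLocalRing (R i)]
    (m : Ideal (∀ i, R i)) (hm : m.IsMaximal) (f : ∀ i, R i) (hf : f ∉ m) :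
    ind R {i | IsUnit (f i)} ∉ m := by
  intro he
  set S : Set ι := {i | IsUnit (f i)} with hS
  -- h = f * (1 - e)
  set h : ∀ i, R i := f * (1 - ind R S) with hh
  have hnu : ∀ i, ¬ IsUnit (h i) := by
    intro i
    by_cases hi : i ∈ S
    · have : h i = 0 := by simp [hh, ind, hi]
      rw [this]; exact not_isUnit_zero
    · have : h i = f i := by simp [hh, ind, hi]
      rw [this]; exact hi
  have hhm : h ∈ m := by
    by_contra hcon
    obtain ⟨c, a, ha, hab⟩ := hm.exists_inv hcon
    have hau : IsUnit a := by
      rw [Pi.isUnit_iff]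
      intro i
      have e : a i = 1 - c i * h i := by
        have := congrFun hab i
        simp only [Pi.add_apply, Pi.mul_apply, Pi.one_apply] at this
        rw [← this]; ring
      rw [e]
      have hmem : c i * h i ∈ IsLocalRing.maximalIdeal (R i) :=
        Ideal.mul_mem_left _ _ ((IsLocalRing.mem_maximalIdeal _).mpr (hnu i))
      have := IsLocalRing.isUnit_one_sub_self_of_mem_nonunits _ hmem
      exact this
    exact hm.ne_top (Ideal.eq_top_of_isUnit_mem _ ha hau)
  apply hf
  have : f = f * ind R S + h := by rw [hh]; ring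
  rw [this]
  exact m.add_mem (m.mul_mem_left _ he) hhm

open Classical in
/-- Let (R_i) be a family of local commutative rings and R = ∏ R_i. Any open cover of Spec R can be
refined by one coming from a finite partition of the index set: there is a map c from the index set
to a finite set such that, for each value m, the basic open subset of Spec R defined by the
idempotent which is 1 at the indices with c i = m and 0 elsewhere (this open is the spectrum of the
product of the R_i over that class) is contained in some member of the cover. -/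
theorem result {ι : Type u} (R : ι → Type u)
    [∀ i, CommRing (R i)] [∀ i, IsLocalRing (R i)] {J : Type u}
    (U : J → TopologicalSpace.Opens (PrimeSpectrum (∀ i, R i))) (hU : ⨆ j, U j = ⊤) :
    ∃ (n : ℕ) (c : ι → Fin n), ∀ m : Fin n, ∃ j : J,
      PrimeSpectrum.basicOpen (fun i => if c i = m then (1 : R i) else 0) ≤ U j := by
  -- index type of good pairs
  let I := {q : Set ι × J // PrimeSpectrum.basicOpen (ind R q.1) ≤ U q.2}
  have hcover : (Set.univ : Set (PrimeSpectrum (∀ i, R i))) ⊆
      ⋃ q : I, (PrimeSpectrum.basicOpen (ind R q.1.1) : Set (PrimeSpectrum (∀ i, R i))) := by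
    intro p _
    obtain ⟨m, hm, hpm⟩ := Ideal.exists_le_maximal p.asIdeal p.2.ne_top
    let pm : PrimeSpectrum (∀ i, R i) := ⟨m, hm.isPrime⟩
    have hpmU : pm ∈ (⨆ j, U j) := by rw [hU]; trivial
    obtain ⟨j, hj⟩ := TopologicalSpace.Opens.mem_iSup.mp hpmU
    obtain ⟨_, ⟨f, rfl⟩, hfm, hfU⟩ := PrimeSpectrum.isTopologicalBasis_basic_opens.exists_subset_of_mem_open
      hj (U j).isOpen
    have hfm' : f ∉ m := hfm
    have hkey := key_max R m hm f hfm'
    set S : Set ι := {i | IsUnit (f i)} with hS
    have hle : PrimeSpectrum.basicOpen (ind R S) ≤ U j := by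
      intro x hx
      apply hfU
      show f ∉ x.asIdeal
      intro hfx
      apply hx
      -- e_S = f * u
      let u : ∀ i, R i := fun i => if hi : IsUnit (f i) then ((hi.unit⁻¹ : (R i)ˣ) : R i) else 0
      have : ind R S = f * u := by
        funext i
        by_cases hi : IsUnit (f i)
        · have hiS : i ∈ S := hi
          simp only [ind, hiS, if_true, Pi.mul_apply, u, dif_pos hi]
          exact (IsUnit.mul_val_inv hi).symm
        · have hiS : i ∉ S := hi
          simp [ind, hiS, u, hi]
      rw [this]
      exact x.asIdeal.mul_mem_right _ hfx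
    refine Set.mem_iUnion.mpr ⟨⟨(S, j), hle⟩, ?_⟩
    show ind R S ∉ p.asIdeal
    intro h
    exact hkey (hpm h)
  obtain ⟨t, ht⟩ := isCompact_univ.elim_finite_subcover
    (fun q : I => (PrimeSpectrum.basicOpen (ind R q.1.1) : Set (PrimeSpectrum (∀ i, R i))))
    (fun q => (PrimeSpectrum.basicOpen (ind R q.1.1)).isOpen) hcover
  -- each index lies in some S of t
  have hidx : ∀ i : ι, ∃ q ∈ t, i ∈ q.1.1 := by
    intro i
    let pi : PrimeSpectrum (∀ i, R i) :=
      ⟨Ideal.comap (Pi.evalRingHom R i) (IsLocalRing.maximalIdeal (R i)), Ideal.comap_isPrime _ _⟩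
    have := ht (Set.mem_univ pi)
    simp only [Set.mem_iUnion] at this
    obtain ⟨q, hq, hmem⟩ := this
    refine ⟨q, hq, ?_⟩
    by_contra hi
    apply hmem
    show ind R q.1.1 ∈ Ideal.comap (Pi.evalRingHom R i) (IsLocalRing.maximalIdeal (R i))
    rw [Ideal.mem_comap]
    simp [ind, hi]
  choose qf hqt hqi using hidx
  refine ⟨t.card, fun i => t.equivFin ⟨qf i, hqt i⟩, ?_⟩
  intro m
  refine ⟨(t.equivFin.symm m).1.1.2, ?_⟩
  refine le_trans ?_ (t.equivFin.symm m).1.2
  intro x hx
  show ind R (t.equivFin.symm m).1.1.1 ∉ x.asIdeal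
  intro hcon
  apply hx
  have : (fun i => if t.equivFin ⟨qf i, hqt i⟩ = m then (1 : R i) else 0) =
      (fun i => if t.equivFin ⟨qf i, hqt i⟩ = m then (1 : R i) else 0) * ind R (t.equivFin.symm m).1.1.1 := by
    funext i
    by_cases hc : t.equivFin ⟨qf i, hqt i⟩ = m
    · have hmem : i ∈ (t.equivFin.symm m).1.1.1 := by
        rw [← hc, Equiv.symm_apply_apply]
        exact hqi i
      simp [ind, hc, hmem]
    · simp [hc]
  rw [this]
  exact x.asIdeal.mul_mem_left _ hcon

end Groth.Agent.S13953
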