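import Groth.Statements.S13956
import Mathlib
import Groth.Prelude.Def_EtBase
import Groth.Prelude.Def_EtCore
import Groth.Prelude.Def_EtLim
import Groth.Agent.S0101
import Groth.Agent.S0066
import Groth.Agent.S14451
import Groth.Agent.S7744
import Groth.Agent.S0659
import Groth.Agent.Lib.Helper1.LC7
import Groth.Agent.Lib.Helper4.NormalDecomp
import Groth.Agent.Lib.Helper10.Transfer
import Groth.Agent.Lib.Helper10.EtLoc
import Groth.Agent.Lib.Helper10.SkyTors2

set_option autoImplicit false
universe u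
open TateLoc

namespace Groth.Agent.S13956

section helpers

open CategoryTheory CategoryTheory.Limits AlgebraicGeometry Opposite CategoryTheory.Abelian
open Groth.Agent.Helper10

lemma isIso_nsmul_Q (m : ℕ) (hm : 0 < m) :
    IsIso (m • 𝟙 (AddCommGrpCat.of (ULift.{u + 1} ℚ))) := by
  rw [ConcreteCategory.isIso_iff_bijective]
  have h : ∀ x : ULift.{u + 1} ℚ,
      (m • 𝟙 (AddCommGrpCat.of (ULift.{u + 1} ℚ))).hom x = m • x := by
    intro x
    rw [AddCommGrpCat.hom_nsmul]
    rfl
  have hm' : (m : ℚ) ≠ 0 := by exact_mod_cast hm.ne'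
  constructor
  · intro ⟨a⟩ ⟨b⟩ hab
    have h1 : m • (ULift.up a : ULift.{u + 1} ℚ) = m • ULift.up b := by
      rw [← h, ← h]; exact hab
    have h2 : m • a = m • b := congrArg ULift.down h1
    congr 1
    rw [nsmul_eq_mul, nsmul_eq_mul] at h2
    exact mul_left_cancel₀ hm' h2
  · intro ⟨b⟩
    refine ⟨ULift.up (b / m), ?_⟩
    show (m • 𝟙 (AddCommGrpCat.of (ULift.{u + 1} ℚ))).hom (ULift.up (b / m)) = ULift.up b
    rw [h]
    show ULift.up (m • (b / m)) = ULift.up b
    congr 1
    rw [nsmul_eq_mul]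
    field_simp

lemma isIso_nsmul_const (X : Scheme.{u}) (m : ℕ) (hm : 0 < m) :
    IsIso (m • 𝟙 (EtCoh.const X ℚ)) := by
  haveI := isIso_nsmul_Q.{u} m hm
  have : m • 𝟙 (EtCoh.const X ℚ) =
      (constantSheaf X.smallEtaleTopology AddCommGrpCat.{u + 1}).map
        (m • 𝟙 (AddCommGrpCat.of (ULift.{u + 1} ℚ))) := by
    rw [Functor.map_nsmul, CategoryTheory.Functor.map_id]
  rw [this]
  infer_instance

/-- A torsion sheaf on which every positive integer acts invertibly is zero. -/
lemma isZero_of_torsion_div {X : Scheme.{u}} (T : EtCoh.Ab X) (hT : EtCoh.IsTorsion T)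
    (hdiv : ∀ n : ℕ, 0 < n → IsIso (n • 𝟙 T)) : IsZero T := by
  have key : ∀ (U : X.Etale) (s : T.obj.obj (op U)), s = 0 := by
    intro U s
    let R : Sieve U :=
      { arrows := fun V g => T.obj.map g.op s = 0
        downward_closed := by
          intro V W g hg h
          show T.obj.map (h ≫ g).op s = 0
          rw [op_comp, Functor.map_comp, ConcreteCategory.comp_apply]
          rw [show T.obj.map g.op s = 0 from hg, map_zero] }
    have hR : R ∈ X.smallEtaleTopology U := by
      rw [EtLoc.mem_iff]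
      intro x
      obtain ⟨V, g, ⟨v, hv⟩, hfin⟩ := hT U s x
      refine ⟨V, g, v, ?_, hv⟩
      obtain ⟨d, hd, hds⟩ := isOfFinAddOrder_iff_nsmul_eq_zero.1 hfin
      haveI := hdiv d hd
      haveI : IsIso ((d • 𝟙 T).hom.app (op V)) := by
        have : (d • 𝟙 T).hom.app (op V) =
            ((sheafToPresheaf _ _ ⋙ (evaluation _ _).obj (op V)).map (d • 𝟙 T)) := rfl
        rw [this]; infer_instance
      have hinj : Function.Injective ((d • 𝟙 T).hom.app (op V)) :=
        ((ConcreteCategory.isIso_iff_bijective _).1 inferInstance).1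
      have e : ∀ t : T.obj.obj (op V), ((d • 𝟙 T).hom.app (op V)).hom t = d • t := by
        intro t
        rw [SkyTors.sheaf_nsmul_app, AddCommGrpCat.hom_nsmul]
        rfl
      apply hinj
      rw [map_zero]
      exact (e _).trans hds
    apply Transfer.ext_of_cover T R hR
    intro V g hg
    rw [map_zero]
    exact hg
  rw [IsZero.iff_id_eq_zero]
  ext U s
  exact key U.unop _

lemma subsingleton_ext_of_isZero {C : Type*} [Category C] [Abelian C] [HasExt C] {Z A : C}
    (hA : IsZero A) (n : ℕ) : Subsingleton (Ext Z A n) := by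
  apply subsingleton_of_forall_eq 0
  intro x
  have h := Ext.comp_mk₀_id x
  rw [hA.eq_of_src (𝟙 A) 0, Ext.mk₀_zero, Ext.comp_zero] at h
  exact h.symm

theorem integral_case (X : Scheme.{u}) [IsIntegral X]
    (hN : ∀ x : X, IsIntegrallyClosed (X.presheaf.stalk x)) (i : ℕ) (hi : 0 < i) :
    Subsingleton (EtCoh.H X (EtCoh.const X ℚ) i) := by
  let η := genericPoint X
  let g : Spec (CommRingCat.of ↑(X.residueField η)) ⟶ X := X.fromSpecResidueField η
  haveI : PreservesFiniteLimits (EtCoh.pull g) := Groth.Agent.S0101.result g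
  let F := EtCoh.const X ℚ
  let G := (EtCoh.pull g).obj F
  haveI : IsPreimmersion g := inferInstanceAs (IsPreimmersion (X.fromSpecResidueField η))
  haveI hu : IsIso ((EtCoh.pullPushAdj g).unit.app F) :=
    Groth.Agent.Helper1.LC.main_normal hN g
      (by rw [Scheme.range_fromSpecResidueField]; rfl) ℚ
  have hdivF := isIso_nsmul_const X
  have hdivG : ∀ n : ℕ, 0 < n → IsIso (n • 𝟙 G) := by
    intro n hn
    haveI := hdivF n hn
    have : n • 𝟙 G = (EtCoh.pull g).map (n • 𝟙 F) := by
      rw [Functor.map_nsmul, CategoryTheory.Functor.map_id]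
    rw [this]; infer_instance
  have hR : ∀ q : ℕ, 0 < q → IsZero ((EtCoh.Rpush g q).obj G) := by
    intro q hq
    obtain ⟨q', rfl⟩ : ∃ q', q = q' + 1 := ⟨q - 1, by omega⟩
    apply isZero_of_torsion_div _
      (SkyTors.isTorsion_Rpush (κ := ↑(X.residueField η)) g q' G)
    intro n hn
    haveI := hdivG n hn
    have : n • 𝟙 ((EtCoh.Rpush g (q' + 1)).obj G) = (EtCoh.Rpush g (q' + 1)).map (n • 𝟙 G) := by
      rw [Functor.map_nsmul, CategoryTheory.Functor.map_id]
    rw [this]; infer_instance
  have hbij := Groth.Agent.S14451.result g G hR i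
  haveI : Subsingleton (EtCoh.H (Spec (CommRingCat.of ↑(X.residueField η))) G i) :=
    Groth.Agent.S7744.main (↑(X.residueField η)) G hdivG i hi
  haveI : Subsingleton (EtCoh.H X ((EtCoh.push g).obj G) i) := hbij.1.subsingleton
  apply subsingleton_of_forall_eq 0
  intro x
  exact Groth.Agent.S7744.eq_zero_of_comp_iso x ((EtCoh.pullPushAdj g).unit.app F)
    (@Subsingleton.elim (EtCoh.H X ((EtCoh.push g).obj G) i) _ _ _)

lemma subsingleton_ext_of_iso {C : Type*} [Category C] [Abelian C] [HasExt C] {Z A B : C}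
    (e : A ≅ B) (n : ℕ) (h : Subsingleton (Ext Z B n)) : Subsingleton (Ext Z A n) := by
  apply subsingleton_of_forall_eq 0
  intro x
  exact Groth.Agent.S7744.eq_zero_of_comp_iso x e.hom (Subsingleton.elim _ _)

lemma isZero_of_isEmpty (Y : Scheme.{u}) [IsEmpty Y] (G : EtCoh.Ab Y) : IsZero G := by
  have key : ∀ (U : Y.Etale) (s : G.obj.obj (op U)), s = 0 := by
    intro U s
    have hbot : (⊥ : Sieve U) ∈ Y.smallEtaleTopology U := by
      rw [EtLoc.mem_iff]
      intro x
      let j : (U.left : Scheme.{u}) ⟶ Y := U.hom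
      exact isEmptyElim (j x)
    exact Transfer.ext_of_cover G ⊥ hbot _ _ (fun V u hu => hu.elim)
  rw [IsZero.iff_id_eq_zero]
  ext U s
  exact key U.unop _

theorem main_aux : ∀ (n : ℕ) (X : Scheme.{u}) [IsLocallyNoetherian X] [CompactSpace X]
    (_ : ∀ x : X, IsDomain (X.presheaf.stalk x) ∧ IsIntegrallyClosed (X.presheaf.stalk x))
    (S : Finset X) (_ : ∀ x : X, ∃ s ∈ S, s ⤳ x) (_ : S.card ≤ n)
    (i : ℕ) (_ : 0 < i), Subsingleton (EtCoh.H X (EtCoh.const X ℚ) i) := by
  intro n
  induction n with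
  | zero =>
    intro X _ _ hN S hS hn i hi
    have hSe : S = ∅ := Finset.card_eq_zero.1 (Nat.le_zero.1 hn)
    haveI : IsEmpty X := ⟨fun x => by
      obtain ⟨s, hs, -⟩ := hS x
      rw [hSe] at hs
      exact absurd hs (Finset.notMem_empty _)⟩
    exact subsingleton_ext_of_isZero (isZero_of_isEmpty X _) i
  | succ n ih =>
    intro X _ _ hN S hS hn i hi
    classical
    by_cases hSe : S = ∅
    · haveI : IsEmpty X := ⟨fun x => by
        obtain ⟨s, hs, -⟩ := hS x
        rw [hSe] at hs
        exact absurd hs (Finset.notMem_empty _)⟩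
      exact subsingleton_ext_of_isZero (isZero_of_isEmpty X _) i
    obtain ⟨s₀, hs₀⟩ := Finset.nonempty_iff_ne_empty.2 hSe
    haveI : IsNoetherian X := {}
    have hdom : ∀ x : X, IsDomain (X.presheaf.stalk x) := fun x => (hN x).1
    let Z : Set X := irreducibleComponent s₀
    have hZ : Z ∈ irreducibleComponents X := irreducibleComponent_mem_irreducibleComponents s₀
    have hZo : IsOpen Z :=
      Groth.Agent.Helper4.NormalDecomp.isOpen_of_mem_irreducibleComponents X hdom hZ
    have hZc : IsClosed Z := isClosed_of_mem_irreducibleComponents Z hZ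
    let U : X.Opens := Groth.Agent.Helper4.NormalDecomp.comp X hdom ⟨Z, hZ⟩
    let V : X.Opens := ⟨Zᶜ, hZc.isOpen_compl⟩
    have hUV : U ⊔ V = ⊤ := by
      rw [eq_top_iff]
      intro x _
      by_cases hx : x ∈ Z
      · exact Or.inl hx
      · exact Or.inr hx
    haveI : IsIntegral (U : Scheme.{u}) :=
      Groth.Agent.Helper4.NormalDecomp.isIntegral_comp X hdom ⟨Z, hZ⟩
    have hNU : ∀ x : (U : Scheme.{u}),
        IsIntegrallyClosed ((U : Scheme.{u}).presheaf.stalk x) := fun x =>
      ((Groth.Agent.S0066.result U.ι x).2 (hN _)).2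
    have hU : Subsingleton (EtCoh.H U (EtCoh.const U ℚ) i) := integral_case U hNU i hi
    haveI : IsLocallyNoetherian (V : Scheme.{u}) := isLocallyNoetherian_of_isOpenImmersion V.ι
    haveI : CompactSpace (V : Scheme.{u}) :=
      isCompact_iff_compactSpace.1 hZo.isClosed_compl.isCompact
    have hNV : ∀ x : (V : Scheme.{u}), IsDomain ((V : Scheme.{u}).presheaf.stalk x) ∧
        IsIntegrallyClosed ((V : Scheme.{u}).presheaf.stalk x) := fun x =>
      (Groth.Agent.S0066.result V.ι x).2 (hN _)
    let SV : Finset (V : Scheme.{u}) := S.subtype (· ∈ V)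
    have hSV : ∀ x : (V : Scheme.{u}), ∃ s ∈ SV, s ⤳ x := by
      intro x
      obtain ⟨s, hs, hsx⟩ := hS x.1
      have hsV : s ∈ V := hsx.mem_open V.isOpen x.2
      refine ⟨⟨s, hsV⟩, Finset.mem_subtype.2 hs, ?_⟩
      exact (subtype_specializes_iff _ _).2 hsx
    have hcard : SV.card ≤ n := by
      show (S.subtype (· ∈ V)).card ≤ n
      rw [Finset.card_subtype]
      have hsub : S.filter (· ∈ V) ⊆ S.erase s₀ := by
        intro s hs
        rw [Finset.mem_filter] at hs
        rw [Finset.mem_erase]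
        refine ⟨?_, hs.1⟩
        rintro rfl
        exact hs.2 mem_irreducibleComponent
      calc (S.filter (· ∈ V)).card ≤ (S.erase s₀).card := Finset.card_le_card hsub
        _ = S.card - 1 := Finset.card_erase_of_mem hs₀
        _ ≤ n := by omega
    have hV : Subsingleton (EtCoh.H V (EtCoh.const V ℚ) i) := ih V hNV SV hSV hcard i hi
    obtain ⟨i', rfl⟩ : ∃ i', i = i' + 1 := ⟨i - 1, by omega⟩
    obtain ⟨δ, -, h2, -, -⟩ := Groth.Agent.S0659.result X U V hUV (EtCoh.const X ℚ)
    haveI : IsEmpty ((U ⊓ V : X.Opens) : Scheme.{u}) := ⟨fun x => x.2.2 x.2.1⟩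
    haveI : Subsingleton (EtCoh.H ↑(U ⊓ V) ((EtCoh.pull (U ⊓ V).ι).obj (EtCoh.const X ℚ)) i') :=
      subsingleton_ext_of_isZero (isZero_of_isEmpty _ _) i'
    haveI : Subsingleton (EtCoh.H U ((EtCoh.pull U.ι).obj (EtCoh.const X ℚ)) (i' + 1)) :=
      subsingleton_ext_of_iso (EtCore.pullConst U.ι ℚ) _ hU
    haveI : Subsingleton (EtCoh.H V ((EtCoh.pull V.ι).obj (EtCoh.const X ℚ)) (i' + 1)) :=
      subsingleton_ext_of_iso (EtCore.pullConst V.ι ℚ) _ hV
    apply subsingleton_of_forall_eq 0
    intro x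
    have hx : x ∈ (AddMonoidHom.prod (EtCore.Hpull U.ι (EtCoh.const X ℚ) (i' + 1))
        (EtCore.Hpull V.ι (EtCoh.const X ℚ) (i' + 1))).ker := by
      rw [AddMonoidHom.mem_ker]
      exact Subsingleton.elim _ _
    rw [h2 i'] at hx
    obtain ⟨y, rfl⟩ := hx
    rw [Subsingleton.elim y 0, map_zero]

theorem main (X : Scheme.{u}) [IsLocallyNoetherian X] [CompactSpace X]
    (hN : ∀ x : X, IsDomain (X.presheaf.stalk x) ∧ IsIntegrallyClosed (X.presheaf.stalk x))
    (i : ℕ) (hi : 0 < i) :
    Subsingleton (EtCoh.H X (EtCoh.const X ℚ) i) := by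
  classical
  haveI : IsNoetherian X := {}
  haveI : Fintype (irreducibleComponents X) :=
    (TopologicalSpace.NoetherianSpace.finite_irreducibleComponents (α := X)).fintype
  let gp : irreducibleComponents X → X := fun Z => Z.2.1.genericPoint
  let S : Finset X := Finset.univ.image gp
  refine main_aux S.card X hN S ?_ le_rfl i hi
  intro x
  let Z : irreducibleComponents X :=
    ⟨irreducibleComponent x, irreducibleComponent_mem_irreducibleComponents x⟩
  refine ⟨gp Z, Finset.mem_image_of_mem _ (Finset.mem_univ _), ?_⟩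
  have hcl : IsClosed Z.1 := isClosed_of_mem_irreducibleComponents Z.1 Z.2
  exact (Z.2.1.isGenericPoint_genericPoint hcl).specializes mem_irreducibleComponent

end helpers

open CategoryTheory AlgebraicGeometry in
/-- For a Noetherian normal scheme X (quasi-compact, locally Noetherian, all local rings integrally
closed domains), the cohomology of the constant sheaf ℚ on the small etale site of X vanishes in
every positive degree. -/
theorem result (X : Scheme.{u}) [IsLocallyNoetherian X] [CompactSpace X]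
    (hN : ∀ x : X, IsDomain (X.presheaf.stalk x) ∧ IsIntegrallyClosed (X.presheaf.stalk x))
    (i : ℕ) (hi : 0 < i) :
    Subsingleton (EtCoh.H X (EtCoh.const X ℚ) i) := by
  exact main X hN i hi

end Groth.Agent.S13956
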