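import Groth.Statements.S13963
import Mathlib.Topology.Algebra.Group.OpenMapping
import Mathlib.Topology.Baire.LocallyCompactRegular
import Mathlib.Topology.Compactness.SigmaCompact

set_option autoImplicit false
universe u
open TateLoc

namespace Groth.Agent.S13963

/-- Let A' → A → A'' be continuous homomorphisms of locally compact, second-countable, Hausdorff abelian
topological groups which form a short exact sequence of abstract groups (the first injective, the
second surjective, image equal to kernel). If A' and A'' are compact, then A is compact. -/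
theorem result (A' A A'' : Type u)
    [AddCommGroup A'] [TopologicalSpace A'] [IsTopologicalAddGroup A'] [SecondCountableTopology A'] [T2Space A']
    [CompactSpace A']
    [AddCommGroup A] [TopologicalSpace A] [IsTopologicalAddGroup A] [LocallyCompactSpace A]
    [SecondCountableTopology A] [T2Space A]
    [AddCommGroup A''] [TopologicalSpace A''] [IsTopologicalAddGroup A''] [SecondCountableTopology A''] [T2Space A'']
    [CompactSpace A'']
    (f : A' →+ A) (g : A →+ A'') (hf : Continuous f) (hg : Continuous g)
    (hinj : Function.Injective f) (hsurj : Function.Surjective g) (hex : g.ker = f.range) :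
    CompactSpace A := by
  have hopen : IsOpenMap g := AddMonoidHom.isOpenMap_of_sigmaCompact g hsurj hg
  -- choose compact neighbourhoods
  choose s hs using hsurj
  have hK : ∀ y : A'', ∃ K : Set A, IsCompact K ∧ K ∈ nhds (s y) := fun y =>
    exists_compact_mem_nhds (s y)
  choose K hKc hKn using hK
  have hU : ∀ y : A'', g '' (K y) ∈ nhds y := by
    intro y
    have := hopen.image_mem_nhds (hKn y)
    rwa [hs y] at this
  obtain ⟨t, ht⟩ := CompactSpace.elim_nhds_subcover (fun y => g '' (K y)) hU
  let L : Set A := ⋃ y ∈ t, K y
  have hL : IsCompact L := t.isCompact_biUnion (fun y _ => hKc y)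
  have hcomp : IsCompact (Set.image (fun p : A × A' => p.1 + f p.2) (L ×ˢ Set.univ)) := by
    refine IsCompact.image (hL.prod isCompact_univ) ?_
    exact continuous_fst.add (hf.comp continuous_snd)
  have huniv : Set.image (fun p : A × A' => p.1 + f p.2) (L ×ˢ Set.univ) = Set.univ := by
    rw [Set.eq_univ_iff_forall]
    intro a
    have hga : g a ∈ ⋃ y ∈ t, g '' (K y) := by rw [ht]; trivial
    simp only [Set.mem_iUnion] at hga
    obtain ⟨y, hy, k, hk, hgk⟩ := hga
    have hker : a - k ∈ g.ker := by
      rw [AddMonoidHom.mem_ker, map_sub, hgk, sub_self]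
    rw [hex] at hker
    obtain ⟨a', ha'⟩ := hker
    refine ⟨(k, a'), ⟨?_, Set.mem_univ _⟩, ?_⟩
    · simp only [L, Set.mem_iUnion]
      exact ⟨y, hy, hk⟩
    · simp only [ha']
      abel
  rw [huniv] at hcomp
  exact isCompact_univ_iff.mp hcomp

end Groth.Agent.S13963
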