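import Groth.Statements.S13972
import Groth.Agent.Lib.Helper21.KL5

set_option autoImplicit false
universe u
open LCI

namespace Groth.Agent.S13972

/-- Let A' be an Artinian local ring, I a proper ideal of A', A = A'/I, R' a Noetherian A'-algebra flat
over A' and R = R'/IR'. Let f₁, …, f_r ∈ R be a Koszul-regular sequence (its Koszul complex is
acyclic in nonzero degrees) such that R/(f₁, …, f_r) is flat over A. Then: (1) for every choice of
lifts f'₁, …, f'_r ∈ R' of the f_i, the quotient R'/(f'₁, …, f'_r) is flat over A' and f'₁, …, f'_r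
is a Koszul-regular sequence in R'; (2) if J' ⊆ R' is an ideal with R'/J' flat over A' whose image
in R is the ideal (f₁, …, f_r), then J' is generated by any lifts f'₁, …, f'_r ∈ J' of the f_i. (The
published statement takes R' = R₀ ⊗_Λ A' for a flat Λ-algebra R₀ and a surjection A' → A of Artinian
local Λ-algebras; this row assumes only that R' is Noetherian and flat over A' and that I is a
proper ideal, which is what its proof uses. Regularity of a sequence is taken there in every
localization at a prime containing the ideal it generates, which over a Noetherian ring is the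
Koszul-acyclicity used in the proof and stated here.) -/
theorem result
    {A' : Type u} [CommRing A'] [IsLocalRing A'] [IsArtinianRing A'] (I : Ideal A') (hI : I ≠ ⊤)
    {R' : Type u} [CommRing R'] [Algebra A' R'] [IsNoetherianRing R'] [Module.Flat A' R']
    (r : ℕ) (f : Fin r → R' ⧸ I.map (algebraMap A' R'))
    (hf : LCI.IsKoszulRegularSeq (R' ⧸ I.map (algebraMap A' R')) (List.ofFn f))
    [Module.Flat (A' ⧸ I) ((R' ⧸ I.map (algebraMap A' R')) ⧸ Ideal.span (Set.range f))] :
    (∀ f' : Fin r → R', (∀ i, Ideal.Quotient.mk (I.map (algebraMap A' R')) (f' i) = f i) →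
        Module.Flat A' (R' ⧸ Ideal.span (Set.range f')) ∧ LCI.IsKoszulRegularSeq R' (List.ofFn f')) ∧
    (∀ (J' : Ideal R'), Module.Flat A' (R' ⧸ J') →
        J'.map (Ideal.Quotient.mk (I.map (algebraMap A' R'))) = Ideal.span (Set.range f) →
        ∀ f' : Fin r → R', (∀ i, f' i ∈ J') →
          (∀ i, Ideal.Quotient.mk (I.map (algebraMap A' R')) (f' i) = f i) →
          J' = Ideal.span (Set.range f')) := by
  classical
  have hIle : I ≤ IsLocalRing.maximalIdeal A' := IsLocalRing.le_maximalIdeal hI
  obtain ⟨n, hn⟩ : ∃ n : ℕ, I ^ n = ⊥ := by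
    have h := IsArtinianRing.isNilpotent_jacobson_bot (R := A')
    rw [IsLocalRing.jacobson_eq_maximalIdeal ⊥ bot_ne_top] at h
    obtain ⟨n, hn⟩ := h
    have h2 := Ideal.pow_right_mono hIle n
    rw [hn, Ideal.zero_eq_bot] at h2
    exact ⟨n, le_bot_iff.mp h2⟩
  have part1 : ∀ f' : Fin r → R',
      (∀ i, Ideal.Quotient.mk (I.map (algebraMap A' R')) (f' i) = f i) →
      Module.Flat A' (R' ⧸ Ideal.span (Set.range f')) ∧
        LCI.IsKoszulRegularSeq R' (List.ofFn f') := by
    intro f' hf'
    have hlist : (List.ofFn f').map (Ideal.Quotient.mk (I.map (algebraMap A' R'))) =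
        List.ofFn f := by
      rw [List.map_ofFn]
      congr 1
      funext i
      exact hf' i
    have h0 : ∀ i : ℤ, i ≠ 0 →
        Groth.Agent.Helper21.KL.AcycAt (List.ofFn f') (TensorProduct A' R' (A' ⧸ I)) i := by
      intro i hi
      apply Groth.Agent.Helper21.KL.acycAt_of_quotient I
      rw [hlist]
      exact (Groth.Agent.Helper21.KL.isKoszulRegularSeq_iff _).mp hf i hi
    have hK : Ideal.span (Set.range f) = (Ideal.ofList (List.ofFn f')).map
        (Ideal.Quotient.mkₐ A' (I.map (algebraMap A' R'))) := by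
      rw [Groth.Agent.Helper21.KL.ofList_ofFn, Ideal.map_span, ← Set.range_comp]
      congr 2
      funext i
      exact (hf' i).symm
    haveI := Groth.Agent.Helper21.KL.flat_tensor_quot I (Ideal.ofList (List.ofFn f'))
      (Ideal.span (Set.range f)) hK
    obtain ⟨h1, h2⟩ := Groth.Agent.Helper21.KL.main (List.ofFn f') I n hn h0
    rw [Groth.Agent.Helper21.KL.ofList_ofFn] at h1
    exact ⟨h1, (Groth.Agent.Helper21.KL.isKoszulRegularSeq_iff _).mpr h2⟩
  refine ⟨part1, ?_⟩
  intro J' hJ' hmap f' hmem hf'
  obtain ⟨h1, -⟩ := part1 f' hf'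
  have hle : Ideal.span (Set.range f') ≤ J' :=
    Ideal.span_le.mpr (by rintro _ ⟨i, rfl⟩; exact hmem i)
  apply Groth.Agent.Helper21.KL.eq_of_flat_quotients (I := I) _ J' hle n hn
  rw [hmap, Ideal.map_span, ← Set.range_comp]
  congr 2
  funext i
  exact (hf' i).symm

end Groth.Agent.S13972
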