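import Groth.Statements.S13985
-- import your own Groth.Agent.* helpers here

set_option autoImplicit false
universe u
open CategoryTheory
open CohGab

namespace Groth.Agent.S13985

/-- For a ring A, the canonical map from the centre of A to the centre of the category of finitely
generated left A-modules (the endomorphism ring of its identity functor), sending a to
multiplication by a, is bijective: every natural endomorphism of the identity functor acts on each
finitely generated module as multiplication by a unique element of A, and that element is central.
(The published statement calls this map an isomorphism of commutative rings; this row states its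
bijectivity.) -/
theorem result (A : Type u) [Ring A]
    (φ : 𝟭 (FGModuleCat.{u} A) ⟶ 𝟭 (FGModuleCat.{u} A)) :
    ∃! a : A, a ∈ Subring.center A ∧
      ∀ (M : FGModuleCat.{u} A) (x : M), (φ.app M).hom.hom x = a • x := by
  set AA : FGModuleCat.{u} A := FGModuleCat.of A A with hAA
  set a : A := (φ.app AA).hom.hom (1 : A) with ha
  have key : ∀ (M : FGModuleCat.{u} A) (x : M), (φ.app M).hom.hom x = a • x := by
    intro M x
    let f : AA ⟶ M :=
      (FGModuleCat.ofHom (LinearMap.toSpanSingleton A M x) : FGModuleCat.of A A ⟶ FGModuleCat.of A M)
    have hnat := φ.naturality f
    have h2 := congrArg (fun g => g.hom.hom (1 : A)) hnat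
    simp only [Functor.id_map, FGModuleCat.hom_hom_comp, LinearMap.comp_apply] at h2
    have hf1 : f.hom.hom (1 : A) = x := by
      show (LinearMap.toSpanSingleton A M x) 1 = x
      simp
    have hfa : f.hom.hom a = a • x := by
      show (LinearMap.toSpanSingleton A M x) a = a • x
      simp
    rw [hf1] at h2
    rw [h2]
    exact hfa
  have hcen : a ∈ Subring.center A := by
    rw [Subring.mem_center_iff]
    intro b
    have h1 := key AA b
    have h3 : (φ.app AA).hom.hom (b • (1 : A)) = b • (φ.app AA).hom.hom (1 : A) :=
      map_smul _ _ _
    have h4 : (b • (1 : A) : A) = b := by simp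
    rw [h4] at h3
    have h5 : (φ.app AA).hom.hom b = b * a := h3
    have h6 : (φ.app AA).hom.hom b = a * b := h1
    rw [← h5, h6]
  refine ⟨a, ⟨hcen, key⟩, ?_⟩
  rintro a' ⟨-, ha'⟩
  have := ha' AA (1 : A)
  have h7 : a' • (1 : A) = a' := by simp
  rw [h7] at this
  exact this.symm

end Groth.Agent.S13985
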