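import Groth.Statements.S13991
import Groth.Agent.Lib.Helper13.CohSupp
import Groth.Agent.Lib.Helper9.CohGraph
import Groth.Agent.Lib.Helper13.QCohFin

set_option autoImplicit false
universe u
open CategoryTheory AlgebraicGeometry
open CohGab

namespace Groth.Agent.S13991

/-- Let X be a Noetherian scheme and Z ⊆ X a closed subset. Then Z is irreducible (or empty) if and only
if Coh_Z(X), the coherent O_X-modules supported in Z, is an irreducible Serre subcategory of Coh(X),
i.e. it is not generated as a Serre subcategory by two Serre subcategories properly contained in it: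
whenever J₁, J₂ are Serre classes on coherent modules (middle term of a short exact sequence of
coherent modules belongs iff both outer terms do), both contained in Coh_Z, such that every Serre
class on coherent modules containing J₁ and J₂ contains Coh_Z, then J₁ or J₂ contains Coh_Z.
Consequently the points of X correspond to the irreducible Serre subcategories of finite type other
than the zero subcategory. (The published statement says 'Z is irreducible iff Coh_Z is irreducible'
and deduces a bijection between the points of X and all irreducible Serre subcategories of finite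
type; the zero subcategory Coh_∅ is irreducible in this sense while ∅ is not an irreducible space,
so irreducibility of Z is read here as 'irreducible or empty'. The published statement is also about
coherent sheaves twisted by a class in the second etale cohomology group of the units of the
structure sheaf; this row is its case of the trivial class.) -/
theorem result (X : Scheme.{u}) [IsNoetherian X]
    (Z : TopologicalSpace.Closeds X) :
    IsPreirreducible (↑Z : Set X) ↔
    ∀ J₁ J₂ : ObjectProperty X.Modules, (∀ S : ShortComplex X.Modules, S.ShortExact → Coh.IsCoh S.X₁ → Coh.IsCoh S.X₂ →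
        Coh.IsCoh S.X₃ → (J₁ S.X₂ ↔ J₁ S.X₁ ∧ J₁ S.X₃)) → (∀ S : ShortComplex X.Modules, S.ShortExact → Coh.IsCoh S.X₁ → Coh.IsCoh S.X₂ →
        Coh.IsCoh S.X₃ → (J₂ S.X₂ ↔ J₂ S.X₁ ∧ J₂ S.X₃)) →
      (∀ M : X.Modules, Coh.IsCoh M → J₁ M → CohB1.support M ⊆ (↑Z : Set X)) →
      (∀ M : X.Modules, Coh.IsCoh M → J₂ M → CohB1.support M ⊆ (↑Z : Set X)) →
      (∀ Q : ObjectProperty X.Modules, (∀ S : ShortComplex X.Modules, S.ShortExact → Coh.IsCoh S.X₁ → Coh.IsCoh S.X₂ →
        Coh.IsCoh S.X₃ → (Q S.X₂ ↔ Q S.X₁ ∧ Q S.X₃)) →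
        (∀ M : X.Modules, Coh.IsCoh M → J₁ M → Q M) → (∀ M : X.Modules, Coh.IsCoh M → J₂ M → Q M) →
        ∀ M : X.Modules, Coh.IsCoh M → CohB1.support M ⊆ (↑Z : Set X) → Q M) →
      (∀ M : X.Modules, Coh.IsCoh M → CohB1.support M ⊆ (↑Z : Set X) → J₁ M) ∨
        (∀ M : X.Modules, Coh.IsCoh M → CohB1.support M ⊆ (↑Z : Set X) → J₂ M) := by
  classical
  have hsuppSerre : ∀ T : Set X, ∀ S : ShortComplex X.Modules, S.ShortExact → Coh.IsCoh S.X₁ →
      Coh.IsCoh S.X₂ → Coh.IsCoh S.X₃ → (CohB1.support S.X₂ ⊆ T ↔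
        CohB1.support S.X₁ ⊆ T ∧ CohB1.support S.X₃ ⊆ T) := fun T S hS _ _ _ =>
    Groth.Agent.Helper13.SerreSupp.support_subset_iff_of_shortExact S hS T
  constructor
  · intro hirr J₁ J₂ hJ₁ hJ₂ hJ₁Z hJ₂Z hgen
    by_cases h1 : ∃ N : X.Modules, Coh.IsCoh N ∧ J₁ N ∧ (↑Z : Set X) ⊆ CohB1.support N
    · obtain ⟨N, hN, hJN, hZN⟩ := h1
      left
      intro M hM hMZ
      exact Groth.Agent.Helper13.SerreSupp.serre_of_support_subset J₁ hJ₁ N M hN hM hJN
        (hMZ.trans hZN)
    by_cases h2 : ∃ N : X.Modules, Coh.IsCoh N ∧ J₂ N ∧ (↑Z : Set X) ⊆ CohB1.support N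
    · obtain ⟨N, hN, hJN, hZN⟩ := h2
      right
      intro M hM hMZ
      exact Groth.Agent.Helper13.SerreSupp.serre_of_support_subset J₂ hJ₂ N M hN hM hJN
        (hMZ.trans hZN)
    exfalso
    obtain ⟨G, hG1, hG2, hG3⟩ := Groth.Agent.Helper13.CohSupp.exists_coh_support_eq Z
    have hQ : ∀ S : ShortComplex X.Modules, S.ShortExact → Coh.IsCoh S.X₁ → Coh.IsCoh S.X₂ →
        Coh.IsCoh S.X₃ →
        (¬ ((↑Z : Set X) ⊆ CohB1.support S.X₂) ↔ ¬ ((↑Z : Set X) ⊆ CohB1.support S.X₁) ∧
          ¬ ((↑Z : Set X) ⊆ CohB1.support S.X₃)) := by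
      intro S hS h1' h2' h3'
      have hunion : CohB1.support S.X₂ = CohB1.support S.X₁ ∪ CohB1.support S.X₃ := by
        ext z
        exact Groth.Agent.Helper13.SerreSupp.mem_support_iff_of_shortExact S hS z
      rw [hunion, ← not_or, not_iff_not]
      constructor
      · intro h
        exact (isPreirreducible_iff_isClosed_union_isClosed.1 hirr) _ _
          (Groth.Agent.S0020.result X _ h1'.2) (Groth.Agent.S0020.result X _ h3'.2) h
      · rintro (h | h)
        · exact h.trans Set.subset_union_left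
        · exact h.trans Set.subset_union_right
    have hfin := hgen (fun M => ¬ ((↑Z : Set X) ⊆ CohB1.support M)) hQ
      (fun M hM hJM hZM => h1 ⟨M, hM, hJM, hZM⟩) (fun M hM hJM hZM => h2 ⟨M, hM, hJM, hZM⟩)
      G ⟨hG1, hG2⟩ hG3.le
    exact hfin hG3.ge
  · intro h
    rw [isPreirreducible_iff_isClosed_union_isClosed]
    intro z₁ z₂ hz₁ hz₂ hZ
    let Z₁ : TopologicalSpace.Closeds X := ⟨(↑Z : Set X) ∩ z₁, Z.isClosed.inter hz₁⟩
    let Z₂ : TopologicalSpace.Closeds X := ⟨(↑Z : Set X) ∩ z₂, Z.isClosed.inter hz₂⟩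
    obtain ⟨G₁, hG₁1, hG₁2, hG₁3⟩ := Groth.Agent.Helper13.CohSupp.exists_coh_support_eq Z₁
    obtain ⟨G₂, hG₂1, hG₂2, hG₂3⟩ := Groth.Agent.Helper13.CohSupp.exists_coh_support_eq Z₂
    obtain ⟨G, hG1, hG2, hG3⟩ := Groth.Agent.Helper13.CohSupp.exists_coh_support_eq Z
    have hres := h (fun M => CohB1.support M ⊆ (↑Z : Set X) ∩ z₁)
      (fun M => CohB1.support M ⊆ (↑Z : Set X) ∩ z₂) (hsuppSerre _) (hsuppSerre _)
      (fun M _ hM => hM.trans Set.inter_subset_left) (fun M _ hM => hM.trans Set.inter_subset_left)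
      ?_
    · rcases hres with h' | h'
      · left
        have h3 := h' G ⟨hG1, hG2⟩ hG3.le
        rw [hG3] at h3
        exact h3.trans Set.inter_subset_right
      · right
        have h3 := h' G ⟨hG1, hG2⟩ hG3.le
        rw [hG3] at h3
        exact h3.trans Set.inter_subset_right
    · intro Q hQ hQ1 hQ2 M hM hMZ
      have hQG₁ : Q G₁ := hQ1 G₁ ⟨hG₁1, hG₁2⟩ hG₁3.le
      have hQG₂ : Q G₂ := hQ2 G₂ ⟨hG₂1, hG₂2⟩ hG₂3.le
      haveI := hG₁1
      haveI := hG₁2
      haveI := hG₂1
      haveI := hG₂2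
      have hcohB : Coh.IsCoh (G₁ ⊞ G₂ : X.Modules) :=
        ⟨Groth.Agent.Helper13.QCohFin.isQuasicoherent_biprod G₁ G₂,
          Groth.Agent.Helper9.CohGraph.isFiniteType_biprod G₁ G₂⟩
      have hS : (ShortComplex.mk (Limits.biprod.inl : G₁ ⟶ G₁ ⊞ G₂) (Limits.biprod.snd : G₁ ⊞ G₂ ⟶ G₂)
          Limits.biprod.inl_snd).ShortExact :=
        (ShortComplex.Splitting.ofHasBinaryBiproduct G₁ G₂).shortExact
      have hQB : Q (G₁ ⊞ G₂ : X.Modules) :=
        (hQ _ hS ⟨hG₁1, hG₁2⟩ hcohB ⟨hG₂1, hG₂2⟩).2 ⟨hQG₁, hQG₂⟩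
      apply Groth.Agent.Helper13.SerreSupp.serre_of_support_subset Q hQ (G₁ ⊞ G₂ : X.Modules) M
        hcohB hM hQB
      intro z hz
      apply (Groth.Agent.Helper13.SerreSupp.mem_support_iff_of_shortExact _ hS z).2
      have hzZ := hMZ hz
      rcases hZ hzZ with h' | h'
      · left
        exact hG₁3.ge ⟨hzZ, h'⟩
      · right
        exact hG₂3.ge ⟨hzZ, h'⟩

end Groth.Agent.S13991
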