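import Groth.Statements.S13996
import Mathlib.RingTheory.Ideal.Height
import Mathlib.RingTheory.Ideal.MinimalPrime.Noetherian
import Mathlib.RingTheory.Ideal.MinimalPrime.Localization
import Mathlib.RingTheory.Regular.IsSMulRegular
import Mathlib.RingTheory.Nilpotent.Lemmas
import Mathlib.RingTheory.Ideal.AssociatedPrime.Finiteness
-- import your own Groth.Agent.* helpers here

set_option autoImplicit false
universe u
open CAlg

namespace Groth.Agent.S13996

lemma enat_aux (a : ℕ∞) (h : a + 1 ≤ 1) : a = 0 := by
  induction a using ENat.recTopCoe with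
  | top => simp at h
  | coe n =>
    have : (n : ℕ∞) + 1 = ((n + 1 : ℕ) : ℕ∞) := by push_cast; rfl
    rw [this] at h
    have h' : n + 1 ≤ 1 := by exact_mod_cast h
    have : n = 0 := by omega
    simp [this]

section
variable (R : Type u) [CommRing R] [IsLocalRing R] [IsNoetherianRing R]

lemma height_max (hdim : ringKrullDim R = 1) : (IsLocalRing.maximalIdeal R).height = 1 := by
  have h := IsLocalRing.maximalIdeal_height_eq_ringKrullDim (R := R)
  rw [hdim] at h
  exact_mod_cast h

lemma minimal_of_ne_max (hdim : ringKrullDim R = 1) (p : Ideal R) [p.IsPrime]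
    (hp : p ≠ IsLocalRing.maximalIdeal R) : p ∈ minimalPrimes R := by
  have hlt : p < IsLocalRing.maximalIdeal R :=
    lt_of_le_of_ne (IsLocalRing.le_maximalIdeal (Ideal.IsPrime.ne_top inferInstance)) hp
  have h1 := Ideal.height_add_one_le_of_lt_of_isPrime hlt
  rw [height_max R hdim] at h1
  exact Ideal.height_eq_zero_iff.mp (enat_aux _ h1)

lemma max_not_minimal (hdim : ringKrullDim R = 1) :
    IsLocalRing.maximalIdeal R ∉ minimalPrimes R := by
  intro h
  have := Ideal.height_eq_zero_iff.mpr h
  rw [height_max R hdim] at this
  exact one_ne_zero this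

lemma exists_regular [IsReduced R] (hdim : ringKrullDim R = 1) :
    ∃ r ∈ IsLocalRing.maximalIdeal R, IsSMulRegular R r := by
  have hfin : (minimalPrimes R).Finite := minimalPrimes.finite_of_isNoetherianRing R
  have hnot : ¬ ((IsLocalRing.maximalIdeal R : Set R) ⊆ ⋃ q ∈ minimalPrimes R, (q : Set R)) := by
    intro hsub
    obtain ⟨q, hq, hle⟩ := (Ideal.subset_union_prime_finite hfin (f := id) ⊥ ⊥
      (fun q hq _ _ => hq.1.1)).mp hsub
    have hqm : q = IsLocalRing.maximalIdeal R :=
      ((IsLocalRing.maximalIdeal.isMaximal R).eq_of_le hq.1.1.ne_top hle).symm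
    exact max_not_minimal R hdim (hqm ▸ hq)
  obtain ⟨r, hrm, hr⟩ := Set.not_subset.mp hnot
  refine ⟨r, hrm, ?_⟩
  rw [isSMulRegular_iff_right_eq_zero_of_smul]
  intro y hy
  by_contra hy0
  have hyn : y ∉ Ideal.radical (⊥ : Ideal R) := by
    have : Ideal.radical (⊥ : Ideal R) = ⊥ := nilradical_eq_bot_iff.mpr inferInstance
    rw [this]
    exact hy0
  rw [← Ideal.sInf_minimalPrimes, Ideal.mem_sInf] at hyn
  push Not at hyn
  obtain ⟨q, hq, hyq⟩ := hyn
  apply hr
  simp only [Set.mem_iUnion]
  refine ⟨q, hq, ?_⟩
  have : r * y ∈ q := by
    have : r * y = 0 := hy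
    rw [this]; exact q.zero_mem
  rcases hq.1.1.mem_or_mem this with h | h
  · exact h
  · exact absurd h hyq
end

/-- Let R be a reduced Noetherian local ring of Krull dimension one with maximal ideal m, and M a
non-zero finitely generated R-module. Then M is torsion-free in the sense that no element of m which
is a non-zero-divisor on R is a zero-divisor on M, if and only if M has depth one, i.e. some element
of m is a non-zero-divisor on M. (The published statement is for a non-zero coherent sheaf F on a
connected reduced projective curve over a characteristic-zero algebraically closed field and asserts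
the equivalence of: F torsion-free in the above sense at every closed point; F pure of dimension
one; depth of F_p equal to one at every closed point p. This row is the equivalence of the first and
third conditions at a single closed point p with F_p ≠ 0; at points outside the support the third
condition as published cannot hold, so the row assumes the stalk non-zero.) -/
theorem result (R : Type u) [CommRing R] [IsLocalRing R] [IsNoetherianRing R] [IsReduced R] (hdim : ringKrullDim R = 1) (M : Type u) [AddCommGroup M] [Module R M] [Module.Finite R M] [Nontrivial M] : (∀ r : R, r ∈ IsLocalRing.maximalIdeal R → IsSMulRegular R r → IsSMulRegular M r) ↔ (∃ x : R, x ∈ IsLocalRing.maximalIdeal R ∧ IsSMulRegular M x) := by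
  constructor
  · intro h
    obtain ⟨r, hrm, hr⟩ := exists_regular R hdim
    exact ⟨r, hrm, h r hrm hr⟩
  · rintro ⟨x, hxm, hx⟩ r hrm hr
    have hreg := biUnion_associatedPrimes_eq_compl_regular R M
    by_contra hrM
    have hr' : r ∈ ({ r : R | IsSMulRegular M r }ᶜ : Set R) := hrM
    rw [← hreg] at hr'
    simp only [Set.mem_iUnion] at hr'
    obtain ⟨p, hp, hrp⟩ := hr'
    have hpprime : p.IsPrime := hp.1
    have hxp : x ∉ p := by
      intro hxp
      have : x ∈ ⋃ p ∈ associatedPrimes R M, (p : Set R) := by
        simp only [Set.mem_iUnion]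
        exact ⟨p, hp, hxp⟩
      rw [hreg] at this
      exact this hx
    have hpm : p ≠ IsLocalRing.maximalIdeal R := by
      rintro rfl
      exact hxp hxm
    have hpmin := minimal_of_ne_max R hdim p hpm
    have hnz : r ∈ nonZeroDivisors R := by
      rw [mem_nonZeroDivisors_iff_right]
      intro y hy
      rw [isSMulRegular_iff_right_eq_zero_of_smul] at hr
      apply hr y
      rw [smul_eq_mul, mul_comm]
      exact hy
    exact notMem_nonZeroDivisors_of_mem_mem_minimalPrimes hrp hpmin hnz

end Groth.Agent.S13996
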