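import Groth.Statements.S13997
import Groth.Agent.Lib.Helper2.ThickFG
-- import your own Groth.Agent.* helpers here

set_option autoImplicit false
universe u
open FlatMor

namespace Groth.Agent.S13997

section
open AlgebraicGeometry CategoryTheory

lemma appLE_congr {X Y : Scheme.{u}} {f g : X ⟶ Y} (h : f = g) (U : Y.Opens) (V : X.Opens)
    (e : V ≤ f ⁻¹ᵁ U) : f.appLE U V e = g.appLE U V (h ▸ e) := by
  subst h; rfl

theorem aux {X X₀ Y Y₀ : Scheme.{u}}
    (F : Y ⟶ X) (F₀ : Y₀ ⟶ X₀) (i : Y₀ ⟶ Y) (j : X₀ ⟶ X)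
    (hi : MoreMor.IsThickening i) (hj : MoreMor.IsThickening j)
    (hinil : ∀ U : Y.affineOpens, IsNilpotent (i.ker.ideal U))
    (hjnil : ∀ U : X.affineOpens, IsNilpotent (j.ker.ideal U))
    (hfg : ∀ U : Y.affineOpens, (i.ker.ideal U).FG)
    (w : F₀ ≫ j = i ≫ F) :
    LocallyOfFiniteType F ↔ LocallyOfFiniteType F₀ := by
  haveI : IsClosedImmersion i := hi.1
  haveI : IsClosedImmersion j := hj.1
  constructor
  · intro hF
    haveI : LocallyOfFiniteType (i ≫ F) := inferInstance
    haveI : LocallyOfFiniteType (F₀ ≫ j) := by rw [w]; infer_instance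
    exact locallyOfFiniteType_of_comp F₀ j
  · intro hF₀
    rw [HasRingHomProperty.iff_appLE (P := @LocallyOfFiniteType)]
    intro U V e
    have hV₀ : IsAffineOpen (i ⁻¹ᵁ V.1) := V.2.preimage i
    have hU₀ : IsAffineOpen (j ⁻¹ᵁ U.1) := U.2.preimage j
    have e₀ : i ⁻¹ᵁ V.1 ≤ F₀ ⁻¹ᵁ (j ⁻¹ᵁ U.1) := by
      intro y hy
      have h1 : i y ∈ F ⁻¹ᵁ U.1 := e hy
      have h2 : F (i y) = j (F₀ y) := by
        have := congrArg (fun f : Y₀ ⟶ X => f y) w
        simpa using this.symm
      show j (F₀ y) ∈ U.1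
      rw [← h2]; exact h1
    have hQ := HasRingHomProperty.appLE (P := @LocallyOfFiniteType) F₀ hF₀ ⟨_, hU₀⟩ ⟨_, hV₀⟩ e₀
    have hπ := i.app_surjective V.1 V.2
    have hker : i.ker.ideal V = RingHom.ker (i.app V.1).hom := Scheme.Hom.ker_apply i V
    have hcomm : (i.app V.1).hom.comp (F.appLE U.1 V.1 e).hom
        = (F₀.appLE (j ⁻¹ᵁ U.1) (i ⁻¹ᵁ V.1) e₀).hom.comp (j.app U.1).hom := by
      rw [← CommRingCat.hom_comp, ← CommRingCat.hom_comp]
      congr 1
      rw [Scheme.Hom.app_eq_appLE, Scheme.Hom.app_eq_appLE, Scheme.Hom.appLE_comp_appLE,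
        Scheme.Hom.appLE_comp_appLE]
      exact (appLE_congr w _ _ _).symm
    apply Groth.Agent.Helper2.ThickFG.finiteType_of_surjective _ (i.app V.1).hom hπ
    · rw [← hker]; exact hinil V
    · rw [← hker]; exact hfg V
    · rw [hcomm]
      exact hQ.comp (RingHom.FiniteType.of_surjective _ (j.app_surjective U.1 U.2))
end

open AlgebraicGeometry CategoryTheory in
/-- Consider a commutative square of schemes F₀ ≫ j = i ≫ F in which i : Y₀ ⟶ Y and j : X₀ ⟶ X are
closed immersions surjective on points whose ideals are locally nilpotent (nilpotent on every affine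
open), and suppose moreover that the ideal of i is of finite type (finitely generated on every
affine open of Y). Then F : Y ⟶ X is locally of finite type if and only if F₀ : Y₀ ⟶ X₀ is. The
square is not assumed cartesian and the ideal of j need not be of finite type. (The published
statement also asserts the version for morphisms of finite type; that version follows from this one,
because quasi-compactness of a morphism transfers along closed immersions surjective on points, and
it is not restated here.) -/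
theorem result {X X₀ Y Y₀ : Scheme.{u}}
    (F : Y ⟶ X) (F₀ : Y₀ ⟶ X₀) (i : Y₀ ⟶ Y) (j : X₀ ⟶ X)
    (hi : MoreMor.IsThickening i) (hj : MoreMor.IsThickening j)
    (hinil : ∀ U : Y.affineOpens, IsNilpotent (i.ker.ideal U))
    (hjnil : ∀ U : X.affineOpens, IsNilpotent (j.ker.ideal U))
    (hfg : ∀ U : Y.affineOpens, (i.ker.ideal U).FG)
    (w : F₀ ≫ j = i ≫ F) :
    LocallyOfFiniteType F ↔ LocallyOfFiniteType F₀ := by
  exact aux F F₀ i j hi hj hinil hjnil hfg w

end Groth.Agent.S13997
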