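import Groth.Statements.S14000
import Mathlib
-- import your own Groth.Agent.* helpers here

set_option autoImplicit false
universe u
open Perf

namespace Groth.Agent.S14000


open CategoryTheory CategoryTheory.Limits

lemma sc_key {A : Type u} [CommRing A] (S : ShortComplex (ModuleCat.{u} A)) (T : Submonoid A)
    (h : Subsingleton (LocalizedModule T S.homology)) (z : S.X₂) (hz : S.g z = 0) :
    ∃ t ∈ T, ∃ y : S.X₁, S.f y = t • z := by
  let e := S.moduleCatHomologyIso
  let z' : LinearMap.ker S.g.hom := ⟨z, hz⟩
  let c : S.moduleCatLeftHomologyData.H := (LinearMap.range S.moduleCatToCycles).mkQ z'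
  obtain ⟨t, htT, ht⟩ := LocalizedModule.subsingleton_iff.mp h (e.inv c)
  have h2 : t • c = 0 := by
    have := congrArg e.hom ht
    simpa using this
  have hmem : t • z' ∈ LinearMap.range S.moduleCatToCycles := by
    rw [← Submodule.Quotient.mk_eq_zero, Submodule.Quotient.mk_smul]
    exact h2
  obtain ⟨y, hy⟩ := hmem
  exact ⟨t, htT, y, congrArg Subtype.val hy⟩

lemma cc_key {A : Type u} [CommRing A] (P : CochainComplex (ModuleCat.{u} A) ℤ) (T : Submonoid A)
    (n : ℤ) (h : Subsingleton (LocalizedModule T (P.homology n))) (i k : ℤ) (hi : i + 1 = n)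
    (hk : n + 1 = k) (z : P.X n) (hz : P.d n k z = 0) :
    ∃ t ∈ T, ∃ y : P.X i, P.d i n y = t • z := by
  have e1 : (ComplexShape.up ℤ).prev n = i := by simp; lia
  have e2 : (ComplexShape.up ℤ).next n = k := by simp; lia
  subst e1 e2
  exact sc_key (P.sc n) T h z hz

lemma loc_exact {A : Type u} [CommRing A] (P : CochainComplex (ModuleCat.{u} A) ℤ)
    (T : Submonoid A) (hsupp : ∀ i : ℤ, Subsingleton (LocalizedModule T (P.homology i))) (i : ℤ) :
    Function.Exact (LocalizedModule.map T (P.d i (i + 1)).hom)
      (LocalizedModule.map T (P.d (i + 1) (i + 1 + 1)).hom) := by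
  intro x
  constructor
  · intro hx
    induction x using LocalizedModule.induction_on with | _ z t
    rw [LocalizedModule.map_mk, ← LocalizedModule.zero_mk t, LocalizedModule.mk_eq] at hx
    obtain ⟨u, hu⟩ := hx
    have hz : P.d (i + 1) (i + 1 + 1) (((u * t : T) : A) • z) = 0 := by
      have hu' : ((u : A) * (t : A)) • (P.d (i + 1) (i + 1 + 1)).hom z = 0 := by
        have := hu
        simp only [Submonoid.smul_def, smul_zero, smul_smul] at this
        exact this
      rw [map_smul]
      exact hu'
    obtain ⟨v, hv, y, hy⟩ := cc_key P T (i + 1) (hsupp _) i (i + 1 + 1) rfl rfl _ hz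
    refine ⟨LocalizedModule.mk y (⟨v, hv⟩ * (u * t) * t), ?_⟩
    rw [LocalizedModule.map_mk, LocalizedModule.mk_eq]
    refine ⟨1, ?_⟩
    have hy' : (P.d i (i + 1)).hom y = v • ((u * t : T) : A) • z := hy
    rw [hy']
    simp only [Submonoid.smul_def, Submonoid.coe_mul, smul_smul, Submonoid.coe_one]
    congr 1
    ring
  · rintro ⟨y, rfl⟩
    induction y using LocalizedModule.induction_on with | _ z t
    rw [LocalizedModule.map_mk, LocalizedModule.map_mk]
    have : (P.d (i + 1) (i + 1 + 1)).hom ((P.d i (i + 1)).hom z) = 0 := by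
      have := P.d_comp_d i (i + 1) (i + 1 + 1)
      exact congr($(this) z)
    rw [this, LocalizedModule.zero_mk]

lemma euler_char {R : Type*} [CommRing R] [IsLocalRing R] (M : ℤ → Type*)
    [∀ i, AddCommGroup (M i)] [∀ i, Module R (M i)]
    [∀ i, Module.Finite R (M i)] [∀ i, Module.Projective R (M i)]
    (d : ∀ i, M i →ₗ[R] M (i + 1)) (hex : ∀ i, Function.Exact (d i) (d (i + 1)))
    (s : Finset ℤ) (hs : ∀ i, i ∉ s → Subsingleton (M i)) :
    ∑ i ∈ s, ((i.negOnePow : ℤˣ) : ℤ) * (Module.finrank R (M i) : ℤ) = 0 := by
  let K : ∀ i, Submodule R (M i) := fun i => LinearMap.ker (d i)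
  have hdd : ∀ i (x : M i), d (i + 1) (d i x) = 0 := fun i x => (hex i _).mpr ⟨x, rfl⟩
  let g : ∀ i, M i →ₗ[R] K (i + 1) := fun i =>
    (d i).codRestrict (K (i + 1)) (fun x => LinearMap.mem_ker.mpr (hdd i x))
  have hsurj : ∀ i, Function.Surjective (g i) := by
    rintro i ⟨y, hy⟩
    obtain ⟨x, hx⟩ := (hex i y).mp (LinearMap.mem_ker.mp hy)
    exact ⟨x, Subtype.ext hx⟩
  have hexact : ∀ i, Function.Exact (K i).subtype (g i) := by
    intro i x
    constructor
    · intro hx
      refine ⟨⟨x, ?_⟩, rfl⟩
      exact LinearMap.mem_ker.mpr (congrArg Subtype.val hx)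
    · rintro ⟨⟨y, hy⟩, rfl⟩
      exact Subtype.ext (LinearMap.mem_ker.mp hy)
  have split : ∀ i, Module.Projective R (K (i + 1)) →
      Nonempty (M i ≃ₗ[R] K i × K (i + 1)) := by
    intro i hp
    obtain ⟨l, hl⟩ := Module.projective_lifting_property (g i) LinearMap.id (hsurj i)
    exact ⟨(((hexact i).splitSurjectiveEquiv (Submodule.injective_subtype _)) ⟨l, hl⟩).1⟩
  have projstep : ∀ i, Module.Projective R (K (i + 1)) → Module.Projective R (K i) := by
    intro i hp
    obtain ⟨e⟩ := split i hp
    have : Module.Projective R (K i × K (i + 1)) := Module.Projective.of_equiv e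
    exact Module.Projective.of_split (LinearMap.inl R (K i) (K (i + 1)))
      (LinearMap.fst R (K i) (K (i + 1))) (by ext; simp)
  obtain ⟨N, hN⟩ := s.bddAbove
  have hsubM : ∀ i, Subsingleton (M i) → Subsingleton (K i) := fun i _ =>
    ⟨fun a b => Subtype.ext (Subsingleton.elim _ _)⟩
  have hsub : ∀ i, N < i → Subsingleton (K i) := fun i hi =>
    hsubM i (hs i (fun h => absurd (hN h) (not_le.mpr hi)))
  have hproj_nat : ∀ n : ℕ, Module.Projective R (K (N + 1 - n)) := by
    intro n
    induction n with
    | zero =>
      have := hsub (N + 1 - (0 : ℕ)) (by simp)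
      infer_instance
    | succ n ih =>
      have h1 : N + 1 - ((n + 1 : ℕ) : ℤ) + 1 = N + 1 - n := by push_cast; ring
      apply projstep
      rw [h1]
      exact ih
  have hproj : ∀ i, Module.Projective R (K i) := by
    intro i
    by_cases hi : N < i
    · have := hsub i hi
      infer_instance
    · obtain ⟨n, hn⟩ := Int.eq_ofNat_of_zero_le (by lia : 0 ≤ N + 1 - i)
      have : i = N + 1 - n := by lia
      rw [this]
      exact hproj_nat n
  have hfin : ∀ i, Module.Finite R (K i) := by
    intro i
    obtain ⟨e⟩ := split i (hproj (i + 1))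
    exact Module.Finite.of_surjective ((LinearMap.fst R (K i) (K (i + 1))) ∘ₗ e.toLinearMap) (by
      intro y
      exact ⟨e.symm (y, 0), by simp⟩)
  have hfree : ∀ i, Module.Free R (K i) := fun i => by
    have := hproj i
    have := hfin i
    exact Module.free_of_flat_of_isLocalRing
  have hrk : ∀ i, Module.finrank R (M i) =
      Module.finrank R (K i) + Module.finrank R (K (i + 1)) := by
    intro i
    obtain ⟨e⟩ := split i (hproj (i + 1))
    have := hfree i
    have := hfree (i + 1)
    have := hfin i
    have := hfin (i + 1)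
    rw [e.finrank_eq, Module.finrank_prod]
  have hk0 : ∀ i, i ∉ s → Module.finrank R (K i) = 0 := by
    intro i hi
    have := hsubM i (hs i hi)
    exact Module.finrank_zero_of_subsingleton
  have hk1 : ∀ i, i ∉ s → Module.finrank R (K (i + 1)) = 0 := by
    intro i hi
    have := hs i hi
    have h0 : Module.finrank R (M i) = 0 := Module.finrank_zero_of_subsingleton
    have := hrk i
    lia
  let e : ℤ → ℤ := fun i => ((i.negOnePow : ℤˣ) : ℤ) * (Module.finrank R (K i) : ℤ)
  have hterm : ∀ i, ((i.negOnePow : ℤˣ) : ℤ) * (Module.finrank R (M i) : ℤ) =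
      e i - e (i + 1) := by
    intro i
    rw [hrk i]
    simp only [e, Int.negOnePow_succ, Units.val_neg]
    push_cast
    ring
  simp_rw [hterm]
  rw [Finset.sum_sub_distrib]
  have h1 : ∑ i ∈ s, e i = ∑ᶠ i, e i := by
    refine (finsum_eq_sum_of_support_subset _ ?_).symm
    intro i hi
    by_contra his
    apply hi
    simp [e, hk0 i his]
  have h2 : ∑ i ∈ s, e (i + 1) = ∑ᶠ i, e (i + 1) := by
    refine (finsum_eq_sum_of_support_subset _ ?_).symm
    intro i hi
    by_contra his
    apply hi
    simp [e, hk1 i his]
  rw [h1, h2]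
  have := finsum_comp_equiv (Equiv.addRight (1 : ℤ)) (f := e)
  simp only [Equiv.coe_addRight] at this
  rw [this, sub_self]

open CategoryTheory CategoryTheory.Limits in
/-- Let A be a commutative ring and P a strictly perfect complex over A, that is a cochain complex of
finitely generated projective A-modules which is zero outside a finite set s of degrees. Suppose the
cohomological support of P has positive codimension: for every minimal prime q of A and every degree
i the localization at q of the cohomology module H^i(P) is zero. Then the Euler characteristic of P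
vanishes identically: at every prime of A the alternating sum over i ∈ s of the ranks of the P^i is
zero. -/
theorem result {A : Type u} [CommRing A]
    (P : CochainComplex (ModuleCat.{u} A) ℤ) (s : Finset ℤ)
    (hP : ∀ i : ℤ, Module.Finite A (P.X i) ∧ Module.Projective A (P.X i))
    (hs : ∀ i : ℤ, i ∉ s → IsZero (P.X i))
    (hsupp : ∀ q : PrimeSpectrum A, q.asIdeal ∈ minimalPrimes A →
      ∀ i : ℤ, Subsingleton (LocalizedModule q.asIdeal.primeCompl (P.homology i))) :
    ∀ x : PrimeSpectrum A,
      (s.sum fun i => ((i.negOnePow : ℤˣ) : ℤ) * (Module.rankAtStalk (R := A) (P.X i) x : ℤ)) = 0 := by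
  intro x
  obtain ⟨q, hqmin, hqx⟩ := Ideal.exists_minimalPrimes_le (bot_le : (⊥ : Ideal A) ≤ x.asIdeal)
  have hq : q.IsPrime := hqmin.1.1
  let Q : PrimeSpectrum A := ⟨q, hq⟩
  have hspec : Q ⤳ x := (PrimeSpectrum.le_iff_specializes Q x).mp hqx
  have hrank : ∀ i, Module.rankAtStalk (R := A) (P.X i) x =
      Module.rankAtStalk (R := A) (P.X i) Q := by
    intro i
    have := (hP i).1
    have := (hP i).2
    have := Module.finitePresentation_of_projective A (P.X i)
    have hlc := Module.isLocallyConstant_rankAtStalk (R := A) (M := P.X i)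
    exact ((hspec.map hlc.continuous).eq).symm
  simp_rw [hrank]
  have hfin : ∀ i, Module.Finite (Localization.AtPrime q)
      (LocalizedModule q.primeCompl (P.X i)) := fun i => by
    have := (hP i).1
    exact Module.Finite.of_isLocalizedModule q.primeCompl
      (LocalizedModule.mkLinearMap q.primeCompl (P.X i))
  have hproj : ∀ i, Module.Projective (Localization.AtPrime q)
      (LocalizedModule q.primeCompl (P.X i)) := fun i => by
    have := (hP i).1
    have := (hP i).2
    have := hfin i
    have : Module.Free (Localization.AtPrime q) (LocalizedModule q.primeCompl (P.X i)) :=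
      Module.free_of_flat_of_isLocalRing
    infer_instance
  exact euler_char (R := Localization.AtPrime q)
    (fun i => LocalizedModule q.primeCompl (P.X i))
    (fun i => LocalizedModule.map q.primeCompl (P.d i (i + 1)).hom)
    (fun i => loc_exact P q.primeCompl (fun j => hsupp Q hqmin j) i) s
    (fun i hi => by
      have := ModuleCat.subsingleton_of_isZero (hs i hi)
      infer_instance)

end Groth.Agent.S14000
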