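import Groth.Statements.S14003
import Groth.Agent.Lib.Helper13.DevSupp
import Groth.Agent.Lib.Helper13.SerreSupp
import Groth.Agent.Lib.Helper5.KZeroSub
import Groth.Agent.Lib.Helper5.K0Coh
import Groth.Agent.Lib.Helper13.PullbackEpi

set_option autoImplicit false
universe u
open CategoryTheory AlgebraicGeometry
open KZero

namespace Groth.Agent.S14003

/-- Let X be a Noetherian scheme and Y' a closed subset; write K_0 for the Grothendieck group of the
abelian category of coherent O_X-modules with support in Y' (free abelian group on its objects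
modulo the relations of short exact sequences). Let (F_a) be a family of such modules such that for
every irreducible closed subset Z ⊆ Y' with generic point ζ there is an index a with the support of
F_a contained in Z and the stalk of F_a at ζ of length one over the local ring (a one-dimensional
vector space over the residue field). Then the classes of the F_a generate K_0. (The published
statement omits the condition that the support of F_a lie in Z; without it the claim fails already
for the spectrum of a product of two fields, where the modules k_1 ⊕ k_2 ⊕ k_2 and k_1 ⊕ k_1 ⊕ k_2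
have one-dimensional stalks at the two points but their classes generate a subgroup of index 3 in
K_0 = ℤ².) -/
theorem result (X : Scheme.{u}) [IsNoetherian X]
    (Y' : Set X) (hY' : IsClosed Y') {ι : Type u} (F : ι → X.Modules)
    (hF : ∀ a : ι, Coh.IsCoh (F a) ∧ CohB1.support (F a) ⊆ Y')
    (hgen : ∀ (Z : Set X), IsClosed Z → IsIrreducible Z → Z ⊆ Y' → ∀ y : X, closure ({y} : Set X) = Z →
      ∃ a : ι, CohB1.support (F a) ⊆ Z ∧ Module.length (X.presheaf.stalk y) ((F a).presheaf.stalk y) = 1) :
    AddSubgroup.closure (Set.range fun a : ι =>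
        KZero.clSub (fun G : X.Modules => Coh.IsCoh G ∧ CohB1.support G ⊆ Y') (F a)) = ⊤ := by
  classical
  have key : ∀ (Pc : ObjectProperty X.Modules),
      Pc = (fun G : X.Modules => Coh.IsCoh G ∧ CohB1.support G ⊆ Y') →
      AddSubgroup.closure (Set.range fun a : ι => KZero.clSub Pc (F a)) = ⊤ := by
    intro Pc hPc
    have hPc' : ∀ G : X.Modules, Pc G ↔ (Coh.IsCoh G ∧ CohB1.support G ⊆ Y') := fun G => by
      rw [hPc]
    have hzero : ∀ M : X.Modules, Limits.IsZero M → Pc M := by
      intro M hM
      have hs : CohB1.support M = ∅ :=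
        (Groth.Agent.Helper13.Pullback.isZero_iff_support_eq_empty M).1 hM
      exact (hPc' M).2 ⟨Groth.Agent.Helper5.K0Coh.isCoh_of_isZero hM, by
        rw [hs]
        exact Set.empty_subset _⟩
    have hiso : ∀ M N : X.Modules, (M ≅ N) → Pc M → Pc N := by
      intro M N e hM
      obtain ⟨h1, h2⟩ := (hPc' M).1 hM
      refine (hPc' N).2 ⟨Groth.Agent.Helper5.K0Coh.isCoh_of_iso e h1, ?_⟩
      exact (Groth.Agent.Helper26.DevE.support_subset_of_mono e.inv).trans h2
    have hmain : ∀ M : X.Modules, Coh.IsCoh M → CohB1.support M ⊆ Y' →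
        KZero.clSub Pc M ∈
          AddSubgroup.closure (Set.range fun a : ι => KZero.clSub Pc (F a)) := by
      intro M hM hMs
      refine Groth.Agent.Helper13.DevSupp.devissage_supported X Y' hY'
        (fun M => KZero.clSub Pc M ∈
          AddSubgroup.closure (Set.range fun a : ι => KZero.clSub Pc (F a))) ?_ ?_ ?_ ?_ M hM hMs
      · rintro M N ⟨e⟩ h
        by_cases hPM : Pc M
        · have hPN := hiso M N e hPM
          rw [← Groth.Agent.Helper5.KZ.clSub_iso Pc e hPM hPN (Limits.isZero_zero X.Modules)
            (hzero _ (Limits.isZero_zero X.Modules))]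
          exact h
        · have hPN : ¬ Pc N := fun h' => hPM (hiso N M e.symm h')
          have h0 : KZero.clSub Pc N = 0 := dif_neg hPN
          rw [h0]
          exact zero_mem _
      · intro M hM
        rw [Groth.Agent.Helper5.KZ.clSub_isZero Pc hM (hzero M hM)]
        exact zero_mem _
      · intro S hS h1 h2 h3 hs
        have hs' := (Groth.Agent.Helper13.SerreSupp.support_subset_iff_of_shortExact S hS Y').1 hs
        have hadd := Groth.Agent.Helper5.KZ.clSub_shortExact Pc S hS ((hPc' _).2 ⟨h1, hs'.1⟩)
          ((hPc' _).2 ⟨h2, hs⟩) ((hPc' _).2 ⟨h3, hs'.2⟩)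
        refine ⟨fun k1 k2 => ?_, fun k1 k3 => ?_, fun k2 k3 => ?_⟩
        · have h4 : KZero.clSub Pc S.X₃ = KZero.clSub Pc S.X₂ - KZero.clSub Pc S.X₁ := by
            rw [hadd]; abel
          rw [h4]
          exact sub_mem k2 k1
        · rw [hadd]
          exact add_mem k1 k3
        · have h4 : KZero.clSub Pc S.X₁ = KZero.clSub Pc S.X₂ - KZero.clSub Pc S.X₃ := by
            rw [hadd]; abel
          rw [h4]
          exact sub_mem k2 k3
      · intro Z hZ hirr hZY y hy
        obtain ⟨a, ha1, ha2⟩ := hgen Z hZ hirr hZY y hy
        exact ⟨F a, (hF a).1, AddSubgroup.subset_closure ⟨a, rfl⟩, ha1, ha2⟩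
    rw [eq_top_iff]
    intro x _
    exact Groth.Agent.Helper5.KZ.induction_on Pc x (zero_mem _)
      (fun M hM => hmain M ((hPc' M).1 hM).1 ((hPc' M).1 hM).2) (fun x hx => neg_mem hx)
      (fun x y hx hy => add_mem hx hy)
  exact key _ rfl

end Groth.Agent.S14003
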