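import Groth.Statements.S14005
import Mathlib
-- import your own Groth.Agent.* helpers here

set_option autoImplicit false
universe u
open CategoryTheory AlgebraicGeometry
open CohTop

namespace Groth.Agent.S14005


open TopologicalSpace in
lemma topo {Y : Type*} [TopologicalSpace Y] [NoetherianSpace Y] [QuasiSober Y] (S : Set Y)
    (hS : IsClosed S) (x : Y) (h : ∀ η ∈ S, η ⤳ x → η = x) :
    ∃ V : Set Y, IsOpen V ∧ x ∈ V ∧ S ∩ V ⊆ closure {x} := by
  obtain ⟨𝒮, hfin, hcl, hirr, hU⟩ := NoetherianSpace.exists_finite_set_isClosed_irreducible hS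
  refine ⟨(⋃₀ {Z ∈ 𝒮 | x ∉ Z})ᶜ, ?_, ?_, ?_⟩
  · rw [isOpen_compl_iff, Set.sUnion_eq_biUnion]
    exact (hfin.subset (Set.sep_subset _ _)).isClosed_biUnion (fun Z hZ => hcl Z hZ.1)
  · rintro ⟨Z, ⟨hZ, hxZ⟩, hx⟩
    exact hxZ hx
  · rintro u ⟨huS, huV⟩
    have huS' := huS
    rw [hU] at huS'
    obtain ⟨Z, hZ, huZ⟩ := huS'
    have hxZ : x ∈ Z := by
      by_contra hx
      exact huV ⟨Z, ⟨hZ, hx⟩, huZ⟩
    obtain ⟨η, hη⟩ := QuasiSober.sober (hirr Z hZ) (hcl Z hZ)
    have hηZ : η ∈ Z := hη.mem
    have hηx : η ⤳ x := by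
      rw [specializes_iff_mem_closure, hη.def]
      exact hxZ
    have hηS : η ∈ S := by
      rw [hU]
      exact ⟨Z, hZ, hηZ⟩
    have : η = x := h η hηS hηx
    rw [← this, hη.def]
    exact huZ

/-- Take a scheme X with a locally Noetherian underlying topological space, F a sheaf of abelian groups
on X, x a point of X and s an element of the stalk F_x. Then the following are equivalent: (i) s is
the germ of a section t over some open neighbourhood U of x whose support in U is contained in the
closure of {x} (that is, s belongs to the subgroup Γ_x(F) of F_x); (ii) for every generization y ≠ x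
of x the image of s under the cospecialisation map F_x → F_y is zero (that is, viewed as a global
section of the inverse image of F on Spec O_{X,x}, s is supported at the closed point). -/
theorem result {X : Scheme.{u}}
    (hX : ∀ x : X, ∃ U : X.Opens, x ∈ U ∧ TopologicalSpace.NoetherianSpace U)
    (F : TopCat.Sheaf AddCommGrpCat.{u} X.carrier) (x : X) (s : F.presheaf.stalk x) :
    (∃ (U : X.Opens) (hx : x ∈ U) (t : F.presheaf.obj (Opposite.op U)),
        F.presheaf.germ U x hx t = s ∧
          ∀ (u : X) (hu : u ∈ U), F.presheaf.germ U u hu t ≠ 0 → u ∈ closure ({x} : Set X)) ↔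
      ∀ (y : X) (h : y ⤳ x), y ≠ x → F.presheaf.stalkSpecializes h s = 0 := by
  constructor
  · rintro ⟨U, hx, t, rfl, ht⟩ y h hne
    rw [TopCat.Presheaf.germ_stalkSpecializes_apply]
    by_contra h0
    have hy : y ∈ closure ({x} : Set X) := ht y (h.mem_open U.isOpen hx) h0
    have hxy : x ⤳ y := specializes_iff_mem_closure.mpr hy
    exact hne (hxy.antisymm h).eq.symm
  · intro hgen
    obtain ⟨U₀, hx₀, t₀, ht₀⟩ := TopCat.Presheaf.exists_germ_eq F.presheaf s
    obtain ⟨U₁, hx₁, hN⟩ := hX x
    let U : X.Opens := U₀ ⊓ U₁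
    have hxU : x ∈ U := ⟨hx₀, hx₁⟩
    have hN' : TopologicalSpace.NoetherianSpace ((U₁ : Set X)) := hN
    have hNU : TopologicalSpace.NoetherianSpace U :=
      TopologicalSpace.NoetherianSpace.of_subset (W := (U₁ : Set X)) (V := (U : Set X))
        (fun _ h => h.2)
    let t := F.presheaf.map (homOfLE (inf_le_left : U ≤ U₀)).op t₀
    have ht : F.presheaf.germ U x hxU t = s := by
      rw [← ht₀]
      exact TopCat.Presheaf.germ_res_apply F.presheaf _ x hxU t₀
    have hQS : QuasiSober U := U.isOpen.isOpenEmbedding_subtypeVal.quasiSober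
    let S : Set U := {u | F.presheaf.germ U u.1 u.2 t ≠ 0}
    have hS : IsClosed S := by
      rw [← isOpen_compl_iff, isOpen_iff_forall_mem_open]
      intro u hu
      have hu0 : F.presheaf.germ U u.1 u.2 t = F.presheaf.germ U u.1 u.2 0 := by
        simpa [S] using hu
      obtain ⟨W, hW, iU, iV, heq⟩ := TopCat.Presheaf.germ_eq F.presheaf u.1 u.2 u.2 t 0 hu0
      refine ⟨{u' : U | u'.1 ∈ W}, ?_, W.isOpen.preimage continuous_subtype_val, hW⟩
      intro u' hu'
      simp only [S, Set.mem_compl_iff, Set.mem_ofPred_eq, not_not]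
      rw [← TopCat.Presheaf.germ_res_apply F.presheaf iU u'.1 hu' t, heq]
      simp
    obtain ⟨V, hVo, hxV, hSV⟩ := topo S hS ⟨x, hxU⟩ (by
      intro η hηS hηx
      by_contra hne
      have h' : η.1 ⤳ x := hηx.map continuous_subtype_val
      have hne' : η.1 ≠ x := fun h => hne (Subtype.ext h)
      have := hgen η.1 h' hne'
      rw [← ht, TopCat.Presheaf.germ_stalkSpecializes_apply] at this
      exact hηS this)
    let V' : X.Opens := ⟨Subtype.val '' V, U.isOpen.isOpenMap_subtype_val V hVo⟩
    have hV'U : V' ≤ U := by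
      rintro _ ⟨u, _, rfl⟩
      exact u.2
    refine ⟨V', ⟨⟨x, hxU⟩, hxV, rfl⟩, F.presheaf.map (homOfLE hV'U).op t, ?_, ?_⟩
    · rw [TopCat.Presheaf.germ_res_apply]
      exact ht
    · rintro u ⟨u₀, hu₀V, rfl⟩ hne
      rw [TopCat.Presheaf.germ_res_apply] at hne
      have : u₀ ∈ closure {(⟨x, hxU⟩ : U)} := hSV ⟨hne, hu₀V⟩
      rw [closure_subtype, Set.image_singleton] at this
      exact this

end Groth.Agent.S14005
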