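import Groth.Statements.S14010
import Mathlib
import Groth.Agent.S14009
import Groth.Agent.Lib.Helper2.AdicLim1
import Groth.Agent.Lib.Helper2.EpsU10
import Groth.Agent.Lib.Helper2.EpsU11
-- import your own Groth.Agent.* helpers here

set_option autoImplicit false
open CategoryTheory CategoryTheory.Limits AlgebraicGeometry Opposite
universe u
open EtModW

namespace Groth.Agent.S14010

section

open CategoryTheory CategoryTheory.Limits AlgebraicGeometry Opposite Topology
open Groth.Agent.Helper2.AdicLim Groth.Agent.Helper2.EpsU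

theorem killedBy_of_iso {A : Type*} [CommRing A] {C : Type*} [Category C] [Preadditive C]
    [Linear A C] (J : Ideal A) {X Y : C} (e : X ≅ Y) (h : ARSys.KilledBy J Y) :
    ARSys.KilledBy J X := by
  intro a ha
  have : (a • 𝟙 X : X ⟶ X) = e.hom ≫ (a • 𝟙 Y) ≫ e.inv := by
    rw [Linear.smul_comp, Linear.comp_smul, Category.id_comp, Iso.hom_inv_id]
  rw [this, h a ha, zero_comp, comp_zero]

set_option backward.isDefEq.respectTransparency.types false in
theorem main (Λ : Type (u + 1)) [CommRing Λ] (I : Ideal Λ) (hI : I.FG)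
    (X : Scheme.{u}) [ProEtS.EpsCont X] (F : EtModW.ModP Λ X) :
    (∃ (Q : ℕᵒᵖ ⥤ EtModW.ModP Λ X) (p : (Functor.const ℕᵒᵖ).obj F ⟶ Q),
        (∀ n : ℕ, ARSys.IsQuot (I ^ (n + 1)) (p.app (op n))) ∧
        (∀ n : ℕ, ∃ E : EtModW.Mod Λ X, EtModW.IsConstructible Λ E ∧
          Nonempty ((EtModW.epsPullMod Λ X).obj E ≅ Q.obj (op n))) ∧
        IsIso (limit.lift Q (Cone.mk F p))) ↔
      ∃ G : ARSys.PS (EtModW.Mod Λ X), ARSys.IsAdic I G ∧
        (∀ n : ℕ, EtModW.IsConstructible Λ (G.obj (op n))) ∧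
        Nonempty (limit (G ⋙ EtModW.epsPullMod Λ X) ≅ F) := by
  constructor
  · rintro ⟨Q, p, hp, hE, hiso⟩
    choose E hEc hEi using hE
    let e : ∀ j : ℕᵒᵖ, (EtModW.epsPullMod Λ X).obj (E j.unop) ≅ Q.obj j :=
      fun j => (hEi j.unop).some
    let G : ℕᵒᵖ ⥤ EtModW.Mod Λ X := liftDiag (EtModW.epsPullMod Λ X) Q (fun j => E j.unop) e
    let gi : G ⋙ EtModW.epsPullMod Λ X ≅ Q := liftDiagIso _ _ _ _
    have hkQ : ∀ n : ℕ, ARSys.KilledBy (I ^ (n + 1)) (Q.obj (op n)) := fun n => (hp n).1
    refine ⟨G, ⟨?_, ?_⟩, fun n => hEc n, ⟨?_⟩⟩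
    · intro n
      apply killedBy_of_map (EtModW.epsPullMod Λ X) (epsPullMod_map_smul Λ X)
      exact killedBy_of_iso _ (e (op n)) (hkQ n)
    · intro n m h
      apply isQuot_of_map (EtModW.epsPullMod Λ X) (epsPullMod_map_smul Λ X)
      have e1 : (EtModW.epsPullMod Λ X).map (G.map (homOfLE h).op) =
          (e (op m)).hom ≫ Q.map (homOfLE h).op ≫ (e (op n)).inv := by
        simp [G, liftDiag]
      change ARSys.IsQuot (I ^ (n + 1)) ((EtModW.epsPullMod Λ X).map (G.map (homOfLE h).op))
      rw [e1]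
      apply isQuot_of_iso _ _ _ (e (op m)) (e (op n)).symm
      apply isQuot_of_comp (I ^ (n + 1)) (I ^ (m + 1))
        (Ideal.pow_le_pow_right (Nat.succ_le_succ h)) (p.app (op m)) (hp m)
      have hn := p.naturality (homOfLE h).op
      simp only [Functor.const_obj_obj, Functor.const_obj_map, Category.id_comp] at hn
      rw [← hn]
      exact hp n
    · haveI := hiso
      exact (lim.mapIso gi) ≪≫ (asIso (limit.lift Q (Cone.mk F p))).symm
  · rintro ⟨G, hG, hGc, ⟨e⟩⟩
    let p : (Functor.const ℕᵒᵖ).obj F ⟶ G ⋙ EtModW.epsPullMod Λ X :=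
      { app := fun n => e.inv ≫ limit.π _ n
        naturality := by
          intro n m f
          simp only [Functor.const_obj_obj, Functor.const_obj_map, Category.id_comp,
            Category.assoc]
          rw [limit.w] }
    refine ⟨G ⋙ EtModW.epsPullMod Λ X, p, ?_, ?_, ?_⟩
    · intro n
      have h1 := Groth.Agent.S14009.main Λ X I hI G hG n
      have h2 := isQuot_of_iso _ _ h1 e.symm (Iso.refl _)
      simpa [p] using h2
    · intro n
      exact ⟨G.obj (op n), hGc n, ⟨Iso.refl _⟩⟩
    · have : limit.lift (G ⋙ EtModW.epsPullMod Λ X) (Cone.mk F p) = e.inv := by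
        apply limit.hom_ext
        intro j
        simp [p]
      rw [this]
      infer_instance

end

/-- Let X be a scheme, Λ a commutative ring, I a finitely generated ideal of Λ and F a sheaf of
Λ-modules on the small pro-étale site of X. Call F an I-adic pro-étale sheaf when there is a
compatible tower of quotient maps F ⟶ Q_n modulo I^(n+1) (Q_n = F/I^(n+1)F) such that every Q_n is
isomorphic to the pro-étale pullback ε⁻¹ of a constructible sheaf of Λ-modules on the small étale
site and the canonical map F ⟶ lim_n Q_n is an isomorphism. Then F is an I-adic pro-étale sheaf if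
and only if F is isomorphic to lim_n ε⁻¹G_n for some I-adic inverse system (G_n) of constructible
étale sheaves of Λ-modules (I^(n+1) G_n = 0, transition maps quotient maps modulo I^(n+1)).
(Continuity of the inclusion of the étale site into the pro-étale site is carried as a binder.) -/
theorem result
    (Λ : Type (u + 1)) [CommRing Λ] (I : Ideal Λ) (hI : I.FG)
    (X : Scheme.{u}) [ProEtS.EpsCont X] (F : EtModW.ModP Λ X) :
    (∃ (Q : ℕᵒᵖ ⥤ EtModW.ModP Λ X) (p : (Functor.const ℕᵒᵖ).obj F ⟶ Q),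
        (∀ n : ℕ, ARSys.IsQuot (I ^ (n + 1)) (p.app (op n))) ∧
        (∀ n : ℕ, ∃ E : EtModW.Mod Λ X, EtModW.IsConstructible Λ E ∧
          Nonempty ((EtModW.epsPullMod Λ X).obj E ≅ Q.obj (op n))) ∧
        IsIso (limit.lift Q (Cone.mk F p))) ↔
      ∃ G : ARSys.PS (EtModW.Mod Λ X), ARSys.IsAdic I G ∧
        (∀ n : ℕ, EtModW.IsConstructible Λ (G.obj (op n))) ∧
        Nonempty (limit (G ⋙ EtModW.epsPullMod Λ X) ≅ F) := by
  exact Groth.Agent.S14010.main Λ I hI X F

end Groth.Agent.S14010
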