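import Groth.Statements.S14011
import Mathlib
import Groth.Agent.S14009
import Groth.Agent.Lib.Helper2.AdicLim1
import Groth.Agent.Lib.Helper2.EpsU10
-- import your own Groth.Agent.* helpers here

set_option autoImplicit false
open CategoryTheory CategoryTheory.Limits AlgebraicGeometry Opposite
universe u
open EtModW

namespace Groth.Agent.S14011

section

open CategoryTheory CategoryTheory.Limits AlgebraicGeometry Opposite Topology
open Groth.Agent.Helper2.AdicLim Groth.Agent.Helper2.EpsU

variable (Λ : Type (u + 1)) [CommRing Λ] (I : Ideal Λ) (X : Scheme.{u}) [ProEtS.EpsCont X]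

theorem killedBy_epsPull (J : Ideal Λ) (A : EtModW.Mod Λ X) (hA : ARSys.KilledBy J A) :
    ARSys.KilledBy J ((EtModW.epsPullMod Λ X).obj A) := by
  have hq : ARSys.IsQuot J (𝟙 A) := by
    refine ⟨hA, ?_⟩
    intro Y φ _
    exact ⟨φ, Category.id_comp _, fun ψ hψ => by rw [← hψ, Category.id_comp]⟩
  have := (Groth.Agent.S14009.isQuot_epsPull Λ X J (𝟙 A) hq).1
  exact this

theorem killedBy_mono {C : Type*} [Category C] [Preadditive C] [Linear Λ C] {J J' : Ideal Λ}
    (h : J ≤ J') {A : C} (hA : ARSys.KilledBy J' A) : ARSys.KilledBy J A :=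
  fun a ha => hA a (h ha)

/-- uniqueness through a quotient map -/
theorem isQuot_cancel {C : Type*} [Category C] [Preadditive C] [Linear Λ C] (J : Ideal Λ)
    {A Q Y : C} (p : A ⟶ Q) (hp : ARSys.IsQuot J p) (hY : ARSys.KilledBy J Y) (f g : Q ⟶ Y)
    (h : p ≫ f = p ≫ g) : f = g := by
  obtain ⟨ψ, -, huniq⟩ := hp.2 Y (p ≫ f) (homKilledBy_of_killedBy J _ hY)
  rw [huniq f rfl, huniq g h.symm]

set_option backward.isDefEq.respectTransparency.types false in
theorem main (hI : I.FG) :
    (ObjectProperty.ι (fun G : ARSys.PS (EtModW.Mod Λ X) => ARSys.IsAdic I G) ⋙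
        ((Functor.whiskeringRight ℕᵒᵖ (EtModW.Mod Λ X) (EtModW.ModP Λ X)).obj (EtModW.epsPullMod Λ X) ⋙ lim)).Full ∧
    (ObjectProperty.ι (fun G : ARSys.PS (EtModW.Mod Λ X) => ARSys.IsAdic I G) ⋙
        ((Functor.whiskeringRight ℕᵒᵖ (EtModW.Mod Λ X) (EtModW.ModP Λ X)).obj (EtModW.epsPullMod Λ X) ⋙ lim)).Faithful := by
  have hπ : ∀ (G : ARSys.PS (EtModW.Mod Λ X)) (hG : ARSys.IsAdic I G) (n : ℕ),
      ARSys.IsQuot (I ^ (n + 1)) (limit.π (G ⋙ EtModW.epsPullMod Λ X) (op n)) :=
    fun G hG n => Groth.Agent.S14009.main Λ X I hI G hG n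
  have hk : ∀ (H : ARSys.PS (EtModW.Mod Λ X)) (hH : ARSys.IsAdic I H) (n : ℕ),
      ARSys.KilledBy (I ^ (n + 1)) ((EtModW.epsPullMod Λ X).obj (H.obj (op n))) :=
    fun H hH n => killedBy_epsPull Λ X _ _ (hH.1 n)
  have key : ∀ {G H : ObjectProperty.FullSubcategory
      (fun G : ARSys.PS (EtModW.Mod Λ X) => ARSys.IsAdic I G)} (f : G ⟶ H) (n : ℕ),
      (ObjectProperty.ι (fun G : ARSys.PS (EtModW.Mod Λ X) => ARSys.IsAdic I G) ⋙
        ((Functor.whiskeringRight ℕᵒᵖ (EtModW.Mod Λ X) (EtModW.ModP Λ X)).obj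
          (EtModW.epsPullMod Λ X) ⋙ lim)).map f ≫
        limit.π (H.obj ⋙ EtModW.epsPullMod Λ X) (op n) =
      limit.π (G.obj ⋙ EtModW.epsPullMod Λ X) (op n) ≫
        (EtModW.epsPullMod Λ X).map (f.hom.app (op n)) := by
    intro G H f n
    change limMap (Functor.whiskerRight f.hom (EtModW.epsPullMod Λ X)) ≫ _ = _
    rw [limMap_π]
    rfl
  refine ⟨⟨?_⟩, ⟨?_⟩⟩
  · intro G H ψ
    -- components
    have hγ : ∀ n : ℕ, ∃ α : G.obj.obj (op n) ⟶ H.obj.obj (op n),
        limit.π (G.obj ⋙ EtModW.epsPullMod Λ X) (op n) ≫ (EtModW.epsPullMod Λ X).map α =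
          ψ ≫ limit.π (H.obj ⋙ EtModW.epsPullMod Λ X) (op n) := by
      intro n
      obtain ⟨γ, hγ, -⟩ := (hπ G.obj G.property n).2 _
        (ψ ≫ limit.π (H.obj ⋙ EtModW.epsPullMod Λ X) (op n))
        (homKilledBy_of_killedBy _ _ (hk H.obj H.property n))
      obtain ⟨α, rfl⟩ := (EtModW.epsPullMod Λ X).map_surjective γ
      exact ⟨α, hγ⟩
    choose α hα using hγ
    have hnat : ∀ (n m : ℕ) (h : n ≤ m),
        G.obj.map (homOfLE h).op ≫ α n = α m ≫ H.obj.map (homOfLE h).op := by
      intro n m h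
      apply (EtModW.epsPullMod Λ X).map_injective
      have hkm : ARSys.KilledBy (I ^ (m + 1))
          ((EtModW.epsPullMod Λ X).obj (H.obj.obj (op n))) :=
        killedBy_mono Λ (Ideal.pow_le_pow_right (Nat.succ_le_succ h)) (hk H.obj H.property n)
      apply isQuot_cancel Λ (I ^ (m + 1)) _ (hπ G.obj G.property m) hkm
      have w1 := limit.w (G.obj ⋙ EtModW.epsPullMod Λ X) (homOfLE h).op
      have w2 := limit.w (H.obj ⋙ EtModW.epsPullMod Λ X) (homOfLE h).op
      simp only [Functor.comp_map] at w1 w2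
      rw [Functor.map_comp, Functor.map_comp, ← Category.assoc, w1, hα n, ← Category.assoc,
        hα m, Category.assoc, w2]
    let αN : G.obj ⟶ H.obj :=
      { app := fun n => α n.unop
        naturality := by
          intro n m f
          obtain ⟨n⟩ := n
          obtain ⟨m⟩ := m
          have hle : m ≤ n := leOfHom f.unop
          have hf : f = (homOfLE hle).op := rfl
          rw [hf]
          exact hnat m n hle }
    refine ⟨ObjectProperty.homMk αN, ?_⟩
    apply limit.hom_ext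
    intro n
    obtain ⟨n⟩ := n
    exact (key (ObjectProperty.homMk αN) n).trans (hα n)
  · intro G H f g hfg
    apply ObjectProperty.hom_ext
    ext n : 2
    obtain ⟨n⟩ := n
    apply (EtModW.epsPullMod Λ X).map_injective
    apply isQuot_cancel Λ (I ^ (n + 1)) _ (hπ G.obj G.property n) (hk H.obj H.property n)
    rw [← key f n, ← key g n, hfg]

end

/-- Let X be a scheme, Λ a commutative ring and I a finitely generated ideal of Λ. The functor which
sends an inverse system (G_n) of sheaves of Λ-modules on the small étale site of X to the pro-étale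
sheaf lim_n ε⁻¹G_n is full and faithful on the full subcategory of I-adic systems (I^(n+1) G_n = 0
and every transition map is a quotient map modulo I^(n+1)). Constructibility of the members is not
needed for this part. (Continuity of the inclusion of the étale site into the pro-étale site is
carried as a binder.) -/
theorem result
    (Λ : Type (u + 1)) [CommRing Λ] (I : Ideal Λ) (hI : I.FG)
    (X : Scheme.{u}) [ProEtS.EpsCont X] :
    (ObjectProperty.ι (fun G : ARSys.PS (EtModW.Mod Λ X) => ARSys.IsAdic I G) ⋙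
        ((Functor.whiskeringRight ℕᵒᵖ (EtModW.Mod Λ X) (EtModW.ModP Λ X)).obj (EtModW.epsPullMod Λ X) ⋙ lim)).Full ∧
    (ObjectProperty.ι (fun G : ARSys.PS (EtModW.Mod Λ X) => ARSys.IsAdic I G) ⋙
        ((Functor.whiskeringRight ℕᵒᵖ (EtModW.Mod Λ X) (EtModW.ModP Λ X)).obj (EtModW.epsPullMod Λ X) ⋙ lim)).Faithful := by
  exact Groth.Agent.S14011.main Λ I X hI

end Groth.Agent.S14011
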