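import Groth.Statements.S14012
import Mathlib
import Groth.Agent.S14017
import Groth.Agent.S14009
import Groth.Agent.S0713
import Groth.Agent.Lib.Helper2.AdicLim1
import Groth.Agent.Lib.Helper2.AdicLim2
import Groth.Agent.Lib.Helper2.AdicLim3
-- import your own Groth.Agent.* helpers here

set_option autoImplicit false
open CategoryTheory CategoryTheory.Limits AlgebraicGeometry Opposite
universe u
open EtModW

namespace Groth.Agent.S14012

section
open CategoryTheory CategoryTheory.Limits AlgebraicGeometry Opposite Topology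
open Groth.Agent.Helper2.AdicLim Groth.Agent.S14009

variable (Λ : Type (u + 1)) [CommRing Λ] (X : Scheme.{u})

/-- a morphism of sheaves of modules which is surjective on sections over weakly contractible
objects is an epimorphism -/
theorem epi_of_surjective_on_wc {F G : EtModW.ModP Λ X} (φ : F ⟶ G)
    (h : ∀ V : X.ProEt, ProEtS.IsWC V → Function.Surjective (φ.hom.app (op V)).hom) : Epi φ := by
  refine (Sheaf.isLocallySurjective_iff_epi' (ModuleCat.{u+1} Λ) φ).1 ?_
  change Presheaf.IsLocallySurjective _ φ.hom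
  constructor
  intro U s
  obtain ⟨V, g, hg, hV⟩ := Groth.Agent.S0713.result U
  refine GrothendieckTopology.superset_covering _ ?_ hg
  rw [Sieve.generate_le_iff]
  rintro _ _ ⟨⟩
  obtain ⟨t, ht⟩ := h V hV (G.obj.map g.op s)
  exact ⟨t, ht⟩

/-- exact sequences of sheaves of modules are exact on sections over weakly contractible objects -/
theorem exact_on_wc (T : ShortComplex (EtModW.ModP Λ X)) (hT : T.Exact) (U : X.ProEt)
    (hU : ProEtS.IsWC U) (x : T.X₂.obj.obj (op U)) (hx : (T.g.hom.app (op U)).hom x = 0) :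
    ∃ y : T.X₁.obj.obj (op U), (T.f.hom.app (op U)).hom y = x := by
  let S' := ShortComplex.mk (kernel.ι T.g) T.g (kernel.condition T.g)
  have hS' : S'.Exact := S'.exact_of_f_is_kernel (kernelIsKernel T.g)
  have hS'' : (S'.map (Γs Λ X U)).Exact :=
    hS'.map_of_mono_of_preservesKernel (Γs Λ X U) (inferInstanceAs (Mono (kernel.ι T.g)))
      inferInstance
  obtain ⟨k, hk⟩ := (ShortComplex.moduleCat_exact_iff _).1 hS'' x hx
  let e : T.X₁ ⟶ kernel T.g := kernel.lift T.g T.f T.zero
  haveI : Epi e := (ShortComplex.exact_iff_epi_kernel_lift _).1 hT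
  obtain ⟨y, hy⟩ := Groth.Agent.S14017.surj_of_epi Λ X e U hU k
  refine ⟨y, ?_⟩
  have : T.f = e ≫ kernel.ι T.g := (kernel.lift_ι _ _ _).symm
  rw [this]
  change ((kernel.ι T.g).hom.app (op U)).hom ((e.hom.app (op U)).hom y) = x
  rw [hy]
  exact hk


theorem main (I : Ideal Λ) [IsNoetherianRing Λ] [ProEtS.EpsCont X]
    (S : ShortComplex (ARSys.PS (EtModW.Mod Λ X))) (hS : S.ShortExact)
    (hA : ∃ (Y : ARSys.PS (EtModW.Mod Λ X)) (v : Y ⟶ S.X₁), ARSys.IsAdic I Y ∧ ARSys.IsARIso v) :
    Epi (limMap (Functor.whiskerRight S.g (EtModW.epsPullMod Λ X))) := by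
  obtain ⟨Y, v, hY, -, r, hr⟩ := hA
  set E := EtModW.epsPullMod Λ X with hE
  haveI : E.IsLeftAdjoint := (epsAdjMod Λ X).isLeftAdjoint
  have hfg : ∀ k : ℕ, (I ^ k).FG := fun k => (isNoetherianRing_iff_ideal_fg Λ).1 inferInstance _
  apply epi_of_surjective_on_wc
  intro U hU z
  -- towers of sections
  let ΓU := Γs Λ X U
  let tw : ARSys.PS (EtModW.Mod Λ X) ⥤ (ℕᵒᵖ ⥤ ModuleCat.{u+1} Λ) :=
    (Functor.whiskeringRight ℕᵒᵖ _ _).obj (E ⋙ ΓU)
  let Φ : Y ⟶ S.X₂ := v ≫ S.f
  let B := tw.obj S.X₂
  let C := tw.obj S.X₃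
  let g : B ⟶ C := tw.map S.g
  let φ' : tw.obj Y ⟶ B := tw.map Φ
  let cB : Cone B := ΓU.mapCone (limit.cone (S.X₂ ⋙ E))
  have hcB : IsLimit cB := isLimitOfPreserves ΓU (limit.isLimit (S.X₂ ⋙ E))
  let cC : Cone C := ΓU.mapCone (limit.cone (S.X₃ ⋙ E))
  have hcC : IsLimit cC := isLimitOfPreserves ΓU (limit.isLimit (S.X₃ ⋙ E))
  let W : ∀ n, Submodule Λ (B.obj (op n)) := fun n => LinearMap.range (φ'.app (op n)).hom
  -- levelwise exactness
  have hSn : ∀ n : ℕ, ((S.map ((evaluation ℕᵒᵖ (EtModW.Mod Λ X)).obj (op n))).map E).Exact ∧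
      Epi (E.map (S.g.app (op n))) := by
    intro n
    have h1 := hS.map_of_exact ((evaluation ℕᵒᵖ (EtModW.Mod Λ X)).obj (op n))
    haveI := h1.epi_g
    exact ⟨h1.exact.map_of_epi_of_preservesCokernel E h1.epi_g inferInstance,
      inferInstanceAs (Epi (E.map ((S.map ((evaluation ℕᵒᵖ (EtModW.Mod Λ X)).obj (op n))).g)))⟩
  -- the cokernel of `v`
  let Q := cokernel v
  let π := cokernel.π v
  have hQn : ∀ n : ℕ, (((ShortComplex.mk v π (cokernel.condition v)).map
      ((evaluation ℕᵒᵖ (EtModW.Mod Λ X)).obj (op n))).map E).Exact := by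
    intro n
    have h0 : (ShortComplex.mk v π (cokernel.condition v)).Exact := ShortComplex.exact_cokernel v
    have h1 := h0.map ((evaluation ℕᵒᵖ (EtModW.Mod Λ X)).obj (op n))
    haveI : Epi ((ShortComplex.mk v π (cokernel.condition v)).map
      ((evaluation ℕᵒᵖ (EtModW.Mod Λ X)).obj (op n))).g :=
      inferInstanceAs (Epi (((evaluation ℕᵒᵖ (EtModW.Mod Λ X)).obj (op n)).map π))
    exact h1.map_of_epi_of_preservesCokernel E inferInstance inferInstance
  have hW1 : ∀ n, W n ≤ LinearMap.ker (g.app (op n)).hom := by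
    rintro n _ ⟨y, rfl⟩
    rw [LinearMap.mem_ker]
    have h0 : φ' ≫ g = 0 := by
      rw [← tw.map_comp]
      have : Φ ≫ S.g = 0 := by rw [Category.assoc, S.zero, comp_zero]
      rw [this]
      ext n x
      change ((E.map (0 : Y.obj n ⟶ S.X₃.obj n)).hom.app (op U)).hom x = 0
      rw [E.map_zero]
      rfl
    have := congrArg (fun ψ => (ψ.app (op n)).hom y) h0
    exact this
  have hW2 : ∀ n, ∀ w ∈ W n, ∃ w' ∈ W (n + 1), trM B (Nat.le_succ n) w' = w := by
    rintro n _ ⟨y, rfl⟩
    have hq := isQuot_epsPull Λ X _ _ (hY.2 n (n + 1) (Nat.le_succ n))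
    obtain ⟨y', hy'⟩ := (Groth.Agent.S14017.main Λ X _ (hfg _) _ _ _ hq U hU).1 y
    refine ⟨_, ⟨y', rfl⟩, ?_⟩
    rw [← trM_naturality φ' (Nat.le_succ n) y']
    exact congrArg _ hy'
  have hW3 : ∀ n, ∀ k ∈ LinearMap.ker (g.app (op (n + r))).hom,
      trM B (Nat.le_add_right n r) k ∈ W n := by
    intro n k hk
    obtain ⟨a, ha⟩ := exact_on_wc Λ X _ (hSn (n + r)).1 U hU k hk
    -- `a ∈ A'_{n+r}(U)`, its image in `A'_n(U)` comes from `Y'_n(U)`
    let a' := trM (tw.obj S.X₁) (Nat.le_add_right n r) a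
    have ha' : ((E.map (π.app (op n))).hom.app (op U)).hom a' = 0 := by
      have hnat := π.naturality (homOfLE (Nat.le_add_right n r)).op
      have hzero : Q.map (homOfLE (Nat.le_add_right n r)).op = 0 := hr n
      rw [hzero, comp_zero] at hnat
      have h2 : ((E.map (S.X₁.map (homOfLE (Nat.le_add_right n r)).op ≫ π.app (op n))).hom.app
          (op U)).hom a = ((E.map (0 : S.X₁.obj (op (n + r)) ⟶ Q.obj (op n))).hom.app (op U)).hom a := by
        rw [hnat]
      rw [E.map_comp, E.map_zero] at h2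
      exact h2
    obtain ⟨y, hy⟩ := exact_on_wc Λ X _ (hQn n) U hU a' ha'
    refine ⟨y, ?_⟩
    change ((E.map (Φ.app (op n))).hom.app (op U)).hom y = _
    have e1 : ((E.map (Φ.app (op n))).hom.app (op U)).hom y =
        ((E.map (S.f.app (op n))).hom.app (op U)).hom
          (((E.map (v.app (op n))).hom.app (op U)).hom y) := by
      change ((E.map (v.app (op n) ≫ S.f.app (op n))).hom.app (op U)).hom y = _
      rw [E.map_comp]
      rfl
    rw [e1]
    have e2 : ((E.map (v.app (op n))).hom.app (op U)).hom y = a' := hy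
    rw [e2, ← ha]
    exact trM_naturality (tw.map S.f) (Nat.le_add_right n r) a
  have hsurj : ∀ n, Function.Surjective (g.app (op n)).hom := by
    intro n
    haveI := (hSn n).2
    exact Groth.Agent.S14017.surj_of_epi Λ X (E.map (S.g.app (op n))) U hU
  obtain ⟨x, hx⟩ := exists_lift_of_ML B C g cB hcB cC W hW1 hW2 r hW3 hsurj z
  refine ⟨x, ?_⟩
  apply limit_ext C cC hcC
  intro n
  rw [← hx n]
  have := limMap_π (Functor.whiskerRight S.g E) (op n)
  exact congrArg (fun ψ => (ψ.hom.app (op U)).hom x) this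

end

/-- Let X be a Noetherian scheme, Λ a Noetherian commutative ring and I an ideal of Λ. Let 0 ⟶ A ⟶ B ⟶ C
⟶ 0 be a short exact sequence of inverse systems (indexed by ℕ) of sheaves of Λ-modules on the small
étale site of X, and assume A is I-adic up to translation: it receives a morphism, with kernel and
cokernel null up to translation, from an I-adic system. Then the induced morphism lim_n ε⁻¹B_n ⟶
lim_n ε⁻¹C_n of sheaves on the small pro-étale site is an epimorphism; since the limit functor is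
left exact this says that lim_n ε⁻¹(−) carries the given sequence to a short exact sequence. (The
published statement takes all three systems I-adic up to translation; only the hypothesis on A
enters, so B and C are arbitrary here. Continuity of the inclusion of the étale site into the
pro-étale site is carried as a binder.) -/
theorem result
    (Λ : Type (u + 1)) [CommRing Λ] [IsNoetherianRing Λ] (I : Ideal Λ)
    (X : Scheme.{u}) [IsNoetherian X] [ProEtS.EpsCont X]
    (S : ShortComplex (ARSys.PS (EtModW.Mod Λ X))) (hS : S.ShortExact)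
    (hA : ∃ (Y : ARSys.PS (EtModW.Mod Λ X)) (v : Y ⟶ S.X₁), ARSys.IsAdic I Y ∧ ARSys.IsARIso v) :
    Epi (limMap (Functor.whiskerRight S.g (EtModW.epsPullMod Λ X))) := by
  exact Groth.Agent.S14012.main Λ X I S hS hA

end Groth.Agent.S14012
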