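import Groth.Statements.S14016
import Mathlib
import Groth.Agent.Lib.Helper2.EpsX16
-- import your own Groth.Agent.* helpers here

set_option autoImplicit false
open CategoryTheory CategoryTheory.Limits AlgebraicGeometry Opposite
universe u
open ProEtS

namespace Groth.Agent.S14016

section

open CategoryTheory CategoryTheory.Limits AlgebraicGeometry Opposite Topology
open Groth.Agent.Helper2.EpsX Groth.Agent.Helper2.EpsU

set_option backward.isDefEq.respectTransparency.types false in
theorem main (X : Scheme.{u}) [ProEtS.EpsCont X]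
    (S : ObjectProperty (EtCoh.Ab X)) [WSerre.IsWeakSerre S] :
    WSerre.IsWeakSerre (fun F : ProEtS.AbP X => ∃ G : EtCoh.Ab X, S G ∧ Nonempty ((ProEtS.epsPull X).obj G ≅ F)) := by
  haveI : ∀ Z : X.ProEtᵒᵖ, IsFiltered (CostructuredArrow (ProEtS.eps X).op Z) :=
    fun Z => inferInstance
  haveI : ∀ P : X.Etaleᵒᵖ ⥤ AddCommGrpCat.{u + 1},
      (ProEtS.eps X).op.HasPointwiseLeftKanExtension P := fun P => inferInstance
  haveI : PreservesFilteredColimitsOfSize.{u, u + 1} (forget AddCommGrpCat.{u + 1}) :=
    preservesFilteredColimitsOfSize_shrink.{u + 1, u + 1, u, u + 1} _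
  haveI : ∀ (P : X.Etaleᵒᵖ ⥤ AddCommGrpCat.{u + 1}) (Z : X.ProEtᵒᵖ),
      PreservesColimit (CostructuredArrow.proj (ProEtS.eps X).op Z ⋙ P)
      (forget AddCommGrpCat.{u + 1}) := fun P Z => inferInstance
  haveI : ∀ F : EtCoh.Ab X, IsIso ((ProEtS.epsAdj X).unit.app F) :=
    fun F => eps_unit_isIso AddCommGrpCat.{u + 1} F
  haveI : IsIso (ProEtS.epsAdj X).unit := NatIso.isIso_of_isIso_app _
  haveI : (ProEtS.epsPull X).Full := (ProEtS.epsAdj X).fullyFaithfulLOfIsIsoUnit.full
  haveI : (ProEtS.epsPull X).Faithful := (ProEtS.epsAdj X).fullyFaithfulLOfIsIsoUnit.faithful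
  haveI : PreservesFiniteLimits (ProEtS.epsPull X) := epsPull_preservesFiniteLimits X
  haveI : (ProEtS.epsPull X).Additive := (ProEtS.epsAdj X).left_adjoint_additive
  haveI := (ProEtS.epsAdj X).leftAdjoint_preservesColimits
  exact image_weakSerre (ProEtS.epsPull X) S (fun T hT h₁ h₃ => ext_closed_ab X T hT h₁ h₃)

end

/-- Let X be a scheme and S a weak Serre subcategory of the abelian sheaves on the small étale site of
X, i.e. a property of objects holding for a zero object and closed under kernels, cokernels and
extensions. Then the essential image of S under the pullback ε⁻¹ to the small pro-étale site (the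
abelian pro-étale sheaves isomorphic to ε⁻¹G for some G satisfying S) is again a weak Serre
subcategory, now of the abelian sheaves on the small pro-étale site of X. (Continuity of the
inclusion of the étale site into the pro-étale site is carried as a binder.) -/
theorem result
    (X : Scheme.{u}) [ProEtS.EpsCont X]
    (S : ObjectProperty (EtCoh.Ab X)) [WSerre.IsWeakSerre S] :
    WSerre.IsWeakSerre (fun F : ProEtS.AbP X => ∃ G : EtCoh.Ab X, S G ∧ Nonempty ((ProEtS.epsPull X).obj G ≅ F)) := by
  exact Groth.Agent.S14016.main X S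

end Groth.Agent.S14016
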