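import Groth.Statements.S14018
import Mathlib

set_option autoImplicit false
open CategoryTheory CategoryTheory.Limits Opposite
universe w v u
open CohSite

namespace Groth.Agent.S14018

section helpers

/-- The shift functor `m ↦ n + m` on `ℕᵒᵖ`. -/
def shiftN (n : ℕ) : ℕᵒᵖ ⥤ ℕᵒᵖ where
  obj m := op (n + m.unop)
  map f := (homOfLE (Nat.add_le_add_left (leOfHom f.unop) n)).op
  map_id _ := Subsingleton.elim _ _
  map_comp _ _ := Subsingleton.elim _ _

/-- For an inverse sequence of sets with surjective transition maps, every element extends to a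
section. -/
lemma exists_section (E : ℕᵒᵖ ⥤ Type w)
    (hE : ∀ n : ℕ, Function.Surjective (E.map (homOfLE (Nat.le_succ n)).op)) (n : ℕ)
    (x : E.obj (op n)) : ∃ s ∈ E.sections, s (op n) = x := by
  let E' : ℕᵒᵖ ⥤ Type w := shiftN n ⋙ E
  have hE' : ∀ m : ℕ, Function.Surjective (E'.map (homOfLE (Nat.le_succ m)).op) := by
    intro m
    exact hE (n + m)
  obtain ⟨s', hs'⟩ := Types.surjective_π_app_zero_of_surjective_map (Types.limitConeIsLimit E') hE' x
  let t : ∀ m : ℕᵒᵖ, E.obj m := fun m =>
    E.map (homOfLE (Nat.le_add_left m.unop n)).op (s'.1 m)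
  have hcomp : ∀ {a b c : ℕᵒᵖ} (f : a ⟶ b) (g : b ⟶ c) (y : E.obj a),
      E.map g (E.map f y) = E.map (f ≫ g) y := fun f g y => by
    rw [CategoryTheory.Functor.map_comp_apply]
  refine ⟨t, ?_, ?_⟩
  · intro a b f
    have h1 : E'.map f (s'.1 a) = s'.1 b := s'.2 f
    change E.map f (E.map _ (s'.1 a)) = E.map _ (s'.1 b)
    rw [← h1]
    change _ = E.map _ (E.map ((shiftN n).map f) (s'.1 a))
    rw [hcomp, hcomp]
    congr 1
  · have h1 : E'.map (homOfLE (Nat.zero_le n)).op (s'.1 (op n)) = s'.1 (op 0) := s'.2 _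
    change E.map _ (s'.1 (op n)) = x
    rw [← hs']
    change _ = s'.1 (op 0)
    rw [← h1]
    rfl

end helpers

/-- Let (C, J) be a site with enough weakly contractible objects — every object V has a covering sieve
all of whose arrows factor through some weakly contractible object, an object U being weakly
contractible when every epimorphism of sheaves of sets (valued in a fixed universe) is surjective on
sections over U. Then the topos of sheaves of sets is replete: if (F_n) is an inverse system of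
sheaves of sets indexed by ℕ with every transition map F_(n+1) ⟶ F_n an epimorphism, then each
projection lim_n F_n ⟶ F_n is an epimorphism; the limit is taken as any limit cone. (The small
pro-étale site of a scheme is such a site.) -/
theorem result
    {C : Type u} [Category.{v} C] (J : GrothendieckTopology C)
    (hwc : ∀ V : C, ∃ S : Sieve V, S ∈ J V ∧ ∀ ⦃W : C⦄ (f : W ⟶ V), S.arrows f →
      ∃ (U : C) (g : W ⟶ U) (h : U ⟶ V), (∀ (A B : Sheaf J (Type w)) (ψ : A ⟶ B), Epi ψ → Function.Surjective (ψ.hom.app (op U))) ∧ g ≫ h = f)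
    (F : ℕᵒᵖ ⥤ Sheaf J (Type w))
    (hF : ∀ n : ℕ, Epi (F.map (homOfLE (Nat.le_succ n)).op))
    (c : Cone F) (hc : IsLimit c) (n : ℕ) :
    Epi (c.π.app (op n)) := by
  suffices h : Sheaf.IsLocallySurjective (c.π.app (op n)) from inferInstance
  refine ⟨fun {V} s => ?_⟩
  obtain ⟨S, hS, hSf⟩ := hwc V
  refine J.superset_covering ?_ hS
  intro W f hf
  obtain ⟨U, g, h, hU, rfl⟩ := hSf f hf
  let ΓU : Sheaf J (Type w) ⥤ Type w := sheafToPresheaf J _ ⋙ (evaluation _ _).obj (op U)
  let E : ℕᵒᵖ ⥤ Type w := F ⋙ ΓU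
  have hE : ∀ m : ℕ, Function.Surjective (E.map (homOfLE (Nat.le_succ m)).op) := fun m =>
    hU _ _ (F.map (homOfLE (Nat.le_succ m)).op) (hF m)
  let x : E.obj (op n) := (F.obj (op n)).obj.map h.op s
  obtain ⟨σ, hσ, hσn⟩ := exists_section E hE n x
  let hcU := isLimitOfPreserves ΓU hc
  let tU : c.pt.obj.obj (op U) := (Types.isLimitEquivSections hcU).symm ⟨σ, hσ⟩
  have htU : (c.π.app (op n)).hom.app (op U) tU = x :=
    (Types.isLimitEquivSections_symm_apply hcU ⟨σ, hσ⟩ (op n)).trans hσn
  refine ⟨c.pt.obj.map g.op tU, ?_⟩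
  have hnat := ConcreteCategory.congr_hom ((c.π.app (op n)).hom.naturality g.op) tU
  have hnat' : (c.π.app (op n)).hom.app (op W) (c.pt.obj.map g.op tU) =
      (F.obj (op n)).obj.map g.op ((c.π.app (op n)).hom.app (op U) tU) := hnat
  rw [hnat', htU]
  change (F.obj (op n)).obj.map g.op ((F.obj (op n)).obj.map h.op s) = _
  rw [op_comp, CategoryTheory.Functor.map_comp_apply]

end Groth.Agent.S14018
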