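import Groth.Statements.S14019
import Mathlib
import Groth.Agent.Lib.Helper2.EpsX16
import Groth.Agent.Lib.Helper2.ConsWS
-- import your own Groth.Agent.* helpers here

set_option autoImplicit false
open CategoryTheory CategoryTheory.Limits AlgebraicGeometry Opposite
universe u
open EtModW

namespace Groth.Agent.S14019

section

open CategoryTheory CategoryTheory.Limits AlgebraicGeometry Opposite Topology
open Groth.Agent.Helper2.EpsX Groth.Agent.Helper2.EpsU

set_option backward.isDefEq.respectTransparency.types false in
theorem main (Λ : Type (u + 1)) [CommRing Λ] [IsNoetherianRing Λ]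
    (X : Scheme.{u}) [ProEtS.EpsCont X] :
    WSerre.IsWeakSerre (fun F : EtModW.ModP Λ X =>
      ∃ E : EtModW.Mod Λ X, EtModW.IsConstructible Λ E ∧ Nonempty ((EtModW.epsPullMod Λ X).obj E ≅ F)) := by
  have adj : EtModW.epsPullMod Λ X ⊣ (ProEtS.eps X).sheafPushforwardContinuous
      (ModuleCat.{u + 1} Λ) X.smallEtaleTopology (Scheme.ProEt.topology X) :=
    (ProEtS.eps X).sheafAdjunctionContinuous (ModuleCat.{u + 1} Λ) X.smallEtaleTopology
      (Scheme.ProEt.topology X)
  haveI : (EtModW.epsPullMod Λ X).Full := epsPullMod_full Λ X
  haveI : (EtModW.epsPullMod Λ X).Faithful := epsPullMod_faithful Λ X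
  haveI : PreservesFiniteLimits (EtModW.epsPullMod Λ X) := epsPullMod_preservesFiniteLimits X Λ
  haveI : (EtModW.epsPullMod Λ X).Additive := adj.left_adjoint_additive
  haveI := adj.leftAdjoint_preservesColimits
  haveI := Groth.Agent.Helper2.ConsWS.cons_weakSerre Λ X
  exact image_weakSerre (EtModW.epsPullMod Λ X)
    (fun E : EtModW.Mod Λ X => EtModW.IsConstructible Λ E)
    (fun T hT h₁ h₃ => ext_closed_mod Λ X T hT h₁ h₃)

end

/-- Let X be a scheme and Λ a Noetherian commutative ring. A sheaf of Λ-modules on the small pro-étale
site of X is called constructible when it is isomorphic to the pro-étale pullback ε⁻¹G of a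
constructible sheaf G of Λ-modules on the small étale site. Then the constructible sheaves form a
weak Serre subcategory of the category of all sheaves of Λ-modules on the small pro-étale site: the
property holds for zero, for the kernel and cokernel of any morphism between constructible sheaves,
and for any extension of two constructible sheaves. (Continuity of the inclusion of the étale site
into the pro-étale site is carried as a binder.) -/
theorem result
    (Λ : Type (u + 1)) [CommRing Λ] [IsNoetherianRing Λ]
    (X : Scheme.{u}) [ProEtS.EpsCont X] :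
    WSerre.IsWeakSerre (fun F : EtModW.ModP Λ X =>
      ∃ E : EtModW.Mod Λ X, EtModW.IsConstructible Λ E ∧ Nonempty ((EtModW.epsPullMod Λ X).obj E ≅ F)) := by
  exact Groth.Agent.S14019.main Λ X

end Groth.Agent.S14019
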