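import Groth.Statements.S14020
import Mathlib.RingTheory.Artinian.Ring
import Mathlib.Algebra.Module.Torsion.Basic
import Mathlib.RingTheory.Finiteness.Ideal

set_option autoImplicit false
universe u
open CAlg

namespace Groth.Agent.S14020

theorem step (R : Type u) [CommRing R] (I : Ideal R) (hI : I.FG) [IsArtinianRing (R ⧸ I)] (n : ℕ)
    (h : IsArtinian R (R ⧸ I ^ n)) : IsArtinian R (R ⧸ I ^ (n + 1)) := by
  have hfg : Module.Finite R ↥(I ^ n) := Module.Finite.iff_fg.mpr (Ideal.FG.pow hI)
  have h1 : Module.Finite R (↥(I ^ n) ⧸ (I • ⊤ : Submodule R ↥(I ^ n))) := inferInstance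
  have h2 : Module.Finite (R ⧸ I) (↥(I ^ n) ⧸ (I • ⊤ : Submodule R ↥(I ^ n))) :=
    Module.Finite.of_restrictScalars_finite R (R ⧸ I) _
  have h3 : IsArtinian (R ⧸ I) (↥(I ^ n) ⧸ (I • ⊤ : Submodule R ↥(I ^ n))) := inferInstance
  have h4 : IsArtinian R (↥(I ^ n) ⧸ (I • ⊤ : Submodule R ↥(I ^ n))) :=
    isArtinian_of_surjective_algebraMap (S := R) (R := R ⧸ I) Ideal.Quotient.mk_surjective
  have hle : I ^ (n + 1) ≤ I ^ n := Ideal.pow_le_pow_right (Nat.le_succ n)
  let f : (↥(I ^ n) ⧸ (I • ⊤ : Submodule R ↥(I ^ n))) →ₗ[R] R ⧸ I ^ (n + 1) :=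
    Submodule.liftQ _ ((Submodule.mkQ (I ^ (n + 1))) ∘ₗ (Submodule.subtype (I ^ n))) (by
      rw [Submodule.smul_le]
      intro r hr x _
      rw [LinearMap.mem_ker]
      simp only [LinearMap.coe_comp, Function.comp_apply, Submodule.subtype_apply,
        Submodule.mkQ_apply]
      rw [Submodule.Quotient.mk_eq_zero]
      have : ((r • x : ↥(I ^ n)) : R) = r * (x : R) := rfl
      rw [this, pow_succ']
      exact Ideal.mul_mem_mul hr x.2)
  let g : (R ⧸ I ^ (n + 1)) →ₗ[R] R ⧸ I ^ n := Submodule.mapQ _ _ LinearMap.id (by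
    intro x hx
    exact hle hx)
  refine isArtinian_of_range_eq_ker f g ?_
  ext y
  obtain ⟨y, rfl⟩ := Submodule.Quotient.mk_surjective _ y
  constructor
  · rintro ⟨z, hz⟩
    obtain ⟨z, rfl⟩ := Submodule.Quotient.mk_surjective _ z
    rw [LinearMap.mem_ker]
    rw [← hz]
    simp only [f, g, Submodule.liftQ_apply, LinearMap.coe_comp, Function.comp_apply,
      Submodule.subtype_apply, Submodule.mkQ_apply, Submodule.mapQ_apply, LinearMap.id_coe, id_eq]
    rw [Submodule.Quotient.mk_eq_zero]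
    exact z.2
  · intro hy
    rw [LinearMap.mem_ker] at hy
    simp only [g, Submodule.mapQ_apply, LinearMap.id_coe, id_eq] at hy
    rw [Submodule.Quotient.mk_eq_zero] at hy
    refine ⟨Submodule.Quotient.mk ⟨y, hy⟩, ?_⟩
    simp [f]

/-- Let R be a commutative ring and I a finitely generated ideal such that the quotient ring R/I is
artinian. Then R/I^n is artinian for every n. -/
theorem result
    (R : Type u) [CommRing R] (I : Ideal R) (hI : I.FG) [IsArtinianRing (R ⧸ I)] (n : ℕ) :
    IsArtinianRing (R ⧸ I ^ n) := by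
  have key : IsArtinian R (R ⧸ I ^ n) := by
    induction n with
    | zero =>
      have : Subsingleton (R ⧸ I ^ 0) := by
        rw [pow_zero, Ideal.one_eq_top]
        exact Ideal.Quotient.subsingleton_iff.mpr rfl
      exact isArtinian_of_finite
    | succ n ih => exact step R I hI n ih
  exact isArtinian_of_tower R key

end Groth.Agent.S14020
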