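import Groth.Statements.S14029
import Mathlib

set_option autoImplicit false
open CategoryTheory CategoryTheory.Limits Opposite
universe v u
open CohSite

namespace Groth.Agent.S14029

section helpers

variable {C : Type u} [Category.{v} C] (J : GrothendieckTopology C) (U : C)

/-- Restriction of sheaves to the localized site. -/
noncomputable abbrev jpull : Sheaf J (Type (max u v)) ⥤ Sheaf (J.over U) (Type (max u v)) :=
  (Over.forget U).sheafPushforwardContinuous (Type (max u v)) (J.over U) J

/-- Direct image along the localization. -/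
noncomputable abbrev jpush : Sheaf (J.over U) (Type (max u v)) ⥤ Sheaf J (Type (max u v)) :=
  (Over.forget U).sheafPushforwardCocontinuous (Type (max u v)) (J.over U) J

lemma main
    (R : Sheaf (J.over U) (Type (max u v)) ⥤ Sheaf J (Type (max u v)))
    (ε : R ⋙ jpull J U ≅ 𝟭 _)
    (V : C) (hV : ∀ (A B : Sheaf J (Type (max u v))) (ψ : A ⟶ B), Epi ψ →
      Function.Surjective (ψ.hom.app (op V)))
    (a : V ⟶ U) (A B : Sheaf (J.over U) (Type (max u v))) (ψ : A ⟶ B) [Epi ψ] :
    Function.Surjective (ψ.hom.app (op (Over.mk a))) := by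
  intro s
  have hψ : Sheaf.IsLocallySurjective ψ := (Sheaf.isLocallySurjective_iff_epi ψ).2 inferInstance
  let f := R.map ψ
  let X : Over U := Over.mk a
  let s' : (R.obj B).obj.obj (op V) := (ε.inv.app B).hom.app (op X) s
  have hs' : s' ∈ ((Subfunctor.range f.hom).sheafify J).obj (op V) := by
    change (Subfunctor.range f.hom).sieveOfSection s' ∈ J V
    have h1 := Presheaf.imageSieve_mem (J.over U) ψ.hom s
    rw [GrothendieckTopology.mem_over_iff] at h1
    refine J.superset_covering ?_ h1
    intro W g hg
    rw [Sieve.overEquiv_iff] at hg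
    obtain ⟨t, ht⟩ := hg
    refine ⟨(ε.inv.app A).hom.app (op (Over.mk (g ≫ X.hom))) t, ?_⟩
    let Y : Over U := Over.mk (g ≫ X.hom)
    let gY : Y ⟶ X := Over.homMk g rfl
    have n1 : ε.inv.app A ≫ (R ⋙ jpull J U).map ψ = ψ ≫ ε.inv.app B := (ε.inv.naturality ψ).symm
    have n1' := ConcreteCategory.congr_hom
      (congrArg (fun φ => φ.hom.app (op Y)) n1) t
    have n3 := ConcreteCategory.congr_hom ((ε.inv.app B).hom.naturality gY.op) s
    change ((R ⋙ jpull J U).map ψ).hom.app (op Y) ((ε.inv.app A).hom.app (op Y) t) =
      ((R ⋙ jpull J U).obj B).obj.map gY.op ((ε.inv.app B).hom.app (op X) s)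
    refine n1'.trans ?_
    refine Eq.trans ?_ n3
    change (ε.inv.app B).hom.app (op Y) (ψ.hom.app (op Y) t) =
      (ε.inv.app B).hom.app (op Y) (B.obj.map gY.op s)
    exact congrArg _ ht
  obtain ⟨t'', ht''⟩ := hV _ _ (Sheaf.toImage f) inferInstance ⟨s', hs'⟩
  refine ⟨(ε.hom.app A).hom.app (op X) t'', ?_⟩
  have ht3 : f.hom.app (op V) t'' = s' := congrArg Subtype.val ht''
  have n1 : (R ⋙ jpull J U).map ψ ≫ ε.hom.app B = ε.hom.app A ≫ ψ := ε.hom.naturality ψ
  have n1a : ((R ⋙ jpull J U).map ψ ≫ ε.hom.app B).hom.app (op X) =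
      (ε.hom.app A ≫ ψ).hom.app (op X) := by rw [n1]
  let t3 : ((R ⋙ jpull J U).obj A).obj.obj (op X) := t''
  have n1' := ConcreteCategory.congr_hom n1a t3
  refine n1'.symm.trans ?_
  change (ε.hom.app B).hom.app (op X) (f.hom.app (op V) t'') = s
  rw [ht3]
  have h4 : ε.inv.app B ≫ ε.hom.app B = 𝟙 _ := ε.inv_hom_id_app B
  have h4a : (ε.inv.app B ≫ ε.hom.app B).hom.app (op X) = 𝟙 (B.obj.obj (op X)) := by
    rw [h4]; rfl
  exact ConcreteCategory.congr_hom h4a s

lemma full_forget (hU : ∀ W : C, Subsingleton (W ⟶ U)) : (Over.forget U).Full where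
  map_surjective {X Y} f := ⟨Over.homMk f ((hU _).elim _ _), rfl⟩

/-- The counit `j^* j_* ⟶ 𝟭` is an isomorphism when `Hom(-, U)` is a subsingleton. -/
lemma isIso_counit (hU : ∀ W : C, Subsingleton (W ⟶ U)) :
    IsIso ((Over.forget U).sheafAdjunctionCocontinuous (Type (max u v)) (J.over U) J).counit := by
  have := full_forget U hU
  refine @NatIso.isIso_of_isIso_app _ _ _ _ _ _ _ (fun F => ?_)
  have h1 := (Over.forget U).sheafAdjunctionCocontinuous_counit_app_hom (Type (max u v))
    (J.over U) J F
  have h2 : IsIso (((Over.forget U).sheafAdjunctionCocontinuous (Type (max u v))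
      (J.over U) J).counit.app F).hom := by
    rw [h1]
    have : (Over.forget U).op.Full := inferInstance
    have : (Over.forget U).op.Faithful := inferInstance
    have : IsIso (((Over.forget U).op.ranAdjunction (Type (max u v))).counit.app F.obj) := by
      rw [Functor.ranAdjunction_counit]
      infer_instance
    exact this
  exact (isIso_iff_of_reflects_iso _ (sheafToPresheaf (J.over U) (Type (max u v)))).1 h2

end helpers

/-- Let (C, J) be a site and U an object such that every object has at most one morphism to U; assume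
extension by the empty set j_! from sheaves of sets on the localized site C/U to sheaves of sets on
C exists (through sheafification on C and left Kan extensions along C/U → C). If V is weakly
contractible in C — every epimorphism of sheaves of sets on C is surjective on sections over V —
then for any morphism a : V ⟶ U the object V → U of C/U is weakly contractible in C/U: every
epimorphism of sheaves of sets on C/U is surjective on sections over it. Hence C/U has enough weakly
contractible objects when C does. -/
theorem result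
    {C : Type u} [Category.{v} C] (J : GrothendieckTopology C) (U : C)
    (hU : ∀ W : C, Subsingleton (W ⟶ U))
    [HasWeakSheafify J (Type (max u v))]
    [∀ (P : (Over U)ᵒᵖ ⥤ Type (max u v)), (Over.forget U).op.HasLeftKanExtension P]
    (V : C) (hV : (∀ (A B : Sheaf J (Type (max u v))) (ψ : A ⟶ B), Epi ψ → Function.Surjective (ψ.hom.app (op V)))) (a : V ⟶ U) :
    ∀ (A B : Sheaf (J.over U) (Type (max u v))) (ψ : A ⟶ B), Epi ψ →
      Function.Surjective (ψ.hom.app (op (Over.mk a))) := by
  intro A B ψ hψ
  have := isIso_counit J U hU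
  exact main J U (jpush J U)
    (asIso ((Over.forget U).sheafAdjunctionCocontinuous (Type (max u v)) (J.over U) J).counit)
    V hV a A B ψ

end Groth.Agent.S14029
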