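import Groth.Statements.S14032
import Mathlib
-- import your own Groth.Agent.* helpers here

set_option autoImplicit false
universe u v
open W4c1frobunstiva

namespace Groth.Agent.S14032


open TensorProduct

section
variable (R : Type u) [CommRing R] (M : Type v) [AddCommGroup M] [Module R M]

/-- `x ↦ 1 ⊗ x`. -/
noncomputable def phi : M →ₗ[R] (R ⧸ nilradical R) ⊗[R] M :=
  TensorProduct.mk R (R ⧸ nilradical R) M 1

lemma phi_surjective : Function.Surjective (phi R M) := by
  intro t
  obtain ⟨x, hx⟩ := Submodule.Quotient.mk_surjective _
    (TensorProduct.quotTensorEquivQuotSMul M (nilradical R) t)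
  refine ⟨x, ?_⟩
  have := congrArg (TensorProduct.quotTensorEquivQuotSMul M (nilradical R)).symm hx
  rw [TensorProduct.quotTensorEquivQuotSMul_symm_mk, LinearEquiv.symm_apply_apply] at this
  exact this

lemma phi_eq_zero_iff (x : M) :
    phi R M x = 0 ↔ x ∈ (nilradical R) • (⊤ : Submodule R M) := by
  have h : phi R M x = (TensorProduct.quotTensorEquivQuotSMul M (nilradical R)).symm
      (Submodule.Quotient.mk x) := rfl
  rw [h, LinearEquiv.map_eq_zero_iff, Submodule.Quotient.mk_eq_zero]

lemma mk_smul_phi (a : R) (x : M) :
    (Ideal.Quotient.mk (nilradical R) a) • phi R M x = phi R M (a • x) := by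
  rw [map_smul]
  exact algebraMap_smul (R ⧸ nilradical R) a (phi R M x)

end

open TensorProduct in
/-- Let R be a commutative Noetherian ring with nilradical n, M an R-module and r a natural number. Then
M is NR-free of rank r — generated by r elements such that every linear relation among them has
nilpotent coefficients — if and only if (R/n) ⊗_R M is free of rank r over R/n, in the sense of
admitting a basis indexed by r elements. (The published statement assumes M finitely generated and
also gives the converse when R is local; over a Noetherian ring the nilradical is nilpotent, the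
case used here, and finite generation is not needed.) -/
theorem result (R : Type u) [CommRing R]
    [IsNoetherianRing R] (M : Type v) [AddCommGroup M] [Module R M] (r : ℕ) :
    W4c1frobunstiva.IsNRFree R M r ↔
      Nonempty (Module.Basis (Fin r) (R ⧸ nilradical R) ((R ⧸ nilradical R) ⊗[R] M)) := by
  classical
  constructor
  · rintro ⟨m, hspan, hnr⟩
    have hli : LinearIndependent (R ⧸ nilradical R) (fun i => phi R M (m i)) := by
      rw [Fintype.linearIndependent_iff]
      intro g hg i
      have hsurj := Ideal.Quotient.mk_surjective (I := nilradical R)
      choose a ha using fun j => hsurj (g j)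
      have h1 : phi R M (∑ j, a j • m j) = 0 := by
        rw [map_sum, ← hg]
        refine Finset.sum_congr rfl fun j _ => ?_
        rw [← mk_smul_phi, ha j]
      rw [phi_eq_zero_iff, ← hspan, Submodule.mem_ideal_smul_span_iff_exists_sum] at h1
      obtain ⟨c, hc, hsum⟩ := h1
      rw [Finsupp.sum_fintype _ _ (fun j => zero_smul R (m j))] at hsum
      have h2 : ∑ j, (a j - c j) • m j = 0 := by
        simp only [sub_smul, Finset.sum_sub_distrib, hsum, sub_self]
      have h3 := hnr (fun j => a j - c j) h2 i
      have h4 : a i ∈ nilradical R := by
        have : a i = (a i - c i) + c i := by ring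
        rw [this]
        exact Ideal.add_mem _ (mem_nilradical.mpr h3) (hc i)
      rw [← ha i]
      exact Ideal.Quotient.eq_zero_iff_mem.mpr h4
    have hsp : ⊤ ≤ Submodule.span (R ⧸ nilradical R) (Set.range fun i => phi R M (m i)) := by
      intro t _
      obtain ⟨x, rfl⟩ := phi_surjective R M t
      have hx : x ∈ Submodule.span R (Set.range m) := by
        rw [hspan]
        trivial
      obtain ⟨c, rfl⟩ := (Submodule.mem_span_range_iff_exists_fun R).mp hx
      rw [map_sum]
      refine Submodule.sum_mem _ fun j _ => ?_
      rw [← mk_smul_phi]
      exact Submodule.smul_mem _ _ (Submodule.subset_span ⟨j, rfl⟩)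
    exact ⟨Module.Basis.mk hli hsp⟩
  · rintro ⟨e⟩
    choose x hx using fun i => phi_surjective R M (e i)
    refine ⟨x, ?_, ?_⟩
    · -- generation
      set N := Submodule.span R (Set.range x) with hN
      have h1 : N ⊔ (nilradical R) • (⊤ : Submodule R M) = ⊤ := by
        rw [eq_top_iff]
        intro y _
        have hsurj := Ideal.Quotient.mk_surjective (I := nilradical R)
        choose a ha using fun j => hsurj (e.repr (phi R M y) j)
        have h2 : phi R M (y - ∑ j, a j • x j) = 0 := by
          rw [map_sub, map_sum, sub_eq_zero]
          conv_lhs => rw [← e.sum_repr (phi R M y)]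
          refine Finset.sum_congr rfl fun j _ => ?_
          rw [← mk_smul_phi, ha j, hx j]
        rw [phi_eq_zero_iff] at h2
        have h3 : y = ∑ j, a j • x j + (y - ∑ j, a j • x j) := by abel
        rw [h3]
        refine Submodule.add_mem _ (Submodule.mem_sup_left ?_) (Submodule.mem_sup_right h2)
        exact Submodule.sum_mem _ fun j _ =>
          Submodule.smul_mem _ _ (Submodule.subset_span ⟨j, rfl⟩)
      have h2 : ∀ k : ℕ, N ⊔ (nilradical R) ^ k • (⊤ : Submodule R M) = ⊤ := by
        intro k
        induction k with
        | zero => rw [pow_zero, Ideal.one_eq_top, Submodule.top_smul, sup_top_eq]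
        | succ k ih =>
          rw [eq_top_iff]
          calc (⊤ : Submodule R M) = N ⊔ (nilradical R) • (⊤ : Submodule R M) := h1.symm
            _ = N ⊔ (nilradical R) • (N ⊔ (nilradical R) ^ k • (⊤ : Submodule R M)) := by
                rw [ih]
            _ = N ⊔ ((nilradical R) • N ⊔
                  (nilradical R) • (nilradical R) ^ k • (⊤ : Submodule R M)) := by
                rw [Submodule.smul_sup]
            _ ≤ N ⊔ (nilradical R) ^ (k + 1) • (⊤ : Submodule R M) := by
                refine sup_le le_sup_left (sup_le
                  (le_sup_of_le_left Submodule.smul_le_right) (le_sup_of_le_right ?_))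
                rw [← Submodule.mul_smul, ← pow_succ']
      obtain ⟨k, hk⟩ := IsNoetherianRing.isNilpotent_nilradical R
      have h3 := h2 k
      rw [hk, Ideal.zero_eq_bot, Submodule.bot_smul, sup_bot_eq] at h3
      exact h3
    · intro a ha i
      have h1 : ∑ j, (Ideal.Quotient.mk (nilradical R) (a j)) • e j = 0 := by
        have := congrArg (phi R M) ha
        rw [map_sum, map_zero] at this
        rw [← this]
        refine Finset.sum_congr rfl fun j _ => ?_
        rw [← hx j, mk_smul_phi]
      have h2 := Fintype.linearIndependent_iff.mp e.linearIndependent _ h1 i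
      exact mem_nilradical.mp (Ideal.Quotient.eq_zero_iff_mem.mp h2)

end Groth.Agent.S14032
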