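import Groth.Statements.S14033
import Groth.Agent.Lib.Helper21.DualFree

set_option autoImplicit false
universe u v
open W4c1frobunstiva

namespace Groth.Agent.S14033

open DualNumber Pointwise in
/-- Let R be a commutative ring, R[ε] its ring of dual numbers (ε² = 0), M an R[ε]-module and r a
natural number. Then M is free of rank r over R[ε] (admits a basis of r elements) if and only if the
R-modules M/εM and εM are both free of rank r. (The published statement concerns a coherent sheaf on
the product of a scheme S with Spec ℤ[ε] and local freeness of rank r; that assertion is local, and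
this row is its form over one ring, with no finiteness assumption on M and no hypothesis on R.) -/
theorem result (R : Type u) [CommRing R] (M : Type v)
    [AddCommGroup M] [Module R[ε] M] [Module R M] [IsScalarTower R R[ε] M] (r : ℕ) :
    Nonempty (Module.Basis (Fin r) R[ε] M) ↔
      (Nonempty (Module.Basis (Fin r) R (M ⧸ ((ε : R[ε]) • (⊤ : Submodule R[ε] M)))) ∧
        Nonempty (Module.Basis (Fin r) R (((ε : R[ε]) • (⊤ : Submodule R[ε] M)).restrictScalars R))) := by
  constructor
  · rintro ⟨b⟩
    exact ⟨Groth.Agent.Helper21.DN.nonempty_basis_quot b, Groth.Agent.Helper21.DN.nonempty_basis_E b⟩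
  · rintro ⟨⟨cb⟩, ⟨d⟩⟩
    exact Groth.Agent.Helper21.DN.nonempty_basis_of cb d

end Groth.Agent.S14033
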