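import Groth.Statements.S14035
import Mathlib

set_option autoImplicit false
universe u v
open W4c1frobunstiva

namespace Groth.Agent.S14035

open TensorProduct in
/-- Let A → B be a ring homomorphism with B Noetherian. If B modulo its nilradical is flat over A and
every fibre ring κ(p) ⊗_A B, p a prime of A, is reduced, then B is reduced. (This is the affine form
of the statement for a morphism of schemes X → Y all of whose fibres are reduced and whose
restriction to the reduced closed subscheme X_red is flat. The published statement does not say X is
locally Noetherian, but its proof applies Nakayama's lemma to the nilradical as a finitely generated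
ideal; without it the square-zero extension of a discrete valuation ring A by Frac(A)/A is a
counterexample.) -/
theorem result (A : Type u) (B : Type v)
    [CommRing A] [CommRing B] [Algebra A B] [IsNoetherianRing B]
    [Module.Flat A (B ⧸ nilradical B)]
    (hfib : ∀ p : PrimeSpectrum A, IsReduced (p.asIdeal.ResidueField ⊗[A] B)) :
    IsReduced B := by
  classical
  -- Step 1: the fibre of the nilradical over every prime of `A` vanishes
  have key : ∀ p : PrimeSpectrum A, Subsingleton (p.asIdeal.ResidueField ⊗[A] (nilradical B)) := by
    intro p
    have hred := hfib p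
    let g : (nilradical B) →ₗ[A] B := (Submodule.subtype (nilradical B)).restrictScalars A
    let f : B →ₗ[A] (B ⧸ nilradical B) := (Ideal.Quotient.mkₐ A (nilradical B)).toLinearMap
    have hf : Function.Surjective f := Ideal.Quotient.mk_surjective
    have hg : Function.Injective g := Subtype.val_injective
    have H : Function.Exact g f := by
      intro y
      constructor
      · intro hy
        have : y ∈ nilradical B := Ideal.Quotient.eq_zero_iff_mem.mp hy
        exact ⟨⟨y, this⟩, rfl⟩
      · rintro ⟨x, rfl⟩
        exact Ideal.Quotient.eq_zero_iff_mem.mpr x.2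
    have hinj := LinearMap.lTensor_injective_of_exact_of_flat f hf g hg H p.asIdeal.ResidueField
    have hnil : ∀ x : p.asIdeal.ResidueField ⊗[A] (nilradical B),
        g.lTensor _ x ∈ nilradical (p.asIdeal.ResidueField ⊗[A] B) := by
      intro x
      induction x using TensorProduct.induction_on with
      | zero => rw [map_zero]; exact zero_mem _
      | tmul k n =>
        rw [LinearMap.lTensor_tmul]
        have h1 : k ⊗ₜ[A] (g n) =
            (k ⊗ₜ[A] (1 : B)) * ((1 : p.asIdeal.ResidueField) ⊗ₜ[A] (n : B)) := by
          rw [Algebra.TensorProduct.tmul_mul_tmul, mul_one, one_mul]; rfl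
        rw [h1]
        apply Ideal.mul_mem_left
        rw [mem_nilradical]
        have hn : IsNilpotent (n : B) := mem_nilradical.mp n.2
        obtain ⟨m, hm⟩ := hn
        exact ⟨m, by rw [Algebra.TensorProduct.tmul_pow, hm, one_pow, TensorProduct.tmul_zero]⟩
      | add x y hx hy => rw [map_add]; exact Ideal.add_mem _ hx hy
    refine ⟨fun x y => hinj ?_⟩
    have hx := hnil x
    have hy := hnil y
    rw [nilradical_eq_zero, Ideal.zero_eq_bot, Ideal.mem_bot] at hx hy
    rw [hx, hy]
  -- Step 2: hence the fibre over every prime of `B` vanishes
  have hsupp : Module.support B (nilradical B) = ∅ := by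
    rw [Set.eq_empty_iff_forall_notMem]
    intro q
    rw [Module.mem_support_iff_nontrivial_residueField_tensorProduct,
      not_nontrivial_iff_subsingleton]
    let p : PrimeSpectrum A := ⟨q.asIdeal.comap (algebraMap A B), inferInstance⟩
    have hp := key p
    let ι : p.asIdeal.ResidueField →ₐ[A] q.asIdeal.ResidueField :=
      Ideal.ResidueField.mapₐ p.asIdeal q.asIdeal (Algebra.ofId A B) rfl
    let Φ : p.asIdeal.ResidueField ⊗[A] (nilradical B) →ₗ[A]
        q.asIdeal.ResidueField ⊗[B] (nilradical B) :=
      (TensorProduct.mapOfCompatibleSMul B A A q.asIdeal.ResidueField (nilradical B)) ∘ₗ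
        (ι.toLinearMap.rTensor (nilradical B))
    have hΦ : ∀ n : nilradical B, (1 : q.asIdeal.ResidueField) ⊗ₜ[B] n = 0 := by
      intro n
      have h1 : Φ ((1 : p.asIdeal.ResidueField) ⊗ₜ[A] n)
          = (1 : q.asIdeal.ResidueField) ⊗ₜ[B] n := by
        simp [Φ]
      rw [← h1, Subsingleton.elim ((1 : p.asIdeal.ResidueField) ⊗ₜ[A] n) 0, map_zero]
    have hz : ∀ z : q.asIdeal.ResidueField ⊗[B] (nilradical B), z = 0 := by
      intro z
      induction z using TensorProduct.induction_on with
      | zero => rfl
      | tmul k n =>
        have h2 : k ⊗ₜ[B] n = k • ((1 : q.asIdeal.ResidueField) ⊗ₜ[B] n) := by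
          rw [TensorProduct.smul_tmul', smul_eq_mul, mul_one]
        rw [h2, hΦ, smul_zero]
      | add x y hx hy => rw [hx, hy, add_zero]
    exact ⟨fun x y => by rw [hz x, hz y]⟩
  rw [Module.support_eq_empty_iff] at hsupp
  refine ⟨fun x hx => ?_⟩
  have h3 : (⟨x, mem_nilradical.mpr hx⟩ : nilradical B) = 0 := Subsingleton.elim _ _
  exact congrArg Subtype.val h3

end Groth.Agent.S14035
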