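import Groth.Statements.S14040
import Groth.Agent.S14035

set_option autoImplicit false
universe u v
open W4c1frobunstiva

namespace Groth.Agent.S14040

open TensorProduct in
/-- Let A be a discrete valuation ring and B a Noetherian A-algebra such that the nilradical of B is
prime and meets the image of A only in 0 — the spectrum of B is irreducible and its generic point
lies over the generic point of A. If every fibre ring κ(p) ⊗_A B, p a prime of A, is reduced, then B
is reduced and flat over A. (Affine form of the statement for a dominant morphism from an
irreducible scheme to the spectrum of a discrete valuation ring with reduced fibres. The published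
statement also covers a scheme that is already reduced and does not assume it locally Noetherian;
this row treats reduced fibres with B Noetherian, without which the square-zero extension A ⊕
Frac(A)/A is a counterexample.) -/
theorem result (A : Type u) [CommRing A]
    [IsDomain A] [IsDiscreteValuationRing A] (B : Type v) [CommRing B] [Algebra A B]
    [IsNoetherianRing B] (hirr : (nilradical B).IsPrime)
    (hdom : (nilradical B).comap (algebraMap A B) = ⊥)
    (hfib : ∀ p : PrimeSpectrum A, IsReduced (p.asIdeal.ResidueField ⊗[A] B)) :
    IsReduced B ∧ Module.Flat A B := by
  classical
  have := hirr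
  have htf : Module.IsTorsionFree A (B ⧸ nilradical B) := by
    refine ⟨fun r hr x y hxy => ?_⟩
    have hr0 : r ≠ 0 := hr.ne_zero
    have h1 : algebraMap A (B ⧸ nilradical B) r ≠ 0 := by
      intro h
      apply hr0
      have h2 : algebraMap A B r ∈ nilradical B := by
        rw [← Ideal.Quotient.eq_zero_iff_mem]; exact h
      have h3 : r ∈ (nilradical B).comap (algebraMap A B) := h2
      rw [hdom] at h3
      exact (Ideal.mem_bot).mp h3
    change r • x = r • y at hxy
    rw [Algebra.smul_def, Algebra.smul_def] at hxy
    exact mul_left_cancel₀ h1 hxy
  have hflat : Module.Flat A (B ⧸ nilradical B) := inferInstance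
  have hred : IsReduced B := Groth.Agent.S14035.result A B hfib
  refine ⟨hred, ?_⟩
  have hN : nilradical B = ⊥ := nilradical_eq_zero B
  let f : B →ₗ[A] (B ⧸ nilradical B) := (Ideal.Quotient.mkₐ A (nilradical B)).toLinearMap
  have hf : Function.Bijective f := by
    refine ⟨?_, Ideal.Quotient.mk_surjective⟩
    rw [injective_iff_map_eq_zero]
    intro x hx
    have h4 : x ∈ nilradical B := Ideal.Quotient.eq_zero_iff_mem.mp hx
    rw [hN] at h4
    exact (Ideal.mem_bot).mp h4
  exact Module.Flat.of_linearEquiv (LinearEquiv.ofBijective f hf)

end Groth.Agent.S14040
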