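import Groth.Statements.S14043
import Mathlib
-- import your own Groth.Agent.* helpers here

set_option autoImplicit false
universe u v
open W4c1frobunstiva

namespace Groth.Agent.S14043


section
variable {R : Type u} [CommRing R] {M : Type v} [AddCommGroup M] [Module R M] {r : ℕ}

/-- Action of a matrix on a family of module elements. -/
def act (T : Matrix (Fin r) (Fin r) R) (w : Fin r → M) : Fin r → M :=
  fun j => ∑ i, T j i • w i

lemma act_mul (S T : Matrix (Fin r) (Fin r) R) (w : Fin r → M) :
    act (S * T) w = act S (act T w) := by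
  funext j
  simp only [act, Matrix.mul_apply, Finset.sum_smul, Finset.smul_sum, mul_smul]
  rw [Finset.sum_comm]

lemma act_one (w : Fin r → M) : act (1 : Matrix (Fin r) (Fin r) R) w = w := by
  funext j
  simp [act, Matrix.one_apply, ite_smul]

lemma exists_act (w x : Fin r → M) (hw : Submodule.span R (Set.range w) = ⊤) :
    ∃ P : Matrix (Fin r) (Fin r) R, x = act P w := by
  have : ∀ j, ∃ c : Fin r → R, ∑ i, c i • w i = x j := fun j =>
    (Submodule.mem_span_range_iff_exists_fun R).mp (by rw [hw]; trivial)
  choose c hc using this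
  exact ⟨Matrix.of c, funext fun j => (hc j).symm⟩

lemma isUnit_of_nr (b : Fin r → M) (hb : W4c1frobunstiva.IsNRBasis R M b)
    (X : Matrix (Fin r) (Fin r) R) (hX : act X b = b) : IsUnit X := by
  have hnil : ∀ j i, IsNilpotent ((X - 1) j i) := by
    intro j
    apply hb.2 (fun i => (X - 1) j i)
    have h1 := congrFun hX j
    have h2 := congrFun (act_one (R := R) b) j
    simp only [act] at h1 h2
    simp only [Matrix.sub_apply, sub_smul, Finset.sum_sub_distrib, h1, h2, sub_self]
  rw [Matrix.isUnit_iff_isUnit_det]
  have hdet : Ideal.Quotient.mk (nilradical R) (X.det) = 1 := by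
    rw [RingHom.map_det]
    have : (Ideal.Quotient.mk (nilradical R)).mapMatrix X = 1 := by
      ext j i
      have h := hnil j i
      rw [← mem_nilradical, ← Ideal.Quotient.eq_zero_iff_mem, Matrix.sub_apply, map_sub,
        sub_eq_zero] at h
      simp only [RingHom.mapMatrix_apply, Matrix.map_apply]
      rw [h, Matrix.one_apply, Matrix.one_apply]
      split_ifs <;> simp
    rw [this, Matrix.det_one]
  have hn : IsNilpotent (X.det - 1) := by
    rw [← mem_nilradical, ← Ideal.Quotient.eq_zero_iff_mem, map_sub, hdet, map_one, sub_self]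
  have := hn.isUnit_add_one
  simpa using this

end

/-- Let R be a commutative Noetherian ring, M an R-module that is NR-free of rank r — generated by some
r elements all of whose linear relations have nilpotent coefficients — and m, m' two generating
families of M, each indexed by the same finite set of size r. Then some invertible r × r matrix T
over R expresses m' in terms of m, m'_j = Σ_i T_{ji} m_i; reducing modulo the nilradical n, such a T
induces the change-of-basis matrix between the bases of M/nM given by the images of m and m' (an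
r-element generating family of M is itself an NR-basis), so only the existence of an invertible T is
asserted here. (T is not unique.) -/
theorem result (R : Type u) [CommRing R]
    [IsNoetherianRing R] (M : Type v) [AddCommGroup M] [Module R M] (r : ℕ)
    (hM : W4c1frobunstiva.IsNRFree R M r) (m m' : Fin r → M)
    (hm : Submodule.span R (Set.range m) = ⊤) (hm' : Submodule.span R (Set.range m') = ⊤) :
    ∃ T : Matrix (Fin r) (Fin r) R, IsUnit T ∧ ∀ j, m' j = ∑ i, T j i • m i := by
  obtain ⟨b, hb⟩ := hM
  have key : ∀ w : Fin r → M, Submodule.span R (Set.range w) = ⊤ →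
      ∃ Q : Matrix (Fin r) (Fin r) R, IsUnit Q ∧ w = act Q b := by
    intro w hw
    obtain ⟨P, hP⟩ := exists_act w b hw
    obtain ⟨Q, hQ⟩ := exists_act b w hb.1
    have hPQ : act (P * Q) b = b := by rw [act_mul, ← hQ, ← hP]
    have hu := isUnit_of_nr b hb (P * Q) hPQ
    rw [Matrix.isUnit_iff_isUnit_det, Matrix.det_mul] at hu
    exact ⟨Q, (Matrix.isUnit_iff_isUnit_det Q).mpr (isUnit_of_mul_isUnit_right hu), hQ⟩
  obtain ⟨Q, hQu, hQ⟩ := key m hm
  obtain ⟨Q', hQ'u, hQ'⟩ := key m' hm'
  have hb' : b = act ((hQu.unit⁻¹ : (Matrix (Fin r) (Fin r) R)ˣ) : Matrix (Fin r) (Fin r) R) m := by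
    conv_rhs => rw [hQ, ← act_mul]
    have : ((hQu.unit⁻¹ : (Matrix (Fin r) (Fin r) R)ˣ) : Matrix (Fin r) (Fin r) R) * Q = 1 := by
      have := hQu.unit.inv_mul
      rwa [IsUnit.unit_spec] at this
    rw [this, act_one]
  refine ⟨Q' * ((hQu.unit⁻¹ : (Matrix (Fin r) (Fin r) R)ˣ) : Matrix (Fin r) (Fin r) R),
    hQ'u.mul (Units.isUnit _), ?_⟩
  intro j
  have : m' = act (Q' * ((hQu.unit⁻¹ : (Matrix (Fin r) (Fin r) R)ˣ) :
      Matrix (Fin r) (Fin r) R)) m := by
    rw [act_mul, ← hb', ← hQ']
  exact congrFun this j

end Groth.Agent.S14043
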