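import Groth.Statements.S14046
import Mathlib
-- import your own Groth.Agent.* helpers here

set_option autoImplicit false
universe u v w
open W4c1frobunstiva

namespace Groth.Agent.S14046

open TensorProduct in
/-- Let R → A be a homomorphism of commutative rings and I, J ideals of A with I ∩ J = 0 — so that A is
the fibre product of A/I and A/J over A/(I + J), i.e. Spec A is the union of the two closed
subschemes in the strong sense — and suppose A/(I + J) is flat over R. Then this persists under
every base change: for every commutative R-algebra R', the ideals generated by I and J in R' ⊗_R A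
again meet in 0. (This is the ideal-theoretic, affine form of the base-change step; the exact
sequence of unit sheaves deduced from it in the published statement — restriction of units to a
closed subscheme being surjective locally — is not restated. Without flatness of A/(I + J) the
conclusion fails: for A = k[x, y]/(xy) over R = k[u] with u ↦ x + y, I = (x) and J = (y), the base
change to R/(u) gives k[x]/(x²), in which both ideals become (x).) -/
theorem result (R : Type u) (A : Type v)
    [CommRing R] [CommRing A] [Algebra R A] (I J : Ideal A) (hIJ : I ⊓ J = ⊥)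
    [Module.Flat R (A ⧸ (I ⊔ J))] (R' : Type w) [CommRing R'] [Algebra R R'] :
    I.map (Algebra.TensorProduct.includeRight : A →ₐ[R] R' ⊗[R] A) ⊓
      J.map (Algebra.TensorProduct.includeRight : A →ₐ[R] R' ⊗[R] A) = ⊥ := by
  classical
  let qI : A →ₗ[R] A ⧸ I := (Submodule.mkQ I).restrictScalars R
  let qJ : A →ₗ[R] A ⧸ J := (Submodule.mkQ J).restrictScalars R
  let g : A →ₗ[R] (A ⧸ I) × (A ⧸ J) := qI.prod qJ
  let pI : A ⧸ I →ₗ[R] A ⧸ (I ⊔ J) :=
    (Submodule.mapQ I (I ⊔ J) LinearMap.id (fun x hx => (le_sup_left : I ≤ I ⊔ J) hx)).restrictScalars R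
  let pJ : A ⧸ J →ₗ[R] A ⧸ (I ⊔ J) :=
    (Submodule.mapQ J (I ⊔ J) LinearMap.id (fun x hx => (le_sup_right : J ≤ I ⊔ J) hx)).restrictScalars R
  let f : (A ⧸ I) × (A ⧸ J) →ₗ[R] A ⧸ (I ⊔ J) := pI.coprod (-pJ)
  have hg : Function.Injective g := by
    rw [injective_iff_map_eq_zero]
    intro a ha
    have h1 : (Submodule.Quotient.mk a : A ⧸ I) = 0 := congrArg Prod.fst ha
    have h2 : (Submodule.Quotient.mk a : A ⧸ J) = 0 := congrArg Prod.snd ha
    rw [Submodule.Quotient.mk_eq_zero] at h1 h2
    have : a ∈ I ⊓ J := ⟨h1, h2⟩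
    rw [hIJ] at this
    exact this
  have hf : Function.Surjective f := by
    intro y
    obtain ⟨b, rfl⟩ := Submodule.Quotient.mk_surjective _ y
    refine ⟨(Submodule.Quotient.mk b, 0), ?_⟩
    simp [f, pI]
  have H : Function.Exact g f := by
    intro w
    obtain ⟨w1, w2⟩ := w
    obtain ⟨x, rfl⟩ := Submodule.Quotient.mk_surjective _ w1
    obtain ⟨y, rfl⟩ := Submodule.Quotient.mk_surjective _ w2
    have hfw : f (Submodule.Quotient.mk x, Submodule.Quotient.mk y) =
        (Submodule.Quotient.mk (x - y) : A ⧸ (I ⊔ J)) := by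
      simp [f, pI, pJ, sub_eq_add_neg]
    rw [hfw, Submodule.Quotient.mk_eq_zero]
    constructor
    · intro h
      obtain ⟨i, hi, j, hj, hij⟩ := Submodule.mem_sup.mp h
      refine ⟨x - i, ?_⟩
      refine Prod.ext ?_ ?_
      · change (Submodule.Quotient.mk (x - i) : A ⧸ I) = Submodule.Quotient.mk x
        rw [Submodule.Quotient.eq]
        simpa using I.neg_mem hi
      · change (Submodule.Quotient.mk (x - i) : A ⧸ J) = Submodule.Quotient.mk y
        rw [Submodule.Quotient.eq]
        have : x - i - y = j := by linear_combination -hij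
        rw [this]
        exact hj
    · rintro ⟨a, ha⟩
      have h1 : (Submodule.Quotient.mk a : A ⧸ I) = Submodule.Quotient.mk x :=
        congrArg Prod.fst ha
      have h2 : (Submodule.Quotient.mk a : A ⧸ J) = Submodule.Quotient.mk y :=
        congrArg Prod.snd ha
      rw [Submodule.Quotient.eq] at h1 h2
      have : x - y = -(a - x) + (a - y) := by ring
      rw [this]
      exact Submodule.add_mem _ (Submodule.mem_sup_left (I.neg_mem h1))
        (Submodule.mem_sup_right h2)
  have hinj := LinearMap.lTensor_injective_of_exact_of_flat f hf g hg H R'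
  -- ring homs killing the extended ideals
  let φI : R' ⊗[R] A →ₐ[R] R' ⊗[R] (A ⧸ I) :=
    Algebra.TensorProduct.map (AlgHom.id R R') (Ideal.Quotient.mkₐ R I)
  let φJ : R' ⊗[R] A →ₐ[R] R' ⊗[R] (A ⧸ J) :=
    Algebra.TensorProduct.map (AlgHom.id R R') (Ideal.Quotient.mkₐ R J)
  have hφI : ∀ z, φI z = qI.lTensor R' z := by
    intro z
    induction z with
    | zero => simp
    | tmul r a => rfl
    | add x y hx hy => rw [map_add, map_add, hx, hy]
  have hφJ : ∀ z, φJ z = qJ.lTensor R' z := by
    intro z
    induction z with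
    | zero => simp
    | tmul r a => rfl
    | add x y hx hy => rw [map_add, map_add, hx, hy]
  have hkI : I.map (Algebra.TensorProduct.includeRight : A →ₐ[R] R' ⊗[R] A) ≤
      RingHom.ker φI.toRingHom := by
    rw [Ideal.map_le_iff_le_comap]
    intro i hi
    rw [Ideal.mem_comap, RingHom.mem_ker]
    change φI ((1 : R') ⊗ₜ[R] i) = 0
    rw [hφI]
    change (1 : R') ⊗ₜ[R] (Submodule.Quotient.mk i : A ⧸ I) = 0
    rw [(Submodule.Quotient.mk_eq_zero I).mpr hi, TensorProduct.tmul_zero]
  have hkJ : J.map (Algebra.TensorProduct.includeRight : A →ₐ[R] R' ⊗[R] A) ≤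
      RingHom.ker φJ.toRingHom := by
    rw [Ideal.map_le_iff_le_comap]
    intro i hi
    rw [Ideal.mem_comap, RingHom.mem_ker]
    change φJ ((1 : R') ⊗ₜ[R] i) = 0
    rw [hφJ]
    change (1 : R') ⊗ₜ[R] (Submodule.Quotient.mk i : A ⧸ J) = 0
    rw [(Submodule.Quotient.mk_eq_zero J).mpr hi, TensorProduct.tmul_zero]
  have hfst : ∀ z, (TensorProduct.prodRight R R R' (A ⧸ I) (A ⧸ J) (g.lTensor R' z)).1 =
      qI.lTensor R' z := by
    intro z
    induction z with
    | zero => simp
    | tmul r a => rfl
    | add x y hx hy => simp only [map_add, Prod.fst_add, hx, hy]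
  have hsnd : ∀ z, (TensorProduct.prodRight R R R' (A ⧸ I) (A ⧸ J) (g.lTensor R' z)).2 =
      qJ.lTensor R' z := by
    intro z
    induction z with
    | zero => simp
    | tmul r a => rfl
    | add x y hx hy => simp only [map_add, Prod.snd_add, hx, hy]
  rw [eq_bot_iff]
  rintro z ⟨hzI, hzJ⟩
  rw [Ideal.mem_bot]
  apply hinj
  rw [map_zero]
  apply (TensorProduct.prodRight R R R' (A ⧸ I) (A ⧸ J)).injective
  rw [map_zero]
  refine Prod.ext ?_ ?_
  · rw [hfst, ← hφI]
    exact hkI hzI
  · rw [hsnd, ← hφJ]
    exact hkJ hzJ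

end Groth.Agent.S14046
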