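import Groth.Statements.S14049
import Mathlib.AlgebraicGeometry.Morphisms.Affine
-- import your own Groth.Agent.* helpers here

set_option autoImplicit false
universe u
open CategoryTheory AlgebraicGeometry
open LocStr

namespace Groth.Agent.S14049

section
open CategoryTheory AlgebraicGeometry

theorem surj_of_nilpotent {B A : Type*} [CommRing B] [CommRing A] (φ : B →+* A)
    (I : Ideal A) (hI : IsNilpotent I) (H : ∀ a : A, ∃ b : B, a - φ b ∈ I ^ 2) :
    Function.Surjective φ := by
  have key : ∀ k : ℕ, ∀ a : A, ∃ b : B, a - φ b ∈ I ^ (k + 2) := by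
    intro k
    induction k with
    | zero => simpa using H
    | succ k ih =>
      have h1 : ∀ z ∈ I ^ (k + 2), ∃ b : B, z - φ b ∈ I ^ (k + 3) := by
        intro z hz
        rw [pow_succ'] at hz
        refine Submodule.mul_induction_on hz ?_ ?_
        · intro x hx y hy
          obtain ⟨b₁, hb₁⟩ := H x
          obtain ⟨b₂, hb₂⟩ := ih y
          refine ⟨b₁ * b₂, ?_⟩
          have e : x * y - φ (b₁ * b₂) = (x - φ b₁) * y + φ b₁ * (y - φ b₂) := by
            rw [map_mul]; ring
          rw [e]
          apply Ideal.add_mem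
          · have := Ideal.mul_mem_mul hb₁ hy
            rwa [← pow_add, show 2 + (k + 1) = k + 3 by ring] at this
          · have hφb : φ b₁ ∈ I := by
              have : φ b₁ = x - (x - φ b₁) := by ring
              rw [this]
              exact I.sub_mem hx (Ideal.pow_le_self two_ne_zero hb₁)
            have := Ideal.mul_mem_mul hφb hb₂
            rwa [← pow_succ'] at this
        · rintro x y ⟨b₁, h₁⟩ ⟨b₂, h₂⟩
          refine ⟨b₁ + b₂, ?_⟩
          have e : x + y - φ (b₁ + b₂) = (x - φ b₁) + (y - φ b₂) := by rw [map_add]; ring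
          rw [e]
          exact Ideal.add_mem _ h₁ h₂
      intro a
      obtain ⟨b, hb⟩ := ih a
      obtain ⟨b', hb'⟩ := h1 _ hb
      refine ⟨b + b', ?_⟩
      have e : a - φ (b + b') = (a - φ b) - φ b' := by rw [map_add]; ring
      rw [e]
      exact hb'
  obtain ⟨n, hn⟩ := hI
  intro a
  obtain ⟨b, hb⟩ := key n a
  have h0 : I ^ (n + 2) = ⊥ := by rw [pow_add, hn]; simp
  rw [h0] at hb
  exact ⟨b, (sub_eq_zero.mp hb).symm⟩

theorem main (X Y : Scheme.{u}) (f : X ⟶ Y)
    (I : X.IdealSheafData) (hI : IsNilpotent I)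
    (h : IsClosedImmersion ((I ^ 2).subschemeι ≫ f)) :
    IsClosedImmersion f := by
  obtain ⟨n, hn⟩ := hI
  have hn1 : I ^ (n + 1) = 0 := by rw [pow_succ, hn, zero_mul]
  have hsupp : (I ^ 2).support = ⊤ := by
    rw [Scheme.IdealSheafData.support_pow _ _ two_ne_zero,
      ← Scheme.IdealSheafData.support_pow I (n + 1) (Nat.succ_ne_zero n), hn1]
    exact Scheme.IdealSheafData.support_bot
  have hιsurj : Function.Surjective (I ^ 2).subschemeι := by
    rw [← Set.range_eq_univ, Scheme.IdealSheafData.range_subschemeι, hsupp]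
    rfl
  have hιemb : Topology.IsClosedEmbedding (I ^ 2).subschemeι :=
    (I ^ 2).subschemeι.isClosedEmbedding
  let e : (I ^ 2).subscheme ≃ₜ X := hιemb.isEmbedding.toHomeomorphOfSurjective hιsurj
  have hcomp : Topology.IsClosedEmbedding ((I ^ 2).subschemeι ≫ f) :=
    ((I ^ 2).subschemeι ≫ f).isClosedEmbedding
  have hf_emb : Topology.IsClosedEmbedding f := by
    have : (f : X → Y) = ((I ^ 2).subschemeι ≫ f) ∘ e.symm := by
      funext x
      obtain ⟨z, rfl⟩ := e.surjective x
      simp only [Function.comp_apply, Homeomorph.symm_apply_apply, Scheme.Hom.comp_apply]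
      rfl
    rw [this]
    exact hcomp.comp e.symm.isClosedEmbedding
  haveI hfaff : IsAffineHom f :=
    isAffineHom_of_isInducing f hf_emb.isInducing hf_emb.isClosed_range
  rw [isClosedImmersion_iff_isAffineHom]
  refine ⟨hfaff, fun V hV => ?_⟩
  have hU : IsAffineOpen (f ⁻¹ᵁ V) := hV.preimage f
  have hsurj : Function.Surjective (((I ^ 2).subschemeι ≫ f).app V) :=
    Scheme.Hom.app_surjective _ V hV
  have hInil : IsNilpotent (I.ideal ⟨f ⁻¹ᵁ V, hU⟩) := by
    refine ⟨n + 1, ?_⟩
    have := congrArg (fun J : X.IdealSheafData => J.ideal ⟨f ⁻¹ᵁ V, hU⟩) hn1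
    simpa using this
  apply surj_of_nilpotent (f.app V).hom (I.ideal ⟨f ⁻¹ᵁ V, hU⟩) hInil
  intro a
  obtain ⟨b, hb⟩ := hsurj ((I ^ 2).subschemeι.app (f ⁻¹ᵁ V) a)
  refine ⟨b, ?_⟩
  have hker := (I ^ 2).ker_subschemeι_app ⟨f ⁻¹ᵁ V, hU⟩
  have : a - (f.app V).hom b ∈ RingHom.ker ((I ^ 2).subschemeι.app (f ⁻¹ᵁ V)).hom := by
    rw [RingHom.mem_ker, map_sub, sub_eq_zero]
    rw [← hb]
    simp [Scheme.Hom.comp_app]
    rfl
  rw [hker] at this
  simpa using this

end

/-- For schemes. Let f : X → Y be a morphism of schemes and let I be a quasi-coherent sheaf of ideals on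
X which is nilpotent (some power of I is zero). Let X₁ ⊆ X be the closed subscheme defined by I².
Then f is a closed immersion as soon as the composite X₁ → X → Y is one. (The published statement is
the same assertion for a morphism of algebraic stacks; it is stated here for schemes.) -/
theorem result (X Y : Scheme.{u}) (f : X ⟶ Y)
    (I : X.IdealSheafData) (hI : IsNilpotent I)
    (h : IsClosedImmersion ((I ^ 2).subschemeι ≫ f)) :
    IsClosedImmersion f := by
  exact Groth.Agent.S14049.main X Y f I hI h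

end Groth.Agent.S14049
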