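import Groth.Statements.S14051
import Mathlib
-- import your own Groth.Agent.* helpers here

set_option autoImplicit false
universe u
open CAlg

namespace Groth.Agent.S14051

/-- Let A be a commutative ℕ-graded algebra over a base ring R which is generated by A_1 as an
A_0-algebra, written as A_{n+1} = A_1 · A_n for every n, and let M be a graded A-module: an A-module
with R-submodules M_n giving a direct-sum decomposition and A_i · M_j ⊆ M_{i+j}. If M is spanned
over A by a set of homogeneous elements all of degree at most n₀, then for every n ≥ n₀ and every k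
≥ 0 the degree-(n+k) part of M is A_k · M_n. -/
theorem result
    (R : Type u) [CommRing R] (A : Type u) [CommRing A] [Algebra R A]
    (𝒜 : ℕ → Submodule R A) [GradedAlgebra 𝒜]
    (hA : ∀ n : ℕ, 𝒜 (n + 1) = 𝒜 1 * 𝒜 n)
    (M : Type u) [AddCommGroup M] [Module R M] [Module A M] [IsScalarTower R A M]
    (ℳ : ℕ → Submodule R M) [DirectSum.Decomposition ℳ] [SetLike.GradedSMul 𝒜 ℳ]
    (s : Set M) (n₀ : ℕ) (hs : ∀ y ∈ s, ∃ d : ℕ, d ≤ n₀ ∧ y ∈ ℳ d)
    (hspan : Submodule.span A s = ⊤)
    (n k : ℕ) (hn : n₀ ≤ n) :
    ℳ (n + k) = 𝒜 k • ℳ n := by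
  classical
  have hmul : ∀ i j, 𝒜 i • ℳ j ≤ ℳ (i + j) := fun i j =>
    Submodule.smul_le.mpr fun a ha m hm => SetLike.GradedSMul.smul_mem ha hm
  let Q : ℕ → Submodule R M := fun t =>
    ⨆ (d : ℕ) (_ : d ≤ n₀) (j : ℕ) (_ : j + d = t), 𝒜 j • ℳ d
  have hQle : ∀ t, Q t ≤ ℳ t := by
    intro t
    refine iSup_le fun d => iSup_le fun _ => iSup_le fun j => iSup_le fun hjd => ?_
    rw [← hjd]
    exact hmul j d
  have hQmem : ∀ (d : ℕ), d ≤ n₀ → ∀ j, 𝒜 j • ℳ d ≤ ⨆ t, Q t := by
    intro d hd j
    refine le_trans ?_ (le_iSup Q (j + d))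
    exact le_iSup₂_of_le d hd (le_iSup₂_of_le j rfl le_rfl)
  have hP : ∀ x : M, x ∈ ⨆ t, Q t := by
    intro x
    have hx : x ∈ Submodule.span A s := by
      rw [hspan]
      trivial
    induction hx using Submodule.span_induction with
    | mem y hy =>
      obtain ⟨d, hd, hyd⟩ := hs y hy
      apply hQmem d hd 0
      rw [← one_smul A y]
      exact Submodule.smul_mem_smul (SetLike.one_mem_graded 𝒜) hyd
    | zero => exact zero_mem _
    | add x y _ _ hx hy => exact add_mem hx hy
    | smul a x _ hx =>
      rw [← DirectSum.sum_support_decompose 𝒜 a, Finset.sum_smul]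
      refine Submodule.sum_mem _ fun i _ => ?_
      have hb : ((DirectSum.decompose 𝒜 a i : 𝒜 i) : A) ∈ 𝒜 i := (DirectSum.decompose 𝒜 a i).2
      have hle : (⨆ t, Q t) ≤ (⨆ t, Q t).comap
          ((LinearMap.lsmul A M ((DirectSum.decompose 𝒜 a i : 𝒜 i) : A)).restrictScalars R) := by
        refine iSup_le fun t => iSup_le fun d => iSup_le fun hd => iSup_le fun j =>
          iSup_le fun _ => ?_
        rw [Submodule.smul_le]
        intro c hc m hm
        rw [Submodule.mem_comap]
        change ((DirectSum.decompose 𝒜 a i : 𝒜 i) : A) • (c • m) ∈ _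
        rw [← mul_smul]
        exact hQmem d hd (i + j) (Submodule.smul_mem_smul (SetLike.mul_mem_graded hb hc) hm)
      exact hle hx
  have hMQ : ∀ t, ℳ t ≤ Q t := by
    intro t x hx
    have key : ∀ y ∈ (⨆ t', Q t'), ((DirectSum.decompose ℳ y t : ℳ t) : M) ∈ Q t := by
      intro y hy
      refine Submodule.iSup_induction Q
        (motive := fun y => ((DirectSum.decompose ℳ y t : ℳ t) : M) ∈ Q t) hy ?_ ?_ ?_
      · intro t' z hz
        by_cases htt : t' = t
        · subst htt
          rw [DirectSum.decompose_of_mem_same ℳ (hQle _ hz)]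
          exact hz
        · rw [DirectSum.decompose_of_mem_ne ℳ (hQle _ hz) htt]
          exact zero_mem _
      · rw [DirectSum.decompose_zero, DirectSum.zero_apply, ZeroMemClass.coe_zero]
        exact zero_mem _
      · intro u v hu hv
        rw [DirectSum.decompose_add, DirectSum.add_apply, Submodule.coe_add]
        exact add_mem hu hv
    have := key x (hP x)
    rwa [DirectSum.decompose_of_mem_same ℳ hx] at this
  have hstep : ∀ m, n₀ ≤ m → ℳ (m + 1) ≤ 𝒜 1 • ℳ m := by
    intro m hm
    refine (hMQ (m + 1)).trans ?_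
    refine iSup_le fun d => iSup_le fun hd => iSup_le fun j => iSup_le fun hjd => ?_
    obtain ⟨j', rfl⟩ : ∃ j', j = j' + 1 := ⟨j - 1, by lia⟩
    have hjm : j' + d = m := by lia
    rw [hA j', Submodule.smul_le]
    intro r hr y hy
    refine Submodule.mul_induction_on hr ?_ ?_
    · intro a ha b hb
      rw [mul_smul]
      refine Submodule.smul_mem_smul ha ?_
      rw [← hjm]
      exact hmul j' d (Submodule.smul_mem_smul hb hy)
    · intro u v hu hv
      rw [add_smul]
      exact add_mem hu hv
  apply le_antisymm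
  · induction k with
    | zero =>
      intro x hx
      rw [← one_smul A x]
      exact Submodule.smul_mem_smul (SetLike.one_mem_graded 𝒜) hx
    | succ k ih =>
      have h1 : ℳ (n + (k + 1)) ≤ 𝒜 1 • ℳ (n + k) := hstep (n + k) (by lia)
      refine h1.trans ?_
      rw [hA k, Submodule.smul_le]
      intro a ha y hy
      have hy' := ih hy
      refine Submodule.smul_induction_on hy' ?_ ?_
      · intro b hb z hz
        rw [← mul_smul]
        exact Submodule.smul_mem_smul (Submodule.mul_mem_mul ha hb) hz
      · intro u v hu hv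
        rw [smul_add]
        exact add_mem hu hv
  · rw [add_comm]
    exact hmul k n

end Groth.Agent.S14051
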