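import Groth.Statements.S14053
import Mathlib
-- import your own Groth.Agent.* helpers here

set_option autoImplicit false
universe u
open CAlg

namespace Groth.Agent.S14053


lemma peel {k R : Type*} [Field k] [CommRing R] [Algebra k R] (ℛ : ℕ → Submodule k R)
    [GradedAlgebra ℛ] {ι : Type*} [Fintype ι] (w q : ι → ℕ) (g : ι → R)
    (hg : ∀ i, g i ∈ ℛ (w i)) (hq : ∀ i, q i * w i = 6)
    (hadj : Algebra.adjoin k (Set.range g) = ⊤) (e : ℕ) (he : ∑ i, (q i - 1) * w i ≤ e)
    (N : ℕ) (hN : e < N) : ℛ N ≤ ℛ 6 * ℛ (N - 6) := by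
  classical
  intro x hx
  have hmon : ∀ a : ι → ℕ, (∏ i, g i ^ a i) ∈ ℛ (∑ i, a i * w i) := fun a => by
    have := SetLike.prod_pow_mem_graded ℛ w g (F := Finset.univ) a (fun i _ => hg i)
    simpa [smul_eq_mul] using this
  have hx' : x ∈ (MvPolynomial.aeval g : MvPolynomial ι k →ₐ[k] R).range := by
    rw [← Algebra.adjoin_range_eq_range_aeval, hadj]
    exact Algebra.mem_top
  obtain ⟨P, hPx⟩ := hx'
  replace hPx : MvPolynomial.aeval g P = x := hPx
  subst hPx
  have hP : MvPolynomial.aeval g P = ∑ α ∈ P.support, P.coeff α • ∏ i, g i ^ α i := by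
    conv_lhs => rw [P.as_sum]
    rw [map_sum]
    refine Finset.sum_congr rfl fun α _ => ?_
    rw [MvPolynomial.aeval_monomial, Finsupp.prod_fintype _ _ (fun i => pow_zero _),
      Algebra.smul_def]
  have hproj : MvPolynomial.aeval g P =
      ∑ α ∈ P.support.filter (fun α => ∑ i, α i * w i = N), P.coeff α • ∏ i, g i ^ α i := by
    have h1 : GradedRing.proj ℛ N (MvPolynomial.aeval g P) = MvPolynomial.aeval g P := by
      rw [GradedRing.proj_apply]
      exact DirectSum.decompose_of_mem_same ℛ hx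
    rw [← h1, hP, map_sum, Finset.sum_filter]
    refine Finset.sum_congr rfl fun α _ => ?_
    rw [GradedRing.proj_apply]
    split_ifs with h
    · exact DirectSum.decompose_of_mem_same ℛ (h ▸ (ℛ _).smul_mem _ (hmon α))
    · exact DirectSum.decompose_of_mem_ne ℛ ((ℛ _).smul_mem _ (hmon α)) h
  rw [hproj]
  refine Submodule.sum_mem _ fun α hα => ?_
  rw [Finset.mem_filter] at hα
  apply Submodule.smul_mem
  obtain ⟨i, hi⟩ : ∃ i, q i ≤ α i := by
    by_contra hcon
    push Not at hcon
    have : ∑ i, α i * w i ≤ ∑ i, (q i - 1) * w i :=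
      Finset.sum_le_sum fun i _ => Nat.mul_le_mul_right _ (by have := hcon i; lia)
    lia
  set a : ι → ℕ := fun j => α j with ha
  let σ : ι → ℕ := Pi.single i (q i)
  let a' : ι → ℕ := fun j => a j - σ j
  have hdec : a = σ + a' := by
    funext j
    by_cases hji : j = i
    · subst hji
      simp only [Pi.add_apply, a', σ, Pi.single_eq_same]
      have : q j ≤ a j := hi
      lia
    · simp [a', σ, Pi.single_eq_of_ne hji]
  have hmonS : ∏ j, g j ^ σ j = g i ^ q i := by
    rw [Finset.prod_eq_single i]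
    · simp [σ]
    · intro j _ hji
      simp [σ, Pi.single_eq_of_ne hji]
    · simp
  have hwtS : ∑ j, σ j * w j = 6 := by
    rw [Finset.sum_eq_single i]
    · simp [σ, hq i]
    · intro j _ hji
      simp [σ, Pi.single_eq_of_ne hji]
    · simp
  have hsplit : ∏ j, g j ^ a j = g i ^ q i * ∏ j, g j ^ a' j := by
    conv_lhs => rw [hdec]
    simp only [Pi.add_apply, pow_add, Finset.prod_mul_distrib]
    rw [hmonS]
  have hwt : ∑ j, a' j * w j = N - 6 := by
    have h2 : ∑ j, a j * w j = 6 + ∑ j, a' j * w j := by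
      conv_lhs => rw [hdec]
      simp only [Pi.add_apply, add_mul, Finset.sum_add_distrib]
      rw [hwtS]
    have h3 : ∑ j, a j * w j = N := hα.2
    lia
  change ∏ j, g j ^ a j ∈ ℛ 6 * ℛ (N - 6)
  rw [hsplit]
  apply Submodule.mul_mem_mul
  · have := SetLike.pow_mem_graded (A := ℛ) (q i) (hg i)
    rwa [smul_eq_mul, hq i] at this
  · have := hmon a'
    rwa [hwt] at this

/-- Let k be a field and R a commutative ℕ-graded k-algebra with R_0 = k · 1 which is generated as a
k-algebra by R_1, R_2 and R_3, each a finite-dimensional k-vector space, of dimensions d_1, d_2,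
d_3. Then for every natural number e ≥ 5 d_1 + 4 d_2 + 3 d_3 the (6e)-th Veronese subring of R is
generated in degree one over k: R_{6em} = (R_{6e})^m for every m > 0. -/
theorem result
    (k : Type u) [Field k] (R : Type u) [CommRing R] [Algebra k R]
    (ℛ : ℕ → Submodule k R) [GradedAlgebra ℛ]
    (h0 : ℛ 0 = 1)
    (hgen : Algebra.adjoin k ((ℛ 1 : Set R) ∪ (ℛ 2 : Set R) ∪ (ℛ 3 : Set R)) = ⊤)
    [Module.Finite k (ℛ 1)] [Module.Finite k (ℛ 2)] [Module.Finite k (ℛ 3)]
    (e : ℕ) (he : 5 * Module.finrank k (ℛ 1) + 4 * Module.finrank k (ℛ 2) + 3 * Module.finrank k (ℛ 3) ≤ e)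
    (m : ℕ) (hm : 0 < m) :
    ℛ (m * (6 * e)) = ℛ (6 * e) ^ m := by
  classical
  let b1 := Module.finBasis k (ℛ 1)
  let b2 := Module.finBasis k (ℛ 2)
  let b3 := Module.finBasis k (ℛ 3)
  let ι := (Fin (Module.finrank k (ℛ 1)) ⊕ Fin (Module.finrank k (ℛ 2))) ⊕
    Fin (Module.finrank k (ℛ 3))
  let w : ι → ℕ := Sum.elim (Sum.elim (fun _ => 1) (fun _ => 2)) (fun _ => 3)
  let q : ι → ℕ := Sum.elim (Sum.elim (fun _ => 6) (fun _ => 3)) (fun _ => 2)
  let g : ι → R :=
    Sum.elim (Sum.elim (fun i => (b1 i : R)) (fun i => (b2 i : R))) (fun i => (b3 i : R))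
  have hg : ∀ i, g i ∈ ℛ (w i) := by
    rintro ((i | i) | i)
    · exact (b1 i).2
    · exact (b2 i).2
    · exact (b3 i).2
  have hq : ∀ i, q i * w i = 6 := by
    rintro ((i | i) | i) <;> rfl
  have hsum : ∑ i, (q i - 1) * w i ≤ e := by
    have : ∑ i, (q i - 1) * w i = 5 * Module.finrank k (ℛ 1) + 4 * Module.finrank k (ℛ 2) +
        3 * Module.finrank k (ℛ 3) := by
      simp [ι, w, q, Fintype.sum_sum_type]
      ring
    lia
  have hadj : Algebra.adjoin k (Set.range g) = ⊤ := by
    rw [eq_top_iff, ← hgen]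
    apply Algebra.adjoin_le
    have key : ∀ (j : ℕ) (b : Module.Basis (Fin (Module.finrank k (ℛ j))) k (ℛ j)),
        (∀ i, (b i : R) ∈ Algebra.adjoin k (Set.range g)) →
        (ℛ j : Set R) ⊆ Algebra.adjoin k (Set.range g) := by
      intro j b hb x hx
      have hrepr := b.sum_repr ⟨x, hx⟩
      have hx' : x = ∑ i, (b.repr ⟨x, hx⟩ i) • (b i : R) := by
        have := congrArg (Subtype.val) hrepr
        simp only [Submodule.coe_sum, Submodule.coe_smul] at this
        exact this.symm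
      rw [hx']
      exact Subalgebra.sum_mem _ fun i _ => Subalgebra.smul_mem _ (hb i) _
    rintro x ((hx | hx) | hx)
    · exact key 1 b1 (fun i => Algebra.subset_adjoin ⟨Sum.inl (Sum.inl i), rfl⟩) hx
    · exact key 2 b2 (fun i => Algebra.subset_adjoin ⟨Sum.inl (Sum.inr i), rfl⟩) hx
    · exact key 3 b3 (fun i => Algebra.subset_adjoin ⟨Sum.inr i, rfl⟩) hx
  have hpeel := fun N hN => peel ℛ w q g hg hq hadj e hsum N hN
  have hpow : ∀ (a n : ℕ), (ℛ a) ^ n ≤ ℛ (n * a) := by
    intro a n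
    induction n with
    | zero =>
      rw [pow_zero, zero_mul]
      exact Submodule.one_le.mpr (SetLike.one_mem_graded ℛ)
    | succ n ih =>
      rw [pow_succ, add_mul, one_mul]
      exact (mul_le_mul' ih le_rfl).trans
        (Submodule.mul_le.mpr fun x hx y hy => SetLike.mul_mem_graded hx hy)
  have hchain : ∀ (D : ℕ) (j : ℕ), j ≤ e → e + 6 * e ≤ D →
      ℛ D ≤ (ℛ 6) ^ j * ℛ (D - 6 * j) := by
    intro D j
    induction j with
    | zero =>
      intro _ _
      simp
    | succ j ih =>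
      intro hj hD
      refine (ih (by lia) hD).trans ?_
      rw [pow_succ, mul_assoc]
      refine mul_le_mul' le_rfl ?_
      have : D - 6 * (j + 1) = D - 6 * j - 6 := by lia
      rw [this]
      exact hpeel _ (by lia)
  apply le_antisymm
  · obtain ⟨m', rfl⟩ : ∃ m', m = m' + 1 := ⟨m - 1, by lia⟩
    clear hm
    induction m' with
    | zero => simp
    | succ m' ih =>
      have h0' : 2 * (6 * e) ≤ (m' + 1 + 1) * (6 * e) := Nat.mul_le_mul_right _ (by lia)
      have h1 := hchain ((m' + 1 + 1) * (6 * e)) e le_rfl (by lia)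
      have h2 : (m' + 1 + 1) * (6 * e) - 6 * e = (m' + 1) * (6 * e) := by
        rw [add_mul (m' + 1) 1, one_mul]
        lia
      rw [h2] at h1
      calc ℛ ((m' + 1 + 1) * (6 * e)) ≤ ℛ 6 ^ e * ℛ ((m' + 1) * (6 * e)) := h1
        _ ≤ ℛ (6 * e) * ℛ (6 * e) ^ (m' + 1) :=
          mul_le_mul' (by have := hpow 6 e; rwa [mul_comm] at this) ih
        _ = ℛ (6 * e) ^ (m' + 1 + 1) := (pow_succ' _ _).symm
  · exact hpow (6 * e) m

end Groth.Agent.S14053
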