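import Groth.Statements.S14059
import Groth.Agent.Lib.Helper12.TanUnr
import Groth.Agent.Lib.Helper12.TanK
import Groth.Agent.Lib.Helper16.Sch.EtField

set_option autoImplicit false
universe u
open CategoryTheory MonoidalCategory CartesianMonoidalCategory MonObj GrpObj AlgebraicGeometry
open GrpSch

namespace Groth.Agent.S14059

open Groth.Agent.Helper12.Tan in
/-- the structure map to the local ring at a point of an étale scheme over an algebraically closed
field is bijective -/
theorem stalkMap_bijective_of_etale (k : Type u) [Field k] [IsAlgClosed k] (X : Scheme.{u})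
    (φ : X ⟶ Spec (CommRingCat.of k)) [Etale φ] (g : X) :
    letI : X.Over (Spec (CommRingCat.of k)) := ⟨φ⟩
    Function.Bijective (Curv2.stalkMap k X g) ∧ IsOpen ({g} : Set X) := by
  letI : X.Over (Spec (CommRingCat.of k)) := ⟨φ⟩
  obtain ⟨K, _, _, _, _, j, hj, hrange, hjφ⟩ :=
    Groth.Agent.Helper16.EtField.exists_point_chart k X φ g
  haveI := hj
  refine ⟨?_, ?_⟩
  swap
  · rw [← hrange]
    exact j.isOpenEmbedding.isOpen_range
  have hpt : j (IsLocalRing.closedPoint K) = g := by
    have : j (IsLocalRing.closedPoint K) ∈ Set.range j := ⟨_, rfl⟩
    rw [hrange] at this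
    exact this
  subst hpt
  -- the algebra map is bijective
  have hbij : Function.Bijective (algebraMap k K) :=
    IsAlgClosed.algebraMap_bijective_of_isIntegral
  -- the composite to `K`
  let pt := IsLocalRing.closedPoint K
  let s := j.stalkMap pt
  haveI : IsIso s := inferInstance
  have hcomp : (CommRingCat.ofHom (Curv2.stalkMap k X (j pt))) ≫ s ≫
      (stalkClosedPointIso (CommRingCat.of K)).hom = CommRingCat.ofHom (algebraMap k K) := by
    have h1 : CommRingCat.ofHom (Curv2.stalkMap k X (j pt)) =
        (Scheme.ΓSpecIso (CommRingCat.of k)).inv ≫ φ.appTop ≫ X.presheaf.germ ⊤ (j pt) trivial := by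
      rfl
    rw [h1]
    have h2 : X.presheaf.germ ⊤ (j pt) trivial ≫ s =
        j.appTop ≫ (Spec (CommRingCat.of K)).presheaf.germ ⊤ pt trivial := by
      exact Scheme.Hom.germ_stalkMap j ⊤ pt trivial
    simp only [Category.assoc]
    rw [reassoc_of% h2, germ_stalkClosedPointIso_hom]
    rw [← Category.assoc φ.appTop, ← Scheme.Hom.comp_appTop, hjφ]
    rw [← Category.assoc, ← Scheme.ΓSpecIso_inv_naturality, Category.assoc, Iso.inv_hom_id,
      Category.comp_id]
  have hbij2 : Function.Bijective
      ((CommRingCat.ofHom (Curv2.stalkMap k X (j pt))) ≫ s ≫
        (stalkClosedPointIso (CommRingCat.of K)).hom).hom := by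
    rw [hcomp]
    exact hbij
  have hiso : Function.Bijective (s ≫ (stalkClosedPointIso (CommRingCat.of K)).hom).hom :=
    ConcreteCategory.bijective_of_isIso (s ≫ (stalkClosedPointIso (CommRingCat.of K)).hom)
  have h3 : ((CommRingCat.ofHom (Curv2.stalkMap k X (j pt))) ≫ s ≫
        (stalkClosedPointIso (CommRingCat.of K)).hom).hom =
      (s ≫ (stalkClosedPointIso (CommRingCat.of K)).hom).hom.comp (Curv2.stalkMap k X (j pt)) := rfl
  rw [h3] at hbij2
  exact (Function.Bijective.of_comp_iff' hiso _).mp hbij2


/-- Let k be an algebraically closed field and G a group scheme of finite type over k, with unit point e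
(the image of the unit section). Then the tangent space of G at e is zero, that is the cotangent
space m_e/m_e² of the local ring O_{G,e} vanishes, if and only if G is isomorphic over k to a finite
disjoint union of copies of Spec k, stated as: the underlying space of G is finite and discrete and
the structure map k → O_{G,g} is bijective for every point g. (The published statement is over an
arbitrary field; the group scheme of cube roots of unity over the rationals has zero tangent space
at the unit but a point with residue field larger than the base field, and the printed argument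
translates by rational points, so the base field is taken algebraically closed here.) -/
theorem result (k : Type u) [Field k] [IsAlgClosed k]
    (G : Over (Spec (CommRingCat.of k))) [GrpObj G] [LocallyOfFiniteType G.hom] [QuasiCompact G.hom]
    (e : G.left) (he : e ∈ Set.range (η[G]).left.base) :
    letI : G.left.Over (Spec (CommRingCat.of k)) := ⟨G.hom⟩
    Subsingleton (IsLocalRing.CotangentSpace (G.left.presheaf.stalk e)) ↔
      (Finite G.left ∧ DiscreteTopology G.left ∧
        ∀ g : G.left, Function.Bijective (Curv2.stalkMap k G.left g)) := by
  classical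
  haveI : IsLocallyNoetherian G.left := LocallyOfFiniteType.isLocallyNoetherian G.hom
  -- identify `e` with the unit point
  obtain ⟨t, rfl⟩ := he
  have ht : t = IsLocalRing.closedPoint k := Subsingleton.elim (α := PrimeSpectrum k) _ _
  subst ht
  rw [IsLocalRing.subsingleton_cotangentSpace_iff]
  constructor
  · intro hfield
    have hm : IsLocalRing.maximalIdeal ↑(Groth.Agent.Helper12.Tan.Ost G η[G]) = ⊥ :=
      IsLocalRing.isField_iff_maximalIdeal_eq.mp hfield
    -- unramified
    haveI : LocallyOfFiniteType (toUnit G).left := by
      rw [Groth.Agent.Helper12.Tan.toUnit_left]; infer_instance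
    have hunr : FormallyUnramified (toUnit G).left := by
      rw [Groth.Agent.Helper12.Tan.formallyUnramified_iff_map]
      apply le_antisymm
      · exact Groth.Agent.Helper12.Tan.map_usharp_le _ _
      · rw [hm]; exact bot_le
    rw [Groth.Agent.Helper12.Tan.toUnit_left] at hunr
    haveI := hunr
    haveI : Subsingleton ↥(Spec (CommRingCat.of k)) :=
      inferInstanceAs (Subsingleton (PrimeSpectrum k))
    haveI : LocallyOfFinitePresentation G.hom :=
      LocallyOfFinitePresentation.iff_locallyOfFiniteType.mpr inferInstance
    haveI : Flat G.hom := Groth.Agent.Helper12.Tan.flat_over_field G.hom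
    haveI : Etale G.hom := Etale.of_formallyUnramified_of_flat G.hom
    have key := stalkMap_bijective_of_etale k G.left G.hom
    haveI : DiscreteTopology G.left := by
      rw [discreteTopology_iff_isOpen_singleton]
      intro g
      exact (key g).2
    haveI : CompactSpace G.left := QuasiCompact.compactSpace_of_compactSpace G.hom
    exact ⟨finite_of_compact_of_discrete, inferInstance, fun g => (key g).1⟩
  · rintro ⟨-, -, h⟩
    have hb := h ((η[G]).left.base (IsLocalRing.closedPoint k))
    exact (RingEquiv.ofBijective _ hb).symm.toMulEquiv.isField (Field.toIsField k)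

end Groth.Agent.S14059
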