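import Groth.Statements.S14060
import Mathlib

set_option autoImplicit false
universe u
open CategoryTheory CategoryTheory.Limits TopologicalSpace
open CohTop

namespace Groth.Agent.S14060

open CategoryTheory CategoryTheory.Limits TopologicalSpace
open CohTop

open Abelian Opposite

section
variable {X : TopCat.{u}} [HasExt.{u} (Sheaf (Opens.grothendieckTopology X) AddCommGrpCat.{u})]


lemma H_subsingleton_X₃ (S : ShortComplex (Sheaf (Opens.grothendieckTopology X) AddCommGrpCat.{u})) (hS : S.ShortExact) (n : ℕ)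
    (h2 : Subsingleton (Sheaf.H S.X₂ n)) (h1 : Subsingleton (Sheaf.H S.X₁ (n + 1))) :
    Subsingleton (Sheaf.H S.X₃ n) := by
  refine subsingleton_of_forall_eq 0 fun x₃ => ?_
  obtain ⟨x₂, hx₂⟩ := Ext.covariant_sequence_exact₃ _ hS x₃ (n₁ := n + 1) rfl
    (Subsingleton.elim (α := Sheaf.H S.X₁ (n + 1)) _ _)
  have h0 : x₂ = 0 := Subsingleton.elim (α := Sheaf.H S.X₂ n) x₂ 0
  rw [← hx₂, h0, Ext.zero_comp]

lemma app_top_surjective (S : ShortComplex (Sheaf (Opens.grothendieckTopology X) AddCommGrpCat.{u})) (hS : S.ShortExact)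
    (h1 : Subsingleton (Sheaf.H S.X₁ 1)) :
    Function.Surjective (S.g.hom.app (op ⊤)) := by
  intro t
  let T : (Opens X) := ⊤
  have hT : IsTerminal T := isTerminalTop
  let x₃ : Sheaf.H S.X₃ 0 := (Sheaf.H.equiv₀ S.X₃ hT).symm t
  obtain ⟨x₂, hx₂⟩ := Ext.covariant_sequence_exact₃ _ hS x₃ (n₁ := 1) rfl
    (Subsingleton.elim (α := Sheaf.H S.X₁ 1) _ _)
  refine ⟨Sheaf.H.equiv₀ S.X₂ hT x₂, ?_⟩
  have hnat := Sheaf.H.equiv₀_naturality hT S.g x₂
  have h2 : Sheaf.H.map S.g 0 x₂ = x₃ := hx₂
  rw [h2] at hnat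
  refine Eq.trans ?_ (hnat.trans ?_)
  · rfl
  · exact (Sheaf.H.equiv₀ S.X₃ hT).apply_symm_apply t

/-- the lift of the differential to the kernel of the next differential -/
noncomputable def pLift (F : ChainComplex (Sheaf (Opens.grothendieckTopology X) AddCommGrpCat.{u}) ℕ)
    (j : ℕ) : F.X (j + 2) ⟶ kernel (F.d (j + 1) j) :=
  kernel.lift (F.d (j + 1) j) (F.d (j + 2) (j + 1)) (F.d_comp_d _ _ _)

lemma pLift_ι (F : ChainComplex (Sheaf (Opens.grothendieckTopology X) AddCommGrpCat.{u}) ℕ)
    (j : ℕ) : pLift F j ≫ kernel.ι (F.d (j + 1) j) = F.d (j + 2) (j + 1) :=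
  kernel.lift_ι _ _ _

lemma ι_pLift (F : ChainComplex (Sheaf (Opens.grothendieckTopology X) AddCommGrpCat.{u}) ℕ)
    (j : ℕ) : kernel.ι (F.d (j + 2) (j + 1)) ≫ pLift F j = 0 := by
  rw [← cancel_mono (kernel.ι (F.d (j + 1) j)), Category.assoc, pLift_ι, kernel.condition, zero_comp]

lemma step_shortExact (F : ChainComplex (Sheaf (Opens.grothendieckTopology X) AddCommGrpCat.{u}) ℕ)
    (j : ℕ) (hex : F.ExactAt (j + 1)) :
    (ShortComplex.mk (kernel.ι (F.d (j + 2) (j + 1))) (pLift F j) (ι_pLift F j)).ShortExact := by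
  have hsc : (F.sc' (j + 2) (j + 1) j).Exact := by
    rw [← HomologicalComplex.exactAt_iff' F (j + 2) (j + 1) j (by simp) (by simp)]
    exact hex
  have hepi : Epi (pLift F j) := (ShortComplex.exact_iff_epi_kernel_lift _).1 hsc
  have hmono : Mono (kernel.ι (F.d (j + 2) (j + 1))) := inferInstance
  refine ShortComplex.ShortExact.mk' ?_ hmono hepi
  apply ShortComplex.exact_of_f_is_kernel
  exact isKernelOfComp (kernel.ι (F.d (j + 1) j)) (F.d (j + 2) (j + 1))
    (kernelIsKernel (F.d (j + 2) (j + 1))) (ι_pLift F j) (pLift_ι F j)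

lemma key (F : ChainComplex (Sheaf (Opens.grothendieckTopology X) AddCommGrpCat.{u}) ℕ)
    (r : ℕ) (hr : 1 ≤ r)
    (hmono : Mono (F.d r (r - 1)))
    (hex : ∀ j : ℕ, 1 ≤ j → j < r → F.ExactAt j)
    (hvan : ∀ j : ℕ, 2 ≤ j → j ≤ r → Subsingleton (Sheaf.H (F.X j) (j - 1))) :
    ∀ (k j : ℕ), j + k + 1 = r → Subsingleton (Sheaf.H (kernel (F.d (j + 1) j)) (j + 1)) := by
  intro k
  induction k with
  | zero =>
    intro j hj
    have hj' : j + 1 = r := by omega
    subst hj'
    have hm : Mono (F.d (j + 1) j) := hmono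
    exact Sheaf.subsingleton_H_of_isZero (isZero_kernel_of_mono _) _
  | succ k ih =>
    intro j hj
    have h1 := ih (j + 1) (by omega)
    have h2 : Subsingleton (Sheaf.H (F.X (j + 2)) (j + 1)) := hvan (j + 2) (by omega) (by omega)
    exact H_subsingleton_X₃ _ (step_shortExact F j (hex (j + 1) (by omega) (by omega))) (j + 1) h2 h1

end

/-- Let X be a topological space, r ≥ 1 an integer and 0 → F_r → ⋯ → F_2 → F_1 → F_0 → 0 an exact
sequence of sheaves of abelian groups on X, presented as a chain complex F of abelian sheaves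
indexed by the natural numbers whose differential F_r → F_{r−1} is a monomorphism, whose
differential F_1 → F_0 is an epimorphism of sheaves, and which is exact at F_j for 1 ≤ j ≤ r − 1
(for r = 1 the single map F_1 → F_0 is mono and epi). Assume the sheaf cohomology groups H^{j−1}(X,
F_j) vanish for 2 ≤ j ≤ r. Then the map on global sections F_1(X) → F_0(X) is surjective. (The
instance hypothesis that the category of abelian sheaves on X has Ext groups in the universe of X
holds for every X, abelian sheaves on a space forming a Grothendieck abelian category; it is the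
setting in which sheaf cohomology is defined.) -/
theorem result (X : TopCat.{u})
    [HasExt.{u} (Sheaf (Opens.grothendieckTopology X) AddCommGrpCat.{u})]
    (r : ℕ) (hr : 1 ≤ r)
    (F : ChainComplex (Sheaf (Opens.grothendieckTopology X) AddCommGrpCat.{u}) ℕ)
    (hmono : Mono (F.d r (r - 1))) (hepi : Epi (F.d 1 0))
    (hex : ∀ j : ℕ, 1 ≤ j → j < r → F.ExactAt j)
    (hvan : ∀ j : ℕ, 2 ≤ j → j ≤ r → Subsingleton (Sheaf.H (F.X j) (j - 1))) :
    Function.Surjective ((F.d 1 0).hom.app (Opposite.op ⊤)) := by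
  have h1 : Subsingleton (Sheaf.H (kernel (F.d (0 + 1) 0)) (0 + 1)) :=
    key F r hr hmono hex hvan (r - 1) 0 (by omega)
  have hS : (ShortComplex.mk (kernel.ι (F.d 1 0)) (F.d 1 0) (kernel.condition _)).ShortExact := by
    refine ShortComplex.ShortExact.mk' ?_ inferInstance hepi
    exact ShortComplex.exact_of_f_is_kernel _ (kernelIsKernel (F.d 1 0))
  exact app_top_surjective _ hS h1

end Groth.Agent.S14060
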