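import Groth.Statements.S14064
import Groth.Agent.Lib.Helper23.IntSec

set_option autoImplicit false
universe u
open CategoryTheory CategoryTheory.Limits AlgebraicGeometry TopologicalSpace
open Surf

namespace Groth.Agent.S14064

/-- Fix a field k, an integral proper k-scheme X, and an invertible O_X-module L with tensor inverse M.
Suppose that L^{⊗j} has a nonzero global section for every j ≥ 4 and that no tensor power L^{⊗j}
with j ≥ 1 is isomorphic to O_X. Then H⁰(X, M^{⊗i}) = 0 for every i ≥ 1: the negative powers of L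
have no nonzero global sections. (The published statement is for the canonical module of a minimal
surface of general type over an algebraically closed field, where the fourth and higher powers are
globally generated by a deep result quoted without proof, and non-triviality of the positive powers
comes from bigness; the published deduction of this part uses exactly the two hypotheses carried
here, on an integral proper X.) -/
theorem result (k : Type u) [Field k]
    (X : Scheme.{u}) [X.Over (Spec (CommRingCat.of k))] [IsProper (X ↘ (Spec (CommRingCat.of k)))] [IsIntegral X]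
    (L M : X.Modules) (hL : PicF.IsInvertible L) (hM : ClSub.IsInverseOf M L)
    (hsec : ∀ j : ℕ, 4 ≤ j → Nontrivial (Coh.HH X (CohB1.tensorPow L j) 0))
    (hnt : ∀ j : ℕ, 1 ≤ j → IsEmpty (CohB1.tensorPow L j ≅ Coh.structureModule X))
    (i : ℕ) (hi : 1 ≤ i) :
    Subsingleton (Coh.HH X (CohB1.tensorPow M i) 0) := by
  obtain ⟨eML⟩ := hM
  have hMi : PicF.IsInvertible M := Groth.Agent.Helper13.Inv.isInvertible_of_tensor_iso M L eML
  constructor
  by_contra hns
  have hnt' : Nontrivial (Coh.HH X (CohB1.tensorPow M i) 0) := by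
    by_contra hh
    rw [not_nontrivial_iff_subsingleton] at hh
    exact hns hh.elim
  obtain ⟨σ, hσ⟩ := (Groth.Agent.Helper23.IntSec.nontrivial_HH0_iff _).1 hnt'
  obtain ⟨τ, hτ⟩ := (Groth.Agent.Helper23.IntSec.nontrivial_HH0_iff _).1 (hsec (4 * i) (by omega))
  have hPi : PicF.IsInvertible (CohB1.tensorPow M i) :=
    Groth.Agent.Helper13.Inv.isInvertible_tensorPow M hMi i
  have hP2 : PicF.IsInvertible (CohB1.tensorMod (CohB1.tensorPow M i) (CohB1.tensorPow M i)) :=
    Groth.Agent.Helper13.Inv.isInvertible_tensorMod _ _ hPi hPi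
  have hP4 : PicF.IsInvertible (CohB1.tensorMod
      (CohB1.tensorMod (CohB1.tensorPow M i) (CohB1.tensorPow M i))
      (CohB1.tensorMod (CohB1.tensorPow M i) (CohB1.tensorPow M i))) :=
    Groth.Agent.Helper13.Inv.isInvertible_tensorMod _ _ hP2 hP2
  have hLj : PicF.IsInvertible (CohB1.tensorPow L (4 * i)) :=
    Groth.Agent.Helper13.Inv.isInvertible_tensorPow L hL (4 * i)
  have hσ2 := Groth.Agent.Helper23.IntSec.tmul_ne_zero _ _ hPi hPi σ σ hσ hσ
  have hσ4 := Groth.Agent.Helper23.IntSec.tmul_ne_zero _ _ hP2 hP2 _ _ hσ2 hσ2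
  have hML : Groth.Agent.Helper23.PicCalc.cl M hMi + Groth.Agent.Helper23.PicCalc.cl L hL = 0 :=
    (Groth.Agent.Helper23.PicCalc.cl_eq_iff
      (Groth.Agent.Helper13.Inv.isInvertible_tensorMod _ _ hMi hL)
      Groth.Agent.Helper13.Inv.isInvertible_structureModule).2 ⟨eML⟩
  have hcl : Groth.Agent.Helper23.PicCalc.cl (CohB1.tensorPow L (4 * i)) hLj +
      Groth.Agent.Helper23.PicCalc.cl _ hP4 = 0 := by
    have e1 : Groth.Agent.Helper23.PicCalc.cl _ hP4 =
        (Groth.Agent.Helper23.PicCalc.cl _ hPi + Groth.Agent.Helper23.PicCalc.cl _ hPi) +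
        (Groth.Agent.Helper23.PicCalc.cl _ hPi + Groth.Agent.Helper23.PicCalc.cl _ hPi) := rfl
    rw [e1, Groth.Agent.Helper23.IntSec.cl_tensorPow L hL, Groth.Agent.Helper23.IntSec.cl_tensorPow M hMi]
    have hM' : Groth.Agent.Helper23.PicCalc.cl M hMi = - Groth.Agent.Helper23.PicCalc.cl L hL :=
      eq_neg_of_add_eq_zero_left hML
    rw [hM', smul_neg]
    have : (4 * i) • Groth.Agent.Helper23.PicCalc.cl L hL =
        i • Groth.Agent.Helper23.PicCalc.cl L hL + i • Groth.Agent.Helper23.PicCalc.cl L hL +
        (i • Groth.Agent.Helper23.PicCalc.cl L hL + i • Groth.Agent.Helper23.PicCalc.cl L hL) := by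
      rw [show 4 * i = i + i + (i + i) by ring, add_nsmul, add_nsmul]
    rw [this]
    abel
  obtain ⟨e4⟩ := (Groth.Agent.Helper23.PicCalc.cl_eq_iff
    (Groth.Agent.Helper13.Inv.isInvertible_tensorMod _ _ hLj hP4)
    Groth.Agent.Helper13.Inv.isInvertible_structureModule).1 hcl
  have hfield : IsField Γ(X, ⊤) :=
    isField_of_universallyClosed k (X ↘ (Spec (CommRingCat.of k)))
  obtain ⟨triv⟩ := Groth.Agent.Helper23.IntSec.nonempty_iso_unit_of_sections hfield _ _ hLj hP4 e4
    τ _ hτ hσ4
  exact (hnt (4 * i) (by omega)).false triv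

end Groth.Agent.S14064
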