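import Groth.Statements.S14069
import Groth.Agent.Lib.Helper21.SmLift2

set_option autoImplicit false
universe u
open CategoryTheory AlgebraicGeometry
open FamCyc

namespace Groth.Agent.S14069

/-- Let i : S₀ ⟶ S be a closed immersion, p : X ⟶ S a scheme over S, q : Y ⟶ S a smooth morphism, X₀ = X
×_S S₀, x₀ a point of X₀ and f₀ : X₀ ⟶ Y a morphism over S. Then there are a scheme U, an étale
morphism e : U ⟶ X whose base change U ×_X X₀ ⟶ X₀ is an open immersion whose image contains x₀, and
a morphism f : U ⟶ Y over S whose restriction to U ×_X X₀ equals the restriction of f₀. -/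
theorem result {S S₀ X Y : Scheme.{u}} (i : S₀ ⟶ S) [IsClosedImmersion i]
    (p : X ⟶ S) (q : Y ⟶ S) [Smooth q] (f₀ : Limits.pullback p i ⟶ Y)
    (hf₀ : f₀ ≫ q = Limits.pullback.fst p i ≫ p) (x₀ : ↥(Limits.pullback p i)) :
    ∃ (U : Scheme.{u}) (e : U ⟶ X) (f : U ⟶ Y), Etale e ∧ f ≫ q = e ≫ p ∧
      IsOpenImmersion (Limits.pullback.snd e (Limits.pullback.fst p i)) ∧
      x₀ ∈ Set.range (Limits.pullback.snd e (Limits.pullback.fst p i)).base ∧
      Limits.pullback.snd e (Limits.pullback.fst p i) ≫ f₀ =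
        Limits.pullback.fst e (Limits.pullback.fst p i) ≫ f := by
  obtain ⟨U, e, τ, hE, h1, h2, h3, h4⟩ := Groth.Agent.Helper21.SmLift.exists_etale_lift_section
    (Limits.pullback.fst p i) (Limits.pullback.fst p q)
    (Limits.pullback.lift (Limits.pullback.fst p i) f₀ hf₀.symm) (Limits.pullback.lift_fst _ _ _) x₀
  refine ⟨U, e, τ ≫ Limits.pullback.snd p q, hE, ?_, h2, h3, ?_⟩
  · rw [Category.assoc, ← Limits.pullback.condition, ← Category.assoc, h1]
  · rw [← Category.assoc, ← h4, Category.assoc, Limits.pullback.lift_snd]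

end Groth.Agent.S14069
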