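import Groth.Statements.S14070
import Mathlib
import Groth.Agent.Lib.Helper14.ChevNBFin
import Groth.Agent.Lib.Helper14.EquidimGU
import Groth.Agent.Lib.Helper4.UOpen5
-- import your own Groth.Agent.* helpers here

set_option autoImplicit false
open CategoryTheory AlgebraicGeometry
universe u
open FamCyc

namespace Groth.Agent.S14070

/-- Let S be a scheme all of whose local rings are geometrically unibranch and which has only finitely
many irreducible components, and let f : X ⟶ S be a morphism locally of finite type such that every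
point x of X lies on an irreducible component W of X (given its reduced subscheme structure) with W
⟶ S equidimensional at x. Then f is universally open. (No Noetherian hypothesis on S: finiteness of
its set of irreducible components is what is used, and the statement fails without it.) -/
theorem result {X S : Scheme.{u}}
    (hS : ∀ s : S, CAlg2.IsGeomUnibranch (S.presheaf.stalk s))
    (hfin : (irreducibleComponents (S : Type u)).Finite)
    (f : X ⟶ S) [LocallyOfFiniteType f]
    (hT : ∀ x : X, ∃ W : TopologicalSpace.Closeds X, (W : Set X) ∈ irreducibleComponents (X : Type u) ∧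
      ∃ w : ↥((Scheme.IdealSheafData.vanishingIdeal W).subscheme),
        (Scheme.IdealSheafData.vanishingIdeal W).subschemeι.base w = x ∧
        EGA43.IsEquidimAt ((Scheme.IdealSheafData.vanishingIdeal W).subschemeι ≫ f) w) :
    UniversallyOpen f := by
  classical
  open Groth.Agent.Helper14 in
  apply Groth.Agent.Helper4.UOpen.universallyOpen_of_isUnivOpenAt
  intro x
  obtain ⟨z, n, hzx, hfz, hzmax, hn, -⟩ := EquidimAt.exists_maximal_trdeg_eq_fibreDimAt f x
  refine ChevComp.isUnivOpenAt_of_specializes f x z hzx hfz ?_
  obtain ⟨W, hW, w, hw, hEq⟩ := hT z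
  subst hw
  obtain ⟨e, U, hwU, h1, h2, -⟩ := EquidimAt.spec ((Scheme.IdealSheafData.vanishingIdeal W).subschemeι ≫ f) hEq
  obtain ⟨ξ₀, hξ₀max, hξ₀w⟩ := MaxPoints.exists_maximal_specializes w
  have hξ₀U : ξ₀ ∈ U := hξ₀w.mem_open U.isOpen hwU
  obtain ⟨hηmax, hηy⟩ := h1 ξ₀ hξ₀U hξ₀max
  have hemb : Topology.IsEmbedding (Scheme.IdealSheafData.vanishingIdeal W).subschemeι.base := (Scheme.IdealSheafData.vanishingIdeal W).subschemeι.isEmbedding
  have hwmax : ∀ w' : ↥(Scheme.IdealSheafData.vanishingIdeal W).subscheme,
      ((Scheme.IdealSheafData.vanishingIdeal W).subschemeι ≫ f).base w' = ((Scheme.IdealSheafData.vanishingIdeal W).subschemeι ≫ f).base w → w' ⤳ w → w' = w := by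
    intro w' hfw' hw'w
    apply hemb.injective
    apply hzmax
    · simpa only [Scheme.Hom.comp_apply] using hfw'
    · exact hw'w.map (Scheme.IdealSheafData.vanishingIdeal W).subschemeι.continuous
  have htr1 := h2 ξ₀ hξ₀U (fun z' _ h => hξ₀max z' h)
  have htr2 := h2 w hwU hwmax
  rw [ClosedFibreDim.trdeg_subschemeι f _ ξ₀] at htr1
  rw [ClosedFibreDim.trdeg_subschemeι f _ w] at htr2
  have hcomp : closure ({((Scheme.IdealSheafData.vanishingIdeal W).subschemeι ≫ f).base ξ₀} : Set S) ∈ irreducibleComponents (S : Type u) :=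
    FibreClosure.closure_mem_irreducibleComponents_of_maximal _ hηmax
  have hξz : (Scheme.IdealSheafData.vanishingIdeal W).subschemeι.base ξ₀ ⤳ (Scheme.IdealSheafData.vanishingIdeal W).subschemeι.base w := by
    exact hξ₀w.map (Scheme.IdealSheafData.vanishingIdeal W).subschemeι.continuous
  have hfw : ((Scheme.IdealSheafData.vanishingIdeal W).subschemeι ≫ f).base w = f.base ((Scheme.IdealSheafData.vanishingIdeal W).subschemeι.base w) := by
    rw [Scheme.Hom.comp_apply]
  have hnb : closure {f.base ((Scheme.IdealSheafData.vanishingIdeal W).subschemeι.base ξ₀)} ∈ nhds (f.base ((Scheme.IdealSheafData.vanishingIdeal W).subschemeι.base w)) := by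
    have := ChevNBFin.closure_mem_nhds_of_finite hfin (f.base ((Scheme.IdealSheafData.vanishingIdeal W).subschemeι.base w)) (((Scheme.IdealSheafData.vanishingIdeal W).subschemeι ≫ f).base ξ₀) (hS _).1.1 hcomp
      (hfw ▸ hηy)
    simpa only [Scheme.Hom.comp_apply] using this
  refine ChevMain.isUnivOpenAt_of_trdeg_eq f ((Scheme.IdealSheafData.vanishingIdeal W).subschemeι.base w) ((Scheme.IdealSheafData.vanishingIdeal W).subschemeι.base ξ₀) hξz hnb
    (fun x' h1 h2 => hzmax x' h2 h1) ?_ (hS _)
  have h3 : @Algebra.trdeg (S.residueField (f.base ((Scheme.IdealSheafData.vanishingIdeal W).subschemeι.base w))) (X.residueField ((Scheme.IdealSheafData.vanishingIdeal W).subschemeι.base w)) _ _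
        (f.residueFieldMap ((Scheme.IdealSheafData.vanishingIdeal W).subschemeι.base w)).hom.toAlgebra = e := by
    rw [← htr2]
  rw [h3]
  exact htr1

end Groth.Agent.S14070
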