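import Groth.Statements.S14073
import Groth.Agent.Lib.Helper20.DetB

set_option autoImplicit false
universe u
open FamCyc

namespace Groth.Agent.S14073


theorem result (A : Type u) [CommRing A] [IsNoetherianRing A]
    (M : Type u) [AddCommGroup M] [Module A M] (n : ℕ) (hM : FamCyc.HasFiniteFreeResolutionLE A n M)
    (φ : M →ₗ[A] M) :
    ∃! a : A, ∀ (p : Ideal A) [p.IsPrime],
      Module.Free (Localization.AtPrime p) (LocalizedModule p.primeCompl M) →
        algebraMap A (Localization.AtPrime p) a =
          LinearMap.det (LocalizedModule.map p.primeCompl φ) := by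
  classical
  haveI hfin : Module.Finite A M := Groth.Agent.Helper20.DetB.finite_of_ffr A n M hM
  obtain ⟨χ, hmon, hχ⟩ := Groth.Agent.Helper20.DetB.exists_charpoly A n M hM φ
  refine ⟨(-1) ^ χ.natDegree * χ.coeff 0, ?_, ?_⟩
  · intro p _ hfree
    haveI := hfree
    have h1 := hχ p
    have hdeg : Module.finrank (Localization.AtPrime p) (LocalizedModule p.primeCompl M) =
        χ.natDegree := by
      rw [← LinearMap.charpoly_natDegree (LocalizedModule.map p.primeCompl φ), ← h1,
        hmon.natDegree_map]
    rw [LinearMap.det_eq_sign_charpoly_coeff, hdeg, ← h1, Polynomial.coeff_map, map_mul,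
      map_pow, map_neg, map_one]
  · intro a' ha'
    by_contra hne
    have hx : a' - (-1) ^ χ.natDegree * χ.coeff 0 ≠ 0 := sub_ne_zero.mpr hne
    obtain ⟨P, hP, hle⟩ := exists_le_isAssociatedPrime_of_isNoetherianRing A
      (a' - (-1) ^ χ.natDegree * χ.coeff 0) hx
    haveI := hP.isPrime
    have hfree := Groth.Agent.Helper20.DetB.free_localized_of_isAssociatedPrime A n M hM P hP
    have h1 := ha' P hfree
    haveI := hfree
    have h2 := hχ P
    have hdeg : Module.finrank (Localization.AtPrime P) (LocalizedModule P.primeCompl M) =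
        χ.natDegree := by
      rw [← LinearMap.charpoly_natDegree (LocalizedModule.map P.primeCompl φ), ← h2,
        hmon.natDegree_map]
    have h3 : algebraMap A (Localization.AtPrime P) ((-1) ^ χ.natDegree * χ.coeff 0) =
        LinearMap.det (LocalizedModule.map P.primeCompl φ) := by
      rw [LinearMap.det_eq_sign_charpoly_coeff, hdeg, ← h2, Polynomial.coeff_map, map_mul,
        map_pow, map_neg, map_one]
    have h4 : algebraMap A (Localization.AtPrime P) (a' - (-1) ^ χ.natDegree * χ.coeff 0) = 0 := by
      rw [map_sub, h1, h3, sub_self]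
    obtain ⟨s, hs⟩ := (IsLocalization.map_eq_zero_iff P.primeCompl _ _).mp h4
    apply s.2
    apply hle
    rw [Submodule.mem_colon_singleton, Submodule.mem_bot, smul_eq_mul]
    exact hs

end Groth.Agent.S14073
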