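import Groth.Statements.S14076
import Mathlib
import Groth.Agent.Lib.Helper14.CompEquidim
-- import your own Groth.Agent.* helpers here

set_option autoImplicit false
open CategoryTheory AlgebraicGeometry
universe u
open FamCyc

namespace Groth.Agent.S14076

/-- Let f : X ⟶ S be locally of finite type and equidimensional at every point of X. Then every point x
of X lies on an irreducible component W of X, given its reduced subscheme structure, such that W ⟶ S
is equidimensional at x. -/
theorem result {X S : Scheme.{u}} (f : X ⟶ S) [LocallyOfFiniteType f]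
    (h : ∀ x : X, EGA43.IsEquidimAt f x) (x : X) :
    ∃ W : TopologicalSpace.Closeds X, (W : Set X) ∈ irreducibleComponents (X : Type u) ∧
      ∃ w : ↥((Scheme.IdealSheafData.vanishingIdeal W).subscheme),
        (Scheme.IdealSheafData.vanishingIdeal W).subschemeι.base w = x ∧
        EGA43.IsEquidimAt ((Scheme.IdealSheafData.vanishingIdeal W).subschemeι ≫ f) w := by
  open Groth.Agent.Helper14 in
  obtain ⟨e, U, hxU, hp1, hp2, hp3⟩ := EquidimAt.spec f (h x)
  have hcomp := irreducibleComponent_mem_irreducibleComponents x
  obtain ⟨ξ, hcl, hξmax⟩ := FibreComp.exists_maximal_of_mem_irreducibleComponents _ hcomp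
  have hξx : ξ ⤳ x := by
    rw [specializes_iff_mem_closure, hcl]; exact mem_irreducibleComponent
  have hξU : ξ ∈ U := hξx.mem_open U.isOpen hxU
  let W : TopologicalSpace.Closeds X := ⟨closure {ξ}, isClosed_closure⟩
  have hrange := ClosedFibreDim.range_subschemeι_vanishingIdeal W
  obtain ⟨w, hw⟩ : x ∈ Set.range (Scheme.IdealSheafData.vanishingIdeal W).subschemeι := by
    rw [hrange]; exact specializes_iff_mem_closure.mp hξx
  refine ⟨W, ?_, w, hw, ?_⟩
  · change closure {ξ} ∈ _
    rw [hcl]; exact hcomp
  · apply CompEquidim.isEquidimAt_component f W ξ rfl e (hp1 ξ hξU hξmax).1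
      (hp2 ξ hξU (fun z' _ hz' => hξmax z' hz')) w
    refine (CompEquidim.fibreDimAt_subscheme_le f _ w).trans ?_
    rw [hw, hp3 x hxU]

end Groth.Agent.S14076
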