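import Groth.Statements.S14079
import Mathlib
import Groth.Agent.Lib.Helper14.CompEquidim
-- import your own Groth.Agent.* helpers here

set_option autoImplicit false
open CategoryTheory AlgebraicGeometry
universe u
open FamCyc

namespace Groth.Agent.S14079

/-- (iv) ⇒ (iii): let f : X ⟶ S be locally of finite type. Suppose that every point x of X which is a
maximal point of its fibre (no other point of the fibre over f x specializes to x) lies on an
irreducible component W of X, given its reduced subscheme structure, with W ⟶ S equidimensional at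
x. Then every point of X lies on such an irreducible component. -/
theorem result {X S : Scheme.{u}} (f : X ⟶ S) [LocallyOfFiniteType f]
    (h : ∀ x : X, (∀ x' : X, f.base x' = f.base x → x ∈ closure ({x'} : Set X) → x' = x) →
      ∃ W : TopologicalSpace.Closeds X, (W : Set X) ∈ irreducibleComponents (X : Type u) ∧
      ∃ w : ↥((Scheme.IdealSheafData.vanishingIdeal W).subscheme),
        (Scheme.IdealSheafData.vanishingIdeal W).subschemeι.base w = x ∧
        EGA43.IsEquidimAt ((Scheme.IdealSheafData.vanishingIdeal W).subschemeι ≫ f) w)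
    (x : X) :
    ∃ W : TopologicalSpace.Closeds X, (W : Set X) ∈ irreducibleComponents (X : Type u) ∧
      ∃ w : ↥((Scheme.IdealSheafData.vanishingIdeal W).subscheme),
        (Scheme.IdealSheafData.vanishingIdeal W).subschemeι.base w = x ∧
        EGA43.IsEquidimAt ((Scheme.IdealSheafData.vanishingIdeal W).subschemeι ≫ f) w := by
  open Groth.Agent.Helper14 in
  obtain ⟨z₀, n, hz₀x, hfz₀, hz₀max, hn, hfd⟩ := EquidimAt.exists_maximal_trdeg_eq_fibreDimAt f x
  obtain ⟨W, hW, w₀, hw₀, heq⟩ := h z₀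
    (fun x' hfx' hx' => hz₀max x' hfx' (specializes_iff_mem_closure.mpr hx'))
  subst hw₀
  obtain ⟨e, U, hw₀U, hp1, hp2, hp3⟩ := EquidimAt.spec _ heq
  have hrange := ClosedFibreDim.range_subschemeι_vanishingIdeal W
  have hind := (Scheme.IdealSheafData.vanishingIdeal W).subschemeι.isEmbedding.isInducing
  obtain ⟨ξ, hcl, hξmax⟩ := FibreComp.exists_maximal_of_mem_irreducibleComponents (W : Set X) hW
  obtain ⟨ξ₀, hξ₀⟩ : ξ ∈ Set.range (Scheme.IdealSheafData.vanishingIdeal W).subschemeι := by
    rw [hrange, ← hcl]; exact subset_closure rfl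
  have hgen : ∀ w' : ↥(Scheme.IdealSheafData.vanishingIdeal W).subscheme, ξ₀ ⤳ w' := by
    intro w'
    rw [← hind.specializes_iff, hξ₀, specializes_iff_mem_closure, hcl, ← hrange]
    exact ⟨w', rfl⟩
  have hξ₀U : ξ₀ ∈ U := (hgen w₀).mem_open U.isOpen hw₀U
  have hξ₀max : ∀ ξ' : ↥(Scheme.IdealSheafData.vanishingIdeal W).subscheme, ξ' ⤳ ξ₀ → ξ' = ξ₀ := by
    intro ξ' hξ'
    have h1 := hξ'.map (Scheme.IdealSheafData.vanishingIdeal W).subschemeι.continuous
    rw [hξ₀] at h1
    have h2 := hξmax _ h1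
    exact (Scheme.IdealSheafData.vanishingIdeal W).subschemeι.isEmbedding.injective (h2.trans hξ₀.symm)
  obtain ⟨hfξmax, -⟩ := hp1 ξ₀ hξ₀U hξ₀max
  have htrξ₀ := hp2 ξ₀ hξ₀U (fun z' _ hz' => hξ₀max z' hz')
  rw [ClosedFibreDim.trdeg_subschemeι f _ ξ₀] at htrξ₀
  have htrξ := RestrictedChevalley.trdeg_eq_of_eq f _ _ hξ₀.symm _ htrξ₀
  have hfξ : ∀ η' : S, η' ⤳ f.base ξ → η' = f.base ξ := by
    intro η' hη'
    rw [← hξ₀] at hη' ⊢
    exact hfξmax η' hη'
  have hw₀max : ∀ z' : ↥(Scheme.IdealSheafData.vanishingIdeal W).subscheme,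
      ((Scheme.IdealSheafData.vanishingIdeal W).subschemeι ≫ f).base z' =
        ((Scheme.IdealSheafData.vanishingIdeal W).subschemeι ≫ f).base w₀ → z' ⤳ w₀ → z' = w₀ := by
    intro z' hfz' hz'
    have h1 := hz'.map (Scheme.IdealSheafData.vanishingIdeal W).subschemeι.continuous
    exact (Scheme.IdealSheafData.vanishingIdeal W).subschemeι.isEmbedding.injective
      (hz₀max _ hfz' h1)
  have htrw₀ := hp2 w₀ hw₀U hw₀max
  rw [ClosedFibreDim.trdeg_subschemeι f _ w₀, hn] at htrw₀
  have hne : n = e := by exact_mod_cast htrw₀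
  obtain ⟨w, hw⟩ : x ∈ Set.range (Scheme.IdealSheafData.vanishingIdeal W).subschemeι := by
    rw [hrange]
    have hz₀W : (Scheme.IdealSheafData.vanishingIdeal W).subschemeι.base w₀ ∈ (W : Set X) := by
      rw [← hrange]; exact ⟨w₀, rfl⟩
    exact W.isClosed.closure_subset_iff.mpr (Set.singleton_subset_iff.mpr hz₀W)
      (specializes_iff_mem_closure.mp hz₀x)
  refine ⟨W, hW, w, hw, ?_⟩
  apply CompEquidim.isEquidimAt_component f W ξ hcl e hfξ htrξ w
  refine (CompEquidim.fibreDimAt_subscheme_le f _ w).trans ?_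
  rw [hw, hfd, hne]

end Groth.Agent.S14079
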