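import Groth.Statements.S14084
-- import your own Groth.Agent.* helpers here
import Groth.Agent.Lib.Helper3.NodeDef4

set_option autoImplicit false
universe u
open ArSing

namespace Groth.Agent.S14084

/-- Let k be an algebraically closed field with 2 invertible, R → S a flat local homomorphism of
complete Noetherian local k-algebras whose closed fibre S/m_R S is isomorphic over k to the node
algebra k[[x,y]]/(y^2 - x^2), and σ an R-algebra involution of S whose reduction to the closed fibre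
does not exchange the two branches (it maps each minimal prime ideal over m_R S to itself). Then
there are t in R, signs ξ₁, ξ₂ in k and an R-algebra isomorphism of S with R[[x,y]]/(xy - t)
transporting σ to x ↦ ξ₂ x, y ↦ ξ₁ y; moreover t = 0 when ξ₁ = -ξ₂. -/
theorem result (k R S : Type u) [Field k] [IsAlgClosed k]
    (h2 : (2 : k) ≠ 0)
    [CommRing R] [IsLocalRing R] [IsNoetherianRing R] [IsAdicComplete (IsLocalRing.maximalIdeal R) R]
    [CommRing S] [IsLocalRing S] [IsNoetherianRing S] [IsAdicComplete (IsLocalRing.maximalIdeal S) S]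
    [Algebra k R] [Algebra R S] [Algebra k S] [IsScalarTower k R S]
    [IsLocalHom (algebraMap R S)] [Module.Flat R S]
    (e : (S ⧸ Ideal.map (algebraMap R S) (IsLocalRing.maximalIdeal R)) ≃ₐ[k]
      (MvPowerSeries (Fin 2) k ⧸
        Ideal.span {(MvPowerSeries.X 1 ^ 2 - MvPowerSeries.X 0 ^ 2 : MvPowerSeries (Fin 2) k)}))
    (σ : S ≃ₐ[R] S) (hσ : ∀ s, σ (σ s) = s)
    (hbr : ∀ P ∈ (Ideal.map (algebraMap R S) (IsLocalRing.maximalIdeal R)).minimalPrimes,
      Ideal.map (σ : S →+* S) P = P) :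
    ∃ (t : R) (ξ₁ ξ₂ : k), ξ₁ ^ 2 = 1 ∧ ξ₂ ^ 2 = 1 ∧ (ξ₁ = -ξ₂ → t = 0) ∧
      ∃ f : S ≃ₐ[R] (MvPowerSeries (Fin 2) R ⧸
          Ideal.span {(MvPowerSeries.X 0 * MvPowerSeries.X 1 - MvPowerSeries.C t : MvPowerSeries (Fin 2) R)}),
        f (σ (f.symm (Ideal.Quotient.mk _ (MvPowerSeries.X 0)))) =
          algebraMap k R ξ₂ • Ideal.Quotient.mk _ (MvPowerSeries.X 0) ∧
        f (σ (f.symm (Ideal.Quotient.mk _ (MvPowerSeries.X 1)))) =
          algebraMap k R ξ₁ • Ideal.Quotient.mk _ (MvPowerSeries.X 1) := by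
  classical
  obtain ⟨ι, -, -, -, -⟩ := Groth.Agent.Helper3.NodeAut.exists_iso (k := k) h2
  have hI : Ideal.span {(MvPowerSeries.X 1 ^ 2 - MvPowerSeries.X 0 ^ 2 : MvPowerSeries (Fin 2) k)} =
      Ideal.span {ArSing.eqn k 1} := rfl
  let e' : (S ⧸ Ideal.map (algebraMap R S) (IsLocalRing.maximalIdeal R)) ≃ₐ[k]
      Groth.Agent.Helper3.NodeAut.AA k := e.trans (Ideal.quotientEquivAlgOfEq k hI)
  let θ : S →ₐ[k] Groth.Agent.Helper3.NodeAut.NN k :=
    (ι : Groth.Agent.Helper3.NodeAut.AA k →ₐ[k] Groth.Agent.Helper3.NodeAut.NN k).comp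
      ((e' : _ →ₐ[k] Groth.Agent.Helper3.NodeAut.AA k).comp
        (Ideal.Quotient.mkₐ k (Ideal.map (algebraMap R S) (IsLocalRing.maximalIdeal R))))
  have hθ : Function.Surjective θ :=
    ι.surjective.comp (e'.surjective.comp (Ideal.Quotient.mkₐ_surjective k _))
  have hker : ∀ s, θ s = 0 ↔ s ∈ Ideal.map (algebraMap R S) (IsLocalRing.maximalIdeal R) := by
    intro s
    change ι (e' (Ideal.Quotient.mk _ s)) = 0 ↔ _
    rw [EmbeddingLike.map_eq_zero_iff, EmbeddingLike.map_eq_zero_iff,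
      Ideal.Quotient.eq_zero_iff_mem]
  exact Groth.Agent.Helper3.NodeAut.node_involution h2 θ hθ hker σ hσ hbr


end Groth.Agent.S14084
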