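import Groth.Statements.S14085
import Groth.Agent.Lib.Helper21.FlatKer

set_option autoImplicit false
universe u
open FlatMor

namespace Groth.Agent.S14085

/-- Let R be a ring, A and B flat R-algebras, I an ideal of A and B → A/I an injective finite flat map
of R-algebras. Then the fibre product ring B ×_{A/I} A, realised as the subalgebra of B × A of pairs
with equal image in A/I, is flat over R. (This is the affine statement behind flatness over the base
of the pushout of a closed immersion along a finite flat morphism.) -/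
theorem result (R A B : Type u) [CommRing R] [CommRing A] [CommRing B]
    [Algebra R A] [Algebra R B] [Module.Flat R A] [Module.Flat R B] (I : Ideal A)
    [Algebra B (A ⧸ I)] [IsScalarTower R B (A ⧸ I)] [Module.Finite B (A ⧸ I)] [Module.Flat B (A ⧸ I)]
    (hinj : Function.Injective (algebraMap B (A ⧸ I))) :
    Module.Flat R ↥(AlgHom.equalizer ((IsScalarTower.toAlgHom R B (A ⧸ I)).comp (AlgHom.fst R B A))
          ((Ideal.Quotient.mkₐ R I).comp (AlgHom.snd R B A))) := by
  have hflat : Module.Flat R (A ⧸ I) := Module.Flat.trans R B (A ⧸ I)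
  have hprod : Module.Flat R (B × A) := Groth.Agent.Helper21.FK.flat_prod
  set φ₁ : B × A →ₐ[R] A ⧸ I := (IsScalarTower.toAlgHom R B (A ⧸ I)).comp (AlgHom.fst R B A)
    with hφ₁
  set φ₂ : B × A →ₐ[R] A ⧸ I := (Ideal.Quotient.mkₐ R I).comp (AlgHom.snd R B A) with hφ₂
  refine Groth.Agent.Helper21.FK.flat_of_exact (R := R)
    (AlgHom.equalizer φ₁ φ₂).val.toLinearMap (φ₁.toLinearMap - φ₂.toLinearMap)
    Subtype.val_injective ?_ ?_
  · intro y
    obtain ⟨a, rfl⟩ := Ideal.Quotient.mk_surjective y
    refine ⟨(0, -a), ?_⟩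
    simp [φ₁, φ₂]
  · intro y
    constructor
    · intro hy
      have hy' : φ₁ y = φ₂ y := by
        have := hy
        simp only [LinearMap.sub_apply, AlgHom.toLinearMap_apply] at this
        exact sub_eq_zero.mp this
      exact ⟨⟨y, hy'⟩, rfl⟩
    · rintro ⟨x, rfl⟩
      have hx : φ₁ x.1 = φ₂ x.1 := x.2
      simp only [LinearMap.sub_apply, AlgHom.toLinearMap_apply]
      exact sub_eq_zero.mpr hx

end Groth.Agent.S14085
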