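import Groth.Statements.S14086
import Groth.Agent.Lib.Helper21.FlatKer

set_option autoImplicit false
universe u
open FlatMor

namespace Groth.Agent.S14086

/-- Let R be a ring, A and B flat R-algebras, I an ideal of A, B → A/I an injective finite flat map of
R-algebras and P = B ×_{A/I} A the fibre product ring (pairs in B × A with equal image in A/I). For
any R-algebra R' the base change R' ⊗_R P maps injectively to R' ⊗_R A, and any b' in R' ⊗_R B and
a' in R' ⊗_R A with the same image in R' ⊗_R (A/I) are the two components of some element of R' ⊗_R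
P; that is, R' ⊗_R P is the fibre product of R' ⊗_R B and R' ⊗_R A over R' ⊗_R (A/I). -/
theorem result (R A B R' : Type u) [CommRing R] [CommRing A]
    [CommRing B] [CommRing R'] [Algebra R A] [Algebra R B] [Algebra R R'] [Module.Flat R A] [Module.Flat R B]
    (I : Ideal A) [Algebra B (A ⧸ I)] [IsScalarTower R B (A ⧸ I)] [Module.Finite B (A ⧸ I)] [Module.Flat B (A ⧸ I)]
    (hinj : Function.Injective (algebraMap B (A ⧸ I))) :
    Function.Injective (Algebra.TensorProduct.map (AlgHom.id R' R')
        ((AlgHom.snd R B A).comp (AlgHom.equalizer ((IsScalarTower.toAlgHom R B (A ⧸ I)).comp (AlgHom.fst R B A))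
          ((Ideal.Quotient.mkₐ R I).comp (AlgHom.snd R B A))).val)) ∧
    ∀ (b : TensorProduct R R' B) (a : TensorProduct R R' A),
      Algebra.TensorProduct.map (AlgHom.id R' R') (IsScalarTower.toAlgHom R B (A ⧸ I)) b =
        Algebra.TensorProduct.map (AlgHom.id R' R') (Ideal.Quotient.mkₐ R I) a →
      ∃ x : TensorProduct R R' ↥(AlgHom.equalizer ((IsScalarTower.toAlgHom R B (A ⧸ I)).comp (AlgHom.fst R B A))
          ((Ideal.Quotient.mkₐ R I).comp (AlgHom.snd R B A))),
        Algebra.TensorProduct.map (AlgHom.id R' R') ((AlgHom.fst R B A).comp (AlgHom.equalizer ((IsScalarTower.toAlgHom R B (A ⧸ I)).comp (AlgHom.fst R B A))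
          ((Ideal.Quotient.mkₐ R I).comp (AlgHom.snd R B A))).val) x = b ∧
        Algebra.TensorProduct.map (AlgHom.id R' R') ((AlgHom.snd R B A).comp (AlgHom.equalizer ((IsScalarTower.toAlgHom R B (A ⧸ I)).comp (AlgHom.fst R B A))
          ((Ideal.Quotient.mkₐ R I).comp (AlgHom.snd R B A))).val) x = a := by
  classical
  have hint : Algebra.IsIntegral B (A ⧸ I) := Algebra.IsIntegral.of_finite B (A ⧸ I)
  have hff : Module.FaithfullyFlat B (A ⧸ I) :=
    Module.FaithfullyFlat.of_comap_surjective
      (RingHom.IsIntegral.comap_surjective (algebraMap_isIntegral_iff.mpr hint) hinj)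
  have hflat : Module.Flat R (A ⧸ I) := Module.Flat.trans R B (A ⧸ I)
  set φ₁ : B × A →ₐ[R] A ⧸ I := (IsScalarTower.toAlgHom R B (A ⧸ I)).comp (AlgHom.fst R B A)
    with hφ₁
  set φ₂ : B × A →ₐ[R] A ⧸ I := (Ideal.Quotient.mkₐ R I).comp (AlgHom.snd R B A) with hφ₂
  set ι : ↥(AlgHom.equalizer φ₁ φ₂) →ₗ[R] B × A := (AlgHom.equalizer φ₁ φ₂).val.toLinearMap
    with hιdef
  set f : B × A →ₗ[R] A ⧸ I := φ₁.toLinearMap - φ₂.toLinearMap with hfdef
  set β : B →ₗ[R] A ⧸ I := (IsScalarTower.toAlgHom R B (A ⧸ I)).toLinearMap with hβdef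
  set q : A →ₗ[R] A ⧸ I := (Ideal.Quotient.mkₐ R I).toLinearMap with hqdef
  have hι : Function.Injective ι := Subtype.val_injective
  have hf : Function.Surjective f := by
    intro y
    obtain ⟨a, rfl⟩ := Ideal.Quotient.mk_surjective y
    refine ⟨(0, -a), ?_⟩
    simp [f, φ₁, φ₂]
  have hex : Function.Exact ι f := by
    intro y
    constructor
    · intro hy
      have hy' : φ₁ y = φ₂ y := by
        have := hy
        simp only [f, LinearMap.sub_apply, AlgHom.toLinearMap_apply] at this
        exact sub_eq_zero.mp this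
      exact ⟨⟨y, hy'⟩, rfl⟩
    · rintro ⟨x, rfl⟩
      have hx : φ₁ x.1 = φ₂ x.1 := x.2
      simp only [f, LinearMap.sub_apply, AlgHom.toLinearMap_apply]
      exact sub_eq_zero.mpr hx
  have hιT : Function.Injective (ι.lTensor R') :=
    LinearMap.lTensor_injective_of_exact_of_flat f hf ι hι hex R'
  have hexT : Function.Exact (ι.lTensor R') (f.lTensor R') := lTensor_exact R' hex hf
  have hβT : Function.Injective (β.lTensor R') := by
    rw [LinearMap.lTensor_inj_iff_rTensor_inj]
    exact Groth.Agent.Helper21.FK.rTensor_injective_of_faithfullyFlat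
  have hfinl : f ∘ₗ LinearMap.inl R B A = β := by
    ext b; simp [f, φ₁, φ₂, β]
  have hfinr : f ∘ₗ LinearMap.inr R B A = -q := by
    ext a; simp [f, φ₁, φ₂, q]
  have hid : LinearMap.inl R B A ∘ₗ LinearMap.fst R B A +
      LinearMap.inr R B A ∘ₗ LinearMap.snd R B A = LinearMap.id := by
    ext x <;> simp
  have efst : ((AlgHom.fst R B A).comp (AlgHom.equalizer φ₁ φ₂).val).toLinearMap =
      (LinearMap.fst R B A) ∘ₗ ι := rfl
  have esnd : ((AlgHom.snd R B A).comp (AlgHom.equalizer φ₁ φ₂).val).toLinearMap =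
      (LinearMap.snd R B A) ∘ₗ ι := rfl
  constructor
  · rw [injective_iff_map_eq_zero]
    intro x hx
    rw [Groth.Agent.Helper21.FK.map_id_eq_lTensor, esnd, LinearMap.lTensor_comp_apply] at hx
    have hfz : f.lTensor R' (ι.lTensor R' x) = 0 := (hexT _).mpr ⟨x, rfl⟩
    have hz := congrArg (fun L : B × A →ₗ[R] B × A => (L.lTensor R') (ι.lTensor R' x)) hid
    simp only [LinearMap.lTensor_add, LinearMap.add_apply, LinearMap.lTensor_comp_apply,
      LinearMap.lTensor_id, LinearMap.id_apply, hx, map_zero, add_zero] at hz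
    have hb : β.lTensor R' ((LinearMap.fst R B A).lTensor R' (ι.lTensor R' x)) = 0 := by
      rw [← hz, ← LinearMap.lTensor_comp_apply, hfinl] at hfz
      exact hfz
    have hb0 : (LinearMap.fst R B A).lTensor R' (ι.lTensor R' x) = 0 :=
      hβT (by rw [hb, map_zero])
    rw [hb0, map_zero] at hz
    apply hιT
    rw [map_zero]
    exact hz.symm
  · intro b a hba
    rw [Groth.Agent.Helper21.FK.map_id_eq_lTensor, Groth.Agent.Helper21.FK.map_id_eq_lTensor]
      at hba
    have hfz : f.lTensor R' ((LinearMap.inl R B A).lTensor R' b +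
        (LinearMap.inr R B A).lTensor R' a) = 0 := by
      rw [map_add, ← LinearMap.lTensor_comp_apply, ← LinearMap.lTensor_comp_apply, hfinl, hfinr,
        LinearMap.lTensor_neg, LinearMap.neg_apply]
      show β.lTensor R' b + -(q.lTensor R' a) = 0
      rw [show β.lTensor R' b = q.lTensor R' a from hba, add_neg_cancel]
    obtain ⟨x, hx⟩ := (hexT _).mp hfz
    refine ⟨x, ?_, ?_⟩
    · rw [Groth.Agent.Helper21.FK.map_id_eq_lTensor, efst, LinearMap.lTensor_comp_apply, hx,
        map_add, ← LinearMap.lTensor_comp_apply, ← LinearMap.lTensor_comp_apply,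
        LinearMap.fst_comp_inl, LinearMap.fst_comp_inr, LinearMap.lTensor_id,
        LinearMap.lTensor_zero, LinearMap.id_apply, LinearMap.zero_apply, add_zero]
    · rw [Groth.Agent.Helper21.FK.map_id_eq_lTensor, esnd, LinearMap.lTensor_comp_apply, hx,
        map_add, ← LinearMap.lTensor_comp_apply, ← LinearMap.lTensor_comp_apply,
        LinearMap.snd_comp_inl, LinearMap.snd_comp_inr, LinearMap.lTensor_id,
        LinearMap.lTensor_zero, LinearMap.id_apply, LinearMap.zero_apply, zero_add]

end Groth.Agent.S14086
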