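import Groth.Statements.S14091
import Mathlib
-- import your own Groth.Agent.* helpers here

set_option autoImplicit false
universe u
open ArSing

namespace Groth.Agent.S14091

section
open Polynomial IsLocalRing

variable {k B : Type u} [Field k] [IsAlgClosed k] [CommRing B] [IsLocalRing B] [Algebra k B]
  [Module.Finite k B]

/-- every element is a constant plus an element of the maximal ideal -/
lemma exists_const (b : B) : ∃ c : k, b - algebraMap k B c ∈ maximalIdeal B := by
  haveI : Module.Finite k (ResidueField B) :=
    Module.Finite.of_surjective (IsScalarTower.toAlgHom k B (ResidueField B)).toLinearMap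
      Ideal.Quotient.mk_surjective
  haveI : Algebra.IsIntegral k (ResidueField B) := inferInstance
  obtain ⟨c, hc⟩ := (IsAlgClosed.algebraMap_bijective_of_isIntegral (k := k)
    (K := ResidueField B)).2 (residue B b)
  refine ⟨c, ?_⟩
  rw [← Ideal.Quotient.eq_zero_iff_mem, map_sub]
  rw [sub_eq_zero]
  change residue B b = residue B (algebraMap k B c)
  rw [← hc]
  rfl

theorem main (k B : Type u) [Field k] [IsAlgClosed k]
    [CommRing B] [IsLocalRing B] [Algebra k B] [Module.Finite k B]
    (hcurv : Module.finrank (IsLocalRing.ResidueField B) (IsLocalRing.CotangentSpace B) ≤ 1) :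
    Nonempty (B ≃ₐ[k] (Polynomial k ⧸ Ideal.span {(X : Polynomial k) ^ Module.finrank k B})) := by
  haveI : IsArtinianRing B := IsArtinianRing.of_finite k B
  haveI : IsNoetherianRing B := inferInstance
  obtain ⟨t, ht⟩ := (finrank_cotangentSpace_le_one_iff.mp hcurv).principal
  have htm : t ∈ maximalIdeal B := by rw [ht]; exact Submodule.mem_span_singleton_self t
  -- nilpotency
  obtain ⟨N, hN⟩ := IsArtinianRing.isNilpotent_jacobson_bot (R := B)
  rw [IsLocalRing.jacobson_eq_maximalIdeal (⊥ : Ideal B) bot_ne_top] at hN
  have htN : t ^ N = 0 := by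
    have : t ^ N ∈ maximalIdeal B ^ N := Ideal.pow_mem_pow htm N
    rw [hN] at this
    exact this
  -- approximation
  have happ : ∀ n : ℕ, ∀ b : B, ∃ P : k[X], ∃ b' : B, b - aeval t P = t ^ n * b' := by
    intro n
    induction n with
    | zero => intro b; exact ⟨0, b, by simp⟩
    | succ n ih =>
      intro b
      obtain ⟨P, b', hb'⟩ := ih b
      obtain ⟨c, hc⟩ := exists_const (k := k) b'
      rw [ht] at hc
      obtain ⟨b'', hb''⟩ := Ideal.mem_span_singleton'.mp hc
      refine ⟨P + C c * X ^ n, b'', ?_⟩
      have : b' = algebraMap k B c + b'' * t := by rw [hb'']; ring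
      simp only [map_add, map_mul, aeval_C, map_pow, aeval_X]
      have e : b - (aeval t P + algebraMap k B c * t ^ n) =
          (b - aeval t P) - algebraMap k B c * t ^ n := by ring
      rw [e, hb', this]; ring
  have hsurj : Function.Surjective (aeval (R := k) t) := by
    intro b
    obtain ⟨P, b', hb'⟩ := happ N b
    refine ⟨P, ?_⟩
    rw [htN, zero_mul, sub_eq_zero] at hb'
    exact hb'.symm
  set φ : k[X] →ₐ[k] B := aeval t with hφ
  have hker : ∃ j, RingHom.ker φ = Ideal.span {(X : k[X]) ^ j} := by
    obtain ⟨g, hg⟩ := (IsPrincipalIdealRing.principal (RingHom.ker φ)).principal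
    have hXN : (X : k[X]) ^ N ∈ RingHom.ker φ := by
      rw [RingHom.mem_ker, hφ, map_pow, aeval_X, htN]
    rw [hg] at hXN
    have hdvd : g ∣ X ^ N := Ideal.mem_span_singleton.mp hXN
    obtain ⟨j, _, hj⟩ := (dvd_prime_pow Polynomial.prime_X N).mp hdvd
    exact ⟨j, by rw [hg]; exact Ideal.span_singleton_eq_span_singleton.mpr hj⟩
  obtain ⟨j, hj⟩ := hker
  let e1 : (k[X] ⧸ RingHom.ker φ) ≃ₐ[k] B := Ideal.quotientKerAlgEquivOfSurjective hsurj
  let e2 : (k[X] ⧸ RingHom.ker φ) ≃ₐ[k] (k[X] ⧸ Ideal.span {(X : k[X]) ^ j}) :=
    Ideal.quotientEquivAlgOfEq k hj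
  have hfr : Module.finrank k B = j := by
    rw [← LinearEquiv.finrank_eq (e2.symm.trans e1).toLinearEquiv,
      finrank_quotient_span_eq_natDegree, natDegree_X_pow]
  rw [hfr]
  exact ⟨e1.symm.trans e2⟩

end

open Polynomial in
/-- Over an algebraically closed field k, a finite local k-algebra B whose cotangent space m/m^2 has
dimension at most one over the residue field is isomorphic, as a k-algebra, to k[t]/(t^n) with n =
dim_k B (curvilinear pointed algebras of degree n have a single isomorphism class). -/
theorem result (k B : Type u) [Field k] [IsAlgClosed k]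
    [CommRing B] [IsLocalRing B] [Algebra k B] [Module.Finite k B]
    (hcurv : Module.finrank (IsLocalRing.ResidueField B) (IsLocalRing.CotangentSpace B) ≤ 1) :
    Nonempty (B ≃ₐ[k] (Polynomial k ⧸ Ideal.span {(X : Polynomial k) ^ Module.finrank k B})) := by
  exact Groth.Agent.S14091.main k B hcurv

end Groth.Agent.S14091
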