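import Groth.Statements.S14087
import Mathlib
import Groth.Agent.S14091
-- import your own Groth.Agent.* helpers here

set_option autoImplicit false
universe u
open ArSing

namespace Groth.Agent.S14087

section
open Polynomial IsLocalRing

variable {k : Type u} [Field k] {n : ℕ}

local notation "BB" => (Polynomial k ⧸ Ideal.span {(X : Polynomial k) ^ n})

/-- evaluation at zero on the quotient -/
noncomputable def eps (hn : 0 < n) : (Polynomial k ⧸ Ideal.span {(X : Polynomial k) ^ n}) →ₐ[k] k :=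
  Ideal.Quotient.liftₐ (Ideal.span {(X : Polynomial k) ^ n}) (aeval (0 : k)) (by
    intro a ha
    obtain ⟨c, rfl⟩ := Ideal.mem_span_singleton'.mp ha
    simp [hn.ne'])

lemma eps_mk (hn : 0 < n) (P : k[X]) :
    eps hn (Ideal.Quotient.mk (Ideal.span {(X : Polynomial k) ^ n}) P) = P.coeff 0 := by
  rw [coeff_zero_eq_eval_zero]
  simp [eps, Ideal.Quotient.liftₐ_apply, coe_aeval_eq_eval]

/-- decomposition `b = ε b + t b'` -/
lemma decomp (hn : 0 < n) (b : Polynomial k ⧸ Ideal.span {(X : Polynomial k) ^ n}) :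
    ∃ b', b = algebraMap k _ (eps hn b) +
      Ideal.Quotient.mk (Ideal.span {(X : Polynomial k) ^ n}) X * b' := by
  obtain ⟨P, rfl⟩ := Ideal.Quotient.mk_surjective b
  refine ⟨Ideal.Quotient.mk _ P.divX, ?_⟩
  rw [eps_mk]
  conv_lhs => rw [← Polynomial.divX_mul_X_add P]
  rw [map_add, map_mul, add_comm, mul_comm]
  rfl

lemma t_pow (hn : 0 < n) :
    (Ideal.Quotient.mk (Ideal.span {(X : Polynomial k) ^ n}) X) ^ n = 0 := by
  rw [← map_pow, Ideal.Quotient.eq_zero_iff_mem]
  exact Ideal.mem_span_singleton_self _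

lemma nilp (hn : 0 < n) (b : Polynomial k ⧸ Ideal.span {(X : Polynomial k) ^ n}) :
    IsNilpotent (b - algebraMap k _ (eps hn b)) := by
  obtain ⟨b', hb'⟩ := decomp hn b
  refine ⟨n, ?_⟩
  have : b - algebraMap k _ (eps hn b) =
      Ideal.Quotient.mk (Ideal.span {(X : Polynomial k) ^ n}) X * b' := by
    rw [sub_eq_iff_eq_add, add_comm]; exact hb'
  rw [this, mul_pow, t_pow hn, zero_mul]

/-- ideals of the quotient are generated by powers of `t` -/
lemma ideal_eq (I : Ideal (Polynomial k ⧸ Ideal.span {(X : Polynomial k) ^ n})) :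
    ∃ i, I = Ideal.span {(Ideal.Quotient.mk (Ideal.span {(X : Polynomial k) ^ n}) X) ^ i} := by
  set mk := Ideal.Quotient.mk (Ideal.span {(X : Polynomial k) ^ n}) with hmk
  obtain ⟨g, hg⟩ := (IsPrincipalIdealRing.principal (I.comap mk)).principal
  have hXn : (X : k[X]) ^ n ∈ I.comap mk := by
    rw [Ideal.mem_comap]
    have : mk (X ^ n) = 0 := Ideal.Quotient.eq_zero_iff_mem.mpr (Ideal.mem_span_singleton_self _)
    rw [this]; exact zero_mem _
  rw [hg] at hXn
  have hdvd : g ∣ X ^ n := Ideal.mem_span_singleton.mp hXn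
  obtain ⟨i, _, hi⟩ := (dvd_prime_pow Polynomial.prime_X n).mp hdvd
  refine ⟨i, ?_⟩
  have h1 : I.comap mk = Ideal.span {(X : k[X]) ^ i} := by
    rw [hg]; exact Ideal.span_singleton_eq_span_singleton.mpr hi
  rw [← Ideal.map_comap_of_surjective mk Ideal.Quotient.mk_surjective I, h1, Ideal.map_span,
    Set.image_singleton, map_pow]

lemma dvd_total (x y : Polynomial k ⧸ Ideal.span {(X : Polynomial k) ^ n}) : x ∣ y ∨ y ∣ x := by
  obtain ⟨i, hi⟩ := ideal_eq (Ideal.span {x})
  obtain ⟨j, hj⟩ := ideal_eq (Ideal.span {y})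
  rcases le_total i j with h | h
  · left
    rw [← Ideal.span_singleton_le_span_singleton, hi, hj, Ideal.span_singleton_le_span_singleton]
    exact pow_dvd_pow _ h
  · right
    rw [← Ideal.span_singleton_le_span_singleton, hi, hj, Ideal.span_singleton_le_span_singleton]
    exact pow_dvd_pow _ h

lemma isUnit_iff (hn : 0 < n)
    (A : Subalgebra k (Polynomial k ⧸ Ideal.span {(X : Polynomial k) ^ n})) (a : A) :
    IsUnit a ↔ eps hn (a : Polynomial k ⧸ Ideal.span {(X : Polynomial k) ^ n}) ≠ 0 := by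
  constructor
  · intro h
    exact (h.map ((eps hn).comp A.val)).ne_zero
  · intro h
    set c := eps hn (a : Polynomial k ⧸ Ideal.span {(X : Polynomial k) ^ n}) with hc
    have hnil : IsNilpotent (a - algebraMap k A c) := by
      obtain ⟨m, hm⟩ := nilp hn (a : Polynomial k ⧸ Ideal.span {(X : Polynomial k) ^ n})
      refine ⟨m, Subtype.ext ?_⟩
      rw [Subalgebra.coe_pow, Subalgebra.coe_sub, Subalgebra.coe_algebraMap, Subalgebra.coe_zero]
      exact hm
    have hu : IsUnit (algebraMap k A c) := (IsUnit.mk0 c h).map (algebraMap k A)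
    have := hnil.isUnit_add_left_of_commute hu (Commute.all _ _)
    rwa [add_sub_cancel] at this

theorem main (k : Type u) [Field k] [IsAlgClosed k]
    (n : ℕ) (hn : 0 < n)
    (A : Subalgebra k (Polynomial k ⧸ Ideal.span {(X : Polynomial k) ^ n}))
    [Module.Flat A (Polynomial k ⧸ Ideal.span {(X : Polynomial k) ^ n})] :
    ∃ m : ℕ, Nonempty (A ≃ₐ[k] (Polynomial k ⧸ Ideal.span {(X : Polynomial k) ^ m})) := by
  classical
  haveI hfinB : Module.Finite k (Polynomial k ⧸ Ideal.span {(X : Polynomial k) ^ n}) :=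
    Module.finite_of_finrank_pos (by
      rw [finrank_quotient_span_eq_natDegree, natDegree_X_pow]; exact hn)
  haveI : Module.Finite k A := Module.Finite.of_injective A.val.toLinearMap Subtype.val_injective
  haveI : Nontrivial (Polynomial k ⧸ Ideal.span {(X : Polynomial k) ^ n}) :=
    (eps hn).toRingHom.domain_nontrivial
  haveI : Nontrivial A := inferInstance
  haveI : IsLocalRing A := by
    apply IsLocalRing.of_nonunits_add
    intro a b ha hb
    simp only [mem_nonunits_iff, isUnit_iff hn, not_not] at ha hb ⊢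
    rw [Subalgebra.coe_add, map_add, ha, hb, add_zero]
  haveI : IsArtinianRing A := IsArtinianRing.of_finite k A
  haveI : IsNoetherianRing A := inferInstance
  have hmem : ∀ a : A, a ∈ maximalIdeal A ↔
      eps hn (a : Polynomial k ⧸ Ideal.span {(X : Polynomial k) ^ n}) = 0 := by
    intro a
    rw [IsLocalRing.mem_maximalIdeal, mem_nonunits_iff, isUnit_iff hn, not_not]
  have hex : ∃ i, ∃ x : A, x ∈ maximalIdeal A ∧
      Ideal.span {(x : Polynomial k ⧸ Ideal.span {(X : Polynomial k) ^ n})} =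
        Ideal.span {(Ideal.Quotient.mk (Ideal.span {(X : Polynomial k) ^ n}) X) ^ i} := by
    obtain ⟨i, hi⟩ := ideal_eq
      (Ideal.span {((0 : A) : Polynomial k ⧸ Ideal.span {(X : Polynomial k) ^ n})})
    exact ⟨i, 0, zero_mem _, hi⟩
  obtain ⟨x, hxm, hxi⟩ := Nat.find_spec hex
  have hdvd : ∀ y : A, y ∈ maximalIdeal A →
      (x : Polynomial k ⧸ Ideal.span {(X : Polynomial k) ^ n}) ∣ (y : _) := by
    intro y hy
    obtain ⟨j, hj⟩ := ideal_eq
      (Ideal.span {(y : Polynomial k ⧸ Ideal.span {(X : Polynomial k) ^ n})})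
    have hle : Nat.find hex ≤ j := Nat.find_min' hex ⟨y, hy, hj⟩
    rw [← Ideal.span_singleton_le_span_singleton, hxi, hj, Ideal.span_singleton_le_span_singleton]
    exact pow_dvd_pow _ hle
  have hflat : ∀ y : A, (x : Polynomial k ⧸ Ideal.span {(X : Polynomial k) ^ n}) ∣ (y : _) →
      ∃ a : A, y = x * a := by
    rintro y ⟨b, hb⟩
    obtain ⟨l, a, z, hz, ha⟩ := Module.Flat.isTrivialRelation_of_sum_smul_eq_zero (R := A)
      (M := Polynomial k ⧸ Ideal.span {(X : Polynomial k) ^ n}) (f := ![x, -y]) (x := ![b, 1]) (by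
      simp only [Fin.sum_univ_two, Matrix.cons_val_zero, Matrix.cons_val_one]
      show (x : Polynomial k ⧸ Ideal.span {(X : Polynomial k) ^ n}) * b +
        ((-y : A) : Polynomial k ⧸ Ideal.span {(X : Polynomial k) ^ n}) * 1 = 0
      rw [Subalgebra.coe_neg, ← hb]; ring)
    have h1 : (1 : Polynomial k ⧸ Ideal.span {(X : Polynomial k) ^ n}) = ∑ j, a 1 j • z j := hz 1
    have hexj : ∃ j, eps hn ((a 1 j : A) : Polynomial k ⧸ Ideal.span {(X : Polynomial k) ^ n})
        ≠ 0 := by
      by_contra hcon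
      push Not at hcon
      have h2 := congrArg (eps hn) h1
      rw [map_one, map_sum] at h2
      have h3 : ∀ j, eps hn (a 1 j • z j) = 0 := by
        intro j
        have : a 1 j • z j = ((a 1 j : A) : Polynomial k ⧸ Ideal.span {(X : Polynomial k) ^ n}) *
            z j := rfl
        rw [this, map_mul, hcon, zero_mul]
      rw [Finset.sum_eq_zero (fun j _ => h3 j)] at h2
      exact one_ne_zero h2
    obtain ⟨j, hj⟩ := hexj
    obtain ⟨u, hu'⟩ := (isUnit_iff hn A _).mpr hj
    have haj := ha j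
    simp only [Fin.sum_univ_two, Matrix.cons_val_zero, Matrix.cons_val_one] at haj
    refine ⟨a 0 j * ↑u⁻¹, ?_⟩
    have h3 : y * a 1 j = x * a 0 j := by
      have : x * a 0 j - y * a 1 j = 0 := by rw [← haj]; ring
      exact (sub_eq_zero.mp this).symm
    calc y = y * (a 1 j * ↑u⁻¹) := by rw [← hu', Units.mul_inv, mul_one]
      _ = (y * a 1 j) * ↑u⁻¹ := by ring
      _ = x * (a 0 j * ↑u⁻¹) := by rw [h3]; ring
  have hspan : maximalIdeal A = Ideal.span {x} := by
    ext y
    constructor
    · intro hy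
      obtain ⟨a, ha⟩ := hflat y (hdvd y hy)
      rw [Ideal.mem_span_singleton']
      exact ⟨a, by rw [ha, mul_comm]⟩
    · intro hy
      obtain ⟨a, ha⟩ := Ideal.mem_span_singleton'.mp hy
      rw [← ha]
      exact Ideal.mul_mem_left _ _ hxm
  have hcurv : Module.finrank (IsLocalRing.ResidueField A) (IsLocalRing.CotangentSpace A) ≤ 1 :=
    finrank_cotangentSpace_le_one_iff.mpr ⟨⟨x, hspan⟩⟩
  obtain ⟨e⟩ := Groth.Agent.S14091.main k A hcurv
  exact ⟨_, ⟨e⟩⟩

end

open Polynomial in
/-- Over an algebraically closed field k, if B = k[t]/(t^n) with n ≥ 1 is flat over a k-subalgebra A ⊆ B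
(a finite flat extension of pointed finite algebras with curvilinear top), then A is curvilinear
too: A is isomorphic as a k-algebra to k[t]/(t^m) for some m. -/
theorem result (k : Type u) [Field k] [IsAlgClosed k]
    (n : ℕ) (hn : 0 < n)
    (A : Subalgebra k (Polynomial k ⧸ Ideal.span {(X : Polynomial k) ^ n}))
    [Module.Flat A (Polynomial k ⧸ Ideal.span {(X : Polynomial k) ^ n})] :
    ∃ m : ℕ, Nonempty (A ≃ₐ[k] (Polynomial k ⧸ Ideal.span {(X : Polynomial k) ^ m})) := by
  exact Groth.Agent.S14087.main k n hn A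

end Groth.Agent.S14087
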