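import Groth.Statements.S14088
import Mathlib.Tactic

set_option autoImplicit false
universe u
open ArSing

namespace Groth.Agent.S14088

/-- rising factorial with step τ -/
noncomputable def P {A : Type u} [CommRing A] (h τ : A) (k : ℕ) : A :=
  ∏ i ∈ Finset.range k, (h + (i : A) * τ)

theorem P_succ {A : Type u} [CommRing A] (h τ : A) (k : ℕ) :
    P h τ (k + 1) = P h τ k * (h + (k : A) * τ) := by
  unfold P; rw [Finset.prod_range_succ]

theorem mul_P {A : Type u} [CommRing A] (h τ : A) (n k : ℕ) :
    (h + (n : A) * τ) * P h τ k = P h τ (k + 1) + ((n : A) - (k : A)) * τ * P h τ k := by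
  rw [P_succ]; ring

/-- the coefficient -/
noncomputable def c (A : Type u) [CommRing A] (n m s : ℕ) : A :=
  (-1 : A) ^ s * (Nat.factorial s : A) * (Nat.choose n s : A) * (Nat.choose m s : A)

theorem c_rec (A : Type u) [CommRing A] (n m s : ℕ) :
    c A (n + 1) m (s + 1) = c A n m (s + 1) + ((s : A) - (m : A)) * c A n m s := by
  unfold c
  by_cases hsm : s ≤ m
  · have h1 : (Nat.choose m (s + 1) * (s + 1) : ℕ) = Nat.choose m s * (m - s) :=
      Nat.choose_succ_right_eq m s
    have h1' : (Nat.choose m (s + 1) : A) * ((s : A) + 1) = (Nat.choose m s : A) * ((m : A) - (s : A)) := by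
      have := congrArg (Nat.cast (R := A)) h1
      push_cast [Nat.cast_sub hsm] at this
      exact this
    have h2 : (Nat.choose (n + 1) (s + 1) : A) = (Nat.choose n s : A) + (Nat.choose n (s + 1) : A) := by
      rw [Nat.choose_succ_succ]; push_cast; ring
    have h3 : (Nat.factorial (s + 1) : A) = ((s : A) + 1) * (Nat.factorial s : A) := by
      rw [Nat.factorial_succ]; push_cast; ring
    rw [h2, h3, pow_succ]
    have e : (-1 : A) ^ s * -1 * (((s : A) + 1) * (Nat.factorial s : A)) *
        ((Nat.choose n s : A) + (Nat.choose n (s + 1) : A)) * (Nat.choose m (s + 1) : A)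
        = (-1 : A) ^ s * -1 * (Nat.factorial s : A) *
        ((Nat.choose n s : A) + (Nat.choose n (s + 1) : A)) * ((Nat.choose m (s + 1) : A) * ((s : A) + 1)) := by
      ring
    rw [e, h1']
    have e2 : (-1 : A) ^ s * -1 * (((s : A) + 1) * (Nat.factorial s : A)) * (Nat.choose n (s + 1) : A) *
        (Nat.choose m (s + 1) : A) = (-1 : A) ^ s * -1 * (Nat.factorial s : A) * (Nat.choose n (s + 1) : A) *
        ((Nat.choose m (s + 1) : A) * ((s : A) + 1)) := by ring
    rw [e2, h1']
    ring
  · have hs : m < s := by omega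
    rw [Nat.choose_eq_zero_of_lt hs, Nat.choose_eq_zero_of_lt (by omega : m < s + 1)]
    simp

theorem main {A : Type u} [CommRing A] (h τ : A) (m : ℕ) : ∀ n : ℕ,
    P h τ n * P h τ m = ∑ s ∈ Finset.range (n + 1), c A n m s * τ ^ s * P h τ (m + n - s) := by
  intro n
  induction n with
  | zero =>
    simp [c, P]
  | succ n ih =>
    rw [P_succ, mul_assoc, mul_comm (h + (n : A) * τ), ← mul_assoc, ih, Finset.sum_mul]
    -- expand each term
    have e1 : ∀ s ∈ Finset.range (n + 1), c A n m s * τ ^ s * P h τ (m + n - s) * (h + (n : A) * τ) =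
        c A n m s * τ ^ s * P h τ (m + (n + 1) - s) +
          ((s : A) - (m : A)) * c A n m s * τ ^ (s + 1) * P h τ (m + (n + 1) - (s + 1)) := by
      intro s hs
      have hs' := Finset.mem_range.mp hs
      have e : m + (n + 1) - s = (m + n - s) + 1 := by omega
      have e' : m + (n + 1) - (s + 1) = m + n - s := by omega
      rw [e, e']
      have hk : ((m + n - s : ℕ) : A) = (m : A) + (n : A) - (s : A) := by
        rw [Nat.cast_sub (by omega), Nat.cast_add]
      rw [mul_assoc _ (P h τ (m + n - s)), mul_comm (P h τ (m + n - s)), mul_P, hk, pow_succ]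
      ring
    rw [Finset.sum_congr rfl e1, Finset.sum_add_distrib]
    -- target
    rw [Finset.sum_range_succ' (fun s => c A (n + 1) m s * τ ^ s * P h τ (m + (n + 1) - s))]
    -- first sum: peel and extend
    rw [Finset.sum_range_succ' (fun s => c A n m s * τ ^ s * P h τ (m + (n + 1) - s))]
    have e2 : ∑ s ∈ Finset.range n, c A n m (s + 1) * τ ^ (s + 1) * P h τ (m + (n + 1) - (s + 1)) =
        ∑ s ∈ Finset.range (n + 1), c A n m (s + 1) * τ ^ (s + 1) * P h τ (m + (n + 1) - (s + 1)) := by
      rw [Finset.sum_range_succ]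
      have : c A n m (n + 1) = 0 := by
        unfold c; rw [Nat.choose_succ_self]; simp
      rw [this]; simp
    rw [e2]
    have e3 : c A (n + 1) m 0 = c A n m 0 := by unfold c; simp
    rw [e3]
    have e4 : ∑ s ∈ Finset.range (n + 1), c A (n + 1) m (s + 1) * τ ^ (s + 1) * P h τ (m + (n + 1) - (s + 1)) =
        ∑ s ∈ Finset.range (n + 1), c A n m (s + 1) * τ ^ (s + 1) * P h τ (m + (n + 1) - (s + 1)) +
        ∑ s ∈ Finset.range (n + 1), ((s : A) - (m : A)) * c A n m s * τ ^ (s + 1) * P h τ (m + (n + 1) - (s + 1)) := by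
      rw [← Finset.sum_add_distrib]
      refine Finset.sum_congr rfl ?_
      intro s _
      rw [c_rec]; ring
    rw [e4]
    ring

/-- The identity behind the torus-equivariant classes h_i = h_0 + i τ of the coordinate hyperplanes of a
projective space of binary forms, stated in an arbitrary commutative ring: for n ≤ m, (h_0 ⋯
h_(n-1))^2 · h_n ⋯ h_(m-1) equals the sum over s = 0, …, n of (-1)^s s! (n choose s) (m choose s)
τ^s h_0 ⋯ h_(m+n-s-1), where h_i = h + i τ. (The published statement is in the equivariant Chow ring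
of that projective space; only the relations h_i = h_j + (j - i) τ are used, so it holds in any
commutative ring.) -/
theorem result (A : Type u) [CommRing A] (h τ : A) (n m : ℕ) (hnm : n ≤ m) :
    (∏ i ∈ Finset.range n, (h + (i : A) * τ) ^ 2) * ∏ i ∈ Finset.Ico n m, (h + (i : A) * τ) =
      ∑ s ∈ Finset.range (n + 1), (-1 : A) ^ s * (Nat.factorial s : A) * (Nat.choose n s : A) *
        (Nat.choose m s : A) * τ ^ s * ∏ i ∈ Finset.range (m + n - s), (h + (i : A) * τ) := by
  have hm := main h τ m n
  unfold P c at hm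
  rw [← hm]
  rw [Finset.prod_pow, sq, mul_assoc]
  congr 1
  exact Finset.prod_range_mul_prod_Ico _ hnm

end Groth.Agent.S14088
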