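import Groth.Statements.S14097
import Mathlib.Tactic

set_option autoImplicit false
universe u
open ArSing

namespace Groth.Agent.S14097

theorem esymm_cons_succ {A : Type u} [CommRing A] (a : A) (s : Multiset A) (n : ℕ) :
    (a ::ₘ s).esymm (n + 1) = s.esymm (n + 1) + a * s.esymm n := by
  unfold Multiset.esymm
  rw [Multiset.powersetCard_cons, Multiset.map_add, Multiset.sum_add, Multiset.map_map]
  congr 1
  have : (Multiset.prod ∘ Multiset.cons a) = fun t : Multiset A => a * t.prod := by
    funext t; simp
  rw [this, Multiset.sum_map_mul_left]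

theorem esymm_zero' {A : Type u} [CommRing A] (s : Multiset A) : s.esymm 0 = 1 := by
  unfold Multiset.esymm
  simp [Multiset.powersetCard_zero_left]

theorem esymm_card' {A : Type u} [CommRing A] (s : Multiset A) : s.esymm (Multiset.card s) = s.prod := by
  unfold Multiset.esymm
  simp [Multiset.powersetCard_self]

/-- the multiset of the first k values -/
noncomputable def ms {A : Type u} (h : ℕ → A) (k : ℕ) : Multiset A := (Finset.range k).val.map h

theorem ms_succ {A : Type u} (h : ℕ → A) (k : ℕ) : ms h (k + 1) = h k ::ₘ ms h k := by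
  unfold ms
  rw [Finset.range_val, Finset.range_val, Multiset.range_succ, Multiset.map_cons]

theorem ms_card {A : Type u} (h : ℕ → A) (k : ℕ) : Multiset.card (ms h k) = k := by
  unfold ms; simp

theorem ms_prod {A : Type u} [CommRing A] (h : ℕ → A) (k : ℕ) :
    (ms h k).prod = ∏ i ∈ Finset.range k, h i := rfl

/-- G -/
noncomputable def G {A : Type u} [CommRing A] (τ : A) (h : ℕ → A) (k : ℕ) : A :=
  ∑ j ∈ Finset.range k, τ ^ (k - 1 - j) * (ms h k).esymm j

theorem G_succ {A : Type u} [CommRing A] (τ : A) (h : ℕ → A) (k : ℕ) (hk : 1 ≤ k) :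
    G τ h (k + 1) = (τ + h k) * G τ h k + ∏ i ∈ Finset.range k, h i := by
  unfold G
  rw [Finset.sum_range_succ', ms_succ]
  simp only [add_tsub_cancel_right, tsub_zero, esymm_cons_succ, esymm_zero', mul_one]
  have e1 : ∑ j ∈ Finset.range k, τ ^ (k - (j + 1)) * ((ms h k).esymm (j + 1) + h k * (ms h k).esymm j)
      = ∑ j ∈ Finset.range k, τ ^ (k - 1 - j) * (ms h k).esymm (j + 1) +
        h k * ∑ j ∈ Finset.range k, τ ^ (k - 1 - j) * (ms h k).esymm j := by
    rw [Finset.mul_sum, ← Finset.sum_add_distrib]
    refine Finset.sum_congr rfl ?_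
    intro j _
    have : k - (j + 1) = k - 1 - j := by omega
    rw [this]; ring
  rw [e1]
  -- τ * G + E = Σ_{j<k+1} τ^(k-j) e_j
  have e2 : τ * ∑ j ∈ Finset.range k, τ ^ (k - 1 - j) * (ms h k).esymm j + ∏ i ∈ Finset.range k, h i
      = ∑ j ∈ Finset.range (k + 1), τ ^ (k - j) * (ms h k).esymm j := by
    rw [Finset.sum_range_succ, Nat.sub_self, pow_zero, one_mul]
    have := esymm_card' (ms h k)
    rw [ms_card, ms_prod] at this
    rw [this, Finset.mul_sum]
    congr 1
    refine Finset.sum_congr rfl ?_
    intro j hj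
    have hj' := Finset.mem_range.mp hj
    have : k - j = (k - 1 - j) + 1 := by omega
    rw [this, pow_succ]; ring
  have e3 : ∑ j ∈ Finset.range (k + 1), τ ^ (k - j) * (ms h k).esymm j =
      ∑ j ∈ Finset.range k, τ ^ (k - 1 - j) * (ms h k).esymm (j + 1) + τ ^ k := by
    rw [Finset.sum_range_succ']
    simp only [tsub_zero, esymm_zero', mul_one]
    congr 1
    refine Finset.sum_congr rfl ?_
    intro j _
    have : k - (j + 1) = k - 1 - j := by omega
    rw [this]
  rw [add_mul, add_assoc (τ * _), add_comm (h k * _), ← add_assoc, e2, e3]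
  ring

theorem main {A : Type u} [CommRing A] (τ : A) (h : ℕ → A) :
    ∀ k : ℕ, 1 ≤ k → (∀ i, i < k → h i ^ 2 + τ * h i = 0) →
      (∏ i ∈ Finset.range (k - 1), (h i + h (i + 1) + τ) = G τ h k ∧
        G τ h k * h (k - 1) = ∏ i ∈ Finset.range k, h i) := by
  intro k hk
  induction k, hk using Nat.le_induction with
  | base =>
    intro _
    constructor
    · simp [G, esymm_zero']
    · simp [G, esymm_zero']
  | succ k hk ih =>
    intro hrel
    obtain ⟨ih1, ih2⟩ := ih (fun i hi => hrel i (by omega))
    have hG := G_succ τ h k hk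
    constructor
    · have : k + 1 - 1 = (k - 1) + 1 := by omega
      rw [this, Finset.prod_range_succ, ih1, hG]
      have e : k - 1 + 1 = k := by omega
      rw [e]
      have : G τ h k * (h (k - 1) + h k + τ) = (τ + h k) * G τ h k + G τ h k * h (k - 1) := by ring
      rw [this, ih2]
    · rw [add_tsub_cancel_right, hG, Finset.prod_range_succ]
      have hr := hrel k (by omega)
      have : ((τ + h k) * G τ h k + ∏ i ∈ Finset.range k, h i) * h k =
          G τ h k * (h k ^ 2 + τ * h k) + (∏ i ∈ Finset.range k, h i) * h k := by ring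
      rw [this, hr, mul_zero, zero_add]

/-- In any commutative ring, if h_0, …, h_(k-1) (k ≥ 2) and τ satisfy h_i^2 + τ h_i = 0, then ∏_(i ≤
k-2) (h_i + h_(i+1) + τ) = Σ_(j ≤ k-1) τ^(k-1-j) e_j(h), e_j the elementary symmetric functions.
(The published statement is the resulting formula for the class of the small diagonal in the Chow
ring of (P^1)^k, where the h_i are the hyperplane classes of the factors and satisfy these
relations; only the ring identity is asserted here.) -/
theorem result (A : Type u) [CommRing A] (k : ℕ) (hk : 2 ≤ k) (τ : A)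
    (h : ℕ → A) (hrel : ∀ i, i < k → h i ^ 2 + τ * h i = 0) :
    ∏ i ∈ Finset.range (k - 1), (h i + h (i + 1) + τ) =
      ∑ j ∈ Finset.range k, τ ^ (k - 1 - j) * (((Finset.range k).val.map h).esymm j) := by
  exact (main τ h k (by omega) hrel).1

end Groth.Agent.S14097
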