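import Groth.Statements.S14101
import Groth.Agent.Lib.Helper7.RedModP

set_option autoImplicit false
universe u
open CAlg

namespace Groth.Agent.S14101

/-- Affine form — let A be a reduced commutative ring of finite type over ℤ. Then for all but finitely
many prime numbers p the reduction A/pA is reduced. (The published statement is for a reduced scheme
of finite type over ℤ; such a scheme has a finite affine open cover, so the affine form carries the
same content.) -/
theorem result
    (A : Type u) [CommRing A] [Algebra.FiniteType ℤ A] [IsReduced A] :
    {p : ℕ | p.Prime ∧ ¬ IsReduced (A ⧸ Ideal.span {(p : A)})}.Finite := by
  exact Groth.Agent.Helper7.RedModP.main A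

end Groth.Agent.S14101
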