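import Groth.Statements.S14115
import Mathlib.Tactic

set_option autoImplicit false
universe u v
open SuperComm

namespace Groth.Agent.S14115

theorem neg_one_pow_comm {S : Type v} [Ring S] (n : ℕ) (a : S) : (-1 : S) ^ n * a = a * (-1 : S) ^ n :=
  ((Commute.neg_one_left a).pow_left n).eq

theorem aux {R : Type u} {S : Type v} [CommRing R] [Ring S]
    [Algebra R S] (x : S) : ∀ (n : ℕ) (y : Fin (n + 1) → S) (r : Fin (n + 1) → R)
    (_ : ∀ i : Fin (n + 1), x * y i + y i * x = algebraMap R S (r i)),
    x * (List.ofFn y).prod + (-1 : S) ^ n * ((List.ofFn y).prod * x) =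
      ∑ p : Fin (n + 1), (-1 : S) ^ (p : ℕ) * (r p • (List.ofFn (fun q : Fin n => y (p.succAbove q))).prod) := by
  intro n
  induction n with
  | zero =>
    intro y r h
    simp only [List.ofFn_succ, List.ofFn_zero, List.prod_cons, List.prod_nil, mul_one, pow_zero,
      one_mul]
    rw [h 0]
    show _ = ∑ p : Fin 1, (-1 : S) ^ (p : ℕ) * (r p • (1 : S))
    rw [Fin.sum_univ_one, Algebra.smul_def, mul_one]
    simp
  | succ n ih =>
    intro y r h
    have ih' := ih (fun i => y i.succ) (fun i => r i.succ) (fun i => h i.succ)
    set Y' : S := (List.ofFn fun i : Fin (n + 1) => y i.succ).prod with hY'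
    have hprod : (List.ofFn y).prod = y 0 * Y' := by
      rw [List.ofFn_succ, List.prod_cons]
    have hx0 : x * y 0 = algebraMap R S (r 0) - y 0 * x := by
      rw [← h 0]; abel
    have hL : x * (List.ofFn y).prod + (-1 : S) ^ (n + 1) * ((List.ofFn y).prod * x) =
        r 0 • Y' - y 0 * (x * Y' + (-1 : S) ^ n * (Y' * x)) := by
      rw [hprod, ← mul_assoc x, hx0, sub_mul, ← Algebra.smul_def, pow_succ, mul_add]
      have e1 : (-1 : S) ^ n * -1 * (y 0 * Y' * x) = - (y 0 * ((-1 : S) ^ n * (Y' * x))) := by
        rw [mul_neg_one, neg_mul, ← mul_assoc ((-1 : S) ^ n), ← mul_assoc ((-1 : S) ^ n),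
          neg_one_pow_comm n (y 0)]
        noncomm_ring
      rw [e1]
      noncomm_ring
    rw [hL, ih']
    conv_rhs => rw [Fin.sum_univ_succ]
    simp only [Fin.val_zero, pow_zero, one_mul, Fin.succAbove_zero, Fin.val_succ]
    rw [sub_eq_add_neg]
    congr 1
    rw [Finset.mul_sum, ← Finset.sum_neg_distrib]
    refine Finset.sum_congr rfl ?_
    intro p _
    have hp : (List.ofFn fun q : Fin (n + 1) => y (p.succ.succAbove q)).prod =
        y 0 * (List.ofFn fun q : Fin n => y (p.succAbove q).succ).prod := by
      rw [List.ofFn_succ, List.prod_cons]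
      simp only [Fin.succ_succAbove_zero, Fin.succ_succAbove_succ]
    rw [hp, pow_succ, mul_neg_one, neg_mul, ← mul_assoc, ← neg_one_pow_comm, mul_assoc,
      mul_smul_comm]
  
/-- Let S be an associative unital algebra over a commutative ring R, x an element and y_0, …, y_n
elements such that the anticommutator x y_i + y_i x equals r_i · 1 for scalars r_i ∈ R. Then the
graded commutator of x with the ordered product y_0 ⋯ y_n, namely x (y_0 ⋯ y_n) + (-1)^n (y_0 ⋯ y_n)
x, equals the sum over p of (-1)^p r_p times the ordered product of the y_q with q ≠ p. (The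
published statement takes x homogeneous of degree 1 and the y_i homogeneous of degree -1 in a graded
algebra with unit in degree 0, the signs being those of the supercommutator; this row states the
identity for arbitrary elements satisfying the anticommutation relations, which is what the
computation proves.) -/
theorem result {R : Type u} {S : Type v} [CommRing R] [Ring S]
    [Algebra R S] (n : ℕ) (x : S) (y : Fin (n + 1) → S) (r : Fin (n + 1) → R)
    (h : ∀ i : Fin (n + 1), x * y i + y i * x = algebraMap R S (r i)) :
    x * (List.ofFn y).prod + (-1 : S) ^ n * ((List.ofFn y).prod * x) =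
      ∑ p : Fin (n + 1), (-1 : S) ^ (p : ℕ) * (r p • (List.ofFn (fun q : Fin n => y (p.succAbove q))).prod) := by
  exact aux x n y r h

end Groth.Agent.S14115
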