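import Groth.Statements.S14118
-- import your own Groth.Agent.* helpers here

set_option autoImplicit false
universe u v w
open SuperComm

namespace Groth.Agent.S14118

lemma sgn_eq {R : Type u} [CommRing R] (n : ℤ) :
    (-1 : R) ^ n.natAbs = if Even n then 1 else -1 := by
  by_cases h : Even n
  · rw [if_pos h]; exact Even.neg_one_pow (Int.natAbs_even.mpr h)
  · rw [if_neg h]; exact Odd.neg_one_pow (Int.natAbs_odd.mpr (Int.not_even_iff_odd.mp h))

section
variable {R : Type u} [CommRing R] {ι : Type v} [Fintype ι] [DecidableEq ι]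
  (M : ι → Type w) [∀ i, AddCommGroup (M i)] [∀ i, Module R (M i)]

/-- the `(i, j)` block of an endomorphism -/
def blk (χ : (Π k, M k) →ₗ[R] (Π k, M k)) (i j : ι) : M j →ₗ[R] M i :=
  (LinearMap.proj i) ∘ₗ χ ∘ₗ (LinearMap.single R M j)

lemma blk_comp (φ ψ : (Π k, M k) →ₗ[R] (Π k, M k)) (i : ι) :
    blk M (φ ∘ₗ ψ) i i = ∑ j, (blk M φ i j) ∘ₗ (blk M ψ j i) := by
  refine LinearMap.ext fun x => ?_
  simp only [blk, LinearMap.comp_apply, LinearMap.sum_apply]
  have hy : ∀ y : (Π k, M k), y = ∑ j, LinearMap.single R M j ((LinearMap.proj j : (Π k, M k) →ₗ[R] M j) y) := by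
    intro y
    simp only [LinearMap.coe_single, LinearMap.proj_apply]
    exact (Finset.univ_sum_single y).symm
  conv_lhs => rw [hy (ψ (LinearMap.single R M i x))]
  simp only [map_sum]

omit [Fintype ι] in
lemma blk_sub_smul (χ₁ χ₂ : (Π k, M k) →ₗ[R] (Π k, M k)) (s : R) (i : ι) :
    blk M (χ₁ - s • χ₂) i i = blk M χ₁ i i - s • blk M χ₂ i i := by
  refine LinearMap.ext fun x => ?_
  simp [blk]

variable [∀ i, Module.Free R (M i)] [∀ i, Module.Finite R (M i)]

lemma strace_eq (c : ι → R) (χ : (Π k, M k) →ₗ[R] (Π k, M k)) :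
    LinearMap.trace R (Π k, M k) ((∑ i : ι, (LinearMap.single R M i) ∘ₗ
      ((c i) • (LinearMap.proj i : (Π k, M k) →ₗ[R] M i))) ∘ₗ χ)
    = ∑ i, c i * LinearMap.trace R (M i) (blk M χ i i) := by
  have hsum : ∀ (f : ι → ((Π k, M k) →ₗ[R] (Π k, M k))),
      (∑ i, f i) ∘ₗ χ = ∑ i, (f i ∘ₗ χ) := by
    intro f
    refine LinearMap.ext fun x => ?_
    simp only [LinearMap.comp_apply, LinearMap.sum_apply]
  rw [hsum, map_sum]
  apply Finset.sum_congr rfl
  intro i _
  rw [LinearMap.comp_assoc, LinearMap.trace_comp_comm', LinearMap.smul_comp, LinearMap.smul_comp,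
    map_smul, smul_eq_mul, LinearMap.comp_assoc]
  rfl

end

/-- Let R be a commutative ring and M a finitely ℤ-graded R-module with finitely many nonzero graded
pieces, each finite free, presented as a finite family of finite free R-modules M_i with integer
degrees deg i (the piece of degree n being the product of the M_i with deg i = n); an endomorphism φ
of the total module Π_i M_i has degree a when its (i, j) block vanishes unless deg j = deg i + a;
the supertrace of an endomorphism is the trace of its composite with the grading involution ε = Σ_i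
(-1)^{deg i} pr_i. If φ and ψ have degrees a and b, the supertrace of the supercommutator φψ -
(-1)^{ab} ψφ vanishes. (The published statement allows the graded pieces to be finitely generated
projective; this row takes them finite free, where the trace is the ordinary trace of a free
module.) -/
theorem result {R : Type u} [CommRing R] {ι : Type v} [Fintype ι] [DecidableEq ι]
    (deg : ι → ℤ) (M : ι → Type w) [∀ i, AddCommGroup (M i)] [∀ i, Module R (M i)]
    [∀ i, Module.Free R (M i)] [∀ i, Module.Finite R (M i)]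
    (a b : ℤ) (φ ψ : (Π k, M k) →ₗ[R] (Π k, M k))
    (hφ : ∀ i j : ι, deg j ≠ deg i + a → (LinearMap.proj j) ∘ₗ φ ∘ₗ (LinearMap.single R M i) = 0)
    (hψ : ∀ i j : ι, deg j ≠ deg i + b → (LinearMap.proj j) ∘ₗ ψ ∘ₗ (LinearMap.single R M i) = 0) :
    LinearMap.trace R (Π k, M k)
      ((∑ i : ι, (LinearMap.single R M i) ∘ₗ (((-1 : R) ^ (deg i).natAbs) • (LinearMap.proj i : (Π k, M k) →ₗ[R] M i))) ∘ₗ (φ ∘ₗ ψ - ((-1 : R) ^ (a * b).natAbs) • (ψ ∘ₗ φ))) = 0 := by
  have h1 := strace_eq M (fun i => (-1 : R) ^ (deg i).natAbs)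
    (φ ∘ₗ ψ - ((-1 : R) ^ (a * b).natAbs) • (ψ ∘ₗ φ))
  refine h1.trans ?_
  set s : R := (-1 : R) ^ (a * b).natAbs with hs
  have key : ∀ i j, (-1 : R) ^ (deg i).natAbs * LinearMap.trace R (M i) (blk M φ i j ∘ₗ blk M ψ j i)
      = (-1 : R) ^ (deg j).natAbs * (s * LinearMap.trace R (M j) (blk M ψ j i ∘ₗ blk M φ i j)) := by
    intro i j
    rw [LinearMap.trace_comp_comm' (blk M ψ j i) (blk M φ i j)]
    by_cases h1 : deg i = deg j + a
    · by_cases h2 : deg j = deg i + b
      · have hb : b = -a := by linarith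
        have hc : (-1 : R) ^ (deg i).natAbs = (-1 : R) ^ (deg j).natAbs * s := by
          rw [hs, h1, hb, sgn_eq, sgn_eq, sgn_eq]
          by_cases ha : Even a <;> by_cases hj : Even (deg j) <;>
            simp [Int.even_add, Int.even_mul, ha, hj]
        rw [hc, mul_assoc]
      · have : blk M ψ j i = 0 := hψ i j h2
        rw [this]; simp
    · have : blk M φ i j = 0 := hφ j i h1
      rw [this]; simp
  simp only [blk_sub_smul, blk_comp, map_sub, map_smul, map_sum, smul_eq_mul, mul_sub,
    Finset.sum_sub_distrib, Finset.mul_sum]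
  rw [sub_eq_zero]
  calc ∑ i, ∑ j, (-1 : R) ^ (deg i).natAbs * LinearMap.trace R (M i) (blk M φ i j ∘ₗ blk M ψ j i)
      = ∑ i, ∑ j, (-1 : R) ^ (deg j).natAbs *
          (s * LinearMap.trace R (M j) (blk M ψ j i ∘ₗ blk M φ i j)) := by
        simp only [key]
    _ = ∑ j, ∑ i, (-1 : R) ^ (deg j).natAbs *
          (s * LinearMap.trace R (M j) (blk M ψ j i ∘ₗ blk M φ i j)) := Finset.sum_comm

end Groth.Agent.S14118
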