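import Groth.Statements.S1414
-- import your own Groth.Agent.* helpers here

set_option autoImplicit false
universe u
open FlatMor

namespace Groth.Agent.S1414

open AlgebraicGeometry CategoryTheory Limits in
set_option backward.isDefEq.respectTransparency.types false in
theorem auxMul : MorphismProperty.IsMultiplicative @Smooth where
  id_mem X := inferInstanceAs <| Smooth (𝟙 X)
  comp_mem f g hf hg := by
    have : Smooth f := hf
    have : Smooth g := hg
    exact inferInstanceAs <| Smooth (f ≫ g)

open AlgebraicGeometry CategoryTheory Limits in
set_option backward.isDefEq.respectTransparency.types false in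
theorem aux : MorphismProperty.HasOfPostcompProperty @Smooth @Etale := by
  have := auxMul
  rw [MorphismProperty.hasOfPostcompProperty_iff_le_diagonal]
  intro X Y f hf
  have : Etale f := hf
  exact inferInstanceAs <| Smooth (pullback.diagonal f)

open AlgebraicGeometry CategoryTheory Limits in
/-- Let f : X → Y and g : Y → Z with f ≫ g smooth and g étale. Then f is smooth. -/
theorem result {X Y Z : Scheme.{u}} (f : X ⟶ Y) (g : Y ⟶ Z) [Smooth (f ≫ g)] [Etale g] : Smooth f := by
  have := aux
  exact MorphismProperty.of_postcomp (W := @Smooth) (W' := @Etale) f g ‹_› ‹_›

end Groth.Agent.S1414
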