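import Groth.Statements.S14141
import Groth.Agent.Lib.Helper18.Rigid14

set_option autoImplicit false
universe u
open CategoryTheory CategoryTheory.Limits AlgebraicGeometry
open AbSch

namespace Groth.Agent.S14141

/-- Let S be a connected Noetherian scheme, f : X → S a proper flat morphism such that for every point s
of S the natural map κ(s) → H^0(X_s, O_{X_s}) on global sections of the fibre is bijective, g : Y →
S a separated morphism and π : X → Y a morphism over S. If for some point s of S the restriction of
π to the fibre X_s is constant, i.e. factors through the projection X_s → Spec κ(s), then π is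
constant over all of S: it factors as f followed by a section S → Y of g. (The published statement
is for arbitrary Noetherian S with the conclusion over the connected component of s; this row
assumes S connected, the reduction made in the first line of the printed proof.) -/
theorem result {X Y S : Scheme.{u}} [IsNoetherian S] [ConnectedSpace ↥S]
    (f : X ⟶ S) [IsProper f] [Flat f]
    (hfib : ∀ s : ↥S, Function.Bijective (algebraMap (S.residueField s) Γ(f.fiber s, ⊤)))
    (g : Y ⟶ S) [IsSeparated g] (π : X ⟶ Y) (hπ : π ≫ g = f) (s : ↥S)
    (hs : ∃ y : Spec (S.residueField s) ⟶ Y, f.fiberι s ≫ π = f.fiberToSpecResidueField s ≫ y) :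
    ∃ σ : S ⟶ Y, σ ≫ g = 𝟙 S ∧ π = f ≫ σ := by
  have h0 : ∀ s : S, Function.Bijective
      (pullback.snd f (S.fromSpecResidueField s)).appTop.hom := by
    intro s
    have h1 := hfib s
    have h2 : Function.Bijective (Scheme.ΓSpecIso (S.residueField s)).inv.hom :=
      (ConcreteCategory.isIso_iff_bijective (Scheme.ΓSpecIso (S.residueField s)).inv).mp
        inferInstance
    have h3 : (algebraMap (S.residueField s) Γ(f.fiber s, ⊤) : _ → _) =
        (pullback.snd f (S.fromSpecResidueField s)).appTop.hom ∘
          (Scheme.ΓSpecIso (S.residueField s)).inv.hom := rfl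
    rw [h3] at h1
    exact (Function.Bijective.of_comp_iff _ h2).mp h1
  obtain ⟨y, hy⟩ := hs
  have hcoll : ∀ x x' : X, f.base x = s → f.base x' = s → π.base x = π.base x' := by
    have key : ∀ x : X, f.base x = s → π.base x = y.base default := by
      intro x hx
      have hpt : f.base x = (S.fromSpecResidueField s).base default := by
        rw [Scheme.fromSpecResidueField_apply, hx]
      obtain ⟨z, hz, -⟩ := Scheme.Pullback.exists_preimage_pullback x default hpt
      have h4 := congrArg (fun k => k.base z) hy
      simp only [Scheme.Hom.comp_base, TopCat.comp_app] at h4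
      rw [← hz]
      refine Eq.trans h4 ?_
      congr 1
      exact Subsingleton.elim _ _
    intro x x' hx hx'
    rw [key x hx, key x' hx']
  obtain ⟨t, ht⟩ := Groth.Agent.Helper18.Rigid.rigidity_proper f g (𝟙 S) π
    (by rw [hπ, Category.comp_id]) h0 s hcoll
  refine ⟨t, ?_, ht⟩
  haveI : Surjective f :=
    ⟨Groth.Agent.Helper18.Rigid.surjective_of_h0 f (fun s => (h0 s).injective)⟩
  haveI : Epi f := Flat.epi_of_flat_of_surjective f
  rw [← cancel_epi f, ← Category.assoc, ← ht, hπ, Category.comp_id]

end Groth.Agent.S14141
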