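import Groth.Statements.S1417
import Groth.Agent.Lib.Helper15.SmExt2

set_option autoImplicit false
universe u
open FlatMor

namespace Groth.Agent.S1417

open AlgebraicGeometry CategoryTheory Limits in
/-- Let S be locally Noetherian and f : X → S locally of finite type. Then f is smooth if and only if
for every small extension B' → B of Artinian local rings (a surjection whose kernel is generated by
one element annihilated by the maximal ideal), every morphism Spec B → X and every morphism Spec B'
→ S locally of finite type making the square commute, there is a lift Spec B' → X. -/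
theorem result {X S : Scheme.{u}} (f : X ⟶ S) [IsLocallyNoetherian S] [LocallyOfFiniteType f] :
    Smooth f ↔ ∀ (B B' : Type u) [CommRing B] [CommRing B'] [IsArtinianRing B] [IsArtinianRing B'] [IsLocalRing B] [IsLocalRing B']
      (φ : B' →+* B) (ε : B'), Function.Surjective φ → RingHom.ker φ = Ideal.span {ε} → (∀ m ∈ IsLocalRing.maximalIdeal B', ε * m = 0) →
      ∀ (α : Spec (CommRingCat.of B) ⟶ X) (β : Spec (CommRingCat.of B') ⟶ S), LocallyOfFiniteType β →
        Spec.map (CommRingCat.ofHom φ) ≫ β = α ≫ f →
        ∃ γ : Spec (CommRingCat.of B') ⟶ X, Spec.map (CommRingCat.ofHom φ) ≫ γ = α ∧ γ ≫ f = β := by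
  constructor
  · intro hf B B' _ _ _ _ _ _ φ ε hφ hker hkill α β hβ w
    exact Groth.Agent.Helper15.SmExt.smallLiftFT_of_smooth f B' B φ hφ
      ⟨ε, hker, fun a ha => by rw [mul_comm]; exact hkill a ha⟩ α β hβ w
  · intro H
    apply Groth.Agent.Helper15.SmExt.smooth_of_smallLiftFT f
    intro B' B _ _ _ _ _ _ π hπ ht α β hβ w
    obtain ⟨t, hker, hkill⟩ := ht
    exact H B B' π t hπ hker (fun m hm => by rw [mul_comm]; exact hkill m hm) α β hβ w

end Groth.Agent.S1417
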