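import Groth.Statements.S14175
-- import your own Groth.Agent.* helpers here

set_option autoImplicit false
universe u v w
open GalCoh

namespace Groth.Agent.S14175

section
variable {k : Type u} {V : Type w} [CommRing k] [AddCommGroup V] [Module k V]

/-- geometric sum of an endomorphism -/
def S (T : Module.End k V) (n : ℕ) : Module.End k V := ∑ i ∈ Finset.range n, T ^ i

lemma S_zero (T : Module.End k V) : S T 0 = 0 := by simp [S]

lemma S_one (T : Module.End k V) : S T 1 = 1 := by simp [S]

lemma S_add (T : Module.End k V) (a b : ℕ) : S T (a + b) = S T a + T ^ a * S T b := by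
  unfold S
  rw [Finset.sum_range_add, Finset.mul_sum]
  congr 1
  apply Finset.sum_congr rfl
  intro i _
  rw [pow_add]

lemma S_succ (T : Module.End k V) (n : ℕ) : S T (n + 1) = T * S T n + 1 := by
  unfold S
  rw [Finset.sum_range_succ', Finset.mul_sum, pow_zero]
  congr 1
  apply Finset.sum_congr rfl
  intro i _
  rw [pow_succ']

lemma sub_one_mul_S (T : Module.End k V) (n : ℕ) : (T - 1) * S T n = T ^ n - 1 := by
  unfold S
  exact mul_geom_sum T n

lemma S_mul_of_pow_eq_one (T : Module.End k V) {d : ℕ} (hd : T ^ d = 1) (j : ℕ) :
    S T (j * d) = j • S T d := by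
  induction j with
  | zero => simp [S_zero]
  | succ j ih =>
    rw [Nat.succ_mul, S_add, ih, pow_mul', hd, one_pow, one_mul, succ_nsmul]
end

/-- Let G be a finite cyclic group generated by t, let m be a natural number dividing the order of G,
and let ρ be a linear representation of G on a module V over a commutative ring k such that m·V = 0
and every element of G whose m-th power is the identity acts trivially on V. Then evaluating a
crossed homomorphism at t induces a bijection from the first cohomology of G with values in V
(crossed homomorphisms f, i.e. f(gh) = ρ(g)f(h) + f(g), modulo the principal ones g ↦ ρ(g)x − x)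
onto the coinvariants V_G (the quotient of V by the span of all ρ(g)v − v): the class of f(t) in V_G
vanishes exactly when f is principal, and every class of V_G is the class of f(t) for some crossed
homomorphism f. The bijection depends on the choice of the generator t. -/
theorem result
    {k : Type u} {G : Type v} {V : Type w} [CommRing k] [Group G] [Finite G]
    [AddCommGroup V] [Module k V] (ρ : Representation k G V)
    (t : G) (ht : ∀ g : G, g ∈ Subgroup.zpowers t)
    (m : ℕ) (hm : m ∣ Nat.card G) (htors : ∀ v : V, m • v = 0)
    (htriv : ∀ g : G, g ^ m = 1 → ∀ v : V, ρ g v = v) :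
    (∀ f : G → V, (∀ g h : G, f (g * h) = ρ g (f h) + f g) →
        (Representation.Coinvariants.mk ρ (f t) = 0 ↔ ∃ x : V, ∀ g : G, f g = ρ g x - x)) ∧
    (∀ v : V, ∃ f : G → V, (∀ g h : G, f (g * h) = ρ g (f h) + f g) ∧
        Representation.Coinvariants.mk ρ (f t) = Representation.Coinvariants.mk ρ v) := by
  classical
  have hρpow : ∀ n : ℕ, ρ (t ^ n) = (ρ t) ^ n := fun n => map_pow ρ t n
  have hgen : ∀ g : G, ∃ n : ℕ, t ^ n = g := by
    intro g
    have := ht g
    rw [← mem_powers_iff_mem_zpowers] at this
    exact (Submonoid.mem_powers_iff g t).mp this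
  obtain ⟨d, hd⟩ := hm
  have hTd : (ρ t) ^ d = 1 := by
    rw [← hρpow]
    ext v
    exact htriv (t ^ d) (by rw [← pow_mul, mul_comm, ← hd, pow_card_eq_one']) v
  have hSN : ∀ v, S (ρ t) (Nat.card G) v = 0 := by
    intro v
    rw [hd, S_mul_of_pow_eq_one (ρ t) hTd m, LinearMap.smul_apply]
    exact htors _
  have hmodN : ∀ (v : V) (a q : ℕ), S (ρ t) (a + Nat.card G * q) v = S (ρ t) a v := by
    intro v a q
    induction q with
    | zero => simp
    | succ q ih =>
      rw [Nat.mul_succ, ← add_assoc, S_add, LinearMap.add_apply, ih, Module.End.mul_apply, hSN,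
        map_zero, add_zero]
  have hmod : ∀ (v : V) (a b : ℕ), t ^ a = t ^ b → S (ρ t) a v = S (ρ t) b v := by
    intro v a b hab
    have h1 : a % Nat.card G = b % Nat.card G := by
      have := pow_eq_pow_iff_modEq.mp hab
      rwa [orderOf_eq_card_of_forall_mem_zpowers ht] at this
    rw [← Nat.mod_add_div a (Nat.card G), ← Nat.mod_add_div b (Nat.card G), hmodN, hmodN, h1]
  have hcross : ∀ f : G → V, (∀ g h, f (g * h) = ρ g (f h) + f g) →
      ∀ n : ℕ, f (t ^ n) = S (ρ t) n (f t) := by
    intro f hf n
    have hf1 : f 1 = 0 := by
      have := hf 1 1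
      simp only [mul_one, map_one, Module.End.one_apply] at this
      exact left_eq_add.mp this
    induction n with
    | zero => simp [S_zero, hf1]
    | succ n ih =>
      rw [pow_succ', hf, ih, S_succ]
      simp
  constructor
  · intro f hf
    constructor
    · intro h0
      rw [Representation.Coinvariants.mk_eq_zero] at h0
      have hle : Representation.Coinvariants.ker ρ ≤ LinearMap.range (ρ t - 1) := by
        unfold Representation.Coinvariants.ker
        rw [Submodule.span_le]
        rintro _ ⟨⟨g, v⟩, rfl⟩
        obtain ⟨n, rfl⟩ := hgen g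
        refine ⟨S (ρ t) n v, ?_⟩
        rw [← Module.End.mul_apply, sub_one_mul_S]
        simp [hρpow]
      obtain ⟨x, hx⟩ := hle h0
      refine ⟨x, fun g => ?_⟩
      obtain ⟨n, rfl⟩ := hgen g
      have hf' : ∀ g h : G, (fun g => ρ g x - x) (g * h) =
          ρ g ((fun g => ρ g x - x) h) + (fun g => ρ g x - x) g := by
        intro g h
        simp [map_mul, map_sub]
      have e1 := hcross f hf n
      have e2 : ρ (t ^ n) x - x = S (ρ t) n (ρ t x - x) := hcross (fun g => ρ g x - x) hf' n
      rw [e1, e2]
      congr 1
      rw [← hx]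
      simp
    · rintro ⟨x, hx⟩
      rw [hx t]
      exact (Representation.Coinvariants.mk_eq_zero ρ).mpr
        (Representation.Coinvariants.sub_mem_ker t x)
  · intro v
    choose e he using hgen
    refine ⟨fun g => S (ρ t) (e g) v, ?_, ?_⟩
    · intro g h
      have h1 : t ^ (e (g * h)) = t ^ (e g + e h) := by rw [he, pow_add, he, he]
      show S (ρ t) (e (g * h)) v = ρ g (S (ρ t) (e h) v) + S (ρ t) (e g) v
      rw [hmod v _ _ h1, S_add, LinearMap.add_apply, add_comm, Module.End.mul_apply, ← hρpow, he]
    · congr 1
      have h1 : t ^ (e t) = t ^ 1 := by rw [he, pow_one]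
      show S (ρ t) (e t) v = v
      rw [hmod v _ _ h1, S_one]
      simp

end Groth.Agent.S14175
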