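import Groth.Statements.S14176
import Mathlib

set_option autoImplicit false
universe u
open Pi1

namespace Groth.Agent.S14176

open W4c1etcurveeff2
open scoped commutatorElement

instance hasEnough (n : ℕ) [NeZero n] :
    HasEnoughRootsOfUnity (Multiplicative (ZMod n)) n where
  prim := ⟨Multiplicative.ofAdd 1, by
    have h := IsPrimitiveRoot.orderOf (Multiplicative.ofAdd (1 : ZMod n))
    rwa [orderOf_ofAdd_eq_addOrderOf, ZMod.addOrderOf_one] at h⟩
  cyc := by
    haveI : IsCyclic (Multiplicative (ZMod n))ˣ :=
      isCyclic_of_surjective (toUnits (G := Multiplicative (ZMod n)))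
        (toUnits (G := Multiplicative (ZMod n))).surjective
    infer_instance

theorem zmod_pow_n (n : ℕ) (a : Multiplicative (ZMod n)) : a ^ n = 1 := by
  obtain ⟨x, rfl⟩ := Multiplicative.ofAdd.surjective a
  rw [← ofAdd_nsmul, nsmul_eq_mul, ZMod.natCast_self, zero_mul, ofAdd_zero]

theorem exists_char_ne_one {Q : Type*} [CommGroup Q] [Finite Q] (n : ℕ) [NeZero n]
    (hQ : ∀ q : Q, q ^ n = 1) {q : Q} (hq : q ≠ 1) :
    ∃ φ : Q →* Multiplicative (ZMod n), φ q ≠ 1 := by
  haveI : HasEnoughRootsOfUnity (Multiplicative (ZMod n)) (Monoid.exponent Q) :=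
    HasEnoughRootsOfUnity.of_dvd _ (Monoid.exponent_dvd_of_forall_pow_eq_one hQ)
  obtain ⟨φ, hφ⟩ :=
    CommGroup.exists_apply_ne_one_of_hasEnoughRootsOfUnity Q (Multiplicative (ZMod n)) hq
  refine ⟨(toUnits (G := Multiplicative (ZMod n))).symm.toMonoidHom.comp φ, fun h => hφ ?_⟩
  have h' : (toUnits (G := Multiplicative (ZMod n))).symm (φ q) = 1 := h
  exact (MulEquiv.map_eq_one_iff _).1 h'

theorem card_hom {Q : Type*} [CommGroup Q] [Finite Q] (n : ℕ) [NeZero n]
    (hQ : ∀ q : Q, q ^ n = 1) :
    Nat.card (Q →* Multiplicative (ZMod n)) = Nat.card Q := by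
  haveI : HasEnoughRootsOfUnity (Multiplicative (ZMod n)) (Monoid.exponent Q) :=
    HasEnoughRootsOfUnity.of_dvd _ (Monoid.exponent_dvd_of_forall_pow_eq_one hQ)
  rw [← CommGroup.card_monoidHom_of_hasEnoughRootsOfUnity Q (Multiplicative (ZMod n))]
  exact Nat.card_congr
    (MulEquiv.monoidHomCongrRightEquiv (toUnits (G := Multiplicative (ZMod n))))

theorem finite_closure_of_pow {Q : Type*} [CommGroup Q] (n : ℕ) (hn : 0 < n)
    (hQ : ∀ q : Q, q ^ n = 1) (t : Set Q) (ht : t.Finite) :
    ((Subgroup.closure t : Subgroup Q) : Set Q).Finite := by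
  haveI : Group.FG (Subgroup.closure t) :=
    (Group.fg_iff_subgroup_fg _).2 ⟨ht.toFinset, by simp⟩
  haveI : Finite (Subgroup.closure t) := by
    apply CommGroup.finite_of_fg_isMulTorsion
    intro g
    rw [isOfFinOrder_iff_pow_eq_one]
    exact ⟨n, hn, Subtype.ext (by simpa using hQ g.1)⟩
  exact Set.toFinite _


open W4c1etcurveeff2 in
/-- Let G be a topological group in which some finite subset generates a dense subgroup, let n ≥ 1, and
let S be the closure of the subgroup generated by all n-th powers and all commutators. Write D for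
the group of continuous homomorphisms from G to the discrete cyclic group ℤ/n, that is,
homomorphisms with open kernel (the first cohomology of G with coefficients in the trivial module
ℤ/n), and D^∨ for its ℤ/n-dual, the group of homomorphisms D → ℤ/n. Then: S is carried onto itself
by every group automorphism of G that is a homeomorphism; an element g of G lies in S exactly when
every element of D kills g, and every element of D^∨ is evaluation at some element of G, so that
evaluation identifies G/S with D^∨; and S is the only closed normal subgroup H of G with G/H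
isomorphic to D^∨. (The published statement is for a topologically finitely generated group, calls S
characteristic and does not restrict the competing subgroups H; this row asks the automorphisms to
be homeomorphisms and H to be closed, which is what the argument uses: for the integers with the
p-adic topology times a cyclic group of prime order q ≠ p, the subgroup qℤ × ℤ/q is normal, not
closed, and has quotient isomorphic to D^∨ ≅ ℤ/q, while S = ℤ × 0.) -/
theorem result
    {G : Type u} [Group G] [TopologicalSpace G] [IsTopologicalGroup G]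
    (s : Finset G) (hs : Dense ((Subgroup.closure (s : Set G) : Subgroup G) : Set G))
    (n : ℕ) [NeZero n] (S : Subgroup G) (hS : S = powCommClosure G n) :
    (∀ φ : G ≃* G, Continuous φ → Continuous φ.symm → S.map φ.toMonoidHom = S) ∧
    (∀ g : G, g ∈ S ↔
        ∀ χ : G →* Multiplicative (ZMod n), IsOpen ((χ.ker : Subgroup G) : Set G) → χ g = 1) ∧
    (∀ F : ContChar G n →* Multiplicative (ZMod n), ∃ g : G,
        ∀ χ : ContChar G n, F χ = (χ.1 : G →* Multiplicative (ZMod n)) g) ∧
    (∀ (H : Subgroup G) [H.Normal], IsClosed (H : Set G) →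
        Nonempty (G ⧸ H ≃* (ContChar G n →* Multiplicative (ZMod n))) → H = S) := by
  classical
  open scoped commutatorElement in
  have hST : S = (Subgroup.closure (Set.range fun g : G => g ^ n) ⊔
      commutator G).topologicalClosure := hS
  have hpow : ∀ g : G, g ^ n ∈ S := fun g => by
    rw [hST]
    exact Subgroup.le_topologicalClosure _
      (Subgroup.mem_sup_left (Subgroup.subset_closure ⟨g, rfl⟩))
  have hcomm : ∀ a b : G, ⁅a, b⁆ ∈ S := fun a b => by
    rw [hST]
    exact Subgroup.le_topologicalClosure _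
      (Subgroup.mem_sup_right
        (Subgroup.commutator_mem_commutator (Subgroup.mem_top a) (Subgroup.mem_top b)))
  have hmin : ∀ K : Subgroup G, (∀ g : G, g ^ n ∈ K) → (∀ a b : G, ⁅a, b⁆ ∈ K) →
      IsClosed (K : Set G) → S ≤ K := by
    intro K h1 h2 h3
    rw [hST]
    refine Subgroup.topologicalClosure_minimal _ (sup_le ?_ ?_) h3
    · rw [Subgroup.closure_le]
      rintro _ ⟨g, rfl⟩
      exact h1 g
    · rw [commutator_def, Subgroup.commutator_le]
      intro a _ b _
      exact h2 a b
  have hS_closed : IsClosed (S : Set G) := by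
    rw [hST]; exact Subgroup.isClosed_topologicalClosure _
  clear hST hS
  haveI hnorm : S.Normal := ⟨fun h hh g => by
    have e : g * h * g⁻¹ = ⁅g, h⁆ * h := by rw [commutatorElement_def]; group
    rw [e]; exact S.mul_mem (hcomm g h) hh⟩
  have hπsurj : Function.Surjective (QuotientGroup.mk' S) := QuotientGroup.mk'_surjective S
  haveI hQcomm : IsMulCommutative (G ⧸ S) := IsMulCommutative.of_comm fun a b => by
    obtain ⟨x, rfl⟩ := hπsurj a
    obtain ⟨y, rfl⟩ := hπsurj b
    rw [← map_mul, ← map_mul]
    exact (QuotientGroup.mk'_eq_mk' S).2 ⟨⁅y⁻¹, x⁻¹⁆, hcomm _ _, by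
      rw [commutatorElement_def]; group⟩
  have hQpow : ∀ q : G ⧸ S, q ^ n = 1 := fun q => by
    obtain ⟨x, rfl⟩ := hπsurj q
    rw [← map_pow]
    exact (QuotientGroup.eq_one_iff _).2 (hpow x)
  have hfinΓ' : ((Subgroup.closure ((QuotientGroup.mk' S) '' (s : Set G)) :
      Subgroup (G ⧸ S)) : Set (G ⧸ S)).Finite := by
    open scoped IsMulCommutative in
    exact finite_closure_of_pow n (NeZero.pos n) hQpow _ ((s.finite_toSet).image _)
  have hK : ∀ g : G, QuotientGroup.mk' S g ∈
      Subgroup.closure ((QuotientGroup.mk' S) '' (s : Set G)) := by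
    have hKclosed : IsClosed {g : G | QuotientGroup.mk' S g ∈
        Subgroup.closure ((QuotientGroup.mk' S) '' (s : Set G))} := by
      have e : {g : G | QuotientGroup.mk' S g ∈
          Subgroup.closure ((QuotientGroup.mk' S) '' (s : Set G))} =
          ⋃ q ∈ ((Subgroup.closure ((QuotientGroup.mk' S) '' (s : Set G)) :
            Subgroup (G ⧸ S)) : Set (G ⧸ S)), (QuotientGroup.mk' S) ⁻¹' {q} := by
        ext g; simp
      rw [e]
      refine hfinΓ'.isClosed_biUnion fun q _ => ?_
      obtain ⟨x, rfl⟩ := hπsurj q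
      have e2 : (QuotientGroup.mk' S) ⁻¹' {QuotientGroup.mk' S x} =
          (fun y => x⁻¹ * y) ⁻¹' (S : Set G) := by
        ext y
        simp only [Set.mem_preimage, Set.mem_singleton_iff, SetLike.mem_coe]
        exact ⟨fun h => QuotientGroup.eq.1 h.symm, fun h => (QuotientGroup.eq.2 h).symm⟩
      rw [e2]
      exact hS_closed.preimage (continuous_mul_left x⁻¹)
    have hsub : ((Subgroup.closure (s : Set G) : Subgroup G) : Set G) ⊆
        {g : G | QuotientGroup.mk' S g ∈
          Subgroup.closure ((QuotientGroup.mk' S) '' (s : Set G))} := by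
      intro g hg
      have h1 : QuotientGroup.mk' S g ∈ (Subgroup.closure (s : Set G)).map (QuotientGroup.mk' S) :=
        Subgroup.mem_map_of_mem _ hg
      rwa [MonoidHom.map_closure] at h1
    intro g
    exact (hKclosed.closure_subset_iff.2 hsub) (hs g)
  haveI hQfin : Finite (G ⧸ S) := by
    have h1 : (Set.univ : Set (G ⧸ S)).Finite := hfinΓ'.subset (fun q _ => by
      obtain ⟨x, rfl⟩ := hπsurj q; exact hK x)
    exact Set.finite_univ_iff.1 h1
  haveI : S.FiniteIndex := Subgroup.finiteIndex_of_finite_quotient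
  have hS_open : IsOpen (S : Set G) := S.isOpen_of_isClosed_of_finiteIndex hS_closed
  have hker : ∀ χ : G →* Multiplicative (ZMod n),
      IsOpen ((χ.ker : Subgroup G) : Set G) → S ≤ χ.ker := by
    intro χ hχ
    refine hmin χ.ker (fun g => ?_) (fun a b => ?_) (Subgroup.isClosed_of_isOpen _ hχ)
    · rw [MonoidHom.mem_ker, map_pow]; exact zmod_pow_n n _
    · rw [MonoidHom.mem_ker, map_commutatorElement]
      exact commutatorElement_eq_one_iff_mul_comm.2 (mul_comm _ _)
  have hsep : ∀ g : G, g ∉ S → ∃ χ : G →* Multiplicative (ZMod n),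
      IsOpen ((χ.ker : Subgroup G) : Set G) ∧ χ g ≠ 1 := by
    intro g hg
    have hq : QuotientGroup.mk' S g ≠ 1 := fun h => hg ((QuotientGroup.eq_one_iff g).1 h)
    obtain ⟨φ, hφ⟩ : ∃ φ : (G ⧸ S) →* Multiplicative (ZMod n), φ (QuotientGroup.mk' S g) ≠ 1 := by
      open scoped IsMulCommutative in
      exact exists_char_ne_one n hQpow hq
    refine ⟨φ.comp (QuotientGroup.mk' S), ?_, hφ⟩
    refine Subgroup.isOpen_mono (H₁ := S) ?_ hS_open
    intro x hx
    have h1 : QuotientGroup.mk' S x = 1 := (QuotientGroup.eq_one_iff x).2 hx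
    rw [MonoidHom.mem_ker, MonoidHom.comp_apply, h1, map_one]
  have h2 : ∀ g : G, g ∈ S ↔ ∀ χ : G →* Multiplicative (ZMod n),
      IsOpen ((χ.ker : Subgroup G) : Set G) → χ g = 1 := by
    intro g
    constructor
    · intro hg χ hχ; exact MonoidHom.mem_ker.1 (hker χ hχ hg)
    · intro h; by_contra hg
      obtain ⟨χ, hχ, hne⟩ := hsep g hg
      exact hne (h χ hχ)
  have hDopen : ∀ χ : ContChar G n,
      IsOpen (((χ.1 : G →* Multiplicative (ZMod n)).ker : Subgroup G) : Set G) := fun χ => χ.2
  have hDpow : ∀ χ : ContChar G n, χ ^ n = 1 := by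
    intro χ
    apply Subtype.ext
    apply MonoidHom.ext
    intro g
    rw [Subgroup.coe_pow, MonoidHom.pow_apply, Subgroup.coe_one, MonoidHom.one_apply]
    exact zmod_pow_n n _
  let L : ContChar G n → (G ⧸ S →* Multiplicative (ZMod n)) := fun χ =>
    QuotientGroup.lift S χ.1 (hker χ.1 (hDopen χ))
  have hL : Function.Injective L := by
    intro χ ψ h
    apply Subtype.ext
    apply MonoidHom.ext
    intro g
    have h1 := DFunLike.congr_fun h (QuotientGroup.mk' S g)
    exact h1
  have hcardQ : Nat.card (G ⧸ S →* Multiplicative (ZMod n)) = Nat.card (G ⧸ S) := by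
    open scoped IsMulCommutative in
    exact card_hom n hQpow
  haveI : Finite (G ⧸ S →* Multiplicative (ZMod n)) :=
    Nat.finite_of_card_ne_zero (by rw [hcardQ]; exact Nat.card_pos.ne')
  haveI hDfin : Finite (ContChar G n) := Finite.of_injective L hL
  have hcardD_le : Nat.card (ContChar G n) ≤ Nat.card (G ⧸ S) :=
    hcardQ ▸ Nat.card_le_card_of_injective L hL
  have hcardDD : Nat.card (ContChar G n →* Multiplicative (ZMod n)) = Nat.card (ContChar G n) :=
    card_hom n hDpow
  haveI : Finite (ContChar G n →* Multiplicative (ZMod n)) :=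
    Nat.finite_of_card_ne_zero (by rw [hcardDD]; exact Nat.card_pos.ne')
  let ev : G →* (ContChar G n →* Multiplicative (ZMod n)) :=
    { toFun := fun g =>
        { toFun := fun χ => (χ.1 : G →* Multiplicative (ZMod n)) g
          map_one' := rfl
          map_mul' := fun _ _ => rfl }
      map_one' := by ext χ; exact map_one (χ.1 : G →* Multiplicative (ZMod n))
      map_mul' := fun a b => by ext χ; exact map_mul (χ.1 : G →* Multiplicative (ZMod n)) a b }
  have hevker : S ≤ ev.ker := fun g hg => by
    rw [MonoidHom.mem_ker]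
    ext χ
    exact (h2 g).1 hg χ.1 (hDopen χ)
  let evq : G ⧸ S →* (ContChar G n →* Multiplicative (ZMod n)) := QuotientGroup.lift S ev hevker
  have hevq_inj : Function.Injective evq := by
    rw [injective_iff_map_eq_one]
    intro q hq
    obtain ⟨g, rfl⟩ := hπsurj q
    refine (QuotientGroup.eq_one_iff g).2 ((h2 g).2 fun χ hχ => ?_)
    have h1 := DFunLike.congr_fun hq (⟨χ, hχ⟩ : ContChar G n)
    exact h1
  have hevq_bij : Function.Bijective evq :=
    hevq_inj.bijective_of_nat_card_le (by rw [hcardDD]; exact hcardD_le)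
  have hcard_eq : Nat.card (ContChar G n →* Multiplicative (ZMod n)) = Nat.card (G ⧸ S) :=
    (Nat.card_eq_of_bijective evq hevq_bij).symm
  have h3 : ∀ F : ContChar G n →* Multiplicative (ZMod n), ∃ g : G,
      ∀ χ : ContChar G n, F χ = (χ.1 : G →* Multiplicative (ZMod n)) g := by
    intro F
    obtain ⟨q, hq⟩ := hevq_bij.2 F
    obtain ⟨g, rfl⟩ := hπsurj q
    refine ⟨g, fun χ => ?_⟩
    rw [← hq]; rfl
  have h4 : ∀ (H : Subgroup G) [H.Normal], IsClosed (H : Set G) →
      Nonempty (G ⧸ H ≃* (ContChar G n →* Multiplicative (ZMod n))) → H = S := by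
    intro H _ hHc ⟨e⟩
    have hFpow : ∀ F : ContChar G n →* Multiplicative (ZMod n), F ^ n = 1 := fun F => by
      ext χ; rw [MonoidHom.pow_apply, MonoidHom.one_apply]; exact zmod_pow_n n _
    have hSH : S ≤ H := by
      refine hmin H (fun g => ?_) (fun a b => ?_) hHc
      · rw [← QuotientGroup.eq_one_iff (N := H)]
        apply e.injective
        rw [QuotientGroup.mk_pow, map_pow, map_one]; exact hFpow _
      · rw [← QuotientGroup.eq_one_iff (N := H)]
        apply e.injective
        have e1 : ((⁅a, b⁆ : G) : G ⧸ H) = ⁅(a : G ⧸ H), (b : G ⧸ H)⁆ :=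
          map_commutatorElement (QuotientGroup.mk' H) a b
        rw [e1, map_commutatorElement, map_one]
        exact commutatorElement_eq_one_iff_mul_comm.2 (mul_comm _ _)
    have hidx : H.index = S.index := by
      rw [Subgroup.index_eq_card, Subgroup.index_eq_card, Nat.card_congr e.toEquiv, hcard_eq]
    have hne : H.index ≠ 0 := by rw [hidx]; exact Subgroup.index_ne_zero_of_finite
    have h1 : S.relIndex H = 1 := by
      have h5 := Subgroup.relIndex_mul_index hSH
      rw [← hidx] at h5
      exact Nat.eq_of_mul_eq_mul_right (Nat.pos_of_ne_zero hne) (by rw [h5, one_mul])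
    exact le_antisymm (Subgroup.relIndex_eq_one.1 h1) hSH
  have h1 : ∀ φ : G ≃* G, Continuous φ → Continuous φ.symm → S.map φ.toMonoidHom = S := by
    have hle : ∀ φ : G ≃* G, Continuous φ → S.map φ.toMonoidHom ≤ S := by
      intro φ hφ
      rw [Subgroup.map_le_iff_le_comap]
      refine hmin _ (fun g => ?_) (fun a b => ?_) ?_
      · rw [Subgroup.mem_comap, map_pow]; exact hpow _
      · rw [Subgroup.mem_comap, map_commutatorElement]; exact hcomm _ _
      · exact hS_closed.preimage hφ
    intro φ hφ hφ'
    refine le_antisymm (hle φ hφ) ?_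
    have h5 := hle φ.symm hφ'
    intro x hx
    refine Subgroup.mem_map.2 ⟨φ.symm x, h5 (Subgroup.mem_map.2 ⟨x, hx, rfl⟩), ?_⟩
    simp
  exact ⟨h1, h2, h3, h4⟩

end Groth.Agent.S14176
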