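import Groth.Statements.S14184
-- import your own Groth.Agent.* helpers here
import Groth.Agent.Lib.Helper25.CurveInst
import Groth.Agent.Lib.Helper25.LocSymUniq

set_option autoImplicit false
universe u
open CategoryTheory AlgebraicGeometry
open LocSym

namespace Groth.Agent.S14184

/-- Let k be an algebraically closed field and X a smooth proper integral curve over k (structure
morphism c, dimension one); points are k-points and ord_x is the valuation at x. Let n ≥ 1, let Z be
a finite set of points, let f₁, f₂ be nonzero rational functions and D₁, D₁′, D₂ divisors (finitely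
supported integer-valued functions on points) with n·D₁ = div(f₁) + D₁′, D₁′ supported on Z, n·D₂ =
div(f₂), f₂ taking the value 1 at every point of Z, and div(f₁) and D₂ with disjoint supports. Let
v₁(x) ∈ kˣ be the value of f₁ at each point of the support of D₂ and v₂(x) ∈ kˣ the value of f₂ at
each point of the support of D₁. Then the quotient of ∏_x v₁(x)^{D₂(x)} by ∏_x v₂(x)^{D₁(x)} is an
n-th root of unity: its n-th power is 1. (This quotient f₁(D₂)/f₂(D₁) is the generalised Weil
pairing of the classes of (D₁, D₁′, f₁) and D₂; the published statement also normalises f₁, f₂ at a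
base point, which is not needed for this assertion.) -/
theorem result
    (k : Type u) [Field k] [IsAlgClosed k] (X : Scheme.{u}) [IsIntegral X]
    (c : X ⟶ Spec (CommRingCat.of k)) [IsProper c] [Smooth c] (hdim : topologicalKrullDim X = 1)
    (n : ℕ) (hn : 1 ≤ n) (Z : Finset (LocSym.Pt c))
    (f₁ f₂ : X.functionField) (hf₁ : f₁ ≠ 0) (hf₂ : f₂ ≠ 0)
    (D₁ D₁' D₂ : LocSym.Pt c →₀ ℤ)
    (hD₁ : ∀ x : LocSym.Pt c, (n : ℤ) * D₁ x = x.ord f₁ + D₁' x) (hD₁' : D₁'.support ⊆ Z)
    (hD₂ : ∀ x : LocSym.Pt c, (n : ℤ) * D₂ x = x.ord f₂)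
    (hf₂Z : ∀ x ∈ Z, LocSym.HasValueAt x f₂ 1)
    (hdisj : ∀ x : LocSym.Pt c, x.ord f₁ = 0 ∨ D₂ x = 0)
    (v₁ v₂ : LocSym.Pt c → kˣ)
    (hv₁ : ∀ x ∈ D₂.support, LocSym.HasValueAt x f₁ (v₁ x : k))
    (hv₂ : ∀ x ∈ D₁.support, LocSym.HasValueAt x f₂ (v₂ x : k)) :
    ((D₂.prod fun x e => v₁ x ^ e) / (D₁.prod fun x e => v₂ x ^ e)) ^ n = 1 := by
  classical
  have hsep : X.IsSeparated := Groth.Agent.Helper25.LocSymUniq.isSeparated_of_toSpec c
  have hdvr : ∀ y : LocSym.Pt c, IsDiscreteValuationRing (X.presheaf.stalk y.pt) := fun y =>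
    Groth.Agent.Helper25.LocSymUniq.isDVR_stalk_of_smooth c hdim y.pt
      (Groth.Agent.Helper25.LocSymUniq.isClosed_pt c y)
  have hone : ∀ x ∈ Z, LocSym.HasValueAt x f₂ (((1 : kˣ) : kˣ) : k) := fun x hx => by
    rw [Units.val_one]; exact hf₂Z x hx
  have hex1 : ∀ x : LocSym.Pt c, ∃ a : kˣ, (x.ord f₁ = 0 → LocSym.HasValueAt x f₁ (a : k)) ∧
      (x ∈ D₂.support → a = v₁ x) := by
    intro x
    by_cases hx : x ∈ D₂.support
    · exact ⟨v₁ x, fun _ => hv₁ x hx, fun _ => rfl⟩
    · by_cases h0 : x.ord f₁ = 0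
      · obtain ⟨a, ha⟩ := Groth.Agent.Helper25.LocSymVal.exists_value hdvr x hf₁ h0
        exact ⟨a, fun _ => ha, fun h => absurd h hx⟩
      · exact ⟨1, fun h => absurd h h0, fun h => absurd h hx⟩
  choose w₁ hw₁a hw₁b using hex1
  have hex2 : ∀ x : LocSym.Pt c, ∃ a : kˣ, (x.ord f₂ = 0 → LocSym.HasValueAt x f₂ (a : k)) ∧
      (x ∈ Z → a = 1) ∧ (x ∉ Z → x ∈ D₁.support → a = v₂ x) := by
    intro x
    by_cases hxZ : x ∈ Z
    · exact ⟨1, fun _ => hone x hxZ, fun _ => rfl, fun h => absurd hxZ h⟩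
    · by_cases hx : x ∈ D₁.support
      · exact ⟨v₂ x, fun _ => hv₂ x hx, fun h => absurd h hxZ, fun _ _ => rfl⟩
      · by_cases h0 : x.ord f₂ = 0
        · obtain ⟨a, ha⟩ := Groth.Agent.Helper25.LocSymVal.exists_value hdvr x hf₂ h0
          exact ⟨a, fun _ => ha, fun h => absurd h hxZ, fun _ h => absurd h hx⟩
        · exact ⟨1, fun h => absurd h h0, fun h => absurd h hxZ, fun _ h => absurd h hx⟩
  choose w₂ hw₂a hw₂Z hw₂b using hex2
  have hdisj' : ∀ x : LocSym.Pt c, x.ord f₁ = 0 ∨ x.ord f₂ = 0 := fun x => by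
    rcases hdisj x with h | h
    · exact Or.inl h
    · right; rw [← hD₂ x, h, mul_zero]
  have hW := Groth.Agent.Helper25.CurveInst.weil c hdim hdvr f₁ f₂ hf₁ hf₂ hdisj' w₁ w₂ hw₁a hw₂a
  have hL : ∏ᶠ x : LocSym.Pt c, w₁ x ^ x.ord f₂ = (D₂.prod fun x e => v₁ x ^ e) ^ n := by
    rw [finprod_eq_prod_of_mulSupport_subset (s := D₂.support)]
    · unfold Finsupp.prod
      rw [← Finset.prod_pow]
      refine Finset.prod_congr rfl fun x hx => ?_
      rw [hw₁b x hx, ← hD₂ x, mul_comm, zpow_mul, zpow_natCast]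
    · intro x hx
      rw [Function.mem_mulSupport] at hx
      rw [Finset.mem_coe, Finsupp.mem_support_iff]
      intro h0
      apply hx
      rw [← hD₂ x, h0, mul_zero, zpow_zero]
  have hR : ∏ᶠ x : LocSym.Pt c, w₂ x ^ x.ord f₁ = (D₁.prod fun x e => v₂ x ^ e) ^ n := by
    rw [finprod_eq_prod_of_mulSupport_subset (s := D₁.support)]
    · unfold Finsupp.prod
      rw [← Finset.prod_pow]
      refine Finset.prod_congr rfl fun x hx => ?_
      show w₂ x ^ x.ord f₁ = (v₂ x ^ D₁ x) ^ n
      by_cases hxZ : x ∈ Z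
      · have h1 : w₂ x = 1 := hw₂Z x hxZ
        have h2 : v₂ x = 1 := Units.ext
          (Groth.Agent.Helper25.LocSymVal.hasValueAt_unique hdvr x (hv₂ x hx) (hone x hxZ))
        rw [h1, h2, one_zpow, one_zpow, one_pow]
      · have h0 : D₁' x = 0 := by
          by_contra h
          exact hxZ (hD₁' (Finsupp.mem_support_iff.mpr h))
        have hord : x.ord f₁ = (n : ℤ) * D₁ x := by
          have := hD₁ x
          rw [h0, add_zero] at this
          exact this.symm
        rw [hw₂b x hxZ hx, hord, mul_comm, zpow_mul, zpow_natCast]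
    · intro x hx
      rw [Function.mem_mulSupport] at hx
      rw [Finset.mem_coe, Finsupp.mem_support_iff]
      intro h0
      apply hx
      by_cases hxZ : x ∈ Z
      · rw [hw₂Z x hxZ, one_zpow]
      · have h1 : D₁' x = 0 := by
          by_contra h
          exact hxZ (hD₁' (Finsupp.mem_support_iff.mpr h))
        have hord : x.ord f₁ = 0 := by
          have := hD₁ x
          rw [h0, h1, mul_zero, add_zero] at this
          exact this.symm
        rw [hord, zpow_zero]
  rw [hL, hR] at hW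
  rw [div_pow, hW, div_self']

end Groth.Agent.S14184
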