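import Groth.Statements.S14188
import Mathlib
open TopologicalSpace

set_option autoImplicit false
universe u
open CategoryTheory CategoryTheory.Limits AlgebraicGeometry
open FlatMor

namespace Groth.Agent.S14188

/-- Let T be an integral scheme with generic point η, let Y and Z be schemes flat over T with Z
separated over T, and let ψ : Y_η → Z be a T-morphism from the generic fibre Y_η = Y ×_T Spec
O_{T,η} (equivalently, an η-morphism Y_η → Z_η). Let gr : Y_η → Y ×_T Z be the graph of ψ, the
morphism whose components are the projection Y_η → Y and ψ, and let Γ ⊆ Y ×_T Z be the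
scheme-theoretic image of gr (the schematic closure of the graph). Then ψ extends to a T-morphism φ
: Y → Z, meaning that the composite Y_η → Y → Z is ψ, if and only if the composite of the inclusion
Γ → Y ×_T Z with the first projection is an isomorphism Γ ≅ Y. -/
theorem result (T Y Z : Scheme.{u}) [IsIntegral T]
    (pY : Y ⟶ T) (pZ : Z ⟶ T) [Flat pY] [Flat pZ] [IsSeparated pZ]
    (ψ : pullback pY (T.fromSpecStalk (genericPoint T)) ⟶ Z)
    (hψ : ψ ≫ pZ = pullback.fst pY (T.fromSpecStalk (genericPoint T)) ≫ pY)
    (gr : pullback pY (T.fromSpecStalk (genericPoint T)) ⟶ pullback pY pZ)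
    (hgr₁ : gr ≫ pullback.fst pY pZ = pullback.fst pY (T.fromSpecStalk (genericPoint T)))
    (hgr₂ : gr ≫ pullback.snd pY pZ = ψ) :
    (∃ φ : Y ⟶ Z, φ ≫ pZ = pY ∧ pullback.fst pY (T.fromSpecStalk (genericPoint T)) ≫ φ = ψ) ↔
      IsIso (gr.imageι ≫ pullback.fst pY pZ) := by
  classical
  constructor
  · rintro ⟨φ, hφ1, hφ2⟩
    -- the generic point morphism is scheme-theoretically dominant and quasi-compact
    have hF : IsField ↑(T.presheaf.stalk (genericPoint T)) :=
      isField_stalk_of_closure_mem_irreducibleComponents T _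
        (by simp [irreducibleComponents_eq_singleton])
    haveI : IsNoetherianRing ↑(T.presheaf.stalk (genericPoint T)) := by
      letI := hF.toField
      exact (inferInstance : IsNoetherianRing ↑(T.presheaf.stalk (genericPoint T)))
    haveI : NoetherianSpace ↥(Spec (T.presheaf.stalk (genericPoint T))) := inferInstance
    obtain ⟨e, he⟩ : ∃ e, e = pullback.fst pY (T.fromSpecStalk (genericPoint T)) := ⟨_, rfl⟩
    rw [← he] at hgr₁ hφ2
    haveI : QuasiCompact (T.fromSpecStalk (genericPoint T)) := quasiCompact_of_noetherianSpace_source _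
    haveI : IsDominant (T.fromSpecStalk (genericPoint T)) := by
      rw [isDominant_iff, DenseRange, dense_iff_closure_eq]
      have h1 : closure ({(genericPoint T)} : Set T) = Set.univ := (genericPoint_spec T).def
      have h2 : ({(genericPoint T)} : Set T) ⊆ Set.range (T.fromSpecStalk (genericPoint T)) := by
        rintro _ rfl
        exact ⟨IsLocalRing.closedPoint _, Scheme.fromSpecStalk_closedPoint⟩
      exact Set.eq_univ_of_univ_subset (h1 ▸ closure_mono h2)
    haveI : IsSchemeTheoreticallyDominant (T.fromSpecStalk (genericPoint T)) :=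
      IsSchemeTheoreticallyDominant.of_isDominant _
    haveI : IsSchemeTheoreticallyDominant e := by rw [he]; infer_instance
    let γ : Y ⟶ pullback pY pZ := pullback.lift (𝟙 Y) φ (by rw [Category.id_comp, hφ1])
    have hγ1 : γ ≫ pullback.fst pY pZ = 𝟙 Y := pullback.lift_fst _ _ _
    have hγ2 : γ ≫ pullback.snd pY pZ = φ := pullback.lift_snd _ _ _
    haveI : IsClosedImmersion γ := by
      haveI : IsClosedImmersion (γ ≫ pullback.fst pY pZ) := by rw [hγ1]; infer_instance
      exact IsClosedImmersion.of_comp γ (pullback.fst pY pZ)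
    have hgr : gr = e ≫ γ := by
      apply pullback.hom_ext
      · rw [hgr₁, Category.assoc, hγ1, Category.comp_id]
      · rw [hgr₂, Category.assoc, hγ2, hφ2]
    have hker : gr.ker = γ.ker := by
      rw [hgr, Scheme.Hom.ker_comp, e.ker_eq_bot, Scheme.IdealSheafData.map_bot]
    have hker' : gr.imageι.ker = γ.ker := by
      rw [← hker]
      exact Scheme.IdealSheafData.ker_subschemeι _
    let σ : Y ⟶ gr.image := IsClosedImmersion.lift gr.imageι γ hker'.le
    have hσ : σ ≫ gr.imageι = γ := IsClosedImmersion.lift_fac _ _ _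
    haveI : IsIso σ := IsClosedImmersion.isIso_of_ker_eq γ gr.imageι σ hσ hker'.symm
    have : gr.imageι ≫ pullback.fst pY pZ = inv σ := by
      rw [← cancel_epi σ, reassoc_of% hσ, hγ1, IsIso.hom_inv_id]
    rw [this]
    infer_instance
  · intro hiso
    refine ⟨inv (gr.imageι ≫ pullback.fst pY pZ) ≫ gr.imageι ≫ pullback.snd pY pZ, ?_, ?_⟩
    · rw [Category.assoc, Category.assoc, ← pullback.condition, ← Category.assoc gr.imageι,
        IsIso.inv_hom_id_assoc]
    · have h1 : pullback.fst pY (T.fromSpecStalk (genericPoint T)) =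
          gr.toImage ≫ (gr.imageι ≫ pullback.fst pY pZ) := by
        rw [Scheme.Hom.toImage_imageι_assoc, hgr₁]
      rw [h1, Category.assoc, IsIso.hom_inv_id_assoc, Scheme.Hom.toImage_imageι_assoc, hgr₂]

end Groth.Agent.S14188
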