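import Groth.Statements.S1419
import Groth.Agent.Lib.Helper15.Wt13

set_option autoImplicit false
universe u
open FlatMor

namespace Groth.Agent.S1419

open AlgebraicGeometry CategoryTheory Limits in
/-- Let f be locally quasi-finite with a weighting w, and let f' : X' → Y' be a base change of f with
projection h : X' → X. Then w ∘ h is a weighting of f'. -/
theorem result {X Y : Scheme.{u}} (f : X ⟶ Y) [LocallyQuasiFinite f] [LocallyOfFiniteType f] (w : ↑X → ℤ) (hw : MoreMor.IsWeighting f w)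
    {X' Y' : Scheme.{u}} (f' : X' ⟶ Y') (h : X' ⟶ X) (g : Y' ⟶ Y) (hc : IsPullback h f' f g) :
    MoreMor.IsWeighting f' (w ∘ ⇑h) := by
  refine Groth.Agent.Helper15.Wt.IsWeighting.of_cover
    (fun O : X.affineOpens => h ⁻¹ᵁ O.1) (fun x' => ?_) (fun O => ?_)
  · obtain ⟨_, ⟨(O : X.Opens), hO, rfl⟩, hx, -⟩ := X.isBasis_affineOpens.exists_subset_of_mem_open
      (Set.mem_univ (h x')) isOpen_univ
    exact ⟨⟨O, hO⟩, hx⟩
  · haveI : IsAffine (O.1 : Scheme.{u}) := O.2
    have hw₀ := Groth.Agent.Helper15.Wt.IsWeighting.restrict hw O.1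
    have sq' : IsPullback (h ∣_ O.1) ((h ⁻¹ᵁ O.1).ι ≫ f') (O.1.ι ≫ f) g :=
      (isPullback_morphismRestrict h O.1).paste_vert hc
    have key := Groth.Agent.Helper15.Wt.baseChange_sep (O.1.ι ≫ f) _ hw₀
      ((h ⁻¹ᵁ O.1).ι ≫ f') (h ∣_ O.1) g sq'
    convert key using 1
    funext a
    change w (h ((h ⁻¹ᵁ O.1).ι a)) = w (O.1.ι ((h ∣_ O.1) a))
    rw [← Scheme.Hom.comp_apply, ← Scheme.Hom.comp_apply, morphismRestrict_ι]

end Groth.Agent.S1419
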