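import Groth.Statements.S1420
import Groth.Agent.Lib.Helper15.Wt14
import Groth.Agent.S1419

set_option autoImplicit false
universe u
open FlatMor

namespace Groth.Agent.S1420

open AlgebraicGeometry CategoryTheory Limits in
/-- A locally quasi-finite morphism with a weighting taking only positive values is universally open. -/
theorem result {X Y : Scheme.{u}} (f : X ⟶ Y) [LocallyQuasiFinite f] [LocallyOfFiniteType f] (w : ↑X → ℤ) (hw : MoreMor.IsWeighting f w) (hpos : ∀ x, 0 < w x) :
    UniversallyOpen f := by
  refine ⟨fun X' Y' i₁ i₂ f' sq => ?_⟩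
  haveI : LocallyQuasiFinite f' :=
    MorphismProperty.of_isPullback (P := @LocallyQuasiFinite) sq.flip inferInstance
  haveI : LocallyOfFiniteType f' :=
    MorphismProperty.of_isPullback (P := @LocallyOfFiniteType) sq.flip inferInstance
  have hw' : MoreMor.IsWeighting f' (w ∘ ⇑i₁) :=
    Groth.Agent.S1419.result f w hw f' i₁ i₂ sq.flip
  exact Groth.Agent.Helper15.Wt.isOpenMap_of_pos f' _ hw' (fun x => hpos _)

end Groth.Agent.S1420
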