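import Groth.Statements.S14205
import Groth.Agent.Lib.Helper20.PerInd3

set_option autoImplicit false
universe u v
open scoped TensorProduct
open Brauer

namespace Groth.Agent.S14205

open Groth.Agent.Helper20.PerInd Groth.Agent.Helper20.PCoc in

theorem result (k : Type u) [Field k] (A : Type v) [Ring A] [Algebra k A]
    [Algebra.IsCentral k A] [IsSimpleRing A] [FiniteDimensional k A] (p : ℕ)
    (hp : CSAGal.IsPeriod k A p) (r : ℕ) (hr : 0 < r) :
    CSAGal.IsPeriod k (CSAGal.tpow k A r) (p / Nat.gcd p r) := by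
  obtain ⟨K, _, _, hfin, hgal, hs⟩ := Groth.Agent.S0201.result k A
  obtain ⟨n, c, hn, hdim, ⟨D⟩⟩ := exists_datum_of_splits hs
  obtain ⟨hp0, hord⟩ := (isPeriod_iff D hn hdim p).mp hp
  obtain ⟨h1, h2, h3, h4⟩ := tpow_csa k A r hr
  obtain ⟨De⟩ := D.pow r hr
  have hdim' : Module.finrank k (CSAGal.tpow k A r) = (n ^ r) ^ 2 := by
    rw [h4, hdim, ← pow_mul, ← pow_mul, mul_comm]
  rw [isPeriod_iff De (pow_ne_zero _ hn) hdim']
  have hg : 0 < Nat.gcd p r := Nat.gcd_pos_of_pos_left _ hp0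
  refine ⟨Nat.div_pos (Nat.le_of_dvd hp0 (Nat.gcd_dvd_left p r)) hg, ?_⟩
  have hc : cls (c ^ r) = (cls c) ^ r := rfl
  rw [hc, orderOf_pow' _ (Nat.pos_iff_ne_zero.mp hr), hord]

end Groth.Agent.S14205
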