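import Groth.Statements.S1422
import Groth.Agent.Lib.Helper15.Wt17

set_option autoImplicit false
universe u
open FlatMor

namespace Groth.Agent.S1422

open AlgebraicGeometry CategoryTheory Limits in
/-- Let f : X → Y and g : Y → Z be locally quasi-finite with weightings w_f and w_g. Then x ↦ w_f(x) ·
w_g(f x) is a weighting of f ≫ g. -/
theorem result {X Y Z : Scheme.{u}} (f : X ⟶ Y) (g : Y ⟶ Z) [LocallyQuasiFinite f] [LocallyOfFiniteType f] [LocallyQuasiFinite g] [LocallyOfFiniteType g]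
    (wf : ↑X → ℤ) (wg : ↑Y → ℤ) (hf : MoreMor.IsWeighting f wf) (hg : MoreMor.IsWeighting g wg) :
    MoreMor.IsWeighting (f ≫ g) (fun x => wf x * wg (f x)) := by
  classical
  refine Groth.Agent.Helper15.Wt.IsWeighting.of_cover
    (fun i : {p : X.affineOpens × Y.affineOpens // p.1.1 ≤ f ⁻¹ᵁ p.2.1} => i.1.1.1)
    (fun x => ?_) (fun i => ?_)
  · obtain ⟨_, ⟨(Y₀ : Y.Opens), hY₀, rfl⟩, hyY₀, -⟩ :=
      Y.isBasis_affineOpens.exists_subset_of_mem_open (Set.mem_univ (f x)) isOpen_univ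
    obtain ⟨_, ⟨(X₀ : X.Opens), hX₀, rfl⟩, hxX₀, hle⟩ :=
      X.isBasis_affineOpens.exists_subset_of_mem_open
        (show x ∈ ((f ⁻¹ᵁ Y₀ : X.Opens) : Set X) from hyY₀) (f ⁻¹ᵁ Y₀).2
    exact ⟨⟨(⟨X₀, hX₀⟩, ⟨Y₀, hY₀⟩), hle⟩, hxX₀⟩
  · obtain ⟨⟨⟨X₀, hX₀⟩, ⟨Y₀, hY₀⟩⟩, hle⟩ := i
    haveI : IsAffine (X₀ : Scheme.{u}) := hX₀
    haveI : IsAffine (Y₀ : Scheme.{u}) := hY₀
    have hrange : Set.range (X₀.ι ≫ f) ⊆ Set.range Y₀.ι := by
      rintro _ ⟨a, rfl⟩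
      rw [Scheme.Opens.range_ι]
      exact hle a.2
    let f₀ : (X₀ : Scheme.{u}) ⟶ (Y₀ : Scheme.{u}) := IsOpenImmersion.lift Y₀.ι (X₀.ι ≫ f) hrange
    have hf₀ : f₀ ≫ Y₀.ι = X₀.ι ≫ f := IsOpenImmersion.lift_fac _ _ _
    haveI : LocallyQuasiFinite (f₀ ≫ Y₀.ι) := by rw [hf₀]; infer_instance
    haveI : LocallyOfFiniteType (f₀ ≫ Y₀.ι) := by rw [hf₀]; infer_instance
    haveI : LocallyQuasiFinite f₀ := LocallyQuasiFinite.of_comp f₀ Y₀.ι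
    haveI : LocallyOfFiniteType f₀ := locallyOfFiniteType_of_comp f₀ Y₀.ι
    have hwf₀ : MoreMor.IsWeighting f₀ (fun a => wf (X₀.ι a)) := by
      refine Groth.Agent.Helper15.Wt.IsWeighting.of_comp_mono Y₀.ι ?_
      rw [hf₀]
      exact Groth.Agent.Helper15.Wt.IsWeighting.restrict hf X₀
    have hwg₀ : MoreMor.IsWeighting (Y₀.ι ≫ g) (fun b => wg (Y₀.ι b)) :=
      Groth.Agent.Helper15.Wt.IsWeighting.restrict hg Y₀
    have key := Groth.Agent.Helper15.Wt.comp_sep f₀ (Y₀.ι ≫ g) _ _ hwf₀ hwg₀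
    have e : f₀ ≫ Y₀.ι ≫ g = X₀.ι ≫ f ≫ g := by rw [← Category.assoc, hf₀, Category.assoc]
    change MoreMor.IsWeighting (X₀.ι ≫ f ≫ g) (fun a => wf (X₀.ι a) * wg (f (X₀.ι a)))
    rw [← e]
    convert key using 2
    rename_i a
    congr 2
    change (X₀.ι ≫ f) a = (f₀ ≫ Y₀.ι) a
    rw [hf₀]

end Groth.Agent.S1422
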