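import Groth.Statements.S1425
import Groth.Agent.Lib.Helper15.Wt9

set_option autoImplicit false
universe u
open FlatMor

namespace Groth.Agent.S1425

open AlgebraicGeometry CategoryTheory Limits in
/-- A weighting of a locally quasi-finite morphism taking positive values is upper semicontinuous on X. -/
theorem result {X Y : Scheme.{u}} (f : X ⟶ Y) [LocallyQuasiFinite f] [LocallyOfFiniteType f] (w : ↑X → ℤ) (hw : MoreMor.IsWeighting f w) (hpos : ∀ x, 0 < w x) :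
    UpperSemicontinuous w := by
  classical
  intro x c hc
  obtain ⟨_, ⟨(X₀ : X.Opens), hX₀, rfl⟩, hxX₀, -⟩ := X.isBasis_affineOpens.exists_subset_of_mem_open
    (Set.mem_univ x) isOpen_univ
  haveI : IsAffine (X₀ : Scheme.{u}) := hX₀
  have hw₀ := Groth.Agent.Helper15.Wt.IsWeighting.restrict hw X₀
  let x₀ : (X₀ : Scheme.{u}) := ⟨x, hxX₀⟩
  obtain ⟨T₁, g, t₁, hg, hgt, E₁, p₁, p₂, sq, G, Vs, hG, hVs, -⟩ :=
    Groth.Agent.Helper15.WtPi.exists_split_pi (X₀.ι ≫ f) ((X₀.ι ≫ f) x₀) {x₀}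
  haveI := hg
  obtain ⟨p, hp1, hp2⟩ := Scheme.exists_preimage_of_isPullback sq x₀ t₁ hgt.symm
  have hpG : p ∈ G := (hG p).2 ⟨hp2, by rw [hp1]; exact Finset.mem_singleton_self _⟩
  obtain ⟨-, hfin, hfib, hGU⟩ := hVs p hpG
  haveI := hfin
  haveI : LocallyQuasiFinite p₂ :=
    MorphismProperty.of_isPullback (P := @LocallyQuasiFinite) sq inferInstance
  have hpB : p ∈ Vs p := (hfib p hp2).2 rfl
  let W : E₁ → ℤ := fun e => w (X₀.ι (p₁ e))
  have hlc : IsLocallyConstant (MoreMor.fibreIntegral ((Vs p).ι ≫ p₂)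
      (fun b => W ((Vs p).ι b))) :=
    Groth.Agent.Helper15.Wt.IsWeighting.flex hw₀ g p₁ p₂ sq (Vs p)
  have hat : MoreMor.fibreIntegral ((Vs p).ι ≫ p₂) (fun b => W ((Vs p).ι b)) (p₂ p) = W p :=
    Groth.Agent.Helper15.Wt.fibreIntegral_piece_at p₂ W (Vs p) p hpB
      (fun q hq hqp => (hfib q (hqp.trans hp2)).1 hq) hGU
  obtain ⟨N₁, hN₁o, hN₁p, hN₁⟩ := (IsLocallyConstant.iff_exists_open _).1 hlc (p₂ p)
  have hO₁ : IsOpen (((Vs p : E₁.Opens) : Set E₁) ∩ p₂ ⁻¹' N₁) :=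
    (Vs p).2.inter (hN₁o.preimage p₂.continuous)
  haveI : Etale p₁ := MorphismProperty.of_isPullback (P := @Etale) sq.flip inferInstance
  have hopen : IsOpen (X₀.ι '' (p₁ '' (((Vs p : E₁.Opens) : Set E₁) ∩ p₂ ⁻¹' N₁))) :=
    X₀.ι.isOpenEmbedding.isOpenMap _ (p₁.isOpenMap _ hO₁)
  refine Filter.mem_of_superset (hopen.mem_nhds ⟨x₀, ⟨p, ⟨hpB, hN₁p⟩, hp1⟩, rfl⟩) ?_
  rintro _ ⟨_, ⟨e, ⟨heB, heN⟩, rfl⟩, rfl⟩
  change w (X₀.ι (p₁ e)) < c
  have h1 : W e ≤ MoreMor.fibreIntegral ((Vs p).ι ≫ p₂) (fun b => W ((Vs p).ι b)) (p₂ e) :=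
    Groth.Agent.Helper15.Wt.le_fibreIntegral_opens p₂ W (Vs p) (fun q _ => (hpos _).le) e heB
  rw [hN₁ _ heN, hat] at h1
  have h2 : W p = w x := by
    change w (X₀.ι (p₁ p)) = w x
    rw [hp1]
    rfl
  calc w (X₀.ι (p₁ e)) = W e := rfl
    _ ≤ W p := h1
    _ = w x := h2
    _ < c := hc

end Groth.Agent.S1425
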