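import Groth.Statements.S14253
import Groth.Agent.Lib.Helper21.PerfUH
import Groth.Agent.S0415

set_option autoImplicit false
universe u
open CategoryTheory AlgebraicGeometry
open PerfSch

namespace Groth.Agent.S14253

/-- A universal homeomorphism f : X ⟶ Y between perfect schemes of prime characteristic p (on every open
of X and of Y, p = 0 in the ring of sections and the p-th power map is bijective) is an isomorphism. -/
theorem result (p : ℕ) [Fact p.Prime] {X Y : Scheme.{u}} (f : X ⟶ Y)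
    (hX : PerfSch.IsPerfect p X) (hY : PerfSch.IsPerfect p Y) (hf : FlatMor.IsUnivHomeo f) : IsIso f := by
  have hint : IsIntegralHom f := ((Groth.Agent.S0415.result f).mp hf).1
  haveI : IsAffineHom f := inferInstance
  rw [← MorphismProperty.isomorphisms.iff,
    HasAffineProperty.eq_targetAffineLocally (P := MorphismProperty.isomorphisms Scheme)]
  intro U
  haveI hUaff : IsAffine (U.1 : Scheme.{u}) := U.2
  haveI hVaff : IsAffine ((f ⁻¹ᵁ U.1 : X.Opens) : Scheme.{u}) := U.2.preimage f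
  refine ⟨hVaff, ?_⟩
  have hg : FlatMor.IsUnivHomeo (f ∣_ U.1) := by
    rw [Groth.Agent.Helper11.UH.isUnivHomeo_iff] at hf ⊢
    exact ⟨IsZariskiLocalAtTarget.restrict (P := @UniversallyClosed) hf.1 U.1,
      IsZariskiLocalAtTarget.restrict (P := @UniversallyInjective) hf.2.1 U.1,
      IsZariskiLocalAtTarget.restrict (P := @Surjective) hf.2.2 U.1⟩
  haveI : (FlatMor.IsUnivHomeo.{u}).RespectsIso := by
    unfold FlatMor.IsUnivHomeo
    infer_instance
  have hg' : FlatMor.IsUnivHomeo (Spec.map (f ∣_ U.1).appTop) :=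
    ((FlatMor.IsUnivHomeo).arrow_mk_iso_iff (arrowIsoSpecΓOfIsAffine (f ∣_ U.1))).mp hg
  have hU' : Groth.Agent.Helper11.UH.UHom (f ∣_ U.1).appTop.hom :=
    (Groth.Agent.Helper11.UH.isUnivHomeo_spec_iff' _).mp hg'
  rw [ConcreteCategory.isIso_iff_bijective]
  exact Groth.Agent.Helper21.PUH.bijective_of_uhom_of_perfect p
    (hY (U.1.ι ''ᵁ ⊤)).1 (hY (U.1.ι ''ᵁ ⊤)).2
    (hX ((f ⁻¹ᵁ U.1).ι ''ᵁ ⊤)).1 (hX ((f ⁻¹ᵁ U.1).ι ''ᵁ ⊤)).2
    (f ∣_ U.1).appTop.hom hU'

end Groth.Agent.S14253
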