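import Groth.Statements.S14254
import Groth.Agent.Lib.Helper21.PerfUH

set_option autoImplicit false
universe u
open CategoryTheory AlgebraicGeometry
open FrobAlg

namespace Groth.Agent.S14254

/-- Let p be a prime, φ : A → B a map of commutative rings of characteristic p, i : A → A' and j : B →
B' perfect closures (A' and B' are perfect rings of characteristic p, every element of A' resp. B'
has a p^n-th power in the image of i resp. j, and the kernels of i and j consist of nilpotent
elements), and φ' : A' → B' the induced map, φ' ∘ i = j ∘ φ. Then Spec φ : Spec B ⟶ Spec A is a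
universal homeomorphism if and only if φ' is bijective. (The published statement is for an arbitrary
morphism of schemes over the prime field and its perfection; this row is the case of affine schemes,
the perfection of Spec A being Spec of the perfect closure of A.) -/
theorem result (p : ℕ) [Fact p.Prime]
    {A B A' B' : Type u} [CommRing A] [CommRing B] [CommRing A'] [CommRing B']
    [CharP A p] [CharP B p] [CharP A' p] [CharP B' p] [PerfectRing A' p] [PerfectRing B' p]
    (φ : A →+* B) (i : A →+* A') (j : B →+* B') [IsPerfectClosure i p] [IsPerfectClosure j p]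
    (φ' : A' →+* B') (hφ : φ'.comp i = j.comp φ) :
    FlatMor.IsUnivHomeo (Spec.map (CommRingCat.ofHom φ)) ↔ Function.Bijective φ' := by
  have hp : p.Prime := Fact.out
  rw [Groth.Agent.Helper11.UH.isUnivHomeo_spec_iff']
  have hφa : ∀ a, φ' (i a) = j (φ a) := fun a => congrFun (congrArg DFunLike.coe hφ) a
  have hkerj : ∀ b : B, j b = 0 → ∃ m : ℕ, b ^ p ^ m = 0 := by
    intro b hb
    exact mem_pNilradical.mp (IsPRadical.ker_le j p (RingHom.mem_ker.mpr hb))
  have hkeri : ∀ a : A, i a = 0 → IsNilpotent a := by
    intro a ha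
    obtain ⟨m, hm⟩ := mem_pNilradical.mp (IsPRadical.ker_le i p (RingHom.mem_ker.mpr ha))
    exact ⟨p ^ m, hm⟩
  have hnili : ∀ a : A, IsNilpotent a → i a = 0 := by
    intro a ha
    have h1 : a ∈ pNilradical A p := by
      rw [pNilradical_prime hp, mem_nilradical]
      exact ha
    exact RingHom.mem_ker.mp ((RingHom.pNilradical_le_ker_of_perfectRing i p) h1)
  constructor
  · intro hU
    have hpow := Groth.Agent.Helper21.PUH.exists_pow_mem_range' p φ hU
    have hkerφ : ∀ a, φ a = 0 → IsNilpotent a := by
      intro a ha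
      rw [nilpotent_iff_mem_prime]
      intro P hP
      obtain ⟨Q, hQ⟩ := hU.2.1 ⟨P, hP⟩
      have : a ∈ (PrimeSpectrum.comap φ Q).asIdeal := by
        show φ a ∈ Q.asIdeal
        rw [ha]; exact zero_mem _
      rw [hQ] at this
      exact this
    constructor
    · rw [injective_iff_map_eq_zero]
      intro a' ha'
      obtain ⟨n, y, hy⟩ := IsPRadical.pow_mem i p a'
      have h1 : j (φ y) = 0 := by
        rw [← hφa, hy, map_pow, ha', zero_pow (pow_ne_zero _ hp.ne_zero)]
      obtain ⟨m, hm⟩ := hkerj _ h1
      have h2 : φ (y ^ p ^ m) = 0 := by rw [map_pow, hm]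
      have h3 : IsNilpotent y := by
        obtain ⟨k, hk⟩ := hkerφ _ h2
        exact ⟨p ^ m * k, by rw [pow_mul, hk]⟩
      have h4 : a' ^ p ^ n = 0 := by rw [← hy, hnili y h3]
      have := (iterateFrobeniusEquiv A' p n).injective (a₁ := a') (a₂ := 0) (by
        rw [iterateFrobeniusEquiv_def, iterateFrobeniusEquiv_def, h4,
          zero_pow (pow_ne_zero _ hp.ne_zero)])
      exact this
    · intro b'
      obtain ⟨n, y, hy⟩ := IsPRadical.pow_mem j p b'
      obtain ⟨m, a, ha⟩ := hpow y
      have h1 : b' ^ p ^ (n + m) = φ' (i a) := by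
        rw [hφa, ha, map_pow, hy, ← pow_mul, ← pow_add]
      obtain ⟨c, hc⟩ := (iterateFrobeniusEquiv A' p (n + m)).surjective (i a)
      rw [iterateFrobeniusEquiv_def] at hc
      refine ⟨c, ?_⟩
      apply (iterateFrobeniusEquiv B' p (n + m)).injective
      rw [iterateFrobeniusEquiv_def, iterateFrobeniusEquiv_def, ← map_pow, hc, h1]
  · intro hbij
    apply Groth.Agent.Helper21.PUH.uhom_of_pow_mem p φ
    · intro a ha
      apply hkeri
      apply hbij.1
      rw [hφa, ha, map_zero, map_zero]
    · intro b
      obtain ⟨a', ha'⟩ := hbij.2 (j b)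
      obtain ⟨n, y, hy⟩ := IsPRadical.pow_mem i p a'
      have h1 : j (b ^ p ^ n - φ y) = 0 := by
        rw [map_sub, map_pow, ← ha', ← map_pow, ← hy, hφa, sub_self]
      obtain ⟨m, hm⟩ := hkerj _ h1
      rw [sub_pow_char_pow, sub_eq_zero] at hm
      refine ⟨n + m, y ^ p ^ m, ?_⟩
      rw [map_pow, ← hm, ← pow_mul, ← pow_add]

end Groth.Agent.S14254
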