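import Groth.Statements.S14256
import Mathlib

set_option autoImplicit false
universe u
open FrobAlg

namespace Groth.Agent.S14256

/-- Let p be a prime, φ : A → B a map of commutative rings of characteristic p, i : A → A' and j : B →
B' perfect closures (A', B' perfect rings of characteristic p, every element of A' resp. B' has a
p^n-th power in the image of i resp. j, the kernels of i and j consist of nilpotent elements), and
φ' : A' → B' the induced map, φ' ∘ i = j ∘ φ. Then φ is integral if and only if φ' is integral. (The
published statement is that a morphism of schemes over the prime field is integral exactly when its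
perfection is; this row is its affine case, to which the published proof reduces.) -/
theorem result (p : ℕ) [Fact p.Prime]
    {A B A' B' : Type u} [CommRing A] [CommRing B] [CommRing A'] [CommRing B']
    [CharP A p] [CharP B p] [CharP A' p] [CharP B' p] [PerfectRing A' p] [PerfectRing B' p]
    (φ : A →+* B) (i : A →+* A') (j : B →+* B') [IsPerfectClosure i p] [IsPerfectClosure j p]
    (φ' : A' →+* B') (hφ : φ'.comp i = j.comp φ) : φ.IsIntegral ↔ φ'.IsIntegral := by
  have of_pow : ∀ {R S : Type u} [CommRing R] [CommRing S] (f : R →+* S) (x : S) (n : ℕ),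
      0 < n → f.IsIntegralElem (x ^ n) → f.IsIntegralElem x := by
    intro R S _ _ f x n hn hx
    let : Algebra R S := f.toAlgebra
    exact IsIntegral.of_pow (R := R) hn hx
  have hp : p.Prime := Fact.out
  have hppos : ∀ n : ℕ, 0 < p ^ n := fun n => pow_pos hp.pos n
  constructor
  · intro h b'
    obtain ⟨n, b, hb⟩ := IsPRadical.pow_mem j p b'
    obtain ⟨P, hPm, hP⟩ := h b
    apply of_pow φ' b' (p ^ n) (hppos n)
    rw [← hb]
    refine ⟨P.map i, hPm.map i, ?_⟩
    rw [Polynomial.eval₂_map, hφ, ← Polynomial.hom_eval₂, hP, map_zero]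
  · intro h b
    obtain ⟨Q, hQm, hQ⟩ := h (j b)
    classical
    have hex : ∀ k : ℕ, ∃ n : ℕ, ∃ y : A, i y = (Q.coeff k) ^ p ^ n :=
      fun k => IsPRadical.pow_mem i p (Q.coeff k)
    choose e y hy using hex
    have hcoef : ∀ k : ℕ, (Q.coeff k) ^ p ^ (Q.support.sup e) ∈ Set.range i := by
      intro k
      by_cases hk : k ∈ Q.support
      · have hle : e k ≤ Q.support.sup e := Finset.le_sup hk
        refine ⟨(y k) ^ p ^ (Q.support.sup e - e k), ?_⟩
        rw [map_pow, hy k, ← pow_mul, ← pow_add, Nat.add_sub_cancel' hle]
      · rw [Polynomial.notMem_support_iff.mp hk, zero_pow (hppos _).ne']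
        exact ⟨0, map_zero i⟩
    have hl : Q.map (iterateFrobenius A' p (Q.support.sup e)) ∈ Polynomial.lifts i := by
      rw [Polynomial.lifts_iff_coeff_lifts]
      intro k
      rw [Polynomial.coeff_map, iterateFrobenius_def]
      exact hcoef k
    have hm : (Q.map (iterateFrobenius A' p (Q.support.sup e))).Monic := hQm.map _
    obtain ⟨P, hPmap, hPmonic⟩ : ∃ P : Polynomial A,
        P.map i = Q.map (iterateFrobenius A' p (Q.support.sup e)) ∧ P.Monic := by
      rcases subsingleton_or_nontrivial A' with hs | hn
      · exact ⟨1, Subsingleton.elim _ _, Polynomial.monic_one⟩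
      · obtain ⟨P, h1, _, h3⟩ := Polynomial.lifts_and_degree_eq_and_monic hl hm
        exact ⟨P, h1, h3⟩
    have hroot : Polynomial.eval₂ φ' (j b ^ p ^ (Q.support.sup e))
        (Q.map (iterateFrobenius A' p (Q.support.sup e))) = 0 := by
      have hcomm : (iterateFrobenius B' p (Q.support.sup e)).comp φ'
          = φ'.comp (iterateFrobenius A' p (Q.support.sup e)) := by
        ext x
        simp [iterateFrobenius_def]
      have := congrArg (iterateFrobenius B' p (Q.support.sup e)) hQ
      rw [map_zero, Polynomial.hom_eval₂, hcomm, iterateFrobenius_def,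
        ← Polynomial.eval₂_map] at this
      exact this
    have hker : Polynomial.eval₂ φ (b ^ p ^ (Q.support.sup e)) P ∈ RingHom.ker j := by
      rw [RingHom.mem_ker, Polynomial.hom_eval₂, ← hφ, ← Polynomial.eval₂_map, hPmap, map_pow]
      exact hroot
    have hnil := IsPRadical.ker_le j p hker
    rw [mem_pNilradical] at hnil
    obtain ⟨M, hM⟩ := hnil
    apply of_pow φ b (p ^ (Q.support.sup e)) (hppos _)
    refine ⟨P ^ p ^ M, hPmonic.pow _, ?_⟩
    rw [Polynomial.eval₂_pow, hM]

end Groth.Agent.S14256
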