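import Groth.Statements.S1428
import Groth.Agent.Lib.Helper15.Wt6
import Groth.Agent.S1426

set_option autoImplicit false
universe u
open FlatMor

namespace Groth.Agent.S1428

open AlgebraicGeometry CategoryTheory Limits in
/-- Let f : X → Y be separated, locally of finite type and locally quasi-finite with finite fibres, w a
positive weighting of f, and suppose the fibre integral of w is at most d at every point of Y and
equals d at some point. Then the set Y_d of points where the integral equals d is open and the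
restriction of f over Y_d is finite. (Finiteness of the fibres, which makes the fibre integral a
finite sum, is carried here as an explicit hypothesis.) -/
theorem result {X Y : Scheme.{u}} (f : X ⟶ Y) [LocallyQuasiFinite f] [LocallyOfFiniteType f] [IsSeparated f] (hfin : ∀ y : Y, (f ⁻¹' {y}).Finite)
    (w : ↑X → ℤ) (hw : MoreMor.IsWeighting f w) (hpos : ∀ x, 0 < w x) (d : ℤ)
    (hmax : ∀ y : Y, MoreMor.fibreIntegral f w y ≤ d) (hatt : ∃ y : Y, MoreMor.fibreIntegral f w y = d) :
    ∃ hYd : IsOpen {y : ↑Y | MoreMor.fibreIntegral f w y = d}, IsFinite (f ∣_ ⟨{y : ↑Y | MoreMor.fibreIntegral f w y = d}, hYd⟩) := by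
  classical
  have hlsc : LowerSemicontinuous (MoreMor.fibreIntegral f w) :=
    Groth.Agent.S1426.result f hfin w hw hpos
  have hset : {y : ↑Y | MoreMor.fibreIntegral f w y = d} =
      (MoreMor.fibreIntegral f w) ⁻¹' Set.Ioi (d - 1) := by
    ext y
    simp only [Set.mem_setOf_eq, Set.mem_preimage, Set.mem_Ioi]
    constructor
    · intro h; omega
    · intro h; have := hmax y; omega
  have hYd : IsOpen {y : ↑Y | MoreMor.fibreIntegral f w y = d} := by
    rw [hset]; exact hlsc.isOpen_preimage _
  refine ⟨hYd, ?_⟩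
  have hUC : UniversallyClosed (f ∣_ ⟨{y : ↑Y | MoreMor.fibreIntegral f w y = d}, hYd⟩) := by
    refine Groth.Agent.Helper15.Wt.restrict_of_forall_exists @UniversallyClosed f _ ?_
    intro y₀ hy₀
    have hy₀' : MoreMor.fibreIntegral f w y₀ = d := hy₀
    obtain ⟨T₁, g, t₁, E₁, p₁, p₂, sq, B, N₁, hg, hgt, ht₁, hBfin, hle, hsub⟩ :=
      Groth.Agent.Helper15.Wt.split_fibre f hfin w hw hpos y₀
    haveI := hg
    haveI := hBfin
    refine ⟨⟨g '' (N₁ : Set T₁), g.isOpenMap _ N₁.2⟩, ⟨t₁, ht₁, hgt⟩, ?_, ?_⟩
    · rintro _ ⟨t, ht, rfl⟩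
      change MoreMor.fibreIntegral f w (g t) = d
      exact le_antisymm (hmax _) (hy₀' ▸ hle t ht)
    · refine Groth.Agent.Helper15.Wt.universallyClosed_restrict_of_etale f g p₁ p₂ sq N₁ _ rfl ?_
      haveI : IsFinite (p₂ ∣_ N₁) :=
        Groth.Agent.Helper15.Wt.isFinite_restrict_of_subset p₂ B N₁
          (fun p hp => hsub _ hp (by rw [hy₀']; exact hmax _) p rfl)
      infer_instance
  haveI : IsProper (f ∣_ ⟨{y : ↑Y | MoreMor.fibreIntegral f w y = d}, hYd⟩) :=
    { toUniversallyClosed := hUC }
  exact IsFinite.of_isProper_of_locallyQuasiFinite _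

end Groth.Agent.S1428
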