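import Groth.Statements.S14280
import Mathlib

set_option autoImplicit false
universe u
open SpSeq

namespace Groth.Agent.S14280

/-- Let E^{p,q} (p, q ≥ 0) be finite-dimensional complex vector spaces each carrying an endomorphism Φ,
and suppose that for a natural number N and functions a, c ≥ 0 (real) and b, d (natural numbers) one
has E^{p,q} = 0 for q > N, |μ| ≤ a(q)c(p) for every eigenvalue μ of Φ on E^{p,q}, and dim E^{p,q} ≤
b(q)d(p). If Σ_p c(p)d(p) converges then the family of traces tr(Φ | E^{p,q}) is absolutely summable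
over all pairs (p, q). (The published statement takes a and b defined on {0, …, N} only; here they
are functions on all natural numbers, which changes nothing since E^{p,q} = 0 for q > N.) -/
theorem result
    (E : ℕ → ℕ → Type u) [∀ p q, AddCommGroup (E p q)] [∀ p q, Module ℂ (E p q)]
    [∀ p q, FiniteDimensional ℂ (E p q)] (Φ : ∀ p q, E p q →ₗ[ℂ] E p q)
    (N : ℕ) (a c : ℕ → ℝ) (b d : ℕ → ℕ) (ha : ∀ q, 0 ≤ a q) (hc : ∀ p, 0 ≤ c p)
    (h1 : ∀ p q, N < q → Subsingleton (E p q))
    (h2 : ∀ p q (μ : ℂ), Module.End.HasEigenvalue (Φ p q) μ → ‖μ‖ ≤ a q * c p)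
    (h3 : ∀ p q, Module.finrank ℂ (E p q) ≤ b q * d p)
    (hsum : Summable fun p : ℕ => c p * (d p : ℝ)) :
    Summable fun pq : ℕ × ℕ => ‖LinearMap.trace ℂ (E pq.1 pq.2) (Φ pq.1 pq.2)‖ := by
  classical
  have hbound : ∀ p q, ‖LinearMap.trace ℂ (E p q) (Φ p q)‖ ≤
      (c p * (d p : ℝ)) * (if q ≤ N then a q * (b q : ℝ) else 0) := by
    intro p q
    by_cases hq : q ≤ N
    · rw [if_pos hq]
      have hsplit : (Φ p q).charpoly.Splits := IsAlgClosed.splits _
      rw [Module.End.trace_eq_sum_roots_charpoly_of_splits hsplit]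
      have hne : (Φ p q).charpoly ≠ 0 := (LinearMap.charpoly_monic (Φ p q)).ne_zero
      have s1 : ‖(Φ p q).charpoly.roots.sum‖ ≤ ((Φ p q).charpoly.roots.map (fun μ => ‖μ‖)).sum :=
        norm_multiset_sum_le _
      have s2 : ((Φ p q).charpoly.roots.map (fun μ => ‖μ‖)).sum ≤
          ((Φ p q).charpoly.roots.map (fun _ => a q * c p)).sum := by
        apply Multiset.sum_map_le_sum_map
        intro μ hμ
        apply h2 p q μ
        rw [Module.End.hasEigenvalue_iff_isRoot_charpoly]
        exact (Polynomial.mem_roots'.mp hμ).2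
      have s3 : ((Φ p q).charpoly.roots.map (fun _ => a q * c p)).sum =
          (Multiset.card (Φ p q).charpoly.roots : ℝ) * (a q * c p) := by
        rw [Multiset.map_const', Multiset.sum_replicate, nsmul_eq_mul]
      have s4 : (Multiset.card (Φ p q).charpoly.roots : ℝ) ≤ (b q : ℝ) * (d p : ℝ) := by
        have h5 : Multiset.card (Φ p q).charpoly.roots ≤ b q * d p :=
          ((Polynomial.card_roots' _).trans_eq (LinearMap.charpoly_natDegree (Φ p q))).trans (h3 p q)
        exact_mod_cast h5
      have hac : 0 ≤ a q * c p := mul_nonneg (ha q) (hc p)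
      calc ‖(Φ p q).charpoly.roots.sum‖
          ≤ (Multiset.card (Φ p q).charpoly.roots : ℝ) * (a q * c p) := (s1.trans s2).trans_eq s3
        _ ≤ ((b q : ℝ) * (d p : ℝ)) * (a q * c p) := mul_le_mul_of_nonneg_right s4 hac
        _ = (c p * (d p : ℝ)) * (a q * (b q : ℝ)) := by ring
    · rw [if_neg hq, mul_zero]
      have hsub := h1 p q (not_le.mp hq)
      have h0 : Φ p q = 0 := LinearMap.ext fun x => Subsingleton.elim _ _
      rw [h0, map_zero, norm_zero]
  have hg : Summable (fun q : ℕ => if q ≤ N then a q * (b q : ℝ) else 0) := by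
    apply summable_of_ne_finset_zero (s := Finset.range (N + 1))
    intro q hq
    rw [Finset.mem_range, not_lt] at hq
    rw [if_neg (by omega)]
  have hprod := Summable.mul_of_nonneg hsum hg
    (fun p => mul_nonneg (hc p) (Nat.cast_nonneg _))
    (fun q => by
      show (0 : ℝ) ≤ if q ≤ N then a q * (b q : ℝ) else 0
      split_ifs
      · exact mul_nonneg (ha q) (Nat.cast_nonneg _)
      · exact le_rfl)
  exact Summable.of_nonneg_of_le (fun _ => norm_nonneg _) (fun pq => hbound pq.1 pq.2) hprod

end Groth.Agent.S14280
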