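import Groth.Statements.S14285
import Groth.Agent.Lib.Helper18.Rigid27

set_option autoImplicit false
universe u
open CategoryTheory AlgebraicGeometry
open EllLift

namespace Groth.Agent.S14285

/-- Let R be a complete Noetherian local ring with maximal ideal m and residue field k = R/m, g : X →
Spec R a proper and flat morphism, and i : X₀ → X the fibre of g over the closed point, i.e. a
pullback of g along Spec k → Spec R, with structure map f₀ : X₀ → Spec k. If the induced ring map k
→ Γ(X₀, O_{X₀}) is bijective, then so is R → Γ(X, O_X). -/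
theorem result (R : Type u) [CommRing R]
    [IsLocalRing R] [IsNoetherianRing R] [IsAdicComplete (IsLocalRing.maximalIdeal R) R]
    (X X₀ : Scheme.{u}) (g : X ⟶ Spec (CommRingCat.of R)) [IsProper g] [Flat g]
    (i : X₀ ⟶ X) (f₀ : X₀ ⟶ Spec (CommRingCat.of (R ⧸ IsLocalRing.maximalIdeal R)))
    (hsq : IsPullback i f₀ g
      (Spec.map (CommRingCat.ofHom (Ideal.Quotient.mk (IsLocalRing.maximalIdeal R)))))
    (h0 : Function.Bijective ((Scheme.ΓSpecIso (CommRingCat.of (R ⧸ IsLocalRing.maximalIdeal R))).inv ≫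
      f₀.appTop)) :
    Function.Bijective ((Scheme.ΓSpecIso (CommRingCat.of R)).inv ≫ g.appTop) := by
  have hsurj : Function.Surjective f₀.appTop.hom := by
    intro σ
    obtain ⟨c, hc⟩ := h0.2 σ
    exact ⟨(Scheme.ΓSpecIso (CommRingCat.of (R ⧸ IsLocalRing.maximalIdeal R))).inv.hom c, hc⟩
  haveI : Nonempty X₀ := by
    by_contra hne
    rw [not_nonempty_iff] at hne
    haveI : Subsingleton Γ(X₀, ⊤) := by
      have h1 : (⊤ : X₀.Opens) = ⊥ := by
        ext x
        exact (hne.false x).elim
      rw [h1]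
      exact CommRingCat.subsingleton_of_isTerminal X₀.sheaf.isTerminalOfEmpty
    haveI : Nontrivial (R ⧸ IsLocalRing.maximalIdeal R) :=
      Ideal.Quotient.nontrivial_iff.mpr (IsLocalRing.maximalIdeal.isMaximal R).ne_top
    have h2 := h0.1 (Subsingleton.elim
      (((Scheme.ΓSpecIso (CommRingCat.of (R ⧸ IsLocalRing.maximalIdeal R))).inv ≫ f₀.appTop) 0)
      (((Scheme.ΓSpecIso (CommRingCat.of (R ⧸ IsLocalRing.maximalIdeal R))).inv ≫ f₀.appTop) 1))
    exact zero_ne_one h2
  exact Groth.Agent.Helper18.Rigid.psiOf_bijective_of_complete R g i f₀ hsq hsurj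

end Groth.Agent.S14285
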