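import Groth.Statements.S14305
import Mathlib.Tactic

set_option autoImplicit false
universe u v
open PtDeg

namespace Groth.Agent.S14305

section
variable {A : Type u} {G : Type v} [AddCommGroup A] [AddCommGroup G] (f : A → G)

/-- offset alternating sum over subsets -/
noncomputable def W {ι : Type} [DecidableEq ι] (s : Finset ι) (y : ι → A) (a : A) : G :=
  ∑ I ∈ s.powerset, ((-1 : ℤ) ^ I.card) • f (a + ∑ i ∈ I, y i)

theorem W_insert {ι : Type} [DecidableEq ι] (s : Finset ι) (j : ι) (hj : j ∉ s) (y : ι → A) (a : A) :
    W f (insert j s) y a = W f s y a - W f s y (a + y j) := by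
  unfold W
  rw [Finset.sum_powerset_insert hj, sub_eq_add_neg, ← Finset.sum_neg_distrib]
  congr 1
  refine Finset.sum_congr rfl ?_
  intro t ht
  have hjt : j ∉ t := fun h => hj (Finset.mem_powerset.mp ht h)
  rw [Finset.card_insert_of_notMem hjt, Finset.sum_insert hjt, pow_succ, mul_neg_one, neg_smul,
    add_assoc]

theorem W_congr {ι : Type} [DecidableEq ι] (s : Finset ι) (y y' : ι → A) (a : A)
    (h : ∀ i ∈ s, y i = y' i) : W f s y a = W f s y' a := by
  unfold W
  refine Finset.sum_congr rfl ?_
  intro t ht
  have : ∑ i ∈ t, y i = ∑ i ∈ t, y' i :=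
    Finset.sum_congr rfl (fun i hi => h i (Finset.mem_powerset.mp ht hi))
  rw [this]

theorem W_image {ι κ : Type} [DecidableEq ι] [DecidableEq κ] (e : κ → ι) (he : Function.Injective e)
    (s : Finset κ) (y : ι → A) (a : A) :
    W f (s.image e) y a = W f s (y ∘ e) a := by
  unfold W
  rw [Finset.powerset_image, Finset.sum_image]
  · refine Finset.sum_congr rfl ?_
    intro t _
    rw [Finset.card_image_of_injective t he, Finset.sum_image (fun x _ y _ h => he h)]
    rfl
  · intro t _ t' _ h
    exact Finset.image_injective he h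

/-- full alternating sum -/
noncomputable def T (n : ℕ) (x : Fin n → A) : G := W f (Finset.univ : Finset (Fin n)) x 0

/-- the deviation as in the statement -/
noncomputable def D (n : ℕ) (x : Fin n → A) : G :=
  ∑ I ∈ ((Finset.univ : Finset (Fin n)).powerset.erase ∅), ((-1 : ℤ) ^ (n + I.card)) • f (∑ i ∈ I, x i)

theorem D_eq (n : ℕ) (x : Fin n → A) : D f n x = ((-1 : ℤ) ^ n) • (T f n x - f 0) := by
  unfold D T W
  have hmem : (∅ : Finset (Fin n)) ∈ (Finset.univ : Finset (Fin n)).powerset :=
    Finset.empty_mem_powerset _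
  rw [← Finset.add_sum_erase _ _ hmem]
  simp only [Finset.card_empty, pow_zero, one_smul, Finset.sum_empty, add_zero, zero_add]
  rw [add_sub_cancel_left, Finset.smul_sum]
  refine Finset.sum_congr rfl ?_
  intro I _
  rw [pow_add, mul_smul]

theorem T_update (n : ℕ) (z : Fin n → A) (j : Fin n) (c : A) :
    T f n (Function.update z j c) =
      W f (Finset.univ.erase j) z 0 - W f (Finset.univ.erase j) z c := by
  unfold T
  have h1 : (Finset.univ : Finset (Fin n)) = insert j (Finset.univ.erase j) :=
    (Finset.insert_erase (Finset.mem_univ j)).symm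
  conv_lhs => rw [h1]
  rw [W_insert f _ j (Finset.notMem_erase j _), Function.update_self, zero_add]
  have hc : ∀ i ∈ (Finset.univ : Finset (Fin n)).erase j, Function.update z j c i = z i := by
    intro i hi
    exact Function.update_of_ne (Finset.ne_of_mem_erase hi) _ _
  rw [W_congr f _ _ z 0 hc, W_congr f _ _ z c hc]

theorem W_univ (n : ℕ) (z : Fin n → A) (j : Fin n) (a : A) :
    W f (Finset.univ : Finset (Fin n)) z a =
      W f (Finset.univ.erase j) z a - W f (Finset.univ.erase j) z (a + z j) := by
  have h1 : (Finset.univ : Finset (Fin n)) = insert j (Finset.univ.erase j) :=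
    (Finset.insert_erase (Finset.mem_univ j)).symm
  conv_lhs => rw [h1]
  rw [W_insert f _ j (Finset.notMem_erase j _)]

theorem T_cons (n : ℕ) (z : Fin n → A) (a : A) :
    T f (n + 1) (Fin.cons a z) = T f n z - W f (Finset.univ : Finset (Fin n)) z a := by
  unfold T
  have h1 : (Finset.univ : Finset (Fin (n + 1))) = insert 0 (Finset.univ.image Fin.succ) := by
    rw [Fin.image_succ_univ]
    ext i
    simp only [Finset.mem_univ, Finset.mem_insert, Finset.mem_compl, Finset.mem_singleton, true_iff]
    exact em _
  have h0 : (0 : Fin (n + 1)) ∉ (Finset.univ : Finset (Fin n)).image Fin.succ := by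
    rw [Fin.image_succ_univ]; simp
  rw [h1, W_insert f _ 0 h0, W_image f Fin.succ (Fin.succ_injective n),
    W_image f Fin.succ (Fin.succ_injective n), Fin.cons_zero, zero_add]
  have : (Fin.cons a z : Fin (n + 1) → A) ∘ Fin.succ = z := by
    funext i; simp
  rw [this]

theorem key (n : ℕ) (z : Fin n → A) (j : Fin n) (a : A) :
    D f (n + 1) (Fin.cons a z) =
      D f n (Function.update z j (a + z j)) - D f n (Function.update z j a) - D f n z := by
  have hz : D f n z = D f n (Function.update z j (z j)) := by rw [Function.update_eq_self]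
  rw [hz, D_eq, D_eq, D_eq, D_eq, T_cons, T_update, T_update, T_update, W_univ f n z j a,
    T, W_univ f n z j 0, zero_add, pow_succ, mul_neg_one, neg_smul]
  rw [← smul_sub, ← smul_sub, ← smul_neg]
  congr 1
  abel

end

/-- Let A and G be abelian groups, written additively, f : A → G a map and n ≥ 1. For k ≥ 0 the k-th
deviation of f is the map A^k → G, (y_1, …, y_k) ↦ Σ_{∅ ≠ I ⊆ {1,…,k}} (−1)^{k+|I|} f(Σ_{i ∈ I}
y_i). Then f is pointed of degree n, meaning that its (n+1)-st deviation vanishes identically, if
and only if its n-th deviation is additive in each variable separately (with the other variables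
fixed). -/
theorem result {A : Type u} {G : Type v} [AddCommGroup A] [AddCommGroup G]
    (f : A → G) (n : ℕ) (hn : 1 ≤ n) :
    (∀ x : Fin (n + 1) → A, ∑ I ∈ ((Finset.univ : Finset (Fin (n + 1))).powerset.erase ∅), ((-1 : ℤ) ^ (n + 1 + I.card)) • f (∑ i ∈ I, x i) = 0) ↔
      (∀ (j : Fin n) (y : Fin n → A) (a b : A),
        ∑ I ∈ ((Finset.univ : Finset (Fin n)).powerset.erase ∅), ((-1 : ℤ) ^ (n + I.card)) • f (∑ i ∈ I, (Function.update y j (a + b)) i) =
          ∑ I ∈ ((Finset.univ : Finset (Fin n)).powerset.erase ∅), ((-1 : ℤ) ^ (n + I.card)) • f (∑ i ∈ I, (Function.update y j a) i) + ∑ I ∈ ((Finset.univ : Finset (Fin n)).powerset.erase ∅), ((-1 : ℤ) ^ (n + I.card)) • f (∑ i ∈ I, (Function.update y j b) i)) := by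
  constructor
  · intro H j y a b
    have h1 := key f n (Function.update y j b) j a
    have h2 : D f (n + 1) (Fin.cons a (Function.update y j b)) = 0 := H _
    rw [h2, Function.update_self, Function.update_idem, Function.update_idem] at h1
    have h3 : D f n (Function.update y j (a + b)) =
        D f n (Function.update y j a) + D f n (Function.update y j b) := by
      have := sub_eq_zero.mp h1.symm
      rw [sub_eq_iff_eq_add.mp this]; abel
    exact h3
  · intro H x
    have hx : x = Fin.cons (x 0) (Fin.tail x) := (Fin.cons_self_tail x).symm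
    have h1 := key f n (Fin.tail x) ⟨0, hn⟩ (x 0)
    rw [← hx] at h1
    have h2 : D f n (Function.update (Fin.tail x) ⟨0, hn⟩ (x 0 + Fin.tail x ⟨0, hn⟩)) =
        D f n (Function.update (Fin.tail x) ⟨0, hn⟩ (x 0)) +
          D f n (Function.update (Fin.tail x) ⟨0, hn⟩ (Fin.tail x ⟨0, hn⟩)) := H _ _ _ _
    rw [Function.update_eq_self] at h2
    have h3 : D f (n + 1) x = 0 := by
      rw [h1, h2]; abel
    exact h3

end Groth.Agent.S14305
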