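import Groth.Statements.S14307
import Mathlib.Tactic

set_option autoImplicit false
universe u v
open PtDeg

namespace Groth.Agent.S14307

theorem full_sum_zero {A : Type u} {G : Type v} [AddCommGroup A] [AddCommGroup G]
    (f : A → G) (n : ℕ) (x : Fin n → A) (i : Fin n) (hx : x i = 0) :
    ∑ I ∈ (Finset.univ : Finset (Fin n)).powerset, ((-1 : ℤ) ^ (n + I.card)) • f (∑ j ∈ I, x j) = 0 := by
  classical
  refine Finset.sum_involution (fun I _ => if i ∈ I then I.erase i else insert i I) ?_ ?_ ?_ ?_
  · intro I _
    by_cases hi : i ∈ I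
    · simp only [hi, if_true]
      have hsum : ∑ j ∈ I.erase i, x j = ∑ j ∈ I, x j := by
        rw [← Finset.add_sum_erase I x hi, hx, zero_add]
      have hcard : I.card = (I.erase i).card + 1 := by
        rw [Finset.card_erase_of_mem hi]
        have : 0 < I.card := Finset.card_pos.mpr ⟨i, hi⟩
        omega
      rw [hsum, hcard, ← add_smul]
      have : (-1 : ℤ) ^ (n + ((I.erase i).card + 1)) + (-1) ^ (n + (I.erase i).card) = 0 := by
        rw [← add_assoc, pow_succ]; ring
      rw [this, zero_smul]
    · simp only [hi, if_false]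
      have hsum : ∑ j ∈ insert i I, x j = ∑ j ∈ I, x j := by
        rw [Finset.sum_insert hi, hx, zero_add]
      rw [hsum, Finset.card_insert_of_notMem hi, ← add_smul]
      have : (-1 : ℤ) ^ (n + I.card) + (-1) ^ (n + (I.card + 1)) = 0 := by
        rw [← add_assoc, pow_succ]; ring
      rw [this, zero_smul]
  · intro I _ _
    by_cases hi : i ∈ I
    · simp only [hi, if_true]
      intro h
      have : i ∈ I.erase i := by rw [h]; exact hi
      exact (Finset.notMem_erase i I) this
    · simp only [hi, if_false]
      intro h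
      have : i ∈ I := by rw [← h]; exact Finset.mem_insert_self i I
      exact hi this
  · intro I _
    exact Finset.mem_powerset.mpr (Finset.subset_univ _)
  · intro I _
    by_cases hi : i ∈ I
    · simp only [hi, if_true, Finset.notMem_erase, if_false]
      exact Finset.insert_erase hi
    · simp only [hi, if_false, Finset.mem_insert_self, if_true]
      exact Finset.erase_insert hi

/-- Let A and G be abelian groups, written additively, f : A → G a map and n ≥ 1. If a tuple x ∈ A^n has
some coordinate equal to 0, then the n-th deviation of f at x, namely Σ_{∅ ≠ I ⊆ {1,…,n}}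
(−1)^{n+|I|} f(Σ_{i ∈ I} x_i), equals (−1)^{n+1} f(0). -/
theorem result {A : Type u} {G : Type v} [AddCommGroup A] [AddCommGroup G]
    (f : A → G) (n : ℕ) (hn : 1 ≤ n) (x : Fin n → A) (i : Fin n) (hx : x i = 0) :
    ∑ I ∈ ((Finset.univ : Finset (Fin n)).powerset.erase ∅), ((-1 : ℤ) ^ (n + I.card)) • f (∑ j ∈ I, x j) =
      ((-1 : ℤ) ^ (n + 1)) • f 0 := by
  have h := full_sum_zero f n x i hx
  have hmem : (∅ : Finset (Fin n)) ∈ (Finset.univ : Finset (Fin n)).powerset :=
    Finset.empty_mem_powerset _
  rw [← Finset.add_sum_erase _ _ hmem] at h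
  simp only [Finset.card_empty, add_zero, Finset.sum_empty] at h
  have h2 := eq_neg_of_add_eq_zero_right h
  rw [h2, pow_succ, mul_neg_one, neg_smul]

end Groth.Agent.S14307
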