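import Groth.Statements.S14309
import Mathlib

set_option autoImplicit false
universe u v w x y
open CAlg

namespace Groth.Agent.S14309

/-- Let R be a commutative ring; A, B, C commutative R-algebras; i : A → B and j : A → C jointly
injective R-algebra maps; c a non-zero-divisor of B; u : C → B/(c) a ring map with u ∘ j equal to i
followed by reduction modulo c; ζ in A with i ζ = c and j ζ = 0; η : R[X_σ, Z] → A an R-algebra map
with η(Z) = ζ; a : R[Y_τ] → B a surjective R-algebra map; η_Z : R[X_σ, Z] → R[Y_τ] a surjective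
R-algebra map with a ∘ η_Z = i ∘ η. Fix c̃ in R[Y_τ] with a(c̃) = c, a family (p_h) generating the
kernel of the composite R[X_σ] → R[X_σ, Z] → A → C, a family (q'_h) generating the kernel of a
together with lifts q_h along η_Z, a family (v_h) generating the kernel of η_Z, and elements g'_h of
R[Y_τ] with η_Z(p_h) + g'_h c̃ in the ideal (q'_h), together with lifts g_h along η_Z. Then the
kernel of η is the ideal generated by the elements Z q_h, Z v_h and p_h + Z g_h. (The published
statement is for the rings of cycle classes, with coefficients ℤ[1/6], of a smooth quotient stack, a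
smooth closed substack whose normal bundle has top Chern class c a non-zero-divisor, and the open
complement; this row states the ring-theoretic content for any such square of commutative rings in
which A embeds in B × C.) -/
theorem result
    {R : Type u} [CommRing R] {A : Type v} {B : Type w} {C : Type x}
    [CommRing A] [CommRing B] [CommRing C] [Algebra R A] [Algebra R B] [Algebra R C]
    (i : A →ₐ[R] B) (j : A →ₐ[R] C)
    (hinj : ∀ t : A, i t = 0 → j t = 0 → t = 0)
    (c : B) (hc : c ∈ nonZeroDivisors B) (u : C →+* B ⧸ Ideal.span ({c} : Set B))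
    (hu : ∀ t : A, u (j t) = Ideal.Quotient.mk (Ideal.span ({c} : Set B)) (i t))
    (ζ : A) (hiζ : i ζ = c) (hjζ : j ζ = 0)
    {σ τ ιp ιq ιv : Type y}
    (η : MvPolynomial (Option σ) R →ₐ[R] A) (hη : η (MvPolynomial.X none) = ζ)
    (a : MvPolynomial τ R →ₐ[R] B) (ha : Function.Surjective a)
    (ηZ : MvPolynomial (Option σ) R →ₐ[R] MvPolynomial τ R)
    (hcomm : ∀ t, a (ηZ t) = i (η t)) (hηZ : Function.Surjective ηZ)
    (cZ : MvPolynomial τ R) (hcZ : a cZ = c)
    (p : ιp → MvPolynomial σ R)
    (hp : Ideal.span (Set.range p) =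
      RingHom.ker ((j.comp η).comp (MvPolynomial.rename (Option.some : σ → Option σ))))
    (q' : ιq → MvPolynomial τ R) (hq' : Ideal.span (Set.range q') = RingHom.ker a)
    (q : ιq → MvPolynomial (Option σ) R) (hq : ∀ h, ηZ (q h) = q' h)
    (v : ιv → MvPolynomial (Option σ) R) (hv : Ideal.span (Set.range v) = RingHom.ker ηZ)
    (g' : ιp → MvPolynomial τ R)
    (hg' : ∀ h, ηZ (MvPolynomial.rename (Option.some : σ → Option σ) (p h)) + g' h * cZ ∈
      Ideal.span (Set.range q'))
    (g : ιp → MvPolynomial (Option σ) R) (hg : ∀ h, ηZ (g h) = g' h) :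
    RingHom.ker η = Ideal.span
      (Set.range (fun h : ιq => MvPolynomial.X none * q h) ∪
        Set.range (fun h : ιv => MvPolynomial.X none * v h) ∪
        Set.range (fun h : ιp =>
          MvPolynomial.rename (Option.some : σ → Option σ) (p h) + MvPolynomial.X none * g h)) := by
  classical
  set J : Ideal (MvPolynomial (Option σ) R) := Ideal.span
      (Set.range (fun h : ιq => MvPolynomial.X none * q h) ∪
        Set.range (fun h : ιv => MvPolynomial.X none * v h) ∪
        Set.range (fun h : ιp =>
          MvPolynomial.rename (Option.some : σ → Option σ) (p h) + MvPolynomial.X none * g h))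
    with hJ
  have g1 : ∀ h, MvPolynomial.X none * q h ∈ J := fun h =>
    Ideal.subset_span (Or.inl (Or.inl ⟨h, rfl⟩))
  have g2 : ∀ h, MvPolynomial.X none * v h ∈ J := fun h =>
    Ideal.subset_span (Or.inl (Or.inr ⟨h, rfl⟩))
  have g3 : ∀ h, MvPolynomial.rename (Option.some : σ → Option σ) (p h) +
      MvPolynomial.X none * g h ∈ J := fun h => Ideal.subset_span (Or.inr ⟨h, rfl⟩)
  -- decomposition of a polynomial
  have decomp : ∀ F : MvPolynomial (Option σ) R, ∃ (F₀ : MvPolynomial σ R)
      (F₁ : MvPolynomial (Option σ) R),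
      F = MvPolynomial.rename (Option.some : σ → Option σ) F₀ + MvPolynomial.X none * F₁ := by
    intro F
    induction F using MvPolynomial.induction_on with
    | C r => exact ⟨MvPolynomial.C r, 0, by simp⟩
    | add p₁ p₂ h₁ h₂ =>
      obtain ⟨a₀, a₁, ha⟩ := h₁
      obtain ⟨b₀, b₁, hb⟩ := h₂
      refine ⟨a₀ + b₀, a₁ + b₁, ?_⟩
      rw [ha, hb, map_add]
      ring
    | mul_X p₁ n h₁ =>
      obtain ⟨a₀, a₁, ha⟩ := h₁
      cases n with
      | none =>
        refine ⟨0, p₁, ?_⟩
        rw [map_zero, zero_add, mul_comm]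
      | some n =>
        refine ⟨a₀ * MvPolynomial.X n, a₁ * MvPolynomial.X (some n), ?_⟩
        rw [ha, map_mul, MvPolynomial.rename_X]
        ring
  -- J ≤ ker η
  have hle : J ≤ RingHom.ker η := by
    rw [hJ, Ideal.span_le]
    rintro x ((⟨h, rfl⟩ | ⟨h, rfl⟩) | ⟨h, rfl⟩)
    · show η _ = 0
      apply hinj
      · have hq0 : a (q' h) = 0 := by
          have : q' h ∈ RingHom.ker a := hq' ▸ Ideal.subset_span ⟨h, rfl⟩
          exact this
        rw [map_mul, map_mul, hη, hiζ, ← hcomm, hq, hq0, mul_zero]
      · rw [map_mul, map_mul, hη, hjζ, zero_mul]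
    · show η _ = 0
      apply hinj
      · have hv0 : ηZ (v h) = 0 := by
          have : v h ∈ RingHom.ker ηZ := hv ▸ Ideal.subset_span ⟨h, rfl⟩
          exact this
        rw [map_mul, map_mul, hη, hiζ, ← hcomm, hv0, map_zero, mul_zero]
      · rw [map_mul, map_mul, hη, hjζ, zero_mul]
    · show η _ = 0
      apply hinj
      · have h0 : a (ηZ (MvPolynomial.rename (Option.some : σ → Option σ) (p h)) + g' h * cZ) = 0 := by
          have : ηZ (MvPolynomial.rename (Option.some : σ → Option σ) (p h)) + g' h * cZ ∈
              RingHom.ker a := hq' ▸ hg' h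
          exact this
        rw [map_add, map_mul, map_add, map_mul, hη, hiζ, ← hcomm, ← hcomm, hg]
        rw [map_add, map_mul, hcZ] at h0
        rw [← h0]
        ring
      · have hp0 : j (η (MvPolynomial.rename (Option.some : σ → Option σ) (p h))) = 0 := by
          have : p h ∈ RingHom.ker ((j.comp η).comp
              (MvPolynomial.rename (Option.some : σ → Option σ))) :=
            hp ▸ Ideal.subset_span ⟨h, rfl⟩
          exact this
        rw [map_add, map_add, hp0, map_mul, map_mul, hη, hjζ, zero_mul, add_zero]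
  -- (C)
  have hC : ∀ G ∈ Ideal.span (Set.range v), MvPolynomial.X none * G ∈ J := by
    intro G hG
    induction hG using Submodule.span_induction with
    | mem x hx =>
      obtain ⟨h, rfl⟩ := hx
      exact g2 h
    | zero => rw [mul_zero]; exact J.zero_mem
    | add x y _ _ hx hy => rw [mul_add]; exact J.add_mem hx hy
    | smul r x _ hx =>
      rw [smul_eq_mul, mul_left_comm]
      exact J.mul_mem_left r hx
  -- (B)
  have hB : ∀ y ∈ Ideal.span (Set.range q'), ∀ G, ηZ G = y → MvPolynomial.X none * G ∈ J := by
    intro y hy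
    induction hy using Submodule.span_induction with
    | mem x hx =>
      obtain ⟨h, rfl⟩ := hx
      intro G hG
      have h1 : G - q h ∈ Ideal.span (Set.range v) := by
        rw [hv, RingHom.mem_ker, map_sub, hG, hq, sub_self]
      have h2 := J.add_mem (hC _ h1) (g1 h)
      rw [← mul_add, sub_add_cancel] at h2
      exact h2
    | zero =>
      intro G hG
      exact hC G (by rw [hv, RingHom.mem_ker, hG])
    | add x y _ _ hx hy =>
      intro G hG
      obtain ⟨G₁, hG₁⟩ := hηZ x
      have h1 := hx G₁ hG₁
      have h2 := hy (G - G₁) (by rw [map_sub, hG, hG₁, add_sub_cancel_left])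
      have h3 := J.add_mem h1 h2
      rw [← mul_add, add_sub_cancel] at h3
      exact h3
    | smul s x _ hx =>
      intro G hG
      obtain ⟨S, hS⟩ := hηZ s
      obtain ⟨G', hG'⟩ := hηZ x
      have h1 := hx G' hG'
      have h2 : G - S * G' ∈ Ideal.span (Set.range v) := by
        rw [hv, RingHom.mem_ker, map_sub, hG, map_mul, hS, hG', smul_eq_mul, sub_self]
      have h3 := J.add_mem (hC _ h2) (J.mul_mem_left S h1)
      have h4 : MvPolynomial.X none * (G - S * G') + S * (MvPolynomial.X none * G') =
          MvPolynomial.X none * G := by ring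
      rw [h4] at h3
      exact h3
  -- (A)
  have hA : ∀ F₀ ∈ Ideal.span (Set.range p), ∃ G₁ : MvPolynomial (Option σ) R,
      MvPolynomial.rename (Option.some : σ → Option σ) F₀ + MvPolynomial.X none * G₁ ∈ J := by
    intro F₀ hF₀
    induction hF₀ using Submodule.span_induction with
    | mem x hx =>
      obtain ⟨h, rfl⟩ := hx
      exact ⟨g h, g3 h⟩
    | zero => exact ⟨0, by rw [map_zero, mul_zero, add_zero]; exact J.zero_mem⟩
    | add x y _ _ hx hy =>
      obtain ⟨G₁, h₁⟩ := hx
      obtain ⟨G₂, h₂⟩ := hy
      refine ⟨G₁ + G₂, ?_⟩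
      have h3 := J.add_mem h₁ h₂
      have h4 : MvPolynomial.rename (Option.some : σ → Option σ) x + MvPolynomial.X none * G₁ +
          (MvPolynomial.rename (Option.some : σ → Option σ) y + MvPolynomial.X none * G₂) =
          MvPolynomial.rename (Option.some : σ → Option σ) (x + y) +
            MvPolynomial.X none * (G₁ + G₂) := by
        rw [map_add]; ring
      rw [h4] at h3
      exact h3
    | smul r x _ hx =>
      obtain ⟨G₁, h₁⟩ := hx
      refine ⟨MvPolynomial.rename (Option.some : σ → Option σ) r * G₁, ?_⟩
      have h3 := J.mul_mem_left (MvPolynomial.rename (Option.some : σ → Option σ) r) h₁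
      have h4 : MvPolynomial.rename (Option.some : σ → Option σ) r *
          (MvPolynomial.rename (Option.some : σ → Option σ) x + MvPolynomial.X none * G₁) =
          MvPolynomial.rename (Option.some : σ → Option σ) (r • x) +
            MvPolynomial.X none * (MvPolynomial.rename (Option.some : σ → Option σ) r * G₁) := by
        rw [smul_eq_mul, map_mul]; ring
      rw [h4] at h3
      exact h3
  apply le_antisymm _ hle
  intro F hF
  rw [RingHom.mem_ker] at hF
  obtain ⟨F₀, F₁, hFd⟩ := decomp F
  have hF₀ : F₀ ∈ Ideal.span (Set.range p) := by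
    rw [hp, RingHom.mem_ker]
    show j (η (MvPolynomial.rename (Option.some : σ → Option σ) F₀)) = 0
    have h1 : j (η F) = 0 := by rw [hF, map_zero]
    rw [hFd, map_add, map_add, map_mul, map_mul, hη, hjζ, zero_mul, add_zero] at h1
    exact h1
  obtain ⟨G₁, hG₁⟩ := hA F₀ hF₀
  have hFeq : F = (MvPolynomial.rename (Option.some : σ → Option σ) F₀ + MvPolynomial.X none * G₁)
      + MvPolynomial.X none * (F₁ - G₁) := by
    rw [hFd]; ring
  have hZG : η (MvPolynomial.X none * (F₁ - G₁)) = 0 := by
    have h1 : η (MvPolynomial.rename (Option.some : σ → Option σ) F₀ +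
        MvPolynomial.X none * G₁) = 0 := hle hG₁
    have h2 := hF
    rw [hFeq, map_add, h1, zero_add] at h2
    exact h2
  have hiG : i (η (F₁ - G₁)) = 0 := by
    have h1 : i (η (MvPolynomial.X none * (F₁ - G₁))) = 0 := by rw [hZG, map_zero]
    rw [map_mul, map_mul, hη, hiζ] at h1
    exact hc.1 _ h1
  have hmem : ηZ (F₁ - G₁) ∈ Ideal.span (Set.range q') := by
    rw [hq', RingHom.mem_ker, hcomm, hiG]
  rw [hFeq]
  exact J.add_mem hG₁ (hB _ hmem _ rfl)

end Groth.Agent.S14309
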