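import Groth.Statements.S14312
import Groth.Agent.Lib.Helper20.QSingD

set_option autoImplicit false
universe u
open Curves

namespace Groth.Agent.S14312


theorem result
    {k : Type u} [Field k] [IsAlgClosed k] (f : MvPolynomial (Fin 3) k)
    (hf : f.IsHomogeneous 4) (hred : Squarefree f) :
    ∃ s : Finset (Projectivization k (Fin 3 → k)), s.card ≤ 6 ∧
      ∀ p : Projectivization k (Fin 3 → k),
        MvPolynomial.eval p.rep f = 0 →
          (∀ i : Fin 3, MvPolynomial.eval p.rep (MvPolynomial.pderiv i f) = 0) → p ∈ s := by
  exact Groth.Agent.Helper20.QSingD.main f hf hred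

end Groth.Agent.S14312
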