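import Groth.Statements.S14338
import Groth.Agent.Lib.Helper21.FibDim

set_option autoImplicit false
universe u
open CAlg

namespace Groth.Agent.S14338

/-- Let B be a Noetherian ring, K and K' finitely generated flat B-modules and φ : K → K' a B-linear
map; for a prime y of B write κ(y) for its residue field and φ_y for the base change κ(y) ⊗ K → κ(y)
⊗ K'. Assume B is reduced and the number dim_{κ(y)} Im(φ_y) is the same for all primes y of B. Then
the cokernel K'/Im φ and the image Im φ are projective (locally free) B-modules. -/
theorem result (B : Type u) [CommRing B] [IsNoetherianRing B] (K K' : Type u) [AddCommGroup K] [Module B K] [Module.Finite B K] [Module.Flat B K] [AddCommGroup K'] [Module B K'] [Module.Finite B K'] [Module.Flat B K'] (φ : K →ₗ[B] K') [IsReduced B] (hconst : ∃ c : ℕ, ∀ y : PrimeSpectrum B, Module.finrank y.asIdeal.ResidueField ↥(LinearMap.range (φ.baseChange y.asIdeal.ResidueField)) = c) : Module.Projective B (K' ⧸ LinearMap.range φ) ∧ Module.Projective B ↥(LinearMap.range φ) := by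
  obtain ⟨c, hc⟩ := hconst
  have h1 := Groth.Agent.Helper21.FD.coker_projective_of_const_rank φ c hc
  have hK'fp : Module.FinitePresentation B K' := Module.finitePresentation_of_finite B K'
  have hK'proj : Module.Projective B K' := Module.Flat.projective_of_finitePresentation
  exact ⟨h1, Groth.Agent.Helper21.FD.range_projective_of_coker φ h1⟩

end Groth.Agent.S14338
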