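import Groth.Statements.S1434
-- import your own Groth.Agent.* helpers here

set_option autoImplicit false
universe u
open FlatMor

namespace Groth.Agent.S1434

open AlgebraicGeometry CategoryTheory Limits in
/-- Part (1), for a closed subscheme: let Z ⊂ X be the closed subscheme cut out by an ideal sheaf I and
Z' the one cut out by I², its first order infinitesimal neighbourhood. Given a first order
thickening T → T', a morphism a : T → Z and a morphism b : T' → X compatible with them, there is a
unique morphism T' → Z' through which b factors (compatibility with a is then automatic). -/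
theorem result {X T T' : Scheme.{u}} (I : X.IdealSheafData) (t : T ⟶ T') (ht : MoreMor.IsFirstOrderThickening t)
    (a : T ⟶ I.subscheme) (b : T' ⟶ X) (w : a ≫ I.subschemeι = t ≫ b) :
    ∃! a' : T' ⟶ (I ^ 2).subscheme, a' ≫ (I ^ 2).subschemeι = b := by
  obtain ⟨⟨hcl, hsurj⟩, hker⟩ := ht
  have hle : ((I ^ 2).subschemeι).ker ≤ b.ker := by
    rw [Scheme.IdealSheafData.ker_subschemeι]
    refine Scheme.IdealSheafData.le_ofIdeals_iff.mpr ?_
    intro U
    rw [Scheme.IdealSheafData.ideal_pow, Pi.pow_apply, sq, Ideal.mul_le]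
    intro s₁ hs₁ s₂ hs₂
    rw [RingHom.mem_ker, map_mul]
    have hy : ∀ s ∈ I.ideal U, (t.app (b ⁻¹ᵁ U.1)).hom ((b.app U.1).hom s) = 0 := by
      intro s hs
      have h1 : (t.app (b ⁻¹ᵁ U.1)).hom ((b.app U.1).hom s) = ((t ≫ b).app U.1).hom s := rfl
      rw [h1]
      have h2 : ∀ (g : T ⟶ X), g = a ≫ I.subschemeι → (g.app U.1).hom s = 0 := by
        rintro g rfl
        have h3 : ((a ≫ I.subschemeι).app U.1).hom s =
            (a.app (I.subschemeι ⁻¹ᵁ U.1)).hom ((I.subschemeι.app U.1).hom s) := rfl
        have h4 : (I.subschemeι.app U.1).hom s = 0 := by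
          rw [← RingHom.mem_ker, Scheme.IdealSheafData.ker_subschemeι_app]
          exact hs
        exact h3.trans (by rw [h4]; exact map_zero _)
      exact h2 (t ≫ b) w.symm
    refine T'.IsSheaf.section_ext ?_
    intro x hx
    obtain ⟨_, ⟨W, hW, rfl⟩, hxW, hWU⟩ :=
      T'.isBasis_affineOpens.exists_subset_of_mem_open hx (b ⁻¹ᵁ U.1).isOpen
    refine ⟨W, hWU, hxW, ?_⟩
    rw [map_mul, map_zero]
    have hz : ∀ s ∈ I.ideal U, (T'.presheaf.map (homOfLE hWU).op).hom ((b.app U.1).hom s) ∈
        t.ker.ideal ⟨W, hW⟩ := by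
      intro s hs
      rw [Scheme.Hom.ker_apply, RingHom.mem_ker]
      have h5 := t.naturality (homOfLE hWU).op
      have h6 := congr($h5 ((b.app U.1).hom s))
      refine Eq.trans h6 ?_
      have h7 := hy s hs
      show (((TopCat.Presheaf.pushforward CommRingCat t.base).obj T.presheaf).map
        (homOfLE hWU).op).hom ((t.app (b ⁻¹ᵁ U.1)).hom ((b.app U.1).hom s)) = 0
      rw [h7, map_zero]
    have := Ideal.mul_mem_mul (hz s₁ hs₁) (hz s₂ hs₂)
    rw [← Pi.mul_apply, ← Scheme.IdealSheafData.ideal_mul, hker, Scheme.IdealSheafData.ideal_bot,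
      Pi.bot_apply, Ideal.mem_bot] at this
    exact this
  refine ⟨IsClosedImmersion.lift _ b hle, IsClosedImmersion.lift_fac _ _ _, ?_⟩
  intro a' ha'
  rw [← cancel_mono (I ^ 2).subschemeι, ha', IsClosedImmersion.lift_fac]

end Groth.Agent.S1434
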