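import Groth.Statements.S14345
import Mathlib
import Groth.Agent.Lib.Helper10.FittingE

set_option autoImplicit false
universe u v
open TensorProduct
open QuotLF

namespace Groth.Agent.S14345

section helpers
open Groth.Agent.Lib.Helper10.Fitting


/-- finite projective of constant rank `k`: lower Fitting ideals vanish -/
lemma fitt_eq_bot_of_rankAtStalk {A : Type u} [CommRing A] (Q : Type*) [AddCommGroup Q] [Module A Q]
    [Module.Finite A Q] [Module.Projective A Q] (k : ℕ)
    (hk : ∀ p, Module.rankAtStalk (R := A) Q p = k) (j : ℕ) (hj : j < k) :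
    Fitt.ideal A Q j = ⊥ := by
  rw [eq_bot_iff]
  intro d hd
  rw [Ideal.mem_bot]
  by_contra hd0
  let I : Ideal A := LinearMap.ker (LinearMap.toSpanSingleton A A d)
  have hI : I ≠ ⊤ := by
    intro hI
    have : (1 : A) ∈ I := by rw [hI]; trivial
    rw [LinearMap.mem_ker, LinearMap.toSpanSingleton_apply, one_smul] at this
    exact hd0 this
  obtain ⟨p, hpmax, hIp⟩ := Ideal.exists_le_maximal I hI
  have hpp := hpmax.isPrime
  have hfree : Module.Free (Localization.AtPrime p) (LocalizedModule p.primeCompl Q) :=
    Module.free_of_flat_of_isLocalRing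
  have hrank : Module.finrank (Localization.AtPrime p) (LocalizedModule p.primeCompl Q) = k :=
    hk ⟨p, hpp⟩
  have b := Module.finBasisOfFinrankEq (Localization.AtPrime p)
    (LocalizedModule p.primeCompl Q) hrank
  have h1 := (fitt_of_basis b j).1 hj
  rw [fitt_isBaseChange (Localization.AtPrime p) (LocalizedModule.mkLinearMap p.primeCompl Q)
    (IsLocalizedModule.isBaseChange p.primeCompl _ _)] at h1
  have h2 : algebraMap A (Localization.AtPrime p) d = 0 := by
    have := Ideal.mem_map_of_mem (algebraMap A (Localization.AtPrime p)) hd
    rwa [h1, Ideal.mem_bot] at this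
  rw [IsLocalization.map_eq_zero_iff p.primeCompl] at h2
  obtain ⟨⟨u, hu⟩, hud⟩ := h2
  have h3 : u ∈ I := by
    rw [LinearMap.mem_ker, LinearMap.toSpanSingleton_apply, smul_eq_mul]
    exact hud
  exact hu (hIp h3)

theorem main (R : Type u) [CommRing R]
    (M : Type v) [AddCommGroup M] [Module R M] [Module.Finite R M] (k : ℕ)
    (A : Type u) [CommRing A] [Algebra R A] (N : Module.Grassmannian A (A ⊗[R] M) k)
    (j : ℕ) (hj : j < k) :
    (Fitt.ideal R M j).map (algebraMap R A) = ⊥ := by
  rw [← fitt_baseChange A j, eq_bot_iff]
  refine le_trans (fitt_le_of_surjective N.toSubmodule.mkQ N.toSubmodule.mkQ_surjective j) ?_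
  rw [fitt_eq_bot_of_rankAtStalk _ k N.rankAtStalk_eq j hj]

end helpers

/-- Let R be a commutative ring, M a finitely generated R-module and k ≥ 0. If for an R-algebra A the
module A ⊗_R M admits a quotient that is finite projective of constant rank k (an A-valued point of
the Quot scheme of rank-k locally free quotients of M), then every Fitting ideal Fit_j(M) with j < k
extends to the zero ideal of A; that is, the structure map of the Quot scheme of rank-k locally free
quotients factors through the closed subscheme cut out by Fit_{k-1}(M). -/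
theorem result (R : Type u) [CommRing R]
    (M : Type v) [AddCommGroup M] [Module R M] [Module.Finite R M] (k : ℕ)
    (A : Type u) [CommRing A] [Algebra R A] (N : Module.Grassmannian A (A ⊗[R] M) k)
    (j : ℕ) (hj : j < k) :
    (Fitt.ideal R M j).map (algebraMap R A) = ⊥ := by
  exact main R M k A N j hj

end Groth.Agent.S14345
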