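import Groth.Statements.S14346
-- import your own Groth.Agent.* helpers here

set_option autoImplicit false
universe u v
open TensorProduct
open QuotLF

namespace Groth.Agent.S14346

/-- Let R be a commutative ring, M an R-module, k ≥ 0, and A an R-algebra for which A ⊗_R M is finite
projective of constant rank k, i.e. Spec A → Spec R factors through the locally closed stratum where
M is locally free of rank k. Then A ⊗_R M has exactly one rank-k locally free quotient: the zero
submodule has finite projective quotient of constant rank k, and every submodule with such a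
quotient is zero. In other words the Quot scheme of rank-k locally free quotients of M restricted to
that stratum maps isomorphically onto it. -/
theorem result (R : Type u) [CommRing R]
    (M : Type v) [AddCommGroup M] [Module R M] (k : ℕ)
    (A : Type u) [CommRing A] [Algebra R A] [Module.Finite A (A ⊗[R] M)] [Module.Projective A (A ⊗[R] M)]
    (hk : ∀ p : PrimeSpectrum A, Module.rankAtStalk (R := A) (A ⊗[R] M) p = k) :
    (∃ N : Module.Grassmannian A (A ⊗[R] M) k, N.toSubmodule = ⊥) ∧
      ∀ N : Module.Grassmannian A (A ⊗[R] M) k, N.toSubmodule = ⊥ := by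
  have hbot : ∃ N : Module.Grassmannian A (A ⊗[R] M) k, N.toSubmodule = ⊥ := by
    let e : ((A ⊗[R] M) ⧸ (⊥ : Submodule A (A ⊗[R] M))) ≃ₗ[A] (A ⊗[R] M) :=
      Submodule.quotEquivOfEqBot ⊥ rfl
    refine ⟨⟨⊥, Module.Finite.equiv e.symm, Module.Projective.of_equiv e.symm, fun p => ?_⟩, rfl⟩
    rw [Module.rankAtStalk_eq_of_equiv e]; exact hk p
  refine ⟨hbot, fun N => ?_⟩
  obtain ⟨l, hl⟩ := Module.projective_lifting_property N.toSubmodule.mkQ LinearMap.id
    (Submodule.mkQ_surjective _)
  have hex := LinearMap.exact_subtype_mkQ N.toSubmodule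
  obtain ⟨e, -, -⟩ := hex.splitSurjectiveEquiv (Submodule.injective_subtype _) ⟨l, hl⟩
  have : Module.Finite A N.toSubmodule :=
    Module.Finite.of_surjective ((LinearMap.fst A N.toSubmodule
      ((A ⊗[R] M) ⧸ N.toSubmodule)).comp e.toLinearMap)
      ((LinearMap.fst_surjective (R := A) (M := N.toSubmodule)
        (M₂ := (A ⊗[R] M) ⧸ N.toSubmodule)).comp e.surjective)
  have : Module.Projective A (N.toSubmodule × ((A ⊗[R] M) ⧸ N.toSubmodule)) :=
    Module.Projective.of_equiv e
  have : Module.Projective A N.toSubmodule :=
    Module.Projective.of_split (LinearMap.inl A N.toSubmodule ((A ⊗[R] M) ⧸ N.toSubmodule))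
      (LinearMap.fst A N.toSubmodule ((A ⊗[R] M) ⧸ N.toSubmodule)) (by ext; simp)
  have hr : Module.rankAtStalk (R := A) N.toSubmodule = 0 := by
    ext p
    have h1 := congrFun (Module.rankAtStalk_eq_of_equiv (R := A) (M := A ⊗[R] M)
      (N := N.toSubmodule × ((A ⊗[R] M) ⧸ N.toSubmodule)) e) p
    rw [Module.rankAtStalk_prod] at h1
    simp only [Pi.add_apply] at h1
    rw [hk p, N.rankAtStalk_eq p] at h1
    simp only [Pi.zero_apply]
    omega
  have := Module.rankAtStalk_eq_zero_iff_subsingleton.mp hr
  exact Submodule.subsingleton_iff_eq_bot.mp this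

end Groth.Agent.S14346
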