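import Groth.Statements.S6889
import Mathlib
import Groth.Agent.Lib.Helper10.Fitting

set_option autoImplicit false
universe u
open Fitt

namespace Groth.Agent.S6889

section helpers
open Groth.Agent.Lib.Helper10.Fitting
open Matrix Finset

variable {R : Type*} [CommRing R] {M : Type*} [AddCommGroup M] [Module R M]

/-- ideal of `s × s` minors of relation matrices -/
def Imin {n : ℕ} (x : Fin n → M) (s : ℕ) : Ideal R :=
  Ideal.span {d | ∃ (z : Fin s → (Fin n → R)) (e : Fin s → Fin n),
    (∀ j, ∑ i, z j i • x i = 0) ∧ d = (Matrix.of fun a b => z b (e a)).det}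

lemma G' {n : ℕ} (x : Fin n → M) : ∀ (k m : ℕ) (a : Matrix (Fin m) (Fin m) R) (c : Fin m → Fin n),
    (∀ i : Fin m, (i : ℕ) < m - k → ∃ z : Fin n → R, IsRel x z ∧ ∀ j, a i j = z (c j)) →
    a.det ∈ Imin (R := R) x (m - k) := by
  intro k
  induction k with
  | zero =>
    intro m a c h
    have h' : ∀ i : Fin m, ∃ z : Fin n → R, IsRel x z ∧ ∀ j, a i j = z (c j) :=
      fun i => h i (by simp)
    choose z hz hza using h'
    refine Ideal.subset_span ⟨z, c, hz, ?_⟩
    rw [← det_transpose]
    congr 1
    ext i j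
    simp [hza]
  | succ k ih =>
    intro m a c h
    cases m with
    | zero =>
      rw [Nat.zero_sub]
      refine Ideal.subset_span ⟨fun i => i.elim0, fun i => i.elim0, fun i => i.elim0, ?_⟩
      simp
    | succ m =>
      rw [det_succ_row a (Fin.last m)]
      refine Ideal.sum_mem _ (fun j _ => Ideal.mul_mem_left _ _ ?_)
      have := ih m (a.submatrix (Fin.last m).succAbove j.succAbove) (c ∘ j.succAbove) ?_
      · rwa [Nat.succ_sub_succ]
      · intro l hl
        obtain ⟨z, hz, hza⟩ := h (Fin.castSucc l) (by simp; omega)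
        refine ⟨z, hz, fun q => ?_⟩
        simp [hza]

lemma Jo_le_Imin {n : ℕ} (x : Fin n → M) (k : ℕ) : Jo (R := R) x k ≤ Imin x (n - k) := by
  refine Ideal.span_le.2 ?_
  rintro d ⟨a, hrel, rfl⟩
  exact G' x k n a id (fun i hi => ⟨a i, hrel i hi, fun j => rfl⟩)

open Groth.Agent.Lib.Helper10.Fitting
open Matrix Finset

variable {R : Type*} [CommRing R] {M : Type*} [AddCommGroup M] [Module R M]

/-- relation rows on top, identity rows below -/
def Amat {s k : ℕ} (z : Fin s → Fin (s + k) → R) : Matrix (Fin (s + k)) (Fin (s + k)) R :=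
  fun i j => if h : (i : ℕ) < s then z ⟨i, h⟩ j else if i = j then 1 else 0

lemma det_Amat : ∀ (k s : ℕ) (z : Fin s → Fin (s + k) → R),
    (Amat z).det = (Matrix.of fun a b : Fin s => z a (Fin.castAdd k b)).det := by
  intro k
  induction k with
  | zero =>
    intro s z
    congr 1
    ext i j
    simp [Amat, i.2]
  | succ k ih =>
    intro s z
    have h1 := det_succ_row (n := s + k) (Amat z) (Fin.last (s + k))
    rw [h1, Finset.sum_eq_single (Fin.last (s + k))]
    · have h2 : (Amat z) (Fin.last (s + k)) (Fin.last (s + k)) = 1 := by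
        simp [Amat]
      have h3 : (Amat z).submatrix (Fin.last (s + k)).succAbove (Fin.last (s + k)).succAbove =
          Amat (fun b j => z b (Fin.castSucc j)) := by
        ext i j
        simp [Amat, Fin.succAbove_last]
      rw [h2, h3, ih]
      have h4 : ((-1 : R)) ^ (((Fin.last (s + k) : Fin (s + k + 1)) : ℕ) + ((Fin.last (s + k) : Fin (s + k + 1)) : ℕ)) = 1 :=
        Even.neg_one_pow ⟨_, rfl⟩
      rw [h4]
      simp
      rfl
    · intro j _ hj
      have : (Amat z) (Fin.last (s + k)) j = 0 := by
        simp [Amat, Ne.symm hj]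
      rw [this]; simp
    · intro h; exact absurd (Finset.mem_univ _) h

lemma minor_mem_Jo {s k : ℕ} (x : Fin (s + k) → M) (z : Fin s → Fin (s + k) → R)
    (hz : ∀ b, IsRel x (z b)) :
    (Matrix.of fun a b : Fin s => z b (Fin.castAdd k a)).det ∈ Jo (R := R) x k := by
  have h1 : (Matrix.of fun a b : Fin s => z b (Fin.castAdd k a)).det = (Amat z).det := by
    rw [det_Amat, ← det_transpose]
    rfl
  rw [h1]
  refine Ideal.subset_span ⟨Amat z, ?_, rfl⟩
  intro i hi
  have hi' : (i : ℕ) < s := by omega
  have : Amat z i = z ⟨i, hi'⟩ := by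
    funext j
    simp [Amat, hi']
  rw [this]
  exact hz _

lemma exists_equiv_extend {n s k : ℕ} (h : s + k = n) (e : Fin s → Fin n) (he : Function.Injective e) :
    ∃ E : Fin (s + k) ≃ Fin n, ∀ a : Fin s, E (Fin.castAdd k a) = e a := by
  classical
  let e1 : {i : Fin n // (i : ℕ) < s} ≃ Fin s :=
    { toFun := fun i => ⟨i.1, i.2⟩
      invFun := fun a => ⟨⟨a, by omega⟩, a.2⟩
      left_inv := fun i => rfl
      right_inv := fun a => rfl }
  let e2 : Fin s ≃ {j : Fin n // j ∈ Set.range e} := Equiv.ofInjective e he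
  let σ : Equiv.Perm (Fin n) := (e1.trans e2).extendSubtype
  refine ⟨(finCongr h).trans σ, fun a => ?_⟩
  have ha : ((finCongr h (Fin.castAdd k a) : Fin n) : ℕ) < s := by simp
  have := (e1.trans e2).extendSubtype_apply_of_mem (finCongr h (Fin.castAdd k a)) ha
  simp only [Equiv.trans_apply]
  rw [this]
  simp [e1, e2]

lemma Imin_le_Jf {n : ℕ} (x : Fin n → M) (k : ℕ) : Imin (R := R) x (n - k) ≤ Jf x k := by
  by_cases hk : n ≤ k
  · have : (1 : R) ∈ Jf (R := R) x k := by
      refine Ideal.subset_span ⟨1, Finset.univ, by simpa using hk, fun i hi => absurd (Finset.mem_univ i) hi, by simp⟩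
    rw [(Ideal.eq_top_iff_one _).2 this]
    exact le_top
  · have hsk : (n - k) + k = n := by omega
    refine Ideal.span_le.2 ?_
    rintro d ⟨z, e, hz, rfl⟩
    by_cases he : Function.Injective e
    · obtain ⟨E, hE⟩ := exists_equiv_extend hsk e he
      have h1 : (Matrix.of fun a b => z b (e a)).det =
          (Matrix.of fun a b : Fin (n - k) => (fun b => z b ∘ E) b (Fin.castAdd k a)).det := by
        congr 1
        ext a b
        simp [hE]
      have h2 := minor_mem_Jo (R := R) (x ∘ E) (fun b => z b ∘ E) (fun b => by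
        unfold IsRel
        rw [← hz b]
        exact Fintype.sum_equiv E _ _ (fun j => rfl))
      rw [Jo_eq_Jf, Jf_comp] at h2
      rw [SetLike.mem_coe, h1]
      exact h2
    · have : ∃ a a', a ≠ a' ∧ e a = e a' := by
        by_contra hcon
        push Not at hcon
        apply he
        intro a a' haa
        by_contra hne
        exact hcon a a' hne haa
      obtain ⟨a, a', hne, haa⟩ := this
      have : (Matrix.of fun a b => z b (e a)).det = 0 := by
        refine det_zero_of_row_eq hne ?_
        funext b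
        simp [haa]
      rw [SetLike.mem_coe, this]
      exact Ideal.zero_mem _

theorem main {R : Type*} [CommRing R] {M : Type*} [AddCommGroup M] [Module R M]
    {n : ℕ} (x : Fin n → M) (hx : Submodule.span R (Set.range x) = ⊤) (k : ℕ) :
    Fitt.ideal R M k = Ideal.span {d | ∃ (z : Fin (n - k) → (Fin n → R)) (e : Fin (n - k) → Fin n),
      (∀ j, ∑ i, z j i • x i = 0) ∧ d = (Matrix.of fun a b => z b (e a)).det} := by
  change Fitt.ideal R M k = Imin x (n - k)
  apply le_antisymm
  · rw [fitt_eq_Jo x hx]
    exact Jo_le_Imin x k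
  · rw [fitt_eq_Jf x hx]
    exact Imin_le_Jf x k


end helpers

/-- Let `M` be an `R`-module generated by `x_1, …, x_n`. Then `Fit_k(M)` equals the ideal spanned by all
`(n-k) × (n-k)` determinants of matrices whose `n - k` rows are relation vectors among the `x_i`
(rows selected by any map `Fin (n-k) → Fin n`); in particular it does not depend on the generating
tuple. -/
theorem result {R : Type u} [CommRing R] {M : Type u} [AddCommGroup M] [Module R M]
    {n : ℕ} (x : Fin n → M) (hx : Submodule.span R (Set.range x) = ⊤) (k : ℕ) :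
    Fitt.ideal R M k = Ideal.span {d | ∃ (z : Fin (n - k) → (Fin n → R)) (e : Fin (n - k) → Fin n),
      (∀ j, ∑ i, z j i • x i = 0) ∧ d = (Matrix.of fun a b => z b (e a)).det} := by
  exact main x hx k

end Groth.Agent.S6889
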