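import Groth.Statements.S14347
import Mathlib
import Groth.Agent.S6889
import Groth.Agent.Lib.Helper22.MinorIdeal

set_option autoImplicit false
universe u
open QuotLF

namespace Groth.Agent.S14347

open Matrix in

/-- Let R be a commutative ring and σ : R^m → R^n an injective linear map with cokernel M, so that M has
a length-one resolution by finite free modules and rank δ = n − m; let K be the cokernel of the dual
map (R^n)^∨ → (R^m)^∨, which is the module Ext¹_R(M, R). Then the Fitting ideals satisfy Fit_{δ +
j}(M) = Fit_j(K) for all j ≥ 0, and Fit_i(M) = 0 for i < δ (the degeneracy loci of M and of K agree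
after the shift by δ). -/
theorem result (R : Type u) [CommRing R] (m n : ℕ)
    (σ : (Fin m → R) →ₗ[R] (Fin n → R)) (hσ : Function.Injective σ) :
    (∀ j : ℕ, Fitt.ideal R ((Fin n → R) ⧸ LinearMap.range σ) (n - m + j) =
        Fitt.ideal R (Module.Dual R (Fin m → R) ⧸ LinearMap.range σ.dualMap) j) ∧
      ∀ i : ℕ, i < n - m → Fitt.ideal R ((Fin n → R) ⧸ LinearMap.range σ) i = ⊥ := by
  classical
  rcases subsingleton_or_nontrivial R with hR | hR
  · have hsub : ∀ I J : Ideal R, I = J := by
      intro I J
      ext r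
      rw [Subsingleton.elim r 0]
      simp
    exact ⟨fun j => hsub _ _, fun i _ => hsub _ _⟩
  have hmn : m ≤ n := by
    have := LinearMap.finrank_le_finrank_of_injective hσ
    simpa using this
  have hsum : ∀ (k : ℕ) (z : Fin k → R), ∑ i, z i • (Pi.single i (1 : R) : Fin k → R) = z := by
    intro k z
    ext j
    simp [Finset.sum_apply, Pi.single_apply]
  set S : Matrix (Fin n) (Fin m) R := LinearMap.toMatrix' σ with hS
  have hSσ : ∀ w : Fin m → R, σ w = S.mulVec w := fun w => (LinearMap.toMatrix'_mulVec σ w).symm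
  let I : ℕ → Ideal R := fun s =>
    Ideal.span {d | ∃ (e : Fin s → Fin n) (c : Fin s → Fin m), d = (S.submatrix e c).det}
  -- the cokernel of σ
  let x : Fin n → (Fin n → R) ⧸ LinearMap.range σ :=
    fun i => (LinearMap.range σ).mkQ (Pi.single i 1)
  have hxsum : ∀ z : Fin n → R, (LinearMap.range σ).mkQ z = ∑ i, z i • x i := by
    intro z
    conv_lhs => rw [← hsum n z]
    rw [map_sum]
    refine Finset.sum_congr rfl fun i _ => ?_
    rw [map_smul]
  have hx : Submodule.span R (Set.range x) = ⊤ := by
    rw [eq_top_iff]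
    rintro q -
    obtain ⟨z, rfl⟩ := (LinearMap.range σ).mkQ_surjective q
    rw [hxsum z]
    exact Submodule.sum_mem _ fun i _ =>
      Submodule.smul_mem _ _ (Submodule.subset_span ⟨i, rfl⟩)
  have hrelx : ∀ z : Fin n → R, ∑ i, z i • x i = 0 ↔ z ∈ LinearMap.range σ := by
    intro z
    rw [← hxsum z, Submodule.mkQ_apply, Submodule.Quotient.mk_eq_zero]
  have hM : ∀ k, Fitt.ideal R ((Fin n → R) ⧸ LinearMap.range σ) k = I (n - k) := by
    intro k
    rw [Groth.Agent.S6889.result x hx k]
    apply le_antisymm
    · rw [Ideal.span_le]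
      rintro d ⟨z, e, hz, rfl⟩
      have hz' : ∀ b, ∃ w : Fin m → R, σ w = z b := fun b => (hrelx (z b)).mp (hz b)
      choose w hw using hz'
      have hA : (Matrix.of fun a b => z b (e a)) =
          (S.submatrix e id) * (Matrix.of fun c b => w b c) := by
        ext a b
        rw [Matrix.of_apply, ← hw b, hSσ]
        simp [Matrix.mul_apply, Matrix.mulVec, dotProduct]
      rw [hA]
      have hmem := Groth.Agent.Helper22.MinorIdeal.det_mul_mem_span (S.submatrix e id)
        (Matrix.of fun c b => w b c)
      refine (Ideal.span_le.mpr ?_) hmem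
      rintro d ⟨c, rfl⟩
      exact Ideal.subset_span ⟨e, c, rfl⟩
    · rw [Ideal.span_le]
      rintro d ⟨e, c, rfl⟩
      refine Ideal.subset_span ⟨fun b => σ (Pi.single (c b) 1), e,
        fun b => (hrelx _).mpr ⟨_, rfl⟩, ?_⟩
      congr 1
  -- the cokernel of the dual map
  let y : Fin m → Module.Dual R (Fin m → R) ⧸ LinearMap.range σ.dualMap :=
    fun c => (LinearMap.range σ.dualMap).mkQ (LinearMap.proj c)
  have hsumD : ∀ φ : Module.Dual R (Fin m → R),
      ∑ c, φ (Pi.single c 1) • (LinearMap.proj c : (Fin m → R) →ₗ[R] R) = φ := by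
    intro φ
    refine LinearMap.ext fun v => ?_
    conv_rhs => rw [← hsum m v, map_sum]
    rw [LinearMap.sum_apply]
    refine Finset.sum_congr rfl fun c _ => ?_
    rw [LinearMap.smul_apply, LinearMap.proj_apply, map_smul, smul_eq_mul, smul_eq_mul, mul_comm]
  have hysum : ∀ w : Fin m → R, ∑ c, w c • y c =
      (LinearMap.range σ.dualMap).mkQ (∑ c, w c • (LinearMap.proj c : (Fin m → R) →ₗ[R] R)) := by
    intro w
    rw [map_sum]
    refine Finset.sum_congr rfl fun c _ => ?_
    rw [map_smul]
  have hy : Submodule.span R (Set.range y) = ⊤ := by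
    rw [eq_top_iff]
    rintro q -
    obtain ⟨φ, rfl⟩ := (LinearMap.range σ.dualMap).mkQ_surjective q
    rw [← hsumD φ, ← hysum]
    exact Submodule.sum_mem _ fun c _ =>
      Submodule.smul_mem _ _ (Submodule.subset_span ⟨c, rfl⟩)
  have hcol : ∀ c : Fin m, σ (Pi.single c 1) = ∑ i, S i c • (Pi.single i (1 : R) : Fin n → R) := by
    intro c
    rw [hsum n (fun i => S i c)]
    funext i
    rfl
  have hK : ∀ j, Fitt.ideal R (Module.Dual R (Fin m → R) ⧸ LinearMap.range σ.dualMap) j =
      I (m - j) := by
    intro j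
    rw [Groth.Agent.S6889.result y hy j]
    apply le_antisymm
    · rw [Ideal.span_le]
      rintro d ⟨w, e', hw, rfl⟩
      have hv : ∀ b, ∃ v : Fin n → R, ∀ c, w b c = ∑ i, S i c * v i := by
        intro b
        have h0 := hw b
        rw [hysum, Submodule.mkQ_apply, Submodule.Quotient.mk_eq_zero] at h0
        obtain ⟨φ, hφ⟩ := h0
        refine ⟨fun i => φ (Pi.single i 1), fun c => ?_⟩
        have h1 := LinearMap.congr_fun hφ (Pi.single c 1)
        rw [LinearMap.dualMap_apply, hcol c, map_sum, LinearMap.sum_apply] at h1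
        have h2 : ∑ c', (w b c' • (LinearMap.proj c' : (Fin m → R) →ₗ[R] R)) (Pi.single c 1) =
            w b c := by
          simp [Pi.single_apply]
        rw [h2] at h1
        rw [← h1]
        refine Finset.sum_congr rfl fun i _ => ?_
        rw [map_smul, smul_eq_mul]
      choose v hv using hv
      have hA : (Matrix.of fun a b => w b (e' a)) =
          (Sᵀ.submatrix e' id) * (Matrix.of fun i b => v b i) := by
        ext a b
        rw [Matrix.of_apply, hv b (e' a)]
        simp [Matrix.mul_apply]
      rw [hA]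
      have hmem := Groth.Agent.Helper22.MinorIdeal.det_mul_mem_span (Sᵀ.submatrix e' id)
        (Matrix.of fun i b => v b i)
      refine (Ideal.span_le.mpr ?_) hmem
      rintro d ⟨r, rfl⟩
      refine Ideal.subset_span ⟨r, e', ?_⟩
      rw [← Matrix.det_transpose]
      rfl
    · rw [Ideal.span_le]
      rintro d ⟨e, c, rfl⟩
      refine Ideal.subset_span ⟨fun b c' => S (e b) c', c, fun b => ?_, ?_⟩
      · rw [hysum]
        have h1 : ∑ c', S (e b) c' • (LinearMap.proj c' : (Fin m → R) →ₗ[R] R) =
            σ.dualMap (LinearMap.proj (e b)) := by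
          refine LinearMap.ext fun v' => ?_
          rw [LinearMap.dualMap_apply, LinearMap.proj_apply, hSσ, LinearMap.sum_apply]
          simp [Matrix.mulVec, dotProduct]
        rw [h1, Submodule.mkQ_apply, Submodule.Quotient.mk_eq_zero]
        exact ⟨_, rfl⟩
      · rw [← Matrix.det_transpose]
        rfl
  refine ⟨fun j => ?_, fun i hi => ?_⟩
  · rw [hM, hK]
    congr 1
    omega
  · rw [hM]
    rw [Ideal.span_eq_bot]
    rintro d ⟨e, c, rfl⟩
    obtain ⟨a, b, hab, hc⟩ := Fintype.exists_ne_map_eq_of_card_lt c (by simp; omega)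
    exact Matrix.det_zero_of_column_eq hab (fun k => by simp [hc])

end Groth.Agent.S14347
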