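import Groth.Statements.S14350
import Mathlib
import Groth.Prelude.Def_CohTop
import Groth.Agent.Lib.Helper13.RpushShf

set_option autoImplicit false
universe u
open CategoryTheory
open CohTop

namespace Groth.Agent.S14350

open CategoryTheory CategoryTheory.Limits Opposite TopologicalSpace
open Groth.Agent.Helper24.CechH Groth.Agent.Helper24.CechEdgeLib Groth.Agent.Helper24.KillClass
  Groth.Agent.Helper13.DeltaPsh Groth.Agent.Helper13.RpushShf

section
variable {C : Type u} [SmallCategory C] (J : GrothendieckTopology C)

noncomputable def β' : sheafToPresheaf J AddCommGrpCat.{u} ≅ (extPsh (Yfree J)).F 0 :=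
  NatIso.ofComponents
    (fun F => NatIso.ofComponents
      (fun V => (CechEdge.sectH0 J V.unop F).toAddCommGrpIso)
      (fun {V W} g => by
        ext s
        exact (res_sectH0 J F g.unop s).symm))
    (fun {F G} ψ => by
      ext V s
      exact (sectH0_naturality J ψ V.unop s).symm)

lemma extPsh_effaceable : (extPsh (Yfree J)).IsEffaceable := by
  apply effaceable_of_injective
  intro n I hI
  apply Functor.isZero
  intro V
  have : Subsingleton (Abelian.Ext ((Yfree J).obj V.unop) I (n + 1)) :=
    Abelian.Ext.subsingleton_of_injective _ _ n
  exact AddCommGrpCat.isZero_of_subsingleton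
    (AddCommGrpCat.of (Abelian.Ext ((Yfree J).obj V.unop) I (n + 1)))

theorem site (F : Sheaf J AddCommGrpCat.{u}) (p : ℕ) :
    Nonempty (((sheafToPresheaf J AddCommGrpCat.{u}).rightDerived p).obj F ≅
      Sheaf.cohomologyPresheaf.{u} F p) := by
  obtain ⟨Δ⟩ := Groth.Agent.S16463.result (sheafToPresheaf J AddCommGrpCat.{u})
  have hU := Groth.Agent.S16465.result (sheafToPresheaf J AddCommGrpCat.{u}) Δ
  obtain ⟨e⟩ := iso_of_universal Δ.toCohDeltaFunctor (extPsh (Yfree J)) hU
    (Groth.Agent.S6773.result _ (extPsh_effaceable J))
    ((sheafToPresheaf J AddCommGrpCat.{u}).rightDerivedZeroIsoSelf ≪≫ β' J) p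
  exact ⟨e.app F⟩
end

open TopologicalSpace in
/-- For a sheaf of abelian groups F on a topological space X and p ≥ 0, the value at F of the p-th right
derived functor of the (left exact) forgetful functor from abelian sheaves to abelian presheaves on
X is isomorphic, as a presheaf, to the cohomology presheaf U ↦ H^p(U, F). Existence of an
isomorphism of presheaves only. (The published statement is for O_X-modules and presheaves of
O_X-modules on a scheme X; this row is the case of sheaves of abelian groups on a topological
space.) -/
theorem result {X : TopCat.{u}}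
    (F : CohTop.Ab X) (p : ℕ) :
    Nonempty (((sheafToPresheaf (Opens.grothendieckTopology X) AddCommGrpCat.{u}).rightDerived p).obj F ≅
      Sheaf.cohomologyPresheaf.{u} F p) := by
  exact site _ F p

end Groth.Agent.S14350
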