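import Groth.Statements.S14351
import Mathlib.RingTheory.Flat.FaithfullyFlat.Algebra

set_option autoImplicit false
universe u
open CAlg

namespace Groth.Agent.S14351

open TensorProduct in
theorem flat_aux (A B C : Type u) [CommRing A] [CommRing B]
    [CommRing C] [Algebra A B] [Algebra B C] [Algebra A C] [IsScalarTower A B C]
    [Module.FaithfullyFlat B C] [Module.Flat A C] : Module.Flat A B := by
  rw [Module.Flat.iff_lTensor_preserves_injective_linearMap]
  intro N P _ _ _ _ f hf
  have h1 : Function.Injective (f.lTensor C) :=
    Module.Flat.lTensor_preserves_injective_linearMap f hf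
  have h2 : Function.Injective ((f.baseChange B).lTensor C) := by
    have key : ∀ x : C ⊗[B] (B ⊗[A] N),
        (AlgebraTensorModule.cancelBaseChange A B C C P) (((f.baseChange B).lTensor C) x) =
        (f.lTensor C) ((AlgebraTensorModule.cancelBaseChange A B C C N) x) := by
      intro x
      induction x using TensorProduct.induction_on with
      | zero => simp
      | tmul c y =>
        induction y using TensorProduct.induction_on with
        | zero => simp
        | tmul b n => simp
        | add y1 y2 h1 h2 => simp only [tmul_add, map_add, h1, h2]
      | add x1 x2 h1 h2 => simp only [map_add, h1, h2]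
    intro x y hxy
    apply (AlgebraTensorModule.cancelBaseChange A B C C N).injective
    apply h1
    rw [← key, ← key, hxy]
  have h3 : Function.Injective (f.baseChange B) :=
    (Module.FaithfullyFlat.lTensor_injective_iff_injective B C _).mp h2
  exact h3

/-- For ring maps A → B → C with C faithfully flat over B and C faithfully flat over A, the ring B is
faithfully flat over A. -/
theorem result (A B C : Type u) [CommRing A] [CommRing B]
    [CommRing C] [Algebra A B] [Algebra B C] [Algebra A C] [IsScalarTower A B C]
    [Module.FaithfullyFlat B C] [Module.FaithfullyFlat A C] : Module.FaithfullyFlat A B := by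
  have := flat_aux A B C
  apply Module.FaithfullyFlat.of_comap_surjective
  intro p
  obtain ⟨q, hq⟩ := PrimeSpectrum.comap_surjective_of_faithfullyFlat (A := A) (B := C) p
  refine ⟨PrimeSpectrum.comap (algebraMap B C) q, ?_⟩
  rw [← hq, ← PrimeSpectrum.comap_comp_apply, ← IsScalarTower.algebraMap_eq]

end Groth.Agent.S14351
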