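import Groth.Statements.S14352
import Groth.Agent.Lib.Helper18.UnrGeomFib

set_option autoImplicit false
universe u
open Mor

namespace Groth.Agent.S14352

open CategoryTheory CategoryTheory.Limits AlgebraicGeometry in
/-- A morphism of schemes f : X → S which is locally of finite presentation is unramified (formally
unramified) if and only if all its geometric fibres are reduced with discrete underlying space: for
every algebraically closed field K and every S-point Spec K → S, the fibre product X ×_S Spec K is a
reduced scheme whose topological space is discrete. -/
theorem result {X S : Scheme.{u}} (f : X ⟶ S)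
    [LocallyOfFinitePresentation f] :
    FormallyUnramified f ↔
      ∀ (K : Type u) [Field K] [IsAlgClosed K] (s : Spec (CommRingCat.of K) ⟶ S),
        IsReduced (pullback f s) ∧ DiscreteTopology ↥(pullback f s) := by
  constructor
  · intro h K _ _ s
    haveI : FormallyUnramified (Limits.pullback.snd f s) :=
      MorphismProperty.pullback_snd (P := @FormallyUnramified) _ _ h
    haveI : LocallyOfFiniteType (Limits.pullback.snd f s) :=
      MorphismProperty.pullback_snd (P := @LocallyOfFiniteType) _ _ inferInstance
    exact ⟨Groth.Agent.Helper18.UnrGeomFib.isReduced_of_unramified_field K (Limits.pullback.snd f s),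
      Groth.Agent.Helper15.discreteTopology_of_unramified_field K (Limits.pullback.snd f s)⟩
  · intro h
    apply Groth.Agent.Helper15.formallyUnramified_of_fibers f
    intro s
    let K := AlgebraicClosure (S.residueField s)
    let t : Spec (CommRingCat.of K) ⟶ Spec (S.residueField s) :=
      Spec.map (CommRingCat.ofHom (algebraMap (S.residueField s) K))
    obtain ⟨hred, hdisc⟩ := h K (t ≫ S.fromSpecResidueField s)
    let e := Limits.pullbackLeftPullbackSndIso f (S.fromSpecResidueField s) t
    haveI : IsReduced (Limits.pullback (Limits.pullback.snd f (S.fromSpecResidueField s)) t) :=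
      isReduced_of_isOpenImmersion e.hom
    haveI : DiscreteTopology
        ↥(Limits.pullback (Limits.pullback.snd f (S.fromSpecResidueField s)) t) :=
      e.hom.homeomorph.isEmbedding.discreteTopology
    haveI : LocallyOfFiniteType (Limits.pullback.snd f (S.fromSpecResidueField s)) :=
      MorphismProperty.pullback_snd (P := @LocallyOfFiniteType) _ _ inferInstance
    haveI : LocallyOfFiniteType
        (Limits.pullback.snd (Limits.pullback.snd f (S.fromSpecResidueField s)) t) :=
      MorphismProperty.pullback_snd (P := @LocallyOfFiniteType) _ _ inferInstance
    have hgK := Groth.Agent.Helper18.UnrGeomFib.unramified_of_reduced_discrete K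
      (Limits.pullback.snd (Limits.pullback.snd f (S.fromSpecResidueField s)) t)
    have hsurj : Surjective t := by
      haveI : Subsingleton ↥(Spec (S.residueField s)) :=
        inferInstanceAs (Subsingleton (PrimeSpectrum (S.residueField s)))
      haveI : Nonempty ↥(Spec (CommRingCat.of K)) :=
        inferInstanceAs (Nonempty (PrimeSpectrum K))
      exact ⟨fun x => ⟨Classical.arbitrary _, Subsingleton.elim _ _⟩⟩
    have hflat : Flat t := by
      rw [HasRingHomProperty.Spec_iff (P := @Flat)]
      exact (RingHom.flat_algebraMap_iff).mpr inferInstance
    have hqc : QuasiCompact t := inferInstance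
    exact MorphismProperty.of_isPullback_of_descendsAlong (P := @FormallyUnramified)
      (Q := @Surjective ⊓ @Flat ⊓ @QuasiCompact)
      (IsPullback.of_hasPullback (Limits.pullback.snd f (S.fromSpecResidueField s)) t).flip
      ⟨⟨hsurj, hflat⟩, hqc⟩ hgK

end Groth.Agent.S14352
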