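import Groth.Statements.S14357
import Mathlib
-- import your own Groth.Agent.* helpers here

set_option autoImplicit false
universe u
open AlgebraicGeometry
open Proj

namespace Groth.Agent.S14357

section
open AlgebraicGeometry CategoryTheory

theorem main (k : Type u) [Field k] : ¬ IsAffine (CohB1.ProjSpace 1 k) := by
  intro haff
  haveI hft : Algebra.FiniteType (CohB1.polyGrading 1 k 0) (MvPolynomial (Fin (1 + 1)) k) := by
    haveI : IsScalarTower k (CohB1.polyGrading 1 k 0) (MvPolynomial (Fin (1 + 1)) k) :=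
      IsScalarTower.of_algebraMap_eq (R := k) (S := CohB1.polyGrading 1 k 0)
        (A := MvPolynomial (Fin (1 + 1)) k) (fun x => rfl)
    exact Algebra.FiniteType.of_restrictScalars_finiteType k _ _
  have hproper : IsProper (Proj.toSpecZero (CohB1.polyGrading 1 k)) := inferInstance
  haveI : IsAffine (Proj (CohB1.polyGrading 1 k)) := haff
  have hfin : IsFinite (Proj.toSpecZero (CohB1.polyGrading 1 k)) :=
    IsFinite.iff_isProper_and_isAffineHom.mpr ⟨hproper, inferInstance⟩
  haveI hArt0 : IsArtinianRing (CohB1.polyGrading 1 k 0) := by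
    have hsurj : Function.Surjective (algebraMap k (CohB1.polyGrading 1 k 0)) := by
      rintro ⟨x, hx⟩
      have : x ∈ (1 : Submodule k (MvPolynomial (Fin (1 + 1)) k)) := by
        rw [← MvPolynomial.homogeneousSubmodule_zero]
        exact hx
      obtain ⟨c, hc⟩ := Submodule.mem_one.mp this
      exact ⟨c, Subtype.ext hc⟩
    exact hsurj.isArtinianRing
  haveI : IsArtinianRing (CommRingCat.of (CohB1.polyGrading 1 k 0)) := hArt0
  haveI : IsArtinianRing Γ(Spec (CommRingCat.of (CohB1.polyGrading 1 k 0)), ⊤) := inferInstance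
  have hfa := (Proj.toSpecZero (CohB1.polyGrading 1 k)).finite_appTop
  letI := (Proj.toSpecZero (CohB1.polyGrading 1 k)).appTop.hom.toAlgebra
  haveI : Module.Finite Γ(Spec (CommRingCat.of (CohB1.polyGrading 1 k 0)), ⊤)
      Γ(Proj (CohB1.polyGrading 1 k), ⊤) := hfa
  haveI : IsArtinianRing Γ(Proj (CohB1.polyGrading 1 k), ⊤) :=
    IsArtinianRing.of_finite Γ(Spec (CommRingCat.of (CohB1.polyGrading 1 k 0)), ⊤) _
  haveI : DiscreteTopology (Spec Γ(Proj (CohB1.polyGrading 1 k), ⊤)) :=
    inferInstanceAs (DiscreteTopology (PrimeSpectrum _))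
  haveI hdisc : DiscreteTopology (Proj (CohB1.polyGrading 1 k)) :=
    (Proj (CohB1.polyGrading 1 k)).isoSpec.hom.homeomorph.symm.discreteTopology
  -- two points
  have hX0 : (MvPolynomial.X 0 : MvPolynomial (Fin (1 + 1)) k) ∈
      HomogeneousIdeal.irrelevant (CohB1.polyGrading 1 k) := by
    rw [HomogeneousIdeal.mem_irrelevant_iff, GradedRing.proj_apply]
    exact DirectSum.decompose_of_mem_ne (CohB1.polyGrading 1 k)
      (MvPolynomial.isHomogeneous_X k (0 : Fin (1 + 1))) one_ne_zero
  have hX1 : (MvPolynomial.X 1 : MvPolynomial (Fin (1 + 1)) k) ∈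
      HomogeneousIdeal.irrelevant (CohB1.polyGrading 1 k) := by
    rw [HomogeneousIdeal.mem_irrelevant_iff, GradedRing.proj_apply]
    exact DirectSum.decompose_of_mem_ne (CohB1.polyGrading 1 k)
      (MvPolynomial.isHomogeneous_X k (1 : Fin (1 + 1))) one_ne_zero
  let x₀ : ProjectiveSpectrum (CohB1.polyGrading 1 k) :=
    ⟨⊥, Ideal.isPrime_bot, fun h => MvPolynomial.X_ne_zero (0 : Fin (1 + 1)) (by
      have := h hX0
      exact this)⟩
  let I₁ : HomogeneousIdeal (CohB1.polyGrading 1 k) :=
    ⟨Ideal.span {(MvPolynomial.X 0 : MvPolynomial (Fin (1 + 1)) k)},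
      Ideal.homogeneous_span _ _ (by
        rintro x hx
        rw [Set.mem_singleton_iff] at hx
        rw [hx]
        exact ⟨1, MvPolynomial.isHomogeneous_X k (0 : Fin (1 + 1))⟩)⟩
  let x₁ : ProjectiveSpectrum (CohB1.polyGrading 1 k) :=
    ⟨I₁, (Ideal.span_singleton_prime (MvPolynomial.X_ne_zero _)).mpr MvPolynomial.X_prime, fun h => by
      have h1 : (MvPolynomial.X 1 : MvPolynomial (Fin (1 + 1)) k) ∈
          Ideal.span {(MvPolynomial.X 0 : MvPolynomial (Fin (1 + 1)) k)} := h hX1
      rw [Ideal.mem_span_singleton, MvPolynomial.X_dvd_X] at h1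
      exact absurd h1 (by decide)⟩
  have hle : x₀ ≤ x₁ := by
    show x₀.asHomogeneousIdeal ≤ x₁.asHomogeneousIdeal
    exact bot_le
  rw [ProjectiveSpectrum.le_iff_mem_closure] at hle
  haveI : DiscreteTopology (ProjectiveSpectrum (CohB1.polyGrading 1 k)) := hdisc
  rw [closure_discrete, Set.mem_singleton_iff] at hle
  have h2 : (MvPolynomial.X 0 : MvPolynomial (Fin (1 + 1)) k) ∈ x₁.asHomogeneousIdeal :=
    Ideal.subset_span rfl
  rw [hle] at h2
  exact MvPolynomial.X_ne_zero (0 : Fin (1 + 1)) h2

end

/-- For a field k the projective line over k is not an affine scheme. (The projective line is taken here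
as Proj of the polynomial ring in two variables over k with its standard grading; the book builds it
by gluing two affine lines and identifies the two constructions later.) -/
theorem result (k : Type u) [Field k] :
    ¬ IsAffine (CohB1.ProjSpace 1 k) := by
  exact Groth.Agent.S14357.main k

end Groth.Agent.S14357
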