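import Groth.Statements.S14358
-- import your own Groth.Agent.* helpers here

set_option autoImplicit false
universe u
open CAlg

namespace Groth.Agent.S14358

/-- Let A be a Noetherian integral domain with fraction field K and let r ∈ K. Then r belongs to A if
and only if, for every nonzero g ∈ A and every associated prime p of the A-module A/(g), the element
r belongs to the local ring A_p inside K, i.e. s r = a in K for some a ∈ A and some s ∈ A outside p. -/
theorem result (A K : Type u)
    [CommRing A] [IsDomain A] [IsNoetherianRing A] [Field K] [Algebra A K] [IsFractionRing A K]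
    (r : K) :
    r ∈ Set.range (algebraMap A K) ↔
      ∀ g : A, g ≠ 0 → ∀ p ∈ associatedPrimes A (A ⧸ Ideal.span {g}),
        ∃ a s : A, s ∉ p ∧ algebraMap A K s * r = algebraMap A K a := by
  constructor
  · rintro ⟨c, rfl⟩ g _ p hp
    have hprime : p.IsPrime := hp.1
    exact ⟨c, 1, fun h => hprime.ne_top ((Ideal.eq_top_iff_one p).mpr h), by simp⟩
  · intro h
    obtain ⟨c, ⟨g, hg⟩, hr⟩ := IsLocalization.exists_mk'_eq (nonZeroDivisors A) r
    have hg0 : g ≠ 0 := nonZeroDivisors.ne_zero hg
    have hgK : algebraMap A K g ≠ 0 := by
      simpa using hg0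
    have hrg : r * algebraMap A K g = algebraMap A K c := by
      rw [← hr]
      exact IsLocalization.mk'_spec K c ⟨g, hg⟩
    by_cases hdvd : g ∣ c
    · obtain ⟨d, rfl⟩ := hdvd
      refine ⟨d, ?_⟩
      apply mul_right_cancel₀ hgK
      rw [hrg, map_mul, mul_comm]
    · exfalso
      have hne : (Ideal.Quotient.mk (Ideal.span {g}) c) ≠ 0 := by
        rw [Ne, Ideal.Quotient.eq_zero_iff_mem, Ideal.mem_span_singleton]
        exact hdvd
      obtain ⟨p, hp, hle⟩ := exists_le_isAssociatedPrime_of_isNoetherianRing (R := A)
        (Ideal.Quotient.mk (Ideal.span {g}) c) hne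
      obtain ⟨a, s, hs, hsa⟩ := h g hg0 p hp
      apply hs
      apply hle
      rw [Submodule.mem_colon_singleton, Submodule.mem_bot]
      have hsc : s * c = g * a := by
        apply IsFractionRing.injective A K
        rw [map_mul, map_mul, ← hrg, ← hsa]
        ring
      have : s • (Ideal.Quotient.mk (Ideal.span {g}) c) =
          Ideal.Quotient.mk (Ideal.span {g}) (s * c) := by
        rw [map_mul]; rfl
      rw [this, Ideal.Quotient.eq_zero_iff_mem, Ideal.mem_span_singleton, hsc]
      exact dvd_mul_right g a

end Groth.Agent.S14358
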