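import Groth.Statements.S14362
import Groth.Agent.S14361
-- import your own Groth.Agent.* helpers here

set_option autoImplicit false
universe u
open AlgebraicGeometry
open SchImage

namespace Groth.Agent.S14362

open CategoryTheory TopologicalSpace

/-- Let π : X → Y be a morphism of schemes with X reduced. Then the closed subset underlying the
scheme-theoretic image of π, i.e. the support of its kernel ideal sheaf, is the closure of the image
of π. (The published statement allows, as an alternative to X being reduced, that π be
quasi-compact; this row is the reduced case and assumes no quasi-compactness.) -/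
theorem result (X Y : Scheme.{u}) [IsReduced X]
    (π : X ⟶ Y) :
    (π.ker.support : Set Y) = closure (Set.range π) := by
  apply subset_antisymm
  · intro y hy
    by_contra hyc
    obtain ⟨_, ⟨U, hU, rfl⟩, hyU, -⟩ :=
      Y.isBasis_affineOpens.exists_subset_of_mem_open (Set.mem_univ y) isOpen_univ
    let V : Y.Opens := ⟨(closure (Set.range π))ᶜ, isClosed_closure.isOpen_compl⟩
    obtain ⟨f, hfV, hyf⟩ := hU.exists_basicOpen_le (V := V) ⟨y, hyc⟩ hyU
    have hpre : π ⁻¹ᵁ (Y.basicOpen f) = ⊥ := by
      ext x
      simp only [Scheme.Hom.coe_preimage, Set.mem_preimage, SetLike.mem_coe, Opens.coe_bot,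
        Set.mem_empty_iff_false, iff_false]
      intro hx
      exact hfV hx (subset_closure ⟨x, rfl⟩)
    rw [Scheme.preimage_basicOpen] at hpre
    have h0 : (π.app U).hom f = 0 := eq_zero_of_basicOpen_eq_bot _ hpre
    have hmem : f ∈ π.ker.ideal ⟨U, hU⟩ := by
      rw [Groth.Agent.S14361.result X Y π ⟨U, hU⟩]
      exact h0
    have h1 := ((Scheme.IdealSheafData.coe_support_inter π.ker ⟨U, hU⟩).le ⟨hy, hyU⟩).1
    rw [Scheme.mem_zeroLocus_iff] at h1
    exact h1 f hmem hyf
  · rw [(Scheme.IdealSheafData.support _).isClosed.closure_subset_iff]
    exact π.range_subset_ker_support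

end Groth.Agent.S14362
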