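import Groth.Statements.S14363

set_option autoImplicit false
universe u
open CAlg

namespace Groth.Agent.S14363

/-- Let A be a Noetherian ring and 0 → M' → M → M'' → 0 a short exact sequence of A-modules. If a prime
p of A is an associated prime of M'' and is not in the support of M', then p is an associated prime
of M. -/
theorem result (A : Type u) [CommRing A] [IsNoetherianRing A]
    (M' M M'' : Type u) [AddCommGroup M'] [Module A M'] [AddCommGroup M] [Module A M]
    [AddCommGroup M''] [Module A M'']
    (f : M' →ₗ[A] M) (g : M →ₗ[A] M'') (hf : Function.Injective f) (hg : Function.Surjective g)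
    (hfg : Function.Exact f g)
    (p : PrimeSpectrum A) (hp : p.asIdeal ∈ associatedPrimes A M'') (hsupp : p ∉ Module.support A M') :
    p.asIdeal ∈ associatedPrimes A M := by
  classical
  rw [AssociatedPrimes.mem_iff, isAssociatedPrime_iff] at hp ⊢
  obtain ⟨hprime, x'', hx''⟩ := hp
  refine ⟨hprime, ?_⟩
  obtain ⟨x, rfl⟩ := hg x''
  rw [Module.notMem_support_iff'] at hsupp
  obtain ⟨S, hS⟩ := (isNoetherianRing_iff_ideal_fg A).mp inferInstance p.asIdeal
  have hmem : ∀ a : A, a ∈ p.asIdeal ↔ a • g x = 0 := by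
    intro a
    rw [hx'', Submodule.mem_colon_singleton, Submodule.mem_bot]
  have h1 : ∀ a ∈ S, ∃ s : A, s ∉ p.asIdeal ∧ (s * a) • x = 0 := by
    intro a ha
    have hap : a ∈ p.asIdeal := by rw [← hS]; exact Ideal.subset_span ha
    have h2 : g (a • x) = 0 := by rw [map_smul]; exact (hmem a).mp hap
    obtain ⟨y, hy⟩ := (hfg (a • x)).mp h2
    obtain ⟨s, hs, hsy⟩ := hsupp y
    refine ⟨s, hs, ?_⟩
    rw [mul_smul, ← hy, ← map_smul, hsy, map_zero]
  choose! s hs1 hs2 using h1
  let t : A := ∏ a ∈ S, s a
  have ht : t ∉ p.asIdeal := by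
    intro h
    obtain ⟨a, ha, hsa⟩ := (Ideal.IsPrime.prod_mem_iff (hp := hprime)).mp h
    exact hs1 a ha hsa
  refine ⟨t • x, ?_⟩
  ext b
  rw [Submodule.mem_colon_singleton, Submodule.mem_bot]
  constructor
  · intro hb
    -- b ∈ span S
    rw [← hS] at hb
    refine Submodule.span_induction ?_ ?_ ?_ ?_ hb
    · intro a ha
      have : t = (∏ c ∈ S.erase a, s c) * s a := by
        show ∏ c ∈ S, s c = _
        rw [← Finset.prod_erase_mul S s ha]
      rw [← mul_smul, this, mul_comm a, mul_assoc, mul_smul, hs2 a ha, smul_zero]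
    · simp
    · intro a b _ _ h1 h2
      rw [add_smul, h1, h2, add_zero]
    · intro c a _ h1
      rw [smul_eq_mul, mul_smul, h1, smul_zero]
  · intro hb
    have h3 : (b * t) • g x = 0 := by
      rw [← map_smul, mul_smul, hb, map_zero]
    have h4 : b * t ∈ p.asIdeal := (hmem _).mpr h3
    rcases hprime.mem_or_mem h4 with h | h
    · exact h
    · exact absurd h ht

end Groth.Agent.S14363
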