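import Groth.Statements.S14366
import Mathlib
import Groth.Agent.Lib.Helper9.OpenAdj2

set_option autoImplicit false
universe u
open CategoryTheory CategoryTheory.Limits AlgebraicGeometry
attribute [local instance] HasDerivedCategory.standard
open CxOX

namespace Groth.Agent.S14366

/-- Let j : X ⟶ X̄ be an open immersion of Noetherian schemes, U ⊆ X an open subscheme with closed
complement Z, U' ⊆ X̄ the open complement of the closure Z̄ of j(Z) in X̄, and T = U' ∪ j(X), the
open complement of the closed subset Z̄ ∖ j(X). Let Rj_* exist and preserve complexes with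
quasi-coherent cohomology, and let an adjunction j^* ⊣ Rj_* between D(O_X̄) and D(O_X) be given.
Then Rj_* and j^* are inverse equivalences between the objects of D_qc(O_X) whose cohomology sheaves
are supported on Z and the objects of D_qc(O_X̄) whose cohomology sheaves are supported on Z̄ and on
which RΓ_{Z̄ ∖ j(X)} vanishes: for F in the first class, Rj_* F has cohomology supported on Z̄ and
RΓ_{Z̄ ∖ j(X)}(Rj_* F) is zero; the counit j^* Rj_* F ⟶ F is an isomorphism for every F; and for G
in the second class the unit G ⟶ Rj_* j^* G is an isomorphism and j^* G is in the first class.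
(Throughout, RΓ with support is the total right derived functor of the sheaf of sections supported
in the closed subset. The published statement derives instead the functor of sections killed by some
power of a defining ideal; on complexes with quasi-coherent cohomology sheaves over a Noetherian
scheme the two derived functors agree.) -/
theorem result {X Xbar : Scheme.{u}} [IsNoetherian Xbar] [IsNoetherian X]
    (j : X ⟶ Xbar) [IsOpenImmersion j] (U : X.Opens) (U' T : Xbar.Opens)
    (hU' : (U' : Set Xbar) = (closure (j.base '' ((U : Set X)ᶜ)))ᶜ)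
    (hT : (T : Set Xbar) = (U' : Set Xbar) ∪ Set.range j.base)
    [DCoh.HasRpush j] [CxOX.HasRgammaZ T.ι] (hj : DCoh.RpushPreservesQCoh j)
    (adj : DCoh.restrictD j ⊣ DCoh.Rpush j) :
    (∀ F : DCoh.D X, DCoh.IsQCohD F → CxOX.IsSuppD U.ι F →
        CxOX.IsSuppD U'.ι ((DCoh.Rpush j).obj F) ∧ IsZero ((CxOX.RgammaZ T.ι).obj ((DCoh.Rpush j).obj F))) ∧
    (∀ F : DCoh.D X, IsIso (adj.counit.app F)) ∧
    (∀ G : DCoh.D Xbar, DCoh.IsQCohD G → CxOX.IsSuppD U'.ι G → IsZero ((CxOX.RgammaZ T.ι).obj G) →
        IsIso (adj.unit.app G) ∧ DCoh.IsQCohD ((DCoh.restrictD j).obj G) ∧ CxOX.IsSuppD U.ι ((DCoh.restrictD j).obj G)) := by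
  refine ⟨fun F _ hF => ⟨Groth.Agent.Helper9.OpenAdj2.isSuppD_Rpush j U U' hU' F hF, ?_⟩, ?_, ?_⟩
  · refine Groth.Agent.Helper9.OpenAdj2.isZero_RgammaZ_Rpush j T.ι ?_ F
    intro x hx
    have hxT : x ∈ (T : Set Xbar) := by
      rw [hT]; exact Or.inr hx
    exact (Groth.Agent.Helper9.OpenAdj2.mem_range_ι_iff T x).2 hxT
  · intro F
    haveI := Groth.Agent.Helper9.OpenAdj.isIso_counit j adj
    infer_instance
  · intro G hG hS hΓ
    have hG' := Groth.Agent.Helper9.OpenAdj2.isZero_restrictD_of_isSuppD U' G hS
    exact ⟨Groth.Agent.Helper9.OpenAdj2.isIso_unit_app_of_isZero_RgammaZ j U' T hT adj G hG' hΓ,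
      Groth.Agent.Helper9.OpenAdj2.isQCohD_restrictD j G hG,
      Groth.Agent.Helper9.OpenAdj2.isSuppD_restrictD j U U' hU' G hG'⟩

end Groth.Agent.S14366
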