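import Mathlib
import Groth.Statements.S14375
import Groth.Agent.Lib.Helper16.Sch.GrpIrr1

set_option autoImplicit false
universe u
open CategoryTheory CategoryTheory.Limits AlgebraicGeometry
open Variety

namespace Groth.Agent.S14375

/-- Let k be an algebraically closed field, F an irreducible scheme of finite type over k, and f : X → Y
a k-morphism of schemes of finite type over k with Y irreducible which is locally trivial with fibre
F: every point of Y has an open neighbourhood V such that f⁻¹(V) is isomorphic over V to V ×_k F.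
Then X is irreducible. (The published statement is for varieties, i.e. reduced separated schemes;
this row assumes neither.) -/
theorem result (k : Type u) [Field k] [IsAlgClosed k]
    {X Y F : Scheme.{u}} (qX : X ⟶ Spec (CommRingCat.of k)) (qY : Y ⟶ Spec (CommRingCat.of k))
    (qF : F ⟶ Spec (CommRingCat.of k))
    [LocallyOfFiniteType qX] [QuasiCompact qX] [LocallyOfFiniteType qY] [QuasiCompact qY]
    [LocallyOfFiniteType qF] [QuasiCompact qF] [IrreducibleSpace ↥F] [IrreducibleSpace ↥Y]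
    (f : X ⟶ Y) (hf : f ≫ qY = qX)
    (htriv : ∀ y : ↥Y, ∃ V : Y.Opens, y ∈ V ∧
      ∃ e : (↑(f ⁻¹ᵁ V) : Scheme.{u}) ≅ pullback (V.ι ≫ qY) qF, e.hom ≫ pullback.fst (V.ι ≫ qY) qF = f ∣_ V) :
    IrreducibleSpace ↥X := by
  haveI : Subsingleton ↥(Spec (CommRingCat.of k)) :=
    inferInstanceAs (Subsingleton (PrimeSpectrum k))
  haveI : GeometricallyIrreducible qF :=
    Groth.Agent.Helper16.GrpIrr.geometricallyIrreducible_of_isAlgClosed qF
  haveI : UniversallyOpen qF := inferInstance
  choose V hyV e he using htriv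
  have hsurj : ∀ y (y'' : ↥Y), y'' ∈ V y → ∃ x : ↥X, f x = y'' := by
    intro y y'' hy''
    haveI : Surjective (pullback.fst ((V y).ι ≫ qY) qF) := inferInstance
    obtain ⟨w, hw⟩ := (pullback.fst ((V y).ι ≫ qY) qF).surjective ⟨y'', hy''⟩
    refine ⟨((f ⁻¹ᵁ V y).ι ((e y).inv w)), ?_⟩
    have h1 : (f ∣_ V y) ((e y).inv w) = ⟨y'', hy''⟩ := by
      rw [← he y, Scheme.Hom.comp_apply, ← Scheme.Hom.comp_apply (e y).inv, Iso.inv_hom_id]
      simpa using hw
    have h2 := congrArg (fun g => g ((e y).inv w)) (morphismRestrict_ι f (V y))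
    simp only [Scheme.Hom.comp_apply] at h2
    rw [← h2, h1]
    rfl
  have hirr : ∀ y, IsIrreducible (((f ⁻¹ᵁ V y : X.Opens) : Set ↥X)) := by
    intro y
    haveI : Nonempty ↥(V y).toScheme := ⟨⟨y, hyV y⟩⟩
    haveI : IrreducibleSpace ↥(V y).toScheme := (V y).ι.isOpenEmbedding.irreducibleSpace
    haveI : IrreducibleSpace ↥(pullback ((V y).ι ≫ qY) qF) := inferInstance
    haveI : IrreducibleSpace ↥(f ⁻¹ᵁ V y).toScheme :=
      ((e y).hom.homeomorph.irreducibleSpace_iff).2 inferInstance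
    have := (IrreducibleSpace.isIrreducible_univ ↥(f ⁻¹ᵁ V y).toScheme).image (f ⁻¹ᵁ V y).ι
      (f ⁻¹ᵁ V y).ι.continuous.continuousOn
    rwa [Set.image_univ, Scheme.Opens.range_ι] at this
  haveI : Nonempty ↥Y := inferInstance
  refine Groth.Agent.Helper28.GeomIrredCover.irreducibleSpace_of_cover
    (fun y : ↥Y => ((f ⁻¹ᵁ V y : X.Opens) : Set ↥X)) hirr (fun y => (f ⁻¹ᵁ V y).2) ?_ ?_
  · rw [Set.eq_univ_iff_forall]
    intro x
    exact Set.mem_iUnion.mpr ⟨f x, hyV (f x)⟩
  · intro y y'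
    obtain ⟨y'', hy1, hy2⟩ := nonempty_preirreducible_inter (V y).2 (V y').2
      ⟨y, hyV y⟩ ⟨y', hyV y'⟩
    obtain ⟨x, hx⟩ := hsurj y y'' hy1
    exact ⟨x, by show f x ∈ V y; rw [hx]; exact hy1, by show f x ∈ V y'; rw [hx]; exact hy2⟩

end Groth.Agent.S14375
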