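import Groth.Statements.S14377
import Mathlib
import Groth.Agent.Lib.Helper2.NilTri
import Groth.Agent.Lib.Helper2.NilTri2
import Groth.Agent.Lib.Helper2.CMGlue
import Groth.Agent.Lib.Helper20.GrDimIrr
import Groth.Agent.S10918
-- import your own Groth.Agent.* helpers here

set_option autoImplicit false
universe u
open Variety

namespace Groth.Agent.S14377

section

open MvPolynomial Groth.Agent.Lib.Helper2.NilTri

variable (k : Type u) [Field k] (n : ℕ)

/-- the generic matrix `G` -/
noncomputable def G : Matrix (Fin n) (Fin n)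
    (MvPolynomial ((Fin n × Fin n) ⊕ (Fin n × Fin n)) k) :=
  Matrix.of fun i j => X (Sum.inl (i, j))

/-- the generic strictly upper triangular matrix `U` -/
noncomputable def U : Matrix (Fin n) (Fin n)
    (MvPolynomial ((Fin n × Fin n) ⊕ (Fin n × Fin n)) k) :=
  Matrix.of fun i j => if i < j then X (Sum.inr (i, j)) else 0

/-- the parametrisation `(g, u) ↦ g u adj(g)` on coordinate rings -/
noncomputable def ψ : MvPolynomial (Fin n × Fin n) k →ₐ[k]
    MvPolynomial ((Fin n × Fin n) ⊕ (Fin n × Fin n)) k :=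
  aeval (fun ij => (G k n * U k n * (G k n).adjugate) ij.1 ij.2)

variable {k n}

/-- the matrix `g` of a point -/
def gpt (b : (Fin n × Fin n) ⊕ (Fin n × Fin n) → k) : Matrix (Fin n) (Fin n) k :=
  Matrix.of fun i j => b (Sum.inl (i, j))

/-- the matrix `u` of a point -/
def upt (b : (Fin n × Fin n) ⊕ (Fin n × Fin n) → k) : Matrix (Fin n) (Fin n) k :=
  Matrix.of fun i j => if i < j then b (Sum.inr (i, j)) else 0

/-- the image point -/
def pt (b : (Fin n × Fin n) ⊕ (Fin n × Fin n) → k) : Fin n × Fin n → k :=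
  fun ij => (gpt b * upt b * (gpt b).adjugate) ij.1 ij.2

theorem U_strict (i j : Fin n) (h : ¬ i < j) : U k n i j = 0 := by
  simp [U, h]

theorem upt_strict (b : (Fin n × Fin n) ⊕ (Fin n × Fin n) → k) (i j : Fin n) (h : ¬ i < j) :
    upt b i j = 0 := by
  simp [upt, h]

theorem aeval_ψ (b : (Fin n × Fin n) ⊕ (Fin n × Fin n) → k) (f : MvPolynomial (Fin n × Fin n) k) :
    aeval b (ψ k n f) = aeval (pt b) f := by
  have h : (aeval b).comp (ψ k n) = aeval (pt b) := by
    unfold ψ
    rw [comp_aeval]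
    congr 1
    funext ij
    have hG : (aeval b : _ →ₐ[k] k).toRingHom.mapMatrix (G k n) = gpt b := by
      ext i j
      simp [G, gpt]
    have hU : (aeval b : _ →ₐ[k] k).toRingHom.mapMatrix (U k n) = upt b := by
      ext i j
      simp only [U, upt, RingHom.mapMatrix_apply, Matrix.map_apply, Matrix.of_apply]
      split_ifs <;> simp
    have h1 : (aeval b : _ →ₐ[k] k).toRingHom.mapMatrix
        (G k n * U k n * (G k n).adjugate) = gpt b * upt b * (gpt b).adjugate := by
      rw [map_mul, map_mul, RingHom.map_adjugate, hG, hU]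
    have h2 := congrFun (congrFun h1 ij.1) ij.2
    exact h2
  rw [← h]
  rfl

theorem ψ_coeff (i : ℕ) :
    ψ k n ((Matrix.charpoly (Matrix.mvPolynomialX (Fin n) (Fin n) k)).coeff i) =
      (Matrix.charpoly (G k n * U k n * (G k n).adjugate)).coeff i := by
  have h := Matrix.charpoly.univ_coeff_eval₂Hom (Fin n)
    (algebraMap k (MvPolynomial ((Fin n × Fin n) ⊕ (Fin n × Fin n)) k))
    (fun ij => (G k n * U k n * (G k n).adjugate) ij.1 ij.2) i
  exact h

theorem aeval_coeff (a : Fin n × Fin n → k) (i : ℕ) :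
    aeval a ((Matrix.charpoly (Matrix.mvPolynomialX (Fin n) (Fin n) k)).coeff i) =
      (Matrix.charpoly (Matrix.of (Function.curry a))).coeff i := by
  have h := Matrix.charpoly.univ_coeff_eval₂Hom (Fin n) (algebraMap k k) a i
  exact h

/-- the ideal of the nilpotent cone -/
noncomputable def nilIdeal (k : Type u) [Field k] (n : ℕ) : Ideal (MvPolynomial (Fin n × Fin n) k) :=
  Ideal.span (Set.range (fun i : Fin n =>
      (Matrix.charpoly (Matrix.mvPolynomialX (Fin n) (Fin n) k)).coeff (i : ℕ)))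

theorem nilIdeal_le_ker : nilIdeal k n ≤ RingHom.ker (ψ k n).toRingHom := by
  unfold nilIdeal
  rw [Ideal.span_le]
  rintro _ ⟨i, rfl⟩
  rw [SetLike.mem_coe, RingHom.mem_ker]
  show ψ k n _ = 0
  rw [ψ_coeff]
  exact charpoly_coeff_eq_zero_of_isNilpotent _
    (isNilpotent_conj (G k n) (U k n) U_strict) i i.2

theorem mem_zeroLocus_iff (a : Fin n × Fin n → k) :
    a ∈ MvPolynomial.zeroLocus k (nilIdeal k n) ↔
      ∀ i : Fin n, (Matrix.charpoly (Matrix.of (Function.curry a))).coeff (i : ℕ) = 0 := by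
  constructor
  · intro h i
    rw [← aeval_coeff]
    exact h _ (Ideal.subset_span ⟨i, rfl⟩)
  · intro h p hp
    have hle : nilIdeal k n ≤ RingHom.ker (aeval a : MvPolynomial (Fin n × Fin n) k →ₐ[k] k).toRingHom := by
      unfold nilIdeal
      rw [Ideal.span_le]
      rintro _ ⟨i, rfl⟩
      rw [SetLike.mem_coe, RingHom.mem_ker]
      show aeval a _ = 0
      rw [aeval_coeff]
      exact h i
    exact hle hp

theorem ker_le_radical [IsAlgClosed k] :
    RingHom.ker (ψ k n).toRingHom ≤ (nilIdeal k n).radical := by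
  intro f hf
  rw [← MvPolynomial.vanishingIdeal_zeroLocus_eq_radical (K := k), MvPolynomial.mem_vanishingIdeal_iff]
  intro a ha
  rw [mem_zeroLocus_iff] at ha
  have hnil := isNilpotent_of_charpoly_coeff _ ha
  obtain ⟨g, u, hu, hgu⟩ := exists_conj_strictUpper _ hnil
  have hb : a = pt (Sum.elim (fun ij => g ij.1 ij.2) (fun ij => u ij.1 ij.2)) := by
    funext ij
    have h1 : gpt (Sum.elim (fun ij => g ij.1 ij.2) (fun ij => u ij.1 ij.2)) = g := by
      ext i j; simp [gpt]
    have h2 : upt (Sum.elim (fun ij => g ij.1 ij.2) (fun ij => u ij.1 ij.2)) = u := by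
      ext i j
      simp only [upt, Matrix.of_apply, Sum.elim_inr]
      split_ifs with hij
      · rfl
      · exact (hu i j hij).symm
    unfold pt
    rw [h1, h2, ← hgu]
    rfl
  rw [hb, ← aeval_ψ]
  have : ψ k n f = 0 := hf
  rw [this, map_zero]

theorem radical_eq_ker [IsAlgClosed k] :
    (nilIdeal k n).radical = RingHom.ker (ψ k n).toRingHom := by
  apply le_antisymm
  · rw [Ideal.IsPrime.radical_le_iff (RingHom.ker_isPrime _)]
    exact nilIdeal_le_ker
  · exact ker_le_radical

theorem irreducible [IsAlgClosed k] :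
    IrreducibleSpace (PrimeSpectrum (MvPolynomial (Fin n × Fin n) k ⧸ nilIdeal k n)) := by
  rw [PrimeSpectrum.irreducibleSpace_iff_isPrime_nilradical]
  have h1 : (nilIdeal k n).radical.map (Ideal.Quotient.mk (nilIdeal k n)) =
      nilradical (MvPolynomial (Fin n × Fin n) k ⧸ nilIdeal k n) := by
    rw [Ideal.map_radical_of_surjective Ideal.Quotient.mk_surjective (by rw [Ideal.mk_ker]),
      Ideal.map_quotient_self]
    rfl
  rw [← h1]
  haveI : (nilIdeal k n).radical.IsPrime := by
    rw [radical_eq_ker]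
    exact RingHom.ker_isPrime _
  exact Ideal.map_isPrime_of_surjective Ideal.Quotient.mk_surjective
    (by rw [Ideal.mk_ker]; exact Ideal.le_radical)

theorem nilIdeal_ne_top : nilIdeal k n ≠ ⊤ := by
  intro h
  have h1 := nilIdeal_le_ker (k := k) (n := n)
  rw [h, top_le_iff] at h1
  exact RingHom.ker_ne_top _ h1

theorem ringKrullDim_mvPolynomial :
    ringKrullDim (MvPolynomial (Fin n × Fin n) k) = ((n * n : ℕ) : WithBot ℕ∞) := by
  rw [MvPolynomial.ringKrullDim_of_isNoetherianRing, ringKrullDim_eq_zero_of_field, zero_add,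
    Nat.card_eq_fintype_card, Fintype.card_prod, Fintype.card_fin]

/-- lower bound for the dimension of the nilpotent cone -/
theorem le_dim : ((n * n - n : ℕ) : WithBot ℕ∞) ≤
    ringKrullDim (MvPolynomial (Fin n × Fin n) k ⧸ nilIdeal k n) := by
  classical
  obtain ⟨Q, hQ⟩ := Ideal.nonempty_minimalPrimes (nilIdeal_ne_top (k := k) (n := n))
  haveI : Q.IsPrime := hQ.1.1
  have h1 : Q.height ≤ (n : ℕ∞) := by
    have hs : nilIdeal k n = Ideal.span ((Finset.univ.image (fun i : Fin n =>
        (Matrix.charpoly (Matrix.mvPolynomialX (Fin n) (Fin n) k)).coeff (i : ℕ)) :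
          Finset _) : Set _) := by
      unfold nilIdeal
      rw [Finset.coe_image, Finset.coe_univ, Set.image_univ]
    rw [hs] at hQ
    refine (Ideal.height_le_card_of_mem_minimalPrimes_span_finset hQ).trans ?_
    exact_mod_cast (Finset.card_image_le.trans (by simp))
  obtain ⟨c, hc⟩ := Groth.Agent.Lib.Helper2.CMGlue.exists_dim_nat k
    (MvPolynomial (Fin n × Fin n) k) Q
  have h2 := Groth.Agent.Lib.Helper2.CMGlue.affine_height k
    (MvPolynomial (Fin n × Fin n) k) Q (n * n) c ringKrullDim_mvPolynomial hc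
  have hfin : Q.height ≠ ⊤ := by
    intro htop
    rw [htop, top_add] at h2
    exact ENat.top_ne_natCast (n * n) h2
  obtain ⟨e', he'⟩ := ENat.ne_top_iff_exists.mp hfin
  rw [← he'] at h1 h2
  have h3 : e' ≤ n := by exact_mod_cast h1
  have h4 : e' + c = n * n := by exact_mod_cast h2
  have h5 : ringKrullDim (MvPolynomial (Fin n × Fin n) k ⧸ Q) ≤
      ringKrullDim (MvPolynomial (Fin n × Fin n) k ⧸ nilIdeal k n) :=
    ringKrullDim_le_of_surjective (Ideal.Quotient.factor hQ.1.2)
      (Ideal.Quotient.factor_surjective _)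
  rw [hc] at h5
  refine le_trans ?_ h5
  exact_mod_cast (by omega : n * n - n ≤ c)

/-- a prime containing the nilpotent ideal and the off-diagonal variables contains all variables -/
theorem X_diag_mem (𝔮 : Ideal (MvPolynomial (Fin n × Fin n) k)) [h𝔮 : 𝔮.IsPrime]
    (hI : nilIdeal k n ≤ 𝔮) (hoff : ∀ i j : Fin n, i ≠ j → (X (i, j) : MvPolynomial _ k) ∈ 𝔮)
    (i : Fin n) : (X (i, i) : MvPolynomial (Fin n × Fin n) k) ∈ 𝔮 := by
  classical
  set φ := Ideal.Quotient.mk 𝔮 with hφ
  have h1 : ((Matrix.mvPolynomialX (Fin n) (Fin n) k).map φ) =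
      Matrix.diagonal (fun i => φ (X (i, i))) := by
    ext a b
    rw [Matrix.map_apply, Matrix.mvPolynomialX_apply, Matrix.diagonal_apply]
    split_ifs with hab
    · rw [hab]
    · exact Ideal.Quotient.eq_zero_iff_mem.mpr (hoff a b hab)
  have h2 : IsNilpotent ((Matrix.mvPolynomialX (Fin n) (Fin n) k).map φ) := by
    apply isNilpotent_of_charpoly_coeff
    intro j
    rw [Matrix.charpoly_map, Polynomial.coeff_map]
    exact Ideal.Quotient.eq_zero_iff_mem.mpr (hI (Ideal.subset_span ⟨j, rfl⟩))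
  rw [h1] at h2
  obtain ⟨m, hm⟩ := h2
  rw [Matrix.diagonal_pow] at hm
  have h3 := congrFun (congrFun hm i) i
  rw [Matrix.diagonal_apply_eq, Matrix.zero_apply, Pi.pow_apply] at h3
  have h4 : φ (X (i, i)) = 0 := eq_zero_of_pow_eq_zero h3
  exact Ideal.Quotient.eq_zero_iff_mem.mp h4


attribute [local instance] MvPolynomial.gradedAlgebra

theorem nilIdeal_isHomogeneous :
    (nilIdeal k n).IsHomogeneous (homogeneousSubmodule (Fin n × Fin n) k) := by
  unfold nilIdeal
  apply Ideal.homogeneous_span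
  rintro _ ⟨i, rfl⟩
  exact ⟨n - i, Matrix.charpoly.univ_coeff_isHomogeneous (R := k) (Fin n) i (n - i)
    (by rw [Fintype.card_fin]; omega)⟩

theorem h0 : ∀ a ∈ homogeneousSubmodule (Fin n × Fin n) k 0, a ≠ 0 → IsUnit a := by
  intro a ha hne
  rw [homogeneousSubmodule_zero, Submodule.mem_one] at ha
  obtain ⟨c, rfl⟩ := ha
  have hc : c ≠ 0 := by
    rintro rfl
    exact hne (map_zero _)
  exact (isUnit_iff_ne_zero.mpr hc).map _

theorem X_mem_irrelevant (ij : Fin n × Fin n) :
    (X ij : MvPolynomial (Fin n × Fin n) k) ∈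
      (HomogeneousIdeal.irrelevant (homogeneousSubmodule (Fin n × Fin n) k)).toIdeal := by
  apply Groth.Agent.Helper20.NatInt.mem_irrelevant_of_decompose_zero
  rw [DirectSum.decompose_of_mem_ne _ (isHomogeneous_X k ij) (by norm_num : (1 : ℕ) ≠ 0)]

/-- upper bound for the dimension of the nilpotent cone -/
theorem dim_le : ringKrullDim (MvPolynomial (Fin n × Fin n) k ⧸ nilIdeal k n) ≤
    ((n * n - n : ℕ) : WithBot ℕ∞) := by
  classical
  rw [Groth.Agent.Helper20.NatInt.ringKrullDim_quotient_eq_height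
    (homogeneousSubmodule (Fin n × Fin n) k) h0 (nilIdeal k n) nilIdeal_isHomogeneous
    nilIdeal_ne_top]
  haveI hmax := Groth.Agent.Helper20.NatInt.irrelevant_map_isMaximal
    (homogeneousSubmodule (Fin n × Fin n) k) h0 (nilIdeal k n) nilIdeal_isHomogeneous
    nilIdeal_ne_top
  haveI := hmax.isPrime
  set 𝔪 := (HomogeneousIdeal.irrelevant (homogeneousSubmodule (Fin n × Fin n) k)).toIdeal.map
    (Ideal.Quotient.mk (nilIdeal k n)) with h𝔪
  let s : Set (MvPolynomial (Fin n × Fin n) k ⧸ nilIdeal k n) :=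
    (fun ij : Fin n × Fin n => Ideal.Quotient.mk (nilIdeal k n) (X ij)) ''
      ((Finset.univ : Finset (Fin n)).offDiag : Set (Fin n × Fin n))
  have hs : s ⊆ 𝔪 := by
    rintro _ ⟨ij, _, rfl⟩
    exact Ideal.mem_map_of_mem _ (X_mem_irrelevant ij)
  have hcard : s.encard ≤ ((n * n - n : ℕ) : ℕ∞) := by
    refine (Set.encard_image_le _ _).trans ?_
    rw [Set.encard_coe_eq_coe_finsetCard, Finset.offDiag_card, Finset.card_univ, Fintype.card_fin]
  have h1 := Ideal.height_le_ringKrullDim_quotient_add_encard (p := 𝔪) s hs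
  have h2 : ringKrullDim ((MvPolynomial (Fin n × Fin n) k ⧸ nilIdeal k n) ⧸ Ideal.span s) ≤ 0 := by
    have : Ring.KrullDimLE 0 ((MvPolynomial (Fin n × Fin n) k ⧸ nilIdeal k n) ⧸ Ideal.span s) := by
      refine Ring.KrullDimLE.mk₀ ?_
      intro 𝔮 h𝔮
      set π : MvPolynomial (Fin n × Fin n) k →+*
          (MvPolynomial (Fin n × Fin n) k ⧸ nilIdeal k n) ⧸ Ideal.span s :=
        (Ideal.Quotient.mk (Ideal.span s)).comp (Ideal.Quotient.mk (nilIdeal k n)) with hπ
      have hπs : Function.Surjective π :=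
        Ideal.Quotient.mk_surjective.comp Ideal.Quotient.mk_surjective
      haveI : (𝔮.comap π).IsPrime := Ideal.comap_isPrime _ _
      have hI : nilIdeal k n ≤ 𝔮.comap π := by
        intro x hx
        rw [Ideal.mem_comap, hπ, RingHom.comp_apply, Ideal.Quotient.eq_zero_iff_mem.mpr hx,
          map_zero]
        exact 𝔮.zero_mem
      have hoff : ∀ i j : Fin n, i ≠ j →
          (X (i, j) : MvPolynomial (Fin n × Fin n) k) ∈ 𝔮.comap π := by
        intro i j hij
        rw [Ideal.mem_comap, hπ, RingHom.comp_apply]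
        have : Ideal.Quotient.mk (nilIdeal k n) (X (i, j)) ∈ Ideal.span s := by
          apply Ideal.subset_span
          refine ⟨(i, j), ?_, rfl⟩
          rw [Finset.mem_coe, Finset.mem_offDiag]
          exact ⟨Finset.mem_univ _, Finset.mem_univ _, hij⟩
        rw [Ideal.Quotient.eq_zero_iff_mem.mpr this]
        exact 𝔮.zero_mem
      have hall : ∀ ij : Fin n × Fin n,
          (X ij : MvPolynomial (Fin n × Fin n) k) ∈ 𝔮.comap π := by
        rintro ⟨i, j⟩
        by_cases hij : i = j
        · subst hij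
          exact X_diag_mem _ hI hoff i
        · exact hoff i j hij
      have hle := Groth.Agent.S10918.ker_le_of_X_mem _ hall
      have hmx : (RingHom.ker (constantCoeff : MvPolynomial (Fin n × Fin n) k →+* k)).IsMaximal :=
        Groth.Agent.S10918.ker_isMaximal
      have heq := hmx.eq_of_le (Ideal.comap_ne_top _ h𝔮.ne_top) hle
      have h3 : 𝔮 = (𝔮.comap π).map π := (Ideal.map_comap_of_surjective π hπs 𝔮).symm
      rw [h3, ← heq]
      rcases Ideal.map_eq_top_or_isMaximal_of_surjective π hπs hmx with h | h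
      · exfalso
        rw [heq, Ideal.map_comap_of_surjective π hπs] at h
        exact h𝔮.ne_top h
      · exact h
    exact Ring.krullDimLE_iff.mp this
  have h3 : (𝔪.height : WithBot ℕ∞) ≤ (0 : WithBot ℕ∞) + ((n * n - n : ℕ) : ℕ∞) := by
    refine h1.trans ?_
    gcongr
    exact_mod_cast hcard
  rw [zero_add] at h3
  have h4 : 𝔪.height ≤ ((n * n - n : ℕ) : ℕ∞) := WithBot.coe_le_coe.mp h3
  calc ((𝔪.height : ℕ∞) : WithBot ℕ∞) ≤ (((n * n - n : ℕ) : ℕ∞) : WithBot ℕ∞) :=
        WithBot.coe_le_coe.mpr h4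
    _ = ((n * n - n : ℕ) : WithBot ℕ∞) := rfl

theorem main (k : Type u) [Field k] [IsAlgClosed k]
    (n : ℕ) (hn : 1 ≤ n) (I : Ideal (MvPolynomial (Fin n × Fin n) k))
    (hI : I = Ideal.span (Set.range (fun i : Fin n =>
      (Matrix.charpoly (Matrix.mvPolynomialX (Fin n) (Fin n) k)).coeff (i : ℕ)))) :
    IrreducibleSpace (PrimeSpectrum (MvPolynomial (Fin n × Fin n) k ⧸ I)) ∧
      ringKrullDim (MvPolynomial (Fin n × Fin n) k ⧸ I) = ((n ^ 2 - n : ℕ) : WithBot ℕ∞) := by
  have hI' : I = nilIdeal k n := hI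
  subst hI'
  refine ⟨irreducible, ?_⟩
  rw [sq]
  exact le_antisymm dim_le le_dim

end

/-- Over an algebraically closed field k, let n ≥ 1 and let I be the ideal of the polynomial ring
k[x_ij] in the n² entries of the generic n × n matrix generated by the coefficients of t^0, …,
t^(n−1) in its characteristic polynomial, so that the zero locus of I in the affine space of n × n
matrices is the set of nilpotent matrices. Then the spectrum of k[x_ij]/I is irreducible and
k[x_ij]/I has Krull dimension n² − n: the nilpotent matrices form an irreducible closed subvariety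
of dimension n² − n of the space of all n × n matrices. -/
theorem result (k : Type u) [Field k] [IsAlgClosed k]
    (n : ℕ) (hn : 1 ≤ n) (I : Ideal (MvPolynomial (Fin n × Fin n) k))
    (hI : I = Ideal.span (Set.range (fun i : Fin n =>
      (Matrix.charpoly (Matrix.mvPolynomialX (Fin n) (Fin n) k)).coeff (i : ℕ)))) :
    IrreducibleSpace (PrimeSpectrum (MvPolynomial (Fin n × Fin n) k ⧸ I)) ∧
      ringKrullDim (MvPolynomial (Fin n × Fin n) k ⧸ I) = ((n ^ 2 - n : ℕ) : WithBot ℕ∞) := by
  exact Groth.Agent.S14377.main k n hn I hI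

end Groth.Agent.S14377
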