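import Groth.Statements.S14382
import Mathlib
import Groth.Agent.S0101
import Groth.Agent.S0106
import Groth.Agent.S14451
import Groth.Agent.S13843
import Groth.Agent.Lib.Helper29.HResC
import Groth.Agent.Lib.Helper1.FP5
import Groth.Agent.Lib.Helper10.LcStrata

set_option autoImplicit false
open CategoryTheory CategoryTheory.Limits AlgebraicGeometry Opposite
universe u
open EtCoh

namespace Groth.Agent.S14382

section helpers

section topo
variable {α β : Type*} [TopologicalSpace α] [TopologicalSpace β]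

/-- If a space has finitely many clopen subsets, each connected component is clopen. -/
lemma isClopen_connectedComponent_of_finite (h : Finite (TopologicalSpace.Clopens α)) (x : α) :
    IsClopen (connectedComponent x) := by
  classical
  let S : Set (Set α) := {Z | IsClopen Z ∧ x ∈ Z}
  have hSfin : S.Finite := by
    have : S ⊆ Set.range (fun U : TopologicalSpace.Clopens α => (U : Set α)) := by
      rintro Z ⟨hZ, -⟩
      exact ⟨⟨Z, hZ⟩, rfl⟩
    exact (Set.finite_range _).subset this
  have hQc : IsClopen (⋂₀ S) := by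
    constructor
    · exact isClosed_sInter (fun Z hZ => hZ.1.1)
    · exact hSfin.isOpen_sInter (fun Z hZ => hZ.1.2)
  have hxQ : x ∈ ⋂₀ S := fun Z hZ => hZ.2
  have hpre : IsPreconnected (⋂₀ S) := by
    rw [isPreconnected_iff_subset_of_fully_disjoint_closed hQc.1]
    intro u v hu hv huv hd
    have hcl : ∀ (a b : Set α), IsClosed a → IsClosed b → ⋂₀ S ⊆ a ∪ b → Disjoint a b →
        x ∈ a → ⋂₀ S ⊆ a := by
      intro a b ha hb hab hdab hxa
      have h1 : IsClopen (⋂₀ S ∩ a) := by
        constructor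
        · exact hQc.1.inter ha
        · have : ⋂₀ S ∩ a = ⋂₀ S ∩ bᶜ := by
            ext z
            constructor
            · rintro ⟨hz, hza⟩
              exact ⟨hz, fun hzb => (Set.disjoint_left.1 hdab hza hzb)⟩
            · rintro ⟨hz, hzb⟩
              exact ⟨hz, (hab hz).resolve_right hzb⟩
          rw [this]
          exact hQc.2.inter hb.isOpen_compl
      have h2 : ⋂₀ S ⊆ ⋂₀ S ∩ a := Set.sInter_subset_of_mem ⟨h1, hxQ, hxa⟩
      exact fun z hz => (h2 hz).2
    rcases huv hxQ with hxu | hxv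
    · exact Or.inl (hcl u v hu hv huv hd hxu)
    · exact Or.inr (hcl v u hv hu (by rwa [Set.union_comm]) hd.symm hxv)
  have heq : connectedComponent x = ⋂₀ S := by
    apply Set.Subset.antisymm
    · intro z hz Z hZ
      exact hZ.1.connectedComponent_subset hZ.2 hz
    · exact hpre.subset_connectedComponent hxQ
  rw [heq]
  exact hQc

lemma finite_connectedComponents_of_finite_clopens (h : Finite (TopologicalSpace.Clopens α)) :
    Finite (ConnectedComponents α) := by
  have hc : ∀ c : ConnectedComponents α, IsClopen (ConnectedComponents.mk ⁻¹' {c}) := by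
    intro c
    obtain ⟨x, rfl⟩ := ConnectedComponents.surjective_coe c
    rw [connectedComponents_preimage_singleton]
    exact isClopen_connectedComponent_of_finite h x
  refine Finite.of_injective
    (fun c => (⟨ConnectedComponents.mk ⁻¹' {c}, hc c⟩ : TopologicalSpace.Clopens α)) ?_
  intro c c' hcc
  have h1 : ConnectedComponents.mk ⁻¹' {c} = ConnectedComponents.mk ⁻¹' {c'} :=
    congrArg (fun U : TopologicalSpace.Clopens α => (U : Set α)) hcc
  have := Set.preimage_injective.2 ConnectedComponents.surjective_coe h1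
  exact Set.singleton_injective this

lemma finite_clopens_of_map (f : α → β) (ho : IsOpenMap f) (hcl : IsClosedMap f)
    (hfib : ∀ y, (f ⁻¹' {y}).Finite) (hY : Finite (ConnectedComponents β)) :
    Finite (TopologicalSpace.Clopens α) := by
  classical
  let r : ConnectedComponents β → β := fun c => (ConnectedComponents.surjective_coe c).choose
  have hr : ∀ c, ConnectedComponents.mk (r c) = c :=
    fun c => (ConnectedComponents.surjective_coe c).choose_spec
  let T : Set α := f ⁻¹' (Set.range r)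
  have hT : T.Finite := by
    have : T = ⋃ c, f ⁻¹' {r c} := by
      ext z
      simp only [T, Set.mem_preimage, Set.mem_range, Set.mem_iUnion, Set.mem_singleton_iff]
      constructor
      · rintro ⟨c, hc⟩
        exact ⟨c, hc.symm⟩
      · rintro ⟨c, hc⟩
        exact ⟨c, hc.symm⟩
    rw [this]
    exact Set.finite_iUnion (fun c => hfib (r c))
  have key : ∀ W : Set α, IsClopen W → W.Nonempty → (W ∩ T).Nonempty := by
    rintro W hW ⟨x, hx⟩
    have hfW : IsClopen (f '' W) := ⟨hcl W hW.1, ho W hW.2⟩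
    have hsub := hfW.connectedComponent_subset (Set.mem_image_of_mem f hx)
    have hmem : r (ConnectedComponents.mk (f x)) ∈ connectedComponent (f x) := by
      have := hr (ConnectedComponents.mk (f x))
      rw [ConnectedComponents.coe_eq_coe'] at this
      exact this
    obtain ⟨w, hw, hfw⟩ := hsub hmem
    exact ⟨w, hw, ⟨_, hfw.symm⟩⟩
  haveI : Finite T := hT.to_subtype
  refine Finite.of_injective (fun U : TopologicalSpace.Clopens α => {t : T | (t : α) ∈ U}) ?_
  intro U U' hUU'
  by_contra hne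
  have hW : IsClopen (((U : Set α) \ U') ∪ ((U' : Set α) \ U)) :=
    (U.isClopen.diff U'.isClopen).union (U'.isClopen.diff U.isClopen)
  have hWne : (((U : Set α) \ U') ∪ ((U' : Set α) \ U)).Nonempty := by
    rw [Set.nonempty_iff_ne_empty]
    intro hemp
    apply hne
    apply TopologicalSpace.Clopens.ext
    ext x
    constructor
    · intro hx
      by_contra hx'
      have : x ∈ ((U : Set α) \ U') ∪ ((U' : Set α) \ U) := Or.inl ⟨hx, hx'⟩
      rw [hemp] at this
      exact this
    · intro hx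
      by_contra hx'
      have : x ∈ ((U : Set α) \ U') ∪ ((U' : Set α) \ U) := Or.inr ⟨hx, hx'⟩
      rw [hemp] at this
      exact this
  obtain ⟨t, htW, htT⟩ := key _ hW hWne
  have h1 : (⟨t, htT⟩ : T) ∈ {t : T | (t : α) ∈ U} ↔ (⟨t, htT⟩ : T) ∈ {t : T | (t : α) ∈ U'} := by
    have := congrArg (fun A : Set T => (⟨t, htT⟩ : T) ∈ A) hUU'
    exact Iff.of_eq this
  rcases htW with ⟨h, h'⟩ | ⟨h, h'⟩
  · exact h' (h1.1 h)
  · exact h' (h1.2 h)

end topo

lemma partA {X Y : Scheme.{u}} (f : X ⟶ Y) [IsFinite f] [Etale f] [CompactSpace ↥Y]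
    [QuasiSeparatedSpace ↥Y] (hconn : Finite (_root_.ConnectedComponents ↥Y)) :
    CompactSpace ↥X ∧ QuasiSeparatedSpace ↥X ∧ Finite (_root_.ConnectedComponents ↥X) := by
  refine ⟨QuasiCompact.compactSpace_of_compactSpace f, quasiSeparatedSpace_of_quasiSeparated f, ?_⟩
  apply finite_connectedComponents_of_finite_clopens
  exact finite_clopens_of_map (⇑f) f.isOpenMap f.isClosedMap
    (fun y => f.finite_preimage_singleton y) hconn

lemma nsmul_id_app {X : Scheme.{u}} (F : EtCoh.Ab X) (n : ℕ) (U : X.Etale) (s : EtCoh.sect F U) :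
    ((n • 𝟙 F : F ⟶ F).hom.app (op U)).hom s = n • s := by
  induction n with
  | zero =>
    rw [zero_nsmul, zero_nsmul]
    rfl
  | succ n ih =>
    rw [succ_nsmul, succ_nsmul, Sheaf.Hom.add_app]
    show ((n • 𝟙 F : F ⟶ F).hom.app (op U)).hom s + s = _
    rw [ih]

lemma killedBy_iff {X : Scheme.{u}} (F : EtCoh.Ab X) (n : ℕ) :
    EtCoh.KilledBy n F ↔ n • 𝟙 F = 0 := by
  constructor
  · intro h
    apply Sheaf.hom_ext
    ext U s
    have := nsmul_id_app F n U.unop s
    rw [h U.unop s] at this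
    exact this
  · intro h U s
    rw [← nsmul_id_app, h]
    rfl

lemma killedBy_pull {X Y : Scheme.{u}} (f : X ⟶ Y) (F : EtCoh.Ab Y) (n : ℕ)
    (h : EtCoh.KilledBy n F) : EtCoh.KilledBy n ((EtCoh.pull f).obj F) := by
  rw [killedBy_iff] at h ⊢
  have : (EtCoh.pull f).map (n • 𝟙 F) = n • 𝟙 _ := by
    rw [Functor.map_nsmul, CategoryTheory.Functor.map_id]
  rw [← this, h, Functor.map_zero]

lemma killedBy_push {X Y : Scheme.{u}} (f : X ⟶ Y) (F : EtCoh.Ab X) (n : ℕ)
    (h : EtCoh.KilledBy n F) : EtCoh.KilledBy n ((EtCoh.push f).obj F) := by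
  intro U s
  exact h ((EtCoh.bc f).obj U) s

theorem main (P : Set ℕ) {X Y : Scheme.{u}} (f : X ⟶ Y)
    [IsFinite f] [Etale f] [Surjective f] [CompactSpace ↥Y] [QuasiSeparatedSpace ↥Y]
    (hconn : Finite (_root_.ConnectedComponents ↥Y)) :
    (CompactSpace ↥X ∧ QuasiSeparatedSpace ↥X ∧ Finite (_root_.ConnectedComponents ↥X)) ∧
    ((∀ (F : EtCoh.Ab Y), EtCoh.IsFiniteLocallyConstant F →
        (∃ n : ℕ, 0 < n ∧ (∀ p : ℕ, p.Prime → p ∣ n → p ∈ P) ∧ EtCoh.KilledBy n F) →
        ∀ q : ℕ, 0 < q → ∀ ζ : EtCoh.H Y F q,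
          ∃ (Y' : Scheme.{u}) (g : Y' ⟶ Y), IsFinite g ∧ Etale g ∧ Surjective g ∧
            ∀ [PreservesFiniteLimits (EtCoh.pull g)], EtCore.Hpull g F q ζ = 0) ↔
     (∀ (F : EtCoh.Ab X), EtCoh.IsFiniteLocallyConstant F →
        (∃ n : ℕ, 0 < n ∧ (∀ p : ℕ, p.Prime → p ∣ n → p ∈ P) ∧ EtCoh.KilledBy n F) →
        ∀ q : ℕ, 0 < q → ∀ ζ : EtCoh.H X F q,
          ∃ (X' : Scheme.{u}) (g : X' ⟶ X), IsFinite g ∧ Etale g ∧ Surjective g ∧
            ∀ [PreservesFiniteLimits (EtCoh.pull g)], EtCore.Hpull g F q ζ = 0)) := by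
  haveI hpfl : ∀ {A B : Scheme.{u}} (g : A ⟶ B), PreservesFiniteLimits (EtCoh.pull g) :=
    fun g => Groth.Agent.S0101.result g
  refine ⟨partA f hconn, ⟨?_, ?_⟩⟩
  · -- Y K(π,1) ⇒ X K(π,1)
    intro hY F hF ⟨n, hn, hP, hk⟩ q hq ζ
    have hbij := Groth.Agent.S14451.result f F
      (fun q hq => Groth.Agent.Helper1.FP.isZero_Rpush_finite f F q hq) q
    obtain ⟨ζ', rfl⟩ := hbij.2 ζ
    obtain ⟨Y', g, hg1, hg2, hg3, hg4⟩ := hY ((EtCoh.push f).obj F)
      (Groth.Agent.S0106.result f F hF) ⟨n, hn, hP, killedBy_push f F n hk⟩ q hq ζ'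
    refine ⟨pullback f g, pullback.fst f g, inferInstance, inferInstance, inferInstance, ?_⟩
    intro inst
    have hc := Groth.Agent.Helper29.HResC.main14389 f g (pullback.snd f g) (pullback.fst f g)
      pullback.condition F q ζ'
    have h0 : EtCore.Hpull g ((EtCoh.push f).obj F) q ζ' = 0 := hg4
    rw [hc, h0]
    exact (congrArg (EtLim.HofPush (pullback.snd f g) ((EtCoh.pull (pullback.fst f g)).obj F) q)
      (map_zero ((EtCoh.HF Y' q).map (EtCoh.baseChange0 f g (pullback.snd f g)
        (pullback.fst f g) pullback.condition F)).hom)).trans (map_zero _)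
  · -- X K(π,1) ⇒ Y K(π,1)
    intro hX F hF ⟨n, hn, hP, hk⟩ q hq ζ
    obtain ⟨X', g, hg1, hg2, hg3, hg4⟩ := hX ((EtCoh.pull f).obj F)
      (Groth.Agent.Helper10.LcStrata.isFLC_pull f hF) ⟨n, hn, hP, killedBy_pull f F n hk⟩ q hq
      (EtCore.Hpull f F q ζ)
    refine ⟨X', g ≫ f, inferInstance, inferInstance, inferInstance, ?_⟩
    intro inst
    have h0 : EtCore.Hpull g _ q (EtCore.Hpull f F q ζ) = 0 := hg4
    obtain ⟨B, hB⟩ := Groth.Agent.S3513.Hpull_comp_factor g f F q
    have hB0 := hB 0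
    rw [map_zero, map_zero, map_zero] at hB0
    rw [hB ζ, h0, ← hB0]

end helpers

/-- Let P be a set of prime numbers and f : X → Y a finite étale surjective morphism of schemes, where Y
is quasi-compact and quasi-separated with finitely many connected components. Then X is
quasi-compact and quasi-separated with finitely many connected components, and Y is a K(π,1) for
P-torsion coefficients if and only if X is; here a scheme Z is called a K(π,1) for P-torsion
coefficients when for every finite locally constant abelian sheaf F on the small étale site of Z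
killed by some n ≥ 1 all of whose prime factors lie in P, every q > 0 and every class ζ in H^q(Z_ét,
F) there is a finite étale surjective g : Z' → Z with g^*ζ = 0. (Exactness of pullback of abelian
sheaves, which always holds, is carried as an instance hypothesis.) -/
theorem result (P : Set ℕ) {X Y : Scheme.{u}} (f : X ⟶ Y)
    [IsFinite f] [Etale f] [Surjective f] [CompactSpace ↥Y] [QuasiSeparatedSpace ↥Y]
    (hconn : Finite (_root_.ConnectedComponents ↥Y)) :
    (CompactSpace ↥X ∧ QuasiSeparatedSpace ↥X ∧ Finite (_root_.ConnectedComponents ↥X)) ∧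
    ((∀ (F : EtCoh.Ab Y), EtCoh.IsFiniteLocallyConstant F →
        (∃ n : ℕ, 0 < n ∧ (∀ p : ℕ, p.Prime → p ∣ n → p ∈ P) ∧ EtCoh.KilledBy n F) →
        ∀ q : ℕ, 0 < q → ∀ ζ : EtCoh.H Y F q,
          ∃ (Y' : Scheme.{u}) (g : Y' ⟶ Y), IsFinite g ∧ Etale g ∧ Surjective g ∧
            ∀ [PreservesFiniteLimits (EtCoh.pull g)], EtCore.Hpull g F q ζ = 0) ↔
     (∀ (F : EtCoh.Ab X), EtCoh.IsFiniteLocallyConstant F →
        (∃ n : ℕ, 0 < n ∧ (∀ p : ℕ, p.Prime → p ∣ n → p ∈ P) ∧ EtCoh.KilledBy n F) →
        ∀ q : ℕ, 0 < q → ∀ ζ : EtCoh.H X F q,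
          ∃ (X' : Scheme.{u}) (g : X' ⟶ X), IsFinite g ∧ Etale g ∧ Surjective g ∧
            ∀ [PreservesFiniteLimits (EtCoh.pull g)], EtCore.Hpull g F q ζ = 0)) := by
  exact main P f hconn

end Groth.Agent.S14382
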