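import Groth.Statements.S14385
import Groth.Agent.Lib.Helper21.EtaEt2
import Groth.Agent.Lib.Helper21.EtaEt3
import Groth.Agent.S14379
import Groth.Agent.S14384

set_option autoImplicit false
open scoped TensorProduct
open AlgebraicGeometry
universe u
open CAlg

namespace Groth.Agent.S14385

/-- Let V be a discrete valuation ring of characteristic zero with uniformizer ϖ, whose residue field k
is perfect of characteristic p > 0, with fraction field K; let R be a flat V-algebra of finite type
such that the generic fibre Spec(K ⊗_V R) → Spec K is smooth of relative dimension d; and suppose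
some d-tuple x' of elements of R defines a morphism f' from Spec R to affine d-space over V which is
η-étale, meaning that for some a ∈ R with (a) + (ϖ) = R the localisation R[1/(aϖ)] is étale over
V[T_1, …, T_d] via T_i ↦ x'_i (f' is étale on the generic fibre of an open neighbourhood of the
closed fibre). Then there is a d-tuple x in R whose morphism f is η-étale in the same sense and
finite on each fibre: k ⊗_V R is finite over k[T_1, …, T_d] and K ⊗_V R is finite over K[T_1, …,
T_d] via T_i ↦ 1 ⊗ x_i. -/
theorem result (V : Type u) [CommRing V] [IsDomain V] [IsDiscreteValuationRing V] [CharZero V]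
    (ϖ : V) (hϖ : Irreducible ϖ) (p : ℕ) [Fact p.Prime] [CharP (IsLocalRing.ResidueField V) p]
    [PerfectField (IsLocalRing.ResidueField V)]
    (R : Type u) [CommRing R] [Algebra V R] [Module.Flat V R] [Algebra.FiniteType V R] (d : ℕ)
    (hsm : SmoothOfRelativeDimension d
      (Spec.map (CommRingCat.ofHom (algebraMap (FractionRing V) (FractionRing V ⊗[V] R)))))
    (x' : Fin d → R) (hx' : (∃ a : R, Ideal.span {a} ⊔ Ideal.span {algebraMap V R ϖ} = ⊤ ∧
        ((algebraMap R (Localization.Away (a * algebraMap V R ϖ))).comp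
          (MvPolynomial.aeval x' : MvPolynomial (Fin d) V →ₐ[V] R).toRingHom).Etale)) :
    ∃ x : Fin d → R, (∃ a : R, Ideal.span {a} ⊔ Ideal.span {algebraMap V R ϖ} = ⊤ ∧
        ((algebraMap R (Localization.Away (a * algebraMap V R ϖ))).comp
          (MvPolynomial.aeval x : MvPolynomial (Fin d) V →ₐ[V] R).toRingHom).Etale) ∧
      (MvPolynomial.aeval (fun i => (1 : IsLocalRing.ResidueField V) ⊗ₜ[V] x i) :
          MvPolynomial (Fin d) (IsLocalRing.ResidueField V) →ₐ[IsLocalRing.ResidueField V]
            IsLocalRing.ResidueField V ⊗[V] R).toRingHom.Finite ∧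
      (MvPolynomial.aeval (fun i => (1 : FractionRing V) ⊗ₜ[V] x i) :
          MvPolynomial (Fin d) (FractionRing V) →ₐ[FractionRing V] FractionRing V ⊗[V] R).toRingHom.Finite := by
  obtain ⟨a', ha', het'⟩ := hx'
  obtain ⟨n, hn⟩ := Groth.Agent.Helper21.EtaEt.pow_smul_le_sup_of_etale V ϖ hϖ p R x' a' ha' het'
  have hsm' := (HasRingHomProperty.Spec_iff (P := @SmoothOfRelativeDimension d)).mp hsm
  have hη : ringKrullDim (FractionRing V ⊗[V] R) ≤ d :=
    Groth.Agent.Helper21.EtaEt.ringKrullDim_le_of_locally_standardSmooth (FractionRing V) _ d hsm'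
  have hs : ringKrullDim (IsLocalRing.ResidueField V ⊗[V] R) ≤ d :=
    Groth.Agent.Helper21.EtaEt.ringKrullDim_residue_tensor_le V ϖ hϖ R d hη
  obtain ⟨y, hy, hfin1, hfin2⟩ := Groth.Agent.S14379.result V R d hs hη x' (p ^ (n + 1))
    (Nat.one_le_pow _ _ (Fact.out : p.Prime).pos)
  have hn' := Groth.Agent.S14384.result V ϖ hϖ p R d n x' hn y hy
  refine ⟨fun i => x' i + y i, ?_, hfin1, hfin2⟩
  exact Groth.Agent.Helper21.EtaEt.etale_of_pow_smul_le_sup V ϖ hϖ p R (fun i => x' i + y i)
    hsm n hn'

end Groth.Agent.S14385
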