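import Groth.Statements.S14397
import Mathlib

set_option autoImplicit false
universe u
open DualGr

namespace Groth.Agent.S14397

/-- Let (V, E) with endpoint map E → V × V be a finite multigraph (loops and parallel edges allowed; the
order of the two endpoints is an auxiliary orientation), and let D_1, …, D_n be finite sets of edges
such that every edge lies outside at least one D_i. For each i let Γ_i be the multigraph obtained by
contracting the edges of D_i, and let H₁(Γ, ℤ) → H₁(Γ_i, ℤ) be the map of cycle lattices (integer
edge vectors with zero boundary) given by restriction to the surviving edges. Then the map H₁(Γ, ℤ)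
→ ⊕_i H₁(Γ_i, ℤ) has torsion-free cokernel. (The published statement is about the connected labelled
dual graph of the closed fibre of a nodal curve, smooth outside a normal crossing divisor with
components D_1, …, D_n, over a Noetherian regular strictly local base; Γ_i is the dual graph of the
fibre over the generic point of D_i, the lattices are identified with the character groups of the
toric parts of the Picard schemes of these fibres, and the map is the generization map of character
groups; this row states the assertion about cycle lattices, for any finite multigraph, which is what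
the argument establishes.) -/
theorem result
    {V E : Type u} [Fintype V] [Fintype E] [DecidableEq V] [DecidableEq E]
    (ends : E → V × V) {n : ℕ} (D : Fin n → Finset E) (hcover : ∀ e : E, ∃ i : Fin n, e ∉ D i) :
    IsAddTorsionFree (((i : Fin n) → ↥(DualGr.cycleLattice (DualGr.ctrEnds ends (D i)))) ⧸
      LinearMap.range (LinearMap.pi fun i : Fin n => DualGr.genMap ends (D i))) := by
  classical
  refine ⟨fun k hk a b hab => ?_⟩
  obtain ⟨y, rfl⟩ := Submodule.Quotient.mk_surjective _ a
  obtain ⟨z, rfl⟩ := Submodule.Quotient.mk_surjective _ b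
  have hk' : (k : ℤ) ≠ 0 := Int.natCast_ne_zero.2 hk
  have h1 : (Submodule.mkQ (LinearMap.range (LinearMap.pi fun i : Fin n => DualGr.genMap ends (D i)))) (k • y)
      = (Submodule.mkQ (LinearMap.range (LinearMap.pi fun i : Fin n => DualGr.genMap ends (D i)))) (k • z) := by
    rw [map_nsmul, map_nsmul]; exact hab
  have h2 := (Submodule.Quotient.eq _).1 h1
  obtain ⟨γ, hγ⟩ := h2
  choose idx hidx using hcover
  have key : ∀ i (e' : DualGr.CtrEdge (D i)), γ.1 e'.1 = (k:ℤ) * ((y i).1 e' - (z i).1 e') := by
    intro i e'
    have h3 := congrArg (fun w => (w i).1 e') hγ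
    simp only [LinearMap.pi_apply, Pi.sub_apply, Pi.smul_apply, Submodule.coe_sub,
      Submodule.coe_smul_of_tower, nsmul_eq_mul, Nat.cast_id] at h3
    have h4 : (DualGr.genMap ends (D i) γ).1 e' = γ.1 e'.1 := rfl
    rw [h4] at h3
    rw [h3]
    simp [mul_sub]
  let γ' : E → ℤ := fun e => (y (idx e)).1 ⟨e, hidx e⟩ - (z (idx e)).1 ⟨e, hidx e⟩
  have hγ1 : γ.1 = (k:ℤ) • γ' := funext fun e => key (idx e) ⟨e, hidx e⟩
  have hγ' : DualGr.boundaryHom ends γ' = 0 := by
    have h5 : (k:ℤ) • DualGr.boundaryHom ends γ' = 0 := by
      rw [← map_smul, ← hγ1]; exact γ.2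
    funext v
    have h6 := congr_fun h5 v
    simp only [Pi.smul_apply, smul_eq_mul, Pi.zero_apply, mul_eq_zero] at h6
    exact h6.resolve_left hk'
  refine (Submodule.Quotient.eq _).2 ⟨⟨γ', hγ'⟩, ?_⟩
  funext i
  apply Subtype.ext
  funext e'
  change γ' e'.1 = (y i).1 e' - (z i).1 e'
  apply mul_left_cancel₀ hk'
  rw [← key i e']
  exact (key (idx e'.1) ⟨e'.1, hidx e'.1⟩).symm

end Groth.Agent.S14397
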