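import Groth.Statements.S1440
import Groth.Agent.Lib.Helper15.CdStrat3
import Groth.Agent.Lib.Helper15.CdStrat2

set_option autoImplicit false
universe u
open FlatMor

namespace Groth.Agent.S1440

open AlgebraicGeometry CategoryTheory Limits in
/-- Let f : X → Y be locally of finite presentation with Y quasi-compact and quasi-separated, and assume
f is completely decomposed: every point y of Y is the image of a point x at which the residue field
extension is trivial. Then there are finitely many immersions Z_i → Y of finite presentation,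
jointly surjective, such that each base change X ×_Y Z_i → Z_i admits a section. -/
theorem result {X Y : Scheme.{u}} (f : X ⟶ Y) [LocallyOfFinitePresentation f] [CompactSpace ↑Y] [QuasiSeparatedSpace ↑Y]
    (hcd : ∀ y : Y, ∃ x : X, f x = y ∧ Function.Bijective (f.residueFieldMap x)) :
    ∃ (n : ℕ) (Z : Fin n → Scheme.{u}) (z : ∀ i, Z i ⟶ Y), (∀ y : Y, ∃ i, y ∈ Set.range ⇑(z i)) ∧
      ∀ i, IsImmersion (z i) ∧ LocallyOfFinitePresentation (z i) ∧ QuasiCompact (z i) ∧ QuasiSeparated (z i) ∧
        ∃ s : Z i ⟶ pullback f (z i), s ≫ pullback.snd f (z i) = 𝟙 (Z i) := by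
  classical
  choose x hx hbij using hcd
  have key : ∀ y : Y, ∃ (Z : Scheme.{u}) (z : Z ⟶ Y) (σ : Z ⟶ X), σ ≫ f = z ∧ y ∈ Set.range z ∧
      IsImmersion z ∧ LocallyOfFinitePresentation z ∧ QuasiCompact z ∧ QuasiSeparated z := by
    intro y
    obtain ⟨Z, z, σ, h1, h2, h3⟩ :=
      Groth.Agent.Helper15.CdStrat.exists_local_section f (x y) (hbij y)
    rw [hx y] at h2
    exact ⟨Z, z, σ, h1, h2, h3⟩
  choose Zy zy σy hσ hmem himm hfp hqc hqs using key
  have hC : ∀ y : Y, Topology.IsConstructible (Set.range (zy y)) := by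
    intro y
    haveI := hfp y
    haveI := hqc y
    rw [← Set.image_univ]
    exact (zy y).isConstructible_image Topology.IsConstructible.univ
  obtain ⟨t, ht⟩ := Groth.Agent.Helper15.CdStrat.exists_finite_subcover_of_isConstructible
    (fun y : Y => Set.range (zy y)) hC (fun y => ⟨y, hmem y⟩)
  let e : t ≃ Fin t.card := t.equivFin
  refine ⟨t.card, fun i => Zy (e.symm i).1, fun i => zy (e.symm i).1, ?_, ?_⟩
  · intro y
    obtain ⟨y', hy't, hy'⟩ := ht y
    refine ⟨e ⟨y', hy't⟩, ?_⟩
    have key2 : ∀ j : t, j = ⟨y', hy't⟩ → y ∈ Set.range (zy j.1) := by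
      rintro _ rfl
      exact hy'
    exact key2 (e.symm (e ⟨y', hy't⟩)) (Equiv.symm_apply_apply _ _)
  · intro i
    refine ⟨himm _, hfp _, hqc _, hqs _, ?_⟩
    refine ⟨Limits.pullback.lift (σy (e.symm i).1) (𝟙 _) ?_, Limits.pullback.lift_snd _ _ _⟩
    rw [hσ, Category.id_comp]

end Groth.Agent.S1440
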