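import Groth.Statements.S14400
import Groth.Agent.Lib.Helper6.GalDescA

set_option autoImplicit false
universe u
open CategoryTheory CategoryTheory.Limits AlgebraicGeometry
open Desc

namespace Groth.Agent.S14400

/-- Let K/k be a finite Galois extension of fields, X and Y schemes over k with base changes X_K and
Y_K, and g : X_K ⟶ Y_K a morphism over Spec K. Then g is the base change of a k-morphism f : X ⟶ Y
(that is, g followed by the projection Y_K ⟶ Y is the projection X_K ⟶ X followed by f) if and only
if g commutes with the action of every k-automorphism σ of K on X_K and on Y_K (the identity on X,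
resp. Y, and Spec σ on the factor Spec K). In other words the image of the k-morphisms X ⟶ Y among
the K-morphisms X_K ⟶ Y_K is exactly the set of Galois-invariant ones. -/
theorem result (k : Type u) [Field k] (K : Type u) [Field K]
    [Algebra k K] [FiniteDimensional k K] [IsGalois k K]
    (X Y : Scheme.{u}) [X.Over (Spec (CommRingCat.of k))] [Y.Over (Spec (CommRingCat.of k))]
    (g : Curv2.bc k X K ⟶ Curv2.bc k Y K) (hg : g ≫ Curv2.bcSnd k Y K = Curv2.bcSnd k X K) :
    (∃ f : X ⟶ Y, f ≫ (Y ↘ Spec (CommRingCat.of k)) = X ↘ Spec (CommRingCat.of k) ∧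
        g ≫ Curv2.bcFst k Y K = Curv2.bcFst k X K ≫ f) ↔
      ∀ σ : K ≃ₐ[k] K, Curv2.galAct k X K σ ≫ g = g ≫ Curv2.galAct k Y K σ := by
  constructor
  · rintro ⟨f, hf1, hf2⟩ σ
    apply pullback.hom_ext
    · have h1 := Groth.Agent.Helper6.GalDesc.galAct_fst k K X σ
      have h2 := Groth.Agent.Helper6.GalDesc.galAct_fst k K Y σ
      simp only [Category.assoc]
      rw [h2, hf2, ← Category.assoc, h1]
    · have h1 := Groth.Agent.Helper6.GalDesc.galAct_snd k K X σ
      have h2 := Groth.Agent.Helper6.GalDesc.galAct_snd k K Y σ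
      simp only [Category.assoc]
      rw [h2, hg, ← Category.assoc, hg, h1]
  · intro hσ
    have hh : ∀ σ : K ≃ₐ[k] K,
        Curv2.galAct k X K σ ≫ (g ≫ Curv2.bcFst k Y K) = g ≫ Curv2.bcFst k Y K := by
      intro σ
      rw [← Category.assoc, hσ σ, Category.assoc,
        Groth.Agent.Helper6.GalDesc.galAct_fst k K Y σ]
    obtain ⟨f, hf⟩ := Groth.Agent.Helper6.GalDesc.exists_desc k K X Y (g ≫ Curv2.bcFst k Y K) hh
    refine ⟨f, ?_, hf.symm⟩
    haveI := Groth.Agent.Helper6.GalDesc.effectiveEpi_bcFst k K X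
    rw [← cancel_epi (Curv2.bcFst k X K), ← Category.assoc, hf, Category.assoc]
    have c1 : Curv2.bcFst k Y K ≫ (Y ↘ Spec (CommRingCat.of k)) =
        Curv2.bcSnd k Y K ≫ Spec.map (CommRingCat.ofHom (algebraMap k K)) := pullback.condition
    have c2 : Curv2.bcFst k X K ≫ (X ↘ Spec (CommRingCat.of k)) =
        Curv2.bcSnd k X K ≫ Spec.map (CommRingCat.ofHom (algebraMap k K)) := pullback.condition
    rw [c1, c2, ← Category.assoc, hg]

end Groth.Agent.S14400
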