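import Groth.Statements.S14401
import Mathlib
-- import your own Groth.Agent.* helpers here

set_option autoImplicit false
universe u
open CategoryTheory AlgebraicGeometry
open Props

namespace Groth.Agent.S14401

/-- Let X be a Noetherian scheme all of whose local rings are integral domains. Then each irreducible
component of X is an open subset of X, and each point of X lies on exactly one irreducible component
(so the irreducible components of X are pairwise disjoint, open and closed, and coincide with the
connected components). (The published statement assumes X regular and Noetherian; its argument uses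
only that the local rings of X are domains, which is the hypothesis taken here.) -/
theorem result (X : Scheme.{u}) [AlgebraicGeometry.IsNoetherian X]
    (hX : ∀ x : X, IsDomain (X.presheaf.stalk x)) :
    (∀ Z ∈ irreducibleComponents (X : Type u), IsOpen Z) ∧
      ∀ x : X, ∃! Z, Z ∈ irreducibleComponents (X : Type u) ∧ x ∈ Z := by
  have hNoeth : TopologicalSpace.NoetherianSpace X := inferInstance
  have key : ∀ (x : X) (Z : Set X), Z ∈ irreducibleComponents X → x ∈ Z →
      ∃ ξ : X, Z = closure {ξ} ∧ ∀ Z' : Set X, Z' ∈ irreducibleComponents X → x ∈ Z' →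
        Z' = closure {ξ} := by
    intro x Z hZ hxZ
    have hdom := hX x
    let ξ₀ : PrimeSpectrum (X.presheaf.stalk x) := ⟨⊥, Ideal.isPrime_bot⟩
    let ξ : ↥(Spec (X.presheaf.stalk x)) := ξ₀
    have main : ∀ Z' : Set X, Z' ∈ irreducibleComponents X → x ∈ Z' →
        Z' = closure {(X.fromSpecStalk x) ξ} := by
      intro Z' hZ' hxZ'
      obtain ⟨η, hη⟩ := QuasiSober.sober hZ'.1 (isClosed_of_mem_irreducibleComponents Z' hZ')
      have hηx : η ⤳ x := by
        rw [specializes_iff_mem_closure, hη.def]
        exact hxZ'
      have hmem : η ∈ Set.range (X.fromSpecStalk x) := by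
        rw [Scheme.range_fromSpecStalk]
        exact hηx
      obtain ⟨p, rfl⟩ := hmem
      have h1 : ξ ⤳ p := (PrimeSpectrum.le_iff_specializes ξ₀ p).mp bot_le
      have h2 : (X.fromSpecStalk x) ξ ⤳ (X.fromSpecStalk x) p :=
        h1.map (X.fromSpecStalk x).continuous
      have h3 : Z' ⊆ closure {(X.fromSpecStalk x) ξ} := by
        rw [← hη.def]
        exact closure_minimal (Set.singleton_subset_iff.mpr (specializes_iff_mem_closure.mp h2))
          isClosed_closure
      exact h3.antisymm (hZ'.2 isIrreducible_singleton.closure h3)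
    exact ⟨(X.fromSpecStalk x) ξ, main Z hZ hxZ, main⟩
  have huniq : ∀ (x : X) (Z Z' : Set X), Z ∈ irreducibleComponents X →
      Z' ∈ irreducibleComponents X → x ∈ Z → x ∈ Z' → Z = Z' := by
    intro x Z Z' hZ hZ' hx hx'
    obtain ⟨ξ, h1, h2⟩ := key x Z hZ hx
    exact h1.trans (h2 Z' hZ' hx').symm
  refine ⟨fun Z hZ => ?_, fun x => ⟨irreducibleComponent x,
    ⟨irreducibleComponent_mem_irreducibleComponents x, mem_irreducibleComponent⟩,
    fun Z' hZ' => huniq x _ _ hZ'.1 (irreducibleComponent_mem_irreducibleComponents x) hZ'.2
      mem_irreducibleComponent⟩⟩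
  have hfin : (irreducibleComponents X).Finite :=
    TopologicalSpace.NoetherianSpace.finite_irreducibleComponents
  have hcompl : Zᶜ = ⋃ Z' ∈ (irreducibleComponents X \ {Z}), Z' := by
    ext y
    simp only [Set.mem_compl_iff, Set.mem_iUnion, Set.mem_sdiff, Set.mem_singleton_iff,
      exists_prop]
    constructor
    · intro hy
      refine ⟨irreducibleComponent y, ⟨irreducibleComponent_mem_irreducibleComponents y, ?_⟩,
        mem_irreducibleComponent⟩
      intro h
      exact hy (h ▸ mem_irreducibleComponent)
    · rintro ⟨Z', ⟨hZ', hne⟩, hy⟩ hyZ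
      exact hne (huniq y Z' Z hZ' hZ hy hyZ)
  rw [← isClosed_compl_iff, hcompl]
  exact (hfin.subset Set.sdiff_subset).isClosed_biUnion fun Z' hZ' =>
    isClosed_of_mem_irreducibleComponents Z' hZ'.1

end Groth.Agent.S14401
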