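import Groth.Statements.S14405
import Mathlib.NumberTheory.BernoulliPolynomials
import Mathlib.Tactic

set_option autoImplicit false
open Polynomial
open HilbNum

namespace Groth.Agent.S14405

theorem natDegree_bernoulli_le (n : ℕ) : (Polynomial.bernoulli n).natDegree ≤ n := by
  unfold Polynomial.bernoulli
  refine Polynomial.natDegree_sum_le_of_forall_le _ _ ?_
  intro i _
  exact le_trans (Polynomial.natDegree_monomial_le _) (Nat.sub_le n i)

/-- the antiderivative -/
noncomputable def R (Q : ℚ[X]) (d : ℕ) : ℚ[X] :=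
  ∑ n ∈ Finset.range (d + 1), C (Q.coeff n / ((n : ℚ) + 1)) * Polynomial.bernoulli (n + 1)

theorem R_diff (Q : ℚ[X]) (d : ℕ) (hd : Q.natDegree = d) (x : ℚ) :
    (R Q d).eval (1 + x) - (R Q d).eval x = Q.eval x := by
  unfold R
  rw [Polynomial.eval_finsetSum, Polynomial.eval_finsetSum, ← Finset.sum_sub_distrib,
    Polynomial.eval_eq_sum_range, hd]
  refine Finset.sum_congr rfl ?_
  intro n _
  simp only [Polynomial.eval_mul, Polynomial.eval_C, Polynomial.bernoulli_eval_one_add]
  have : ((n : ℚ) + 1) ≠ 0 := by positivity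
  simp only [Nat.cast_add, Nat.cast_one, add_tsub_cancel_right]
  field_simp
  ring

theorem natDegree_R_le (Q : ℚ[X]) (d : ℕ) : (R Q d).natDegree ≤ d + 1 := by
  unfold R
  refine Polynomial.natDegree_sum_le_of_forall_le _ _ ?_
  intro n hn
  refine le_trans (Polynomial.natDegree_C_mul_le _ _) ?_
  refine le_trans (natDegree_bernoulli_le _) ?_
  have := Finset.mem_range.mp hn
  omega

theorem natDegree_diff_lt (P : ℚ[X]) (hP : P.natDegree ≠ 0) :
    (P - P.comp (X - C 1)).natDegree < P.natDegree := by
  have hP0 : P ≠ 0 := by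
    rintro rfl; simp at hP
  have hq : (X - C (1 : ℚ)).natDegree = 1 := Polynomial.natDegree_X_sub_C 1
  have hlc : (P.comp (X - C 1)).leadingCoeff = P.leadingCoeff := by
    rw [Polynomial.leadingCoeff_comp (by rw [hq]; exact one_ne_zero),
      Polynomial.leadingCoeff_X_sub_C, one_pow, mul_one]
  have hc0 : P.comp (X - C 1) ≠ 0 := by
    intro h
    rw [h, Polynomial.leadingCoeff_zero] at hlc
    exact hP0 (Polynomial.leadingCoeff_eq_zero.mp hlc.symm)
  have hnd : (P.comp (X - C 1)).natDegree = P.natDegree := by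
    rw [Polynomial.natDegree_comp, hq, mul_one]
  have hdeg : P.degree = (P.comp (X - C 1)).degree := by
    rw [Polynomial.degree_eq_natDegree hP0, Polynomial.degree_eq_natDegree hc0, hnd]
  have hlt := Polynomial.degree_sub_lt_left hdeg hP0 hlc.symm
  by_cases hz : P - P.comp (X - C 1) = 0
  · rw [hz, Polynomial.natDegree_zero]; omega
  · exact (Polynomial.natDegree_lt_natDegree_iff hz).mpr hlt

/-- Let φ be a function from the integers to the rationals and Q a nonzero polynomial with rational
coefficients of degree d such that φ(m) - φ(m-1) = Q(m) for every integer m. Then there is a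
polynomial P with rational coefficients, of degree d + 1, such that φ(m) = P(m) for every integer m.
(The explicit form of P in the binomial basis is not part of this statement.) -/
theorem result (φ : ℤ → ℚ) (d : ℕ) (Q : ℚ[X]) (hQ : Q ≠ 0)
    (hd : Q.natDegree = d) (h : ∀ m : ℤ, φ m - φ (m - 1) = Q.eval (m : ℚ)) :
    ∃ P : ℚ[X], P.natDegree = d + 1 ∧ ∀ m : ℤ, φ m = P.eval (m : ℚ) := by
  set P : ℚ[X] := (R Q d).comp (C 1 + X) + C (φ 0 - (R Q d).eval 1) with hPdef
  have hPeval : ∀ x : ℚ, P.eval x = (R Q d).eval (1 + x) + (φ 0 - (R Q d).eval 1) := by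
    intro x
    simp [hPdef, Polynomial.eval_comp]
  have hPdiff : ∀ x : ℚ, P.eval x - P.eval (x - 1) = Q.eval x := by
    intro x
    rw [hPeval, hPeval]
    have := R_diff Q d hd x
    have e : (1 : ℚ) + (x - 1) = x := by ring
    rw [e]
    linarith
  have hP0 : P.eval 0 = φ 0 := by
    rw [hPeval]; simp
  have hφ : ∀ m : ℤ, φ m = P.eval (m : ℚ) := by
    intro m
    induction m using Int.induction_on with
    | zero => simpa using hP0.symm
    | succ i ih =>
      have h1 := h ((i : ℤ) + 1)
      have h2 := hPdiff (((i : ℤ) + 1 : ℤ) : ℚ)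
      rw [add_sub_cancel_right] at h1
      have e : ((((i : ℤ) + 1 : ℤ)) : ℚ) - 1 = ((i : ℤ) : ℚ) := by push_cast; ring
      rw [e] at h2
      linarith
    | pred i ih =>
      have h1 := h (-(i : ℤ))
      have h2 := hPdiff ((-(i : ℤ) : ℤ) : ℚ)
      have e : ((-(i : ℤ) : ℤ) : ℚ) - 1 = ((-(i : ℤ) - 1 : ℤ) : ℚ) := by push_cast; ring
      rw [e] at h2
      linarith
  refine ⟨P, ?_, hφ⟩
  -- degree
  have hle : P.natDegree ≤ d + 1 := by
    rw [hPdef]
    refine le_trans (Polynomial.natDegree_add_le _ _) ?_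
    rw [Polynomial.natDegree_C, max_eq_left (Nat.zero_le _), Polynomial.natDegree_comp]
    have : (C (1 : ℚ) + X).natDegree = 1 := by
      rw [add_comm]; exact Polynomial.natDegree_X_add_C 1
    rw [this, mul_one]
    exact natDegree_R_le Q d
  -- the difference polynomial equals Q
  have hDQ : P - P.comp (X - C 1) = Q := by
    apply Polynomial.eq_of_infinite_eval_eq
    refine Set.Infinite.mono ?_ (Set.infinite_range_of_injective (Int.cast_injective (α := ℚ)))
    rintro _ ⟨m, rfl⟩
    simp only [Set.mem_ofPred_eq, Polynomial.eval_sub, Polynomial.eval_comp, Polynomial.eval_X,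
      Polynomial.eval_C]
    exact hPdiff _
  by_contra hne
  have hlt : P.natDegree ≤ d := by omega
  by_cases hz : P.natDegree = 0
  · have hc : P = C (P.coeff 0) := Polynomial.eq_C_of_natDegree_eq_zero hz
    have : P - P.comp (X - C 1) = 0 := by
      rw [hc]; simp
    rw [this] at hDQ
    exact hQ hDQ.symm
  · have := natDegree_diff_lt P hz
    rw [hDQ, hd] at this
    omega

end Groth.Agent.S14405
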