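import Groth.Statements.S14408
import Mathlib
import Groth.Agent.Lib.Helper6.SPosMain
import Groth.Agent.Lib.Helper13.PnSerreUnifAmple
import Groth.Agent.Lib.Helper13.PnFin1
import Groth.Agent.Lib.Helper15.ProjSpaceProper
import Groth.Agent.Lib.Helper26.ProjDim
import Groth.Agent.Lib.Helper22.RegPt1
import Groth.Agent.S1436
import Groth.Agent.S1437
import Groth.Agent.Lib.Helper24.PtIdeal0
import Groth.Agent.Lib.Helper25.SSBaseChange
import Groth.Agent.Lib.Helper13.TensorPow

set_option autoImplicit false
universe u
open CategoryTheory CategoryTheory.Limits AlgebraicGeometry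
open HilbNum

namespace Groth.Agent.S14408

/-- Let k be an algebraically closed field, n a positive integer, F a nonzero coherent O-module on
projective n-space P over k (quasi-coherent of finite type), and P_F a polynomial with rational
coefficients such that P_F(m) = χ(F(m)) = Σ_{j ≤ n} (-1)^j dim_k H^j(P, F ⊗ O(m)) for every integer
m. Then the degree of P_F equals the dimension of the support of F (the closed set of points where
the stalk of F is nonzero, with the subspace topology). The existence of such a polynomial is not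
part of this statement; it enters through the hypothesis on P_F. -/
theorem result (k : Type u) [Field k] [IsAlgClosed k] (n : ℕ) (hn : 0 < n)
    (F : (CohB1.ProjSpace n k).Modules) (hF : Coh.IsCoh F) (hF0 : ¬ IsZero F) (P : Polynomial ℚ)
    (hP : ∀ m : ℤ,
      ((Finset.range (n + 1)).sum fun j => (-1 : ℚ) ^ j *
        (Module.finrank k (Coh.HH (CohB1.ProjSpace n k) (CohB1.tensorMod F (Twist.twistProjSpace n k m)) j) : ℚ)) =
      P.eval (m : ℚ)) :
    topologicalKrullDim ↥(CohB1.support F) = (P.natDegree : WithBot ℕ∞) := by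
  haveI : IsProper ((CohB1.ProjSpace n k) ↘ Spec (CommRingCat.of k)) :=
    Groth.Agent.Helper15.isProper_projSpace_toSpec n k
  haveI : IsNoetherian (CohB1.ProjSpace n k) :=
    Groth.Agent.Helper13.PnFin.isNoetherian_projSpace n k
  have hdimX := Groth.Agent.Lib.Helper26.ProjChart.main_dim n k
  have hstrat := Groth.Agent.S1437.result (CohB1.ProjSpace n k) n hdimX
  have hL : CohB1.IsAmple (Twist.twistProjSpace n k 1) :=
    Groth.Agent.Helper13.PnFin.isAmple_twist_one n k
  -- `P` is the Hilbert polynomial of `F` with respect to `O(1)`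
  have hHP : ShStab.IsHilbPoly k (CohB1.ProjSpace n k) (Twist.twistProjSpace n k 1) F P := by
    intro m
    obtain ⟨e⟩ := (Groth.Agent.Helper28.TwistMul.twist_all_of_degree_one (CohB1.polyGrading n k)
      (Groth.Agent.Helper26.PnTwist.hcov n k)).2.2 m
    have hiso : CohB1.tensorMod F (Twist.twistProjSpace n k (m : ℤ)) ≅
        ShStab.twist (CohB1.ProjSpace n k) (Twist.twistProjSpace n k 1) F m :=
      Groth.Agent.Helper13.Tensor.mapIso (Iso.refl F) e
    rw [← Groth.Agent.Helper25.SSBaseChange.euler_congr k hiso]
    have hcoh : Coh.IsCoh (CohB1.tensorMod F (Twist.twistProjSpace n k (m : ℤ))) :=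
      Groth.Agent.Helper24.PtIdeal.isCoh_tensor_invertible F _ hF
        (Groth.Agent.Helper26.PnTwist.isInvertible_twist n k (m : ℤ))
    have hvan : ∀ p : ℕ, n < p → Module.finrank k (Coh.HH (CohB1.ProjSpace n k)
        (CohB1.tensorMod F (Twist.twistProjSpace n k (m : ℤ))) p) = 0 := by
      intro p hp
      haveI := Groth.Agent.S1436.result (CohB1.ProjSpace n k) n hstrat _ hcoh.1 p hp
      exact Module.finrank_zero_of_subsingleton
    have hsum : Curv2.euler k (CohB1.ProjSpace n k)
        (CohB1.tensorMod F (Twist.twistProjSpace n k (m : ℤ))) =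
        ∑ j ∈ Finset.range (n + 1), (-1 : ℤ) ^ j * (Module.finrank k (Coh.HH (CohB1.ProjSpace n k)
          (CohB1.tensorMod F (Twist.twistProjSpace n k (m : ℤ))) j) : ℤ) := by
      unfold Curv2.euler
      apply finsum_eq_sum_of_support_subset
      intro p hp
      rw [Function.mem_support] at hp
      rw [Finset.coe_range, Set.mem_Iio]
      by_contra hlt
      apply hp
      rw [hvan p (by omega)]
      simp
    rw [hsum]
    have h := hP (m : ℤ)
    rw [Int.cast_natCast] at h
    rw [← h]
    push_cast
    try rfl
  -- the dimension of the support is a natural number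
  have h0 : (0 : WithBot ℕ∞) ≤ topologicalKrullDim ↥(CohB1.support F) := by
    by_contra hlt
    rw [not_le] at hlt
    apply hF0
    apply Groth.Agent.Lead.EulerK0.isZero_of_support_eq_empty
    apply Groth.Agent.Lead.EulerK0.support_eq_empty_of_dim_lt
    exact_mod_cast hlt
  have h1 : topologicalKrullDim ↥(CohB1.support F) ≤ (n : WithBot ℕ∞) :=
    (topologicalKrullDim_subspace_le _ _).trans hdimX.le
  obtain ⟨d, hd⟩ := Groth.Agent.Helper22.RegPt.nat_of_le h0 h1
  have hpos := Groth.Agent.Helper6.SPos.sp_coeff' k (CohB1.ProjSpace n k)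
    (Twist.twistProjSpace n k 1) hL F d hF hd P hHP
  have hdeg : P.natDegree ≤ d := by
    rw [Polynomial.natDegree_le_iff_coeff_eq_zero]
    intro N hN
    have hlt : topologicalKrullDim ↥(CohB1.support F) < ((d + 1 : ℕ) : WithBot ℕ∞) := by
      rw [hd]
      exact_mod_cast Nat.lt_succ_self d
    exact Groth.Agent.Helper6.HilbDeg.coeff_eq_zero_of_dim_lt k _ _ hL.1 F hF (d + 1) hlt P hHP
      N hN
  have hge : d ≤ P.natDegree := Polynomial.le_natDegree_of_ne_zero hpos.ne'
  have hnat : P.natDegree = d := le_antisymm hdeg hge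
  rw [hd, hnat]

end Groth.Agent.S14408
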