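import Groth.Statements.S1441
import Groth.Agent.Lib.Helper16.Sch.TriFlatSch6
import Groth.Agent.Lib.Helper21.ModFlat1
import Groth.Agent.Lib.Helper7.FinPres

set_option autoImplicit false
universe u
open FlatMor

namespace Groth.Agent.S1441

open AlgebraicGeometry CategoryTheory Limits in
/-- Let f : X → Y be a morphism over S with X locally of finite presentation and Y locally of finite
type over S, and F a finitely presented quasi-coherent O_X-module flat over S. Then the set U of
points where F is flat over Y is open in X, and for any base change S' → S (with X', Y', F' the base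
changes) the corresponding set for F' over Y' is the preimage of U. -/
theorem result {X Y S : Scheme.{u}} (f : X ⟶ Y) (g : Y ⟶ S) [LocallyOfFinitePresentation (f ≫ g)] [LocallyOfFiniteType g]
    (F : X.Modules) (hq : Coh.IsQCoh F) (hfp : CohB1.IsFP F) (hfl : FlatMod.IsFlatOver (f ≫ g) F) :
    IsOpen {x : ↑X | FlatMod.IsFlatOverAt f F x} ∧
      ∀ {X' Y' S' : Scheme.{u}} (h : S' ⟶ S) (gY : Y' ⟶ Y) (g' : Y' ⟶ S') (hY : IsPullback gY g' g h)
        (gX : X' ⟶ X) (f' : X' ⟶ Y') (hX : IsPullback gX (f' ≫ g') (f ≫ g) h) (w : gX ≫ f = f' ≫ gY),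
        {x' : ↑X' | FlatMod.IsFlatOverAt f' ((Scheme.Modules.pullback gX).obj F) x'} = gX ⁻¹' {x : ↑X | FlatMod.IsFlatOverAt f F x} := by
  haveI := hq
  haveI := hfp
  haveI : LocallyOfFinitePresentation f :=
    Groth.Agent.Helper7.locallyOfFinitePresentation_of_comp f g inferInstance inferInstance
  refine ⟨Groth.Agent.Helper21.ModFlat.isOpen_flatLocus_module f F, ?_⟩
  intro X' Y' S' h gY g' hY gX f' hX w
  have hXY : IsPullback gX f' f gY := IsPullback.of_bot hX w hY
  ext x'
  simp only [Set.mem_ofPred_eq, Set.mem_preimage]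
  constructor
  · intro h'
    have hR' := Groth.Agent.Helper16.TriFlatSch.relFlatAt_of_isFlatOverAt f' g' _ x' h'
    rw [Groth.Agent.Helper16.TriFlatSch.relFlatAt_baseChange_iff f g F hY hXY x'] at hR'
    exact (Groth.Agent.Helper16.TriFlatSch.isFlatOverAt_iff_relFlatAt f g F (gX x')
      (hfl (gX x'))).mpr hR'
  · intro h'
    exact Groth.Agent.Helper12.FlatModBC.isFlatOverAt_baseChange hXY F x' h'

end Groth.Agent.S1441
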