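import Groth.Statements.S14410

set_option autoImplicit false
universe u
open CategoryTheory TopologicalSpace
open CohTop

namespace Groth.Agent.S14410

open Opposite in
/-- Let X be a topological space and 0 → F₁ → F₂ → F₃ → 0 a short exact sequence of sheaves of abelian
groups on X. If F₁ and F₃ are flasque (every restriction map is surjective), then F₂ is flasque.
(The published statement is for O_X-modules on a ringed space and is an equivalence; this row states
the implication from the outer terms to the middle term, for the underlying abelian sheaves.) -/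
theorem result (X : TopCat.{u})
    (S : ShortComplex (TopCat.Sheaf AddCommGrpCat.{u} X)) (hS : S.ShortExact)
    [S.X₁.IsFlasque] [S.X₃.IsFlasque] : S.X₂.IsFlasque := by
  refine ⟨fun {U V} i => ?_⟩
  · refine (AddCommGrpCat.epi_iff_surjective _).mpr (fun s => ?_)
    obtain ⟨U, rfl⟩ : ∃ U' : Opens X, op U' = U := ⟨U.unop, rfl⟩
    obtain ⟨V, rfl⟩ : ∃ V' : Opens X, op V' = V := ⟨V.unop, rfl⟩
    obtain ⟨t, ht⟩ := (AddCommGrpCat.epi_iff_surjective (S.X₃.obj.map i)).mp inferInstance
      (S.g.hom.app (op V) s)
    obtain ⟨s', hs'⟩ := (AddCommGrpCat.epi_iff_surjective (S.g.hom.app (op U))).mp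
      (TopCat.Sheaf.IsFlasque.epi_of_shortExact hS (U := U)) t
    have hnat2 : ∀ z, S.g.hom.app (op V) (S.X₂.obj.map i z) = S.X₃.obj.map i (S.g.hom.app (op U) z) := by
      intro z
      have := S.g.hom.naturality i
      exact congrArg (fun φ => φ.hom z) this
    have hnat1 : ∀ z, S.f.hom.app (op V) (S.X₁.obj.map i z) = S.X₂.obj.map i (S.f.hom.app (op U) z) := by
      intro z
      have := S.f.hom.naturality i
      exact congrArg (fun φ => φ.hom z) this
    have hd : S.g.hom.app (op V) (S.X₂.obj.map i s' - s) = 0 := by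
      rw [map_sub, hnat2, hs', ht, sub_self]
    obtain ⟨r, hr⟩ := TopCat.Sheaf.sections_exact_of_left_exact hS.1 hS.2 _ hd
    obtain ⟨r', hr'⟩ := (AddCommGrpCat.epi_iff_surjective (S.X₁.obj.map i)).mp inferInstance r
    refine ⟨s' - S.f.hom.app (op U) r', ?_⟩
    rw [map_sub, ← hnat1, hr', hr]
    abel

end Groth.Agent.S14410
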