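import Groth.Statements.S14416
import Mathlib.RingTheory.LocalRing.Module
import Mathlib.LinearAlgebra.FiniteDimensional.Lemmas

set_option autoImplicit false
universe u
open scoped TensorProduct
open CAlg

namespace Groth.Agent.S14416

theorem field_alg_surj (κ : Type u) (T : Type u) [Field κ] [CommRing T] [Algebra κ T]
    (h : Module.finrank κ T ≤ 1) [Module.Finite κ T] : Function.Surjective (algebraMap κ T) := by
  by_cases hT : Subsingleton T
  · intro y; exact ⟨0, Subsingleton.elim _ _⟩
  · rw [not_subsingleton_iff_nontrivial] at hT
    have hinj : Function.Injective (Algebra.linearMap κ T) := (algebraMap κ T).injective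
    have h1 : Module.finrank κ κ ≤ Module.finrank κ T :=
      LinearMap.finrank_le_finrank_of_injective hinj
    rw [Module.finrank_self] at h1
    have h2 : Module.finrank κ κ = Module.finrank κ T := by
      rw [Module.finrank_self]; omega
    exact (LinearMap.injective_iff_surjective_of_finrank_eq_finrank h2).mp hinj

/-- Let B → A be a ring map with A a finitely generated B-module such that for every prime ideal p of B
the fibre κ(p) ⊗_B A has dimension at most one over the residue field κ(p). Then B → A is
surjective. In scheme language: a finite morphism whose degree at every point of the target is 0 or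
1 is a closed immersion. (The published statement assumes the two schemes Noetherian; that
hypothesis plays no role and is dropped here.) -/
theorem result
    (B A : Type u) [CommRing B] [CommRing A] [Algebra B A] [Module.Finite B A]
    (h : ∀ p : PrimeSpectrum B,
      Module.finrank p.asIdeal.ResidueField (p.asIdeal.ResidueField ⊗[B] A) ≤ 1) :
    Function.Surjective (algebraMap B A) := by
  let f : B →ₗ[B] A := Algebra.linearMap B A
  let g : A →ₗ[B] (A ⧸ LinearMap.range f) := Submodule.mkQ _
  have hgf : g ∘ₗ f = 0 := by
    ext
    simp only [g, LinearMap.coe_comp, Function.comp_apply, Submodule.mkQ_apply, LinearMap.zero_apply]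
    rw [Submodule.Quotient.mk_eq_zero]
    exact LinearMap.mem_range_self f 1
  have hsupp : Module.support B (A ⧸ LinearMap.range f) = ∅ := by
    rw [Set.eq_empty_iff_forall_notMem]
    intro p hp
    rw [Module.mem_support_iff_nontrivial_residueField_tensorProduct] at hp
    have hs := field_alg_surj p.asIdeal.ResidueField (p.asIdeal.ResidueField ⊗[B] A) (h p)
    have hsub : Subsingleton (p.asIdeal.ResidueField ⊗[B] (A ⧸ LinearMap.range f)) := by
      refine ⟨fun z w => ?_⟩
      have key : ∀ z : p.asIdeal.ResidueField ⊗[B] (A ⧸ LinearMap.range f), z = 0 := by
        intro z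
        obtain ⟨y, rfl⟩ := LinearMap.lTensor_surjective p.asIdeal.ResidueField
          (Submodule.mkQ_surjective (LinearMap.range f)) z
        obtain ⟨t, rfl⟩ := hs y
        have : algebraMap p.asIdeal.ResidueField (p.asIdeal.ResidueField ⊗[B] A) t
            = (f.lTensor p.asIdeal.ResidueField) (t ⊗ₜ[B] (1 : B)) := by
          rw [Algebra.TensorProduct.algebraMap_apply]
          simp [f]
        rw [this]
        have h2 : (g.lTensor p.asIdeal.ResidueField) ((f.lTensor p.asIdeal.ResidueField)
            (t ⊗ₜ[B] (1 : B))) = 0 := by
          rw [← LinearMap.comp_apply, ← LinearMap.lTensor_comp, hgf, LinearMap.lTensor_zero,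
            LinearMap.zero_apply]
        exact h2
      rw [key z, key w]
    exact not_subsingleton _ hsub
  rw [Module.support_eq_empty_iff] at hsupp
  have htop : LinearMap.range f = ⊤ := Submodule.Quotient.subsingleton_iff.mp hsupp
  intro a
  have : a ∈ LinearMap.range f := by rw [htop]; trivial
  obtain ⟨b, hb⟩ := this
  exact ⟨b, hb⟩

end Groth.Agent.S14416
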