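import Groth.Statements.S14418
import Mathlib
-- import your own Groth.Agent.* helpers here

set_option autoImplicit false
universe u
open CategoryTheory
open CAlg

namespace Groth.Agent.S14418


open CategoryTheory in
lemma isZero_mid {B A : Type u} [CommRing B] [CommRing A]
    (T : ModuleCat.{u} B ⥤ ModuleCat.{u} A) [T.Additive]
    (hex : ∀ S : ShortComplex (ModuleCat.{u} B), S.ShortExact → Module.Finite B S.X₁ →
      Module.Finite B S.X₂ → Module.Finite B S.X₃ → (S.map T).Exact)
    {N₁ N₂ N₃ : Type u} [AddCommGroup N₁] [AddCommGroup N₂] [AddCommGroup N₃]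
    [Module B N₁] [Module B N₂] [Module B N₃] [h₁ : Module.Finite B N₁]
    [h₂ : Module.Finite B N₂] [h₃ : Module.Finite B N₃]
    (f : N₁ →ₗ[B] N₂) (g : N₂ →ₗ[B] N₃) (hf : Function.Injective f)
    (hg : Function.Surjective g) (hfg : Function.Exact f g)
    (h1 : Limits.IsZero (T.obj (ModuleCat.of B N₁)))
    (h3 : Limits.IsZero (T.obj (ModuleCat.of B N₃))) :
    Limits.IsZero (T.obj (ModuleCat.of B N₂)) := by
  let S := ModuleCat.shortComplexOfCompEqZero f g hfg.linearMap_comp_eq_zero
  have hS : S.ShortExact := ModuleCat.shortComplex_shortExact S hfg hf hg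
  have := hex S hS h₁ h₂ h₃
  exact this.isZero_of_both_isZero h1 h3

/-- Let B → A be a local homomorphism of Noetherian local rings, n the maximal ideal of B, and T an
additive functor from B-modules to A-modules which is B-linear (T applied to multiplication by b ∈ B
is multiplication by the image of b in A), carries finitely generated B-modules to finitely
generated A-modules, and is half-exact on finitely generated modules (every short exact sequence of
finitely generated B-modules goes to a sequence exact at its middle term). If T(B/n) = 0 then T(N) =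
0 for every finitely generated B-module N. (The published statement takes T defined on finitely
generated modules only; here T is defined on all B-modules while every hypothesis and the conclusion
concern finitely generated modules.) -/
theorem result {B A : Type u} [CommRing B] [CommRing A]
    [IsNoetherianRing B] [IsLocalRing B] [IsNoetherianRing A] [IsLocalRing A] [Algebra B A]
    [IsLocalHom (algebraMap B A)] (T : ModuleCat.{u} B ⥤ ModuleCat.{u} A) [T.Additive]
    (hlin : ∀ (N : ModuleCat.{u} B) (b : B),
      T.map (ModuleCat.ofHom (b • (LinearMap.id : N →ₗ[B] N))) =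
        ModuleCat.ofHom (algebraMap B A b • (LinearMap.id : T.obj N →ₗ[A] T.obj N)))
    (hfin : ∀ N : ModuleCat.{u} B, Module.Finite B N → Module.Finite A (T.obj N))
    (hex : ∀ S : ShortComplex (ModuleCat.{u} B), S.ShortExact → Module.Finite B S.X₁ →
      Module.Finite B S.X₂ → Module.Finite B S.X₃ → (S.map T).Exact)
    (h0 : Limits.IsZero (T.obj (ModuleCat.of B (B ⧸ IsLocalRing.maximalIdeal B))))
    (N : ModuleCat.{u} B) [Module.Finite B N] : Limits.IsZero (T.obj N) := by
  have main : ∀ I : Ideal B, ∀ (N : Type u) [AddCommGroup N] [Module B N] [Module.Finite B N],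
      I ≤ Module.annihilator B N → Limits.IsZero (T.obj (ModuleCat.of B N)) := by
    intro I
    induction I using WellFoundedGT.induction with
    | ind I ih =>
    intro N _ _ hNfin hI
    refine IsNoetherianRing.induction_on_isQuotientEquivQuotientPrime B hNfin
      (motive := fun N' _ _ _ => I ≤ Module.annihilator B N' →
        Limits.IsZero (T.obj (ModuleCat.of B N'))) ?_ ?_ ?_ hI
    · intro N' _ _ _ _ _
      exact T.map_isZero (ModuleCat.isZero_of_subsingleton _)
    · intro N' _ _ _ q e hIN'
      have hiso : T.obj (ModuleCat.of B N') ≅ T.obj (ModuleCat.of B (B ⧸ q.asIdeal)) :=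
        T.mapIso e.toModuleIso
      refine Limits.IsZero.of_iso ?_ hiso
      have hIq : I ≤ q.asIdeal := by
        intro c hc
        have h1 := Module.mem_annihilator.mp (hIN' hc)
          (e.symm (Submodule.Quotient.mk (1 : B)))
        rw [← map_smul, LinearEquiv.map_eq_zero_iff, ← Submodule.Quotient.mk_smul,
          Submodule.Quotient.mk_eq_zero, smul_eq_mul, mul_one] at h1
        exact h1
      have hqann : q.asIdeal ≤ Module.annihilator B (B ⧸ q.asIdeal) := by
        intro c hc
        rw [Module.mem_annihilator]
        intro y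
        obtain ⟨b, rfl⟩ := Submodule.Quotient.mk_surjective _ y
        rw [← Submodule.Quotient.mk_smul, Submodule.Quotient.mk_eq_zero]
        exact q.asIdeal.mul_mem_right _ hc
      by_cases hlt : I = q.asIdeal
      swap
      · exact ih q.asIdeal (lt_of_le_of_ne hIq hlt) (B ⧸ q.asIdeal) hqann
      by_cases hqn : q.asIdeal = IsLocalRing.maximalIdeal B
      · rw [hqn]
        exact h0
      have hq_le : q.asIdeal ≤ IsLocalRing.maximalIdeal B :=
        IsLocalRing.le_maximalIdeal q.2.ne_top
      obtain ⟨x, hxn, hxq⟩ : ∃ x ∈ IsLocalRing.maximalIdeal B, x ∉ q.asIdeal := by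
        by_contra hcon
        push Not at hcon
        exact hqn (le_antisymm hq_le hcon)
      have hxA : algebraMap B A x ∈ IsLocalRing.maximalIdeal A := by
        rw [IsLocalRing.mem_maximalIdeal, mem_nonunits_iff] at hxn ⊢
        exact fun h => hxn (isUnit_of_map_unit (algebraMap B A) x h)
      let f : (B ⧸ q.asIdeal) →ₗ[B] (B ⧸ q.asIdeal) := x • LinearMap.id
      have hfinj : Function.Injective f := by
        rw [injective_iff_map_eq_zero]
        intro y hy
        obtain ⟨b, rfl⟩ := Submodule.Quotient.mk_surjective _ y
        have hxb : x * b ∈ q.asIdeal := by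
          rw [← Submodule.Quotient.mk_eq_zero, ← smul_eq_mul, Submodule.Quotient.mk_smul]
          exact hy
        exact (Submodule.Quotient.mk_eq_zero _).mpr ((q.2.mem_or_mem hxb).resolve_left hxq)
      let J : Ideal B := q.asIdeal ⊔ Ideal.span {x}
      have hJlt : I < J := by
        rw [hlt]
        refine lt_of_le_of_ne le_sup_left ?_
        intro h
        apply hxq
        rw [h]
        exact Ideal.mem_sup_right (Ideal.subset_span rfl)
      have hJann : J ≤ Module.annihilator B ((B ⧸ q.asIdeal) ⧸ LinearMap.range f) := by
        refine sup_le ?_ ?_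
        · intro c hc
          rw [Module.mem_annihilator]
          intro m
          obtain ⟨y, rfl⟩ := Submodule.Quotient.mk_surjective _ m
          rw [← Submodule.Quotient.mk_smul, Module.mem_annihilator.mp (hqann hc) y,
            Submodule.Quotient.mk_zero]
        · rw [Ideal.span_le, Set.singleton_subset_iff, SetLike.mem_coe, Module.mem_annihilator]
          intro m
          obtain ⟨y, rfl⟩ := Submodule.Quotient.mk_surjective _ m
          rw [← Submodule.Quotient.mk_smul, Submodule.Quotient.mk_eq_zero]
          exact ⟨y, rfl⟩
      have hM : Limits.IsZero (T.obj (ModuleCat.of B ((B ⧸ q.asIdeal) ⧸ LinearMap.range f))) :=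
        ih J hJlt ((B ⧸ q.asIdeal) ⧸ LinearMap.range f) hJann
      let S := ModuleCat.shortComplexOfCompEqZero f (LinearMap.range f).mkQ
        (LinearMap.range_mkQ_comp f)
      have hS : S.ShortExact := ModuleCat.shortComplex_shortExact S
        (LinearMap.exact_map_mkQ_range f) hfinj (Submodule.mkQ_surjective _)
      have hE := hex S hS (inferInstanceAs (Module.Finite B (B ⧸ q.asIdeal)))
        (inferInstanceAs (Module.Finite B (B ⧸ q.asIdeal)))
        (inferInstanceAs (Module.Finite B ((B ⧸ q.asIdeal) ⧸ LinearMap.range f)))
      have hfA : Module.Finite A (T.obj (ModuleCat.of B (B ⧸ q.asIdeal))) :=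
        hfin _ (inferInstanceAs (Module.Finite B (B ⧸ q.asIdeal)))
      have hsub : Subsingleton (T.obj (ModuleCat.of B ((B ⧸ q.asIdeal) ⧸ LinearMap.range f))) :=
        ModuleCat.subsingleton_of_isZero hM
      have key : ∀ y : T.obj (ModuleCat.of B (B ⧸ q.asIdeal)),
          ∃ z : T.obj (ModuleCat.of B (B ⧸ q.asIdeal)), y = algebraMap B A x • z := by
        intro y
        obtain ⟨z, hz⟩ := (ShortComplex.moduleCat_exact_iff _).mp hE y (@Subsingleton.elim _ hsub _ _)
        refine ⟨z, ?_⟩
        rw [← hz]
        have hl := hlin (ModuleCat.of B (B ⧸ q.asIdeal)) x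
        change (T.map (ModuleCat.ofHom f)) z = _
        rw [hl]
        rfl
      have htop : (⊤ : Submodule A (T.obj (ModuleCat.of B (B ⧸ q.asIdeal)))) = ⊥ := by
        apply Submodule.eq_bot_of_le_smul_of_le_jacobson_bot (IsLocalRing.maximalIdeal A) ⊤
          (Module.finite_def.mp hfA)
        · intro y _
          obtain ⟨z, rfl⟩ := key y
          exact Submodule.smul_mem_smul hxA Submodule.mem_top
        · exact (IsLocalRing.jacobson_eq_maximalIdeal ⊥ bot_ne_top).ge
      have hss : Subsingleton (T.obj (ModuleCat.of B (B ⧸ q.asIdeal))) :=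
        subsingleton_of_forall_eq 0 (fun y => by
          have hy : y ∈ (⊤ : Submodule A (T.obj (ModuleCat.of B (B ⧸ q.asIdeal)))) := trivial
          rw [htop] at hy
          exact (Submodule.mem_bot A).mp hy)
      exact ModuleCat.isZero_of_subsingleton _
    · intro N₁ _ _ _ N₂ _ _ _ N₃ _ _ _ f g hf hg hfg h1 h3 hI2
      have hI1 : I ≤ Module.annihilator B N₁ := by
        intro c hc
        rw [Module.mem_annihilator]
        intro n
        apply hf
        rw [map_smul, map_zero]
        exact Module.mem_annihilator.mp (hI2 hc) (f n)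
      have hI3 : I ≤ Module.annihilator B N₃ := by
        intro c hc
        rw [Module.mem_annihilator]
        intro n
        obtain ⟨n2, rfl⟩ := hg n
        rw [← map_smul, Module.mem_annihilator.mp (hI2 hc) n2, map_zero]
      exact isZero_mid T hex f g hf hg hfg (h1 hI1) (h3 hI3)
  exact main ⊥ N bot_le

end Groth.Agent.S14418
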