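import Groth.Statements.S14427
import Mathlib
-- import your own Groth.Agent.* helpers here

set_option autoImplicit false
universe u
open CAlgX

namespace Groth.Agent.S14427


open MvPolynomial

lemma finrank_homog (k : Type u) [Field k] (d : ℕ) :
    Module.finrank k (homogeneousSubmodule (Fin 3) k d) = Nat.choose (d + 2) 2 := by
  classical
  rw [homogeneousSubmodule_eq_finsupp_supported]
  have hS : {e : Fin 3 →₀ ℕ | e.degree = d} =
      ↑((Finset.univ : Finset (Fin 3)).finsuppAntidiag d) := by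
    ext e
    simp [Finset.mem_finsuppAntidiag, Finsupp.degree_eq_sum]
  rw [hS, (AddMonoidAlgebra.supportedEquivFinsupp _).finrank_eq, Module.finrank_finsupp_self,
    ← Nat.card_eq_fintype_card, Nat.card_coe_set_eq, Set.ncard_coe_finset,
    Finset.card_finsuppAntidiag_nat_eq_choose]
  simp only [Finset.card_univ, Fintype.card_fin]
  have : 3 + d - 1 = d + 2 := by lia
  rw [this, Nat.choose_symm_add]

lemma exists_linform (k : Type u) [Field k] (v w : Fin 3 → k)
    (h : LinearIndependent k ![v, w]) :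
    ∃ ℓ : MvPolynomial (Fin 3) k, ℓ.IsHomogeneous 1 ∧ aeval w ℓ = 0 ∧ aeval v ℓ ≠ 0 := by
  have hv : v ∉ Submodule.span k {w} := by
    intro hmem
    obtain ⟨a, ha⟩ := Submodule.mem_span_singleton.mp hmem
    have := (LinearIndependent.pair_iff.mp h) 1 (-a) (by rw [← ha]; simp)
    exact one_ne_zero this.1
  obtain ⟨φ, hφv, hφ⟩ := Submodule.exists_le_ker_of_notMem hv
  have hφw : φ w = 0 := hφ (Submodule.mem_span_singleton_self w)
  have key : ∀ x : Fin 3 → k,
      aeval x (∑ i, C (φ (fun j => if i = j then 1 else 0)) * X i) = φ x := by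
    intro x
    simp only [map_sum, map_mul, aeval_C, aeval_X]
    conv_rhs => rw [LinearMap.pi_apply_eq_sum_univ φ x]
    simp [mul_comm]
  refine ⟨∑ i, C (φ (fun j => if i = j then 1 else 0)) * X i, ?_, ?_, ?_⟩
  · exact IsHomogeneous.sum _ _ _ (fun i _ => isHomogeneous_C_mul_X _ _)
  · rw [key, hφw]
  · rw [key]; exact hφv

lemma exists_sep (k : Type u) [Field k] (Λ : Finset (Fin 3 → k))
    (hdist : ∀ v ∈ Λ, ∀ w ∈ Λ, v ≠ w → LinearIndependent k ![v, w]) (v : Fin 3 → k)
    (hv : v ∈ Λ) :
    ∃ p : MvPolynomial (Fin 3) k, p.IsHomogeneous (Λ.card - 1) ∧ aeval v p ≠ 0 ∧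
      ∀ u ∈ Λ, u ≠ v → aeval u p = 0 := by
  classical
  have key : ∀ w ∈ Λ, v ≠ w → ∃ ℓ : MvPolynomial (Fin 3) k,
      ℓ.IsHomogeneous 1 ∧ aeval w ℓ = 0 ∧ aeval v ℓ ≠ 0 :=
    fun w hw hvw => exists_linform k v w (hdist v hv w hw hvw)
  choose! ℓ hℓ using key
  refine ⟨∏ w ∈ Λ.erase v, ℓ w, ?_, ?_, ?_⟩
  · have := IsHomogeneous.prod (Λ.erase v) ℓ (fun _ => 1) (fun w hw =>
      (hℓ w (Finset.mem_of_mem_erase hw) (Finset.ne_of_mem_erase hw).symm).1)
    simpa [Finset.card_erase_of_mem hv] using this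
  · rw [map_prod]
    apply Finset.prod_ne_zero_iff.mpr
    intro w hw
    exact (hℓ w (Finset.mem_of_mem_erase hw) (Finset.ne_of_mem_erase hw).symm).2.2
  · intro u hu huv
    rw [map_prod]
    apply Finset.prod_eq_zero (Finset.mem_erase.mpr ⟨huv, hu⟩)
    exact (hℓ u hu huv.symm).2.1

/-- Let k be a field and Λ a set of n ≥ 3 nonzero vectors of k^3 which are pairwise linearly
independent, i.e. n distinct k-rational points of the projective plane. Then the space of
homogeneous forms of degree n − 1 in k[x_0, x_1, x_2] vanishing at every point of Λ — the global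
sections of I_Λ(n − 1) — has dimension C(n+1, 2) − n over k, the same for all such Λ. (The published
statement is over an algebraically closed field; this row allows any field and k-rational points,
which is all its argument uses.) -/
theorem result (k : Type u) [Field k] (n : ℕ) (hn : 3 ≤ n)
    (Λ : Finset (Fin 3 → k)) (hcard : Λ.card = n) (h0 : ∀ v ∈ Λ, v ≠ 0)
    (hdist : ∀ v ∈ Λ, ∀ w ∈ Λ, v ≠ w → LinearIndependent k ![v, w]) :
    Module.finrank k ↥(MvPolynomial.homogeneousSubmodule (Fin 3) k (n - 1) ⊓ ⨅ v ∈ Λ, LinearMap.ker (MvPolynomial.aeval v).toLinearMap) = Nat.choose (n + 1) 2 - n := by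
  classical
  let H := homogeneousSubmodule (Fin 3) k (n - 1)
  let E' : MvPolynomial (Fin 3) k →ₗ[k] (Λ → k) :=
    LinearMap.pi (fun v : Λ => (aeval v.1).toLinearMap)
  have hker : (⨅ v ∈ Λ, LinearMap.ker (aeval (R := k) v).toLinearMap) = LinearMap.ker E' := by
    rw [LinearMap.ker_pi, iInf_subtype']
  have hfin : Module.Finite k H := Module.Finite.iff_fg.mpr (homogeneousSubmodule_fg _ _ _)
  let f : H →ₗ[k] (Λ → k) := E' ∘ₗ H.subtype
  have hW : H ⊓ LinearMap.ker E' = (LinearMap.ker f).map H.subtype := by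
    rw [LinearMap.ker_comp, Submodule.map_comap_subtype]
  have hsurj : LinearMap.range f = ⊤ := by
    rw [LinearMap.range_eq_top]
    intro y
    have hex : ∀ v : Λ, ∃ p : H, f p = Pi.single v 1 := by
      rintro ⟨v, hv⟩
      obtain ⟨p, hp, hpv, hpu⟩ := exists_sep k Λ hdist v hv
      refine ⟨(aeval v p)⁻¹ • ⟨p, by rw [hcard] at hp; exact hp⟩, ?_⟩
      ext ⟨u, hu⟩
      by_cases huv : u = v
      · subst huv
        have : ((aeval u) p)⁻¹ * (aeval u) p = 1 := inv_mul_cancel₀ hpv
        simpa [f, E'] using this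
      · have : (⟨u, hu⟩ : Λ) ≠ ⟨v, hv⟩ := fun h => huv (congrArg Subtype.val h)
        simp [f, E', hpu u hu huv, this]
    choose P hP using hex
    refine ⟨∑ v, y v • P v, ?_⟩
    rw [map_sum]
    simp_rw [map_smul, hP]
    ext u
    simp [Finset.sum_apply, Pi.single_apply]
  have hrn := LinearMap.finrank_range_add_finrank_ker f
  rw [hker, hW, Submodule.finrank_map_subtype_eq]
  rw [hsurj, finrank_top, Module.finrank_fintype_fun_eq_card, Fintype.card_coe, hcard,
    finrank_homog] at hrn
  have : n - 1 + 2 = n + 1 := by lia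
  rw [this] at hrn
  lia

end Groth.Agent.S14427
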