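import Groth.Statements.S14428
import Mathlib
import Groth.Agent.S14427
-- import your own Groth.Agent.* helpers here

set_option autoImplicit false
universe u
open CAlgX

namespace Groth.Agent.S14428


open MvPolynomial

lemma exists_linpoly (k : Type u) [Field k] (φ : (Fin 3 → k) →ₗ[k] k) :
    ∃ ℓ : MvPolynomial (Fin 3) k, ℓ.IsHomogeneous 1 ∧ ∀ x, aeval x ℓ = φ x := by
  have key : ∀ x : Fin 3 → k,
      aeval x (∑ i, C (φ (fun j => if i = j then 1 else 0)) * X i) = φ x := by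
    intro x
    simp only [map_sum, map_mul, aeval_C, aeval_X]
    conv_rhs => rw [LinearMap.pi_apply_eq_sum_univ φ x]
    simp [mul_comm]
  exact ⟨∑ i, C (φ (fun j => if i = j then 1 else 0)) * X i,
    IsHomogeneous.sum _ _ _ (fun i _ => isHomogeneous_C_mul_X _ _), key⟩

lemma core (k : Type u) [Field k] (n : ℕ) (hn : 3 ≤ n) (Λ' : Finset (Fin 3 → k))
    (hcard' : Λ'.card = n) (h0' : ∀ v ∈ Λ', v ≠ 0)
    (hline' : ¬ ∃ ℓ : (Fin 3 → k) →ₗ[k] k, ℓ ≠ 0 ∧ ∀ v ∈ Λ', ℓ v = 0)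
    (v : Fin 3 → k) (hv : ∀ w ∈ Λ', ∀ c : k, v ≠ c • w) :
    ∃ p : MvPolynomial (Fin 3) k, p.IsHomogeneous (n - 1) ∧ (∀ w ∈ Λ', aeval w p = 0) ∧
      aeval v p ≠ 0 := by
  classical
  obtain ⟨w1, hw1, w2, hw2, hne, hvW⟩ : ∃ w1 ∈ Λ', ∃ w2 ∈ Λ', w1 ≠ w2 ∧
      v ∉ Submodule.span k {w1, w2} := by
    by_contra hcon
    push Not at hcon
    obtain ⟨w1, hw1, w2, hw2, hne⟩ := Finset.one_lt_card.mp (by lia : 1 < Λ'.card)
    have hvW := hcon w1 hw1 w2 hw2 hne
    have hsub : ∀ w ∈ Λ', w ∈ Submodule.span k {w1, w2} := by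
      intro w hw
      by_cases h1 : w = w1
      · rw [h1]
        exact Submodule.subset_span (by simp)
      have hvw := hcon w1 hw1 w hw (Ne.symm h1)
      obtain ⟨γ, δ, hγδ⟩ := Submodule.mem_span_pair.mp hvw
      have hδ : δ ≠ 0 := by
        rintro rfl
        apply hv w1 hw1 γ
        rw [← hγδ]
        simp
      have : w = δ⁻¹ • (v - γ • w1) := by
        rw [← hγδ, add_sub_cancel_left, smul_smul, inv_mul_cancel₀ hδ, one_smul]
      rw [this]
      apply Submodule.smul_mem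
      apply Submodule.sub_mem _ hvW
      apply Submodule.smul_mem
      exact Submodule.subset_span (by simp)
    have hlt : Submodule.span k {w1, w2} < ⊤ := by
      rw [lt_top_iff_ne_top]
      intro htop
      have h1 : Module.finrank k (Submodule.span k
          ((({w1, w2} : Finset (Fin 3 → k)) : Set (Fin 3 → k)))) ≤
          ({w1, w2} : Finset (Fin 3 → k)).card := finrank_span_finset_le_card _
      have h2 : ({w1, w2} : Finset (Fin 3 → k)).card ≤ 2 := Finset.card_le_two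
      rw [Finset.coe_pair, htop, finrank_top, Module.finrank_fintype_fun_eq_card,
        Fintype.card_fin] at h1
      lia
    obtain ⟨f, hf0, hf⟩ := Submodule.exists_le_ker_of_lt_top _ hlt
    exact hline' ⟨f, hf0, fun w hw => hf (hsub w hw)⟩
  obtain ⟨φ, hφv, hφ⟩ := Submodule.exists_le_ker_of_notMem hvW
  obtain ⟨ℓ₀, hℓ₀, hℓ₀e⟩ := exists_linpoly k φ
  have key : ∀ w ∈ Λ', ∃ ℓ : MvPolynomial (Fin 3) k,
      ℓ.IsHomogeneous 1 ∧ aeval w ℓ = 0 ∧ aeval v ℓ ≠ 0 := by
    intro w hw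
    apply Groth.Agent.S14427.exists_linform k v w
    rw [LinearIndependent.pair_iff]
    intro s t hst
    have hs : s = 0 := by
      by_contra hs
      apply hv w hw (-(s⁻¹ * t))
      have h1 : v = s⁻¹ • (s • v) := by rw [smul_smul, inv_mul_cancel₀ hs, one_smul]
      rw [h1, eq_neg_of_add_eq_zero_left hst, smul_neg, neg_smul, smul_smul]
    subst hs
    simp only [zero_smul, zero_add, smul_eq_zero] at hst
    exact ⟨rfl, hst.resolve_right (h0' w hw)⟩
  choose! ℓ hℓ using key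
  refine ⟨ℓ₀ * ∏ w ∈ (Λ'.erase w1).erase w2, ℓ w, ?_, ?_, ?_⟩
  · have hprod := IsHomogeneous.prod ((Λ'.erase w1).erase w2) ℓ (fun _ => 1) (fun w hw =>
      (hℓ w (Finset.mem_of_mem_erase (Finset.mem_of_mem_erase hw))).1)
    have hc : ((Λ'.erase w1).erase w2).card = n - 2 := by
      rw [Finset.card_erase_of_mem (Finset.mem_erase.mpr ⟨hne.symm, hw2⟩),
        Finset.card_erase_of_mem hw1, hcard']
      lia
    have := hℓ₀.mul hprod
    simp only [Finset.sum_const, smul_eq_mul, mul_one, hc] at this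
    have hdeg : 1 + (n - 2) = n - 1 := by lia
    rw [hdeg] at this
    exact this
  · intro w hw
    rw [map_mul, map_prod]
    by_cases h1 : w = w1
    · rw [h1, hℓ₀e, show φ w1 = 0 from hφ (Submodule.subset_span (by simp)), zero_mul]
    by_cases h2 : w = w2
    · rw [h2, hℓ₀e, show φ w2 = 0 from hφ (Submodule.subset_span (by simp)), zero_mul]
    · rw [Finset.prod_eq_zero (Finset.mem_erase.mpr ⟨h2, Finset.mem_erase.mpr ⟨h1, hw⟩⟩)
        (hℓ w hw).2.1, mul_zero]
  · rw [map_mul, map_prod, hℓ₀e]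
    apply mul_ne_zero hφv
    apply Finset.prod_ne_zero_iff.mpr
    intro w hw
    exact (hℓ w (Finset.mem_of_mem_erase (Finset.mem_of_mem_erase hw))).2.2

/-- Let k be a field, n ≥ 3, and let Λ and Λ' be two sets of n nonzero, pairwise linearly independent
vectors of k^3 (n distinct k-rational points of the projective plane each), neither lying on a line
(no nonzero linear form vanishes on all of Λ, resp. Λ'). If the spaces of homogeneous forms of
degree n − 1 vanishing on Λ and on Λ' coincide, then Λ and Λ' define the same set of points of the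
plane: the assignment Λ ↦ H^0(P^2, I_Λ(n − 1)), with values in a Grassmannian, is injective on
non-collinear sets. (The published statement is over an algebraically closed field; this row allows
any field and k-rational points, which is all its argument uses.) -/
theorem result (k : Type u) [Field k] (n : ℕ) (hn : 3 ≤ n)
    (Λ Λ' : Finset (Fin 3 → k)) (hcard : Λ.card = n) (hcard' : Λ'.card = n)
    (h0 : ∀ v ∈ Λ, v ≠ 0) (h0' : ∀ v ∈ Λ', v ≠ 0)
    (hdist : ∀ v ∈ Λ, ∀ w ∈ Λ, v ≠ w → LinearIndependent k ![v, w])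
    (hdist' : ∀ v ∈ Λ', ∀ w ∈ Λ', v ≠ w → LinearIndependent k ![v, w])
    (hline : ¬ ∃ ℓ : (Fin 3 → k) →ₗ[k] k, ℓ ≠ 0 ∧ ∀ v ∈ Λ, ℓ v = 0)
    (hline' : ¬ ∃ ℓ : (Fin 3 → k) →ₗ[k] k, ℓ ≠ 0 ∧ ∀ v ∈ Λ', ℓ v = 0)
    (heq : (MvPolynomial.homogeneousSubmodule (Fin 3) k (n - 1) ⊓ ⨅ v ∈ Λ, LinearMap.ker (MvPolynomial.aeval v).toLinearMap) = (MvPolynomial.homogeneousSubmodule (Fin 3) k (n - 1) ⊓ ⨅ v ∈ Λ', LinearMap.ker (MvPolynomial.aeval v).toLinearMap)) :
    (∀ v ∈ Λ, ∃ w ∈ Λ', ∃ c : k, v = c • w) ∧ (∀ w ∈ Λ', ∃ v ∈ Λ, ∃ c : k, w = c • v) := by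
  have aux : ∀ (Λ Λ' : Finset (Fin 3 → k)), Λ'.card = n → (∀ v ∈ Λ', v ≠ 0) →
      (¬ ∃ ℓ : (Fin 3 → k) →ₗ[k] k, ℓ ≠ 0 ∧ ∀ v ∈ Λ', ℓ v = 0) →
      ((MvPolynomial.homogeneousSubmodule (Fin 3) k (n - 1) ⊓
          ⨅ v ∈ Λ, LinearMap.ker (MvPolynomial.aeval (R := k) v).toLinearMap) =
        (MvPolynomial.homogeneousSubmodule (Fin 3) k (n - 1) ⊓
          ⨅ v ∈ Λ', LinearMap.ker (MvPolynomial.aeval (R := k) v).toLinearMap)) →
      ∀ v ∈ Λ, ∃ w ∈ Λ', ∃ c : k, v = c • w := by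
    intro Λ Λ' hcard' h0' hline' heq v hv
    by_contra hcon
    push Not at hcon
    obtain ⟨p, hp, hpΛ', hpv⟩ := core k n hn Λ' hcard' h0' hline' v hcon
    have hmem : p ∈ (MvPolynomial.homogeneousSubmodule (Fin 3) k (n - 1) ⊓
          ⨅ v ∈ Λ', LinearMap.ker (MvPolynomial.aeval (R := k) v).toLinearMap) := by
      refine Submodule.mem_inf.mpr ⟨hp, ?_⟩
      simp only [Submodule.mem_iInf]
      intro w hw
      exact hpΛ' w hw
    rw [← heq] at hmem
    have := (Submodule.mem_inf.mp hmem).2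
    simp only [Submodule.mem_iInf] at this
    exact hpv (this v hv)
  exact ⟨aux Λ Λ' hcard' h0' hline' heq, aux Λ' Λ hcard h0 hline heq.symm⟩

end Groth.Agent.S14428
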