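import Groth.Statements.S14436
import Mathlib.RingTheory.Smooth.Field
import Mathlib.RingTheory.Etale.Kaehler
import Mathlib.RingTheory.Kaehler.Polynomial
-- import your own Groth.Agent.* helpers here

set_option autoImplicit false
universe u
open CAlg

namespace Groth.Agent.S14436

open TensorProduct KaehlerDifferential

/-- base change along a formally étale map preserves the rank of the differentials,
provided the source differentials are free. -/
lemma finrank_kaehler_of_formallyEtale (K S T : Type u) [CommRing K] [CommRing S] [CommRing T]
    [Algebra K S] [Algebra K T] [Algebra S T] [IsScalarTower K S T]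
    [Algebra.FormallyEtale S T] [Nontrivial S] [Nontrivial T] [Module.Free S (Ω[S⁄K])] :
    Module.Free T (Ω[T⁄K]) ∧ Module.finrank T (Ω[T⁄K]) = Module.finrank S (Ω[S⁄K]) := by
  have e := KaehlerDifferential.tensorKaehlerEquivOfFormallyEtale K S T
  refine ⟨Module.Free.of_equiv e, ?_⟩
  rw [← e.finrank_eq]
  exact Module.finrank_baseChange

/-- Let L/K be a finitely generated field extension which is separable in the sense that it has a
transcendence basis a_1, …, a_n over which L is a (finite) separable extension of K(a_1, …, a_n).
Then dim_L Ω_{L/K} = n, the transcendence degree of L over K. -/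
theorem result (K L : Type u) [Field K] [Field L] [Algebra K L]
    (hfg : ∃ s : Finset L, IntermediateField.adjoin K (s : Set L) = ⊤)
    (n : ℕ) (a : Fin n → L) (ha : IsTranscendenceBasis K a)
    (hsep : Algebra.IsSeparable ↥(IntermediateField.adjoin K (Set.range a)) L) :
    Module.finrank L (Ω[L⁄K]) = n := by
  classical
  have hai : AlgebraicIndependent K a := ha.1
  -- Step 3: the polynomial subalgebra
  have h3 : Module.Free (Algebra.adjoin K (Set.range a)) (Ω[Algebra.adjoin K (Set.range a)⁄K]) ∧
      Module.finrank (Algebra.adjoin K (Set.range a)) (Ω[Algebra.adjoin K (Set.range a)⁄K]) = n := by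
    let e : MvPolynomial (Fin n) K ≃ₐ[K] Algebra.adjoin K (Set.range a) := hai.aevalEquiv
    let : Algebra (MvPolynomial (Fin n) K) (Algebra.adjoin K (Set.range a)) :=
      e.toRingEquiv.toRingHom.toAlgebra
    have : IsScalarTower K (MvPolynomial (Fin n) K) (Algebra.adjoin K (Set.range a)) :=
      IsScalarTower.of_algebraMap_eq' (RingHom.ext fun x => (e.commutes x).symm)
    let e' : MvPolynomial (Fin n) K ≃ₐ[MvPolynomial (Fin n) K] Algebra.adjoin K (Set.range a) :=
      AlgEquiv.ofRingEquiv (f := e.toRingEquiv) (fun x => rfl)
    have : Algebra.FormallyEtale (MvPolynomial (Fin n) K) (Algebra.adjoin K (Set.range a)) :=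
      Algebra.FormallyEtale.of_equiv e'
    have : Module.Free (MvPolynomial (Fin n) K) (Ω[MvPolynomial (Fin n) K⁄K]) :=
      Module.Free.of_basis (KaehlerDifferential.mvPolynomialBasis K (Fin n))
    have := finrank_kaehler_of_formallyEtale K (MvPolynomial (Fin n) K)
      (Algebra.adjoin K (Set.range a))
    refine ⟨this.1, ?_⟩
    rw [this.2, Module.finrank_eq_card_basis (KaehlerDifferential.mvPolynomialBasis K (Fin n))]
    simp
  -- Step 2: its fraction field
  open scoped IntermediateField.algebraAdjoinAdjoin in
  have h2 : Module.finrank (IntermediateField.adjoin K (Set.range a))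
      (Ω[IntermediateField.adjoin K (Set.range a)⁄K]) = n := by
    have := h3.1
    have : Algebra.FormallyEtale (Algebra.adjoin K (Set.range a))
        (IntermediateField.adjoin K (Set.range a)) :=
      Algebra.FormallyEtale.of_isLocalization (nonZeroDivisors _)
    have := finrank_kaehler_of_formallyEtale K (Algebra.adjoin K (Set.range a))
      (IntermediateField.adjoin K (Set.range a))
    rw [this.2, h3.2]
  -- Step 1: the separable extension
  have : Algebra.FormallyEtale (IntermediateField.adjoin K (Set.range a)) L :=
    Algebra.FormallyEtale.of_isSeparable _ L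
  have := finrank_kaehler_of_formallyEtale K (IntermediateField.adjoin K (Set.range a)) L
  rw [this.2, h2]

end Groth.Agent.S14436
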