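import Groth.Statements.S14437
import Mathlib
-- import your own Groth.Agent.* helpers here

set_option autoImplicit false
universe u
open CAlg

namespace Groth.Agent.S14437


open IsLocalRing TensorProduct

section
variable {k : Type u} [Field k] {A B : Type u} [CommRing A] [CommRing B] [IsLocalRing A]
  [IsLocalRing B] [Algebra k A] [Algebra k B] [Algebra A B] [IsScalarTower k A B]

/-- The ring isomorphism `k ≃ κ_B`. -/
noncomputable def eqv (hB : Function.Bijective (algebraMap k (ResidueField B))) :
    k ≃+* ResidueField B :=
  RingEquiv.ofBijective (algebraMap k (ResidueField B)) hB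

lemma alg_eps (hB : Function.Bijective (algebraMap k (ResidueField B))) (z : ResidueField B) :
    algebraMap k (ResidueField B) ((eqv hB).symm z) = z :=
  (eqv hB).apply_symm_apply z

lemma res_alg (c : k) : residue B (algebraMap k B c) = algebraMap k (ResidueField B) c :=
  (IsScalarTower.algebraMap_apply k B (ResidueField B) c).symm

/-- `b ↦ b - ι (ε (res b))`. -/
noncomputable def proj (hB : Function.Bijective (algebraMap k (ResidueField B))) (b : B) : B :=
  b - algebraMap k B ((eqv hB).symm (residue B b))

lemma proj_mem (hB : Function.Bijective (algebraMap k (ResidueField B))) (b : B) :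
    proj hB b ∈ maximalIdeal B := by
  rw [← residue_eq_zero_iff, proj, map_sub, res_alg, alg_eps, sub_self]

lemma proj_add (hB : Function.Bijective (algebraMap k (ResidueField B))) (x y : B) :
    proj hB (x + y) = proj hB x + proj hB y := by
  simp only [proj, map_add]
  ring

lemma proj_mul (hB : Function.Bijective (algebraMap k (ResidueField B))) (x y : B) :
    proj hB (x * y) = algebraMap k B ((eqv hB).symm (residue B x)) * proj hB y +
      algebraMap k B ((eqv hB).symm (residue B y)) * proj hB x + proj hB x * proj hB y := by
  simp only [proj, map_mul]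
  ring

lemma proj_of_mem (hB : Function.Bijective (algebraMap k (ResidueField B))) {x : B}
    (hx : x ∈ maximalIdeal B) : proj hB x = x := by
  rw [proj, (residue_eq_zero_iff x).mpr hx, map_zero, map_zero, sub_zero]

lemma eps_res_eq (hB : Function.Bijective (algebraMap k (ResidueField B))) (b : B) (c : k)
    (h : b - algebraMap k B c ∈ maximalIdeal B) : (eqv hB).symm (residue B b) = c := by
  rw [RingEquiv.symm_apply_eq]
  rw [← residue_eq_zero_iff, map_sub, sub_eq_zero, res_alg] at h
  exact h

/-- The class of `proj b` in the cotangent space. -/
noncomputable def tc (hB : Function.Bijective (algebraMap k (ResidueField B))) (b : B) :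
    CotangentSpace B :=
  (maximalIdeal B).toCotangent ⟨proj hB b, proj_mem hB b⟩

lemma tc_add (hB : Function.Bijective (algebraMap k (ResidueField B))) (x y : B) :
    tc hB (x + y) = tc hB x + tc hB y := by
  unfold tc
  rw [← map_add]
  congr 1
  exact Subtype.ext (proj_add hB x y)

lemma tc_mul (hB : Function.Bijective (algebraMap k (ResidueField B))) (x y : B) :
    tc hB (x * y) = (eqv hB).symm (residue B x) • tc hB y +
      (eqv hB).symm (residue B y) • tc hB x := by
  unfold tc
  rw [← algebraMap_smul B ((eqv hB).symm (residue B x)),
    ← algebraMap_smul B ((eqv hB).symm (residue B y)), ← map_smul, ← map_smul, ← map_add,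
    Ideal.toCotangent_eq]
  have : (proj hB (x * y) - (algebraMap k B ((eqv hB).symm (residue B x)) * proj hB y +
      algebraMap k B ((eqv hB).symm (residue B y)) * proj hB x)) = proj hB x * proj hB y := by
    rw [proj_mul]
    ring
  simp only [Submodule.coe_add, Submodule.coe_smul, smul_eq_mul]
  rw [this, pow_two]
  exact Ideal.mul_mem_mul (proj_mem hB x) (proj_mem hB y)

lemma tc_of_mem (hB : Function.Bijective (algebraMap k (ResidueField B)))
    (x : maximalIdeal B) : tc hB x.1 = (maximalIdeal B).toCotangent x := by
  unfold tc
  congr 1
  exact Subtype.ext (proj_of_mem hB x.2)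

lemma tc_algebraMap (hB : Function.Bijective (algebraMap k (ResidueField B)))
    (hA : Function.Bijective (algebraMap k (ResidueField A)))
    (hle : maximalIdeal A ≤ Ideal.comap (IsScalarTower.toAlgHom k A B) (maximalIdeal B)) (a : A) :
    tc hB (algebraMap A B a) ∈ LinearMap.range (Ideal.mapCotangent (maximalIdeal A)
      (maximalIdeal B) (IsScalarTower.toAlgHom k A B) hle) := by
  set c' : k := (RingEquiv.ofBijective _ hA).symm (residue A a) with hc'
  have ha' : a - algebraMap k A c' ∈ maximalIdeal A := by
    rw [← residue_eq_zero_iff, map_sub, sub_eq_zero]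
    have h1 : residue A (algebraMap k A c') = algebraMap k (ResidueField A) c' :=
      (IsScalarTower.algebraMap_apply k A (ResidueField A) c').symm
    rw [h1]
    exact ((RingEquiv.ofBijective _ hA).apply_symm_apply (residue A a)).symm
  have hfa : algebraMap A B a - algebraMap k B c' ∈ maximalIdeal B := by
    have := hle ha'
    rw [Ideal.mem_comap, IsScalarTower.coe_toAlgHom', map_sub,
      ← IsScalarTower.algebraMap_apply k A B] at this
    exact this
  have hc : (eqv hB).symm (residue B (algebraMap A B a)) = c' := eps_res_eq hB _ _ hfa
  refine ⟨(maximalIdeal A).toCotangent ⟨a - algebraMap k A c', ha'⟩, ?_⟩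
  rw [Ideal.mapCotangent_toCotangent]
  unfold tc
  congr 1
  apply Subtype.ext
  simp only [IsScalarTower.coe_toAlgHom', map_sub]
  rw [proj, hc, ← IsScalarTower.algebraMap_apply k A B]

/-- The derivation `B → κ` over `A` attached to a functional on the cotangent space killing the
image of the cotangent space of `A`. -/
noncomputable def Dφ (hB : Function.Bijective (algebraMap k (ResidueField B)))
    (φ : CotangentSpace B →ₗ[k] k) (hφ : ∀ a : A, φ (tc hB (algebraMap A B a)) = 0) :
    Derivation A B (ResidueField B) := by
  have hL : ∀ x y : B, algebraMap k (ResidueField B) (φ (tc hB (x * y))) =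
      x • algebraMap k (ResidueField B) (φ (tc hB y)) +
        y • algebraMap k (ResidueField B) (φ (tc hB x)) := by
    intro x y
    rw [tc_mul, map_add, map_smul, map_smul, smul_eq_mul, smul_eq_mul, map_add, map_mul, map_mul,
      alg_eps, alg_eps, Algebra.smul_def, Algebra.smul_def]
    rfl
  refine Derivation.mk' { toFun := fun b => algebraMap k (ResidueField B) (φ (tc hB b)),
                          map_add' := ?_, map_smul' := ?_ } hL
  · intro x y
    rw [tc_add, map_add, map_add]
  · intro a b
    simp only [RingHom.id_apply]
    rw [Algebra.smul_def, hL, hφ a, map_zero, smul_zero, add_zero, algebraMap_smul]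

lemma Dφ_apply (hB : Function.Bijective (algebraMap k (ResidueField B)))
    (φ : CotangentSpace B →ₗ[k] k) (hφ : ∀ a : A, φ (tc hB (algebraMap A B a)) = 0) (b : B) :
    Dφ hB φ hφ b = algebraMap k (ResidueField B) (φ (tc hB b)) := rfl

/-- The map `𝔪/𝔪² → κ ⊗ Ω_{B/A}`. -/
noncomputable def cmap : CotangentSpace B →ₗ[B] (ResidueField B) ⊗[B] Ω[B⁄A] :=
  (KaehlerDifferential.kerCotangentToTensor A B (ResidueField B)) ∘ₗ
    (Ideal.Cotangent.equivOfEq (maximalIdeal B) (RingHom.ker (algebraMap B (ResidueField B)))
      (ker_residue (R := B)).symm).toLinearMap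

lemma cmap_toCotangent (x : maximalIdeal B) :
    cmap (A := A) ((maximalIdeal B).toCotangent x) =
      (1 : ResidueField B) ⊗ₜ[B] KaehlerDifferential.D A B x.1 := rfl

lemma cmap_surjective (hB : Function.Bijective (algebraMap k (ResidueField B))) :
    Function.Surjective (cmap (A := A) (B := B)) := by
  intro v
  have hsurjAκ : Function.Surjective (algebraMap A (ResidueField B)) := by
    intro z
    obtain ⟨c, rfl⟩ := hB.2 z
    exact ⟨algebraMap k A c, (IsScalarTower.algebraMap_apply k A (ResidueField B) c).symm⟩
  have := KaehlerDifferential.subsingleton_of_surjective A (ResidueField B) hsurjAκ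
  have hex := KaehlerDifferential.exact_kerCotangentToTensor_mapBaseChange A B (ResidueField B)
    (residue_surjective (R := B))
  obtain ⟨y, hy⟩ := (hex v).mp (Subsingleton.elim _ _)
  refine ⟨(Ideal.Cotangent.equivOfEq (maximalIdeal B)
    (RingHom.ker (algebraMap B (ResidueField B))) (ker_residue (R := B)).symm).symm y, ?_⟩
  change KaehlerDifferential.kerCotangentToTensor A B (ResidueField B)
    ((Ideal.Cotangent.equivOfEq (maximalIdeal B)
      (RingHom.ker (algebraMap B (ResidueField B))) (ker_residue (R := B)).symm)
      ((Ideal.Cotangent.equivOfEq (maximalIdeal B)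
        (RingHom.ker (algebraMap B (ResidueField B))) (ker_residue (R := B)).symm).symm y)) = v
  rw [LinearEquiv.apply_symm_apply, hy]

lemma ker_cmap (hB : Function.Bijective (algebraMap k (ResidueField B)))
    (hA : Function.Bijective (algebraMap k (ResidueField A)))
    (hle : maximalIdeal A ≤ Ideal.comap (IsScalarTower.toAlgHom k A B) (maximalIdeal B)) :
    LinearMap.ker ((cmap (A := A) (B := B)).restrictScalars k) =
      LinearMap.range (Ideal.mapCotangent (maximalIdeal A) (maximalIdeal B)
        (IsScalarTower.toAlgHom k A B) hle) := by
  apply le_antisymm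
  · intro w hw
    by_contra hwr
    obtain ⟨φ, hφw, hφ⟩ := Submodule.exists_le_ker_of_notMem hwr
    have hφ' : ∀ a : A, φ (tc hB (algebraMap A B a)) = 0 := fun a =>
      hφ (tc_algebraMap hB hA hle a)
    obtain ⟨x, rfl⟩ := Ideal.toCotangent_surjective _ w
    have h0 : cmap (A := A) ((maximalIdeal B).toCotangent x) = 0 := hw
    rw [cmap_toCotangent] at h0
    have h1 := congrArg ((Dφ hB φ hφ').liftKaehlerDifferential.liftBaseChange (ResidueField B)) h0
    rw [LinearMap.liftBaseChange_tmul, map_zero, one_smul,
      Derivation.liftKaehlerDifferential_comp_D, Dφ_apply, tc_of_mem] at h1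
    apply hφw
    exact hB.1 (by rw [h1, map_zero])
  · rintro _ ⟨u, rfl⟩
    obtain ⟨a, rfl⟩ := Ideal.toCotangent_surjective _ u
    rw [Ideal.mapCotangent_toCotangent, LinearMap.mem_ker, LinearMap.restrictScalars_apply,
      cmap_toCotangent]
    simp

end

/-- Let k be a field and A → B a local homomorphism of Noetherian local k-algebras with residue fields k
(k → A/m_A and k → B/m_B bijective) — for instance the local rings at a closed point x and at its
image y under a morphism of schemes of finite type over an algebraically closed k. Then dim_k
(Ω_{B/A} ⊗_B B/m_B) + rank(m_A/m_A² → m_B/m_B²) = dim_k (m_B/m_B²): the fibre at x of the sheaf of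
relative differentials is dual to the kernel of the tangent map T_x X → T_y Y. (The published
statement is the canonical isomorphism (Ω_{X/Y})_(x)^∨ ≅ ker(df_x); stated here as the resulting
equality of dimensions. Its second assertion, dim (Ω_{X/Y})_(x) ≥ r when the fibre has an
r-dimensional component through x, is not included.) -/
theorem result (k : Type u) [Field k]
    (A B : Type u) [CommRing A] [CommRing B] [IsLocalRing A] [IsLocalRing B] [IsNoetherianRing A] [IsNoetherianRing B]
    [Algebra k A] [Algebra k B] [Algebra A B] [IsScalarTower k A B]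
    (hle : IsLocalRing.maximalIdeal A ≤ Ideal.comap (IsScalarTower.toAlgHom k A B) (IsLocalRing.maximalIdeal B))
    (hA : Function.Bijective (algebraMap k (IsLocalRing.ResidueField A)))
    (hB : Function.Bijective (algebraMap k (IsLocalRing.ResidueField B))) :
    Module.finrank (IsLocalRing.ResidueField B) (TensorProduct B (IsLocalRing.ResidueField B) (Ω[B⁄A])) +
      Module.finrank k ↥(LinearMap.range (Ideal.mapCotangent (IsLocalRing.maximalIdeal A) (IsLocalRing.maximalIdeal B)
        (IsScalarTower.toAlgHom k A B) hle)) =
      Module.finrank k (IsLocalRing.CotangentSpace B) := by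
  have hST : IsScalarTower k (IsLocalRing.ResidueField B) (IsLocalRing.CotangentSpace B) := by
    refine IsScalarTower.of_algebraMap_smul fun c w => ?_
    rw [IsScalarTower.algebraMap_apply k B (IsLocalRing.ResidueField B), algebraMap_smul,
      algebraMap_smul]
  have hfinκ : Module.Finite k (IsLocalRing.ResidueField B) :=
    Module.Finite.of_surjective (Algebra.linearMap k (IsLocalRing.ResidueField B)) hB.2
  have hfinW : Module.Finite k (IsLocalRing.CotangentSpace B) :=
    Module.Finite.trans (IsLocalRing.ResidueField B) (IsLocalRing.CotangentSpace B)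
  have hker := ker_cmap hB hA hle
  have hsurj : Function.Surjective ((cmap (A := A) (B := B)).restrictScalars k) :=
    cmap_surjective hB
  have e := ((cmap (A := A) (B := B)).restrictScalars k).quotKerEquivOfSurjective hsurj
  have h1 := e.finrank_eq
  have h2 := Submodule.finrank_quotient_add_finrank
    (LinearMap.ker ((cmap (A := A) (B := B)).restrictScalars k))
  have h3 : Module.finrank (IsLocalRing.ResidueField B)
      (TensorProduct B (IsLocalRing.ResidueField B) (Ω[B⁄A])) =
      Module.finrank k (TensorProduct B (IsLocalRing.ResidueField B) (Ω[B⁄A])) := by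
    have := Module.finrank_mul_finrank k (IsLocalRing.ResidueField B)
      (TensorProduct B (IsLocalRing.ResidueField B) (Ω[B⁄A]))
    have h1' : Module.finrank k (IsLocalRing.ResidueField B) = 1 := by
      have := (LinearEquiv.ofBijective (Algebra.linearMap k (IsLocalRing.ResidueField B))
        hB).finrank_eq
      rw [Module.finrank_self] at this
      exact this.symm
    rw [h1', one_mul] at this
    exact this
  rw [h3, ← h1, ← hker]
  exact h2

end Groth.Agent.S14437
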