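import Groth.Statements.S14438
import Mathlib
-- import your own Groth.Agent.* helpers here

set_option autoImplicit false
universe u
open CAlg

namespace Groth.Agent.S14438

section
open IsLocalRing TensorProduct

lemma length_eq_sum_localization (R C : Type*) [CommRing R] [CommRing C] [Algebra R C]
    [IsArtinianRing C] [Fintype (MaximalSpectrum C)] :
    Module.length R C =
      ∑ n : MaximalSpectrum C, Module.length R (Localization.AtPrime n.asIdeal) := by
  classical
  let e : C ≃ₐ[C] MaximalSpectrum.PiLocalization C := MaximalSpectrum.toPiLocalizationEquiv C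
  let e' : C ≃ₗ[R] MaximalSpectrum.PiLocalization C := (e.restrictScalars R).toLinearEquiv
  rw [e'.length_eq]
  exact Module.length_pi_of_fintype R _

lemma length_fibre (A B : Type u) [CommRing A] [IsLocalRing A] [CommRing B] [Algebra A B]
    [Module.Free A B] [Module.Finite A B] :
    Module.length A (B ⧸ Ideal.map (algebraMap A B) (maximalIdeal A)) = Module.finrank A B := by
  set m := maximalIdeal A with hm
  letI : Field (A ⧸ m) := Ideal.Quotient.field m
  have e1 : (B ⧸ (Ideal.map (algebraMap A B) m).restrictScalars A) ≃ₗ[A]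
      B ⧸ Ideal.map (algebraMap A B) m :=
    Submodule.Quotient.restrictScalarsEquiv A _
  have e2 : (B ⧸ (m • ⊤ : Submodule A B)) ≃ₗ[A]
      (B ⧸ (Ideal.map (algebraMap A B) m).restrictScalars A) :=
    Submodule.quotEquivOfEq _ _ (Ideal.smul_top_eq_map m)
  have e3 : ((A ⧸ m) ⊗[A] B) ≃ₗ[A] B ⧸ (m • ⊤ : Submodule A B) :=
    TensorProduct.quotTensorEquivQuotSMul B m
  rw [← e1.length_eq, ← e2.length_eq, ← e3.length_eq]
  rw [Module.length_eq_of_surjective (S := A) (R := A ⧸ m) (M := (A ⧸ m) ⊗[A] B)
    Ideal.Quotient.mk_surjective]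
  rw [Module.length_eq_finrank, Module.finrank_baseChange]

variable (A B : Type u) [CommRing A] [IsLocalRing A] [CommRing B] [Algebra A B] (I : Ideal B)
  (nb : Ideal (B ⧸ I)) [nb.IsMaximal]

lemma algebraMapSubmonoid_eq :
    Algebra.algebraMapSubmonoid (B ⧸ I) (Ideal.comap (Ideal.Quotient.mk I) nb).primeCompl =
      nb.primeCompl := by
  ext x
  constructor
  · rintro ⟨b, hb, rfl⟩
    exact hb
  · intro hx
    obtain ⟨b, rfl⟩ := Ideal.Quotient.mk_surjective x
    exact ⟨b, hx, rfl⟩

noncomputable def locIso :
    LocalizedModule (Ideal.comap (Ideal.Quotient.mk I) nb).primeCompl (B ⧸ I) ≃ₗ[B]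
      Localization.AtPrime nb := by
  haveI : IsLocalization (Algebra.algebraMapSubmonoid (B ⧸ I)
      (Ideal.comap (Ideal.Quotient.mk I) nb).primeCompl) (Localization.AtPrime nb) := by
    rw [algebraMapSubmonoid_eq]
    infer_instance
  haveI := (isLocalizedModule_iff_isLocalization
    (S := (Ideal.comap (Ideal.Quotient.mk I) nb).primeCompl) (A := B ⧸ I)
    (Aₛ := Localization.AtPrime nb)).mpr this
  exact IsLocalizedModule.iso (Ideal.comap (Ideal.Quotient.mk I) nb).primeCompl
    (IsScalarTower.toAlgHom B (B ⧸ I) (Localization.AtPrime nb)).toLinearMap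

lemma length_loc
    (hI : Ideal.map (algebraMap A B) (maximalIdeal A) ≤ Ideal.comap (Ideal.Quotient.mk I) nb)
    (hsurj : Function.Surjective (fun a : A =>
      Ideal.Quotient.mk (Ideal.comap (Ideal.Quotient.mk I) nb) (algebraMap A B a))) :
    Module.length (Localization.AtPrime (Ideal.comap (Ideal.Quotient.mk I) nb))
      (LocalizedModule (Ideal.comap (Ideal.Quotient.mk I) nb).primeCompl (B ⧸ I)) =
    Module.length A (Localization.AtPrime nb) := by
  set n := Ideal.comap (Ideal.Quotient.mk I) nb with hn
  haveI : n.IsMaximal := Ideal.comap_isMaximal_of_surjective _ Ideal.Quotient.mk_surjective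
  set Bn := Localization.AtPrime n with hBn
  set Mn := LocalizedModule n.primeCompl (B ⧸ I) with hMn
  haveI : IsLocalHom (algebraMap A Bn) := by
    constructor
    intro a ha
    by_contra hna
    have h1 : a ∈ maximalIdeal A := hna
    have h2 : algebraMap A B a ∈ n := hI (Ideal.mem_map_of_mem _ h1)
    rw [IsScalarTower.algebraMap_apply A B Bn] at ha
    have h3 := (IsLocalization.AtPrime.isUnit_to_map_iff Bn n (algebraMap A B a)).mp ha
    exact h3 h2
  have h1 := IsLocalRing.length_restrictScalars A Bn Mn
  have h2 : Module.length (ResidueField A) (ResidueField Bn) = 1 := by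
    have hs : Function.Surjective (algebraMap (ResidueField A) (ResidueField Bn)) := by
      intro x
      obtain ⟨y, rfl⟩ := IsLocalRing.residue_surjective x
      obtain ⟨z, hz⟩ := (IsLocalization.AtPrime.equivQuotMaximalIdeal n Bn).surjective
        (Ideal.Quotient.mk _ y)
      obtain ⟨b, rfl⟩ := Ideal.Quotient.mk_surjective z
      obtain ⟨a, ha⟩ := hsurj (Ideal.Quotient.mk n b)
      refine ⟨IsLocalRing.residue A a, ?_⟩
      rw [IsLocalRing.ResidueField.algebraMap_residue]
      rw [IsLocalization.AtPrime.equivQuotMaximalIdeal_apply_mk] at hz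
      change Ideal.Quotient.mk _ _ = Ideal.Quotient.mk _ _
      rw [← hz, IsScalarTower.algebraMap_apply A B Bn]
      have := congrArg (IsLocalization.AtPrime.equivQuotMaximalIdeal n Bn) ha
      rw [IsLocalization.AtPrime.equivQuotMaximalIdeal_apply_mk,
        IsLocalization.AtPrime.equivQuotMaximalIdeal_apply_mk] at this
      exact this
    rw [Module.length_eq_of_surjective hs, Module.length_eq_finrank, Module.finrank_self]
    rfl
  rw [h2, mul_one] at h1
  rw [← h1]
  exact ((locIso B I nb).restrictScalars A).length_eq


theorem main (A B : Type u) [CommRing A] [IsLocalRing A] [CommRing B] [Algebra A B]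
    [Module.Free A B] [Module.Finite A B] (d : ℕ) (hd : Module.finrank A B = d)
    (hres : ∀ (n : Ideal B) [n.IsMaximal] (h : Ideal.map (algebraMap A B) (IsLocalRing.maximalIdeal A) ≤ n),
      Function.Bijective (Ideal.quotientMap n (algebraMap A B) (Ideal.map_le_iff_le_comap.mp h))) :
    finsum (fun n : {n : MaximalSpectrum B // Ideal.map (algebraMap A B) (IsLocalRing.maximalIdeal A) ≤ n.asIdeal} =>
      Module.length (Localization.AtPrime n.1.asIdeal)
        (LocalizedModule n.1.asIdeal.primeCompl (B ⧸ Ideal.map (algebraMap A B) (IsLocalRing.maximalIdeal A)))) = (d : ℕ∞) := by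
  classical
  set I := Ideal.map (algebraMap A B) (maximalIdeal A) with hI
  have hlen : Module.length A (B ⧸ I) = d := by rw [length_fibre, hd]
  haveI : IsArtinianRing (B ⧸ I) := by
    have h1 : Module.length A (B ⧸ I) ≠ ⊤ := by rw [hlen]; exact ENat.natCast_ne_top d
    rw [Module.length_ne_top_iff, isFiniteLength_iff_isNoetherian_isArtinian] at h1
    exact isArtinian_of_tower A h1.2
  letI : Fintype (MaximalSpectrum (B ⧸ I)) := Fintype.ofFinite _
  let e : MaximalSpectrum (B ⧸ I) → {n : MaximalSpectrum B // I ≤ n.asIdeal} := fun nb =>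
    ⟨⟨Ideal.comap (Ideal.Quotient.mk I) nb.asIdeal,
      haveI := nb.isMaximal
      Ideal.comap_isMaximal_of_surjective _ Ideal.Quotient.mk_surjective⟩, by
      intro x hx
      change Ideal.Quotient.mk I x ∈ nb.asIdeal
      rw [Ideal.Quotient.eq_zero_iff_mem.mpr hx]
      exact zero_mem _⟩
  have he : Function.Bijective e := by
    constructor
    · intro n1 n2 h
      have h' : Ideal.comap (Ideal.Quotient.mk I) n1.asIdeal =
          Ideal.comap (Ideal.Quotient.mk I) n2.asIdeal := congrArg (fun x => x.1.asIdeal) h
      exact MaximalSpectrum.ext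
        (Ideal.comap_injective_of_surjective _ Ideal.Quotient.mk_surjective h')
    · rintro ⟨⟨n, hn⟩, hle⟩
      have hmax : (Ideal.map (Ideal.Quotient.mk I) n).IsMaximal := by
        rcases Ideal.map_eq_top_or_isMaximal_of_surjective (Ideal.Quotient.mk I)
          Ideal.Quotient.mk_surjective hn with h | h
        · exfalso
          have := Ideal.comap_map_mk hle
          rw [h, Ideal.comap_top] at this
          exact hn.ne_top this.symm
        · exact h
      refine ⟨⟨Ideal.map (Ideal.Quotient.mk I) n, hmax⟩, ?_⟩
      apply Subtype.ext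
      apply MaximalSpectrum.ext
      exact Ideal.comap_map_mk hle
  rw [← finsum_eq_of_bijective e he
    (f := fun nb => Module.length A (Localization.AtPrime nb.asIdeal))]
  · rw [finsum_eq_sum_of_fintype, ← length_eq_sum_localization, hlen]
  · intro nb
    haveI := nb.isMaximal
    symm
    have hle : I ≤ Ideal.comap (Ideal.Quotient.mk I) nb.asIdeal := (e nb).2
    haveI : (Ideal.comap (Ideal.Quotient.mk I) nb.asIdeal).IsMaximal :=
      Ideal.comap_isMaximal_of_surjective _ Ideal.Quotient.mk_surjective
    apply length_loc A B I nb.asIdeal hle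
    intro x
    obtain ⟨y, hy⟩ := (hres _ hle).2 x
    obtain ⟨a, rfl⟩ := Ideal.Quotient.mk_surjective y
    exact ⟨a, hy⟩

end

/-- Let (A, m) be a local ring, B a commutative A-algebra which is free of finite rank d as an A-module,
and assume that for every maximal ideal n of B containing mB the induced map of residue fields A/m →
B/n is bijective (as for the points of a fibre of a finite flat morphism of varieties over an
algebraically closed field). Then the multiplicities of the points of the fibre add up to the
degree: the sum over all such n of the length of the B_n-module (B/mB)_n equals d. -/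
theorem result (A B : Type u) [CommRing A] [IsLocalRing A] [CommRing B] [Algebra A B]
    [Module.Free A B] [Module.Finite A B] (d : ℕ) (hd : Module.finrank A B = d)
    (hres : ∀ (n : Ideal B) [n.IsMaximal] (h : Ideal.map (algebraMap A B) (IsLocalRing.maximalIdeal A) ≤ n),
      Function.Bijective (Ideal.quotientMap n (algebraMap A B) (Ideal.map_le_iff_le_comap.mp h))) :
    finsum (fun n : {n : MaximalSpectrum B // Ideal.map (algebraMap A B) (IsLocalRing.maximalIdeal A) ≤ n.asIdeal} =>
      Module.length (Localization.AtPrime n.1.asIdeal)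
        (LocalizedModule n.1.asIdeal.primeCompl (B ⧸ Ideal.map (algebraMap A B) (IsLocalRing.maximalIdeal A)))) = (d : ℕ∞) := by
  exact Groth.Agent.S14438.main A B d hd hres

end Groth.Agent.S14438
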