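import Groth.Statements.S14440
import Mathlib
import Groth.Agent.Lib.Helper12.ProjHilb8

set_option autoImplicit false
universe u
open ProjDeg

namespace Groth.Agent.S14440

open MvPolynomial RingTheory.Sequence Groth.Agent.Helper12.ProjHilb

theorem ofList_ofFn' {A : Type*} [CommRing A] {r : ℕ} (f : Fin r → A) :
    Ideal.ofList (List.ofFn f) = Ideal.span (Set.range f) := by
  unfold Ideal.ofList
  congr 1
  ext x
  simp [List.mem_ofFn]


/-- Let k be an algebraically closed field and H_1, …, H_n hypersurfaces in P^n given by homogeneous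
polynomials f_1, …, f_n of degrees d_1, …, d_n ≥ 1 in S = k[x_0, …, x_n], meeting in finitely many
points, i.e. S/(f_1, …, f_n) has Krull dimension one. Then the intersection multiplicities of the
H_i at the points of H_1 ∩ ⋯ ∩ H_n add up to d_1 ⋯ d_n; stated here in the form established in the
proof: the Hilbert function of S/(f_1, …, f_n) is eventually the constant Π d_i, i.e. for all large
m, dim_k S_m − dim_k ((f_1, …, f_n) ∩ S_m) = Π d_i (this constant is the degree of O_{H_1} ⊗ ⋯ ⊗
O_{H_n}, the sum of the lengths of its stalks). -/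
theorem result (k : Type u) [Field k] [IsAlgClosed k] (n : ℕ)
    (f : Fin n → MvPolynomial (Fin (n + 1)) k) (d : Fin n → ℕ) (hd : ∀ i, 1 ≤ d i)
    (hf : ∀ i, (f i).IsHomogeneous (d i))
    (hdim : ringKrullDim (MvPolynomial (Fin (n + 1)) k ⧸ Ideal.span (Set.range f)) = 1) :
    ∃ m₀ : ℕ, ∀ m : ℕ, m₀ ≤ m →
      Module.finrank k ↥(MvPolynomial.homogeneousSubmodule (Fin (n + 1)) k m) -
        Module.finrank k ↥((Ideal.span (Set.range f)).restrictScalars k ⊓ MvPolynomial.homogeneousSubmodule (Fin (n + 1)) k m) =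
      ∏ i : Fin n, d i := by
  classical
  have H : ∀ Q : Ideal (MvPolynomial (Fin (n + 1)) k), Q.IsPrime → Ideal.span (Set.range f) ≤ Q →
      ringKrullDim (MvPolynomial (Fin (n + 1)) k ⧸ Q) + (n : WithBot ℕ∞) ≤
        ((n + 1 : ℕ) : WithBot ℕ∞) := by
    intro Q hQ hJQ
    have h1 : ringKrullDim (MvPolynomial (Fin (n + 1)) k ⧸ Q) ≤
        ringKrullDim (MvPolynomial (Fin (n + 1)) k ⧸ Ideal.span (Set.range f)) :=
      ringKrullDim_le_of_surjective (Ideal.Quotient.factor hJQ) (Ideal.Quotient.factor_surjective hJQ)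
    rw [hdim] at h1
    obtain ⟨a, b, ha, hb, hab⟩ := exists_dim_height Q
    rw [ha] at h1 ⊢
    have h2 : a ≤ 1 := by exact_mod_cast h1
    have h3 : a + n ≤ n + 1 := by omega
    exact_mod_cast h3
  have hreg : IsWeaklyRegular (MvPolynomial (Fin (n + 1)) k) (List.ofFn f) :=
    isWeaklyRegular_ofFn f d (fun i => (mem_homogeneousSubmodule _ _).mpr (hf i))
      (fun i => hd i) H
  obtain ⟨m₀, hm₀⟩ := hf_ci_eventually f d (fun i => (mem_homogeneousSubmodule _ _).mpr (hf i))
    (fun i => hd i) hreg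
  refine ⟨m₀, fun m hm => ?_⟩
  have := hm₀ m hm
  rw [ofList_ofFn'] at this
  exact this

end Groth.Agent.S14440
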