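import Groth.Statements.S14442

set_option autoImplicit false
universe u
open GrNak

namespace Groth.Agent.S14442

/-- Let R be a commutative ℕ-graded ring with irrelevant ideal R_+ = ⊕_{i>0} R_i, M an ℕ-graded R-module
and N a graded submodule of M (closed under taking homogeneous components). If M = R_+ M + N then N
= M. (The published statement is for finitely generated ℤ-graded modules over a graded quotient of a
polynomial ring, whose degrees are then bounded below; stated here for non-negatively graded modules
over any ℕ-graded commutative ring, where the same lowest-degree argument applies without finite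
generation.) -/
theorem result {R : Type u} [CommRing R] {σ : Type u} [SetLike σ R] [AddSubmonoidClass σ R]
    (𝒜 : ℕ → σ) [GradedRing 𝒜]
    {M : Type u} [AddCommGroup M] [Module R M] {τ : Type u} [SetLike τ M] [AddSubmonoidClass τ M]
    (ℳ : ℕ → τ) [DirectSum.Decomposition ℳ] [SetLike.GradedSMul 𝒜 ℳ]
    (N : Submodule R M) (hN : ∀ x ∈ N, ∀ i : ℕ, (DirectSum.decompose ℳ x i : M) ∈ N)
    (h : (HomogeneousIdeal.irrelevant 𝒜).toIdeal • (⊤ : Submodule R M) ⊔ N = ⊤) :
    N = ⊤ := by
  classical
  have key : ∀ d : ℕ, ∀ x : M, x ∈ ℳ d → x ∈ N := by
    intro d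
    induction d using Nat.strong_induction_on with
    | _ d ih =>
      intro x hx
      let π : M →+ M := (AddSubmonoidClass.subtype (ℳ d)).comp
        ((DFinsupp.evalAddMonoidHom d).comp (DirectSum.decomposeAddEquiv ℳ).toAddMonoidHom)
      have hπ : ∀ z : M, π z = ((DirectSum.decompose ℳ z d : ℳ d) : M) := fun z => rfl
      have hx' : x ∈ (HomogeneousIdeal.irrelevant 𝒜).toIdeal • (⊤ : Submodule R M) ⊔ N := by
        rw [h]; trivial
      obtain ⟨y, hy, n, hn, rfl⟩ := Submodule.mem_sup.mp hx'
      have hd : π (y + n) = y + n := by
        rw [hπ]; exact DirectSum.decompose_of_mem_same ℳ hx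
      rw [← hd, map_add]
      refine N.add_mem ?_ (by rw [hπ]; exact hN n hn d)
      -- now y ∈ irrelevant • ⊤
      refine Submodule.smul_induction_on hy ?_ ?_
      · intro a ha m _
        have ha0 : ((DirectSum.decompose 𝒜 a 0 : 𝒜 0) : R) = 0 := by
          have := (HomogeneousIdeal.mem_irrelevant_iff 𝒜 a).mp ha
          rwa [GradedRing.proj_apply] at this
        have ea := DirectSum.sum_support_decompose 𝒜 a
        have em := DirectSum.sum_support_decompose ℳ m
        have e : a • m = ∑ i ∈ (DirectSum.decompose 𝒜 a).support,
            ∑ j ∈ (DirectSum.decompose ℳ m).support,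
              ((DirectSum.decompose 𝒜 a i : 𝒜 i) : R) • ((DirectSum.decompose ℳ m j : ℳ j) : M) := by
          conv_lhs => rw [← ea, ← em]
          rw [Finset.sum_smul]
          refine Finset.sum_congr rfl ?_
          intro i _
          rw [Finset.smul_sum]
        rw [e, map_sum]
        refine N.sum_mem ?_
        intro i _
        rw [map_sum]
        refine N.sum_mem ?_
        intro j _
        have hmem : ((DirectSum.decompose 𝒜 a i : 𝒜 i) : R) • ((DirectSum.decompose ℳ m j : ℳ j) : M)
            ∈ ℳ (i + j) := by
          have := SetLike.GradedSMul.smul_mem (A := 𝒜) (B := ℳ)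
            (DirectSum.decompose 𝒜 a i).2 (DirectSum.decompose ℳ m j).2
          simpa using this
        rw [hπ]
        by_cases hij : i + j = d
        · subst hij
          rw [DirectSum.decompose_of_mem_same ℳ hmem]
          by_cases hi : i = 0
          · subst hi
            rw [ha0, zero_smul]
            exact N.zero_mem
          · refine N.smul_mem _ ?_
            exact ih j (by omega) _ (DirectSum.decompose ℳ m j).2
        · rw [DirectSum.decompose_of_mem_ne ℳ hmem hij]
          exact N.zero_mem
      · intro y1 y2 h1 h2
        rw [map_add]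
        exact N.add_mem h1 h2
  rw [eq_top_iff]
  intro x _
  rw [← DirectSum.sum_support_decompose ℳ x]
  refine N.sum_mem ?_
  intro i _
  exact key i _ (DirectSum.decompose ℳ x i).2

end Groth.Agent.S14442
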