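import Groth.Statements.S14447
import Mathlib

set_option autoImplicit false
universe w v u
open AlgGrp

namespace Groth.Agent.S14447

open CategoryTheory CategoryTheory.Limits in
/-- Let C be a category with finite products and with all coproducts indexed by sets, and assume that
for every set I and every object U the canonical arrow ∐_{i∈I} U → (∐_{i∈I} pt) × U, whose i-th
component pairs U → pt → ∐_{i∈I} pt (i-th coprojection) with the identity of U, is an isomorphism.
Then the discrete-object functor from sets to C, I ↦ ∐_{i∈I} pt, preserves finite products. (Sets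
are the types of one fixed universe, the one indexing the coproducts. The published statement asks
only for the coproducts of copies of one object; this row assumes that C has all coproducts indexed
by sets, which Mathlib's discrete-object functor sigmaConst requires.) -/
theorem result {C : Type u} [Category.{v} C]
    [HasFiniteProducts C] [HasCoproducts.{w} C]
    (h : ∀ (I : Type w) (U : C), IsIso (Sigma.desc fun i : I =>
      prod.lift (terminal.from U ≫ Sigma.ι (fun _ : I => ⊤_ C) i) (𝟙 U))) :
    PreservesFiniteProducts (sigmaConst.{w}.obj (⊤_ C)) := by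
  -- terminal object
  have hterm : PreservesLimit (Functor.empty.{0} (Type w)) (sigmaConst.{w}.obj (⊤_ C)) := by
    apply preservesLimit_of_preserves_limit_cone Types.isTerminalPUnit
    apply (isLimitMapConeEmptyConeEquiv _ _).symm _
    let iso : (⊤_ C) ≅ ∐ fun _ : PUnit.{w+1} => ⊤_ C :=
      { hom := Sigma.ι (fun _ : PUnit.{w+1} => ⊤_ C) PUnit.unit
        inv := Sigma.desc (fun _ => 𝟙 _)
        hom_inv_id := by simp
        inv_hom_id := by
          apply Sigma.hom_ext
          rintro ⟨⟩
          simp }
    exact IsTerminal.ofIso terminalIsTerminal iso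
  have hterm2 : PreservesLimitsOfShape (Discrete PEmpty.{1}) (sigmaConst.{w}.obj (⊤_ C)) :=
    preservesLimitsOfShape_pempty_of_preservesTerminal _
  -- binary products
  have hpair : ∀ I J : Type w, PreservesLimit (pair I J) (sigmaConst.{w}.obj (⊤_ C)) := by
    intro I J
    apply preservesLimit_of_preserves_limit_cone (Types.binaryProductLimit I J)
    show IsLimit ((sigmaConst.{w}.obj (⊤_ C)).mapCone
      (BinaryFan.mk (↾(Prod.fst : I × J → I)) (↾(Prod.snd : I × J → J))))
    apply (isLimitMapConeBinaryFanEquiv _ _ _).symm _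
    refine @IsLimit.ofPointIso _ _ _ _ _ _ _
      (limit.isLimit (pair ((sigmaConst.{w}.obj (⊤_ C)).obj I) ((sigmaConst.{w}.obj (⊤_ C)).obj J))) ?_
    show IsIso (prod.lift ((sigmaConst.{w}.obj (⊤_ C)).map (↾(Prod.fst : I × J → I)))
      ((sigmaConst.{w}.obj (⊤_ C)).map (↾(Prod.snd : I × J → J))))
    let α : (∐ fun _ : I × J => ⊤_ C) ⟶ ∐ fun _ : I => (∐ fun _ : J => ⊤_ C) :=
      Sigma.desc (fun p => Sigma.ι (fun _ : J => ⊤_ C) p.2 ≫
        Sigma.ι (fun _ : I => ∐ fun _ : J => ⊤_ C) p.1)
    let β : (∐ fun _ : I => (∐ fun _ : J => ⊤_ C)) ⟶ ∐ fun _ : I × J => ⊤_ C :=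
      Sigma.desc (fun i => Sigma.desc (fun j => Sigma.ι (fun _ : I × J => ⊤_ C) (i, j)))
    have hαβ : α ≫ β = 𝟙 _ := by
      apply Sigma.hom_ext
      intro p
      simp [α, β]
    have hβα : β ≫ α = 𝟙 _ := by
      apply Sigma.hom_ext
      intro i
      apply Sigma.hom_ext
      intro j
      simp [α, β]
    have hα : IsIso α := ⟨β, hαβ, hβα⟩
    have hh := h I (∐ fun _ : J => ⊤_ C)
    have hcomp : prod.lift ((sigmaConst.{w}.obj (⊤_ C)).map (↾(Prod.fst : I × J → I)))
        ((sigmaConst.{w}.obj (⊤_ C)).map (↾(Prod.snd : I × J → J))) =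
        α ≫ (Sigma.desc fun i : I =>
          prod.lift (terminal.from (∐ fun _ : J => ⊤_ C) ≫ Sigma.ι (fun _ : I => ⊤_ C) i)
            (𝟙 (∐ fun _ : J => ⊤_ C))) := by
      apply Sigma.hom_ext
      intro p
      apply prod.hom_ext
      · simp only [α, sigmaConst_obj_obj, sigmaConst_obj_map, Category.assoc, prod.lift_fst,
          Sigma.ι_comp_map', Sigma.ι_desc, Sigma.ι_desc_assoc, Category.id_comp]
        rw [← Category.assoc,
          terminal.hom_ext (Sigma.ι (fun _ : J => ⊤_ C) p.2 ≫ terminal.from _) (𝟙 _),
          Category.id_comp]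
        rfl
      · simp only [α, sigmaConst_obj_obj, sigmaConst_obj_map, Category.assoc, prod.lift_snd,
          Sigma.ι_comp_map', Sigma.ι_desc, Sigma.ι_desc_assoc, Category.id_comp, Category.comp_id]
        rfl
    rw [hcomp]
    infer_instance
  have hbin : PreservesLimitsOfShape (Discrete WalkingPair) (sigmaConst.{w}.obj (⊤_ C)) :=
    ⟨fun {K} => by
      have := hpair (K.obj ⟨WalkingPair.left⟩) (K.obj ⟨WalkingPair.right⟩)
      exact preservesLimit_of_iso_diagram _ (diagramIsoPair K).symm⟩
  exact Limits.PreservesFiniteProducts.of_preserves_binary_and_terminal _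

end Groth.Agent.S14447
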