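import Groth.Statements.S14454
import Groth.Agent.S0728
import Groth.Agent.S6658
import Groth.Agent.S0101
import Groth.Agent.Lib.Helper10.EtLoc
import Groth.Agent.Lib.Helper10.RDerComm

set_option autoImplicit false
universe u
open CategoryTheory CategoryTheory.Limits AlgebraicGeometry
open EtDual

namespace Groth.Agent.S14454

section helpers

open Groth.Agent.Helper10 Opposite EtShriek Groth.Agent.S0728

/-- G3: a section restricts to zero along `c` iff its support avoids the image of `c`. -/
lemma map_eq_zero_iff {X : Scheme.{u}} (F : EtCoh.Ab X) {W T : X.Etale} (c : W ⟶ T)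
    (s : EtCoh.sect F T) :
    F.obj.map c.op s = 0 ↔ sectSupp F T s ⊆ (Set.range c.left.base)ᶜ := by
  constructor
  · intro h x hx hxr
    obtain ⟨w, rfl⟩ := hxr
    exact hx W c ⟨w, rfl⟩ h
  · intro h
    apply eq_of_locally_eq
    intro w
    have hx : c.left w ∉ sectSupp F T s := fun hh => h hh ⟨w, rfl⟩
    obtain ⟨W', g, w', hw', h0⟩ := (not_mem_sectSupp_iff F T s _).1 hx
    obtain ⟨z, hz1, -⟩ := pb_exists c g w w' hw'.symm
    refine ⟨pb c g, pbFst c g, z, hz1, ?_⟩
    rw [map_map_apply, pb_condition, ← map_map_apply, h0, map_zero, map_zero]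

universe w v₁ u₁

/-- G0: two subfunctors of an `Ab`-valued functor with the same image are isomorphic. -/
lemma natIso_of_range_eq {C : Type u₁} [Category.{v₁} C] {P Q E : C ⥤ AddCommGrpCat.{w}}
    (α : P ⟶ E) (β : Q ⟶ E)
    (hα : ∀ F, Function.Injective (α.app F)) (hβ : ∀ F, Function.Injective (β.app F))
    (h : ∀ F, Set.range (α.app F) = Set.range (β.app F)) : Nonempty (P ≅ Q) := by
  have hr : ∀ F, (α.app F).hom.range = (β.app F).hom.range := by
    intro F
    apply SetLike.coe_injective
    exact h F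
  let e : ∀ F, P.obj F ≃+ Q.obj F := fun F =>
    (AddMonoidHom.ofInjective (hα F)).trans
      ((AddEquiv.addSubgroupCongr (hr F)).trans (AddMonoidHom.ofInjective (hβ F)).symm)
  have he : ∀ F (x : P.obj F), β.app F (e F x) = α.app F x := by
    intro F x
    have h1 : (AddMonoidHom.ofInjective (hβ F)) (e F x) =
        (AddEquiv.addSubgroupCongr (hr F)) ((AddMonoidHom.ofInjective (hα F)) x) := by
      simp [e]
    have h2 := congrArg Subtype.val h1
    exact h2
  refine ⟨NatIso.ofComponents (fun F => (e F).toAddCommGrpIso) ?_⟩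
  intro F F' φ
  ext x
  apply hβ F'
  have n1 := congrArg (fun k => k.hom (e F x)) (β.naturality φ)
  have n2 := congrArg (fun k => k.hom x) (α.naturality φ)
  simp only [AddCommGrpCat.hom_comp, AddMonoidHom.coe_comp, Function.comp_apply] at n1 n2
  change β.app F' (e F' (P.map φ x)) = β.app F' (Q.map φ (e F x))
  rw [he, n1, he, n2]

section G4

variable {Y U : Scheme.{u}} (j : U ⟶ Y) [IsOpenImmersion j]

/-- the counit at the top object: `Y ×_Y U ⟶ Y` -/
noncomputable abbrev cj : (EtLoc.phi j).obj ((EtCoh.bc j).obj (EtCoh.top Y)) ⟶ EtCoh.top Y :=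
  (EtLoc.phiAdj j).counit.app (EtCoh.top Y)

lemma range_cj : Set.range (cj j).left.base = Set.range j.base := by
  change Set.range (pullback.fst (𝟙 Y) j).base = _
  rw [Scheme.Pullback.range_fst]
  simp

/-- evaluation at the top object -/
noncomputable abbrev evTop (Y : Scheme.{u}) : EtCoh.Ab Y ⥤ AddCommGrpCat.{u + 1} :=
  sheafToPresheaf Y.smallEtaleTopology AddCommGrpCat.{u + 1} ⋙
    (evaluation Y.Etaleᵒᵖ AddCommGrpCat.{u + 1}).obj (op (EtCoh.top Y))

lemma unitApp_eq (G : EtCoh.Ab Y) :
    EtDual.unitApp j G = (EtLoc.resPushAdj j).unit.app G ≫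
      (EtCoh.push j).map ((Adjunction.leftAdjointUniq (EtCoh.pullPushAdj j)
        (EtLoc.resPushAdj j)).inv.app G) := by
  have h := Adjunction.unit_leftAdjointUniq_hom_app (EtCoh.pullPushAdj j) (EtLoc.resPushAdj j) G
  rw [← h, Category.assoc, ← Functor.map_comp, Iso.hom_inv_id_app, CategoryTheory.Functor.map_id]
  exact (Category.comp_id _).symm

lemma unitApp_top_eq_zero_iff (G : EtCoh.Ab Y) (s : G.obj.obj (op (EtCoh.top Y))) :
    (EtDual.unitApp j G).hom.app (op (EtCoh.top Y)) s = 0 ↔ G.obj.map (cj j).op s = 0 := by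
  rw [unitApp_eq]
  let m := ((EtCoh.push j).map ((Adjunction.leftAdjointUniq (EtCoh.pullPushAdj j)
        (EtLoc.resPushAdj j)).inv.app G)).hom.app (op (EtCoh.top Y))
  have hm : Function.Injective m := by
    have : IsIso m := inferInstance
    exact ((ConcreteCategory.isIso_iff_bijective m).1 this).1
  have e : (((EtLoc.resPushAdj j).unit.app G ≫
      (EtCoh.push j).map ((Adjunction.leftAdjointUniq (EtCoh.pullPushAdj j)
        (EtLoc.resPushAdj j)).inv.app G)).hom.app (op (EtCoh.top Y))) s =
      m (((EtLoc.resPushAdj j).unit.app G).hom.app (op (EtCoh.top Y)) s) := rfl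
  rw [e]
  have key : ((EtLoc.resPushAdj j).unit.app G).hom.app (op (EtCoh.top Y)) s = 0 ↔
      G.obj.map (cj j).op s = 0 := by
    rw [Groth.Agent.S6658.unit_app_app]
    exact Iff.rfl
  constructor
  · intro h
    exact key.1 (hm (by rw [h, map_zero]))
  · intro h
    rw [key.2 h, map_zero]

/-- sections of the inclusion `Γ_Z G ⟶ G` over the top object -/
noncomputable abbrev aTop (G : EtCoh.Ab Y) :
    ((EtDual.secSupp j).obj G).obj.obj (op (EtCoh.top Y)) ⟶ G.obj.obj (op (EtCoh.top Y)) :=
  (evTop Y).map ((Groth.Agent.S6658.kι j).app G)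

lemma aTop_injective (G : EtCoh.Ab Y) : Function.Injective (aTop j G) := by
  have h0 : Mono ((Groth.Agent.S6658.kι j).app G) := by
    change Mono (kernel.ι (EtDual.unitApp j G))
    infer_instance
  have h1 : Mono (aTop j G) := inferInstance
  exact (AddCommGrpCat.mono_iff_injective _).1 h1

lemma range_aTop (G : EtCoh.Ab Y) :
    Set.range (aTop j G) = {s | G.obj.map (cj j).op s = 0} := by
  ext s
  simp only [Set.mem_range, Set.mem_ofPred_eq]
  rw [← unitApp_top_eq_zero_iff]
  let S : ShortComplex (EtCoh.Ab Y) :=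
    ShortComplex.mk (kernel.ι (EtDual.unitApp j G)) (EtDual.unitApp j G) (kernel.condition _)
  have hS : S.Exact := ShortComplex.exact_kernel _
  have hm : Mono S.f := by
    change Mono (kernel.ι (EtDual.unitApp j G))
    infer_instance
  have hS' : (S.map (evTop Y)).Exact :=
    hS.map_of_mono_of_preservesKernel (evTop Y) hm inferInstance
  rw [ShortComplex.ab_exact_iff] at hS'
  constructor
  · rintro ⟨x, rfl⟩
    have h1 := (S.map (evTop Y)).zero
    have h2 := congrArg (fun k => k.hom x) h1
    exact h2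
  · intro h
    exact hS' s h

end G4

section Main

variable {X X' U U' : Scheme.{u}}
    (f : X' ⟶ X) [AlgebraicGeometry.Etale f] (j : U ⟶ X) [IsOpenImmersion j]
    (j' : U' ⟶ X') [IsOpenImmersion j']

/-- `X'` as an object of the small étale site of `X` -/
noncomputable abbrev Ut : X.Etale := (EtLoc.phi f).obj (EtCoh.top X')

/-- the structure map `X' ⟶ X` in the small étale site of `X` -/
noncomputable def tt : Ut f ⟶ EtCoh.top X :=
  MorphismProperty.Over.homMk f (by
    change f ≫ 𝟙 X = 𝟙 X' ≫ f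
    rw [Category.comp_id, Category.id_comp]) trivial

/-- evaluation at `X'` -/
noncomputable abbrev evUt : EtCoh.Ab X ⥤ AddCommGrpCat.{u + 1} :=
  sheafToPresheaf X.smallEtaleTopology AddCommGrpCat.{u + 1} ⋙
    (evaluation X.Etaleᵒᵖ AddCommGrpCat.{u + 1}).obj (op (Ut f))

/-- the map `Γ_Z(X, F) ⟶ F(X')` -/
noncomputable def alpha : EtDual.gammaSupp j ⟶ evUt f :=
  (show EtDual.gammaSupp j ⟶ 𝟭 _ ⋙ evTop X from
    Functor.whiskerRight (Groth.Agent.S6658.kι j) (evTop X)) ≫
    (Functor.leftUnitor (evTop X)).hom ≫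
    Functor.whiskerLeft (sheafToPresheaf X.smallEtaleTopology AddCommGrpCat.{u + 1})
      ((evaluation X.Etaleᵒᵖ AddCommGrpCat.{u + 1}).map (tt f).op)

lemma alpha_app (F : EtCoh.Ab X) (x : (EtDual.gammaSupp j).obj F) :
    (alpha f j).app F x = F.obj.map (tt f).op (aTop j F x) := rfl

/-- evaluation of a restricted sheaf at the top object -/
noncomputable def gammaIso : EtLoc.res f ⋙ evTop X' ≅ evUt f :=
  NatIso.ofComponents (fun F => Iso.refl _) (by
    intro F G φ
    simp
    rfl)

/-- the map `Γ_{Z'}(X', F|X') ⟶ F(X')` -/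
noncomputable def beta : EtLoc.res f ⋙ EtDual.gammaSupp j' ⟶ evUt f :=
  Functor.whiskerLeft (EtLoc.res f)
    ((show EtDual.gammaSupp j' ⟶ 𝟭 _ ⋙ evTop X' from
      Functor.whiskerRight (Groth.Agent.S6658.kι j') (evTop X')) ≫
      (Functor.leftUnitor (evTop X')).hom) ≫ (gammaIso f).hom

lemma beta_app (F : EtCoh.Ab X) (y : (EtLoc.res f ⋙ EtDual.gammaSupp j').obj F) :
    (beta f j').app F y = aTop j' ((EtLoc.res f).obj F) y := rfl

theorem main
    (hU' : Set.range j'.base = f.base ⁻¹' Set.range j.base)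
    (hZ : Set.BijOn f.base (Set.range j'.base)ᶜ (Set.range j.base)ᶜ)
    (hκ : ∀ x' : ↥X', x' ∉ Set.range j'.base → Function.Surjective (f.residueFieldMap x'))
    (F : EtCoh.Ab X) (r : ℕ) :
    Nonempty ((EtDual.HY j r).obj F ≅ (EtDual.HY j' r).obj ((EtCoh.pull f).obj F)) := by
  let Z : Set (EtCoh.top X).left := (Set.range j.base)ᶜ
  have hZc : IsClosed Z := j.isOpenEmbedding.isOpen_range.isClosed_compl
  have hpre : (tt f).left.base ⁻¹' Z = (Set.range j'.base)ᶜ := by
    change f.base ⁻¹' (Set.range j.base)ᶜ = _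
    rw [Set.preimage_compl, ← hU']
  have hbij : Set.BijOn (tt f).left.base ((tt f).left.base ⁻¹' Z) Z := by
    rw [hpre]
    exact hZ
  have hres : ∀ x ∈ (tt f).left.base ⁻¹' Z,
      Function.Bijective ((tt f).left.residueFieldMap x) := by
    intro x hx
    rw [hpre] at hx
    exact ⟨(f.residueFieldMap x).hom.injective, hκ x hx⟩
  have hB : ∀ G : EtCoh.Ab X, Set.BijOn (G.obj.map (tt f).op)
      {s | sectSupp G (EtCoh.top X) s ⊆ Z}
      {s' | sectSupp G (Ut f) s' ⊆ (tt f).left.base ⁻¹' Z} :=
    fun G => Groth.Agent.S0728.main G (tt f) Z hZc hbij hres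
  have hrA : ∀ G : EtCoh.Ab X,
      Set.range (aTop j G) = {s | sectSupp G (EtCoh.top X) s ⊆ Z} := by
    intro G
    rw [range_aTop]
    ext s
    simp only [Set.mem_ofPred_eq]
    rw [map_eq_zero_iff, range_cj]
    exact Iff.rfl
  have hrB : ∀ G : EtCoh.Ab X, Set.range (aTop j' ((EtLoc.res f).obj G)) =
      {s' | sectSupp G (Ut f) s' ⊆ (tt f).left.base ⁻¹' Z} := by
    intro G
    rw [range_aTop]
    ext s'
    change G.obj.map ((EtLoc.phi f).map (cj j')).op s' = 0 ↔ _
    rw [map_eq_zero_iff, hpre]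
    have h1 : Set.range ((EtLoc.phi f).map (cj j')).left.base = Set.range j'.base :=
      range_cj j'
    rw [h1]
    rfl
  obtain ⟨e⟩ := natIso_of_range_eq (alpha f j) (beta f j')
    (by
      intro G x y hxy
      rw [alpha_app, alpha_app] at hxy
      apply aTop_injective j G
      refine (hB G).injOn ?_ ?_ hxy
      · rw [← hrA G]
        exact ⟨x, rfl⟩
      · rw [← hrA G]
        exact ⟨y, rfl⟩)
    (by
      intro G x y hxy
      rw [beta_app, beta_app] at hxy
      exact aTop_injective j' _ hxy)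
    (by
      intro G
      have h1 : Set.range ((alpha f j).app G) = (G.obj.map (tt f).op) '' Set.range (aTop j G) := by
        ext s'
        constructor
        · rintro ⟨x, rfl⟩
          exact ⟨aTop j G x, ⟨x, rfl⟩, rfl⟩
        · rintro ⟨_, ⟨x, rfl⟩, rfl⟩
          exact ⟨x, rfl⟩
      have h2 : Set.range ((beta f j').app G) = Set.range (aTop j' ((EtLoc.res f).obj G)) := rfl
      rw [h1, h2, hrA, hrB]
      exact (hB G).image_eq)
  have hpull : PreservesFiniteLimits (EtCoh.pull f) := Groth.Agent.S0101.result f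
  have hpullc : PreservesFiniteColimits (EtCoh.pull f) := by
    have : PreservesColimitsOfSize.{0, 0} (EtCoh.pull f) :=
      (EtCoh.pullPushAdj f).leftAdjoint_preservesColimits
    exact PreservesColimitsOfSize.preservesFiniteColimits _
  have hadd : (EtCoh.pull f).Additive := (EtCoh.pullPushAdj f).left_adjoint_additive
  let e' : EtDual.gammaSupp j ⋙ 𝟭 _ ≅ EtCoh.pull f ⋙ EtDual.gammaSupp j' :=
    Functor.rightUnitor _ ≪≫ e ≪≫
      (Functor.isoWhiskerRight (EtLoc.pullIsoRes f) (EtDual.gammaSupp j')).symm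
  obtain ⟨e''⟩ := RDerComm.rightDerived_comm (EtDual.gammaSupp j) (EtDual.gammaSupp j')
    (𝟭 _) (EtCoh.pull f) (fun I hI => EtLoc.injective_pull f I) e' F r
  exact ⟨e''⟩

end Main

end helpers

/-- Let X be a scheme, j : U ⟶ X an open immersion with closed complement Z, f : X' ⟶ X an étale
morphism and j' : U' ⟶ X' an open immersion with image f⁻¹(U), such that f maps Z' = X' − U'
bijectively onto Z with trivial residue field extensions at the points of Z' (f restricts to an
isomorphism from (f⁻¹Z)_red onto Z_red). Then for every abelian sheaf F on the small étale site of X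
and every r, the groups H^r_Z(X, F) and H^r_{Z'}(X', f⁻¹F) are isomorphic; existence of an
isomorphism only, the canonical one being restriction along f. No Noetherian hypothesis on X is
made. -/
theorem result {X X' U U' : Scheme.{u}}
    (f : X' ⟶ X) [AlgebraicGeometry.Etale f] (j : U ⟶ X) [IsOpenImmersion j]
    (j' : U' ⟶ X') [IsOpenImmersion j']
    (hU' : Set.range j'.base = f.base ⁻¹' Set.range j.base)
    (hZ : Set.BijOn f.base (Set.range j'.base)ᶜ (Set.range j.base)ᶜ)
    (hκ : ∀ x' : ↥X', x' ∉ Set.range j'.base → Function.Surjective (f.residueFieldMap x'))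
    (F : EtCoh.Ab X) (r : ℕ) :
    Nonempty ((EtDual.HY j r).obj F ≅ (EtDual.HY j' r).obj ((EtCoh.pull f).obj F)) := by
  exact main f j j' hU' hZ hκ F r

end Groth.Agent.S14454
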