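import Groth.Statements.S14456
import Mathlib

set_option autoImplicit false
universe u
open CAlg

namespace Groth.Agent.S14456

/-- Take a local homomorphism A → B between Noetherian local rings, M a finitely generated B-module and
f an element of the maximal ideal of B. If M/f^(n+1)M is flat over A for every n ≥ 0, then M is flat
over A. -/
theorem result {A B : Type u} [CommRing A] [CommRing B]
    [IsNoetherianRing A] [IsNoetherianRing B] [IsLocalRing A] [IsLocalRing B] [Algebra A B]
    [IsLocalHom (algebraMap A B)] (M : Type u) [AddCommGroup M] [Module B M] [Module A M]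
    [IsScalarTower A B M] [Module.Finite B M] (f : B) (hf : f ∈ IsLocalRing.maximalIdeal B)
    (hflat : ∀ n : ℕ, Module.Flat A (M ⧸ (Ideal.span {f ^ (n + 1)} • (⊤ : Submodule B M)))) :
    Module.Flat A M := by
  classical
  rw [Module.Flat.iff_lTensor_injective']
  intro 𝔞
  rw [injective_iff_map_eq_zero]
  intro x hx
  have hfin : Module.Finite B (TensorProduct A M 𝔞) :=
    Module.Finite.equiv (TensorProduct.AlgebraTensorModule.cancelBaseChange A B B M 𝔞)
  have hjac : Ideal.span {f} ≤ Ideal.jacobson (⊥ : Ideal B) := by
    rw [IsLocalRing.jacobson_eq_maximalIdeal ⊥ bot_ne_top]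
    exact (Ideal.span_singleton_le_iff_mem _).mpr hf
  have hkrull := Ideal.iInf_pow_smul_eq_bot_of_le_jacobson (R := B) (M := TensorProduct A M 𝔞)
    (Ideal.span {f}) hjac
  have hmem : x ∈ (⨅ i : ℕ, (Ideal.span {f}) ^ i • ⊤ : Submodule B (TensorProduct A M 𝔞)) := by
    rw [Submodule.mem_iInf]
    intro n
    cases n with
    | zero =>
      rw [pow_zero, Ideal.one_eq_top, Submodule.top_smul]
      exact Submodule.mem_top
    | succ k =>
      have hQ := hflat k
      set N : Submodule B M := Ideal.span {f ^ (k + 1)} • (⊤ : Submodule B M) with hN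
      let π : M →ₗ[A] (M ⧸ N) := (Submodule.mkQ N).restrictScalars A
      let ι : (N.restrictScalars A) →ₗ[A] M := (N.restrictScalars A).subtype
      have hπsurj : Function.Surjective π := Submodule.mkQ_surjective N
      have hex : Function.Exact ι π := by
        intro m
        show Submodule.mkQ N m = 0 ↔ _
        rw [Submodule.mkQ_apply, Submodule.Quotient.mk_eq_zero]
        constructor
        · intro hm
          exact ⟨⟨m, hm⟩, rfl⟩
        · rintro ⟨⟨m', hm'⟩, rfl⟩
          exact hm'
      have hsq : (𝔞.subtype.lTensor (M ⧸ N)) ((π.rTensor 𝔞) x) = 0 := by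
        have h1 : (𝔞.subtype.lTensor (M ⧸ N)) ∘ₗ (π.rTensor 𝔞) =
            (π.rTensor A) ∘ₗ (𝔞.subtype.lTensor M) := by
          rw [LinearMap.lTensor_comp_rTensor, LinearMap.rTensor_comp_lTensor]
        have h2 := LinearMap.congr_fun h1 x
        rw [LinearMap.comp_apply, LinearMap.comp_apply, hx, map_zero] at h2
        exact h2
      have hinj := Module.Flat.lTensor_preserves_injective_linearMap (M := M ⧸ N) 𝔞.subtype
        Subtype.val_injective
      have hzero : (π.rTensor 𝔞) x = 0 := hinj (by rw [hsq, map_zero])
      have hex2 := rTensor_exact 𝔞 hex hπsurj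
      obtain ⟨y, hy⟩ := (hex2 x).mp hzero
      rw [← hy]
      have hall : ∀ y : TensorProduct A (N.restrictScalars A) 𝔞,
          (ι.rTensor 𝔞) y ∈ ((Ideal.span {f}) ^ (k + 1) • ⊤ :
            Submodule B (TensorProduct A M 𝔞)) := by
        intro y
        induction y using TensorProduct.induction_on with
        | zero => rw [map_zero]; exact Submodule.zero_mem _
        | tmul n' a =>
          rw [LinearMap.rTensor_tmul]
          have hn' : (n' : M) ∈ (Ideal.span {f ^ (k + 1)} • (⊤ : Submodule B M)) := n'.2
          rw [Submodule.ideal_span_singleton_smul,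
            Submodule.mem_smul_pointwise_iff_exists] at hn'
          obtain ⟨m', -, hm'⟩ := hn'
          have : ι n' = f ^ (k + 1) • m' := hm'.symm
          rw [this, ← TensorProduct.smul_tmul']
          exact Submodule.smul_mem_smul
            (Ideal.pow_mem_pow (Ideal.mem_span_singleton_self f) (k + 1)) Submodule.mem_top
        | add y₁ y₂ h₁ h₂ =>
          rw [map_add]
          exact Submodule.add_mem _ h₁ h₂
      exact hall y
  rw [hkrull] at hmem
  exact (Submodule.mem_bot B).mp hmem

end Groth.Agent.S14456
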