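import Groth.Statements.S14457
import Groth.Agent.Lib.Helper21.AdjoinRootEtale

set_option autoImplicit false
universe u
open CAlg

namespace Groth.Agent.S14457

open Polynomial in
/-- Let A be a commutative ring, a an element of A and n ≥ 1 an integer. The A-algebra A[T]/(T^n − a) is
etale exactly when either n = 1 or the product n·a is a unit of A. (The exponent n is a positive
integer here; for n = 0 the quotient is (A/(1 − a))[T] and the equivalence fails.) -/
theorem result (A : Type u) [CommRing A] (a : A) (n : ℕ) (hn : 1 ≤ n) :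
    Algebra.Etale A (AdjoinRoot ((X : A[X]) ^ n - C a)) ↔ n = 1 ∨ IsUnit ((n : A) * a) := by
  classical
  by_cases hA : Subsingleton A
  · constructor
    · intro _
      exact Or.inr (isUnit_of_subsingleton _)
    · intro _
      have : Subsingleton (AdjoinRoot ((X : A[X]) ^ n - C a)) := by
        refine ⟨fun x y => ?_⟩
        rw [← one_mul x, ← one_mul y, ← map_one (algebraMap A _), Subsingleton.elim (1 : A) 0,
          map_zero, zero_mul, zero_mul]
      exact Algebra.Etale.of_equiv
        (AlgEquiv.ofBijective (Algebra.ofId A (AdjoinRoot ((X : A[X]) ^ n - C a)))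
          ⟨fun x y _ => Subsingleton.elim x y, fun y => ⟨0, Subsingleton.elim _ _⟩⟩)
  rw [not_subsingleton_iff_nontrivial] at hA
  have hn0 : n ≠ 0 := by omega
  have hmonic : ((X : A[X]) ^ n - C a).Monic := Polynomial.monic_X_pow_sub_C a hn0
  have hdeg : ((X : A[X]) ^ n - C a).natDegree = n := Polynomial.natDegree_X_pow_sub_C
  rw [Groth.Agent.Helper21.ARE.etale_iff_isUnit _ hmonic]
  set f : A[X] := (X : A[X]) ^ n - C a with hf
  have hder : AdjoinRoot.mk f (derivative f)
      = algebraMap A (AdjoinRoot f) (n : A) * (AdjoinRoot.root f) ^ (n - 1) := by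
    rw [hf, derivative_sub, derivative_C, sub_zero, derivative_X_pow, map_mul, map_pow,
      AdjoinRoot.mk_X, AdjoinRoot.mk_C, AdjoinRoot.algebraMap_eq]
  have hroot : (AdjoinRoot.root f) ^ n = algebraMap A (AdjoinRoot f) a := by
    have h1 : AdjoinRoot.mk f f = 0 := AdjoinRoot.mk_self
    rw [AdjoinRoot.algebraMap_eq]
    conv at h1 => 
      arg 1
      arg 2
      rw [hf]
    rw [map_sub, map_pow, AdjoinRoot.mk_X, AdjoinRoot.mk_C, sub_eq_zero] at h1
    exact h1
  have hprod : algebraMap A (AdjoinRoot f) ((n : A) * a)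
      = AdjoinRoot.mk f (derivative f) * AdjoinRoot.root f := by
    rw [hder, mul_assoc, ← pow_succ, Nat.sub_add_cancel hn, hroot, map_mul]
  constructor
  · intro h
    by_cases h1 : n = 1
    · exact Or.inl h1
    right
    have hn2 : n - 1 ≠ 0 := by omega
    rw [hder, IsUnit.mul_iff, isUnit_pow_iff hn2] at h
    apply Groth.Agent.Helper21.ARE.isUnit_of_isUnit_algebraMap f hmonic (by rw [hdeg]; exact hn0)
    rw [map_mul, ← hroot]
    exact h.1.mul (h.2.pow n)
  · rintro (h1 | h1)
    · rw [hder]
      subst h1
      simp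
    · have h2 := h1.map (algebraMap A (AdjoinRoot f))
      rw [hprod] at h2
      exact (IsUnit.mul_iff.mp h2).1

end Groth.Agent.S14457
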