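import Groth.Statements.S14458
import Mathlib.RingTheory.Artinian.Ring
import Mathlib.LinearAlgebra.TensorProduct.Quotient
import Mathlib.RingTheory.Jacobson.Ideal
import Mathlib.RingTheory.LocalRing.Basic

set_option autoImplicit false
universe u
open CAlg

namespace Groth.Agent.S14458

open TensorProduct in
/-- Let R be an Artinian local ring with residue field k and M an R-module, not necessarily finitely
generated. If M ⊗_R k = 0 then M = 0. -/
theorem result {R : Type u} [CommRing R]
    [IsArtinianRing R] [IsLocalRing R] (M : Type u) [AddCommGroup M] [Module R M]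
    (h : Subsingleton ((IsLocalRing.ResidueField R) ⊗[R] M)) : Subsingleton M := by
  have e := TensorProduct.quotTensorEquivQuotSMul M (IsLocalRing.maximalIdeal R)
  have h' : Subsingleton ((R ⧸ IsLocalRing.maximalIdeal R) ⊗[R] M) := h
  have h2 : Subsingleton (M ⧸ (IsLocalRing.maximalIdeal R • (⊤ : Submodule R M))) :=
    e.symm.toEquiv.subsingleton
  have h3 : IsLocalRing.maximalIdeal R • (⊤ : Submodule R M) = ⊤ :=
    Submodule.Quotient.subsingleton_iff.mp h2
  have h4 : ∀ k : ℕ, (IsLocalRing.maximalIdeal R) ^ k • (⊤ : Submodule R M) = ⊤ := by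
    intro k
    induction k with
    | zero => simp
    | succ k ih => rw [pow_succ, Submodule.mul_smul, h3, ih]
  obtain ⟨n, hn⟩ := IsArtinianRing.isNilpotent_jacobson_bot (R := R)
  rw [IsLocalRing.jacobson_eq_maximalIdeal ⊥ bot_ne_top] at hn
  have h5 := h4 n
  rw [hn] at h5
  have h6 : (⊥ : Submodule R M) = ⊤ := by
    rw [← h5]; simp
  exact (Submodule.subsingleton_iff R).mp (subsingleton_of_bot_eq_top h6)

end Groth.Agent.S14458
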