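import Groth.Statements.S14460
import Mathlib
import Groth.Agent.S0294

set_option autoImplicit false
universe u
open CategoryTheory CategoryTheory.Limits AlgebraicGeometry
open Pi1

namespace Groth.Agent.S14460

/-- Let Y → X be finite étale with Y nonempty and all geometric fibres of the same cardinality n, and
let a finite group G act on Y over X without fixed points (no point of Y with values in a field is
fixed by a non-identity element). Then G has at most n elements, and it has exactly n elements if
and only if the morphism from the disjoint union of copies of Y indexed by G to Y ×_X Y, given on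
the copy indexed by g by the identity and g, is an isomorphism. (For Y empty the bound fails, since
every finite group acts without fixed points on the empty cover, whose fibres have cardinality 0;
this row assumes Y nonempty.) -/
theorem result {X : Scheme.{u}} (Y : FEt.Cat X)
    [Nonempty ↥Y.left] (n : ℕ)
    (hn : ∀ (Ω : Type u) [Field Ω] [IsSepClosed Ω] (ξ : Spec (CommRingCat.of Ω) ⟶ X), Nat.card (FEt.fiberObj ξ Y) = n)
    (G : Type u) [Group G] [Finite G] (ρ : G →* Aut Y)
    (hfree : ∀ g : G, g ≠ 1 → ∀ (K : Type u) [Field K] (y : Spec (CommRingCat.of K) ⟶ Y.left),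
      y ≫ (ρ g).hom.left ≠ y) :
    Nat.card G ≤ n ∧
      (Nat.card G = n ↔ IsIso (Limits.Sigma.desc fun g : G =>
        pullback.lift (𝟙 Y.left) (ρ g).hom.left
          ((Category.id_comp Y.hom).trans (Over.w (ρ g).hom.hom).symm) : (∐ fun _ : G => Y.left) ⟶ pullback Y.hom Y.hom)) := by
  classical
  haveI hYet : Etale Y.hom := Y.prop.2
  haveI hYfin : IsFinite Y.hom := Y.prop.1
  have hw : ∀ g : G, (ρ g).hom.left ≫ Y.hom = Y.hom := fun g => Over.w (ρ g).hom.hom
  have h1 : (ρ 1).hom.left = 𝟙 Y.left := by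
    rw [map_one]; rfl
  have hmul : ∀ g h : G, (ρ (g * h)).hom.left = (ρ h).hom.left ≫ (ρ g).hom.left := by
    intro g h; rw [map_mul]; rfl
  -- freeness gives injectivity of orbit maps
  have hA : ∀ (K : Type u) [Field K] (y : Spec (CommRingCat.of K) ⟶ Y.left) (g h : G),
      y ≫ (ρ g).hom.left = y ≫ (ρ h).hom.left → g = h := by
    intro K _ y g h hgh
    by_contra hne
    have hk : h⁻¹ * g ≠ 1 := by
      intro h0
      apply hne
      rw [inv_mul_eq_one] at h0
      exact h0.symm
    apply hfree (h⁻¹ * g) hk K y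
    rw [hmul, ← Category.assoc, hgh, Category.assoc, ← hmul, inv_mul_cancel, h1, Category.comp_id]
  have geom : ∀ (W : Scheme.{u}) (w : W), ∃ (K : Type u) (_ : Field K) (_ : IsAlgClosed K)
      (ζ : Spec (CommRingCat.of K) ⟶ W) (s : Spec (CommRingCat.of K)), ζ s = w := by
    intro W w
    refine ⟨AlgebraicClosure (W.residueField w), inferInstance, inferInstance,
      Spec.map (CommRingCat.ofHom (algebraMap (W.residueField w)
        (AlgebraicClosure (W.residueField w)))) ≫ W.fromSpecResidueField w, ?_⟩
    obtain ⟨s⟩ : Nonempty (Spec (CommRingCat.of (AlgebraicClosure (W.residueField w)))) :=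
      inferInstance
    refine ⟨s, ?_⟩
    rw [Scheme.Hom.comp_apply, Scheme.fromSpecResidueField_apply]
  have horb_inj : ∀ (K : Type u) [Field K] (y : Spec (CommRingCat.of K) ⟶ Y.left),
      Function.Injective (fun g : G => (⟨y ≫ (ρ g).hom.left, by rw [Category.assoc, hw]⟩ :
        FEt.fiberObj (y ≫ Y.hom) Y)) := by
    intro K _ y g h hgh
    exact hA K y g h (congrArg Subtype.val hgh)
  have hL1 : ∀ g : G, pullback.lift (𝟙 Y.left) (ρ g).hom.left
      ((Category.id_comp Y.hom).trans (Over.w (ρ g).hom.hom).symm) ≫ pullback.fst Y.hom Y.hom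
        = 𝟙 Y.left := fun g => pullback.lift_fst _ _ _
  have hL2 : ∀ g : G, pullback.lift (𝟙 Y.left) (ρ g).hom.left
      ((Category.id_comp Y.hom).trans (Over.w (ρ g).hom.hom).symm) ≫ pullback.snd Y.hom Y.hom
        = (ρ g).hom.left := fun g => pullback.lift_snd _ _ _
  refine ⟨?_, ?_, ?_⟩
  · -- card G ≤ n
    obtain ⟨y0⟩ := ‹Nonempty ↥Y.left›
    obtain ⟨Ω, _, _, yb, s, hs⟩ := geom Y.left y0
    haveI := Groth.Agent.S0294.result (yb ≫ Y.hom) Y
    have h : Nat.card G ≤ Nat.card (FEt.fiberObj (yb ≫ Y.hom) Y) :=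
      Nat.card_le_card_of_injective _ (horb_inj Ω yb)
    rw [hn Ω (yb ≫ Y.hom)] at h
    exact h
  · -- card G = n → iso
    intro hG
    haveI hLopen : ∀ g : G, IsOpenImmersion (pullback.lift (𝟙 Y.left) (ρ g).hom.left
        ((Category.id_comp Y.hom).trans (Over.w (ρ g).hom.hom).symm)) := by
      intro g
      haveI : Mono (pullback.lift (𝟙 Y.left) (ρ g).hom.left
        ((Category.id_comp Y.hom).trans (Over.w (ρ g).hom.hom).symm)) :=
        mono_of_mono_fac (hL1 g)
      haveI : Etale (pullback.lift (𝟙 Y.left) (ρ g).hom.left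
          ((Category.id_comp Y.hom).trans (Over.w (ρ g).hom.hom).symm) ≫
            pullback.fst Y.hom Y.hom) := by
        rw [hL1 g]; infer_instance
      haveI : Etale (pullback.lift (𝟙 Y.left) (ρ g).hom.left
          ((Category.id_comp Y.hom).trans (Over.w (ρ g).hom.hom).symm)) :=
        Etale.of_comp _ (pullback.fst Y.hom Y.hom)
      exact IsOpenImmersion.of_flat_of_mono _
    have hdisj : Pairwise (Function.onFun Disjoint (fun g : G => Set.range
        (pullback.lift (𝟙 Y.left) (ρ g).hom.left
          ((Category.id_comp Y.hom).trans (Over.w (ρ g).hom.hom).symm)))) := by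
      intro g h hgh
      show Disjoint (Set.range _) (Set.range _)
      rw [← Scheme.isEmpty_pullback_iff]
      by_contra hne
      rw [not_isEmpty_iff] at hne
      obtain ⟨w⟩ := hne
      obtain ⟨K, _, _, ζ, -, -⟩ := geom _ w
      apply hgh
      have hc := pullback.condition
        (f := pullback.lift (𝟙 Y.left) (ρ g).hom.left
          ((Category.id_comp Y.hom).trans (Over.w (ρ g).hom.hom).symm))
        (g := pullback.lift (𝟙 Y.left) (ρ h).hom.left
          ((Category.id_comp Y.hom).trans (Over.w (ρ h).hom.hom).symm))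
      have hc1 := congrArg (· ≫ pullback.fst Y.hom Y.hom) hc
      have hc2 := congrArg (· ≫ pullback.snd Y.hom Y.hom) hc
      simp only [Category.assoc] at hc1 hc2
      rw [hL1 g, hL1 h, Category.comp_id, Category.comp_id] at hc1
      rw [hL2 g, hL2 h, ← hc1] at hc2
      apply hA K (ζ ≫ pullback.fst _ _) g h
      rw [Category.assoc, Category.assoc, hc2]
    haveI hopen : IsOpenImmersion (Limits.Sigma.desc fun g : G =>
        pullback.lift (𝟙 Y.left) (ρ g).hom.left
          ((Category.id_comp Y.hom).trans (Over.w (ρ g).hom.hom).symm)) :=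
      isOpenImmersion_sigmaDesc _ _ hdisj
    have hsurj : Surjective (Limits.Sigma.desc fun g : G =>
        pullback.lift (𝟙 Y.left) (ρ g).hom.left
          ((Category.id_comp Y.hom).trans (Over.w (ρ g).hom.hom).symm)) := by
      refine ⟨fun p => ?_⟩
      obtain ⟨Ω, _, _, ζ, s, hs⟩ := geom _ p
      haveI := Groth.Agent.S0294.result ((ζ ≫ pullback.fst Y.hom Y.hom) ≫ Y.hom) Y
      have hbij := Function.Injective.bijective_of_nat_card_le
        (β := FEt.fiberObj ((ζ ≫ pullback.fst Y.hom Y.hom) ≫ Y.hom) Y)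
        (horb_inj Ω (ζ ≫ pullback.fst Y.hom Y.hom)) (by rw [hn Ω _, hG])
      obtain ⟨g, hg⟩ := hbij.2 ⟨ζ ≫ pullback.snd Y.hom Y.hom, by
        rw [Category.assoc, Category.assoc, pullback.condition]⟩
      have hg' : (ζ ≫ pullback.fst Y.hom Y.hom) ≫ (ρ g).hom.left = ζ ≫ pullback.snd Y.hom Y.hom :=
        congrArg Subtype.val hg
      have hζ : ζ = ((ζ ≫ pullback.fst Y.hom Y.hom) ≫ Sigma.ι (fun _ : G => Y.left) g) ≫
          (Limits.Sigma.desc fun g : G =>
            pullback.lift (𝟙 Y.left) (ρ g).hom.left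
              ((Category.id_comp Y.hom).trans (Over.w (ρ g).hom.hom).symm)) := by
        rw [Category.assoc, Sigma.ι_desc]
        apply pullback.hom_ext
        · rw [Category.assoc, hL1 g]; exact (Category.comp_id _).symm
        · rw [Category.assoc, hL2 g]; exact hg'.symm
      refine ⟨((ζ ≫ pullback.fst Y.hom Y.hom) ≫ Sigma.ι (fun _ : G => Y.left) g) s, ?_⟩
      rw [← Scheme.Hom.comp_apply, ← hζ, hs]
    exact (isIso_iff_isOpenImmersion_and_surjective _).mpr ⟨hopen, hsurj⟩
  · -- iso → card G = n
    intro hiso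
    obtain ⟨y0⟩ := ‹Nonempty ↥Y.left›
    obtain ⟨Ω, _, _, yb, s, hs⟩ := geom Y.left y0
    haveI := Groth.Agent.S0294.result (yb ≫ Y.hom) Y
    have hsurj : Function.Surjective (fun g : G =>
        (⟨yb ≫ (ρ g).hom.left, by rw [Category.assoc, hw]⟩ : FEt.fiberObj (yb ≫ Y.hom) Y)) := by
      intro z
      have hz : z.1 ≫ Y.hom = yb ≫ Y.hom := z.2
      obtain ⟨⟨g, y'⟩, hy'⟩ := (sigmaMk (fun _ : G => Y.left)).surjective
        ((pullback.lift yb z.1 hz.symm ≫ inv (Limits.Sigma.desc fun g : G =>
          pullback.lift (𝟙 Y.left) (ρ g).hom.left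
            ((Category.id_comp Y.hom).trans (Over.w (ρ g).hom.hom).symm))) s)
      rw [sigmaMk_mk] at hy'
      have hsub : Set.range (pullback.lift yb z.1 hz.symm ≫ inv (Limits.Sigma.desc fun g : G =>
          pullback.lift (𝟙 Y.left) (ρ g).hom.left
            ((Category.id_comp Y.hom).trans (Over.w (ρ g).hom.hom).symm))) ⊆
          Set.range (Sigma.ι (fun _ : G => Y.left) g) := by
        rintro _ ⟨t, rfl⟩
        have hts : t = s := Subsingleton.elim _ _
        rw [hts]
        exact ⟨y', hy'⟩
      have hfac := IsOpenImmersion.lift_fac (Sigma.ι (fun _ : G => Y.left) g) _ hsub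
      have hfac2 := congrArg (· ≫ (Limits.Sigma.desc fun g : G =>
          pullback.lift (𝟙 Y.left) (ρ g).hom.left
            ((Category.id_comp Y.hom).trans (Over.w (ρ g).hom.hom).symm))) hfac
      simp only [Category.assoc, IsIso.inv_hom_id, Category.comp_id, Sigma.ι_desc] at hfac2
      have e1 := congrArg (· ≫ pullback.fst Y.hom Y.hom) hfac2
      have e2 := congrArg (· ≫ pullback.snd Y.hom Y.hom) hfac2
      simp only [Category.assoc] at e1 e2
      rw [hL1 g, Category.comp_id, pullback.lift_fst] at e1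
      rw [hL2 g, pullback.lift_snd, e1] at e2
      exact ⟨g, Subtype.ext e2⟩
    have h : Nat.card G = Nat.card (FEt.fiberObj (yb ≫ Y.hom) Y) :=
      Nat.card_eq_of_bijective _ ⟨horb_inj Ω yb, hsurj⟩
    rw [hn Ω (yb ≫ Y.hom)] at h
    exact h

end Groth.Agent.S14460
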