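import Groth.Statements.S14461
import Groth.Agent.Lib.Helper23.FEtFull
import Groth.Agent.Lib.Helper23.FEtComp

set_option autoImplicit false
universe u
open CategoryTheory CategoryTheory.Limits AlgebraicGeometry
open Pi1

namespace Groth.Agent.S14461

open Groth.Agent.Helper23.FEtFull in
theorem aux_full {X X₀ : Scheme.{u}} [IsNoetherian X]
    (i : X₀ ⟶ X)
    (h : ∀ Y : FEt.Cat X, Function.Bijective (pullback.fst Y.hom i).continuous.connectedComponentsMap)
    (A B : FEt.Cat X) (φ : (FEt.restrict i).obj A ⟶ (FEt.restrict i).obj B) :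
    ∃ ψ : A ⟶ B, (FEt.restrict i).map ψ = φ := by
  haveI : IsFinite A.hom := A.prop.1
  haveI : Etale A.hom := A.prop.2
  haveI : IsFinite B.hom := B.prop.1
  haveI : Etale B.hom := B.prop.2
  have hφ : φ.left ≫ pullback.snd B.hom i = pullback.snd A.hom i := Over.w φ.hom
  have hC : ∀ Z : Set ↥(pullback (cc A.hom B.hom) i), IsClopen Z →
      ∃ W : Set ↥(pullback A.hom B.hom), IsClopen W ∧
        (pullback.fst (cc A.hom B.hom) i).base ⁻¹' W = Z := by
    intro Z hZ
    let YP : FEt.Cat X := MorphismProperty.Over.mk ⊤ (cc A.hom B.hom)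
      ⟨inferInstance, inferInstance⟩
    have hbij := h YP
    haveI : IsLocallyNoetherian (pullback A.hom B.hom) :=
      @LocallyOfFiniteType.isLocallyNoetherian (pullback A.hom B.hom) X (cc A.hom B.hom)
        inferInstance inferInstance
    haveI : CompactSpace ↥(pullback A.hom B.hom) :=
      @QuasiCompact.compactSpace_of_compactSpace (pullback A.hom B.hom) X (cc A.hom B.hom)
        inferInstance inferInstance
    haveI : IsNoetherian (pullback A.hom B.hom) := {}
    set q := pullback.fst (cc A.hom B.hom) i with hq
    refine ⟨(↑) ⁻¹' (q.continuous.connectedComponentsMap '' ((↑) '' Z)),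
      isClopen_preimage_mk _ _, ?_⟩
    ext y
    constructor
    · rintro ⟨_, ⟨z, hz, rfl⟩, hzy⟩
      have hzy' : (ConnectedComponents.mk z : _root_.ConnectedComponents _) =
          ConnectedComponents.mk y := by
        refine hbij.1 ?_
        simp only [Continuous.connectedComponentsMap_mk] at hzy ⊢
        exact hzy
      have : y ∈ connectedComponent z := by
        rw [ConnectedComponents.coe_eq_coe'] at hzy'
        exact connectedComponent_eq hzy' ▸ mem_connectedComponent
      exact hZ.connectedComponent_subset hz this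
    · intro hy
      exact ⟨_, ⟨y, hy, rfl⟩, rfl⟩
  have hE : ∀ d : ↥A.left → ℕ, IsLocallyConstant d →
      (∀ z : ↥(pullback A.hom i), d ((pullback.fst A.hom i).base z) = 1) → ∀ x, d x = 1 := by
    intro d hd hd1 x
    obtain ⟨c₀, hc₀⟩ := (h A).2 (ConnectedComponents.mk x)
    obtain ⟨z, rfl⟩ := ConnectedComponents.surjective_coe c₀
    have hx : (ConnectedComponents.mk ((pullback.fst A.hom i).base z) :
        _root_.ConnectedComponents ↥A.left) = ConnectedComponents.mk x :=
      (Continuous.connectedComponentsMap_mk _ z).symm.trans hc₀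
    rw [ConnectedComponents.coe_eq_coe'] at hx
    rw [← hd1 z]
    exact hd.apply_eq_of_isPreconnected isPreconnected_connectedComponent
      mem_connectedComponent hx
  obtain ⟨ψ, hψ1, hψ2⟩ := exists_descent_of_clopen i A.hom B.hom φ.left hφ hC hE
  refine ⟨MorphismProperty.Over.homMk ψ hψ1, ?_⟩
  ext
  simp only [FEt.restrict, MorphismProperty.Over.pullback, MorphismProperty.Over.homMk_hom,
    Over.homMk_left]
  apply pullback.hom_ext
  · rw [pullback.lift_fst]
    exact hψ2
  · rw [pullback.lift_snd]
    exact hφ.symm

/-- Let X be a Noetherian scheme and X₀ → X a closed immersion such that, for every finite étale Y → X,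
the projection Y ×_X X₀ → Y induces a bijection on connected components. Then restriction of finite
étale covers from X to X₀ is full and faithful. -/
theorem result {X X₀ : Scheme.{u}} [IsNoetherian X]
    (i : X₀ ⟶ X) [IsClosedImmersion i]
    (h : ∀ Y : FEt.Cat X, Function.Bijective (pullback.fst Y.hom i).continuous.connectedComponentsMap) :
    (FEt.restrict i).Full ∧ (FEt.restrict i).Faithful := by
  refine ⟨⟨fun {A B} φ => aux_full i h A B φ⟩, ⟨fun {A B} a b hab => ?_⟩⟩
  haveI : IsFinite A.hom := A.prop.1
  haveI : Etale A.hom := A.prop.2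
  haveI : IsFinite B.hom := B.prop.1
  haveI : Etale B.hom := B.prop.2
  have hmeet : ∀ x : X, (connectedComponent x ∩ Set.range i.base).Nonempty := by
    intro x
    let Y1 : FEt.Cat X := MorphismProperty.Over.mk ⊤ (𝟙 X) ⟨inferInstance, inferInstance⟩
    obtain ⟨c₀, hc₀⟩ := (h Y1).2 (ConnectedComponents.mk x)
    obtain ⟨z, rfl⟩ := ConnectedComponents.surjective_coe c₀
    have hx : (ConnectedComponents.mk ((pullback.fst (𝟙 X) i).base z) :
        _root_.ConnectedComponents ↥X) = ConnectedComponents.mk x :=
      (Continuous.connectedComponentsMap_mk _ z).symm.trans hc₀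
    rw [ConnectedComponents.coe_eq_coe'] at hx
    refine ⟨(pullback.fst (𝟙 X) i).base z, ?_, ⟨(pullback.snd (𝟙 X) i).base z, ?_⟩⟩
    · exact hx
    · have := congrArg (fun m => m.base z) (pullback.condition (f := 𝟙 X) (g := i))
      simpa using this.symm
  have key := Groth.Agent.Helper23.FEtComp.eq_of_pullback_fst_comp_eq i hmeet A.toComma B.toComma
    a.hom b.hom ?_
  · ext
    exact congrArg CommaMorphism.left key
  · have := congrArg (fun φ => φ.left ≫ CategoryTheory.Limits.pullback.fst B.hom i) hab
    simp only [FEt.restrict, MorphismProperty.Over.pullback, MorphismProperty.Over.homMk_hom,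
      Over.homMk_left] at this
    rw [CategoryTheory.Limits.pullback.lift_fst, CategoryTheory.Limits.pullback.lift_fst] at this
    exact this

end Groth.Agent.S14461
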