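import Groth.Statements.S14478
import Mathlib
-- import your own Groth.Agent.* helpers here

set_option autoImplicit false
universe u
open CharCyc

namespace Groth.Agent.S14478

section
open Module Submodule

theorem isCompl_aux {K E : Type*} [Field K] [AddCommGroup E] [Module K E] [FiniteDimensional K E]
    (U C' : Submodule K E) (v : E) (hv : v ∉ U) (h : IsCompl (U ⊔ K ∙ v) C') :
    IsCompl U (C' ⊔ K ∙ v) := by
  have hv0 : v ≠ 0 := fun h0 => hv (h0 ▸ U.zero_mem)
  have hdisj : Disjoint U (K ∙ v) := by
    rw [Submodule.disjoint_span_singleton' hv0]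
    exact hv
  have hfr : finrank K ↥(U ⊔ K ∙ v) = finrank K U + 1 := by
    have := Submodule.finrank_sup_add_finrank_inf_eq U (K ∙ v)
    rw [hdisj.eq_bot, finrank_bot, finrank_span_singleton hv0] at this
    omega
  have hsup : U ⊔ (C' ⊔ K ∙ v) = ⊤ := by
    rw [sup_comm C', ← sup_assoc]
    exact h.sup_eq_top
  refine ⟨?_, codisjoint_iff.mpr hsup⟩
  have h1 := Submodule.finrank_sup_add_finrank_inf_eq U (C' ⊔ K ∙ v)
  rw [hsup, finrank_top] at h1
  have h2 := Submodule.finrank_add_eq_of_isCompl h
  have h3 := Submodule.finrank_add_le_finrank_add_finrank C' (K ∙ v)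
  rw [finrank_span_singleton hv0] at h3
  have h4 : finrank K ↥(U ⊓ (C' ⊔ K ∙ v)) = 0 := by omega
  rw [disjoint_iff]
  exact Submodule.finrank_eq_zero.mp h4

theorem exists_common_compl {K E : Type*} [Field K] [AddCommGroup E] [Module K E]
    [FiniteDimensional K E] :
    ∀ (n : ℕ) (U₁ U₂ : Submodule K E), finrank K U₁ = finrank K U₂ →
      finrank K E - finrank K U₁ = n → ∃ C : Submodule K E, IsCompl U₁ C ∧ IsCompl U₂ C := by
  intro n
  induction n with
  | zero =>
    intro U₁ U₂ h12 hn
    have h1 : U₁ = ⊤ := Submodule.eq_top_of_finrank_eq (by have := Submodule.finrank_le U₁; omega)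
    have h2 : U₂ = ⊤ := Submodule.eq_top_of_finrank_eq (by have := Submodule.finrank_le U₂; omega)
    exact ⟨⊥, h1 ▸ isCompl_top_bot, h2 ▸ isCompl_top_bot⟩
  | succ n ih =>
    intro U₁ U₂ h12 hn
    have h1 : U₁ ≠ ⊤ := by
      rintro rfl
      rw [finrank_top] at hn
      omega
    have h2 : U₂ ≠ ⊤ := by
      rintro rfl
      rw [finrank_top] at h12
      omega
    obtain ⟨v, hv1, hv2⟩ : ∃ v, v ∉ U₁ ∧ v ∉ U₂ := by
      obtain ⟨x, hx⟩ : ∃ x, x ∉ U₁ := by
        by_contra h
        push Not at h
        exact h1 (eq_top_iff.mpr fun x _ => h x)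
      obtain ⟨y, hy⟩ : ∃ y, y ∉ U₂ := by
        by_contra h
        push Not at h
        exact h2 (eq_top_iff.mpr fun x _ => h x)
      by_cases hx2 : x ∈ U₂
      · by_cases hy1 : y ∈ U₁
        · refine ⟨x + y, fun h => hx ?_, fun h => hy ?_⟩
          · have := U₁.sub_mem h hy1
            simpa using this
          · have := U₂.sub_mem h hx2
            simpa using this
        · exact ⟨y, hy1, hy⟩
      · exact ⟨x, hx, hx2⟩
    have hfr : ∀ U : Submodule K E, v ∉ U → finrank K ↥(U ⊔ K ∙ v) = finrank K U + 1 := by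
      intro U hU
      have hv0 : v ≠ 0 := fun h0 => hU (h0 ▸ U.zero_mem)
      have hdisj : Disjoint U (K ∙ v) := by
        rw [Submodule.disjoint_span_singleton' hv0]
        exact hU
      have := Submodule.finrank_sup_add_finrank_inf_eq U (K ∙ v)
      rw [hdisj.eq_bot, finrank_bot, finrank_span_singleton hv0] at this
      omega
    obtain ⟨C', hC1, hC2⟩ := ih (U₁ ⊔ K ∙ v) (U₂ ⊔ K ∙ v) (by rw [hfr _ hv1, hfr _ hv2, h12])
      (by rw [hfr _ hv1]; omega)
    exact ⟨C' ⊔ K ∙ v, isCompl_aux U₁ C' v hv1 hC1, isCompl_aux U₂ C' v hv2 hC2⟩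

theorem main (k V : Type u) [Field k] [AddCommGroup V] [Module k V]
    [FiniteDimensional k V] (T : Submodule k (V × Module.Dual k V))
    (hT : Module.finrank k T = Module.finrank k V) :
    ∃ (V₂ : Submodule k V) (h : IsCompl (T.comap (LinearMap.inl k V (Module.Dual k V))) V₂),
      ∀ A₁ : T.comap (LinearMap.inl k V (Module.Dual k V)) →ₗ[k]
          Module.Dual k (T.comap (LinearMap.inl k V (Module.Dual k V))),
        Function.Injective A₁ →
          LinearMap.graph ((Submodule.projectionOnto _ V₂ h).dualMap ∘ₗ A₁ ∘ₗ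
              Submodule.projectionOnto _ V₂ h) ⊓ T = ⊥ := by
  set V₁ := T.comap (LinearMap.inl k V (Module.Dual k V)) with hV₁
  let T₂ : Submodule k (Module.Dual k V) := T.map (LinearMap.snd k V (Module.Dual k V))
  have hdimT₂ : finrank k T₂ + finrank k V₁ = finrank k V := by
    let g : T →ₗ[k] Module.Dual k V := (LinearMap.snd k V (Module.Dual k V)) ∘ₗ T.subtype
    have h1 := LinearMap.finrank_range_add_finrank_ker (K := k) (V := T) (V₂ := Module.Dual k V) g
    have hr : LinearMap.range g = T₂ := by
      rw [LinearMap.range_comp, Submodule.range_subtype]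
    have hk : finrank k (LinearMap.ker g) = finrank k V₁ := by
      have e1 : (LinearMap.ker g).map T.subtype =
          V₁.map (LinearMap.inl k V (Module.Dual k V)) := by
        rw [LinearMap.ker_comp, Submodule.map_comap_subtype, LinearMap.ker_snd,
          Submodule.map_comap_eq, inf_comm]
      have e2 := (Submodule.equivMapOfInjective T.subtype T.injective_subtype
        (LinearMap.ker g)).finrank_eq
      have e3 := (Submodule.equivMapOfInjective (LinearMap.inl k V (Module.Dual k V))
        LinearMap.inl_injective V₁).finrank_eq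
      rw [e2, e1, ← e3]
    rw [hr, hk, hT] at h1
    exact h1
  have hann := Subspace.finrank_add_finrank_dualAnnihilator_eq V₁
  obtain ⟨C, hC1, hC2⟩ := exists_common_compl _ T₂ V₁.dualAnnihilator (by omega) rfl
  set V₂ := C.dualCoannihilator with hV₂def
  have hCC : V₂.dualAnnihilator = C := Subspace.dualCoannihilator_dualAnnihilator_eq
  have hdisj : Disjoint V₁ V₂ := by
    rw [Submodule.disjoint_def]
    intro v hv1 hv2
    rw [← Module.forall_dual_apply_eq_zero_iff k]
    intro φ
    have : φ ∈ V₁.dualAnnihilator ⊔ C := by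
      rw [hC2.sup_eq_top]
      trivial
    obtain ⟨a, ha, c, hc, rfl⟩ := Submodule.mem_sup.mp this
    rw [LinearMap.add_apply, (Submodule.mem_dualAnnihilator a).mp ha v hv1,
      (Submodule.mem_dualCoannihilator v).mp hv2 c hc, add_zero]
  have hsup : V₁ ⊔ V₂ = ⊤ := by
    apply Submodule.eq_top_of_disjoint _ _ _ hdisj
    have h1 : finrank k C + finrank k V₂ = finrank k V :=
      Subspace.finrank_add_finrank_dualCoannihilator_eq C
    have h2 := Submodule.finrank_add_eq_of_isCompl hC2
    rw [Subspace.dual_finrank_eq] at h2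
    omega
  have hcompl : IsCompl V₁ V₂ := ⟨hdisj, codisjoint_iff.mpr hsup⟩
  refine ⟨V₂, hcompl, ?_⟩
  intro A₁ hA₁
  rw [eq_bot_iff]
  rintro ⟨v, φ⟩ ⟨hgr, hT'⟩
  rw [SetLike.mem_coe, LinearMap.mem_graph_iff] at hgr
  simp only at hgr
  set p := Submodule.projectionOnto V₁ V₂ hcompl with hp
  have hgr' : ∀ w : V, φ w = A₁ (p v) (p w) := by
    intro w
    rw [hgr]
    rfl
  have h1 : φ ∈ T₂ := ⟨(v, φ), hT', rfl⟩
  have h2 : φ ∈ C := by
    rw [← hCC, Submodule.mem_dualAnnihilator]
    intro w hw
    rw [hgr']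
    have : p w = 0 := (Submodule.projectionOnto_apply_eq_zero_iff hcompl).mpr hw
    rw [this, map_zero]
  have h3 : φ = 0 := by
    have := hC1.disjoint
    rw [Submodule.disjoint_def] at this
    exact this φ h1 h2
  have h4 : A₁ (p v) = 0 := by
    apply LinearMap.ext
    intro w
    have hw : p (w : V) = w := Submodule.projectionOnto_apply_left hcompl w
    have := hgr' (w : V)
    rw [h3, hw] at this
    exact this.symm
  have h5 : p v = 0 := hA₁ (by rw [h4, map_zero])
  have h6 : v ∈ V₂ := (Submodule.projectionOnto_apply_eq_zero_iff hcompl).mp h5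
  have h7 : v ∈ V₁ := by
    show (v, (0 : Module.Dual k V)) ∈ T
    rw [← h3]
    exact hT'
  have h8 : v = 0 := by
    rw [Submodule.disjoint_def] at hdisj
    exact hdisj v h7 h6
  rw [Submodule.mem_bot, h8, h3]
  rfl

end

/-- Let V be a finite-dimensional vector space over a field k, let W = V × V^∨ with V^∨ the dual space,
and let T ⊆ W be a subspace with dim T = dim V; put V₁ = V ∩ T, where V sits in W as V × 0. Then
there is a complement V₂ of V₁ in V with the following property: for every injective linear map A₁ :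
V₁ → V₁^∨, the map A : V → V^∨ extending A₁ by zero along the decompositions V = V₁ ⊕ V₂ and V^∨ =
V₁^∨ ⊕ V₂^∨ (so A v = A₁(p v) ∘ p, with p : V → V₁ the projection along V₂) has graph Γ ⊆ W with Γ ∩
T = 0. -/
theorem result (k V : Type u) [Field k] [AddCommGroup V] [Module k V]
    [FiniteDimensional k V] (T : Submodule k (V × Module.Dual k V))
    (hT : Module.finrank k T = Module.finrank k V) :
    ∃ (V₂ : Submodule k V) (h : IsCompl (T.comap (LinearMap.inl k V (Module.Dual k V))) V₂),
      ∀ A₁ : T.comap (LinearMap.inl k V (Module.Dual k V)) →ₗ[k]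
          Module.Dual k (T.comap (LinearMap.inl k V (Module.Dual k V))),
        Function.Injective A₁ →
          LinearMap.graph ((Submodule.projectionOnto _ V₂ h).dualMap ∘ₗ A₁ ∘ₗ
              Submodule.projectionOnto _ V₂ h) ⊓ T = ⊥ := by
  exact Groth.Agent.S14478.main k V T hT

end Groth.Agent.S14478
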