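import Groth.Statements.S14479
import Mathlib.LinearAlgebra.Matrix.BilinearForm
import Mathlib.LinearAlgebra.Matrix.Block
import Mathlib.Algebra.CharP.Two
-- import your own Groth.Agent.* helpers here

set_option autoImplicit false
universe u
open CharCyc

namespace Groth.Agent.S14479

lemma toMatrix_add_flip {k V ι : Type*} [Field k] [AddCommGroup V] [Module k V]
    [Fintype ι] [DecidableEq ι] (b : Module.Basis ι k V) (M : Matrix ι ι k) :
    LinearMap.BilinForm.toMatrix b (Matrix.toBilin b M + (Matrix.toBilin b M).flip) =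
      M + M.transpose := by
  rw [map_add, LinearMap.BilinForm.toMatrix_toBilin]
  congr 1
  ext i j
  rw [LinearMap.BilinForm.toMatrix_apply]
  show (Matrix.toBilin b M) (b j) (b i) = M.transpose i j
  rw [← LinearMap.BilinForm.toMatrix_apply b, LinearMap.BilinForm.toMatrix_toBilin,
    Matrix.transpose_apply]

/-- Let V be a finite-dimensional vector space over a field k. If dim V is even or the characteristic of
k is different from 2, there is a bilinear form B on V such that the bilinear form (v, w) ↦ B(v, w)
+ B(w, v) (B plus its transpose, as a map V → V^∨) is nondegenerate. -/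
theorem result (k V : Type u) [Field k] [AddCommGroup V] [Module k V]
    [FiniteDimensional k V] (h : Even (Module.finrank k V) ∨ ringChar k ≠ 2) :
    ∃ B : LinearMap.BilinForm k V, (B + B.flip).Nondegenerate := by
  classical
  rcases h with ⟨m, hm⟩ | h2
  · let b : Module.Basis (Fin m ⊕ Fin m) k V :=
      (Module.finBasisOfFinrankEq k V hm).reindex finSumFinEquiv.symm
    refine ⟨Matrix.toBilin b (Matrix.fromBlocks (0 : Matrix (Fin m) (Fin m) k)
        (1 : Matrix (Fin m) (Fin m) k) (0 : Matrix (Fin m) (Fin m) k)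
        (0 : Matrix (Fin m) (Fin m) k)),
      (LinearMap.BilinForm.nondegenerate_iff_det_ne_zero b).mpr ?_⟩
    rw [toMatrix_add_flip]
    have hN : (Matrix.fromBlocks (0 : Matrix (Fin m) (Fin m) k)
        (1 : Matrix (Fin m) (Fin m) k) (0 : Matrix (Fin m) (Fin m) k)
        (0 : Matrix (Fin m) (Fin m) k)) +
        (Matrix.fromBlocks (0 : Matrix (Fin m) (Fin m) k)
        (1 : Matrix (Fin m) (Fin m) k) (0 : Matrix (Fin m) (Fin m) k)
        (0 : Matrix (Fin m) (Fin m) k)).transpose =
        Matrix.fromBlocks (0 : Matrix (Fin m) (Fin m) k)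
        (1 : Matrix (Fin m) (Fin m) k) (1 : Matrix (Fin m) (Fin m) k)
        (0 : Matrix (Fin m) (Fin m) k) := by
      simp [Matrix.fromBlocks_transpose, Matrix.fromBlocks_add]
    rw [hN]
    intro hdet
    have h1 : (Matrix.fromBlocks (0 : Matrix (Fin m) (Fin m) k)
        (1 : Matrix (Fin m) (Fin m) k) (1 : Matrix (Fin m) (Fin m) k)
        (0 : Matrix (Fin m) (Fin m) k)) *
        Matrix.fromBlocks (0 : Matrix (Fin m) (Fin m) k)
        (1 : Matrix (Fin m) (Fin m) k) (1 : Matrix (Fin m) (Fin m) k)
        (0 : Matrix (Fin m) (Fin m) k) = 1 := by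
      simp [Matrix.fromBlocks_multiply, Matrix.fromBlocks_one]
    have := congrArg Matrix.det h1
    rw [Matrix.det_mul, hdet] at this
    simp at this
  · let b := Module.finBasis k V
    refine ⟨Matrix.toBilin b 1, (LinearMap.BilinForm.nondegenerate_iff_det_ne_zero b).mpr ?_⟩
    rw [toMatrix_add_flip, Matrix.transpose_one, ← two_smul k (1 : Matrix _ _ k),
      Matrix.det_smul, Matrix.det_one, mul_one]
    exact pow_ne_zero _ (Ring.two_ne_zero h2)

end Groth.Agent.S14479
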