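import Groth.Statements.S14497
import Mathlib
-- import your own Groth.Agent.* helpers here

set_option autoImplicit false
universe v u
open IndCof

namespace Groth.Agent.S14497

section
open CategoryTheory CategoryTheory.Limits

variable {V : Type u} [Category.{v} V] [Abelian V]

lemma image_epi_comp {X' X Y : V} (h : X' ⟶ X) [Epi h] (f : X ⟶ Y) :
    imageSubobject (h ≫ f) = imageSubobject f := by
  apply le_antisymm (imageSubobject_comp_le h f)
  haveI : IsIso (Subobject.ofLE _ _ (imageSubobject_comp_le h f)) := isIso_of_mono_of_epi _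
  exact Subobject.le_of_comm (inv (Subobject.ofLE _ _ (imageSubobject_comp_le h f))) (by simp)

lemma nsmul_id_comp {X Y : V} (k : ℕ) (f : X ⟶ Y) : (k • 𝟙 X) ≫ f = k • f := by
  rw [Preadditive.nsmul_comp, Category.id_comp]

lemma comp_nsmul_id {X Y : V} (k : ℕ) (f : X ⟶ Y) : f ≫ (k • 𝟙 Y) = k • f := by
  rw [Preadditive.comp_nsmul, Category.comp_id]

lemma mul_nsmul_id (X : V) (a b : ℕ) : (a * b) • 𝟙 X = (a • 𝟙 X) ≫ (b • 𝟙 X) := by
  rw [nsmul_id_comp, mul_comm, mul_nsmul]

/-- divisible subobject is contained in the image of multiplication by `k` -/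
lemma le_image_of_divisible {B : V} (D : Subobject B) (k : ℕ) (hk : Epi (k • 𝟙 (D : V))) :
    D ≤ imageSubobject (k • 𝟙 B) := by
  have h1 : (k • 𝟙 (D : V)) ≫ D.arrow = D.arrow ≫ (k • 𝟙 B) := by
    rw [nsmul_id_comp, comp_nsmul_id]
  have h2 : imageSubobject ((k • 𝟙 (D : V)) ≫ D.arrow) = D := by
    rw [image_epi_comp, imageSubobject_mono, Subobject.mk_arrow]
  rw [← h2, h1]
  exact imageSubobject_comp_le _ _

/-- if `M` kills the cokernel, then image of multiplication by a multiple of `M` is inside -/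
lemma image_le_of_kills {B : V} (B' : Subobject B) (M : ℕ)
    (hM : M • 𝟙 (cokernel B'.arrow) = 0) (j : ℕ) :
    imageSubobject ((j * M) • 𝟙 B) ≤ B' := by
  have h0 : (M • 𝟙 B) ≫ cokernel.π B'.arrow = 0 := by
    rw [nsmul_id_comp, ← comp_nsmul_id, hM, comp_zero]
  let g : B ⟶ (B' : V) := Abelian.monoLift B'.arrow (M • 𝟙 B) h0
  have hg : g ≫ B'.arrow = M • 𝟙 B := Abelian.monoLift_comp _ _ _
  refine imageSubobject_le _ ((j • 𝟙 B) ≫ g) ?_
  rw [Category.assoc, hg, mul_nsmul_id]

theorem main (B : V) :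
    ((∀ n : ℕ, 0 < n → ∃ m : ℕ, 0 < m ∧ n ∣ m ∧ ∀ m' : ℕ, 0 < m' → m ∣ m' →
        imageSubobject ((m' / n) • 𝟙 B) = imageSubobject ((m / n) • 𝟙 B)) ↔
      ∃ B' : Subobject B, (∀ k : ℕ, 0 < k → Epi (k • 𝟙 (B' : V))) ∧
        ∃ M : ℕ, 0 < M ∧ M • 𝟙 (cokernel B'.arrow) = 0) ∧
    (∀ B' : Subobject B, (∀ k : ℕ, 0 < k → Epi (k • 𝟙 (B' : V))) →
      (∃ M : ℕ, 0 < M ∧ M • 𝟙 (cokernel B'.arrow) = 0) →
      ∀ D : Subobject B, (∀ k : ℕ, 0 < k → Epi (k • 𝟙 (D : V))) → D ≤ B') := by
  refine ⟨⟨?_, ?_⟩, ?_⟩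
  · intro h
    obtain ⟨m, hm, -, hm'⟩ := h 1 Nat.one_pos
    refine ⟨imageSubobject (m • 𝟙 B), ?_, m, hm, ?_⟩
    · intro k hk
      have h1 := hm' (m * k) (Nat.mul_pos hm hk) (Dvd.intro _ rfl)
      rw [Nat.div_one, Nat.div_one] at h1
      set B' := imageSubobject (m • 𝟙 B) with hB'
      let e : B ⟶ (B' : V) := factorThruImageSubobject (m • 𝟙 B)
      have he : e ≫ B'.arrow = m • 𝟙 B := imageSubobject_arrow_comp _
      let g : (B' : V) ⟶ (B' : V) := k • 𝟙 (B' : V)
      have h2 : (m * k) • 𝟙 B = e ≫ (g ≫ B'.arrow) := by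
        rw [mul_nsmul_id, ← he, Category.assoc]
        congr 1
        rw [nsmul_id_comp, comp_nsmul_id]
      have h3 : imageSubobject (g ≫ B'.arrow) = B' := by
        rw [← image_epi_comp e, ← h2, h1]
      have h4 : g = factorThruImageSubobject (g ≫ B'.arrow) ≫
          (Subobject.isoOfEq _ _ h3).hom := by
        rw [← cancel_mono B'.arrow, Category.assoc]
        simp
      show Epi g
      rw [h4]
      infer_instance
    · have h1 : (m • 𝟙 B) ≫ cokernel.π (imageSubobject (m • 𝟙 B)).arrow = 0 := by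
        have h0 := imageSubobject_arrow_comp (m • 𝟙 B)
        calc (m • 𝟙 B) ≫ cokernel.π (imageSubobject (m • 𝟙 B)).arrow
            = (factorThruImageSubobject (m • 𝟙 B) ≫ (imageSubobject (m • 𝟙 B)).arrow) ≫
                cokernel.π (imageSubobject (m • 𝟙 B)).arrow := by rw [h0]
          _ = 0 := by rw [Category.assoc, cokernel.condition, comp_zero]
      have h2 : cokernel.π (imageSubobject (m • 𝟙 B)).arrow ≫
          (m • 𝟙 (cokernel (imageSubobject (m • 𝟙 B)).arrow)) = 0 := by
        rw [comp_nsmul_id, ← nsmul_id_comp m (cokernel.π (imageSubobject (m • 𝟙 B)).arrow), h1]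
      exact zero_of_epi_comp _ h2
  · rintro ⟨B', hdiv, M, hM, hkill⟩ n hn
    have key : ∀ j : ℕ, 0 < j → imageSubobject ((j * M) • 𝟙 B) = B' := by
      intro j hj
      apply le_antisymm (image_le_of_kills B' M hkill j)
      exact le_image_of_divisible B' _ (hdiv _ (Nat.mul_pos hj hM))
    refine ⟨n * M, Nat.mul_pos hn hM, Dvd.intro _ rfl, ?_⟩
    intro m' hm' hdvd
    obtain ⟨j, rfl⟩ := hdvd
    have hj : 0 < j := by
      rcases Nat.eq_zero_or_pos j with h | h
      · rw [h, mul_zero] at hm'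
        exact absurd hm' (lt_irrefl 0)
      · exact h
    have e1 : n * M * j / n = j * M := by
      rw [mul_assoc, Nat.mul_div_cancel_left _ hn, mul_comm]
    have e2 : n * M / n = 1 * M := by
      rw [Nat.mul_div_cancel_left _ hn, one_mul]
    rw [e1, e2, key j hj, key 1 Nat.one_pos]
  · rintro B' _ ⟨M, hM, hkill⟩ D hD
    have h1 := le_image_of_divisible D M (hD M hM)
    have h2 := image_le_of_kills B' M hkill 1
    rw [one_mul] at h2
    exact h1.trans h2

end

open CategoryTheory CategoryTheory.Limits in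
/-- Let B be an object of an abelian category and consider the inverse system, indexed by the positive
integers ordered by divisibility, with every term equal to B and transition map from the m-th to the
n-th term (n ∣ m) given by multiplication by m/n. This system is Mittag-Leffler, i.e. for every n
the images in the n-th term of the transition maps are eventually constant, if and only if B has a
divisible sub-object B' (multiplication by every positive integer is an epimorphism of B') with B/B'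
killed by some positive integer. Moreover such a B' is the largest divisible sub-object of B. -/
theorem result
    {V : Type u} [Category.{v} V] [Abelian V] (B : V) :
    ((∀ n : ℕ, 0 < n → ∃ m : ℕ, 0 < m ∧ n ∣ m ∧ ∀ m' : ℕ, 0 < m' → m ∣ m' →
        imageSubobject ((m' / n) • 𝟙 B) = imageSubobject ((m / n) • 𝟙 B)) ↔
      ∃ B' : Subobject B, (∀ k : ℕ, 0 < k → Epi (k • 𝟙 (B' : V))) ∧
        ∃ M : ℕ, 0 < M ∧ M • 𝟙 (cokernel B'.arrow) = 0) ∧
    (∀ B' : Subobject B, (∀ k : ℕ, 0 < k → Epi (k • 𝟙 (B' : V))) →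
      (∃ M : ℕ, 0 < M ∧ M • 𝟙 (cokernel B'.arrow) = 0) →
      ∀ D : Subobject B, (∀ k : ℕ, 0 < k → Epi (k • 𝟙 (D : V))) → D ≤ B') := by
  exact Groth.Agent.S14497.main B

end Groth.Agent.S14497
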