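import Groth.Statements.S14498
import Mathlib

set_option autoImplicit false
universe v u
open AbDiag

namespace Groth.Agent.S14498

open CategoryTheory CategoryTheory.Limits in
/-- In an abelian category, let 0 → F → W → E' → 0 (maps a, b) and 0 → E → W → F' → G → G' → 0 (maps c,
d, e, g) be exact sequences such that the composite F → W → F' is a monomorphism. Then the composite
E → W → E' is a monomorphism, and there is a short exact sequence 0 → Coker(E → E') → Coker(F → F')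
→ Ker(G → G') → 0 whose first map is induced by d (through the quotient map b) and whose second map
is induced by e. -/
theorem result
    {V : Type u} [Category.{v} V] [Abelian V] {F W E' E F' G G' : V}
    (a : F ⟶ W) (b : W ⟶ E') (c : E ⟶ W) (d : W ⟶ F') (e : F' ⟶ G) (g : G ⟶ G')
    [Mono a] [Epi b] (wab : a ≫ b = 0) (hab : (ShortComplex.mk a b wab).Exact)
    [Mono c] (wcd : c ≫ d = 0) (hcd : (ShortComplex.mk c d wcd).Exact)
    (wde : d ≫ e = 0) (hde : (ShortComplex.mk d e wde).Exact)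
    (weg : e ≫ g = 0) (heg : (ShortComplex.mk e g weg).Exact) [Epi g]
    (hmono : Mono (a ≫ d)) :
    Mono (c ≫ b) ∧
      ∃ (φ : cokernel (c ≫ b) ⟶ cokernel (a ≫ d)) (ψ : cokernel (a ≫ d) ⟶ kernel g)
        (w : φ ≫ ψ = 0),
        b ≫ cokernel.π (c ≫ b) ≫ φ = d ≫ cokernel.π (a ≫ d) ∧
        cokernel.π (a ≫ d) ≫ ψ ≫ kernel.ι g = e ∧
        (ShortComplex.mk φ ψ w).ShortExact := by
  have i1 : Mono (ShortComplex.mk a b wab).f := ‹Mono a›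
  have i2 : Epi (ShortComplex.mk a b wab).g := ‹Epi b›
  -- (1) `c ≫ b` is a monomorphism
  have h1 : Mono (c ≫ b) := by
    apply Preadditive.mono_of_cancel_zero
    intro T x hx
    have hx2 : (x ≫ c) ≫ b = 0 := by rw [Category.assoc]; exact hx
    obtain ⟨y, hy⟩ := hab.lift' (x ≫ c) hx2
    have hy2 : y ≫ a = x ≫ c := hy
    have hy0 : y = 0 := by
      have h3 : y ≫ (a ≫ d) = 0 := by
        rw [← Category.assoc, hy2, Category.assoc, wcd, comp_zero]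
      exact zero_of_comp_mono (a ≫ d) h3
    have hxc : x ≫ c = 0 := by rw [← hy2, hy0, zero_comp]
    exact zero_of_comp_mono c hxc
  refine ⟨h1, ?_⟩
  -- (2) the maps
  have hk : a ≫ (d ≫ cokernel.π (a ≫ d)) = 0 := by rw [← Category.assoc, cokernel.condition]
  obtain ⟨dbar, hdbar⟩ := hab.desc' (d ≫ cokernel.π (a ≫ d)) hk
  have hdbar2 : b ≫ dbar = d ≫ cokernel.π (a ≫ d) := hdbar
  have hφw : (c ≫ b) ≫ dbar = 0 := by
    rw [Category.assoc, hdbar2, ← Category.assoc, wcd, zero_comp]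
  let φ := cokernel.desc (c ≫ b) dbar hφw
  have hφ : cokernel.π (c ≫ b) ≫ φ = dbar := cokernel.π_desc _ _ _
  have hψw : (a ≫ d) ≫ kernel.lift g e weg = 0 := by
    rw [← cancel_mono (kernel.ι g), Category.assoc, kernel.lift_ι, zero_comp, Category.assoc, wde,
      comp_zero]
  let ψ := cokernel.desc (a ≫ d) (kernel.lift g e weg) hψw
  have hψ : cokernel.π (a ≫ d) ≫ ψ = kernel.lift g e weg := cokernel.π_desc _ _ _
  have e1 : b ≫ cokernel.π (c ≫ b) ≫ φ = d ≫ cokernel.π (a ≫ d) := by rw [hφ, hdbar2]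
  have e2 : cokernel.π (a ≫ d) ≫ ψ ≫ kernel.ι g = e := by
    rw [← Category.assoc, hψ, kernel.lift_ι]
  have w : φ ≫ ψ = 0 := by
    rw [← cancel_epi (cokernel.π (c ≫ b)), ← cancel_epi b, ← cancel_mono (kernel.ι g)]
    calc (b ≫ cokernel.π (c ≫ b) ≫ φ ≫ ψ) ≫ kernel.ι g
        = (b ≫ cokernel.π (c ≫ b) ≫ φ) ≫ ψ ≫ kernel.ι g := by simp only [Category.assoc]
      _ = (d ≫ cokernel.π (a ≫ d)) ≫ ψ ≫ kernel.ι g := by rw [e1]
      _ = d ≫ (cokernel.π (a ≫ d) ≫ ψ ≫ kernel.ι g) := by simp only [Category.assoc]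
      _ = d ≫ e := by rw [e2]
      _ = 0 := wde
      _ = (b ≫ cokernel.π (c ≫ b) ≫ 0) ≫ kernel.ι g := by simp
  refine ⟨φ, ψ, w, e1, e2, ?_⟩
  -- (3) `ψ` is an epimorphism
  have hepiψ : Epi ψ := by
    rw [epi_iff_surjective_up_to_refinements]
    intro T y
    have hy : (y ≫ kernel.ι g) ≫ g = 0 := by rw [Category.assoc, kernel.condition, comp_zero]
    obtain ⟨T1, π, hπ, x₁, hx₁⟩ := heg.exact_up_to_refinements (y ≫ kernel.ι g) hy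
    have hx₁2 : π ≫ y ≫ kernel.ι g = x₁ ≫ e := hx₁
    refine ⟨T1, π, hπ, x₁ ≫ cokernel.π (a ≫ d), ?_⟩
    rw [← cancel_mono (kernel.ι g)]
    calc (π ≫ y) ≫ kernel.ι g = π ≫ y ≫ kernel.ι g := Category.assoc _ _ _
      _ = x₁ ≫ e := hx₁2
      _ = x₁ ≫ (cokernel.π (a ≫ d) ≫ ψ ≫ kernel.ι g) := by rw [e2]
      _ = ((x₁ ≫ cokernel.π (a ≫ d)) ≫ ψ) ≫ kernel.ι g := by simp only [Category.assoc]
  -- (4) `φ` is a monomorphism
  have hmonoφ : Mono φ := by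
    apply Preadditive.mono_of_cancel_zero
    intro T x hx
    obtain ⟨T₁, π₁, hπ₁, w₁, hw₁⟩ :=
      surjective_up_to_refinements_of_epi (b ≫ cokernel.π (c ≫ b)) x
    have h2 : (w₁ ≫ d) ≫ cokernel.π (a ≫ d) = 0 := by
      calc (w₁ ≫ d) ≫ cokernel.π (a ≫ d) = w₁ ≫ (d ≫ cokernel.π (a ≫ d)) := Category.assoc _ _ _
        _ = w₁ ≫ (b ≫ cokernel.π (c ≫ b) ≫ φ) := by rw [e1]
        _ = (w₁ ≫ b ≫ cokernel.π (c ≫ b)) ≫ φ := by simp only [Category.assoc]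
        _ = (π₁ ≫ x) ≫ φ := by rw [hw₁]
        _ = 0 := by rw [Category.assoc, hx, comp_zero]
    obtain ⟨T₂, π₂, hπ₂, f₁0, hf₁0⟩ :=
      (ShortComplex.cokernelSequence_exact (a ≫ d)).exact_up_to_refinements (w₁ ≫ d) h2
    obtain ⟨f₁, hf₁2⟩ : ∃ f₁ : T₂ ⟶ F, π₂ ≫ w₁ ≫ d = f₁ ≫ a ≫ d := ⟨f₁0, hf₁0⟩
    have h3 : (π₂ ≫ w₁ - f₁ ≫ a) ≫ d = 0 := by
      rw [Preadditive.sub_comp, Category.assoc, Category.assoc, sub_eq_zero]; exact hf₁2
    obtain ⟨T₃, π₃, hπ₃, e₁0, he₁0⟩ := hcd.exact_up_to_refinements (π₂ ≫ w₁ - f₁ ≫ a) h3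
    obtain ⟨e₁, he₁2⟩ : ∃ e₁ : T₃ ⟶ E, π₃ ≫ (π₂ ≫ w₁ - f₁ ≫ a) = e₁ ≫ c := ⟨e₁0, he₁0⟩
    have h4 : π₃ ≫ π₂ ≫ w₁ = π₃ ≫ f₁ ≫ a + e₁ ≫ c := by
      rw [Preadditive.comp_sub, sub_eq_iff_eq_add] at he₁2
      rw [he₁2, add_comm]
    have h5 : (π₃ ≫ π₂ ≫ π₁) ≫ x = 0 := by
      calc (π₃ ≫ π₂ ≫ π₁) ≫ x = π₃ ≫ π₂ ≫ (π₁ ≫ x) := by simp only [Category.assoc]
        _ = π₃ ≫ π₂ ≫ (w₁ ≫ b ≫ cokernel.π (c ≫ b)) := by rw [hw₁]
        _ = (π₃ ≫ π₂ ≫ w₁) ≫ b ≫ cokernel.π (c ≫ b) := by simp only [Category.assoc]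
        _ = (π₃ ≫ f₁ ≫ a + e₁ ≫ c) ≫ b ≫ cokernel.π (c ≫ b) := by rw [h4]
        _ = 0 := by
          have t1 : (π₃ ≫ f₁ ≫ a) ≫ b ≫ cokernel.π (c ≫ b) = 0 := by
            simp only [Category.assoc]
            rw [← Category.assoc a b, wab, zero_comp, comp_zero, comp_zero]
          have t2 : (e₁ ≫ c) ≫ b ≫ cokernel.π (c ≫ b) = 0 := by
            simp only [Category.assoc]
            rw [← Category.assoc c b, cokernel.condition, comp_zero]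
          rw [Preadditive.add_comp, t1, t2, add_zero]
    have hepi : Epi (π₃ ≫ π₂ ≫ π₁) := inferInstance
    exact zero_of_epi_comp _ h5
  -- (5) exactness in the middle
  have hex : (ShortComplex.mk φ ψ w).Exact := by
    rw [ShortComplex.exact_iff_exact_up_to_refinements]
    intro T x₂ hx₂
    have hx₂2 : x₂ ≫ ψ = 0 := hx₂
    obtain ⟨T₁, π₁, hπ₁, f1, hf1⟩ := surjective_up_to_refinements_of_epi (cokernel.π (a ≫ d)) x₂
    have h2 : f1 ≫ e = 0 := by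
      calc f1 ≫ e = f1 ≫ (cokernel.π (a ≫ d) ≫ ψ ≫ kernel.ι g) := by rw [e2]
        _ = (f1 ≫ cokernel.π (a ≫ d)) ≫ ψ ≫ kernel.ι g := by simp only [Category.assoc]
        _ = (π₁ ≫ x₂) ≫ ψ ≫ kernel.ι g := by rw [hf1]
        _ = π₁ ≫ (x₂ ≫ ψ) ≫ kernel.ι g := by simp only [Category.assoc]
        _ = 0 := by rw [hx₂2, zero_comp, comp_zero]
    obtain ⟨T₂, π₂, hπ₂, w₁, hw₁⟩ := hde.exact_up_to_refinements f1 h2
    have hw₁2 : π₂ ≫ f1 = w₁ ≫ d := hw₁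
    refine ⟨T₂, π₂ ≫ π₁, inferInstance, w₁ ≫ b ≫ cokernel.π (c ≫ b), ?_⟩
    show (π₂ ≫ π₁) ≫ x₂ = (w₁ ≫ b ≫ cokernel.π (c ≫ b)) ≫ φ
    calc (π₂ ≫ π₁) ≫ x₂ = π₂ ≫ (π₁ ≫ x₂) := Category.assoc _ _ _
      _ = π₂ ≫ (f1 ≫ cokernel.π (a ≫ d)) := by rw [hf1]
      _ = (π₂ ≫ f1) ≫ cokernel.π (a ≫ d) := (Category.assoc _ _ _).symm
      _ = (w₁ ≫ d) ≫ cokernel.π (a ≫ d) := by rw [hw₁2]
      _ = w₁ ≫ (d ≫ cokernel.π (a ≫ d)) := Category.assoc _ _ _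
      _ = w₁ ≫ (b ≫ cokernel.π (c ≫ b) ≫ φ) := by rw [e1]
      _ = (w₁ ≫ b ≫ cokernel.π (c ≫ b)) ≫ φ := by simp only [Category.assoc]
  exact ShortComplex.ShortExact.mk' hex hmonoφ hepiψ

end Groth.Agent.S14498
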