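import Groth.Statements.S14504
import Mathlib
-- import your own Groth.Agent.* helpers here

set_option autoImplicit false
universe u
open IntTh

namespace Groth.Agent.S14504

section
open Matrix Module

variable {K : Type u} [Field K] {n d : ℕ}

lemma G1 (V : Submodule K (Fin n → K)) (t : ℕ)
    (hV : ∀ v : Fin n → K, v ∈ V ↔ ∀ l : Fin n, t ≤ (l : ℕ) → v l = 0)
    (A : Matrix (Fin d) (Fin n) K) (i : Fin d)
    (h : (i : ℕ) + 1 ≤ finrank K ↥(Submodule.span K (Set.range fun r : Fin d => A r) ⊓ V))
    (J : Fin d → Fin n) (hJ : StrictMono J) (hJi : t ≤ (J i : ℕ)) :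
    (A.submatrix id J).det = 0 := by
  let ψ : ↥(Submodule.span K (Set.range fun r : Fin d => A r) ⊓ V) →ₗ[K] (Fin (i : ℕ) → K) :=
    { toFun := fun w l => w.1 (J ⟨l, lt_trans l.2 i.2⟩)
      map_add' := fun _ _ => rfl
      map_smul' := fun _ _ => rfl }
  have hlt : finrank K (Fin (i : ℕ) → K) <
      finrank K ↥(Submodule.span K (Set.range fun r : Fin d => A r) ⊓ V) := by
    rw [Module.finrank_fin_fun]
    omega
  have hker : LinearMap.ker ψ ≠ ⊥ := LinearMap.ker_ne_bot_of_finrank_lt hlt
  obtain ⟨w, hw, hw0⟩ := (Submodule.ne_bot_iff _).mp hker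
  have hwU := w.2
  obtain ⟨x, hx⟩ := (Submodule.mem_span_range_iff_exists_fun K).mp hwU.1
  rw [← Matrix.exists_vecMul_eq_zero_iff]
  refine ⟨x, ?_, ?_⟩
  · rintro rfl
    apply hw0
    apply Subtype.ext
    rw [← hx]
    simp
  · ext l
    have h1 : (x ᵥ* A.submatrix id J) l = w.1 (J l) := by
      rw [← hx]
      simp [Matrix.vecMul, dotProduct, Finset.sum_apply]
    rw [h1]
    by_cases hl : (l : ℕ) < i
    · have h2 := congrFun (LinearMap.mem_ker.mp hw) ⟨l, hl⟩
      exact h2
    · have h3 : t ≤ (J l : ℕ) := le_trans hJi (hJ.monotone (not_lt.mp hl))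
      exact (hV w.1).mp hwU.2 (J l) h3

lemma G2 (V : Submodule K (Fin n → K)) (t : ℕ)
    (hV : ∀ v : Fin n → K, v ∈ V ↔ ∀ l : Fin n, t ≤ (l : ℕ) → v l = 0)
    (A : Matrix (Fin d) (Fin n) K) (hA : LinearIndependent K (fun r : Fin d => A r)) (i : Fin d)
    (h : ∀ J : Fin d → Fin n, StrictMono J → t ≤ (J i : ℕ) → (A.submatrix id J).det = 0) :
    (i : ℕ) + 1 ≤ finrank K ↥(Submodule.span K (Set.range fun r : Fin d => A r) ⊓ V) := by
  classical
  by_contra hcon
  have hcon' : finrank K ↥(Submodule.span K (Set.range fun r : Fin d => A r) ⊓ V) ≤ i := by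
    omega
  let c : Fin n → (Fin d → K) := fun l r => A r l
  let T : Set (Fin n) := {l | t ≤ (l : ℕ)}
  obtain ⟨S1, hS1T, -, hS1span, hS1li⟩ := exists_linearIndepOn_extension (K := K) (v := c)
    (s := ∅) (t := T) (linearIndepOn_empty K c) (Set.empty_subset _)
  obtain ⟨S, -, hS1S, hSspan, hSli⟩ := exists_linearIndepOn_extension (K := K) (v := c)
    hS1li (Set.subset_univ S1)
  haveI : Fintype S1 := Fintype.ofFinite S1
  haveI : Fintype S := Fintype.ofFinite S
  -- columns span
  have hcols : Submodule.span K (Set.range c) = ⊤ := by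
    have hr : A.rank = d := by simpa using hA.rank_matrix
    have h2 := A.rank_eq_finrank_span_cols
    apply Submodule.eq_top_of_finrank_eq
    rw [Module.finrank_fin_fun]
    exact h2.symm.trans hr
  have hSspan' : Submodule.span K (c '' S) = ⊤ := by
    rw [eq_top_iff, ← hcols, Submodule.span_le, ← Set.image_univ]
    exact hSspan
  have hScard : Fintype.card S = d := by
    have h1 := linearIndependent_iff_card_eq_finrank_span.mp hSli
    rw [h1, Set.finrank]
    have h2 : Set.range (fun x : S => c x) = c '' S := by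
      ext y
      simp
    rw [h2, hSspan', finrank_top, Module.finrank_fin_fun]
  -- the map φ
  let M : Matrix S1 (Fin d) K := fun l r => A r l
  have hMrank : M.rank = Fintype.card S1 := by
    have : LinearIndependent K M.row := hS1li
    exact this.rank_matrix
  have hrn := LinearMap.finrank_range_add_finrank_ker M.mulVecLin
  rw [Module.finrank_fin_fun] at hrn
  have hrange : finrank K (LinearMap.range M.mulVecLin) = Fintype.card S1 := hMrank
  -- injection ker φ → U
  have hmemU : ∀ x : LinearMap.ker M.mulVecLin,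
      (x.1 ᵥ* A) ∈ Submodule.span K (Set.range fun r : Fin d => A r) ⊓ V := by
    intro x
    constructor
    · rw [Matrix.vecMul_eq_sum]
      refine Submodule.sum_mem _ fun r _ => Submodule.smul_mem _ _ (Submodule.subset_span ⟨r, rfl⟩)
    · refine (hV _).mpr ?_
      intro l hl
      have h1 : (x.1 ᵥ* A) l = x.1 ⬝ᵥ c l := rfl
      rw [h1]
      have hcl : c l ∈ Submodule.span K (c '' S1) := hS1span ⟨l, hl, rfl⟩
      have hx : ∀ l' : S1, c l' ⬝ᵥ x.1 = 0 := by
        intro l'
        have := congrFun (LinearMap.mem_ker.mp x.2) l'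
        exact this
      refine Submodule.span_induction (p := fun y _ => x.1 ⬝ᵥ y = 0) ?_ ?_ ?_ ?_ hcl
      · rintro _ ⟨l', hl', rfl⟩
        rw [dotProduct_comm]
        exact hx ⟨l', hl'⟩
      · exact dotProduct_zero _
      · intro y z _ _ hy hz
        rw [dotProduct_add, hy, hz, add_zero]
      · intro a y _ hy
        rw [dotProduct_smul, hy, smul_zero]
  let g : LinearMap.ker M.mulVecLin →ₗ[K]
      ↥(Submodule.span K (Set.range fun r : Fin d => A r) ⊓ V) :=
    LinearMap.codRestrict _ (A.vecMulLinear.comp (LinearMap.ker M.mulVecLin).subtype) hmemU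
  have hginj : Function.Injective g := by
    rw [← LinearMap.ker_eq_bot, LinearMap.ker_eq_bot']
    intro x hx
    have h1 : x.1 ᵥ* A = 0 := congrArg Subtype.val hx
    rw [Matrix.vecMul_eq_sum] at h1
    have h2 := Fintype.linearIndependent_iff.mp hA x.1 h1
    apply Subtype.ext
    funext r
    exact h2 r
  have hle := LinearMap.finrank_le_finrank_of_injective hginj
  have hS1card : d ≤ Fintype.card S1 + i := by omega
  -- the order iso
  let e : Fin d ≃o S := Fintype.orderIsoFinOfCardEq S hScard
  let J : Fin d → Fin n := fun l => (e l).1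
  have hJ : StrictMono J := fun a b hab => e.strictMono hab
  have hdet : (A.submatrix id J).det ≠ 0 := by
    have hcol : LinearIndependent K (A.submatrix id J).col := by
      have h1 : (A.submatrix id J).col = (fun x : S => c x) ∘ e := rfl
      rw [h1]
      exact hSli.comp _ e.injective
    have h2 := Matrix.linearIndependent_cols_iff_isUnit.mp hcol
    exact ((Matrix.isUnit_iff_isUnit_det _).mp h2).ne_zero
  apply hdet
  apply h J hJ
  by_contra hlt
  have hlt' : (J i : ℕ) < t := not_le.mp hlt
  let f : S1 → {l : Fin d // i < l} := fun s =>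
    ⟨e.symm ⟨s.1, hS1S s.2⟩, by
      by_contra hle'
      have h1 : e.symm ⟨s.1, hS1S s.2⟩ ≤ i := not_lt.mp hle'
      have h2 : J (e.symm ⟨s.1, hS1S s.2⟩) ≤ J i := hJ.monotone h1
      have h3 : J (e.symm ⟨s.1, hS1S s.2⟩) = s.1 := by
        simp [J]
      rw [h3] at h2
      have h4 : t ≤ (s.1 : ℕ) := hS1T s.2
      have h5 : (s.1 : ℕ) ≤ (J i : ℕ) := h2
      omega⟩
  have hf : Function.Injective f := by
    intro a b hab
    have h1 : e.symm ⟨a.1, hS1S a.2⟩ = e.symm ⟨b.1, hS1S b.2⟩ := congrArg Subtype.val hab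
    have h2 := e.symm.injective h1
    exact Subtype.ext (congrArg (fun z : S => (z.1 : Fin n)) h2)
  have hcard := Fintype.card_le_of_injective f hf
  have hcard2 : Fintype.card {l : Fin d // i < l} = d - 1 - i := by
    rw [Fintype.card_subtype]
    have : (Finset.univ.filter fun l : Fin d => i < l) = Finset.Ioi i := by
      ext l
      simp
    rw [this, Fin.card_Ioi]
  have hi := i.2
  omega

theorem main (K : Type u) [Field K] (n d : ℕ)
    (hdn : d ≤ n) (V : ℕ → Submodule K (Fin n → K))
    (hV : ∀ (j : ℕ) (v : Fin n → K), v ∈ V j ↔ ∀ l : Fin n, j ≤ (l : ℕ) → v l = 0)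
    (lam : Fin d → ℕ) (hlam : Antitone lam) (A : Matrix (Fin d) (Fin n) K)
    (hA : LinearIndependent K (fun i : Fin d => A i)) :
    (∀ i : Fin d, (i : ℕ) + 1 ≤
        Module.finrank K ↥(Submodule.span K (Set.range fun i : Fin d => A i) ⊓
          V (n - d + ((i : ℕ) + 1) - lam i))) ↔
      ∀ J : Fin d → Fin n, StrictMono J →
        (∃ i : Fin d, n - d + ((i : ℕ) + 1) - lam i < (J i : ℕ) + 1) →
          (A.submatrix id J).det = 0 := by
  constructor
  · rintro h J hJ ⟨i, hi⟩
    exact G1 (V _) _ (hV _) A i (h i) J hJ (by omega)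
  · intro h i
    apply G2 (V _) _ (hV _) A hA i
    intro J hJ hJi
    exact h J hJ ⟨i, by omega⟩

end

/-- Let K be a field, d ≤ n, λ = (λ₁ ≥ ⋯ ≥ λ_d) a non-increasing sequence of natural numbers, d_i = n −
d + i − λ_i, and V_j ⊆ K^n the span of the first j standard basis vectors. For a d × n matrix A over
K with linearly independent rows spanning the subspace W: one has dim(W ∩ V_{d_i}) ≥ i for every i =
1, …, d if and only if every d × d minor of A taken on strictly increasing columns j₁ < ⋯ < j_d
(1-indexed) with j_i > d_i for some i vanishes. (Indices are 0-based in the formal statement: row i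
: Fin d stands for i + 1 and column l : Fin n for l + 1.) -/
theorem result (K : Type u) [Field K] (n d : ℕ)
    (hdn : d ≤ n) (V : ℕ → Submodule K (Fin n → K))
    (hV : ∀ (j : ℕ) (v : Fin n → K), v ∈ V j ↔ ∀ l : Fin n, j ≤ (l : ℕ) → v l = 0)
    (lam : Fin d → ℕ) (hlam : Antitone lam) (A : Matrix (Fin d) (Fin n) K)
    (hA : LinearIndependent K (fun i : Fin d => A i)) :
    (∀ i : Fin d, (i : ℕ) + 1 ≤
        Module.finrank K ↥(Submodule.span K (Set.range fun i : Fin d => A i) ⊓
          V (n - d + ((i : ℕ) + 1) - lam i))) ↔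
      ∀ J : Fin d → Fin n, StrictMono J →
        (∃ i : Fin d, n - d + ((i : ℕ) + 1) - lam i < (J i : ℕ) + 1) →
          (A.submatrix id J).det = 0 := by
  exact Groth.Agent.S14504.main K n d hdn V hV lam hlam A hA

end Groth.Agent.S14504
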