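import Groth.Statements.S14511
import Mathlib.Tactic

set_option autoImplicit false
universe u
open CAlgX

namespace Groth.Agent.S14511

theorem key1 (R : Type u) [CommRing R] (r : ℕ) (a : Fin r →₀ ℕ) :
    ∑ J : Finset (Fin r), (-1 : R) ^ J.card * ∏ i, (if i ∈ J then (-1 : R) else 0) ^ (a i) =
      ∏ i, ((-1 : R) ^ (a i + 1) + 0 ^ (a i)) := by
  rw [Finset.prod_add, Finset.powerset_univ]
  refine Finset.sum_congr rfl ?_
  intro J _
  rw [← Finset.prod_sdiff (Finset.subset_univ J)]
  have h1 : ∏ i ∈ J, (if i ∈ J then (-1 : R) else 0) ^ (a i) = ∏ i ∈ J, (-1 : R) ^ (a i) := by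
    refine Finset.prod_congr rfl ?_
    intro i hi
    rw [if_pos hi]
  have h2 : ∏ i ∈ Finset.univ \ J, (if i ∈ J then (-1 : R) else 0) ^ (a i) =
      ∏ i ∈ Finset.univ \ J, (0 : R) ^ (a i) := by
    refine Finset.prod_congr rfl ?_
    intro i hi
    rw [if_neg (Finset.mem_sdiff.mp hi).2]
  have h3 : (-1 : R) ^ J.card = ∏ i ∈ J, (-1 : R) := by
    rw [Finset.prod_const]
  rw [h1, h2, h3]
  have h4 : ∏ i ∈ J, (-1 : R) ^ (a i + 1) = (∏ i ∈ J, (-1 : R)) * ∏ i ∈ J, (-1 : R) ^ (a i) := by
    rw [← Finset.prod_mul_distrib]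
    refine Finset.prod_congr rfl ?_
    intro i _
    rw [pow_succ, mul_comm]
  rw [h4]
  ring

theorem key2 (R : Type u) [CommRing R] (r : ℕ) (a : Fin r →₀ ℕ) (ha : ∑ i, a i ≤ r) :
    ∏ i, ((-1 : R) ^ (a i + 1) + 0 ^ (a i)) =
      if a = ∑ i : Fin r, Finsupp.single i 1 then 1 else 0 := by
  have hone : ∀ j : Fin r, (∑ i : Fin r, Finsupp.single i 1 : Fin r →₀ ℕ) j = 1 := by
    intro j
    rw [Finsupp.finsetSum_apply]
    simp [Finsupp.single_apply]
  by_cases hall : ∀ i, 1 ≤ a i
  · -- all equal one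
    have hall1 : ∀ i, a i = 1 := by
      by_contra hne
      push Not at hne
      obtain ⟨j, hj⟩ := hne
      have hj2 : 2 ≤ a j := by have := hall j; omega
      have : ∑ i : Fin r, 1 < ∑ i, a i := by
        refine Finset.sum_lt_sum (fun i _ => hall i) ⟨j, Finset.mem_univ j, by omega⟩
      simp at this
      omega
    have haeq : a = ∑ i : Fin r, Finsupp.single i 1 := by
      ext j
      rw [hone j, hall1 j]
    rw [if_pos haeq]
    refine Finset.prod_eq_one ?_
    intro i _
    rw [hall1 i]
    simp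
  · push Not at hall
    obtain ⟨j, hj⟩ := hall
    have hj0 : a j = 0 := by omega
    have hne : a ≠ ∑ i : Fin r, Finsupp.single i 1 := by
      intro h
      have := hone j
      rw [← h, hj0] at this
      exact zero_ne_one this
    rw [if_neg hne]
    refine Finset.prod_eq_zero (Finset.mem_univ j) ?_
    rw [hj0]
    simp

/-- Let R be a commutative ring and P ∈ R[x_1, …, x_r] a polynomial of total degree at most r. Then the
coefficient of the monomial x_1 ⋯ x_r in P equals Σ_J (−1)^{|J|} P(δ_J), the sum over all subsets J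
⊆ {1, …, r} (the empty one included), where δ_J is the point with coordinate −1 at the indices in J
and 0 at the others. -/
theorem result (R : Type u) [CommRing R] (r : ℕ)
    (P : MvPolynomial (Fin r) R) (hP : P.totalDegree ≤ r) :
    MvPolynomial.coeff (∑ i : Fin r, Finsupp.single i 1) P =
      ∑ J : Finset (Fin r), (-1 : R) ^ J.card * MvPolynomial.eval (fun j => if j ∈ J then (-1 : R) else 0) P := by
  classical
  have h1 : ∀ J : Finset (Fin r),
      (-1 : R) ^ J.card * MvPolynomial.eval (fun j => if j ∈ J then (-1 : R) else 0) P =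
      ∑ d ∈ P.support, MvPolynomial.coeff d P *
        ((-1 : R) ^ J.card * ∏ i, (if i ∈ J then (-1 : R) else 0) ^ (d i)) := by
    intro J
    rw [MvPolynomial.eval_eq', Finset.mul_sum]
    refine Finset.sum_congr rfl ?_
    intro d _
    ring
  rw [Finset.sum_congr rfl (fun J _ => h1 J), Finset.sum_comm]
  have h2 : ∀ d ∈ P.support, ∑ J : Finset (Fin r), MvPolynomial.coeff d P *
        ((-1 : R) ^ J.card * ∏ i, (if i ∈ J then (-1 : R) else 0) ^ (d i)) =
      if d = ∑ i : Fin r, Finsupp.single i 1 then MvPolynomial.coeff d P else 0 := by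
    intro d hd
    rw [← Finset.mul_sum, key1, key2]
    · split_ifs <;> simp
    · have := MvPolynomial.le_totalDegree hd
      rw [Finsupp.sum_fintype _ _ (fun _ => rfl)] at this
      omega
  rw [Finset.sum_congr rfl h2, Finset.sum_ite_eq']
  split_ifs with h
  · rfl
  · exact MvPolynomial.notMem_support_iff.mp h

end Groth.Agent.S14511
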