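import Groth.Statements.S14519
import Groth.Agent.Lib.Helper4.BirStalk
import Groth.Agent.Lib.Helper4.SmoothRegSch
import Groth.Agent.Lib.Helper4.CurveExt2

set_option autoImplicit false
universe u
open CategoryTheory CategoryTheory.Limits AlgebraicGeometry
open Curves

namespace Groth.Agent.S14519

/-- Let k be an algebraically closed field and f : X → Y a birational morphism over k between smooth
curves (X, Y integral, separated, of finite type and smooth over k, of dimension one; f sends the
generic point of X to that of Y and the induced map of function fields K(Y) → K(X) is bijective).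
Then f is an open immersion. -/
theorem result (k : Type u) [Field k] [IsAlgClosed k]
    (X Y : Scheme.{u}) [X.Over (Spec (CommRingCat.of k))] [Y.Over (Spec (CommRingCat.of k))]
    [IsIntegral X] [IsSeparated (X ↘ (Spec (CommRingCat.of k)))] [LocallyOfFiniteType (X ↘ (Spec (CommRingCat.of k)))] [QuasiCompact (X ↘ (Spec (CommRingCat.of k)))] [Smooth (X ↘ (Spec (CommRingCat.of k)))] (hdimX : topologicalKrullDim X = 1)
    [IsIntegral Y] [IsSeparated (Y ↘ (Spec (CommRingCat.of k)))] [LocallyOfFiniteType (Y ↘ (Spec (CommRingCat.of k)))] [QuasiCompact (Y ↘ (Spec (CommRingCat.of k)))] [Smooth (Y ↘ (Spec (CommRingCat.of k)))] (hdimY : topologicalKrullDim Y = 1)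
    (f : X ⟶ Y) (hf : f ≫ (Y ↘ (Spec (CommRingCat.of k))) = (X ↘ (Spec (CommRingCat.of k))))
    (e : f (genericPoint X) = genericPoint Y)
    (hbir : Function.Bijective (Y.presheaf.stalkSpecializes (specializes_of_eq e) ≫ f.stalkMap (genericPoint X)).hom) :
    IsOpenImmersion f := by
  haveI : IsSeparated f := by
    have : IsSeparated (f ≫ (Y ↘ Spec (CommRingCat.of k))) := by rw [hf]; infer_instance
    exact IsSeparated.of_comp f (Y ↘ Spec (CommRingCat.of k))
  haveI : LocallyOfFiniteType f := by
    have : LocallyOfFiniteType (f ≫ (Y ↘ Spec (CommRingCat.of k))) := by rw [hf]; infer_instance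
    exact locallyOfFiniteType_of_comp f (Y ↘ Spec (CommRingCat.of k))
  have hval : ∀ y : Y, ValuationRing (Y.presheaf.stalk y) := by
    intro y
    haveI : IsRegularLocalRing (Y.presheaf.stalk y) :=
      Groth.Agent.Helper4.SmoothRegSch.isRegularLocalRing_stalk k (Y ↘ Spec (CommRingCat.of k)) y
    have hdim : ringKrullDim (Y.presheaf.stalk y) ≤ 1 := by
      rw [← hdimY]
      obtain ⟨_, ⟨W, hW, rfl⟩, hyW, -⟩ :=
        Y.isBasis_affineOpens.exists_subset_of_mem_open (Set.mem_univ y) isOpen_univ
      letI := TopCat.Presheaf.algebra_section_stalk Y.presheaf (⟨y, hyW⟩ : W)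
      haveI := hW.isLocalization_stalk ⟨y, hyW⟩
      haveI := (hW.primeIdealOf ⟨y, hyW⟩).isPrime
      rw [IsLocalization.AtPrime.ringKrullDim_eq_height (hW.primeIdealOf ⟨y, hyW⟩).asIdeal
        (Y.presheaf.stalk y)]
      refine (Ideal.height_le_ringKrullDim_of_ne_top (hW.primeIdealOf ⟨y, hyW⟩).isPrime.ne_top).trans ?_
      rw [← PrimeSpectrum.topologicalKrullDim_eq_ringKrullDim]
      exact hW.fromSpec.isOpenEmbedding.isInducing.topologicalKrullDim_le
    obtain ⟨_, h⟩ := Groth.Agent.Helper4.CurveExt.valuationRing_of_regular _ hdim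
    exact h
  exact Groth.Agent.Helper4.BirStalk.isOpenImmersion_of_birational f hval e hbir

end Groth.Agent.S14519
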