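import Groth.Statements.S1452
import Groth.Agent.S1451
import Groth.Agent.Lib.Helper16.AlgSp.LfpSp

set_option autoImplicit false
universe u
open FlatMor

namespace Groth.Agent.S1452

open AlgebraicGeometry CategoryTheory Limits in
/-- Let f : X → Y and g : Y → Z with Y integral and the local ring of Y at y = f x geometrically
unibranch; assume g ∘ f is étale on an open neighbourhood of x and some generization of x maps to
the generic point of Y. Then f is étale on an open neighbourhood of x and g is étale on an open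
neighbourhood of y. -/
theorem result {X Y Z : Scheme.{u}} (f : X ⟶ Y) (g : Y ⟶ Z) [IsIntegral Y] (x : X)
    (hY : CAlg2.IsGeomUnibranch (Y.presheaf.stalk (f x))) (het : ∃ U : X.Opens, x ∈ U ∧ Etale (U.ι ≫ f ≫ g))
    (hsp : ∃ x' : X, x' ⤳ x ∧ f x' = genericPoint ↑Y) :
    (∃ U : X.Opens, x ∈ U ∧ Etale (U.ι ≫ f)) ∧ ∃ V : Y.Opens, f x ∈ V ∧ Etale (V.ι ≫ g) := by
  classical
  obtain ⟨U, hxU, hU⟩ := het
  obtain ⟨x', hx'x, hx'⟩ := hsp
  haveI : Etale (U.ι ≫ f ≫ g) := hU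
  haveI hE : Etale ((U.ι ≫ f) ≫ g) := by rwa [Category.assoc]
  haveI : LocallyOfFiniteType (U.ι ≫ f) := locallyOfFiniteType_of_comp (U.ι ≫ f) g
  haveI : FormallyUnramified (U.ι ≫ f) := FormallyUnramified.of_comp (U.ι ≫ f) g
  have hx'U : x' ∈ U := hx'x.mem_open U.2 hxU
  have hfx : (U.ι ≫ f) (⟨x, hxU⟩ : U) = f x := by simp
  have hY' : CAlg2.IsGeomUnibranch (Y.presheaf.stalk ((U.ι ≫ f) (⟨x, hxU⟩ : U))) := by
    rw [hfx]; exact hY
  have hsp' : ∃ z : U, z ⤳ (⟨x, hxU⟩ : U) ∧ (U.ι ≫ f) z = genericPoint ↑Y := by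
    refine ⟨⟨x', hx'U⟩, ?_, by simpa using hx'⟩
    exact (U.ι.isOpenEmbedding.isInducing.specializes_iff).1 hx'x
  have hunr : ∃ W : (U : Scheme.{u}).Opens, (⟨x, hxU⟩ : U) ∈ W ∧
      FormallyUnramified (W.ι ≫ U.ι ≫ f) :=
    ⟨⊤, trivial, inferInstance⟩
  obtain ⟨W, hxW, hW⟩ := Groth.Agent.S1451.result (U.ι ≫ f) (⟨x, hxU⟩ : U) hY' hsp' hunr
  haveI : Etale (W.ι ≫ U.ι ≫ f) := hW
  have hU'eq : (U.ι ''ᵁ W).ι = (U.ι.isoImage W).inv ≫ W.ι ≫ U.ι := by simp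
  have hxU' : x ∈ U.ι ''ᵁ W := ⟨⟨x, hxU⟩, hxW, rfl⟩
  haveI hEt1 : Etale ((U.ι ''ᵁ W).ι ≫ f) := by
    rw [hU'eq]
    simp only [Category.assoc]
    infer_instance
  haveI hEt2 : Etale (((U.ι ''ᵁ W).ι ≫ f) ≫ g) := by
    rw [hU'eq]
    simp only [Category.assoc]
    infer_instance
  refine ⟨⟨U.ι ''ᵁ W, hxU', hEt1⟩, ?_⟩
  set p : (U.ι ''ᵁ W : Scheme.{u}) ⟶ Y := (U.ι ''ᵁ W).ι ≫ f with hp
  let V : Y.Opens := ⟨Set.range p, p.isOpenMap.isOpen_range⟩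
  have hrange : Set.range p ⊆ Set.range V.ι := by
    rw [Scheme.Opens.range_ι]; exact subset_rfl
  let e : (U.ι ''ᵁ W : Scheme.{u}) ⟶ V := IsOpenImmersion.lift V.ι p hrange
  have he : e ≫ V.ι = p := IsOpenImmersion.lift_fac _ _ _
  haveI : Etale (e ≫ V.ι) := by rw [he]; exact hEt1
  haveI hee : Etale e := Etale.of_comp e V.ι
  haveI hes : Surjective e := by
    constructor
    rintro ⟨v, ⟨u, hu⟩⟩
    refine ⟨u, ?_⟩
    apply V.ι.injective
    rw [← Scheme.Hom.comp_apply, he]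
    exact hu
  have hfxV : f x ∈ V := ⟨⟨x, hxU'⟩, by simp [hp]⟩
  refine ⟨V, hfxV, ?_⟩
  refine Groth.Agent.Helper16.AS.srcEtLoc_etale e (V.ι ≫ g) hee hes ?_
  rw [← Category.assoc, he]
  exact hEt2

end Groth.Agent.S1452
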