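import Groth.Statements.S14539
import Mathlib
import Groth.Agent.Lib.Helper22.PtExt4

set_option autoImplicit false
universe u v w
open TensorProduct
open PrincBund

namespace Groth.Agent.S14539

/-- Let k be an algebraically closed field of characteristic 0, A a commutative Hopf algebra over k (the
coordinate ring of an affine group scheme G over k, not necessarily of finite type) and V a right
A-comodule, of any dimension. If a k-subspace W of V is mapped into itself by the action of every
k-rational point of G (every k-algebra homomorphism A → k, acting on V through the coaction), then W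
is a subcomodule of V. -/
theorem result (k : Type u) (A : Type v) [Field k] [IsAlgClosed k]
    [CharZero k] [CommRing A] [HopfAlgebra k A]
    (V : Type w) [AddCommGroup V] [Module k V] [HopfRep.Comod k A V] (W : Submodule k V)
    (hW : ∀ g : A →ₐ[k] k, W.map (HopfRep.Comod.act k A V g) ≤ W) :
    HopfRep.IsSubcomod (k := k) (A := A) W := by
  classical
  intro w hw
  have hex := rTensor_exact A (LinearMap.exact_subtype_mkQ W) (Submodule.mkQ_surjective W)
  have hnat : ∀ (g : A →ₐ[k] k) (t : V ⊗[k] A),
      TensorProduct.rid k (V ⧸ W) (LinearMap.lTensor (V ⧸ W) g.toLinearMap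
        (LinearMap.rTensor A W.mkQ t)) =
      W.mkQ (TensorProduct.rid k V (LinearMap.lTensor V g.toLinearMap t)) := by
    intro g t
    induction t using TensorProduct.induction_on with
    | zero => simp
    | tmul v a =>
      simp only [LinearMap.rTensor_tmul, LinearMap.lTensor_tmul, TensorProduct.rid_tmul, map_smul]
    | add x y hx hy => simp only [map_add, hx, hy]
  let b := Module.Free.chooseBasis k (V ⧸ W)
  let e := TensorProduct.equivFinsuppOfBasisLeft b (N := A)
  have hkey : ∀ (g : A →ₐ[k] k) (t : (V ⧸ W) ⊗[k] A) i,
      g ((e t) i) = b.repr (TensorProduct.rid k (V ⧸ W)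
        (LinearMap.lTensor (V ⧸ W) g.toLinearMap t)) i := by
    intro g t i
    induction t using TensorProduct.induction_on with
    | zero => simp
    | tmul q a =>
      rw [TensorProduct.equivFinsuppOfBasisLeft_apply_tmul_apply, map_smul,
        LinearMap.lTensor_tmul, TensorProduct.rid_tmul, map_smul, Finsupp.smul_apply,
        smul_eq_mul, smul_eq_mul, mul_comm]
      rfl
    | add x y hx hy =>
      simp only [map_add, Finsupp.add_apply, hx, hy]
  have hz : LinearMap.rTensor A W.mkQ (HopfRep.Comod.coact (k := k) (A := A) w) = 0 := by
    apply e.injective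
    rw [map_zero]
    ext i
    rw [Finsupp.zero_apply]
    apply Groth.Agent.Helper22.PtExt.eq_zero_of_forall_algHom (k := k)
    intro g
    rw [hkey, hnat]
    have h1 : TensorProduct.rid k V (LinearMap.lTensor V g.toLinearMap
        (HopfRep.Comod.coact (k := k) (A := A) w)) ∈ W :=
      hW g (Submodule.mem_map_of_mem (f := HopfRep.Comod.act k A V g) hw)
    rw [Submodule.mkQ_apply, (Submodule.Quotient.mk_eq_zero W).mpr h1, map_zero, Finsupp.zero_apply]
  exact (hex _).mp hz

end Groth.Agent.S14539
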