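import Groth.Statements.S1454
import Mathlib
import Groth.Agent.Lib.Helper14.ChevQF3
import Groth.Agent.Lib.Helper14.ChevNB
import Groth.Agent.Lib.Helper4.UOpen5
-- import your own Groth.Agent.* helpers here

set_option autoImplicit false
universe u
open FlatMor

namespace Groth.Agent.S1454

open AlgebraicGeometry CategoryTheory Limits in
/-- Consider a locally quasi-finite f : X → Y whose target is locally Noetherian with geometrically
unibranch local rings, and assume every irreducible component of X dominates an irreducible
component of Y (its generic point maps to a generic point of an irreducible component of Y). Then f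
is universally open. -/
theorem result {X Y : Scheme.{u}} (f : X ⟶ Y) [LocallyQuasiFinite f] [LocallyOfFiniteType f] [IsLocallyNoetherian Y]
    (hY : ∀ y : Y, CAlg2.IsGeomUnibranch (Y.presheaf.stalk y))
    (hdom : ∀ Z ∈ irreducibleComponents ↑X, ∀ x : X, IsGenericPoint x Z → ∃ W ∈ irreducibleComponents ↑Y, IsGenericPoint (f x) W) :
    UniversallyOpen f := by
  apply Groth.Agent.Helper4.UOpen.universallyOpen_of_isUnivOpenAt
  intro x
  have hZ : irreducibleComponent x ∈ irreducibleComponents (X : Type _) :=
    irreducibleComponent_mem_irreducibleComponents x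
  have hZcl : IsClosed (irreducibleComponent x) := isClosed_of_mem_irreducibleComponents _ hZ
  obtain ⟨ξ, hξ⟩ := QuasiSober.sober hZ.1 hZcl
  have hξx : ξ ⤳ x := by
    rw [specializes_iff_mem_closure, hξ.def]
    exact mem_irreducibleComponent
  obtain ⟨W, hW, hfξ⟩ := hdom _ hZ ξ hξ
  have hcl : closure {f.base ξ} = W := hfξ.def
  have hnb : closure {f.base ξ} ∈ nhds (f.base x) := by
    refine Groth.Agent.Helper14.ChevNB.closure_mem_nhds_of_unique_component (f.base x) (f.base ξ)
      (hY (f.base x)).1.1 ?_ (hξx.map f.continuous)
    rw [hcl]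
    exact hW
  have hx : nhdsWithin x (f.base ⁻¹' {f.base x}) = pure x :=
    isDiscrete_iff_nhdsWithin.mp (f.isDiscrete_preimage_singleton (f.base x)) x rfl
  exact Groth.Agent.Helper14.ChevQF.isUnivOpenAt_of_isolated_of_geomUnibranch f x ξ hξx hnb hx
    (hY (f.base x))

end Groth.Agent.S1454
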