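import Groth.Statements.S14588
import Groth.Agent.Lib.Helper12.FieldSm3
import Groth.Agent.Lib.Helper16.Sch.GrpSm1
import Groth.Agent.Lib.Helper16.Sch.SmoothLocusBC2

set_option autoImplicit false
universe u
open CategoryTheory MonoidalCategory CartesianMonoidalCategory MonObj GrpObj AlgebraicGeometry CategoryTheory.Limits
open AlgGrp

namespace Groth.Agent.S14588

/-- Let k be a field with algebraic closure K and G a k-group scheme locally of finite type. If the
local ring of G_K at its unit point is reduced, then G is smooth over k. -/
theorem result (k : Type u) [Field k]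
    (G : Over (Spec (CommRingCat.of k))) [GrpObj G] [LocallyOfFiniteType G.hom]
    (t : ↥((𝟙_ (Over (Spec (CommRingCat.of (AlgebraicClosure k))))).left))
    (h : _root_.IsReduced ↑((Red.bc (Spec.map (CommRingCat.ofHom (algebraMap k (AlgebraicClosure k)))) G).left.presheaf.stalk ((η[Red.bc (Spec.map (CommRingCat.ofHom (algebraMap k (AlgebraicClosure k)))) G]).left.base t))) :
    Smooth G.hom := by
  set c := Spec.map (CommRingCat.ofHom (algebraMap k (AlgebraicClosure k))) with hc
  haveI := Groth.Agent.Helper12.FieldSm.lfp G.hom
  haveI : LocallyOfFiniteType (Red.bc c G).hom :=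
    inferInstanceAs (LocallyOfFiniteType (pullback.snd G.hom c))
  haveI := Groth.Agent.Helper12.FieldSm.lfp (Red.bc c G).hom
  have h1 : ((Red.bc c G).hom.smoothLocus : Set (Red.bc c G).left).Nonempty := by
    apply Groth.Agent.Helper12.FieldSm.smoothLocus_nonempty_of_isGeometricallyReduced_stalk
      (Red.bc c G).hom (η[Red.bc c G].left.base t)
    letI := (Groth.Agent.Helper12.FieldSm.stalkHom (Red.bc c G).hom
      (η[Red.bc c G].left.base t)).toAlgebra
    apply Groth.Agent.Helper12.FieldSm.isGeometricallyReduced_of_isReduced_tensor_perfect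
      (AlgebraicClosure k) (AlgebraicClosure k)
      ((Red.bc c G).left.presheaf.stalk (η[Red.bc c G].left.base t))
    haveI := h
    exact isReduced_of_injective
      (Algebra.TensorProduct.lid (AlgebraicClosure k)
        ((Red.bc c G).left.presheaf.stalk (η[Red.bc c G].left.base t)))
      (Algebra.TensorProduct.lid (AlgebraicClosure k)
        ((Red.bc c G).left.presheaf.stalk (η[Red.bc c G].left.base t))).injective
  obtain ⟨x', hx'⟩ := h1
  have H : IsPullback (pullback.fst G.hom c) (Red.bc c G).hom G.hom c := .of_hasPullback _ _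
  haveI : Flat c := by
    rw [hc, HasRingHomProperty.Spec_iff (P := @Flat)]
    exact (RingHom.flat_algebraMap_iff).mpr inferInstance
  have hloc := Groth.Agent.Helper16.SmoothLocusBC.smoothLocus_eq_preimage_of_flat H
  apply Groth.Agent.Helper16.GrpSm.smooth_of_smoothLocus_nonempty G
  refine ⟨pullback.fst G.hom c x', ?_⟩
  rw [SetLike.mem_coe, hloc] at hx'
  exact hx'

end Groth.Agent.S14588
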