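import Groth.Statements.S14596
import Groth.Agent.Lib.Helper7.FinQuotC
import Groth.Agent.Lib.Helper7.FinQuotD
import Groth.Agent.Lib.Helper7.FinQuotE
import Groth.Agent.Lib.Helper7.LimComp2

set_option autoImplicit false
universe u
open CategoryTheory MonoidalCategory CartesianMonoidalCategory MonObj GrpObj AlgebraicGeometry CategoryTheory.Limits
open AlgGrp

namespace Groth.Agent.S14596

/-- Let k be a perfect field, G a k-group scheme of finite type and r₀ : G⁰_red → G the reduced neutral
component of G, i.e. a homomorphism and closed immersion from a reduced k-group scheme whose image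
is the connected component of the identity. Then the homogeneous space G/G⁰_red is finite, and
G⁰_red is the smallest closed subgroup scheme H of G such that G/H is finite: every such H contains
G⁰_red. -/
theorem result (k : Type u) [Field k] [PerfectField k]
    (G G₀ : Over (Spec (CommRingCat.of k))) [GrpObj G] [GrpObj G₀] [LocallyOfFiniteType G.hom] [QuasiCompact G.hom]
    [LocallyOfFiniteType G₀.hom] [QuasiCompact G₀.hom]
    (r₀ : G₀ ⟶ G) [IsMonHom r₀] [IsClosedImmersion r₀.left] [IsReduced G₀.left] (t : ↥((𝟙_ (Over (Spec (CommRingCat.of k)))).left))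
    (hr₀ : Set.range ⇑r₀.left.base = connectedComponent ((η[G]).left.base t)) :
    (∀ (X : Over (Spec (CommRingCat.of k))) (a : AlgGrp.Action G X) (o : 𝟙_ (Over (Spec (CommRingCat.of k))) ⟶ X), AGF.IsQuotient r₀ X a o → IsFinite X.hom) ∧
    ∀ (H : Over (Spec (CommRingCat.of k))) [GrpObj H] (h : H ⟶ G) [IsMonHom h] [IsClosedImmersion h.left]
      (X : Over (Spec (CommRingCat.of k))) (a : AlgGrp.Action G X) (o : 𝟙_ (Over (Spec (CommRingCat.of k))) ⟶ X),
      AGF.IsQuotient h X a o → IsFinite X.hom → ∃ g : G₀ ⟶ H, g ≫ h = r₀ := by
  haveI : IsLocallyNoetherian G.left := LocallyOfFiniteType.isLocallyNoetherian G.hom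
  haveI : CompactSpace G.left := QuasiCompact.compactSpace_of_compactSpace G.hom
  haveI : IsNoetherian G.left := {}
  have hU : IsOpen (Set.range r₀.left.base) := by
    rw [hr₀]
    exact Groth.Agent.Helper7.LimBC.isOpen_connectedComponent_of_noetherianSpace _
  constructor
  · intro X a o hX
    haveI : LocallyOfFiniteType X.hom := hX.1
    haveI : Flat (a.orbitMap o).left := hX.2.1
    haveI : Surjective (a.orbitMap o).left := hX.2.2.1
    haveI : IsLocallyNoetherian X.left := LocallyOfFiniteType.isLocallyNoetherian X.hom
    haveI : LocallyOfFiniteType ((a.orbitMap o).left ≫ X.hom) := by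
      rw [Over.w]; infer_instance
    haveI : LocallyOfFiniteType (a.orbitMap o).left := locallyOfFiniteType_of_comp _ X.hom
    haveI : LocallyOfFinitePresentation (a.orbitMap o).left :=
      LocallyOfFinitePresentation.iff_locallyOfFiniteType.mpr inferInstance
    exact Groth.Agent.Helper7.FinQuot.isFinite_of_locally_const G.hom X.hom (a.orbitMap o).left
      (a.orbitMap o).left.isOpenMap
      (fun y => Groth.Agent.Helper7.FinQuot.locally_const r₀ (a.orbitMap o) hX.2.2.2.w hU y)
  · intro H _ h _ _ X a o hX hfin
    haveI := hfin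
    exact Groth.Agent.Helper7.FinQuot.exists_factor_of_finite_quotient r₀ t hr₀ h
      (a.orbitMap o) hX.2.2.2

end Groth.Agent.S14596
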