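import Groth.Statements.S14606
import Mathlib

set_option autoImplicit false
universe u
open FrobAlg

namespace Groth.Agent.S14606

open scoped TensorProduct

/-- Let k be a field of characteristic p > 0 and R a finitely generated commutative k-algebra. The
scheme-theoretic image of the n-th relative Frobenius morphism of Spec R is the spectrum of the
k-subalgebra k[R^(p^n)] generated by all p^n-th powers; for n large enough this image is
geometrically reduced: there is an n such that k[R^(p^n)] is a geometrically reduced k-algebra.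
(Stated in affine, ring-theoretic form.) -/
theorem result (k : Type u) [Field k] (p : ℕ) [Fact p.Prime] [CharP k p]
    (R : Type u) [CommRing R] [Algebra k R] [Algebra.FiniteType k R] :
    ∃ n : ℕ, Algebra.IsGeometricallyReduced k ↥(Algebra.adjoin k (Set.range (fun x : R => x ^ (p ^ n)))) := by
  classical
  haveI : IsNoetherianRing (AlgebraicClosure k ⊗[k] R) :=
    Algebra.FiniteType.isNoetherianRing (AlgebraicClosure k) _
  obtain ⟨m, hm⟩ := IsNoetherianRing.isNilpotent_nilradical (AlgebraicClosure k ⊗[k] R)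
  refine ⟨m, ?_⟩
  have hp : p.Prime := Fact.out
  have hle : m ≤ p ^ m := (Nat.lt_pow_self hp.one_lt).le
  have hq0 : p ^ m ≠ 0 := pow_ne_zero _ hp.ne_zero
  rw [Algebra.isGeometricallyReduced_field_iff]
  have hadd : ∀ x y : AlgebraicClosure k ⊗[k] R,
      (x + y) ^ p ^ m = x ^ p ^ m + y ^ p ^ m := by
    intro x y
    rcases subsingleton_or_nontrivial (AlgebraicClosure k ⊗[k] R) with hs | hn
    · exact Subsingleton.elim _ _
    · haveI : CharP (AlgebraicClosure k) p :=
        charP_of_injective_algebraMap (algebraMap k (AlgebraicClosure k)).injective p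
      haveI : CharP (AlgebraicClosure k ⊗[k] R) p :=
        charP_of_injective_algebraMap
          (algebraMap (AlgebraicClosure k) (AlgebraicClosure k ⊗[k] R)).injective p
      exact add_pow_char_pow x y p m
  have hspan : ∀ b : Algebra.adjoin k (Set.range (fun x : R => x ^ (p ^ m))),
      (b : R) ∈ Submodule.span k (Set.range (fun x : R => x ^ (p ^ m))) := by
    intro b
    have h1 : (b : R) ∈ Subalgebra.toSubmodule
        (Algebra.adjoin k (Set.range (fun x : R => x ^ (p ^ m)))) := b.2
    rw [Algebra.adjoin_eq_span] at h1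
    have h2 : (Submonoid.closure (Set.range (fun x : R => x ^ (p ^ m))) : Set R) =
        Set.range (fun x : R => x ^ (p ^ m)) := by
      have h3 : Set.range (fun x : R => x ^ (p ^ m)) =
          ((MonoidHom.mrange (powMonoidHom (p ^ m) : R →* R) : Submonoid R) : Set R) := by
        ext y; simp [MonoidHom.mem_mrange]
      rw [h3, Submonoid.closure_eq]
    rw [h2] at h1
    exact h1
  have hP : ∀ r ∈ Submodule.span k (Set.range (fun x : R => x ^ (p ^ m))),
      ∀ c : AlgebraicClosure k, ∃ z : AlgebraicClosure k ⊗[k] R, c ⊗ₜ[k] r = z ^ p ^ m := by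
    intro r hr
    refine Submodule.span_induction ?_ ?_ ?_ ?_ hr
    · rintro _ ⟨x, rfl⟩ c
      obtain ⟨c', hc'⟩ := IsAlgClosed.exists_pow_nat_eq c (Nat.pos_of_ne_zero hq0)
      refine ⟨c' ⊗ₜ x, ?_⟩
      show c ⊗ₜ[k] (x ^ p ^ m) = _
      rw [Algebra.TensorProduct.tmul_pow, hc']
    · intro c; exact ⟨0, by rw [TensorProduct.tmul_zero, zero_pow hq0]⟩
    · intro r1 r2 _ _ h1 h2 c
      obtain ⟨z1, hz1⟩ := h1 c
      obtain ⟨z2, hz2⟩ := h2 c
      exact ⟨z1 + z2, by rw [TensorProduct.tmul_add, hz1, hz2, hadd]⟩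
    · intro a r _ h1 c
      obtain ⟨z, hz⟩ := h1 (a • c)
      exact ⟨z, by rw [TensorProduct.tmul_smul, TensorProduct.smul_tmul', hz]⟩
  have hι : Function.Injective (Algebra.TensorProduct.map (AlgHom.id (AlgebraicClosure k)
      (AlgebraicClosure k)) (Algebra.adjoin k (Set.range (fun x : R => x ^ (p ^ m)))).val) :=
    Module.Flat.lTensor_preserves_injective_linearMap (M := AlgebraicClosure k)
      (Algebra.adjoin k (Set.range (fun x : R => x ^ (p ^ m)))).val.toLinearMap
      Subtype.val_injective
  have hC : ∀ w : AlgebraicClosure k ⊗[k]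
      (Algebra.adjoin k (Set.range (fun x : R => x ^ (p ^ m)))),
      ∃ z : AlgebraicClosure k ⊗[k] R,
        Algebra.TensorProduct.map (AlgHom.id (AlgebraicClosure k) (AlgebraicClosure k))
          (Algebra.adjoin k (Set.range (fun x : R => x ^ (p ^ m)))).val w = z ^ p ^ m := by
    intro w
    induction w using TensorProduct.induction_on with
    | zero => exact ⟨0, by rw [map_zero, zero_pow hq0]⟩
    | tmul c b =>
      obtain ⟨z, hz⟩ := hP (b : R) (hspan b) c
      exact ⟨z, by rw [← hz]; rfl⟩
    | add w1 w2 h1 h2 =>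
      obtain ⟨z1, hz1⟩ := h1
      obtain ⟨z2, hz2⟩ := h2
      exact ⟨z1 + z2, by rw [map_add, hz1, hz2, hadd]⟩
  refine ⟨fun w hw => ?_⟩
  obtain ⟨z, hz⟩ := hC w
  have hnil := hw.map (Algebra.TensorProduct.map (AlgHom.id (AlgebraicClosure k)
      (AlgebraicClosure k)) (Algebra.adjoin k (Set.range (fun x : R => x ^ (p ^ m)))).val)
  rw [hz] at hnil
  have hznil : IsNilpotent z := (IsNilpotent.pow_iff_pos hq0).mp hnil
  have h1 : z ^ p ^ m ∈ nilradical (AlgebraicClosure k ⊗[k] R) ^ m :=
    Ideal.pow_le_pow_right hle (Ideal.pow_mem_pow (mem_nilradical.mpr hznil) _)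
  rw [hm] at h1
  have h2 : Algebra.TensorProduct.map (AlgHom.id (AlgebraicClosure k) (AlgebraicClosure k))
      (Algebra.adjoin k (Set.range (fun x : R => x ^ (p ^ m)))).val w = 0 := by
    rw [hz]; exact h1
  exact hι (by rw [h2, map_zero])

end Groth.Agent.S14606
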