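import Groth.Statements.S14608
import Mathlib

set_option autoImplicit false
universe u v
open CAlg

namespace Groth.Agent.S14608

open TensorProduct in
/-- comparison equivalence `κ ⊗[A] X ≃ κ ⊗[A_p] X_p`. -/
noncomputable def theta {A : Type*} [CommRing A] (p : Ideal A) [p.IsPrime]
    (X : Type*) [AddCommGroup X] [Module A X] :
    p.ResidueField ⊗[A] X ≃ₗ[Localization.AtPrime p]
      p.ResidueField ⊗[Localization.AtPrime p] (LocalizedModule p.primeCompl X) :=
  ((LocalizedModule.isBaseChange p.primeCompl X).tensorEquiv p.ResidueField).symm

open TensorProduct in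
lemma theta_tmul {A : Type*} [CommRing A] (p : Ideal A) [p.IsPrime]
    (X : Type*) [AddCommGroup X] [Module A X] (c : p.ResidueField) (x : X) :
    theta p X (c ⊗ₜ x) = c ⊗ₜ (LocalizedModule.mkLinearMap p.primeCompl X x) := by
  rw [theta, LinearEquiv.symm_apply_eq]
  simp only [IsBaseChange.tensorEquiv, LinearEquiv.trans_apply, LinearEquiv.lTensor_tmul,
    IsBaseChange.equiv_symm_apply, TensorProduct.AlgebraTensorModule.cancelBaseChange_tmul, one_smul]

open TensorProduct in
lemma theta_nat {A : Type*} [CommRing A] (p : Ideal A) [p.IsPrime]
    {X Y : Type*} [AddCommGroup X] [Module A X] [AddCommGroup Y] [Module A Y]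
    (u : X →ₗ[A] Y) (z : p.ResidueField ⊗[A] X) :
    (LocalizedModule.map p.primeCompl u).lTensor p.ResidueField (theta p X z) =
      theta p Y (u.lTensor p.ResidueField z) := by
  induction z using TensorProduct.induction_on with
  | zero => simp
  | tmul c x =>
    rw [theta_tmul, LinearMap.lTensor_tmul, LinearMap.lTensor_tmul, theta_tmul]
    congr 1
    simp [LocalizedModule.mkLinearMap_apply]
  | add a b ha hb => simp only [map_add, ha, hb]

lemma inj_iff {A : Type*} [CommRing A] (p : Ideal A) [p.IsPrime]
    {X Y : Type*} [AddCommGroup X] [Module A X] [AddCommGroup Y] [Module A Y]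
    (u : X →ₗ[A] Y) :
    Function.Injective (u.lTensor p.ResidueField) ↔
      Function.Injective ((LocalizedModule.map p.primeCompl u).lTensor p.ResidueField) := by
  constructor
  · intro h w w' hww
    obtain ⟨z, rfl⟩ := (theta p X).surjective w
    obtain ⟨z', rfl⟩ := (theta p X).surjective w'
    rw [theta_nat, theta_nat] at hww
    rw [h ((theta p Y).injective hww)]
  · intro h z z' hzz
    apply (theta p X).injective
    apply h
    rw [theta_nat, theta_nat, hzz]

lemma exists_retraction {R' X' X X'' : Type*} [CommRing R'] [AddCommGroup X'] [Module R' X']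
    [AddCommGroup X] [Module R' X] [AddCommGroup X''] [Module R' X'']
    (u : X' →ₗ[R'] X) (v : X →ₗ[R'] X'') (hu : Function.Injective u)
    (hv : Function.Surjective v) (hex : Function.Exact u v) [Module.Projective R' X''] :
    ∃ r : X →ₗ[R'] X', r ∘ₗ u = LinearMap.id := by
  have h := (Function.Exact.split_tfae hex hu hv).out 0 1
  exact h.mp (Module.projective_lifting_property v LinearMap.id hv)

lemma lTensor_inj_of_retr {R' X' X : Type*} [CommRing R'] [AddCommGroup X'] [Module R' X']
    [AddCommGroup X] [Module R' X] (N : Type*) [AddCommGroup N] [Module R' N]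
    (u : X' →ₗ[R'] X) (r : X →ₗ[R'] X') (hr : r ∘ₗ u = LinearMap.id) :
    Function.Injective (u.lTensor N) := by
  have h : r.lTensor N ∘ₗ u.lTensor N = .id := by
    rw [← LinearMap.lTensor_comp, hr, LinearMap.lTensor_id]
  exact Function.HasLeftInverse.injective ⟨_, LinearMap.congr_fun h⟩

lemma loc_exact {A : Type*} [CommRing A] (S : Submonoid A)
    {X Y Z : Type*} [AddCommGroup X] [Module A X] [AddCommGroup Y] [Module A Y]
    [AddCommGroup Z] [Module A Z] (f : X →ₗ[A] Y) (g : Y →ₗ[A] Z) (h : Function.Exact f g) :
    Function.Exact (LocalizedModule.map S f) (LocalizedModule.map S g) :=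
  LocalizedModule.map_exact S f g h

/-- L1 -/
lemma free_quot_of_inj {A : Type*} [CommRing A] (p : Ideal A) [p.IsPrime]
    {F : Type*} [AddCommGroup F] [Module A F] [Module.Finite A F] [Module.Free A F]
    (I : Submodule A F) [Module.Finite A I]
    (h : Function.Injective (I.subtype.lTensor p.ResidueField)) :
    Module.Free (Localization.AtPrime p) (LocalizedModule p.primeCompl (F ⧸ I)) := by
  have h' := (inj_iff p I.subtype).mp h
  haveI : Module.Free (Localization.AtPrime p) (LocalizedModule p.primeCompl F) :=
    Module.free_of_isLocalizedModule p.primeCompl (LocalizedModule.mkLinearMap p.primeCompl F)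
  exact Module.free_of_lTensor_residueField_injective
    (LocalizedModule.map p.primeCompl I.subtype) (LocalizedModule.map p.primeCompl I.mkQ)
    (LocalizedModule.map_surjective p.primeCompl _ I.mkQ_surjective)
    (loc_exact p.primeCompl _ _ (LinearMap.exact_subtype_mkQ I)) h'

/-- L2 -/
lemma of_free_quot {A : Type*} [CommRing A] (p : Ideal A) [p.IsPrime]
    {F : Type*} [AddCommGroup F] [Module A F] [Module.Finite A F] [Module.Free A F]
    (I : Submodule A F) [Module.Finite A I]
    (h : Module.Free (Localization.AtPrime p) (LocalizedModule p.primeCompl (F ⧸ I))) :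
    Function.Injective (I.subtype.lTensor p.ResidueField) ∧
      Module.Projective (Localization.AtPrime p) (LocalizedModule p.primeCompl I) ∧
      Module.Free (Localization.AtPrime p) (LocalizedModule p.primeCompl I) := by
  haveI : Module.Free (Localization.AtPrime p) (LocalizedModule p.primeCompl F) :=
    Module.free_of_isLocalizedModule p.primeCompl (LocalizedModule.mkLinearMap p.primeCompl F)
  obtain ⟨r, hr⟩ := exists_retraction
    (LocalizedModule.map p.primeCompl I.subtype) (LocalizedModule.map p.primeCompl I.mkQ)
    (LocalizedModule.map_injective p.primeCompl _ I.injective_subtype)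
    (LocalizedModule.map_surjective p.primeCompl _ I.mkQ_surjective)
    (loc_exact p.primeCompl _ _ (LinearMap.exact_subtype_mkQ I))
  have hproj : Module.Projective (Localization.AtPrime p) (LocalizedModule p.primeCompl I) :=
    Module.Projective.of_split _ r hr
  refine ⟨(inj_iff p I.subtype).mpr (lTensor_inj_of_retr _ _ r hr), hproj, ?_⟩
  exact Module.free_of_flat_of_isLocalRing

/-- L3 -/
lemma inj_of_proj {A : Type*} [CommRing A] (p : Ideal A) [p.IsPrime]
    {M I : Type*} [AddCommGroup M] [Module A M] [AddCommGroup I] [Module A I]
    (K : Submodule A M) (rr : M →ₗ[A] I) (hrr : Function.Surjective rr)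
    (hex : Function.Exact K.subtype rr)
    [Module.Projective (Localization.AtPrime p) (LocalizedModule p.primeCompl I)] :
    Function.Injective (K.subtype.lTensor p.ResidueField) := by
  obtain ⟨r, hr⟩ := exists_retraction
    (LocalizedModule.map p.primeCompl K.subtype) (LocalizedModule.map p.primeCompl rr)
    (LocalizedModule.map_injective p.primeCompl _ K.injective_subtype)
    (LocalizedModule.map_surjective p.primeCompl _ hrr)
    (loc_exact p.primeCompl _ _ hex)
  exact (inj_iff p K.subtype).mpr (lTensor_inj_of_retr _ _ r hr)


open TensorProduct in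
/-- Let A be a Noetherian ring, M a finitely generated A-module, F a finitely generated free A-module, δ
: M → F an A-linear map and p a prime of A with residue field κ(p). The following are equivalent:
(a) the natural map (ker δ) ⊗ κ(p) → ker(δ ⊗ κ(p)) is surjective (its image is the whole kernel);
(b) that map is bijective; (c) (F / im δ) localized at p is a free module over the local ring A_p.
Moreover, if these hold then (im δ) localized at p is free over A_p. (The published statement takes
M to be the cokernel of a map of finitely generated free modules; over a Noetherian ring this is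
every finitely generated M, which is what this row takes.) -/
theorem result (A : Type u) [CommRing A] [IsNoetherianRing A]
    (M : Type v) (F : Type v) [AddCommGroup M] [Module A M] [Module.Finite A M]
    [AddCommGroup F] [Module A F] [Module.Finite A F] [Module.Free A F]
    (δ : M →ₗ[A] F) (p : Ideal A) [p.IsPrime] :
    [ Function.Exact (LinearMap.lTensor p.ResidueField (LinearMap.ker δ).subtype)
        (LinearMap.lTensor p.ResidueField δ),
      Function.Exact (LinearMap.lTensor p.ResidueField (LinearMap.ker δ).subtype)
        (LinearMap.lTensor p.ResidueField δ) ∧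
        Function.Injective (LinearMap.lTensor p.ResidueField (LinearMap.ker δ).subtype),
      Module.Free (Localization.AtPrime p)
        (LocalizedModule p.primeCompl (F ⧸ LinearMap.range δ)) ].TFAE ∧
    (Function.Exact (LinearMap.lTensor p.ResidueField (LinearMap.ker δ).subtype)
        (LinearMap.lTensor p.ResidueField δ) →
      Module.Free (Localization.AtPrime p)
        (LocalizedModule p.primeCompl (LinearMap.range δ))) := by
  classical
  have hrr_surj : Function.Surjective δ.rangeRestrict := LinearMap.surjective_rangeRestrict δ
  have hcomp : (LinearMap.range δ).subtype ∘ₗ δ.rangeRestrict = δ := by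
    ext x; rfl
  have hex1 : Function.Exact (LinearMap.ker δ).subtype δ.rangeRestrict := by
    intro y
    constructor
    · intro hy
      have hy' : y ∈ LinearMap.ker δ := by
        rw [LinearMap.mem_ker]
        exact congrArg Subtype.val hy
      exact ⟨⟨y, hy'⟩, rfl⟩
    · rintro ⟨⟨y', hy'⟩, rfl⟩
      apply Subtype.ext
      exact hy'
  have hT_ex : Function.Exact ((LinearMap.ker δ).subtype.lTensor p.ResidueField)
      (δ.rangeRestrict.lTensor p.ResidueField) := lTensor_exact p.ResidueField hex1 hrr_surj
  have hT_surj : Function.Surjective (δ.rangeRestrict.lTensor p.ResidueField) :=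
    LinearMap.lTensor_surjective p.ResidueField hrr_surj
  have hT_comp : ∀ y, δ.lTensor p.ResidueField y =
      (LinearMap.range δ).subtype.lTensor p.ResidueField
        (δ.rangeRestrict.lTensor p.ResidueField y) := by
    intro y
    rw [← LinearMap.comp_apply, ← LinearMap.lTensor_comp, hcomp]
  have ha_iff : Function.Exact (LinearMap.lTensor p.ResidueField (LinearMap.ker δ).subtype)
        (LinearMap.lTensor p.ResidueField δ) ↔
      Function.Injective ((LinearMap.range δ).subtype.lTensor p.ResidueField) := by
    constructor
    · intro ha
      rw [injective_iff_map_eq_zero]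
      intro w hw
      obtain ⟨y, rfl⟩ := hT_surj w
      have h1 : δ.lTensor p.ResidueField y = 0 := by rw [hT_comp]; exact hw
      have h2 := (ha y).mp h1
      exact (hT_ex y).mpr h2
    · intro hinj y
      rw [← hT_ex y, hT_comp]
      constructor
      · intro h; exact hinj (by rw [h, map_zero])
      · intro h; rw [h, map_zero]
  refine ⟨?_, ?_⟩
  · tfae_have 1 → 3 := fun ha => free_quot_of_inj p _ (ha_iff.mp ha)
    tfae_have 3 → 2 := by
      intro hc
      obtain ⟨h1, h2, _⟩ := of_free_quot p _ hc
      haveI := h2
      exact ⟨ha_iff.mpr h1, inj_of_proj p (LinearMap.ker δ) δ.rangeRestrict hrr_surj hex1⟩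
    tfae_have 2 → 1 := fun hb => hb.1
    tfae_finish
  · intro ha
    exact (of_free_quot p _ (free_quot_of_inj p _ (ha_iff.mp ha))).2.2

end Groth.Agent.S14608
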