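import Groth.Statements.S14610
import Mathlib
import Groth.Agent.Lib.Helper22.FibDim
import Groth.Agent.Lib.Helper12.RedConst

set_option autoImplicit false
universe u v
open CAlg

namespace Groth.Agent.S14610

lemma exists_retraction {R' X' X X'' : Type*} [CommRing R'] [AddCommGroup X'] [Module R' X']
    [AddCommGroup X] [Module R' X] [AddCommGroup X''] [Module R' X'']
    (u : X' →ₗ[R'] X) (v : X →ₗ[R'] X'') (hu : Function.Injective u)
    (hv : Function.Surjective v) (hex : Function.Exact u v) [Module.Projective R' X''] :
    ∃ r : X →ₗ[R'] X', r ∘ₗ u = LinearMap.id := by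
  have h := (Function.Exact.split_tfae hex hu hv).out 0 1
  exact h.mp (Module.projective_lifting_property v LinearMap.id hv)

lemma rTensor_inj_of_retr {R' X' X : Type*} [CommRing R'] [AddCommGroup X'] [Module R' X']
    [AddCommGroup X] [Module R' X] (N : Type*) [AddCommGroup N] [Module R' N]
    (u : X' →ₗ[R'] X) (r : X →ₗ[R'] X') (hr : r ∘ₗ u = LinearMap.id) :
    Function.Injective (u.rTensor N) := by
  have h : r.rTensor N ∘ₗ u.rTensor N = .id := by
    rw [← LinearMap.rTensor_comp, hr, LinearMap.rTensor_id]
  exact Function.HasLeftInverse.injective ⟨_, LinearMap.congr_fun h⟩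


open TensorProduct in
/-- Let A be a reduced Noetherian ring, M a finitely generated A-module, F a finitely generated free
A-module and δ : M → F an A-linear map such that the function p ↦ dim_{κ(p)} ker(δ ⊗ κ(p)) is
locally constant on Spec A. Then M, ker δ and coker δ = F / im δ are projective A-modules, and for
every A-module N the natural map (ker δ) ⊗ N → M ⊗ N is injective with image equal to the kernel of
δ ⊗ N. -/
theorem result (A : Type u) [CommRing A]
    [IsNoetherianRing A] [IsReduced A] (M : Type v) (F : Type v) [AddCommGroup M] [Module A M]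
    [Module.Finite A M] [AddCommGroup F] [Module A F] [Module.Finite A F] [Module.Free A F]
    (δ : M →ₗ[A] F)
    (h : IsLocallyConstant (fun x : PrimeSpectrum A =>
      Module.finrank x.asIdeal.ResidueField
        (LinearMap.ker (δ.baseChange x.asIdeal.ResidueField)))) :
    Module.Projective A M ∧ Module.Projective A (LinearMap.ker δ) ∧
      Module.Projective A (F ⧸ LinearMap.range δ) ∧
      ∀ (N : Type v) [AddCommGroup N] [Module A N],
        Function.Injective (LinearMap.rTensor N (LinearMap.ker δ).subtype) ∧
        Function.Exact (LinearMap.rTensor N (LinearMap.ker δ).subtype) (LinearMap.rTensor N δ) := by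
  classical
  obtain ⟨hm, hq⟩ := Groth.Agent.Helper22.FibDim.isLocallyConstant_of_ker δ h
  haveI : Module.FinitePresentation A M := Module.finitePresentation_of_finite A M
  haveI : Module.FinitePresentation A (F ⧸ LinearMap.range δ) :=
    Module.finitePresentation_of_finite A _
  have hMproj : Module.Projective A M :=
    Groth.Agent.Helper12.RedConst.projective_of_isLocallyConstant hm
  have hQproj : Module.Projective A (F ⧸ LinearMap.range δ) :=
    Groth.Agent.Helper12.RedConst.projective_of_isLocallyConstant hq
  have hrr_surj : Function.Surjective δ.rangeRestrict := LinearMap.surjective_rangeRestrict δ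
  have hcomp : (LinearMap.range δ).subtype ∘ₗ δ.rangeRestrict = δ := by
    ext x; rfl
  have hex1 : Function.Exact (LinearMap.ker δ).subtype δ.rangeRestrict := by
    intro y
    constructor
    · intro hy
      have hy' : y ∈ LinearMap.ker δ := by
        rw [LinearMap.mem_ker]
        exact congrArg Subtype.val hy
      exact ⟨⟨y, hy'⟩, rfl⟩
    · rintro ⟨⟨y', hy'⟩, rfl⟩
      apply Subtype.ext
      exact hy'
  obtain ⟨ρ, hρ⟩ := exists_retraction (LinearMap.range δ).subtype (LinearMap.range δ).mkQ
    (Submodule.injective_subtype _) (Submodule.mkQ_surjective _)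
    (LinearMap.exact_subtype_mkQ _)
  haveI hIproj : Module.Projective A (LinearMap.range δ) := Module.Projective.of_split _ ρ hρ
  obtain ⟨σ, hσ⟩ := exists_retraction (LinearMap.ker δ).subtype δ.rangeRestrict
    (Submodule.injective_subtype _) hrr_surj hex1
  have hKproj : Module.Projective A (LinearMap.ker δ) := Module.Projective.of_split _ σ hσ
  refine ⟨hMproj, hKproj, hQproj, ?_⟩
  intro N _ _
  have hinjK : Function.Injective ((LinearMap.ker δ).subtype.rTensor N) :=
    rTensor_inj_of_retr N _ σ hσ
  have hinjI : Function.Injective ((LinearMap.range δ).subtype.rTensor N) :=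
    rTensor_inj_of_retr N _ ρ hρ
  have hT_ex : Function.Exact ((LinearMap.ker δ).subtype.rTensor N)
      (δ.rangeRestrict.rTensor N) := rTensor_exact N hex1 hrr_surj
  have hT_comp : ∀ y, δ.rTensor N y =
      (LinearMap.range δ).subtype.rTensor N (δ.rangeRestrict.rTensor N y) := by
    intro y
    rw [← LinearMap.comp_apply, ← LinearMap.rTensor_comp, hcomp]
  refine ⟨hinjK, ?_⟩
  intro y
  rw [← hT_ex y, hT_comp]
  constructor
  · intro h'; exact hinjI (by rw [h', map_zero])
  · intro h'; rw [h', map_zero]

end Groth.Agent.S14610
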