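import Groth.Statements.S14612
import Mathlib

set_option autoImplicit false
universe u
open FlatCx

namespace Groth.Agent.S14612

theorem flat_of_exact {R M N P : Type*} [CommRing R] [AddCommGroup M] [AddCommGroup N]
    [AddCommGroup P] [Module R M] [Module R N] [Module R P] [Module.Flat R N] [Module.Flat R P]
    (g : M →ₗ[R] N) (f : N →ₗ[R] P) (hg : Function.Injective g) (hf : Function.Surjective f)
    (H : Function.Exact g f) : Module.Flat R M := by
  rw [Module.Flat.iff_rTensor_injective']
  intro I
  have h1 : Function.Injective (g.lTensor I) :=
    LinearMap.lTensor_injective_of_exact_of_flat f hf g hg H I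
  have h2 : Function.Injective (LinearMap.rTensor N I.subtype) :=
    Module.Flat.rTensor_preserves_injective_linearMap _ I.injective_subtype
  have h3 : (g.lTensor R).comp (LinearMap.rTensor M I.subtype) =
      (LinearMap.rTensor N I.subtype).comp (g.lTensor I) := by
    apply TensorProduct.ext'
    intro x m
    simp
  have h4 : Function.Injective ((g.lTensor R).comp (LinearMap.rTensor M I.subtype)) := by
    rw [h3]; exact h2.comp h1
  rw [LinearMap.coe_comp] at h4
  exact Function.Injective.of_comp h4

open CategoryTheory CategoryTheory.Limits in
theorem cycles_flat (A : Type u) [CommRing A] (F : CochainComplex (ModuleCat.{u} A) ℤ)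
    (hF : ∀ i, Module.Flat A (F.X i)) (b d : ℤ) (hb : ∀ i, b < i → IsZero (F.X i))
    (hac : ∀ p, d < p → IsZero (F.homology p)) :
    ∀ (k : ℕ) (p : ℤ), b < p + k → d ≤ p → Module.Flat A (F.cycles p) := by
  intro k
  induction k with
  | zero =>
    intro p hp _
    have hz : IsZero (F.X p) := hb p (by simpa using hp)
    have hz' : IsZero (F.cycles p) := IsZero.of_mono (F.iCycles p) hz
    haveI : Subsingleton (F.cycles p) := ModuleCat.subsingleton_of_isZero hz'
    infer_instance
  | succ k ih =>
    intro p hp hd
    have hflat1 : Module.Flat A (F.cycles (p + 1)) :=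
      ih (p + 1) (by push_cast at hp ⊢; omega) (by omega)
    have hflat0 := hF p
    have hepi : Epi (F.toCycles p (p + 1)) := by
      have hi : (ComplexShape.up ℤ).prev (p + 1) = p := by rw [CochainComplex.prev]; ring
      exact Preadditive.epi_of_isZero_cokernel' _ (F.homologyIsCokernel p (p + 1) hi)
        (hac (p + 1) (by omega))
    have hsurj : Function.Surjective (F.toCycles p (p + 1)).hom :=
      (ModuleCat.epi_iff_surjective _).mp hepi
    have hinj : ∀ q, Function.Injective (F.iCycles q).hom :=
      fun q => (ModuleCat.mono_iff_injective _).mp inferInstance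
    have hker : LinearMap.range (F.iCycles p).hom = LinearMap.ker (F.d p (p + 1)).hom := by
      have hj : (ComplexShape.up ℤ).next p = p + 1 := CochainComplex.next ℤ p
      exact (ShortComplex.exact_of_f_is_kernel
        (ShortComplex.mk (F.iCycles p) (F.d p (p+1)) (F.iCycles_d p (p+1)))
        (F.cyclesIsKernel p (p + 1) hj)).moduleCat_range_eq_ker
    have hex : Function.Exact (F.iCycles p).hom (F.toCycles p (p + 1)).hom := by
      intro x
      have hx : (F.toCycles p (p + 1)).hom x = 0 ↔ (F.d p (p+1)).hom x = 0 := by
        rw [← F.toCycles_i p (p + 1)]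
        simp only [ModuleCat.hom_comp, LinearMap.comp_apply]
        constructor
        · intro h; rw [h, map_zero]
        · intro h; exact hinj (p+1) (by rw [h, map_zero])
      rw [hx, ← LinearMap.mem_ker, ← hker]
      rfl
    exact flat_of_exact (F.iCycles p).hom (F.toCycles p (p + 1)).hom (hinj p) hsurj hex


open CategoryTheory CategoryTheory.Limits in
/-- Let A be a commutative ring and F a cochain complex of flat A-modules which is bounded above (F^i =
0 for all large i) and whose cohomology H^p(F) vanishes for every p > d. Then the module of
d-cocycles Z^d = ker(F^d → F^{d+1}) is flat over A; hence the truncation τ_{≤ d} F is again a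
complex of flat modules (and τ_{≤ d} F → F is a quasi-isomorphism, which is not restated).
Boundedness cannot be dropped. -/
theorem result (A : Type u) [CommRing A]
    (F : CochainComplex (ModuleCat.{u} A) ℤ) (hF : ∀ i, Module.Flat A (F.X i))
    (hb : ∃ b : ℤ, ∀ i, b < i → IsZero (F.X i)) (d : ℤ) (hac : ∀ p, d < p → IsZero (F.homology p)) :
    Module.Flat A (F.cycles d) := by
  obtain ⟨b, hb⟩ := hb
  have h1 := Int.self_le_toNat (b - d + 1)
  exact cycles_flat A F hF b d hb hac (b - d + 1).toNat d (by omega) le_rfl

end Groth.Agent.S14612
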