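import Groth.Statements.S14613
import Mathlib
import Groth.Agent.Lib.Helper11.TorAmp2

set_option autoImplicit false
universe u
open FlatCx

namespace Groth.Agent.S14613

attribute [local instance] HasDerivedCategory.standard


open CategoryTheory CategoryTheory.Limits in
/-- Let A be a commutative ring (not necessarily Noetherian), C and D cochain complexes of flat
A-modules that are bounded above (zero in all large degrees), φ : C → D a quasi-isomorphism and M an
arbitrary A-module. Then φ ⊗ id_M : C ⊗_A M → D ⊗_A M, the tensor product taken degreewise, is a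
quasi-isomorphism. Boundedness cannot be dropped. -/
theorem result (A : Type u) [CommRing A]
    (C D : CochainComplex (ModuleCat.{u} A) ℤ)
    (hC : ∀ i, Module.Flat A (C.X i)) (hD : ∀ i, Module.Flat A (D.X i))
    (bC : ∃ b : ℤ, ∀ i, b < i → IsZero (C.X i)) (bD : ∃ b : ℤ, ∀ i, b < i → IsZero (D.X i))
    (φ : C ⟶ D) [QuasiIso φ] (M : ModuleCat.{u} A) :
    QuasiIso (((MonoidalCategory.tensorRight M).mapHomologicalComplex (ComplexShape.up ℤ)).map φ) := by
  obtain ⟨bC', hbC⟩ := bC
  obtain ⟨bD', hbD⟩ := bD
  have h := Groth.Agent.Helper11.TA.isIso_Q_map_tens C D bC' bD' hbC hbD hC hD φ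
    (by rw [DerivedCategory.isIso_Q_map_iff_quasiIso]; infer_instance) M
  rw [DerivedCategory.isIso_Q_map_iff_quasiIso] at h
  exact h

end Groth.Agent.S14613
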