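import Groth.Statements.S14615
import Mathlib

set_option autoImplicit false
universe u
open Formal2

namespace Groth.Agent.S14615

private def part {G : ℕ → Type u} [∀ n, AddCommGroup (G n)] (t : ∀ n, G (n + 1) →+ G n)
    (y : ∀ n, G n) : ℕ → ∀ n, G n
  | 0, _ => 0
  | d + 1, n => y n + t n (part t y d (n + 1))


/-- Let … → G_2 → G_1 → G_0 be an inverse system of abelian groups with transition maps t_n : G_{n+1} →
G_n, and suppose that for every i there is j ≥ i such that the composite transition map G_j → G_i is
zero; this is expressed by asking that every sequence (x_n) ∈ ∏ G_n satisfying x_n = t_n(x_{n+1})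
for i ≤ n < j has x_i = 0. Then both lim G_n and lim¹ G_n vanish: the map (x_n) ↦ (x_n −
t_n(x_{n+1})) on ∏ G_n, whose kernel is lim and whose cokernel is lim¹, is injective and surjective. -/
theorem result (G : ℕ → Type u)
    [∀ n, AddCommGroup (G n)] (t : ∀ n, G (n + 1) →+ G n)
    (h : ∀ i : ℕ, ∃ j : ℕ, i ≤ j ∧
      ∀ x : ∀ n, G n, (∀ n, i ≤ n → n < j → x n = t n (x (n + 1))) → x i = 0) :
    Formal2.limZero G t = ⊥ ∧ Function.Surjective (Formal2.towerDiff G t) := by
  choose j hj using h
  constructor
  · rw [AddSubgroup.eq_bot_iff_forall]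
    intro x hx
    rw [AddMonoidHom.mem_ker] at hx
    funext i
    apply (hj i).2 x
    intro n _ _
    have := congrFun hx n
    exact sub_eq_zero.mp this
  · intro y
    have hX : ∀ N n, n < N →
        part t y (N - n) n = y n + t n (part t y (N - (n + 1)) (n + 1)) := by
      intro N n hn
      have : N - n = (N - (n + 1)) + 1 := by omega
      rw [this]; rfl
    have hstab1 : ∀ i N, j i ≤ N → part t y (N + 1 - i) i = part t y (N - i) i := by
      intro i N hN
      have hz := (hj i).2 (fun n => part t y (N + 1 - n) n - part t y (N - n) n) (by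
        intro n hin hnj
        have hnN : n < N := lt_of_lt_of_le hnj hN
        show part t y (N + 1 - n) n - part t y (N - n) n =
          t n (part t y (N + 1 - (n + 1)) (n + 1) - part t y (N - (n + 1)) (n + 1))
        rw [hX (N + 1) n (by omega), hX N n hnN, map_sub]
        abel)
      exact sub_eq_zero.mp hz
    have hstab : ∀ i N, j i ≤ N → part t y (N - i) i = part t y (j i - i) i := by
      intro i N hN
      induction N, hN using Nat.le_induction with
      | base => rfl
      | succ N hN ih => rw [hstab1 i N hN, ih]
    refine ⟨fun i => part t y (j i - i) i, ?_⟩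
    funext n
    show part t y (j n - n) n - t n (part t y (j (n + 1) - (n + 1)) (n + 1)) = y n
    rw [← hstab n (j n + j (n + 1) + n + 1) (by omega),
      ← hstab (n + 1) (j n + j (n + 1) + n + 1) (by omega),
      hX (j n + j (n + 1) + n + 1) n (by omega)]
    abel

end Groth.Agent.S14615
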