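import Groth.Statements.S14616
import Mathlib

set_option autoImplicit false
universe u
open Formal2

namespace Groth.Agent.S14616

section Aux

open CategoryTheory

theorem surj_of_system (G : ℕ → Type u) [∀ n, AddCommGroup (G n)]
    (t : ∀ n, G (n + 1) →+ G n)
    (φ : ∀ k n, n ≤ k → (G k →+ G n))
    (φ1 : ∀ n (x : G n), φ n n le_rfl x = x)
    (φ2 : ∀ m k n (h1 : k ≤ m) (h2 : n ≤ k) (x : G m),
      φ k n h2 (φ m k h1 x) = φ m n (h2.trans h1) x)
    (φ3 : ∀ n (x : G (n+1)), φ (n+1) n (Nat.le_succ n) x = t n x)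
    (ML : ∀ n, ∃ N, ∃ hN : n ≤ N, ∀ k (hk : n ≤ k) (x : G N),
      ∃ y : G k, φ k n hk y = φ N n hN x) :
    Function.Surjective (Formal2.towerDiff G t) := by
  classical
  choose N hN hML using ML
  obtain ⟨S, hS⟩ : ∃ S : ∀ n, AddSubgroup (G n), ∀ n, S n = (φ (N n) n (hN n)).range :=
    ⟨_, fun n => rfl⟩
  have S1 : ∀ n k (hk : N n ≤ k) (x : G k), φ k n ((hN n).trans hk) x ∈ S n := by
    intro n k hk x
    rw [hS]
    exact ⟨φ k (N n) hk x, φ2 k (N n) n hk (hN n) x⟩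
  have S3 : ∀ n (s : G n), s ∈ S n → ∃ s' : G (n+1), s' ∈ S (n+1) ∧ t n s' = s := by
    intro n s hs
    rw [hS] at hs
    obtain ⟨g, hg⟩ := hs
    have hk : n ≤ N (n+1) := (Nat.le_succ n).trans (hN (n+1))
    obtain ⟨y, hy⟩ := hML n (N (n+1)) hk g
    refine ⟨φ (N (n+1)) (n+1) (hN (n+1)) y, ?_, ?_⟩
    · rw [hS]; exact ⟨y, rfl⟩
    · rw [← φ3, φ2, hy, hg]
  have stepB : ∀ r : ∀ n, G n, (∀ n, r n ∈ S n) → ∃ x, Formal2.towerDiff G t x = r := by
    intro r hr
    have key : ∀ n (s : S n), ∃ s' : S (n+1), t n (s' : G (n+1)) = (s : G n) - r n := by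
      intro n s
      obtain ⟨s', hs', h⟩ := S3 n ((s : G n) - r n) ((S n).sub_mem s.2 (hr n))
      exact ⟨⟨s', hs'⟩, h⟩
    choose nxt hnxt using key
    obtain ⟨xs, hxs⟩ : ∃ xs : ∀ n, S n, ∀ n, xs (n+1) = nxt n (xs n) :=
      ⟨fun n => Nat.rec (motive := fun n => S n) (0 : S 0) (fun n s => nxt n s) n, fun n => rfl⟩
    refine ⟨fun n => (xs n : G n), ?_⟩
    ext n
    show (xs n : G n) - t n (xs (n+1) : G (n+1)) = r n
    rw [hxs, hnxt, sub_sub_cancel]
  obtain ⟨M, hM0, hMs⟩ : ∃ M : ℕ → ℕ, M 0 = N 0 + 1 ∧ ∀ n, M (n+1) = max (M n) (N (n+1)) + 1 :=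
    ⟨fun n => Nat.rec (N 0 + 1) (fun n m => max m (N (n+1)) + 1) n, rfl, fun n => rfl⟩
  have hNM : ∀ n, N n ≤ M n := by
    intro n
    cases n with
    | zero => rw [hM0]; omega
    | succ n => rw [hMs]; have := le_max_right (M n) (N (n+1)); omega
  have hMmono : ∀ n, M n ≤ M (n+1) := by
    intro n; rw [hMs]; have := le_max_left (M n) (N (n+1)); omega
  have hMlt : ∀ n, n < M n := by
    intro n
    induction n with
    | zero => rw [hM0]; omega
    | succ n ih => rw [hMs]; have := le_max_left (M n) (N (n+1)); omega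
  intro a
  obtain ⟨term, term_pos⟩ : ∃ term : ∀ n, ℕ → G n, ∀ n k (h : n ≤ k), term n k = φ k n h (a k) :=
    ⟨fun n k => if h : n ≤ k then φ k n h (a k) else 0, fun n k h => dif_pos h⟩
  have term_t : ∀ n k, n + 1 ≤ k → t n (term (n+1) k) = term n k := by
    intro n k h
    rw [term_pos (n+1) k h, term_pos n k ((Nat.le_succ n).trans h), ← φ3, φ2]
  have term_self : ∀ n, term n n = a n := fun n => by rw [term_pos n n le_rfl, φ1]
  have hr : ∀ n, (∑ k ∈ Finset.Ico (M n) (M (n+1)), term n k) ∈ S n := by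
    intro n
    refine AddSubgroup.sum_mem _ (fun k hk => ?_)
    have hk1 : M n ≤ k := (Finset.mem_Ico.mp hk).1
    have hk2 : N n ≤ k := (hNM n).trans hk1
    rw [term_pos n k ((hN n).trans hk2)]
    exact S1 n k hk2 (a k)
  obtain ⟨x', hx'⟩ := stepB (fun n => ∑ k ∈ Finset.Ico (M n) (M (n+1)), term n k) hr
  refine ⟨(fun n => ∑ k ∈ Finset.Ico n (M n), term n k) + x', ?_⟩
  rw [map_add, hx']
  ext n
  show (∑ k ∈ Finset.Ico n (M n), term n k)
      - t n (∑ k ∈ Finset.Ico (n+1) (M (n+1)), term (n+1) k)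
      + ∑ k ∈ Finset.Ico (M n) (M (n+1)), term n k = a n
  have e1 : t n (∑ k ∈ Finset.Ico (n+1) (M (n+1)), term (n+1) k)
      = ∑ k ∈ Finset.Ico (n+1) (M (n+1)), term n k := by
    rw [map_sum]
    exact Finset.sum_congr rfl (fun k hk => term_t n k (Finset.mem_Ico.mp hk).1)
  have e2 : ∑ k ∈ Finset.Ico n (M n), term n k
      = a n + ∑ k ∈ Finset.Ico (n+1) (M n), term n k := by
    rw [Finset.sum_eq_sum_Ico_succ_bot (hMlt n), term_self]
  have e3 : ∑ k ∈ Finset.Ico (n+1) (M (n+1)), term n k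
      = ∑ k ∈ Finset.Ico (n+1) (M n), term n k + ∑ k ∈ Finset.Ico (M n) (M (n+1)), term n k :=
    (Finset.sum_Ico_consecutive _ (Nat.succ_le_of_lt (hMlt n)) (hMmono n)).symm
  rw [e1, e2, e3]
  abel

/-- the tower as a functor -/
noncomputable def Xf (G : ℕ → Type u) [∀ n, AddCommGroup (G n)] (t : ∀ n, G (n + 1) →+ G n) :
    ℕᵒᵖ ⥤ AddCommGrpCat.{u} :=
  Functor.ofOpSequence (X := fun n => AddCommGrpCat.of (G n)) (fun n => AddCommGrpCat.ofHom (t n))

/-- transition maps -/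
noncomputable def phi (G : ℕ → Type u) [∀ n, AddCommGroup (G n)] (t : ∀ n, G (n + 1) →+ G n)
    (k n : ℕ) (h : n ≤ k) : G k →+ G n :=
  ((Xf G t).map (homOfLE h).op).hom

theorem phi1 (G : ℕ → Type u) [∀ n, AddCommGroup (G n)] (t : ∀ n, G (n + 1) →+ G n)
    (n : ℕ) (x : G n) : phi G t n n le_rfl x = x := by
  have h1 : (homOfLE (le_refl n)).op = 𝟙 (Opposite.op n) :=
    Quiver.Hom.unop_inj (Subsingleton.elim _ _)
  have h2 : (Xf G t).map (homOfLE (le_refl n)).op = 𝟙 _ := by rw [h1, CategoryTheory.Functor.map_id]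
  show ((Xf G t).map (homOfLE (le_refl n)).op).hom x = x
  rw [h2]
  rfl

theorem phi2 (G : ℕ → Type u) [∀ n, AddCommGroup (G n)] (t : ∀ n, G (n + 1) →+ G n)
    (m k n : ℕ) (h1 : k ≤ m) (h2 : n ≤ k) (x : G m) :
    phi G t k n h2 (phi G t m k h1 x) = phi G t m n (h2.trans h1) x := by
  have h3 : (homOfLE (h2.trans h1)).op = (homOfLE h1).op ≫ (homOfLE h2).op :=
    Quiver.Hom.unop_inj (Subsingleton.elim _ _)
  have h4 : (Xf G t).map (homOfLE (h2.trans h1)).op
      = (Xf G t).map (homOfLE h1).op ≫ (Xf G t).map (homOfLE h2).op := by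
    rw [h3, CategoryTheory.Functor.map_comp]
  show ((Xf G t).map (homOfLE h2).op).hom (((Xf G t).map (homOfLE h1).op).hom x)
    = ((Xf G t).map (homOfLE (h2.trans h1)).op).hom x
  rw [h4]
  rfl

theorem phi3 (G : ℕ → Type u) [∀ n, AddCommGroup (G n)] (t : ∀ n, G (n + 1) →+ G n)
    (n : ℕ) (x : G (n+1)) : phi G t (n+1) n (Nat.le_succ n) x = t n x := by
  have h1 : (Xf G t).map (homOfLE (Nat.le_add_right n 1)).op = AddCommGrpCat.ofHom (t n) :=
    Functor.ofOpSequence_map_homOfLE_succ _ n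
  show ((Xf G t).map (homOfLE (Nat.le_add_right n 1)).op).hom x = t n x
  rw [h1]
  rfl

theorem ml_of (G : ℕ → Type u) [∀ n, AddCommGroup (G n)] (t : ∀ n, G (n + 1) →+ G n)
    (h : (Xf G t ⋙ forget AddCommGrpCat).IsMittagLeffler) (n : ℕ) :
    ∃ N, ∃ hN : n ≤ N, ∀ k (hk : n ≤ k) (x : G N),
      ∃ y : G k, phi G t k n hk y = phi G t N n hN x := by
  obtain ⟨i, f, hf⟩ := h (Opposite.op n)
  have hN : n ≤ i.unop := leOfHom f.unop
  refine ⟨i.unop, hN, fun k hk x => ?_⟩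
  have hfeq : f = (homOfLE hN).op := Quiver.Hom.unop_inj (Subsingleton.elim _ _)
  have h1 := hf (homOfLE hk).op
  have h2 : (Xf G t ⋙ forget AddCommGrpCat).map f x
      ∈ Set.range ((Xf G t ⋙ forget AddCommGrpCat).map (homOfLE hk).op) := h1 ⟨x, rfl⟩
  obtain ⟨y, hy⟩ := h2
  refine ⟨y, ?_⟩
  rw [hfeq] at hy
  exact hy

end Aux


open CategoryTheory in
/-- Let … → G_2 → G_1 → G_0 be an inverse system of abelian groups with transition maps t_n : G_{n+1} →
G_n which satisfies the Mittag-Leffler condition: for every i there is j ≥ i such that for all k ≥ j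
the images of G_k → G_i and G_j → G_i coincide. Then lim¹ G_n = 0, i.e. the map (x_n) ↦ (x_n −
t_n(x_{n+1})) on ∏ G_n is surjective. -/
theorem result (G : ℕ → Type u) [∀ n, AddCommGroup (G n)]
    (t : ∀ n, G (n + 1) →+ G n)
    (h : (Functor.ofOpSequence (X := fun n => AddCommGrpCat.of (G n))
      (fun n => AddCommGrpCat.ofHom (t n)) ⋙ forget AddCommGrpCat).IsMittagLeffler) :
    Function.Surjective (Formal2.towerDiff G t) := by
  exact surj_of_system G t (phi G t) (phi1 G t) (phi2 G t) (phi3 G t) (ml_of G t h)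

end Groth.Agent.S14616
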