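import Groth.Statements.S14617
import Mathlib

set_option autoImplicit false
universe u
open Formal2

namespace Groth.Agent.S14617

section Aux

/-- product map -/
def piMap {G H : ℕ → Type u} [∀ n, AddCommGroup (G n)] [∀ n, AddCommGroup (H n)]
    (u : ∀ n, G n →+ H n) : (∀ n, G n) →+ (∀ n, H n) where
  toFun x := fun n => u n (x n)
  map_zero' := by ext n; simp
  map_add' x y := by ext n; simp

theorem piMap_apply {G H : ℕ → Type u} [∀ n, AddCommGroup (G n)] [∀ n, AddCommGroup (H n)]
    (u : ∀ n, G n →+ H n) (x : ∀ n, G n) (n : ℕ) : piMap u x n = u n (x n) := rfl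

theorem towerDiff_apply (G : ℕ → Type u) [∀ n, AddCommGroup (G n)] (t : ∀ n, G (n + 1) →+ G n)
    (x : ∀ n, G n) (n : ℕ) : Formal2.towerDiff G t x n = x n - t n (x (n + 1)) := rfl

theorem diff_piMap {G H : ℕ → Type u} [∀ n, AddCommGroup (G n)] [∀ n, AddCommGroup (H n)]
    (t : ∀ n, G (n + 1) →+ G n) (s : ∀ n, H (n + 1) →+ H n) (u : ∀ n, G n →+ H n)
    (hu : ∀ n x, s n (u (n + 1) x) = u n (t n x)) (x : ∀ n, G n) :
    Formal2.towerDiff H s (piMap u x) = piMap u (Formal2.towerDiff G t x) := by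
  ext n
  simp only [towerDiff_apply, piMap_apply, hu, map_sub]

end Aux


/-- Let 0 → (G'_n) → (G_n) → (G''_n) → 0 be a short exact sequence of inverse systems of abelian groups
indexed by ℕ: maps u_n : G'_n → G_n and v_n : G_n → G''_n commuting with the transition maps, with
u_n injective, v_n surjective and ker v_n = im u_n for every n. Writing lim and lim¹ for the kernel
and cokernel of (x_n) ↦ (x_n − t_n(x_{n+1})) on the product, there is an exact sequence 0 → lim G' →
lim G → lim G'' → lim¹ G' → lim¹ G → lim¹ G'' → 0 in which the four outer maps are the ones induced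
by u and v on products and the connecting map δ sends a compatible sequence (z_n) to the class of
the unique (w_n) with u_n(w_n) = y_n − t_n(y_{n+1}), for any levelwise lift (y_n) of (z_n). -/
theorem result (G' G G'' : ℕ → Type u)
    [∀ n, AddCommGroup (G' n)] [∀ n, AddCommGroup (G n)] [∀ n, AddCommGroup (G'' n)]
    (t' : ∀ n, G' (n + 1) →+ G' n) (t : ∀ n, G (n + 1) →+ G n) (t'' : ∀ n, G'' (n + 1) →+ G'' n)
    (u : ∀ n, G' n →+ G n) (v : ∀ n, G n →+ G'' n)
    (hu : ∀ n x, t n (u (n + 1) x) = u n (t' n x)) (hv : ∀ n x, t'' n (v (n + 1) x) = v n (t n x))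
    (hinj : ∀ n, Function.Injective (u n)) (hsurj : ∀ n, Function.Surjective (v n))
    (hex : ∀ n, (v n).ker = (u n).range) :
    ∃ (α : Formal2.limZero G' t' →+ Formal2.limZero G t) (β : Formal2.limZero G t →+ Formal2.limZero G'' t'')
      (δ : Formal2.limZero G'' t'' →+ Formal2.limOne G' t')
      (ε : Formal2.limOne G' t' →+ Formal2.limOne G t) (ζ : Formal2.limOne G t →+ Formal2.limOne G'' t''),
      (∀ (x : Formal2.limZero G' t') (n : ℕ), (α x : ∀ n, G n) n = u n ((x : ∀ n, G' n) n)) ∧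
      (∀ (x : Formal2.limZero G t) (n : ℕ), (β x : ∀ n, G'' n) n = v n ((x : ∀ n, G n) n)) ∧
      (∀ (z : Formal2.limZero G'' t'') (y : ∀ n, G n) (w : ∀ n, G' n),
          (∀ n, v n (y n) = (z : ∀ n, G'' n) n) → (∀ n, u n (w n) = Formal2.towerDiff G t y n) →
            δ z = (QuotientAddGroup.mk w : Formal2.limOne G' t')) ∧
      (∀ y : ∀ n, G' n, ε (QuotientAddGroup.mk y : Formal2.limOne G' t') =
          (QuotientAddGroup.mk (fun n => u n (y n)) : Formal2.limOne G t)) ∧
      (∀ y : ∀ n, G n, ζ (QuotientAddGroup.mk y : Formal2.limOne G t) =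
          (QuotientAddGroup.mk (fun n => v n (y n)) : Formal2.limOne G'' t'')) ∧
      Function.Injective α ∧ α.range = β.ker ∧ β.range = δ.ker ∧ δ.range = ε.ker ∧ ε.range = ζ.ker ∧
      Function.Surjective ζ := by
  classical
  have hDU : ∀ x, Formal2.towerDiff G t (piMap u x) = piMap u (Formal2.towerDiff G' t' x) :=
    diff_piMap t' t u hu
  have hDV : ∀ y, Formal2.towerDiff G'' t'' (piMap v y) = piMap v (Formal2.towerDiff G t y) :=
    diff_piMap t t'' v hv
  have hUinj : Function.Injective (piMap u) :=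
    fun x x' h => funext fun n => hinj n (congrFun h n)
  have hVsurj : Function.Surjective (piMap v) := fun z =>
    ⟨fun n => (hsurj n (z n)).choose, funext fun n => (hsurj n (z n)).choose_spec⟩
  have hVU : ∀ x, piMap v (piMap u x) = 0 := fun x => funext fun n => by
    have h1 : u n (x n) ∈ (v n).ker := by rw [hex n]; exact ⟨_, rfl⟩
    exact h1
  have hker : ∀ y, piMap v y = 0 → ∃ x, piMap u x = y := fun y hy => by
    have h1 : ∀ n, ∃ a, u n a = y n := fun n => by
      have h2 : y n ∈ (v n).ker := congrFun hy n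
      rw [hex n] at h2
      exact h2
    exact ⟨fun n => (h1 n).choose, funext fun n => (h1 n).choose_spec⟩
  -- α, β
  let α : Formal2.limZero G' t' →+ Formal2.limZero G t :=
    ((piMap u).comp (Formal2.limZero G' t').subtype).codRestrict (Formal2.limZero G t) (fun x => by
      show Formal2.towerDiff G t (piMap u x.1) = 0
      rw [hDU, AddMonoidHom.mem_ker.mp x.2, map_zero])
  let β : Formal2.limZero G t →+ Formal2.limZero G'' t'' :=
    ((piMap v).comp (Formal2.limZero G t).subtype).codRestrict (Formal2.limZero G'' t'') (fun x => by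
      show Formal2.towerDiff G'' t'' (piMap v x.1) = 0
      rw [hDV, AddMonoidHom.mem_ker.mp x.2, map_zero])
  let ε : Formal2.limOne G' t' →+ Formal2.limOne G t :=
    QuotientAddGroup.map _ _ (piMap u) (by
      rintro _ ⟨x, rfl⟩
      exact ⟨piMap u x, hDU x⟩)
  let ζ : Formal2.limOne G t →+ Formal2.limOne G'' t'' :=
    QuotientAddGroup.map _ _ (piMap v) (by
      rintro _ ⟨x, rfl⟩
      exact ⟨piMap v x, hDV x⟩)
  have hε : ∀ w : ∀ n, G' n, ε (QuotientAddGroup.mk w) = QuotientAddGroup.mk (piMap u w) :=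
    fun w => rfl
  have hζ : ∀ y : ∀ n, G n, ζ (QuotientAddGroup.mk y) = QuotientAddGroup.mk (piMap v y) :=
    fun y => rfl
  -- δ
  have hlift : ∀ z : Formal2.limZero G'' t'', ∃ yw : (∀ n, G n) × (∀ n, G' n),
      piMap v yw.1 = (z : ∀ n, G'' n) ∧ piMap u yw.2 = Formal2.towerDiff G t yw.1 := by
    intro z
    obtain ⟨y, hy⟩ := hVsurj z.1
    have h1 : piMap v (Formal2.towerDiff G t y) = 0 := by
      rw [← hDV, hy]; exact AddMonoidHom.mem_ker.mp z.2
    obtain ⟨w, hw⟩ := hker _ h1
    exact ⟨(y, w), hy, hw⟩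
  choose yw hyw using hlift
  have hspec : ∀ (z : Formal2.limZero G'' t'') (y : ∀ n, G n) (w : ∀ n, G' n),
      piMap v y = z.1 → piMap u w = Formal2.towerDiff G t y →
      (QuotientAddGroup.mk (yw z).2 : Formal2.limOne G' t') = QuotientAddGroup.mk w := by
    intro z y w hy hw
    obtain ⟨x, hx⟩ := hker (y - (yw z).1) (by rw [map_sub, hy, (hyw z).1, sub_self])
    rw [QuotientAddGroup.eq]
    refine ⟨x, ?_⟩
    apply hUinj
    rw [← hDU, hx, map_sub, map_add, map_neg, hw, (hyw z).2]
    abel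
  let δ : Formal2.limZero G'' t'' →+ Formal2.limOne G' t' :=
    AddMonoidHom.mk' (fun z => QuotientAddGroup.mk (yw z).2) (by
      intro z₁ z₂
      rw [hspec (z₁ + z₂) ((yw z₁).1 + (yw z₂).1) ((yw z₁).2 + (yw z₂).2)
        (by rw [map_add, (hyw z₁).1, (hyw z₂).1]; rfl)
        (by rw [map_add, map_add, (hyw z₁).2, (hyw z₂).2])]
      rfl)
  have hδ : ∀ (z : Formal2.limZero G'' t'') (y : ∀ n, G n) (w : ∀ n, G' n),
      piMap v y = z.1 → piMap u w = Formal2.towerDiff G t y →
      δ z = QuotientAddGroup.mk w := fun z y w hy hw => hspec z y w hy hw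
  refine ⟨α, β, δ, ε, ζ, fun x n => rfl, fun x n => rfl, ?_, fun y => rfl, fun y => rfl,
    ?_, ?_, ?_, ?_, ?_, ?_⟩
  · intro z y w hy hw
    exact hδ z y w (funext hy) (funext hw)
  · -- α injective
    intro x x' h
    apply Subtype.ext
    apply hUinj
    exact congrArg Subtype.val h
  · -- α.range = β.ker
    ext y
    rw [AddMonoidHom.mem_range, AddMonoidHom.mem_ker]
    constructor
    · rintro ⟨x, rfl⟩
      apply Subtype.ext
      show piMap v (piMap u x.1) = 0
      exact hVU x.1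
    · intro hy
      have hy' : piMap v y.1 = 0 := congrArg Subtype.val hy
      obtain ⟨x, hx⟩ := hker y.1 hy'
      have hx0 : Formal2.towerDiff G' t' x = 0 := by
        apply hUinj
        rw [← hDU, hx, map_zero]
        exact AddMonoidHom.mem_ker.mp y.2
      exact ⟨⟨x, AddMonoidHom.mem_ker.mpr hx0⟩, Subtype.ext hx⟩
  · -- β.range = δ.ker
    ext z
    rw [AddMonoidHom.mem_range, AddMonoidHom.mem_ker]
    constructor
    · rintro ⟨y, rfl⟩
      have h1 : δ (β y) = QuotientAddGroup.mk 0 :=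
        hδ (β y) y.1 0 rfl (by rw [map_zero]; exact (AddMonoidHom.mem_ker.mp y.2).symm)
      rw [h1]; rfl
    · intro hz
      have h0 : (yw z).2 ∈ (Formal2.towerDiff G' t').range :=
        (QuotientAddGroup.eq_zero_iff _).mp hz
      obtain ⟨x, hx⟩ := h0
      refine ⟨⟨(yw z).1 - piMap u x, ?_⟩, ?_⟩
      · rw [AddMonoidHom.mem_ker, map_sub, hDU, hx, (hyw z).2, sub_self]
      · apply Subtype.ext
        show piMap v ((yw z).1 - piMap u x) = z.1
        rw [map_sub, hVU, sub_zero, (hyw z).1]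
  · -- δ.range = ε.ker
    ext q
    rw [AddMonoidHom.mem_range, AddMonoidHom.mem_ker]
    constructor
    · rintro ⟨z, rfl⟩
      show ε (QuotientAddGroup.mk (yw z).2) = 0
      rw [hε, QuotientAddGroup.eq_zero_iff, (hyw z).2]
      exact ⟨_, rfl⟩
    · obtain ⟨w, rfl⟩ := QuotientAddGroup.mk_surjective q
      intro hq
      rw [hε, QuotientAddGroup.eq_zero_iff] at hq
      obtain ⟨y, hy⟩ := hq
      have hz : piMap v y ∈ Formal2.limZero G'' t'' := by
        rw [AddMonoidHom.mem_ker, hDV, hy, hVU]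
      exact ⟨⟨piMap v y, hz⟩, hδ ⟨piMap v y, hz⟩ y w rfl hy.symm⟩
  · -- ε.range = ζ.ker
    ext q
    rw [AddMonoidHom.mem_range, AddMonoidHom.mem_ker]
    constructor
    · rintro ⟨p, rfl⟩
      obtain ⟨w, rfl⟩ := QuotientAddGroup.mk_surjective p
      rw [hε, hζ, hVU]; rfl
    · obtain ⟨y, rfl⟩ := QuotientAddGroup.mk_surjective q
      intro hq
      rw [hζ, QuotientAddGroup.eq_zero_iff] at hq
      obtain ⟨z'', hz''⟩ := hq
      obtain ⟨y₁, hy₁⟩ := hVsurj z''
      obtain ⟨w, hw⟩ := hker (y - Formal2.towerDiff G t y₁)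
        (by rw [map_sub, ← hDV, hy₁, hz'', sub_self])
      refine ⟨QuotientAddGroup.mk w, ?_⟩
      rw [hε, hw, QuotientAddGroup.eq]
      exact ⟨y₁, by abel⟩
  · -- ζ surjective
    intro q
    obtain ⟨z, rfl⟩ := QuotientAddGroup.mk_surjective q
    obtain ⟨y, hy⟩ := hVsurj z
    exact ⟨QuotientAddGroup.mk y, by rw [hζ, hy]⟩

end Groth.Agent.S14617
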