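import Groth.Statements.S14620
import Groth.Agent.S5034
import Groth.Agent.Lib.Helper1.HenselFinite

set_option autoImplicit false
set_option linter.style.haveILetI false
universe u
open Hensel

namespace Groth.Agent.S14620

/-- In the strictly henselian case, let f : A → B be a finite local homomorphism of local rings. If A is
strictly henselian (henselian local with separably closed residue field), then so is B. -/
theorem result {A B : Type u} [CommRing A] [IsLocalRing A]
    [CommRing B] [IsLocalRing B] (f : A →+* B) (hf : f.Finite) [IsLocalHom f]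
    (hA : EtCoh.IsStrictlyHenselianLocalRing A) : EtCoh.IsStrictlyHenselianLocalRing B := by
  classical
  obtain ⟨hhens, hsep⟩ := hA
  letI : Algebra A B := f.toAlgebra
  haveI : Module.Finite A B := hf
  haveI : IsLocalHom (algebraMap A B) := ‹IsLocalHom f›
  have hB : HenselianLocalRing B := by
    apply Groth.Agent.S5034.result B
    intro F hF
    haveI : Module.Finite B (AdjoinRoot F) := (AdjoinRoot.powerBasis' hF).finite
    haveI : Module.Finite A (AdjoinRoot F) := Module.Finite.trans B (AdjoinRoot F)
    exact Groth.Agent.Helper1.exists_ringEquiv_pi_isLocalRing A (AdjoinRoot F)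
  refine ⟨hB, ?_⟩
  haveI : Algebra.IsIntegral A B := Algebra.IsIntegral.of_finite A B
  haveI : Algebra.IsIntegral (IsLocalRing.ResidueField A) (IsLocalRing.ResidueField B) := by
    refine ⟨fun y => ?_⟩
    obtain ⟨b, rfl⟩ := IsLocalRing.residue_surjective y
    obtain ⟨p, hpm, hp⟩ := Algebra.IsIntegral.isIntegral (R := A) b
    refine ⟨p.map (IsLocalRing.residue A), hpm.map _, ?_⟩
    rw [Polynomial.eval₂_map]
    have hcomp : (algebraMap (IsLocalRing.ResidueField A) (IsLocalRing.ResidueField B)).comp
        (IsLocalRing.residue A) = (IsLocalRing.residue B).comp (algebraMap A B) := rfl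
    rw [hcomp, ← Polynomial.hom_eval₂, hp, map_zero]
  haveI : Algebra.IsAlgebraic (IsLocalRing.ResidueField A) (IsLocalRing.ResidueField B) :=
    Algebra.IsIntegral.isAlgebraic
  exact Algebra.IsAlgebraic.isSepClosed (F := IsLocalRing.ResidueField A)

end Groth.Agent.S14620
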