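import Groth.Statements.S14621

set_option autoImplicit false
set_option linter.unusedSectionVars false
set_option linter.unusedVariables false
open CategoryTheory CategoryTheory.Limits
universe u
open CohSite

namespace Groth.Agent.S14621

open Opposite

section Fin

variable {I : Type u} [SmallCategory I] [IsFiltered I]

lemma exists_common_repr {κ : Type} [Finite κ] (F : κ → (I ⥤ Type u)) (t : ∀ k, Cocone (F k))
    (ht : ∀ k, IsColimit (t k)) (x : ∀ k, (t k).pt) :
    ∃ (i : I) (a : ∀ k, (F k).obj i), ∀ k, (t k).ι.app i (a k) = x k := by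
  classical
  have := Fintype.ofFinite κ
  choose i₀ a₀ h₀ using fun k => Types.jointly_surjective_of_isColimit (ht k) (x k)
  obtain ⟨S, hS⟩ := IsFiltered.sup_objs_exists (Finset.univ.image i₀)
  have f : ∀ k, i₀ k ⟶ S := fun k => (hS (Finset.mem_image_of_mem _ (Finset.mem_univ k))).some
  refine ⟨S, fun k => (F k).map (f k) (a₀ k), fun k => ?_⟩
  rw [← h₀ k]
  exact ConcreteCategory.congr_hom ((t k).w (f k)) (a₀ k)

lemma exists_common_eq {κ : Type} [Finite κ] (F : κ → (I ⥤ Type u)) (t : ∀ k, Cocone (F k))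
    (ht : ∀ k, IsColimit (t k)) (i : I) (a b : ∀ k, (F k).obj i)
    (h : ∀ k, (t k).ι.app i (a k) = (t k).ι.app i (b k)) :
    ∃ (j : I) (f : i ⟶ j), ∀ k, (F k).map f (a k) = (F k).map f (b k) := by
  classical
  have := Fintype.ofFinite κ
  choose j₀ f₀ h₀ using fun k =>
    (Types.FilteredColimit.isColimit_eq_iff' (ht k) (a k) (b k)).1 (h k)
  let O : Finset I := insert i (Finset.univ.image j₀)
  have hi : i ∈ O := Finset.mem_insert_self _ _
  have hj : ∀ k, j₀ k ∈ O := fun k =>
    Finset.mem_insert_of_mem (Finset.mem_image_of_mem _ (Finset.mem_univ k))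
  let H : Finset (Σ' (X Y : I) (_ : X ∈ O) (_ : Y ∈ O), X ⟶ Y) :=
    Finset.univ.image (fun k => ⟨i, j₀ k, hi, hj k, f₀ k⟩)
  obtain ⟨S, T, hT⟩ := IsFiltered.sup_exists O H
  refine ⟨S, T hi, fun k => ?_⟩
  have e : f₀ k ≫ T (hj k) = T hi :=
    hT hi (hj k) (Finset.mem_image_of_mem _ (Finset.mem_univ k))
  rw [← e, Functor.map_comp_apply, Functor.map_comp_apply, h₀ k]

end Fin


section Main

variable {C : Type u} [SmallCategory C] [HasPullbacks C] (J : GrothendieckTopology C)
  (hJ : ∀ U : C, ToposFin.IsQCSite J U)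
  {I : Type u} [SmallCategory I] [IsFiltered I] (D : I ⥤ Sheaf J (Type u))
  (c : Cocone (D ⋙ sheafToPresheaf J (Type u))) (hc : IsColimit c)

/-- evaluated functor -/
abbrev Fx (X : C) : I ⥤ Type u :=
  (D ⋙ sheafToPresheaf J (Type u)) ⋙ (evaluation Cᵒᵖ (Type u)).obj (op X)

/-- evaluated cocone -/
abbrev tx (X : C) : Cocone (Fx J D X) := ((evaluation Cᵒᵖ (Type u)).obj (op X)).mapCocone c

/-- evaluated cocone is colimit -/
noncomputable def htx (X : C) : IsColimit (tx J D c X) :=
  isColimitOfPreserves ((evaluation Cᵒᵖ (Type u)).obj (op X)) hc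

lemma ι_nat {X Y : C} (g : Y ⟶ X) (i : I) (a : (Fx J D X).obj i) :
    c.pt.map g.op ((tx J D c X).ι.app i a) =
      (tx J D c Y).ι.app i ((D.obj i).obj.map g.op a) :=
  (NatTrans.naturality_apply (c.ι.app i) g.op a).symm

lemma map_nat {X Y : C} (g : Y ⟶ X) {i j : I} (f : i ⟶ j) (a : (Fx J D X).obj i) :
    (D.obj j).obj.map g.op ((Fx J D X).map f a) =
      (Fx J D Y).map f ((D.obj i).obj.map g.op a) :=
  (NatTrans.naturality_apply (D.map f).hom g.op a).symm


include hJ hc in
lemma ext_of_covering (X : C) (S : Sieve X) (hS : S ∈ J X) (t₁ t₂ : c.pt.obj (op X))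
    (h : ∀ ⦃Y : C⦄ (f : Y ⟶ X), S f → c.pt.map f.op t₁ = c.pt.map f.op t₂) : t₁ = t₂ := by
  obtain ⟨n, V, g, hg, hR⟩ := hJ X S hS
  obtain ⟨i, a₁, a₂, rfl, rfl⟩ :=
    Types.FilteredColimit.jointly_surjective_of_isColimit₂ (htx J D c hc X) t₁ t₂
  obtain ⟨j, f, hf⟩ := exists_common_eq (κ := Fin n) (fun k => Fx J D (V k))
    (fun k => tx J D c (V k)) (fun k => htx J D c hc (V k)) i
    (fun k => (D.obj i).obj.map (g k).op a₁) (fun k => (D.obj i).obj.map (g k).op a₂)
    (fun k => by
      rw [← ι_nat, ← ι_nat]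
      exact h (g k) (hg k))
  have hb : (Fx J D X).map f a₁ = (Fx J D X).map f a₂ := by
    have hD := (isSheaf_iff_isSheaf_of_type _ _).1 (D.obj j).property
    refine (hD _ hR).isSeparatedFor.ext ?_
    rintro Y _ ⟨Z, u, _, ⟨k⟩, rfl⟩
    simp only [op_comp, Functor.map_comp_apply]
    rw [map_nat J D (g k), map_nat J D (g k), hf k]
  have e₁ := ConcreteCategory.congr_hom ((tx J D c X).w f) a₁
  have e₂ := ConcreteCategory.congr_hom ((tx J D c X).w f) a₂
  rw [← e₁, ← e₂, CategoryTheory.comp_apply, CategoryTheory.comp_apply, hb]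


include hJ hc in
lemma isSheafFor_ofArrows (X : C) (n : ℕ) (V : Fin n → C) (g : ∀ k, V k ⟶ X)
    (hR : Sieve.ofArrows V g ∈ J X) : Presieve.IsSheafFor c.pt (Presieve.ofArrows V g) := by
  rw [Presieve.isSheafFor_arrows_iff_pullbacks]
  intro x hx
  obtain ⟨i, a, ha⟩ := exists_common_repr (κ := Fin n) (fun k => Fx J D (V k))
    (fun k => tx J D c (V k)) (fun k => htx J D c hc (V k)) x
  obtain ⟨j, f, hf⟩ := exists_common_eq (κ := Fin n × Fin n)
    (fun kl => Fx J D (pullback (g kl.1) (g kl.2)))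
    (fun kl => tx J D c (pullback (g kl.1) (g kl.2)))
    (fun kl => htx J D c hc (pullback (g kl.1) (g kl.2))) i
    (fun kl => (D.obj i).obj.map (pullback.fst (g kl.1) (g kl.2)).op (a kl.1))
    (fun kl => (D.obj i).obj.map (pullback.snd (g kl.1) (g kl.2)).op (a kl.2))
    (fun kl => by
      rw [← ι_nat, ← ι_nat, ha, ha]
      exact hx kl.1 kl.2)
  have hD := (isSheaf_iff_isSheaf_of_type _ _).1 (D.obj j).property
  have hDj : Presieve.IsSheafFor (D.obj j).obj (Presieve.ofArrows V g) :=
    (Presieve.isSheafFor_iff_generate _).2 (hD _ hR)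
  rw [Presieve.isSheafFor_arrows_iff_pullbacks] at hDj
  obtain ⟨tj, htj, -⟩ := hDj (fun k => (Fx J D (V k)).map f (a k)) (fun k l => by
    rw [map_nat, map_nat]
    exact hf (k, l))
  refine ⟨(tx J D c X).ι.app j tj, fun k => ?_, fun t' ht' => ?_⟩
  · rw [ι_nat, htj k, ← ha k]
    exact ConcreteCategory.congr_hom ((tx J D c (V k)).w f) (a k)
  · refine ext_of_covering J hJ D c hc X _ hR _ _ ?_
    rintro Y _ ⟨Z, u, _, ⟨k⟩, rfl⟩
    simp only [op_comp, Functor.map_comp_apply]
    rw [ht' k, ι_nat J D c (g k), htj k, ← ha k]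
    congr 1
    exact (ConcreteCategory.congr_hom ((tx J D c (V k)).w f) (a k)).symm


include hJ hc in
lemma isSheaf_pt : Presheaf.IsSheaf J c.pt := by
  rw [isSheaf_iff_isSheaf_of_type]
  intro X S hS
  obtain ⟨n, V, g, hg, hR⟩ := hJ X S hS
  refine Presieve.isSheafFor_subsieve_aux c.pt (S := Sieve.ofArrows V g) ?_ ?_ ?_
  · rintro Y _ ⟨Z, u, _, ⟨k⟩, rfl⟩
    exact S.downward_closed (hg k) u
  · exact (Presieve.isSheafFor_iff_generate _).1 (isSheafFor_ofArrows J hJ D c hc X n V g hR)
  · intro Y f hf x t₁ t₂ h₁ h₂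
    refine ext_of_covering J hJ D c hc Y _ (J.pullback_stable f hR) _ _ ?_
    intro Z u hu
    rw [h₁ u hu, h₂ u hu]

end Main

/-- Let C be a small category with pullbacks and J a Grothendieck topology on C in which every object is
quasi-compact in the site sense (every covering sieve contains finitely many morphisms which already
generate a covering sieve). Then for every small filtered category I the inclusion of sheaves of
sets on (C, J) into presheaves preserves colimits of shape I: filtered colimits of sheaves are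
computed objectwise. (Only sheaves of sets are stated; the same holds for sheaves of abelian groups
or modules. All pullbacks in C are assumed.) -/
theorem result {C : Type u} [SmallCategory C]
    [HasPullbacks C] (J : GrothendieckTopology C) (hJ : ∀ U : C, ToposFin.IsQCSite J U)
    (I : Type u) [SmallCategory I] [IsFiltered I] :
    PreservesColimitsOfShape I (sheafToPresheaf J (Type u)) := by
  constructor
  intro D
  suffices CreatesColimit D (sheafToPresheaf J (Type u)) from inferInstance
  exact Sheaf.createsColimitOfIsSheaf _ (fun c hc => isSheaf_pt J hJ D c hc)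

end Groth.Agent.S14621
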