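import Groth.Statements.S14624
import Mathlib
import Groth.Agent.Lib.Helper7.FPColim

set_option autoImplicit false
open CategoryTheory CategoryTheory.Limits
universe u
open Hensel

namespace Groth.Agent.S14624

open Groth.Agent.Helper7.FPColim

/-- Let A be a commutative ring, m a proper ideal of A and Â the m-adic completion. Assume the
approximation property for polynomial systems: whenever finitely many polynomials over A in finitely
many variables have a common zero â in Â, then for every c there is a common zero a in A which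
agrees with â in A/m^c. Let F be a functor from A-algebras (commutative rings under A) to sets which
preserves filtered colimits, c a natural number and ξ ∈ F(Â). Then there is η ∈ F(A) whose image in
F(A/m^c) equals the image of ξ; here π is the A-algebra map Â → A/m^c (pinned by its underlying ring
map) and ρ the A-algebra map A → A/m^c. (The published statement takes for A the henselization at a
prime ideal of an algebra of finite type over a field or over an excellent discrete valuation ring,
for which the approximation property of polynomial systems is quoted; this row carries that property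
as a hypothesis and draws the published conclusion for functors.) -/
theorem result (A : Type u) [CommRing A]
    (m : Ideal A) (hm : m ≠ ⊤)
    (hAP : ∀ (k l c : ℕ) (f : Fin l → MvPolynomial (Fin k) A) (â : Fin k → AdicCompletion m A),
      (∀ i, MvPolynomial.aeval â (f i) = 0) →
      ∃ a : Fin k → A, (∀ i, MvPolynomial.eval a (f i) = 0) ∧
        ∀ j, Ideal.Quotient.mk (m ^ c) (a j) = AdicCompletion.evalₐ m c (â j))
    (F : Under (CommRingCat.of A) ⥤ Type u)
    (hF : ∀ (J : Type u) [SmallCategory J] [IsFiltered J], PreservesColimitsOfShape J F)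
    (c : ℕ)
    (π : Under.mk (CommRingCat.ofHom (algebraMap A (AdicCompletion m A))) ⟶
      Under.mk (CommRingCat.ofHom (algebraMap A (A ⧸ m ^ c))))
    (hπ : π.right = CommRingCat.ofHom
      (AdicCompletion.evalₐ m c : AdicCompletion m A →ₐ[A] A ⧸ m ^ c).toRingHom)
    (ρ : Under.mk (𝟙 (CommRingCat.of A)) ⟶ Under.mk (CommRingCat.ofHom (algebraMap A (A ⧸ m ^ c))))
    (ξ : F.obj (Under.mk (CommRingCat.ofHom (algebraMap A (AdicCompletion m A))))) :
    ∃ η : F.obj (Under.mk (𝟙 (CommRingCat.of A))), F.map ρ η = F.map π ξ := by
  classical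
  haveI := hF (J₁ A (AdicCompletion m A))
  obtain ⟨S, ξS, hξS⟩ := Types.jointly_surjective_of_isColimit
    (isColimitOfPreserves F (hc₁ A (AdicCompletion m A))) ξ
  have hSfg : Algebra.FiniteType A S.1 := (Subalgebra.fg_iff_finiteType S.1).mp S.2
  obtain ⟨n, π', hπ'⟩ := Algebra.FiniteType.iff_quotient_mvPolynomial''.mp hSfg
  haveI := hF (J₂ π')
  obtain ⟨I, ξI, hξI⟩ := Types.jointly_surjective_of_isColimit
    (isColimitOfPreserves F (hc₂ π' hπ')) ξS
  obtain ⟨l, f, hf⟩ := Submodule.fg_iff_exists_fin_generating_family.mp I.2.1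
  let â : Fin n → AdicCompletion m A :=
    fun j => ((π' (MvPolynomial.X j) : S.1) : AdicCompletion m A)
  have hâ : ∀ p : MvPolynomial (Fin n) A,
      MvPolynomial.aeval â p = ((π' p : S.1) : AdicCompletion m A) := by
    intro p
    have h1 : (S.1.val.comp π') = MvPolynomial.aeval â := by
      apply MvPolynomial.algHom_ext
      intro j
      simp [â]
    exact (DFunLike.congr_fun h1 p).symm
  have hzero : ∀ i, MvPolynomial.aeval â (f i) = 0 := by
    intro i
    rw [hâ]
    have hmem : f i ∈ I.1 := by
      rw [← hf]; exact Submodule.subset_span ⟨i, rfl⟩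
    have h2 := I.2.2 hmem
    rw [RingHom.mem_ker] at h2
    rw [h2]; rfl
  obtain ⟨a, ha0, hac⟩ := hAP n l c f â hzero
  have hker : ∀ p ∈ I.1, (MvPolynomial.eval a) p = 0 := by
    intro p hp
    rw [← hf] at hp
    refine Submodule.span_induction ?_ ?_ ?_ ?_ hp
    · rintro _ ⟨i, rfl⟩; exact ha0 i
    · exact map_zero _
    · intro x y _ _ hx hy; rw [map_add, hx, hy, add_zero]
    · intro r x _ hx; rw [smul_eq_mul, map_mul, hx, mul_zero]
  let χ : (F₂ π').obj I ⟶ Under.mk (𝟙 (CommRingCat.of A)) :=
    Under.homMk (CommRingCat.ofHom (Ideal.Quotient.lift I.1 (MvPolynomial.eval a) hker)) (by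
      ext r
      change Ideal.Quotient.lift I.1 (MvPolynomial.eval a) hker
        (Ideal.Quotient.mk I.1 (MvPolynomial.C r)) = r
      rw [Ideal.Quotient.lift_mk, MvPolynomial.eval_C])
  have hρ : ∀ x : A, ρ.right.hom x = algebraMap A (A ⧸ m ^ c) x := by
    intro x
    have h := Under.w ρ
    have h2 := congrArg (fun g => g.hom x) h
    exact h2
  have hπx : ∀ y : AdicCompletion m A, π.right.hom y = AdicCompletion.evalₐ m c y := by
    intro y
    rw [hπ]; rfl
  have hg12 : ρ.right.hom.comp (MvPolynomial.eval a) =
      π.right.hom.comp (S.1.val.toRingHom.comp π'.toRingHom) := by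
    apply MvPolynomial.ringHom_ext
    · intro r
      have e1 : π' (MvPolynomial.C r) = algebraMap A S.1 r := by
        rw [← MvPolynomial.algebraMap_eq, AlgHom.commutes]
      change ρ.right.hom (MvPolynomial.eval a (MvPolynomial.C r)) =
        π.right.hom ((π' (MvPolynomial.C r) : S.1) : AdicCompletion m A)
      rw [MvPolynomial.eval_C, hρ, hπx, e1]
      change _ = AdicCompletion.evalₐ m c (algebraMap A (AdicCompletion m A) r)
      rw [AlgHom.commutes]
    · intro j
      change ρ.right.hom (MvPolynomial.eval a (MvPolynomial.X j)) = π.right.hom (â j)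
      rw [MvPolynomial.eval_X, hρ, hπx]
      exact hac j
  have hcomm : χ ≫ ρ = (c₂ π').ι.app I ≫ (c₁ A (AdicCompletion m A)).ι.app S ≫ π := by
    ext x
    obtain ⟨p, rfl⟩ := Ideal.Quotient.mk_surjective x
    exact DFunLike.congr_fun hg12 p
  refine ⟨F.map χ ξI, ?_⟩
  calc F.map ρ (F.map χ ξI) = F.map (χ ≫ ρ) ξI := by rw [FunctorToTypes.map_comp_apply]
    _ = F.map ((c₂ π').ι.app I ≫ (c₁ A (AdicCompletion m A)).ι.app S ≫ π) ξI := by rw [hcomm]
    _ = F.map π (F.map ((c₁ A (AdicCompletion m A)).ι.app S)
          (F.map ((c₂ π').ι.app I) ξI)) := by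
        rw [FunctorToTypes.map_comp_apply, FunctorToTypes.map_comp_apply]
        rfl
    _ = F.map π ξ := by
        rw [show F.map ((c₂ π').ι.app I) ξI = ξS from hξI,
          show F.map ((c₁ A (AdicCompletion m A)).ι.app S) ξS = ξ from hξS]

end Groth.Agent.S14624
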