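import Groth.Statements.S14629
import Groth.Agent.Lib.Helper23.PicH1f

set_option autoImplicit false
open CategoryTheory CategoryTheory.Limits AlgebraicGeometry
universe u
open PicF

namespace Groth.Agent.S14629

/-- Let X be a scheme and I a quasi-coherent ideal sheaf of square zero defining the closed subscheme i
: X₀ → X, and suppose H¹(X, I) = 0 for the ideal regarded as an O_X-module (Zariski cohomology).
Then two invertible O_X-modules with isomorphic pullbacks to X₀ are isomorphic: restriction of
Picard groups along i is injective. (The published statement allows a nilpotent ideal with the same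
hypothesis on I alone; its proof treats the square-zero case, which is what is stated.) -/
theorem result (X : Scheme.{u}) (I : X.IdealSheafData)
    (hI : I * I = ⊥) (h1 : Subsingleton (Coh.HH X (ClSub.idealMod I) 1))
    (c d : PicF.Cl X) (hc : PicF.IsInvertibleCl c) (hd : PicF.IsInvertibleCl d)
    (h : PicF.pullCl I.subschemeι c = PicF.pullCl I.subschemeι d) : c = d := by
  obtain ⟨L, rfl, hL⟩ := hc
  obtain ⟨M, rfl, hM⟩ := hd
  have h' : Nonempty ((Scheme.Modules.pullback I.subschemeι).obj L ≅
      (Scheme.Modules.pullback I.subschemeι).obj M) := (PicGrp.cl_eq_cl_iff _ _).1 h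
  have h2 : Groth.Agent.Helper23.PicCalc.pull I.subschemeι
      (Groth.Agent.Helper23.PicCalc.cl L hL) =
      Groth.Agent.Helper23.PicCalc.pull I.subschemeι (Groth.Agent.Helper23.PicCalc.cl M hM) := by
    rw [Groth.Agent.Helper23.PicCalc.pull_cl, Groth.Agent.Helper23.PicCalc.pull_cl,
      Groth.Agent.Helper23.PicCalc.cl_eq_iff]
    exact h'
  have h3 := Groth.Agent.Helper23.PicH1.pull_injective_of_H1 I hI h1 h2
  rw [Groth.Agent.Helper23.PicCalc.cl_eq_iff] at h3
  exact (PicGrp.cl_eq_cl_iff _ _).2 h3

end Groth.Agent.S14629
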