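import Groth.Statements.S14632
import Groth.Agent.Lib.Helper10.ColimSec
import Groth.Agent.Lib.Helper10.EtLoc
import Groth.Agent.Lib.Helper1.ES4

set_option autoImplicit false
open CategoryTheory CategoryTheory.Limits AlgebraicGeometry Opposite
universe u
open EtBase

namespace Groth.Agent.S14632

section helpers

open Groth.Agent.Helper10 Groth.Agent.Helper1.ES

variable (X : Scheme.{u})

/-- the quasi-compact quasi-separated objects -/
def Bq : Set X.Etale := {V | CompactSpace V.left ∧ QuasiSeparatedSpace V.left}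

variable {X}

lemma mem_Bq_of_isPullback {P Y Z V : X.Etale} {f : P ⟶ Y} {g : P ⟶ Z} {a : Y ⟶ V} {b : Z ⟶ V}
    (h : IsPullback f g a b) (hY : Y ∈ Bq X) (hZ : Z ∈ Bq X) (hV : V ∈ Bq X) : P ∈ Bq X := by
  have h' : IsPullback f.left g.left a.left b.left := h.map (Scheme.Etale.forget X ⋙ Over.forget X)
  obtain ⟨hY1, hY2⟩ := hY
  obtain ⟨hZ1, hZ2⟩ := hZ
  obtain ⟨hV1, hV2⟩ := hV
  haveI : CompactSpace (Y.left : Scheme.{u}) := hY1
  haveI : QuasiSeparatedSpace (Y.left : Scheme.{u}) := hY2
  haveI : CompactSpace (Z.left : Scheme.{u}) := hZ1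
  haveI : QuasiSeparatedSpace (Z.left : Scheme.{u}) := hZ2
  haveI : CompactSpace (V.left : Scheme.{u}) := hV1
  haveI : QuasiSeparatedSpace (V.left : Scheme.{u}) := hV2
  let fs : (P.left : Scheme.{u}) ⟶ Y.left := f.left
  let bs : (Z.left : Scheme.{u}) ⟶ V.left := b.left
  have hb1 : QuasiCompact bs := inferInstance
  have hb2 : QuasiSeparated bs := inferInstance
  have hf1 : QuasiCompact fs := MorphismProperty.of_isPullback h'.flip hb1
  have hf2 : QuasiSeparated fs := MorphismProperty.of_isPullback h'.flip hb2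
  exact ⟨QuasiCompact.compactSpace_of_compactSpace fs, quasiSeparatedSpace_of_quasiSeparated fs⟩

lemma mem_Bq_of_isAffine (Z : X.Etale) (hZ : IsAffine Z.left) : Z ∈ Bq X := by
  haveI := hZ
  exact ⟨(inferInstance : CompactSpace (Z.left : Scheme.{u})),
    (inferInstance : QuasiSeparatedSpace (Z.left : Scheme.{u}))⟩

lemma finCov : ColimSec.FinCov X.smallEtaleTopology (Bq X) := by
  intro V hV T hT
  rw [EtLoc.mem_iff] at hT
  obtain ⟨hV1, hV2⟩ := hV
  haveI : CompactSpace (V.left : Scheme.{u}) := hV1
  have key : ∀ x : V.left, ∃ (Z : X.Etale) (g : Z ⟶ V), IsAffine Z.left ∧ T g ∧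
      x ∈ Set.range g.left.base := by
    intro x
    obtain ⟨Z, g, z, hg, hz⟩ := hT x
    obtain ⟨W, hW, hzW, -⟩ := TopologicalSpace.Opens.isBasis_iff_nbhd.mp
      (Scheme.isBasis_affineOpens Z.left) (TopologicalSpace.Opens.mem_top z)
    let W' : (Z.left : Scheme.{u}).Opens := W
    exact ⟨openObj Z W', openObjι Z W' ≫ g, hW, T.downward_closed hg _, ⟨⟨z, hzW⟩, hz⟩⟩
  choose Z g hZ hg hx using key
  have hopen : ∀ x, IsOpen (Set.range (g x).left.base) := fun x => by
    have : Etale (g x).left := inferInstance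
    exact (g x).left.isOpenMap.isOpen_range
  obtain ⟨t, ht⟩ := isCompact_univ.elim_finite_subcover
    (fun x => Set.range (g x).left.base) hopen (fun x _ => Set.mem_iUnion.2 ⟨x, hx x⟩)
  let e := t.equivFin
  refine ⟨Fin t.card, inferInstance, fun k => Z (e.symm k).1, fun k => g (e.symm k).1,
    fun k => hg _, ?_, ?_⟩
  · rw [EtLoc.mem_iff]
    intro x
    obtain ⟨y, hy⟩ := Set.mem_iUnion.1 (ht (Set.mem_univ x))
    obtain ⟨hyt, z, hz⟩ := Set.mem_iUnion.1 hy
    obtain ⟨k, hk⟩ : ∃ k, (e.symm k).1 = y := ⟨e ⟨y, hyt⟩, by simp⟩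
    subst hk
    exact ⟨_, _, z, Sieve.le_generate _ _ _ (Presieve.ofArrows.mk k), hz⟩
  · intro k l
    exact mem_Bq_of_isPullback (IsPullback.of_hasPullback _ _) (mem_Bq_of_isAffine _ (hZ _))
      (mem_Bq_of_isAffine _ (hZ _)) ⟨hV1, hV2⟩

theorem main (X : Scheme.{u}) [CompactSpace ↥X]
    [QuasiSeparatedSpace ↥X] (U : X.Etale) [QuasiCompact U.hom] [QuasiSeparated U.hom]
    (I : Type (u + 1)) [SmallCategory I] [IsFiltered I] :
    PreservesColimitsOfShape I
      (sheafToPresheaf X.smallEtaleTopology (Type (u + 1)) ⋙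
        (evaluation X.Etaleᵒᵖ (Type (u + 1))).obj (op U)) := by
  have hU : U ∈ Bq X := by
    let us : (U.left : Scheme.{u}) ⟶ X := U.hom
    have h1 : QuasiCompact us := inferInstance
    have h2 : QuasiSeparated us := inferInstance
    exact ⟨QuasiCompact.compactSpace_of_compactSpace us, quasiSeparatedSpace_of_quasiSeparated us⟩
  exact ⟨fun {F} => ColimSec.preservesColimit_sections F finCov U hU⟩

end helpers

/-- Take a quasi-compact quasi-separated scheme X and an étale X-scheme U which is quasi-compact and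
quasi-separated, i.e. of finite presentation, over X. Then for every small filtered category I the
functor taking a sheaf of sets on the small étale site of X to its sections over U preserves
colimits of shape I: sections over U of a filtered colimit of sheaves are the colimit of the
sections. (Sheaves are valued in types one universe above the schemes, as elsewhere in this
library.) -/
theorem result (X : Scheme.{u}) [CompactSpace ↥X]
    [QuasiSeparatedSpace ↥X] (U : X.Etale) [QuasiCompact U.hom] [QuasiSeparated U.hom]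
    (I : Type (u + 1)) [SmallCategory I] [IsFiltered I] :
    PreservesColimitsOfShape I
      (sheafToPresheaf X.smallEtaleTopology (Type (u + 1)) ⋙ (evaluation X.Etaleᵒᵖ (Type (u + 1))).obj (op U)) := by
  exact main X U I

end Groth.Agent.S14632
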