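import Groth.Statements.S14630
import Mathlib
import Groth.Agent.S14632
import Groth.Agent.Lib.Helper24.ColimSite2
import Groth.Agent.Lib.Helper29.HomColim

set_option autoImplicit false
open CategoryTheory CategoryTheory.Limits AlgebraicGeometry
universe u
open EtBase

namespace Groth.Agent.S14630

section helpers
open Opposite

attribute [-instance] Groth.Agent.Helper13.DeltaFColim.forgetPres

section LemmaA
universe v₁ u₁ v₂ u₂ v₃ u₃ v₄ u₄
variable {C : Type u₁} [Category.{v₁} C] (J : GrothendieckTopology C) {D : Type u₂} [Category.{v₂} D]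
  [HasWeakSheafify J D]

lemma preservesColimit_of_comp_presheafToSheaf {K : Type u₃} [Category.{v₃} K] {T : Type u₄}
    [Category.{v₄} T] (H : Sheaf J D ⥤ T)
    (F : K ⥤ Sheaf J D) [HasColimit (F ⋙ sheafToPresheaf J D)]
    [PreservesColimit (F ⋙ sheafToPresheaf J D) (presheafToSheaf J D ⋙ H)] :
    PreservesColimit F H := by
  let E := colimit.cocone (F ⋙ sheafToPresheaf J D)
  have hE : IsColimit E := colimit.isColimit _
  refine preservesColimit_of_preserves_colimit_cocone (Sheaf.isColimitSheafifyCocone E hE) ?_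
  have h1 : IsColimit (H.mapCocone ((presheafToSheaf J D).mapCocone E)) :=
    isColimitOfPreserves (presheafToSheaf J D ⋙ H) hE
  let α : F ≅ (F ⋙ sheafToPresheaf J D) ⋙ presheafToSheaf J D :=
    Functor.isoWhiskerLeft F (asIso (sheafificationAdjunction J D).counit).symm
  have h2 := (IsColimit.precomposeHomEquiv (Functor.isoWhiskerRight α H)
    (H.mapCocone ((presheafToSheaf J D).mapCocone E))).symm h1
  exact IsColimit.ofIsoColimit h2 (Functor.mapCoconePrecompose H).symm

end LemmaA

variable {X : Scheme.{u}}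

lemma sheafCompose_pres (I : Type (u + 1)) [SmallCategory I] [IsFiltered I] :
    PreservesColimitsOfShape I
      (sheafCompose X.smallEtaleTopology (forget AddCommGrpCat.{u + 1})) := by
  haveI : X.smallEtaleTopology.PreservesSheafification (forget AddCommGrpCat.{u + 1}) := by
    have h1 : ∀ (V : X.Etale), PreservesColimitsOfShape (X.smallEtaleTopology.Cover V)ᵒᵖ
        (forget AddCommGrpCat.{u + 1}) := by
      intro V
      have : PreservesFilteredColimitsOfSize.{u + 1, u + 1} (forget AddCommGrpCat.{u + 1}) :=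
        inferInstance
      infer_instance
    exact GrothendieckTopology.instPreservesSheafificationForgetOfPreservesLimitsOfHasColimitsOfShapeOfPreservesColimitsOfShapeOppositeCoverOfHasLimitsOfShapeWalkingMulticospanOfReflectsIsomorphisms _
  constructor
  intro F
  have iso := sheafComposeNatIso X.smallEtaleTopology (forget AddCommGrpCat.{u + 1})
    (sheafificationAdjunction X.smallEtaleTopology AddCommGrpCat.{u + 1})
    (sheafificationAdjunction X.smallEtaleTopology (Type (u + 1)))
  haveI hf : PreservesColimitsOfShape I (forget AddCommGrpCat.{u + 1}) := by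
    have : PreservesFilteredColimitsOfSize.{u + 1, u + 1} (forget AddCommGrpCat.{u + 1}) :=
      inferInstance
    infer_instance
  haveI : PreservesColimitsOfShape I
      ((Functor.whiskeringRight X.Etaleᵒᵖ _ _).obj (forget AddCommGrpCat.{u + 1}) ⋙
        presheafToSheaf X.smallEtaleTopology (Type (u + 1))) := inferInstance
  haveI : PreservesColimitsOfShape I (presheafToSheaf X.smallEtaleTopology AddCommGrpCat.{u + 1} ⋙
      sheafCompose X.smallEtaleTopology (forget AddCommGrpCat.{u + 1})) :=
    preservesColimitsOfShape_of_natIso iso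
  exact preservesColimit_of_comp_presheafToSheaf X.smallEtaleTopology _ F


lemma forget_pres (I : Type (u + 1)) [SmallCategory I] [IsFiltered I] :
    PreservesColimitsOfShape I (forget AddCommGrpCat.{u + 1}) := by
  have : PreservesFilteredColimitsOfSize.{u + 1, u + 1} (forget AddCommGrpCat.{u + 1}) :=
    inferInstance
  infer_instance

lemma secAb_pres (X : Scheme.{u})
    (I : Type (u + 1)) [SmallCategory I] [IsFiltered I]
    (V : X.Etale) (hV : V ∈ Groth.Agent.S14632.Bq X) :
    PreservesColimitsOfShape I (sheafToPresheaf X.smallEtaleTopology AddCommGrpCat.{u + 1} ⋙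
      (evaluation X.Etaleᵒᵖ AddCommGrpCat.{u + 1}).obj (op V)) := by
  haveI hf := forget_pres.{u} I
  haveI : ReflectsColimitsOfShape I (forget AddCommGrpCat.{u + 1}) :=
    reflectsColimitsOfShape_of_reflectsIsomorphisms
  haveI := sheafCompose_pres (X := X) I
  haveI : PreservesColimitsOfShape I (sheafToPresheaf X.smallEtaleTopology (Type (u + 1)) ⋙
      (evaluation X.Etaleᵒᵖ (Type (u + 1))).obj (op V)) :=
    ⟨fun {F} => Groth.Agent.Helper10.ColimSec.preservesColimit_sections F
      Groth.Agent.S14632.finCov V hV⟩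
  have h3 : PreservesColimitsOfShape I ((sheafToPresheaf X.smallEtaleTopology AddCommGrpCat.{u + 1} ⋙
      (evaluation X.Etaleᵒᵖ AddCommGrpCat.{u + 1}).obj (op V)) ⋙ forget AddCommGrpCat.{u + 1}) := by
    have h : PreservesColimitsOfShape I
        (sheafCompose X.smallEtaleTopology (forget AddCommGrpCat.{u + 1}) ⋙
          (sheafToPresheaf X.smallEtaleTopology (Type (u + 1)) ⋙
            (evaluation X.Etaleᵒᵖ (Type (u + 1))).obj (op V))) := inferInstance
    have e : (sheafCompose X.smallEtaleTopology (forget AddCommGrpCat.{u + 1}) ⋙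
          (sheafToPresheaf X.smallEtaleTopology (Type (u + 1)) ⋙
            (evaluation X.Etaleᵒᵖ (Type (u + 1))).obj (op V))) ≅
        ((sheafToPresheaf X.smallEtaleTopology AddCommGrpCat.{u + 1} ⋙
          (evaluation X.Etaleᵒᵖ AddCommGrpCat.{u + 1}).obj (op V)) ⋙ forget AddCommGrpCat.{u + 1}) :=
      NatIso.ofComponents (fun F => Iso.refl _) (by intros; rfl)
    exact preservesColimitsOfShape_of_natIso e
  exact @preservesColimitsOfShape_of_reflects_of_preserves _ _ _ _ _ _ _ _
    (sheafToPresheaf X.smallEtaleTopology AddCommGrpCat.{u + 1} ⋙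
      (evaluation X.Etaleᵒᵖ AddCommGrpCat.{u + 1}).obj (op V)) (forget AddCommGrpCat.{u + 1}) h3 _


open Groth.Agent.S14632 in
lemma mem_Bq_of_iso {V W : X.Etale} (i : V ≅ W) (h : V ∈ Bq X) : W ∈ Bq X := by
  obtain ⟨h1, h2⟩ := h
  haveI : CompactSpace (V.left : Scheme.{u}) := h1
  haveI : QuasiSeparatedSpace (V.left : Scheme.{u}) := h2
  let e : (W.left : Scheme.{u}) ⟶ V.left := i.inv.left
  haveI : IsIso e := by
    have : IsIso ((Scheme.Etale.forget X ⋙ Over.forget X).map i.inv) := inferInstance
    exact this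
  exact ⟨QuasiCompact.compactSpace_of_compactSpace e, quasiSeparatedSpace_of_quasiSeparated e⟩

open Groth.Agent.S14632 in
/-- The property of objects over `U` of being quasi-compact quasi-separated. -/
def PB (U : X.Etale) : ObjectProperty (Over U) := fun Z => Z.left ∈ Bq X

open Groth.Agent.S14632 in
lemma prod_mem (U : X.Etale) (hU : U ∈ Bq X) [HasFiniteProducts (Over U)]
    {J : Type*} [Finite J] (f : J → Over U) [HasProduct f]
    (h : ∀ j, (f j).left ∈ Bq X) : (∏ᶜ f).left ∈ Bq X := by
  have h0 : (PB U).IsClosedUnderIsomorphisms :=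
    ⟨fun i h => mem_Bq_of_iso ((Over.forget U).mapIso i) h⟩
  have h1 : (PB U).IsClosedUnderLimitsOfShape (Discrete.{0} PEmpty) := by
    refine ⟨fun Z ⟨hZ⟩ => ?_⟩
    have hT : IsTerminal Z :=
      (IsLimit.equivOfNatIsoOfIso hZ.diag.uniqueFromEmpty _ _
        (by exact Cone.ext (Iso.refl _) (by rintro ⟨⟨⟩⟩))).1 hZ.isLimit
    have i : Over.mk (𝟙 U) ≅ Z := IsTerminal.uniqueUpToIso Over.mkIdTerminal hT
    exact mem_Bq_of_iso ((Over.forget U).mapIso i) hU
  have h2 : (PB U).IsClosedUnderBinaryProducts := by
    refine ObjectProperty.IsClosedUnderLimitsOfShape.mk' ?_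
    rintro _ ⟨F, hF⟩
    have hc := (IsLimit.postcomposeHomEquiv (diagramIsoPair F) _).symm (limit.isLimit F)
    have hp := Over.isPullback_of_binaryFan_isLimit _ hc
    exact mem_Bq_of_isPullback hp (hF _) (hF _) hU
  have h4 := ObjectProperty.IsClosedUnderFiniteProducts.mk' (P := PB U)
  exact (PB U).prop_product h

open Groth.Agent.S14632 in
lemma mem_Bq_of_qcqs (X : Scheme.{u}) [CompactSpace ↥X] [QuasiSeparatedSpace ↥X] (V : X.Etale)
    [QuasiCompact V.hom] [QuasiSeparated V.hom] : V ∈ Bq X := by
  let us : (V.left : Scheme.{u}) ⟶ X := V.hom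
  have h1 : QuasiCompact us := inferInstance
  have h2 : QuasiSeparated us := inferInstance
  exact ⟨QuasiCompact.compactSpace_of_compactSpace us, quasiSeparatedSpace_of_quasiSeparated us⟩


section Cech
variable (U : X.Etale) [HasFiniteProducts (Over U)] {ι : Type (u + 1)} (Uf : ι → Over U)

/-- the Čech complex functor on abelian sheaves -/
noncomputable abbrev cx : EtCoh.Ab X ⥤ CochainComplex AddCommGrpCat.{u + 1} ℕ :=
  sheafToPresheaf X.smallEtaleTopology AddCommGrpCat.{u + 1} ⋙
    (Functor.whiskeringLeft (Over U)ᵒᵖ X.Etaleᵒᵖ AddCommGrpCat.{u + 1}).obj (Over.forget U).op ⋙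
      cechComplexFunctor Uf

lemma cx_map_f {F G : EtCoh.Ab X} (φ : F ⟶ G) (n : ℕ) :
    ((cx U Uf).map φ).f n =
      (Limits.Pi.map (fun a : Fin (n + 1) → ι => φ.hom.app (op (∏ᶜ (Uf ∘ a)).left)) :
        ((cx U Uf).obj F).X n ⟶ ((cx U Uf).obj G).X n) := rfl

/-- the projections of the degree `n` term of the Čech complex -/
noncomputable def cechProj (n : ℕ) (a : Fin (n + 1) → ι) :
    cx U Uf ⋙ HomologicalComplex.eval _ _ n ⟶
      sheafToPresheaf X.smallEtaleTopology AddCommGrpCat.{u + 1} ⋙
        (evaluation X.Etaleᵒᵖ AddCommGrpCat.{u + 1}).obj (op (∏ᶜ (Uf ∘ a)).left) where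
  app F := Pi.π (fun a : Fin (n + 1) → ι => F.obj.obj (op (∏ᶜ (Uf ∘ a)).left)) a
  naturality F G φ := by
    show ((cx U Uf).map φ).f n ≫ _ = _ ≫ φ.hom.app _
    rw [cx_map_f]
    exact Limits.Pi.map_π _ _

lemma cechProj_bijective (n : ℕ) (F : EtCoh.Ab X) :
    Function.Bijective (fun (x : (cx U Uf ⋙ HomologicalComplex.eval _ _ n).obj F)
      (a : Fin (n + 1) → ι) => ((cechProj U Uf n a).app F).hom x) := by
  constructor
  · intro x x' h
    apply (Concrete.productEquiv
      (fun a : Fin (n + 1) → ι => F.obj.obj (op (∏ᶜ (Uf ∘ a)).left))).injective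
    funext a
    rw [Concrete.productEquiv_apply_apply, Concrete.productEquiv_apply_apply]
    exact congrFun h a
  · intro y
    refine ⟨(Concrete.productEquiv
      (fun a : Fin (n + 1) → ι => F.obj.obj (op (∏ᶜ (Uf ∘ a)).left))).symm y, ?_⟩
    funext a
    exact Concrete.productEquiv_symm_apply_π _ _ _


instance additive_eval (n : ℕ) : (cx U Uf ⋙ HomologicalComplex.eval _ _ n).Additive where
  map_add {F G φ ψ} := by
    show ((cx U Uf).map (φ + ψ)).f n = ((cx U Uf).map φ).f n + ((cx U Uf).map ψ).f n
    rw [cx_map_f, cx_map_f, cx_map_f]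
    apply Limits.Pi.hom_ext
    intro a
    erw [Preadditive.add_comp, Limits.Pi.map_π, Limits.Pi.map_π, Limits.Pi.map_π]
    have : (φ + ψ).hom.app (op (∏ᶜ (Uf ∘ a)).left) =
        φ.hom.app (op (∏ᶜ (Uf ∘ a)).left) + ψ.hom.app (op (∏ᶜ (Uf ∘ a)).left) := rfl
    rw [this]
    exact Preadditive.comp_add _ _ _ _ _ _

theorem main (X : Scheme.{u}) [CompactSpace ↥X]
    [QuasiSeparatedSpace ↥X] (U : X.Etale) [QuasiCompact U.hom] [QuasiSeparated U.hom]
    [HasFiniteProducts (Over U)] (ι : Type (u + 1)) [Finite ι] (Uf : ι → Over U)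
    [∀ i, QuasiCompact (Uf i).left.hom] [∀ i, QuasiSeparated (Uf i).left.hom]
    (q : ℕ) (I : Type (u + 1)) [SmallCategory I] [IsFiltered I] :
    PreservesColimitsOfShape I
      (sheafToPresheaf X.smallEtaleTopology AddCommGrpCat.{u + 1} ⋙ EtCech.cechHFunctor Uf q) := by
  have hU := mem_Bq_of_qcqs X U
  have hUf : ∀ i, (Uf i).left ∈ Groth.Agent.S14632.Bq X := fun i => mem_Bq_of_qcqs X (Uf i).left
  have h1 : ∀ n, PreservesColimitsOfShape I (cx U Uf ⋙ HomologicalComplex.eval _ _ n) := by
    intro n
    haveI : ∀ a : Fin (n + 1) → ι, PreservesColimitsOfShape I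
        (sheafToPresheaf X.smallEtaleTopology AddCommGrpCat.{u + 1} ⋙
          (evaluation X.Etaleᵒᵖ AddCommGrpCat.{u + 1}).obj (op (∏ᶜ (Uf ∘ a)).left)) :=
      fun a => secAb_pres X I _ (prod_mem U hU (Uf ∘ a) (fun k => hUf (a k)))
    exact ⟨fun {D} => Groth.Agent.Helper24.ColimSite.preservesColimit_of_jointly_bijective
      (fun a : Fin (n + 1) → ι => sheafToPresheaf X.smallEtaleTopology AddCommGrpCat.{u + 1} ⋙
          (evaluation X.Etaleᵒᵖ AddCommGrpCat.{u + 1}).obj (op (∏ᶜ (Uf ∘ a)).left)) D
      _ (cechProj U Uf n) (cechProj_bijective U Uf n)⟩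
  have h2 : PreservesColimitsOfShape I (cx U Uf) :=
    HomologicalComplex.preservesColimitsOfShape_of_eval _ h1
  have h3 : PreservesColimitsOfShape I
      (HomologicalComplex.homologyFunctor AddCommGrpCat.{u + 1} (ComplexShape.up ℕ) q) :=
    Groth.Agent.Helper29.HomColim.preservesColimitsOfShape_homologyFunctor _ _
  exact (inferInstance : PreservesColimitsOfShape I
    (cx U Uf ⋙ HomologicalComplex.homologyFunctor AddCommGrpCat.{u + 1} (ComplexShape.up ℕ) q))

end Cech

end helpers

/-- On the small étale site of a quasi-compact quasi-separated scheme, let X be a quasi-compact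
quasi-separated scheme, U an étale X-scheme quasi-compact and quasi-separated over X, and (U_i → U)
a finite family of étale U-schemes each quasi-compact and quasi-separated over X. Then for every q
and every small filtered category I, the functor F ↦ Ȟ^q((U_i → U), F) on abelian étale sheaves on X
preserves colimits of shape I. The finite products of the over category (the fibre products entering
the Čech complex) are carried as an instance hypothesis. (The published statement is for an
arbitrary covering family, reduced to a finite one without argument; this row takes a finite family,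
which need not cover U.) -/
theorem result (X : Scheme.{u}) [CompactSpace ↥X]
    [QuasiSeparatedSpace ↥X] (U : X.Etale) [QuasiCompact U.hom] [QuasiSeparated U.hom]
    [HasFiniteProducts (Over U)] (ι : Type (u + 1)) [Finite ι] (Uf : ι → Over U)
    [∀ i, QuasiCompact (Uf i).left.hom] [∀ i, QuasiSeparated (Uf i).left.hom]
    (q : ℕ) (I : Type (u + 1)) [SmallCategory I] [IsFiltered I] :
    PreservesColimitsOfShape I
      (sheafToPresheaf X.smallEtaleTopology AddCommGrpCat.{u + 1} ⋙ EtCech.cechHFunctor Uf q) := by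
  exact main X U ι Uf q I

end Groth.Agent.S14630
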