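import Groth.Statements.S14631
import Mathlib


set_option autoImplicit false
open CategoryTheory AlgebraicGeometry
universe u
open EtBase

namespace Groth.Agent.S14631

/-- Let X be a quasi-separated scheme and U an étale X-scheme. Then there is a jointly surjective family
of étale U-schemes each of which is quasi-compact and quasi-separated, hence of finite presentation,
over X. (Sheaves on the small étale site are therefore determined by their values on étale X-schemes
of finite presentation; that equivalence is not stated here.) -/
theorem result (X : Scheme.{u})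
    [QuasiSeparatedSpace ↥X] (U : X.Etale) :
    ∃ (ι : Type u) (V : ι → Over U), (∀ i, QuasiCompact (V i).left.hom ∧ QuasiSeparated (V i).left.hom) ∧
      ∀ x : ↥(U.left), ∃ (i : ι) (y : ↥((V i).left.left)), (V i).hom.left.base y = x := by
  have hA : ∀ x : U.left, ∃ A : U.left.Opens, IsAffineOpen A ∧ x ∈ A := fun x => by
    obtain ⟨_, ⟨A, hA, rfl⟩, hxA, -⟩ :=
      U.left.isBasis_affineOpens.exists_subset_of_mem_open (Set.mem_univ x) isOpen_univ
    exact ⟨A, hA, hxA⟩
  choose A hA hxA using hA
  refine ⟨U.left, fun x => Over.mk (Y := Scheme.Etale.mk ((A x).ι ≫ U.hom))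
      (MorphismProperty.Over.homMk (A x).ι rfl trivial), ?_, ?_⟩
  · intro x
    haveI : IsAffine (A x).toScheme := hA x
    have h1 : QuasiCompact ((A x).ι ≫ U.hom) :=
      @quasiCompact_of_compactSpace (A x).toScheme X ((A x).ι ≫ U.hom) inferInstance inferInstance
    have h2 : QuasiSeparated ((A x).ι ≫ U.hom) :=
      @QuasiSeparated.of_quasiSeparatedSpace (A x).toScheme X ((A x).ι ≫ U.hom) inferInstance
    exact ⟨h1, h2⟩
  · intro x
    refine ⟨x, ?_⟩
    have : x ∈ Set.range (A x).ι.base := by rw [Scheme.Opens.range_ι]; exact hxA x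
    obtain ⟨y, hy⟩ := this
    exact ⟨y, hy⟩

end Groth.Agent.S14631
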