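import Groth.Statements.S14639
import Mathlib

set_option autoImplicit false
universe u
open Polynomial
open AlgGrp

namespace Groth.Agent.S14639

theorem key {k R : Type*} [Field k] [CharZero k] [CommRing R] [Algebra k R] (N : ℕ) (u : R)
    (hu : u ^ (N + 1) = 0) (ε : R →ₐ[k] k) (hεu : ε u = 0)
    (hdiv : ∀ r : R, ε r = 0 → ∃ r', r = u * r')
    (hgen : Algebra.adjoin k {u} = ⊤)
    (A : Subalgebra k R) (σ : R →ₐ[k] R) (hσ : σ u * (1 + u) = u) (hA : ∀ f ∈ A, σ f ∈ A) :
    ∃ n, 1 ≤ n ∧ n ≤ N + 1 ∧ Subalgebra.toSubmodule A =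
      Submodule.span k {1} ⊔ (Ideal.span {u ^ n}).restrictScalars k := by
  classical
  -- unit criterion
  have hunit : ∀ w : R, ε w ≠ 0 → IsUnit w := by
    intro w hw
    obtain ⟨r', hr'⟩ := hdiv (w - algebraMap k R (ε w)) (by simp)
    have hnil : IsNilpotent (u * r') := ⟨N + 1, by rw [mul_pow, hu, zero_mul]⟩
    have h1 : IsUnit (algebraMap k R (ε w)) := (IsUnit.mk0 _ hw).map (algebraMap k R)
    have h2 := hnil.isUnit_add_left_of_commute h1 (Commute.all _ _)
    have h3 : w = algebraMap k R (ε w) + u * r' := by rw [← hr']; ring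
    rw [h3]
    exact h2
  -- decomposition
  have hdec' : ∀ j m : ℕ, m + j = N + 1 → ∀ r : R, ∃ m' w, IsUnit w ∧ u ^ m * r = u ^ m' * w := by
    intro j
    induction j with
    | zero =>
      intro m hm r
      have hm' : m = N + 1 := by omega
      exact ⟨N + 1, 1, isUnit_one, by rw [hm', hu]; simp⟩
    | succ j ih =>
      intro m hm r
      by_cases h : ε r = 0
      · obtain ⟨r', rfl⟩ := hdiv r h
        obtain ⟨m', w, hw, he⟩ := ih (m + 1) (by omega) r'
        exact ⟨m', w, hw, by rw [← he]; ring⟩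
      · exact ⟨m, r, hunit r h, rfl⟩
  have hdec : ∀ g : R, ∃ m w, IsUnit w ∧ g = u ^ m * w := by
    intro g
    obtain ⟨m, w, hw, he⟩ := hdec' (N + 1) 0 (by omega) g
    exact ⟨m, w, hw, by rw [← he]; simp⟩
  -- the inverse of 1 + u
  have hu1 : IsUnit (1 + u) := IsNilpotent.isUnit_one_add ⟨N + 1, hu⟩
  obtain ⟨w₀, hw₀⟩ := hu1.exists_right_inv
  have hσu : σ u = u * w₀ := by
    calc σ u = σ u * ((1 + u) * w₀) := by rw [hw₀, mul_one]
      _ = (σ u * (1 + u)) * w₀ := by ring
      _ = u * w₀ := by rw [hσ]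
  have hw₀' : 1 - u * w₀ = w₀ := by linear_combination (-1 : R) * hw₀
  have hεw₀ : ε w₀ = 1 := by
    have := congrArg ε hw₀
    simpa [hεu] using this
  have hσ2 : ∀ g : R, ∃ s, σ g = g + u ^ 2 * s := by
    intro g
    have hg : g ∈ Algebra.adjoin k {u} := by rw [hgen]; trivial
    induction hg using Algebra.adjoin_induction with
    | mem x hx =>
      rw [Set.mem_singleton_iff] at hx
      subst hx
      exact ⟨-w₀, by rw [hσu]; linear_combination x * hw₀⟩
    | algebraMap r => exact ⟨0, by simp⟩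
    | add x y _ _ hx hy =>
      obtain ⟨s1, h1⟩ := hx
      obtain ⟨s2, h2⟩ := hy
      exact ⟨s1 + s2, by rw [map_add, h1, h2]; ring⟩
    | mul x y _ _ hx hy =>
      obtain ⟨s1, h1⟩ := hx
      obtain ⟨s2, h2⟩ := hy
      exact ⟨x * s2 + s1 * y + u ^ 2 * s1 * s2, by rw [map_mul, h1, h2]; ring⟩
  have hbin : ∀ (x : R) (m : ℕ), ∃ q, (1 - x) ^ m = 1 - (m : R) * x + x ^ 2 * q := by
    intro x m
    induction m with
    | zero => exact ⟨0, by simp⟩
    | succ m ih =>
      obtain ⟨q, hq⟩ := ih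
      exact ⟨(m : R) + q - x * q, by rw [pow_succ, hq]; push_cast; ring⟩
  -- raising the order
  have hraise : ∀ m : ℕ, 1 ≤ m → (∃ f ∈ A, ∃ w, IsUnit w ∧ f = u ^ m * w) →
      (∃ f ∈ A, ∃ w, IsUnit w ∧ f = u ^ (m + 1) * w) := by
    rintro m hm ⟨f, hfA, w, hw, rfl⟩
    obtain ⟨s, hs⟩ := hσ2 w
    obtain ⟨q, hq⟩ := hbin (u * w₀) m
    rw [hw₀'] at hq
    refine ⟨σ (u ^ m * w) - u ^ m * w, A.sub_mem (hA _ hfA) hfA,
      -(m : R) * w₀ * w + u * (w₀ ^ 2 * q * w + s * w₀ ^ m), ?_, ?_⟩
    · apply hunit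
      have hεw : ε w ≠ 0 := (hw.map ε).ne_zero
      have hm0 : (m : k) ≠ 0 := by
        have : m ≠ 0 := by omega
        exact_mod_cast this
      simp only [map_add, map_mul, map_neg, map_natCast, hεu, hεw₀, zero_mul, add_zero, mul_one]
      exact mul_ne_zero (neg_ne_zero.2 hm0) hεw
    · rw [map_mul, map_pow, hσu, hs]
      linear_combination (u ^ m * w) * hq
  -- the minimal order
  have hS' : ∃ m : ℕ, 1 ≤ m ∧ ∃ f ∈ A, ∃ w, IsUnit w ∧ f = u ^ m * w :=
    ⟨N + 1, Nat.le_add_left 1 N, 0, A.zero_mem, 1, isUnit_one, by rw [hu]; simp⟩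
  have hn := Nat.find_spec hS'
  have hmin : ∀ m : ℕ, (1 ≤ m ∧ ∃ f ∈ A, ∃ w, IsUnit w ∧ f = u ^ m * w) → Nat.find hS' ≤ m :=
    fun m hm => Nat.find_min' hS' hm
  set n := Nat.find hS' with hn_def
  have hnle : n ≤ N + 1 :=
    hmin (N + 1) ⟨Nat.le_add_left 1 N, 0, A.zero_mem, 1, isUnit_one, by rw [hu]; simp⟩
  have hall : ∀ m : ℕ, n ≤ m → ∃ f ∈ A, ∃ w, IsUnit w ∧ f = u ^ m * w := by
    intro m hnm
    induction m, hnm using Nat.le_induction with
    | base => exact hn.2
    | succ m hnm ih => exact hraise m (le_trans hn.1 hnm) ih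
  have hsup : ∀ j m : ℕ, n ≤ m → m + j = N + 1 → ∀ r : R, u ^ m * r ∈ A := by
    intro j
    induction j with
    | zero =>
      intro m _ hm r
      have hm' : m = N + 1 := by omega
      rw [hm', hu, zero_mul]
      exact A.zero_mem
    | succ j ih =>
      intro m hnm hm r
      obtain ⟨f, hfA, w, hw, hf⟩ := hall m hnm
      have hεw : ε w ≠ 0 := (hw.map ε).ne_zero
      obtain ⟨r', hr'⟩ := hdiv (r - algebraMap k R (ε r / ε w) * w) (by
        simp only [map_sub, map_mul, AlgHom.commutes, Algebra.algebraMap_self, RingHom.id_apply]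
        field_simp
        ring)
      have h1 : u ^ m * r = algebraMap k R (ε r / ε w) * f + u ^ (m + 1) * r' := by
        rw [hf, pow_succ, mul_assoc (u ^ m) u r', ← hr']
        ring
      rw [h1]
      exact A.add_mem (A.mul_mem (A.algebraMap_mem _) hfA) (ih (m + 1) (by omega) (by omega) r')
  refine ⟨n, hn.1, hnle, le_antisymm ?_ ?_⟩
  · intro f hf
    have hfA : f ∈ A := hf
    have hgA : f - algebraMap k R (ε f) ∈ A := A.sub_mem hfA (A.algebraMap_mem _)
    obtain ⟨m, w, hw, hg⟩ := hdec (f - algebraMap k R (ε f))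
    have hεw : ε w ≠ 0 := (hw.map ε).ne_zero
    have hm1 : 1 ≤ m := by
      by_contra hcon
      have hm0 : m = 0 := by omega
      rw [hm0, pow_zero, one_mul] at hg
      apply hεw
      rw [← hg]
      simp
    have hnm : n ≤ m := hmin m ⟨hm1, _, hgA, w, hw, hg⟩
    obtain ⟨d, rfl⟩ := Nat.exists_eq_add_of_le hnm
    refine Submodule.mem_sup.2 ⟨algebraMap k R (ε f), ?_, f - algebraMap k R (ε f), ?_, by ring⟩
    · exact Submodule.mem_span_singleton.2 ⟨ε f, by rw [Algebra.smul_def, mul_one]⟩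
    · rw [Submodule.restrictScalars_mem, Ideal.mem_span_singleton']
      exact ⟨u ^ d * w, by rw [hg, pow_add]; ring⟩
  · refine sup_le ?_ ?_
    · rw [Submodule.span_le, Set.singleton_subset_iff]
      exact A.one_mem
    · intro x hx
      rw [Submodule.restrictScalars_mem, Ideal.mem_span_singleton'] at hx
      obtain ⟨r, rfl⟩ := hx
      rw [mul_comm]
      exact hsup (N + 1 - n) n le_rfl (by omega) r


/-- Classification of the subalgebras of a truncated polynomial ring that are stable under the unipotent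
substitutions, which is the algebraic step behind the classification of curves almost homogeneous
under the additive group in characteristic zero. Let k be a field of characteristic zero, N ≥ 0 and
R = k[u]/(u^(N+1)). The additive group acts on R through the substitutions u ↦ u/(1 + a u), a in k.
If A is a k-subalgebra of R stable under all these substitutions (stated for every k-algebra
endomorphism σ of R with σ(u)(1 + a u) = u for some a in k), then there is an integer n with 1 ≤ n ≤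
N + 1 such that A = k ⊕ (u^n): as a k-subspace, A is the span of 1 plus the ideal generated by u^n.
(In positive characteristic p and for N ≥ p + 1, the subalgebra generated by u^p is stable and not
of this form.) -/
theorem result (k : Type u) [Field k] [CharZero k]
    (N : ℕ) (A : Subalgebra k (AdjoinRoot ((Polynomial.X : Polynomial k) ^ (N + 1))))
    (hA : ∀ (a : k) (σ : AdjoinRoot ((Polynomial.X : Polynomial k) ^ (N + 1)) →ₐ[k] AdjoinRoot ((Polynomial.X : Polynomial k) ^ (N + 1))),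
      σ (AdjoinRoot.root ((Polynomial.X : Polynomial k) ^ (N + 1))) * (1 + algebraMap k (AdjoinRoot ((Polynomial.X : Polynomial k) ^ (N + 1))) a * AdjoinRoot.root ((Polynomial.X : Polynomial k) ^ (N + 1))) = AdjoinRoot.root ((Polynomial.X : Polynomial k) ^ (N + 1)) →
        A.map σ ≤ A) :
    ∃ n : ℕ, 1 ≤ n ∧ n ≤ N + 1 ∧
      Subalgebra.toSubmodule A =
        Submodule.span k {1} ⊔ (Ideal.span {AdjoinRoot.root ((Polynomial.X : Polynomial k) ^ (N + 1)) ^ n}).restrictScalars k := by
  set R := AdjoinRoot ((Polynomial.X : Polynomial k) ^ (N + 1)) with hR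
  set u : R := AdjoinRoot.root ((Polynomial.X : Polynomial k) ^ (N + 1)) with hu_def
  have hu : u ^ (N + 1) = 0 := by
    rw [hu_def, ← AdjoinRoot.mk_X, ← map_pow, AdjoinRoot.mk_self]
  let ε : R →ₐ[k] k := AdjoinRoot.liftAlgHom _ (AlgHom.id k k) 0 (by simp)
  have hεu : ε u = 0 := AdjoinRoot.liftAlgHom_root _ _ _ _
  have hdiv : ∀ r : R, ε r = 0 → ∃ r', r = u * r' := by
    intro r hr
    obtain ⟨p, rfl⟩ := AdjoinRoot.mk_surjective r
    have h0 : p.coeff 0 = 0 := by
      have : ε (AdjoinRoot.mk _ p) = Polynomial.eval₂ (AlgHom.id k k : k →+* k) 0 p := rfl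
      rw [this, Polynomial.eval₂_at_zero] at hr
      exact hr
    obtain ⟨q, rfl⟩ := Polynomial.X_dvd_iff.2 h0
    exact ⟨AdjoinRoot.mk _ q, by rw [map_mul, AdjoinRoot.mk_X]⟩
  have hgen : Algebra.adjoin k {u} = ⊤ := AdjoinRoot.adjoinRoot_eq_top
  have hu1 : IsUnit (1 + u) := IsNilpotent.isUnit_one_add ⟨N + 1, hu⟩
  obtain ⟨w₀, hw₀⟩ := hu1.exists_right_inv
  let σ : R →ₐ[k] R := AdjoinRoot.liftAlgHom _ (Algebra.ofId k R) (u * w₀) (by
    rw [Polynomial.eval₂_pow, Polynomial.eval₂_X, mul_pow, hu, zero_mul])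
  have hσu : σ u = u * w₀ := AdjoinRoot.liftAlgHom_root _ _ _ _
  have hσ : σ u * (1 + u) = u := by
    rw [hσu, mul_assoc, mul_comm w₀, hw₀, mul_one]
  have hA' : ∀ f ∈ A, σ f ∈ A := by
    intro f hf
    have := hA 1 σ (by rw [map_one, one_mul]; exact hσ)
    exact this (Subalgebra.mem_map.2 ⟨f, hf, rfl⟩)
  exact key N u hu ε hεu hdiv hgen A σ hσ hA'

end Groth.Agent.S14639
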