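import Groth.Statements.S14645
import Groth.Agent.Lib.Helper18.KPts
import Groth.Agent.Lib.Helper18.ConsJac
import Groth.Agent.Lib.Helper18.GrpFppf

set_option autoImplicit false
universe u
open CategoryTheory MonoidalCategory CartesianMonoidalCategory MonObj GrpObj AlgebraicGeometry CategoryTheory.Limits
open AlgGrp

namespace Groth.Agent.S14645

/-- Over a field k with algebraic closure K, let G be a smooth k-group scheme of finite type acting on a
variety X (a separated, geometrically integral k-scheme of finite type). Then X is homogeneous under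
G, i.e. the graph morphism G × X → X × X, (g, x) ↦ (x, g·x), is surjective, if and only if the
abstract group G(K) of K-points over k acts transitively on the set X(K): for all K-points x, y of X
there is a K-point g of G with g · x = y. -/
theorem result (k : Type u) [Field k]
    (G X : Over (Spec (CommRingCat.of k))) [GrpObj G] [Smooth G.hom] [QuasiCompact G.hom]
    [IsSeparated X.hom] [LocallyOfFiniteType X.hom] [QuasiCompact X.hom] [GeometricallyIntegral X.hom] (a : AlgGrp.Action G X)
    (K : Type u) [Field K] [Algebra k K] [IsAlgClosure k K] :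
    Surjective (CartesianMonoidalCategory.lift (CartesianMonoidalCategory.snd G X) a.act).left ↔
      ∀ x y : Over.mk (Spec.map (CommRingCat.ofHom (algebraMap k K))) ⟶ X, ∃ g : Over.mk (Spec.map (CommRingCat.ofHom (algebraMap k K))) ⟶ G, CartesianMonoidalCategory.lift g x ≫ a.act = y := by
  haveI : IsAlgClosed K := IsAlgClosure.isAlgClosed k
  let K' : Over (Spec (CommRingCat.of k)) := Groth.Agent.Helper18.KPts.objK k K
  let t : ↥K'.left := (IsLocalRing.closedPoint K : PrimeSpectrum K)
  haveI : LocallyOfFiniteType G.hom := inferInstance
  haveI : LocallyOfFiniteType (G ⊗ X).hom := by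
    show LocallyOfFiniteType (Limits.pullback.fst G.hom X.hom ≫ G.hom)
    infer_instance
  haveI : LocallyOfFiniteType (X ⊗ X).hom := by
    show LocallyOfFiniteType (Limits.pullback.fst X.hom X.hom ≫ X.hom)
    infer_instance
  haveI : QuasiCompact (G ⊗ X).hom := by
    show QuasiCompact (Limits.pullback.fst G.hom X.hom ≫ G.hom)
    infer_instance
  haveI : QuasiCompact (X ⊗ X).hom := by
    show QuasiCompact (Limits.pullback.fst X.hom X.hom ≫ X.hom)
    infer_instance
  constructor
  · intro hs x y
    haveI := hs
    obtain ⟨z, hz⟩ := Groth.Agent.Helper18.KPts.exists_kpt_lift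
      (CartesianMonoidalCategory.lift (CartesianMonoidalCategory.snd G X) a.act)
      (CartesianMonoidalCategory.lift x y)
    have h1 : z ≫ CartesianMonoidalCategory.snd G X = x := by
      have := congrArg (· ≫ CartesianMonoidalCategory.fst X X) hz
      simpa using this
    have h2 : z ≫ a.act = y := by
      have := congrArg (· ≫ CartesianMonoidalCategory.snd X X) hz
      simpa using this
    refine ⟨z ≫ CartesianMonoidalCategory.fst G X, ?_⟩
    rw [← h1, ← h2]
    congr 1
    apply CartesianMonoidalCategory.hom_ext <;> simp
  · intro htr
    set Γ := CartesianMonoidalCategory.lift (CartesianMonoidalCategory.snd G X) a.act with hΓ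
    haveI : QuasiCompact Γ.left := Groth.Agent.Helper18.GrpFppf.quasiCompact_left Γ
    haveI : LocallyOfFiniteType Γ.left := by
      haveI : LocallyOfFiniteType (Γ.left ≫ (X ⊗ X).hom) := by rw [Over.w]; infer_instance
      exact locallyOfFiniteType_of_comp Γ.left (X ⊗ X).hom
    haveI : IsLocallyNoetherian (X ⊗ X).left :=
      LocallyOfFiniteType.isLocallyNoetherian (X ⊗ X).hom
    haveI : LocallyOfFinitePresentation Γ.left := inferInstance
    haveI : CompactSpace (X ⊗ X).left := by
      have : CompactSpace ↥(Spec (CommRingCat.of k)) := inferInstance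
      exact QuasiCompact.compactSpace_of_compactSpace (X ⊗ X).hom
    haveI : QuasiSeparatedSpace (X ⊗ X).left := inferInstance
    haveI : JacobsonSpace (X ⊗ X).left :=
      Groth.Agent.Helper18.KPts.jacobsonSpace_of_lft (X ⊗ X)
    have hcons : Topology.IsConstructible (Γ.left '' Set.univ) :=
      Γ.left.isConstructible_image Topology.IsConstructible.univ
    rw [Set.image_univ] at hcons
    have hcl : closedPoints (X ⊗ X).left ⊆ Set.range Γ.left := by
      intro w hw
      obtain ⟨p, hp⟩ := Groth.Agent.Helper18.KPts.exists_kpt_of_isClosed (K := K) (X ⊗ X) w hw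
      obtain ⟨g, hg⟩ := htr (p ≫ CartesianMonoidalCategory.fst X X)
        (p ≫ CartesianMonoidalCategory.snd X X)
      have e : CartesianMonoidalCategory.lift g (p ≫ CartesianMonoidalCategory.fst X X) ≫ Γ = p := by
        apply CartesianMonoidalCategory.hom_ext
        · simp [hΓ]
        · simp [hΓ, hg]
      refine ⟨(CartesianMonoidalCategory.lift g (p ≫ CartesianMonoidalCategory.fst X X)).left t, ?_⟩
      show (CartesianMonoidalCategory.lift g (p ≫ CartesianMonoidalCategory.fst X X) ≫ Γ).left t = w
      rw [e]; exact hp t
    have := Groth.Agent.Helper18.ConsJac.eq_univ_of_isConstructible hcons hcl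
    exact ⟨Set.range_eq_univ.mp this⟩

end Groth.Agent.S14645
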