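import Groth.Statements.S14649
import Groth.Agent.Lib.Helper20.RE2
import Groth.Agent.Lib.Helper20.RE4

set_option autoImplicit false
universe u
open FiltBl

namespace Groth.Agent.S14649

open Groth.Agent.Helper20

theorem result (A : Type u) [CommRing A] [IsNoetherianRing A] [IsLocalRing A]
    (S : Type u) [CommRing S] [LocCoh.IsGorensteinRing S] (π : S →+* A) (hπ : Function.Surjective π)
    (𝓕 : FiltBl.IdealFiltration A) (hne : ∀ n, 𝓕.F n ≠ ⊥) (hsep : ⨅ n, 𝓕.F n = ⊥)
    (hfg : Algebra.FiniteType A 𝓕.rees) (hht : 2 ≤ (𝓕.F 1).height) :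
    LocCoh.IsCohenMacaulayRing 𝓕.extRees ↔ LocCoh.IsCohenMacaulayRing 𝓕.Gr := by
  haveI hN : IsNoetherianRing 𝓕.extRees := RE.isNoetherianRing_extRees 𝓕 hfg
  have hu := RE.u_mem_nonZeroDivisors 𝓕
  constructor
  · intro h
    exact RE.isCohenMacaulayRing_quotient 𝓕.u hu h
  · intro h
    have huN := RE.u_mem_starMax 𝓕 hsep
    have hIq : Ideal.span {𝓕.u} ≤ RE.starMax 𝓕 hsep :=
      (Ideal.span_singleton_le_iff_mem _).mpr huN
    haveI : ((RE.starMax 𝓕 hsep).map (Ideal.Quotient.mk (Ideal.span {𝓕.u}))).IsPrime :=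
      Ideal.map_isPrime_of_surjective Ideal.Quotient.mk_surjective
        (by rw [Ideal.mk_ker]; exact hIq)
    have h1 := h.isCohenMacaulayLocalRing_localization
      ((RE.starMax 𝓕 hsep).map (Ideal.Quotient.mk (Ideal.span {𝓕.u})))
    have h2 := (RE.cm_quotient_localization_iff 𝓕.u hu (RE.starMax 𝓕 hsep) huN).mp h1
    exact RE.isCohenMacaulayRing_of_localization (RE.piece 𝓕) (RE.starMax 𝓕 hsep)
      (RE.le_starMax 𝓕 hsep) h2

end Groth.Agent.S14649
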