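import Groth.Statements.S14651
import Groth.Agent.Lib.Helper20.RE6

set_option autoImplicit false
universe u
open FiltBl

namespace Groth.Agent.S14651

open Groth.Agent.Helper20

theorem result (A : Type u) [CommRing A] [IsNoetherianRing A] [IsLocalRing A]
    (S : Type u) [CommRing S] [LocCoh.IsGorensteinRing S] (π : S →+* A) (hπ : Function.Surjective π)
    (𝓕 : FiltBl.IdealFiltration A) (hne : ∀ n, 𝓕.F n ≠ ⊥) (hsep : ⨅ n, 𝓕.F n = ⊥)
    (hfg : Algebra.FiniteType A 𝓕.rees) (hht : 2 ≤ (𝓕.F 1).height) :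
    LocCoh.HasSk 2 𝓕.extRees 𝓕.extRees ↔ (LocCoh.HasSk 1 𝓕.Gr 𝓕.Gr ∧ LocCoh.HasSk 2 A A) := by
  haveI hN : IsNoetherianRing 𝓕.extRees := RE.isNoetherianRing_extRees 𝓕 hfg
  have hu := RE.u_mem_nonZeroDivisors 𝓕
  rw [RE.hasSk_self_iff, RE.hasSk_self_iff, RE.hasSk_self_iff]
  constructor
  · intro hE
    refine ⟨?_, ?_⟩
    · intro p _ n m hnm
      haveI hq : (p.comap (Ideal.Quotient.mk (Ideal.span {𝓕.u}))).IsPrime :=
        Ideal.comap_isPrime _ _
      have hmap : (p.comap (Ideal.Quotient.mk (Ideal.span {𝓕.u}))).map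
          (Ideal.Quotient.mk (Ideal.span {𝓕.u})) = p :=
        Ideal.map_comap_of_surjective _ Ideal.Quotient.mk_surjective p
      haveI : ((p.comap (Ideal.Quotient.mk (Ideal.span {𝓕.u}))).map
          (Ideal.Quotient.mk (Ideal.span {𝓕.u}))).IsPrime := by rw [hmap]; infer_instance
      have htq : 𝓕.u ∈ p.comap (Ideal.Quotient.mk (Ideal.span {𝓕.u})) := by
        rw [Ideal.mem_comap]
        have : Ideal.Quotient.mk (Ideal.span {𝓕.u}) 𝓕.u = 0 :=
          Ideal.Quotient.eq_zero_iff_mem.mpr (Ideal.mem_span_singleton_self _)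
        rw [this]
        exact Ideal.zero_mem _
      have h1 := (RE.isDD_quotient_localization_iff 𝓕.u hu _ htq n m).mp
        (RE.isDD_localization_congr hmap.symm hnm)
      have h2 := hE _ _ _ h1
      omega
    · intro q _ n m hnm
      haveI := RE.primeOf_isPrime 𝓕 q
      exact hE _ _ _ (RE.primeOf_isDD 𝓕 q n m hnm)
  · rintro ⟨hG, hA⟩ P _ n m hnm
    by_cases huP : 𝓕.u ∈ P
    · have hIq : Ideal.span {𝓕.u} ≤ P := (Ideal.span_singleton_le_iff_mem _).mpr huP
      haveI : (P.map (Ideal.Quotient.mk (Ideal.span {𝓕.u}))).IsPrime :=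
        Ideal.map_isPrime_of_surjective Ideal.Quotient.mk_surjective
          (by rw [Ideal.mk_ker]; exact hIq)
      obtain ⟨n', m', h'⟩ := RE.exists_isDD_quotient 𝓕.u P
      have h1 := (RE.isDD_quotient_localization_iff 𝓕.u hu P huP n' m').mp h'
      obtain ⟨e1, e2⟩ := hnm.unique h1
      have h2 := hG _ _ _ h'
      omega
    · haveI : (P.comap (algebraMap A 𝓕.extRees)).IsPrime := Ideal.comap_isPrime _ _
      obtain ⟨n', m', h'⟩ := RE.exists_isDD
        (Localization.AtPrime (P.comap (algebraMap A 𝓕.extRees)))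
      obtain ⟨δ, hδ⟩ := RE.extRees_isDD 𝓕 P huP n' m' h'
      obtain ⟨e1, e2⟩ := hnm.unique hδ
      have h2 := hA _ _ _ h'
      omega

end Groth.Agent.S14651
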