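import Groth.Statements.S14655
import Groth.Agent.Lib.Helper12.ProjCM1
import Groth.Agent.Lib.Helper12.ProjCM2
import Groth.Agent.Lib.Helper12.ProjCM3
import Groth.Agent.Lib.Helper16.Sch.FibCM

set_option autoImplicit false
set_option linter.style.haveILetI false
universe u
open FiltBl

namespace Groth.Agent.S14655

open AlgebraicGeometry in
/-- Let A be a Noetherian ℕ-graded commutative ring which is a Cohen–Macaulay ring. Then the scheme Proj
A is Cohen–Macaulay: every local ring of Proj A is a Cohen–Macaulay local ring. -/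
theorem result (A : Type u) [CommRing A]
    (𝒜 : ℕ → AddSubgroup A) [GradedRing 𝒜] [LocCoh.IsCohenMacaulayRing A] (x : Proj 𝒜) :
    LocCoh.IsCohenMacaulayLocalRing ((Proj 𝒜).presheaf.stalk x) := by
  classical
  -- a homogeneous element of positive degree outside the prime
  obtain ⟨m, hm, f, hf, hf𝔭⟩ : ∃ m, 0 < m ∧ ∃ f ∈ 𝒜 m, f ∉ x.asHomogeneousIdeal.toIdeal := by
    have hnot := x.not_irrelevant_le
    by_contra hcon
    push Not at hcon
    apply hnot
    change (HomogeneousIdeal.irrelevant 𝒜).toIdeal ≤ x.asHomogeneousIdeal.toIdeal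
    intro a ha
    rw [← DirectSum.sum_support_decompose 𝒜 a]
    refine Ideal.sum_mem _ fun i _ => ?_
    by_cases hi : i = 0
    · subst hi
      have h0 : (DirectSum.decompose 𝒜 a 0 : A) = 0 := by
        have := (HomogeneousIdeal.mem_irrelevant_iff 𝒜 a).mp ha
        simpa [GradedRing.proj_apply] using this
      rw [h0]
      exact Ideal.zero_mem _
    · exact hcon i (Nat.pos_of_ne_zero hi) _ (SetLike.coe_mem _)
  haveI : LocCoh.IsCohenMacaulayLocalRing (Localization.AtPrime x.asHomogeneousIdeal.toIdeal) :=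
    LocCoh.IsCohenMacaulayRing.isCohenMacaulayLocalRing_localization x.asHomogeneousIdeal.toIdeal
  have hR : LocCoh.IsCohenMacaulayLocalRing
      (HomogeneousLocalization.AtPrime 𝒜 x.asHomogeneousIdeal.toIdeal) :=
    Groth.Agent.Helper12.ProjCM.isCM_of_pure
      (algebraMap (HomogeneousLocalization.AtPrime 𝒜 x.asHomogeneousIdeal.toIdeal)
        (Localization.AtPrime x.asHomogeneousIdeal.toIdeal))
      (Groth.Agent.Helper12.ProjCM.comap_map_val 𝒜 x.asHomogeneousIdeal.toIdeal)
      (Groth.Agent.Helper12.ProjCM.eq_maximalIdeal_of_map_le 𝒜 x.asHomogeneousIdeal.toIdeal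
        x.asHomogeneousIdeal.isHomogeneous hm hf hf𝔭)
  exact Groth.Agent.Helper16.FibCM.isCM_of_ringEquiv
    (AlgebraicGeometry.Proj.stalkIso 𝒜 x).commRingCatIsoToRingEquiv.symm (hA := hR)

end Groth.Agent.S14655
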