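import Groth.Statements.S14656
import Groth.Agent.Lib.Helper6.ProjS1A

set_option autoImplicit false
universe u
open FiltBl

namespace Groth.Agent.S14656

open AlgebraicGeometry in
/-- Let A be a Noetherian ℕ-graded commutative ring satisfying Serre's condition (S_1) (every
localization A_p has depth at least min(1, dim A_p)). Then every local ring of the scheme Proj A
satisfies (S_1). -/
theorem result (A : Type u) [CommRing A] [IsNoetherianRing A]
    (𝒜 : ℕ → AddSubgroup A) [GradedRing 𝒜] (hA : LocCoh.HasSk 1 A A) (x : Proj 𝒜) :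
    LocCoh.HasSk 1 ((Proj 𝒜).presheaf.stalk x) ((Proj 𝒜).presheaf.stalk x) := by
  classical
  -- a homogeneous element of positive degree outside `x`
  obtain ⟨f, d, hf, hd, hfx⟩ : ∃ (f : A) (d : ℕ), f ∈ 𝒜 d ∧ 0 < d ∧
      f ∉ x.asHomogeneousIdeal.toIdeal := by
    by_contra hcon
    push Not at hcon
    refine x.not_irrelevant_le fun z hz ↦ ?_
    rw [← DirectSum.sum_support_decompose 𝒜 z]
    refine x.asHomogeneousIdeal.toIdeal.sum_mem fun k hk ↦ ?_
    by_cases hk0 : k = 0
    · subst hk0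
      have : ((DirectSum.decompose 𝒜 z 0 : ↥(𝒜 0)) : A) = 0 := hz
      rw [this]
      exact Ideal.zero_mem _
    · exact hcon _ k (SetLike.coe_mem _) (Nat.pos_of_ne_zero hk0)
  haveI hBn : IsNoetherianRing (HomogeneousLocalization.Away 𝒜 f) :=
    Groth.Agent.Helper6.ProjS1.isNoetherianRing_away 𝒜 hf
  have hB : LocCoh.HasSk 1 (HomogeneousLocalization.Away 𝒜 f) (HomogeneousLocalization.Away 𝒜 f) :=
    Groth.Agent.Helper6.ProjS1.hasSk_one_away 𝒜 hf hd hA
  have hxr : x ∈ (Proj.awayι 𝒜 f hf hd).opensRange := by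
    rw [Proj.opensRange_awayι]
    exact hfx
  obtain ⟨y, rfl⟩ := hxr
  exact Groth.Agent.Helper6.ProjS1.hasSk_stalk_of_chart (Proj.awayι 𝒜 f hf hd) y 1
    (Groth.Agent.Helper1.SerreNormal.hasSk_localization 1 hB _)

end Groth.Agent.S14656
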