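import Groth.Statements.S14658
import Mathlib
import Groth.Agent.Lib.Helper22.GrUnit2
import Groth.Agent.Lib.Helper22.GrUnit4

set_option autoImplicit false
universe u
open FiltBl

namespace Groth.Agent.S14658

/-- Let R be a Noetherian ℤ-graded commutative ring which is regular (every localization at a prime is a
regular local ring) and whose degree-0 subring R_0 is a local ring with maximal ideal m. Let t ∈ R_N
be a homogeneous unit of R of positive degree N such that R_i · R_j ⊆ m · t for all positive i, j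
with i + j = N (every product a b with a ∈ R_i, b ∈ R_j is c t for some c ∈ m). Then the ring
R[U]/(U^N − t), U an indeterminate, is again regular: all its localizations at prime ideals are
regular local rings. -/
theorem result (R : Type u) [CommRing R]
    [IsNoetherianRing R] (𝒜 : ℤ → AddSubgroup R) [GradedRing 𝒜]
    (hreg : ∀ (p : Ideal R) [p.IsPrime], IsRegularLocalRing (Localization.AtPrime p))
    [IsLocalRing (GrLC.deg0 𝒜)] (N : ℕ) (hN : 0 < N) (t : R) (ht : t ∈ 𝒜 (N : ℤ))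
    (htu : IsUnit t)
    (hm : ∀ (i j : ℤ), 0 < i → 0 < j → i + j = (N : ℤ) → ∀ a ∈ 𝒜 i, ∀ b ∈ 𝒜 j,
      ∃ c : GrLC.deg0 𝒜, c ∈ IsLocalRing.maximalIdeal (GrLC.deg0 𝒜) ∧ a * b = (c : R) * t)
    (q : Ideal (AdjoinRoot (Polynomial.X ^ N - Polynomial.C t))) [q.IsPrime] :
    IsRegularLocalRing (Localization.AtPrime q) := by
  classical
  obtain ⟨tu, rfl⟩ := htu
  have hγ : ∀ r : ℤ, 0 < r → r < N → ∀ x ∈ 𝒜 r, ∃ c : SetLike.GradeZero.subring 𝒜,
      c ∈ IsLocalRing.maximalIdeal (SetLike.GradeZero.subring 𝒜) ∧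
        x ^ N = (c : R) * ((tu ^ r : Rˣ) : R) := by
    intro r hr0 hrN x hx
    have hb : x ^ (N - 1) * ((tu ^ (-(r - 1)) : Rˣ) : R) ∈ 𝒜 ((N : ℤ) - r) := by
      have h := Groth.Agent.Helper22.GrUnit.mul_zpow_mem 𝒜 tu ht
        (SetLike.pow_mem_graded (N - 1) hx) (-(r - 1))
      rw [nsmul_eq_mul, Nat.cast_pred hN] at h
      have e : ((N : ℤ) - 1) * r + -(r - 1) * (N : ℤ) = (N : ℤ) - r := by ring
      rw [e] at h
      exact h
    obtain ⟨c, hc, hxc⟩ := hm r ((N : ℤ) - r) hr0 (by omega) (by ring) x hx _ hb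
    refine ⟨c, hc, ?_⟩
    have h1 : x ^ N * ((tu ^ (-(r - 1)) : Rˣ) : R) = (c : R) * (tu : R) := by
      rw [← hxc, ← mul_pow_sub_one hN.ne' x]
      ring
    calc x ^ N = x ^ N * ((tu ^ (-(r - 1)) : Rˣ) : R) * ((tu ^ (r - 1) : Rˣ) : R) := by
          rw [mul_assoc, ← Units.val_mul, ← zpow_add, neg_add_cancel, zpow_zero, Units.val_one,
            mul_one]
      _ = (c : R) * (tu : R) * ((tu ^ (r - 1) : Rˣ) : R) := by rw [h1]
      _ = (c : R) * ((tu ^ r : Rˣ) : R) := by
          rw [mul_assoc, ← Units.val_mul, ← zpow_one_add, show 1 + (r - 1) = r by ring]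
  haveI hC : IsRegularLocalRing (R ⧸ Ideal.span {(tu : R) - 1}) :=
    Groth.Agent.Helper22.GrUnit.core 𝒜 N hN tu ht (Ideal.Quotient.mk _)
      Ideal.Quotient.mk_surjective Ideal.mk_ker hreg hγ
  haveI hL : IsRegularRing (LaurentPolynomial (R ⧸ Ideal.span {(tu : R) - 1})) :=
    Groth.Agent.Helper22.GrUnit.isRegularRing_laurent _
  obtain ⟨e⟩ := Groth.Agent.Helper22.GrUnit.adjoinRoot_equiv_laurent 𝒜 N hN tu ht
  haveI : IsRegularRing (AdjoinRoot (Polynomial.X ^ N - Polynomial.C (tu : R))) :=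
    IsRegularRing.of_ringEquiv e.symm
  exact IsRegularRing.isRegularLocalRing_localization q

end Groth.Agent.S14658
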