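import Groth.Statements.S14659
import Mathlib
import Groth.Agent.Lib.Helper22.GrUnit2

set_option autoImplicit false
universe u
open FiltBl

namespace Groth.Agent.S14659

/-- Let R be a Noetherian ℤ-graded commutative ring which is regular (every localization at a prime is a
regular local ring), whose degree-0 subring R_0 is a local ring, with R_1 ≠ 0 and with a homogeneous
unit in some positive degree; let N be the least positive degree in which R has a unit and t ∈ R_N a
unit (so that R_N = t · R_0). Then C = R/(t − 1)R is a regular local ring. -/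
theorem result (R : Type u) [CommRing R]
    [IsNoetherianRing R] (𝒜 : ℤ → AddSubgroup R) [GradedRing 𝒜]
    (hreg : ∀ (p : Ideal R) [p.IsPrime], IsRegularLocalRing (Localization.AtPrime p))
    [IsLocalRing (GrLC.deg0 𝒜)] (h1 : ∃ x ∈ 𝒜 1, x ≠ 0) (N : ℕ) (hN : 0 < N) (t : R)
    (ht : t ∈ 𝒜 (N : ℤ)) (htu : IsUnit t)
    (hmin : ∀ (n : ℤ), 0 < n → n < (N : ℤ) → ∀ s ∈ 𝒜 n, ¬ IsUnit s) :
    IsRegularLocalRing (R ⧸ Ideal.span {t - 1}) := by
  classical
  obtain ⟨tu, rfl⟩ := htu
  refine Groth.Agent.Helper22.GrUnit.core 𝒜 N hN tu ht (Ideal.Quotient.mk _)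
    Ideal.Quotient.mk_surjective Ideal.mk_ker hreg ?_
  intro r hr0 hrN x hx
  have hc0 : x ^ N * ((tu ^ (-r) : Rˣ) : R) ∈ 𝒜 0 := by
    have h := Groth.Agent.Helper22.GrUnit.mul_zpow_mem 𝒜 tu ht
      (SetLike.pow_mem_graded N hx) (-r)
    rw [nsmul_eq_mul] at h
    have e : (N : ℤ) * r + -r * (N : ℤ) = 0 := by ring
    rw [e] at h
    exact h
  have hcancel : x ^ N * ((tu ^ (-r) : Rˣ) : R) * ((tu ^ r : Rˣ) : R) = x ^ N := by
    rw [mul_assoc, ← Units.val_mul, ← zpow_add, neg_add_cancel, zpow_zero, Units.val_one, mul_one]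
  refine ⟨⟨_, hc0⟩, ?_, ?_⟩
  · by_contra hcn
    have hu : IsUnit (⟨_, hc0⟩ : SetLike.GradeZero.subring 𝒜) :=
      IsLocalRing.notMem_maximalIdeal.mp hcn
    have hu' : IsUnit (x ^ N * ((tu ^ (-r) : Rˣ) : R)) :=
      hu.map (SetLike.GradeZero.subring 𝒜).subtype
    have hxN : IsUnit (x ^ N) := by
      have h := hu'.mul (tu ^ r).isUnit
      rw [hcancel] at h
      exact h
    exact hmin r hr0 hrN x hx ((isUnit_pow_iff hN.ne').mp hxN)
  · show x ^ N = x ^ N * ((tu ^ (-r) : Rˣ) : R) * ((tu ^ r : Rˣ) : R)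
    exact hcancel.symm

end Groth.Agent.S14659
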