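import Groth.Statements.S14660
import Groth.Agent.Lib.Helper20.RE6

set_option autoImplicit false
universe u
open FiltBl

namespace Groth.Agent.S14660

open Groth.Agent.Helper20

theorem result (A : Type u) [CommRing A] [IsNoetherianRing A] [IsLocalRing A]
    (S : Type u) [CommRing S] [LocCoh.IsGorensteinRing S] (π : S →+* A) (hπ : Function.Surjective π)
    (𝓕 : FiltBl.IdealFiltration A) (hne : ∀ n, 𝓕.F n ≠ ⊥) (hsep : ⨅ n, 𝓕.F n = ⊥)
    (hfg : Algebra.FiniteType A 𝓕.rees) (hht : 2 ≤ (𝓕.F 1).height)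
    (G : Type u) [CommRing G] (φ : 𝓕.extRees →+* G) (hφ : Function.Surjective φ)
    (hker : RingHom.ker φ = Ideal.span {𝓕.u}) (Rp : Ideal 𝓕.extRees)
    (hRp : Rp = Ideal.span {x : 𝓕.extRees | ∃ n : ℕ, 0 < n ∧ ∃ a ∈ 𝓕.F n,
      (x : LaurentPolynomial A) = LaurentPolynomial.C a * LaurentPolynomial.T (n : ℤ)}) :
    (∀ (P : Ideal 𝓕.extRees) [P.IsPrime], ¬ Rp ≤ P →
        LocCoh.IsCohenMacaulayLocalRing (Localization.AtPrime P)) ↔
      ((∀ (p : Ideal G) [p.IsPrime], ¬ Ideal.map φ Rp ≤ p →
          LocCoh.IsCohenMacaulayLocalRing (Localization.AtPrime p)) ∧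
        (∀ (q : Ideal A) [q.IsPrime], ¬ 𝓕.F 1 ≤ q →
            LocCoh.IsCohenMacaulayLocalRing (Localization.AtPrime q))) := by
  haveI hN : IsNoetherianRing 𝓕.extRees := RE.isNoetherianRing_extRees 𝓕 hfg
  haveI hNG : IsNoetherianRing G := isNoetherianRing_of_surjective _ G φ hφ
  have hu := RE.u_mem_nonZeroDivisors 𝓕
  have huker : 𝓕.u ∈ RingHom.ker φ := by rw [hker]; exact Ideal.mem_span_singleton_self _
  constructor
  · intro hE
    refine ⟨?_, ?_⟩
    · intro p _ hp
      haveI hq : (p.comap φ).IsPrime := Ideal.comap_isPrime _ _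
      have hmap : (p.comap φ).map φ = p := Ideal.map_comap_of_surjective _ hφ p
      haveI : ((p.comap φ).map φ).IsPrime := by rw [hmap]; infer_instance
      have htq : 𝓕.u ∈ p.comap φ := by
        rw [Ideal.mem_comap, (RingHom.mem_ker).mp huker]
        exact Ideal.zero_mem _
      have hRp : ¬ Rp ≤ p.comap φ := by
        intro h
        apply hp
        rw [← hmap]
        exact Ideal.map_mono h
      have h1 := hE (p.comap φ) hRp
      obtain ⟨n, m, hnm⟩ := RE.exists_isDD_map φ (p.comap φ)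
      have h2 := (RE.isDD_map_iff φ hφ 𝓕.u hker hu (p.comap φ) htq n m).mp hnm
      have h3 := (RE.isCohenMacaulayLocalRing_iff_isDD h2).mp h1
      have h4 : n = m := by omega
      exact RE.cm_localization_congr hmap ((RE.isCohenMacaulayLocalRing_iff_isDD hnm).mpr h4)
    · intro q _ hq
      haveI := RE.primeOf_isPrime 𝓕 q
      obtain ⟨a, ha1, haq⟩ := Set.not_subset.mp hq
      have hRp : ¬ Rp ≤ RE.primeOf 𝓕 q := by
        intro h
        have hmem : RE.mono 𝓕 1 a ha1 ∈ Rp := by
          rw [hRp]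
          apply Ideal.subset_span
          refine ⟨1, Nat.one_pos, a, ha1, ?_⟩
          rw [RE.coe_mono, LaurentPolynomial.single_eq_C_mul_T]
          rfl
        have h2 := (RE.mem_primeOf 𝓕 q _).mp (h hmem) 1
        rw [RE.coe_mono, AddMonoidAlgebra.coeff_single, Finsupp.single_eq_same] at h2
        exact haq h2
      have h1 := hE _ hRp
      obtain ⟨n, m, hnm⟩ := RE.exists_isDD (Localization.AtPrime q)
      have h2 := RE.primeOf_isDD 𝓕 q n m hnm
      have h3 := (RE.isCohenMacaulayLocalRing_iff_isDD h2).mp h1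
      exact (RE.isCohenMacaulayLocalRing_iff_isDD hnm).mpr h3
  · rintro ⟨hG, hA⟩ P _ hP
    by_cases huP : 𝓕.u ∈ P
    · have hIq : RingHom.ker φ ≤ P := by
        rw [hker]
        exact (Ideal.span_singleton_le_iff_mem _).mpr huP
      haveI : (P.map φ).IsPrime := Ideal.map_isPrime_of_surjective hφ hIq
      have hcomap : (P.map φ).comap φ = P := by
        rw [Ideal.comap_map_of_surjective' φ hφ]
        exact sup_eq_left.mpr hIq
      have hRp : ¬ Ideal.map φ Rp ≤ P.map φ := by
        intro h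
        apply hP
        have := Ideal.comap_mono (f := φ) h
        rw [hcomap] at this
        exact Ideal.le_comap_map.trans this
      have h1 := hG (P.map φ) hRp
      obtain ⟨n, m, hnm⟩ := RE.exists_isDD_map φ P
      have h2 := (RE.isDD_map_iff φ hφ 𝓕.u hker hu P huP n m).mp hnm
      have h3 := (RE.isCohenMacaulayLocalRing_iff_isDD hnm).mp h1
      exact (RE.isCohenMacaulayLocalRing_iff_isDD h2).mpr (by omega)
    · haveI : (P.comap (algebraMap A 𝓕.extRees)).IsPrime := Ideal.comap_isPrime _ _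
      have hF : ¬ 𝓕.F 1 ≤ P.comap (algebraMap A 𝓕.extRees) := by
        intro h
        apply hP
        rw [hRp, Ideal.span_le]
        rintro x ⟨n, hn, a, ha, hx⟩
        refine RE.mem_of_coe_eq_C_mul_T 𝓕 P huP x a n hx ?_
        have : a ∈ P.comap (algebraMap A 𝓕.extRees) :=
          h (𝓕.antitone (Nat.one_le_iff_ne_zero.mpr hn.ne') ha)
        exact this
      have h1 := hA _ hF
      obtain ⟨n, m, hnm⟩ := RE.exists_isDD
        (Localization.AtPrime (P.comap (algebraMap A 𝓕.extRees)))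
      obtain ⟨δ, hδ⟩ := RE.extRees_isDD 𝓕 P huP n m hnm
      have h3 := (RE.isCohenMacaulayLocalRing_iff_isDD hnm).mp h1
      exact (RE.isCohenMacaulayLocalRing_iff_isDD hδ).mpr (by omega)

end Groth.Agent.S14660
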