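import Groth.Statements.S14667
import Groth.Agent.Lib.Helper18.Rigid25

set_option autoImplicit false
universe u
open CategoryTheory CategoryTheory.Limits AlgebraicGeometry
open AbSch

namespace Groth.Agent.S14667

/-- Let S be a locally Noetherian scheme, ξ : X ⟶ S a proper flat morphism all of whose geometric fibres
are integral, v : Y ⟶ S a separated morphism and f : X ⟶ Y a morphism over S. Then the set U of
points s of S such that f sends every point of the fibre ξ⁻¹(s) to one and the same point of Y is
closed and open in S. (Under flatness the condition that O_S ⟶ ξ_*O_X be an isomorphism, assumed for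
openness in the non-flat case, holds automatically.) -/
theorem result {X Y S : Scheme.{u}} [IsLocallyNoetherian S]
    (ξ : X ⟶ S) [IsProper ξ] [Flat ξ] [GeometricallyIntegral ξ]
    (v : Y ⟶ S) [IsSeparated v] (f : X ⟶ Y) (hf : f ≫ v = ξ) :
    IsClosed {s : ↥S | ∃ y : ↥Y, ∀ x : ↥X, ξ.base x = s → f.base x = y} ∧ IsOpen {s : ↥S | ∃ y : ↥Y, ∀ x : ↥X, ξ.base x = s → f.base x = y} := by
  have h0 : ∀ s : S, Function.Bijective
      (Limits.pullback.snd ξ (S.fromSpecResidueField s)).appTop.hom :=
    fun s => Groth.Agent.Helper18.Rigid.h0_of_geometricallyIntegral ξ s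
  have hcl := Groth.Agent.Helper18.Rigid.collapse_isClopen_proper ξ v (𝟙 S) f
    (by rw [hf, Category.comp_id]) h0
  have hset : {s : ↥S | ∃ y : ↥Y, ∀ x : ↥X, ξ.base x = s → f.base x = y} =
      {s : S | ∀ x x' : X, ξ.base x = s → ξ.base x' = s → f.base x = f.base x'} := by
    ext s
    constructor
    · rintro ⟨y, hy⟩ x x' hx hx'
      exact (hy x hx).trans (hy x' hx').symm
    · intro h
      obtain ⟨x₀, hx₀⟩ := Groth.Agent.Helper18.Rigid.surjective_of_h0 ξ
        (fun s => (h0 s).injective) s
      exact ⟨f.base x₀, fun x hx => h x x₀ hx hx₀⟩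
  rw [hset]
  exact ⟨hcl.1, hcl.2⟩

end Groth.Agent.S14667
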