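import Groth.Statements.S1467
import Mathlib
import Groth.Agent.Lib.Helper2.Oli6
import Groth.Agent.Lib.Helper3.WEStalk
-- import your own Groth.Agent.* helpers here

set_option autoImplicit false
universe u
open FlatMor

namespace Groth.Agent.S1467

section
open CategoryTheory CategoryTheory.Limits AlgebraicGeometry Opposite Topology
open Groth.Agent.Helper2.Oli Groth.Agent.Helper1

theorem main {X Y : Scheme.{u}} (f : X ⟶ Y) :
    WeaklyEtale f ↔ ∀ (x : X) (R : Type u) [CommRing R] [IsLocalRing R] [Algebra ↑(X.presheaf.stalk x) R]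
      [IsLocalHom (algebraMap ↑(X.presheaf.stalk x) R)] [Hensel.IsStrictHenselization ↑(X.presheaf.stalk x) R],
      letI : Algebra ↑(Y.presheaf.stalk (f x)) R := ((algebraMap ↑(X.presheaf.stalk x) R).comp (f.stalkMap x).hom).toAlgebra
      ∃ _ : IsLocalHom (algebraMap ↑(Y.presheaf.stalk (f x)) R), Hensel.IsStrictHenselization ↑(Y.presheaf.stalk (f x)) R := by
  constructor
  · intro hf x R _ _ _ _ hSH
    letI : Algebra ↑(Y.presheaf.stalk (f x)) R :=
      ((algebraMap ↑(X.presheaf.stalk x) R).comp (f.stalkMap x).hom).toAlgebra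
    letI : Algebra ↑(Y.presheaf.stalk (f x)) ↑(X.presheaf.stalk x) := (f.stalkMap x).hom.toAlgebra
    haveI : IsScalarTower ↑(Y.presheaf.stalk (f x)) ↑(X.presheaf.stalk x) R :=
      IsScalarTower.of_algebraMap_eq (fun _ => rfl)
    have hQ := Groth.Agent.Helper3.WEStalk.stalkMap (f := f) hf x
    haveI : Algebra.WeaklyEtale ↑(Y.presheaf.stalk (f x)) ↑(X.presheaf.stalk x) :=
      (Groth.Agent.Helper3.WEStalk.q_iff _).mp hQ
    haveI : Algebra.WeaklyEtale ↑(X.presheaf.stalk x) R :=
      Groth.Agent.Helper1.WE.weaklyEtale_of_isStrictHenselization _ R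
    haveI : Algebra.WeaklyEtale ↑(Y.presheaf.stalk (f x)) R :=
      Algebra.WeaklyEtale.trans _ ↑(X.presheaf.stalk x) R
    have hloc : IsLocalHom (algebraMap ↑(Y.presheaf.stalk (f x)) R) := by
      change IsLocalHom ((algebraMap ↑(X.presheaf.stalk x) R).comp (f.stalkMap x).hom)
      infer_instance
    haveI := hloc
    letI hH : HenselianLocalRing R :=
      Hensel.IsStrictHenselization.henselian (R := ↑(X.presheaf.stalk x))
    haveI : IsSepClosed (IsLocalRing.ResidueField R) :=
      (Hensel.IsStrictHenselization.isSepClosure (R := ↑(X.presheaf.stalk x)) (S := R)).sep_closed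
    exact ⟨hloc, isStrictHenselization_of_weaklyEtale ↑(Y.presheaf.stalk (f x)) R⟩
  · intro H
    apply Groth.Agent.Helper3.WEStalk.of_stalkMap
    intro x
    let B := ↑(X.presheaf.stalk x)
    let R := SHzn.S B
    haveI hSH : Hensel.IsStrictHenselization B R := SHzn.isStrictHenselization B
    letI : Algebra ↑(Y.presheaf.stalk (f x)) R :=
      ((algebraMap ↑(X.presheaf.stalk x) R).comp (f.stalkMap x).hom).toAlgebra
    obtain ⟨hloc, hSH'⟩ := H x R
    haveI := hloc
    letI : Algebra ↑(Y.presheaf.stalk (f x)) ↑(X.presheaf.stalk x) := (f.stalkMap x).hom.toAlgebra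
    haveI : IsScalarTower ↑(Y.presheaf.stalk (f x)) ↑(X.presheaf.stalk x) R :=
      IsScalarTower.of_algebraMap_eq (fun _ => rfl)
    haveI : Algebra.WeaklyEtale ↑(X.presheaf.stalk x) R :=
      Groth.Agent.Helper1.WE.weaklyEtale_of_isStrictHenselization _ R
    haveI : Algebra.WeaklyEtale ↑(Y.presheaf.stalk (f x)) R :=
      Groth.Agent.Helper1.WE.weaklyEtale_of_isStrictHenselization _ R
    haveI : Module.FaithfullyFlat ↑(X.presheaf.stalk x) R :=
      Module.FaithfullyFlat.of_flat_of_isLocalHom
    have := weaklyEtale_of_faithfullyFlat_comp ↑(Y.presheaf.stalk (f x)) ↑(X.presheaf.stalk x) R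
    exact (Groth.Agent.Helper3.WEStalk.q_iff _).mpr this

end

open AlgebraicGeometry CategoryTheory Limits in
/-- A morphism f : X → Y is weakly étale if and only if, for every point x of X, strict henselizations
of the local rings at f x and at x coincide under the stalk map: every strict henselization of O_{X,
x} is, through the composite map O_{Y, f x} → O_{X, x} → (strict henselization), a strict
henselization of O_{Y, f x}. -/
theorem result {X Y : Scheme.{u}} (f : X ⟶ Y) :
    WeaklyEtale f ↔ ∀ (x : X) (R : Type u) [CommRing R] [IsLocalRing R] [Algebra ↑(X.presheaf.stalk x) R]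
      [IsLocalHom (algebraMap ↑(X.presheaf.stalk x) R)] [Hensel.IsStrictHenselization ↑(X.presheaf.stalk x) R],
      letI : Algebra ↑(Y.presheaf.stalk (f x)) R := ((algebraMap ↑(X.presheaf.stalk x) R).comp (f.stalkMap x).hom).toAlgebra
      ∃ _ : IsLocalHom (algebraMap ↑(Y.presheaf.stalk (f x)) R), Hensel.IsStrictHenselization ↑(Y.presheaf.stalk (f x)) R := by
  exact Groth.Agent.S1467.main f

end Groth.Agent.S1467
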