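import Groth.Statements.S14670
import Groth.Agent.Lib.Lead.Miracle
import Groth.Agent.Lib.Lead.Hom16

set_option autoImplicit false
universe u
open CAlg

namespace Groth.Agent.S14670

/-- Let R be a regular local ring and S an integral domain containing R as a subring over which it is a
finitely generated module, such that the localization of S at each of its maximal ideals is a
Cohen–Macaulay local ring. Then S is a flat R-module. (The published statement does not require S to
be a domain; in that generality it fails — for a discrete valuation ring R with residue field κ the
ring R × κ contains R diagonally, is finite over R with Cohen–Macaulay localizations, and is not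
flat — and the printed argument needs every maximal ideal of S to have height dim R, which holds
when S is a domain by going down.) -/
theorem result (R S : Type u) [CommRing R] [CommRing S]
    [IsRegularLocalRing R] [IsDomain S] [Algebra R S] [Module.Finite R S]
    (hinj : Function.Injective (algebraMap R S))
    (hCM : ∀ (q : Ideal S) [q.IsMaximal], LocCoh.IsCohenMacaulayLocalRing (Localization.AtPrime q)) :
    Module.Flat R S := by
  haveI : IsDomain R := Groth.Agent.Lead.RLR.isDomain R
  haveI : IsIntegrallyClosed R := Groth.Agent.Lead.Hom.isIntegrallyClosed_of_isRegularLocalRing R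
  haveI : FaithfulSMul R S := (faithfulSMul_iff_algebraMap_injective R S).mpr hinj
  haveI : Algebra.IsIntegral R S := inferInstance
  haveI : IsNoetherianRing S := Algebra.FiniteType.isNoetherianRing R S
  haveI : Algebra.HasGoingDown R S := inferInstance
  have hloc : ∀ (q : Ideal S) [q.IsMaximal], Module.Flat R (Localization.AtPrime q) := by
    intro q hq
    -- q lies over the maximal ideal
    have hqmax : (q.comap (algebraMap R S)).IsMaximal :=
      Ideal.isMaximal_comap_of_isIntegral_of_isMaximal q
    have hqm : q.comap (algebraMap R S) = IsLocalRing.maximalIdeal R :=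
      IsLocalRing.eq_maximalIdeal hqmax
    haveI hlo : q.LiesOver (IsLocalRing.maximalIdeal R) := ⟨hqm.symm⟩
    have hKq : (IsLocalRing.maximalIdeal R).map (algebraMap R S) ≤ q :=
      Ideal.map_le_iff_le_comap.mpr hqm.ge
    -- local homomorphism
    haveI hlh : IsLocalHom (algebraMap R (Localization.AtPrime q)) := by
      refine ⟨fun a ha => ?_⟩
      by_contra hna
      have ham : a ∈ IsLocalRing.maximalIdeal R := (IsLocalRing.mem_maximalIdeal a).mpr hna
      have haq : algebraMap R S a ∈ q := by
        rw [← hqm] at ham
        exact ham
      have h1 : algebraMap S (Localization.AtPrime q) (algebraMap R S a) ∈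
          IsLocalRing.maximalIdeal (Localization.AtPrime q) :=
        (IsLocalization.AtPrime.to_map_mem_maximal_iff (Localization.AtPrime q) q _).mpr haq
      rw [← IsScalarTower.algebraMap_apply R S (Localization.AtPrime q) a] at h1
      exact (IsLocalRing.mem_maximalIdeal _).mp h1 ha
    -- primes of the localization containing the extended maximal ideal
    have hb : ∀ (P : Ideal (Localization.AtPrime q)) [P.IsPrime],
        (IsLocalRing.maximalIdeal R).map (algebraMap R (Localization.AtPrime q)) ≤ P →
        P = IsLocalRing.maximalIdeal (Localization.AtPrime q) := by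
      intro P hP hIP
      apply Localization.AtPrime.eq_maximalIdeal_iff_under_eq.mp
      haveI hPS : (P.comap (algebraMap S (Localization.AtPrime q))).IsPrime :=
        Ideal.comap_isPrime _ _
      have hle : IsLocalRing.maximalIdeal R ≤
          (P.comap (algebraMap S (Localization.AtPrime q))).comap (algebraMap R S) := by
        intro x hx
        rw [Ideal.mem_comap, Ideal.mem_comap,
          ← IsScalarTower.algebraMap_apply R S (Localization.AtPrime q) x]
        exact hIP (Ideal.mem_map_of_mem _ hx)
      have heq : IsLocalRing.maximalIdeal R =
          (P.comap (algebraMap S (Localization.AtPrime q))).comap (algebraMap R S) :=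
        (IsLocalRing.maximalIdeal.isMaximal R).eq_of_le
          (Ideal.comap_ne_top _ hPS.ne_top) hle
      have hPmax : (P.comap (algebraMap S (Localization.AtPrime q))).IsMaximal :=
        Ideal.isMaximal_of_isIntegral_of_isMaximal_comap _
          (by rw [← heq]; exact IsLocalRing.maximalIdeal.isMaximal R)
      have hPq : P.comap (algebraMap S (Localization.AtPrime q)) ≤ q := by
        have h1 : P ≤ IsLocalRing.maximalIdeal (Localization.AtPrime q) :=
          IsLocalRing.le_maximalIdeal hP.ne_top
        have h2 := Ideal.comap_mono (f := algebraMap S (Localization.AtPrime q)) h1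
        have h3 : (IsLocalRing.maximalIdeal (Localization.AtPrime q)).comap
            (algebraMap S (Localization.AtPrime q)) = q :=
          Localization.AtPrime.under_maximalIdeal
        rw [h3] at h2
        exact h2
      exact hPmax.eq_of_le hq.ne_top hPq
    -- the closed fibre has dimension zero
    have hIne : (IsLocalRing.maximalIdeal R).map (algebraMap R (Localization.AtPrime q)) ≠ ⊤ := by
      intro h
      have h1 := IsLocalRing.map_maximalIdeal_le (algebraMap R (Localization.AtPrime q))
      rw [h] at h1
      exact (IsLocalRing.maximalIdeal.isMaximal (Localization.AtPrime q)).ne_top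
        (top_le_iff.mp h1)
    have hfib0 : ringKrullDim (Localization.AtPrime q ⧸
        (IsLocalRing.maximalIdeal R).map (algebraMap R (Localization.AtPrime q))) = 0 := by
      haveI : Nontrivial (Localization.AtPrime q ⧸
          (IsLocalRing.maximalIdeal R).map (algebraMap R (Localization.AtPrime q))) :=
        Ideal.Quotient.nontrivial_iff.mpr hIne
      rw [← ringKrullDimZero_iff_ringKrullDim_eq_zero,
        Ideal.krullDimLE_zero_quotient_iff_forall_minimalPrimes_isMaximal]
      intro J hJ
      haveI := hJ.1.1
      rw [hb J hJ.1.2]
      exact IsLocalRing.maximalIdeal.isMaximal _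
    have hfib : Module.supportDim (Localization.AtPrime q) (Localization.AtPrime q ⧸
        ((IsLocalRing.maximalIdeal R).map (algebraMap R (Localization.AtPrime q))) •
          (⊤ : Submodule (Localization.AtPrime q) (Localization.AtPrime q))) = 0 := by
      have hI : ((IsLocalRing.maximalIdeal R).map (algebraMap R (Localization.AtPrime q))) •
          (⊤ : Submodule (Localization.AtPrime q) (Localization.AtPrime q)) =
          (IsLocalRing.maximalIdeal R).map (algebraMap R (Localization.AtPrime q)) := by
        rw [Ideal.smul_eq_mul, Ideal.mul_top]
      rw [hI, Module.supportDim_quotient_eq_ringKrullDim]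
      exact hfib0
    -- dimension of the localization
    have hS0 : ringKrullDim (S ⧸ (IsLocalRing.maximalIdeal R).map (algebraMap R S)) = 0 := by
      haveI : Nontrivial (S ⧸ (IsLocalRing.maximalIdeal R).map (algebraMap R S)) :=
        Ideal.Quotient.nontrivial_iff.mpr (fun h => hq.ne_top (top_le_iff.mp (h ▸ hKq)))
      rw [← ringKrullDimZero_iff_ringKrullDim_eq_zero,
        Ideal.krullDimLE_zero_quotient_iff_forall_minimalPrimes_isMaximal]
      intro J hJ
      haveI := hJ.1.1
      have hcomap : J.comap (algebraMap R S) = IsLocalRing.maximalIdeal R := by
        symm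
        apply (IsLocalRing.maximalIdeal.isMaximal R).eq_of_le
        · exact Ideal.comap_ne_top _ hJ.1.1.ne_top
        · exact Ideal.map_le_iff_le_comap.mp hJ.1.2
      exact Ideal.isMaximal_of_isIntegral_of_isMaximal_comap J
        (by rw [hcomap]; exact IsLocalRing.maximalIdeal.isMaximal R)
    have hbar : (q.map (Ideal.Quotient.mk ((IsLocalRing.maximalIdeal R).map
        (algebraMap R S)))).height = 0 := by
      have hprime : (q.map (Ideal.Quotient.mk ((IsLocalRing.maximalIdeal R).map
          (algebraMap R S)))).IsPrime :=
        Ideal.map_isPrime_of_surjective Ideal.Quotient.mk_surjective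
          (by rw [Ideal.mk_ker]; exact hKq)
      have h1 := Ideal.height_le_ringKrullDim_of_ne_top hprime.ne_top
      rw [hS0] at h1
      have h2 : (q.map (Ideal.Quotient.mk ((IsLocalRing.maximalIdeal R).map
          (algebraMap R S)))).height ≤ 0 := by exact_mod_cast h1
      exact nonpos_iff_eq_zero.mp h2
    have hdimT : ringKrullDim (Localization.AtPrime q) = ringKrullDim R := by
      rw [IsLocalization.AtPrime.ringKrullDim_eq_height q (Localization.AtPrime q),
        ← IsLocalRing.maximalIdeal_height_eq_ringKrullDim (R := R),
        Ideal.height_eq_height_add_of_liesOver_of_hasGoingDown (IsLocalRing.maximalIdeal R) q,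
        hbar, add_zero]
    have hCMq := hCM q
    have hCM' : LocCoh.IsCohenMacaulayModule (Localization.AtPrime q) (Localization.AtPrime q) :=
      hCMq.supportDim_eq_depth
    refine Groth.Agent.Lead.Miracle.flat_of_isCohenMacaulayModule R (Localization.AtPrime q)
      (Localization.AtPrime q) hCM' ?_
    rw [Module.supportDim_self_eq_ringKrullDim, hdimT, hfib, add_zero]
  exact Module.flat_of_isLocalized_maximal S S (fun P _ => Localization.AtPrime P)
    (fun P _ => Algebra.linearMap S (Localization.AtPrime P)) hloc

end Groth.Agent.S14670
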