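import Groth.Statements.S14677
import Mathlib

set_option autoImplicit false
universe u
open CAlg

namespace Groth.Agent.S14677

section Aux

theorem map_sum_smul {A : Type u} [CommRing A] (I : Ideal A) {M N : Type u} [AddCommGroup M]
    [Module A M] [AddCommGroup N] [Module A N] {ι : Type*} (s : Finset ι) (a : ι → A)
    (f : ι → (M →ₗ[A] N)) (x : AdicCompletion I M) :
    AdicCompletion.map I (∑ i ∈ s, a i • f i) x =
      ∑ i ∈ s, a i • AdicCompletion.map I (f i) x := by
  apply AdicCompletion.ext
  intro n
  rw [AdicCompletion.val_sum_apply]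
  simp only [AdicCompletion.val_smul_apply, AdicCompletion.map_val_apply]
  obtain ⟨y, hy⟩ := Submodule.Quotient.mk_surjective _ (x.val n)
  rw [← hy]
  simp only [LinearMap.reduceModIdeal_apply, LinearMap.sum_apply, LinearMap.smul_apply]
  have hmk : ∀ z : N, (Submodule.Quotient.mk z : N ⧸ (I ^ n • ⊤ : Submodule A N)) =
      Submodule.mkQ _ z := fun _ => rfl
  simp only [hmk, map_sum, map_smul]

end Aux


/-- Let A be a Noetherian commutative ring, I and J ideals of A and M a finitely generated A-module.
Then the map of I-adic completions induced by the inclusion of the submodule JM into M is injective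
with image exactly J·M̂, where M̂ is the I-adic completion of M; that is, the completion of JM is J
times the completion of M. (The published statement does not say that A is Noetherian; its proof
uses exactness of completion on finitely generated modules, which needs it, so this row assumes A
Noetherian.) -/
theorem result (A : Type u) [CommRing A] [IsNoetherianRing A] (I J : Ideal A)
    (M : Type u) [AddCommGroup M] [Module A M] [Module.Finite A M] :
    Function.Injective (AdicCompletion.map I (J • (⊤ : Submodule A M)).subtype) ∧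
      LinearMap.range (AdicCompletion.map I (J • (⊤ : Submodule A M)).subtype) =
        (J.map (algebraMap A (AdicCompletion I A))) • (⊤ : Submodule (AdicCompletion I A) (AdicCompletion I M)) := by
  classical
  refine ⟨AdicCompletion.map_injective I (Submodule.injective_subtype _), ?_⟩
  apply le_antisymm
  · rintro _ ⟨z, rfl⟩
    obtain ⟨s, hs⟩ := (IsNoetherian.noetherian J : J.FG)
    have hmemJ : ∀ i : ↥s, (i : A) ∈ J := fun i => hs ▸ Submodule.subset_span i.2
    have hrange : ∀ x : ↥s → M, (∑ i : ↥s, (i : A) • (LinearMap.proj i : (↥s → M) →ₗ[A] M)) x ∈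
        J • (⊤ : Submodule A M) := by
      intro x
      rw [LinearMap.sum_apply]
      refine Submodule.sum_mem _ fun i _ => ?_
      rw [LinearMap.smul_apply]
      exact Submodule.smul_mem_smul (hmemJ i) Submodule.mem_top
    obtain ⟨σ, hσ⟩ : ∃ σ : (↥s → M) →ₗ[A] ↥(J • (⊤ : Submodule A M)),
        (J • (⊤ : Submodule A M)).subtype ∘ₗ σ =
          ∑ i : ↥s, (i : A) • (LinearMap.proj i : (↥s → M) →ₗ[A] M) :=
      ⟨LinearMap.codRestrict _ _ hrange, LinearMap.subtype_comp_codRestrict _ _ _⟩
    have hP : ∀ r ∈ Submodule.span A (s : Set A), ∀ n : M, ∃ x : ↥s → M,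
        (∑ i : ↥s, (i : A) • (LinearMap.proj i : (↥s → M) →ₗ[A] M)) x = r • n := by
      intro r hr
      induction hr using Submodule.span_induction with
      | mem a ha =>
        intro n
        refine ⟨Pi.single ⟨a, ha⟩ n, ?_⟩
        rw [LinearMap.sum_apply, Finset.sum_eq_single (⟨a, ha⟩ : ↥s)]
        · simp
        · intro b _ hb
          simp [Pi.single_apply, hb]
        · intro h
          exact absurd (Finset.mem_univ _) h
      | zero =>
        intro n
        exact ⟨0, by simp⟩
      | add r r' _ _ h h' =>
        intro n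
        obtain ⟨x, hx⟩ := h n
        obtain ⟨x', hx'⟩ := h' n
        exact ⟨x + x', by rw [map_add, hx, hx', add_smul]⟩
      | smul c r _ h =>
        intro n
        obtain ⟨x, hx⟩ := h (c • n)
        exact ⟨x, by rw [hx, smul_eq_mul, mul_comm, mul_smul]⟩
    have hσsurj : Function.Surjective σ := by
      rintro ⟨y, hy⟩
      have h1 : ∃ x : ↥s → M,
          (∑ i : ↥s, (i : A) • (LinearMap.proj i : (↥s → M) →ₗ[A] M)) x = y := by
        refine Submodule.smul_induction_on hy ?_ ?_
        · intro a ha n _
          exact hP a (by rw [hs]; exact ha) n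
        · rintro y1 y2 ⟨x1, h1⟩ ⟨x2, h2⟩
          exact ⟨x1 + x2, by rw [map_add, h1, h2]⟩
      obtain ⟨x, hx⟩ := h1
      refine ⟨x, Subtype.ext ?_⟩
      show ((J • (⊤ : Submodule A M)).subtype ∘ₗ σ) x = y
      rw [hσ, hx]
    obtain ⟨w, rfl⟩ := AdicCompletion.map_surjective I hσsurj z
    rw [AdicCompletion.map_comp_apply, hσ, map_sum_smul]
    refine Submodule.sum_mem _ fun i _ => ?_
    rw [← algebraMap_smul (AdicCompletion I A) (i : A)
      (AdicCompletion.map I (LinearMap.proj i : (↥s → M) →ₗ[A] M) w)]
    exact Submodule.smul_mem_smul (Ideal.mem_map_of_mem _ (hmemJ i)) Submodule.mem_top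
  · rw [Submodule.smul_le]
    intro r hr y _
    have hr' : r ∈ Submodule.span (AdicCompletion I A) ((algebraMap A (AdicCompletion I A)) '' J) := hr
    clear hr
    induction hr' using Submodule.span_induction with
    | mem r hmem =>
      obtain ⟨a, ha, rfl⟩ := hmem
      have hmul : ∀ x : M, a • x ∈ J • (⊤ : Submodule A M) := fun x =>
        Submodule.smul_mem_smul ha Submodule.mem_top
      obtain ⟨μ, hμ⟩ : ∃ μ : M →ₗ[A] ↥(J • (⊤ : Submodule A M)),
          (J • (⊤ : Submodule A M)).subtype ∘ₗ μ = ∑ i ∈ ({0} : Finset (Fin 1)),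
            (fun _ : Fin 1 => a) i • (fun _ : Fin 1 => (LinearMap.id : M →ₗ[A] M)) i := by
        refine ⟨LinearMap.codRestrict _ (a • LinearMap.id) hmul, ?_⟩
        rw [LinearMap.subtype_comp_codRestrict, Finset.sum_singleton]
      refine ⟨AdicCompletion.map I μ y, ?_⟩
      rw [AdicCompletion.map_comp_apply, hμ, map_sum_smul, Finset.sum_singleton,
        AdicCompletion.map_id, LinearMap.id_apply, algebraMap_smul]
    | zero =>
      rw [zero_smul]
      exact Submodule.zero_mem _
    | add r r' _ _ h h' =>
      rw [add_smul]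
      exact Submodule.add_mem _ h h'
    | smul c r _ h =>
      rw [smul_eq_mul, mul_smul]
      exact Submodule.smul_mem _ c h

end Groth.Agent.S14677
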