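import Groth.Statements.S14679
import Mathlib

set_option autoImplicit false
universe u
open CategoryTheory CategoryTheory.Limits AlgebraicGeometry
open EtBase

namespace Groth.Agent.S14679

/-- Given a morphism of schemes f : X ⟶ Y and a point x ∈ X with image y = f(x), such that the residue
field map κ(y) → κ(x) is bijective; let ℓ be an algebraic extension field of κ(y) and form the base
change X ×_Y Spec ℓ along Spec ℓ ⟶ Spec κ(y) ⟶ Y. Then there is exactly one point of X ×_Y Spec ℓ
mapping to x under the first projection. (The published statement takes ℓ to be an algebraic closure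
of κ(y), noting that any algebraic extension works, and also identifies the local ring at the point
with O_{X,x} ⊗_{O_{Y,y}} ℓ; this row allows any algebraic extension ℓ and states only the first
assertion.) -/
theorem result {X Y : Scheme.{u}} (f : X ⟶ Y) (x : ↥X)
    (hx : Function.Bijective (f.residueFieldMap x).hom)
    (ℓ : Type u) [Field ℓ] [Algebra (Y.residueField (f.base x)) ℓ] [Algebra.IsAlgebraic (Y.residueField (f.base x)) ℓ] :
    ∃! z : ↥(pullback f (Spec.map (CommRingCat.ofHom (algebraMap (Y.residueField (f.base x)) ℓ)) ≫ Y.fromSpecResidueField (f.base x))),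
      (pullback.fst f (Spec.map (CommRingCat.ofHom (algebraMap (Y.residueField (f.base x)) ℓ)) ≫ Y.fromSpecResidueField (f.base x))).base z = x := by
  classical
  haveI hr : IsIso (f.residueFieldMap x) := (ConcreteCategory.isIso_iff_bijective _).mpr hx
  generalize Spec.map (CommRingCat.ofHom (algebraMap (Y.residueField (f.base x)) ℓ)) = a
  set j := Y.fromSpecResidueField (f.base x) with hj
  set r := Spec.map (f.residueFieldMap x) with hrdef
  set i := X.fromSpecResidueField x with hi
  have hfac : i ≫ f = r ≫ j := (Scheme.Hom.SpecMap_residueFieldMap_fromSpecResidueField f x).symm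
  set p := pullback.fst f (a ≫ j) with hp
  have hsnd : IsIso (pullback.snd (r ≫ j) (a ≫ j)) := by
    have hc : (a ≫ inv r) ≫ r ≫ j = 𝟙 _ ≫ a ≫ j := by simp
    refine ⟨⟨pullback.lift (a ≫ inv r) (𝟙 _) hc, ?_, pullback.lift_snd _ _ _⟩⟩
    apply pullback.hom_ext
    · have h1 : pullback.fst (r ≫ j) (a ≫ j) ≫ r = pullback.snd (r ≫ j) (a ≫ j) ≫ a := by
        rw [← cancel_mono j]
        simpa using pullback.condition
      rw [Category.assoc, pullback.lift_fst, Category.id_comp, ← Category.assoc, ← h1,
        Category.assoc, IsIso.hom_inv_id, Category.comp_id]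
    · rw [Category.assoc, pullback.lift_snd, Category.id_comp, Category.comp_id]
  let E : p.fiber x ≅ Spec (CommRingCat.of ℓ) :=
    pullbackSymmetry p i ≪≫ pullbackRightPullbackFstIso f (a ≫ j) i ≪≫
      pullback.congrHom hfac rfl ≪≫ @asIso _ _ _ _ _ hsnd
  let w₀ : p.fiber x := (Scheme.homeoOfIso E).symm default
  have huniq : ∀ w : p.fiber x, w = w₀ := by
    intro w
    apply (Scheme.homeoOfIso E).injective
    exact Subsingleton.elim _ _
  refine ⟨p.fiberι x w₀, ?_, ?_⟩
  · have := (p.fiberHomeo x w₀).2
    simpa using this
  · intro z hz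
    have := huniq ((p.fiberHomeo x).symm ⟨z, hz⟩)
    rw [← this]
    simp

end Groth.Agent.S14679
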