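import Groth.Statements.S14680
import Mathlib

set_option autoImplicit false
universe u
open CAlg

namespace Groth.Agent.S14680

section Aux

theorem kl (A : Type u) [CommRing A] [IsNoetherianRing A] (M : Type u) [AddCommGroup M]
    [Module A M] [Module.Finite A M] (x : M)
    (h : ∀ (m : Ideal A) [m.IsMaximal], AdicCompletion.of m M x = 0) : x = 0 := by
  by_contra hx
  obtain ⟨J, hJ⟩ : ∃ J : Ideal A, J = LinearMap.ker (LinearMap.toSpanSingleton A M x) := ⟨_, rfl⟩
  have hJmem : ∀ a : A, a ∈ J ↔ a • x = 0 := by
    intro a
    rw [hJ, LinearMap.mem_ker, LinearMap.toSpanSingleton_apply]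
  have hJne : J ≠ ⊤ := by
    intro htop
    have h1 : (1 : A) ∈ J := htop ▸ Submodule.mem_top
    rw [hJmem, one_smul] at h1
    exact hx h1
  obtain ⟨m, hm, hJm⟩ := Ideal.exists_le_maximal J hJne
  haveI := hm
  have h0 := h m
  have hmem : x ∈ (⨅ i : ℕ, m ^ i • ⊤ : Submodule A M) := by
    rw [Submodule.mem_iInf]
    intro n
    have h1 := congrArg (AdicCompletion.eval m M n) h0
    rw [AdicCompletion.eval_of, map_zero, Submodule.mkQ_apply,
      Submodule.Quotient.mk_eq_zero] at h1
    exact h1
  obtain ⟨r, hr⟩ := (m.mem_iInf_smul_pow_eq_bot_iff x).mp hmem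
  have h1 : (1 - (r : A)) ∈ J := by
    rw [hJmem, sub_smul, one_smul]
    exact sub_eq_zero.mpr hr.symm
  have h2 : (1 - (r : A)) ∈ m := hJm h1
  have h3 : (1 : A) ∈ m := by
    have h4 := m.add_mem h2 r.2
    simpa using h4
  exact hm.ne_top ((Ideal.eq_top_iff_one m).mpr h3)

end Aux


/-- Let A be a Noetherian commutative ring and f : M' → M, g : M → M'' linear maps between finitely
generated A-modules. Then the sequence 0 → M' → M → M'' → 0 is exact — f injective, the image of f
equal to the kernel of g, g surjective — if and only if for every maximal ideal m of A the sequence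
of m-adic completions 0 → M'^ → M^ → M''^ → 0 (maps induced by f and g) is exact in the same sense. -/
theorem result (A : Type u) [CommRing A] [IsNoetherianRing A]
    (M' M M'' : Type u) [AddCommGroup M'] [Module A M'] [AddCommGroup M] [Module A M] [AddCommGroup M''] [Module A M'']
    [Module.Finite A M'] [Module.Finite A M] [Module.Finite A M''] (f : M' →ₗ[A] M) (g : M →ₗ[A] M'') :
    (Function.Injective f ∧ Function.Exact f g ∧ Function.Surjective g) ↔
      ∀ (m : Ideal A) [m.IsMaximal],
        Function.Injective (AdicCompletion.map m f) ∧ Function.Exact (AdicCompletion.map m f) (AdicCompletion.map m g) ∧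
          Function.Surjective (AdicCompletion.map m g) := by
  constructor
  · rintro ⟨hf, hfg, hg⟩ m hm
    exact ⟨AdicCompletion.map_injective m hf, AdicCompletion.map_exact hf hfg hg,
      AdicCompletion.map_surjective m hg⟩
  · intro h
    have hinj : Function.Injective f := by
      rw [injective_iff_map_eq_zero]
      intro x hx
      apply kl A M' x
      intro m hm
      apply (h m).1
      rw [AdicCompletion.map_of, hx, map_zero, map_zero]
    have hcomp : ∀ x, g (f x) = 0 := by
      intro x
      apply kl A M'' (g (f x))
      intro m hm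
      have e1 : AdicCompletion.of m M'' (g (f x)) = AdicCompletion.map m g
          (AdicCompletion.map m f (AdicCompletion.of m M' x)) := by
        rw [AdicCompletion.map_of, AdicCompletion.map_of]
      rw [e1]
      exact ((h m).2.1 _).mpr ⟨_, rfl⟩
    have hker : ∀ y, g y = 0 → ∃ x, f x = y := by
      intro y hy
      have hzero : (LinearMap.range f).mkQ y = 0 := by
        apply kl A (M ⧸ LinearMap.range f)
        intro m hm
        have h3 : AdicCompletion.map m g (AdicCompletion.of m M y) = 0 := by
          rw [AdicCompletion.map_of, hy, map_zero]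
        obtain ⟨z, hz⟩ := ((h m).2.1 _).mp h3
        rw [← AdicCompletion.map_of, ← hz, AdicCompletion.map_comp_apply,
          LinearMap.range_mkQ_comp, AdicCompletion.map_zero, LinearMap.zero_apply]
      rw [Submodule.mkQ_apply, Submodule.Quotient.mk_eq_zero] at hzero
      exact hzero
    have hsurj : Function.Surjective g := by
      intro z
      have hzero : (LinearMap.range g).mkQ z = 0 := by
        apply kl A (M'' ⧸ LinearMap.range g)
        intro m hm
        obtain ⟨w, hw⟩ := (h m).2.2 (AdicCompletion.of m M'' z)
        rw [← AdicCompletion.map_of, ← hw, AdicCompletion.map_comp_apply,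
          LinearMap.range_mkQ_comp, AdicCompletion.map_zero, LinearMap.zero_apply]
      rw [Submodule.mkQ_apply, Submodule.Quotient.mk_eq_zero] at hzero
      exact hzero
    refine ⟨hinj, ?_, hsurj⟩
    intro y
    exact ⟨hker y, fun ⟨x, hx⟩ => hx ▸ hcomp x⟩

end Groth.Agent.S14680
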