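import Groth.Statements.S14695
import Groth.Agent.Lib.Helper18.GenSection
import Groth.Agent.Lib.Helper18.FpqcTorsor
import Groth.Agent.Lib.Helper18.TorsorMap
import Groth.Agent.S0084

set_option autoImplicit false
universe u
open CategoryTheory AlgebraicGeometry
open NonAbH1

namespace Groth.Agent.S14695

/-- In the case where the morphism Y → X is the identity of X: let X be a normal integral scheme
(integral, with every local ring an integrally closed domain), G and G' X-group schemes which are
finite and flat over X, and g : G → G' a homomorphism which becomes an isomorphism after base change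
to the spectrum of the function field of X. If an fppf G-torsor P over X becomes trivial after
extension of the structure group along g — there is an fppf G'-torsor P' over X with a g-equivariant
X-morphism P → P', and P' has a section over X — then P has a section over X. (The published
statement takes G, G' commutative and all schemes Noetherian, allows also composition with the
pull-back along a morphism Y → X admitting a rational section, and is phrased as injectivity of
H¹(X, G) → H¹(Y, G'_Y); this row is the case where Y → X is the identity of X, as the trivial-kernel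
assertion the argument establishes, for which commutativity and the Noetherian condition are not
needed.) -/
theorem result {X : Scheme.{u}} [IsIntegral X]
    (hX : Pi1.IsNormalScheme X) (G G' : Over X) [GrpObj G] [GrpObj G']
    [IsFinite G.hom] [Flat G.hom] [IsFinite G'.hom] [Flat G'.hom]
    (g : G ⟶ G') [IsMonHom g]
    (hg : IsIso ((Over.pullback (X.fromSpecStalk (genericPoint X))).map g))
    (P : Over X) (a : AlgGrp.Action G P) (hP : NonAbH1.IsTorsorFor Scheme.fppfPrecoverage a)
    (P' : Over X) (a' : AlgGrp.Action G' P') (hP' : NonAbH1.IsTorsorFor Scheme.fppfPrecoverage a')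
    (hpush : NonAbH1.IsPushforwardAlongSch g a a') (htriv : NonAbH1.HasSectionOver P' (𝟙 X)) :
    NonAbH1.HasSectionOver P (𝟙 X) := by
  have hfpqc : NonAbH1.IsTorsorFor Scheme.fpqcPrecoverage a := by
    obtain ⟨hps, R, hR, hsec⟩ := hP
    exact ⟨hps, R, Scheme.fppfPrecoverage_le_fpqcPrecoverage _ hR, hsec⟩
  have hfpqc' : NonAbH1.IsTorsorFor Scheme.fpqcPrecoverage a' := by
    obtain ⟨hps, R, hR, hsec⟩ := hP'
    exact ⟨hps, R, Scheme.fppfPrecoverage_le_fpqcPrecoverage _ hR, hsec⟩
  haveI := Groth.Agent.S0084.result.{u}
  haveI : IsFinite P.hom :=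
    Groth.Agent.Helper18.FpqcTorsor.prop_of_isTorsorFor @IsFinite G P a hfpqc inferInstance
  haveI : IsFinite P'.hom :=
    Groth.Agent.Helper18.FpqcTorsor.prop_of_isTorsorFor @IsFinite G' P' a' hfpqc' inferInstance
  obtain ⟨-, hsurj, hflat, hqc⟩ := (Groth.Agent.Helper18.FpqcTorsor.main6003 G P a).mp hfpqc
  obtain ⟨F, hF⟩ := hpush
  obtain ⟨s', hs'⟩ := htriv
  let j := X.fromSpecStalk (genericPoint X)
  -- F.left is finite
  haveI : IsFinite (F.left ≫ P'.hom) := by rw [Over.w F]; infer_instance
  haveI : IsFinite F.left := IsFinite.of_comp F.left P'.hom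
  haveI : IsFinite (Limits.pullback.snd F.left s') :=
    MorphismProperty.pullback_snd (P := @IsFinite) _ _ inferInstance
  -- generic point of P lifting the generic point of the section of P'
  let Tk : Over X := (Over.map j).obj (Over.mk (𝟙 _))
  let T₁ : Over X := (Over.map j).obj (Over.mk (Limits.pullback.snd P.hom j))
  let π : T₁ ⟶ Tk := (Over.map j).map (Over.homMk (Limits.pullback.snd P.hom j) (by simp))
  let p₁ : T₁ ⟶ P := Over.homMk (Limits.pullback.fst P.hom j) (Limits.pullback.condition)
  let p' : Tk ⟶ P' := Over.homMk (j ≫ s') (by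
    show (j ≫ s') ≫ P'.hom = 𝟙 _ ≫ j
    rw [Category.assoc, hs', Category.comp_id, Category.id_comp])
  haveI : EffectiveEpi π.left := by
    show EffectiveEpi (Limits.pullback.snd P.hom j)
    infer_instance
  obtain ⟨ρ, hρ⟩ := Groth.Agent.Helper18.TorsorMap.exists_lift g a a' F hF hP.1 hP'.1 π
    (Groth.Agent.Helper18.TorsorMap.bij_of_isIso_pullback g j hg _).2
    (fun Z z => (Groth.Agent.Helper18.TorsorMap.bij_of_factor g j hg Z
      (z.left ≫ Limits.pullback.snd P.hom j) (by
        rw [Category.assoc]
        exact Over.w z)).1)
    p₁ p'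
  have hρl : ρ.left ≫ F.left = j ≫ s' := congrArg (fun k => k.left) hρ
  have hρw : ρ.left ≫ P.hom = j := by
    exact (Over.w ρ).trans (Category.id_comp j)
  let σZ : Spec (X.presheaf.stalk (genericPoint X)) ⟶ Limits.pullback F.left s' :=
    Limits.pullback.lift ρ.left j hρl
  obtain ⟨sZ, hsZ⟩ := Groth.Agent.Helper18.GenSection.exists_section hX
    (Limits.pullback.snd F.left s') σZ (Limits.pullback.lift_snd _ _ _)
  refine ⟨sZ ≫ Limits.pullback.fst F.left s', ?_⟩
  rw [Category.assoc, ← Over.w F, ← Category.assoc (Limits.pullback.fst F.left s'),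
    Limits.pullback.condition, Category.assoc, hs', Category.comp_id, hsZ]

end Groth.Agent.S14695
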