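import Groth.Statements.S14693
import Mathlib
import Groth.Agent.Lib.Helper22.QuotPushout

set_option autoImplicit false
universe u
open CategoryTheory AlgebraicGeometry
open SekSuwa

namespace Groth.Agent.S14693

open CartesianMonoidalCategory MonObj CategoryTheory.Limits in

/-- For any commutative ring R, λ ∈ R and N such that λ is a non-zero-divisor and λ^N divides (1 + λX)^N
− 1 in R[X] with quotient P_{λ,N}, the closed subgroup scheme G_{λ,N} = Spec R[T]/(P_{λ,N}(T)) of
the affine R-group G^(λ) = Spec R[T, 1/(1+λT)] (group law s + t + λst) is the kernel of the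
homomorphism ψ_{λ,N} : G^(λ) → G^(λ^N), T ↦ P_{λ,N}(T): the square with sides the inclusion G_{λ,N}
→ G^(λ), ψ_{λ,N}, the unit section of G^(λ^N) and G_{λ,N} → Spec R is cartesian. (The published
text, over a discrete valuation ring and with N = p^n, introduces G_{λ,n} as the kernel of the
isogeny ψ_{λ,n}; this row is that assertion for every N, including the degenerate N = 0 where ψ is
trivial and G_{λ,0} = G^(λ).) -/
theorem result (R : Type u) [CommRing R] (lam : R) (N : ℕ) (h : SekSuwa.DivCond lam N) :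
    AlgGrp.IsKernel (SekSuwa.incl R lam N h) (SekSuwa.psi R lam N h) := by
  unfold AlgGrp.IsKernel
  have comm : SekSuwa.incl R lam N h ≫ SekSuwa.psi R lam N h =
      toUnit (SekSuwa.GK R lam N h) ≫ η[SekSuwa.G R (lam ^ N)] := by
    rw [SekSuwa.incl_psi]; rfl
  refine IsPullback.of_map (Over.forget _) comm ?_
  have hw : ((SekSuwa.AK.mkHom R lam N h : SekSuwa.A R lam →+* SekSuwa.AK R lam N h)).comp
      (SekSuwa.psiHom R lam N h : SekSuwa.A R (lam ^ N) →+* SekSuwa.A R lam) =
      (algebraMap R (SekSuwa.AK R lam N h)).comp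
        (Bialgebra.counitAlgHom R (SekSuwa.A R (lam ^ N)) : SekSuwa.A R (lam ^ N) →+* R) := by
    have := SekSuwa.mkHom_comp_psiHom R lam N h
    ext x
    have h2 := congrArg (fun φ => φ x) this
    exact h2
  have hg : Function.Surjective
      (Bialgebra.counitAlgHom R (SekSuwa.A R (lam ^ N)) : SekSuwa.A R (lam ^ N) →+* R) := by
    intro r
    refine ⟨algebraMap R _ r, ?_⟩
    exact (Bialgebra.counitAlgHom R (SekSuwa.A R (lam ^ N))).commutes r
  have hinl : Function.Surjective
      (SekSuwa.AK.mkHom R lam N h : SekSuwa.A R lam →+* SekSuwa.AK R lam N h) :=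
    Ideal.Quotient.mk_surjective
  have hker : RingHom.ker (SekSuwa.AK.mkHom R lam N h : SekSuwa.A R lam →+* SekSuwa.AK R lam N h) ≤
      Ideal.map (SekSuwa.psiHom R lam N h : SekSuwa.A R (lam ^ N) →+* SekSuwa.A R lam)
        (RingHom.ker (Bialgebra.counitAlgHom R (SekSuwa.A R (lam ^ N)) :
          SekSuwa.A R (lam ^ N) →+* R)) := by
    intro x hx
    have hx' : x ∈ SekSuwa.kerIdeal lam N h := Ideal.Quotient.eq_zero_iff_mem.mp hx
    unfold SekSuwa.kerIdeal at hx'
    rw [Ideal.mem_span_singleton] at hx'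
    obtain ⟨c, rfl⟩ := hx'
    have ht : (SekSuwa.A.t : SekSuwa.A R (lam ^ N)) ∈ RingHom.ker
        (Bialgebra.counitAlgHom R (SekSuwa.A R (lam ^ N)) : SekSuwa.A R (lam ^ N) →+* R) := by
      rw [RingHom.mem_ker]; exact SekSuwa.A.counit_t
    have hm := Ideal.mem_map_of_mem
      (SekSuwa.psiHom R lam N h : SekSuwa.A R (lam ^ N) →+* SekSuwa.A R lam) ht
    have e : (SekSuwa.psiHom R lam N h : SekSuwa.A R (lam ^ N) →+* SekSuwa.A R lam) SekSuwa.A.t =
        SekSuwa.kerGen lam N h := SekSuwa.psiHom_t R lam N h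
    rw [e] at hm
    exact Ideal.mul_mem_right _ _ hm
  have hpo := Groth.Agent.Helper22.QuotPushout.isPushout_of_surjective _ _ _ _ hw hg hinl hker
  exact isPullback_SpecMap_of_isPushout _ _ _ _ hpo

end Groth.Agent.S14693
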