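import Mathlib
import Groth.Statements.S14726
import Groth.Agent.Lib.Helper19.ValEt.Smooth

set_option autoImplicit false
universe u
open ValPrufer

namespace Groth.Agent.S14726

/-- Let V be a valuation ring with maximal ideal m, A an integral domain that is a smooth V-algebra, and
p a prime ideal of A minimal among the primes containing mA (a generic point of the special fibre of
Spec A over V). Then A_p is a valuation ring, V → A_p is an injective local homomorphism, and every
nonzero element of A_p is a unit of A_p times the image of an element of V, so that V → A_p induces
a bijection on value groups. (The published statement takes A faithfully flat and a semilocalisation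
of a smooth V-algebra at finitely many primes; the local ring A_p is then a local ring of the smooth
algebra itself at such a prime, and faithful flatness follows from the existence of p, so this row
states the smooth case, which carries the whole content.) -/
theorem result
    (V : Type u) [CommRing V] [IsDomain V] [ValuationRing V]
    (A : Type u) [CommRing A] [IsDomain A] [Algebra V A] [Algebra.Smooth V A]
    (p : Ideal A) [p.IsPrime]
    (hp : p ∈ ((IsLocalRing.maximalIdeal V).map (algebraMap V A)).minimalPrimes) :
    ValuationRing (Localization.AtPrime p) ∧
      Function.Injective (algebraMap V (Localization.AtPrime p)) ∧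
      IsLocalHom (algebraMap V (Localization.AtPrime p)) ∧
      ∀ x : Localization.AtPrime p, x ≠ 0 →
        ∃ (v : V) (w : (Localization.AtPrime p)ˣ), x = algebraMap V (Localization.AtPrime p) v * w := by
  classical
  haveI : Algebra.FinitePresentation V A := inferInstance
  haveI : Algebra.IsSmoothAt V p := inferInstance
  obtain ⟨f, hfp, n, alg, tower, hse⟩ :=
    Algebra.IsSmoothAt.exists_isStandardEtale_mvPolynomial (R := V) (p := p)
  haveI : Algebra.Etale (MvPolynomial (Fin n) V) (Localization.Away f) := inferInstance
  have hdisj : Disjoint (Submonoid.powers f : Set A) (p : Set A) :=
    (Ideal.disjoint_powers_iff_notMem_of_isPrime _).mpr hfp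
  haveI hqprime : (p.map (algebraMap A (Localization.Away f))).IsPrime :=
    IsLocalization.isPrime_of_isPrime_disjoint (Submonoid.powers f) _ _ ‹_› hdisj
  have hunder : (p.map (algebraMap A (Localization.Away f))).under A = p :=
    IsLocalization.under_map_of_isPrime_disjoint (Submonoid.powers f) _ ‹_› hdisj
  have hq : p.map (algebraMap A (Localization.Away f)) ∈
      ((IsLocalRing.maximalIdeal V).map (algebraMap V (Localization.Away f))).minimalPrimes := by
    rw [IsScalarTower.algebraMap_eq V A (Localization.Away f), ← Ideal.map_map,
      IsLocalization.minimalPrimes_map (Submonoid.powers f) (Localization.Away f)]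
    rw [Set.mem_preimage, hunder]
    exact hp
  obtain ⟨hdom, hval, hunit⟩ := Groth.Agent.Helper19.ValEt.etale_over_mvPolynomial V n
    (Localization.Away f) (p.map (algebraMap A (Localization.Away f))) hq
  haveI := hval hdom
  -- transfer along the isomorphism A_p ≃ (A_f)_q
  haveI hloc : IsLocalization.AtPrime
      (Localization.AtPrime (p.map (algebraMap A (Localization.Away f)))) p := by
    have := IsLocalization.isLocalization_atPrime_localization_atPrime (Submonoid.powers f)
      (p.map (algebraMap A (Localization.Away f)))
    have hc : (p.map (algebraMap A (Localization.Away f))).comap
        (algebraMap A (Localization (Submonoid.powers f))) = p := hunder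
    have key : ∀ (P : Ideal A) [P.IsPrime], P = p →
        IsLocalization.AtPrime
          (Localization.AtPrime (p.map (algebraMap A (Localization.Away f)))) P →
        IsLocalization.AtPrime
          (Localization.AtPrime (p.map (algebraMap A (Localization.Away f)))) p := by
      rintro P _ rfl h
      exact h
    exact key _ hc this
  let e : Localization.AtPrime p ≃ₐ[A]
      Localization.AtPrime (p.map (algebraMap A (Localization.Away f))) :=
    IsLocalization.algEquiv p.primeCompl _ _
  haveI : Module.Flat V A := inferInstance
  haveI : Module.Flat A (Localization.AtPrime p) := IsLocalization.flat _ p.primeCompl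
  haveI : Module.Flat V (Localization.AtPrime p) := Module.Flat.trans V A _
  have hvalp : ValuationRing (Localization.AtPrime p) := by
    let g : Localization.AtPrime (p.map (algebraMap A (Localization.Away f))) →+*
      Localization.AtPrime p := e.symm.toRingEquiv.toRingHom
    have hg : Function.Surjective g := e.symm.surjective
    exact Function.Surjective.valuationRing g hg
  refine ⟨hvalp, Groth.Agent.Helper19.ValEt.algebraMap_injective_of_flat V _, ?_, ?_⟩
  · constructor
    intro v hv
    rw [IsScalarTower.algebraMap_apply V A (Localization.AtPrime p),
      IsLocalization.AtPrime.isUnit_to_map_iff (Localization.AtPrime p) p] at hv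
    by_contra hnv
    have h1 : v ∈ IsLocalRing.maximalIdeal V := (IsLocalRing.mem_maximalIdeal v).mpr hnv
    exact hv (hp.1.2 (Ideal.mem_map_of_mem _ h1))
  · intro x hx
    have hex : e x ≠ 0 := by
      rw [Ne, map_eq_zero_iff _ e.injective]; exact hx
    obtain ⟨v, w, hvw⟩ := hunit (e x) hex
    refine ⟨v, Units.map (e.symm : _ →* Localization.AtPrime p) w, ?_⟩
    have h2 : algebraMap V (Localization.AtPrime (p.map (algebraMap A (Localization.Away f)))) v
        = e (algebraMap V (Localization.AtPrime p) v) := by
      rw [IsScalarTower.algebraMap_apply V A (Localization.AtPrime p), AlgEquiv.commutes]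
      rw [IsScalarTower.algebraMap_apply V (Localization.Away f),
        IsScalarTower.algebraMap_apply V A (Localization.Away f),
        ← IsScalarTower.algebraMap_apply A (Localization.Away f)]
    apply e.injective
    rw [hvw, map_mul, h2]
    congr 1
    simp

end Groth.Agent.S14726
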