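import Groth.Statements.S14727
import Groth.Statements.S14727
import Mathlib
-- import your own Groth.Agent.* helpers here

set_option autoImplicit false
universe u
open ValPrufer

namespace Groth.Agent.S14727

section

variable {R : Type u} [CommRing R]

/-- the kernel of `R → R_m / J R_m`. -/
noncomputable def K (J : Ideal R) (m : Ideal R) [m.IsPrime] : Ideal R :=
  Ideal.comap (algebraMap R (Localization.AtPrime m)) (Ideal.map (algebraMap R (Localization.AtPrime m)) J)

theorem mem_K_iff (J : Ideal R) (m : Ideal R) [m.IsPrime] (x : R) :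
    x ∈ K J m ↔ ∃ s, s ∉ m ∧ s * x ∈ J := by
  unfold K
  rw [Ideal.mem_comap, IsLocalization.mem_map_algebraMap_iff m.primeCompl]
  constructor
  · rintro ⟨⟨a, s⟩, h⟩
    rw [← map_mul, IsLocalization.eq_iff_exists m.primeCompl] at h
    obtain ⟨c, hc⟩ := h
    refine ⟨c * s, ?_, ?_⟩
    · exact (c * s).2
    · have : (c : R) * s * x = c * a := by rw [← hc]; ring
      show (c : R) * s * x ∈ J
      rw [this]
      exact J.mul_mem_left _ a.2
  · rintro ⟨s, hs, hsx⟩
    refine ⟨⟨⟨s * x, hsx⟩, ⟨s, hs⟩⟩, ?_⟩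
    simp only [map_mul]; ring

theorem mem_smul_top_iff (J : Ideal R) (m : Ideal R) [m.IsPrime] (z : Localization.AtPrime m) :
    z ∈ (J • ⊤ : Submodule R (Localization.AtPrime m)) ↔
      z ∈ Ideal.map (algebraMap R (Localization.AtPrime m)) J := by
  rw [Ideal.smul_top_eq_map]; rfl

theorem le_K (J : Ideal R) (m : Ideal R) [m.IsPrime] : J ≤ K J m := fun x hx =>
  (mem_K_iff J m x).2 ⟨1, fun h => (inferInstance : m.IsPrime).ne_top ((Ideal.eq_top_iff_one _).2 h),
    by simpa using hx⟩

/-- elements of `m` are nilpotent modulo `K`. -/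
theorem exists_pow_mem_K (I : Ideal R) (hI : ∀ (p : Ideal R), p.IsPrime → I ≤ p → p.IsMaximal)
    (n : ℕ) (hn : n ≠ 0) (m : Ideal R) [m.IsPrime] (x : R) (hx : x ∈ m) :
    ∃ N : ℕ, x ^ N ∈ K (I ^ n) m := by
  by_contra hcon
  push Not at hcon
  set S : Submonoid R := m.primeCompl ⊔ Submonoid.powers x with hS
  have hdisj : Disjoint ((I ^ n : Ideal R) : Set R) S := by
    rw [Set.disjoint_left]
    intro z hzJ hzS
    obtain ⟨s, hs, w, ⟨N, rfl⟩, rfl⟩ := Submonoid.mem_sup.1 hzS
    exact hcon N ((mem_K_iff _ m _).2 ⟨s, hs, hzJ⟩)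
  obtain ⟨Q, hQ, hJQ, hQS⟩ := Ideal.exists_le_prime_disjoint _ S hdisj
  have hIQ : I ≤ Q := (hQ.pow_le_iff hn).1 hJQ
  have hQmax := hI Q hQ hIQ
  have hQm : Q ≤ m := by
    intro z hz
    by_contra hzm
    exact Set.disjoint_left.1 hQS hz ((le_sup_left : m.primeCompl ≤ S) hzm)
  have : Q = m := hQmax.eq_of_le (inferInstance : m.IsPrime).ne_top hQm
  have hxS : x ∈ S := (le_sup_right : Submonoid.powers x ≤ S) (Submonoid.mem_powers x)
  exact Set.disjoint_left.1 hQS (this ▸ hx) hxS

theorem le_of_K_le (I : Ideal R) (hI : ∀ (p : Ideal R), p.IsPrime → I ≤ p → p.IsMaximal)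
    (n : ℕ) (hn : n ≠ 0) (m : Ideal R) [m.IsPrime] (P : Ideal R) [P.IsPrime]
    (hP : K (I ^ n) m ≤ P) : m ≤ P := by
  intro x hx
  obtain ⟨N, hN⟩ := exists_pow_mem_K I hI n hn m x hx
  exact (inferInstance : P.IsPrime).mem_of_pow_mem N (hP hN)

theorem coprime_K (I : Ideal R) (hI : ∀ (p : Ideal R), p.IsPrime → I ≤ p → p.IsMaximal)
    (n : ℕ) (hn : n ≠ 0) (m m' : Ideal R) [m.IsMaximal] [m'.IsMaximal] (hne : m ≠ m') :
    IsCoprime (K (I ^ n) m) (K (I ^ n) m') := by
  rw [Ideal.isCoprime_iff_sup_eq]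
  by_contra hcon
  obtain ⟨P, hPmax, hP⟩ := Ideal.exists_le_maximal _ hcon
  have h1 : m ≤ P := le_of_K_le I hI n hn m P (le_sup_left.trans hP)
  have h2 : m' ≤ P := le_of_K_le I hI n hn m' P (le_sup_right.trans hP)
  have e1 : m = P := (inferInstance : m.IsMaximal).eq_of_le hPmax.ne_top h1
  have e2 : m' = P := (inferInstance : m'.IsMaximal).eq_of_le hPmax.ne_top h2
  exact hne (e1.trans e2.symm)

theorem K_sup_span (I : Ideal R) (hI : ∀ (p : Ideal R), p.IsPrime → I ≤ p → p.IsMaximal)
    (n : ℕ) (hn : n ≠ 0) (m : Ideal R) [m.IsMaximal] (s : R) (hs : s ∉ m) :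
    K (I ^ n) m ⊔ Ideal.span {s} = ⊤ := by
  by_contra hcon
  obtain ⟨P, hPmax, hP⟩ := Ideal.exists_le_maximal _ hcon
  have h1 : m ≤ P := le_of_K_le I hI n hn m P (le_sup_left.trans hP)
  have e1 : m = P := (inferInstance : m.IsMaximal).eq_of_le hPmax.ne_top h1
  exact hs (e1 ▸ hP (Ideal.mem_sup_right (Ideal.subset_span rfl)))

/-- local approximation -/
theorem local_approx (I : Ideal R) (hI : ∀ (p : Ideal R), p.IsPrime → I ≤ p → p.IsMaximal)
    (n : ℕ) (hn : n ≠ 0) (m : Ideal R) [m.IsMaximal] (y : Localization.AtPrime m) :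
    ∃ g : R, algebraMap R (Localization.AtPrime m) g - y ∈
      Ideal.map (algebraMap R (Localization.AtPrime m)) (I ^ n) := by
  obtain ⟨a, s, rfl⟩ := IsLocalization.exists_mk'_eq m.primeCompl y
  have h := K_sup_span I hI n hn m s s.2
  have h1 : (1 : R) ∈ K (I ^ n) m ⊔ Ideal.span {(s : R)} := by rw [h]; trivial
  obtain ⟨k, hk, z, hz, hkz⟩ := Submodule.mem_sup.1 h1
  obtain ⟨t, rfl⟩ := Ideal.mem_span_singleton'.1 hz
  refine ⟨a * t, ?_⟩
  have hunit : IsUnit (algebraMap R (Localization.AtPrime m) s) :=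
    IsLocalization.map_units _ s
  rw [← Ideal.mul_unit_mem_iff_mem _ hunit, sub_mul, IsLocalization.mk'_spec, ← map_mul, ← map_sub]
  have : a * t * s - a = - (a * k) := by
    have : t * s = 1 - k := by rw [← hkz]; ring
    rw [mul_assoc, this]; ring
  rw [this, map_neg, map_mul]
  exact neg_mem (Ideal.mul_mem_left _ _ hk)

theorem inj_level (I : Ideal R) (n : ℕ) (x : R)
    (h : ∀ m : MaximalSpectrum R, I ≤ m.asIdeal → x ∈ K (I ^ n) m.asIdeal) : x ∈ I ^ n := by
  by_contra hx
  have hne : (I ^ n).colon {x} ≠ ⊤ := by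
    intro h1
    have : (1 : R) ∈ (I ^ n).colon {x} := h1 ▸ trivial
    rw [Submodule.mem_colon_singleton] at this
    exact hx (by simpa using this)
  obtain ⟨P, hPmax, hP⟩ := Ideal.exists_le_maximal _ hne
  have hJP : I ^ n ≤ P := fun z hz =>
    hP (Submodule.mem_colon_singleton.2 (by rw [smul_eq_mul]; exact Ideal.mul_mem_right _ _ hz))
  have hn : n ≠ 0 := by rintro rfl; exact hx (by simp)
  have hIP : I ≤ P := (hPmax.isPrime.pow_le_iff hn).1 hJP
  obtain ⟨s, hs, hsx⟩ := (mem_K_iff _ _ _).1 (h ⟨P, hPmax⟩ hIP)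
  exact hs (hP (Submodule.mem_colon_singleton.2 (by rw [smul_eq_mul]; exact hsx)))

theorem surj_level (hR : Finite (MaximalSpectrum R)) (I : Ideal R)
    (hI : ∀ (p : Ideal R), p.IsPrime → I ≤ p → p.IsMaximal) (n : ℕ)
    (y : ∀ m : {m : MaximalSpectrum R // I ≤ m.asIdeal}, Localization.AtPrime m.1.asIdeal) :
    ∃ x : R, ∀ m : {m : MaximalSpectrum R // I ≤ m.asIdeal},
      algebraMap R (Localization.AtPrime m.1.asIdeal) x - y m ∈
        Ideal.map (algebraMap R (Localization.AtPrime m.1.asIdeal)) (I ^ n) := by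
  rcases Nat.eq_zero_or_pos n with rfl | hpos
  · refine ⟨0, fun m => ?_⟩
    rw [pow_zero, Ideal.one_eq_top, Ideal.map_top]
    trivial
  have hn : n ≠ 0 := by omega
  have : Finite {m : MaximalSpectrum R // I ≤ m.asIdeal} := Subtype.finite
  choose g hg using fun m : {m : MaximalSpectrum R // I ≤ m.asIdeal} =>
    local_approx I hI n hn m.1.asIdeal (y m)
  have hcop : Pairwise (Function.onFun IsCoprime
      fun m : {m : MaximalSpectrum R // I ≤ m.asIdeal} => K (I ^ n) m.1.asIdeal) := by
    intro m m' hne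
    refine coprime_K I hI n hn _ _ fun h => hne ?_
    exact Subtype.ext (MaximalSpectrum.ext h)
  obtain ⟨x, hx⟩ := Ideal.exists_forall_sub_mem_ideal hcop g
  refine ⟨x, fun m => ?_⟩
  have h1 : algebraMap R (Localization.AtPrime m.1.asIdeal) (x - g m) ∈
      Ideal.map (algebraMap R (Localization.AtPrime m.1.asIdeal)) (I ^ n) := hx m
  have h2 := Ideal.add_mem _ h1 (hg m)
  rw [map_sub] at h2
  convert h2 using 1
  ring

theorem main (R : Type u) [CommRing R] (hR : Finite (MaximalSpectrum R)) (I : Ideal R)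
    (hI : ∀ (p : Ideal R), p.IsPrime → I ≤ p → p.IsMaximal) :
    Function.Bijective (LinearMap.pi (fun m : {m : MaximalSpectrum R // I ≤ m.asIdeal} =>
      AdicCompletion.map I (Algebra.linearMap R (Localization.AtPrime m.1.asIdeal)))) := by
  constructor
  · rw [injective_iff_map_eq_zero]
    intro x hx
    obtain ⟨a, rfl⟩ := AdicCompletion.mk_surjective I R x
    apply AdicCompletion.ext
    intro n
    rw [AdicCompletion.mk_apply_coe, AdicCompletion.val_zero_apply, Submodule.mkQ_apply,
      Submodule.Quotient.mk_eq_zero]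
    have : a n ∈ I ^ n := inj_level I n (a n) fun m hm => by
      have h1 := congrFun hx ⟨m, hm⟩
      rw [LinearMap.pi_apply, AdicCompletion.map_mk] at h1
      have h2 : (AdicCompletion.mk I _ (AdicCompletion.AdicCauchySequence.map I
          (Algebra.linearMap R (Localization.AtPrime m.asIdeal)) a)).val n = 0 := by
        rw [h1]; rfl
      rw [AdicCompletion.mk_apply_coe, Submodule.mkQ_apply, Submodule.Quotient.mk_eq_zero] at h2
      rw [K, Ideal.mem_comap]
      exact (mem_smul_top_iff _ _ _).1 h2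
    simpa using this
  · intro y
    choose b hb using fun m => AdicCompletion.mk_surjective I _ (y m)
    choose x hx using fun n => surj_level hR I hI n (fun m => b m n)
    have hcau : AdicCompletion.IsAdicCauchy I R x := by
      intro k n hkn
      rw [SModEq.sub_mem]
      have : x k - x n ∈ I ^ k := inj_level I k _ fun m hm => by
        rw [K, Ideal.mem_comap]
        have h1 := hx k ⟨m, hm⟩
        have h2 : b ⟨m, hm⟩ k - b ⟨m, hm⟩ n ∈
            Ideal.map (algebraMap R (Localization.AtPrime m.asIdeal)) (I ^ k) :=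
          (mem_smul_top_iff _ _ _).1 (SModEq.sub_mem.1 ((b ⟨m, hm⟩).2 hkn))
        have h3 : algebraMap R (Localization.AtPrime m.asIdeal) (x n) - b ⟨m, hm⟩ n ∈
            Ideal.map (algebraMap R (Localization.AtPrime m.asIdeal)) (I ^ k) :=
          Ideal.map_mono (Ideal.pow_le_pow_right hkn) (hx n ⟨m, hm⟩)
        have h4 := Ideal.sub_mem _ (Ideal.add_mem _ h1 h2) h3
        rw [map_sub]
        convert h4 using 1
        ring
      simpa using this
    refine ⟨AdicCompletion.mk I R ⟨x, hcau⟩, funext fun m => ?_⟩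
    rw [LinearMap.pi_apply, AdicCompletion.map_mk, ← hb m]
    apply AdicCompletion.ext
    intro n
    rw [AdicCompletion.mk_apply_coe, AdicCompletion.mk_apply_coe, Submodule.mkQ_apply,
      Submodule.mkQ_apply, Submodule.Quotient.eq]
    exact (mem_smul_top_iff _ _ _).2 (hx n m)

end

/-- Let R be a semilocal ring (finitely many maximal ideals) and I an ideal of R of co-height zero, i.e.
every prime ideal containing I is maximal. Then the canonical map from the I-adic completion of R to
the product, over the maximal ideals m ⊇ I, of the I-adic completions of the local rings R_m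
(equivalently their IR_m-adic completions) is bijective; it is the continuous ring isomorphism of
the source, stated here as bijectivity of the canonical map of completed modules. -/
theorem result
    (R : Type u) [CommRing R] (hR : Finite (MaximalSpectrum R)) (I : Ideal R)
    (hI : ∀ (p : Ideal R), p.IsPrime → I ≤ p → p.IsMaximal) :
    Function.Bijective (LinearMap.pi (fun m : {m : MaximalSpectrum R // I ≤ m.asIdeal} =>
      AdicCompletion.map I (Algebra.linearMap R (Localization.AtPrime m.1.asIdeal)))) := by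
  exact Groth.Agent.S14727.main R hR I hI

end Groth.Agent.S14727
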