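import Groth.Statements.S14731
import Mathlib
import Groth.Agent.Lib.Helper22.Spread

set_option autoImplicit false
universe u
open ValPrufer

namespace Groth.Agent.S14731

/-- In characteristic zero, every field K generated as a field by a finite set is the fraction field of
a subring A of K of finite type and smooth over the integers. -/
theorem result
    (K : Type u) [Field K] [CharZero K] (s : Finset K)
    (hs : Subfield.closure (↑s : Set K) = ⊤) :
    ∃ A : Subring K, Algebra.FiniteType ℤ A ∧ Algebra.Smooth ℤ A ∧ IsFractionRing A K := by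
  classical
  let B : Subalgebra ℤ K := Algebra.adjoin ℤ (s : Set K)
  haveI : Algebra.FiniteType ℤ B := .adjoin_of_finite s.finite_toSet
  have hB : ∀ w ∈ Subring.closure (s : Set K), w ∈ B := by
    intro w hw
    have h := Algebra.adjoin_int (s : Set K)
    show w ∈ Algebra.adjoin ℤ (s : Set K)
    rw [h]
    exact hw
  have hfrac : ∀ z : K, ∃ x y : B, z = (x : K) / (y : K) := by
    intro z
    have hz : z ∈ Subfield.closure (s : Set K) := by rw [hs]; trivial
    obtain ⟨x, hx, y, hy, hxy⟩ := Subfield.mem_closure_iff.mp hz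
    exact ⟨⟨x, hB x hx⟩, ⟨y, hB y hy⟩, hxy.symm⟩
  haveI : IsFractionRing B K := IsFractionRing.of_field B K (fun z => by
    obtain ⟨x, y, hxy⟩ := hfrac z
    exact ⟨x, y, hxy⟩)
  haveI : Algebra.EssFiniteType B K := .of_isLocalization _ (nonZeroDivisors B)
  haveI : Algebra.EssFiniteType ℤ K := .comp ℤ B K
  haveI : Algebra.EssFiniteType ℚ K := .of_comp ℤ ℚ K
  haveI : Algebra.FormallySmooth ℚ K := inferInstance
  haveI : Algebra.FormallySmooth ℤ ℚ := .of_isLocalization (nonZeroDivisors ℤ)
  haveI : Algebra.FormallySmooth ℤ K := .comp ℤ ℚ K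
  obtain ⟨A, hA1, hA2, hA3, hA4⟩ := Groth.Agent.Helper22.Spread.exists_smooth_subalgebra B hfrac
  let f : A ≃+* A.toSubring :=
    { toFun := fun x => ⟨x.1, x.2⟩
      invFun := fun x => ⟨x.1, x.2⟩
      left_inv := fun _ => rfl
      right_inv := fun _ => rfl
      map_mul' := fun _ _ => rfl
      map_add' := fun _ _ => rfl }
  let e : A ≃ₐ[ℤ] A.toSubring := AlgEquiv.ofRingEquiv (f := f) (fun r => by
    apply Subtype.ext
    simp [f])
  refine ⟨A.toSubring, hA1.equiv e, Algebra.Smooth.of_equiv e, ?_⟩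
  refine IsFractionRing.of_field _ K (fun z => ?_)
  obtain ⟨x, y, hxy⟩ := hA4 z
  exact ⟨⟨x.1, x.2⟩, ⟨y.1, y.2⟩, hxy⟩

end Groth.Agent.S14731
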