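import Groth.Statements.S14732
import Mathlib
import Groth.Agent.Lib.Helper22.Spread

set_option autoImplicit false
universe u
open ValPrufer

namespace Groth.Agent.S14732

/-- In characteristic p > 0, a field K that is finitely generated over its prime subfield F (a field
with p elements) is the fraction field of an integral scheme smooth over F; concretely, there is an
F-subalgebra A of K, of finite type and smooth over F, whose fraction field is K. -/
theorem result
    (K : Type u) [Field K] (p : ℕ) [Fact p.Prime] [CharP K p] (s : Finset K)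
    (hs : Subfield.closure (↑s : Set K) = ⊤) :
    ∃ A : Subalgebra (⊥ : Subfield K) K, Algebra.FiniteType (⊥ : Subfield K) A ∧
      Algebra.Smooth (⊥ : Subfield K) A ∧ IsFractionRing A K := by
  classical
  haveI : Finite (⊥ : Subfield K) := by
    letI := ZMod.algebra K p
    have h := Subfield.bot_eq_of_zMod_algebra (K := K) p
    have hfin : ((⊥ : Subfield K) : Set K).Finite := by
      rw [h, RingHom.coe_fieldRange]
      exact Set.finite_range _
    exact hfin.to_subtype
  haveI : Field.FG K := ⟨⟨s, hs⟩⟩
  haveI : Algebra.EssFiniteType (⊥ : Subfield K) K := Field.fg_iff_essFiniteType.mp inferInstance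
  obtain ⟨t, ht⟩ := IntermediateField.fg_top (⊥ : Subfield K) K
  haveI : Algebra.FiniteType (⊥ : Subfield K) (Algebra.adjoin (⊥ : Subfield K) (t : Set K)) :=
    .adjoin_of_finite t.finite_toSet
  obtain ⟨A, h1, h2, h3, -⟩ := Groth.Agent.Helper22.Spread.exists_smooth_subalgebra
    (Algebra.adjoin (⊥ : Subfield K) (t : Set K)) (by
      intro z
      have hz : z ∈ IntermediateField.adjoin (⊥ : Subfield K) (t : Set K) := by rw [ht]; trivial
      obtain ⟨x, hx, y, hy, hxy⟩ := IntermediateField.mem_adjoin_iff_div.mp hz
      exact ⟨⟨x, hx⟩, ⟨y, hy⟩, hxy⟩)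
  exact ⟨A, h1, h2, h3⟩

end Groth.Agent.S14732
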