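import Groth.Statements.S14738
import Mathlib

set_option autoImplicit false
universe u
open ValPrufer

namespace Groth.Agent.S14738

/-- Let R be a semilocal Prüfer domain (an integral domain with finitely many maximal ideals whose
localisations at primes are valuation rings) of finite Krull dimension, and m a maximal ideal of R.
Then there is a ∈ R with V(a) = {m}, i.e. m is the only prime ideal containing a, and there is b ∉ m
such that R[1/b] is the localisation R_m (every element outside m becomes invertible after inverting
b); consequently the spectra of the local rings R_m form a Zariski open covering of Spec R. (The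
published remark assumes positive Krull dimension to construct a; for R a field the assertions hold
with a = 0 and b = 1. It also takes b to be the product of the elements a_n chosen in the same way
for the other maximal ideals n; that choice fails as soon as a non-maximal prime lies in another
maximal ideal but not in m, e.g. for the intersection of two independent rank-two valuation rings of
a field, so this row asserts only that some such b exists.) -/
theorem result
    (R : Type u) [CommRing R] [IsDomain R]
    (hR : ∀ (p : Ideal R) [p.IsPrime], ValuationRing (Localization.AtPrime p))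
    (hfin : Finite (MaximalSpectrum R)) (hdim : ringKrullDim R < ⊤)
    (m : Ideal R) [m.IsMaximal] :
    (∃ a : R, ∀ (p : Ideal R), p.IsPrime → (a ∈ p ↔ p = m)) ∧
      ∃ b : R, b ∉ m ∧ IsLocalization.AtPrime (Localization.Away b) m := by
  classical
  -- uniform bound on heights
  have hD : ∃ D : ℕ, ∀ p : PrimeSpectrum R, Order.height p ≤ (D : ℕ∞) := by
    have h1 : ∀ p : PrimeSpectrum R, (Order.height p : WithBot ℕ∞) ≤ ringKrullDim R :=
      fun p => Order.height_le_krullDim p
    cases hk : ringKrullDim R with
    | bot =>
      refine ⟨0, fun p => ?_⟩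
      have := h1 p
      rw [hk] at this
      exact absurd this (not_le_of_gt (WithBot.bot_lt_coe _))
    | coe k =>
      rw [hk, ← WithBot.coe_top, WithBot.coe_lt_coe] at hdim
      obtain ⟨D, hDk⟩ := ENat.ne_top_iff_exists.mp hdim.ne
      refine ⟨D, fun p => ?_⟩
      have := h1 p
      rw [hk, WithBot.coe_le_coe] at this
      rw [hDk]
      exact this
  have hchain : ∀ (M : Ideal R) [M.IsMaximal] (p q : Ideal R), p.IsPrime → q.IsPrime →
      p ≤ M → q ≤ M → p ≤ q ∨ q ≤ p := by
    intro M _ p q hp hq hpM hqM
    haveI := hR M
    have hdisj : ∀ I : Ideal R, I ≤ M → Disjoint (M.primeCompl : Set R) I := by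
      intro I hI
      rw [Set.disjoint_left]
      intro x hx hxI
      exact hx (hI hxI)
    have e1 := IsLocalization.under_map_of_isPrime_disjoint M.primeCompl
      (Localization.AtPrime M) hp (hdisj p hpM)
    have e2 := IsLocalization.under_map_of_isPrime_disjoint M.primeCompl
      (Localization.AtPrime M) hq (hdisj q hqM)
    rcases (ValuationRing.le_total_ideal (A := Localization.AtPrime M)).total
      (Ideal.map (algebraMap R (Localization.AtPrime M)) p)
      (Ideal.map (algebraMap R (Localization.AtPrime M)) q) with h | h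
    · left; rw [← e1, ← e2]; exact Ideal.comap_mono h
    · right; rw [← e1, ← e2]; exact Ideal.comap_mono h
  have hfinM : ∀ (M : Ideal R) [M.IsMaximal],
      {p : PrimeSpectrum R | p.asIdeal ≤ M}.Finite := by
    intro M _
    obtain ⟨D, hD⟩ := hD
    have hinj : ∀ p q : PrimeSpectrum R, p.asIdeal ≤ q.asIdeal →
        Order.height p = Order.height q → p = q := by
      intro p q h hpq
      by_contra hne
      have hlt : p < q := lt_of_le_of_ne (show p ≤ q from h) hne
      have := Order.height_strictMono hlt (lt_of_le_of_lt (hD p) (ENat.coe_lt_top D))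
      exact this.ne hpq
    have hfinIic : (Set.Iic (D : ℕ∞)).Finite := by
      refine Set.Finite.subset ((Set.finite_Iic D).image (fun n : ℕ => (n : ℕ∞))) ?_
      intro x hx
      obtain ⟨n, rfl, hn⟩ := ENat.le_coe_iff.mp hx
      exact ⟨n, hn, rfl⟩
    refine Set.Finite.of_injOn (f := fun p => Order.height p) (t := Set.Iic (D : ℕ∞))
      (fun p _ => hD p) ?_ hfinIic
    intro p hp q hq hpq
    rcases hchain M p.asIdeal q.asIdeal p.2 q.2 hp hq with h | h
    · exact hinj p q h hpq
    · exact (hinj q p h hpq.symm).symm
  have hspec : (Set.univ : Set (PrimeSpectrum R)).Finite := by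
    have hsub : (Set.univ : Set (PrimeSpectrum R)) ⊆
        ⋃ M : MaximalSpectrum R, {p : PrimeSpectrum R | p.asIdeal ≤ M.asIdeal} := by
      intro p _
      obtain ⟨M, hM, hpM⟩ := Ideal.exists_le_maximal p.asIdeal p.2.ne_top
      exact Set.mem_iUnion.mpr ⟨⟨M, hM⟩, hpM⟩
    refine Set.Finite.subset ?_ hsub
    exact Set.finite_iUnion (fun M => hfinM M.asIdeal)
  haveI : Finite (PrimeSpectrum R) := Set.finite_univ_iff.mp hspec
  haveI : Fintype (PrimeSpectrum R) := Fintype.ofFinite _
  have hmax : m.IsMaximal := inferInstance
  let m' : PrimeSpectrum R := ⟨m, inferInstance⟩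
  refine ⟨?_, ?_⟩
  · let s : Finset (PrimeSpectrum R) := Finset.univ.filter (fun p => p ≠ m')
    have key : ∃ a ∈ m, ∀ i ∈ s, a ∉ i.asIdeal := by
      by_contra hcon
      push Not at hcon
      have hsub : ((m : Set R) ⊆ ⋃ i ∈ (↑s : Set (PrimeSpectrum R)),
          ((fun p : PrimeSpectrum R => p.asIdeal) i : Set R)) := by
        intro a ha
        obtain ⟨i, his, hai⟩ := hcon a ha
        exact Set.mem_biUnion (Finset.mem_coe.mpr his) hai
      obtain ⟨i, hi, hle⟩ := (Ideal.subset_union_prime
        (f := fun p : PrimeSpectrum R => p.asIdeal) m' m' (fun i _ _ _ => i.2)).mp hsub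
      have hne : i ≠ m' := (Finset.mem_filter.mp hi).2
      apply hne
      apply PrimeSpectrum.ext
      exact (hmax.eq_of_le i.2.ne_top hle).symm
    obtain ⟨a, ham, hau⟩ := key
    refine ⟨a, fun p hp => ⟨fun hap => ?_, fun h => h ▸ ham⟩⟩
    by_contra hne
    have hps : (⟨p, hp⟩ : PrimeSpectrum R) ∈ s := by
      refine Finset.mem_filter.mpr ⟨Finset.mem_univ _, ?_⟩
      intro h
      apply hne
      exact congrArg PrimeSpectrum.asIdeal h
    exact hau ⟨p, hp⟩ hps hap
  · have hex : ∀ q : PrimeSpectrum R, ∃ x : R, x ∉ m ∧ (¬ q.asIdeal ≤ m → x ∈ q.asIdeal) := by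
      intro q
      by_cases h : q.asIdeal ≤ m
      · exact ⟨1, fun h1 => hmax.ne_top ((Ideal.eq_top_iff_one _).mpr h1), fun h' => absurd h h'⟩
      · obtain ⟨x, hxq, hxm⟩ := Set.not_subset.mp h
        exact ⟨x, hxm, fun _ => hxq⟩
    choose c hcm hcq using hex
    let b : R := ∏ q : PrimeSpectrum R, c q
    have hbm : b ∉ m := by
      intro hb
      obtain ⟨q, _, hq⟩ := (Ideal.IsPrime.prod_mem_iff (p := m)).mp hb
      exact hcm q hq
    have hbq : ∀ q : Ideal R, q.IsPrime → b ∉ q → q ≤ m := by
      intro q hq hbq
      by_contra hqm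
      apply hbq
      exact Ideal.mem_of_dvd _ (Finset.dvd_prod_of_mem c (Finset.mem_univ ⟨q, hq⟩))
        (hcq ⟨q, hq⟩ hqm)
    refine ⟨b, hbm, ?_⟩
    have hb0 : b ≠ 0 := fun h => hbm (h ▸ m.zero_mem)
    have hinj : Function.Injective (algebraMap R (Localization.Away b)) :=
      IsLocalization.injective (Localization.Away b)
        (powers_le_nonZeroDivisors_of_noZeroDivisors hb0)
    refine (isLocalization_iff (M := m.primeCompl) (S := Localization.Away b)).mpr ⟨?_, ?_, ?_⟩
    · intro y
      by_contra hnu
      obtain ⟨N, hN, hmem⟩ := exists_max_ideal_of_mem_nonunits (mem_nonunits_iff.mpr hnu)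
      have hqp : (N.comap (algebraMap R (Localization.Away b))).IsPrime :=
        Ideal.comap_isPrime _ _
      have hbN : b ∉ N.comap (algebraMap R (Localization.Away b)) := by
        intro hb
        rw [Ideal.mem_comap] at hb
        exact hN.ne_top (Ideal.eq_top_of_isUnit_mem _ hb
          (IsLocalization.Away.algebraMap_isUnit b))
      have hle := hbq _ hqp hbN
      exact y.2 (hle (Ideal.mem_comap.mpr hmem))
    · intro z
      obtain ⟨n, a, hza⟩ := IsLocalization.Away.surj b z
      have hbn : b ^ n ∈ m.primeCompl := by
        intro h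
        exact hbm (hmax.isPrime.mem_of_pow_mem n h)
      refine ⟨(a, ⟨b ^ n, hbn⟩), ?_⟩
      simp only [map_pow]
      exact hza
    · intro x y hxy
      exact ⟨1, by rw [hinj hxy]⟩

end Groth.Agent.S14738
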