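import Groth.Statements.S14741
import Mathlib
import Groth.Prelude.Def_Coh
import Groth.Prelude.Def_CohB1
import Groth.Agent.Lib.Helper13.VanishBound
import Groth.Agent.Lib.Helper13.HUTop
import Groth.Agent.S0022

set_option autoImplicit false
universe u
open CategoryTheory AlgebraicGeometry
open ValPrufer

namespace Groth.Agent.S14741

open AlgebraicGeometry CategoryTheory TopologicalSpace

lemma aux (n : ℕ) (R : Type u) [CommRing R] {X : Scheme.{u}}
    (ι : X ⟶ Proj (CohB1.polyGrading n R)) [IsAffineHom ι]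
    (F : X.Modules) [F.IsQuasicoherent] (q : ℕ) (hq : n + 1 ≤ q) :
    Subsingleton (Coh.HH X F q) := by
  let 𝒞 : Set X.Opens := {W | ∃ (f : MvPolynomial (Fin (n + 1)) R) (d : ℕ)
    (_ : f ∈ CohB1.polyGrading n R d) (_ : 0 < d),
      W = ι ⁻¹ᵁ (Proj.basicOpen (CohB1.polyGrading n R) f)}
  have h𝒞 : ∀ W ∈ 𝒞, IsAffineOpen W := by
    rintro _ ⟨f, d, hf, hd, rfl⟩
    exact (Proj.isAffineOpen_basicOpen _ f hf hd).preimage ι
  have hinf : ∀ W ∈ 𝒞, ∀ W' ∈ 𝒞, W ⊓ W' ∈ 𝒞 := by
    rintro _ ⟨f, d, hf, hd, rfl⟩ _ ⟨g, d', hg, hd', rfl⟩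
    refine ⟨f * g, d + d', SetLike.mul_mem_graded hf hg, by omega, ?_⟩
    rw [Proj.basicOpen_mul]
    rfl
  let U : Fin (n + 1) → X.Opens := fun k =>
    ι ⁻¹ᵁ (Proj.basicOpen (CohB1.polyGrading n R) (MvPolynomial.X k))
  have hU : ∀ k, U k ∈ 𝒞 := fun k =>
    ⟨MvPolynomial.X k, 1, MvPolynomial.isHomogeneous_X R k, Nat.one_pos, rfl⟩
  have hcov0 : ⨆ k, Proj.basicOpen (CohB1.polyGrading n R) (MvPolynomial.X k) = ⊤ :=
    Proj.iSup_basicOpen_eq_top _ _ (Groth.Agent.S0022.irrelevant_le n R)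
  have hcov : ⨆ k, U k = ⊤ := by
    rw [← Scheme.Hom.preimage_iSup, hcov0]
    rfl
  have h1 := Groth.Agent.Helper13.VanishBound.HU_iSup_subsingleton F 𝒞 h𝒞 hinf U hU q
    (by simp; omega)
  rw [hcov] at h1
  exact (Groth.Agent.Helper13.HUTop.HUtopEquiv (X := X.toTopCat) (Coh.toAb F) q).symm.injective.subsingleton

/-- Let R be a semilocal Prüfer domain (an integral domain with finitely many maximal ideals whose
localisations at primes are valuation rings) of finite Krull dimension, m ≥ 1, X a closed subscheme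
of projective (m-1)-space over R which is flat over R, and F a finitely presented (equivalently,
coherent) O_X-module. Then H^q(X, F) = 0 for all q > m. -/
theorem result
    (R : Type u) [CommRing R] [IsDomain R]
    (hR : ∀ (p : Ideal R) [p.IsPrime], ValuationRing (Localization.AtPrime p))
    (hfin : Finite (MaximalSpectrum R)) (hdim : ringKrullDim R < ⊤)
    (m : ℕ) (hm : 1 ≤ m) (X : Scheme.{u}) (ι : X ⟶ CohB1.ProjSpace (m - 1) R) [IsClosedImmersion ι]
    [Flat (ι ≫ CohB1.ProjSpace.toSpec (m - 1) R)]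
    (F : X.Modules) (hF : CohB1.IsFP F) (q : ℕ) (hq : m < q) :
    Subsingleton (Coh.HH X F q) := by
  haveI : SheafOfModules.IsFinitePresentation (R := X.ringCatSheaf) F := hF
  have hq' : F.IsQuasicoherent := inferInstance
  have hι : IsAffineHom ι := inferInstance
  exact @aux (m - 1) R _ X ι hι F hq' q (by omega)

end Groth.Agent.S14741
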