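import Groth.Statements.S14758
import Mathlib
import Groth.Prelude.Def_EtCore
import Groth.Prelude.Def_LefMon
import Groth.Agent.S0101
import Groth.Agent.Lib.Helper10.ExtAdj

set_option autoImplicit false
universe u
open CategoryTheory CategoryTheory.Limits MonoidalCategory CartesianMonoidalCategory MonObj GrpObj AlgebraicGeometry
open EtAdic

namespace Groth.Agent.S14758

section helpers

open Opposite CategoryTheory.Abelian Groth.Agent.Helper10.ExtAdj

variable {X Y Z : Scheme.{u}}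

/-- uniqueness part of `leftAdjointUniq` -/
lemma eq_leftAdjointUniq_app {C D : Type*} [Category C] [Category D] {F F' : C ⥤ D} {G : D ⥤ C}
    (adj1 : F ⊣ G) (adj2 : F' ⊣ G) (x : C) (τ : F.obj x ⟶ F'.obj x)
    (h : adj1.unit.app x ≫ G.map τ = adj2.unit.app x) :
    τ = (Adjunction.leftAdjointUniq adj1 adj2).hom.app x := by
  apply (adj1.homEquiv _ _).injective
  rw [Adjunction.homEquiv_leftAdjointUniq_hom_app, Adjunction.homEquiv_unit]
  exact h

/-- the unit of the adjunction defining `pullConstIso` -/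
lemma unitA (f : X ⟶ Y) (M : AddCommGrpCat.{u+1}) :
    (((EtCore.constAdj Y).comp (EtCoh.pullPushAdj f)).ofNatIsoRight (EtCore.pushGsecIso f)).unit.app M =
      (EtCore.constAdj Y).unit.app M ≫
        (EtCore.gsec Y).map ((EtCoh.pullPushAdj f).unit.app
          ((constantSheaf Y.smallEtaleTopology AddCommGrpCat.{u+1}).obj M)) ≫
        (EtCore.pushGsecIso f).hom.app ((EtCoh.pull f).obj
          ((constantSheaf Y.smallEtaleTopology AddCommGrpCat.{u+1}).obj M)) := by
  simp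

/-- the unit of the adjunction defining `pullComp` -/
lemma unitB (a : X ⟶ Y) (b : Y ⟶ Z) (G : EtCoh.Ab Z) :
    (((EtCoh.pullPushAdj b).comp (EtCoh.pullPushAdj a)).ofNatIsoRight (EtCoh.pushComp b a)).unit.app G =
      (EtCoh.pullPushAdj b).unit.app G ≫
        (EtCoh.push b).map ((EtCoh.pullPushAdj a).unit.app ((EtCoh.pull b).obj G)) ≫
        (EtCoh.pushComp b a).hom.app ((EtCoh.pull a).obj ((EtCoh.pull b).obj G)) := by
  simp

/-- compatibility of `pushGsecIso` with composition -/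
lemma gsec_pushComp (a : X ⟶ Y) (b : Y ⟶ Z) (P : EtCoh.Ab X) :
    (EtCore.gsec Z).map ((EtCoh.pushComp b a).hom.app P) ≫ (EtCore.pushGsecIso (a ≫ b)).hom.app P =
      (EtCore.pushGsecIso b).hom.app ((EtCoh.push a).obj P) ≫ (EtCore.pushGsecIso a).hom.app P := by
  simp only [EtCore.pushGsecIso, EtCoh.pushComp, NatIso.ofComponents_hom_app, Functor.mapIso_hom,
    Iso.symm_hom, Iso.op_inv]
  show P.obj.map _ ≫ P.obj.map _ = P.obj.map _ ≫ P.obj.map _
  rw [← Functor.map_comp, ← Functor.map_comp]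
  congr 1
  apply Quiver.Hom.unop_inj
  apply IsTerminal.hom_ext
  exact IsTerminal.isTerminalObj (EtCoh.bc a) _ (EtCore.bcTopIsTerminal b)

/-- compatibility of `pullConstIso` with composition -/
lemma pullConst_comp (a : X ⟶ Y) (b : Y ⟶ Z) (M : AddCommGrpCat.{u+1}) :
    (EtCore.pullComp a b).hom.app ((constantSheaf Z.smallEtaleTopology AddCommGrpCat.{u+1}).obj M) ≫
      (EtCoh.pull a).map ((EtCore.pullConstIso b).hom.app M) ≫ (EtCore.pullConstIso a).hom.app M =
    (EtCore.pullConstIso (a ≫ b)).hom.app M := by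
  let cZ := (constantSheaf Z.smallEtaleTopology AddCommGrpCat.{u+1}).obj M
  let cY := (constantSheaf Y.smallEtaleTopology AddCommGrpCat.{u+1}).obj M
  let cX := (constantSheaf X.smallEtaleTopology AddCommGrpCat.{u+1}).obj M
  let θ := (EtCore.pullComp a b).hom.app cZ
  let cb : (EtCoh.pull b).obj cZ ⟶ cY := (EtCore.pullConstIso b).hom.app M
  let ca : (EtCoh.pull a).obj cY ⟶ cX := (EtCore.pullConstIso a).hom.app M
  have hθ : (EtCoh.pullPushAdj (a ≫ b)).unit.app cZ ≫ (EtCoh.push (a ≫ b)).map θ =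
      (EtCoh.pullPushAdj b).unit.app cZ ≫
        (EtCoh.push b).map ((EtCoh.pullPushAdj a).unit.app ((EtCoh.pull b).obj cZ)) ≫
        (EtCoh.pushComp b a).hom.app ((EtCoh.pull a).obj ((EtCoh.pull b).obj cZ)) := by
    rw [← unitB a b cZ]
    exact Adjunction.unit_leftAdjointUniq_hom_app (EtCoh.pullPushAdj (a ≫ b)) _ cZ
  have hcb : ((EtCore.constAdj Z).unit.app M ≫
        (EtCore.gsec Z).map ((EtCoh.pullPushAdj b).unit.app cZ) ≫
        (EtCore.pushGsecIso b).hom.app ((EtCoh.pull b).obj cZ)) ≫ (EtCore.gsec Y).map cb =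
      (EtCore.constAdj Y).unit.app M := by
    rw [← unitA b M]
    exact Adjunction.unit_leftAdjointUniq_hom_app _ (EtCore.constAdj Y) M
  have hca : ((EtCore.constAdj Y).unit.app M ≫
        (EtCore.gsec Y).map ((EtCoh.pullPushAdj a).unit.app cY) ≫
        (EtCore.pushGsecIso a).hom.app ((EtCoh.pull a).obj cY)) ≫ (EtCore.gsec X).map ca =
      (EtCore.constAdj X).unit.app M := by
    rw [← unitA a M]
    exact Adjunction.unit_leftAdjointUniq_hom_app _ (EtCore.constAdj X) M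
  refine eq_leftAdjointUniq_app (((EtCore.constAdj Z).comp (EtCoh.pullPushAdj (a ≫ b))).ofNatIsoRight
    (EtCore.pushGsecIso (a ≫ b))) (EtCore.constAdj X) M _ ?_
  rw [unitA (a ≫ b) M]
  -- naturality facts
  have e1 : ∀ {P P' : EtCoh.Ab X} (t : P ⟶ P'),
      (EtCore.pushGsecIso (a ≫ b)).hom.app P ≫ (EtCore.gsec X).map t =
        (EtCore.gsec Z).map ((EtCoh.push (a ≫ b)).map t) ≫ (EtCore.pushGsecIso (a ≫ b)).hom.app P' :=
    fun t => ((EtCore.pushGsecIso (a ≫ b)).hom.naturality t).symm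
  have e3 : ∀ {P P' : EtCoh.Ab X} (t : P ⟶ P'),
      (EtCoh.pushComp b a).hom.app P ≫ (EtCoh.push (a ≫ b)).map t =
        (EtCoh.push b).map ((EtCoh.push a).map t) ≫ (EtCoh.pushComp b a).hom.app P' :=
    fun t => ((EtCoh.pushComp b a).hom.naturality t).symm
  have e4 : (EtCoh.pullPushAdj a).unit.app ((EtCoh.pull b).obj cZ) ≫
      (EtCoh.push a).map ((EtCoh.pull a).map cb) = cb ≫ (EtCoh.pullPushAdj a).unit.app cY :=
    ((EtCoh.pullPushAdj a).unit.naturality cb).symm
  have e6 : ∀ {P P' : EtCoh.Ab Y} (w : P ⟶ P'),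
      (EtCore.gsec Z).map ((EtCoh.push b).map w) ≫ (EtCore.pushGsecIso b).hom.app P' =
        (EtCore.pushGsecIso b).hom.app P ≫ (EtCore.gsec Y).map w :=
    fun w => (EtCore.pushGsecIso b).hom.naturality w
  have e7 : ∀ {P P' : EtCoh.Ab X} (w : P ⟶ P'),
      (EtCore.gsec Y).map ((EtCoh.push a).map w) ≫ (EtCore.pushGsecIso a).hom.app P' =
        (EtCore.pushGsecIso a).hom.app P ≫ (EtCore.gsec X).map w :=
    fun w => (EtCore.pushGsecIso a).hom.naturality w
  have e5 := gsec_pushComp a b cX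
  -- the chain
  have step1 : (EtCoh.pullPushAdj (a ≫ b)).unit.app cZ ≫
      (EtCoh.push (a ≫ b)).map (θ ≫ (EtCoh.pull a).map cb ≫ ca) =
      (EtCoh.pullPushAdj b).unit.app cZ ≫ (EtCoh.push b).map cb ≫
        (EtCoh.push b).map ((EtCoh.pullPushAdj a).unit.app cY ≫ (EtCoh.push a).map ca) ≫
        (EtCoh.pushComp b a).hom.app cX := by
    rw [Functor.map_comp, reassoc_of% hθ, e3, ← Functor.map_comp_assoc, ← Functor.map_comp_assoc,
      Functor.map_comp (EtCoh.push a), reassoc_of% e4, Functor.map_comp (EtCoh.push b)]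
  calc ((EtCore.constAdj Z).unit.app M ≫
        (EtCore.gsec Z).map ((EtCoh.pullPushAdj (a ≫ b)).unit.app cZ) ≫
        (EtCore.pushGsecIso (a ≫ b)).hom.app ((EtCoh.pull (a ≫ b)).obj cZ)) ≫
      (EtCore.gsec X).map (θ ≫ (EtCoh.pull a).map cb ≫ ca)
      = (EtCore.constAdj Z).unit.app M ≫
        (EtCore.gsec Z).map ((EtCoh.pullPushAdj (a ≫ b)).unit.app cZ ≫
          (EtCoh.push (a ≫ b)).map (θ ≫ (EtCoh.pull a).map cb ≫ ca)) ≫
        (EtCore.pushGsecIso (a ≫ b)).hom.app cX := by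
        simp only [Category.assoc]
        rw [e1]
        simp only [Functor.map_comp, Category.assoc]
    _ = (EtCore.constAdj Z).unit.app M ≫
        (EtCore.gsec Z).map ((EtCoh.pullPushAdj b).unit.app cZ ≫ (EtCoh.push b).map cb ≫
          (EtCoh.push b).map ((EtCoh.pullPushAdj a).unit.app cY ≫ (EtCoh.push a).map ca)) ≫
        (EtCore.pushGsecIso b).hom.app ((EtCoh.push a).obj cX) ≫
        (EtCore.pushGsecIso a).hom.app cX := by
        rw [step1, ← e5]
        simp only [Functor.map_comp, Category.assoc]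
    _ = (EtCore.constAdj X).unit.app M := by
        rw [Functor.map_comp, Functor.map_comp]
        simp only [Category.assoc] at hcb hca ⊢
        rw [reassoc_of% (e6 ((EtCoh.pullPushAdj a).unit.app cY ≫ (EtCoh.push a).map ca)),
          reassoc_of% (e6 cb), reassoc_of% hcb, Functor.map_comp, Category.assoc, e7 ca]
        exact hca

section Conj
variable {C : Type*} [Category C] [Abelian C] [HasExt C]

/-- conjugate an Ext class by morphisms on both sides -/
noncomputable def conj {A' A B B' : C} {n : ℕ} (α : A' ⟶ A) (e : Ext A B n) (β : B ⟶ B') : Ext A' B' n :=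
  ((Ext.mk₀ α).comp e (zero_add n)).comp (Ext.mk₀ β) (add_zero n)

lemma conj_conj {A'' A' A B B' B'' : C} {n : ℕ} (α' : A'' ⟶ A') (α : A' ⟶ A) (e : Ext A B n)
    (β : B ⟶ B') (β' : B' ⟶ B'') :
    conj α' (conj α e β) β' = conj (α' ≫ α) e (β ≫ β') := by
  unfold conj
  rw [← Ext.mk₀_comp_mk₀ α' α, ← Ext.mk₀_comp_mk₀ β β']
  simp only [Ext.comp_assoc_of_third_deg_zero, Ext.comp_assoc_of_second_deg_zero]

lemma map_conj {D : Type*} [Category D] [Abelian D] [HasExt D] (F : C ⥤ D) [F.Additive]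
    [PreservesFiniteLimits F] [PreservesFiniteColimits F]
    {A' A B B' : C} {n : ℕ} (α : A' ⟶ A) (e : Ext A B n) (β : B ⟶ B') :
    (conj α e β).mapExactFunctor F = conj (F.map α) (e.mapExactFunctor F) (F.map β) := by
  unfold conj
  rw [Ext.mapExactFunctor_comp, Ext.mapExactFunctor_comp, Ext.mapExactFunctor_mk₀,
    Ext.mapExactFunctor_mk₀]

end Conj

lemma Hmap_eq (ℓ : ℕ) (f : X ⟶ Y) [hf : PreservesFiniteLimits (EtCoh.pull f)] (r ν : ℕ)
    (x : EtAdic.Hmod Y ℓ r ν) :
    EtAdic.Hmap ℓ f hf r ν x =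
      conj (EtCore.pullConst f ℤ).inv (x.mapExactFunctor (EtCoh.pull f))
        (EtCore.pullConst f (ZMod (ℓ ^ ν))).hom := rfl

lemma Hmap_congr (ℓ : ℕ) {f f' : X ⟶ Y} (h : f = f') (hf : PreservesFiniteLimits (EtCoh.pull f))
    (hf' : PreservesFiniteLimits (EtCoh.pull f')) (r ν : ℕ) (x : EtAdic.Hmod Y ℓ r ν) :
    EtAdic.Hmap ℓ f hf r ν x = EtAdic.Hmap ℓ f' hf' r ν x := by
  subst h
  rfl

lemma Hmap_comp (ℓ : ℕ) (a : X ⟶ Y) (b : Y ⟶ Z) [ha : PreservesFiniteLimits (EtCoh.pull a)]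
    [hb : PreservesFiniteLimits (EtCoh.pull b)] [hab : PreservesFiniteLimits (EtCoh.pull (a ≫ b))]
    (r ν : ℕ) (x : EtAdic.Hmod Z ℓ r ν) :
    EtAdic.Hmap ℓ (a ≫ b) hab r ν x = EtAdic.Hmap ℓ a ha r ν (EtAdic.Hmap ℓ b hb r ν x) := by
  rw [Hmap_eq, Hmap_eq, Hmap_eq, map_conj, conj_conj]
  let θ := EtCore.pullComp a b
  let y := (x.mapExactFunctor (EtCoh.pull b)).mapExactFunctor (EtCoh.pull a)
  have hnat := ExtMap.naturality (ExtMap.ofFunctor (EtCoh.pull (a ≫ b)))
    ((ExtMap.ofFunctor (EtCoh.pull b)).comp (ExtMap.ofFunctor (EtCoh.pull a))) θ.hom r x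
  have hnat' : (Ext.mk₀ (θ.hom.app (EtCoh.const Z ℤ))).comp y (zero_add r) =
      (x.mapExactFunctor (EtCoh.pull (a ≫ b))).comp
        (Ext.mk₀ (θ.hom.app (EtCoh.const Z (ZMod (ℓ ^ ν))))) (add_zero r) := hnat
  have h2 : x.mapExactFunctor (EtCoh.pull (a ≫ b)) =
      conj (θ.hom.app (EtCoh.const Z ℤ)) y (θ.inv.app (EtCoh.const Z (ZMod (ℓ ^ ν)))) := by
    unfold conj
    rw [hnat', Ext.comp_assoc_of_third_deg_zero, Ext.mk₀_comp_mk₀, Iso.hom_inv_id_app,
      Ext.comp_mk₀_id]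
  rw [h2, conj_conj]
  have E2 : ∀ M' : AddCommGrpCat.{u+1},
      θ.inv.app ((constantSheaf Z.smallEtaleTopology AddCommGrpCat.{u+1}).obj M') ≫
        (EtCore.pullConstIso (a ≫ b)).hom.app M' =
      (EtCoh.pull a).map ((EtCore.pullConstIso b).hom.app M') ≫ (EtCore.pullConstIso a).hom.app M' := by
    intro M'
    rw [← pullConst_comp a b M', Iso.inv_hom_id_app_assoc]
  have E1 : ∀ M' : AddCommGrpCat.{u+1},
      (EtCore.pullConstIso (a ≫ b)).inv.app M' ≫
        θ.hom.app ((constantSheaf Z.smallEtaleTopology AddCommGrpCat.{u+1}).obj M') =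
      (EtCore.pullConstIso a).inv.app M' ≫ (EtCoh.pull a).map ((EtCore.pullConstIso b).inv.app M') := by
    intro M'
    have h := pullConst_comp a b M'
    apply (cancel_mono ((EtCoh.pull a).map ((EtCore.pullConstIso b).hom.app M') ≫
      (EtCore.pullConstIso a).hom.app M')).1
    simp only [Category.assoc]
    rw [h, Iso.inv_hom_id_app, ← Functor.map_comp_assoc, Iso.inv_hom_id_app,
      CategoryTheory.Functor.map_id, Category.id_comp, Iso.inv_hom_id_app]
  exact congrArg₂ (fun α β => conj α y β) (E1 (AddCommGrpCat.of (ULift.{u+1} ℤ)))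
    (E2 (AddCommGrpCat.of (ULift.{u+1} (ZMod (ℓ ^ ν)))))

theorem main (k : Type u) [Field k] (ℓ ν r : ℕ)
    (G G' : Over (Spec (CommRingCat.of k))) [GrpObj G] [GrpObj G'] [IsCommMonObj G] [IsCommMonObj G']
    (φ ψ : G ⟶ G') [IsMonHom φ] [IsMonHom ψ]
    [hm : PreservesFiniteLimits (EtCoh.pull (μ[G']).left)]
    [h1 : PreservesFiniteLimits (EtCoh.pull (fst G' G').left)]
    [h2 : PreservesFiniteLimits (EtCoh.pull (snd G' G').left)]
    [hφ : PreservesFiniteLimits (EtCoh.pull φ.left)] [hψ : PreservesFiniteLimits (EtCoh.pull ψ.left)]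
    [hs : PreservesFiniteLimits (EtCoh.pull (φ * ψ).left)]
    (x : EtAdic.Hmod G'.left ℓ r ν)
    (hx : EtAdic.Hmap ℓ (μ[G']).left hm r ν x =
      EtAdic.Hmap ℓ (fst G' G').left h1 r ν x + EtAdic.Hmap ℓ (snd G' G').left h2 r ν x) :
    EtAdic.Hmap ℓ (φ * ψ).left hs r ν x = EtAdic.Hmap ℓ φ.left hφ r ν x + EtAdic.Hmap ℓ ψ.left hψ r ν x := by
  have hall : ∀ {A B : Scheme.{u}} (f : A ⟶ B), PreservesFiniteLimits (EtCoh.pull f) :=
    fun f => Groth.Agent.S0101.result f
  have e0 : (φ * ψ).left = (lift φ ψ).left ≫ (μ[G']).left := rfl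
  have e1 : (lift φ ψ).left ≫ (fst G' G').left = φ.left := by
    rw [← Over.comp_left, lift_fst]
  have e2 : (lift φ ψ).left ≫ (snd G' G').left = ψ.left := by
    rw [← Over.comp_left, lift_snd]
  haveI := hall (lift φ ψ).left
  rw [Hmap_congr ℓ e0 hs (hall _), Hmap_comp ℓ (lift φ ψ).left (μ[G']).left r ν x, hx, map_add,
    ← Hmap_comp (hab := hall _), ← Hmap_comp (hab := hall _),
    Hmap_congr ℓ e1 (hall _) hφ, Hmap_congr ℓ e2 (hall _) hψ]

end helpers

/-- Let k be a field, ℓ, ν natural numbers, G and G' commutative k-group schemes and φ, ψ : G → G'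
homomorphisms. If x ∈ H^r(G'_et, Z/ℓ^ν) is primitive, that is m^*x = p_1^*x + p_2^*x for the
multiplication m and the projections p_1, p_2 of G' × G', then (φ + ψ)^*x = φ^*x + ψ^*x, where φ + ψ
is the sum in the group of homomorphisms. (The published lemma is for H^r_T(−, L) with T any of the
Zariski, étale or flat topologies and L any commutative algebraic group as coefficients; this row is
its case T = étale, L = Z/ℓ^ν constant, the one used later.) -/
theorem result (k : Type u) [Field k] (ℓ ν r : ℕ)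
    (G G' : Over (Spec (CommRingCat.of k))) [GrpObj G] [GrpObj G'] [IsCommMonObj G] [IsCommMonObj G']
    (φ ψ : G ⟶ G') [IsMonHom φ] [IsMonHom ψ]
    [hm : PreservesFiniteLimits (EtCoh.pull (μ[G']).left)]
    [h1 : PreservesFiniteLimits (EtCoh.pull (fst G' G').left)]
    [h2 : PreservesFiniteLimits (EtCoh.pull (snd G' G').left)]
    [hφ : PreservesFiniteLimits (EtCoh.pull φ.left)] [hψ : PreservesFiniteLimits (EtCoh.pull ψ.left)]
    [hs : PreservesFiniteLimits (EtCoh.pull (φ * ψ).left)]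
    (x : EtAdic.Hmod G'.left ℓ r ν)
    (hx : EtAdic.Hmap ℓ (μ[G']).left hm r ν x =
      EtAdic.Hmap ℓ (fst G' G').left h1 r ν x + EtAdic.Hmap ℓ (snd G' G').left h2 r ν x) :
    EtAdic.Hmap ℓ (φ * ψ).left hs r ν x = EtAdic.Hmap ℓ φ.left hφ r ν x + EtAdic.Hmap ℓ ψ.left hψ r ν x := by
  exact main k ℓ ν r G G' φ ψ x hx

end Groth.Agent.S14758
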