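import Groth.Statements.S14767
import Mathlib
import Groth.Agent.S14768
import Groth.Agent.Lib.Helper4.QCImage
-- import your own Groth.Agent.* helpers here

set_option autoImplicit false
universe u
open CategoryTheory CategoryTheory.Limits AlgebraicGeometry
open Subtr

namespace Groth.Agent.S14767

/-- Let f : X ⟶ Y be a quasi-compact morphism of schemes. Then f is universally submersive if and only
if, for every valuation ring V and every morphism Spec V ⟶ Y, the base change X ×_Y Spec V ⟶ Spec V
is submersive (its underlying continuous map is a quotient map). (The published statement asks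
instead that f be universally submersive for the constructible topologies, which holds for
quasi-compact surjective morphisms; both sides here force f to be surjective.) -/
theorem result {X Y : Scheme.{u}} (f : X ⟶ Y) [QuasiCompact f] :
    SGA1.UnivSubmersive f ↔
      ∀ (V : Type u) [CommRing V] [IsDomain V] [ValuationRing V] (g : Spec (CommRingCat.of V) ⟶ Y),
        Topology.IsQuotientMap (pullback.snd f g) := by
  constructor
  · intro hf V _ _ _ g
    exact hf (pullback.fst f g) g (pullback.snd f g) (IsPullback.of_hasPullback f g).flip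
  · intro H X' Y' i₁ i₂ f' hpb
    haveI : QuasiCompact f' := MorphismProperty.of_isPullback (P := @QuasiCompact) hpb.flip inferInstance
    show Topology.IsQuotientMap f'
    -- the comparison map from the pullback along a valuation ring
    have hu : ∀ (V : Type u) [CommRing V] [IsDomain V] [ValuationRing V]
        (g : Spec (CommRingCat.of V) ⟶ Y'),
        ∃ u : pullback f (g ≫ i₂) ⟶ X', u ≫ f' = pullback.snd _ _ ≫ g := by
      intro V _ _ _ g
      exact ⟨hpb.lift (pullback.snd _ _ ≫ g) (pullback.fst _ _)
        (by rw [Category.assoc, ← pullback.condition]), hpb.lift_fst _ _ _⟩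
    have hsurj : Function.Surjective f' := by
      intro y'
      let K := IsLocalRing.ResidueField (Y'.presheaf.stalk y')
      let g : Spec (CommRingCat.of K) ⟶ Y' := Y'.fromSpecResidueField y'
      obtain ⟨u, hu'⟩ := hu K g
      have hq := H K (g ≫ i₂)
      obtain ⟨p, -⟩ := hq.surjective (IsLocalRing.closedPoint K)
      refine ⟨u p, ?_⟩
      rw [← Scheme.Hom.comp_apply, hu', Scheme.Hom.comp_apply]
      exact Scheme.fromSpecResidueField_apply _ _
    rw [Topology.isQuotientMap_iff_isClosed]
    refine ⟨hsurj, fun Z => ⟨fun hZ => hZ.preimage f'.continuous, fun hZ => ?_⟩⟩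
    have himg : f' '' (f' ⁻¹' Z) = Z := Set.image_preimage_eq Z hsurj
    rw [← himg]
    apply Groth.Agent.Helper4.QCImage.isClosed_image_of_stableUnderSpecialization f' _ hZ
    rw [himg]
    intro y'' y' hyy hy''
    obtain ⟨V, _, _, _, g, hg1, hg2⟩ := Groth.Agent.S14768.exists_valuationRing_of_specializes hyy
    obtain ⟨u, hu'⟩ := hu V g
    have hq := H V (g ≫ i₂)
    have hcl : IsClosed (g ⁻¹' Z) := by
      rw [← hq.isClosed_preimage]
      have : (pullback.snd f (g ≫ i₂)) ⁻¹' (g ⁻¹' Z) = u ⁻¹' (f' ⁻¹' Z) := by
        rw [← Set.preimage_comp, ← Set.preimage_comp]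
        congr 1
        ext p
        show g (pullback.snd f (g ≫ i₂) p) = f' (u p)
        rw [← Scheme.Hom.comp_apply, ← Scheme.Hom.comp_apply, hu']
      rw [this]
      exact hZ.preimage u.continuous
    have hηs : (⟨⊥, Ideal.isPrime_bot⟩ : PrimeSpectrum V) ⤳ IsLocalRing.closedPoint V :=
      (PrimeSpectrum.le_iff_specializes _ _).1 bot_le
    have hgen : (⟨⊥, Ideal.isPrime_bot⟩ : PrimeSpectrum V) ∈ g ⁻¹' Z := by
      show g _ ∈ Z
      rw [hg2]
      exact hy''
    have := hcl.stableUnderSpecialization hηs hgen
    rw [← hg1]
    exact this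

end Groth.Agent.S14767
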