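import Groth.Statements.S14789
import Mathlib

set_option autoImplicit false
universe u
open CategoryTheory CategoryTheory.Limits AlgebraicGeometry
open Subtr

namespace Groth.Agent.S14789

theorem exists_maximal_generization {α : Type*} [TopologicalSpace α] [QuasiSober α] [T0Space α]
    (y : α) : ∃ η : α, η ⤳ y ∧ ∀ z : α, z ⤳ η → z = η := by
  have hirr : IsIrreducible (irreducibleComponent y) := isIrreducible_irreducibleComponent
  have hcl : IsClosed (irreducibleComponent y) := isClosed_irreducibleComponent
  have hgen : closure ({hirr.genericPoint} : Set α) = irreducibleComponent y :=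
    hirr.closure_genericPoint hcl
  refine ⟨hirr.genericPoint, ?_, ?_⟩
  · rw [specializes_iff_mem_closure, hgen]; exact mem_irreducibleComponent
  · intro z hz
    have h1 : irreducibleComponent y ⊆ closure {z} := by
      rw [← hgen]
      exact closure_minimal (Set.singleton_subset_iff.2 (specializes_iff_mem_closure.1 hz))
        isClosed_closure
    have h2 : closure ({z} : Set α) = irreducibleComponent y :=
      eq_irreducibleComponent (isIrreducible_singleton.closure.isPreirreducible) h1
    have h3 : closure ({z} : Set α) = closure {hirr.genericPoint} := h2.trans hgen.symm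
    exact (inseparable_iff_closure_eq.2 h3).eq


/-- Let f : X ⟶ Y be a morphism of schemes with the lifting property for ordered pairs of points, and U
⊆ Y a subset containing every maximal point of Y (every point all of whose generizations are equal
to it). Then the closure of f⁻¹(U) maps onto Y. -/
theorem result {X Y : Scheme.{u}} (f : X ⟶ Y)
    (hf : Subtr.IsSSubtrusive f) (U : Set Y) (hU : ∀ y : Y, (∀ y' : Y, y' ⤳ y → y' = y) → y ∈ U) :
    f '' closure (f ⁻¹' U) = Set.univ := by
  rw [Set.eq_univ_iff_forall]
  intro y
  obtain ⟨η, hη, hmax⟩ := exists_maximal_generization y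
  obtain ⟨x, x', hxx, hx, hx'⟩ := hf hη
  refine ⟨x, ?_, hx⟩
  have h1 : x' ∈ f ⁻¹' U := by
    show f x' ∈ U
    rw [hx']
    exact hU η hmax
  exact closure_mono (Set.singleton_subset_iff.2 h1) (specializes_iff_mem_closure.1 hxx)

end Groth.Agent.S14789
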