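import Groth.Statements.S14791
import Mathlib
import Groth.Agent.Lib.Helper22.SubtrLim3

set_option autoImplicit false
universe u
open CategoryTheory CategoryTheory.Limits AlgebraicGeometry
open Subtr

namespace Groth.Agent.S14791

/-- Let S = lim S_i be a cofiltered limit of schemes with affine transition morphisms, Y₀ a scheme over
a stage S_{i₀}, f₀ : X₀ ⟶ Y₀ a quasi-compact morphism, and write f_i, f for the base changes of f₀
to the stages S_i and to S (realised as second projections of fibre products). If there is a stage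
S_{i₁} such that f_i has the lifting property for ordered pairs of points for every stage S_i over
S_{i₁}, then f has it. (The published statement is about subtrusive morphisms and assumes f a
quotient map for the constructible topologies; this row keeps only the lifting property and assumes
f₀ quasi-compact, which makes the fibres quasi-compact as the filtered-intersection step of the
argument requires.) -/
theorem result {I : Type u} [SmallCategory I] [IsCofiltered I]
    (D : I ⥤ Scheme.{u}) (c : Limits.Cone D) (hc : Limits.IsLimit c)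
    [∀ (i j : I) (a : i ⟶ j), IsAffineHom (D.map a)] (i₀ : I)
    {X₀ Y₀ : Scheme.{u}} (f₀ : X₀ ⟶ Y₀) (g₀ : Y₀ ⟶ D.obj i₀) [QuasiCompact f₀]
    (h : ∃ (i₁ : I) (ψ : i₁ ⟶ i₀), ∀ (i : I) (φ : i ⟶ i₁),
      Subtr.IsSSubtrusive (pullback.snd f₀ (pullback.fst g₀ (D.map (φ ≫ ψ))))) :
    Subtr.IsSSubtrusive (pullback.snd f₀ (pullback.fst g₀ (c.π.app i₀))) := by
  classical
  obtain ⟨i₁, ψ, H⟩ := h
  -- the diagram of base changes of `Y₀`
  have hcondF : ∀ {j k : Over i₁} (a : j ⟶ k),
      pullback.fst g₀ (D.map (j.hom ≫ ψ)) ≫ g₀ =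
        (pullback.snd g₀ (D.map (j.hom ≫ ψ)) ≫ D.map a.left) ≫ D.map (k.hom ≫ ψ) := by
    intro j k a
    rw [pullback.condition, Category.assoc, ← D.map_comp, ← Category.assoc, Over.w]
  let F : Over i₁ ⥤ Scheme.{u} :=
    { obj := fun j => pullback g₀ (D.map (j.hom ≫ ψ))
      map := fun {j k} a => pullback.lift (pullback.fst g₀ (D.map (j.hom ≫ ψ)))
        (pullback.snd g₀ (D.map (j.hom ≫ ψ)) ≫ D.map a.left) (hcondF a)
      map_id := fun j => by
        apply pullback.hom_ext
        · rw [pullback.lift_fst, Category.id_comp]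
        · rw [pullback.lift_snd, Category.id_comp, Over.id_left, D.map_id, Category.comp_id]
      map_comp := fun {j k l} a b => by
        apply pullback.hom_ext
        · rw [pullback.lift_fst, Category.assoc, pullback.lift_fst, pullback.lift_fst]
        · rw [pullback.lift_snd, Category.assoc, pullback.lift_snd, pullback.lift_snd_assoc]
          simp only [Over.comp_left, Functor.map_comp, Category.assoc] }
  have hFmap_snd : ∀ {j k : Over i₁} (a : j ⟶ k),
      F.map a ≫ pullback.snd g₀ (D.map (k.hom ≫ ψ)) =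
        pullback.snd g₀ (D.map (j.hom ≫ ψ)) ≫ D.map a.left := fun a => pullback.lift_snd _ _ _
  have hFmap_fst : ∀ {j k : Over i₁} (a : j ⟶ k),
      F.map a ≫ pullback.fst g₀ (D.map (k.hom ≫ ψ)) =
        pullback.fst g₀ (D.map (j.hom ≫ ψ)) := fun a => pullback.lift_fst _ _ _
  have hcondc : ∀ j : Over i₁, pullback.fst g₀ (c.π.app i₀) ≫ g₀ =
      (pullback.snd g₀ (c.π.app i₀) ≫ c.π.app j.left) ≫ D.map (j.hom ≫ ψ) := by
    intro j
    rw [pullback.condition, Category.assoc, Cone.w]
  let cF : Cone F :=
    { pt := pullback g₀ (c.π.app i₀)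
      π :=
        { app := fun j => pullback.lift (pullback.fst g₀ (c.π.app i₀))
            (pullback.snd g₀ (c.π.app i₀) ≫ c.π.app j.left) (hcondc j)
          naturality := fun j k a => by
            apply pullback.hom_ext
            · rw [Category.assoc, Category.assoc, hFmap_fst a, pullback.lift_fst,
                pullback.lift_fst, Functor.const_obj_map]
              exact Category.id_comp _
            · rw [Category.assoc, Category.assoc, hFmap_snd a, pullback.lift_snd,
                pullback.lift_snd_assoc, Functor.const_obj_map, Category.assoc, Cone.w]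
              exact Category.id_comp _ } }
  have hcF_snd : ∀ j : Over i₁, cF.π.app j ≫ pullback.snd g₀ (D.map (j.hom ≫ ψ)) =
      pullback.snd g₀ (c.π.app i₀) ≫ c.π.app j.left := fun j => pullback.lift_snd _ _ _
  have hcF_fst : ∀ j : Over i₁, cF.π.app j ≫ pullback.fst g₀ (D.map (j.hom ≫ ψ)) =
      pullback.fst g₀ (c.π.app i₀) := fun j => pullback.lift_fst _ _ _
  let α : F ⟶ Over.forget i₁ ⋙ D :=
    { app := fun j => pullback.snd g₀ (D.map (j.hom ≫ ψ))
      naturality := fun j k a => hFmap_snd a }
  let cG : Cone (Over.forget i₁ ⋙ D) := c.whisker (Over.forget i₁)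
  have hcG : IsLimit cG := (Functor.Initial.isLimitWhiskerEquiv (Over.forget i₁) c).symm hc
  let fm : (Cone.postcompose α).obj cF ⟶ cG :=
    { hom := pullback.snd g₀ (c.π.app i₀)
      w := fun j => (hcF_snd j).symm }
  haveI : IsConnected (Over i₁) := IsCofiltered.isConnected _
  have hpb : ∀ j : Over i₁, IsPullback (cF.π.app j) (pullback.snd g₀ (c.π.app i₀))
      (pullback.snd g₀ (D.map (j.hom ≫ ψ))) (c.π.app j.left) := by
    intro j
    have hbig : IsPullback (cF.π.app j ≫ pullback.fst g₀ (D.map (j.hom ≫ ψ)))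
        (pullback.snd g₀ (c.π.app i₀)) g₀ (c.π.app j.left ≫ D.map (j.hom ≫ ψ)) := by
      rw [hcF_fst, Cone.w]
      exact IsPullback.of_hasPullback g₀ (c.π.app i₀)
    exact IsPullback.of_right hbig (hcF_snd j) (IsPullback.of_hasPullback g₀ (D.map (j.hom ≫ ψ)))
  have hcF : IsLimit cF := isLimitOfIsPullbackOfIsConnected α cF cG fm hpb hcG
  haveI : ∀ {j k : Over i₁} (a : j ⟶ k), IsAffineHom (F.map a) := by
    intro j k a
    have hbig : IsPullback (F.map a ≫ pullback.fst g₀ (D.map (k.hom ≫ ψ)))
        (pullback.snd g₀ (D.map (j.hom ≫ ψ))) g₀ (D.map a.left ≫ D.map (k.hom ≫ ψ)) := by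
      rw [hFmap_fst, ← D.map_comp, ← Category.assoc, Over.w]
      exact IsPullback.of_hasPullback g₀ (D.map (j.hom ≫ ψ))
    have hsq : IsPullback (F.map a) (pullback.snd g₀ (D.map (j.hom ≫ ψ)))
        (pullback.snd g₀ (D.map (k.hom ≫ ψ))) (D.map a.left) :=
      IsPullback.of_right hbig (hFmap_snd a) (IsPullback.of_hasPullback g₀ (D.map (k.hom ≫ ψ)))
    exact MorphismProperty.of_isPullback (P := @IsAffineHom) hsq.flip inferInstance
  let t : F ⟶ (Functor.const (Over i₁)).obj Y₀ :=
    { app := fun j => pullback.fst g₀ (D.map (j.hom ≫ ψ))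
      naturality := fun j k a => by
        rw [hFmap_fst a]
        simp }
  have HF : ∀ j : Over i₁, Subtr.IsSSubtrusive (pullback.snd f₀ (t.app j)) :=
    fun j => H j.left j.hom
  have key := Groth.Agent.Helper22.SubtrLim.isSSubtrusive_of_isLimit F cF hcF f₀ t HF
    (Over.mk (𝟙 i₁))
  have heq : cF.π.app (Over.mk (𝟙 i₁)) ≫ t.app (Over.mk (𝟙 i₁)) =
      pullback.fst g₀ (c.π.app i₀) := hcF_fst _
  rw [heq] at key
  exact key

end Groth.Agent.S14791
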