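import Groth.Statements.S14797
import Groth.Agent.Lib.Helper21.SubmDesc

set_option autoImplicit false
universe u
open CategoryTheory CategoryTheory.Limits AlgebraicGeometry
open Subtr

namespace Groth.Agent.S14797

/-- Let g : S' ⟶ S be a quasi-compact universally submersive morphism of schemes and f : X ⟶ S an étale
morphism whose base change X ×_S S' ⟶ S' is finite. Then f is finite. (The published statement
treats the properties universally closed, separated and quasi-compact one at a time as well; this
row is the finite case. It assumes g universally subtrusive, using it only through universal
submersiveness and, for quasi-compactness, through the constructible topology; for quasi-compact g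
universal submersiveness suffices by the same proof.) -/
theorem result {X S S' : Scheme.{u}} (g : S' ⟶ S)
    [QuasiCompact g] (hg : SGA1.UnivSubmersive g) (f : X ⟶ S) [Etale f]
    [IsFinite (pullback.snd f g)] : IsFinite f := by
  have hsq : IsPullback (pullback.snd f g) (pullback.fst f g) g f :=
    (IsPullback.of_hasPullback f g).flip
  have hQ : Groth.Agent.Helper21.SubmDesc.Q g := hg
  haveI : IsSeparated f :=
    Groth.Agent.Helper21.SubmDesc.separated_descends.of_isPullback hsq hQ inferInstance
  haveI : UniversallyClosed f :=
    Groth.Agent.Helper21.SubmDesc.universallyClosed_descends.of_isPullback hsq hQ inferInstance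
  haveI : IsProper f := { }
  haveI : LocallyQuasiFinite f := by
    rw [HasRingHomProperty.iff_appLE (P := @LocallyQuasiFinite)]
    intro U V e
    have h := HasRingHomProperty.appLE (P := @Etale) f inferInstance U V e
    algebraize [(f.appLE U.1 V.1 e).hom]
    haveI : Algebra.Etale Γ(S, U.1) Γ(X, V.1) := h
    exact (inferInstance : Algebra.QuasiFinite Γ(S, U.1) Γ(X, V.1))
  rw [IsFinite.iff_isProper_and_locallyQuasiFinite]
  exact ⟨inferInstance, inferInstance⟩

end Groth.Agent.S14797
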