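import Groth.Statements.S14801
import Mathlib
import Groth.Agent.Lib.Helper22.Ctr3

set_option autoImplicit false
universe u
open Finset
open LabGraph

namespace Groth.Agent.S14801

open Groth.Agent.Helper22.Ctr LabGraph DualGr in
theorem aux {V E : Type u} [Fintype V] [Fintype E] [DecidableEq V] [DecidableEq E]
    (ends : E → V × V) (β : V → ℤ) (hβ : LabGraph.IsMultFn ends β)
    (m : ℕ) (f : Fin (m + 1) → V) (e : Fin m → E) (hC : LabGraph.IsChain ends f e)
    (hconn : ∀ i, LabGraph.IsConnecting ends (e i)) (hβm : ∀ i, β (f i) = m)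
    (hα : ∀ i, LabGraph.mfMatrix ends β (f i) (f i) = -2) :
    ∃ φ : LabGraph.CompGrp (DualGr.ctrEnds ends (univ.image e)) (LabGraph.ctrFn ends (univ.image e) β) →+
        LabGraph.CompGrp ends β,
      Function.Surjective φ ∧
      ∀ (x : LinearMap.ker (LabGraph.betaHom (LabGraph.ctrFn ends (univ.image e) β)))
        (y : LinearMap.ker (LabGraph.betaHom β)),
        (y : V → ℤ) = LabGraph.liftAt ends (univ.image e) (f 0) (x : DualGr.CtrVert ends (univ.image e) → ℤ) →
        φ (Submodule.Quotient.mk x) = Submodule.Quotient.mk y := by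
  classical
  have hm : 1 ≤ m := by
    have := (hβ (f 0)).1
    rw [hβm] at this
    exact_mod_cast this
  have hconst := hconst_of hC β hβm
  let Llin : (CtrVert ends (univ.image e) → ℤ) →ₗ[ℤ] (V → ℤ) :=
    { toFun := liftAt ends (univ.image e) (f 0)
      map_add' := by
        intro a b; funext v; unfold liftAt; simp only [Pi.add_apply]; split_ifs <;> simp
      map_smul' := by
        intro c a; funext v; unfold liftAt; simp only [Pi.smul_apply]; split_ifs <;> simp }
  have hker : ∀ x ∈ LinearMap.ker (betaHom (ctrFn ends (univ.image e) β)),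
      Llin x ∈ LinearMap.ker (betaHom β) := by
    intro x hx
    rw [LinearMap.mem_ker] at hx ⊢
    show betaHom β (liftAt ends (univ.image e) (f 0) x) = 0
    rw [betaHom_liftAt hC β hβm, hx]
  let L' := Llin.restrict hker
  have hle : (LinearMap.range (Matrix.mulVecLin (mfMatrix (ctrEnds ends (univ.image e))
      (ctrFn ends (univ.image e) β)))).comap
        (LinearMap.ker (betaHom (ctrFn ends (univ.image e) β))).subtype ≤
      ((LinearMap.range (Matrix.mulVecLin (mfMatrix ends β))).comap
        (LinearMap.ker (betaHom β)).subtype).comap L' := by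
    rintro ⟨x, hx⟩ ⟨y', hy'⟩
    rw [Submodule.mem_comap, Submodule.mem_comap]
    show liftAt ends (univ.image e) (f 0) x ∈ LinearMap.range _
    have hy'' : (mfMatrix (ctrEnds ends (univ.image e)) (ctrFn ends (univ.image e) β)).mulVec y'
        = x := hy'
    obtain ⟨y, hy⟩ := liftAt_mem_range hC hconn β hβ hβm hα y'
    rw [hy''] at hy
    exact ⟨y, hy⟩
  refine ⟨(Submodule.mapQ _ _ L' hle).toAddMonoidHom, ?_, ?_⟩
  · intro q
    obtain ⟨⟨z, hz⟩, rfl⟩ := Submodule.Quotient.mk_surjective _ q
    obtain ⟨y, hy⟩ := exists_kill hC hconn β z m le_rfl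
    set u := z - (mfMatrix ends β).mulVec y with hu
    have hu0 : ∀ j, 1 ≤ j → j ≤ m → u (F f j) = 0 := by
      intro j h1 h2
      rw [hu, Pi.sub_apply, hy j (by omega) h2, sub_self]
    have huker : betaHom β u = 0 := by
      rw [hu, map_sub, betaHom_mulVec ends β hβ, sub_zero]
      exact hz
    have hxker : pushV ends (univ.image e) u ∈
        LinearMap.ker (betaHom (ctrFn ends (univ.image e) β)) := by
      rw [LinearMap.mem_ker, betaHom_pushV ends _ β hconst, huker]
    have hlift : liftAt ends (univ.image e) (f 0) (pushV ends (univ.image e) u) = u := by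
      rw [liftAt_pushV hC u hm (fun j h0 hj => hu0 j h0 (le_of_lt hj)), hu0 m hm le_rfl,
        zero_smul, add_zero]
    refine ⟨Submodule.Quotient.mk ⟨pushV ends (univ.image e) u, hxker⟩, ?_⟩
    show Submodule.mapQ _ _ L' hle (Submodule.Quotient.mk _) = _
    rw [Submodule.mapQ_apply, Submodule.Quotient.eq, Submodule.mem_comap]
    refine ⟨-y, ?_⟩
    show (mfMatrix ends β).mulVec (-y) =
      liftAt ends (univ.image e) (f 0) (pushV ends (univ.image e) u) - z
    rw [hlift, hu, Matrix.mulVec_neg]
    abel
  · intro x y hxy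
    show Submodule.mapQ _ _ L' hle (Submodule.Quotient.mk x) = _
    rw [Submodule.mapQ_apply]
    congr 1
    exact Subtype.ext hxy.symm


/-- Let (G, β) be a finite multigraph with a multiplicity function and α its matrix (α_{vw} = #edges(v,
w) for v ≠ w, diagonal entries defined by Σ_w β(w) α_{vw} = 0); let L be a connecting chain of
length m (vertices v₀, …, v_m, edges e₁, …, e_m, each connecting) with β(v_i) = m and α_{v_i v_i} =
-2 for all i; let (G', β') be the contraction of L and f : ℤ^{V(G')} → ℤ^{V(G)} the map extending a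
vector by zero along the section of V(G) → V(G') that sends the contracted vertex to v₀. Then f
carries ker β' into ker β, and there is a map h : ℤ^{V(G')} → ℤ^{V(G)} with f ∘ α' = α ∘ h, so that
f induces a homomorphism of component groups ker β'/im α' → ker β/im α; this homomorphism is
surjective. -/
theorem result {V E : Type u} [Fintype V] [Fintype E] [DecidableEq V] [DecidableEq E]
    (ends : E → V × V) (β : V → ℤ) (hβ : LabGraph.IsMultFn ends β)
    (m : ℕ) (f : Fin (m + 1) → V) (e : Fin m → E) (hC : LabGraph.IsChain ends f e)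
    (hconn : ∀ i, LabGraph.IsConnecting ends (e i)) (hβm : ∀ i, β (f i) = m)
    (hα : ∀ i, LabGraph.mfMatrix ends β (f i) (f i) = -2) :
    ∃ φ : LabGraph.CompGrp (DualGr.ctrEnds ends (univ.image e)) (LabGraph.ctrFn ends (univ.image e) β) →+
        LabGraph.CompGrp ends β,
      Function.Surjective φ ∧
      ∀ (x : LinearMap.ker (LabGraph.betaHom (LabGraph.ctrFn ends (univ.image e) β)))
        (y : LinearMap.ker (LabGraph.betaHom β)),
        (y : V → ℤ) = LabGraph.liftAt ends (univ.image e) (f 0) (x : DualGr.CtrVert ends (univ.image e) → ℤ) →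
        φ (Submodule.Quotient.mk x) = Submodule.Quotient.mk y := by
  exact aux ends β hβ m f e hC hconn hβm hα

end Groth.Agent.S14801
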