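import Groth.Statements.S14802
import Mathlib
import Groth.Agent.Lib.Helper22.Ctr2

set_option autoImplicit false
universe u
open Finset
open LabGraph

namespace Groth.Agent.S14802

open Groth.Agent.Helper22.Ctr LabGraph DualGr in
theorem aux {V E : Type u} [Fintype V] [Fintype E] [DecidableEq V] [DecidableEq E]
    (ends : E → V × V) (β : V → ℤ) (hβ : LabGraph.IsMultFn ends β)
    (m : ℕ) (f : Fin (m + 1) → V) (e : Fin m → E) (hC : LabGraph.IsChain ends f e)
    (hconn : ∀ i, LabGraph.IsConnecting ends (e i)) (hβm : ∀ i, β (f i) = m)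
    (hα : ∀ i, LabGraph.mfMatrix ends β (f i) (f i) = -2)
    (x : DualGr.CtrVert ends (univ.image e) → ℤ) (y : V → ℤ)
    (hy' : (LabGraph.mfMatrix ends β).mulVec y = LabGraph.liftAt ends (univ.image e) (f 0) x) :
    ∃ y'' : DualGr.CtrVert ends (univ.image e) → ℤ,
      (LabGraph.mfMatrix (DualGr.ctrEnds ends (univ.image e))
        (LabGraph.ctrFn ends (univ.image e) β)).mulVec y'' = x := by
  classical
  have hconst : ∀ v w, ctrMk ends (univ.image e) v = ctrMk ends (univ.image e) w →
      β v = β w := by
    intro v w h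
    rcases (mk_eq_iff hC).1 h with rfl | ⟨⟨i, rfl⟩, ⟨j, rfl⟩⟩
    · rfl
    · rw [hβm, hβm]
  have hm : 1 ≤ m := by
    have := (hβ (f 0)).1
    rw [hβm] at this
    exact_mod_cast this
  have hi : m - 1 < m := by omega
  have him : m - 1 + 1 = m := by omega
  obtain ⟨S, hmem, hS⟩ := exists_cut hC hconn hi
  have hr := mulVec_rvec hC hconn β hβ hβm hα hi him hmem hS
  set t := y (F f 1) - y (F f 0) with ht
  have hAP : ∀ k, k + 1 ≤ m → y (F f k) = y (F f 0) + k * t ∧
      y (F f (k + 1)) = y (F f 0) + ((k + 1 : ℕ) : ℤ) * t := by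
    intro k
    induction k with
    | zero =>
      intro _
      constructor
      · simp
      · rw [ht]; push_cast; ring
    | succ k ih =>
      intro hk
      obtain ⟨h1, h2⟩ := ih (by omega)
      refine ⟨h2, ?_⟩
      have hrow := row_chain hC hconn β (i := k + 1) (by omega) y
      have hz : (mfMatrix ends β).mulVec y (F f (k + 1)) = 0 := by
        rw [hy']; exact liftAt_F hC x (by omega) (by omega)
      have hdiag : mfMatrix ends β (F f (k + 1)) (F f (k + 1)) = -2 := by
        rw [F_eq f (by omega : k + 1 ≤ m)]; exact hα _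
      have hoff : ∑ w ∈ univ.filter (fun w => ctrMk ends (univ.image e) w ≠
          ctrMk ends (univ.image e) (f 0)),
          (edgeMult ends (F f (k + 1)) w : ℤ) * y w = 0 :=
        sum_eq_zero fun w hw => by
          rw [off_zero hC hconn β hβ hβm hα (by omega) (by omega) (mem_filter.mp hw).2]; simp
      rw [hz, hdiag, hoff, nb_mid (by omega) (by omega), sum_pair (by omega)] at hrow
      have e1 : k + 1 - 1 = k := by omega
      rw [e1] at hrow
      push_cast at h2 ⊢
      linarith
  have hAP' : ∀ k, k ≤ m → y (F f k) = y (F f 0) + k * t := by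
    intro k hk
    rcases Nat.eq_zero_or_pos k with rfl | hk0
    · simp
    · obtain ⟨k', rfl⟩ : ∃ k', k = k' + 1 := ⟨k - 1, by omega⟩
      exact (hAP k' hk).2
  set u : V → ℤ := y - t • rvec ends f e β S with hu
  have hu_chain : ∀ k, k ≤ m → u (F f k) = y (F f 0) := by
    intro k hk
    rw [hu, Pi.sub_apply, Pi.smul_apply, smul_eq_mul, rvec_F hC β S hk, hAP' k hk]
    ring
  have hu_const : ∀ v w, ctrMk ends (univ.image e) v = ctrMk ends (univ.image e) w →
      u v = u w := by
    intro v w h
    rcases (mk_eq_iff hC).1 h with rfl | ⟨⟨i, rfl⟩, ⟨j, rfl⟩⟩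
    · rfl
    · rw [← F_val f i, ← F_val f j, hu_chain _ (Nat.lt_succ_iff.mp i.2),
        hu_chain _ (Nat.lt_succ_iff.mp j.2)]
  let y'' : CtrVert ends (univ.image e) → ℤ :=
    fun c => u (Quotient.out (s := ctrSetoid ends (univ.image e)) c)
  have hy'' : (fun v => y'' (ctrMk ends (univ.image e) v)) = u := by
    funext v
    apply hu_const
    exact Quotient.out_eq _
  refine ⟨y'', ?_⟩
  rw [mulVec_ctr ends (univ.image e) β hβ hconst y'', hy'']
  have h1 : (mfMatrix ends β).mulVec u = liftAt ends (univ.image e) (f 0) x -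
      t • (Pi.single (F f 0) 1 - Pi.single (F f m) 1) := by
    rw [hu, Matrix.mulVec_sub, Matrix.mulVec_smul, hy', hr]
  rw [h1, map_sub, map_smul, map_sub, pushV_liftAt hC, pushV_single, pushV_single,
    mk_F hC (Nat.zero_le _), mk_F hC le_rfl, sub_self, smul_zero, sub_zero]


/-- Let (G, β) be a connected finite multigraph with a multiplicity function and α its matrix; let L be
a connecting chain of length m (vertices v₀, …, v_m, edges e₁, …, e_m, each connecting) with β(v_i)
= m and α_{v_i v_i} = -2 for all i; let (G', β') be the contraction of L and f : ℤ^{V(G')} →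
ℤ^{V(G)} the extension by zero along the section sending the contracted vertex to v₀. Then the
homomorphism ker β'/im α' → ker β/im α induced by f is injective: if x ∈ ker β' and f(x) ∈ im α then
x ∈ im α'. With the surjectivity this gives Φ(G') ≅ Φ(G): the component group depends on the length
of such a chain only modulo m. -/
theorem result {V E : Type u} [Fintype V] [Fintype E] [DecidableEq V] [DecidableEq E]
    (ends : E → V × V) (β : V → ℤ) (hβ : LabGraph.IsMultFn ends β) (hG : LabGraph.Connected ends)
    (m : ℕ) (f : Fin (m + 1) → V) (e : Fin m → E) (hC : LabGraph.IsChain ends f e)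
    (hconn : ∀ i, LabGraph.IsConnecting ends (e i)) (hβm : ∀ i, β (f i) = m)
    (hα : ∀ i, LabGraph.mfMatrix ends β (f i) (f i) = -2)
    (x : DualGr.CtrVert ends (univ.image e) → ℤ)
    (hx : x ∈ LinearMap.ker (LabGraph.betaHom (LabGraph.ctrFn ends (univ.image e) β)))
    (hfx : LabGraph.liftAt ends (univ.image e) (f 0) x ∈
      LinearMap.range (Matrix.mulVecLin (LabGraph.mfMatrix ends β))) :
    x ∈ LinearMap.range (Matrix.mulVecLin
      (LabGraph.mfMatrix (DualGr.ctrEnds ends (univ.image e)) (LabGraph.ctrFn ends (univ.image e) β))) := by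
  obtain ⟨y, hy⟩ := hfx
  obtain ⟨y'', hy''⟩ := aux ends β hβ m f e hC hconn hβm hα x y hy
  exact ⟨y'', hy''⟩

end Groth.Agent.S14802
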