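import Groth.Statements.S14803
import Mathlib
import Groth.Agent.Lib.Helper22.MT6

set_option autoImplicit false
universe u
open Finset
open LabGraph

namespace Groth.Agent.S14803

open Classical in
/-- Let (G, β) be a connected finite multigraph with a multiplicity function, α its matrix (α_{vw} =
#edges(v, w) for v ≠ w, Σ_w β(w) α_{vw} = 0) and Φ(G) = ker β / im α its component group; let m be
the gcd of all the values β(v). Then Φ(G) is finite of order m² · Σ_T Π_v β(v)^{#N_T(v) - 2}, where
T runs over the spanning trees of G and N_T(v) is the set of neighbours of v in T. (The published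
statement gives this order for the Néron component group of a curve's Jacobian, G being the weighted
dual graph of a proper regular model and β its component multiplicities; this row states the
identity for every connected pair (G, β) with a positive multiplicity function.) -/
theorem result {V E : Type u} [Fintype V] [Fintype E] [DecidableEq V] [DecidableEq E]
    (ends : E → V × V) (β : V → ℤ) (hβ : LabGraph.IsMultFn ends β) (hG : LabGraph.Connected ends) :
    (Nat.card (LabGraph.CompGrp ends β) : ℚ) =
      ((univ.gcd β : ℤ) : ℚ) ^ 2 *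
        ∑ T ∈ univ.powerset.filter (fun T : Finset E => LabGraph.IsSpanningTree ends T),
          ∏ v : V, ((β v : ℚ) ^ ((LabGraph.nbrCount ends T v : ℤ) - 2)) := by
  classical
  have h := Groth.Agent.Helper22.MT.card_compGrp ends β hβ hG
  have hpos : ∀ v, 0 < β v := fun v => (hβ v).1
  have hneQ : ∀ v, (β v : ℚ) ≠ 0 := fun v => by exact_mod_cast (hpos v).ne'
  have hP : (∏ v, (β v : ℚ)) ≠ 0 := Finset.prod_ne_zero_iff.mpr fun v _ => hneQ v
  have hq := congrArg (fun z : ℤ => (z : ℚ)) h
  push_cast at hq
  rw [Finset.powerset_univ]
  have hterm : ∀ T ∈ Finset.univ.filter (fun T : Finset E => LabGraph.IsSpanningTree ends T),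
      ∏ v : V, ((β v : ℚ) ^ ((LabGraph.nbrCount ends T v : ℤ) - 2)) =
        (∏ e ∈ T, ((β (ends e).1 : ℚ) * (β (ends e).2 : ℚ))) / (∏ v, (β v : ℚ)) ^ 2 := by
    intro T hT
    have hT' : LabGraph.IsSpanningTree ends T := (Finset.mem_filter.mp hT).2
    rw [Groth.Agent.Helper22.MT.prod_ends_eq ends (fun v => (β v : ℚ)) T, ← Finset.prod_pow,
      ← Finset.prod_div_distrib]
    refine Finset.prod_congr rfl fun v _ => ?_
    rw [zpow_sub₀ (hneQ v), zpow_natCast,
      Groth.Agent.Helper22.MT.endCount_eq_nbrCount ends T hT' v]
    norm_num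
  rw [Finset.sum_congr rfl hterm, ← Finset.sum_div, mul_div_assoc',
    eq_div_iff (pow_ne_zero 2 hP)]
  exact hq

end Groth.Agent.S14803
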