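import Groth.Statements.S14804
import Mathlib
import Groth.Agent.Lib.Helper22.MT4

set_option autoImplicit false
universe u
open Finset
open LabGraph

namespace Groth.Agent.S14804

section Aux

open Groth.Agent.Helper22.MT LabGraph

variable {V E : Type u} [Fintype V] [Fintype E] [DecidableEq V] [DecidableEq E]

theorem endCount_map (ends : E → V × V) (T : Finset E) (C' : Finset ↥T) (w : V) :
    endCount ends (C'.map (Function.Embedding.subtype _)) w =
      endCount (fun e : ↥T => ends e.1) C' w := by
  unfold endCount
  rw [Finset.sum_map]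
  rfl

theorem rtg_mono {r p : V → V → Prop} (h : ∀ a b, r a b → p a b) {a b : V}
    (hab : Relation.ReflTransGen r a b) : Relation.ReflTransGen p a b := by
  induction hab with
  | refl => exact Relation.ReflTransGen.refl
  | tail _ hbc ih => exact ih.tail (h _ _ hbc)

theorem connected_mono (ends : E → V × V) (T T' : Finset E) (h : T ⊆ T')
    (hc : Connected (fun e : ↥T => ends e.1)) : Connected (fun e : ↥T' => ends e.1) :=
  ⟨hc.1, fun a b => rtg_mono
    (fun _ _ ⟨e, he⟩ => ⟨⟨e.1, h e.2⟩, he⟩) (hc.2 a b)⟩

theorem forest_no_even (ends : E → V × V) (T : Finset E) (hT : IsSpanningTree ends T)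
    (C : Finset E) (hCT : C ⊆ T) (hne : C.Nonempty) (hev : ∀ w, Even (endCount ends C w)) :
    False := by
  classical
  have hmap : (C.subtype (· ∈ T)).map (Function.Embedding.subtype _) = C :=
    Finset.subtype_map_of_mem (fun x hx => hCT hx)
  have hne' : (C.subtype (· ∈ T)).Nonempty := by
    rw [← Finset.map_nonempty (f := Function.Embedding.subtype _), hmap]
    exact hne
  have hev' : ∀ w, Even (endCount (fun e : ↥T => ends e.1) (C.subtype (· ∈ T)) w) := by
    intro w
    rw [← endCount_map, hmap]
    exact hev w
  obtain ⟨C'', _, hC''⟩ := exists_circuit_subset (fun e : ↥T => ends e.1) _ hne' hev'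
  exact hT.2 C'' hC''

theorem exists_edge_of_endCount_ne_zero (ends : E → V × V) (C : Finset E) (v : V)
    (h : endCount ends C v ≠ 0) : ∃ e ∈ C, (ends e).1 = v ∨ (ends e).2 = v := by
  by_contra hcon
  push_neg at hcon
  apply h
  unfold endCount
  refine Finset.sum_eq_zero fun e he => ?_
  obtain ⟨h1, h2⟩ := hcon e he
  simp [h1, h2]

theorem endCount_ne_zero_of_edge (ends : E → V × V) (C : Finset E) (v : V) (e : E) (he : e ∈ C)
    (hv : (ends e).1 = v ∨ (ends e).2 = v) : endCount ends C v ≠ 0 := by
  intro h
  unfold endCount at h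
  have h1 := (Finset.sum_eq_zero_iff.mp h) e he
  rcases hv with hv | hv
  · rw [if_pos hv] at h1
    omega
  · rw [if_pos hv] at h1
    omega

/-- removing an edge of an even edge set keeps the graph connected. -/
theorem connected_erase (ends : E → V × V) (hG : Connected ends) (C : Finset E)
    (hev : ∀ w, Even (endCount ends C w)) (e : E) (he : e ∈ C) :
    Connected (fun x : ↥(Finset.univ.erase e) => ends x.1) := by
  classical
  obtain ⟨U, hU⟩ : ∃ U : Finset V, ∀ w, w ∈ U ↔
      Relation.ReflTransGen (Adj (fun x : ↥(Finset.univ.erase e) => ends x.1)) (ends e).1 w :=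
    ⟨Finset.univ.filter (fun w => Relation.ReflTransGen
      (Adj (fun x : ↥(Finset.univ.erase e) => ends x.1)) (ends e).1 w), fun w => by simp⟩
  have hadj : ∀ x : E, x ≠ e →
      Adj (fun x : ↥(Finset.univ.erase e) => ends x.1) (ends x).1 (ends x).2 := fun x hx =>
    ⟨⟨x, Finset.mem_erase.mpr ⟨hx, Finset.mem_univ _⟩⟩, Or.inl rfl⟩
  have hUx : ∀ x : E, x ≠ e → ((ends x).1 ∈ U ↔ (ends x).2 ∈ U) := by
    intro x hx
    rw [hU, hU]
    exact ⟨fun h => h.tail (hadj x hx), fun h => h.tail (adj_symm _ (hadj x hx))⟩
  obtain ⟨g, hg⟩ : ∃ g : E → ℕ, ∀ x, g x =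
      (if (ends x).1 ∈ U then 1 else 0) + (if (ends x).2 ∈ U then 1 else 0) := ⟨_, fun _ => rfl⟩
  have hsum : ∑ w ∈ U, endCount ends C w = ∑ x ∈ C, g x := by
    unfold endCount
    rw [Finset.sum_comm]
    refine Finset.sum_congr rfl fun x _ => ?_
    rw [Finset.sum_add_distrib, Finset.sum_ite_eq, Finset.sum_ite_eq, hg]
  have heven : Even (∑ x ∈ C, g x) := by
    rw [← hsum]
    exact Finset.even_sum _ fun w _ => hev w
  have heven' : Even (∑ x ∈ C.erase e, g x) := by
    refine Finset.even_sum _ fun x hx => ?_
    have hxe : x ≠ e := Finset.ne_of_mem_erase hx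
    rw [hg]
    by_cases h1 : (ends x).1 ∈ U
    · rw [if_pos h1, if_pos ((hUx x hxe).mp h1)]
      exact ⟨1, rfl⟩
    · rw [if_neg h1, if_neg (fun h2 => h1 ((hUx x hxe).mpr h2))]
      exact ⟨0, rfl⟩
  rw [← Finset.add_sum_erase _ _ he, Nat.even_add] at heven
  have hge : Even (g e) := heven.mpr heven'
  have h1U : (ends e).1 ∈ U := (hU _).mpr Relation.ReflTransGen.refl
  have h2U : (ends e).2 ∈ U := by
    by_contra h2
    rw [hg, if_pos h1U, if_neg h2] at hge
    exact absurd hge (by decide)
  have hreach : Relation.ReflTransGen (Adj (fun x : ↥(Finset.univ.erase e) => ends x.1))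
      (ends e).1 (ends e).2 := (hU _).mp h2U
  have hstep : ∀ a b, Adj ends a b →
      Relation.ReflTransGen (Adj (fun x : ↥(Finset.univ.erase e) => ends x.1)) a b := by
    rintro a b ⟨x, hx⟩
    by_cases hxe : x = e
    · rw [hxe] at hx
      rcases hx with hx | hx
      · have h1 : (ends e).1 = a := congrArg Prod.fst hx
        have h2 : (ends e).2 = b := congrArg Prod.snd hx
        rw [← h1, ← h2]
        exact hreach
      · have h1 : (ends e).1 = b := congrArg Prod.fst hx
        have h2 : (ends e).2 = a := congrArg Prod.snd hx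
        rw [← h1, ← h2]
        exact rtg_symm _ hreach
    · exact Relation.ReflTransGen.single
        ⟨⟨x, Finset.mem_erase.mpr ⟨hxe, Finset.mem_univ _⟩⟩, hx⟩
  refine ⟨hG.1, fun a b => ?_⟩
  have h := hG.2 a b
  induction h with
  | refl => exact Relation.ReflTransGen.refl
  | tail _ hbc ih => exact ih.trans (hstep _ _ hbc)

end Aux


/-- In a connected finite multigraph G, a vertex v belongs to some cycle of G (here: v is an endpoint of
an edge of some circuit, a circuit being a minimal nonempty edge set meeting every vertex in an even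
number of edge-ends, which includes loops and pairs of parallel edges) if and only if G has a
spanning tree T such that some edge outside T has v as an endpoint. (The published statement is for
an arbitrary multigraph; when G is disconnected it has no spanning tree while a vertex may lie on a
cycle, so G is taken connected here, the case of dual graphs for which it is used.) -/
theorem result
    {V E : Type u} [Fintype V] [Fintype E] [DecidableEq V] [DecidableEq E]
    (ends : E → V × V) (hG : LabGraph.Connected ends) (v : V) :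
    (∃ C : Finset E, LabGraph.IsCircuit ends C ∧ LabGraph.endCount ends C v ≠ 0) ↔
      ∃ T : Finset E, LabGraph.IsSpanningTree ends T ∧
        ∃ e : E, e ∉ T ∧ ((ends e).1 = v ∨ (ends e).2 = v) := by
  classical
  constructor
  · rintro ⟨C, hC, hCv⟩
    obtain ⟨e, heC, hev⟩ := exists_edge_of_endCount_ne_zero ends C v hCv
    have hconn := connected_erase ends hG C hC.2.1 e heC
    obtain ⟨T', hT'⟩ := Groth.Agent.Helper22.MT.exists_spanningTree
      (fun x : ↥(Finset.univ.erase e) => ends x.1) hconn
    refine ⟨T'.map (Function.Embedding.subtype _), ?_, e, ?_, hev⟩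
    · apply Groth.Agent.Helper22.MT.isSpanningTree_of_connected_card
      · refine ⟨hT'.1.1, fun a b => rtg_mono ?_ (hT'.1.2 a b)⟩
        rintro x y ⟨t, ht⟩
        exact ⟨⟨t.1.1, Finset.mem_map_of_mem _ t.2⟩, ht⟩
      · rw [Finset.card_map]
        exact Groth.Agent.Helper22.MT.card_of_isSpanningTree _ T' hT'
    · intro hmem
      obtain ⟨a, _, ha⟩ := Finset.mem_map.mp hmem
      have h1 : a.1 ≠ e := Finset.ne_of_mem_erase a.2
      exact h1 ha
  · rintro ⟨T, hT, e, heT, hev⟩
    have hconn : LabGraph.Connected (fun x : ↥(insert e T) => ends x.1) :=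
      connected_mono ends T (insert e T) (Finset.subset_insert e T) hT.1
    have hnf : ¬ DualGr.IsForest (fun x : ↥(insert e T) => ends x.1) := by
      intro hf
      have h1 := Groth.Agent.Helper22.MT.card_of_isTree _ ⟨hconn, hf⟩
      rw [Fintype.card_coe, Finset.card_insert_of_notMem heT] at h1
      have h2 := Groth.Agent.Helper22.MT.card_of_isSpanningTree ends T hT
      omega
    unfold DualGr.IsForest at hnf
    push_neg at hnf
    obtain ⟨C', hC'⟩ := hnf
    have hSne : (C'.map (Function.Embedding.subtype _)).Nonempty :=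
      Finset.map_nonempty.mpr hC'.1
    have hSev : ∀ w, Even (LabGraph.endCount ends (C'.map (Function.Embedding.subtype _)) w) := by
      intro w
      rw [endCount_map]
      exact hC'.2.1 w
    obtain ⟨C, hCS, hC⟩ := Groth.Agent.Helper22.MT.exists_circuit_subset ends _ hSne hSev
    have heC : e ∈ C := by
      by_contra hne
      apply forest_no_even ends T hT C ?_ hC.1 hC.2.1
      intro x hx
      obtain ⟨a, _, ha⟩ := Finset.mem_map.mp (hCS hx)
      have h1 : x ∈ insert e T := by
        rw [← ha]
        exact a.2
      rcases Finset.mem_insert.mp h1 with h2 | h2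
      · rw [h2] at hx
        exact absurd hx hne
      · exact h2
    exact ⟨C, hC, endCount_ne_zero_of_edge ends C v e heC hev⟩

end Groth.Agent.S14804
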