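import Groth.Statements.S14807
import Mathlib

set_option autoImplicit false
universe u
open CAlg

namespace Groth.Agent.S14807

/-- Let G be a finite abelian group, written additively, and ℓ a prime number. Every sequence (g_n)_{n ≥
0} of elements of G with ℓ^n · g_n = 0 and ℓ · g_{n+1} = g_n for all n is identically zero; in other
words the inverse limit of the subgroups of ℓ^n-torsion elements, with transition maps
multiplication by ℓ, vanishes. -/
theorem result (G : Type u) [AddCommGroup G] [Finite G]
    (ℓ : ℕ) (hℓ : ℓ.Prime) (g : ℕ → G) (htor : ∀ n : ℕ, ℓ ^ n • g n = 0)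
    (hcomp : ∀ n : ℕ, ℓ • g (n + 1) = g n) (n : ℕ) : g n = 0 := by
  classical
  have key : ∀ m n, ℓ ^ m • g (n + m) = g n := by
    intro m
    induction m with
    | zero => intro n; simp
    | succ m ih => intro n; rw [pow_succ, mul_smul, ← add_assoc, hcomp, ih]
  have h1 : ℓ ^ (Nat.card G) • g (n + Nat.card G) = 0 := by
    have hord : addOrderOf (g (n + Nat.card G)) ∣ ℓ ^ (n + Nat.card G) :=
      addOrderOf_dvd_of_nsmul_eq_zero (htor _)
    obtain ⟨j, hj, hjeq⟩ := (Nat.dvd_prime_pow hℓ).1 hord
    have h2 : addOrderOf (g (n + Nat.card G)) ∣ Nat.card G := addOrderOf_dvd_natCard _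
    have hjN : j ≤ Nat.card G := by
      have h3 : ℓ ^ j ≤ Nat.card G := Nat.le_of_dvd Nat.card_pos (hjeq ▸ h2)
      exact (Nat.lt_pow_self hℓ.one_lt).le.trans h3
    apply addOrderOf_dvd_iff_nsmul_eq_zero.mp
    rw [hjeq]
    exact pow_dvd_pow _ hjN
  rw [← key (Nat.card G) n, h1]

end Groth.Agent.S14807
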