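import Groth.Statements.S14809
import Groth.Agent.Lib.Helper13.IntInv

set_option autoImplicit false
universe u
open CategoryTheory CategoryTheory.Limits AlgebraicGeometry
open PicF

namespace Groth.Agent.S14809

/-- Let X be an integral scheme such that Γ(X, O_X) is a field and L an invertible O_X-module with a
nonzero global section (a nonzero morphism O_X → L). If some tensor power L^{⊗d} with d ≥ 1 is
isomorphic to O_X, then L itself is isomorphic to O_X. -/
theorem result (X : Scheme.{u}) [IsIntegral X]
    (hfield : IsField (Γ(X, ⊤) : Type u)) (L : X.Modules) (hL : PicF.IsInvertible L)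
    (s : Coh.structureModule X ⟶ L) (hs : s ≠ 0) (d : ℕ) (hd : 0 < d)
    (htriv : Nonempty (CohB1.tensorPow L d ≅ Coh.structureModule X)) :
    Nonempty (L ≅ Coh.structureModule X) := by
  obtain ⟨e⟩ := htriv
  obtain ⟨k, rfl⟩ : ∃ k, d = k + 1 := ⟨d - 1, by omega⟩
  let σ : Coh.structureModule X ⟶ Coh.structureModule X := SecTwist.powHom s (k + 1) ≫ e.hom
  have hloc : CohB1.genLocus (Coh.structureModule X) σ = CohB1.genLocus L s := by
    rw [Groth.Agent.Helper13.GenLoc.genLocus_comp_iso,
      Groth.Agent.Helper13.Ample.genLocus_powHom L hL]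
  have hσ : σ ≠ 0 := by
    intro h0
    have hη := Groth.Agent.Helper13.IntInv.genericPoint_mem_genLocus L hL s hs
    rw [← hloc, h0, Groth.Agent.Helper13.Ample.genLocus_structureModule,
      Groth.Agent.Helper13.IntInv.sec_zero] at hη
    have hb : X.basicOpen (Groth.Agent.Helper13.LocFree.ofO ⊤
        (0 : Γ(Coh.structureModule X, ⊤))) = ⊥ := Scheme.basicOpen_zero X ⊤
    rw [hb] at hη
    exact hη
  have htop := Groth.Agent.Helper13.IntInv.genLocus_structureModule_eq_top hfield σ hσ
  rw [hloc] at htop
  exact Groth.Agent.Helper13.IntInv.nonempty_iso_of_genLocus_eq_top L hL s htop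

end Groth.Agent.S14809
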