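import Groth.Statements.S14822
import Mathlib
import Groth.Agent.Lib.Helper4.PushO
import Groth.Agent.Lib.Helper16.Sch.FibCl1
import Groth.Agent.Lib.Helper11.DimLift
import Groth.Agent.Lib.Helper23.WeilDim

set_option autoImplicit false
universe u
open CategoryTheory CategoryTheory.Limits AlgebraicGeometry
open CohIII

namespace Groth.Agent.S14822

/-- For a closed surjective map of integral finite-dimensional schemes of the same dimension, the
generic point of the target has only the generic point of the source in its fibre. -/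
theorem eq_genericPoint_of_map_eq {X Y : Scheme.{u}} [IsIntegral X] [IsIntegral Y]
    (f : X ⟶ Y) (hcl : IsClosedMap f.base)
    (hdim : topologicalKrullDim ↥X = topologicalKrullDim ↥Y)
    (hfin : topologicalKrullDim ↥X ≠ ⊤) (x : X) (hx : f.base x = genericPoint ↥Y) :
    x = genericPoint ↥X := by
  by_contra hne
  let Z : Set X := closure {x}
  have hZc : IsClosed Z := isClosed_closure
  have hηZ : genericPoint ↥X ∉ Z := by
    intro h
    -- then x ⤳ η and η ⤳ x, so equal
    have h1 : x ⤳ genericPoint ↥X := specializes_iff_mem_closure.2 h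
    have h2 : genericPoint ↥X ⤳ x := (genericPoint_spec X).specializes (Set.mem_univ x)
    exact hne (h1.antisymm h2).eq
  haveI : Nonempty ↥Z := ⟨⟨x, subset_closure rfl⟩⟩
  have hlt : topologicalKrullDim ↥Z + 1 ≤ topologicalKrullDim ↥X :=
    Groth.Agent.Helper16.FibCl.topologicalKrullDim_add_one_le_of_closed (genericPoint ↥X)
      (genericPoint_spec X).def Z hZc hηZ
  -- f restricted to Z is closed, surjective
  let φ : ↥Z → Y := fun z => f.base z.1
  have hφc : Continuous φ := f.base.hom.continuous.comp continuous_subtype_val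
  have hφcl : IsClosedMap φ := hcl.comp hZc.isClosedMap_subtype_val
  have hφs : Function.Surjective φ := by
    have hrange : IsClosed (Set.range φ) := hφcl.isClosed_range
    have hη : genericPoint ↥Y ∈ Set.range φ := ⟨⟨x, subset_closure rfl⟩, hx⟩
    intro y
    have h2 : genericPoint ↥Y ⤳ y := (genericPoint_spec Y).specializes (Set.mem_univ y)
    exact h2.mem_closed hrange hη
  have hle : topologicalKrullDim ↥Y ≤ topologicalKrullDim ↥Z :=
    Groth.Agent.Helper11.topologicalKrullDim_le_of_surjective_of_lift hφc hφs
      (Or.inl hφcl.specializingMap)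
  rw [hdim] at hlt hfin
  -- dim Z + 1 ≤ dim Y ≤ dim Z, dim Y finite
  have h3 : topologicalKrullDim ↥Z + 1 ≤ topologicalKrullDim ↥Z := hlt.trans hle
  have h0 : (0 : WithBot ℕ∞) ≤ topologicalKrullDim ↥Z := by
    have hne : Nonempty (TopologicalSpace.IrreducibleCloseds ↥Z) :=
      ⟨⟨closure {⟨x, subset_closure rfl⟩}, isIrreducible_singleton.closure, isClosed_closure⟩⟩
    exact Order.krullDim_nonneg
  have htopZ : topologicalKrullDim ↥Z ≠ ⊤ := by
    intro h
    apply hfin
    rw [← hdim]
    exact top_le_iff.1 (h ▸ topologicalKrullDim_subspace_le X Z)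
  generalize topologicalKrullDim ↥Z = d at h3 h0 htopZ
  induction d with
  | bot => simp at h0
  | coe a =>
    induction a with
    | top => exact htopZ rfl
    | coe n =>
      have : ((n + 1 : ℕ) : WithBot ℕ∞) ≤ (n : WithBot ℕ∞) := by exact_mod_cast h3
      have h5 : n + 1 ≤ n := by exact_mod_cast this
      omega


/-- Let k be a field and f : X → Y a surjective k-morphism between integral proper k-schemes of the same
dimension, with Y normal (all local rings integrally closed domains). Then f is a fibration (Γ(U,
O_Y) → Γ(f⁻¹U, O_X) bijective for every open U ⊆ Y) if and only if f is birational: the embedding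
K(Y) → K(X) of function fields given by the stalk map at the generic points is bijective. -/
theorem result (k : Type u) [Field k]
    (X Y : Scheme.{u}) [X.Over (Spec (CommRingCat.of k))] [Y.Over (Spec (CommRingCat.of k))]
    [IsProper (X ↘ Spec (CommRingCat.of k))] [IsProper (Y ↘ Spec (CommRingCat.of k))] [IsIntegral X] [IsIntegral Y]
    (hY : Pi1.IsNormalScheme Y) (f : X ⟶ Y) [Surjective f] (hf : f ≫ (Y ↘ Spec (CommRingCat.of k)) = X ↘ Spec (CommRingCat.of k))
    (hdim : topologicalKrullDim ↥X = topologicalKrullDim ↥Y)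
    (h : f.base (genericPoint ↥X) ⤳ genericPoint ↥Y) :
    (∀ U : Y.Opens, IsIso (f.app U)) ↔ Function.Bijective (CohIII.stalkToFunctionField f (genericPoint ↥Y) h) := by
  have hNY : ∀ y : Y, IsIntegrallyClosed (Y.presheaf.stalk y) := fun y => (hY y).2
  haveI : UniversallyClosed f := by
    haveI : UniversallyClosed (f ≫ (Y ↘ Spec (CommRingCat.of k))) := by
      rw [hf]; infer_instance
    exact UniversallyClosed.of_comp_of_isSeparated f (Y ↘ Spec (CommRingCat.of k))
  constructor
  · intro hiso
    refine ⟨RingHom.injective _, ?_⟩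
    intro a
    obtain ⟨W, hηW, s, hs⟩ := X.presheaf.exists_germ_eq a
    have hcl : IsClosedMap f.base := f.isClosedMap
    haveI : CompactSpace ↥X := by
      haveI : QuasiCompact (X ↘ Spec (CommRingCat.of k)) := inferInstance
      exact HasAffineProperty.iff_of_isAffine (P := @QuasiCompact)
        (f := X ↘ Spec (CommRingCat.of k)) |>.mp inferInstance
    have hfin : topologicalKrullDim ↥X ≠ ⊤ :=
      Groth.Agent.Helper23.WeilDim.krullDim_ne_top (X ↘ Spec (CommRingCat.of k))
    -- U := complement of f(Wᶜ)
    have hCcl : IsClosed (f.base '' ((W : Set X)ᶜ)) := hcl _ W.isOpen.isClosed_compl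
    let U : Y.Opens := ⟨(f.base '' ((W : Set X)ᶜ))ᶜ, hCcl.isOpen_compl⟩
    have hηU : genericPoint ↥Y ∈ U := by
      rintro ⟨x, hxW, hx⟩
      have := eq_genericPoint_of_map_eq f hcl hdim hfin x hx
      exact hxW (this ▸ hηW)
    have hUW : f ⁻¹ᵁ U ≤ W := by
      intro x hx
      by_contra hxW
      exact hx ⟨x, hxW, rfl⟩
    have hηX : genericPoint ↥X ∈ f ⁻¹ᵁ U := hUW.trans le_rfl |> fun _ =>
      h.mem_open U.isOpen hηU
    haveI := hiso U
    obtain ⟨t, ht⟩ := ((ConcreteCategory.bijective_of_isIso (f.app U)).2)
      (X.presheaf.map (homOfLE hUW).op s)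
    refine ⟨Y.presheaf.germ U (genericPoint ↥Y) hηU t, ?_⟩
    have hcat := Groth.Agent.Helper4.PushO.germ_comp_iota f h U hηU hηX
    have h1 := congrArg (fun φ => φ.hom t) hcat
    simp only [CommRingCat.hom_comp, RingHom.comp_apply] at h1
    show (f.stalkMap (genericPoint ↥X)).hom ((Y.presheaf.stalkSpecializes h).hom _) = a
    rw [h1, ht, TopCat.Presheaf.germ_res_apply]
    exact hs
  · intro hbij V
    refine Groth.Agent.Helper4.PushO.isIso_app hNY f h ?_ V
    intro x _
    exact hbij.2 x

end Groth.Agent.S14822
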