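import Groth.Statements.S1484
import Mathlib

set_option autoImplicit false
universe u
open FlatMor

namespace Groth.Agent.S1484

/-- the case of one prime -/
lemma one_prime {R : Type u} [CommRing R] (P : Ideal R) [P.IsPrime] (k : Subfield P.ResidueField)
    (hk : ¬ Algebra.IsAlgebraic ↥k P.ResidueField) (J : Ideal R) (hJ : ¬ J ≤ P) :
    ∃ y ∈ J, Transcendental ↥k (algebraMap R P.ResidueField y) := by
  classical
  -- a transcendental element of the residue field
  have h1 : ∃ z : P.ResidueField, Transcendental ↥k z := by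
    by_contra h
    push Not at h
    exact hk ⟨fun z => by simpa [Transcendental] using h z⟩
  obtain ⟨z, hz⟩ := h1
  -- a transcendental element in the image of R
  have h2 : ∃ t : R, Transcendental ↥k (algebraMap R P.ResidueField t) := by
    obtain ⟨a', b', hb', rfl⟩ := IsFractionRing.div_surjective (A := R ⧸ P) z
    obtain ⟨a, rfl⟩ := Ideal.Quotient.mk_surjective a'
    obtain ⟨b, rfl⟩ := Ideal.Quotient.mk_surjective b'
    by_contra h
    push Not at h
    have ha : IsAlgebraic ↥k (algebraMap R P.ResidueField a) := by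
      simpa [Transcendental] using h a
    have hb : IsAlgebraic ↥k (algebraMap R P.ResidueField b) := by
      simpa [Transcendental] using h b
    apply hz
    have e : ∀ c : R, algebraMap (R ⧸ P) P.ResidueField (Ideal.Quotient.mk P c) =
        algebraMap R P.ResidueField c := fun c => rfl
    rw [e, e, div_eq_mul_inv]
    exact ha.mul hb.inv
  obtain ⟨t, ht⟩ := h2
  obtain ⟨y₀, hy₀J, hy₀P⟩ := SetLike.not_le_iff_exists.mp hJ
  have hy₀ : algebraMap R P.ResidueField y₀ ≠ 0 := by
    rwa [Ne, Ideal.algebraMap_residueField_eq_zero]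
  by_cases hy : Transcendental ↥k (algebraMap R P.ResidueField y₀)
  · exact ⟨y₀, hy₀J, hy⟩
  · refine ⟨y₀ * t, J.mul_mem_right _ hy₀J, ?_⟩
    intro halg
    apply ht
    have hy' : IsAlgebraic ↥k (algebraMap R P.ResidueField y₀) := by
      simpa [Transcendental] using hy
    have : algebraMap R P.ResidueField t =
        algebraMap R P.ResidueField (y₀ * t) * (algebraMap R P.ResidueField y₀)⁻¹ := by
      rw [map_mul, mul_comm, ← mul_assoc, inv_mul_cancel₀ hy₀, one_mul]
    rw [this]
    exact halg.mul hy'.inv

/-- Let R be a ring, p_1, …, p_r primes of R none of which is contained in another, k_i ⊆ κ(p_i)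
subfields over which κ(p_i) is not algebraic, and J an ideal of R contained in none of the p_i. Then
some x ∈ J has image in κ(p_i) transcendental over k_i for every i. -/
theorem result {R : Type u} [CommRing R] {r : ℕ} (p : Fin r → Ideal R) [∀ i, (p i).IsPrime]
    (hp : ∀ i j, i ≠ j → ¬ p i ≤ p j) (k : ∀ i, Subfield (p i).ResidueField)
    (hk : ∀ i, ¬ Algebra.IsAlgebraic ↥(k i) (p i).ResidueField) (J : Ideal R) (hJ : ∀ i, ¬ J ≤ p i) :
    ∃ x ∈ J, ∀ i, Transcendental ↥(k i) (algebraMap R (p i).ResidueField x) := by
  classical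
  suffices h : ∀ s : Finset (Fin r), ∃ x ∈ J, ∀ i ∈ s,
      Transcendental ↥(k i) (algebraMap R (p i).ResidueField x) by
    obtain ⟨x, hx, h⟩ := h Finset.univ
    exact ⟨x, hx, fun i => h i (Finset.mem_univ i)⟩
  intro s
  induction s using Finset.induction_on with
  | empty => exact ⟨0, J.zero_mem, by simp⟩
  | insert i₀ s hi₀ ih =>
    obtain ⟨x, hxJ, hx⟩ := ih
    by_cases hx₀ : Transcendental ↥(k i₀) (algebraMap R (p i₀).ResidueField x)
    · refine ⟨x, hxJ, fun i hi => ?_⟩
      rcases Finset.mem_insert.mp hi with rfl | hi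
      · exact hx₀
      · exact hx i hi
    · -- choose y in J * ∏ p_i
      have hJ' : ¬ J * ∏ i ∈ s, p i ≤ p i₀ := by
        intro hle
        rcases (Ideal.IsPrime.mul_le inferInstance).mp hle with h | h
        · exact hJ i₀ h
        · obtain ⟨i, his, hi⟩ := (Ideal.IsPrime.prod_le inferInstance).mp h
          exact hp i i₀ (fun e => hi₀ (e ▸ his)) hi
      obtain ⟨y, hyJ', hy⟩ := one_prime (p i₀) (k i₀) (hk i₀) _ hJ'
      have hyJ : y ∈ J := (Ideal.mul_le_left (I := J) (J := ∏ i ∈ s, p i)) hyJ'
      have hyp : ∀ i ∈ s, y ∈ p i := fun i hi =>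
        (Ideal.prod_le_inf.trans (Finset.inf_le hi)) ((Ideal.mul_le_right (I := J) (J := ∏ i ∈ s, p i)) hyJ')
      refine ⟨x + y, J.add_mem hxJ hyJ, fun i hi => ?_⟩
      rcases Finset.mem_insert.mp hi with rfl | hi
      · intro halg
        apply hy
        have hx' : IsAlgebraic ↥(k i) (algebraMap R (p i).ResidueField x) := by
          simpa [Transcendental] using hx₀
        have : algebraMap R (p i).ResidueField y =
            algebraMap R (p i).ResidueField (x + y) - algebraMap R (p i).ResidueField x := by
          rw [map_add, add_sub_cancel_left]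
        rw [this]
        exact halg.sub hx'
      · have : algebraMap R (p i).ResidueField y = 0 :=
          Ideal.algebraMap_residueField_eq_zero.mpr (hyp i hi)
        rw [map_add, this, add_zero]
        exact hx i hi

end Groth.Agent.S1484
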