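import Groth.Statements.S14842
import Groth.Agent.Lib.Helper22.Coeff2

set_option autoImplicit false
universe u v
open HopfRep

namespace Groth.Agent.S14842

open TensorProduct in
/-- Over a field K, every simple subcoalgebra D of a coalgebra C is the coefficient space of a simple
comodule. Precisely: there is a subspace E of C contained in D which is a simple subcomodule of the
regular right comodule C (E is nonzero, stable under the coaction, and its only subcomodules are 0
and E) and such that D is the least subspace D' of C with comul(E) inside the image of E ⊗ D'. Here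
a subcoalgebra of C is a subspace B whose comultiplication lands in the image of B ⊗ B, and a simple
subcoalgebra is a nonzero subcoalgebra D whose only subcoalgebras contained in D are 0 and D.
(Stated for right comodules; the published statement is for left comodules.) -/
theorem result {K : Type u} {C : Type v} [Field K]
    [AddCommGroup C] [Module K C] [Coalgebra K C]
    (D : Submodule K C) (hD0 : D ≠ ⊥) (hD : (∀ b ∈ D, CoalgebraStruct.comul (R := K) b ∈ LinearMap.range (TensorProduct.map D.subtype D.subtype)))
    (hDs : ∀ B : Submodule K C, B ≤ D → (∀ b ∈ B, CoalgebraStruct.comul (R := K) b ∈ LinearMap.range (TensorProduct.map B.subtype B.subtype)) → B = ⊥ ∨ B = D) :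
    ∃ E : Submodule K C, E ≤ D ∧ E ≠ ⊥ ∧ HopfRep.IsSubcomod (k := K) (A := C) E ∧
      (∀ E' : Submodule K C, E' ≤ E → HopfRep.IsSubcomod (k := K) (A := C) E' → E' = ⊥ ∨ E' = E) ∧
      IsLeast {D' : Submodule K C |
        ∀ e ∈ E, CoalgebraStruct.comul (R := K) e ∈ LinearMap.range (TensorProduct.map E.subtype D'.subtype)} D := by
  classical
  have hDsub : HopfRep.IsSubcomod (k := K) (A := C) D := by
    intro b hb
    obtain ⟨z, hz⟩ := hD b hb
    refine ⟨LinearMap.lTensor D D.subtype z, ?_⟩
    rw [← LinearMap.comp_apply, LinearMap.rTensor_comp_lTensor]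
    exact hz
  obtain ⟨d, hdD, hd0⟩ := Submodule.exists_mem_ne_zero_of_ne_bot hD0
  have hWsub : HopfRep.IsSubcomod (k := K) (A := C)
      (Groth.Agent.Helper12.gen (k := K) (C := C) d ⊓ D) :=
    Groth.Agent.Helper12.isSubcomod_inf (Groth.Agent.Helper12.gen_isSubcomod d) hDsub
  haveI : Module.Finite K (Groth.Agent.Helper12.gen (k := K) (C := C) d) :=
    Groth.Agent.Helper12.gen_finite d
  haveI : Module.Finite K ↥(Groth.Agent.Helper12.gen (k := K) (C := C) d ⊓ D) :=
    Submodule.finiteDimensional_of_le inf_le_left
  have hW0 : Groth.Agent.Helper12.gen (k := K) (C := C) d ⊓ D ≠ ⊥ := by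
    intro h
    apply hd0
    have : d ∈ Groth.Agent.Helper12.gen (k := K) (C := C) d ⊓ D :=
      ⟨Groth.Agent.Helper12.mem_gen d, hdD⟩
    rw [h, Submodule.mem_bot] at this
    exact this
  obtain ⟨E, hEW, hEsub, hE0, hEmin⟩ :=
    Groth.Agent.Helper12.ComodSS.exists_simple_le _ hWsub hW0
  have hED : E ≤ D := hEW.trans inf_le_right
  refine ⟨E, hED, hE0, hEsub, fun E' hE' hE'sub => hEmin E' hE'sub hE', ?_, ?_⟩
  · -- D belongs to the set
    intro e he
    obtain ⟨y, hy⟩ := hEsub e he
    change E.subtype.rTensor C y = CoalgebraStruct.comul (R := K) e at hy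
    have h1 : E.subtype.rTensor C y ∈ LinearMap.range (LinearMap.lTensor C D.subtype) := by
      rw [hy]
      exact Groth.Agent.Helper22.Coeff.range_map_le_range_lTensor D D (hD e (hED he))
    obtain ⟨y', hy'⟩ := Groth.Agent.Helper22.Coeff.mem_range_map_of_mem_of_mem E.subtype
      E.injective_subtype D y h1
    refine ⟨y', ?_⟩
    rw [← hy, ← hy', ← LinearMap.comp_apply, LinearMap.rTensor_comp_lTensor]
  · -- D is least
    intro D' hD'
    letI : HopfRep.Comod K C ↥E := Groth.Agent.Helper12.subComod E hEsub
    have hj := Groth.Agent.Helper12.isComodHom_subtype E hEsub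
    haveI : Nontrivial ↥E := Submodule.nontrivial_iff_ne_bot.mpr hE0
    have hcfD : Groth.Agent.Helper22.Coeff.cf (k := K) (C := C) ↥E ≤ D :=
      Groth.Agent.Helper22.Coeff.cf_le_of_range_le hj E.injective_subtype D hD
        (by rw [Submodule.range_subtype]; exact hED)
    have hcfeq : Groth.Agent.Helper22.Coeff.cf (k := K) (C := C) ↥E = D := by
      rcases hDs _ hcfD (Groth.Agent.Helper22.Coeff.cf_isSubcoalg ↥E) with h | h
      · exact absurd h (Groth.Agent.Helper22.Coeff.cf_ne_bot ↥E)
      · exact h
    rw [← hcfeq]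
    apply Groth.Agent.Helper22.Coeff.cf_le
    intro e
    obtain ⟨z, hz⟩ := hD' e.1 e.2
    refine ⟨z, ?_⟩
    apply Groth.Agent.Helper12.rTensor_injective_of_injective C E.subtype E.injective_subtype
    rw [← LinearMap.comp_apply, LinearMap.rTensor_comp_lTensor, hz]
    exact (Groth.Agent.Helper12.isComodHom_apply hj e)

end Groth.Agent.S14842
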