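import Groth.Statements.S14843
import Groth.Agent.Lib.Helper22.Coeff3

set_option autoImplicit false
universe u v
open HopfRep

namespace Groth.Agent.S14843

open TensorProduct in
/-- Over a field K, a coalgebra C is cosemisimple, i.e. C is the internal direct sum of a family of
simple subcoalgebras, if and only if every right C-comodule is completely reducible (every
subcomodule admits a complementary subcomodule). Here a subcoalgebra of C is a subspace B whose
comultiplication lands in the image of B ⊗ B, and a simple subcoalgebra is a nonzero subcoalgebra D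
whose only subcoalgebras contained in D are 0 and D. (Comodules are quantified in the universe of C;
the published statement is for left comodules, and the equivalence of 'direct sum of simple
subcomodules' with 'every subcomodule is a direct summand' is the standard one.) -/
theorem result {K : Type u} {C : Type v} [Field K]
    [AddCommGroup C] [Module K C] [Coalgebra K C] :
    (∃ (ι : Type v) (D : ι → Submodule K C), iSupIndep D ∧ iSup D = ⊤ ∧ ∀ i,
        D i ≠ ⊥ ∧ (∀ b ∈ D i, CoalgebraStruct.comul (R := K) b ∈ LinearMap.range (TensorProduct.map (D i).subtype (D i).subtype)) ∧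
        ∀ B : Submodule K C, B ≤ D i → (∀ b ∈ B, CoalgebraStruct.comul (R := K) b ∈ LinearMap.range (TensorProduct.map B.subtype B.subtype)) → B = ⊥ ∨ B = D i) ↔
      ∀ (V : Type v) [AddCommGroup V] [Module K V] [HopfRep.Comod K C V],
        HopfRep.IsSemisimpleComod K C V := by
  open Groth.Agent.Helper12 Groth.Agent.Helper22.DualAct Groth.Agent.Helper22.Coeff in
  constructor
  · rintro ⟨ι, D, -, htop, hD⟩ V _ _ _
    have hreg : IsSemisimpleModule (WithConv (C →ₗ[K] K)) (AsMod K C C) := by
      apply isSemisimpleModule_of_isSemisimpleModule_submodule'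
        (p := fun i => toSub C (D i) (isSubcomod_of_subcoalg _ (hD i).2.1))
      · intro i
        exact isSemisimple_of_simple_subcoalg (D i) (hD i).1 (hD i).2.1 (hD i).2.2
      · rw [← ofSub_eq_top, ofSub_iSup]
        simp only [ofSub_toSub]
        exact htop
    exact (isSemisimpleModule_iff V).mp (isSemisimple_of_regular V hreg)
  · intro h
    haveI hreg : IsSemisimpleModule (WithConv (C →ₗ[K] K)) (AsMod K C C) :=
      (isSemisimpleModule_iff C).mpr (h C)
    refine ⟨↥(isotypicComponents (WithConv (C →ₗ[K] K)) (AsMod K C C)),
      fun i => ofSub C i.1, ?_, ?_, ?_⟩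
    · exact iSupIndep_ofSub C _ ((sSupIndep_iff _).mp
        (sSupIndep_isotypicComponents (WithConv (C →ₗ[K] K)) (AsMod K C C)))
    · rw [← ofSub_iSup, ← sSup_eq_iSup', sSup_isotypicComponents, ofSub_top]
    · intro i
      obtain ⟨S, hS, hi⟩ := i.2
      haveI := hS
      letI : HopfRep.Comod K C ↥(ofSub C S) := subComod (ofSub C S) (ofSub_isSubcomod C S)
      have h2 : HopfRep.IsSimpleComod K C ↥(ofSub C S) ∧
          ofSub C (isotypicComponent (WithConv (C →ₗ[K] K)) (AsMod K C C) S) =
            cf (k := K) (C := C) ↥(ofSub C S) := ofSub_isotypicComponent S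
      obtain ⟨hsimple, heq⟩ := h2
      haveI : Nontrivial ↥(ofSub C S) := hsimple.1
      have hDi : ofSub C i.1 = cf (k := K) (C := C) ↥(ofSub C S) := by
        rw [hi]
        exact heq
      suffices H : ∀ X : Submodule K C, X = cf (k := K) (C := C) ↥(ofSub C S) →
          (X ≠ ⊥ ∧ (∀ b ∈ X, CoalgebraStruct.comul (R := K) b ∈
            LinearMap.range (TensorProduct.map X.subtype X.subtype)) ∧
          ∀ B : Submodule K C, B ≤ X → (∀ b ∈ B, CoalgebraStruct.comul (R := K) b ∈
            LinearMap.range (TensorProduct.map B.subtype B.subtype)) → B = ⊥ ∨ B = X) from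
        H _ hDi
      rintro X rfl
      exact ⟨cf_ne_bot _, cf_isSubcoalg _, fun B hB1 hB2 => cf_simple hsimple B hB1 hB2⟩

end Groth.Agent.S14843
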