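import Groth.Statements.S14846
import Mathlib
import Groth.Agent.Lib.Helper22.GalDescent

set_option autoImplicit false
universe u v w
open Brauer

namespace Groth.Agent.S14846

open TensorProduct in
/-- Let L/K be a Galois extension with group Γ = Aut_K(L), and A a K-algebra which is a simple ring. If
L ⊗_K A is semisimple, then Γ, acting on L ⊗_K A through the first tensor factor, permutes its
simple components, i.e. its minimal nonzero two-sided ideals, transitively: any minimal two-sided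
ideal is carried onto any other by some γ ⊗ id. -/
theorem result
    {K : Type u} {L : Type v} [Field K] [Field L] [Algebra K L] [IsGalois K L]
    {A : Type w} [Ring A] [Algebra K A] [IsSimpleRing A]
    [IsSemisimpleRing (L ⊗[K] A)]
    (I J : TwoSidedIdeal (L ⊗[K] A)) (hI : IsAtom I) (hJ : IsAtom J) :
    ∃ γ : L ≃ₐ[K] L, (J : Set (L ⊗[K] A)) =
      Algebra.TensorProduct.map (γ : L →ₐ[K] L) (AlgHom.id K A) '' (I : Set (L ⊗[K] A)) := by
  classical
  by_contra hcon
  push_neg at hcon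
  have hIne : ∃ y ∈ I, y ≠ 0 := by
    by_contra h
    push_neg at h
    apply hI.1
    rw [eq_bot_iff]
    intro y hy
    rw [TwoSidedIdeal.mem_bot]
    exact h y hy
  have hJne : ∃ x ∈ J, x ≠ 0 := by
    by_contra h
    push_neg at h
    apply hJ.1
    rw [eq_bot_iff]
    intro y hy
    rw [TwoSidedIdeal.mem_bot]
    exact h y hy
  -- the translates of I
  let Iγ : (L ≃ₐ[K] L) → TwoSidedIdeal (L ⊗[K] A) := fun γ =>
    I.comap (Groth.Agent.Helper22.GalDescent.σ (A := A) γ⁻¹)
  have hIγ_mem : ∀ γ x, x ∈ Iγ γ ↔ Groth.Agent.Helper22.GalDescent.σ (A := A) γ⁻¹ x ∈ I :=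
    fun γ x => TwoSidedIdeal.mem_comap _
  have hIγ_set : ∀ γ, (Iγ γ : Set (L ⊗[K] A)) =
      Groth.Agent.Helper22.GalDescent.σ (A := A) γ '' (I : Set (L ⊗[K] A)) := by
    intro γ
    ext x
    constructor
    · intro hx
      exact ⟨_, (hIγ_mem γ x).mp hx, Groth.Agent.Helper22.GalDescent.σ_σ_inv γ x⟩
    · rintro ⟨y, hy, rfl⟩
      show _ ∈ Iγ γ
      rw [hIγ_mem, Groth.Agent.Helper22.GalDescent.σ_inv_σ]
      exact hy
  -- J meets every translate trivially
  have hdisj : ∀ γ, J ⊓ Iγ γ = ⊥ := by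
    intro γ
    have hle : J ⊓ Iγ γ ≤ J := inf_le_left
    rcases hJ.le_iff.mp hle with h | h
    · exact h
    · exfalso
      have hJle : J ≤ Iγ γ := by rw [← h]; exact inf_le_right
      let J' : TwoSidedIdeal (L ⊗[K] A) := J.comap (Groth.Agent.Helper22.GalDescent.σ (A := A) γ)
      have hJ'mem : ∀ x, x ∈ J' ↔ Groth.Agent.Helper22.GalDescent.σ (A := A) γ x ∈ J :=
        fun x => TwoSidedIdeal.mem_comap _
      have hJ'le : J' ≤ I := by
        intro x hx
        have h1 := hJle ((hJ'mem x).mp hx)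
        rw [hIγ_mem, Groth.Agent.Helper22.GalDescent.σ_inv_σ] at h1
        exact h1
      have hJ'ne : J' ≠ ⊥ := by
        obtain ⟨x, hxJ, hx0⟩ := hJne
        intro hbot
        have hx' : Groth.Agent.Helper22.GalDescent.σ (A := A) γ⁻¹ x ∈ J' := by
          rw [hJ'mem, Groth.Agent.Helper22.GalDescent.σ_σ_inv]
          exact hxJ
        rw [hbot, TwoSidedIdeal.mem_bot] at hx'
        apply hx0
        have := congrArg (Groth.Agent.Helper22.GalDescent.σ (A := A) γ) hx'
        rwa [Groth.Agent.Helper22.GalDescent.σ_σ_inv, map_zero] at this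
      have hJ'I : J' = I := (hI.le_iff.mp hJ'le).resolve_left hJ'ne
      apply hcon γ
      show (J : Set (L ⊗[K] A)) = Groth.Agent.Helper22.GalDescent.σ (A := A) γ '' (I : Set (L ⊗[K] A))
      rw [← hIγ_set]
      ext x
      constructor
      · intro hx
        exact hJle hx
      · intro hx
        have h1 : Groth.Agent.Helper22.GalDescent.σ (A := A) γ⁻¹ x ∈ I := (hIγ_mem γ x).mp hx
        rw [← hJ'I, hJ'mem, Groth.Agent.Helper22.GalDescent.σ_σ_inv] at h1
        exact h1
  -- the annihilator-type subgroup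
  let N : AddSubgroup (L ⊗[K] A) :=
    { carrier := {x | ∀ (γ : L ≃ₐ[K] L), ∀ y ∈ I,
        x * Groth.Agent.Helper22.GalDescent.σ (A := A) γ y = 0}
      zero_mem' := fun γ y _ => zero_mul _
      add_mem' := fun {a b} ha hb γ y hy => by rw [add_mul, ha γ y hy, hb γ y hy, add_zero]
      neg_mem' := fun {a} ha γ y hy => by rw [neg_mul, ha γ y hy, neg_zero] }
  have hNmem : ∀ x, x ∈ N ↔ ∀ (γ : L ≃ₐ[K] L), ∀ y ∈ I,
      x * Groth.Agent.Helper22.GalDescent.σ (A := A) γ y = 0 := fun x => Iff.rfl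
  have hJN : ∀ x ∈ J, x ∈ N := by
    intro x hx
    rw [hNmem]
    intro γ y hy
    have h1 : x * Groth.Agent.Helper22.GalDescent.σ (A := A) γ y ∈ J ⊓ Iγ γ := by
      rw [TwoSidedIdeal.mem_inf]
      refine ⟨J.mul_mem_right _ _ hx, (Iγ γ).mul_mem_left _ _ ?_⟩
      rw [hIγ_mem, Groth.Agent.Helper22.GalDescent.σ_inv_σ]
      exact hy
    rw [hdisj γ, TwoSidedIdeal.mem_bot] at h1
    exact h1
  have h1N : (1 : L ⊗[K] A) ∈ N := by
    apply Groth.Agent.Helper22.GalDescent.one_mem_of_stable N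
    · intro r x hx
      rw [hNmem] at hx ⊢
      intro γ y hy
      rw [mul_assoc, hx γ y hy, mul_zero]
    · intro r x hx
      rw [hNmem] at hx ⊢
      intro γ y hy
      have h2 : r * Groth.Agent.Helper22.GalDescent.σ (A := A) γ y =
          Groth.Agent.Helper22.GalDescent.σ (A := A) γ
            (Groth.Agent.Helper22.GalDescent.σ (A := A) γ⁻¹ r * y) := by
        rw [map_mul, Groth.Agent.Helper22.GalDescent.σ_σ_inv]
      rw [mul_assoc, h2]
      exact hx γ _ (I.mul_mem_left _ _ hy)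
    · intro δ x hx
      rw [hNmem] at hx ⊢
      intro γ y hy
      have h2 : Groth.Agent.Helper22.GalDescent.σ (A := A) γ y =
          Groth.Agent.Helper22.GalDescent.σ (A := A) δ
            (Groth.Agent.Helper22.GalDescent.σ (A := A) (δ⁻¹ * γ) y) := by
        rw [Groth.Agent.Helper22.GalDescent.σ_mul, mul_inv_cancel_left]
      rw [h2, ← map_mul, hx (δ⁻¹ * γ) y hy, map_zero]
    · obtain ⟨x, hxJ, hx0⟩ := hJne
      exact ⟨x, hJN x hxJ, hx0⟩
  obtain ⟨y, hyI, hy0⟩ := hIne
  apply hy0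
  have := (hNmem 1).mp h1N 1 y hyI
  rwa [one_mul, Groth.Agent.Helper22.GalDescent.σ_one] at this

end Groth.Agent.S14846
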