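import Groth.Statements.S14848
import Mathlib

set_option autoImplicit false
universe u v
open McKay

namespace Groth.Agent.S14848

private def uu {K : Type u} [Field K] (t : K) : ℕ → K
  | 0 => 0
  | 1 => 1
  | (m + 2) => t * uu t (m + 1) - uu t m

private def Mm {K : Type u} [Field K] (t : K) : Matrix (Fin 2) (Fin 2) K := !![0, -1; 1, t]

private lemma Mm00 {K : Type u} [Field K] (t : K) : Mm t 0 0 = 0 := rfl
private lemma Mm01 {K : Type u} [Field K] (t : K) : Mm t 0 1 = -1 := rfl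
private lemma Mm10 {K : Type u} [Field K] (t : K) : Mm t 1 0 = 1 := rfl
private lemma Mm11 {K : Type u} [Field K] (t : K) : Mm t 1 1 = t := rfl

private lemma CH {K : Type u} [Field K] (M : Matrix (Fin 2) (Fin 2) K) :
    M * M = (M 0 0 + M 1 1) • M -
      (M 0 0 * M 1 1 - M 0 1 * M 1 0) • (1 : Matrix (Fin 2) (Fin 2) K) := by
  have o00 : (1 : Matrix (Fin 2) (Fin 2) K) 0 0 = 1 := by simp
  have o01 : (1 : Matrix (Fin 2) (Fin 2) K) 0 1 = 0 := by simp
  have o10 : (1 : Matrix (Fin 2) (Fin 2) K) 1 0 = 0 := by simp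
  have o11 : (1 : Matrix (Fin 2) (Fin 2) K) 1 1 = 1 := by simp
  ext i j
  rw [Matrix.mul_apply, Fin.sum_univ_two]
  fin_cases i <;> fin_cases j
  · show M 0 0 * M 0 0 + M 0 1 * M 1 0 = ((M 0 0 + M 1 1) • M -
      (M 0 0 * M 1 1 - M 0 1 * M 1 0) • (1 : Matrix (Fin 2) (Fin 2) K)) 0 0
    rw [Matrix.sub_apply, Matrix.smul_apply, Matrix.smul_apply, o00, smul_eq_mul, smul_eq_mul]
    ring
  · show M 0 0 * M 0 1 + M 0 1 * M 1 1 = ((M 0 0 + M 1 1) • M -
      (M 0 0 * M 1 1 - M 0 1 * M 1 0) • (1 : Matrix (Fin 2) (Fin 2) K)) 0 1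
    rw [Matrix.sub_apply, Matrix.smul_apply, Matrix.smul_apply, o01, smul_eq_mul, smul_eq_mul]
    ring
  · show M 1 0 * M 0 0 + M 1 1 * M 1 0 = ((M 0 0 + M 1 1) • M -
      (M 0 0 * M 1 1 - M 0 1 * M 1 0) • (1 : Matrix (Fin 2) (Fin 2) K)) 1 0
    rw [Matrix.sub_apply, Matrix.smul_apply, Matrix.smul_apply, o10, smul_eq_mul, smul_eq_mul]
    ring
  · show M 1 0 * M 0 1 + M 1 1 * M 1 1 = ((M 0 0 + M 1 1) • M -
      (M 0 0 * M 1 1 - M 0 1 * M 1 0) • (1 : Matrix (Fin 2) (Fin 2) K)) 1 1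
    rw [Matrix.sub_apply, Matrix.smul_apply, Matrix.smul_apply, o11, smul_eq_mul, smul_eq_mul]
    ring

private lemma Mm_sq {K : Type u} [Field K] (t : K) : Mm t * Mm t = t • Mm t - 1 := by
  rw [CH, Mm00, Mm11, Mm01, Mm10]
  norm_num

private lemma Mm_det {K : Type u} [Field K] (t : K) : (Mm t).det = 1 := by
  rw [Matrix.det_fin_two, Mm00, Mm11, Mm01, Mm10]; norm_num

private lemma pow_formula {K : Type u} [Field K] (t : K) (m : ℕ) :
    Mm t ^ (m + 1) = uu t (m + 1) • Mm t - uu t m • (1 : Matrix (Fin 2) (Fin 2) K) := by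
  induction m with
  | zero => simp [uu]
  | succ m ih =>
    rw [pow_succ, ih, sub_mul, smul_mul_assoc, smul_mul_assoc, one_mul, Mm_sq]
    show uu t (m + 1) • (t • Mm t - 1) - uu t m • Mm t =
      (t * uu t (m + 1) - uu t m) • Mm t - uu t (m + 1) • (1 : Matrix (Fin 2) (Fin 2) K)
    module

private lemma uu_spec {K : Type u} {L : Type v} [Field K] [Field L] [Algebra K L] (t : K) (ξ : L)
    (hξ0 : ξ ≠ 0) (ht : algebraMap K L t = ξ + ξ⁻¹) (m : ℕ) :
    algebraMap K L (uu t m) * (ξ - ξ⁻¹) = ξ ^ m - ξ⁻¹ ^ m ∧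
    algebraMap K L (uu t (m + 1)) * (ξ - ξ⁻¹) = ξ ^ (m + 1) - ξ⁻¹ ^ (m + 1) := by
  induction m with
  | zero => simp [uu]
  | succ m ih =>
    refine ⟨ih.2, ?_⟩
    show algebraMap K L (t * uu t (m + 1) - uu t m) * (ξ - ξ⁻¹) = _
    rw [map_sub, map_mul, ht]
    have hx : ξ * ξ⁻¹ = 1 := mul_inv_cancel₀ hξ0
    linear_combination (ξ + ξ⁻¹) * ih.2 - ih.1 + (ξ ^ m - ξ⁻¹ ^ m) * hx


/-- Let K be a field of characteristic zero, L an extension field of K and ξ ∈ L a primitive n-th root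
of unity (n ≥ 1) with ξ + ξ⁻¹ ∈ K, say ξ + ξ⁻¹ = 2c with c ∈ K (the character of the natural
two-dimensional representation of the cyclic group of order n takes values in K). Then the cyclic
group of order n is realisable over K as a subgroup of SL(2, K): there is an element of SL(2, K) of
order n. -/
theorem result {K : Type u} {L : Type v} [Field K] [Field L]
    [CharZero K] [Algebra K L] (n : ℕ) (hn : 1 ≤ n) (ξ : L) (hξ : IsPrimitiveRoot ξ n) (c : K)
    (hc : algebraMap K L (2 * c) = ξ + ξ⁻¹) :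
    ∃ M : Matrix.SpecialLinearGroup (Fin 2) K, orderOf M = n := by
  rcases Nat.lt_or_ge n 3 with hlt | hge
  · interval_cases n
    · exact ⟨1, orderOf_one⟩
    · -- n = 2
      have hdet : (!![-1, 0; 0, -1] : Matrix (Fin 2) (Fin 2) K).det = 1 := by
        rw [Matrix.det_fin_two_of]; norm_num
      obtain ⟨D, hD⟩ : ∃ D : Matrix.SpecialLinearGroup (Fin 2) K,
          (D : Matrix (Fin 2) (Fin 2) K) = !![-1, 0; 0, -1] := ⟨⟨!![-1, 0; 0, -1], hdet⟩, rfl⟩
      refine ⟨D, ?_⟩
      haveI : Fact (Nat.Prime 2) := ⟨Nat.prime_two⟩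
      apply orderOf_eq_prime
      · apply Matrix.SpecialLinearGroup.ext
        intro i j
        rw [Matrix.SpecialLinearGroup.coe_pow, pow_two, hD, Matrix.mul_fin_two,
          Matrix.SpecialLinearGroup.coe_one, Matrix.one_fin_two]
        norm_num
      · intro h
        have h1 : (D : Matrix (Fin 2) (Fin 2) K) 0 0 = (1 : Matrix (Fin 2) (Fin 2) K) 0 0 := by
          rw [h, Matrix.SpecialLinearGroup.coe_one]
        rw [hD] at h1
        have h2 : (-1 : K) = 1 := by simpa using h1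
        have h3 : (2 : K) = 0 := by linear_combination -h2
        exact two_ne_zero h3
  · have hn0 : n ≠ 0 := by omega
    have hξ0 : ξ ≠ 0 := hξ.ne_zero hn0
    have hx : ξ * ξ⁻¹ = 1 := mul_inv_cancel₀ hξ0
    have hs : ξ - ξ⁻¹ ≠ 0 := by
      intro h
      have h2 : ξ ^ 2 = 1 := by
        have : ξ = ξ⁻¹ := sub_eq_zero.mp h
        calc ξ ^ 2 = ξ * ξ := pow_two ξ
          _ = ξ * ξ⁻¹ := by rw [← this]
          _ = 1 := hx
      have := Nat.le_of_dvd (by norm_num) (hξ.dvd_of_pow_eq_one 2 h2)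
      omega
    have hinj : Function.Injective (algebraMap K L) := (algebraMap K L).injective
    obtain ⟨t, htdef⟩ : ∃ t, t = 2 * c := ⟨_, rfl⟩
    have ht : algebraMap K L t = ξ + ξ⁻¹ := by rw [htdef]; exact hc
    have hspec := uu_spec t ξ hξ0 ht
    obtain ⟨g, hg⟩ : ∃ g : Matrix.SpecialLinearGroup (Fin 2) K,
        (g : Matrix (Fin 2) (Fin 2) K) = Mm t := ⟨⟨Mm t, Mm_det t⟩, rfl⟩
    refine ⟨g, ?_⟩
    have hpow : ∀ m : ℕ, ((g ^ m : Matrix.SpecialLinearGroup (Fin 2) K) :
        Matrix (Fin 2) (Fin 2) K) = Mm t ^ m := by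
      intro m; rw [Matrix.SpecialLinearGroup.coe_pow, hg]
    rw [orderOf_eq_iff (by omega)]
    constructor
    · apply Subtype.ext
      show ((g ^ n : Matrix.SpecialLinearGroup (Fin 2) K) : Matrix (Fin 2) (Fin 2) K) = 1
      rw [hpow]
      have hn1 : n = (n - 1) + 1 := by omega
      have hun : uu t n = 0 := by
        have h1 := (hspec n).1
        rw [hξ.pow_eq_one, inv_pow, hξ.pow_eq_one, inv_one, sub_self] at h1
        have h2 := (mul_eq_zero.mp h1).resolve_right hs
        exact hinj (by rw [h2, map_zero])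
      have hun1 : uu t (n - 1) = -1 := by
        have h1 := (hspec (n - 1)).1
        have e1 : ξ ^ (n - 1) = ξ⁻¹ := by
          apply eq_inv_of_mul_eq_one_left
          rw [← pow_succ, ← hn1]; exact hξ.pow_eq_one
        rw [inv_pow, e1, inv_inv] at h1
        have h2 : (algebraMap K L (uu t (n - 1)) + 1) * (ξ - ξ⁻¹) = 0 := by
          linear_combination h1
        have h3 := (mul_eq_zero.mp h2).resolve_right hs
        apply hinj
        rw [map_neg, map_one]
        linear_combination h3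
      rw [hn1, pow_formula, ← hn1, hun, hun1]
      simp
    · intro m hmn hm0 hm1
      have hM : Mm t ^ m = 1 := by
        rw [← hpow, hm1, Matrix.SpecialLinearGroup.coe_one]
      obtain ⟨m', rfl⟩ : ∃ m', m = m' + 1 := ⟨m - 1, by omega⟩
      rw [pow_formula] at hM
      have o00 : (1 : Matrix (Fin 2) (Fin 2) K) 0 0 = 1 := by simp
      have o10 : (1 : Matrix (Fin 2) (Fin 2) K) 1 0 = 0 := by simp
      have e10 := congrFun (congrFun hM 1) 0
      rw [Matrix.sub_apply, Matrix.smul_apply, Matrix.smul_apply, Mm10, o10, smul_eq_mul,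
        smul_eq_mul, mul_one, mul_zero, sub_zero] at e10
      have e00 := congrFun (congrFun hM 0) 0
      rw [Matrix.sub_apply, Matrix.smul_apply, Matrix.smul_apply, Mm00, o00, smul_eq_mul,
        smul_eq_mul, mul_zero, mul_one, zero_sub] at e00
      have hum : uu t m' = -1 := by linear_combination -e00
      have s1 := (hspec m').1
      have s2 := (hspec m').2
      rw [hum, map_neg, map_one] at s1
      rw [e10, map_zero, zero_mul, pow_succ, pow_succ] at s2
      have h4 : (ξ ^ m' - ξ⁻¹) * (ξ - ξ⁻¹) = 0 := by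
        linear_combination -s2 + ξ⁻¹ * s1
      have h5 : ξ ^ m' = ξ⁻¹ := sub_eq_zero.mp ((mul_eq_zero.mp h4).resolve_right hs)
      have h6 : ξ ^ (m' + 1) = 1 := by rw [pow_succ, h5, inv_mul_cancel₀ hξ0]
      have := Nat.le_of_dvd (by omega) (hξ.dvd_of_pow_eq_one _ h6)
      omega

end Groth.Agent.S14848
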