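import Groth.Statements.S14849
import Mathlib
import Groth.Agent.Lib.Helper22.SL2

set_option autoImplicit false
universe u v
open McKay

namespace Groth.Agent.S14849
open Groth.Agent.Helper22

/-- Let K be a field of characteristic zero, L an extension field of K, n ≥ 2, and ξ ∈ L a primitive
2n-th root of unity with ξ + ξ⁻¹ = 2c for some c ∈ K. If the Hilbert symbol of -1 and c² - 1 over K
equals 1, i.e. x² - (c² - 1) y² = -1 has a solution in K, then the binary dihedral group of order 4n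
(generators σ, τ with τ² = σⁿ = (τσ)²) is isomorphic to a subgroup of SL(2, K). (The published
statement is an equivalence; this row is the direction realising the group from a solution of the
conic.) -/
theorem result {K : Type u} {L : Type v}
    [Field K] [Field L] [CharZero K] [Algebra K L] (n : ℕ) (hn : 2 ≤ n) (ξ : L)
    (hξ : IsPrimitiveRoot ξ (2 * n)) (c : K) (hc : algebraMap K L (2 * c) = ξ + ξ⁻¹)
    (hsol : ∃ x y : K, x ^ 2 - (c ^ 2 - 1) * y ^ 2 = -1) :
    ∃ f : QuaternionGroup n →* Matrix.SpecialLinearGroup (Fin 2) K, Function.Injective f := by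
  classical
  obtain ⟨x, y, hxy⟩ := hsol
  obtain ⟨t, htdef⟩ : ∃ t, t = 2 * c := ⟨_, rfl⟩
  have ht : algebraMap K L t = ξ + ξ⁻¹ := by rw [htdef]; exact hc
  obtain ⟨a, hadef⟩ : ∃ a, a = x + c * y := ⟨_, rfl⟩
  have hTdet' : -(a * a) - y * (y - a * t) = 1 := by
    rw [hadef, htdef]; linear_combination (-1 : K) * hxy
  obtain ⟨g, hg⟩ : ∃ g : Matrix.SpecialLinearGroup (Fin 2) K,
      (g : Matrix (Fin 2) (Fin 2) K) = Mm t := ⟨⟨Mm t, Mm_det t⟩, rfl⟩
  obtain ⟨T, hT⟩ : ∃ T : Matrix.SpecialLinearGroup (Fin 2) K,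
      (T : Matrix (Fin 2) (Fin 2) K) = Tm a y t :=
    ⟨⟨Tm a y t, by rw [Tm_det]; exact hTdet'⟩, rfl⟩
  have hord : orderOf g = 2 * n := orderOf_eq_of_primitive (2 * n) (by omega) ξ hξ t ht g hg
  have hg2n : g ^ (2 * n) = 1 := by rw [← hord]; exact pow_orderOf_eq_one g
  have hTT : T * T = g ^ n := by
    apply Subtype.ext
    show ((T * T : Matrix.SpecialLinearGroup (Fin 2) K) : Matrix (Fin 2) (Fin 2) K) =
      ((g ^ n : Matrix.SpecialLinearGroup (Fin 2) K) : Matrix (Fin 2) (Fin 2) K)
    rw [Matrix.SpecialLinearGroup.coe_mul, Matrix.SpecialLinearGroup.coe_pow, hT, hg,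
      Tm_sq a y t hTdet', Mm_pow_half n hn ξ hξ t ht]
  have hgTg : g * T * g = T := by
    apply Subtype.ext
    show ((g * T * g : Matrix.SpecialLinearGroup (Fin 2) K) : Matrix (Fin 2) (Fin 2) K) =
      (T : Matrix (Fin 2) (Fin 2) K)
    rw [Matrix.SpecialLinearGroup.coe_mul, Matrix.SpecialLinearGroup.coe_mul, hg, hT, Mm_Tm_Mm]
  have h1 : g * T = T * g⁻¹ := by
    calc g * T = g * T * g * g⁻¹ := by rw [mul_assoc (g * T), mul_inv_cancel, mul_one]
      _ = T * g⁻¹ := by rw [hgTg]
  have hgT : ∀ k : ℕ, g ^ k * T = T * (g ^ k)⁻¹ := by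
    have hsc : SemiconjBy T g⁻¹ g := h1.symm
    intro k
    have := (hsc.pow_right k).eq
    rw [inv_pow] at this
    exact this.symm
  haveI : NeZero (2 * n) := ⟨by omega⟩
  have hρadd : ∀ i j : ZMod (2 * n), g ^ (i + j).val = g ^ i.val * g ^ j.val := by
    intro i j
    rw [ZMod.val_add, ← pow_add, ← pow_eq_pow_mod _ hg2n]
  have hρneg : ∀ i : ZMod (2 * n), g ^ (-i).val = (g ^ i.val)⁻¹ := by
    intro i
    apply eq_inv_of_mul_eq_one_left
    rw [← hρadd, neg_add_cancel, ZMod.val_zero, pow_zero]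
  have hρn : g ^ ((n : ZMod (2 * n))).val = g ^ n := by
    rw [ZMod.val_cast_of_lt (by omega)]
  have hρinj : ∀ i j : ZMod (2 * n), g ^ i.val = g ^ j.val → i = j := by
    intro i j h
    apply ZMod.val_injective
    have hi : i.val ∈ Set.Iio (orderOf g) := by rw [Set.mem_Iio, hord]; exact ZMod.val_lt i
    have hj : j.val ∈ Set.Iio (orderOf g) := by rw [Set.mem_Iio, hord]; exact ZMod.val_lt j
    exact pow_injOn_Iio_orderOf (x := g) hi hj h
  let F : QuaternionGroup n → Matrix.SpecialLinearGroup (Fin 2) K := fun q =>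
    match q with
    | QuaternionGroup.a i => g ^ i.val
    | QuaternionGroup.xa i => T * g ^ i.val
  have hFmul : ∀ p q, F (p * q) = F p * F q := by
    rintro (i | i) (j | j)
    · show F (QuaternionGroup.a i * QuaternionGroup.a j) = g ^ i.val * g ^ j.val
      rw [QuaternionGroup.a_mul_a]
      exact hρadd i j
    · show F (QuaternionGroup.a i * QuaternionGroup.xa j) = g ^ i.val * (T * g ^ j.val)
      rw [QuaternionGroup.a_mul_xa]
      show T * g ^ (j - i).val = g ^ i.val * (T * g ^ j.val)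
      rw [← mul_assoc, hgT, mul_assoc, sub_eq_neg_add, hρadd, hρneg]
    · show F (QuaternionGroup.xa i * QuaternionGroup.a j) = T * g ^ i.val * g ^ j.val
      rw [QuaternionGroup.xa_mul_a]
      show T * g ^ (i + j).val = T * g ^ i.val * g ^ j.val
      rw [hρadd, mul_assoc]
    · show F (QuaternionGroup.xa i * QuaternionGroup.xa j) = T * g ^ i.val * (T * g ^ j.val)
      rw [QuaternionGroup.xa_mul_xa]
      show g ^ ((n : ZMod (2 * n)) + j - i).val = T * g ^ i.val * (T * g ^ j.val)
      have e : (n : ZMod (2 * n)) + j - i = (n : ZMod (2 * n)) + (-i + j) := by ring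
      have key : T * g ^ i.val * (T * g ^ j.val) = T * T * ((g ^ i.val)⁻¹ * g ^ j.val) := by
        calc T * g ^ i.val * (T * g ^ j.val) = T * ((g ^ i.val * T) * g ^ j.val) := by
              simp only [mul_assoc]
          _ = T * ((T * (g ^ i.val)⁻¹) * g ^ j.val) := by rw [hgT]
          _ = T * T * ((g ^ i.val)⁻¹ * g ^ j.val) := by simp only [mul_assoc]
      rw [key, e, hρadd, hρadd, hρneg, hρn, hTT]
  have hTnot : ∀ k : ZMod (2 * n), T ≠ g ^ k.val := by
    intro k hk
    have hc1 : g * T = T * g := by rw [hk, ← pow_succ', ← pow_succ]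
    have h2 : T * g = T * g⁻¹ := hc1.symm.trans h1
    have hgg : g = g⁻¹ := mul_left_cancel h2
    have hg2 : g ^ 2 = 1 := by
      rw [pow_two]
      nth_rewrite 2 [hgg]
      exact mul_inv_cancel g
    have h3 := orderOf_dvd_of_pow_eq_one hg2
    rw [hord] at h3
    have := Nat.le_of_dvd (by norm_num) h3
    omega
  refine ⟨MonoidHom.mk' F hFmul, ?_⟩
  rintro (i | i) (j | j) h
  · have h' : g ^ i.val = g ^ j.val := h
    rw [hρinj i j h']
  · exfalso
    have h' : g ^ i.val = T * g ^ j.val := h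
    apply hTnot (i - j)
    rw [sub_eq_add_neg, hρadd, hρneg, h', mul_assoc, mul_inv_cancel, mul_one]
  · exfalso
    have h' : T * g ^ i.val = g ^ j.val := h
    apply hTnot (j - i)
    rw [sub_eq_add_neg, hρadd, hρneg, ← h', mul_assoc, mul_inv_cancel, mul_one]
  · have h' : T * g ^ i.val = T * g ^ j.val := h
    rw [hρinj i j (mul_left_cancel h')]

end Groth.Agent.S14849
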