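import Groth.Statements.S14850
import Groth.Agent.Lib.Helper22.Coeff3

set_option autoImplicit false
universe u v
open HopfRep

namespace Groth.Agent.S14850

open TensorProduct in
/-- Over a field K, a nonzero coalgebra C is simple if and only if C is isotypic as a right comodule
over itself, i.e. C is the internal direct sum of the images of a family of injective comodule maps
from one simple right C-comodule E. Here a subcoalgebra of C is a subspace B whose comultiplication
lands in the image of B ⊗ B, and C is simple when its only subcoalgebras are 0 and C. (Stated for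
the right regular comodule; the published statement allows left or right.) -/
theorem result {K : Type u} {C : Type v} [Field K] [AddCommGroup C]
    [Module K C] [Coalgebra K C] [Nontrivial C] :
    (∀ B : Submodule K C, (∀ b ∈ B, CoalgebraStruct.comul (R := K) b ∈ LinearMap.range (TensorProduct.map B.subtype B.subtype)) → B = ⊥ ∨ B = ⊤) ↔
    ∃ (E : Type v) (_ : AddCommGroup E) (_ : Module K E) (_ : HopfRep.Comod K C E),
      HopfRep.IsSimpleComod K C E ∧
      ∃ (ι : Type v) (f : ι → (E →ₗ[K] C)),
        (∀ i, Hoch.IsComodHom C (f i) ∧ Function.Injective (f i)) ∧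
        iSupIndep (fun i => LinearMap.range (f i)) ∧ (⨆ i, LinearMap.range (f i)) = ⊤ := by
  open Groth.Agent.Helper12 Groth.Agent.Helper22.DualAct Groth.Agent.Helper22.Coeff in
  constructor
  · intro hsimple
    classical
    have htop0 : (⊤ : Submodule K C) ≠ ⊥ := top_ne_bot
    obtain ⟨E, -, hE⟩ := exists_simpleSub_le (k := K) (C := C) (⊤ : Submodule K C)
      isSubcomod_top htop0
    letI : HopfRep.Comod K C ↥E := subComod E hE.1
    have hEsimple : HopfRep.IsSimpleComod K C ↥E := isSimpleComod_sub E hE
    haveI : Nontrivial ↥E := hEsimple.1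
    have hcf : cf (k := K) (C := C) ↥E = ⊤ := by
      rcases hsimple _ (cf_isSubcoalg ↥E) with h | h
      · exact absurd h (cf_ne_bot ↥E)
      · exact h
    have hatoms : sSup {a : Submodule (WithConv (C →ₗ[K] K)) (AsMod K C C) | IsAtom a} = ⊤ := by
      rw [eq_top_iff]
      have h1 : sSup (simpleSet (k := K) (C := C) ↥E) = ⊤ := by
        rw [← ofSub_eq_top, ofSub_sSup_simpleSet, hcf]
      rw [← h1]
      apply sSup_le_sSup
      intro N hN
      haveI := simpleSet_simple hEsimple ⟨N, hN⟩
      exact isSimpleModule_iff_isAtom.mp inferInstance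
    obtain ⟨s, hsind, hstop, hsatom⟩ := exists_sSupIndep_of_sSup_atoms_eq_top hatoms
    have hj : ∀ i : s, ∃ j : ↥E →ₗ[K] C, Hoch.IsComodHom C j ∧ Function.Injective j ∧
        LinearMap.range j = ofSub C i.1 := by
      intro i
      haveI : IsSimpleModule (WithConv (C →ₗ[K] K)) ↥(i.1) :=
        isSimpleModule_iff_isAtom.mpr (hsatom i.2)
      obtain ⟨e⟩ := exists_equiv_of_simple_le hEsimple i.1 (by rw [hcf]; exact le_top)
      exact exists_hom_of_equiv i.1 e
    choose f hf1 hf2 hf3 using hj
    refine ⟨↥E, inferInstance, inferInstance, subComod E hE.1, hEsimple, ↥s, f,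
      fun i => ⟨hf1 i, hf2 i⟩, ?_, ?_⟩
    · simp only [hf3]
      exact iSupIndep_ofSub C _ ((sSupIndep_iff s).mp hsind)
    · simp only [hf3]
      rw [← ofSub_iSup, ← sSup_eq_iSup', hstop, ofSub_top]
  · rintro ⟨E, _, _, _, hE, ι, f, hf, -, htop⟩ B hB
    by_cases hB0 : B = ⊥
    · exact Or.inl hB0
    right
    have hcf : cf (k := K) (C := C) E = ⊤ := by
      rw [eq_top_iff, ← htop]
      apply iSup_le
      intro i
      exact range_le_cf (hf i).1
    rw [eq_top_iff, ← hcf]
    exact cf_le_of_subcomod_le hE B (isSubcomod_of_subcoalg B hB) hB0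
      (by rw [hcf]; exact le_top) B hB le_rfl

end Groth.Agent.S14850
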