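import Groth.Statements.S14851
import Groth.Agent.Lib.Helper22.Coeff2

set_option autoImplicit false
universe u v w w'
open HopfRep

namespace Groth.Agent.S14851

open TensorProduct in
/-- The map E ↦ C(E) from isomorphism classes of simple comodules to simple subcoalgebras is injective,
that is: over a field K, two simple right comodules E, E' over a coalgebra C with the same
coefficient space D (the least subspace D' of C such that the coaction lands in E ⊗ D', resp. E' ⊗
D') are isomorphic as comodules. (The published statement is made for a cosemisimple coalgebra and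
for left comodules; the printed argument for this part uses neither restriction.) -/
theorem result {K : Type u} {C : Type v} [Field K]
    [AddCommGroup C] [Module K C] [Coalgebra K C]
    {E : Type w} [AddCommGroup E] [Module K E] [HopfRep.Comod K C E]
    {E' : Type w'} [AddCommGroup E'] [Module K E'] [HopfRep.Comod K C E']
    (hE : HopfRep.IsSimpleComod K C E) (hE' : HopfRep.IsSimpleComod K C E') (D : Submodule K C)
    (hD : IsLeast {D' : Submodule K C |
      ∀ e : E, HopfRep.Comod.coact (k := K) (A := C) e ∈ LinearMap.range (LinearMap.lTensor E D'.subtype)} D)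
    (hD' : IsLeast {D' : Submodule K C |
      ∀ e : E', HopfRep.Comod.coact (k := K) (A := C) e ∈ LinearMap.range (LinearMap.lTensor E' D'.subtype)} D) :
    ∃ e : E ≃ₗ[K] E', Hoch.IsComodHom C e.toLinearMap := by
  have h1 := Groth.Agent.Helper22.Coeff.eq_cf_of_isLeast E D hD
  have h2 := Groth.Agent.Helper22.Coeff.eq_cf_of_isLeast E' D hD'
  haveI := hE.1
  obtain ⟨f, hf⟩ : ∃ f : E →ₗ[K] K, Groth.Agent.Helper22.Coeff.coef (C := C) E f ≠ 0 := by
    by_contra hcon
    push_neg at hcon
    apply Groth.Agent.Helper22.Coeff.cf_ne_bot (k := K) (C := C) E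
    unfold Groth.Agent.Helper22.Coeff.cf
    simp [hcon]
  haveI := (Groth.Agent.Helper22.DualAct.isSimpleModule_iff (k := K) (C := C) E).mpr hE
  haveI : IsSimpleModule (WithConv (C →ₗ[K] K))
      (Groth.Agent.Helper22.Coeff.coefRange (k := K) (C := C) E f) :=
    IsSimpleModule.congr (Groth.Agent.Helper22.Coeff.coefRangeEquiv hE hf).symm
  have hT : Groth.Agent.Helper22.DualAct.ofSub C
      (Groth.Agent.Helper22.Coeff.coefRange (k := K) (C := C) E f) ≤
      Groth.Agent.Helper22.Coeff.cf (k := K) (C := C) E' := by
    rw [Groth.Agent.Helper22.Coeff.ofSub_coefRange, ← h2, h1]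
    exact le_iSup (fun f => LinearMap.range (Groth.Agent.Helper22.Coeff.coef (C := C) E f)) f
  obtain ⟨e'⟩ := Groth.Agent.Helper22.Coeff.exists_equiv_of_simple_le hE' _ hT
  exact ⟨Groth.Agent.Helper22.DualAct.ofModEquiv
      ((Groth.Agent.Helper22.Coeff.coefRangeEquiv hE hf).trans e'.symm),
    Groth.Agent.Helper22.DualAct.isComodHom_ofModEquiv _⟩

end Groth.Agent.S14851
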