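import Groth.Statements.S14852
import Mathlib
import Groth.Agent.Lib.Helper22.CoalgDecomp2

set_option autoImplicit false
universe u v w w'
open HopfRep

namespace Groth.Agent.S14852

open TensorProduct in
/-- Over a field K, let C be a cosemisimple coalgebra and D₁ ≠ D₂ simple subcoalgebras of C. If V is a
right C-comodule whose coaction lands in V ⊗ D₁ and W one whose coaction lands in W ⊗ D₂, then the
only comodule map V → W is zero. Here a subcoalgebra of C is a subspace B whose comultiplication
lands in the image of B ⊗ B, and a simple subcoalgebra is a nonzero subcoalgebra D whose only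
subcoalgebras contained in D are 0 and D; cosemisimple means C is the internal direct sum of a
family of simple subcoalgebras. (The published statement is for quasi-coherent G-sheaves on a scheme
with trivial action of G = Spec C; this row is the statement on spaces of sections to which its
proof reduces.) -/
theorem result {K : Type u} {C : Type v} [Field K]
    [AddCommGroup C] [Module K C] [Coalgebra K C]
    (hC : ∃ (ι : Type v) (D : ι → Submodule K C), iSupIndep D ∧ iSup D = ⊤ ∧ ∀ i,
        D i ≠ ⊥ ∧ (∀ b ∈ (D i), CoalgebraStruct.comul (R := K) b ∈ LinearMap.range (TensorProduct.map (D i).subtype (D i).subtype)) ∧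
        ∀ B : Submodule K C, B ≤ D i → (∀ b ∈ B, CoalgebraStruct.comul (R := K) b ∈ LinearMap.range (TensorProduct.map B.subtype B.subtype)) → B = ⊥ ∨ B = D i)
    (D₁ D₂ : Submodule K C) (hne : D₁ ≠ D₂)
    (h₁ : D₁ ≠ ⊥ ∧ (∀ b ∈ D₁, CoalgebraStruct.comul (R := K) b ∈ LinearMap.range (TensorProduct.map D₁.subtype D₁.subtype)) ∧ ∀ B : Submodule K C, B ≤ D₁ → (∀ b ∈ B, CoalgebraStruct.comul (R := K) b ∈ LinearMap.range (TensorProduct.map B.subtype B.subtype)) → B = ⊥ ∨ B = D₁)
    (h₂ : D₂ ≠ ⊥ ∧ (∀ b ∈ D₂, CoalgebraStruct.comul (R := K) b ∈ LinearMap.range (TensorProduct.map D₂.subtype D₂.subtype)) ∧ ∀ B : Submodule K C, B ≤ D₂ → (∀ b ∈ B, CoalgebraStruct.comul (R := K) b ∈ LinearMap.range (TensorProduct.map B.subtype B.subtype)) → B = ⊥ ∨ B = D₂)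
    {V : Type w} [AddCommGroup V] [Module K V] [HopfRep.Comod K C V]
    {W : Type w'} [AddCommGroup W] [Module K W] [HopfRep.Comod K C W]
    (hV : ∀ v : V, HopfRep.Comod.coact (k := K) (A := C) v ∈ LinearMap.range (LinearMap.lTensor V D₁.subtype))
    (hW : ∀ w : W, HopfRep.Comod.coact (k := K) (A := C) w ∈ LinearMap.range (LinearMap.lTensor W D₂.subtype))
    (φ : V →ₗ[K] W) (hφ : Hoch.IsComodHom C φ) : φ = 0 := by
  obtain ⟨ι, D, hind, htop, hDall⟩ := hC
  have hD : ∀ i, ∀ d ∈ D i, CoalgebraStruct.comul (R := K) d ∈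
      LinearMap.range (TensorProduct.map (D i).subtype (D i).subtype) := fun i => (hDall i).2.1
  have hDs : ∀ i, ∀ B : Submodule K C, B ≤ D i →
      (∀ b ∈ B, CoalgebraStruct.comul (R := K) b ∈
        LinearMap.range (TensorProduct.map B.subtype B.subtype)) → B = ⊥ ∨ B = D i :=
    fun i => (hDall i).2.2
  obtain ⟨i, hi⟩ := Groth.Agent.Helper22.CoalgDecomp.simple_eq_member D hD hind htop hDs D₁
    h₁.1 h₁.2.1 h₁.2.2
  obtain ⟨j, hj⟩ := Groth.Agent.Helper22.CoalgDecomp.simple_eq_member D hD hind htop hDs D₂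
    h₂.1 h₂.2.1 h₂.2.2
  subst hi
  subst hj
  have hij : i ≠ j := by
    rintro rfl
    exact hne rfl
  apply LinearMap.ext
  intro v
  rw [LinearMap.zero_apply]
  have hcomm := LinearMap.congr_fun hφ v
  simp only [LinearMap.comp_apply] at hcomm
  -- ρ (φ v) lies in W ⊗ D i and in W ⊗ D j
  have h1 : HopfRep.Comod.coact (k := K) (A := C) (φ v) ∈
      LinearMap.range (LinearMap.lTensor W (D i).subtype) := by
    rw [hcomm]
    obtain ⟨z, hz⟩ := hV v
    rw [← hz]
    refine ⟨LinearMap.rTensor (D i) φ z, ?_⟩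
    rw [← LinearMap.comp_apply, ← LinearMap.comp_apply, LinearMap.lTensor_comp_rTensor,
      LinearMap.rTensor_comp_lTensor]
  have h2 : HopfRep.Comod.coact (k := K) (A := C) (φ v) ∈
      LinearMap.range (LinearMap.lTensor W (D j).subtype) := by
    exact hW (φ v)
  have h3 := Groth.Agent.Helper22.CoalgDecomp.lTensor_P_of_mem D hind htop h2
  have h4 := Groth.Agent.Helper22.CoalgDecomp.lTensor_P_of_mem_ne D hind htop hij h1
  rw [h4] at h3
  have h5 := Groth.Agent.Helper12.slice_counit_coact (k := K) (C := C) (φ v)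
  rw [← h3, map_zero] at h5
  exact h5.symm

end Groth.Agent.S14852
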