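import Groth.Statements.S14856
import Mathlib

set_option autoImplicit false
universe u
open CAlg

namespace Groth.Agent.S14856

private lemma ghost_eq (p : ℕ) [Fact p.Prime] (S : Type u) [CommRing S] (x : WittVector p S) (n : ℕ) :
    WittVector.ghostComponent n x = ∑ i ∈ Finset.range (n+1), (p:S)^i * x.coeff i ^ p^(n-i) := by
  rw [WittVector.ghostComponent_apply, wittPolynomial_eq_sum_C_mul_X_pow]
  simp [map_sum]

private lemma key_ineq (p : ℕ) (hp : 2 ≤ p) (k s : ℕ) (hs : 1 ≤ s) : k + s ≤ s * p^k := by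
  have h1 : k + 1 ≤ p^k := Nat.lt_pow_self hp
  calc k + s ≤ s * (k+1) := by nlinarith
    _ ≤ s * p^k := Nat.mul_le_mul_left _ h1

private lemma term_dvd (p : ℕ) (hp : 2 ≤ p) (S : Type u) [CommRing S] (s : ℕ) (hs : 1 ≤ s) (a : S)
    (h : (p:S)^s ∣ a) (i n : ℕ) (hin : i ≤ n) : (p:S)^(n+s) ∣ (p:S)^i * a^(p^(n-i)) := by
  have h1 : (p:S)^(i + s * p^(n-i)) ∣ (p:S)^i * a^(p^(n-i)) := by
    rw [pow_add, pow_mul]
    exact mul_dvd_mul_left _ (pow_dvd_pow_of_dvd h _)
  refine dvd_trans (pow_dvd_pow _ ?_) h1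
  have := key_ineq p hp (n-i) s hs
  omega


/-- Let p be a prime and S a commutative ring in which p is a non-zero-divisor. For a p-typical Witt
vector x over S, a natural number m and an integer s ≥ 1, the power p^s divides each of the Witt
components x_0, …, x_m if and only if p^(n+s) divides the n-th ghost component w_n(x) = x_0^(p^n) +
p x_1^(p^(n-1)) + ⋯ + p^n x_n for every n ≤ m. -/
theorem result (p : ℕ) [Fact p.Prime] (S : Type u) [CommRing S]
    (hS : ∀ y : S, (p : S) * y = 0 → y = 0) (x : WittVector p S) (m s : ℕ) (hs : 1 ≤ s) :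
    (∀ i ≤ m, (p : S) ^ s ∣ x.coeff i) ↔
      (∀ n ≤ m, (p : S) ^ (n + s) ∣ WittVector.ghostComponent n x) := by
  have hp2 : 2 ≤ p := (Fact.out : p.Prime).two_le
  have hcancel : ∀ (i : ℕ) (y : S), (p:S)^i * y = 0 → y = 0 := by
    intro i
    induction i with
    | zero => intro y hy; simpa using hy
    | succ i ih =>
      intro y hy
      apply ih; apply hS; rw [← mul_assoc, ← pow_succ']; exact hy
  constructor
  · intro h n hn
    rw [ghost_eq]
    apply Finset.dvd_sum
    intro i hi
    have hi' : i ≤ n := Nat.lt_succ_iff.mp (Finset.mem_range.mp hi)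
    exact term_dvd p hp2 S s hs _ (h i (hi'.trans hn)) i n hi'
  · intro h
    intro i
    induction i using Nat.strong_induction_on with
    | _ i ih =>
      intro him
      have hw := h i him
      rw [ghost_eq, Finset.sum_range_succ] at hw
      have h1 : (p:S)^(i+s) ∣ ∑ j ∈ Finset.range i, (p:S)^j * x.coeff j ^ p^(i-j) := by
        apply Finset.dvd_sum
        intro j hj
        have hj' : j < i := Finset.mem_range.mp hj
        exact term_dvd p hp2 S s hs _ (ih j hj' (hj'.le.trans him)) j i hj'.le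
      have h2 : (p:S)^(i+s) ∣ (p:S)^i * x.coeff i ^ p^(i-i) := (dvd_add_right h1).mp hw
      rw [Nat.sub_self, pow_zero, pow_one, pow_add] at h2
      obtain ⟨c, hc⟩ := h2
      refine ⟨c, ?_⟩
      have : (p:S)^i * (x.coeff i - (p:S)^s * c) = 0 := by rw [mul_sub, hc]; ring
      exact sub_eq_zero.mp (hcancel i _ this)

end Groth.Agent.S14856
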