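import Groth.Statements.S14857
import Mathlib

set_option autoImplicit false
open CAlg

namespace Groth.Agent.S14857

/-- For a prime p, the Teichmüller representative [p^p] of the element p^p of the p-adic integers is
divisible by p in the ring of p-typical Witt vectors W(ℤ_p). -/
theorem result (p : ℕ) [Fact p.Prime] :
    (p : WittVector p ℤ_[p]) ∣ WittVector.teichmuller p ((p : ℤ_[p]) ^ p) := by
  classical
  have hp : p.Prime := Fact.out
  set T : WittVector p ℤ_[p] := WittVector.teichmuller p (p : ℤ_[p]) with hT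
  have h1 : WittVector.teichmuller p ((p : ℤ_[p]) ^ p) = T ^ p := map_pow _ _ _
  rw [h1]
  have hc0 : (T - (p : WittVector p ℤ_[p])).coeff 0 = 0 := by
    have h2 := map_sub (WittVector.constantCoeff (p := p) (R := ℤ_[p])) T (p : WittVector p ℤ_[p])
    have h3 := map_natCast (WittVector.constantCoeff (p := p) (R := ℤ_[p])) p
    change (T - (p : WittVector p ℤ_[p])).coeff 0 = T.coeff 0 - ((p : WittVector p ℤ_[p])).coeff 0 at h2
    change ((p : WittVector p ℤ_[p])).coeff 0 = (p : ℤ_[p]) at h3
    rw [h2, h3, hT, WittVector.teichmuller_coeff_zero, sub_self]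
  obtain ⟨z, hz⟩ : ∃ z : WittVector p ℤ_[p],
      T - (p : WittVector p ℤ_[p]) = WittVector.verschiebung z := by
    refine ⟨(T - (p : WittVector p ℤ_[p])).shift 1, ?_⟩
    have h2 := WittVector.eq_iterate_verschiebung (x := T - (p : WittVector p ℤ_[p])) (n := 1)
      (by intro i hi; interval_cases i; exact hc0)
    simpa using h2
  have hV2 : (p : WittVector p ℤ_[p]) ∣ WittVector.verschiebung z ^ 2 := by
    refine ⟨WittVector.verschiebung (z * z), ?_⟩
    rw [pow_two, ← WittVector.verschiebung_mul_frobenius, WittVector.frobenius_verschiebung,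
      ← mul_assoc, mul_comm (z * z) (p : WittVector p ℤ_[p]), ← nsmul_eq_mul, map_nsmul,
      nsmul_eq_mul]
  have hTp : T - WittVector.verschiebung z = (p : WittVector p ℤ_[p]) := by
    rw [← hz]; ring
  have h3 : (p : WittVector p ℤ_[p]) ∣ T ^ p - WittVector.verschiebung z ^ p := by
    have h4 := sub_dvd_pow_sub_pow T (WittVector.verschiebung z) p
    rwa [hTp] at h4
  have h4 : (p : WittVector p ℤ_[p]) ∣ WittVector.verschiebung z ^ p :=
    dvd_trans hV2 (pow_dvd_pow _ hp.two_le)
  have h5 := dvd_add h3 h4
  rwa [sub_add_cancel] at h5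

end Groth.Agent.S14857
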