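import Groth.Statements.S14859
import Mathlib

set_option autoImplicit false
universe u v w
open Disp

namespace Groth.Agent.S14859

/-- Let p be a prime, R a commutative ring with p-typical Witt vectors W = W(R), and (P, Q, F, V⁻¹) a
3n-display over R with a normal decomposition P = L ⊕ T, Q = L + I_R·T. Then V⁻¹ ⊕ F : L ⊕ T → P is
a Frobenius-linear isomorphism; stated here in the case where L and T are free with bases (l_i) and
(t_j): the family consisting of the V⁻¹(l_i) and the F(t_j) is a basis of the W-module P, i.e. it is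
linearly independent over W and spans P. -/
theorem result (p : ℕ) [Fact p.Prime] (R : Type u) [CommRing R]
    (P : Type v) [AddCommGroup P] [Module (WittVector p R) P] (D : W4c1extbt610.Display3n p R P)
    (L T : Submodule (WittVector p R) P) (hLT : IsCompl L T)
    (hQ : D.Q = L ⊔ W4c1extbt610.IV p R • T) (hLQ : L ≤ D.Q)
    (ιL ιT : Type w) (bL : Module.Basis ιL (WittVector p R) L) (bT : Module.Basis ιT (WittVector p R) T) :
    LinearIndependent (WittVector p R)
        (Sum.elim (fun i : ιL => D.Vinv ⟨(bL i : P), hLQ (bL i).2⟩) (fun j : ιT => D.F (bT j : P))) ∧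
      Submodule.span (WittVector p R)
        (Set.range (Sum.elim (fun i : ιL => D.Vinv ⟨(bL i : P), hLQ (bL i).2⟩) (fun j : ιT => D.F (bT j : P)))) = ⊤ := by
  classical
  have := D.finite
  set v : ιL ⊕ ιT → P := Sum.elim (fun i : ιL => D.Vinv ⟨(bL i : P), hLQ (bL i).2⟩)
    (fun j : ιT => D.F (bT j : P)) with hv
  set Sp : Submodule (WittVector p R) P := Submodule.span (WittVector p R) (Set.range v) with hSp
  -- every element of IV is a Verschiebung
  have hIV : ∀ r ∈ W4c1extbt610.IV p R, ∃ w : WittVector p R, r = WittVector.verschiebung w := by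
    intro r hr
    unfold W4c1extbt610.IV at hr
    induction hr using Submodule.span_induction with
    | mem x hx => obtain ⟨w, rfl⟩ := hx; exact ⟨w, rfl⟩
    | zero => exact ⟨0, (map_zero _).symm⟩
    | add x y _ _ hx hy =>
      obtain ⟨a, rfl⟩ := hx
      obtain ⟨b, rfl⟩ := hy
      exact ⟨a + b, (map_add _ a b).symm⟩
    | smul c x _ hx =>
      obtain ⟨a, rfl⟩ := hx
      refine ⟨a * WittVector.frobenius c, ?_⟩
      rw [WittVector.verschiebung_mul_frobenius, smul_eq_mul, mul_comm]
  have hITQ : W4c1extbt610.IV p R • T ≤ D.Q := by rw [hQ]; exact le_sup_right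
  -- the restrictions
  let VL : L →ₛₗ[(WittVector.frobenius : WittVector p R →+* WittVector p R)] P :=
    D.Vinv.comp (Submodule.inclusion hLQ)
  let FT : T →ₛₗ[(WittVector.frobenius : WittVector p R →+* WittVector p R)] P :=
    D.F.comp T.subtype
  have hVL : ∀ l : L, VL l ∈ Sp := by
    have h1 : Submodule.span (WittVector p R) (Set.range bL) ≤ Sp.comap VL := by
      rw [Submodule.span_le]
      rintro _ ⟨i, rfl⟩
      show VL (bL i) ∈ Sp
      exact Submodule.subset_span ⟨Sum.inl i, rfl⟩
    rw [bL.span_eq] at h1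
    exact fun l => h1 Submodule.mem_top
  have hFT : ∀ t : T, FT t ∈ Sp := by
    have h1 : Submodule.span (WittVector p R) (Set.range bT) ≤ Sp.comap FT := by
      rw [Submodule.span_le]
      rintro _ ⟨j, rfl⟩
      show FT (bT j) ∈ Sp
      exact Submodule.subset_span ⟨Sum.inr j, rfl⟩
    rw [bT.span_eq] at h1
    exact fun t => h1 Submodule.mem_top
  have hIT : ∀ y : P, y ∈ W4c1extbt610.IV p R • T → ∀ hy : y ∈ D.Q, D.Vinv ⟨y, hy⟩ ∈ Sp := by
    intro y hy
    refine Submodule.smul_induction_on' (p := fun y _ => ∀ hy : y ∈ D.Q, D.Vinv ⟨y, hy⟩ ∈ Sp) hy ?_ ?_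
    · intro r hr t ht hy
      obtain ⟨w, rfl⟩ := hIV r hr
      have e : D.Vinv ⟨WittVector.verschiebung w • t, hy⟩ = w • D.F t :=
        D.Vinv_verschiebung_smul w t
      rw [e]
      exact Sp.smul_mem w (hFT ⟨t, ht⟩)
    · intro x hx y hy' ihx ihy hxy
      have hxQ : x ∈ D.Q := hITQ hx
      have hyQ : y ∈ D.Q := hITQ hy'
      have e : (⟨x + y, hxy⟩ : D.Q) = ⟨x, hxQ⟩ + ⟨y, hyQ⟩ := rfl
      rw [e, map_add]
      exact Sp.add_mem (ihx hxQ) (ihy hyQ)
  have hspan : Sp = ⊤ := by
    rw [eq_top_iff, ← D.span_range_Vinv, Submodule.span_le]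
    rintro _ ⟨q, rfl⟩
    have hq : (q : P) ∈ L ⊔ W4c1extbt610.IV p R • T := hQ ▸ q.2
    obtain ⟨l, hl, y, hy, hly⟩ := Submodule.mem_sup.mp hq
    have hlQ : l ∈ D.Q := hLQ hl
    have hyQ : y ∈ D.Q := hITQ hy
    have e : q = ⟨l, hlQ⟩ + ⟨y, hyQ⟩ := Subtype.ext hly.symm
    rw [SetLike.mem_coe, e, map_add]
    exact Sp.add_mem (hVL ⟨l, hl⟩) (hIT y hy hyQ)
  refine ⟨?_, hspan⟩
  -- linear independence via Orzech
  let b : Module.Basis (ιL ⊕ ιT) (WittVector p R) P :=
    (bL.prod bT).map (Submodule.prodEquivOfIsCompl L T hLT)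
  let f : ((ιL ⊕ ιT) →₀ WittVector p R) →ₗ[WittVector p R] P :=
    Finsupp.linearCombination (WittVector p R) v
  have hf : Function.Surjective f := by
    rw [← LinearMap.range_eq_top, Finsupp.range_linearCombination]
    exact hspan
  have : Module.Finite (WittVector p R) ((ιL ⊕ ιT) →₀ WittVector p R) :=
    Module.Finite.equiv b.repr
  let g : ((ιL ⊕ ιT) →₀ WittVector p R) →ₗ[WittVector p R] ((ιL ⊕ ιT) →₀ WittVector p R) :=
    b.repr.toLinearMap ∘ₗ f
  have hg : Function.Surjective g := b.repr.surjective.comp hf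
  have hginj : Function.Injective g := OrzechProperty.injective_of_surjective_endomorphism g hg
  have hfinj : Function.Injective f := by
    intro x y hxy
    apply hginj
    show b.repr (f x) = b.repr (f y)
    rw [hxy]
  exact hfinj

end Groth.Agent.S14859
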