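import Groth.Statements.S1486
import Groth.Agent.Lib.Helper15.FSm2
import Groth.Agent.Lib.Helper18.FormSm

set_option autoImplicit false
universe u
open FlatMor

namespace Groth.Agent.S1486

open AlgebraicGeometry CategoryTheory Limits in
/-- (1) ⇔ (3): a morphism f : X → Y is formally smooth (lifting against first order thickenings of
affine schemes, rings in the same universe) if and only if for all affine opens U ⊆ f⁻¹(V) the ring
map O_Y(V) → O_X(U) is formally smooth. -/
theorem result {X Y : Scheme.{u}} (f : X ⟶ Y) :
    MoreMor.IsFormallySmoothHom f ↔ ∀ (U : X.Opens) (V : Y.Opens) (hU : IsAffineOpen U) (hV : IsAffineOpen V) (hUV : U ≤ f ⁻¹ᵁ V),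
      letI := (f.appLE V U hUV).hom.toAlgebra
      Algebra.FormallySmooth Γ(Y, V) Γ(X, U) := by
  constructor
  · intro hf U V hU hV hUV
    exact Groth.Agent.Helper18.FormSm.formallySmooth_appLE_of_hom f hf hU hV hUV
  · intro H
    exact Groth.Agent.Helper15.FSm.isFormallySmoothHom_of_appLE f
      (fun U V hU hV hUV => H U V hU hV hUV)

end Groth.Agent.S1486
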