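import Groth.Statements.S14869
import Mathlib

set_option autoImplicit false
universe u v w
open CAlg

namespace Groth.Agent.S14869

open TensorProduct in
/-- Let S → R be a surjective homomorphism of commutative rings, let π : P_1 → P_2 be a surjective
homomorphism of S-modules with P_2 projective, and let π̄ : R ⊗_S P_1 → R ⊗_S P_2 be its base
change. Then every R-linear section σ̄ of π̄ lifts to a section of π: there is an S-linear map σ :
P_2 → P_1 with π ∘ σ = id whose base change R ⊗_S σ is σ̄. -/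
theorem result (S R : Type u) [CommRing S] [CommRing R] [Algebra S R]
    (hSR : Function.Surjective (algebraMap S R))
    (P₁ : Type v) [AddCommGroup P₁] [Module S P₁]
    (P₂ : Type w) [AddCommGroup P₂] [Module S P₂] [Module.Projective S P₂]
    (π : P₁ →ₗ[S] P₂) (hπ : Function.Surjective π)
    (σ' : R ⊗[S] P₂ →ₗ[R] R ⊗[S] P₁) (hσ' : (π.baseChange R).comp σ' = LinearMap.id) :
    ∃ σ : P₂ →ₗ[S] P₁, π.comp σ = LinearMap.id ∧ σ.baseChange R = σ' := by
  obtain ⟨σ₀, hσ₀⟩ := Module.projective_lifting_property π LinearMap.id hπ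
  have hσ₀' : ∀ p, π (σ₀ p) = p := fun p => LinearMap.congr_fun hσ₀ p
  have hq : Function.Surjective (TensorProduct.mk S R P₁ 1) := by
    intro z
    induction z using TensorProduct.induction_on with
    | zero => exact ⟨0, map_zero _⟩
    | tmul r x =>
      obtain ⟨s, rfl⟩ := hSR r
      refine ⟨s • x, ?_⟩
      rw [TensorProduct.mk_apply, TensorProduct.tmul_smul, TensorProduct.smul_tmul',
        ← Algebra.algebraMap_eq_smul_one]
    | add a b ha hb =>
      obtain ⟨x, rfl⟩ := ha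
      obtain ⟨y, rfl⟩ := hb
      exact ⟨x + y, map_add _ _ _⟩
  obtain ⟨δ₀, hδ₀⟩ := Module.projective_lifting_property (TensorProduct.mk S R P₁ 1)
    ((σ'.restrictScalars S).comp (TensorProduct.mk S R P₂ 1) -
      (TensorProduct.mk S R P₁ 1).comp σ₀) hq
  have hδ₀' : ∀ p, (1 : R) ⊗ₜ[S] δ₀ p = σ' (1 ⊗ₜ p) - 1 ⊗ₜ σ₀ p := fun p =>
    LinearMap.congr_fun hδ₀ p
  refine ⟨σ₀ + δ₀ - σ₀.comp (π.comp δ₀), ?_, ?_⟩
  · ext p
    show π (σ₀ p + δ₀ p - σ₀ (π (δ₀ p))) = p
    rw [map_sub, map_add, hσ₀', hσ₀']; abel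
  · apply TensorProduct.AlgebraTensorModule.ext
    intro r p
    have hr : r ⊗ₜ[S] p = r • ((1 : R) ⊗ₜ[S] p) := by
      rw [TensorProduct.smul_tmul', smul_eq_mul, mul_one]
    rw [hr, map_smul, map_smul]
    congr 1
    rw [LinearMap.baseChange_tmul]
    show (1 : R) ⊗ₜ[S] (σ₀ p + δ₀ p - σ₀ (π (δ₀ p))) = σ' (1 ⊗ₜ p)
    rw [TensorProduct.tmul_sub, TensorProduct.tmul_add, hδ₀']
    have hz : (1 : R) ⊗ₜ[S] σ₀ (π (δ₀ p)) = 0 := by
      have h1 : (π.baseChange R) ((1 : R) ⊗ₜ[S] δ₀ p) = 0 := by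
        rw [hδ₀', map_sub, LinearMap.baseChange_tmul, hσ₀']
        have := LinearMap.congr_fun hσ' ((1 : R) ⊗ₜ[S] p)
        rw [LinearMap.comp_apply, LinearMap.id_apply] at this
        rw [this, sub_self]
      rw [LinearMap.baseChange_tmul] at h1
      have h2 := congrArg (σ₀.baseChange R) h1
      rw [LinearMap.baseChange_tmul, map_zero] at h2
      exact h2
    rw [hz, sub_zero]; abel

end Groth.Agent.S14869
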