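import Groth.Statements.S14871
import Mathlib

set_option autoImplicit false
universe u v
open PLie

namespace Groth.Agent.S14871

/-- Let `L` be a finite-dimensional Lie algebra over a field of characteristic `p` equipped with a
`p`-mapping `φ`. Then the solvable radical of `L` is stable under `φ` (it is a `p`-subalgebra). -/
theorem result
    (k : Type u) [Field k] (p : ℕ) [Fact p.Prime] [CharP k p]
    (L : Type v) [LieRing L] [LieAlgebra k L] [Module.Finite k L]
    (φ : PLie.PMap k p L) (x : L) (hx : x ∈ LieAlgebra.radical k L) :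
    φ x ∈ LieAlgebra.radical k L := by
  classical
  have hp : p = (p - 1) + 1 := (Nat.succ_pred_eq_of_pos (Fact.out : p.Prime).pos).symm
  let Z : LieIdeal k L :=
    { carrier := {z | ∀ y : L, ⁅y, z⁆ ∈ LieAlgebra.radical k L}
      add_mem' := fun {a b} ha hb y => by rw [lie_add]; exact add_mem (ha y) (hb y)
      zero_mem' := fun y => by rw [lie_zero]; exact zero_mem _
      smul_mem' := fun c a ha y => by
        rw [lie_smul]; exact (LieAlgebra.radical k L).smul_mem c (ha y)
      lie_mem := fun {w z} hz y => lie_mem_right k L (LieAlgebra.radical k L) y _ (hz w) }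
  have hsolv : LieAlgebra.IsSolvable Z := by
    obtain ⟨n, hn⟩ := LieAlgebra.IsSolvable.solvable k (LieAlgebra.radical k L)
    rw [LieIdeal.derivedSeries_eq_bot_iff] at hn
    apply LieAlgebra.IsSolvable.mk (R := k) (k := n + 1)
    rw [LieIdeal.derivedSeries_eq_bot_iff, LieAlgebra.derivedSeriesOfIdeal_add, eq_bot_iff, ← hn]
    apply LieAlgebra.derivedSeriesOfIdeal_mono
    rw [LieAlgebra.derivedSeriesOfIdeal_succ, LieAlgebra.derivedSeriesOfIdeal_zero]
    rw [LieSubmodule.lieIdeal_oper_eq_span, LieSubmodule.lieSpan_le]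
    rintro _ ⟨⟨a, ha⟩, ⟨b, hb⟩, rfl⟩
    exact hb a
  have hZ : Z ≤ LieAlgebra.radical k L := (LieAlgebra.LieIdeal.solvable_iff_le_radical k L Z).mp hsolv
  apply hZ
  intro y
  have h1 : ⁅φ x, y⁆ = (LieAlgebra.ad k L x ^ p) y := by
    rw [← φ.ad_map x]; rfl
  rw [← lie_skew, h1, hp, pow_succ', Module.End.mul_apply, LieAlgebra.ad_apply]
  exact neg_mem (lie_mem_left k L (LieAlgebra.radical k L) x _ hx)

end Groth.Agent.S14871
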