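import Groth.Statements.S14872
import Mathlib
import Groth.Agent.Lib.Helper22.PLie

set_option autoImplicit false
universe u v
open PLie

namespace Groth.Agent.S14872

/-- Let `L` be a finite-dimensional Lie algebra over a field of characteristic `p` equipped with a
`p`-mapping `φ`, and let `N` be its nilradical, i.e. the ideal of `L` that is nilpotent as a Lie
ring and contains every ideal of `L` nilpotent as a Lie ring. Then `N` is stable under `φ` (it is a
`p`-subalgebra). (The nilradical is given here through its characterising property; it is not the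
largest submodule on which `L` acts nilpotently.) -/
theorem result
    (k : Type u) [Field k] (p : ℕ) [Fact p.Prime] [CharP k p]
    (L : Type v) [LieRing L] [LieAlgebra k L] [Module.Finite k L]
    (φ : PLie.PMap k p L) (N : LieIdeal k L) (hN : LieRing.IsNilpotent N)
    (hmax : ∀ I : LieIdeal k L, LieRing.IsNilpotent I → I ≤ N)
    (x : L) (hx : x ∈ N) : φ x ∈ N := by
  classical
  have hp : p = (p - 1) + 1 := (Nat.succ_pred_eq_of_pos (Fact.out : p.Prime).pos).symm
  have hbr : ∀ y : L, ⁅y, φ x⁆ ∈ N := by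
    intro y
    have h1 : ⁅φ x, y⁆ = (LieAlgebra.ad k L x ^ p) y := by
      rw [← φ.ad_map x]; rfl
    rw [← lie_skew, h1, hp, pow_succ', Module.End.mul_apply, LieAlgebra.ad_apply]
    exact neg_mem (lie_mem_left k L N x _ hx)
  let I : LieIdeal k L :=
    { carrier := {z | ∃ n ∈ N, ∃ c : k, z = n + c • φ x}
      add_mem' := by
        rintro _ _ ⟨n₁, hn₁, c₁, rfl⟩ ⟨n₂, hn₂, c₂, rfl⟩
        exact ⟨n₁ + n₂, add_mem hn₁ hn₂, c₁ + c₂, by rw [add_smul]; abel⟩
      zero_mem' := ⟨0, zero_mem _, 0, by simp⟩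
      smul_mem' := by
        rintro c _ ⟨n, hn, c', rfl⟩
        exact ⟨c • n, N.smul_mem c hn, c * c', by rw [smul_add, smul_smul]⟩
      lie_mem := by
        rintro y _ ⟨n, hn, c, rfl⟩
        refine ⟨⁅y, n + c • φ x⁆, ?_, 0, by simp⟩
        rw [lie_add, lie_smul]
        exact add_mem (lie_mem_right k L N y n hn) (N.smul_mem c (hbr y)) }
  have hI : LieRing.IsNilpotent I := by
    obtain ⟨m, hm⟩ := Groth.Agent.Helper22.exists_lcs_eq_bot_of_isNilpotent N hN
    rw [LieAlgebra.isNilpotent_iff_forall (R := k)]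
    rintro ⟨z, n, hn, c, rfl⟩
    refine ⟨m, ?_⟩
    ext y
    rw [Groth.Agent.Helper22.ad_ideal_pow_apply]
    have hT : ∀ (j : ℕ) (y : L), y ∈ N.lcs L j →
        LieAlgebra.ad k L (n + c • φ x) y ∈ N.lcs L (j + 1) := by
      intro j y hy
      rw [map_add, map_smul, φ.ad_map, LinearMap.add_apply, LinearMap.smul_apply]
      refine add_mem (Groth.Agent.Helper22.ad_mem_lcs_succ N n hn j y hy) ((N.lcs L (j + 1)).smul_mem c ?_)
      rw [hp]
      exact Groth.Agent.Helper22.ad_pow_mem_lcs_succ N x hx (p - 1) j y hy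
    have h2 := Groth.Agent.Helper22.pow_mem_lcs N _ hT m (y : L)
    rw [hm] at h2
    simpa using h2
  exact hmax I hI ⟨0, zero_mem _, 1, by simp⟩

end Groth.Agent.S14872
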