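import Groth.Statements.S14879
import Mathlib

set_option autoImplicit false
universe u
open Finset
open AlgGrp

namespace Groth.Agent.S14879

theorem laplace_sum {R : Type*} [CommRing R] (p r : ℕ)
    (N : Matrix (Fin (p + r)) (Fin (p + r)) R) :
    ∑ π : Equiv.Perm (Fin (p + r)), (((Equiv.Perm.sign π : ℤˣ) : ℤ) : R) *
      ((N * π.permMatrix R).submatrix (Fin.castAdd r) (Fin.castAdd r)).det *
      ((N * π.permMatrix R).submatrix (Fin.natAdd p) (Fin.natAdd p)).det =
    ((p.factorial * r.factorial : ℕ) : R) * N.det := by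
  classical
  have hmul : ∀ π : Equiv.Perm (Fin (p + r)), N * π.permMatrix R = N.submatrix id π.symm := by
    intro π
    exact PEquiv.mul_toMatrix_toPEquiv N π
  let ω : Equiv.Perm (Fin p) → Equiv.Perm (Fin r) → Equiv.Perm (Fin (p + r)) :=
    fun σ τ => finSumFinEquiv.permCongr (Equiv.Perm.sumCongr σ τ)
  have hωl : ∀ σ τ i, ω σ τ (Fin.castAdd r i) = Fin.castAdd r (σ i) := by
    intro σ τ i
    simp [ω, Equiv.permCongr_apply]
  have hωr : ∀ σ τ j, ω σ τ (Fin.natAdd p j) = Fin.natAdd p (τ j) := by
    intro σ τ j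
    simp [ω, Equiv.permCongr_apply]
  have hωs : ∀ σ τ, Equiv.Perm.sign (ω σ τ) = Equiv.Perm.sign σ * Equiv.Perm.sign τ := by
    intro σ τ
    simp [ω, Equiv.Perm.sign_permCongr, Equiv.Perm.sign_sumCongr]
  have key : ∀ (σ : Equiv.Perm (Fin p)) (τ : Equiv.Perm (Fin r)),
      ∑ π : Equiv.Perm (Fin (p + r)), (((Equiv.Perm.sign π : ℤˣ) : ℤ) : R) *
        (((((Equiv.Perm.sign σ : ℤˣ) : ℤ) : R) *
            ∏ i, N (Fin.castAdd r (σ i)) (π.symm (Fin.castAdd r i))) *
         ((((Equiv.Perm.sign τ : ℤˣ) : ℤ) : R) *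
            ∏ j, N (Fin.natAdd p (τ j)) (π.symm (Fin.natAdd p j)))) = N.det := by
    intro σ τ
    rw [Matrix.det_apply']
    refine Fintype.sum_equiv (Equiv.mulLeft (ω σ τ)) _ _ (fun π => ?_)
    have e1 : (Equiv.mulLeft (ω σ τ)) π = ω σ τ * π := rfl
    rw [e1, Equiv.Perm.sign_mul, hωs]
    have e2 : ∀ y, (ω σ τ * π) y = ω σ τ (π y) := fun y => rfl
    simp only [e2]
    have h1 : ∏ y, N ((ω σ τ) (π y)) y =
        (∏ i, N (Fin.castAdd r (σ i)) (π.symm (Fin.castAdd r i))) *
          ∏ j, N (Fin.natAdd p (τ j)) (π.symm (Fin.natAdd p j)) := by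
      have := Equiv.prod_comp π (fun x => N (ω σ τ x) (π.symm x))
      simp only [Equiv.symm_apply_apply] at this
      rw [this, Fin.prod_univ_add]
      simp only [hωl, hωr]
    rw [h1]
    push_cast
    ring
  calc ∑ π : Equiv.Perm (Fin (p + r)), (((Equiv.Perm.sign π : ℤˣ) : ℤ) : R) *
        ((N * π.permMatrix R).submatrix (Fin.castAdd r) (Fin.castAdd r)).det *
        ((N * π.permMatrix R).submatrix (Fin.natAdd p) (Fin.natAdd p)).det
      = ∑ π : Equiv.Perm (Fin (p + r)), ∑ σ : Equiv.Perm (Fin p), ∑ τ : Equiv.Perm (Fin r),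
          (((Equiv.Perm.sign π : ℤˣ) : ℤ) : R) *
        (((((Equiv.Perm.sign σ : ℤˣ) : ℤ) : R) *
            ∏ i, N (Fin.castAdd r (σ i)) (π.symm (Fin.castAdd r i))) *
         ((((Equiv.Perm.sign τ : ℤˣ) : ℤ) : R) *
            ∏ j, N (Fin.natAdd p (τ j)) (π.symm (Fin.natAdd p j)))) := by
        refine Finset.sum_congr rfl fun π _ => ?_
        rw [hmul π, Matrix.det_apply', Matrix.det_apply', mul_assoc, Finset.sum_mul_sum,
          Finset.mul_sum]
        refine Finset.sum_congr rfl fun σ _ => ?_
        rw [Finset.mul_sum]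
        rfl
    _ = ∑ σ : Equiv.Perm (Fin p), ∑ τ : Equiv.Perm (Fin r), ∑ π : Equiv.Perm (Fin (p + r)),
          (((Equiv.Perm.sign π : ℤˣ) : ℤ) : R) *
        (((((Equiv.Perm.sign σ : ℤˣ) : ℤ) : R) *
            ∏ i, N (Fin.castAdd r (σ i)) (π.symm (Fin.castAdd r i))) *
         ((((Equiv.Perm.sign τ : ℤˣ) : ℤ) : R) *
            ∏ j, N (Fin.natAdd p (τ j)) (π.symm (Fin.natAdd p j)))) := by
        rw [Finset.sum_comm]
        exact Finset.sum_congr rfl fun σ _ => Finset.sum_comm
    _ = ∑ _σ : Equiv.Perm (Fin p), ∑ _τ : Equiv.Perm (Fin r), N.det :=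
        Finset.sum_congr rfl fun σ _ => Finset.sum_congr rfl fun τ _ => key σ τ
    _ = _ := by
        simp only [Finset.sum_const, Finset.card_univ, Fintype.card_perm, Fintype.card_fin,
          nsmul_eq_mul]
        push_cast
        ring

theorem main_aux {R : Type*} [CommRing R] (p r : ℕ)
    (M : Matrix (Fin (p + r)) (Fin (p + r)) R)
    (a : Fin p → Fin (p + r)) (b : Fin r → Fin (p + r)) :
    ∑ π : Equiv.Perm (Fin (p + r)), (((Equiv.Perm.sign π : ℤˣ) : ℤ) : R) *
      ((M * π.permMatrix R).submatrix a (Fin.castAdd r)).det *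
      ((M * π.permMatrix R).submatrix b (Fin.natAdd p)).det =
    ((p.factorial * r.factorial : ℕ) : R) * (M.submatrix (Fin.append a b) id).det := by
  rw [← laplace_sum p r (M.submatrix (Fin.append a b) id)]
  refine Finset.sum_congr rfl fun π _ => ?_
  have h1 : (M * π.permMatrix R).submatrix a (Fin.castAdd r) =
      ((M.submatrix (Fin.append a b) id) * π.permMatrix R).submatrix
        (Fin.castAdd r) (Fin.castAdd r) := by
    ext i j
    simp only [Matrix.submatrix_apply, Matrix.mul_apply, Fin.append_left, id]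
  have h2 : (M * π.permMatrix R).submatrix b (Fin.natAdd p) =
      ((M.submatrix (Fin.append a b) id) * π.permMatrix R).submatrix
        (Fin.natAdd p) (Fin.natAdd p) := by
    ext i j
    simp only [Matrix.submatrix_apply, Matrix.mul_apply, Fin.append_right, id]
  rw [h1, h2]

theorem sign_shuffle (p r : ℕ) (A : Finset (Fin (p + r)))
    (a : Fin p ↪o Fin (p + r)) (b : Fin r ↪o Fin (p + r))
    (ha : ∀ i, a i ∈ A) (hb : ∀ j, b j ∈ Aᶜ)
    (haS : ∀ x ∈ A, ∃ i, a i = x) (hbS : ∀ y ∈ Aᶜ, ∃ j, b j = y)
    (ρ : Equiv.Perm (Fin (p + r)))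
    (hρl : ∀ i, ρ (Fin.castAdd r i) = a i)
    (hρr : ∀ j, ρ (Fin.natAdd p j) = b j) :
    Equiv.Perm.sign ρ = (-1 : ℤˣ) ^ ((A ×ˢ Aᶜ).filter (fun ab => ab.2 < ab.1)).card := by
  classical
  have hne : ∀ i j, a i ≠ b j := fun i j h =>
    (Finset.mem_compl.mp (hb j)) (h ▸ ha i)
  have h1 : ∀ (i j : Fin p), (if Fin.castAdd r i < Fin.castAdd r j then
      (if ρ (Fin.castAdd r i) < ρ (Fin.castAdd r j) then (1:ℤˣ) else -1) else 1) = 1 := by
    intro i j
    split_ifs with h h'
    · rfl
    · exfalso
      apply h'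
      rw [hρl, hρl]
      have h'' := Fin.lt_def.mp h
      simp only [Fin.val_castAdd] at h''
      exact a.strictMono (Fin.lt_def.mpr h'')
    · rfl
  have h2 : ∀ (i : Fin r) (j : Fin p), (if Fin.natAdd p i < Fin.castAdd r j then
      (if ρ (Fin.natAdd p i) < ρ (Fin.castAdd r j) then (1:ℤˣ) else -1) else 1) = 1 := by
    intro i j
    rw [if_neg]
    intro h
    have := j.isLt
    simp only [Fin.lt_def, Fin.val_natAdd, Fin.val_castAdd] at h
    omega
  have h3 : ∀ (i : Fin p) (j : Fin r), (if Fin.castAdd r i < Fin.natAdd p j then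
      (if ρ (Fin.castAdd r i) < ρ (Fin.natAdd p j) then (1:ℤˣ) else -1) else 1) =
      if b j < a i then (-1 : ℤˣ) else 1 := by
    intro i j
    have hlt : Fin.castAdd r i < Fin.natAdd p j := by
      have := i.isLt
      simp only [Fin.lt_def, Fin.val_natAdd, Fin.val_castAdd]
      omega
    rw [if_pos hlt, hρl, hρr]
    by_cases hab : a i < b j
    · rw [if_pos hab, if_neg (not_lt.mpr hab.le)]
    · rw [if_neg hab, if_pos (lt_of_le_of_ne (not_lt.mp hab) (hne i j).symm)]
  have h4 : ∀ (i j : Fin r), (if Fin.natAdd p i < Fin.natAdd p j then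
      (if ρ (Fin.natAdd p i) < ρ (Fin.natAdd p j) then (1:ℤˣ) else -1) else 1) = 1 := by
    intro i j
    split_ifs with h h'
    · rfl
    · exfalso
      apply h'
      rw [hρr, hρr]
      exact b.strictMono ((Fin.natAdd_lt_natAdd_iff p).mp h)
    · rfl
  have hcard : ((A ×ˢ Aᶜ).filter (fun ab => ab.2 < ab.1)).card =
      ((Finset.univ : Finset (Fin p × Fin r)).filter (fun q => b q.2 < a q.1)).card := by
    symm
    refine Finset.card_bij (fun q _ => (a q.1, b q.2)) ?_ ?_ ?_
    · intro q hq
      simp only [Finset.mem_filter, Finset.mem_univ, true_and] at hq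
      simp only [Finset.mem_filter, Finset.mem_product]
      exact ⟨⟨ha _, hb _⟩, hq⟩
    · intro q1 _ q2 _ h
      simp only [Prod.mk.injEq] at h
      exact Prod.ext (a.injective h.1) (b.injective h.2)
    · rintro ⟨x, y⟩ hxy
      simp only [Finset.mem_filter, Finset.mem_product] at hxy
      obtain ⟨⟨hx, hy⟩, hlt⟩ := hxy
      obtain ⟨i, rfl⟩ := haS x hx
      obtain ⟨j, rfl⟩ := hbS y hy
      exact ⟨(i, j), by simpa using hlt, rfl⟩
  rw [Equiv.Perm.sign_eq_prod_prod_Iio]
  calc ∏ j, ∏ i ∈ Finset.Iio j, (if ρ i < ρ j then (1 : ℤˣ) else -1)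
      = ∏ j : Fin (p + r), ∏ i : Fin (p + r),
          (if i < j then (if ρ i < ρ j then (1 : ℤˣ) else -1) else 1) := by
        refine Finset.prod_congr rfl fun j _ => ?_
        rw [← Finset.prod_filter]
        refine Finset.prod_congr ?_ fun _ _ => rfl
        ext i; simp
    _ = ∏ j : Fin r, ∏ i : Fin p, (if b j < a i then (-1 : ℤˣ) else 1) := by
        rw [Fin.prod_univ_add]
        simp only [Fin.prod_univ_add, h1, h2, h3, h4, Finset.prod_const_one, one_mul, mul_one]
    _ = ∏ q ∈ (Finset.univ : Finset (Fin p × Fin r)),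
          (if b q.2 < a q.1 then (-1 : ℤˣ) else 1) := by
        rw [Finset.prod_comm, ← Finset.univ_product_univ]
        exact (Finset.prod_product' Finset.univ Finset.univ
          (fun (i : Fin p) (j : Fin r) => if b j < a i then (-1 : ℤˣ) else 1)).symm
    _ = (-1) ^ ((Finset.univ : Finset (Fin p × Fin r)).filter (fun q => b q.2 < a q.1)).card := by
        rw [Finset.prod_ite, Finset.prod_const_one, mul_one, Finset.prod_const]
    _ = _ := by rw [hcard]


/-- Let k be a field of characteristic zero, n = p + r with p, r ≥ 1, M an n × n matrix over k, A a set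
of p row indices and B a set of r row indices, both listed increasingly. For a permutation π of the
indices, with permutation matrix P_π, let Y_A(M·P_π) be the minor of M·P_π on the rows A and the
first p columns, and Z_B(M·P_π) the minor on the rows B and the last r columns. Then the sum over
all π of sign(π)·Y_A(M·P_π)·Z_B(M·P_π) equals p!·r!·(−1)^N·det M when B is the complement of A,
where N is the number of pairs (a, b) with a in A, b outside A and b < a, and equals 0 otherwise.
Taking det M = 1 this says that the pairing (f, h) ↦ Σ_π sign(π) f(π) h(π) between the spans of the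
left p-minors and of the right r-minors is invariant under left translation by matrices of
determinant one and pairs Y_A with the signed complementary minor to p!·r!. (The published statement
asserts that the two families of minors are dual bases for this pairing, that is, the value 1 in
place of p!·r!; the p!·r! permutations preserving the two column blocks each contribute the same
signed term, so this row carries that factor, which is 1 only for n = 2.) -/
theorem result (k : Type u) [Field k] [CharZero k]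
    (p r : ℕ) (hp : 1 ≤ p) (hr : 1 ≤ r) (M : Matrix (Fin (p + r)) (Fin (p + r)) k)
    (A : Finset (Fin (p + r))) (hA : A.card = p) (B : Finset (Fin (p + r))) (hB : B.card = r) :
    ∑ π : Equiv.Perm (Fin (p + r)), (((Equiv.Perm.sign π : ℤˣ) : ℤ) : k) *
      ((M * π.permMatrix k).submatrix (A.orderEmbOfFin hA) (Fin.castAdd r)).det *
      ((M * π.permMatrix k).submatrix (B.orderEmbOfFin hB) (Fin.natAdd p)).det =
    if B = Aᶜ then ((p.factorial * r.factorial : ℕ) : k) *
      (-1 : k) ^ ((A ×ˢ Aᶜ).filter (fun ab => ab.2 < ab.1)).card * M.det else 0 := by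
  classical
  refine (main_aux p r M _ _).trans ?_
  split_ifs with hBA
  · subst hBA
    have hne : ∀ i j, A.orderEmbOfFin hA i ≠ (Aᶜ).orderEmbOfFin hB j := fun i j h =>
      (Finset.mem_compl.mp (Finset.orderEmbOfFin_mem _ hB j))
        (h ▸ Finset.orderEmbOfFin_mem _ hA i)
    have hinj : Function.Injective
        (Fin.append (A.orderEmbOfFin hA) ((Aᶜ).orderEmbOfFin hB)) := by
      intro x y
      refine Fin.addCases (fun i => ?_) (fun j => ?_) x <;>
        refine Fin.addCases (fun i' => ?_) (fun j' => ?_) y <;> intro hxy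
      · rw [Fin.append_left, Fin.append_left] at hxy
        rw [(A.orderEmbOfFin hA).injective hxy]
      · rw [Fin.append_left, Fin.append_right] at hxy
        exact absurd hxy (hne i j')
      · rw [Fin.append_right, Fin.append_left] at hxy
        exact absurd hxy.symm (hne i' j)
      · rw [Fin.append_right, Fin.append_right] at hxy
        rw [((Aᶜ).orderEmbOfFin hB).injective hxy]
    let ρ : Equiv.Perm (Fin (p + r)) :=
      Equiv.ofBijective _ (Finite.injective_iff_bijective.mp hinj)
    have hρ : (ρ : Fin (p + r) → Fin (p + r)) =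
        Fin.append (A.orderEmbOfFin hA) ((Aᶜ).orderEmbOfFin hB) := rfl
    have hs := sign_shuffle p r A (A.orderEmbOfFin hA) ((Aᶜ).orderEmbOfFin hB)
      (Finset.orderEmbOfFin_mem _ hA) (Finset.orderEmbOfFin_mem _ hB)
      (fun x hx => by
        have : x ∈ Set.range (A.orderEmbOfFin hA) := by
          rw [Finset.range_orderEmbOfFin]; exact hx
        exact this)
      (fun y hy => by
        have : y ∈ Set.range ((Aᶜ).orderEmbOfFin hB) := by
          rw [Finset.range_orderEmbOfFin]; exact hy
        exact this)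
      ρ (fun i => by rw [hρ, Fin.append_left]) (fun j => by rw [hρ, Fin.append_right])
    rw [← hρ, Matrix.det_permute, hs]
    push_cast
    ring
  · have hex : ∃ x, x ∈ A ∧ x ∈ B := by
      by_contra hne
      push_neg at hne
      apply hBA
      have hsub : B ⊆ Aᶜ := fun x hx => Finset.mem_compl.mpr (fun hxA => hne x hxA hx)
      refine Finset.eq_of_subset_of_card_le hsub ?_
      rw [Finset.card_compl, hA, hB, Fintype.card_fin]
      omega
    obtain ⟨x, hxA, hxB⟩ := hex
    obtain ⟨i, hi⟩ : ∃ i, A.orderEmbOfFin hA i = x := by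
      have : x ∈ Set.range (A.orderEmbOfFin hA) := by
        rw [Finset.range_orderEmbOfFin]; exact hxA
      exact this
    obtain ⟨j, hj⟩ : ∃ j, B.orderEmbOfFin hB j = x := by
      have : x ∈ Set.range (B.orderEmbOfFin hB) := by
        rw [Finset.range_orderEmbOfFin]; exact hxB
      exact this
    have hz : (M.submatrix (Fin.append ⇑(A.orderEmbOfFin hA) ⇑(B.orderEmbOfFin hB)) id).det
        = 0 := by
      refine Matrix.det_zero_of_row_eq (i := Fin.castAdd r i) (j := Fin.natAdd p j) ?_ ?_
      · intro h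
        have h' := congrArg Fin.val h
        have := i.isLt
        simp only [Fin.val_castAdd, Fin.val_natAdd] at h'
        omega
      · ext c
        simp only [Matrix.submatrix_apply, Fin.append_left, Fin.append_right, hi, hj]
    rw [hz, mul_zero]

end Groth.Agent.S14879
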