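import Groth.Statements.S14885
import Mathlib

set_option autoImplicit false
universe u v
open CategoryTheory TopologicalSpace Opposite AlgebraicGeometry Topology
open AlgGrp

namespace Groth.Agent.S14885

/-- Let a group Γ act on a ringed space X (a topological space with a sheaf of rings) by automorphisms
τ_g, and let π : X → Y be a Γ-invariant morphism of ringed spaces which exhibits Y as the quotient
ringed space X/Γ: the underlying continuous map of π is a topological quotient map whose fibres are
exactly the Γ-orbits, and for every open subset V of Y the ring map O_Y(V) → O_X(π⁻¹V) is injective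
with image the sections s satisfying τ_g^♯(s) = s for all g. Then (Y, π) is a categorical quotient
for the action in the category of ringed spaces: every morphism of ringed spaces f : X → Z with f ∘
τ_g = f for all g (as morphisms of ringed spaces) factors uniquely as f = f̄ ∘ π. -/
theorem result (X Y : SheafedSpace CommRingCat.{u}) (Γ : Type v) [Group Γ]
    (τ : Γ →* Aut X) (π : X ⟶ Y) (hτ : ∀ g : Γ, (τ g).hom ≫ π = π)
    (h1 : IsQuotientMap π.hom.base)
    (h2 : ∀ x x' : X, π.hom.base x = π.hom.base x' ↔ ∃ g : Γ, (τ g).hom.hom.base x = x')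
    (h3 : ∀ V : Opens Y, Function.Injective (π.hom.c.app (op V)) ∧
      Set.range (π.hom.c.app (op V)) =
        {s | ∀ g : Γ, (τ g).hom.hom.c.app (op ((Opens.map π.hom.base).obj V)) s =
          X.presheaf.map (eqToHom (congrArg (fun f : X ⟶ Y => op ((Opens.map f.hom.base).obj V)) (hτ g).symm)) s})
    (Z : SheafedSpace CommRingCat.{u}) (f : X ⟶ Z) (hf : ∀ g : Γ, (τ g).hom ≫ f = f) :
    ∃! fbar : Y ⟶ Z, π ≫ fbar = f := by
  classical
  -- Step 1: the base map
  have hF1 : ∀ (g : Γ) (x : X), f.hom.base ((τ g).hom.hom.base x) = f.hom.base x := by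
    intro g x
    have h := congrArg (fun k : X ⟶ Z => k.hom.base x) (hf g)
    exact h
  have hF2 : ∀ x x' : X, π.hom.base x = π.hom.base x' → f.hom.base x = f.hom.base x' := by
    intro x x' hxx
    obtain ⟨g, rfl⟩ := (h2 x x').1 hxx
    exact (hF1 g x).symm
  obtain ⟨φT, hφ⟩ : ∃ φT : (Y : TopCat) ⟶ (Z : TopCat), π.hom.base ≫ φT = f.hom.base := by
    have hφπ : ∀ x : X, f.hom.base (Function.surjInv h1.surjective (π.hom.base x)) = f.hom.base x :=
      fun x => hF2 _ _ (Function.surjInv_eq h1.surjective _)
    have hcont : Continuous (fun y : Y => f.hom.base (Function.surjInv h1.surjective y)) := by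
      rw [h1.continuous_iff]
      have e : (fun y : Y => f.hom.base (Function.surjInv h1.surjective y)) ∘ π.hom.base =
          f.hom.base := funext hφπ
      rw [e]
      exact f.hom.base.hom.continuous
    refine ⟨TopCat.ofHom ⟨fun y : Y => f.hom.base (Function.surjInv h1.surjective y), hcont⟩, ?_⟩
    ext x
    exact hφπ x
  -- Step 2: make the base of `f` definitionally `π.base ≫ φT`
  obtain ⟨⟨fb, fc⟩⟩ := f
  dsimp only at hφ
  subst hφ
  -- Step 3: sections of `f` land in the invariants
  have hmem : ∀ (W : Opens Z) (s : Z.presheaf.obj (op W)),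
      (fc.app (op W)) s ∈ Set.range (π.hom.c.app (op ((Opens.map φT).obj W))) := by
    intro W s
    rw [(h3 ((Opens.map φT).obj W)).2]
    intro g
    have h := PresheafedSpace.congr_app (congrArg (fun k : X ⟶ Z => k.hom) (hf g)) (op W)
    exact ConcreteCategory.congr_hom h s
  -- a general lifting lemma for rings
  have lift_ring : ∀ {A B C : Type u} [CommRing A] [CommRing B] [CommRing C] (i : B →+* C)
      (_ : Function.Injective i) (h : A →+* C) (_ : ∀ a, h a ∈ Set.range i),
      ∃ l : A →+* B, i.comp l = h := by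
    intro A B C _ _ _ i hi h hr
    choose l hl using hr
    refine ⟨{ toFun := l
              map_one' := hi (by rw [hl, map_one, map_one])
              map_mul' := fun a b => hi (by rw [hl, map_mul, map_mul, hl, hl])
              map_zero' := hi (by rw [hl, map_zero, map_zero])
              map_add' := fun a b => hi (by rw [hl, map_add, map_add, hl, hl]) }, ?_⟩
    ext a
    exact hl a
  have hlift : ∀ W : Opens Z, ∃ l : Z.presheaf.obj (op W) ⟶
      Y.presheaf.obj (op ((Opens.map φT).obj W)),
      l ≫ π.hom.c.app (op ((Opens.map φT).obj W)) = fc.app (op W) := by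
    intro W
    obtain ⟨l, hl⟩ := lift_ring (π.hom.c.app (op ((Opens.map φT).obj W))).hom
      (h3 ((Opens.map φT).obj W)).1 (fc.app (op W)).hom (hmem W)
    exact ⟨CommRingCat.ofHom l, CommRingCat.hom_ext hl⟩
  choose l hl using hlift
  have hmono : ∀ (W : Opens Z) {T : CommRingCat.{u}}
      (a b : T ⟶ Y.presheaf.obj (op ((Opens.map φT).obj W))),
      a ≫ π.hom.c.app (op ((Opens.map φT).obj W)) =
        b ≫ π.hom.c.app (op ((Opens.map φT).obj W)) → a = b := by
    intro W T a b hab
    refine CommRingCat.hom_ext (RingHom.ext fun s => ?_)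
    exact (h3 ((Opens.map φT).obj W)).1 (ConcreteCategory.congr_hom hab s)
  have hnat : ∀ (W W' : Opens Z) (j : op W ⟶ op W'),
      Z.presheaf.map j ≫ l W' = l W ≫ (φT _* Y.presheaf).map j := by
    intro W W' j
    apply hmono W'
    have e1 : (Z.presheaf.map j ≫ l W') ≫ π.hom.c.app (op ((Opens.map φT).obj W')) =
        Z.presheaf.map j ≫ fc.app (op W') :=
      (Category.assoc _ _ _).trans (congrArg (fun k => Z.presheaf.map j ≫ k) (hl W'))
    have e2 := fc.naturality j
    have e3 := congrArg (fun k => k ≫ (π.hom.base _* X.presheaf).map ((Opens.map φT).op.map j))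
      (hl W).symm
    have e4 := Category.assoc (l W) (π.hom.c.app (op ((Opens.map φT).obj W)))
      ((π.hom.base _* X.presheaf).map ((Opens.map φT).op.map j))
    have e5 := congrArg (fun k => l W ≫ k) (π.hom.c.naturality ((Opens.map φT).op.map j)).symm
    have e6 := (Category.assoc (l W) (Y.presheaf.map ((Opens.map φT).op.map j))
      (π.hom.c.app (op ((Opens.map φT).obj W')))).symm
    exact e1.trans (e2.trans (e3.trans (e4.trans (e5.trans e6))))
  -- Step 5: the descended morphism
  let cbar : Z.presheaf ⟶ φT _* Y.presheaf :=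
    { app := fun U => l (unop U)
      naturality := fun U U' j => hnat (unop U) (unop U') j }
  have hc : cbar ≫ (TopCat.Presheaf.pushforward _ φT).map π.hom.c = fc := by
    refine NatTrans.ext (funext fun U => ?_)
    exact hl (unop U)
  have hid : ∀ (a : (Opens X)ᵒᵖ) (p : a = a), X.presheaf.map (eqToHom p) = 𝟙 _ := by
    intro a p
    simp
  refine ⟨⟨⟨φT, cbar⟩⟩, ?_, ?_⟩
  · have key : (π ≫ (⟨⟨φT, cbar⟩⟩ : Y ⟶ Z)) =
        (⟨⟨π.hom.base ≫ φT, cbar ≫ (TopCat.Presheaf.pushforward _ φT).map π.hom.c⟩⟩ : X ⟶ Z) := rfl
    beta_reduce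
    exact key.trans (congrArg (fun c => (⟨⟨π.hom.base ≫ φT, c⟩⟩ : X ⟶ Z)) hc)
  · intro fbar' h'
    beta_reduce at h'
    obtain ⟨⟨b', c'⟩⟩ := fbar'
    have hb : b' = φT := by
      have h0 := congrArg (fun k : X ⟶ Z => k.hom.base) h'
      ext y
      obtain ⟨x, rfl⟩ := h1.surjective y
      exact ConcreteCategory.congr_hom h0 x
    subst hb
    have hc' : c' = cbar := by
      refine NatTrans.ext (funext fun U => ?_)
      refine hmono (unop U) (c'.app U) (cbar.app U) ?_
      have h'' := PresheafedSpace.congr_app (congrArg (fun k : X ⟶ Z => k.hom) h') U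
      have h3' : c'.app U ≫ π.hom.c.app (op ((Opens.map b').obj (unop U))) = fc.app U :=
        h''.trans ((congrArg (fun k => fc.app U ≫ k) (hid _ _)).trans (Category.comp_id _))
      exact h3'.trans (hl (unop U)).symm
    subst hc'
    rfl

end Groth.Agent.S14885
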