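import Groth.Statements.S14888
import Groth.Agent.Lib.Helper4.FinSpecOI

set_option autoImplicit false
universe u
open CategoryTheory AlgebraicGeometry
open CAlg

namespace Groth.Agent.S14888

/-- Let R be a valuation ring whose spectrum is finite (finite height) and let f : X → Spec R be locally
of finite type with locally quasi-finite fibres. For every x ∈ X the canonical morphism Spec O_{X,x}
→ X is an open immersion, and the composite Spec O_{X,x} → Spec R is locally of finite type; in
particular O_{X,x} is finitely generated as an R-algebra. (The published statement takes X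
quasi-finite over Spec R; the assertions are local at x, so this row assumes only that X is locally
of finite type with discrete fibres.) -/
theorem result
    (R : Type u) [CommRing R] [IsDomain R] [ValuationRing R] [Finite (PrimeSpectrum R)]
    {X : Scheme.{u}} (f : X ⟶ Spec (CommRingCat.of R)) [LocallyOfFiniteType f] [LocallyQuasiFinite f]
    (x : X) :
    IsOpenImmersion (X.fromSpecStalk x) ∧ LocallyOfFiniteType (X.fromSpecStalk x ≫ f) := by
  obtain ⟨_, ⟨U₀, hU₀, rfl⟩, hxU₀, -⟩ :=
    X.isBasis_affineOpens.exists_subset_of_mem_open (Set.mem_univ x) isOpen_univ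
  obtain ⟨U, hU, hxU⟩ : ∃ U : X.Opens, IsAffineOpen U ∧ x ∈ U := ⟨U₀, hU₀, hxU₀⟩
  haveI : IsAffine (U : Scheme.{u}) := hU
  let g : (U : Scheme.{u}) ⟶ Spec (CommRingCat.of R) := U.ι ≫ f
  haveI : LocallyQuasiFinite g := inferInstance
  haveI : QuasiCompact g := inferInstance
  haveI : Finite ↥(Spec (CommRingCat.of R)) := (inferInstance : Finite (PrimeSpectrum R))
  have hfinU : Finite ↥(U : Scheme.{u}) := by
    have h1 : (Set.univ : Set ↥(U : Scheme.{u})) = ⋃ y, g ⁻¹' {y} := by
      ext a
      simp
    rw [← Set.finite_univ_iff, h1]
    exact Set.finite_iUnion fun y => g.finite_preimage_singleton y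
  have hfin : (U : Set X).Finite := by
    haveI : Finite ↥U := hfinU
    exact Set.toFinite _
  have hopen := Groth.Agent.Helper4.FinSpecOI.isOpen_generizations_of_finite x U hxU hfin
  haveI := Groth.Agent.Helper4.FinSpecOI.isOpenImmersion_fromSpecStalk x hopen
  exact ⟨inferInstance, inferInstance⟩

end Groth.Agent.S14888
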