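import Groth.Statements.S14897
import Mathlib
import Groth.Agent.Lib.Helper15.ProjSpaceProper

set_option autoImplicit false
universe u
open CategoryTheory CategoryTheory.Limits AlgebraicGeometry
open FlatMor

namespace Groth.Agent.S14897

/-- Let S be integral, quasi-compact and quasi-separated, K̄ a field with a dominant morphism η̄ : Spec
K̄ → S, and f ∈ K̄. Then there is a K̄-modification of S on which f is a rational function defining
a morphism to the projective line: η̄ factors as a schematically dominant s : Spec K̄ → S' followed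
by a proper S' → S, and there is F : S' → P¹ (Proj of ℤ[T₀, T₁], universe-lifted) with s ≫ F equal
to the K̄-point [1 : f] of the chart T₀ ≠ 0. -/
theorem result
    {S : Scheme.{u}} [IsIntegral S] [CompactSpace S] [QuasiSeparatedSpace S]
    (Kb : Type u) [Field Kb] (ηb : Spec (CommRingCat.of Kb) ⟶ S) [IsDominant ηb] (f : Kb) :
    ∃ (S' : Scheme.{u}) (s : Spec (CommRingCat.of Kb) ⟶ S') (q : S' ⟶ S)
      (F : S' ⟶ CohB1.ProjSpace 1 P1.R0.{u}),
      IsSchemeTheoreticallyDominant s ∧ IsProper q ∧ s ≫ q = ηb ∧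
      s ≫ F = Spec.map (CommRingCat.ofHom (P1.chartMap 0 Kb f)) ≫
        Proj.awayι P1.grading (P1.T 0) (P1.X_mem 0) one_pos := by
  classical
  let pt : Spec (CommRingCat.of Kb) ⟶ CohB1.ProjSpace 1 P1.R0.{u} :=
    Spec.map (CommRingCat.ofHom (P1.chartMap 0 Kb f)) ≫
      Proj.awayι P1.grading (P1.T 0) (P1.X_mem 0) one_pos
  let g : Spec (CommRingCat.of Kb) ⟶ CohB1.ProjSpaceOver 1 S :=
    (pullback.lift pt ηb (specULiftZIsTerminal.hom_ext _ _) :
      _ ⟶ pullback (CohB1.ProjSpace.toSpec 1 (ULift.{u} ℤ)) (specULiftZIsTerminal.from S))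
  haveI : Finite ↥(Spec (CommRingCat.of Kb)) := inferInstanceAs (Finite (PrimeSpectrum Kb))
  haveI : QuasiCompact g := ⟨fun U _ _ => (Set.toFinite _).isCompact⟩
  have hfst : g ≫ (pullback.fst (CohB1.ProjSpace.toSpec 1 (ULift.{u} ℤ))
      (specULiftZIsTerminal.from S)) = pt := pullback.lift_fst _ _ _
  have hsnd : g ≫ CohB1.ProjSpaceOver.toBase 1 S = ηb := pullback.lift_snd _ _ _
  refine ⟨g.image, g.toImage, g.imageι ≫ CohB1.ProjSpaceOver.toBase 1 S,
    g.imageι ≫ (pullback.fst (CohB1.ProjSpace.toSpec 1 (ULift.{u} ℤ))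
      (specULiftZIsTerminal.from S)), ?_, ?_, ?_, ?_⟩
  · refine ⟨?_⟩
    apply Scheme.IdealSheafData.ext
    funext V
    rw [Scheme.Hom.ker_apply, Scheme.IdealSheafData.ideal_bot]
    have hinj : Function.Injective (g.toImage.app V.1).hom := by
      have := TopCat.Presheaf.app_injective_of_stalkFunctor_map_injective
        (F := g.image.sheaf) g.toImage.c V.1
        (fun x _ => g.stalkFunctor_toImage_injective x)
      exact this
    exact (RingHom.injective_iff_ker_eq_bot _).mp hinj
  · haveI := Groth.Agent.Helper15.isProper_projSpaceOver_toBase 1 S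
    infer_instance
  · rw [← Category.assoc, Scheme.Hom.toImage_imageι]
    exact hsnd
  · rw [← Category.assoc, Scheme.Hom.toImage_imageι]
    exact hfst

end Groth.Agent.S14897
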