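import Groth.Statements.S14916
import Mathlib
import Groth.Agent.Lib.Helper22.Perf8

set_option autoImplicit false
universe u
open CategoryTheory AlgebraicGeometry
open PerfSch

namespace Groth.Agent.S14916

open CategoryTheory CategoryTheory.Limits AlgebraicGeometry FrobSch Opposite in
theorem isSeparated_of_comp_surj_uc {X' X Y : Scheme.{u}} (g : X' ⟶ X) (f : X ⟶ Y)
    [Surjective g] [UniversallyClosed g] [IsSeparated (g ≫ f)] : IsSeparated f := by
  constructor
  apply IsClosedImmersion.of_isPreimmersion
  have hm : UniversallyClosed (pullback.map (g ≫ f) (g ≫ f) f f g g (𝟙 Y)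
      ((Category.comp_id _).trans rfl) ((Category.comp_id _).trans rfl)) :=
    MorphismProperty.pullbackMap (P := @UniversallyClosed) ‹UniversallyClosed g›
      ‹UniversallyClosed g› rfl rfl
  have hcomm : pullback.diagonal (g ≫ f) ≫ (pullback.map (g ≫ f) (g ≫ f) f f g g (𝟙 Y)
      ((Category.comp_id _).trans rfl) ((Category.comp_id _).trans rfl)) =
        g ≫ pullback.diagonal f := by
    apply pullback.hom_ext
    · simp [pullback.map]
      rw [pullback.lift_fst]
      simp
    · simp [pullback.map]
      rw [pullback.lift_snd]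
      simp
  have hrange : Set.range (pullback.diagonal f) =
      (pullback.map (g ≫ f) (g ≫ f) f f g g (𝟙 Y)
      ((Category.comp_id _).trans rfl) ((Category.comp_id _).trans rfl)) ''
        Set.range (pullback.diagonal (g ≫ f)) := by
    ext z
    constructor
    · rintro ⟨x, rfl⟩
      obtain ⟨x', rfl⟩ := g.surjective x
      refine ⟨pullback.diagonal (g ≫ f) x', ⟨x', rfl⟩, ?_⟩
      rw [← Scheme.Hom.comp_apply, hcomm, Scheme.Hom.comp_apply]
    · rintro ⟨_, ⟨x', rfl⟩, rfl⟩
      refine ⟨g x', ?_⟩
      rw [← Scheme.Hom.comp_apply, ← hcomm, Scheme.Hom.comp_apply]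
  rw [hrange]
  exact Scheme.Hom.isClosedMap _ _ (pullback.diagonal (g ≫ f)).isClosedEmbedding.isClosed_range

/-- Let p be a prime and let X, Y, X', Y' be schemes of characteristic p (p = 0 in the structure sheaf).
Let π_X : X' ⟶ X and π_Y : Y' ⟶ Y be perfections: X' is perfect (its absolute Frobenius is an
isomorphism) and every morphism from a perfect scheme of characteristic p to X factors uniquely
through π_X, and likewise for π_Y. Let f : X ⟶ Y be a morphism and f' : X' ⟶ Y' the induced morphism
of perfections, the one with f' ≫ π_Y = π_X ≫ f. Then f is separated if and only if f' is separated. -/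
theorem result (p : ℕ) [Fact p.Prime] {X Y XP YP : Scheme.{u}}
    [FrobSch.IsCharP X p] [FrobSch.IsCharP Y p] [FrobSch.IsCharP XP p] [FrobSch.IsCharP YP p]
    (πX : XP ⟶ X) (πY : YP ⟶ Y) (hX : FrobSch.IsPerfection πX p) (hY : FrobSch.IsPerfection πY p)
    (f : X ⟶ Y) (fP : XP ⟶ YP) (w : fP ≫ πY = πX ≫ f) :
    AlgebraicGeometry.IsSeparated f ↔ AlgebraicGeometry.IsSeparated fP := by
  haveI := Groth.Agent.Helper22.Perf.isIntegralHom_of_isPerfection p πX hX
  haveI := Groth.Agent.Helper22.Perf.isIntegralHom_of_isPerfection p πY hY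
  constructor
  · intro hf
    haveI : IsSeparated (fP ≫ πY) := by rw [w]; infer_instance
    exact IsSeparated.of_comp fP πY
  · intro hfP
    haveI : IsSeparated (πX ≫ f) := by rw [← w]; infer_instance
    haveI : Surjective πX := Groth.Agent.Helper22.Perf.surjective_of_isPerfection p πX hX
    exact isSeparated_of_comp_surj_uc πX f

end Groth.Agent.S14916
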