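import Groth.Statements.S1493
import Mathlib
import Groth.Agent.Lib.Helper2.KosBridge3
import Groth.Agent.Lib.Helper28.RegImmReg
import Groth.Agent.Lib.Helper28.RegImmIso
import Groth.Agent.Lib.Helper28.BlowRegChart2
import Groth.Agent.Lib.Helper12.StalkReg
-- import your own Groth.Agent.* helpers here

set_option autoImplicit false
universe u
attribute [local instance] HasDerivedCategory.standard
open FlatMor

namespace Groth.Agent.S1493

section

open CategoryTheory CategoryTheory.Limits AlgebraicGeometry TopologicalSpace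
open Groth.Agent.Helper2.KosBridge Groth.Agent.S8653

theorem main {X Y : Scheme.{u}} (f : X ⟶ Y) [LocallyOfFiniteType f] [IsLocallyNoetherian X]
    [IsLocallyNoetherian Y]
    (hX : ∀ x : X, IsRegularLocalRing ↑(X.presheaf.stalk x))
    (hY : ∀ y : Y, IsRegularLocalRing ↑(Y.presheaf.stalk y)) :
    (∀ (U : X.Opens) (V : Y.Opens) (hU : IsAffineOpen U) (hV : IsAffineOpen V)
        (hUV : U ≤ f ⁻¹ᵁ V),
        letI := (f.appLE V U hUV).hom.toAlgebra
        LCI.IsLCI Γ(Y, V) Γ(X, U)) := by
  intro U V hU hV e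
  letI := (f.appLE V U e).hom.toAlgebra
  have hft : Algebra.FiniteType Γ(Y, V) Γ(X, U) :=
    LocallyOfFiniteType.finiteType_appLE (f := f) hV hU e
  obtain ⟨n, φ, hφ⟩ := Algebra.FiniteType.iff_quotient_mvPolynomial''.mp hft
  refine ⟨hft, n, φ, hφ, ?_⟩
  haveI := chart_closed hU φ.toRingHom hφ
  haveI : IsRegularRing Γ(Y, V) :=
    Groth.Agent.Helper28.BlowRegChart.isRegularRing_sections hY V hV
  haveI : IsRegularRing (MvPolynomial (Fin n) Γ(Y, V)) := inferInstance
  haveI : IsNoetherianRing (MvPolynomial (Fin n) Γ(Y, V)) := inferInstance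
  haveI : IsLocallyNoetherian (Spec (CommRingCat.of (MvPolynomial (Fin n) Γ(Y, V)))) :=
    inferInstance
  have hP : ∀ w : Spec (CommRingCat.of (MvPolynomial (Fin n) Γ(Y, V))),
      IsRegularLocalRing
        ((Spec (CommRingCat.of (MvPolynomial (Fin n) Γ(Y, V)))).presheaf.stalk w) :=
    fun w => (Groth.Agent.Helper12.StalkReg.reg_stalk_Spec_iff _ w).mpr inferInstance
  have hZ : ∀ z : (U : Scheme.{u}), IsRegularLocalRing ((U : Scheme.{u}).presheaf.stalk z) :=
    fun z => (Groth.Agent.Helper12.StalkReg.reg_stalk_iff U.ι z).mpr (hX _)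
  have hreg := Groth.Agent.Helper28.RegImmReg.main
    (hU.isoSpec.hom ≫ Spec.map (CommRingCat.ofHom φ.toRingHom)) hP hZ
  have hKR := Groth.Agent.Helper28.RegImmIso.koszul_of_regular_immersion _ hreg
  haveI : IsClosedImmersion
      ((hU.isoSpec.hom ≫ Spec.map (CommRingCat.ofHom φ.toRingHom)) ∣_ ⊤) :=
    IsZariskiLocalAtTarget.restrict ‹_› _
  exact (chart_kr_iff hU φ.toRingHom).mp (kr_ker _ hKR ⊤ (isAffineOpen_top _))

end

open AlgebraicGeometry CategoryTheory Limits in
/-- Let f : X → Y be locally of finite type with X and Y regular (locally Noetherian with regular local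
rings). Then f is a local complete intersection morphism (affine-locally: local complete
intersection ring maps). -/
theorem result {X Y : Scheme.{u}} (f : X ⟶ Y) [LocallyOfFiniteType f] [IsLocallyNoetherian X] [IsLocallyNoetherian Y]
    (hX : ∀ x : X, IsRegularLocalRing ↑(X.presheaf.stalk x)) (hY : ∀ y : Y, IsRegularLocalRing ↑(Y.presheaf.stalk y)) :
    (∀ (U : X.Opens) (V : Y.Opens) (hU : IsAffineOpen U) (hV : IsAffineOpen V) (hUV : U ≤ f ⁻¹ᵁ V),
        letI := (f.appLE V U hUV).hom.toAlgebra
        LCI.IsLCI Γ(Y, V) Γ(X, U)) := by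
  exact Groth.Agent.S1493.main f hX hY

end Groth.Agent.S1493
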