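import Groth.Statements.S14956
import Mathlib
import Groth.Agent.Lib.Helper22.MilFlat
import Groth.Agent.Lib.Helper29.Azumaya
import Groth.Agent.S14949
import Groth.Agent.S14953
import Groth.Agent.S14954

set_option autoImplicit false
universe u
open TensorProduct
open Brauer

namespace Groth.Agent.S14956

open MulOpposite Groth.Agent.Helper29 in
private lemma baseChange_mulLeftRight_bijective (R : Type u) [CommRing R] (S : Type u) [CommRing S]
    [Algebra R S] (A : Type u) [Ring A] [Algebra R A] [Module.Finite R A] [Module.Projective R A]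
    (hS : Function.Bijective (AlgHom.mulLeftRight S (S ⊗[R] A))) :
    Function.Bijective ((AlgHom.mulLeftRight R A).toLinearMap.baseChange S) := by
  let e2 : S ⊗[R] Aᵐᵒᵖ ≃ₗ[S] (S ⊗[R] A)ᵐᵒᵖ :=
    (AlgebraTensorModule.congr (LinearEquiv.refl S S) (MulOpposite.opLinearEquiv R).symm) ≪≫ₗ
      (MulOpposite.opLinearEquiv S)
  let e : S ⊗[R] (A ⊗[R] Aᵐᵒᵖ) ≃ₗ[S] (S ⊗[R] A) ⊗[S] (S ⊗[R] A)ᵐᵒᵖ :=
    (AlgebraTensorModule.distribBaseChange R S A Aᵐᵒᵖ) ≪≫ₗ
      (AlgebraTensorModule.congr (LinearEquiv.refl S (S ⊗[R] A)) e2)
  have h : (AlgHom.mulLeftRight S (S ⊗[R] A)).toLinearMap ∘ₗ e.toLinearMap =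
      (LinearMap.tensorProduct R S A A) ∘ₗ
        ((AlgHom.mulLeftRight R A).toLinearMap.baseChange S) := by
    ext a a' x
    simp [e, e2, -LinearMap.tensorProduct_apply, tensorProduct_tmul]
  have h1 := tensorProduct_bijective_of_finite_projective R S A A
  have h2 : Function.Bijective ((LinearMap.tensorProduct R S A A) ∘
      ((AlgHom.mulLeftRight R A).toLinearMap.baseChange S)) := by
    rw [← LinearMap.coe_comp, ← h, LinearMap.coe_comp]
    exact hS.comp e.bijective
  exact (Function.Bijective.of_comp_iff' h1 _).mp h2

open Groth.Agent.Helper22 in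
private lemma eq_zero_of_tmul_eq_zero_of_flat {B' B A' A : Type u} [CommRing B'] [CommRing B]
    [CommRing A'] [CommRing A]
    [Algebra B' B] [Algebra B' A'] [Algebra B A] [Algebra A' A] [Algebra B' A]
    [IsScalarTower B' B A] [IsScalarTower B' A' A]
    (hsq : EtMil.IsFibreSquare B' B A' A) (L' : Type u) [AddCommGroup L'] [Module B' L']
    [Module.Flat B' L'] (l : L') (h1 : ((1 : B) ⊗ₜ[B'] l : B ⊗[B'] L') = 0)
    (h2 : ((1 : A') ⊗ₜ[B'] l : A' ⊗[B'] L') = 0) : l = 0 := by
  have hι : Function.Injective ((Algebra.linearMap B' B).prod (Algebra.linearMap B' A')) := by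
    intro x y hxy
    have e1 := congrArg Prod.fst hxy
    have e2 := congrArg Prod.snd hxy
    exact fibreSquare_ext hsq e1 e2
  have hinj := Module.Flat.rTensor_preserves_injective_linearMap (M := L') _ hι
  have h3 : ((Algebra.linearMap B' B).prod (Algebra.linearMap B' A')).rTensor L'
      ((1 : B') ⊗ₜ[B'] l) = 0 := by
    rw [LinearMap.rTensor_tmul]
    have : ((Algebra.linearMap B' B).prod (Algebra.linearMap B' A')) (1 : B') =
        LinearMap.inl B' B A' 1 + LinearMap.inr B' B A' 1 := by
      simp
    rw [this, TensorProduct.add_tmul, ← LinearMap.rTensor_tmul, ← LinearMap.rTensor_tmul, h1, h2,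
      map_zero, map_zero, add_zero]
  have h4 : ((1 : B') ⊗ₜ[B'] l : B' ⊗[B'] L') = 0 := hinj (by rw [h3, map_zero])
  simpa using congrArg (TensorProduct.lid B' L') h4

private lemma bijective_of_baseChange_bijective {B' B A' A : Type u} [CommRing B'] [CommRing B]
    [CommRing A'] [CommRing A]
    [Algebra B' B] [Algebra B' A'] [Algebra B A] [Algebra A' A] [Algebra B' A]
    [IsScalarTower B' B A] [IsScalarTower B' A' A]
    (hsq : EtMil.IsFibreSquare B' B A' A) {P Q : Type u} [AddCommGroup P] [Module B' P]
    [AddCommGroup Q] [Module B' Q] [Module.Flat B' P] (f : P →ₗ[B'] Q)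
    (hB : Function.Bijective (f.baseChange B)) (hA' : Function.Bijective (f.baseChange A')) :
    Function.Bijective f := by
  constructor
  · rw [injective_iff_map_eq_zero]
    intro x hx
    apply eq_zero_of_tmul_eq_zero_of_flat hsq P x
    · apply hB.1
      rw [LinearMap.baseChange_tmul, hx, TensorProduct.tmul_zero, map_zero]
    · apply hA'.1
      rw [LinearMap.baseChange_tmul, hx, TensorProduct.tmul_zero, map_zero]
  · have key : ∀ (S : Type u) [CommRing S] [Algebra B' S], Function.Bijective (f.baseChange S) →
        Subsingleton (S ⊗[B'] (Q ⧸ LinearMap.range f)) := by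
      intro S _ _ hS
      refine ⟨fun x y => ?_⟩
      have h0 : ∀ z : S ⊗[B'] (Q ⧸ LinearMap.range f), z = 0 := by
        intro z
        obtain ⟨q, rfl⟩ := LinearMap.lTensor_surjective S (Submodule.mkQ_surjective _) z
        obtain ⟨p, rfl⟩ := hS.2 q
        change (LinearMap.range f).mkQ.lTensor S (f.lTensor S p) = 0
        rw [← LinearMap.comp_apply, ← LinearMap.lTensor_comp]
        have : (LinearMap.range f).mkQ ∘ₗ f = 0 := by
          ext p; simp
        rw [this, LinearMap.lTensor_zero, LinearMap.zero_apply]
      rw [h0 x, h0 y]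
    haveI := key B hB
    haveI := key A' hA'
    have hsub : Subsingleton (Q ⧸ LinearMap.range f) :=
      Groth.Agent.S14949.result B' B A' A hsq _
    rw [← LinearMap.range_eq_top]
    exact Submodule.Quotient.subsingleton_iff.mp hsub


/-- Let B' = B ×_A A' be a fibre product of commutative rings with A' → A surjective and D' a B'-algebra
(associative, unital, not necessarily commutative). Then D' is an Azumaya algebra over B' if and
only if B ⊗_{B'} D' is an Azumaya algebra over B and A' ⊗_{B'} D' is an Azumaya algebra over A'.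
(The published statement is for a quasi-coherent algebra on the pushout scheme Y of a closed
immersion and an affine morphism; this row is the case of an affine Y. Azumaya is taken in the
finite-projective-faithful sense.) -/
theorem result (B' B A' A : Type u) [CommRing B'] [CommRing B] [CommRing A'] [CommRing A]
    [Algebra B' B] [Algebra B' A'] [Algebra B A] [Algebra A' A] [Algebra B' A] [IsScalarTower B' B A] [IsScalarTower B' A' A]
    (hsq : EtMil.IsFibreSquare B' B A' A)
    (D' : Type u) [Ring D'] [Algebra B' D'] :
    IsAzumaya B' D' ↔ IsAzumaya B (B ⊗[B'] D') ∧ IsAzumaya A' (A' ⊗[B'] D') := by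
  constructor
  · intro h
    exact ⟨Groth.Agent.Helper29.isAzumaya_baseChange B' B D',
      Groth.Agent.Helper29.isAzumaya_baseChange B' A' D'⟩
  · rintro ⟨hB, hA'⟩
    haveI : Module.FinitePresentation B (B ⊗[B'] D') := Module.finitePresentation_of_projective _ _
    haveI : Module.FinitePresentation A' (A' ⊗[B'] D') :=
      Module.finitePresentation_of_projective _ _
    have hflat : Module.Flat B' D' := Groth.Agent.Helper22.MilFlat.flat_of_fibreSquare D' hsq
    have hfin : Module.Finite B' D' := Groth.Agent.S14953.result B' B A' A hsq D'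
    have hfp : Module.FinitePresentation B' D' := Groth.Agent.S14954.result B' B A' A hsq D'
    have hproj : Module.Projective B' D' := Module.Flat.projective_of_finitePresentation
    have hfaith : FaithfulSMul B' D' := by
      rw [faithfulSMul_iff_algebraMap_injective, injective_iff_map_eq_zero]
      intro b hb
      have hz : ∀ (S : Type u) [CommRing S] [Algebra B' S] [FaithfulSMul S (S ⊗[B'] D')],
          algebraMap B' S b = 0 := by
        intro S _ _ _
        apply (faithfulSMul_iff_algebraMap_injective S (S ⊗[B'] D')).mp inferInstance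
        rw [map_zero, Algebra.TensorProduct.algebraMap_apply, Algebra.algebraMap_self_apply,
          ← mul_one (algebraMap B' S b), ← Algebra.smul_def, TensorProduct.smul_tmul,
          ← Algebra.algebraMap_eq_smul_one, hb, TensorProduct.tmul_zero]
      apply Groth.Agent.Helper22.fibreSquare_ext hsq
      · rw [hz B, map_zero]
      · rw [hz A', map_zero]
    haveI : Module.Flat B' D'ᵐᵒᵖ := Module.Flat.of_linearEquiv (MulOpposite.opLinearEquiv B').symm
    refine ⟨?_⟩
    exact bijective_of_baseChange_bijective hsq (AlgHom.mulLeftRight B' D').toLinearMap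
      (baseChange_mulLeftRight_bijective B' B D' hB.bij)
      (baseChange_mulLeftRight_bijective B' A' D' hA'.bij)

end Groth.Agent.S14956
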