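import Groth.Statements.S14963
import Mathlib
import Groth.Agent.Lib.Helper29.Azumaya
import Groth.Agent.Lib.Helper22.SpecSurj

set_option autoImplicit false
universe u v w
open TensorProduct
open Brauer

namespace Groth.Agent.S14963

open MulOpposite Groth.Agent.Helper29 in
private lemma baseChange_mulLeftRight_bijective (R : Type u) [CommRing R] (S : Type v) [CommRing S]
    [Algebra R S] (A : Type w) [Ring A] [Algebra R A] [Module.Finite R A] [Module.Projective R A]
    (hS : Function.Bijective (AlgHom.mulLeftRight S (S ⊗[R] A))) :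
    Function.Bijective ((AlgHom.mulLeftRight R A).toLinearMap.baseChange S) := by
  let e2 : S ⊗[R] Aᵐᵒᵖ ≃ₗ[S] (S ⊗[R] A)ᵐᵒᵖ :=
    (AlgebraTensorModule.congr (LinearEquiv.refl S S) (MulOpposite.opLinearEquiv R).symm) ≪≫ₗ
      (MulOpposite.opLinearEquiv S)
  let e : S ⊗[R] (A ⊗[R] Aᵐᵒᵖ) ≃ₗ[S] (S ⊗[R] A) ⊗[S] (S ⊗[R] A)ᵐᵒᵖ :=
    (AlgebraTensorModule.distribBaseChange R S A Aᵐᵒᵖ) ≪≫ₗ
      (AlgebraTensorModule.congr (LinearEquiv.refl S (S ⊗[R] A)) e2)
  have h : (AlgHom.mulLeftRight S (S ⊗[R] A)).toLinearMap ∘ₗ e.toLinearMap =
      (LinearMap.tensorProduct R S A A) ∘ₗ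
        ((AlgHom.mulLeftRight R A).toLinearMap.baseChange S) := by
    ext a a' x
    simp [e, e2, -LinearMap.tensorProduct_apply, tensorProduct_tmul]
  have h1 := tensorProduct_bijective_of_finite_projective R S A A
  have h2 : Function.Bijective ((LinearMap.tensorProduct R S A A) ∘
      ((AlgHom.mulLeftRight R A).toLinearMap.baseChange S)) := by
    rw [← LinearMap.coe_comp, ← h, LinearMap.coe_comp]
    exact hS.comp e.bijective
  exact (Function.Bijective.of_comp_iff' h1 _).mp h2

private lemma end_finite_projective (R : Type u) [CommRing R] (B : Type w) [AddCommGroup B]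
    [Module R B] [Module.Finite R B] [Module.Projective R B] :
    Module.Finite R (Module.End R B) ∧ Module.Projective R (Module.End R B) := by
  obtain ⟨n, i, p, hpi⟩ := Groth.Agent.Helper29.exists_retract_of_finite_projective R B
  let a : Module.End R B →ₗ[R] Module.End R (Fin n → R) :=
    { toFun := fun f => i ∘ₗ f ∘ₗ p
      map_add' := fun f g => by ext; simp
      map_smul' := fun r f => by ext; simp }
  let b : Module.End R (Fin n → R) →ₗ[R] Module.End R B :=
    { toFun := fun g => p ∘ₗ g ∘ₗ i
      map_add' := fun f g => by ext; simp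
      map_smul' := fun r f => by ext; simp }
  have hpi' : ∀ x, p (i x) = x := fun x => LinearMap.congr_fun hpi x
  have hba : b ∘ₗ a = LinearMap.id := by
    ext f x
    show p (i (f (p (i x)))) = f x
    rw [hpi', hpi']
  exact ⟨Module.Finite.of_surjective b (fun f => ⟨a f, LinearMap.congr_fun hba f⟩),
    Module.Projective.of_split a b hba⟩

private lemma faithful_descent (R : Type u) [CommRing R] (S : Type v) [CommRing S] [Algebra R S]
    (hS : Function.Surjective (PrimeSpectrum.comap (algebraMap R S)))
    (B : Type w) [AddCommGroup B] [Module R B] [Module.Finite R B] [Module.Projective R B]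
    [Module.Finite S (S ⊗[R] B)] [Module.Projective S (S ⊗[R] B)] [FaithfulSMul S (S ⊗[R] B)]
    (r : R) (hr : ∀ b : B, r • b = 0) : r = 0 := by
  let C : Submodule R R := Ideal.span {r}
  let π : R →ₗ[R] C := (LinearMap.toSpanSingleton R R r).codRestrict C (by
    intro x
    rw [LinearMap.toSpanSingleton_apply]
    exact Ideal.mem_span_singleton'.mpr ⟨x, rfl⟩)
  have hπ : Function.Surjective π := by
    rintro ⟨y, hy⟩
    obtain ⟨x, rfl⟩ := Ideal.mem_span_singleton'.mp hy
    exact ⟨x, Subtype.ext rfl⟩
  haveI : Module.Finite R C := Module.Finite.of_surjective π hπ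
  haveI : Subsingleton (B ⊗[R] C) := by
    refine ⟨fun x y => ?_⟩
    have h0 : ∀ z : B ⊗[R] C, z = 0 := by
      intro z
      have hinj : Function.Injective (C.subtype.lTensor B) :=
        Module.Flat.lTensor_preserves_injective_linearMap _ (Submodule.injective_subtype _)
      apply hinj
      rw [map_zero]
      induction z using TensorProduct.induction_on with
      | zero => rw [map_zero]
      | tmul b c =>
        obtain ⟨x, hx⟩ := Ideal.mem_span_singleton'.mp c.2
        rw [LinearMap.lTensor_tmul, Submodule.subtype_apply, ← hx, mul_comm, ← smul_eq_mul,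
          ← TensorProduct.smul_tmul, hr, TensorProduct.zero_tmul]
      | add x y hx hy => rw [map_add, hx, hy, add_zero]
    rw [h0 x, h0 y]
  haveI : Subsingleton (S ⊗[R] (B ⊗[R] C)) := by
    refine ⟨fun x y => ?_⟩
    have h0 : ∀ z : S ⊗[R] (B ⊗[R] C), z = 0 := by
      intro z
      induction z using TensorProduct.induction_on with
      | zero => rfl
      | tmul s t => rw [Subsingleton.elim t 0, TensorProduct.tmul_zero]
      | add x y hx hy => rw [hx, hy, add_zero]
    rw [h0 x, h0 y]
  haveI : Subsingleton ((S ⊗[R] B) ⊗[S] (S ⊗[R] C)) :=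
    (AlgebraTensorModule.distribBaseChange R S B C).symm.toEquiv.subsingleton
  haveI : Module.FaithfullyFlat S (S ⊗[R] B) :=
    Groth.Agent.Helper29.faithfullyFlat_of_finite_projective_faithful S (S ⊗[R] B)
  haveI : Subsingleton (S ⊗[R] C) :=
    Module.FaithfullyFlat.lTensor_reflects_triviality S (S ⊗[R] B) (S ⊗[R] C)
  haveI : Subsingleton C := Groth.Agent.Helper22.SpecSurj.subsingleton_of_baseChange hS C
  have : (⟨r, Ideal.mem_span_singleton_self r⟩ : C) = 0 := Subsingleton.elim _ _
  exact congrArg Subtype.val this


/-- Let R → S be a ring homomorphism with Spec S → Spec R surjective and B an R-algebra which is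
finitely generated and projective as an R-module. If S ⊗_R B is an Azumaya S-algebra, then B is an
Azumaya R-algebra. (The published statement is for a surjective morphism of schemes X → Y and a
finite locally free O_Y-algebra; this row is the case of affine X and Y. The converse direction,
base change, is omitted.) -/
theorem result (R : Type u) [CommRing R]
    (S : Type v) [CommRing S] [Algebra R S]
    (hS : Function.Surjective (PrimeSpectrum.comap (algebraMap R S)))
    (B : Type w) [Ring B] [Algebra R B] [Module.Finite R B] [Module.Projective R B]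
    [IsAzumaya S (S ⊗[R] B)] : IsAzumaya R B := by
  obtain ⟨hEf, hEp⟩ := end_finite_projective R B
  haveI hfaith : FaithfulSMul R B := by
    rw [faithfulSMul_iff_algebraMap_injective, injective_iff_map_eq_zero]
    intro r hr
    apply faithful_descent R S hS B r
    intro b
    rw [Algebra.smul_def, hr, zero_mul]
  refine ⟨?_⟩
  have hb := baseChange_mulLeftRight_bijective R S B IsAzumaya.bij
  exact Groth.Agent.Helper22.SpecSurj.bijective_of_baseChange hS
    (AlgHom.mulLeftRight R B).toLinearMap hb

end Groth.Agent.S14963
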