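import Groth.Statements.S14965
import Mathlib
import Groth.Agent.Lib.Helper22.MilGlue
import Groth.Agent.S14956

set_option autoImplicit false
universe u
open TensorProduct
open Brauer

namespace Groth.Agent.S14965

private lemma azumaya_of_glue_proj {R S : Type u} [CommRing R] [CommRing S] [Algebra R S]
    (N : Type u) [Ring N] [Algebra S N] [Algebra R N] [IsScalarTower R S N] [IsAzumaya S N]
    (D : Type u) [Ring D] [Algebra R D] (π : D →ₐ[R] N)
    (hbij : Function.Bijective (LinearMap.liftBaseChange S π.toLinearMap)) :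
    IsAzumaya S (S ⊗[R] D) := by
  let e₁ : S ⊗[R] D →ₐ[S] N :=
    Algebra.TensorProduct.lift (Algebra.ofId S N) π (fun b d => Algebra.commutes b (π d))
  have heq : ∀ z, e₁ z = LinearMap.liftBaseChange S π.toLinearMap z := by
    intro z
    induction z using TensorProduct.induction_on with
    | zero => simp
    | tmul b d =>
      rw [Algebra.TensorProduct.lift_tmul, LinearMap.liftBaseChange_tmul, Algebra.smul_def]
      rfl
    | add x y hx hy => rw [map_add, map_add, hx, hy]
  have hb : Function.Bijective e₁ := by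
    have : (e₁ : S ⊗[R] D → N) = LinearMap.liftBaseChange S π.toLinearMap := funext heq
    rw [this]; exact hbij
  exact IsAzumaya.of_AlgEquiv S N (S ⊗[R] D) (AlgEquiv.ofBijective e₁ hb).symm


/-- Let B' = B ×_A A' be a fibre product of commutative rings with A' → A surjective, N an Azumaya
B-algebra, M' an Azumaya A'-algebra and φ : A ⊗_B N ≅ A ⊗_{A'} M' an isomorphism of A-algebras. If a
B'-algebra D' with B'-algebra homomorphisms π₁ : D' → N and π₂ : D' → M' is the glued algebra N ×_φ
M', in the sense that (π₁, π₂) is injective with image the pairs (n, m') satisfying φ(1 ⊗ n) = 1 ⊗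
m', then D' is an Azumaya B'-algebra. (The published statement is for Azumaya algebras on the
pushout scheme of a closed immersion and an affine morphism, glued as u_*B' ×_{h_*} f_*A; this row
is the case of an affine pushout.) -/
theorem result (B' B A' A : Type u) [CommRing B'] [CommRing B] [CommRing A'] [CommRing A]
    [Algebra B' B] [Algebra B' A'] [Algebra B A] [Algebra A' A] [Algebra B' A] [IsScalarTower B' B A] [IsScalarTower B' A' A]
    (hsq : EtMil.IsFibreSquare B' B A' A)
    (N : Type u) [Ring N] [Algebra B N] [Algebra B' N] [IsScalarTower B' B N] [IsAzumaya B N]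
    (M' : Type u) [Ring M'] [Algebra A' M'] [Algebra B' M'] [IsScalarTower B' A' M'] [IsAzumaya A' M']
    (φ : A ⊗[B] N ≃ₐ[A] A ⊗[A'] M')
    (D' : Type u) [Ring D'] [Algebra B' D'] (π₁ : D' →ₐ[B'] N) (π₂ : D' →ₐ[B'] M')
    (hinj : ∀ d : D', π₁ d = 0 → π₂ d = 0 → d = 0)
    (himg : ∀ (n : N) (m' : M'), φ ((1 : A) ⊗ₜ[B] n) = (1 : A) ⊗ₜ[A'] m' ↔ ∃ d : D', π₁ d = n ∧ π₂ d = m') :
    IsAzumaya B' D' := by
  have hg : Groth.Agent.Helper22.MilGlue.IsGlue φ.toLinearEquiv π₁.toLinearMap π₂.toLinearMap :=
    ⟨hinj, himg⟩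
  have h1 := azumaya_of_glue_proj N D' π₁ (hg.bijective_liftBaseChange_p₁ hsq)
  have h2 := azumaya_of_glue_proj M' D' π₂ (hg.bijective_liftBaseChange_p₂ hsq)
  exact (Groth.Agent.S14956.result B' B A' A hsq D').mpr ⟨h1, h2⟩

end Groth.Agent.S14965
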