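import Groth.Statements.S14966
import Mathlib

set_option autoImplicit false
universe u
open EtAlg

namespace Groth.Agent.S14966

/-- Let A → A' be an injective homomorphism of commutative rings and let I ⊆ A be the conductor, i.e.
the annihilator of the A-module A'/A. Then the conductor square formed by A → A/I, A → A', A/I →
A'/IA' and A' → A'/IA' is a fibre product square of rings with A' → A'/IA' surjective: A = A/I
×_{A'/IA'} A'. (The published Lemma is for the conductor square of a finite modification of schemes;
this row is the underlying statement for one injective ring map, which needs no finiteness.) -/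
theorem result (A A' : Type u) [CommRing A] [CommRing A'] [Algebra A A']
    (hinj : Function.Injective (algebraMap A A')) :
    EtMil.IsFibreSquare A (A ⧸ Module.annihilator A (A' ⧸ LinearMap.range (Algebra.linearMap A A'))) A'
      (A' ⧸ Ideal.map (algebraMap A A') (Module.annihilator A (A' ⧸ LinearMap.range (Algebra.linearMap A A')))) := by
  set c := Module.annihilator A (A' ⧸ LinearMap.range (Algebra.linearMap A A')) with hcdef
  have hc : ∀ x : A, x ∈ c ↔ ∀ a'' : A', ∃ y : A, algebraMap A A' y = algebraMap A A' x * a'' := by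
    intro x
    rw [hcdef, Module.mem_annihilator]
    constructor
    · intro h a''
      have h1 := h (Submodule.Quotient.mk a'')
      rw [← Submodule.Quotient.mk_smul, Submodule.Quotient.mk_eq_zero] at h1
      obtain ⟨y, hy⟩ := h1
      exact ⟨y, by rw [← Algebra.smul_def]; exact hy⟩
    · intro h m
      obtain ⟨a'', rfl⟩ := Submodule.Quotient.mk_surjective _ m
      rw [← Submodule.Quotient.mk_smul, Submodule.Quotient.mk_eq_zero]
      obtain ⟨y, hy⟩ := h a''
      exact ⟨y, by rw [Algebra.smul_def]; exact hy⟩
  have hmap : ∀ z ∈ Ideal.map (algebraMap A A') c, ∃ x ∈ c, algebraMap A A' x = z := by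
    intro z hz
    unfold Ideal.map at hz
    induction hz using Submodule.span_induction with
    | mem z hz =>
      obtain ⟨x, hx, rfl⟩ := hz
      exact ⟨x, hx, rfl⟩
    | zero => exact ⟨0, zero_mem _, map_zero _⟩
    | add z w _ _ hz hw =>
      obtain ⟨x, hx, rfl⟩ := hz
      obtain ⟨y, hy, rfl⟩ := hw
      exact ⟨x + y, add_mem hx hy, map_add _ _ _⟩
    | smul a'' z _ hz =>
      obtain ⟨x, hx, rfl⟩ := hz
      obtain ⟨y, hy⟩ := (hc x).mp hx a''
      refine ⟨y, ?_, ?_⟩
      · rw [hc]
        intro a'''
        obtain ⟨w, hw⟩ := (hc x).mp hx (a'' * a''')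
        exact ⟨w, by rw [hw, hy, mul_assoc]⟩
      · rw [hy, smul_eq_mul, mul_comm]
  refine ⟨Ideal.Quotient.mk_surjective, ?_⟩
  intro b a' hba
  obtain ⟨a₀, rfl⟩ := Ideal.Quotient.mk_surjective b
  have h1 : algebraMap A A' a₀ - a' ∈ Ideal.map (algebraMap A A') c := by
    rw [← Ideal.Quotient.eq]
    exact hba
  obtain ⟨x, hx, hx'⟩ := hmap _ h1
  refine ⟨a₀ - x, ⟨?_, ?_⟩, ?_⟩
  · change Ideal.Quotient.mk c (a₀ - x) = Ideal.Quotient.mk c a₀
    rw [Ideal.Quotient.eq]
    simpa using hx
  · rw [map_sub, hx']; ring
  · rintro y ⟨_, hy2⟩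
    apply hinj
    rw [hy2, map_sub, hx']; ring

end Groth.Agent.S14966
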