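import Groth.Statements.S14967
import Mathlib
import Groth.Agent.Lib.Helper29.Azumaya

set_option autoImplicit false
universe u v w
open TensorProduct
open Brauer

namespace Groth.Agent.S14967

open MulOpposite Groth.Agent.Helper29 in
private lemma baseChange_mulLeftRight_bijective (R : Type u) [CommRing R] (S : Type v) [CommRing S]
    [Algebra R S] (A : Type w) [Ring A] [Algebra R A] [Module.Finite R A] [Module.Projective R A]
    (hS : Function.Bijective (AlgHom.mulLeftRight S (S ⊗[R] A))) :
    Function.Bijective ((AlgHom.mulLeftRight R A).toLinearMap.baseChange S) := by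
  let e2 : S ⊗[R] Aᵐᵒᵖ ≃ₗ[S] (S ⊗[R] A)ᵐᵒᵖ :=
    (AlgebraTensorModule.congr (LinearEquiv.refl S S) (MulOpposite.opLinearEquiv R).symm) ≪≫ₗ
      (MulOpposite.opLinearEquiv S)
  let e : S ⊗[R] (A ⊗[R] Aᵐᵒᵖ) ≃ₗ[S] (S ⊗[R] A) ⊗[S] (S ⊗[R] A)ᵐᵒᵖ :=
    (AlgebraTensorModule.distribBaseChange R S A Aᵐᵒᵖ) ≪≫ₗ
      (AlgebraTensorModule.congr (LinearEquiv.refl S (S ⊗[R] A)) e2)
  have h : (AlgHom.mulLeftRight S (S ⊗[R] A)).toLinearMap ∘ₗ e.toLinearMap =
      (LinearMap.tensorProduct R S A A) ∘ₗ
        ((AlgHom.mulLeftRight R A).toLinearMap.baseChange S) := by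
    ext a a' x
    simp [e, e2, -LinearMap.tensorProduct_apply, tensorProduct_tmul]
  have h1 := tensorProduct_bijective_of_finite_projective R S A A
  have h2 : Function.Bijective ((LinearMap.tensorProduct R S A A) ∘
      ((AlgHom.mulLeftRight R A).toLinearMap.baseChange S)) := by
    rw [← LinearMap.coe_comp, ← h, LinearMap.coe_comp]
    exact hS.comp e.bijective
  exact (Function.Bijective.of_comp_iff' h1 _).mp h2

private lemma fp_descent (R : Type u) [CommRing R] (S : Type v) [CommRing S] [Algebra R S]
    [Module.FaithfullyFlat R S] (M : Type w) [AddCommGroup M] [Module R M]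
    [Module.FinitePresentation S (S ⊗[R] M)] : Module.FinitePresentation R M := by
  haveI : Module.Finite R M := Module.Finite.of_finite_tensorProduct_of_faithfullyFlat (T := S)
  obtain ⟨n, π, hπ⟩ := Module.Finite.exists_fin' R M
  have hinj : Function.Injective ((LinearMap.ker π).subtype.baseChange S) :=
    Module.Flat.lTensor_preserves_injective_linearMap _ (Submodule.injective_subtype _)
  have hex : Function.Exact ((LinearMap.ker π).subtype.baseChange S) (π.baseChange S) :=
    lTensor_exact S (LinearMap.exact_subtype_ker_map π) hπ
  have hsurj : Function.Surjective (π.baseChange S) := LinearMap.lTensor_surjective S hπ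
  have hfg : (LinearMap.ker (π.baseChange S)).FG := Module.FinitePresentation.fg_ker _ hsurj
  have hrange : LinearMap.range ((LinearMap.ker π).subtype.baseChange S) =
      LinearMap.ker (π.baseChange S) := (LinearMap.exact_iff.mp hex).symm
  have hfin : Module.Finite S (LinearMap.range ((LinearMap.ker π).subtype.baseChange S)) := by
    rw [hrange]; exact Module.Finite.iff_fg.mpr hfg
  haveI : Module.Finite S (S ⊗[R] (LinearMap.ker π)) :=
    Module.Finite.equiv (LinearEquiv.ofInjective _ hinj).symm
  haveI : Module.Finite R (LinearMap.ker π) :=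
    Module.Finite.of_finite_tensorProduct_of_faithfullyFlat (T := S)
  exact Module.finitePresentation_of_surjective π hπ (Module.Finite.iff_fg.mp inferInstance)


/-- Let R → S be a faithfully flat homomorphism of commutative rings and B an R-algebra, with no
finiteness assumption. If S ⊗_R B is an Azumaya S-algebra then B is an Azumaya R-algebra. (The
published statement is for a flat surjective morphism of schemes X → Y and a quasi-coherent
O_Y-algebra; this row is the case of affine X and Y, where flat and surjective means faithfully
flat. The converse, base change, is omitted.) -/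
theorem result (R : Type u) [CommRing R]
    (S : Type v) [CommRing S] [Algebra R S] [Module.FaithfullyFlat R S]
    (B : Type w) [Ring B] [Algebra R B] [IsAzumaya S (S ⊗[R] B)] : IsAzumaya R B := by
  haveI hfin : Module.Finite R B := Module.Finite.of_finite_tensorProduct_of_faithfullyFlat (T := S)
  haveI hflat : Module.Flat R B := Module.Flat.of_flat_tensorProduct R B S
  haveI : Module.FinitePresentation S (S ⊗[R] B) := Module.finitePresentation_of_projective _ _
  haveI hfp : Module.FinitePresentation R B := fp_descent R S B
  haveI hproj : Module.Projective R B := Module.Flat.projective_of_finitePresentation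
  haveI hfaith : FaithfulSMul R B := by
    rw [faithfulSMul_iff_algebraMap_injective, injective_iff_map_eq_zero]
    intro r hr
    have h1 : algebraMap R S r = 0 := by
      apply (faithfulSMul_iff_algebraMap_injective S (S ⊗[R] B)).mp inferInstance
      rw [map_zero, Algebra.TensorProduct.algebraMap_apply, Algebra.algebraMap_self_apply,
        ← mul_one (algebraMap R S r), ← Algebra.smul_def, TensorProduct.smul_tmul,
        ← Algebra.algebraMap_eq_smul_one, hr, TensorProduct.tmul_zero]
    exact (FaithfulSMul.algebraMap_injective R S) (by rw [h1, map_zero])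
  refine ⟨?_⟩
  have hb := baseChange_mulLeftRight_bijective R S B IsAzumaya.bij
  exact ⟨(Module.FaithfullyFlat.lTensor_injective_iff_injective R S _).mp hb.1,
    (Module.FaithfullyFlat.lTensor_surjective_iff_surjective R S _).mp hb.2⟩

end Groth.Agent.S14967
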