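import Groth.Statements.S14984
import Mathlib

set_option autoImplicit false
universe u v w
open HopfRep

namespace Groth.Agent.S14984

/-- Let `R` be a commutative ring, `A` a commutative Hopf algebra over `R`, flat as an `R`-module, `B` a
commutative `R`-algebra with a coaction of `A` that is an algebra map (an action of `G = Spec A` on
`X = Spec B`), and `C = B^A` the ring of invariants. If the action base-changed along `R → C` — the
`C`-Hopf algebra `C ⊗ A` coacting on `C ⊗ B` — is tame, i.e. there is a `C`-linear comodule map `β :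
C ⊗ A → C ⊗ B` (regular coaction on the source, base-changed coaction on the target) with `β 1 = 1`,
then the original action is tame: there is an `R`-linear comodule map `α : A → B` with `α 1 = 1`.
(The converse is the case `S = C` of stability of tameness under base change. The published lemma
also lists, as a third equivalent condition, tameness of the action of `C ⊗ A` on `B` itself over
`C`; that condition is not stated here.) -/
theorem result
    (R : Type u) (A : Type v) (B : Type w)
    [CommRing R] [CommRing A] [HopfAlgebra R A] [Module.Flat R A]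
    [CommRing B] [Algebra R B] [HopfRep.Comod R A B] [GLin.IsCoactAlg R A B]
    (h : ∃ β : TensorProduct R ↥(GLin.invariants R A B) A →ₗ[↥(GLin.invariants R A B)]
        TensorProduct R ↥(GLin.invariants R A B) B,
      @Hoch.IsComodHom ↥(GLin.invariants R A B) _ (TensorProduct R ↥(GLin.invariants R A B) A) _ _ _
        (TensorProduct R ↥(GLin.invariants R A B) A) _ _
        (HopfRep.Comod.regular ↥(GLin.invariants R A B) (TensorProduct R ↥(GLin.invariants R A B) A))
        (TensorProduct R ↥(GLin.invariants R A B) B) _ _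
        (CoactBr.Comod.baseChange R ↥(GLin.invariants R A B) A B) β ∧ β 1 = 1) :
    ∃ α : A →ₗ[R] B, Hoch.IsComodHom A α ∧ α 1 = 1 := by
  obtain ⟨β, hβ, hβ1⟩ := h
  let μ : TensorProduct R ↥(GLin.invariants R A B) B →ₗ[R] B :=
    (Algebra.TensorProduct.productMap (GLin.invariants R A B).val (AlgHom.id R B)).toLinearMap
  have hμ : ∀ (c : ↥(GLin.invariants R A B)) (b : B), μ (c ⊗ₜ[R] b) = (c : B) * b := by
    intro c b
    simp [μ]
  let Ψ : TensorProduct ↥(GLin.invariants R A B) (TensorProduct R ↥(GLin.invariants R A B) B)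
      (TensorProduct R ↥(GLin.invariants R A B) A) →ₗ[R] TensorProduct R B A :=
    (μ.rTensor A) ∘ₗ
      ((TensorProduct.AlgebraTensorModule.cancelBaseChange R ↥(GLin.invariants R A B)
        ↥(GLin.invariants R A B) (TensorProduct R ↥(GLin.invariants R A B) B) A).restrictScalars
          R).toLinearMap
  have hΨ : ∀ (z : TensorProduct R ↥(GLin.invariants R A B) B) (c : ↥(GLin.invariants R A B))
      (a : A), Ψ (z ⊗ₜ[↥(GLin.invariants R A B)] (c ⊗ₜ[R] a)) = μ (c • z) ⊗ₜ[R] a := by
    intro z c a
    simp [Ψ]
  let α : A →ₗ[R] B :=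
    μ ∘ₗ (β.restrictScalars R) ∘ₗ (TensorProduct.mk R ↥(GLin.invariants R A B) A 1)
  have hαa : ∀ a, α a = μ (β (1 ⊗ₜ[R] a)) := fun a => rfl
  have hβ' : (CoactBr.Comod.baseChange R ↥(GLin.invariants R A B) A B).coact ∘ₗ β =
      β.rTensor (TensorProduct R ↥(GLin.invariants R A B) A) ∘ₗ
        CoalgebraStruct.comul (R := ↥(GLin.invariants R A B))
          (A := TensorProduct R ↥(GLin.invariants R A B) A) := hβ
  refine ⟨α, ?_, ?_⟩
  · apply LinearMap.ext
    intro a
    show HopfRep.Comod.coact (k := R) (A := A) (α a) =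
      α.rTensor A (CoalgebraStruct.comul (R := R) a)
    have claim1 : ∀ z : TensorProduct R ↥(GLin.invariants R A B) B,
        HopfRep.Comod.coact (k := R) (A := A) (μ z) =
          Ψ ((CoactBr.Comod.baseChange R ↥(GLin.invariants R A B) A B).coact z) := by
      intro z
      induction z using TensorProduct.induction_on with
      | zero => simp
      | tmul c b =>
        rw [hμ, GLin.IsCoactAlg.coact_mul, (GLin.mem_invariants_iff R A B c).1 c.2,
          CoactBr.baseChange_coact_tmul]
        generalize HopfRep.Comod.coact (k := R) (A := A) b = w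
        induction w using TensorProduct.induction_on with
        | zero => simp
        | tmul b₀ b₁ =>
          show ((c : B) ⊗ₜ[R] (1 : A)) * (b₀ ⊗ₜ[R] b₁) =
            Ψ (((1 : ↥(GLin.invariants R A B)) ⊗ₜ[R] b₀) ⊗ₜ[↥(GLin.invariants R A B)]
              (c ⊗ₜ[R] b₁))
          rw [hΨ, Algebra.TensorProduct.tmul_mul_tmul, one_mul, TensorProduct.smul_tmul',
            smul_eq_mul, mul_one, hμ]
        | add w₁ w₂ h₁ h₂ => simp only [mul_add, TensorProduct.tmul_add, map_add, h₁, h₂]
      | add z₁ z₂ h₁ h₂ => simp only [map_add, h₁, h₂]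
    have hβa := LinearMap.congr_fun hβ' ((1 : ↥(GLin.invariants R A B)) ⊗ₜ[R] a)
    simp only [LinearMap.comp_apply] at hβa
    rw [hαa, claim1, hβa, TensorProduct.comul_tmul, CoactBr.comul_self_apply]
    generalize CoalgebraStruct.comul (R := R) a = w
    induction w using TensorProduct.induction_on with
    | zero => simp
    | tmul a₁ a₂ =>
      show Ψ ((β.rTensor (TensorProduct R ↥(GLin.invariants R A B) A))
        (((1 : ↥(GLin.invariants R A B)) ⊗ₜ[R] a₁) ⊗ₜ[↥(GLin.invariants R A B)]
          ((1 : ↥(GLin.invariants R A B)) ⊗ₜ[R] a₂))) = (α.rTensor A) (a₁ ⊗ₜ[R] a₂)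
      rw [LinearMap.rTensor_tmul, hΨ, one_smul, LinearMap.rTensor_tmul, hαa]
    | add w₁ w₂ h₁ h₂ => simp only [map_add, TensorProduct.tmul_add, h₁, h₂]
  · rw [hαa]
    have h1 : ((1 : ↥(GLin.invariants R A B)) ⊗ₜ[R] (1 : A)) =
        (1 : TensorProduct R ↥(GLin.invariants R A B) A) := rfl
    rw [h1, hβ1]
    exact map_one (Algebra.TensorProduct.productMap (GLin.invariants R A B).val (AlgHom.id R B))

end Groth.Agent.S14984
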