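import Groth.Statements.S1499
import Mathlib
import Groth.Prelude.Def_MoreMor
import Groth.Prelude.Def_LCI2
import Groth.Agent.Lib.Helper13.GenTwist2
import Groth.Agent.Lib.Helper13.PbAmple

set_option autoImplicit false
universe u
attribute [local instance] HasDerivedCategory.standard
open FlatMor

namespace Groth.Agent.S1499

open CategoryTheory CategoryTheory.Limits AlgebraicGeometry Opposite TopologicalSpace
open Groth.Agent.Helper13.Tensor Groth.Agent.Helper13.Inv Groth.Agent.Helper13.GenLoc
open Groth.Agent.Helper13.Ample Groth.Agent.Helper13.GenTwist Groth.Agent.Helper13.PbAmple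

open AlgebraicGeometry CategoryTheory Limits in
/-- Let f : X → Y with Y having an ample family of invertible modules, and suppose some O_X-module is
ample relative to f. Then X has an ample family of invertible modules. -/
theorem result {X Y : Scheme.{u}} (f : X ⟶ Y)
    (hY : MoreMor.HasAmpleFamily Y) (L : X.Modules) (hL : RelAmple.IsRelAmple f L) :
    MoreMor.HasAmpleFamily X := by
  haveI := hY.1
  haveI := hL.1
  haveI : CompactSpace X := QuasiCompact.compactSpace_of_compactSpace f
  have hLinv : PicF.IsInvertible L := by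
    apply isInvertible_of_forall_exists_restrict
    intro x
    obtain ⟨V, hV, hxV, -⟩ := exists_isAffineOpen_mem_and_subset (x := f x) (U := ⊤) trivial
    exact ⟨_, (f ⁻¹ᵁ V).ι, inferInstance, ⟨⟨x, hxV⟩, rfl⟩, (hL.2 ⟨V, hV⟩).1⟩
  have key : ∀ x : X, ∃ (K : X.Modules) (θ : Coh.structureModule X ⟶ K), PicF.IsInvertible K ∧
      x ∈ CohB1.genLocus K θ ∧ CohB1.IsAmple (L.restrict (CohB1.genLocus K θ).ι) := by
    intro x
    obtain ⟨M, n, t, hM, -, hy, haff⟩ := hY.2 (f x)
    refine ⟨_, pullbackPowSec f M hM n t,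
      isInvertible_tensorPow _ (Groth.Agent.Helper13.PbInv.isInvertible_pullback f M hM) n, ?_, ?_⟩
    · rw [genLocus_pullbackPowSec]; exact hy
    · rw [genLocus_pullbackPowSec]; exact hL.2 ⟨_, haff⟩
  choose K θ hK hx hamp using key
  haveI : QuasiSeparatedSpace X :=
    QuasiSeparatedSpace.of_isOpenCover (U := fun x => CohB1.genLocus (K x) (θ x))
      (eq_top_iff.mpr fun x _ => Opens.mem_iSup.mpr ⟨x, hx x⟩)
      (fun x => isRetrocompact_genLocus _ (hK x) (θ x))
      (fun x => (isQuasiSeparated_iff_quasiSeparatedSpace _ (CohB1.genLocus (K x) (θ x)).2).2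
        (quasiSeparatedSpace_of_isAmple _ (hamp x)))
  refine ⟨inferInstance, fun x => ?_⟩
  obtain ⟨α, G, -, hxG, hG, -, k₀, hk⟩ := exists_twisted_section_of_isAmple_restrict L (K x) hLinv
    (hK x) (θ x) (hamp x) 1 one_pos x (hx x)
  obtain ⟨τ, hτ⟩ := hk k₀ le_rfl
  have hL' : PicF.IsInvertible (CohB1.tensorMod (CohB1.tensorPow L (1 * α)) (CohB1.tensorPow (K x) k₀)) :=
    isInvertible_tensorMod _ _ (isInvertible_tensorPow L hLinv _) (isInvertible_tensorPow _ (hK x) _)
  have hloc : CohB1.genLocus _ (τ ≫ (powOne _).symm.hom) = G :=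
    (genLocus_comp_iso τ (powOne _).symm).trans hτ
  refine ⟨_, 1, τ ≫ (powOne _).symm.hom, hL', le_rfl, ?_, ?_⟩
  · rw [hloc]; exact hxG
  · rw [hloc]; exact hG

end Groth.Agent.S1499
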