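import Groth.Statements.S14994
import Mathlib

set_option autoImplicit false
universe u
open CAlg

namespace Groth.Agent.S14994

/-- Let A be a Noetherian integrally closed domain, M a finitely generated torsion-free A-module, N a
submodule of M and ι : M → M** the canonical map to the double dual. Write N** → M** for the double
dual of the inclusion N → M. Then every m ∈ M whose image ι(m) lies in the image of N** is a torsion
element modulo N: some nonzero a ∈ A satisfies a·m ∈ N. In other words the preimage of N** under ι
is contained in the saturation of N in M (the preimage of the torsion submodule of M/N), and the two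
coincide when M/N is torsion-free. (The published statement asserts equality of the preimage with
the saturation for every N; for N = xA inside M = A = k[x] the saturation is all of M while N** has
image xA = N under the identification M** = M, so only the inclusion stated here holds, and it is
the inclusion later used, for saturated N, where the two sides agree.) -/
theorem result (A : Type u) [CommRing A] [IsDomain A]
    [IsNoetherianRing A] [IsIntegrallyClosed A]
    (M : Type u) [AddCommGroup M] [Module A M] [Module.Finite A M] [NoZeroSMulDivisors A M]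
    (N : Submodule A M) :
    (LinearMap.range N.subtype.dualMap.dualMap).comap (Module.Dual.eval A M) ≤
      (Submodule.torsion A (M ⧸ N)).comap N.mkQ := by
  classical
  intro m hm
  rw [Submodule.mem_comap] at hm ⊢
  by_contra hq
  have hv : LocalizedModule.mkLinearMap (nonZeroDivisors A) (M ⧸ N) (N.mkQ m) ≠ 0 := by
    intro h0
    obtain ⟨c, hc⟩ := (IsLocalizedModule.eq_zero_iff (nonZeroDivisors A)
      (LocalizedModule.mkLinearMap (nonZeroDivisors A) (M ⧸ N))).mp h0
    exact hq ((Submodule.mem_torsion_iff _).mpr ⟨c, hc⟩)
  obtain ⟨lam, hlam⟩ := Module.Projective.exists_dual_ne_zero (FractionRing A) hv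
  obtain ⟨r, s, hs⟩ := Module.Finite.exists_fin (R := A) (M := M ⧸ N)
  let μ₀ : (M ⧸ N) →ₗ[A] FractionRing A :=
    (lam.restrictScalars A).comp (LocalizedModule.mkLinearMap (nonZeroDivisors A) (M ⧸ N))
  obtain ⟨d, hd⟩ := IsLocalization.exist_integer_multiples (nonZeroDivisors A)
    (Finset.univ : Finset (Fin r)) (fun i => μ₀ (s i))
  let μ : (M ⧸ N) →ₗ[A] FractionRing A := (d : A) • μ₀
  have hrange : LinearMap.range μ ≤ LinearMap.range (Algebra.linearMap A (FractionRing A)) := by
    rw [LinearMap.range_eq_map, ← hs, Submodule.map_span, Submodule.span_le]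
    rintro _ ⟨_, ⟨i, rfl⟩, rfl⟩
    obtain ⟨a, ha⟩ := RingHom.mem_rangeS.mp (hd i (Finset.mem_univ i))
    exact ⟨a, ha⟩
  let e := LinearEquiv.ofInjective (Algebra.linearMap A (FractionRing A))
    (IsFractionRing.injective A (FractionRing A))
  let g : (M ⧸ N) →ₗ[A] A :=
    e.symm.toLinearMap.comp (μ.codRestrict _ (fun x => hrange (LinearMap.mem_range_self μ x)))
  have hg : ∀ x, algebraMap A (FractionRing A) (g x) = μ x := by
    intro x
    have := e.apply_symm_apply (μ.codRestrict _ (fun x => hrange (LinearMap.mem_range_self μ x)) x)
    exact congrArg Subtype.val this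
  let f : Module.Dual A M := g.comp N.mkQ
  have hfN : N.subtype.dualMap f = 0 := by
    ext n
    have : N.mkQ (n : M) = 0 := by simp
    simp [f, LinearMap.dualMap_apply, this]
  have hfm : f m ≠ 0 := by
    intro h0
    have h1 : μ (N.mkQ m) = 0 := by
      rw [← hg, show g (N.mkQ m) = f m from rfl, h0, map_zero]
    have h2 : μ (N.mkQ m) =
        (d : A) • lam (LocalizedModule.mkLinearMap (nonZeroDivisors A) (M ⧸ N) (N.mkQ m)) := rfl
    rw [h2, Algebra.smul_def, mul_eq_zero] at h1
    rcases h1 with h1 | h1
    · exact IsFractionRing.to_map_ne_zero_of_mem_nonZeroDivisors d.2 h1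
    · exact hlam h1
  obtain ⟨φ, hφ⟩ := hm
  have h3 := congrArg (fun ψ : Module.Dual A (Module.Dual A M) => ψ f) hφ
  simp only [LinearMap.dualMap_apply, Module.Dual.eval_apply] at h3
  rw [hfN, map_zero] at h3
  exact hfm h3.symm

end Groth.Agent.S14994
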