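import Groth.Statements.S14995
import Groth.Agent.Lib.Lead.Hartogs4

set_option autoImplicit false
universe u
open CategoryTheory CategoryTheory.Limits AlgebraicGeometry
open Coherent

namespace Groth.Agent.S14995

/-- Let Y be a locally Noetherian scheme, E and F coherent O_Y-modules and U an open subset of Y such
that for every point y of Y outside U the stalk E_y has depth at least 2 as a module over the local
ring O_{Y,y}. Then restricting morphisms to U is a bijection from Hom(F, E) onto Hom(F|_U, E|_U).
(The published statement is the case F = E; this row allows any coherent F.) -/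
theorem result (Y : Scheme.{u}) [IsLocallyNoetherian Y]
    (E F : Y.Modules) (hE : Coh.IsCoh E) (hF : Coh.IsCoh F) (U : Y.Opens)
    (hdepth : ∀ y : Y, y ∉ U → (2 : ℕ∞) ≤ LocCoh.depth (Y.presheaf.stalk y) (E.presheaf.stalk y)) :
    Function.Bijective (fun φ : F ⟶ E => (Scheme.Modules.restrictFunctor U.ι).map φ) := by
  obtain ⟨hqc, hft⟩ := hE
  haveI : E.IsQuasicoherent := hqc
  haveI : SheafOfModules.IsFiniteType (R := Y.ringCatSheaf) E := hft
  haveI hunit : IsIso ((Scheme.Modules.restrictAdjunction U.ι).unit.app E) := by
    rw [Scheme.Modules.Hom.isIso_iff_isIso_app]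
    intro V
    rw [ConcreteCategory.isIso_iff_bijective, Scheme.Modules.restrictAdjunction_unit_app_app]
    exact Groth.Agent.Lead.Hartogs.bijective_res' E U hdepth V _ (U.ι.image_preimage_le V)
      (by rw [Scheme.Hom.image_preimage_eq_opensRange_inf, Scheme.Opens.opensRange_ι, inf_comm])
  have key : ∀ φ : F ⟶ E, (Scheme.Modules.restrictAdjunction U.ι).homEquiv F _
      ((Scheme.Modules.restrictFunctor U.ι).map φ) =
        φ ≫ (Scheme.Modules.restrictAdjunction U.ι).unit.app E := by
    intro φ
    rw [Adjunction.homEquiv_apply]
    exact ((Scheme.Modules.restrictAdjunction U.ι).unit.naturality φ).symm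
  constructor
  · intro φ₁ φ₂ h
    have h1 : φ₁ ≫ (Scheme.Modules.restrictAdjunction U.ι).unit.app E =
        φ₂ ≫ (Scheme.Modules.restrictAdjunction U.ι).unit.app E := by
      rw [← key, ← key]
      exact congrArg _ h
    exact (cancel_mono _).1 h1
  · intro ψ
    refine ⟨(Scheme.Modules.restrictAdjunction U.ι).homEquiv F _ ψ ≫
      inv ((Scheme.Modules.restrictAdjunction U.ι).unit.app E), ?_⟩
    apply ((Scheme.Modules.restrictAdjunction U.ι).homEquiv F _).injective
    show (Scheme.Modules.restrictAdjunction U.ι).homEquiv F _
      ((Scheme.Modules.restrictFunctor U.ι).map _) = _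
    rw [key, Category.assoc, IsIso.inv_hom_id]
    exact Category.comp_id _

end Groth.Agent.S14995
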