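import Groth.Statements.S1500
import Groth.Agent.Lib.Helper13.AmpleFamDiv

set_option autoImplicit false
universe u
open FlatMor

namespace Groth.Agent.S1500

open AlgebraicGeometry CategoryTheory Limits in
/-- Let D_1, …, D_m be effective Cartier divisors on X (ideal sheaves locally generated by a
nonzerodivisor) with empty common support, and L_1, …, L_m invertible O_X-modules with L_i ample on
the open complement of D_i. Then X has an ample family of invertible modules. -/
theorem result {X : Scheme.{u}} {m : ℕ} (D : Fin m → X.IdealSheafData)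
    (hD : ∀ i, BlowUp.IsEffCartierIdeal (D i)) (hcap : ⋂ i, ((D i).support : Set ↑X) = ∅)
    (L : Fin m → X.Modules) (hL : ∀ i, PicF.IsInvertible (L i)) (hamp : ∀ i, CohB1.IsAmple ((L i).restrict (Scheme.Opens.ι (D i).support.compl))) :
    MoreMor.HasAmpleFamily X := by
  haveI : CompactSpace X := Groth.Agent.Helper13.AmpleFamDiv.compactSpace_of_cover D hcap L hamp
  haveI : QuasiSeparatedSpace X :=
    Groth.Agent.Helper13.AmpleFamDiv.quasiSeparatedSpace_of_cover D hD hcap L hamp
  refine ⟨inferInstance, fun x => ?_⟩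
  have hex : ∃ i, x ∉ (D i).support := by
    by_contra hcon
    push Not at hcon
    have h : x ∈ ⋂ i, ((D i).support : Set X) := Set.mem_iInter.2 hcon
    rw [hcap] at h
    exact h
  obtain ⟨i, hi⟩ := hex
  obtain ⟨M, s, hM, hxs, hs⟩ := Groth.Agent.Helper13.AmpleFamDiv.exists_affine_genLocus (D i)
    (hD i) (L i) (hL i) (hamp i) x hi
  refine ⟨M, 1, s ≫ (Groth.Agent.Helper13.Tensor.lid M).inv, hM, le_refl 1, ?_, ?_⟩
  · show x ∈ CohB1.genLocus (CohB1.tensorMod (Coh.structureModule X) M)
      (s ≫ (Groth.Agent.Helper13.Tensor.lid M).symm.hom)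
    rw [Groth.Agent.Helper13.GenLoc.genLocus_comp_iso]
    exact hxs
  · show IsAffineOpen (CohB1.genLocus (CohB1.tensorMod (Coh.structureModule X) M)
      (s ≫ (Groth.Agent.Helper13.Tensor.lid M).symm.hom))
    rw [Groth.Agent.Helper13.GenLoc.genLocus_comp_iso]
    exact hs

end Groth.Agent.S1500
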