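import Groth.Statements.S15004
import Mathlib

set_option autoImplicit false
universe u v
open Harb

namespace Groth.Agent.S15004

/-- Let C be a finite family of d curves, recorded as an incidence relation between a type of points and
a finite index type, such that any two distinct curves of the family meet in exactly h points; for a
point p write r_p for the number of curves of the family through p. Then for every curve C_i of the
family, Σ_{p ∈ C_i} (r_p − 1) = h (d − 1), the sum being finitely supported. (The published
statement is for a transversal arrangement of curves on a geometrically ruled surface with invariant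
e, all numerically equivalent to a C₀ + b f, where any two of the curves meet transversally in h =
2ab − a²e points; only this common pairwise intersection count enters the proof, and this row states
the identity for an abstract incidence relation.) -/
theorem result (P : Type u) (ι : Type v) [Fintype ι]
    (inc : P → ι → Prop) (h : ℕ)
    (hfin : ∀ i j : ι, i ≠ j → {p : P | inc p i ∧ inc p j}.Finite)
    (hcount : ∀ i j : ι, i ≠ j → {p : P | inc p i ∧ inc p j}.ncard = h) (i : ι) :
    ∑ᶠ p ∈ {p : P | inc p i}, (Nat.card {j : ι // inc p j} - 1) = h * (Fintype.card ι - 1) := by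
  classical
  set T : Set P := ⋃ j ∈ {j : ι | j ≠ i}, {p : P | inc p i ∧ inc p j} with hTdef
  have hT : T.Finite := Set.Finite.biUnion (Set.toFinite _) (fun j hj => hfin i j (Ne.symm hj))
  have hTmem : ∀ p, p ∈ T ↔ inc p i ∧ ∃ j, j ≠ i ∧ inc p j := by
    intro p
    simp only [hTdef, Set.mem_iUnion, Set.mem_ofPred_eq, exists_prop]
    constructor
    · rintro ⟨j, hj, h1, h2⟩; exact ⟨h1, j, hj, h2⟩
    · rintro ⟨h1, j, hj, h2⟩; exact ⟨j, hj, h1, h2⟩
  have hf : ∀ p, inc p i → Nat.card {j : ι // inc p j} - 1
      = ∑ j ∈ Finset.univ.erase i, (if inc p j then 1 else 0) := by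
    intro p hp
    rw [Finset.sum_boole, Nat.card_eq_fintype_card, Fintype.card_subtype]
    simp only [Nat.cast_id]
    have : Finset.univ.filter (fun j => inc p j)
        = insert i ((Finset.univ.erase i).filter (fun j => inc p j)) := by
      ext j
      simp only [Finset.mem_filter, Finset.mem_univ, true_and, Finset.mem_insert, Finset.mem_erase,
        ne_eq, and_true]
      constructor
      · intro hj
        by_cases hji : j = i
        · exact Or.inl hji
        · exact Or.inr ⟨hji, hj⟩
      · rintro (rfl | ⟨_, hj⟩)
        · exact hp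
        · exact hj
    rw [this, Finset.card_insert_of_notMem (by simp)]
    simp
  have hsupp : {p : P | inc p i} ∩ Function.support (fun p => Nat.card {j : ι // inc p j} - 1)
      = ↑hT.toFinset ∩ Function.support (fun p => Nat.card {j : ι // inc p j} - 1) := by
    ext p
    simp only [Set.mem_inter_iff, Set.mem_ofPred_eq, Function.mem_support, ne_eq,
      Set.Finite.coe_toFinset]
    constructor
    · rintro ⟨hp, hne⟩
      refine ⟨?_, hne⟩
      rw [hTmem]
      refine ⟨hp, ?_⟩
      rw [hf p hp] at hne
      obtain ⟨j, hj, hj'⟩ := Finset.exists_ne_zero_of_sum_ne_zero hne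
      refine ⟨j, Finset.ne_of_mem_erase hj, ?_⟩
      by_contra hcon
      simp [hcon] at hj'
    · rintro ⟨hp, hne⟩
      exact ⟨((hTmem p).mp hp).1, hne⟩
  rw [finsum_mem_eq_sum_of_inter_support_eq _ hsupp]
  have h1 : ∀ p ∈ hT.toFinset, Nat.card {j : ι // inc p j} - 1
      = ∑ j ∈ Finset.univ.erase i, (if inc p j then 1 else 0) := by
    intro p hp
    rw [Set.Finite.mem_toFinset, hTmem] at hp
    exact hf p hp.1
  rw [Finset.sum_congr rfl h1, Finset.sum_comm]
  have h2 : ∀ j ∈ Finset.univ.erase i, ∑ p ∈ hT.toFinset, (if inc p j then 1 else 0) = h := by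
    intro j hj
    have hji : j ≠ i := Finset.ne_of_mem_erase hj
    rw [Finset.sum_boole]
    simp only [Nat.cast_id]
    rw [← hcount i j (Ne.symm hji), ← Set.ncard_coe_finset]
    congr 1
    ext p
    simp only [Finset.coe_filter, Set.Finite.mem_toFinset, Set.mem_ofPred_eq, hTmem]
    constructor
    · rintro ⟨⟨h1, _⟩, h2⟩; exact ⟨h1, h2⟩
    · rintro ⟨h1, h2⟩; exact ⟨⟨h1, j, hji, h2⟩, h2⟩
  rw [Finset.sum_congr rfl h2, Finset.sum_const, Finset.card_erase_of_mem (Finset.mem_univ i),
    Finset.card_univ, smul_eq_mul, mul_comm]

end Groth.Agent.S15004
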