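import Groth.Statements.S15005
import Mathlib

set_option autoImplicit false
universe u v
open Harb

namespace Groth.Agent.S15005

/-- Let C be a finite family of d curves, recorded as an incidence relation between a type of points and
a finite index type, such that any two distinct curves of the family meet in exactly h points; let
t_k be the number of k-fold points (points lying on exactly k curves of the family). Then f₂ − f₁ =
Σ_{k ≥ 2} k(k − 1) t_k equals h d(d − 1), where f_i = Σ_{k ≥ 2} k^i t_k. (The published statement is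
for a transversal arrangement of curves on a geometrically ruled surface with invariant e, all
numerically equivalent to a C₀ + b f, where any two of the curves meet transversally in h = 2ab −
a²e points; only this common pairwise intersection count enters the proof, and this row states the
identity for an abstract incidence relation.) -/
theorem result (P : Type u) (ι : Type v) [Fintype ι]
    (inc : P → ι → Prop) (h : ℕ)
    (hfin : ∀ i j : ι, i ≠ j → {p : P | inc p i ∧ inc p j}.Finite)
    (hcount : ∀ i j : ι, i ≠ j → {p : P | inc p i ∧ inc p j}.ncard = h) :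
    ∑ k ∈ Finset.Icc 2 (Fintype.card ι), k * (k - 1) * Nat.card {p : P // Nat.card {j : ι // inc p j} = k} =
      h * (Fintype.card ι * (Fintype.card ι - 1)) := by
  classical
  set T : Set P := ⋃ ij ∈ {ij : ι × ι | ij.1 ≠ ij.2}, {p : P | inc p ij.1 ∧ inc p ij.2} with hTdef
  have hT : T.Finite := Set.Finite.biUnion (Set.toFinite _) (fun ij hij => hfin ij.1 ij.2 hij)
  have hTmem : ∀ p, p ∈ T ↔ ∃ i j, i ≠ j ∧ inc p i ∧ inc p j := by
    intro p
    simp only [hTdef, Set.mem_iUnion, Set.mem_ofPred_eq, exists_prop, Prod.exists]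
  -- r p as a finset card
  have hr : ∀ p, Nat.card {j : ι // inc p j} = (Finset.univ.filter (fun j => inc p j)).card := by
    intro p
    rw [Nat.card_eq_fintype_card, Fintype.card_subtype]
  have hT2 : ∀ p, 2 ≤ Nat.card {j : ι // inc p j} → p ∈ T := by
    intro p hp
    rw [hr p] at hp
    obtain ⟨i, hi, j, hj, hij⟩ := Finset.one_lt_card.mp hp
    rw [hTmem]
    exact ⟨i, j, hij, (Finset.mem_filter.mp hi).2, (Finset.mem_filter.mp hj).2⟩
  have hT2' : ∀ p, p ∈ T → 2 ≤ Nat.card {j : ι // inc p j} := by
    intro p hp
    rw [hTmem] at hp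
    obtain ⟨i, j, hij, hi, hj⟩ := hp
    rw [hr p]
    exact Finset.one_lt_card.mpr ⟨i, by simp [hi], j, by simp [hj], hij⟩
  have hrd : ∀ p, Nat.card {j : ι // inc p j} ≤ Fintype.card ι := by
    intro p
    rw [hr p]
    exact Finset.card_le_univ _
  -- t_k as a finset card
  have ht : ∀ k ∈ Finset.Icc 2 (Fintype.card ι),
      k * (k - 1) * Nat.card {p : P // Nat.card {j : ι // inc p j} = k}
      = ∑ p ∈ hT.toFinset.filter (fun p => Nat.card {j : ι // inc p j} = k),
          Nat.card {j : ι // inc p j} * (Nat.card {j : ι // inc p j} - 1) := by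
    intro k hk
    have hk2 : 2 ≤ k := (Finset.mem_Icc.mp hk).1
    have hset : {p : P | Nat.card {j : ι // inc p j} = k}
        = ↑(hT.toFinset.filter (fun p => Nat.card {j : ι // inc p j} = k)) := by
      ext p
      simp only [Set.mem_ofPred_eq, Finset.coe_filter, Set.Finite.mem_toFinset]
      constructor
      · intro hp; exact ⟨hT2 p (hp ▸ hk2), hp⟩
      · intro hp; exact hp.2
    have hcard : Nat.card {p : P // Nat.card {j : ι // inc p j} = k}
        = (hT.toFinset.filter (fun p => Nat.card {j : ι // inc p j} = k)).card := by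
      have := Set.ncard_coe_finset (hT.toFinset.filter (fun p => Nat.card {j : ι // inc p j} = k))
      rw [← hset] at this
      rw [← this]
      rfl
    rw [hcard, mul_comm, ← smul_eq_mul, ← Finset.sum_const]
    apply Finset.sum_congr rfl
    intro p hp
    rw [(Finset.mem_filter.mp hp).2]
  rw [Finset.sum_congr rfl ht]
  rw [Finset.sum_fiberwise_of_maps_to (s := hT.toFinset) (t := Finset.Icc 2 (Fintype.card ι))
    (g := fun p => Nat.card {j : ι // inc p j})
    (f := fun p => Nat.card {j : ι // inc p j} * (Nat.card {j : ι // inc p j} - 1))]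
  swap
  · intro p hp
    rw [Set.Finite.mem_toFinset] at hp
    exact Finset.mem_Icc.mpr ⟨hT2' p hp, hrd p⟩
  -- now double count
  have h1 : ∀ p ∈ hT.toFinset, Nat.card {j : ι // inc p j} * (Nat.card {j : ι // inc p j} - 1)
      = ∑ ij ∈ (Finset.univ : Finset ι).offDiag, (if inc p ij.1 ∧ inc p ij.2 then 1 else 0) := by
    intro p _
    rw [Finset.sum_boole, hr p, Nat.mul_sub_one, ← Finset.offDiag_card]
    simp only [Nat.cast_id]
    congr 1
    ext ⟨i, j⟩
    simp only [Finset.mem_offDiag, Finset.mem_filter, Finset.mem_univ, true_and]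
    tauto
  rw [Finset.sum_congr rfl h1, Finset.sum_comm]
  have h2 : ∀ ij ∈ (Finset.univ : Finset ι).offDiag,
      ∑ p ∈ hT.toFinset, (if inc p ij.1 ∧ inc p ij.2 then 1 else 0) = h := by
    rintro ⟨i, j⟩ hij
    have hne : i ≠ j := (Finset.mem_offDiag.mp hij).2.2
    rw [Finset.sum_boole]
    simp only [Nat.cast_id]
    rw [← hcount i j hne, ← Set.ncard_coe_finset]
    congr 1
    ext p
    simp only [Finset.coe_filter, Set.Finite.mem_toFinset, Set.mem_ofPred_eq, hTmem]
    constructor
    · rintro ⟨_, h2⟩; exact h2
    · rintro ⟨h1, h2⟩; exact ⟨⟨i, j, hne, h1, h2⟩, h1, h2⟩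
  rw [Finset.sum_congr rfl h2, Finset.sum_const, Finset.offDiag_card, Finset.card_univ,
    smul_eq_mul, mul_comm, Nat.mul_sub_one]

end Groth.Agent.S15005
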