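import Groth.Statements.S15006
import Mathlib

set_option autoImplicit false
universe u v
open Harb

namespace Groth.Agent.S15006

/-- Let C be a finite family of d ≥ 2 curves, recorded as an incidence relation between a type of points
and a finite index type, such that any two distinct curves of the family meet in exactly h ≥ 1
points and no point lies on every curve of the family. Then f₀ ≥ d: the number of multiple points
(points lying on at least two of the curves) is at least the number of curves. (The published
statement is for a transversal arrangement of d ≥ 4 curves on a geometrically ruled surface with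
invariant e ≥ 4, all numerically equivalent to a C₀ + b f with a ≥ 1 and b ≥ ae and with no point
common to all of them, satisfying in addition either a ≥ 2, or a = 1 with some four of the curves
having no point in common, where any two of the curves meet transversally in h = 2ab − a²e ≥ 1
points; only d ≥ 2, h ≥ 1 and the absence of a common point enter the proof, and this row states the
bound for an abstract incidence relation.) -/
theorem result (P : Type u) (ι : Type v) [Fintype ι]
    (inc : P → ι → Prop) (h : ℕ) (hh : 0 < h) (hd : 2 ≤ Fintype.card ι)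
    (hfin : ∀ i j : ι, i ≠ j → {p : P | inc p i ∧ inc p j}.Finite)
    (hcount : ∀ i j : ι, i ≠ j → {p : P | inc p i ∧ inc p j}.ncard = h)
    (hnone : ∀ p : P, ∃ i : ι, ¬ inc p i) :
    Fintype.card ι ≤ Nat.card {p : P // 2 ≤ Nat.card {j : ι // inc p j}} := by
  classical
  set T : Set P := ⋃ ij ∈ {ij : ι × ι | ij.1 ≠ ij.2}, {p : P | inc p ij.1 ∧ inc p ij.2} with hTdef
  have hT : T.Finite := Set.Finite.biUnion (Set.toFinite _) (fun ij hij => hfin ij.1 ij.2 hij)
  have hTmem : ∀ p, p ∈ T ↔ ∃ i j, i ≠ j ∧ inc p i ∧ inc p j := by
    intro p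
    simp only [hTdef, Set.mem_iUnion, Set.mem_ofPred_eq, exists_prop, Prod.exists]
  have hr : ∀ p, Nat.card {j : ι // inc p j} = (Finset.univ.filter (fun j => inc p j)).card := by
    intro p
    rw [Nat.card_eq_fintype_card, Fintype.card_subtype]
  have hM : ∀ p, 2 ≤ Nat.card {j : ι // inc p j} ↔ ∃ i j, i ≠ j ∧ inc p i ∧ inc p j := by
    intro p
    rw [hr p]
    constructor
    · intro hp
      obtain ⟨i, hi, j, hj, hij⟩ := Finset.one_lt_card.mp hp
      exact ⟨i, j, hij, (Finset.mem_filter.mp hi).2, (Finset.mem_filter.mp hj).2⟩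
    · rintro ⟨i, j, hij, hi, hj⟩
      exact Finset.one_lt_card.mpr ⟨i, by simp [hi], j, by simp [hj], hij⟩
  have hMT : {p : P | 2 ≤ Nat.card {j : ι // inc p j}} = ↑hT.toFinset := by
    ext p
    rw [Set.mem_ofPred_eq, hM, Set.Finite.coe_toFinset, hTmem]
  have hgoal : Nat.card {p : P // 2 ≤ Nat.card {j : ι // inc p j}} = hT.toFinset.card := by
    rw [← Set.ncard_coe_finset, ← hMT]
    exact Nat.card_coe_set_eq _
  rw [hgoal]
  -- pairwise intersection counts inside T
  have hc : ∀ i j, i ≠ j → (hT.toFinset.filter (fun p => inc p i ∧ inc p j)).card = h := by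
    intro i j hij
    rw [← hcount i j hij, ← Set.ncard_coe_finset]
    congr 1
    ext p
    simp only [Finset.coe_filter, Set.Finite.mem_toFinset, Set.mem_ofPred_eq, hTmem]
    constructor
    · rintro ⟨_, h2⟩; exact h2
    · rintro ⟨h1, h2⟩; exact ⟨⟨i, j, hij, h1, h2⟩, h1, h2⟩
  have hn : ∀ i, h < (hT.toFinset.filter (fun p => inc p i)).card := by
    intro i
    obtain ⟨j, hji⟩ := Fintype.exists_ne_of_one_lt_card (α := ι) hd i
    have hne : (hT.toFinset.filter (fun p => inc p i ∧ inc p j)).Nonempty := by
      rw [← Finset.card_pos, hc i j (Ne.symm hji)]; exact hh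
    obtain ⟨p, hp⟩ := hne
    rw [Finset.mem_filter] at hp
    obtain ⟨j', hj'⟩ := hnone p
    have hij' : i ≠ j' := by rintro rfl; exact hj' hp.2.1
    rw [← hc i j' hij']
    apply Finset.card_lt_card
    rw [Finset.ssubset_iff_of_subset]
    · exact ⟨p, Finset.mem_filter.mpr ⟨hp.1, hp.2.1⟩, fun hcon => hj' (Finset.mem_filter.mp hcon).2.2⟩
    · intro q hq
      rw [Finset.mem_filter] at hq ⊢
      exact ⟨hq.1, hq.2.1⟩
  -- the incidence map
  let L : (ι → ℚ) →ₗ[ℚ] (hT.toFinset → ℚ) :=
    { toFun := fun v p => ∑ i, if inc p.1 i then v i else 0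
      map_add' := by
        intro v w; ext p
        simp only [Pi.add_apply, ← Finset.sum_add_distrib]
        apply Finset.sum_congr rfl; intro i _; split_ifs <;> simp
      map_smul' := by
        intro c v; ext p
        simp only [Pi.smul_apply, smul_eq_mul, RingHom.id_apply, Finset.mul_sum]
        apply Finset.sum_congr rfl; intro i _; split_ifs <;> simp }
  have hinj : Function.Injective L := by
    rw [← LinearMap.ker_eq_bot, LinearMap.ker_eq_bot']
    intro v hv
    have h0 : ∀ p ∈ hT.toFinset, (∑ i, if inc p i then v i else 0) = 0 :=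
      fun p hp => congrFun hv ⟨p, hp⟩
    have hsq : ∑ p ∈ hT.toFinset, (∑ i, if inc p i then v i else 0) ^ 2 = 0 :=
      Finset.sum_eq_zero (fun p hp => by rw [h0 p hp]; ring)
    have hpair : ∀ i j, ∑ p ∈ hT.toFinset, (if inc p i then v i else 0) * (if inc p j then v j else 0)
        = v i * v j * ((hT.toFinset.filter (fun p => inc p i ∧ inc p j)).card : ℚ) := by
      intro i j
      rw [Finset.card_filter, Nat.cast_sum, Finset.mul_sum]
      apply Finset.sum_congr rfl
      intro p _
      by_cases h1 : inc p i <;> by_cases h2 : inc p j <;> simp [h1, h2]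
    have hexp : ∑ p ∈ hT.toFinset, (∑ i, if inc p i then v i else 0) ^ 2
        = ∑ i, (((hT.toFinset.filter (fun p => inc p i)).card : ℚ) - h) * v i ^ 2
          + h * (∑ i, v i) ^ 2 := by
      have e1 : ∀ p, (∑ i, if inc p i then v i else 0) ^ 2
          = ∑ i, ∑ j, (if inc p i then v i else 0) * (if inc p j then v j else 0) := by
        intro p; rw [sq, Finset.sum_mul_sum]
      simp_rw [e1]
      rw [Finset.sum_comm]
      simp_rw [Finset.sum_comm (s := hT.toFinset), hpair]
      have e2 : ∀ i, ∑ j, v i * v j * ((hT.toFinset.filter (fun p => inc p i ∧ inc p j)).card : ℚ)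
          = (((hT.toFinset.filter (fun p => inc p i)).card : ℚ) - h) * v i ^ 2
            + h * (v i * ∑ j, v j) := by
        intro i
        rw [← Finset.add_sum_erase _ _ (Finset.mem_univ i)]
        have e3 : ∀ j ∈ Finset.univ.erase i,
            v i * v j * ((hT.toFinset.filter (fun p => inc p i ∧ inc p j)).card : ℚ)
            = h * (v i * v j) := by
          intro j hj
          rw [hc i j (Ne.symm (Finset.ne_of_mem_erase hj))]; ring
        rw [Finset.sum_congr rfl e3, ← Finset.mul_sum, ← Finset.mul_sum,
          ← Finset.add_sum_erase _ _ (Finset.mem_univ i)]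
        have e4 : (hT.toFinset.filter (fun p => inc p i ∧ inc p i)) = hT.toFinset.filter (fun p => inc p i) := by
          ext p; simp
        rw [e4]; ring
      rw [Finset.sum_congr rfl (fun i _ => e2 i), Finset.sum_add_distrib, ← Finset.mul_sum,
        ← Finset.sum_mul, sq]
    rw [hexp] at hsq
    have hpos : ∀ i, 0 ≤ (((hT.toFinset.filter (fun p => inc p i)).card : ℚ) - h) * v i ^ 2 := by
      intro i
      apply mul_nonneg
      · rw [sub_nonneg]; exact_mod_cast (hn i).le
      · positivity
    have hsum0 : ∑ i, (((hT.toFinset.filter (fun p => inc p i)).card : ℚ) - h) * v i ^ 2 = 0 := by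
      have h2 : 0 ≤ (h : ℚ) * (∑ i, v i) ^ 2 := by positivity
      have h3 := Finset.sum_nonneg (fun i (_ : i ∈ Finset.univ) => hpos i)
      linarith
    ext i
    have h4 := (Finset.sum_eq_zero_iff_of_nonneg (fun i _ => hpos i)).mp hsum0 i (Finset.mem_univ i)
    have h5 : (((hT.toFinset.filter (fun p => inc p i)).card : ℚ) - h) ≠ 0 := by
      apply ne_of_gt
      rw [sub_pos]; exact_mod_cast hn i
    have h6 := (mul_eq_zero.mp h4).resolve_left h5
    simpa using h6
  have := LinearMap.finrank_le_finrank_of_injective hinj
  simpa using this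

end Groth.Agent.S15006
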