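import Groth.Statements.S15007
import Mathlib

set_option autoImplicit false
universe u v
open Harb

namespace Groth.Agent.S15007

/-- Let C be a finite family of d ≥ 2 curves, recorded as an incidence relation between a type of points
and a finite index type, such that any two distinct curves of the family meet in exactly h ≥ 1
points and no point lies on every curve of the family. Then f₀ ≥ h + 2: the number of multiple
points (points lying on at least two of the curves) is at least h + 2. (The published claim reads f₀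
≥ 2ab − a²e + 2 for a transversal arrangement of d ≥ 4 curves on a geometrically ruled surface with
invariant e ≥ 4, all numerically equivalent to a C₀ + b f with a ≥ 1 and b ≥ ae and with no point
common to all of them, satisfying in addition either a ≥ 2, or a = 1 with some four of the curves
having no point in common, where any two of the curves meet transversally in h = 2ab − a²e ≥ 1
points; only d ≥ 2, h ≥ 1 and the absence of a common point enter the proof, and this row states the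
bound for an abstract incidence relation.) -/
theorem result (P : Type u) (ι : Type v) [Fintype ι]
    (inc : P → ι → Prop) (h : ℕ) (hh : 0 < h) (hd : 2 ≤ Fintype.card ι)
    (hfin : ∀ i j : ι, i ≠ j → {p : P | inc p i ∧ inc p j}.Finite)
    (hcount : ∀ i j : ι, i ≠ j → {p : P | inc p i ∧ inc p j}.ncard = h)
    (hnone : ∀ p : P, ∃ i : ι, ¬ inc p i) :
    h + 2 ≤ Nat.card {p : P // 2 ≤ Nat.card {j : ι // inc p j}} := by
  classical
  set T : Set P := ⋃ ij ∈ {ij : ι × ι | ij.1 ≠ ij.2}, {p : P | inc p ij.1 ∧ inc p ij.2} with hTdef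
  have hT : T.Finite := Set.Finite.biUnion (Set.toFinite _) (fun ij hij => hfin ij.1 ij.2 hij)
  have hTmem : ∀ p, p ∈ T ↔ ∃ i j, i ≠ j ∧ inc p i ∧ inc p j := by
    intro p
    simp only [hTdef, Set.mem_iUnion, Set.mem_ofPred_eq, exists_prop, Prod.exists]
  have hr : ∀ p, Nat.card {j : ι // inc p j} = (Finset.univ.filter (fun j => inc p j)).card := by
    intro p
    rw [Nat.card_eq_fintype_card, Fintype.card_subtype]
  have hM : ∀ p, 2 ≤ Nat.card {j : ι // inc p j} ↔ ∃ i j, i ≠ j ∧ inc p i ∧ inc p j := by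
    intro p
    rw [hr p]
    constructor
    · intro hp
      obtain ⟨i, hi, j, hj, hij⟩ := Finset.one_lt_card.mp hp
      exact ⟨i, j, hij, (Finset.mem_filter.mp hi).2, (Finset.mem_filter.mp hj).2⟩
    · rintro ⟨i, j, hij, hi, hj⟩
      exact Finset.one_lt_card.mpr ⟨i, by simp [hi], j, by simp [hj], hij⟩
  have hMfin : {p : P | 2 ≤ Nat.card {j : ι // inc p j}}.Finite := by
    apply hT.subset
    intro p hp
    rw [hTmem]; exact (hM p).mp hp
  obtain ⟨i₁, i₂, h12⟩ := Fintype.exists_pair_of_one_lt_card (α := ι) hd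
  have hS12 : {p : P | inc p i₁ ∧ inc p i₂}.Nonempty := by
    rw [← Set.ncard_pos (hfin i₁ i₂ h12), hcount i₁ i₂ h12]; exact hh
  obtain ⟨p₀, hp₀1, hp₀2⟩ := hS12
  obtain ⟨i₃, hp₀3⟩ := hnone p₀
  have h13 : i₁ ≠ i₃ := by rintro rfl; exact hp₀3 hp₀1
  have h23 : i₂ ≠ i₃ := by rintro rfl; exact hp₀3 hp₀2
  -- q in C1 ∩ C3 not in C2
  have hq : ∃ q, inc q i₁ ∧ inc q i₃ ∧ ¬ inc q i₂ := by
    by_contra hcon
    push_neg at hcon
    have hsub : {p : P | inc p i₁ ∧ inc p i₃} ⊆ {p : P | inc p i₁ ∧ inc p i₂} :=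
      fun p hp => ⟨hp.1, hcon p hp.1 hp.2⟩
    have heq := Set.eq_of_subset_of_ncard_le hsub
      (by rw [hcount i₁ i₂ h12, hcount i₁ i₃ h13]) (hfin i₁ i₂ h12)
    have : p₀ ∈ {p : P | inc p i₁ ∧ inc p i₃} := by rw [heq]; exact ⟨hp₀1, hp₀2⟩
    exact hp₀3 this.2
  have hq' : ∃ q, inc q i₂ ∧ inc q i₃ ∧ ¬ inc q i₁ := by
    by_contra hcon
    push_neg at hcon
    have hsub : {p : P | inc p i₂ ∧ inc p i₃} ⊆ {p : P | inc p i₁ ∧ inc p i₂} :=
      fun p hp => ⟨hcon p hp.1 hp.2, hp.1⟩
    have heq := Set.eq_of_subset_of_ncard_le hsub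
      (by rw [hcount i₁ i₂ h12, hcount i₂ i₃ h23]) (hfin i₁ i₂ h12)
    have : p₀ ∈ {p : P | inc p i₂ ∧ inc p i₃} := by rw [heq]; exact ⟨hp₀1, hp₀2⟩
    exact hp₀3 this.2
  obtain ⟨q, hq1, hq3, hq2⟩ := hq
  obtain ⟨q', hq'2, hq'3, hq'1⟩ := hq'
  have hqq' : q ≠ q' := by rintro rfl; exact hq'1 hq1
  have hsub : insert q (insert q' {p : P | inc p i₁ ∧ inc p i₂})
      ⊆ {p : P | 2 ≤ Nat.card {j : ι // inc p j}} := by
    intro p hp
    rw [Set.mem_ofPred_eq, hM]
    rcases hp with rfl | rfl | ⟨h1, h2⟩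
    · exact ⟨i₁, i₃, h13, hq1, hq3⟩
    · exact ⟨i₂, i₃, h23, hq'2, hq'3⟩
    · exact ⟨i₁, i₂, h12, h1, h2⟩
  have hcard : (insert q (insert q' {p : P | inc p i₁ ∧ inc p i₂})).ncard = h + 2 := by
    rw [Set.ncard_insert_of_notMem _ ((hfin i₁ i₂ h12).insert q'),
      Set.ncard_insert_of_notMem _ (hfin i₁ i₂ h12), hcount i₁ i₂ h12]
    · intro hmem; exact hq'1 hmem.1
    · rintro (heq | hmem)
      · exact hqq' heq
      · exact hq2 hmem.2
  rw [← hcard]
  have := Set.ncard_le_ncard hsub hMfin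
  rwa [← Nat.card_coe_set_eq {p : P | 2 ≤ Nat.card {j : ι // inc p j}}] at this

end Groth.Agent.S15007
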