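import Groth.Statements.S15010
import Mathlib

set_option autoImplicit false
universe u
open TFCurv

namespace Groth.Agent.S15010

theorem key {O K : Type*} [CommRing O] [IsDomain O] [Field K] [Algebra O K] [IsFractionRing O K]
    (n : ℕ) (M N : Submodule O (Fin n → K))
    (ψ : ↥M →ₗ[O] ↥N) (eM : Fin n → ↥M) (heM : ∀ i, (eM i : Fin n → K) = Pi.single i 1)
    (x : ↥M) (j : Fin n) :
    ((ψ x : ↥N) : Fin n → K) j = ∑ i, ((ψ (eM i) : ↥N) : Fin n → K) j * (x : Fin n → K) i := by
  classical
  obtain ⟨d, hd⟩ := IsLocalization.exist_integer_multiples (nonZeroDivisors O)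
    (Finset.univ : Finset (Fin n)) (fun i => (x : Fin n → K) i)
  have hd' : ∀ i, ∃ r : O, algebraMap O K r = (d : O) • (x : Fin n → K) i :=
    fun i => RingHom.mem_rangeS.mp (hd i (Finset.mem_univ i))
  choose a ha using hd'
  have hdx : (d : O) • x = ∑ i, a i • eM i := by
    apply Subtype.ext
    funext j
    simp only [Submodule.coe_smul, Pi.smul_apply, Submodule.coe_sum, Finset.sum_apply, heM,
      Pi.single_apply]
    rw [Finset.sum_eq_single j]
    · rw [if_pos rfl, ← ha, Algebra.smul_def, mul_one]
    · intro b _ hb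
      rw [if_neg (Ne.symm hb), smul_zero]
    · intro h
      exact absurd (Finset.mem_univ j) h
  have hd0 : algebraMap O K (d : O) ≠ 0 :=
    IsFractionRing.to_map_ne_zero_of_mem_nonZeroDivisors d.2
  apply mul_left_cancel₀ hd0
  have h1 : (d : O) • ψ x = ∑ i, a i • ψ (eM i) := by
    rw [← map_smul, hdx, map_sum]
    simp only [map_smul]
  have h2 := congrArg (fun y : ↥N => (y : Fin n → K) j) h1
  simp only [Submodule.coe_smul, Pi.smul_apply, Submodule.coe_sum, Finset.sum_apply] at h2
  rw [Algebra.smul_def] at h2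
  rw [h2, Finset.mul_sum]
  refine Finset.sum_congr rfl fun i _ => ?_
  rw [Algebra.smul_def, ha, Algebra.smul_def]
  ring


/-- Let O be a one-dimensional Noetherian local domain with algebraically closed residue field whose
integral closure O~ in its fraction field K is a finite O-module. If M and N are O-submodules of K^n
with O^n ⊆ M ⊆ O~^n and O^n ⊆ N ⊆ O~^n, then every O-linear isomorphism M → N is the restriction of
x ↦ A·x for an invertible n × n matrix A with entries in O~. -/
theorem result (O : Type u) [CommRing O] [IsDomain O] [IsNoetherianRing O] [IsLocalRing O] (hdim : ringKrullDim O = 1) [IsAlgClosed (IsLocalRing.ResidueField O)] (K : Type u) [Field K] [Algebra O K] [IsFractionRing O K] (hfin : Module.Finite O ↥(integralClosure O K)) (n : ℕ) (M N : Submodule O (Fin n → K)) (hM1 : Submodule.pi Set.univ (fun _ : Fin n => (1 : Submodule O K)) ≤ M) (hM2 : M ≤ Submodule.pi Set.univ (fun _ : Fin n => (Subalgebra.toSubmodule (integralClosure O K)))) (hN1 : Submodule.pi Set.univ (fun _ : Fin n => (1 : Submodule O K))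 ≤ N) (hN2 : N ≤ Submodule.pi Set.univ (fun _ : Fin n => (Subalgebra.toSubmodule (integralClosure O K)))) (φ : ↥M ≃ₗ[O] ↥N) : ∃ A : Matrix (Fin n) (Fin n) ↥(integralClosure O K), IsUnit A ∧ ∀ x : ↥M, ((φ x : ↥N) : Fin n → K) = (A.map (algebraMap ↥(integralClosure O K) K)).mulVec (x : Fin n → K) := by
  classical
  have he1 : ∀ i : Fin n, (Pi.single i (1:K) : Fin n → K) ∈
      Submodule.pi Set.univ (fun _ : Fin n => (1 : Submodule O K)) := by
    intro i
    rw [Submodule.mem_pi]
    intro j _
    rw [Pi.single_apply]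
    split_ifs
    · exact Submodule.mem_one.mpr ⟨1, map_one _⟩
    · exact Submodule.zero_mem _
  let eM : Fin n → ↥M := fun i => ⟨Pi.single i 1, hM1 (he1 i)⟩
  let eN : Fin n → ↥N := fun i => ⟨Pi.single i 1, hN1 (he1 i)⟩
  let A : Matrix (Fin n) (Fin n) ↥(integralClosure O K) := fun j i =>
    ⟨((φ (eM i) : ↥N) : Fin n → K) j,
      (show _ ∈ integralClosure O K from
        (Submodule.mem_pi.mp (hN2 (φ (eM i)).2)) j (Set.mem_univ j))⟩
  let B : Matrix (Fin n) (Fin n) ↥(integralClosure O K) := fun j i =>
    ⟨((φ.symm (eN i) : ↥M) : Fin n → K) j,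
      (show _ ∈ integralClosure O K from
        (Submodule.mem_pi.mp (hM2 (φ.symm (eN i)).2)) j (Set.mem_univ j))⟩
  have hA : ∀ x : ↥M, ((φ x : ↥N) : Fin n → K) =
      (A.map (algebraMap ↥(integralClosure O K) K)).mulVec (x : Fin n → K) := by
    intro x
    funext j
    have := key n M N φ.toLinearMap eM (fun i => rfl) x j
    simp only [LinearEquiv.coe_coe] at this
    rw [this]
    rfl
  have hB : ∀ y : ↥N, ((φ.symm y : ↥M) : Fin n → K) =
      (B.map (algebraMap ↥(integralClosure O K) K)).mulVec (y : Fin n → K) := by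
    intro y
    funext j
    have := key n N M φ.symm.toLinearMap eN (fun i => rfl) y j
    simp only [LinearEquiv.coe_coe] at this
    rw [this]
    rfl
  have hinj : Function.Injective (algebraMap ↥(integralClosure O K) K) := Subtype.val_injective
  have hAB : A * B = 1 := by
    apply Matrix.map_injective hinj
    show (A * B).map (algebraMap ↥(integralClosure O K) K) =
      (1 : Matrix (Fin n) (Fin n) ↥(integralClosure O K)).map (algebraMap ↥(integralClosure O K) K)
    rw [Matrix.map_mul]
    ext j i
    have h1 : ((A.map (algebraMap ↥(integralClosure O K) K)) *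
        (B.map (algebraMap ↥(integralClosure O K) K))).mulVec (Pi.single i 1) =
        (Pi.single i 1 : Fin n → K) := by
      rw [← Matrix.mulVec_mulVec]
      have h2 : (B.map (algebraMap ↥(integralClosure O K) K)).mulVec (Pi.single i 1) =
          ((φ.symm (eN i) : ↥M) : Fin n → K) := (hB (eN i)).symm
      rw [h2, ← hA, LinearEquiv.apply_symm_apply]
    have h3 := congrFun h1 j
    rw [Matrix.mulVec_single_one, Matrix.col_apply] at h3
    rw [h3, Matrix.map_apply, Matrix.one_apply, Pi.single_apply]
    split_ifs <;> simp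
  have hBA : B * A = 1 := mul_eq_one_comm.mp hAB
  exact ⟨A, ⟨⟨A, B, hAB, hBA⟩, rfl⟩, hA⟩

end Groth.Agent.S15010
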