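import Groth.Statements.S15012
import Groth.Agent.Lib.Helper8.VDual4

set_option autoImplicit false
universe u
open TFCurv

namespace Groth.Agent.S15012
open Groth.Agent.Helper8.FracDual Groth.Agent.Helper8.VDual


/-- Let O be a one-dimensional Gorenstein local domain with algebraically closed residue field whose
integral closure O~ in its fraction field K is a finite O-module, and let C ⊆ O be the conductor of
O in O~. Every finitely generated torsion-free O-module of rank n is isomorphic to an O-submodule M'
of K^n with C^n ⊆ M' ⊆ O~^n and length(M'/C^n) = n · length(O/C); that is, every isomorphism class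
of rank-n torsion-free modules is represented by a submodule of (O~/C)^n of the same length as
(O/C)^n. -/
theorem result (O : Type u) [CommRing O] [IsDomain O] [LocCoh.IsGorensteinLocalRing O] (hdim : ringKrullDim O = 1) [IsAlgClosed (IsLocalRing.ResidueField O)] (K : Type u) [Field K] [Algebra O K] [IsFractionRing O K] (hfin : Module.Finite O ↥(integralClosure O K)) (M : Type u) [AddCommGroup M] [Module O M] [Module.Finite O M] [NoZeroSMulDivisors O M] (n : ℕ) (hn : Module.finrank K (TensorProduct O K M) = n) : ∃ M' : Submodule O (Fin n → K), Submodule.pi Set.univ (fun _ : Fin n => (((1 : Submodule O K).colon (Subalgebra.toSubmodule (integralClosure O K))) • (1 : Submodule O K))) ≤ M' ∧ M' ≤ Submodule.pi Set.univ (fun _ : Fin n => (Subalgebra.toSubmodule (integralClosure O K))) ∧ Nonempty (M ≃ₗ[O] ↥M') ∧ Module.length O (↥M' ⧸ Submodule.comap M'.subtype (Submodule.pi Set.univ (fun _ : Fin n => (((1 : Submodule O K).colon (Subalgebra.toSubmodule (integralClosure O K))) • (1 : Submodule O K))))) = (n : ℕ∞) * Module.length O (O ⧸ ((1 : Submodule O K).colon (Subalgebra.toSubmodule (integralClosure O K)))) :=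 by
  classical
  obtain ⟨M', h1, h2, h3, h4⟩ := Groth.Agent.Helper8.VDual.main (O := O) (K := K) hdim hfin M n hn
  have hC : (((1 : Submodule O K).colon (Subalgebra.toSubmodule (integralClosure O K))) •
      (1 : Submodule O K)) =
      (1 : Submodule O K) / Subalgebra.toSubmodule (integralClosure O K) := by
    apply le_antisymm
    · rw [Submodule.smul_le]
      intro c hc y hy
      rw [Submodule.mem_div_iff_forall_mul_mem]
      intro p hp
      obtain ⟨a, rfl⟩ := mem_one'.mp hy
      have h5 : c • algebraMap O K a * p = c • (a • p) := by
        rw [smul_mul_assoc, Algebra.smul_def a p]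
      rw [h5]
      exact Submodule.mem_colon.mp hc _ (Submodule.smul_mem _ a hp)
    · intro z hz
      have hz1 : z ∈ (1 : Submodule O K) := by
        have := (Submodule.mem_div_iff_forall_mul_mem.mp hz) 1 (integralClosure O K).one_mem
        rwa [mul_one] at this
      obtain ⟨c, rfl⟩ := mem_one'.mp hz1
      have hcC : c ∈ (1 : Submodule O K).colon (Subalgebra.toSubmodule (integralClosure O K)) := by
        rw [Submodule.mem_colon]
        intro p hp
        rw [Algebra.smul_def]
        exact (Submodule.mem_div_iff_forall_mul_mem.mp hz) p hp
      have : algebraMap O K c = c • (1 : K) := by rw [Algebra.smul_def, mul_one]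
      rw [this]
      exact Submodule.smul_mem_smul hcC (Submodule.one_le.mp le_rfl)
  have hlen : Module.length O (O ⧸ ((1 : Submodule O K).colon
      (Subalgebra.toSubmodule (integralClosure O K)))) =
      qlen ((1 : Submodule O K) / Subalgebra.toSubmodule (integralClosure O K)) 1 := by
    unfold qlen
    refine LinearEquiv.length_eq (Submodule.Quotient.equiv _ _ (oneEquiv (O := O) (K := K)) ?_)
    ext ⟨y, hy⟩
    constructor
    · rintro ⟨c, hc, hcy⟩
      have hcy' : algebraMap O K c = y := congrArg Subtype.val hcy
      show y ∈ (1 : Submodule O K) / Subalgebra.toSubmodule (integralClosure O K)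
      rw [← hC, ← hcy']
      have : algebraMap O K c = c • (1 : K) := by rw [Algebra.smul_def, mul_one]
      rw [this]
      exact Submodule.smul_mem_smul hc (Submodule.one_le.mp le_rfl)
    · intro hyC
      have hyC' : y ∈ (1 : Submodule O K) / Subalgebra.toSubmodule (integralClosure O K) := hyC
      obtain ⟨c, rfl⟩ := mem_one'.mp hy
      refine ⟨c, ?_, Subtype.ext rfl⟩
      show c ∈ (1 : Submodule O K).colon (Subalgebra.toSubmodule (integralClosure O K))
      rw [Submodule.mem_colon]
      intro p hp
      rw [Algebra.smul_def]
      exact (Submodule.mem_div_iff_forall_mul_mem.mp hyC') p hp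
  refine ⟨M', ?_, h2, h3, ?_⟩
  · rw [hC]; exact h1
  · rw [hC, hlen]; exact h4

end Groth.Agent.S15012
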