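import Groth.Statements.S15013
import Groth.Agent.Lib.Helper12.TFEmbed
import Groth.Agent.Lib.Helper12.ExtChi1
import Groth.Agent.Lib.Helper8.LCBasic

set_option autoImplicit false
universe u
open CategoryTheory
open TFCurv

namespace Groth.Agent.S15013

/-- Let O be a one-dimensional Noetherian local domain with algebraically closed residue field whose
integral closure O~ in its fraction field K is a finite O-module, and let w be a canonical ideal of
O, taken here as a nonzero finitely generated O-submodule of K whose injective dimension as an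
O-module is at most one. Then Ext^i_O(M, w) vanishes for all i ≥ 1 and every finitely generated
torsion-free O-module M. -/
theorem result (O : Type u) [CommRing O] [IsDomain O] [IsNoetherianRing O] [IsLocalRing O] (hdim : ringKrullDim O = 1) [IsAlgClosed (IsLocalRing.ResidueField O)] (K : Type u) [Field K] [Algebra O K] [IsFractionRing O K] (hfin : Module.Finite O ↥(integralClosure O K)) (ω : Submodule O K) (hω0 : ω ≠ ⊥) (hωfg : ω.FG) (hωinj : HasInjectiveDimensionLT (ModuleCat.of O ↥ω) 2) (M : Type u) [AddCommGroup M] [Module O M] [Module.Finite O M] [NoZeroSMulDivisors O M] (i : ℕ) (hi : 1 ≤ i) : Subsingleton (Abelian.Ext (ModuleCat.of O M) (ModuleCat.of O ↥ω) i) := by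
  rcases Nat.lt_or_ge i 2 with h | h
  · obtain rfl : i = 1 := by omega
    obtain ⟨n, ι, hι⟩ := Groth.Agent.Helper12.TFEmbed.exists_embedding_of_torsionFree O K M
    have hS := Groth.Agent.Helper8.LC.isSES_of_injective hι
    have hproj : Projective (ModuleCat.of O (Fin n → O)) :=
      (IsProjective.iff_projective (R := O) (P := (Fin n → O))).1 inferInstance
    have h2 : Subsingleton (Abelian.Ext (ModuleCat.of O ((Fin n → O) ⧸ LinearMap.range ι))
        (ModuleCat.of O ↥ω) 2) :=
      HasInjectiveDimensionLT.subsingleton (ModuleCat.of O ↥ω) 2 2 le_rfl _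
    refine ⟨fun a b => ?_⟩
    have key : ∀ x : Abelian.Ext (ModuleCat.of O M) (ModuleCat.of O ↥ω) 1, x = 0 := by
      intro x
      obtain ⟨y, hy⟩ := (Groth.Agent.Helper12.ExtChi.exact_pre_dl hS.shortExact
        (ModuleCat.of O ↥ω) 1 x).mp (Subsingleton.elim _ _)
      have hy0 : y = 0 := Abelian.Ext.eq_zero_of_projective y
      rw [← hy, hy0, map_zero]
    rw [key a, key b]
  · exact HasInjectiveDimensionLT.subsingleton (ModuleCat.of O ↥ω) 2 i h _

end Groth.Agent.S15013
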