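import Groth.Statements.S15015
import Mathlib

set_option autoImplicit false
universe u
open TFCurv

namespace Groth.Agent.S15015

private lemma mem_of_order_ge {k : Type u} [Field k] (A : Subalgebra k (PowerSeries k))
    (hcl : ∀ f : PowerSeries k,
      (∀ n : ℕ, ∃ g ∈ A, (n : ℕ∞) ≤ PowerSeries.order (f - g)) → f ∈ A)
    (Γ : Set ℕ) (hΓ : ∀ n : ℕ, n ∈ Γ ↔ ∃ f ∈ A, PowerSeries.order f = n)
    (c : ℕ) (hc : ∀ n : ℕ, c ≤ n → n ∈ Γ) :
    ∀ h : PowerSeries k, (c : ℕ∞) ≤ PowerSeries.order h → h ∈ A := by
  intro h hh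
  apply hcl
  intro n
  induction n with
  | zero => exact ⟨0, A.zero_mem, by simp⟩
  | succ n ih =>
    obtain ⟨a, ha, han⟩ := ih
    by_cases hnc : n < c
    · refine ⟨0, A.zero_mem, ?_⟩
      rw [sub_zero]
      refine le_trans ?_ hh
      exact_mod_cast Nat.succ_le_of_lt hnc
    · push_neg at hnc
      obtain ⟨b, hb, hbn⟩ := (hΓ n).mp (hc n hnc)
      obtain ⟨hbn0, hblt⟩ := PowerSeries.order_eq_nat.mp hbn
      refine ⟨a + (PowerSeries.coeff n (h - a) / PowerSeries.coeff n b) • b,
        A.add_mem ha (A.smul_mem hb _), ?_⟩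
      apply PowerSeries.nat_le_order
      intro i hi
      rw [← sub_sub, map_sub, map_smul, smul_eq_mul]
      rcases Nat.lt_succ_iff_lt_or_eq.mp hi with hlt | heq
      · have h1 : PowerSeries.coeff i (h - a) = 0 :=
          PowerSeries.coeff_of_lt_order i (lt_of_lt_of_le (by exact_mod_cast hlt) han)
        rw [h1, hblt i hlt, mul_zero, sub_zero]
      · rw [heq, div_mul_cancel₀ _ hbn0, sub_self]


/-- Let k be an algebraically closed field and A ≠ k[[t]] a k-subalgebra of k[[t]] that is closed in the
t-adic topology, over which k[[t]] is a finite module, and such that every power series is carried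
into A by multiplication with some nonzero element of A (so k[[t]] lies in the fraction field of A
and is its normalisation, as for the complete local ring of a unibranch curve singularity), and let
Γ ⊆ ℕ be the set of t-orders of the nonzero elements of A (its value semigroup). Then ℕ ∖ Γ is
finite and the k-dimension of k[[t]]/A equals the number of gaps of Γ. -/
theorem result (k : Type u) [Field k] [IsAlgClosed k] (A : Subalgebra k (PowerSeries k)) (hA : Module.Finite ↥A (PowerSeries k)) (hcl : ∀ f : PowerSeries k, (∀ n : ℕ, ∃ g ∈ A, (n : ℕ∞) ≤ PowerSeries.order (f - g)) → f ∈ A) (hsing : A ≠ ⊤) (hbir : ∀ f : PowerSeries k, ∃ a ∈ A, a ≠ 0 ∧ a * f ∈ A) (Γ : Set ℕ) (hΓ : ∀ n : ℕ, n ∈ Γ ↔ ∃ f ∈ A, PowerSeries.order f = n) : Γᶜ.Finite ∧ Module.finrank k (PowerSeries k ⧸ Subalgebra.toSubmodule A) = Γᶜ.ncard := by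
  classical
  -- Step 1: a nonzero element of A multiplying everything into A
  have hS : ∀ S : Finset (PowerSeries k), ∃ a ∈ A, a ≠ 0 ∧ ∀ f ∈ S, a * f ∈ A := by
    intro S
    induction S using Finset.induction_on with
    | empty => exact ⟨1, A.one_mem, one_ne_zero, fun f hf => absurd hf (Finset.notMem_empty f)⟩
    | insert f S _ ih =>
      obtain ⟨a, ha, ha0, haS⟩ := ih
      obtain ⟨a', ha', ha'0, ha'f⟩ := hbir f
      refine ⟨a * a', A.mul_mem ha ha', mul_ne_zero ha0 ha'0, ?_⟩
      intro f' hf'
      rcases Finset.mem_insert.mp hf' with h | h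
      · rw [h, mul_assoc]; exact A.mul_mem ha ha'f
      · have : a * a' * f' = a' * (a * f') := by ring
        rw [this]; exact A.mul_mem ha' (haS f' h)
  obtain ⟨S, hSspan⟩ := hA.fg_top
  obtain ⟨a, ha, ha0, haS⟩ := hS S
  have hag : ∀ g : PowerSeries k, a * g ∈ A := by
    intro g
    have hg : g ∈ Submodule.span ↥A (↑S : Set (PowerSeries k)) := by rw [hSspan]; trivial
    induction hg using Submodule.span_induction with
    | mem x h => exact haS x h
    | zero => rw [mul_zero]; exact A.zero_mem
    | add x y _ _ ihx ihy => rw [mul_add]; exact A.add_mem ihx ihy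
    | smul r x _ ih =>
      have : a * (r • x) = (r : PowerSeries k) * (a * x) := by
        rw [Subalgebra.smul_def]; ring
      rw [this]; exact A.mul_mem r.2 ih
  obtain ⟨c₀, hc₀⟩ : ∃ c₀ : ℕ, (c₀ : ℕ∞) = PowerSeries.order a :=
    ⟨_, PowerSeries.coe_toNat_order ha0⟩
  have hcΓ : ∀ n : ℕ, c₀ ≤ n → n ∈ Γ := by
    intro n hn
    rw [hΓ]
    refine ⟨a * PowerSeries.X ^ (n - c₀), hag _, ?_⟩
    rw [PowerSeries.order_mul, PowerSeries.order_X_pow, ← hc₀, ← Nat.cast_add]
    congr 1; omega
  have hkey := mem_of_order_ge A hcl Γ hΓ c₀ hcΓ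
  have hfin : Γᶜ.Finite := by
    apply (Set.finite_Iio c₀).subset
    intro n hn
    rw [Set.mem_Iio]
    by_contra hge
    exact hn (hcΓ n (by omega))
  refine ⟨hfin, ?_⟩
  haveI : Fintype ↥(Γᶜ) := hfin.fintype
  let v : ↥(Γᶜ) → (PowerSeries k ⧸ Subalgebra.toSubmodule A) :=
    fun g => (Subalgebra.toSubmodule A).mkQ ((PowerSeries.X : PowerSeries k) ^ (g : ℕ))
  have hmk0 : ∀ x : PowerSeries k, x ∈ A → (Subalgebra.toSubmodule A).mkQ x = 0 := by
    intro x hx
    rw [← LinearMap.mem_ker, Submodule.ker_mkQ]; exact hx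
  have hli : LinearIndependent k v := by
    rw [Fintype.linearIndependent_iff]
    intro l hl
    obtain ⟨P, hP⟩ : ∃ P : PowerSeries k,
        P = ∑ g : ↥(Γᶜ), l g • (PowerSeries.X : PowerSeries k) ^ (g : ℕ) := ⟨_, rfl⟩
    have hPA : P ∈ A := by
      have : P ∈ LinearMap.ker (Subalgebra.toSubmodule A).mkQ := by
        rw [LinearMap.mem_ker, hP, map_sum]
        simp_rw [map_smul]
        exact hl
      rw [Submodule.ker_mkQ] at this
      exact this
    have hcoeff1 : ∀ n, n ∈ Γ → PowerSeries.coeff n P = 0 := by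
      intro n hn
      rw [hP, map_sum]
      apply Finset.sum_eq_zero
      intro g _
      rw [map_smul, PowerSeries.coeff_X_pow, if_neg, smul_zero]
      intro h; exact g.2 (h ▸ hn)
    have hcoeff2 : ∀ g : ↥(Γᶜ), PowerSeries.coeff (g : ℕ) P = l g := by
      intro g
      rw [hP, map_sum, Finset.sum_eq_single g]
      · rw [map_smul, PowerSeries.coeff_X_pow, if_pos rfl, smul_eq_mul, mul_one]
      · intro g' _ hne
        rw [map_smul, PowerSeries.coeff_X_pow, if_neg, smul_zero]
        intro h; exact hne (Subtype.ext h.symm)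
      · intro h; exact absurd (Finset.mem_univ g) h
    have hP0 : P = 0 := by
      by_contra hne
      have h1 := PowerSeries.coeff_order hne
      have h2 : P.order.toNat ∈ Γ :=
        (hΓ _).mpr ⟨P, hPA, (PowerSeries.coe_toNat_order hne).symm⟩
      exact h1 (hcoeff1 _ h2)
    intro g
    rw [← hcoeff2 g, hP0, map_zero]
  have hspan : ⊤ ≤ Submodule.span k (Set.range v) := by
    have claim : ∀ d : ℕ, ∀ h : PowerSeries k, ((c₀ - d : ℕ) : ℕ∞) ≤ PowerSeries.order h →
        (Subalgebra.toSubmodule A).mkQ h ∈ Submodule.span k (Set.range v) := by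
      intro d
      induction d with
      | zero =>
        intro h hh
        rw [hmk0 h (hkey h (by simpa using hh))]
        exact Submodule.zero_mem _
      | succ d ih =>
        intro h hh
        by_cases hd : c₀ ≤ d
        · apply ih h
          have e : c₀ - d = c₀ - (d + 1) := by omega
          rw [e]; exact hh
        · push_neg at hd
          obtain ⟨n, hn⟩ : ∃ n, n = c₀ - (d + 1) := ⟨_, rfl⟩
          rw [← hn] at hh
          have hn1 : c₀ - d = n + 1 := by omega
          by_cases hnΓ : n ∈ Γ
          · obtain ⟨b, hb, hbn⟩ := (hΓ n).mp hnΓ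
            obtain ⟨hbn0, hblt⟩ := PowerSeries.order_eq_nat.mp hbn
            have hh' : ((c₀ - d : ℕ) : ℕ∞) ≤ PowerSeries.order
                (h - (PowerSeries.coeff n h / PowerSeries.coeff n b) • b) := by
              rw [hn1]
              apply PowerSeries.nat_le_order
              intro i hi
              rw [map_sub, map_smul, smul_eq_mul]
              rcases Nat.lt_succ_iff_lt_or_eq.mp hi with hlt | heq
              · rw [PowerSeries.coeff_of_lt_order i (lt_of_lt_of_le (by exact_mod_cast hlt) hh),
                  hblt i hlt, mul_zero, sub_zero]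
              · rw [heq, div_mul_cancel₀ _ hbn0, sub_self]
            have h1 := ih _ hh'
            rw [map_sub, hmk0 _ (A.smul_mem hb _), sub_zero] at h1
            exact h1
          · have hh' : ((c₀ - d : ℕ) : ℕ∞) ≤ PowerSeries.order
                (h - PowerSeries.coeff n h • (PowerSeries.X : PowerSeries k) ^ n) := by
              rw [hn1]
              apply PowerSeries.nat_le_order
              intro i hi
              rw [map_sub, map_smul, smul_eq_mul, PowerSeries.coeff_X_pow]
              rcases Nat.lt_succ_iff_lt_or_eq.mp hi with hlt | heq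
              · rw [PowerSeries.coeff_of_lt_order i (lt_of_lt_of_le (by exact_mod_cast hlt) hh),
                  if_neg (by omega), mul_zero, sub_zero]
              · rw [heq, if_pos rfl, mul_one, sub_self]
            have h1 := ih _ hh'
            rw [map_sub, map_smul] at h1
            have h2 : (Subalgebra.toSubmodule A).mkQ ((PowerSeries.X : PowerSeries k) ^ n) ∈
                Submodule.span k (Set.range v) :=
              Submodule.subset_span ⟨⟨n, hnΓ⟩, rfl⟩
            have h3 := Submodule.add_mem _ h1 (Submodule.smul_mem _ (PowerSeries.coeff n h) h2)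
            rwa [sub_add_cancel] at h3
    intro x _
    obtain ⟨h, rfl⟩ := Submodule.mkQ_surjective _ x
    exact claim c₀ h (by simp)
  rw [Module.finrank_eq_nat_card_basis (Module.Basis.mk hli hspan), Nat.card_coe_set_eq]

end Groth.Agent.S15015
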