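import Groth.Statements.S15016
import Mathlib

set_option autoImplicit false
universe u
open TFCurv

namespace Groth.Agent.S15016

/-- Let k be an algebraically closed field and A ≠ k[[t]] a k-subalgebra of k[[t]] that is closed in the
t-adic topology and over which k[[t]] is a finite module (as for the complete local ring of a
unibranch curve singularity inside its normalisation), and let Γ ⊆ ℕ be the set of t-orders of the
nonzero elements of A (its value semigroup); let c be the conductor of Γ, so that every n ≥ c lies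
in Γ and c − 1 does not. Then for a power series f, f · k[[t]] ⊆ A holds exactly when the order of f
is at least c: the conductor of A in k[[t]] is t^c · k[[t]], of codimension c. -/
theorem result (k : Type u) [Field k] [IsAlgClosed k] (A : Subalgebra k (PowerSeries k)) (hA : Module.Finite ↥A (PowerSeries k)) (hcl : ∀ f : PowerSeries k, (∀ n : ℕ, ∃ g ∈ A, (n : ℕ∞) ≤ PowerSeries.order (f - g)) → f ∈ A) (hsing : A ≠ ⊤) (Γ : Set ℕ) (hΓ : ∀ n : ℕ, n ∈ Γ ↔ ∃ f ∈ A, PowerSeries.order f = n) (c : ℕ) (hc : ∀ n : ℕ, c ≤ n → n ∈ Γ) (hc0 : c ≠ 0) (hc1 : c - 1 ∉ Γ) (f : PowerSeries k) : (∀ g : PowerSeries k, g * f ∈ A) ↔ (c : ℕ∞) ≤ PowerSeries.order f := by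
  have key : ∀ h : PowerSeries k, (c : ℕ∞) ≤ PowerSeries.order h → h ∈ A := by
    intro h hh
    apply hcl
    intro n
    induction n with
    | zero => exact ⟨0, A.zero_mem, by simp⟩
    | succ n ih =>
      obtain ⟨a, ha, han⟩ := ih
      by_cases hnc : n < c
      · refine ⟨0, A.zero_mem, ?_⟩
        rw [sub_zero]
        refine le_trans ?_ hh
        exact_mod_cast Nat.succ_le_of_lt hnc
      · push_neg at hnc
        obtain ⟨b, hb, hbn⟩ := (hΓ n).mp (hc n hnc)
        obtain ⟨hbn0, hblt⟩ := PowerSeries.order_eq_nat.mp hbn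
        refine ⟨a + (PowerSeries.coeff n (h - a) / PowerSeries.coeff n b) • b,
          A.add_mem ha (A.smul_mem hb _), ?_⟩
        apply PowerSeries.nat_le_order
        intro i hi
        rw [← sub_sub, map_sub, map_smul, smul_eq_mul]
        rcases Nat.lt_succ_iff_lt_or_eq.mp hi with hlt | heq
        · have h1 : PowerSeries.coeff i (h - a) = 0 :=
            PowerSeries.coeff_of_lt_order i (lt_of_lt_of_le (by exact_mod_cast hlt) han)
          rw [h1, hblt i hlt, mul_zero, sub_zero]
        · rw [heq, div_mul_cancel₀ _ hbn0, sub_self]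
  constructor
  · intro hall
    by_contra hlt
    push_neg at hlt
    have hf0 : f ≠ 0 := by
      intro h0; rw [h0, PowerSeries.order_zero] at hlt; exact not_top_lt hlt
    have hm := PowerSeries.coe_toNat_order hf0
    obtain ⟨m, hmdef⟩ : ∃ m, m = f.order.toNat := ⟨_, rfl⟩
    rw [← hmdef] at hm
    have hmc : m < c := by rw [← hm] at hlt; exact_mod_cast hlt
    apply hc1
    rw [hΓ]
    refine ⟨PowerSeries.X ^ (c - 1 - m) * f, hall _, ?_⟩
    rw [PowerSeries.order_mul, PowerSeries.order_X_pow, ← hm, ← Nat.cast_add]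
    congr 1; omega
  · intro hcf g
    apply key
    calc (c : ℕ∞) ≤ PowerSeries.order f := hcf
      _ ≤ PowerSeries.order g + PowerSeries.order f := le_add_self
      _ ≤ PowerSeries.order (g * f) := PowerSeries.le_order_mul g f

end Groth.Agent.S15016
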