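import Groth.Statements.S15017
import Mathlib

set_option autoImplicit false
open TFCurv

namespace Groth.Agent.S15017

/-- Let Γ be a numerical semigroup (a submonoid of (ℕ, +) with finite complement), Γ ≠ ℕ, with conductor
c (every n ≥ c lies in Γ, c − 1 does not). If Γ is symmetric (for x < c, x is a gap exactly when c −
1 − x ∈ Γ) and has multiplicity greater than 2 (neither 1 nor 2 lies in Γ), then Γ is generated by
its elements smaller than c: every minimal generator of Γ is less than the conductor. -/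
theorem result (Γ : AddSubmonoid ℕ) (c : ℕ) (hc : ∀ n : ℕ, c ≤ n → n ∈ Γ) (hc0 : c ≠ 0) (hc1 : c - 1 ∉ Γ) (hsymm : ∀ x : ℕ, x < c → (x ∉ Γ ↔ c - 1 - x ∈ Γ)) (he : (1 : ℕ) ∉ Γ ∧ (2 : ℕ) ∉ Γ) : AddSubmonoid.closure {γ : ℕ | γ ∈ Γ ∧ γ < c} = Γ := by
  classical
  apply le_antisymm
  · rw [AddSubmonoid.closure_le]
    intro γ hγ
    exact hγ.1
  · have hc2 : 3 ≤ c := by
      rcases Nat.lt_or_ge c 3 with h | h
      · exfalso
        interval_cases c
        · exact hc0 rfl
        · exact hc1 Γ.zero_mem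
        · exact he.2 (hc 2 (le_refl 2))
      · exact h
    have h1 : c - 2 ∈ Γ := by
      have := (hsymm 1 (by omega)).mp he.1
      have e1 : c - 1 - 1 = c - 2 := by omega
      rwa [e1] at this
    have h2 : c - 3 ∈ Γ := by
      have := (hsymm 2 (by omega)).mp he.2
      have e1 : c - 1 - 2 = c - 3 := by omega
      rwa [e1] at this
    have hex : ∃ m, m ∈ Γ ∧ m ≠ 0 := ⟨c, hc c (le_refl c), hc0⟩
    obtain ⟨e, ⟨heΓ, he0⟩, hemin⟩ : ∃ e, (e ∈ Γ ∧ e ≠ 0) ∧ ∀ m, m ∈ Γ → m ≠ 0 → e ≤ m :=
      ⟨Nat.find hex, Nat.find_spec hex, fun m hm hm0 => Nat.find_min' hex ⟨hm, hm0⟩⟩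
    have he3 : 3 ≤ e := by
      by_contra hlt
      push_neg at hlt
      interval_cases e
      · exact he0 rfl
      · exact he.1 heΓ
      · exact he.2 heΓ
    have hec : e ≤ c - 2 := hemin _ h1 (by omega)
    have hex2 : ∃ a, a ∈ Γ ∧ ¬ e ∣ a := by
      by_cases hdiv : e ∣ c
      · refine ⟨c + 1, hc _ (by omega), ?_⟩
        intro hdiv2
        have : e ∣ 1 := (Nat.dvd_add_right hdiv).mp hdiv2
        have := Nat.le_of_dvd (by norm_num) this
        omega
      · exact ⟨c, hc c (le_refl c), hdiv⟩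
    obtain ⟨a₀, ⟨ha₀Γ, ha₀div⟩, ha₀min⟩ : ∃ a₀, (a₀ ∈ Γ ∧ ¬ e ∣ a₀) ∧ ∀ m, m ∈ Γ → m < a₀ → e ∣ m := by
      refine ⟨Nat.find hex2, Nat.find_spec hex2, ?_⟩
      intro m hm hlt
      have := Nat.find_min hex2 hlt
      push_neg at this
      exact this hm
    have ha₀0 : a₀ ≠ 0 := by rintro h; rw [h] at ha₀div; exact ha₀div (dvd_zero e)
    have ha₀e : e < a₀ := by
      have h3 := hemin a₀ ha₀Γ ha₀0
      rcases Nat.lt_or_eq_of_le h3 with h | h
      · exact h
      · exfalso; rw [← h] at ha₀div; exact ha₀div (dvd_refl e)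
    have ha₀sub : a₀ - e ∉ Γ := by
      intro hmem
      have h3 := ha₀min _ hmem (by omega)
      apply ha₀div
      have : a₀ = (a₀ - e) + e := by omega
      rw [this]
      exact Nat.dvd_add h3 (dvd_refl e)
    have ha₀c : a₀ < c := by
      by_contra hle
      push_neg at hle
      have d1 := ha₀min _ h1 (by omega)
      have d2 := ha₀min _ h2 (by omega)
      have : c - 2 = (c - 3) + 1 := by omega
      rw [this] at d1
      have : e ∣ 1 := (Nat.dvd_add_right d2).mp d1
      have := Nat.le_of_dvd (by norm_num) this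
      omega
    -- decomposition
    have hdec : ∀ n, n ∈ Γ → c ≤ n → ∃ a b, a ∈ Γ ∧ b ∈ Γ ∧ a ≠ 0 ∧ b ≠ 0 ∧ a + b = n := by
      intro n _ hcn
      rcases Nat.lt_trichotomy (n - (c - 1)) e with hk | hk | hk
      · refine ⟨e, n - e, heΓ, ?_, he0, by omega, by omega⟩
        have hg : e - (n - (c - 1)) ∉ Γ := by
          intro hmem
          have := hemin _ hmem (by omega)
          omega
        have := (hsymm _ (by omega)).mp hg
        have e1 : c - 1 - (e - (n - (c - 1))) = n - e := by omega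
        rwa [e1] at this
      · refine ⟨a₀, n - a₀, ha₀Γ, ?_, ha₀0, by omega, by omega⟩
        have := (hsymm _ (by omega)).mp ha₀sub
        have e1 : c - 1 - (a₀ - e) = n - a₀ := by omega
        rwa [e1] at this
      · exact ⟨e, n - e, heΓ, hc _ (by omega), he0, by omega, by omega⟩
    intro n hn
    induction n using Nat.strong_induction_on with
    | _ n ih =>
      by_cases hlt : n < c
      · exact AddSubmonoid.subset_closure ⟨hn, hlt⟩
      · push_neg at hlt
        obtain ⟨a, b, ha, hb, ha0, hb0, hab⟩ := hdec n hn hlt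
        rw [← hab]
        exact AddSubmonoid.add_mem _ (ih a (by omega) ha) (ih b (by omega) hb)

end Groth.Agent.S15017
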