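import Groth.Statements.S15018
import Mathlib

set_option autoImplicit false
open TFCurv

namespace Groth.Agent.S15018

/-- Let Γ be a numerical semigroup (a submonoid of (ℕ, +) with finite complement), Γ ≠ ℕ, with conductor
c (every n ≥ c lies in Γ, c − 1 does not). Then Γ is symmetric (for x < c, x is a gap exactly when c
− 1 − x ∈ Γ) if and only if there is exactly one gap n of Γ such that Γ ∪ {n} is again stable under
adding elements of Γ, i.e. n + γ ∈ Γ for every nonzero γ ∈ Γ. -/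
theorem result (Γ : AddSubmonoid ℕ) (c : ℕ) (hc : ∀ n : ℕ, c ≤ n → n ∈ Γ) (hc0 : c ≠ 0) (hc1 : c - 1 ∉ Γ) : (∀ x : ℕ, x < c → (x ∉ Γ ↔ c - 1 - x ∈ Γ)) ↔ ∃! n : ℕ, n ∉ Γ ∧ ∀ γ : ℕ, γ ∈ Γ → γ ≠ 0 → n + γ ∈ Γ := by
  classical
  have hgap : ∀ n, n ∉ Γ → n < c := fun n hn => by
    by_contra hle; push_neg at hle; exact hn (hc n hle)
  have hF : c - 1 ∉ Γ ∧ ∀ γ : ℕ, γ ∈ Γ → γ ≠ 0 → c - 1 + γ ∈ Γ :=
    ⟨hc1, fun γ _ hγ0 => hc _ (by omega)⟩
  constructor
  · intro hsymm
    refine ⟨c - 1, hF, ?_⟩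
    rintro n ⟨hn, hn'⟩
    have hnc := hgap n hn
    have h1 : c - 1 - n ∈ Γ := (hsymm n hnc).mp hn
    by_contra hne
    have h2 : c - 1 - n ≠ 0 := by omega
    have h3 := hn' _ h1 h2
    have h4 : n + (c - 1 - n) = c - 1 := by omega
    rw [h4] at h3
    exact hc1 h3
  · rintro ⟨m, _, huniq⟩ x hx
    constructor
    · intro hxΓ
      set P : ℕ → Prop := fun g => g ∉ Γ ∧ x ≤ g ∧ g - x ∈ Γ with hP
      have hPx : P x := ⟨hxΓ, le_refl x, by rw [Nat.sub_self]; exact Γ.zero_mem⟩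
      set n := Nat.findGreatest P c with hn
      have hPn : P n := Nat.findGreatest_spec (le_of_lt hx) hPx
      have hnPF : n ∉ Γ ∧ ∀ γ : ℕ, γ ∈ Γ → γ ≠ 0 → n + γ ∈ Γ := by
        refine ⟨hPn.1, ?_⟩
        intro γ hγ hγ0
        by_contra hcon
        have hlt : n + γ < c := hgap _ hcon
        have hP' : P (n + γ) := by
          refine ⟨hcon, by have := hPn.2.1; omega, ?_⟩
          have : n + γ - x = (n - x) + γ := by have := hPn.2.1; omega
          rw [this]
          exact Γ.add_mem hPn.2.2 hγ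
        exact Nat.findGreatest_is_greatest (by omega : n < n + γ) (le_of_lt hlt) hP'
      have h1 : n = m := huniq n hnPF
      have h2 : c - 1 = m := huniq (c - 1) hF
      have : n = c - 1 := by rw [h1, h2]
      rw [← this]
      exact hPn.2.2
    · intro h1 hxΓ
      have h2 := Γ.add_mem hxΓ h1
      have h3 : x + (c - 1 - x) = c - 1 := by omega
      rw [h3] at h2
      exact hc1 h2

end Groth.Agent.S15018
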