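import Groth.Statements.S15019
import Mathlib

set_option autoImplicit false
open TFCurv

namespace Groth.Agent.S15019

/-- Let Γ be a numerical semigroup (a submonoid of (ℕ, +) with finite complement), Γ ≠ ℕ, with conductor
c (every n ≥ c lies in Γ, c − 1 does not), let e be its multiplicity (the least nonzero element of
Γ), and let S ⊆ ℕ be a Γ-module in normal form: 0 ∈ S and γ + s ∈ S for all γ ∈ Γ, s ∈ S. Then the
set of gaps n of S with S ∪ {n} again a Γ-module (n + γ ∈ S for every nonzero γ ∈ Γ) has at most e −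
1 elements, and so does the set of nonzero s ∈ S with S ∖ {s} again a Γ-module (s − γ ∉ S for every
nonzero γ ∈ Γ with γ ≤ s). -/
theorem result (Γ : AddSubmonoid ℕ) (c : ℕ) (hc : ∀ n : ℕ, c ≤ n → n ∈ Γ) (hc0 : c ≠ 0) (hc1 : c - 1 ∉ Γ) (e : ℕ) (he : e ∈ Γ) (he0 : e ≠ 0) (hemin : ∀ γ : ℕ, γ ∈ Γ → γ ≠ 0 → e ≤ γ) (S : Set ℕ) (hS0 : (0 : ℕ) ∈ S) (hS : ∀ γ : ℕ, γ ∈ Γ → ∀ s : ℕ, s ∈ S → γ + s ∈ S) : {n : ℕ | n ∉ S ∧ ∀ γ : ℕ, γ ∈ Γ → γ ≠ 0 → n + γ ∈ S}.encard ≤ ((e - 1 : ℕ) : ℕ∞) ∧ {s : ℕ | s ∈ S ∧ s ≠ 0 ∧ ∀ γ : ℕ, γ ∈ Γ → γ ≠ 0 → γ ≤ s → s - γ ∉ S}.encard ≤ ((e - 1 : ℕ) : ℕ∞) := by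
  classical
  have hΓS : ∀ n, n ∈ Γ → n ∈ S := fun n hn => by simpa using hS n hn 0 hS0
  have hke : ∀ k : ℕ, e * k ∈ Γ := fun k => by
    have := Γ.nsmul_mem he k
    rwa [smul_eq_mul, mul_comm] at this
  have hepos : 0 < e := Nat.pos_of_ne_zero he0
  have hcard : (↑(Finset.Icc 1 (e - 1)) : Set ℕ).encard = ((e - 1 : ℕ) : ℕ∞) := by
    rw [Set.encard_coe_eq_coe_finsetCard, Nat.card_Icc]
    congr 1
  have hdiff : ∀ n n' : ℕ, n % e = n' % e → n < n' → ∃ k, k ≠ 0 ∧ n' = n + e * k := by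
    intro n n' hmod hlt
    have hdvd : e ∣ n' - n := (Nat.modEq_iff_dvd' (le_of_lt hlt)).mp hmod
    obtain ⟨k, hk⟩ := hdvd
    refine ⟨k, ?_, by omega⟩
    rintro rfl
    omega
  constructor
  · rw [← hcard]
    apply Set.encard_le_encard_of_injOn (f := fun n => n % e)
    · rintro n ⟨hn, hn'⟩
      simp only [Finset.coe_Icc, Set.mem_Icc]
      have h1 : n % e < e := Nat.mod_lt _ hepos
      refine ⟨?_, by omega⟩
      by_contra hcon
      have h0 : n % e = 0 := by omega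
      obtain ⟨k, hk⟩ := Nat.dvd_of_mod_eq_zero h0
      exact hn (hΓS _ (hk ▸ hke k))
    · rintro n ⟨hn, hn'⟩ n' ⟨hm, hm'⟩ hmod
      simp only at hmod
      by_contra hne
      rcases Nat.lt_or_gt_of_ne hne with hlt | hlt
      · obtain ⟨k, hk0, hk⟩ := hdiff n n' hmod hlt
        apply hm
        rw [hk]
        exact hn' _ (hke k) (by positivity)
      · obtain ⟨k, hk0, hk⟩ := hdiff n' n hmod.symm hlt
        apply hn
        rw [hk]
        exact hm' _ (hke k) (by positivity)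
  · rw [← hcard]
    apply Set.encard_le_encard_of_injOn (f := fun n => n % e)
    · rintro s ⟨hs, hs0, hs'⟩
      simp only [Finset.coe_Icc, Set.mem_Icc]
      have h1 : s % e < e := Nat.mod_lt _ hepos
      refine ⟨?_, by omega⟩
      by_contra hcon
      have h0 : s % e = 0 := by omega
      obtain ⟨k, hk⟩ := Nat.dvd_of_mod_eq_zero h0
      have h2 := hs' s (hk ▸ hke k) hs0 (le_refl s)
      rw [Nat.sub_self] at h2
      exact h2 hS0
    · rintro s ⟨hs, hs0, hs'⟩ t ⟨ht, ht0, ht'⟩ hmod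
      simp only at hmod
      by_contra hne
      rcases Nat.lt_or_gt_of_ne hne with hlt | hlt
      · obtain ⟨k, hk0, hk⟩ := hdiff s t hmod hlt
        have h2 := ht' (e * k) (hke k) (by positivity) (by omega)
        apply h2
        have : t - e * k = s := by omega
        rw [this]; exact hs
      · obtain ⟨k, hk0, hk⟩ := hdiff t s hmod.symm hlt
        have h2 := hs' (e * k) (hke k) (by positivity) (by omega)
        apply h2
        have : s - e * k = t := by omega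
        rw [this]; exact ht

end Groth.Agent.S15019
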