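import Groth.Statements.S15022
import Groth.Agent.Lib.Helper8.FracDual6
import Groth.Agent.S15016

set_option autoImplicit false
universe u
open CategoryTheory
open TFCurv

namespace Groth.Agent.S15022

/-- Let k be an algebraically closed field and A ≠ k[[t]] a k-subalgebra of k[[t]] that is closed in the
t-adic topology and over which k[[t]] is a finite module (as for the complete local ring of a
unibranch curve singularity inside its normalisation), and let Γ ⊆ ℕ be the set of t-orders of the
nonzero elements of A (its value semigroup); let c be the conductor of Γ (every n ≥ c lies in Γ, c −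
1 does not) and suppose A is not Gorenstein. If w is an A-submodule of k[[t]] with 1 ∈ w whose
injective dimension as an A-module is at most one (a canonical ideal of A placed between A and
k[[t]]), then the value set of w is the dual of Γ: a natural number n is the t-order of some element
of w exactly when n ≥ c or c − 1 − n is a gap of Γ. (The published statement does not exclude the
Gorenstein case; this row assumes that A is not Gorenstein.) -/
theorem result (k : Type u) [Field k] [IsAlgClosed k] (A : Subalgebra k (PowerSeries k)) (hA : Module.Finite ↥A (PowerSeries k)) (hcl : ∀ f : PowerSeries k, (∀ n : ℕ, ∃ g ∈ A, (n : ℕ∞) ≤ PowerSeries.order (f - g)) → f ∈ A) (hsing : A ≠ ⊤) (Γ : Set ℕ) (hΓ : ∀ n : ℕ, n ∈ Γ ↔ ∃ f ∈ A, PowerSeries.order f = n) (c : ℕ) (hc : ∀ n : ℕ, c ≤ n → n ∈ Γ) (hc0 : c ≠ 0) (hc1 : c - 1 ∉ Γ) (hG : ¬ LocCoh.IsGorensteinLocalRing ↥A) (ω : Submodule ↥A (PowerSeries k)) (hω1 : (1 : PowerSeries k) ∈ ω) (hωfg : ω.FG) (hωinj : HasInjectiveDimensionLT (ModuleCat.of ↥A ↥ω)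 2) (n : ℕ) : (∃ f ∈ ω, PowerSeries.order f = n) ↔ (c ≤ n ∨ c - 1 - n ∉ Γ) := by
  haveI := hA
  have hcond : ∀ f : PowerSeries k, (c : ℕ∞) ≤ PowerSeries.order f → f ∈ A := by
    intro f h
    have := (Groth.Agent.S15016.result k A hA hcl hsing Γ hΓ c hc hc0 hc1 f).mpr h 1
    rwa [one_mul] at this
  have hconv : ∀ f : PowerSeries k, (∀ g : PowerSeries k, g * f ∈ A) →
      (c : ℕ∞) ≤ PowerSeries.order f := by
    intro f h
    exact (Groth.Agent.S15016.result k A hA hcl hsing Γ hΓ c hc hc0 hc1 f).mp h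
  have hM1 : (1 : PowerSeries k) ∈ (1 : Submodule ↥A (PowerSeries k)) :=
    Submodule.one_le.mp le_rfl
  have hmain := Groth.Agent.Helper8.FracDual.ps_main A c hcond hc0 ω hω1 hωinj hconv
    (1 : Submodule ↥A (PowerSeries k)) hM1 n
  have hmem : ∀ m : PowerSeries k, m ∈ (1 : Submodule ↥A (PowerSeries k)) ↔ m ∈ A := by
    intro m
    rw [Submodule.mem_one]
    constructor
    · rintro ⟨a, rfl⟩
      exact a.2
    · intro hm
      exact ⟨⟨m, hm⟩, rfl⟩
  have hL : (∃ u : PowerSeries k, PowerSeries.order u = n ∧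
      ∀ m ∈ (1 : Submodule ↥A (PowerSeries k)), u * m ∈ ω) ↔
      (∃ f ∈ ω, PowerSeries.order f = n) := by
    constructor
    · rintro ⟨u, hun, hu⟩
      have := hu 1 hM1
      rw [mul_one] at this
      exact ⟨u, this, hun⟩
    · rintro ⟨f, hf, hfn⟩
      refine ⟨f, hfn, ?_⟩
      intro m hm
      have hmA := (hmem m).mp hm
      have : f * m = (⟨m, hmA⟩ : ↥A) • f := by
        rw [Algebra.smul_def, mul_comm]; rfl
      rw [this]
      exact ω.smul_mem _ hf
  have hR : (¬ ∃ m ∈ (1 : Submodule ↥A (PowerSeries k)),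
      PowerSeries.order m = ((c - 1 - n : ℕ) : ℕ∞)) ↔ c - 1 - n ∉ Γ := by
    rw [hΓ]
    constructor
    · rintro h ⟨f, hf, hfn⟩
      exact h ⟨f, (hmem f).mpr hf, hfn⟩
    · rintro h ⟨m, hm, hmn⟩
      exact h ⟨m, (hmem m).mp hm, hmn⟩
  rw [← hL, ← hR]
  exact hmain

end Groth.Agent.S15022
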