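import Groth.Statements.S15029
import Mathlib

set_option autoImplicit false
open TFCurv

namespace Groth.Agent.S15029

/-- Let Γ be a numerical semigroup (a submonoid of (ℕ, +) with finite complement), Γ ≠ ℕ, with conductor
c (every n ≥ c lies in Γ, c − 1 does not), and let S ⊆ ℕ be a Γ-module in normal form (0 ∈ S and γ +
s ∈ S for γ ∈ Γ, s ∈ S). If S ≠ ℕ then some gap n of S can be added (n + γ ∈ S for every nonzero γ ∈
Γ, so S ∪ {n} is a Γ-module), and if S ≠ Γ then some s ∈ S outside Γ can be removed (s − γ ∉ S for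
every nonzero γ ∈ Γ with γ ≤ s, so S ∖ {s} is a Γ-module containing Γ); iterating, S is joined to ℕ
and to Γ by chains in the diagram of Γ-modules, which is therefore connected. -/
theorem result (Γ : AddSubmonoid ℕ) (c : ℕ) (hc : ∀ n : ℕ, c ≤ n → n ∈ Γ) (hc0 : c ≠ 0) (hc1 : c - 1 ∉ Γ) (S : Set ℕ) (hS0 : (0 : ℕ) ∈ S) (hS : ∀ γ : ℕ, γ ∈ Γ → ∀ s : ℕ, s ∈ S → γ + s ∈ S) : (S ≠ Set.univ → ∃ n : ℕ, n ∉ S ∧ ∀ γ : ℕ, γ ∈ Γ → γ ≠ 0 → n + γ ∈ S) ∧ ((↑Γ : Set ℕ) ≠ S → ∃ s : ℕ, s ∈ S ∧ s ∉ Γ ∧ ∀ γ : ℕ, γ ∈ Γ → γ ≠ 0 → γ ≤ s → s - γ ∉ S) := by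
  classical
  have hΓS : ∀ n, n ∈ Γ → n ∈ S := fun n hn => by simpa using hS n hn 0 hS0
  have hgap : ∀ n, n ∉ S → n < c := fun n hn => by
    by_contra hle; push_neg at hle; exact hn (hΓS n (hc n hle))
  constructor
  · intro hne
    obtain ⟨x, hx⟩ : ∃ x, x ∉ S := by
      by_contra hcon; push_neg at hcon
      exact hne (Set.eq_univ_of_forall hcon)
    set n := Nat.findGreatest (fun g => g ∉ S) c with hn
    have hPn : n ∉ S := Nat.findGreatest_spec (P := fun g => g ∉ S) (le_of_lt (hgap x hx)) hx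
    refine ⟨n, hPn, ?_⟩
    intro γ hγ hγ0
    by_contra hcon
    exact Nat.findGreatest_is_greatest (P := fun g => g ∉ S) (by omega : n < n + γ)
      (le_of_lt (hgap _ hcon)) hcon
  · intro hne
    have hex : ∃ s, s ∈ S ∧ s ∉ Γ := by
      by_contra hcon; push_neg at hcon
      exact hne (Set.Subset.antisymm (fun n hn => hΓS n hn) (fun n hn => hcon n hn))
    set s := Nat.find hex with hs
    obtain ⟨hsS, hsΓ⟩ := Nat.find_spec hex
    refine ⟨s, hsS, hsΓ, ?_⟩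
    intro γ hγ hγ0 hγs hcon
    have hlt : s - γ < s := by omega
    have h1 := Nat.find_min hex hlt
    push_neg at h1
    have h2 := Γ.add_mem (h1 hcon) hγ
    have h3 : s - γ + γ = s := by omega
    rw [h3] at h2
    exact hsΓ h2

end Groth.Agent.S15029
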