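import Groth.Statements.S15036
import Mathlib

set_option autoImplicit false
open TFCurv

namespace Groth.Agent.S15036

/-- Let Γ be a numerical semigroup (a submonoid of (ℕ, +) with finite complement), Γ ≠ ℕ, with conductor
c (every n ≥ c lies in Γ, c − 1 does not); let S ⊆ ℕ be a Γ-module in normal form (0 ∈ S, γ + s ∈ S
for γ ∈ Γ, s ∈ S) with conductor c(S) (all n ≥ c(S) in S, c(S) − 1 ∉ S), and let s be a gap of S
such that S ∪ {s} is again a Γ-module. Enumerate S increasingly as s_0 < s_1 < ⋯ and put τ_i(S) =
s_i + ℓ(S), where ℓ counts the gaps of Γ filled; since ℓ(S ∪ {s}) = ℓ(S) + 1, the termwise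
comparison τ(S) ≤ τ(S ∪ {s}) says that the i-th element of S is at most one more than the i-th
element of S ∪ {s} for every i. This holds if and only if s = c(S) − 1, the largest gap of S. -/
theorem result (Γ : AddSubmonoid ℕ) (c : ℕ) (hc : ∀ n : ℕ, c ≤ n → n ∈ Γ) (hc0 : c ≠ 0) (hc1 : c - 1 ∉ Γ) (S : Set ℕ) (hS0 : (0 : ℕ) ∈ S) (hS : ∀ γ : ℕ, γ ∈ Γ → ∀ s : ℕ, s ∈ S → γ + s ∈ S) (cS : ℕ) (hcS : ∀ n : ℕ, cS ≤ n → n ∈ S) (hcS0 : cS ≠ 0) (hcS1 : cS - 1 ∉ S) (s : ℕ) (hs : s ∉ S) (hs' : ∀ γ : ℕ, γ ∈ Γ → γ ≠ 0 → s + γ ∈ S) : (∀ i : ℕ, Nat.nth (fun m => m ∈ S) i ≤ Nat.nth (fun m => m ∈ insert s S) i + 1) ↔ s + 1 = cS := by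
  classical
  set pS : ℕ → Prop := fun m => m ∈ S with hpS
  set pT : ℕ → Prop := fun m => m ∈ insert s S with hpT
  have hSinf : (Set.ofPred pS).Infinite := by
    apply Set.infinite_of_forall_exists_gt
    intro a
    exact ⟨max a cS + 1, hcS _ (by omega), by omega⟩
  have hTinf : (Set.ofPred pT).Infinite := by
    apply Set.infinite_of_forall_exists_gt
    intro a
    exact ⟨max a cS + 1, Set.mem_insert_of_mem _ (hcS _ (by omega)), by omega⟩
  have hcount : ∀ m, Nat.count pT m = Nat.count pS m + if s < m then 1 else 0 := by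
    intro m
    induction m with
    | zero => simp
    | succ m ih =>
      rw [Nat.count_succ, Nat.count_succ, ih]
      by_cases hms : m = s
      · have h1 : pT m := by rw [hms]; exact Set.mem_insert _ _
        have h2 : ¬ pS m := by rw [hms]; exact hs
        rw [if_pos h1, if_neg h2, if_neg (by omega), if_pos (by omega)]
      · have h1 : pT m ↔ pS m := by
          constructor
          · intro h
            rcases Set.mem_insert_iff.mp h with h | h
            · exact absurd h hms
            · exact h
          · intro h; exact Set.mem_insert_of_mem _ h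
        by_cases hp : pS m
        · rw [if_pos (h1.mpr hp), if_pos hp]
          by_cases hlt : s < m
          · rw [if_pos hlt, if_pos (by omega)]
          · rw [if_neg hlt, if_neg (by omega)]
        · rw [if_neg (fun h => hp (h1.mp h)), if_neg hp]
          by_cases hlt : s < m
          · rw [if_pos hlt, if_pos (by omega)]
          · rw [if_neg hlt, if_neg (by omega)]
  have hslt : s < cS := by
    by_contra hge
    exact hs (hcS s (by omega))
  constructor
  · intro hall
    by_contra hne
    have hg : cS - 1 ∉ S := hcS1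
    have hsg : s < cS - 1 := by omega
    have e1 : cS - 1 + 1 ≤ Nat.nth pS (Nat.count pS (cS - 1)) := by
      apply (Nat.count_le_iff_le_nth hSinf).mp
      rw [Nat.count_succ, if_neg hg, add_zero]
    have e2 : Nat.nth pT (Nat.count pS (cS - 1)) < cS - 1 := by
      apply (Nat.lt_nth_iff_count_lt hTinf).mp
      rw [hcount, if_pos hsg]
      omega
    have := hall (Nat.count pS (cS - 1))
    omega
  · intro hsc i
    have key : i < Nat.count pS (Nat.nth pT i + 2) := by
      have c1 : Nat.count pT (Nat.nth pT i + 1) = i + 1 := Nat.count_nth_succ_of_infinite hTinf i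
      have c2 := hcount (Nat.nth pT i + 2)
      by_cases hlt : s < Nat.nth pT i + 2
      · rw [if_pos hlt] at c2
        have hmem : pT (Nat.nth pT i + 1) := by
          by_cases heq : Nat.nth pT i + 1 = s
          · rw [heq]; exact Set.mem_insert _ _
          · exact Set.mem_insert_of_mem _ (hcS _ (by omega))
        have c3 : Nat.count pT (Nat.nth pT i + 1 + 1) = Nat.count pT (Nat.nth pT i + 1) + 1 := by
          rw [Nat.count_succ, if_pos hmem]
        have e : Nat.nth pT i + 1 + 1 = Nat.nth pT i + 2 := by omega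
        rw [e] at c3
        omega
      · rw [if_neg hlt] at c2
        have c3 : Nat.count pT (Nat.nth pT i + 1) ≤ Nat.count pT (Nat.nth pT i + 2) :=
          Nat.count_monotone pT (by omega)
        omega
    have := (Nat.lt_nth_iff_count_lt hSinf).mp key
    omega

end Groth.Agent.S15036
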