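import Groth.Statements.S15037
import Mathlib

set_option autoImplicit false
open TFCurv

namespace Groth.Agent.S15037

private lemma facts (S : Set ℕ) (cS : ℕ) (hcS : ∀ n : ℕ, cS ≤ n → n ∈ S)
    (hcS1 : cS = 0 ∨ cS - 1 ∉ S) :
    (∀ i, (S ∩ Set.Iio cS).ncard ≤ i → Nat.nth (fun m => m ∈ S) i = i + Sᶜ.ncard) ∧
    (∀ i, i < (S ∩ Set.Iio cS).ncard → Nat.nth (fun m => m ∈ S) i + 1 ≤ i + Sᶜ.ncard) := by
  classical
  set p : ℕ → Prop := fun m => m ∈ S with hp
  have hinf : (Set.ofPred p).Infinite := by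
    apply Set.infinite_of_forall_exists_gt
    intro a
    exact ⟨max a cS + 1, hcS _ (by omega), by omega⟩
  have hr : (S ∩ Set.Iio cS).ncard = Nat.count p cS := by
    rw [Nat.count_eq_card_filter_range, ← Set.ncard_coe_finset]
    congr 1
    ext x
    rw [Finset.mem_coe, Finset.mem_filter, Finset.mem_range, Set.mem_inter_iff, Set.mem_Iio]
    exact and_comm
  have hcompl : ∀ m, Nat.count p m + Nat.count (fun k => ¬ p k) m = m := by
    intro m
    induction m with
    | zero => simp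
    | succ m ih =>
      rw [Nat.count_succ, Nat.count_succ]
      by_cases h : p m
      · rw [if_pos h, if_neg (not_not.mpr h)]; omega
      · rw [if_neg h, if_pos h]; omega
  have hδ : Sᶜ.ncard = Nat.count (fun k => ¬ p k) cS := by
    rw [Nat.count_eq_card_filter_range, ← Set.ncard_coe_finset]
    congr 1
    ext x
    rw [Finset.mem_coe, Finset.mem_filter, Finset.mem_range, Set.mem_compl_iff]
    constructor
    · intro hx
      refine ⟨?_, hx⟩
      by_contra hge; exact hx (hcS x (by omega))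
    · exact fun h => h.2
  rw [hr, hδ]
  constructor
  · intro i hi
    have hm : p (cS + (i - Nat.count p cS)) := hcS _ (by omega)
    have hcnt : Nat.count p (cS + (i - Nat.count p cS)) = i := by
      rw [Nat.count_add]
      have : Nat.count (fun k => p (cS + k)) (i - Nat.count p cS) = i - Nat.count p cS := by
        apply Nat.count_of_forall
        intro k _
        exact hcS _ (by omega)
      rw [this]; omega
    have h1 := Nat.nth_count hm
    rw [hcnt] at h1
    rw [h1]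
    have := hcompl cS
    omega
  · intro i hi
    have hlt : Nat.nth p i < cS := (Nat.lt_nth_iff_count_lt hinf).mp hi
    have hmem : p (Nat.nth p i) := Nat.nth_mem_of_infinite hinf i
    have hci : Nat.count p (Nat.nth p i) = i := Nat.count_nth_of_infinite hinf i
    have hc0 : cS ≠ 0 := by omega
    have hgap : cS - 1 ∉ S := hcS1.resolve_left hc0
    have hne : Nat.nth p i ≠ cS - 1 := by
      intro h; rw [h] at hmem; exact hgap hmem
    have h1 := hcompl (Nat.nth p i)
    have h2 : Nat.count (fun k => ¬ p k) (Nat.nth p i) ≤ Nat.count (fun k => ¬ p k) (cS - 1) :=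
      Nat.count_monotone _ (by omega)
    have h3 : Nat.count (fun k => ¬ p k) (cS - 1 + 1) =
        Nat.count (fun k => ¬ p k) (cS - 1) + 1 := by
      rw [Nat.count_succ, if_pos hgap]
    have h4 : cS - 1 + 1 = cS := by omega
    rw [h4] at h3
    omega


/-- Let Γ be a numerical semigroup (a submonoid of (ℕ, +) with finite complement), Γ ≠ ℕ, with conductor
c (every n ≥ c lies in Γ, c − 1 does not); let S and S' ⊆ ℕ be Γ-modules in normal form with
conductors c(S), c(S'), let δ(S), δ(S') be their numbers of gaps and r(S), r(S') their numbers of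
elements below the conductor, and enumerate them increasingly as s_i, s'_i (i ≥ 0). With τ_i(S) =
s_i + ℓ(S) and ℓ(S) = δ(Γ) − δ(S), the termwise order τ(S) ≤ τ(S') reads s_i + δ(S') ≤ s'_i + δ(S)
for all i. It holds if and only if r(S') ≤ r(S) and s_i + δ(S') ≤ s'_i + δ(S) for all i < r(S')
(beyond r(S) the entries τ_i(S) = i + δ(Γ) are the largest possible). -/
theorem result (Γ : AddSubmonoid ℕ) (c : ℕ) (hc : ∀ n : ℕ, c ≤ n → n ∈ Γ) (hc0 : c ≠ 0) (hc1 : c - 1 ∉ Γ) (S : Set ℕ) (hS0 : (0 : ℕ) ∈ S) (hS : ∀ γ : ℕ, γ ∈ Γ → ∀ s : ℕ, s ∈ S → γ + s ∈ S) (cS : ℕ) (hcS : ∀ n : ℕ, cS ≤ n → n ∈ S) (hcS1 : cS = 0 ∨ cS - 1 ∉ S) (S' : Set ℕ) (hS'0 : (0 : ℕ) ∈ S') (hS' : ∀ γ : ℕ, γ ∈ Γ → ∀ s : ℕ, s ∈ S' → γ + s ∈ S') (cS' : ℕ) (hcS' : ∀ n : ℕ, cS' ≤ n → n ∈ S') (hcS'1 : cS' = 0 ∨ cS' - 1 ∉ S') : (∀ i : ℕ, Nat.nth (fun m => m ∈ S) i + S'ᶜ.ncard ≤ Nat.nth (fun m => m ∈ S') i + Sᶜ.ncard) ↔ ((S' ∩ Set.Iio cS').ncard ≤ (S ∩ Set.Iio cS).ncard ∧ ∀ i : ℕ, i < (S'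 ∩ Set.Iio cS').ncard → Nat.nth (fun m => m ∈ S) i + S'ᶜ.ncard ≤ Nat.nth (fun m => m ∈ S') i + Sᶜ.ncard) := by
  classical
  obtain ⟨hS2, hS3⟩ := facts S cS hcS hcS1
  obtain ⟨hS'2, hS'3⟩ := facts S' cS' hcS' hcS'1
  have hS1 : ∀ i, Nat.nth (fun m => m ∈ S) i ≤ i + Sᶜ.ncard := by
    intro i
    rcases Nat.lt_or_ge i (S ∩ Set.Iio cS).ncard with h | h
    · have := hS3 i h; omega
    · rw [hS2 i h]
  constructor
  · intro hall
    refine ⟨?_, fun i _ => hall i⟩
    by_contra hlt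
    push_neg at hlt
    have a1 := hS2 _ (le_refl _)
    have a2 := hS'3 _ hlt
    have a3 := hall (S ∩ Set.Iio cS).ncard
    omega
  · rintro ⟨hr, hlow⟩ i
    rcases Nat.lt_or_ge i (S' ∩ Set.Iio cS').ncard with h | h
    · exact hlow i h
    · rw [hS'2 i h]
      have := hS1 i
      omega

end Groth.Agent.S15037
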