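import Groth.Statements.S15038
import Mathlib

set_option autoImplicit false
open TFCurv

namespace Groth.Agent.S15038

/-- Let Γ be a numerical semigroup (a submonoid of (ℕ, +) with finite complement), Γ ≠ ℕ, with conductor
c (every n ≥ c lies in Γ, c − 1 does not). If Γ is symmetric (for x < c, x is a gap exactly when c −
1 − x ∈ Γ) and its multiplicity e, the least nonzero element of Γ, is greater than 2, then Γ is
generated as an additive monoid by at most e − 1 elements. -/
theorem result (Γ : AddSubmonoid ℕ) (c : ℕ) (hc : ∀ n : ℕ, c ≤ n → n ∈ Γ) (hc0 : c ≠ 0) (hc1 : c - 1 ∉ Γ) (hsymm : ∀ x : ℕ, x < c → (x ∉ Γ ↔ c - 1 - x ∈ Γ)) (e : ℕ) (he : e ∈ Γ) (he0 : e ≠ 0) (hemin : ∀ γ : ℕ, γ ∈ Γ → γ ≠ 0 → e ≤ γ) (he2 : 2 < e) : ∃ G : Finset ℕ, G.card ≤ e - 1 ∧ AddSubmonoid.closure (↑G : Set ℕ) = Γ := by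
  classical
  have h1n : (1 : ℕ) ∉ Γ := fun h => by have := hemin 1 h (by norm_num); omega
  have h2n : (2 : ℕ) ∉ Γ := fun h => by have := hemin 2 h (by norm_num); omega
  have hc2 : 3 ≤ c := by
    rcases Nat.lt_or_ge c 3 with h | h
    · exfalso
      interval_cases c
      · exact hc0 rfl
      · exact hc1 Γ.zero_mem
      · exact h2n (hc 2 (le_refl 2))
    · exact h
  have h1 : c - 2 ∈ Γ := by
    have := (hsymm 1 (by omega)).mp h1n
    have e1 : c - 1 - 1 = c - 2 := by omega
    rwa [e1] at this
  have h2 : c - 3 ∈ Γ := by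
    have := (hsymm 2 (by omega)).mp h2n
    have e1 : c - 1 - 2 = c - 3 := by omega
    rwa [e1] at this
  have hex2 : ∃ a, a ∈ Γ ∧ ¬ e ∣ a := by
    by_cases hdiv : e ∣ c
    · refine ⟨c + 1, hc _ (by omega), ?_⟩
      intro hdiv2
      have : e ∣ 1 := (Nat.dvd_add_right hdiv).mp hdiv2
      have := Nat.le_of_dvd (by norm_num) this
      omega
    · exact ⟨c, hc c (le_refl c), hdiv⟩
  obtain ⟨a₀, ⟨ha₀Γ, ha₀div⟩, ha₀min⟩ :
      ∃ a₀, (a₀ ∈ Γ ∧ ¬ e ∣ a₀) ∧ ∀ m, m ∈ Γ → m < a₀ → e ∣ m := by
    refine ⟨Nat.find hex2, Nat.find_spec hex2, ?_⟩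
    intro m hm hlt
    have := Nat.find_min hex2 hlt
    push_neg at this
    exact this hm
  have ha₀0 : a₀ ≠ 0 := by rintro h; rw [h] at ha₀div; exact ha₀div (dvd_zero e)
  have ha₀e : e < a₀ := by
    have h3 := hemin a₀ ha₀Γ ha₀0
    rcases Nat.lt_or_eq_of_le h3 with h | h
    · exact h
    · exfalso; rw [← h] at ha₀div; exact ha₀div (dvd_refl e)
  have ha₀sub : a₀ - e ∉ Γ := by
    intro hmem
    have h3 := ha₀min _ hmem (by omega)
    apply ha₀div
    have : a₀ = (a₀ - e) + e := by omega
    rw [this]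
    exact Nat.dvd_add h3 (dvd_refl e)
  have ha₀c : a₀ < c := by
    by_contra hle
    push_neg at hle
    have d1 := ha₀min _ h1 (by omega)
    have d2 := ha₀min _ h2 (by omega)
    have : c - 2 = (c - 3) + 1 := by omega
    rw [this] at d1
    have : e ∣ 1 := (Nat.dvd_add_right d2).mp d1
    have := Nat.le_of_dvd (by norm_num) this
    omega
  -- Apéry set
  obtain ⟨Ap, hAp⟩ : ∃ Ap : Finset ℕ, Ap =
      (Finset.range (c + e)).filter (fun a => a ∈ Γ ∧ e ≤ a ∧ a - e ∉ Γ) := ⟨_, rfl⟩
  have hmemAp : ∀ a, a ∈ Ap ↔ (a ∈ Γ ∧ e ≤ a ∧ a - e ∉ Γ) := by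
    intro a
    rw [hAp, Finset.mem_filter, Finset.mem_range]
    constructor
    · exact fun h => h.2
    · intro h
      refine ⟨?_, h⟩
      by_contra hge
      push_neg at hge
      exact h.2.2 (hc _ (by omega))
  have hcard : Ap.card ≤ e - 1 := by
    have hmaps : ∀ a ∈ Ap, a % e ∈ (Finset.range e).erase 0 := by
      intro a ha
      rw [hmemAp] at ha
      rw [Finset.mem_erase, Finset.mem_range]
      refine ⟨?_, Nat.mod_lt _ (by omega)⟩
      intro hmod
      have hdvd : e ∣ a := Nat.dvd_of_mod_eq_zero hmod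
      obtain ⟨k, hk⟩ := hdvd
      apply ha.2.2
      have hk1 : 1 ≤ k := by
        rcases Nat.eq_zero_or_pos k with h | h
        · rw [h, mul_zero] at hk; omega
        · exact h
      have hke : k * e = a := by rw [mul_comm]; exact hk.symm
      have : a - e = (k - 1) • e := by
        rw [smul_eq_mul, Nat.sub_mul, one_mul]; omega
      rw [this]; exact Γ.nsmul_mem he _
    have key : ∀ a a', a ∈ Ap → a' ∈ Ap → a % e = a' % e → a < a' → False := by
      intro a a' ha ha' hmod hlt
      rw [hmemAp] at ha ha'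
      apply ha'.2.2
      have hdvd : e ∣ a' - a := (Nat.modEq_iff_dvd' hlt.le).mp hmod
      obtain ⟨k, hk⟩ := hdvd
      have hk1 : 1 ≤ k := by
        rcases Nat.eq_zero_or_pos k with h | h
        · rw [h, mul_zero] at hk; omega
        · exact h
      have hke : k * e = a' - a := by rw [mul_comm]; exact hk.symm
      have hke' : e ≤ k * e := Nat.le_mul_of_pos_left e hk1
      have : a' - e = a + (k - 1) • e := by
        rw [smul_eq_mul, Nat.sub_mul, one_mul]; omega
      rw [this]; exact Γ.add_mem ha.1 (Γ.nsmul_mem he _)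
    have hinj : Set.InjOn (fun a => a % e) (Ap : Set ℕ) := by
      intro a ha a' ha' hmod
      rcases Nat.lt_trichotomy a a' with h | h | h
      · exact (key a a' ha ha' hmod h).elim
      · exact h
      · exact (key a' a ha' ha hmod.symm h).elim
    calc Ap.card ≤ ((Finset.range e).erase 0).card := Finset.card_le_card_of_injOn _ hmaps hinj
      _ = e - 1 := by
          rw [Finset.card_erase_of_mem (Finset.mem_range.mpr (by omega)), Finset.card_range]
  have hFmem : c - 1 + e ∈ Ap := by
    rw [hmemAp]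
    refine ⟨hc _ (by omega), by omega, ?_⟩
    have : c - 1 + e - e = c - 1 := by omega
    rw [this]; exact hc1
  refine ⟨insert e (Ap.erase (c - 1 + e)), ?_, ?_⟩
  · have hpos : 0 < Ap.card := Finset.card_pos.mpr ⟨_, hFmem⟩
    calc (insert e (Ap.erase (c - 1 + e))).card ≤ (Ap.erase (c - 1 + e)).card + 1 :=
          Finset.card_insert_le _ _
      _ = Ap.card - 1 + 1 := by rw [Finset.card_erase_of_mem hFmem]
      _ ≤ e - 1 := by omega
  · apply le_antisymm
    · rw [AddSubmonoid.closure_le]
      intro g hg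
      rcases Finset.mem_insert.mp (Finset.mem_coe.mp hg) with h | h
      · rw [h]; exact he
      · exact ((hmemAp g).mp (Finset.mem_of_mem_erase h)).1
    · intro n hn
      induction n using Nat.strong_induction_on with
      | _ n ih =>
        rcases Nat.eq_zero_or_pos n with h0 | hpos
        · rw [h0]; exact AddSubmonoid.zero_mem _
        · have hen : e ≤ n := hemin n hn (by omega)
          by_cases hsub : n - e ∈ Γ
          · have : n = (n - e) + e := by omega
            rw [this]
            exact AddSubmonoid.add_mem _ (ih _ (by omega) hsub)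
              (AddSubmonoid.subset_closure (Finset.mem_coe.mpr (Finset.mem_insert_self _ _)))
          · by_cases hF : n = c - 1 + e
            · have hmem : n - a₀ ∈ Γ := by
                have := (hsymm _ (by omega)).mp ha₀sub
                have e1 : c - 1 - (a₀ - e) = n - a₀ := by omega
                rwa [e1] at this
              have : n = a₀ + (n - a₀) := by omega
              rw [this]
              exact AddSubmonoid.add_mem _ (ih _ (by omega) ha₀Γ) (ih _ (by omega) hmem)
            · apply AddSubmonoid.subset_closure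
              exact Finset.mem_coe.mpr (Finset.mem_insert_of_mem
                (Finset.mem_erase.mpr ⟨hF, (hmemAp n).mpr ⟨hn, hen, hsub⟩⟩))

end Groth.Agent.S15038
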