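import Groth.Statements.S15047
import Mathlib

set_option autoImplicit false
universe u
open TensorProduct
open Desc

namespace Groth.Agent.S15047

section Desc

open TensorProduct

variable (A B N : Type*) [CommRing A] [CommRing B] [Algebra A B] [AddCommGroup N] [Module A N]

/-- `b ⊗ n ↦ (b ⊗ 1 - 1 ⊗ b) ⊗ n` -/
noncomputable def dMap : B ⊗[A] N →ₗ[A] (B ⊗[A] B) ⊗[A] N :=
  LinearMap.rTensor N ((Algebra.TensorProduct.includeLeft : B →ₐ[A] B ⊗[A] B).toLinearMap -
    (Algebra.TensorProduct.includeRight : B →ₐ[A] B ⊗[A] B).toLinearMap)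

/-- `b ⊗ (b' ⊗ n) ↦ b b' ⊗ n` -/
noncomputable def mu12 : B ⊗[A] (B ⊗[A] N) →ₗ[A] B ⊗[A] N :=
  (LinearMap.rTensor N (LinearMap.mul' A B)).comp (TensorProduct.assoc A B B N).symm.toLinearMap

/-- `b ⊗ ((b₁ ⊗ b₂) ⊗ n) ↦ b b₁ ⊗ (b₂ ⊗ n)` -/
noncomputable def sMap : B ⊗[A] ((B ⊗[A] B) ⊗[A] N) →ₗ[A] B ⊗[A] (B ⊗[A] N) :=
  ((LinearMap.rTensor (B ⊗[A] N) (LinearMap.mul' A B)).comp
    (TensorProduct.assoc A B B (B ⊗[A] N)).symm.toLinearMap).comp
      (LinearMap.lTensor B (TensorProduct.assoc A B B N).toLinearMap)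

theorem dMap_tmul (b : B) (n : N) :
    dMap A B N (b ⊗ₜ n) = (b ⊗ₜ[A] (1 : B)) ⊗ₜ[A] n - ((1 : B) ⊗ₜ[A] b) ⊗ₜ[A] n := by
  simp [dMap, TensorProduct.sub_tmul]

theorem mu12_tmul (b b' : B) (n : N) : mu12 A B N (b ⊗ₜ (b' ⊗ₜ n)) = (b * b') ⊗ₜ n := by
  simp [mu12]

theorem sMap_tmul (b b₁ b₂ : B) (n : N) :
    sMap A B N (b ⊗ₜ ((b₁ ⊗ₜ b₂) ⊗ₜ n)) = (b * b₁) ⊗ₜ (b₂ ⊗ₜ n) := by
  simp [sMap]

theorem homotopy (y : B ⊗[A] (B ⊗[A] N)) :
    sMap A B N ((dMap A B N).lTensor B y) =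
      (TensorProduct.mk A B N 1).lTensor B (mu12 A B N y) - y := by
  induction y using TensorProduct.induction_on with
  | zero => simp
  | add y₁ y₂ h₁ h₂ => simp only [map_add, h₁, h₂]; abel
  | tmul b z =>
    induction z using TensorProduct.induction_on with
    | zero => simp
    | add z₁ z₂ h₁ h₂ => simp only [TensorProduct.tmul_add, map_add, h₁, h₂]; abel
    | tmul b' n =>
      rw [LinearMap.lTensor_tmul, dMap_tmul, TensorProduct.tmul_sub, map_sub, sMap_tmul,
        sMap_tmul, mu12_tmul, LinearMap.lTensor_tmul, TensorProduct.mk_apply, mul_one]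

theorem descent_exact [Module.FaithfullyFlat A B] :
    Function.Exact (TensorProduct.mk A B N 1) (dMap A B N) := by
  apply Module.FaithfullyFlat.lTensor_reflects_exact A B
  intro y
  constructor
  · intro hy
    refine ⟨mu12 A B N y, ?_⟩
    have := homotopy A B N y
    rw [hy, map_zero] at this
    exact (sub_eq_zero.mp this.symm)
  · rintro ⟨x, rfl⟩
    induction x using TensorProduct.induction_on with
    | zero => simp
    | add x₁ x₂ h₁ h₂ => simp only [map_add, h₁, h₂, add_zero]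
    | tmul b n =>
      rw [LinearMap.lTensor_tmul, LinearMap.lTensor_tmul, TensorProduct.mk_apply, dMap_tmul,
        sub_self, TensorProduct.tmul_zero]

end Desc


/-- Let A → A' be a faithfully flat homomorphism of commutative rings and M, N any A-modules. An
A'-linear map f : A' ⊗_A M → A' ⊗_A N whose two base changes to A' ⊗_A A' (along a ↦ a ⊗ 1 and a ↦ 1
⊗ a) coincide is the base change of a unique A-linear map h : M → N. Since (A' ⊗_A A') ⊗_A M is
generated over A' ⊗_A A' by the elements 1 ⊗ m, the agreement of the two base changes is stated on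
these generators: for every m, the two images of f (1 ⊗ m) in (A' ⊗_A A') ⊗_A N agree. Equivalently,
the sequence Hom_A(M, N) → Hom_{A'}(A' ⊗ M, A' ⊗ N) ⇉ Hom_{A' ⊗ A'}(A' ⊗ A' ⊗ M, A' ⊗ A' ⊗ N) is an
equalizer diagram. -/
theorem result (A A' : Type u) [CommRing A] [CommRing A'] [Algebra A A']
    [Module.FaithfullyFlat A A'] (M N : Type u) [AddCommGroup M] [Module A M] [AddCommGroup N] [Module A N]
    (f : A' ⊗[A] M →ₗ[A'] A' ⊗[A] N)
    (hf : ∀ m : M,
      LinearMap.rTensor N (Algebra.TensorProduct.includeLeft : A' →ₐ[A] A' ⊗[A] A').toLinearMap (f (1 ⊗ₜ[A] m)) =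
        LinearMap.rTensor N (Algebra.TensorProduct.includeRight : A' →ₐ[A] A' ⊗[A] A').toLinearMap (f (1 ⊗ₜ[A] m))) :
    ∃! h : M →ₗ[A] N, h.baseChange A' = f := by
  classical
  have hex := descent_exact A A' N
  have hinj := Module.FaithfullyFlat.tensorProduct_mk_injective (A := A) (B := A') N
  have hK : ∀ m : M, ∃ n : N, TensorProduct.mk A A' N 1 n = f (1 ⊗ₜ[A] m) := by
    intro m
    have h0 : dMap A A' N (f (1 ⊗ₜ[A] m)) = 0 := by
      unfold dMap
      rw [LinearMap.rTensor_sub, LinearMap.sub_apply, hf m, sub_self]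
    exact (hex _).mp h0
  choose h₀ hh₀ using hK
  have hAlin : ∀ (a : A) (x : A' ⊗[A] M), f (a • x) = a • f x := fun a x =>
    LinearMap.map_smul_of_tower f a x
  let h : M →ₗ[A] N :=
    { toFun := h₀
      map_add' := by
        intro m m'
        apply hinj
        rw [map_add, hh₀, hh₀, hh₀, TensorProduct.tmul_add, map_add]
      map_smul' := by
        intro a m
        apply hinj
        rw [RingHom.id_apply, map_smul, hh₀, hh₀, TensorProduct.tmul_smul, hAlin] }
  have hh : ∀ m, (1 : A') ⊗ₜ[A] h m = f (1 ⊗ₜ[A] m) := fun m => hh₀ m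
  refine ⟨h, ?_, ?_⟩
  · apply TensorProduct.AlgebraTensorModule.ext
    intro b m
    rw [LinearMap.baseChange_tmul]
    have : b ⊗ₜ[A] m = b • ((1 : A') ⊗ₜ[A] m) := by
      rw [TensorProduct.smul_tmul', smul_eq_mul, mul_one]
    rw [this, map_smul, ← hh, TensorProduct.smul_tmul', smul_eq_mul, mul_one]
  · intro h' hh'
    ext m
    apply hinj
    show (1 : A') ⊗ₜ[A] h' m = (1 : A') ⊗ₜ[A] h m
    rw [hh, ← hh', LinearMap.baseChange_tmul]

end Groth.Agent.S15047
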