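import Groth.Statements.S15054
import Mathlib

set_option autoImplicit false
universe u
open CategoryTheory CategoryTheory.Limits MonoidalCategory CartesianMonoidalCategory MonObj GrpObj AlgebraicGeometry
open BTGrp

namespace Groth.Agent.S15054

section gen
variable {C : Type*} [Category C] [CartesianMonoidalCategory C]

lemma isPullback_id_of_eq_one {G : C} [MonObj G] (f : G ⟶ G) (hf : f = toUnit G ≫ η[G]) :
    IsPullback (𝟙 G) (toUnit G) f η[G] := by
  refine IsPullback.of_isLimit' ⟨by rw [Category.id_comp, hf]⟩ ?_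
  exact PullbackCone.IsLimit.mk _ (fun s => s.fst) (fun s => Category.comp_id _)
    (fun s => toUnit_unique _ _) (fun s m h1 _ => by rw [← h1, Category.comp_id])

lemma isKernel_comp {N G G' : C} [MonObj G] [MonObj G'] (i : N ⟶ G) (j : G ⟶ G') [IsMonHom j]
    (ℓ k : ℕ)
    (hj : IsPullback j (toUnit G) ((𝟙 G') ^ (ℓ * k)) η[G'])
    (hi : IsPullback i (toUnit N) ((𝟙 G) ^ ℓ) η[G]) :
    IsPullback (i ≫ j) (toUnit N) ((𝟙 G') ^ ℓ) η[G'] := by
  have hpow : ∀ {W : C} (a : W ⟶ G') (n : ℕ), a ≫ (𝟙 G') ^ n = a ^ n := fun a n => by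
    rw [MonObj.comp_pow, Category.comp_id]
  have hpowG : ∀ {W : C} (a : W ⟶ G) (n : ℕ), a ≫ (𝟙 G) ^ n = a ^ n := fun a n => by
    rw [MonObj.comp_pow, Category.comp_id]
  have hjpow : ∀ {W : C} (a : W ⟶ G) (n : ℕ), (a ^ n) ≫ j = (a ≫ j) ^ n :=
    fun a n => MonObj.pow_comp a n j
  have w : (i ≫ j) ≫ (𝟙 G') ^ ℓ = toUnit N ≫ η[G'] := by
    rw [hpow, ← hjpow, ← hpowG, hi.w, Category.assoc, IsMonHom.one_hom]
  refine IsPullback.of_isLimit' ⟨w⟩ ?_
  have key : ∀ s : PullbackCone ((𝟙 G') ^ ℓ) η[G'], ∃ l : s.pt ⟶ N, l ≫ (i ≫ j) = s.fst := by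
    intro s
    have h1 : s.fst ^ ℓ = 1 := by
      refine (hpow s.fst ℓ).symm.trans (s.condition.trans ?_)
      have e : s.snd = toUnit s.pt := toUnit_unique _ _
      rw [e]; exact Hom.one_def.symm
    have h2 : s.fst ≫ (𝟙 G') ^ (ℓ * k) = toUnit s.pt ≫ η[G'] := by
      rw [hpow, pow_mul, h1, one_pow, Hom.one_def]
    obtain ⟨a', ha', -⟩ := hj.exists_lift s.fst (toUnit _) h2
    have h3 : a' ≫ (𝟙 G) ^ ℓ = toUnit s.pt ≫ η[G] := by
      apply hj.hom_ext
      · rw [hpowG, hjpow, ha', h1, Category.assoc, IsMonHom.one_hom, Hom.one_def]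
      · exact toUnit_unique _ _
    obtain ⟨a'', ha'', -⟩ := hi.exists_lift a' (toUnit _) h3
    exact ⟨a'', by rw [← Category.assoc, ha'', ha']⟩
  refine PullbackCone.IsLimit.mk _ (fun s => (key s).choose) (fun s => (key s).choose_spec)
    (fun s => toUnit_unique _ _) (fun s m h1 _ => ?_)
  apply hi.hom_ext
  · apply hj.hom_ext
    · rw [Category.assoc, Category.assoc, h1, (key s).choose_spec]
    · exact toUnit_unique _ _
  · exact toUnit_unique _ _
end gen

/-- Let ℓ be a prime and G = (G_ν)_ν an ℓ-divisible (Barsotti–Tate) group of height h over a scheme S,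
given as the system of its finite locally free layers G_ν of order ℓ^{νh} with inclusions G_ν →
G_{ν+1} exhibiting G_ν as the ℓ^ν-torsion of G_{ν+1} and projections G_{ν+1} → G_ν (multiplication
by ℓ). Let i_t : G_1 → G_{t+1} denote the iterated inclusions, pinned by i_0 = id and i_{t+1} = i_t
followed by G_{t+1} → G_{t+2}. Then for every t, i_t identifies G_1 with the kernel of
multiplication by ℓ on G_{t+1}: the ℓ-torsion of every layer is the first layer. (The published
statement identifies G_v with the ℓ^v-torsion of G_{v+t} for all v; this row is its case v = 1. The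
published base is the spectrum of a Noetherian ring; the argument is formal and any base scheme is
allowed here.) -/
theorem result {S : Scheme.{u}} (ℓ h : ℕ) [Fact ℓ.Prime] (G : BTGrp.ProBT ℓ S h)
    (i : (t : ℕ) → (G.G 1 ⟶ G.G (t + 1))) (hi0 : i 0 = 𝟙 (G.G 1))
    (hi : ∀ t : ℕ, i (t + 1) = i t ≫ G.incl (t + 1)) (t : ℕ) :
    AlgGrp.IsKernel (i t) ((𝟙 (G.G (t + 1))) ^ ℓ) := by
  induction t with
  | zero =>
    rw [hi0]
    unfold AlgGrp.IsKernel
    apply isPullback_id_of_eq_one
    have h0 := G.isKernel 0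
    have e1 : G.incl 0 = toUnit _ ≫ η[G.G (0 + 1)] := by
      have := h0.w
      rw [pow_zero, pow_one, Category.comp_id] at this
      exact this
    rw [← G.proj_incl 0, e1, ← Category.assoc, toUnit_unique (G.proj 0 ≫ toUnit _) (toUnit _)]
  | succ t ih =>
    rw [hi t]
    exact isKernel_comp (i t) (G.incl (t + 1)) ℓ (ℓ ^ t)
      (by have := G.isKernel (t + 1); rwa [pow_succ'] at this) ih

end Groth.Agent.S15054
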