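import Groth.Statements.S15056
import Mathlib
-- import your own Groth.Agent.* helpers here

set_option autoImplicit false
universe u
open scoped TensorProduct
open FrobAlg

namespace Groth.Agent.S15056

section
open scoped TensorProduct

variable {R : Type u} [CommRing R] {A : Type u} [CommRing A] [Algebra R A]
  {K : Type u} [Field K] [Algebra R K]

/-- the `K`-algebra map `K ⊗ A → K` induced by an `R`-algebra map `A → K` -/
noncomputable def ev (φ : A →ₐ[R] K) : K ⊗[R] A →ₐ[K] K :=
  Algebra.TensorProduct.lift (AlgHom.id K K) φ (fun _ _ => Commute.all _ _)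

lemma ev_tmul (φ : A →ₐ[R] K) (k : K) (a : A) : ev φ (k ⊗ₜ a) = k * φ a := by
  simp [ev]

lemma ev_surjective (φ : A →ₐ[R] K) : Function.Surjective (ev φ) := by
  intro k
  exact ⟨k ⊗ₜ 1, by simp [ev_tmul]⟩

/-- if every element of `ker φ` satisfies `a ^ N = 0` then `K ⊗ A` is local -/
lemma isLocalRing_of_nil (ε : A →ₐ[R] R) (N : ℕ) (hN : ∀ a : A, ε a = 0 → a ^ N = 0) :
    IsLocalRing (K ⊗[R] A) := by
  set φ : A →ₐ[R] K := (Algebra.ofId R K).comp ε with hφ
  haveI : Nontrivial (K ⊗[R] A) := (ev_surjective φ).nontrivial
  -- every element of the kernel of `ev φ` is nilpotent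
  have hnil : ∀ x : K ⊗[R] A, IsNilpotent (x - algebraMap K (K ⊗[R] A) (ev φ x)) := by
    intro x
    induction x with
    | zero => simp
    | tmul k a =>
      have e : k ⊗ₜ[R] a - algebraMap K (K ⊗[R] A) (ev φ (k ⊗ₜ a))
          = k ⊗ₜ[R] (a - algebraMap R A (ε a)) := by
        have e2 : ∀ r : R, (k * algebraMap R K r) ⊗ₜ[R] (1 : A) = k ⊗ₜ[R] algebraMap R A r := by
          intro r
          rw [Algebra.algebraMap_eq_smul_one (A := A) r, TensorProduct.tmul_smul,
            TensorProduct.smul_tmul', Algebra.smul_def, mul_comm]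
        rw [ev_tmul, TensorProduct.tmul_sub, Algebra.TensorProduct.algebraMap_apply, hφ,
          AlgHom.comp_apply, Algebra.ofId_apply, Algebra.algebraMap_self, RingHom.id_apply, e2]
      rw [e]
      refine ⟨N, ?_⟩
      rw [Algebra.TensorProduct.tmul_pow, hN _ (by simp), TensorProduct.tmul_zero]
    | add x y hx hy =>
      have e : x + y - algebraMap K (K ⊗[R] A) (ev φ (x + y))
          = (x - algebraMap K (K ⊗[R] A) (ev φ x)) + (y - algebraMap K (K ⊗[R] A) (ev φ y)) := by
        rw [map_add, map_add]; ring
      rw [e]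
      exact Commute.isNilpotent_add (Commute.all _ _) hx hy
  have hunit : ∀ x : K ⊗[R] A, ev φ x ≠ 0 → IsUnit x := by
    intro x hx
    have h1 : IsUnit (algebraMap K (K ⊗[R] A) (ev φ x)) := (IsUnit.mk0 _ hx).map _
    have h2 : x = algebraMap K (K ⊗[R] A) (ev φ x) + (x - algebraMap K (K ⊗[R] A) (ev φ x)) := by
      ring
    rw [h2]
    exact (hnil x).isUnit_add_left_of_commute h1 (Commute.all _ _)
  refine IsLocalRing.of_isUnit_or_isUnit_one_sub_self (fun x => ?_)
  by_cases hx : ev φ x = 0
  · right
    apply hunit
    rw [map_sub, map_one, hx, sub_zero]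
    exact one_ne_zero
  · left
    exact hunit x hx

lemma ker_eq_of_local [IsLocalRing (K ⊗[R] A)] (φ ψ : A →ₐ[R] K) :
    RingHom.ker (ev φ) = RingHom.ker (ev ψ) := by
  haveI h1 : (RingHom.ker (ev φ)).IsMaximal := RingHom.ker_isMaximal_of_surjective _ (ev_surjective φ)
  haveI h2 : (RingHom.ker (ev ψ)).IsMaximal := RingHom.ker_isMaximal_of_surjective _ (ev_surjective ψ)
  rw [IsLocalRing.eq_maximalIdeal h1, IsLocalRing.eq_maximalIdeal h2]

theorem main (p : ℕ) [Fact p.Prime] (R : Type u) [CommRing R] [CharP R p]
    [IsNoetherianRing R] (A : Type u) [CommRing A] [HopfAlgebra R A] [Algebra.FiniteType R A] :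
    (∃ n : ℕ, ∀ a : A, Bialgebra.counitAlgHom R A a = 0 → a ^ p ^ n = 0) ↔
      (Module.Finite R A ∧ ∀ (K : Type u) [Field K] [IsAlgClosed K] [Algebra R K], IsLocalRing (K ⊗[R] A)) := by
  constructor
  · rintro ⟨n, hn⟩
    refine ⟨?_, ?_⟩
    · haveI : Algebra.IsIntegral R A := by
        constructor
        intro a
        have h1 : IsIntegral R (a - algebraMap R A (Bialgebra.counitAlgHom R A a)) :=
          ⟨Polynomial.X ^ (p ^ n), Polynomial.monic_X_pow _, by
            rw [Polynomial.eval₂_pow, Polynomial.eval₂_X]
            exact hn _ (by simp)⟩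
        have h2 : a = (a - algebraMap R A (Bialgebra.counitAlgHom R A a))
            + algebraMap R A (Bialgebra.counitAlgHom R A a) := by ring
        rw [h2]
        exact h1.add isIntegral_algebraMap
      exact Algebra.IsIntegral.finite
    · intro K _ _ _
      exact isLocalRing_of_nil (Bialgebra.counitAlgHom R A) (p ^ n) hn
  · rintro ⟨hfin, hloc⟩
    haveI : IsNoetherianRing A := Algebra.FiniteType.isNoetherianRing R A
    set I : Ideal A := RingHom.ker (Bialgebra.counitAlgHom R A) with hI
    have hIle : I ≤ (⊥ : Ideal A).radical := by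
      intro a ha
      rw [Ideal.radical_eq_sInf, Ideal.mem_sInf]
      rintro P ⟨-, hP⟩
      haveI := hP
      let φ : A →ₐ[R] AlgebraicClosure P.ResidueField :=
        (IsScalarTower.toAlgHom R P.ResidueField (AlgebraicClosure P.ResidueField)).comp
          (IsScalarTower.toAlgHom R A P.ResidueField)
      haveI := hloc (AlgebraicClosure P.ResidueField)
      have hk := ker_eq_of_local (K := AlgebraicClosure P.ResidueField) φ
        ((Algebra.ofId R _).comp (Bialgebra.counitAlgHom R A))
      have h1 : (1 : AlgebraicClosure P.ResidueField) ⊗ₜ[R] a ∈ RingHom.ker (ev φ) := by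
        rw [hk, RingHom.mem_ker, ev_tmul, AlgHom.comp_apply]
        have : Bialgebra.counitAlgHom R A a = 0 := ha
        rw [this, map_zero, mul_zero]
      rw [RingHom.mem_ker, ev_tmul, one_mul] at h1
      have h2 : algebraMap A P.ResidueField a = 0 :=
        (algebraMap P.ResidueField (AlgebraicClosure P.ResidueField)).injective
          (by rw [map_zero]; exact h1)
      exact Ideal.algebraMap_residueField_eq_zero.mp h2
    obtain ⟨N, hN⟩ := Ideal.exists_pow_le_of_le_radical_of_fg hIle (IsNoetherian.noetherian I)
    refine ⟨N, fun a ha => ?_⟩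
    have h1 : a ^ N = 0 := by
      have : a ^ N ∈ I ^ N := Ideal.pow_mem_pow ha N
      simpa using hN this
    exact pow_eq_zero_of_le (Nat.lt_pow_self (Fact.out : p.Prime).one_lt).le h1

end

/-- Let p be a prime number, R a Noetherian ring of characteristic p and A a finitely generated
commutative Hopf algebra over R (an affine algebraic R-group G = Spec A). The n-fold relative
Frobenius of G is the trivial homomorphism exactly when a^(p^n) = 0 for every a in the augmentation
ideal; G has finite Frobenius height when this holds for some n. Then G has finite Frobenius height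
if and only if A is a finite R-module and, for every algebraically closed field K and every ring
homomorphism R → K, the base change K ⊗_R A is a local ring (G is finite over R with connected
geometric fibres). -/
theorem result (p : ℕ) [Fact p.Prime] (R : Type u) [CommRing R] [CharP R p]
    [IsNoetherianRing R] (A : Type u) [CommRing A] [HopfAlgebra R A] [Algebra.FiniteType R A] :
    (∃ n : ℕ, ∀ a : A, Bialgebra.counitAlgHom R A a = 0 → a ^ p ^ n = 0) ↔
      (Module.Finite R A ∧ ∀ (K : Type u) [Field K] [IsAlgClosed K] [Algebra R K], IsLocalRing (K ⊗[R] A)) := by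
  exact Groth.Agent.S15056.main p R A

end Groth.Agent.S15056
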