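import Groth.Statements.S15057
import Mathlib
import Groth.Agent.Lib.Helper22.Amitsur1

set_option autoImplicit false
universe u
open CategoryTheory CategoryTheory.Limits
open Desc

namespace Groth.Agent.S15057

lemma hom_sum' {M N : AddCommGrpCat.{u}} {ι : Type*} (s : Finset ι) (g : ι → (M ⟶ N)) :
    (∑ i ∈ s, g i).hom = ∑ i ∈ s, (g i).hom :=
  map_sum (AddCommGrpCat.homAddEquiv (M := M) (N := N)) g s

lemma objD_apply (F : CosimplicialObject AddCommGrpCat.{u}) (n : ℕ)
    (y : F.obj (SimplexCategory.mk n)) :
    (AlgebraicTopology.AlternatingCofaceMapComplex.objD F n).hom y =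
      ∑ i : Fin (n + 2), ((-1 : ℤ) ^ (i : ℕ)) • (F.δ i).hom y := by
  rw [AlgebraicTopology.AlternatingCofaceMapComplex.objD, hom_sum', AddMonoidHom.finset_sum_apply]
  refine Finset.sum_congr rfl (fun i _ => ?_)
  rw [AddCommGrpCat.hom_zsmul, AddMonoidHom.smul_apply]

lemma K_d_eq (F : CosimplicialObject AddCommGrpCat.{u}) (n : ℕ) :
    (AlgebraicTopology.AlternatingCofaceMapComplex.obj F).d n (n + 1) =
      AlgebraicTopology.AlternatingCofaceMapComplex.objD F n := by
  unfold AlgebraicTopology.AlternatingCofaceMapComplex.obj
  exact CochainComplex.of_d (fun n => F.obj (SimplexCategory.mk n))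
    (AlgebraicTopology.AlternatingCofaceMapComplex.objD F) n

noncomputable abbrev FF (R A : Type u) [CommRing R] [CommRing A] [Algebra R A] :
    CosimplicialObject AddCommGrpCat.{u} :=
  (Arrow.mk (CommRingCat.ofHom (algebraMap R A))).cechConerve ⋙ forget₂ CommRingCat RingCat ⋙
        forget₂ RingCat AddCommGrpCat

open Groth.Agent.Helper22.Amitsur in
lemma K_d (R A : Type u) [CommRing R] [CommRing A] [Algebra R A] (n : ℕ) (y : Cn R A n) :
    ((AlgebraicTopology.AlternatingCofaceMapComplex.obj (FF R A)).d n (n + 1)).hom y =
      dl R A n y := by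
  refine (congrArg (fun f => (AddCommGrpCat.Hom.hom f) y) (K_d_eq (FF R A) n)).trans ?_
  refine (objD_apply (FF R A) n y).trans ?_
  rw [dl, LinearMap.sum_apply]
  refine Finset.sum_congr rfl (fun i _ => ?_)
  rw [LinearMap.smul_apply]
  rfl

/-- Let R → A be a faithfully flat homomorphism of commutative rings. The Amitsur complex A → A ⊗_R A →
A ⊗_R A ⊗_R A → ⋯, whose differential is the alternating sum of the maps inserting a unit in each
tensor slot, is realised here as the alternating coface complex (of underlying abelian groups) of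
the Čech conerve of R → A in the category of commutative rings, whose degree-n term is the
(n+1)-fold coproduct of A under R, i.e. the (n+1)-fold tensor power over R. Then this complex is
exact in every degree n ≥ 1. (Exactness at the start, namely that R → A is injective with image the
equaliser of the two maps A → A ⊗_R A, is the degree-0 statement and is not part of this row.) -/
theorem result (R A : Type u) [CommRing R] [CommRing A] [Algebra R A] [Module.FaithfullyFlat R A]
    (n : ℕ) (hn : 0 < n) :
    (AlgebraicTopology.AlternatingCofaceMapComplex.obj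
      ((Arrow.mk (CommRingCat.ofHom (algebraMap R A))).cechConerve ⋙ forget₂ CommRingCat RingCat ⋙
        forget₂ RingCat AddCommGrpCat)).ExactAt n := by
  open Groth.Agent.Helper22.Amitsur in
  obtain ⟨m, rfl⟩ : ∃ m, n = m + 1 := ⟨n - 1, by omega⟩
  change (AlgebraicTopology.AlternatingCofaceMapComplex.obj (FF R A)).ExactAt (m + 1)
  rw [HomologicalComplex.exactAt_iff' _ m (m + 1) (m + 2) (CochainComplex.prev_nat_succ m)
    (CochainComplex.next ℕ (m + 1)), ShortComplex.ab_exact_iff]
  intro x hx
  have hd2 : ∀ y, dl R A (m + 1) (dl R A m y) = 0 := by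
    intro y
    rw [← K_d, ← K_d]
    exact congrArg (fun f => (AddCommGrpCat.Hom.hom f) y)
      (HomologicalComplex.d_comp_d (AlgebraicTopology.AlternatingCofaceMapComplex.obj (FF R A))
        m (m + 1) (m + 2))
  have hex := exact_dl R A m hd2
  have hx' : dl R A (m + 1) x = 0 := by
    rw [← K_d]; exact hx
  obtain ⟨y, hy⟩ := (hex x).1 hx'
  refine ⟨y, ?_⟩
  rw [← K_d] at hy
  exact hy

end Groth.Agent.S15057
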