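import Groth.Statements.S15064
import Groth.Agent.Lib.Helper6.FrobImage
import Groth.Agent.Lib.Helper6.DualPrim
import Groth.Agent.Lib.Helper6.HopfIdealSpan
import Groth.Agent.Lib.Helper6.PowSpan

set_option autoImplicit false
universe u
open scoped TensorProduct
open Hopf

namespace Groth.Agent.S15064

/-- Let k be a field of characteristic p > 0 and A a finite-dimensional commutative and cocommutative
Hopf algebra over k (a finite commutative k-group G = Spec A) which is bi-infinitesimal — A is a
local ring and so is the dual algebra Hom_k(A, k) with the convolution product (G and its Cartier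
dual are connected) — with dim_k A > 1, and assume G is simple: every Hopf ideal of A is either zero
or the augmentation ideal (G has no closed subgroup schemes other than G and 1). Then G is
isomorphic to α_p: A has a primitive element x (Δ(x) = x ⊗ 1 + 1 ⊗ x) with x^p = 0 whose powers 1,
x, …, x^(p−1) are linearly independent over k, and dim_k A = p (so A = k[x]/(x^p) with x primitive). -/
theorem result (k : Type u) [Field k] (p : ℕ) [Fact p.Prime] [CharP k p]
    (A : Type u) [CommRing A] [HopfAlgebra k A] [Coalgebra.IsCocomm k A] [FiniteDimensional k A] [IsLocalRing A]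
    (hdual : IsLocalRing (WithConv (A →ₗ[k] k))) (hA : 1 < Module.finrank k A)
    (hsimple : ∀ I : Ideal A, I.IsHopfIdeal k → I = ⊥ ∨ I = RingHom.ker (Bialgebra.counitAlgHom k A)) :
    ∃ x : A, Coalgebra.comul x = x ⊗ₜ[k] (1 : A) + (1 : A) ⊗ₜ[k] x ∧ x ^ p = 0 ∧
      LinearIndependent k (fun i : Fin p => x ^ (i : ℕ)) ∧ Module.finrank k A = p := by
  classical
  set I := RingHom.ker (Bialgebra.counitAlgHom k A) with hI
  -- the Frobenius ideal vanishes
  have hF : Groth.Agent.Lib.Helper6.FrobKer.frobIdeal k p A = ⊥ := by
    rcases hsimple _ (Groth.Agent.Lib.Helper6.FrobKer.isHopfIdeal_frobIdeal k p (A := A)) with h | h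
    · exact h
    · exfalso
      have h1 : I ^ 2 = I := by
        apply le_antisymm (Ideal.pow_le_self two_ne_zero)
        have := Groth.Agent.Lib.Helper6.FrobKer.frobIdeal_le_sq k p (A := A)
        rw [h] at this
        exact this
      have := Groth.Agent.Lib.Helper6.FrobImage.finrank_eq_one_of_augIdeal_sq k A h1
      omega
  have hpow : ∀ f : A, Bialgebra.counitAlgHom k A f = 0 → f ^ p = 0 := by
    intro f hf
    have := Groth.Agent.Lib.Helper6.FrobKer.pow_mem_frobIdeal k p f hf
    rw [hF] at this
    exact this
  -- the order is a power of p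
  obtain ⟨y, -, hli, hsp⟩ := Groth.Agent.Lib.Helper6.HtOneField.exists_gens (k := k) p (A := A) hpow
  have hfr : Module.finrank k A =
      p ^ Module.finrank k (RingHom.ker (Bialgebra.counitAlgHom k A)).Cotangent := by
    let b := Module.Basis.mk hli hsp
    rw [Module.finrank_eq_card_basis b, Fintype.card_fun, Fintype.card_fin, Fintype.card_fin]
  have hd : Module.finrank k (RingHom.ker (Bialgebra.counitAlgHom k A)).Cotangent ≠ 0 := by
    intro h0
    rw [h0, pow_zero] at hfr
    omega
  have hple : p ≤ Module.finrank k A := by
    rw [hfr]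
    calc p = p ^ 1 := (pow_one p).symm
      _ ≤ _ := Nat.pow_le_pow_right (Fact.out : p.Prime).pos (Nat.one_le_iff_ne_zero.2 hd)
  -- a nonzero primitive element
  obtain ⟨x, hx0, hx⟩ := Groth.Agent.Lib.Helper6.DualPrim.exists_primitive k A hdual hA
  have hxI : Ideal.span ({x} : Set A) = I := by
    rcases hsimple _ (Groth.Agent.Lib.Helper6.HopfIdealSpan.isHopfIdeal_span_primitive x hx) with h | h
    · exfalso
      apply hx0
      have : x ∈ Ideal.span ({x} : Set A) := Ideal.subset_span rfl
      rw [h] at this
      exact this
    · exact h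
  have hxε : Bialgebra.counitAlgHom k A x = 0 :=
    Groth.Agent.Lib.Helper6.HopfIdealSpan.counit_eq_zero_of_primitive x hx
  have hxp : x ^ p = 0 := hpow x hxε
  have hsp2 := Groth.Agent.Lib.Helper6.PowSpan.top_le_span_pow (Bialgebra.counitAlgHom k A) x p hxp hxI.symm
  have hle := Groth.Agent.Lib.Helper6.PowSpan.finrank_le (Bialgebra.counitAlgHom k A) x p hxp hxI.symm
  have hfin : Module.finrank k A = p := le_antisymm hle hple
  refine ⟨x, hx, hxp, ?_, hfin⟩
  apply linearIndependent_of_top_le_span_of_card_eq_finrank hsp2
  rw [Fintype.card_fin, hfin]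

end Groth.Agent.S15064
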