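import Groth.Statements.S15066
import Groth.Agent.Lib.Helper6.DualGroupLike
import Groth.Agent.Lib.Helper6.HopfIdealSpan
import Groth.Agent.Lib.Helper6.PowSpan

set_option autoImplicit false
universe u
open Hopf

namespace Groth.Agent.S15066

/-- Let k be an algebraically closed field of characteristic p > 0 and A a finite-dimensional
commutative and cocommutative Hopf algebra over k (a finite commutative k-group G = Spec A) which is
a local ring (G connected) and whose dual algebra Hom_k(A, k) with the convolution product is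
reduced (the Cartier dual of G is étale, i.e. G is multiplicative), with dim_k A > 1, and assume G
is simple: every Hopf ideal of A is either zero or the augmentation ideal (no closed subgroup
schemes other than G and 1). Then G is isomorphic to μ_p: A has a group-like element g (Δ(g) = g ⊗
g, ε(g) = 1) with g^p = 1 whose powers 1, g, …, g^(p−1) are linearly independent over k, and dim_k A
= p (so A = k[g]/(g^p − 1)). -/
theorem result (k : Type u) [Field k] [IsAlgClosed k] (p : ℕ) [Fact p.Prime]
    [CharP k p] (A : Type u) [CommRing A] [HopfAlgebra k A] [Coalgebra.IsCocomm k A] [FiniteDimensional k A]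
    [IsLocalRing A] (hdual : IsReduced (WithConv (A →ₗ[k] k))) (hA : 1 < Module.finrank k A)
    (hsimple : ∀ I : Ideal A, I.IsHopfIdeal k → I = ⊥ ∨ I = RingHom.ker (Bialgebra.counitAlgHom k A)) :
    ∃ g : A, IsGroupLikeElem k g ∧ g ^ p = 1 ∧ LinearIndependent k (fun i : Fin p => g ^ (i : ℕ)) ∧
      Module.finrank k A = p := by
  classical
  set I := RingHom.ker (Bialgebra.counitAlgHom k A) with hI
  haveI : IsArtinianRing A := IsArtinianRing.of_finite k A
  haveI : CharP A p := charP_of_injective_algebraMap (algebraMap k A).injective p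
  obtain ⟨g, hg1, hg⟩ := Groth.Agent.Lib.Helper6.DualGroupLike.exists_groupLike_ne_one k A hdual hA
  have hIne : I ≠ ⊤ := by
    intro htop
    have h1 : (1 : A) ∈ I := by rw [htop]; exact Submodule.mem_top
    rw [hI, RingHom.mem_ker, map_one] at h1
    exact one_ne_zero h1
  -- `g - 1` is nilpotent
  have hgI : g - 1 ∈ I := by
    rw [hI, RingHom.mem_ker, map_sub, map_one]
    show Coalgebra.counit (R := k) g - 1 = 0
    rw [hg.counit_eq_one, sub_self]
  have hnil : IsNilpotent (g - 1) := by
    rw [Ring.KrullDimLE.isNilpotent_iff_mem_maximalIdeal]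
    exact IsLocalRing.le_maximalIdeal hIne hgI
  obtain ⟨n, hn⟩ := hnil
  have hex : ∃ N : ℕ, g ^ (p ^ N) = 1 := by
    refine ⟨n, ?_⟩
    have hle : n ≤ p ^ n := (Nat.lt_pow_self (Fact.out : p.Prime).one_lt).le
    have h0 : (g - 1) ^ (p ^ n) = 0 := pow_eq_zero_of_le hle hn
    rw [sub_pow_char_pow, one_pow, sub_eq_zero] at h0
    exact h0
  set N := Nat.find hex with hN
  have hNspec : g ^ (p ^ N) = 1 := Nat.find_spec hex
  have hN0 : N ≠ 0 := by
    intro h0
    rw [h0, pow_zero, pow_one] at hNspec
    exact hg1 hNspec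
  obtain ⟨M, hM⟩ := Nat.exists_eq_succ_of_ne_zero hN0
  set h := g ^ (p ^ M) with hh
  have hh1 : h ≠ 1 := by
    intro h1
    have : M < N := by omega
    exact Nat.find_min hex this h1
  have hhp : h ^ p = 1 := by
    rw [hh, ← pow_mul, ← pow_succ, ← Nat.succ_eq_add_one, ← hM]
    exact hNspec
  have hhg : IsGroupLikeElem k h := hg.pow
  -- the Hopf ideal generated by `h - 1`
  have hxI : Ideal.span ({h - 1} : Set A) = I := by
    rcases hsimple _ (Groth.Agent.Lib.Helper6.HopfIdealSpan.isHopfIdeal_span_groupLike_sub_one h hhg)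
      with h2 | h2
    · exfalso
      apply hh1
      have : h - 1 ∈ Ideal.span ({h - 1} : Set A) := Ideal.subset_span rfl
      rw [h2] at this
      exact sub_eq_zero.1 this
    · exact h2
  have hxp : (h - 1) ^ p = 0 := by
    rw [sub_pow_char, one_pow, hhp, sub_self]
  have hle := Groth.Agent.Lib.Helper6.PowSpan.finrank_le (Bialgebra.counitAlgHom k A) (h - 1) p hxp
    hxI.symm
  -- independence of the powers of `h`
  have hord : orderOf h = p := orderOf_eq_prime hhp hh1
  have hinj : Function.Injective (fun i : Fin p => (⟨h ^ (i : ℕ), hhg.pow⟩ : GroupLike k A)) := by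
    intro i j hij
    have h3 : h ^ (i : ℕ) = h ^ (j : ℕ) := congrArg GroupLike.val hij
    have hi : (i : ℕ) ∈ Set.Iio (orderOf h) := by rw [hord]; exact i.2
    have hj : (j : ℕ) ∈ Set.Iio (orderOf h) := by rw [hord]; exact j.2
    exact Fin.ext (pow_injOn_Iio_orderOf hi hj h3)
  have hli : LinearIndependent k (fun i : Fin p => h ^ (i : ℕ)) :=
    (linearIndep_groupLikeVal (R := k) (A := A)).comp _ hinj
  have hge := hli.fintype_card_le_finrank
  rw [Fintype.card_fin] at hge
  exact ⟨h, hhg, hhp, hli, le_antisymm hle hge⟩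

end Groth.Agent.S15066
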