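import Groth.Statements.S1507
import Groth.Agent.Lib.Helper11.FlatPc2

set_option autoImplicit false
universe u
attribute [local instance] HasDerivedCategory.standard
open FlatMor

namespace Groth.Agent.S1507

/-- Let A → B be flat and of finite presentation and I an ideal of B. Then A → B/I is a pseudo-coherent
ring map if and only if I is a pseudo-coherent B-module. -/
theorem result {A B : Type u} [CommRing A] [CommRing B] [Algebra A B] [Module.Flat A B] [Algebra.FinitePresentation A B] (I : Ideal B) :
    MoreMor.IsPseudoCoherentHom A (B ⧸ I) ↔ DRing.IsPseudoCoherentModule' B ↥I := by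
  have h1 : MoreMor.IsPseudoCoherentHom A B := Groth.Agent.Helper11.FlatPc.pcHom_of_flat_fp A B
  have hstep1 : MoreMor.IsPseudoCoherentHom A (B ⧸ I) ↔ MoreMor.IsPseudoCoherentHom B (B ⧸ I) :=
    ⟨fun h => Groth.Agent.Helper11.PcHom.hom_of_comp h1 h,
      fun h => Groth.Agent.Helper11.PcHom.hom_comp h1 h⟩
  haveI : Module.Finite B (B ⧸ I) :=
    Module.Finite.of_surjective (Algebra.linearMap B (B ⧸ I)) Ideal.Quotient.mk_surjective
  rw [hstep1, Groth.Agent.Helper11.PcHom.hom_iff_module_of_finite]
  let S : CategoryTheory.ShortComplex (ModuleCat.{u} B) :=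
    CategoryTheory.ShortComplex.mk (ModuleCat.ofHom (Submodule.subtype I))
      (ModuleCat.ofHom (Algebra.linearMap B (B ⧸ I)))
      (by
        ext x
        exact Ideal.Quotient.eq_zero_iff_mem.mpr x.2)
  have hS : S.ShortExact := by
    refine CategoryTheory.ShortComplex.ShortExact.mk' ?_ ?_ ?_
    · rw [CategoryTheory.ShortComplex.moduleCat_exact_iff_range_eq_ker]
      ext x
      simp only [S, ModuleCat.hom_ofHom, Submodule.range_subtype, LinearMap.mem_ker,
        Algebra.linearMap_apply, Ideal.Quotient.algebraMap_eq]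
      exact Ideal.Quotient.eq_zero_iff_mem.symm
    · exact (ModuleCat.mono_iff_injective _).mpr (Submodule.subtype_injective _)
    · exact (ModuleCat.epi_iff_surjective _).mpr Ideal.Quotient.mk_surjective
  have hT := hS.singleTriangle_distinguished
  have hBB : ∀ m : ℤ, DRing.IsPseudoCoherent B m hS.singleTriangle.obj₂ := fun m =>
    Groth.Agent.Helper11.MPC.mpc_of_pc'
      (Groth.Agent.Helper11.DC.pc_of_finite_projective (ModuleCat.of B B)) m
  show DRing.IsPseudoCoherent' B hS.singleTriangle.obj₃ ↔
    DRing.IsPseudoCoherent' B hS.singleTriangle.obj₁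
  rw [Groth.Agent.Helper11.MPC.pc'_iff_forall_mpc, Groth.Agent.Helper11.MPC.pc'_iff_forall_mpc]
  constructor
  · intro h m
    have h' := (Groth.Agent.Helper11.MPC.mpc_two_of_three _ hT (m - 1)).2.2
      (by rw [sub_add_cancel]; exact hBB m) (h (m - 1))
    rwa [sub_add_cancel] at h'
  · intro h m
    exact (Groth.Agent.Helper11.MPC.mpc_two_of_three _ hT m).1 (h (m + 1)) (hBB m)

end Groth.Agent.S1507
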