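import Groth.Statements.S15070
import Groth.Agent.Lib.Lead.KerFree2
import Groth.Agent.Lib.Helper4.SmoothRegSch
import Groth.Agent.Lib.Helper28.CurveFlat

set_option autoImplicit false
universe u
open CategoryTheory CategoryTheory.Limits AlgebraicGeometry
open OrdSurf

namespace Groth.Agent.S15070

/-- Let k be an algebraically closed field of characteristic zero and X a smooth projective surface over
k (an integral k-scheme, smooth over k, of dimension two, admitting a closed immersion over k into
some projective space P^n_k). Let N be a coherent O_X-module all of whose stalks are torsion-free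
modules over the local rings, M a finite locally free O_X-module and φ : M → N an epimorphism of
O_X-modules. Then the kernel of φ is a finite locally free O_X-module. -/
theorem result (k : Type u) [Field k] [IsAlgClosed k] [CharZero k]
    (X : Scheme.{u}) [X.Over (Spec (CommRingCat.of k))] [IsIntegral X]
    [Smooth (X ↘ Spec (CommRingCat.of k))] (hdim : topologicalKrullDim X = 2)
    (hproj : ∃ (n : ℕ) (ι : X ⟶ CohB1.ProjSpace n k), IsClosedImmersion ι ∧
      ι ≫ CohB1.ProjSpace.toSpec n k = X ↘ Spec (CommRingCat.of k))
    (N : X.Modules) (hN : Coh.IsCoh N) (hNtf : TorSh.IsTorsionFree N)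
    (M : X.Modules) (hM : FlatMod.IsFinLocFree M) (φ : M ⟶ N) [Epi φ] :
    FlatMod.IsFinLocFree (kernel φ) := by
  haveI : IsLocallyNoetherian X :=
    LocallyOfFiniteType.isLocallyNoetherian (X ↘ Spec (CommRingCat.of k))
  haveI : N.IsQuasicoherent := hN.1
  haveI : SheafOfModules.IsFiniteType (R := X.ringCatSheaf) N := hN.2
  have hreg : ∀ x : X, IsRegularLocalRing (X.presheaf.stalk x) := fun x =>
    Groth.Agent.Helper4.SmoothRegSch.isRegularLocalRing_stalk k (X ↘ Spec (CommRingCat.of k)) x
  have hd : ∀ x : X, ringKrullDim (X.presheaf.stalk x) ≤ 2 := fun x =>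
    (Groth.Agent.Helper28.CurveFlat.ringKrullDim_stalk_le X x).trans hdim.le
  refine Groth.Agent.Lead.KerFree.isFinLocFree_kernel hreg hd M N hM hN φ ?_
  intro x h2
  haveI := hreg x
  haveI : Module.Finite (X.presheaf.stalk x) (N.presheaf.stalk x) :=
    Groth.Agent.Helper13.LocFree.finite_stalk_of_isFiniteType N x
  haveI : Module.IsTorsionFree (X.presheaf.stalk x) (N.presheaf.stalk x) := hNtf x
  refine Groth.Agent.Lead.KerFree.one_le_depth_of_isTorsionFree (X.presheaf.stalk x) ?_
    (N.presheaf.stalk x)
  intro hfield
  rw [ringKrullDim_eq_zero_of_isField hfield] at h2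
  exact absurd h2 (by norm_num)

end Groth.Agent.S15070
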