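import Groth.Statements.S15071
import Groth.Agent.Lib.Lead.IsoCodim
import Groth.Agent.Lib.Lead.Depth12
import Groth.Agent.Lib.Lead.FreeLoc
import Groth.Agent.Lib.Helper4.SmoothRegSch
import Groth.Agent.Lib.Helper28.CurveFlat

set_option autoImplicit false
universe u
open CategoryTheory CategoryTheory.Limits AlgebraicGeometry
open OrdSurf

namespace Groth.Agent.S15071

/-- Let k be an algebraically closed field of characteristic zero and X a smooth projective surface over
k (an integral k-scheme, smooth over k, of dimension two, admitting a closed immersion over k into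
some projective space P^n_k). Let φ : M → N be a monomorphism between finite locally free
O_X-modules. Then either φ is an isomorphism, or the support of the cokernel of φ contains a point
of X whose local ring has Krull dimension at most one, i.e. the support has codimension at most one
in X. (The published statement phrases the first alternative as M and N being isomorphic; the
argument shows that the given monomorphism is an isomorphism, which is the form stated here.) -/
theorem result (k : Type u) [Field k] [IsAlgClosed k] [CharZero k]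
    (X : Scheme.{u}) [X.Over (Spec (CommRingCat.of k))] [IsIntegral X]
    [Smooth (X ↘ Spec (CommRingCat.of k))] (hdim : topologicalKrullDim X = 2)
    (hproj : ∃ (n : ℕ) (ι : X ⟶ CohB1.ProjSpace n k), IsClosedImmersion ι ∧
      ι ≫ CohB1.ProjSpace.toSpec n k = X ↘ Spec (CommRingCat.of k))
    (M N : X.Modules) (hM : FlatMod.IsFinLocFree M) (hN : FlatMod.IsFinLocFree N)
    (φ : M ⟶ N) [Mono φ] :
    IsIso φ ∨ ∃ x : X, x ∈ CohB1.support (cokernel φ) ∧ ringKrullDim (X.presheaf.stalk x) ≤ 1 := by
  haveI : IsLocallyNoetherian X :=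
    LocallyOfFiniteType.isLocallyNoetherian (X ↘ Spec (CommRingCat.of k))
  by_contra hcon
  rw [not_or] at hcon
  obtain ⟨hni, hns⟩ := hcon
  apply hni
  apply Groth.Agent.Lead.IsoCodim.isIso_of_depth hM hN φ
  intro x hx
  haveI hreg : IsRegularLocalRing (X.presheaf.stalk x) :=
    Groth.Agent.Helper4.SmoothRegSch.isRegularLocalRing_stalk k (X ↘ Spec (CommRingCat.of k)) x
  have hd : ringKrullDim (X.presheaf.stalk x) ≤ ((2 : ℕ) : WithBot ℕ∞) :=
    (Groth.Agent.Helper28.CurveFlat.ringKrullDim_stalk_le X x).trans hdim.le
  have h1 : ¬ ringKrullDim (X.presheaf.stalk x) ≤ 1 := fun h => hns ⟨x, hx, h⟩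
  have h2 : (2 : WithBot ℕ∞) ≤ ringKrullDim (X.presheaf.stalk x) :=
    Groth.Agent.Lead.FreeLoc.two_le_of_not_le_one h1
  obtain ⟨e, he, hek⟩ := Groth.Agent.Lead.RLR.exists_nat_of_le
    (le_trans (by norm_num) h2) hd
  have he2 : e = 2 := by
    have h3 : ((2 : ℕ) : WithBot ℕ∞) ≤ ((e : ℕ) : WithBot ℕ∞) := by rw [← he]; exact h2
    have h4 : (2 : ℕ) ≤ e := by exact_mod_cast h3
    omega
  subst he2
  rw [Groth.Agent.Lead.Depth.depth_eq_of_isRegularLocalRing he]
  norm_num

end Groth.Agent.S15071
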