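import Groth.Statements.S15078
import Mathlib

set_option autoImplicit false
universe u v
open MovLem

namespace Groth.Agent.S15078

/-- Let k be an infinite perfect field, r, m ≥ 1, and let f be a nonzero polynomial in the variable t
with coefficients in the polynomial ring k[x_1, …, x_r]. Then there are a nonzero polynomial h in
k[x_1, …, x_r] and an integer s₀ such that for every s ≥ s₀, every field K over k and every point g
of K^r with h(g) ≠ 0, the polynomial obtained from f by the substitution x_i ↦ x_i + t^{s(m+1)} g_i,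
t ↦ t has as leading coefficient in t a nonzero constant of K; in particular, after dividing by that
constant it is monic in t over K[x_1, …, x_r]. (The published statement asks for a nonempty open
subset of affine r-space over k, independent of s, such that this holds at each of its points g with
residue field K = k(g); the locus h ≠ 0 used here is such an open subset, and every nonempty open
subset contains one of this form.) -/
theorem result
    {k : Type u} [Field k] [Infinite k] [PerfectField k] (r m : ℕ) (hr : 1 ≤ r) (hm : 1 ≤ m)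
    (f : Polynomial (MvPolynomial (Fin r) k)) (hf : f ≠ 0) :
    ∃ h : MvPolynomial (Fin r) k, h ≠ 0 ∧ ∃ s₀ : ℕ, ∀ s : ℕ, s₀ ≤ s →
      ∀ (K : Type v) [Field K] [Algebra k K] (g : Fin r → K), MvPolynomial.aeval g h ≠ 0 →
        ∃ c : K, c ≠ 0 ∧
          (Polynomial.eval₂ (MvPolynomial.aeval (fun i : Fin r => Polynomial.C (MvPolynomial.X i) + Polynomial.C (MvPolynomial.C (g i)) * Polynomial.X ^ (s * (m + 1))) : MvPolynomial (Fin r) k →ₐ[k] Polynomial (MvPolynomial (Fin r) K)).toRingHom Polynomial.X f).leadingCoeff = MvPolynomial.C c := by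
  classical
  have hsupp : f.support.Nonempty := by
    rw [Finset.nonempty_iff_ne_empty, Ne, Polynomial.support_eq_empty]; exact hf
  obtain ⟨j0, hj0, hj0D⟩ := Finset.exists_mem_eq_sup f.support hsupp
    (fun j => (f.coeff j).totalDegree)
  obtain ⟨D, hD⟩ : ∃ D, D = f.support.sup (fun j => (f.coeff j).totalDegree) := ⟨_, rfl⟩
  have hJ : (f.support.filter (fun j => (f.coeff j).totalDegree = D)).Nonempty :=
    ⟨j0, Finset.mem_filter.mpr ⟨hj0, by rw [hD, hj0D]⟩⟩
  obtain ⟨js, hjs⟩ : ∃ js, js = (f.support.filter
    (fun j => (f.coeff j).totalDegree = D)).max' hJ := ⟨_, rfl⟩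
  have hjsJ : js ∈ f.support.filter (fun j => (f.coeff j).totalDegree = D) := by
    rw [hjs]; exact Finset.max'_mem _ hJ
  have hjs_supp : js ∈ f.support := (Finset.mem_filter.mp hjsJ).1
  have hjsD : (f.coeff js).totalDegree = D := (Finset.mem_filter.mp hjsJ).2
  have htd_le : ∀ j ∈ f.support, (f.coeff j).totalDegree ≤ D := by
    intro j hj
    rw [hD]
    exact Finset.le_sup (f := fun j => (f.coeff j).totalDegree) hj
  have hJle : ∀ j ∈ f.support, (f.coeff j).totalDegree = D → j ≤ js := by
    intro j hj h
    rw [hjs]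
    exact Finset.le_max' _ j (Finset.mem_filter.mpr ⟨hj, h⟩)
  have hfjs : f.coeff js ≠ 0 := Polynomial.mem_support_iff.mp hjs_supp
  obtain ⟨hpoly, hhp⟩ : ∃ hpoly, hpoly = MvPolynomial.homogeneousComponent D (f.coeff js) :=
    ⟨_, rfl⟩
  have hh : hpoly ≠ 0 := by
    have hne : (f.coeff js).support.Nonempty := by
      rw [Finset.nonempty_iff_ne_empty, Ne, MvPolynomial.support_eq_empty]; exact hfjs
    obtain ⟨e, he, hee⟩ := Finset.exists_mem_eq_sup (f.coeff js).support hne
      (fun s => s.sum fun _ n => n)
    intro h0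
    have hed : e.degree = D := by
      rw [← hjsD]; exact hee.symm
    have hc : MvPolynomial.coeff e hpoly = MvPolynomial.coeff e (f.coeff js) := by
      rw [hhp, MvPolynomial.coeff_homogeneousComponent, if_pos hed]
    rw [h0, MvPolynomial.coeff_zero] at hc
    exact (MvPolynomial.mem_support_iff.mp he) hc.symm
  refine ⟨hpoly, hh, f.natDegree + 1, ?_⟩
  intro s hs K _ _ g hg
  obtain ⟨N, hN⟩ : ∃ N, N = s * (m + 1) := ⟨_, rfl⟩
  have hNf : f.natDegree < N := by
    rw [hN]
    calc f.natDegree < s := by omega
      _ ≤ s * (m + 1) := Nat.le_mul_of_pos_right s (Nat.succ_pos m)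
  have hN0 : N ≠ 0 := by omega
  rw [← hN]
  obtain ⟨φ, hφ⟩ : ∃ φ : MvPolynomial (Fin r) k →ₐ[k] Polynomial (MvPolynomial (Fin r) K),
    φ = MvPolynomial.aeval (fun i : Fin r => Polynomial.C (MvPolynomial.X i) +
      Polynomial.C (MvPolynomial.C (g i)) * Polynomial.X ^ N) := ⟨_, rfl⟩
  rw [← hφ]
  have hφX : ∀ i, φ (MvPolynomial.X i) = Polynomial.C (MvPolynomial.X i) +
      Polynomial.C (MvPolynomial.C (g i)) * Polynomial.X ^ N := by
    intro i; rw [hφ, MvPolynomial.aeval_X]
  have hφC : ∀ a : k, φ (MvPolynomial.C a) =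
      Polynomial.C (MvPolynomial.C (algebraMap k K a)) := by
    intro a; rw [hφ, MvPolynomial.aeval_C]; rfl
  have hu1 : ∀ i, (φ (MvPolynomial.X i)).natDegree ≤ N := by
    intro i
    rw [hφX]
    refine Polynomial.natDegree_add_le_of_degree_le ?_ ?_
    · rw [Polynomial.natDegree_C]; exact Nat.zero_le _
    · exact Polynomial.natDegree_C_mul_X_pow_le _ _
  have hu2 : ∀ i, (φ (MvPolynomial.X i)).coeff N = MvPolynomial.C (g i) := by
    intro i
    rw [hφX, Polynomial.coeff_add, Polynomial.coeff_C_ne_zero hN0, zero_add,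
      Polynomial.coeff_C_mul, Polynomial.coeff_X_pow_self, mul_one]
  have hmono : ∀ (e : Fin r →₀ ℕ) (a : k),
      (φ (MvPolynomial.monomial e a)).natDegree ≤ N * e.degree ∧
      (φ (MvPolynomial.monomial e a)).coeff (N * e.degree) =
        MvPolynomial.C (MvPolynomial.aeval g (MvPolynomial.monomial e a)) := by
    intro e a
    induction e using Finsupp.induction with
    | zero =>
      have h0 : MvPolynomial.monomial (0 : Fin r →₀ ℕ) a = MvPolynomial.C a := rfl
      rw [h0, hφC, map_zero, Nat.mul_zero, MvPolynomial.aeval_C]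
      exact ⟨by rw [Polynomial.natDegree_C], Polynomial.coeff_C_zero⟩
    | single_add i b e' _ _ ih =>
      have e1 : φ (MvPolynomial.monomial (Finsupp.single i b + e') a) =
          (φ (MvPolynomial.X i)) ^ b * φ (MvPolynomial.monomial e' a) := by
        rw [MvPolynomial.monomial_single_add, map_mul, map_pow]
      have e2 : (Finsupp.single i b + e').degree = b + e'.degree := by
        rw [map_add, Finsupp.degree_single]
      have e3 : N * (b + e'.degree) = b * N + N * e'.degree := by ring
      have e4 : MvPolynomial.aeval g (MvPolynomial.monomial (Finsupp.single i b + e') a) =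
          g i ^ b * MvPolynomial.aeval g (MvPolynomial.monomial e' a) := by
        rw [MvPolynomial.monomial_single_add, map_mul, map_pow, MvPolynomial.aeval_X]
      rw [e1, e2, e3, e4]
      have hp1 : ((φ (MvPolynomial.X i)) ^ b).natDegree ≤ b * N :=
        Polynomial.natDegree_pow_le_of_le b (hu1 i)
      refine ⟨Polynomial.natDegree_mul_le_of_le hp1 ih.1, ?_⟩
      rw [Polynomial.coeff_mul_add_eq_of_natDegree_le hp1 ih.1,
        Polynomial.coeff_pow_of_natDegree_le (hu1 i), hu2, ih.2, map_mul, map_pow]
  have hL : ∀ (p : MvPolynomial (Fin r) k) (d : ℕ), p.totalDegree ≤ d →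
      (φ p).natDegree ≤ N * d ∧ (φ p).coeff (N * d) =
        MvPolynomial.C (MvPolynomial.aeval g (MvPolynomial.homogeneousComponent d p)) := by
    intro p d hpd
    have hp : φ p = ∑ e ∈ p.support, φ (MvPolynomial.monomial e (MvPolynomial.coeff e p)) := by
      conv_lhs => rw [p.as_sum]
      rw [map_sum]
    have hdeg : ∀ e ∈ p.support, e.degree ≤ d := by
      intro e he
      exact (MvPolynomial.le_totalDegree he).trans hpd
    constructor
    · rw [hp]
      exact Polynomial.natDegree_sum_le_of_forall_le _ _
        (fun e he => (hmono e _).1.trans (Nat.mul_le_mul_left N (hdeg e he)))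
    · rw [hp, Polynomial.finset_sum_coeff, MvPolynomial.homogeneousComponent_apply, map_sum,
        map_sum, Finset.sum_filter]
      refine Finset.sum_congr rfl (fun e he => ?_)
      split_ifs with hed
      · rw [← hed]; exact (hmono e _).2
      · apply Polynomial.coeff_eq_zero_of_natDegree_lt
        refine lt_of_le_of_lt (hmono e _).1 ?_
        exact (Nat.mul_lt_mul_left (Nat.pos_of_ne_zero hN0)).mpr
          (lt_of_le_of_ne (hdeg e he) hed)
  obtain ⟨E, hE⟩ : ∃ E, E = Polynomial.eval₂ φ.toRingHom Polynomial.X f := ⟨_, rfl⟩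
  rw [← hE]
  have hEsum : E = ∑ j ∈ f.support, φ (f.coeff j) * Polynomial.X ^ j := by
    rw [hE, Polynomial.eval₂_eq_sum, Polynomial.sum_def]
    rfl
  obtain ⟨T, hT⟩ : ∃ T, T = N * D + js := ⟨_, rfl⟩
  have hterm : ∀ j ∈ f.support, (φ (f.coeff j) * Polynomial.X ^ j).natDegree ≤ T ∧
      (φ (f.coeff j) * Polynomial.X ^ j).coeff T =
        if j = js then MvPolynomial.C (MvPolynomial.aeval g hpoly) else 0 := by
    intro j hj
    by_cases hjj : j = js
    · rw [if_pos hjj, hjj]
      have := hL (f.coeff js) D (le_of_eq hjsD)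
      refine ⟨?_, ?_⟩
      · rw [hT]
        exact Polynomial.natDegree_mul_le_of_le this.1 (Polynomial.natDegree_X_pow_le _)
      · rw [hT, Polynomial.coeff_mul_X_pow, this.2, hhp]
    · rw [if_neg hjj]
      have hlt : (φ (f.coeff j) * Polynomial.X ^ j).natDegree < T := by
        have hjN : j < N := lt_of_le_of_lt (Polynomial.le_natDegree_of_mem_supp j hj) hNf
        rcases lt_or_eq_of_le (htd_le j hj) with hlt | heq
        · have h1 := (hL (f.coeff j) _ le_rfl).1
          have h2 : (φ (f.coeff j) * Polynomial.X ^ j).natDegree ≤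
              N * (f.coeff j).totalDegree + j :=
            Polynomial.natDegree_mul_le_of_le h1 (Polynomial.natDegree_X_pow_le _)
          have h3 : N * (f.coeff j).totalDegree + N ≤ N * D := by
            calc N * (f.coeff j).totalDegree + N = N * ((f.coeff j).totalDegree + 1) := by ring
              _ ≤ N * D := Nat.mul_le_mul_left N hlt
          rw [hT]; omega
        · have h1 := (hL (f.coeff j) D (le_of_eq heq)).1
          have h2 : (φ (f.coeff j) * Polynomial.X ^ j).natDegree ≤ N * D + j :=
            Polynomial.natDegree_mul_le_of_le h1 (Polynomial.natDegree_X_pow_le _)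
          have h4 : j < js := lt_of_le_of_ne (hJle j hj heq) hjj
          rw [hT]; omega
      exact ⟨hlt.le, Polynomial.coeff_eq_zero_of_natDegree_lt hlt⟩
  have hEdeg : E.natDegree ≤ T := by
    rw [hEsum]
    exact Polynomial.natDegree_sum_le_of_forall_le _ _ (fun j hj => (hterm j hj).1)
  have hEcoeff : E.coeff T = MvPolynomial.C (MvPolynomial.aeval g hpoly) := by
    rw [hEsum, Polynomial.finset_sum_coeff, Finset.sum_congr rfl (fun j hj => (hterm j hj).2),
      Finset.sum_ite_eq', if_pos hjs_supp]
  have hc0 : (MvPolynomial.C (MvPolynomial.aeval g hpoly) : MvPolynomial (Fin r) K) ≠ 0 := by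
    intro h0
    exact hg (MvPolynomial.C_injective (Fin r) K (h0.trans MvPolynomial.C_0.symm))
  refine ⟨MvPolynomial.aeval g hpoly, hg, ?_⟩
  have hnat : E.natDegree = T :=
    Polynomial.natDegree_eq_of_le_of_coeff_ne_zero hEdeg (by rw [hEcoeff]; exact hc0)
  rw [Polynomial.leadingCoeff, hnat, hEcoeff]

end Groth.Agent.S15078
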