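import Groth.Statements.S2111
import Mathlib

set_option autoImplicit false
universe u
open CAlg

namespace Groth.Agent.S2111

theorem dvr_of_colon (A : Type u) [CommRing A] [IsDomain A] [IsNoetherianRing A] [IsLocalRing A]
    [IsIntegrallyClosed A] (a b : A) (ha : a ≠ 0)
    (hmem : ∀ r : A, r ∈ IsLocalRing.maximalIdeal A ↔ r * b ∈ Ideal.span ({a} : Set A)) :
    IsDiscreteValuationRing A := by
  classical
  have hb₂ : b ∉ Ideal.span ({a} : Set A) := by
    intro hb
    have : (1 : A) ∈ IsLocalRing.maximalIdeal A := (hmem 1).mpr (by simpa using hb)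
    exact (Ideal.IsMaximal.ne_top inferInstance) ((Ideal.eq_top_iff_one _).mpr this)
  have ha₁ : a ∈ IsLocalRing.maximalIdeal A :=
    (hmem a).mpr (Ideal.mul_mem_right b _ (Ideal.mem_span_singleton_self a))
  have hb₃ : ∀ m ∈ IsLocalRing.maximalIdeal A, ∃ k : A, k * a = b * m := by
    intro m hm
    obtain ⟨k, hk⟩ := Ideal.mem_span_singleton'.mp ((hmem m).mp hm)
    exact ⟨k, by rw [hk, mul_comm]⟩
  have hb₄ : b ≠ 0 := by rintro rfl; exact hb₂ (zero_mem _)
  have hprinc : (IsLocalRing.maximalIdeal A).IsPrincipal := by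
    let K := FractionRing A
    let x : K := algebraMap A K b / algebraMap A K a
    let M := Submodule.map (Algebra.linearMap A K) (IsLocalRing.maximalIdeal A)
    have ha₃ : algebraMap A K a ≠ 0 := IsFractionRing.to_map_eq_zero_iff.not.mpr ha
    by_cases hx : ∀ y ∈ M, x * y ∈ M
    · have := isIntegral_of_smul_mem_submodule M ?_ ?_ x hx
      · obtain ⟨y, e⟩ := IsIntegrallyClosed.algebraMap_eq_of_integral this
        refine (hb₂ (Ideal.mem_span_singleton'.mpr ⟨y, ?_⟩)).elim
        apply IsFractionRing.injective A K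
        rw [map_mul, e, div_mul_cancel₀ _ ha₃]
      · rw [Submodule.ne_bot_iff]; refine ⟨_, ⟨a, ha₁, rfl⟩, ?_⟩
        exact (IsFractionRing.to_map_eq_zero_iff (K := K)).not.mpr ha
      · apply Submodule.FG.map; exact IsNoetherian.noetherian _
    · have :
          (M.map (DistribSMul.toLinearMap A K x)).comap (Algebra.linearMap A K) = ⊤ := by
        contrapose! hx with h
        rintro m' ⟨m, hm, rfl : algebraMap A K m = m'⟩
        obtain ⟨k, hk⟩ := hb₃ m hm
        have hk' : x * algebraMap A K m = algebraMap A K k := by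
          rw [← mul_div_right_comm, ← map_mul, ← hk, map_mul, mul_div_cancel_right₀ _ ha₃]
        exact ⟨k, IsLocalRing.le_maximalIdeal h ⟨_, ⟨_, hm, rfl⟩, hk'⟩, hk'.symm⟩
      obtain ⟨y, hy₁, hy₂⟩ : ∃ y ∈ IsLocalRing.maximalIdeal A, b * y = a := by
        rw [Ideal.eq_top_iff_one, Submodule.mem_comap] at this
        obtain ⟨_, ⟨y, hy, rfl⟩, hy' : x * algebraMap A K y = algebraMap A K 1⟩ := this
        rw [map_one, ← mul_div_right_comm, div_eq_one_iff_eq ha₃, ← map_mul] at hy'
        exact ⟨y, hy, IsFractionRing.injective A K hy'⟩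
      refine ⟨⟨y, ?_⟩⟩
      apply le_antisymm
      · intro m hm; obtain ⟨k, hk⟩ := hb₃ m hm; rw [← hy₂, mul_comm, mul_assoc] at hk
        rw [← mul_left_cancel₀ hb₄ hk, mul_comm]; exact Ideal.mem_span_singleton'.mpr ⟨_, rfl⟩
      · rwa [Submodule.span_le, Set.singleton_subset_iff]
  have hnf : ¬ IsField A := by
    rw [IsLocalRing.isField_iff_maximalIdeal_eq]
    intro h
    rw [h] at ha₁
    exact ha ((Submodule.mem_bot A).mp ha₁)
  exact ((IsDiscreteValuationRing.TFAE A hnf).out 0 4).mpr hprinc

/-- Let `R` be a Noetherian normal domain with fraction field `K`. An element of `K` which lies in `R_𝔭`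
for every prime `𝔭` of height one lies in `R`. -/
theorem result {R : Type u} [CommRing R] [IsDomain R] [IsNoetherianRing R]
    [IsIntegrallyClosed R] (x : FractionRing R)
    (hx : ∀ (p : Ideal R) [p.IsPrime], p.height = 1 →
      x ∈ Set.range (algebraMap (Localization.AtPrime p) (FractionRing R))) :
    x ∈ Set.range (algebraMap R (FractionRing R)) := by
  classical
  by_contra hxR
  obtain ⟨a, ⟨b, hb⟩, rfl⟩ := IsLocalization.exists_mk'_eq (nonZeroDivisors R) x
  have hb0 : b ≠ 0 := nonZeroDivisors.ne_zero hb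
  set K := FractionRing R
  have hab : a ∉ Ideal.span ({b} : Set R) := by
    intro h
    obtain ⟨k, hk⟩ := Ideal.mem_span_singleton'.mp h
    apply hxR
    refine ⟨k, ?_⟩
    rw [eq_comm, IsLocalization.mk'_eq_iff_eq_mul, ← map_mul, hk]
  let I : Ideal R := (Ideal.span ({b} : Set R)).colon {a}
  have hI : ∀ r, r ∈ I ↔ r * a ∈ Ideal.span ({b} : Set R) := fun r => by
    rw [Submodule.mem_colon_singleton, smul_eq_mul]
  haveI : Nontrivial (R ⧸ I) := by
    rw [Ideal.Quotient.nontrivial_iff]
    intro h
    have : (1 : R) ∈ I := by rw [h]; trivial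
    rw [hI, one_mul] at this
    exact hab this
  obtain ⟨p, hp⟩ := associatedPrimes.nonempty R (R ⧸ I)
  obtain ⟨hpp, y, hy⟩ := isAssociatedPrime_iff.mp hp
  obtain ⟨c, rfl⟩ := Ideal.Quotient.mk_surjective y
  have hpm : ∀ r : R, r ∈ p ↔ r * (c * a) ∈ Ideal.span ({b} : Set R) := by
    intro r
    rw [hy, Submodule.mem_colon_singleton, Submodule.mem_bot, ← mul_assoc, ← hI,
      ← Ideal.Quotient.eq_zero_iff_mem, map_mul, Algebra.smul_def]
    rfl
  haveI := hpp
  set Rp := Localization.AtPrime p
  have hmem : ∀ t : Rp, t ∈ IsLocalRing.maximalIdeal Rp ↔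
      t * algebraMap R Rp (c * a) ∈ Ideal.span ({algebraMap R Rp b} : Set Rp) := by
    intro t
    obtain ⟨r, s, rfl⟩ := IsLocalization.exists_mk'_eq p.primeCompl t
    rw [IsLocalization.AtPrime.mk'_mem_maximal_iff Rp p]
    constructor
    · intro hr
      obtain ⟨k, hk⟩ := Ideal.mem_span_singleton'.mp ((hpm r).mp hr)
      rw [Ideal.mem_span_singleton']
      refine ⟨IsLocalization.mk' Rp k s, ?_⟩
      rw [← IsLocalization.mk'_one (M := p.primeCompl) Rp b,
        ← IsLocalization.mk'_one (M := p.primeCompl) Rp (c * a), ← IsLocalization.mk'_mul,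
        ← IsLocalization.mk'_mul, hk]
    · intro h
      obtain ⟨z, hz⟩ := Ideal.mem_span_singleton'.mp h
      obtain ⟨r', s', rfl⟩ := IsLocalization.exists_mk'_eq p.primeCompl z
      rw [← IsLocalization.mk'_one (M := p.primeCompl) Rp b,
        ← IsLocalization.mk'_one (M := p.primeCompl) Rp (c * a), ← IsLocalization.mk'_mul,
        ← IsLocalization.mk'_mul, IsLocalization.mk'_eq_iff_eq] at hz
      obtain ⟨u, hu⟩ := (IsLocalization.eq_iff_exists p.primeCompl Rp).mp hz
      have h1 : ((u : R) * (s' : R) * r) * (c * a) ∈ Ideal.span ({b} : Set R) := by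
        rw [Ideal.mem_span_singleton']
        refine ⟨(u : R) * (s : R) * r', ?_⟩
        simp only [Submonoid.coe_mul, Submonoid.coe_one, mul_one] at hu
        linear_combination hu
      have h2 := (hpm _).mpr h1
      rcases hpp.mem_or_mem h2 with h3 | h3
      · rcases hpp.mem_or_mem h3 with h4 | h4
        · exact absurd h4 u.2
        · exact absurd h4 s'.2
      · exact h3
  have hbRp : algebraMap R Rp b ≠ 0 := by
    intro h
    have := (IsLocalization.to_map_eq_zero_iff Rp p.primeCompl_le_nonZeroDivisors).mp h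
    exact hb0 this
  haveI : IsIntegrallyClosed Rp :=
    isIntegrallyClosed_of_isLocalization Rp p.primeCompl p.primeCompl_le_nonZeroDivisors
  haveI := dvr_of_colon Rp (algebraMap R Rp b) (algebraMap R Rp (c * a)) hbRp hmem
  have hht : p.height = 1 := by
    have h1 := IsLocalization.AtPrime.ringKrullDim_eq_height p Rp
    rw [IsDiscreteValuationRing.ringKrullDim_eq_one] at h1
    exact_mod_cast h1.symm
  obtain ⟨t, ht⟩ := hx p hht
  obtain ⟨r, s, rfl⟩ := IsLocalization.exists_mk'_eq p.primeCompl t
  have h5 : algebraMap R K r * algebraMap R K b = algebraMap R K a * algebraMap R K s := by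
    have h6 := IsLocalization.mk'_spec Rp r s
    have h7 := congrArg (algebraMap Rp K) h6
    rw [map_mul, ht, ← IsScalarTower.algebraMap_apply, ← IsScalarTower.algebraMap_apply] at h7
    have h8 := IsLocalization.mk'_spec K a ⟨b, hb⟩
    simp only at h8
    rw [← h7, ← h8]; ring
  rw [← map_mul, ← map_mul] at h5
  have h9 := IsFractionRing.injective R K h5
  have h10 : (s : R) ∈ p := by
    rw [hpm, Ideal.mem_span_singleton']
    exact ⟨c * r, by linear_combination c * h9⟩
  exact s.2 h10

end Groth.Agent.S2111
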