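import Groth.Statements.S15084
import Mathlib
import Groth.Agent.S2111

set_option autoImplicit false
universe u
open MovLem

namespace Groth.Agent.S15084

/-- Let A be a Noetherian integrally closed domain with fraction field K, let B be a domain with
fraction field L, and let A → B be an injective ring homomorphism, with K → L the induced map of
fraction fields, such that Spec B → Spec A is surjective (every prime ideal of A is the contraction
of a prime ideal of B). If a ∈ K is such that its image in L lies in B, then a ∈ A. (The published
statement: for a surjective morphism f : Y → X of normal integral separated schemes of finite type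
over a perfect field and a Cartier divisor D on X, if f^*D is effective then D is effective; a
Cartier divisor is locally the divisor of a nonzero rational function a, effectivity of div(a) on a
normal scheme means that a is a regular function, and this row is that local statement, which is
what the published proof establishes.) -/
theorem result
    (A B K L : Type u) [CommRing A] [IsDomain A] [IsNoetherianRing A] [IsIntegrallyClosed A]
    [CommRing B] [IsDomain B] [Field K] [Field L]
    [Algebra A B] [Algebra A K] [IsFractionRing A K] [Algebra B L] [IsFractionRing B L]
    [Algebra K L] [Algebra A L] [IsScalarTower A K L] [IsScalarTower A B L]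
    (hinj : Function.Injective (algebraMap A B))
    (hsurj : ∀ p : Ideal A, p.IsPrime → ∃ q : Ideal B, q.IsPrime ∧ q.comap (algebraMap A B) = p)
    (a : K) (ha : algebraMap K L a ∈ (algebraMap B L).range) :
    a ∈ (algebraMap A K).range := by
  classical
  let e : FractionRing A ≃ₐ[A] K := FractionRing.algEquiv A K
  obtain ⟨β, hβ⟩ := ha
  have key : e.symm a ∈ Set.range (algebraMap A (FractionRing A)) := by
    apply Groth.Agent.S2111.result
    intro p hp hht
    set Rp := Localization.AtPrime p
    set x := e.symm a with hxdef
    by_contra hx
    haveI : IsIntegrallyClosed Rp :=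
      isIntegrallyClosed_of_isLocalization Rp p.primeCompl p.primeCompl_le_nonZeroDivisors
    have hdim : ringKrullDim Rp = 1 := by
      rw [IsLocalization.AtPrime.ringKrullDim_eq_height p Rp, hht]; rfl
    haveI : Ring.KrullDimLE 1 Rp := Ring.krullDimLE_iff.mpr hdim.le
    haveI : ValuationRing Rp := by
      have h31 := (tfae_of_isNoetherianRing_of_isLocalRing_of_isDomain Rp).out 3 1
      refine h31.mp ⟨inferInstance, ?_⟩
      intro P hP0 hPp
      exact IsLocalRing.eq_maximalIdeal
        (Ring.krullDimLE_one_iff_of_isPrime_bot.mp inferInstance P hP0 hPp)
    rcases ValuationRing.isInteger_or_isInteger Rp x with ⟨t, ht⟩ | ⟨t, ht⟩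
    · exact hx (Set.mem_range.mpr ⟨t, ht⟩)
    · have hx0 : x ≠ 0 := by
        intro h0
        exact hx (Set.mem_range.mpr ⟨0, by rw [map_zero, h0]⟩)
      have htm : t ∈ IsLocalRing.maximalIdeal Rp := by
        by_contra htm
        have hu : IsUnit t := by
          by_contra hnu
          exact htm ((IsLocalRing.mem_maximalIdeal t).mpr hnu)
        obtain ⟨v, rfl⟩ := hu
        apply hx
        refine Set.mem_range.mpr ⟨((v⁻¹ : Rpˣ) : Rp), ?_⟩
        have h1 : algebraMap Rp (FractionRing A) ((v⁻¹ : Rpˣ) : Rp) *
            algebraMap Rp (FractionRing A) (v : Rp) = 1 := by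
          rw [← map_mul, Units.inv_mul, map_one]
        rw [ht] at h1
        field_simp at h1
        exact h1
      obtain ⟨r, s, rfl⟩ := IsLocalization.exists_mk'_eq p.primeCompl t
      rw [IsLocalization.AtPrime.mk'_mem_maximal_iff Rp p] at htm
      have h6 := IsLocalization.mk'_spec Rp r s
      have h7 := congrArg (algebraMap Rp (FractionRing A)) h6
      rw [map_mul, ht, ← IsScalarTower.algebraMap_apply, ← IsScalarTower.algebraMap_apply] at h7
      have h8 : algebraMap A (FractionRing A) (s : A) = x * algebraMap A (FractionRing A) r := by
        rw [← h7]; field_simp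
      have h9 := congrArg e h8
      rw [map_mul, AlgEquiv.commutes, AlgEquiv.commutes, hxdef, AlgEquiv.apply_symm_apply] at h9
      have h10 := congrArg (algebraMap K L) h9
      rw [map_mul, ← IsScalarTower.algebraMap_apply, ← IsScalarTower.algebraMap_apply, ← hβ,
        IsScalarTower.algebraMap_apply A B L, IsScalarTower.algebraMap_apply A B L r,
        ← map_mul] at h10
      have h11 := IsFractionRing.injective B L h10
      obtain ⟨q, hq, hqp⟩ := hsurj p hp
      have h12 : algebraMap A B r ∈ q := by
        rw [← Ideal.mem_comap, hqp]; exact htm
      have h13 : (s : A) ∈ q.comap (algebraMap A B) := by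
        rw [Ideal.mem_comap, h11]
        exact Ideal.mul_mem_left _ _ h12
      rw [hqp] at h13
      exact s.2 h13
  obtain ⟨y, hy⟩ := key
  refine ⟨y, ?_⟩
  have := congrArg e hy
  rw [AlgEquiv.commutes, AlgEquiv.apply_symm_apply] at this
  exact this

end Groth.Agent.S15084
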