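import Groth.Statements.S1510
import Mathlib
import Groth.Agent.S8656
import Groth.Agent.Lib.Helper2.KosBridge5
import Groth.Agent.Lib.Helper11.PerfMor5
import Groth.Agent.Lib.Helper11.PerfMor3
import Groth.Agent.Lib.Helper28.RegImmIso
-- import your own Groth.Agent.* helpers here

set_option autoImplicit false
universe u
attribute [local instance] HasDerivedCategory.standard
open FlatMor

namespace Groth.Agent.S1510

section
open AlgebraicGeometry CategoryTheory Limits
open Groth.Agent.Helper11.PerfMor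

theorem main {X Y S : Scheme.{u}} (f : X ⟶ Y) (g : Y ⟶ S) [Smooth g] (h : MoreMor.IsPerfectMor (f ≫ g)) :
    MoreMor.IsPerfectMor f := by
  -- graph
  let Γ : X ⟶ pullback (f ≫ g) g := pullback.lift (𝟙 X) f (by simp)
  have hΓ1 : Γ ≫ pullback.fst (f ≫ g) g = 𝟙 X := pullback.lift_fst _ _ _
  have hΓ2 : Γ ≫ pullback.snd (f ≫ g) g = f := pullback.lift_snd _ _ _
  haveI : IsImmersion (Γ ≫ pullback.fst (f ≫ g) g) := by rw [hΓ1]; infer_instance
  haveI : IsImmersion Γ := IsImmersion.of_comp Γ (pullback.fst (f ≫ g) g)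
  have hid : ∀ x : X, Synt.IsKoszulAt (𝟙 X) x :=
    fun x => Groth.Agent.Helper2.KosBridge.isKoszulAt_of_smooth (𝟙 X) x
  have hKR : RegImm.IsRegularImmersion .koszul Γ :=
    Groth.Agent.S8656.main (𝟙 X) hid (pullback.fst (f ≫ g) g) Γ hΓ1
  have hΓp : MoreMor.IsPerfectMor Γ :=
    perfMor_of_forall_isKoszulAt Γ
      (fun x => Groth.Agent.Helper28.RegImmIso.isKoszulAt_of_koszul Γ hKR x)
  have hsnd : MoreMor.IsPerfectMor (pullback.snd (f ≫ g) g) :=
    perfMor_flat_baseChange (f ≫ g) (pullback.snd (f ≫ g) g) (pullback.fst (f ≫ g) g) g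
      (IsPullback.of_hasPullback _ _) h
  have := perfMor_comp Γ (pullback.snd (f ≫ g) g) hΓp hsnd
  rwa [hΓ2] at this

end

open AlgebraicGeometry CategoryTheory Limits in
/-- Let f : X → Y and g : Y → S with g smooth and f ≫ g perfect. Then f is perfect. -/
theorem result {X Y S : Scheme.{u}} (f : X ⟶ Y) (g : Y ⟶ S) [Smooth g] (h : MoreMor.IsPerfectMor (f ≫ g)) :
    MoreMor.IsPerfectMor f := by
  exact Groth.Agent.S1510.main f g h

end Groth.Agent.S1510
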