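import Groth.Statements.S15100
import Groth.Agent.Lib.Helper22.CokerFree

set_option autoImplicit false
universe u
open TensorProduct
open CAlg

namespace Groth.Agent.S15100

/-- Let V be a discrete valuation ring with uniformizer u and V → R → A commutative V-algebras with A an
R-algebra compatibly; assume A is a Noetherian local domain of Krull dimension 3 with u in its
maximal ideal, that Ω_{A/V} is a free A-module of rank 2 and that A ⊗_R Ω_{R/V} is a free A-module
of rank 1. Suppose that on the special fibre Ω_{A/R} is locally free exactly away from the closed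
point: for every prime P of A containing u other than the maximal ideal the localization (Ω_{A/R})_P
is free over A_P, while Ω_{A/R} is not free over A. Then Ω_{A/R} is not locally free on the generic
fibre: there is a prime Q of A not containing u with (Ω_{A/R})_Q not free over A_Q. (In the
published statement R is a regular local ring of dimension 2 and A a local ring of dimension 3, both
smooth over V, which yields the two freeness hypotheses used here, and the hypothesis is phrased as
local freeness of Ω of the special fibre of A over that of R away from the closed point.) -/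
theorem result
    (V R A : Type u) [CommRing V] [IsDomain V] [IsDiscreteValuationRing V] [CommRing R] [CommRing A]
    [IsDomain A] [IsNoetherianRing A] [IsLocalRing A]
    [Algebra V R] [Algebra V A] [Algebra R A] [IsScalarTower V R A]
    (u : V) (hu : Irreducible u) (huA : algebraMap V A u ∈ IsLocalRing.maximalIdeal A)
    (hdimA : ringKrullDim A = 3)
    (hΩA : Module.Free A (Ω[A⁄V])) (hrkA : Module.finrank A (Ω[A⁄V]) = 2)
    (hΩR : Module.Free A (A ⊗[R] Ω[R⁄V])) (hrkR : Module.finrank A (A ⊗[R] Ω[R⁄V]) = 1)
    (h0 : ∀ P : PrimeSpectrum A, algebraMap V A u ∈ P.asIdeal → P.asIdeal ≠ IsLocalRing.maximalIdeal A →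
      Module.Free (Localization.AtPrime P.asIdeal) (LocalizedModule P.asIdeal.primeCompl (Ω[A⁄R])))
    (hm : ¬ Module.Free A (Ω[A⁄R])) :
    ∃ Q : PrimeSpectrum A, algebraMap V A u ∉ Q.asIdeal ∧
      ¬ Module.Free (Localization.AtPrime Q.asIdeal) (LocalizedModule Q.asIdeal.primeCompl (Ω[A⁄R])) := by
  classical
  have hex : Function.Exact (KaehlerDifferential.mapBaseChange V R A)
      (KaehlerDifferential.map V R A A) := KaehlerDifferential.exact_mapBaseChange_map V R A
  have hsurj : Function.Surjective (KaehlerDifferential.map V R A A) :=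
    KaehlerDifferential.map_surjective V R A
  generalize hαdef : KaehlerDifferential.mapBaseChange V R A = α at hex
  generalize hβdef : KaehlerDifferential.map V R A A = β at hex hsurj
  have hfin2 : Module.Finite A (Ω[A⁄V]) := Module.finite_of_finrank_pos (by omega)
  have hfin1 : Module.Finite A (A ⊗[R] Ω[R⁄V]) := Module.finite_of_finrank_pos (by omega)
  let b₁ : Module.Basis (Fin 1) A (A ⊗[R] Ω[R⁄V]) := Module.finBasisOfFinrankEq A _ hrkR
  let b₂ : Module.Basis (Fin 2) A (Ω[A⁄V]) := Module.finBasisOfFinrankEq A _ hrkA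
  have hfinM : Module.Finite A (Ω[A⁄R]) := Module.Finite.of_surjective β hsurj
  have hx1 : ∀ x : A ⊗[R] Ω[R⁄V], ∃ r : A, x = r • b₁ 0 := by
    intro x
    refine ⟨b₁.repr x 0, ?_⟩
    conv_lhs => rw [← b₁.sum_repr x]
    simp
  -- (B) the image of the generator is nonzero
  have hv : α (b₁ 0) ≠ 0 := by
    intro h0'
    have hα0 : ∀ x, α x = 0 := by
      intro x
      obtain ⟨r, hr⟩ := hx1 x
      rw [hr, map_smul, h0', smul_zero]
    have hinj : Function.Injective β := by
      rw [injective_iff_map_eq_zero]
      intro y hy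
      obtain ⟨x, hx⟩ := (hex y).mp hy
      rw [← hx, hα0]
    exact hm (Module.Free.of_equiv (LinearEquiv.ofBijective β ⟨hinj, hsurj⟩))
  -- (C) the coordinates are non-units
  have key : ∀ i : Fin 2, b₂.repr (α (b₁ 0)) i ∈ IsLocalRing.maximalIdeal A := by
    intro i
    by_contra hi
    rw [IsLocalRing.mem_maximalIdeal, mem_nonunits_iff, not_not] at hi
    obtain ⟨c, hc⟩ := hi.exists_left_inv
    let ρ : Ω[A⁄V] →ₗ[A] A ⊗[R] Ω[R⁄V] :=
      (LinearMap.toSpanSingleton A _ (b₁ 0)) ∘ₗ (c • b₂.coord i)
    have hρ : ρ ∘ₗ α = LinearMap.id := by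
      refine LinearMap.ext fun x => ?_
      obtain ⟨r, hr⟩ := hx1 x
      rw [LinearMap.comp_apply, LinearMap.id_apply, hr, map_smul, map_smul]
      congr 1
      show (c • b₂.coord i) (α (b₁ 0)) • b₁ 0 = b₁ 0
      rw [LinearMap.smul_apply, Module.Basis.coord_apply, smul_eq_mul, hc, one_smul]
    have hproj : Module.Projective A (Ω[A⁄R]) :=
      Groth.Agent.Helper22.CokerFree.projective_of_retraction hex hsurj ρ hρ
    exact hm Module.free_of_flat_of_isLocalRing
  -- (D) a minimal prime over the coordinates
  have hJle : Ideal.span ((({b₂.repr (α (b₁ 0)) 0, b₂.repr (α (b₁ 0)) 1} : Finset A)) : Set A)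
      ≤ IsLocalRing.maximalIdeal A := by
    rw [Ideal.span_le]
    intro x hx
    simp only [Finset.coe_insert, Finset.coe_singleton, Set.mem_insert_iff,
      Set.mem_singleton_iff] at hx
    rcases hx with rfl | rfl
    · exact key 0
    · exact key 1
  have hJne : Ideal.span ((({b₂.repr (α (b₁ 0)) 0, b₂.repr (α (b₁ 0)) 1} : Finset A)) : Set A)
      ≠ ⊤ := fun h =>
    (IsLocalRing.maximalIdeal.isMaximal A).ne_top (top_le_iff.mp (h ▸ hJle))
  obtain ⟨Q, hQ⟩ := Ideal.nonempty_minimalPrimes hJne
  have hQprime : Q.IsPrime := hQ.1.1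
  have hJQ := hQ.1.2
  have hht : Q.height ≤ 2 := by
    refine (Ideal.height_le_card_of_mem_minimalPrimes_span_finset hQ).trans ?_
    have : ({b₂.repr (α (b₁ 0)) 0, b₂.repr (α (b₁ 0)) 1} : Finset A).card ≤ 2 :=
      Finset.card_le_two
    exact_mod_cast this
  have hQne : Q ≠ IsLocalRing.maximalIdeal A := by
    intro h
    have h3 : ((Q.height : ℕ∞) : WithBot ℕ∞) = 3 := by
      rw [h, IsLocalRing.maximalIdeal_height_eq_ringKrullDim, hdimA]
    have h4 : Q.height = 3 := by
      rwa [show (3 : WithBot ℕ∞) = ((3 : ℕ∞) : WithBot ℕ∞) from rfl, WithBot.coe_inj] at h3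
    rw [h4] at hht
    exact absurd hht (by norm_num)
  have ha : b₂.repr (α (b₁ 0)) 0 ∈ Q := hJQ (Ideal.subset_span (by simp))
  have hb : b₂.repr (α (b₁ 0)) 1 ∈ Q := hJQ (Ideal.subset_span (by simp))
  have hnotfree : ¬ Module.Free (Localization.AtPrime Q)
      (LocalizedModule Q.primeCompl (Ω[A⁄R])) := by
    intro hfree
    exact Groth.Agent.Helper22.CokerFree.not_projective_localized hex hsurj b₁ b₂ hv Q ha hb
      inferInstance
  refine ⟨⟨Q, hQprime⟩, ?_, hnotfree⟩
  intro huQ
  exact hnotfree (h0 ⟨Q, hQprime⟩ huQ hQne)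

end Groth.Agent.S15100
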