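import Groth.Statements.S15115
import Mathlib
import Groth.Agent.Lib.Helper22.Reynolds

set_option autoImplicit false
universe u
open HopfRep

namespace Groth.Agent.S15115

open TensorProduct in
/-- Let k be an algebraically closed field, H a finite-dimensional commutative Hopf algebra over k all
of whose finite-dimensional comodules are semisimple (a finite linearly reductive group scheme G
over k), A a commutative k-algebra, and M an A-module with an H-coaction that is A-linear (G acts on
M by A-module maps, A carrying the trivial action). Let A' be a commutative A-algebra and N = A' ⊗_A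
M its base change, exhibited by an A-linear map φ : M → N, with the induced coaction: A'-linear and
compatible with φ. Then invariants commute with this base change: writing M^G for the A-submodule of
coinvariant elements of M, the natural map A' ⊗_A M^G → N, a' ⊗ m ↦ a' φ(m), is injective and its
image is exactly the set of coinvariant elements of N. (The published statement is the isomorphism
ρ^* π_* F → π'_* σ^* F for a tame Deligne–Mumford stack with coarse moduli space π and any base
change ρ of the coarse space; this row is the statement about invariants to which its proof reduces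
it, for modules that need not be finitely generated.) -/
theorem result (k : Type u) [Field k] [IsAlgClosed k]
    (H : Type u) [CommRing H] [HopfAlgebra k H] [Module.Finite k H] (hred : HopfRep.IsLinearlyReductive k H)
    (A : Type u) [CommRing A] [Algebra k A]
    (M : Type u) [AddCommGroup M] [Module k M] [Module A M] [IsScalarTower k A M] [HopfRep.Comod k H M]
    (hlin : ∀ (a : A) (m : M), HopfRep.Comod.coact (k := k) (A := H) (a • m) = a • HopfRep.Comod.coact (k := k) (A := H) m)
    (A' : Type u) [CommRing A'] [Algebra k A'] [Algebra A A'] [IsScalarTower k A A']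
    (N : Type u) [AddCommGroup N] [Module k N] [Module A N] [Module A' N]
    [IsScalarTower k A N] [IsScalarTower A A' N] [IsScalarTower k A' N] [HopfRep.Comod k H N]
    (φ : M →ₗ[A] N) (hφ : IsBaseChange A' φ)
    (hcomp : ∀ m : M, HopfRep.Comod.coact (k := k) (A := H) (φ m) =
      LinearMap.rTensor H (φ.restrictScalars k) (HopfRep.Comod.coact (k := k) (A := H) m))
    (hlinN : ∀ (a' : A') (n : N), HopfRep.Comod.coact (k := k) (A := H) (a' • n) = a' • HopfRep.Comod.coact (k := k) (A := H) n)
    (P : Submodule A M) (hP : (P : Set M) = (HopfRep.fixedPts k H M : Set M)) :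
    Function.Injective (TensorProduct.lift (((Algebra.lsmul A A N : A' →ₐ[A] Module.End A N).toLinearMap).compl₂ (φ ∘ₗ P.subtype))) ∧
      Set.range (TensorProduct.lift (((Algebra.lsmul A A N : A' →ₐ[A] Module.End A N).toLinearMap).compl₂ (φ ∘ₗ P.subtype))) =
        (HopfRep.fixedPts k H N : Set N) := by
  classical
  obtain ⟨l, hl1, hl⟩ := Groth.Agent.Helper22.Reynolds.exists_integral k H (hred H inferInstance)
  set EM := Groth.Agent.Helper22.Reynolds.E k H M l with hEM
  set EN := Groth.Agent.Helper22.Reynolds.E k H N l with hEN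
  have hEMfix : ∀ m, EM m ∈ HopfRep.fixedPts k H M :=
    Groth.Agent.Helper22.Reynolds.E_mem_fixedPts k H M l hl
  have hENid : ∀ n ∈ HopfRep.fixedPts k H N, EN n = n :=
    Groth.Agent.Helper22.Reynolds.E_of_mem_fixedPts k H N l hl1
  have hEMid : ∀ m ∈ HopfRep.fixedPts k H M, EM m = m :=
    Groth.Agent.Helper22.Reynolds.E_of_mem_fixedPts k H M l hl1
  have hcommφ : ∀ m, φ (EM m) = EN (φ m) :=
    Groth.Agent.Helper22.Reynolds.E_comm k H M l N (φ.restrictScalars k) hcomp
  have hEMsmul : ∀ (a : A) m, EM (a • m) = a • EM m :=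
    Groth.Agent.Helper22.Reynolds.E_smul k H M A hlin l
  have hENsmul : ∀ (a' : A') n, EN (a' • n) = a' • EN n :=
    Groth.Agent.Helper22.Reynolds.E_smul k H N A' hlinN l
  have hPiff : ∀ m : M, m ∈ P ↔ m ∈ HopfRep.fixedPts k H M := by
    intro m
    rw [← SetLike.mem_coe, hP, SetLike.mem_coe]
  let EP : M →ₗ[A] P :=
    { toFun := fun m => ⟨EM m, (hPiff _).2 (hEMfix m)⟩
      map_add' := fun x y => Subtype.ext (map_add EM x y)
      map_smul' := fun a x => Subtype.ext (hEMsmul a x) }
  have hEP : ∀ m, ((EP m : P) : M) = EM m := fun m => rfl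
  set Φ := TensorProduct.lift (((Algebra.lsmul A A N : A' →ₐ[A] Module.End A N).toLinearMap).compl₂ (φ ∘ₗ P.subtype)) with hΦdef
  have hΦ : ∀ (a' : A') (p : P), Φ (a' ⊗ₜ[A] p) = a' • φ (p : M) := by
    intro a' p
    rw [hΦdef, TensorProduct.lift.tmul]
    rfl
  have hPmem : ∀ p : P, HopfRep.Comod.coact (k := k) (A := H) (p : M) = (p : M) ⊗ₜ[k] (1 : H) := by
    intro p
    exact (hPiff _).1 p.2
  have hrange : ∀ t, Φ t ∈ HopfRep.fixedPts k H N := by
    intro t
    induction t using TensorProduct.induction_on with
    | zero => rw [map_zero]; exact Submodule.zero_mem _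
    | tmul a' p =>
      rw [hΦ]
      change HopfRep.Comod.coact (k := k) (A := H) (a' • φ (p : M)) = (a' • φ (p : M)) ⊗ₜ[k] (1 : H)
      rw [hlinN, hcomp, hPmem, LinearMap.rTensor_tmul, TensorProduct.smul_tmul']
      rfl
    | add x y hx hy => rw [map_add]; exact Submodule.add_mem _ hx hy
  have hΦsmul : ∀ (a' : A') t, Φ (a' • t) = a' • Φ t := by
    intro a' t
    induction t using TensorProduct.induction_on with
    | zero => simp
    | tmul b p => rw [TensorProduct.smul_tmul', hΦ, hΦ, smul_eq_mul, mul_smul]
    | add x y hx hy => rw [smul_add, map_add, hx, hy, map_add, smul_add]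
  have hsurj : ∀ n, EN n ∈ Set.range Φ := by
    intro n
    refine hφ.inductionOn n (fun n => EN n ∈ Set.range Φ) ?_ ?_ ?_ ?_
    · exact ⟨0, by rw [map_zero, map_zero]⟩
    · intro m
      exact ⟨(1 : A') ⊗ₜ[A] EP m, by rw [hΦ, one_smul, hEP]; exact hcommφ m⟩
    · rintro a' n ⟨t, ht⟩
      exact ⟨a' • t, by rw [hΦsmul, ht, hENsmul]⟩
    · rintro n₁ n₂ ⟨t₁, ht₁⟩ ⟨t₂, ht₂⟩
      exact ⟨t₁ + t₂, by rw [map_add, ht₁, ht₂, map_add]⟩
  let g : M →ₗ[A] A' ⊗[A] P := (TensorProduct.mk A A' P 1) ∘ₗ EP
  let Ψ : N →ₗ[A'] A' ⊗[A] P := hφ.lift g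
  have hΨ : ∀ m, Ψ (φ m) = (1 : A') ⊗ₜ[A] EP m := fun m => hφ.lift_eq g m
  have hret : ∀ t, Ψ (Φ t) = t := by
    intro t
    induction t using TensorProduct.induction_on with
    | zero => simp
    | tmul a' p =>
      rw [hΦ, map_smul, hΨ, TensorProduct.smul_tmul', smul_eq_mul, mul_one]
      congr 1
      exact Subtype.ext (hEMid p ((hPiff _).1 p.2))
    | add x y hx hy => rw [map_add, map_add, hx, hy]
  refine ⟨Function.LeftInverse.injective hret, ?_⟩
  ext n
  constructor
  · rintro ⟨t, rfl⟩
    exact hrange t
  · intro hn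
    rw [← hENid n hn]
    exact hsurj n

end Groth.Agent.S15115
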