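import Groth.Statements.S15116
import Mathlib

set_option autoImplicit false
universe u v
open NRGIT

namespace Groth.Agent.S15116

/-- Let k be a characteristic-zero field and A a commutative k-algebra, graded by the integers with all
pieces of positive degree zero, and D a k-derivation of A that raises degrees by a fixed positive
integer l. If no maximal ideal of A contains both every piece of negative degree and the image of D,
then there is f with D f = 1. (The published statement is for an affine variety with an action of
the semidirect product of the additive and multiplicative groups, the multiplicative group acting on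
the coordinate ring with non-positive weights and on the Lie algebra of the additive group with
positive weight: the derivation is a generator of that Lie algebra, the maximal ideals containing
the pieces of negative degree are the limit points under the multiplicative group, and a limit point
has trivial additive stabiliser exactly when the image of D is not contained in its ideal; this row
keeps only this algebraic content, for any such graded algebra. The first assertion of the published
lemma, that every point has a limit in the variety under the multiplicative group as t → 0, is not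
part of this row.) -/
theorem result (k : Type u) [Field k] [CharZero k]
    (A : Type v) [CommRing A] [Algebra k A] (𝒜 : ℤ → Submodule k A) [GradedAlgebra 𝒜]
    (hpos : ∀ i : ℤ, 0 < i → 𝒜 i = ⊥)
    (D : Derivation k A A) (l : ℤ) (hl : 0 < l)
    (hD : ∀ (i : ℤ) (a : A), a ∈ 𝒜 i → D a ∈ 𝒜 (i + l))
    (hfree : ∀ m : Ideal A, m.IsMaximal → (∀ i : ℤ, i < 0 → (𝒜 i : Set A) ⊆ m) → ∃ a : A, D a ∉ m) :
    ∃ f : A, D f = 1 := by
  classical
  have projof : ∀ {i : ℤ} {x : A}, x ∈ 𝒜 i → GradedRing.proj 𝒜 0 x = if i = 0 then x else 0 := by
    intro i x hx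
    rw [GradedRing.proj_apply]
    split_ifs with h
    · subst h
      exact DirectSum.decompose_of_mem_same 𝒜 hx
    · exact DirectSum.decompose_of_mem_ne 𝒜 hx h
  have L1 : ∀ a x : A, GradedRing.proj 𝒜 0 (a * x) =
      GradedRing.proj 𝒜 0 a * GradedRing.proj 𝒜 0 x := by
    intro a x
    induction a using DirectSum.Decomposition.inductionOn 𝒜 with
    | zero => simp
    | add a a' ha ha' => rw [add_mul, map_add, map_add, ha, ha', add_mul]
    | homogeneous a =>
      rename_i i
      induction x using DirectSum.Decomposition.inductionOn 𝒜 with
      | zero => simp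
      | add x x' hx hx' => rw [mul_add, map_add, map_add, hx, hx', mul_add]
      | homogeneous x =>
        rename_i j
        have hax : (a : A) * (x : A) ∈ 𝒜 (i + j) := SetLike.GradedMul.mul_mem a.2 x.2
        by_cases hi : 0 < i
        · have : (a : A) = 0 := by
            have h0 : (a : A) ∈ (⊥ : Submodule k A) := (hpos i hi) ▸ a.2
            exact (Submodule.mem_bot k).1 h0
          rw [this, zero_mul, map_zero, zero_mul]
        by_cases hj : 0 < j
        · have : (x : A) = 0 := by
            have h0 : (x : A) ∈ (⊥ : Submodule k A) := (hpos j hj) ▸ x.2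
            exact (Submodule.mem_bot k).1 h0
          rw [this, mul_zero, map_zero, mul_zero]
        rw [projof hax, projof a.2, projof x.2]
        by_cases hi0 : i = 0
        · by_cases hj0 : j = 0
          · rw [if_pos hi0, if_pos hj0, if_pos (by omega)]
          · rw [if_neg hj0, mul_zero, if_neg (by omega)]
        · rw [if_neg hi0, zero_mul, if_neg (by omega)]
  have L2 : ∀ a : A, GradedRing.proj 𝒜 0 (D a) = D (GradedRing.proj 𝒜 (-l) a) := by
    intro a
    induction a using DirectSum.Decomposition.inductionOn 𝒜 with
    | zero => simp
    | add a a' ha ha' => rw [map_add, map_add, ha, ha', map_add, map_add]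
    | homogeneous a =>
      rename_i i
      rw [projof (hD i a a.2), GradedRing.proj_apply]
      by_cases hi : i = -l
      · subst hi
        rw [if_pos (by omega), DirectSum.decompose_of_mem_same 𝒜 a.2]
      · rw [if_neg (by omega), DirectSum.decompose_of_mem_ne 𝒜 a.2 hi, map_zero]
  have L3 : ∀ a : A, D (GradedRing.proj 𝒜 0 a) = 0 := by
    intro a
    have h1 : GradedRing.proj 𝒜 0 a ∈ 𝒜 0 := by
      rw [GradedRing.proj_apply]
      exact SetLike.coe_mem _
    have h2 := hD 0 _ h1
    rw [hpos (0 + l) (by omega)] at h2
    exact (Submodule.mem_bot k).1 h2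
  set I : Ideal A := Ideal.span {x : A | (∃ i : ℤ, i < 0 ∧ x ∈ 𝒜 i) ∨ x ∈ Set.range D} with hIdef
  have hI : I = ⊤ := by
    by_contra h
    obtain ⟨m, hm, hIm⟩ := Ideal.exists_le_maximal I h
    obtain ⟨a, ha⟩ := hfree m hm
      (fun i hi x hx => hIm (Ideal.subset_span (Or.inl ⟨i, hi, hx⟩)))
    exact ha (hIm (Ideal.subset_span (Or.inr ⟨a, rfl⟩)))
  have h1 : (1 : A) ∈ I := by rw [hI]; trivial
  have key : ∀ x ∈ I, ∃ f, D f = GradedRing.proj 𝒜 0 x := by
    intro x hx
    induction hx using Submodule.span_induction with
    | mem x hx =>
      rcases hx with ⟨i, hi, hxi⟩ | ⟨a, rfl⟩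
      · exact ⟨0, by rw [map_zero, projof hxi, if_neg hi.ne]⟩
      · exact ⟨GradedRing.proj 𝒜 (-l) a, (L2 a).symm⟩
    | zero => exact ⟨0, by simp⟩
    | add x y _ _ hx hy =>
      obtain ⟨f, hf⟩ := hx
      obtain ⟨g, hg⟩ := hy
      exact ⟨f + g, by rw [map_add, map_add, hf, hg]⟩
    | smul a x _ hx =>
      obtain ⟨f, hf⟩ := hx
      refine ⟨GradedRing.proj 𝒜 0 a * f, ?_⟩
      rw [smul_eq_mul, L1, Derivation.leibniz, L3, smul_zero, add_zero, smul_eq_mul, hf]
  obtain ⟨f, hf⟩ := key 1 h1
  exact ⟨f, by rw [hf, projof (SetLike.GradedOne.one_mem : (1 : A) ∈ 𝒜 0), if_pos rfl]⟩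

end Groth.Agent.S15116
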