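import Groth.Statements.S15117
import Mathlib

set_option autoImplicit false
universe u v w
open TensorProduct
open NRGIT

namespace Groth.Agent.S15117

private lemma equivLeft_lTensor {k : Type u} [Field k] {M : Type*} [AddCommGroup M] [Module k M]
    {N N' : Type*} [AddCommGroup N] [Module k N] [AddCommGroup N'] [Module k N']
    {ι : Type*} [DecidableEq ι] (ℬ : Module.Basis ι k M) (f : N →ₗ[k] N') (z : M ⊗[k] N) (i : ι) :
    TensorProduct.equivFinsuppOfBasisLeft ℬ (f.lTensor M z) i =
      f (TensorProduct.equivFinsuppOfBasisLeft ℬ z i) := by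
  induction z using TensorProduct.induction_on with
  | zero => simp
  | tmul m n =>
    rw [LinearMap.lTensor_tmul, TensorProduct.equivFinsuppOfBasisLeft_apply_tmul_apply,
      TensorProduct.equivFinsuppOfBasisLeft_apply_tmul_apply, map_smul]
  | add a b ha hb => simp only [map_add, Finsupp.add_apply, ha, hb]


/-- Let k be a field, π : A → B a map of commutative bialgebras over k, W a right A-comodule and V ⊆ W a
subcomodule all of whose elements are coinvariant for the B-coaction induced through π. Then the
coaction of every v ∈ V lies in V ⊗ A' ⊆ W ⊗ A, where A' ⊆ A is the set of elements a with (π ⊗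
id)(Δ a) = 1 ⊗ a, i.e. coinvariant for the coaction of B on A through π on the left factor; the row
states membership in the span of the pure tensors w ⊗ a with w ∈ V and a ∈ A'. (The published
statement is for a linear algebraic group H over an algebraically closed field of characteristic
zero, a normal subgroup N and an H-stable space V of N-invariant sections of a linearised line
bundle, with the coaction landing in O(H)^N ⊗ V, where O(H)^N is the ring of functions on H
invariant under N acting by right multiplication; this row is the comodule form, for any bialgebra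
map over a field, where normality of N is not needed.) -/
theorem result (k : Type u) [Field k]
    (A B : Type v) [CommRing A] [CommRing B] [Bialgebra k A] [Bialgebra k B] (π : A →ₐc[k] B)
    (W : Type w) [AddCommGroup W] [Module k W] [HopfRep.Comod k A W]
    (V : Submodule k W) (hV : HopfRep.IsSubcomod (k := k) (A := A) V)
    (hfix : ∀ v ∈ V, (π.toLinearMap.lTensor W) (HopfRep.Comod.coact (k := k) (A := A) v) = v ⊗ₜ[k] (1 : B))
    (v : W) (hv : v ∈ V) :
    HopfRep.Comod.coact (k := k) (A := A) v ∈
      Submodule.span k {x : W ⊗[k] A | ∃ w ∈ V, ∃ a : A,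
        (π.toLinearMap.rTensor A) (Coalgebra.comul (R := k) a) = (1 : B) ⊗ₜ[k] a ∧ x = w ⊗ₜ[k] a} := by
  classical
  obtain ⟨z, hz⟩ := hV v hv
  -- the two maps
  let f₁ : A →ₗ[k] B ⊗[k] A := (π.toLinearMap.rTensor A) ∘ₗ Coalgebra.comul (R := k)
  let f₂ : A →ₗ[k] B ⊗[k] A := TensorProduct.mk k B A 1
  have hinj : Function.Injective (V.subtype.rTensor (B ⊗[k] A)) :=
    Module.Flat.rTensor_preserves_injective_linearMap _ V.injective_subtype
  -- general identity
  have gen : ∀ (y : W ⊗[k] A) (a : A),
      (LinearMap.lTensor W (π.toLinearMap.rTensor A))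
        (TensorProduct.assoc k W A A (y ⊗ₜ[k] a)) =
      TensorProduct.assoc k W B A ((π.toLinearMap.lTensor W y) ⊗ₜ[k] a) := by
    intro y a
    induction y using TensorProduct.induction_on with
    | zero => simp
    | tmul w b => simp
    | add c d hc hd => simp only [TensorProduct.add_tmul, map_add, hc, hd]
  have key : f₁.lTensor V z = f₂.lTensor V z := by
    apply hinj
    have comm : ∀ (f : A →ₗ[k] B ⊗[k] A) (z : V ⊗[k] A),
        V.subtype.rTensor (B ⊗[k] A) (f.lTensor V z) = f.lTensor W (V.subtype.rTensor A z) := by
      intro f z
      rw [← LinearMap.comp_apply, ← LinearMap.comp_apply, LinearMap.rTensor_comp_lTensor,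
        LinearMap.lTensor_comp_rTensor]
    rw [comm, comm, hz]
    -- left side via coassociativity
    have hco := LinearMap.congr_fun (HopfRep.Comod.coassoc (k := k) (A := A) (V := W)) v
    simp only [LinearMap.comp_apply, LinearEquiv.coe_coe] at hco
    have h1 : f₁.lTensor W (HopfRep.Comod.coact (k := k) (A := A) v) =
        (LinearMap.lTensor W (π.toLinearMap.rTensor A))
          ((CoalgebraStruct.comul (R := k) (A := A)).lTensor W
            (HopfRep.Comod.coact (k := k) (A := A) v)) := by
      show (LinearMap.lTensor W ((π.toLinearMap.rTensor A) ∘ₗ Coalgebra.comul (R := k))) _ = _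
      rw [LinearMap.lTensor_comp_apply]
    rw [h1, ← hco, ← hz]
    clear h1 hco hz
    induction z using TensorProduct.induction_on with
    | zero => simp
    | tmul x a =>
      simp only [LinearMap.rTensor_tmul, Submodule.subtype_apply]
      rw [gen, hfix x x.2]
      simp [f₂]
    | add c d hc hd => simp only [map_add, hc, hd]
  let bV := Module.Basis.ofVectorSpace k V
  have hcoef : ∀ i, f₁ (TensorProduct.equivFinsuppOfBasisLeft bV z i) =
      f₂ (TensorProduct.equivFinsuppOfBasisLeft bV z i) := by
    intro i
    rw [← equivLeft_lTensor, ← equivLeft_lTensor, key]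
  have hzsum : z = (TensorProduct.equivFinsuppOfBasisLeft bV z).sum fun i n => bV i ⊗ₜ[k] n := by
    rw [← TensorProduct.equivFinsuppOfBasisLeft_symm_apply, LinearEquiv.symm_apply_apply]
  rw [← hz, hzsum, Finsupp.sum, map_sum]
  refine Submodule.sum_mem _ fun i _ => ?_
  apply Submodule.subset_span
  refine ⟨(bV i : W), (bV i).2, TensorProduct.equivFinsuppOfBasisLeft bV z i, hcoef i, ?_⟩
  simp

end Groth.Agent.S15117
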