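import Groth.Statements.S15121
import Mathlib

set_option autoImplicit false
universe u v w
open InvQ

namespace Groth.Agent.S15121

/-- Let k be a field of characteristic zero and A a commutative k-algebra graded by a finitely generated
free abelian group Λ (the character group of a torus acting on Spec A) whose grading monoid is
positive: if the pieces of degrees w and −w are both non-zero then w = 0. Let δ be a locally
nilpotent k-derivation of A (an action of the additive group) that is homogeneous of degree d, with
the piece of degree d equal to zero (the graded condition on the Lie algebra weight). Suppose that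
no maximal ideal of A contains both all graded pieces of non-zero degree and the image of δ (every
torus-fixed closed point has trivial stabiliser under the additive group). Then δ has a homogeneous
slice: some s of degree −d with δ s = 1. (The published statement is for the coordinate ring of an
affine variety over an algebraically closed field of characteristic zero and concludes moreover that
the quotient map by the additive group is a trivial principal bundle, which follows from the slice
by a standard argument not restated here; this row keeps the algebraic content, for any such graded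
algebra.) -/
theorem result
    (k : Type u) [Field k] [CharZero k]
    (A : Type v) [CommRing A] [Algebra k A]
    (Λ : Type w) [AddCommGroup Λ] [DecidableEq Λ] [Module.Free ℤ Λ] [Module.Finite ℤ Λ]
    (𝒜 : Λ → Submodule k A) [GradedAlgebra 𝒜]
    (hpos : ∀ w : Λ, 𝒜 w ≠ ⊥ → 𝒜 (-w) ≠ ⊥ → w = 0)
    (δ : Derivation k A A) (hnil : ∀ a : A, ∃ n : ℕ, ((δ : A →ₗ[k] A) ^ n) a = 0)
    (d : Λ) (hhom : ∀ (w : Λ) (a : A), a ∈ 𝒜 w → δ a ∈ 𝒜 (w + d)) (hd : 𝒜 d = ⊥)
    (hfix : ∀ m : Ideal A, m.IsMaximal → (∀ w : Λ, w ≠ 0 → (𝒜 w : Set A) ⊆ m) → ¬ (Set.range δ ⊆ m)) :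
    ∃ s ∈ 𝒜 (-d), δ s = 1 := by
  classical
  have projof : ∀ {i : Λ} {x : A}, x ∈ 𝒜 i → GradedRing.proj 𝒜 0 x = if i = 0 then x else 0 := by
    intro i x hx
    rw [GradedRing.proj_apply]
    split_ifs with h
    · subst h
      exact DirectSum.decompose_of_mem_same 𝒜 hx
    · exact DirectSum.decompose_of_mem_ne 𝒜 hx h
  have hne : ∀ {i : Λ} {x : A}, x ∈ 𝒜 i → x ≠ 0 → 𝒜 i ≠ ⊥ := by
    intro i x hx hx0 h
    rw [h] at hx
    exact hx0 ((Submodule.mem_bot k).1 hx)
  have L1 : ∀ a x : A, GradedRing.proj 𝒜 0 (a * x) =
      GradedRing.proj 𝒜 0 a * GradedRing.proj 𝒜 0 x := by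
    intro a x
    induction a using DirectSum.Decomposition.inductionOn 𝒜 with
    | zero => simp
    | add a a' ha ha' => rw [add_mul, map_add, map_add, ha, ha', add_mul]
    | homogeneous a =>
      rename_i i
      induction x using DirectSum.Decomposition.inductionOn 𝒜 with
      | zero => simp
      | add x x' hx hx' => rw [mul_add, map_add, map_add, hx, hx', mul_add]
      | homogeneous x =>
        rename_i j
        have hax : (a : A) * (x : A) ∈ 𝒜 (i + j) := SetLike.GradedMul.mul_mem a.2 x.2
        by_cases ha0 : (a : A) = 0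
        · rw [ha0, zero_mul, map_zero, zero_mul]
        by_cases hx0 : (x : A) = 0
        · rw [hx0, mul_zero, map_zero, mul_zero]
        rw [projof hax, projof a.2, projof x.2]
        by_cases hij : i + j = 0
        · have hj : j = -i := by
            rw [eq_neg_iff_add_eq_zero, add_comm]; exact hij
          have hi0 : i = 0 := hpos i (hne a.2 ha0) (hj ▸ hne x.2 hx0)
          have hj0 : j = 0 := by rw [hj, hi0, neg_zero]
          rw [if_pos hij, if_pos hi0, if_pos hj0]
        · rw [if_neg hij]
          by_cases hi0 : i = 0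
          · have hj0 : j ≠ 0 := by
              intro hj0; apply hij; rw [hi0, hj0, add_zero]
            rw [if_neg hj0, mul_zero]
          · rw [if_neg hi0, zero_mul]
  have L2 : ∀ a : A, GradedRing.proj 𝒜 0 (δ a) = δ (GradedRing.proj 𝒜 (-d) a) := by
    intro a
    induction a using DirectSum.Decomposition.inductionOn 𝒜 with
    | zero => simp
    | add a a' ha ha' => rw [map_add, map_add, ha, ha', map_add, map_add]
    | homogeneous a =>
      rename_i i
      rw [projof (hhom i a a.2), GradedRing.proj_apply]
      by_cases hi : i = -d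
      · subst hi
        rw [if_pos (neg_add_cancel d), DirectSum.decompose_of_mem_same 𝒜 a.2]
      · have : i + d ≠ 0 := fun h => hi (eq_neg_of_add_eq_zero_left h)
        rw [if_neg this, DirectSum.decompose_of_mem_ne 𝒜 a.2 hi, map_zero]
  have hproj_mem : ∀ (i : Λ) (a : A), GradedRing.proj 𝒜 i a ∈ 𝒜 i := by
    intro i a
    rw [GradedRing.proj_apply]
    exact SetLike.coe_mem _
  have L3 : ∀ a : A, δ (GradedRing.proj 𝒜 0 a) = 0 := by
    intro a
    have h2 := hhom 0 _ (hproj_mem 0 a)
    rw [zero_add, hd] at h2
    exact (Submodule.mem_bot k).1 h2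
  set I : Ideal A := Ideal.span {x : A | (∃ i : Λ, i ≠ 0 ∧ x ∈ 𝒜 i) ∨ x ∈ Set.range δ} with hIdef
  have hI : I = ⊤ := by
    by_contra h
    obtain ⟨m, hm, hIm⟩ := Ideal.exists_le_maximal I h
    apply hfix m hm
      (fun i hi x hx => hIm (Ideal.subset_span (Or.inl ⟨i, hi, hx⟩)))
    rintro _ ⟨a, rfl⟩
    exact hIm (Ideal.subset_span (Or.inr ⟨a, rfl⟩))
  have h1 : (1 : A) ∈ I := by rw [hI]; trivial
  have key : ∀ x ∈ I, ∃ f ∈ 𝒜 (-d), δ f = GradedRing.proj 𝒜 0 x := by
    intro x hx
    induction hx using Submodule.span_induction with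
    | mem x hx =>
      rcases hx with ⟨i, hi, hxi⟩ | ⟨a, rfl⟩
      · exact ⟨0, Submodule.zero_mem _, by rw [map_zero, projof hxi, if_neg hi]⟩
      · exact ⟨GradedRing.proj 𝒜 (-d) a, hproj_mem _ _, (L2 a).symm⟩
    | zero => exact ⟨0, Submodule.zero_mem _, by simp⟩
    | add x y _ _ hx hy =>
      obtain ⟨f, hfm, hf⟩ := hx
      obtain ⟨g, hgm, hg⟩ := hy
      exact ⟨f + g, Submodule.add_mem _ hfm hgm, by rw [map_add, map_add, hf, hg]⟩
    | smul a x _ hx =>
      obtain ⟨f, hfm, hf⟩ := hx
      refine ⟨GradedRing.proj 𝒜 0 a * f, ?_, ?_⟩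
      · have := SetLike.GradedMul.mul_mem (hproj_mem 0 a) hfm
        rwa [zero_add] at this
      · rw [smul_eq_mul, L1, Derivation.leibniz, L3, smul_zero, add_zero, smul_eq_mul, hf]
  obtain ⟨f, hfm, hf⟩ := key 1 h1
  exact ⟨f, hfm, by rw [hf, projof (SetLike.GradedOne.one_mem : (1 : A) ∈ 𝒜 0), if_pos rfl]⟩

end Groth.Agent.S15121
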