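import Groth.Statements.S15122
import Mathlib

set_option autoImplicit false
universe u v w
open GIT

namespace Groth.Agent.S15122

/-- Let R be a commutative ring, A a commutative R-algebra graded by the natural numbers, σ a
homogeneous element of degree zero, and B the localisation of A away from σ, equipped with a grading
by the natural numbers for which the localisation map ι : A → B is a graded ring homomorphism (such
a grading is necessarily the one induced from A). Then the homogeneous ideal of B generated by the
image of the irrelevant ideal of A is the whole irrelevant ideal of B; in other words the induced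
rational map from Proj B to Proj A is defined everywhere. (The published statement also assumes σ a
non-zero-divisor, which this step does not use, and goes on to conclude that Proj B → Proj A is an
open immersion onto the basic open set of σ.) -/
theorem result
    (R : Type u) (A : Type v) (B : Type w) [CommRing R] [CommRing A] [CommRing B] [Algebra R A] [Algebra R B]
    [Algebra A B] [IsScalarTower R A B]
    (𝒜 : ℕ → Submodule R A) [GradedAlgebra 𝒜] (ℬ : ℕ → Submodule R B) [GradedAlgebra ℬ]
    (σ : A) (hσ0 : σ ∈ 𝒜 0) [IsLocalization.Away σ B]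
    (ι : 𝒜 →+*ᵍ ℬ) (hι : ∀ a : A, ι a = algebraMap A B a) :
    (HomogeneousIdeal.irrelevant 𝒜).map ι = HomogeneousIdeal.irrelevant ℬ := by
  classical
  apply HomogeneousIdeal.toIdeal_injective
  rw [HomogeneousIdeal.toIdeal_map]
  have hcomm : ∀ a : A, GradedRing.projZeroRingHom ℬ (ι a) = ι (GradedRing.projZeroRingHom 𝒜 a) := by
    intro a
    rw [GradedRing.projZeroRingHom_apply, GradedRing.projZeroRingHom_apply,
      ι.map_directSumDecompose]
  apply le_antisymm
  · rw [Ideal.map_le_iff_le_comap]
    intro a ha
    rw [Ideal.mem_comap]
    have ha' : GradedRing.projZeroRingHom 𝒜 a = 0 := ha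
    change GradedRing.projZeroRingHom ℬ (ι a) = 0
    rw [hcomm, ha', map_zero]
  · intro b hb
    have hb' : GradedRing.projZeroRingHom ℬ b = 0 := hb
    obtain ⟨⟨a, s⟩, hs⟩ := IsLocalization.surj (Submonoid.powers σ) b
    have hs' : b * ι (s : A) = ι a := by rw [hι, hι]; exact hs
    have h0 : ι (GradedRing.projZeroRingHom 𝒜 a) = 0 := by
      rw [← hcomm, ← hs', map_mul, hb', zero_mul]
    have hidem : GradedRing.projZeroRingHom 𝒜 (GradedRing.projZeroRingHom 𝒜 a) =
        GradedRing.projZeroRingHom 𝒜 a := by
      rw [GradedRing.projZeroRingHom_apply, GradedRing.projZeroRingHom_apply]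
      exact DirectSum.decompose_of_mem_same 𝒜 (SetLike.coe_mem _)
    have ha' : a - GradedRing.projZeroRingHom 𝒜 a ∈ (HomogeneousIdeal.irrelevant 𝒜).toIdeal := by
      change GradedRing.projZeroRingHom 𝒜 (a - GradedRing.projZeroRingHom 𝒜 a) = 0
      rw [map_sub, hidem, sub_self]
    have hu : IsUnit (ι (s : A)) := by
      rw [hι]; exact IsLocalization.map_units B s
    obtain ⟨u, hu⟩ := hu
    have hb2 : b = ι (a - GradedRing.projZeroRingHom 𝒜 a) * (u⁻¹ : Bˣ) := by
      rw [map_sub, h0, sub_zero, ← hs', ← hu, mul_assoc, Units.mul_inv, mul_one]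
    rw [hb2]
    exact Ideal.mul_mem_right _ _ (Ideal.mem_map_of_mem _ ha')

end Groth.Agent.S15122
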