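import Groth.Statements.S15123
import Mathlib
import Groth.Agent.Lib.Helper22.TorusGr

set_option autoImplicit false
universe u v w
open InvQ

namespace Groth.Agent.S15123

/-- Let k be an algebraically closed field of characteristic zero, Λ a finitely generated free abelian
group and k[Λ] its group algebra, the coordinate Hopf algebra of the torus with character group Λ.
Let R be a reduced finitely generated commutative k-algebra with a multiplicative coaction of k[Λ]
(an action of the torus on the affine variety Spec R), and suppose the grading monoid is positive: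
if R has a non-zero eigenvector of weight w and one of weight −w then w = 0. Then for every k-point
x of Spec R, the orbit of x is closed if and only if x is a fixed point. (The published statement
also asserts that the fixed-point subvariety is affine and is a good quotient for the action; only
the description of the closed orbits is stated here.) -/
theorem result
    (k : Type u) [Field k] [IsAlgClosed k] [CharZero k]
    (Λ : Type v) [AddCommGroup Λ] [Module.Free ℤ Λ] [Module.Finite ℤ Λ]
    (R : Type w) [CommRing R] [Algebra k R] [Algebra.FiniteType k R] [IsReduced R]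
    [HopfRep.Comod k (AddMonoidAlgebra k Λ) R] [GLin.IsCoactAlg k (AddMonoidAlgebra k Λ) R]
    (hpos : ∀ w : Λ, HopfRep.eigenspace k (AddMonoidAlgebra k Λ) R (AddMonoidAlgebra.single w 1) ≠ ⊥ →
      HopfRep.eigenspace k (AddMonoidAlgebra k Λ) R (AddMonoidAlgebra.single (-w) 1) ≠ ⊥ → w = 0)
    (x : R →ₐ[k] k) :
    GLin.IsClosedOrbit k (AddMonoidAlgebra k Λ) x ↔ GLin.IsFixedPt k (AddMonoidAlgebra k Λ) x := by
  classical
  have hev : ∀ (u : Λ) (f : R), Groth.Agent.Helper22.TorusGr.ev u
      (GLin.orbitHom k (AddMonoidAlgebra k Λ) x f) = x (Groth.Agent.Helper22.TorusGr.pr k u f) := by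
    intro u f
    have h : ∀ z : TensorProduct k R (AddMonoidAlgebra k Λ), Groth.Agent.Helper22.TorusGr.ev u
        ((Algebra.TensorProduct.lid k (AddMonoidAlgebra k Λ))
          ((Algebra.TensorProduct.map x (AlgHom.id k (AddMonoidAlgebra k Λ))) z)) =
        x (Groth.Agent.Helper12.slice (Groth.Agent.Helper22.TorusGr.ev u) z) := by
      intro z
      induction z using TensorProduct.induction_on with
      | zero => simp
      | tmul r a =>
        rw [Algebra.TensorProduct.map_tmul, Algebra.TensorProduct.lid_tmul,
          Groth.Agent.Helper12.slice_tmul, map_smul, map_smul, AlgHom.id_apply, smul_eq_mul,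
          smul_eq_mul, mul_comm]
      | add a b ha hb => simp only [map_add, ha, hb]
    exact h _
  have hxsurj : Function.Surjective x := fun c => ⟨algebraMap k R c, x.commutes c⟩
  haveI hmax : (RingHom.ker x).IsMaximal := RingHom.ker_isMaximal_of_surjective x hxsurj
  constructor
  · intro hcl
    -- the auxiliary point `y = x ∘ pr 0`
    have hone : Groth.Agent.Helper22.TorusGr.pr k (0 : Λ) (1 : R) = 1 := by
      apply Groth.Agent.Helper22.TorusGr.pr_of_mem_fixedPts
      rw [GLin.IsCoactAlg.coact_one (k := k) (A := AddMonoidAlgebra k Λ) (R := R),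
        Algebra.TensorProduct.one_def]
    let y : R →ₐ[k] k := AlgHom.ofLinearMap
      (x.toLinearMap ∘ₗ Groth.Agent.Helper22.TorusGr.pr k (0 : Λ))
      (by rw [LinearMap.comp_apply, hone]; exact map_one x)
      (fun f g => by
        rw [LinearMap.comp_apply, LinearMap.comp_apply, LinearMap.comp_apply,
          Groth.Agent.Helper22.TorusGr.pr_zero_mul hpos]
        exact map_mul x _ _)
    have hy : ∀ f, y f = x (Groth.Agent.Helper22.TorusGr.pr k (0 : Λ) f) := fun f => rfl
    have hysurj : Function.Surjective y := fun c => ⟨algebraMap k R c, y.commutes c⟩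
    haveI hymax : (RingHom.ker y).IsMaximal := RingHom.ker_isMaximal_of_surjective y hysurj
    have hker : RingHom.ker (GLin.orbitHom k (AddMonoidAlgebra k Λ) x).toRingHom ≤ RingHom.ker y := by
      intro f hf
      rw [RingHom.mem_ker] at hf ⊢
      have hf' : GLin.orbitHom k (AddMonoidAlgebra k Λ) x f = 0 := hf
      rw [hy, ← hev, hf', map_zero]
    have hmem : (⟨RingHom.ker y, hymax.isPrime⟩ : PrimeSpectrum R) ∈
        Set.range (PrimeSpectrum.comap (GLin.orbitHom k (AddMonoidAlgebra k Λ) x).toRingHom) := by
      have hcl' : IsClosed (Set.range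
        (PrimeSpectrum.comap (GLin.orbitHom k (AddMonoidAlgebra k Λ) x).toRingHom)) := hcl
      rw [← hcl'.closure_eq, PrimeSpectrum.closure_range_comap, PrimeSpectrum.mem_zeroLocus]
      exact hker
    obtain ⟨Q, hQ⟩ := hmem
    have hQ' : ∀ f : R, y f = 0 → GLin.orbitHom k (AddMonoidAlgebra k Λ) x f ∈ Q.asIdeal := by
      intro f hf
      have h1 : f ∈ (PrimeSpectrum.comap (GLin.orbitHom k (AddMonoidAlgebra k Λ) x).toRingHom Q).asIdeal := by
        rw [hQ]; exact hf
      exact h1
    have step2 : ∀ w : Λ, w ≠ 0 → ∀ g : R,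
        g ∈ HopfRep.eigenspace k (AddMonoidAlgebra k Λ) R (AddMonoidAlgebra.single w 1) → x g = 0 := by
      intro w hw g hg
      by_contra hne
      have hyg : y g = 0 := by
        rw [hy, Groth.Agent.Helper22.TorusGr.pr_of_mem hg, if_neg hw, map_zero]
      have hφg : GLin.orbitHom k (AddMonoidAlgebra k Λ) x g =
          x g • AddMonoidAlgebra.single w (1 : k) := by
        have hg' : HopfRep.Comod.coact (k := k) (A := AddMonoidAlgebra k Λ) g =
          g ⊗ₜ[k] AddMonoidAlgebra.single w (1 : k) := hg
        show (Algebra.TensorProduct.lid k (AddMonoidAlgebra k Λ))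
          ((Algebra.TensorProduct.map x (AlgHom.id k (AddMonoidAlgebra k Λ)))
            (HopfRep.Comod.coact (k := k) (A := AddMonoidAlgebra k Λ) g)) = _
        rw [hg', Algebra.TensorProduct.map_tmul, Algebra.TensorProduct.lid_tmul, AlgHom.id_apply]
      have hunit : IsUnit (x g • AddMonoidAlgebra.single w (1 : k)) := by
        apply IsUnit.of_mul_eq_one ((x g)⁻¹ • AddMonoidAlgebra.single (-w) (1 : k))
        rw [smul_mul_smul_comm, AddMonoidAlgebra.single_mul_single, mul_inv_cancel₀ hne,
          add_neg_cancel, one_smul, mul_one, AddMonoidAlgebra.one_def]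
      have := hQ' g hyg
      rw [hφg] at this
      exact Q.2.ne_top (Ideal.eq_top_of_isUnit_mem _ this hunit)
    have hx0 : Groth.Agent.Helper22.TorusGr.nzIdeal k Λ R ≤ RingHom.ker x :=
      Ideal.span_le.mpr (fun g ⟨w, hw, hg⟩ => RingHom.mem_ker.mpr (step2 w hw g hg))
    show GLin.orbitHom k (AddMonoidAlgebra k Λ) x = (Algebra.ofId k (AddMonoidAlgebra k Λ)).comp x
    apply AlgHom.ext
    intro f
    apply AddMonoidAlgebra.ext
    apply Finsupp.ext
    intro u
    have h1 : (GLin.orbitHom k (AddMonoidAlgebra k Λ) x f).coeff u =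
        x (Groth.Agent.Helper22.TorusGr.pr k u f) := hev u f
    rw [h1, AlgHom.comp_apply, Algebra.ofId_apply, AddMonoidAlgebra.coe_algebraMap,
      Function.comp_apply, AddMonoidAlgebra.coeff_single, Finsupp.single_apply, Algebra.algebraMap_self,
      RingHom.id_apply]
    by_cases hu : (0 : Λ) = u
    · rw [if_pos hu, ← hu]
      have := hx0 (Groth.Agent.Helper22.TorusGr.sub_pr_zero_mem (k := k) (Λ := Λ) f)
      rw [RingHom.mem_ker, map_sub, sub_eq_zero] at this
      exact this.symm
    · rw [if_neg hu]
      exact step2 u (fun h => hu h.symm) _ (Groth.Agent.Helper22.TorusGr.pr_mem u f)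
  · intro hfix
    have hfix' : GLin.orbitHom k (AddMonoidAlgebra k Λ) x =
      (Algebra.ofId k (AddMonoidAlgebra k Λ)).comp x := hfix
    have hcomap : ∀ q : PrimeSpectrum (AddMonoidAlgebra k Λ),
        PrimeSpectrum.comap (GLin.orbitHom k (AddMonoidAlgebra k Λ) x).toRingHom q =
          ⟨RingHom.ker x, hmax.isPrime⟩ := by
      intro q
      apply PrimeSpectrum.ext
      ext f
      show GLin.orbitHom k (AddMonoidAlgebra k Λ) x f ∈ q.asIdeal ↔ f ∈ RingHom.ker x
      rw [hfix', AlgHom.comp_apply, Algebra.ofId_apply, RingHom.mem_ker]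
      constructor
      · intro h
        by_contra hne
        exact q.2.ne_top (Ideal.eq_top_of_isUnit_mem _ h
          ((IsUnit.mk0 _ hne).map (algebraMap k (AddMonoidAlgebra k Λ))))
      · intro h
        rw [h, map_zero]
        exact q.asIdeal.zero_mem
    have hrange : Set.range (PrimeSpectrum.comap
        (GLin.orbitHom k (AddMonoidAlgebra k Λ) x).toRingHom) = {⟨RingHom.ker x, hmax.isPrime⟩} := by
      ext p
      simp only [Set.mem_range, Set.mem_singleton_iff]
      constructor
      · rintro ⟨q, rfl⟩
        exact hcomap q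
      · rintro rfl
        exact ⟨Classical.arbitrary _, hcomap _⟩
    show IsClosed (Set.range (PrimeSpectrum.comap
        (GLin.orbitHom k (AddMonoidAlgebra k Λ) x).toRingHom))
    rw [hrange, PrimeSpectrum.isClosed_singleton_iff_isMaximal]
    exact hmax

end Groth.Agent.S15123
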