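import Mathlib
import Groth.Statements.S15125
import Groth.Agent.Lib.Helper19.SepCompl.Cases

set_option autoImplicit false
universe u
open scoped TensorProduct
open Fields

namespace Groth.Agent.S15125

/-- Let L be a finitely generated field extension of K, and I ⊆ L ⊗_K L the kernel of multiplication L
⊗_K L → L. An element x of L has the property that x ⊗ 1 and 1 ⊗ x have the same image in the I-adic
completion of L ⊗_K L if and only if x is separable algebraic over K. Equivalently, the equaliser of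
the two natural maps from L to that completion is the separable algebraic closure of K in L. -/
theorem result
    (K L : Type u) [Field K] [Field L] [Algebra K L]
    (hfg : (⊤ : IntermediateField K L).FG) (x : L) :
    AdicCompletion.of (KaehlerDifferential.ideal K L) (L ⊗[K] L) (x ⊗ₜ[K] (1 : L)) =
        AdicCompletion.of (KaehlerDifferential.ideal K L) (L ⊗[K] L) ((1 : L) ⊗ₜ[K] x) ↔
      x ∈ separableClosure K L := by
  classical
  -- Noetherianity of `L ⊗[K] L`
  haveI : Algebra.EssFiniteType K L := IntermediateField.fg_top_iff.mp hfg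
  haveI : Algebra.EssFiniteType L (L ⊗[K] L) := inferInstance
  haveI : IsNoetherianRing (L ⊗[K] L) := Algebra.EssFiniteType.isNoetherianRing L (L ⊗[K] L)
  set I := KaehlerDifferential.ideal K L with hI
  set δ : L ⊗[K] L := x ⊗ₜ[K] (1 : L) - (1 : L) ⊗ₜ[K] x with hδ
  have hδI : δ ∈ I := by
    rw [hI, KaehlerDifferential.ideal, RingHom.mem_ker, hδ, map_sub]
    simp
  have hiff : AdicCompletion.of I (L ⊗[K] L) (x ⊗ₜ[K] (1 : L)) =
        AdicCompletion.of I (L ⊗[K] L) ((1 : L) ⊗ₜ[K] x) ↔
      δ ∈ (⨅ i : ℕ, I ^ i • ⊤ : Submodule (L ⊗[K] L) (L ⊗[K] L)) := by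
    rw [Submodule.mem_iInf]
    constructor
    · intro h n
      have := congrArg (fun z => z.val n) h
      simp only [AdicCompletion.of_apply, Submodule.mkQ_apply] at this
      exact (Submodule.Quotient.eq _).mp this
    · intro h
      apply AdicCompletion.ext
      intro n
      simp only [AdicCompletion.of_apply, Submodule.mkQ_apply]
      exact (Submodule.Quotient.eq _).mpr (h n)
  rw [hiff, Ideal.mem_iInf_smul_pow_eq_bot_iff, mem_separableClosure_iff]
  constructor
  · rintro ⟨⟨r, hr⟩, hrδ⟩
    simp only [smul_eq_mul] at hrδ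
    have hr0 : Algebra.TensorProduct.lmul' K (S := L) r = 0 := hr
    have ht : δ * (1 - r) = 0 := by rw [mul_sub, mul_one, mul_comm, hrδ, sub_self]
    have hne : Algebra.TensorProduct.lmul' K (S := L) (1 - r) ≠ 0 := by
      rw [map_sub, hr0, map_one, sub_zero]
      exact one_ne_zero
    by_contra hsep
    apply hne
    by_cases hint : IsIntegral K x
    · exact Groth.Agent.Helper19.SepCompl.caseB K L x hint hsep _ ht
    · exact Groth.Agent.Helper19.SepCompl.caseA K L x
        (fun halg => hint (isAlgebraic_iff_isIntegral.mp halg)) _ ht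
  · intro hsep
    have hint : IsIntegral K x := hsep.isIntegral
    set f := minpoly K x with hf
    have hfx : Polynomial.aeval x f = 0 := minpoly.aeval K x
    have hder : Polynomial.aeval x (Polynomial.derivative f) ≠ 0 :=
      Polynomial.Separable.aeval_derivative_ne_zero hsep hfx
    set a : L ⊗[K] L := x ⊗ₜ[K] (1 : L) with ha
    set b : L ⊗[K] L := (1 : L) ⊗ₜ[K] x with hb
    set fT := f.map (algebraMap K (L ⊗[K] L)) with hfT
    have hfa : fT.eval a = 0 := by
      rw [hfT, Polynomial.eval_map_algebraMap]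
      have : a = Algebra.TensorProduct.includeLeft (R := K) (S := K) (A := L) (B := L) x := rfl
      rw [this, Polynomial.aeval_algHom_apply, hfx, map_zero]
    have hfb : fT.eval b = 0 := by
      rw [hfT, Polynomial.eval_map_algebraMap]
      have : b = Algebra.TensorProduct.includeRight (R := K) (A := L) (B := L) x := rfl
      rw [this, Polynomial.aeval_algHom_apply, hfx, map_zero]
    have hfb' : (Polynomial.derivative fT).eval b =
        (1 : L) ⊗ₜ[K] (Polynomial.aeval x (Polynomial.derivative f)) := by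
      rw [hfT, Polynomial.derivative_map, Polynomial.eval_map_algebraMap]
      have : b = Algebra.TensorProduct.includeRight (R := K) (A := L) (B := L) x := rfl
      rw [this, Polynomial.aeval_algHom_apply]
      rfl
    obtain ⟨k, hk⟩ := Polynomial.binomExpansion fT b (a - b)
    have hab : b + (a - b) = a := by ring
    rw [hab, hfa, hfb, hfb', zero_add] at hk
    set v : L := Polynomial.aeval x (Polynomial.derivative f) with hv
    have huv : ((1 : L) ⊗ₜ[K] v⁻¹) * ((1 : L) ⊗ₜ[K] v) = (1 : L ⊗[K] L) := by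
      rw [Algebra.TensorProduct.tmul_mul_tmul, one_mul, inv_mul_cancel₀ hder]
      rfl
    have hδab : δ = a - b := rfl
    have hkey : δ = (-(((1 : L) ⊗ₜ[K] v⁻¹) * k * δ)) * δ := by
      have h1 : ((1 : L) ⊗ₜ[K] v⁻¹) * (((1 : L) ⊗ₜ[K] v) * δ + k * δ ^ 2) = 0 := by
        rw [hδab, ← hk, mul_zero]
      have h2 : δ + ((1 : L) ⊗ₜ[K] v⁻¹) * k * δ ^ 2 = 0 := by
        have : ((1 : L) ⊗ₜ[K] v⁻¹) * (((1 : L) ⊗ₜ[K] v) * δ + k * δ ^ 2) =
            (((1 : L) ⊗ₜ[K] v⁻¹) * ((1 : L) ⊗ₜ[K] v)) * δ + ((1 : L) ⊗ₜ[K] v⁻¹) * k * δ ^ 2 := by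
          ring
        rw [this, huv, one_mul] at h1
        exact h1
      have h3 : δ = -(((1 : L) ⊗ₜ[K] v⁻¹) * k * δ ^ 2) := eq_neg_of_add_eq_zero_left h2
      rw [pow_two] at h3
      calc δ = -(((1 : L) ⊗ₜ[K] v⁻¹) * k * (δ * δ)) := h3
        _ = (-(((1 : L) ⊗ₜ[K] v⁻¹) * k * δ)) * δ := by ring
    refine ⟨⟨-(((1 : L) ⊗ₜ[K] v⁻¹) * k * δ), ?_⟩, ?_⟩
    · exact I.neg_mem (I.mul_mem_left _ hδI)
    · simp only [smul_eq_mul]
      exact hkey.symm

end Groth.Agent.S15125
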