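import Groth.Statements.S15126
import Mathlib

set_option autoImplicit false
universe u
open Formal

namespace Groth.Agent.S15126

section Aux

variable (k : Type u) [Field k] (n : ℕ) (R : Type u) [CommRing R]
  [Algebra (MvPowerSeries (Fin n) k) R]

/-- the free polynomial ring on the coefficients -/
abbrev P0 := MvPolynomial (R × (Fin n →₀ ℕ)) k

/-- the tautological (non-additive) map -/
noncomputable def ut (r : R) : MvPowerSeries (Fin n) (P0 k n R) :=
  fun d => MvPolynomial.X (r, d)

theorem coeff_ut (r : R) (d : Fin n →₀ ℕ) :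
    MvPowerSeries.coeff d (ut k n R r) = MvPolynomial.X (r, d) := rfl

/-- evaluation attached to a point -/
noncomputable def g0 (Q : Type u) [CommRing Q] [Algebra k Q]
    (f : R →ₐ[MvPowerSeries (Fin n) k] MvPowerSeries (Fin n) Q) : P0 k n R →ₐ[k] Q :=
  MvPolynomial.aeval (fun p : R × (Fin n →₀ ℕ) => MvPowerSeries.coeff p.2 (f p.1))

theorem map_g0_ut (Q : Type u) [CommRing Q] [Algebra k Q]
    (f : R →ₐ[MvPowerSeries (Fin n) k] MvPowerSeries (Fin n) Q) (r : R) :
    MvPowerSeries.map (g0 k n R Q f : P0 k n R →+* Q) (ut k n R r) = f r := by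
  ext d
  rw [MvPowerSeries.coeff_map, coeff_ut]
  simp [g0]

/-- the ideal of relations -/
def I : Ideal (P0 k n R) where
  carrier := {p | ∀ (Q : Type u) [CommRing Q] [Algebra k Q]
    (f : R →ₐ[MvPowerSeries (Fin n) k] MvPowerSeries (Fin n) Q), g0 k n R Q f p = 0}
  add_mem' := by
    intro a b ha hb Q _ _ f
    rw [map_add, ha, hb, add_zero]
  zero_mem' := by
    intro Q _ _ f
    exact map_zero _
  smul_mem' := by
    intro c x hx Q _ _ f
    rw [smul_eq_mul, map_mul, hx, mul_zero]

theorem map_mk_eq {a b : MvPowerSeries (Fin n) (P0 k n R)}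
    (h : ∀ (Q : Type u) [CommRing Q] [Algebra k Q]
      (f : R →ₐ[MvPowerSeries (Fin n) k] MvPowerSeries (Fin n) Q),
      MvPowerSeries.map (g0 k n R Q f : P0 k n R →+* Q) a =
        MvPowerSeries.map (g0 k n R Q f : P0 k n R →+* Q) b) :
    MvPowerSeries.map (Ideal.Quotient.mk (I k n R)) a =
      MvPowerSeries.map (Ideal.Quotient.mk (I k n R)) b := by
  ext d
  rw [MvPowerSeries.coeff_map, MvPowerSeries.coeff_map, Ideal.Quotient.eq]
  intro Q _ _ f
  have := congrArg (MvPowerSeries.coeff d) (h Q f)
  rw [MvPowerSeries.coeff_map, MvPowerSeries.coeff_map] at this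
  rw [map_sub, sub_eq_zero]
  exact this

/-- the universal point -/
noncomputable def uHom :
    R →ₐ[MvPowerSeries (Fin n) k] MvPowerSeries (Fin n) (P0 k n R ⧸ I k n R) where
  toFun r := MvPowerSeries.map (Ideal.Quotient.mk (I k n R)) (ut k n R r)
  map_one' := by
    rw [← map_one (MvPowerSeries.map (Ideal.Quotient.mk (I k n R)))]
    apply map_mk_eq
    intro Q _ _ f
    rw [map_g0_ut, map_one, map_one]
  map_mul' a b := by
    rw [← map_mul (MvPowerSeries.map (Ideal.Quotient.mk (I k n R)))]
    apply map_mk_eq
    intro Q _ _ f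
    rw [map_g0_ut, map_mul, map_mul, map_g0_ut, map_g0_ut]
  map_zero' := by
    rw [← map_zero (MvPowerSeries.map (Ideal.Quotient.mk (I k n R)))]
    apply map_mk_eq
    intro Q _ _ f
    rw [map_g0_ut, map_zero, map_zero]
  map_add' a b := by
    rw [← map_add (MvPowerSeries.map (Ideal.Quotient.mk (I k n R)))]
    apply map_mk_eq
    intro Q _ _ f
    rw [map_g0_ut, map_add, map_add, map_g0_ut, map_g0_ut]
  commutes' c := by
    have h1 : algebraMap (MvPowerSeries (Fin n) k) (MvPowerSeries (Fin n) (P0 k n R ⧸ I k n R)) c =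
        MvPowerSeries.map (Ideal.Quotient.mk (I k n R))
          (MvPowerSeries.map (algebraMap k (P0 k n R)) c) := by
      ext d
      rw [MvPowerSeries.algebraMap_apply'', MvPowerSeries.coeff_map, MvPowerSeries.coeff_map,
        MvPowerSeries.coeff_map]
      rfl
    rw [h1]
    apply map_mk_eq
    intro Q _ _ f
    rw [map_g0_ut, AlgHom.commutes]
    ext d
    rw [MvPowerSeries.algebraMap_apply'', MvPowerSeries.coeff_map, MvPowerSeries.coeff_map,
      MvPowerSeries.coeff_map]
    exact ((g0 k n R Q f).commutes _).symm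

theorem uHom_apply (r : R) :
    uHom k n R r = MvPowerSeries.map (Ideal.Quotient.mk (I k n R)) (ut k n R r) := rfl

theorem coeff_uHom (r : R) (d : Fin n →₀ ℕ) :
    MvPowerSeries.coeff d (uHom k n R r) = Ideal.Quotient.mk (I k n R) (MvPolynomial.X (r, d)) := by
  rw [uHom_apply, MvPowerSeries.coeff_map, coeff_ut]

end Aux


/-- Affine case. Let k be a field, n > 0, and R a commutative algebra over the power series ring
k[[z_1,…,z_n]]; for a commutative k-algebra Q regard Q[[z_1,…,z_n]] as a k[[z]]-algebra
coefficientwise. Then the functor Q ↦ Hom_{k[[z]]-alg}(R, Q[[z]]) on commutative k-algebras is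
corepresentable: there exist a commutative k-algebra P and a k[[z]]-algebra homomorphism u : R →
P[[z]] such that every k[[z]]-algebra homomorphism R → Q[[z]] arises from u by applying a unique
k-algebra homomorphism P → Q coefficientwise. If moreover R is countably generated as a
k[[z]]-algebra, P may be taken countably generated over k. (The published statement is for an adic
formal scheme Y over the formal disc Spf k[[z]], asserting that the sheaf of sections of Y over the
disc is a scheme, affine over the fibre of Y at the origin, and of pro-finite type when Y is; this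
row is the case Y = Spf R, to which the published argument reduces, stated for the underlying
algebra R; k is algebraically closed there, which is not used.) -/
theorem result
    (k : Type u) [Field k] (n : ℕ) (hn : 0 < n)
    (R : Type u) [CommRing R] [Algebra (MvPowerSeries (Fin n) k) R] :
    ∃ (P : Type u) (_ : CommRing P) (_ : Algebra k P)
      (u : R →ₐ[MvPowerSeries (Fin n) k] MvPowerSeries (Fin n) P),
      (∀ (Q : Type u) [CommRing Q] [Algebra k Q]
          (f : R →ₐ[MvPowerSeries (Fin n) k] MvPowerSeries (Fin n) Q),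
          ∃! g : P →ₐ[k] Q,
            (MvPowerSeries.map (σ := Fin n) (g : P →+* Q)).comp (u : R →+* MvPowerSeries (Fin n) P) =
              (f : R →+* MvPowerSeries (Fin n) Q)) ∧
      ((∃ s : Set R, s.Countable ∧ Algebra.adjoin (MvPowerSeries (Fin n) k) s = ⊤) →
        ∃ t : Set P, t.Countable ∧ Algebra.adjoin k t = ⊤) := by
  classical
  refine ⟨P0 k n R ⧸ I k n R, inferInstance, inferInstance, uHom k n R, ?_, ?_⟩
  · intro Q _ _ f
    refine ⟨Ideal.Quotient.liftₐ (I k n R) (g0 k n R Q f) (fun a ha => ha Q f), ?_, ?_⟩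
    · apply RingHom.ext
      intro r
      rw [RingHom.comp_apply]
      show MvPowerSeries.map _ (uHom k n R r) = f r
      ext d
      rw [MvPowerSeries.coeff_map, coeff_uHom]
      show (Ideal.Quotient.liftₐ (I k n R) (g0 k n R Q f) (fun a ha => ha Q f))
        (Ideal.Quotient.mk (I k n R) (MvPolynomial.X (r, d))) = _
      rw [Ideal.Quotient.liftₐ_apply, Ideal.Quotient.lift_mk]
      simp [g0]
    · intro g' hg'
      apply Ideal.Quotient.algHom_ext
      apply MvPolynomial.algHom_ext
      rintro ⟨r, d⟩
      have h1 := congrArg (fun φ : R →+* MvPowerSeries (Fin n) Q => MvPowerSeries.coeff d (φ r)) hg'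
      simp only [RingHom.comp_apply] at h1
      have h2 : MvPowerSeries.coeff d (MvPowerSeries.map (g' : (P0 k n R ⧸ I k n R) →+* Q)
          (uHom k n R r)) = MvPowerSeries.coeff d (f r) := h1
      rw [MvPowerSeries.coeff_map, coeff_uHom] at h2
      rw [AlgHom.comp_apply, AlgHom.comp_apply, Ideal.Quotient.mkₐ_eq_mk]
      rw [Ideal.Quotient.liftₐ_apply, Ideal.Quotient.lift_mk]
      refine Eq.trans h2 ?_
      simp [g0]
  · rintro ⟨s, hs, hst⟩
    refine ⟨(fun p : R × (Fin n →₀ ℕ) => Ideal.Quotient.mk (I k n R) (MvPolynomial.X p)) ''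
      (s ×ˢ (Set.univ : Set (Fin n →₀ ℕ))), (hs.prod Set.countable_univ).image _, ?_⟩
    set t := (fun p : R × (Fin n →₀ ℕ) => Ideal.Quotient.mk (I k n R) (MvPolynomial.X p)) ''
      (s ×ˢ (Set.univ : Set (Fin n →₀ ℕ))) with ht
    set P' := Algebra.adjoin k t with hP'
    -- the subalgebra of elements of `R` whose coefficients lie in `P'`
    let R' : Subalgebra (MvPowerSeries (Fin n) k) R :=
      { carrier := {r | ∀ d, MvPowerSeries.coeff d (uHom k n R r) ∈ P'}
        mul_mem' := by
          intro a b ha hb d
          rw [map_mul, MvPowerSeries.coeff_mul]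
          exact Subalgebra.sum_mem _ fun p _ => Subalgebra.mul_mem _ (ha _) (hb _)
        add_mem' := by
          intro a b ha hb d
          rw [map_add, map_add]
          exact Subalgebra.add_mem _ (ha _) (hb _)
        algebraMap_mem' := by
          intro c d
          rw [AlgHom.commutes, MvPowerSeries.algebraMap_apply'', MvPowerSeries.coeff_map]
          exact Subalgebra.algebraMap_mem _ _ }
    have hR' : R' = ⊤ := by
      rw [eq_top_iff, ← hst]
      apply Algebra.adjoin_le
      intro r hr d
      rw [coeff_uHom]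
      exact Algebra.subset_adjoin ⟨(r, d), ⟨hr, Set.mem_univ _⟩, rfl⟩
    have hX : ∀ p : R × (Fin n →₀ ℕ),
        Ideal.Quotient.mk (I k n R) (MvPolynomial.X p) ∈ P' := by
      rintro ⟨r, d⟩
      have : r ∈ R' := by rw [hR']; exact Algebra.mem_top
      have h2 := this d
      rwa [coeff_uHom] at h2
    rw [eq_top_iff]
    intro y _
    obtain ⟨p, rfl⟩ := Ideal.Quotient.mk_surjective y
    have hcomap : (⊤ : Subalgebra k (P0 k n R)) ≤ P'.comap (Ideal.Quotient.mkₐ k (I k n R)) := by
      rw [← MvPolynomial.adjoin_range_X]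
      apply Algebra.adjoin_le
      rintro _ ⟨p, rfl⟩
      exact hX p
    exact hcomap (Algebra.mem_top (x := p))

end Groth.Agent.S15126
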