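import Groth.Statements.S15130
import Mathlib
import Groth.Agent.Lib.Helper22.ArtFlat

set_option autoImplicit false
universe u v
open CAlg

namespace Groth.Agent.S15130

/-- Let A be an Artinian local ring with residue field k and P → Q → R → M → 0 a complex of A-modules
with P, Q, R flat which is exact at R and at M. If the reduced complex k ⊗ P → k ⊗ Q → k ⊗ R is
exact (the rest of the reduced sequence is then automatically exact), then M is flat and the
original complex is exact at Q as well. (The published statement is for local Artinian algebras over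
an algebraically closed field of characteristic zero having that field as residue field; this row
allows any Artinian local ring.) -/
theorem result
    (A : Type u) [CommRing A] [IsLocalRing A] [IsArtinianRing A]
    (P Q R M : Type v) [AddCommGroup P] [Module A P] [AddCommGroup Q] [Module A Q]
    [AddCommGroup R] [Module A R] [AddCommGroup M] [Module A M]
    [Module.Flat A P] [Module.Flat A Q] [Module.Flat A R]
    (f : P →ₗ[A] Q) (g : Q →ₗ[A] R) (h : R →ₗ[A] M)
    (hfg : g ∘ₗ f = 0) (hgh : Function.Exact g h) (hh : Function.Surjective h)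
    (hred : Function.Exact (f.lTensor (IsLocalRing.ResidueField A)) (g.lTensor (IsLocalRing.ResidueField A))) :
    Module.Flat A M ∧ Function.Exact f g := by
  have hm := Groth.Agent.Helper22.ArtFlat.isNilpotent_maximalIdeal A
  let g' : Q →ₗ[A] LinearMap.range g := g.rangeRestrict
  have hg' : Function.Surjective g' := g.surjective_rangeRestrict
  let ι : LinearMap.range g →ₗ[A] R := (LinearMap.range g).subtype
  have hιg' : ι ∘ₗ g' = g := by ext; rfl
  have hg'f : g' ∘ₗ f = 0 := by
    apply LinearMap.ext; intro p; apply Subtype.ext
    exact LinearMap.congr_fun hfg p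
  have hιh : Function.Exact ι h := by
    intro r
    rw [hgh r]
    simp [ι]
  have c1 : Function.Injective (ι.lTensor (IsLocalRing.ResidueField A)) := by
    rw [injective_iff_map_eq_zero]
    intro b hb
    obtain ⟨q, rfl⟩ := LinearMap.lTensor_surjective (IsLocalRing.ResidueField A) hg' b
    have h0 : g.lTensor (IsLocalRing.ResidueField A) q = 0 := by
      rw [← hιg', LinearMap.lTensor_comp]; exact hb
    obtain ⟨p, rfl⟩ := (hred q).mp h0
    rw [← LinearMap.comp_apply, ← LinearMap.lTensor_comp, hg'f, LinearMap.lTensor_zero]; rfl
  have flatM : Module.Flat A M := Groth.Agent.Helper22.ArtFlat.flat_of_exact hm ι h hιh hh c1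
  have flatB : Module.Flat A (LinearMap.range g) :=
    Groth.Agent.Helper22.ArtFlat.flat_of_exact_of_flat ι h (Submodule.injective_subtype _) hh hιh
  refine ⟨flatM, ?_⟩
  let j : LinearMap.ker g →ₗ[A] Q := (LinearMap.ker g).subtype
  have hjg' : Function.Exact j g' := by
    intro q
    constructor
    · intro hq
      exact ⟨⟨q, by simpa [g'] using congrArg Subtype.val hq⟩, rfl⟩
    · rintro ⟨z, rfl⟩
      apply Subtype.ext
      exact z.2
  have c4 : Function.Injective (j.lTensor (IsLocalRing.ResidueField A)) :=
    LinearMap.lTensor_injective_of_exact_of_flat g' hg' j (Submodule.injective_subtype _) hjg' _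
  let f' : P →ₗ[A] LinearMap.ker g :=
    f.codRestrict (LinearMap.ker g) (fun p => by simpa using LinearMap.congr_fun hfg p)
  have hjf' : j ∘ₗ f' = f := by ext; rfl
  have hgj : g ∘ₗ j = 0 := by ext z; exact z.2
  have c5 : Function.Surjective (f'.lTensor (IsLocalRing.ResidueField A)) := by
    intro z
    have h0 : g.lTensor (IsLocalRing.ResidueField A) (j.lTensor (IsLocalRing.ResidueField A) z) = 0 := by
      rw [← LinearMap.comp_apply, ← LinearMap.lTensor_comp, hgj, LinearMap.lTensor_zero]; rfl
    obtain ⟨p, hp⟩ := (hred _).mp h0
    refine ⟨p, c4 ?_⟩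
    rw [← LinearMap.comp_apply, ← LinearMap.lTensor_comp, hjf', hp]
  have c6 : Function.Surjective f' := Groth.Agent.Helper22.ArtFlat.surjective_of_residue hm f' c5
  intro q
  constructor
  · intro hq
    obtain ⟨p, hp⟩ := c6 ⟨q, hq⟩
    exact ⟨p, by simpa [f'] using congrArg Subtype.val hp⟩
  · rintro ⟨p, rfl⟩
    exact LinearMap.congr_fun hfg p

end Groth.Agent.S15130
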