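import Groth.Statements.S15131
import Mathlib
import Groth.Agent.Lib.Helper18.ArtFunRS

set_option autoImplicit false
universe u v
open CategoryTheory
open ArtFun

namespace Groth.Agent.S15131

/-- Let k be a field and F a functor on local Artinian k-algebras with residue field k with F(k) a
single point, satisfying (H1) (the comparison map of A₁ ×_A A₂ is surjective when A₂ → A is a small
extension) and (H2) (it is bijective when A = k and A₂ = k[ε]). If the tangent space F(k[ε]) is a
single point then F is the one-point functor: every F(A) has exactly one element. (The converse is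
clear.) -/
theorem result
    {k : Type u} [Field k] (F : ArtFun.Art k k ⥤ Type v)
    (h0 : ArtFun.H0 F) (h1 : ArtFun.Hbar F) (h2 : ArtFun.Heps F)
    (ht : Subsingleton (ArtFun.TangentSpace F)) (A : ArtFun.Art k k) :
    Nonempty (F.obj A) ∧ Subsingleton (F.obj A) := by
  constructor
  · obtain ⟨x0⟩ := h0.1
    exact ⟨F.map (⟨Algebra.ofId k A, AlgHom.ext fun c => A.res.commutes c⟩ :
      ArtFun.Art.base k k ⟶ A) x0⟩
  · have key := Groth.Agent.Helper18.surjective_induction (Λ := k) (k := k)
      (fun A B g => Function.Injective (F.map g)) ?iso ?small ?comp (ArtFun.Art.toBase A)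
      (Groth.Agent.Helper18.toBase_surjective A)
    · haveI := h0.2
      exact ⟨fun x y => key (Subsingleton.elim _ _)⟩
    case iso =>
      intro A B e he x y hxy
      have := congrArg (F.map (inv e)) hxy
      rwa [Groth.Agent.Helper18.map_map_inv, Groth.Agent.Helper18.map_map_inv] at this
    case comp =>
      intro A B C p q hp hq x y hxy
      rw [Functor.map_comp_apply, Functor.map_comp_apply] at hxy
      exact hp (hq hxy)
    case small =>
      intro A A' μ hμ
      obtain ⟨t, ht', htm, ht0, hker⟩ := Groth.Agent.Helper18.IsSmallExt.exists_generator hμ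
      intro x y hxy
      obtain ⟨z, hz1, hz2⟩ :=
        Groth.Agent.Helper18.exists_shift_of_same_image h1 μ hμ ht' htm ht0 hker x y hxy
      have hz : z = F.map (Groth.Agent.Helper18.zeroSec A') x := by
        apply (h2 _ _ (Groth.Agent.Helper18.Deps.isFibreProd A')).1
        apply ArtFun.FibProd.ext
        · show F.map (Groth.Agent.Helper18.Deps.q₁ A') z =
            F.map (Groth.Agent.Helper18.Deps.q₁ A') (F.map (Groth.Agent.Helper18.zeroSec A') x)
          rw [hz1, ← Functor.map_comp_apply, Groth.Agent.Helper18.zeroSec_q₁,
            Functor.map_id_apply]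
        · exact ht.elim _ _
      rw [← hz2, hz, ← Functor.map_comp_apply, Groth.Agent.Helper18.zeroSec_shift,
        Functor.map_id_apply]

end Groth.Agent.S15131
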