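import Groth.Statements.S15132
import Mathlib
import Groth.Agent.Lib.Helper18.ArtFunRS

set_option autoImplicit false
universe u v
open CategoryTheory
open ArtFun

namespace Groth.Agent.S15132

open Groth.Agent.Helper18 ArtFun ArtFun.Art in
private lemma small_pullback {Λ : Type u} {k : Type u} [CommRing Λ] [Field k] [Algebra Λ k]
    {B A A' A'' : Art Λ k} {p' : B ⟶ A'} {p'' : B ⟶ A''}
    {f' : A' ⟶ A} {g : A'' ⟶ A}
    (h : IsFibreProd p' p'' f' g) (hg : IsSmallExt g) {t : A''}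
    (ht : ∀ x ∈ IsLocalRing.maximalIdeal A'', x * t = 0)
    (ht0 : t ≠ 0)
    (hker : RingHom.ker g.toAlgHom = Ideal.span {t}) :
    ∃ tB : B, p' tB = 0 ∧ p'' tB = t ∧ (∀ x ∈ IsLocalRing.maximalIdeal B, x * tB = 0) ∧
      tB ∈ IsLocalRing.maximalIdeal B ∧ tB ≠ 0 ∧ RingHom.ker p'.toAlgHom = Ideal.span {tB} ∧
      IsSmallExt p' := by
  have hgt : g t = 0 := by
    have : t ∈ RingHom.ker g.toAlgHom := by rw [hker]; exact Ideal.subset_span rfl
    exact this
  obtain ⟨tB, h1, h2⟩ := h.surj 0 t (by rw [hgt]; exact map_zero f'.toAlgHom)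
  have hm : ∀ x ∈ IsLocalRing.maximalIdeal B, p'' x ∈ IsLocalRing.maximalIdeal A'' := by
    intro x hx
    rw [Art.mem_maximalIdeal_iff] at hx ⊢
    rw [Art.res_app, hx]
  have hB1 : ∀ x ∈ IsLocalRing.maximalIdeal B, x * tB = 0 := by
    intro x hx
    apply h.inj
    · rw [map_mul, h1, mul_zero, map_zero]
    · rw [map_mul, h2, map_zero]; exact ht _ (hm x hx)
  have hB2 : tB ∈ IsLocalRing.maximalIdeal B := by
    rw [Art.mem_maximalIdeal_iff, ← Art.res_app p', h1, map_zero]
  have hB3 : tB ≠ 0 := by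
    intro h0; apply ht0; rw [← h2, h0, map_zero]
  have hB4 : RingHom.ker p'.toAlgHom = Ideal.span {tB} := by
    apply le_antisymm
    · intro b hb
      have hb' : p' b = 0 := hb
      have h3 : g (p'' b) = 0 := by rw [← h.w_apply, hb', map_zero]
      have h4 : p'' b ∈ Ideal.span {t} := by rw [← hker]; exact h3
      obtain ⟨c, hc⟩ := Ideal.mem_span_singleton'.1 h4
      obtain ⟨c', hc'⟩ := B.res_surjective (A''.res c)
      have h5 : b = c' * tB := by
        apply h.inj
        · rw [hb', map_mul, h1, mul_zero]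
        · rw [map_mul, h2, ← hc, mul_eq_socleSMul ht c, mul_eq_socleSMul ht (p'' c'), Art.res_app, hc']
      rw [h5]
      exact Ideal.mul_mem_left _ _ (Ideal.subset_span rfl)
    · rw [Ideal.span_singleton_le_iff_mem]
      exact h1
  refine ⟨tB, h1, h2, hB1, hB2, hB3, hB4, surjective_fst_of_isFibreProd h hg.1, ?_, ?_, ?_⟩
  · rw [hB4, Ne, Ideal.span_singleton_eq_bot]; exact hB3
  · rw [hB4]; exact ⟨⟨tB, rfl⟩⟩
  · rw [hB4, eq_bot_iff, Ideal.mul_le]
    intro x hx y hy
    obtain ⟨c, rfl⟩ := Ideal.mem_span_singleton'.1 hy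
    rw [Ideal.mem_bot, mul_left_comm, hB1 x hx, mul_zero]

open Groth.Agent.Helper18 ArtFun ArtFun.Art in
private lemma pInj_small {Λ : Type u} {k : Type u} [CommRing Λ] [Field k] [Algebra Λ k]
    (F : Art Λ k ⥤ Type v) (h1 : Hbar F) (h2 : Heps F) (h4 : HSq F)
    ⦃A'' A : Art Λ k⦄ (g : A'' ⟶ A) (hg : IsSmallExt g) : PInj F g := by
  intro B A' p' p'' f' h z₁ z₂ hz
  have hz1 : F.map p' z₁ = F.map p' z₂ := congrArg (fun x => x.1.1) hz
  have hz2 : F.map p'' z₁ = F.map p'' z₂ := congrArg (fun x => x.1.2) hz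
  obtain ⟨t, ht, htm, ht0, hker⟩ := Groth.Agent.Helper18.IsSmallExt.exists_generator hg
  obtain ⟨tB, e1, e2, hB1, hB2, hB3, hB4, hB5⟩ := small_pullback h hg ht ht0 hker
  obtain ⟨w, hw1, hw2⟩ := exists_shift_of_same_image h1 p' hB5 hB1 hB2 hB3 hB4 z₁ z₂ hz1
  obtain ⟨φ, hφ1, hφ2⟩ := fp_exists_lift (Deps.isFibreProd A'') (Deps.q₁ B ≫ p'') (Deps.q₂ B)
    (by rw [eq_toBase ((Deps.q₁ B ≫ p'') ≫ toBase A''), eq_toBase (Deps.q₂ B ≫ toBase _)])
  have hφ3 : φ ≫ shift (Deps.q₁ A'') (Deps.q₂ A'') ht htm =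
      shift (Deps.q₁ B) (Deps.q₂ B) hB1 hB2 ≫ p'' := by
    apply Art.hom_ext; apply AlgHom.ext; intro d
    show shift (Deps.q₁ A'') (Deps.q₂ A'') ht htm (φ d) =
      p'' (shift (Deps.q₁ B) (Deps.q₂ B) hB1 hB2 d)
    rw [shift_apply, shift_apply, map_add]
    have a1 : Deps.q₁ A'' (φ d) = p'' (Deps.q₁ B d) :=
      congrArg (fun s : Deps B ⟶ A'' => s d) hφ1
    have a2 : Deps.q₂ A'' (φ d) = Deps.q₂ B d :=
      congrArg (fun s : Deps B ⟶ dual _ _ => s d) hφ2
    rw [a1, a2]
    congr 1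
    rw [socleSMul, socleSMul, map_mul, e2, mul_eq_socleSMul ht, mul_eq_socleSMul ht (p'' _),
      Art.res_app, res_resLift, res_resLift]
  have hsq := isFibreProd_shift g (Deps.isFibreProd A'') ht htm ht0 hker
  have hw'' : F.map φ w = F.map (zeroSec A'') (F.map p'' z₁) := by
    apply (h4 _ _ _ hsq hg).1
    apply FibProd.ext
    · show F.map (Deps.q₁ A'') (F.map φ w) =
        F.map (Deps.q₁ A'') (F.map (zeroSec A'') (F.map p'' z₁))
      rw [← Functor.map_comp_apply, ← Functor.map_comp_apply, hφ1, zeroSec_q₁,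
        Functor.map_id_apply, Functor.map_comp_apply, hw1]
    · show F.map (shift (Deps.q₁ A'') (Deps.q₂ A'') ht htm) (F.map φ w) =
        F.map (shift (Deps.q₁ A'') (Deps.q₂ A'') ht htm) (F.map (zeroSec A'') (F.map p'' z₁))
      rw [← Functor.map_comp_apply, ← Functor.map_comp_apply, hφ3, zeroSec_shift,
        Functor.map_id_apply, Functor.map_comp_apply, hw2, ← hz2]
  have hw : w = F.map (zeroSec B) z₁ := by
    apply (h2 _ _ (Deps.isFibreProd B)).1
    apply FibProd.ext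
    · show F.map (Deps.q₁ B) w = F.map (Deps.q₁ B) (F.map (zeroSec B) z₁)
      rw [hw1, ← Functor.map_comp_apply, zeroSec_q₁, Functor.map_id_apply]
    · show F.map (Deps.q₂ B) w = F.map (Deps.q₂ B) (F.map (zeroSec B) z₁)
      have l1 : F.map (Deps.q₂ B) w = F.map (toBase A'' ≫ baseToDual) (F.map p'' z₁) := by
        have l0 : F.map (Deps.q₂ B) w = F.map (Deps.q₂ A'') (F.map φ w) := by
          rw [← Functor.map_comp_apply, hφ2]
        rw [l0, hw'', ← Functor.map_comp_apply, zeroSec_q₂]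
      have l2 : F.map (Deps.q₂ B) (F.map (zeroSec B) z₁) = F.map (toBase B ≫ baseToDual) z₁ := by
        rw [← Functor.map_comp_apply, zeroSec_q₂]
      rw [l1, l2, ← Functor.map_comp_apply, ← Category.assoc, eq_toBase (p'' ≫ toBase A'')]
  rw [← hw2, hw, ← Functor.map_comp_apply, zeroSec_shift, Functor.map_id_apply]


/-- Let k be a field and F a functor on local Artinian k-algebras with residue field k with F(k) a
single point. If F satisfies (H1), (H2) and (H4) — surjectivity of the comparison map F(A₁ ×_A A₂) →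
F(A₁) ×_{F(A)} F(A₂) when A₂ → A is a small extension, bijectivity when A = k and A₂ = k[ε], and
bijectivity for A₂ ×_A A₂ with A₂ → A a small extension — then F is homogeneous: the comparison map
is bijective for every fibre-product square in which A₂ → A is surjective. (The converse
implications are immediate.) -/
theorem result
    {k : Type u} [Field k] (F : ArtFun.Art k k ⥤ Type v)
    (h0 : ArtFun.H0 F) (h1 : ArtFun.Hbar F) (h2 : ArtFun.Heps F) (h4 : ArtFun.HSq F)
    ⦃B A A' A'' : ArtFun.Art k k⦄ (p' : B ⟶ A') (p'' : B ⟶ A'') (f' : A' ⟶ A) (f'' : A'' ⟶ A)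
    (h : ArtFun.Art.IsFibreProd p' p'' f' f'') (hf : Function.Surjective f'') :
    Function.Bijective (ArtFun.cmp F h) := by
  refine ⟨?_, Groth.Agent.Helper18.s1_of_hbar h1 p' p'' f' f'' h hf⟩
  exact Groth.Agent.Helper18.pInj_of_surjective
    (fun A'' A g hg => pInj_small F h1 h2 h4 g hg) f'' hf p' p'' f' h

end Groth.Agent.S15132
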