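import Groth.Statements.S15133
import Mathlib
import Groth.Agent.Lib.Helper22.ArtFlat

set_option autoImplicit false
universe u
open CategoryTheory
open CAlg

namespace Groth.Agent.S15133

open Groth.Agent.Helper22.ArtFlat in
private lemma lemX {A : Type u} [CommRing A] [IsLocalRing A]
    (hm : IsNilpotent (IsLocalRing.maximalIdeal A))
    {P Q R : Type u} [AddCommGroup P] [Module A P] [AddCommGroup Q] [Module A Q]
    [AddCommGroup R] [Module A R] [Module.Flat A R] (f : P →ₗ[A] Q) (g : Q →ₗ[A] R)
    (hfg : g ∘ₗ f = 0)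
    (hred : Function.Exact (f.lTensor (IsLocalRing.ResidueField A))
      (g.lTensor (IsLocalRing.ResidueField A))) :
    Module.Flat A (R ⧸ LinearMap.range g) ∧ Module.Flat A (Q ⧸ LinearMap.range f) := by
  have hle : LinearMap.range f ≤ LinearMap.ker g := by
    rintro _ ⟨p, rfl⟩; exact LinearMap.congr_fun hfg p
  let gb : (Q ⧸ LinearMap.range f) →ₗ[A] R := (LinearMap.range f).liftQ g hle
  have hgbπ : gb ∘ₗ (LinearMap.range f).mkQ = g := Submodule.liftQ_mkQ _ _ _
  have hπf : (LinearMap.range f).mkQ ∘ₗ f = 0 := by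
    ext p; simp
  have c1 : Function.Injective (gb.lTensor (IsLocalRing.ResidueField A)) := by
    rw [injective_iff_map_eq_zero]
    intro z hz
    obtain ⟨q, rfl⟩ := LinearMap.lTensor_surjective (IsLocalRing.ResidueField A)
      (Submodule.mkQ_surjective (LinearMap.range f)) z
    have h0 : g.lTensor (IsLocalRing.ResidueField A) q = 0 := by
      rw [← hgbπ, LinearMap.lTensor_comp]; exact hz
    obtain ⟨p, rfl⟩ := (hred q).mp h0
    rw [← LinearMap.comp_apply, ← LinearMap.lTensor_comp, hπf, LinearMap.lTensor_zero]; rfl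
  have hrange : LinearMap.range gb = LinearMap.range g := Submodule.range_liftQ _ _ _
  have hex : Function.Exact gb (LinearMap.range g).mkQ := by
    rw [LinearMap.exact_iff, Submodule.ker_mkQ, hrange]
  have flat1 : Module.Flat A (R ⧸ LinearMap.range g) :=
    flat_of_exact hm gb _ hex (Submodule.mkQ_surjective _) c1
  have inj : Function.Injective gb := injective_of_residue hm gb c1
  exact ⟨flat1, flat_of_exact_of_flat gb _ inj (Submodule.mkQ_surjective _) hex⟩

private lemma tr0 (A : Type u) [CommRing A] (k : Type u) [AddCommGroup k] [Module A k]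
    (C : CochainComplex (ModuleCat.{u} A) ℕ)
    (h : (((MonoidalCategory.tensorLeft (ModuleCat.of A k)).mapHomologicalComplex
        (ComplexShape.up ℕ)).obj C).ExactAt 0) :
    Function.Injective ((C.d 0 1).hom.lTensor k) := by
  rw [HomologicalComplex.exactAt_iff' _ 0 0 1 (by simp) (by simp)] at h
  have hf : ((((MonoidalCategory.tensorLeft (ModuleCat.of A k)).mapHomologicalComplex
        (ComplexShape.up ℕ)).obj C).sc' 0 0 1).f = 0 := by
    show (MonoidalCategory.tensorLeft (ModuleCat.of A k)).map (C.d 0 0) = 0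
    rw [C.shape 0 0 (by simp)]
    simp
  rw [ShortComplex.exact_iff_mono _ hf] at h
  rw [ModuleCat.mono_iff_injective] at h
  exact h

private lemma tr1 (A : Type u) [CommRing A] (k : Type u) [AddCommGroup k] [Module A k]
    (C : CochainComplex (ModuleCat.{u} A) ℕ) (j : ℕ)
    (h : (((MonoidalCategory.tensorLeft (ModuleCat.of A k)).mapHomologicalComplex
        (ComplexShape.up ℕ)).obj C).ExactAt (j+1)) :
    Function.Exact ((C.d j (j+1)).hom.lTensor k) ((C.d (j+1) (j+2)).hom.lTensor k) := by
  rw [HomologicalComplex.exactAt_iff' _ j (j+1) (j+2) (by simp) (by simp)] at h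
  rw [ShortComplex.ShortExact.moduleCat_exact_iff_function_exact] at h
  exact h


/-- Let A be an Artinian local ring with residue field k, n ≥ 1, and 0 → I → P₀ → P₁ → ⋯ → Pₙ a complex
of A-modules with P₀, …, Pₙ flat whose reduction 0 → k ⊗ I → k ⊗ P₀ → ⋯ → k ⊗ Pₙ is exact. Then I
and coker(Pₙ₋₁ → Pₙ) are flat. The complex is written as a cochain complex C indexed by ℕ with C⁰ =
I and Cⁱ⁺¹ = Pᵢ; its terms in degrees above n + 1 play no role. (The published statement adds that I
maps onto the kernel of k ⊗ P₀ → k ⊗ P₁, which is already part of the exactness hypothesis, and is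
for local Artinian algebras over an algebraically closed field of characteristic zero having that
field as residue field; this row allows any Artinian local ring.) -/
theorem result
    (A : Type u) [CommRing A] [IsLocalRing A] [IsArtinianRing A] (n : ℕ) (hn : 0 < n)
    (C : CochainComplex (ModuleCat.{u} A) ℕ)
    (hflat : ∀ i, i ≤ n → Module.Flat A (C.X (i + 1)))
    (hred : ∀ j, j ≤ n →
      (((MonoidalCategory.tensorLeft (ModuleCat.of A (IsLocalRing.ResidueField A))).mapHomologicalComplex
        (ComplexShape.up ℕ)).obj C).ExactAt j) :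
    Module.Flat A (C.X 0) ∧ Module.Flat A (C.X (n + 1) ⧸ LinearMap.range (C.d n (n + 1)).hom) := by
  have hm := Groth.Agent.Helper22.ArtFlat.isNilpotent_maximalIdeal A
  have e0 := tr0 A (IsLocalRing.ResidueField A) C (hred 0 (Nat.zero_le _))
  have ex : ∀ j, j + 1 ≤ n → Function.Exact
      ((C.d j (j+1)).hom.lTensor (IsLocalRing.ResidueField A))
      ((C.d (j+1) (j+2)).hom.lTensor (IsLocalRing.ResidueField A)) :=
    fun j hj => tr1 A (IsLocalRing.ResidueField A) C j (hred (j+1) hj)
  have dd : ∀ j, (C.d (j+1) (j+2)).hom ∘ₗ (C.d j (j+1)).hom = 0 := by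
    intro j; rw [← ModuleCat.hom_comp, C.d_comp_d]; rfl
  obtain ⟨m, rfl⟩ : ∃ m, n = m + 1 := ⟨n - 1, by omega⟩
  have fl2 : Module.Flat A (C.X (m+2)) := hflat (m+1) le_rfl
  have h2 := (lemX hm (C.d m (m+1)).hom (C.d (m+1) (m+2)).hom (dd m) (ex m le_rfl)).1
  have fl2' : Module.Flat A (C.X 2) := hflat 1 (by omega)
  have fl1 : Module.Flat A (C.X 1) := hflat 0 (by omega)
  have h1 := (lemX hm (C.d 0 1).hom (C.d 1 2).hom (dd 0) (ex 0 (by omega))).2
  have inj0 := Groth.Agent.Helper22.ArtFlat.injective_of_residue hm (C.d 0 1).hom e0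
  have h0 : Module.Flat A (C.X 0) :=
    Groth.Agent.Helper22.ArtFlat.flat_of_exact_of_flat (C.d 0 1).hom
      (LinearMap.range (C.d 0 1).hom).mkQ inj0 (Submodule.mkQ_surjective _)
      (LinearMap.exact_map_mkQ_range _)
  exact ⟨h0, h2⟩

end Groth.Agent.S15133
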