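import Groth.Statements.S15134
import Mathlib
import Groth.Agent.Lib.Helper18.ArtFunRS

set_option autoImplicit false
universe u v
open CategoryTheory
open ArtFun

namespace Groth.Agent.S15134

/-- Let k be a field and F a functor on local Artinian k-algebras with residue field k with F(k) a
point. If F satisfies (H2') — the comparison map F(A₁ ×_k A₂) → F(A₁) × F(A₂) is bijective for every
pair of objects — then F satisfies condition (L): for every small extension f : B → A with kernel J,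
writing P = B ×_k B, Q = A ×_k A, r : P → Q for the map induced by f, and C = P/K with K the ideal
of P consisting of the pairs (b, b) with b ∈ J, every element of F(Q) whose two images in F(A) agree
lifts along F(C) → F(Q). Here P and Q are pinned as fibre products over k, K is described through
the two projections, and the two inequalities on K (it lies in the maximal ideal of P and is killed
by r), which always hold, are taken as hypotheses so that the quotient object and the factored map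
can be named. -/
theorem result
    {k : Type u} [Field k] (F : ArtFun.Art k k ⥤ Type v) (h0 : ArtFun.H0 F)
    (h2' : ∀ ⦃P A' A'' : ArtFun.Art k k⦄ (p' : P ⟶ A') (p'' : P ⟶ A'')
      (h : ArtFun.Art.IsFibreProd p' p'' (ArtFun.Art.toBase A') (ArtFun.Art.toBase A'')),
      Function.Bijective (ArtFun.cmp F h))
    ⦃B A : ArtFun.Art k k⦄ (f : B ⟶ A) (hf : ArtFun.Art.IsSmallExt f)
    ⦃P : ArtFun.Art k k⦄ (p₁ p₂ : P ⟶ B)
    (hP : ArtFun.Art.IsFibreProd p₁ p₂ (ArtFun.Art.toBase B) (ArtFun.Art.toBase B))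
    ⦃Q : ArtFun.Art k k⦄ (q₁ q₂ : Q ⟶ A)
    (hQ : ArtFun.Art.IsFibreProd q₁ q₂ (ArtFun.Art.toBase A) (ArtFun.Art.toBase A))
    (r : P ⟶ Q) (hr₁ : r ≫ q₁ = p₁ ≫ f) (hr₂ : r ≫ q₂ = p₂ ≫ f)
    (hK : Ideal.span {z : P | p₁ z = p₂ z ∧ f (p₁ z) = 0} ≤ IsLocalRing.maximalIdeal P)
    (hKr : Ideal.span {z : P | p₁ z = p₂ z ∧ f (p₁ z) = 0} ≤ RingHom.ker r.toAlgHom)
    (y : F.obj Q) (hy : F.map q₁ y = F.map q₂ y) :
    ∃ z : F.obj (ArtFun.Art.quot P (Ideal.span {z : P | p₁ z = p₂ z ∧ f (p₁ z) = 0}) hK),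
      F.map (ArtFun.Art.quotFactor hK r hKr) z = y := by
  have hfs : Function.Surjective f := hf.1
  obtain ⟨δ, hδ1, hδ2⟩ := Groth.Agent.Helper18.fp_exists_lift hP (𝟙 B) (𝟙 B) rfl
  have d1 : ∀ b : B, p₁ (δ b) = b := fun b => congrArg (fun s : B ⟶ B => s b) hδ1
  have d2 : ∀ b : B, p₂ (δ b) = b := fun b => congrArg (fun s : B ⟶ B => s b) hδ2
  have he : IsIso (ArtFun.Art.quotFactor (Groth.Agent.Helper18.ker_le_maximalIdeal f) f le_rfl) :=
    Groth.Agent.Helper18.isIso_of_bijective _ (Groth.Agent.Helper18.quotFactor_ker_bijective f hfs)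
  have hτ : RingHom.ker f.toAlgHom ≤ RingHom.ker (δ ≫ ArtFun.Art.quotMk P _ hK).toAlgHom := by
    intro b hb
    rw [RingHom.mem_ker]
    show ArtFun.Art.quotMk P _ hK (δ b) = 0
    rw [Groth.Agent.Helper18.quotMk_eq_zero_iff]
    apply Ideal.subset_span
    exact ⟨by rw [d1, d2], by rw [d1]; exact hb⟩
  have c1 : ∀ b : B, q₁ (r (δ b)) = f b := fun b =>
    (congrArg (fun s : P ⟶ A => s (δ b)) hr₁).trans (by show f (p₁ (δ b)) = f b; rw [d1])
  have c2 : ∀ b : B, q₂ (r (δ b)) = f b := fun b =>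
    (congrArg (fun s : P ⟶ A => s (δ b)) hr₂).trans (by show f (p₂ (δ b)) = f b; rw [d2])
  have k1 : (inv (ArtFun.Art.quotFactor (Groth.Agent.Helper18.ker_le_maximalIdeal f) f le_rfl) ≫
      ArtFun.Art.quotFactor (Groth.Agent.Helper18.ker_le_maximalIdeal f)
        (δ ≫ ArtFun.Art.quotMk P _ hK) hτ) ≫ ArtFun.Art.quotFactor hK r hKr ≫ q₁ = 𝟙 A := by
    rw [Category.assoc, IsIso.inv_comp_eq, Category.comp_id]
    apply ArtFun.Art.hom_ext; apply AlgHom.ext; intro x
    obtain ⟨b, rfl⟩ := ArtFun.Art.quotMk_surjective B _ (Groth.Agent.Helper18.ker_le_maximalIdeal f) x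
    exact c1 b
  have k2 : (inv (ArtFun.Art.quotFactor (Groth.Agent.Helper18.ker_le_maximalIdeal f) f le_rfl) ≫
      ArtFun.Art.quotFactor (Groth.Agent.Helper18.ker_le_maximalIdeal f)
        (δ ≫ ArtFun.Art.quotMk P _ hK) hτ) ≫ ArtFun.Art.quotFactor hK r hKr ≫ q₂ = 𝟙 A := by
    rw [Category.assoc, IsIso.inv_comp_eq, Category.comp_id]
    apply ArtFun.Art.hom_ext; apply AlgHom.ext; intro x
    obtain ⟨b, rfl⟩ := ArtFun.Art.quotMk_surjective B _ (Groth.Agent.Helper18.ker_le_maximalIdeal f) x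
    exact c2 b
  refine ⟨F.map (inv (ArtFun.Art.quotFactor (Groth.Agent.Helper18.ker_le_maximalIdeal f) f le_rfl) ≫
      ArtFun.Art.quotFactor (Groth.Agent.Helper18.ker_le_maximalIdeal f)
        (δ ≫ ArtFun.Art.quotMk P _ hK) hτ) (F.map q₁ y), ?_⟩
  apply (h2' q₁ q₂ hQ).1
  apply ArtFun.FibProd.ext
  · show F.map q₁ (F.map (ArtFun.Art.quotFactor hK r hKr) _) = F.map q₁ y
    rw [← Functor.map_comp_apply, ← Functor.map_comp_apply, k1, Functor.map_id_apply]
  · show F.map q₂ (F.map (ArtFun.Art.quotFactor hK r hKr) _) = F.map q₂ y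
    rw [← Functor.map_comp_apply, ← Functor.map_comp_apply, k2, Functor.map_id_apply, hy]

end Groth.Agent.S15134
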