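import Groth.Statements.S15135
import Mathlib

set_option autoImplicit false
universe u v
open Deform

namespace Groth.Agent.S15135

/-- For R-modules M ⊆ N, the first-order embedded deformations of M in N are in canonical bijection with
Hom_R(M, N/M). Writing N ⊗ k[ε] = N ⊕ εN as N × N (the pair (x, y) standing for x + εy), such a
deformation is an R-submodule L of N × N which is stable under multiplication by ε (if (x, y) ∈ L
then (0, x) ∈ L), reduces to M (x ∈ M exactly when (x, y) ∈ L for some y) and is flat over the dual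
numbers, flatness being stated elementwise as: (0, y) ∈ L only if y ∈ M (for a submodule reducing to
M this is the equality of the kernel and the image of ε on L, i.e. flatness over k[ε] when R is an
algebra over a field k). To φ : M → N/M corresponds the submodule of all (x, y) with x ∈ M and y ≡
φ(x) mod M. The first clause says this rule defines exactly one submodule for each φ; the second
says that a submodule has the three properties precisely when its membership is given by this rule
for some φ. (The published statement is a linear isomorphism t_G ≅ Hom_R(M, N/M) for the functor G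
of flat deformations of M inside N ⊗ A over local Artinian algebras A; this row states only the
underlying bijection, and the obstruction half is not stated here.) -/
theorem result
    (R : Type u) [CommRing R] (N : Type v) [AddCommGroup N] [Module R N] (M : Submodule R N) :
    (∀ φ : M →ₗ[R] (N ⧸ M), ∃! L : Submodule R (N × N),
        ∀ x y : N, (x, y) ∈ L ↔ ∃ h : x ∈ M, Submodule.Quotient.mk y = φ ⟨x, h⟩) ∧
    (∀ L : Submodule R (N × N),
      ((∀ x y : N, (x, y) ∈ L → ((0 : N), x) ∈ L) ∧
        (∀ x : N, x ∈ M ↔ ∃ y : N, (x, y) ∈ L) ∧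
        (∀ y : N, ((0 : N), y) ∈ L → y ∈ M)) ↔
      ∃ φ : M →ₗ[R] (N ⧸ M), ∀ x y : N, (x, y) ∈ L ↔ ∃ h : x ∈ M, Submodule.Quotient.mk y = φ ⟨x, h⟩) := by
  constructor
  · intro φ
    refine ⟨{ carrier := {p | ∃ h : p.1 ∈ M, Submodule.Quotient.mk p.2 = φ ⟨p.1, h⟩}
              add_mem' := ?_, zero_mem' := ?_, smul_mem' := ?_ }, ?_, ?_⟩
    · rintro ⟨x1, y1⟩ ⟨x2, y2⟩ ⟨h1, e1⟩ ⟨h2, e2⟩
      refine ⟨M.add_mem h1 h2, ?_⟩
      have : (⟨x1 + x2, M.add_mem h1 h2⟩ : M) = ⟨x1, h1⟩ + ⟨x2, h2⟩ := rfl
      simp only [Prod.snd_add, Prod.fst_add] at *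
      rw [this, map_add, ← e1, ← e2]; rfl
    · refine ⟨M.zero_mem, ?_⟩
      have : (⟨0, M.zero_mem⟩ : M) = 0 := rfl
      simp only [Prod.snd_zero, Prod.fst_zero]
      rw [this, map_zero]; rfl
    · rintro c ⟨x, y⟩ ⟨h, e⟩
      refine ⟨M.smul_mem c h, ?_⟩
      have : (⟨c • x, M.smul_mem c h⟩ : M) = c • ⟨x, h⟩ := rfl
      simp only [Prod.smul_snd, Prod.smul_fst] at *
      rw [this, map_smul, ← e]; rfl
    · intro x y
      rfl
    · intro L' hL'
      ext ⟨x, y⟩
      rw [hL' x y]
      rfl
  · intro L
    constructor
    · rintro ⟨ha, hb, hc⟩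
      have hwd : ∀ x y y', (x, y) ∈ L → (x, y') ∈ L →
          (Submodule.Quotient.mk y : N ⧸ M) = Submodule.Quotient.mk y' := by
        intro x y y' h1 h2
        rw [Submodule.Quotient.eq]
        apply hc
        have := L.sub_mem h1 h2
        simpa using this
      choose f hf using fun x : M => (hb x.1).mp x.2
      refine ⟨{ toFun := fun x => Submodule.Quotient.mk (f x), map_add' := ?_, map_smul' := ?_ }, ?_⟩
      · intro x1 x2
        rw [← Submodule.Quotient.mk_add]
        apply hwd (x1 + x2 : M) _ _ (hf _)
        have := L.add_mem (hf x1) (hf x2)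
        simpa using this
      · intro c x
        rw [RingHom.id_apply, ← Submodule.Quotient.mk_smul]
        apply hwd (c • x : M) _ _ (hf _)
        have := L.smul_mem c (hf x)
        simpa using this
      · intro x y
        constructor
        · intro hxy
          have hx : x ∈ M := (hb x).mpr ⟨y, hxy⟩
          exact ⟨hx, hwd x _ _ hxy (hf ⟨x, hx⟩)⟩
        · rintro ⟨hx, e⟩
          have e' : (Submodule.Quotient.mk y : N ⧸ M) = Submodule.Quotient.mk (f ⟨x, hx⟩) := e
          rw [Submodule.Quotient.eq] at e'
          obtain ⟨z, hz⟩ := (hb _).mp e'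
          have h0 := ha _ _ hz
          have := L.add_mem (hf ⟨x, hx⟩) h0
          simpa using this
    · rintro ⟨φ, hφ⟩
      refine ⟨?_, ?_, ?_⟩
      · intro x y hxy
        obtain ⟨hx, _⟩ := (hφ x y).mp hxy
        rw [hφ]
        refine ⟨M.zero_mem, ?_⟩
        have : (⟨0, M.zero_mem⟩ : M) = 0 := rfl
        rw [this, map_zero, Submodule.Quotient.mk_eq_zero]
        exact hx
      · intro x
        constructor
        · intro hx
          obtain ⟨y, hy⟩ := Submodule.Quotient.mk_surjective M (φ ⟨x, hx⟩)
          exact ⟨y, (hφ x y).mpr ⟨hx, hy⟩⟩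
        · rintro ⟨y, hy⟩
          exact ((hφ x y).mp hy).1
      · intro y hy
        obtain ⟨h0, e⟩ := (hφ 0 y).mp hy
        have : (⟨0, h0⟩ : M) = 0 := rfl
        rw [this, map_zero, Submodule.Quotient.mk_eq_zero] at e
        exact e

end Groth.Agent.S15135
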