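import Groth.Statements.S15146
import Mathlib

set_option autoImplicit false
universe u
open HilbZeta

namespace Groth.Agent.S15146

private lemma div_lemma {k : Type u} [Field k] (p q : PowerSeries k) (l c : ℕ)
    (hp : p.order = (l : ℕ∞)) (hq : ((l + c : ℕ) : ℕ∞) ≤ q.order) :
    ∃ u : PowerSeries k, q = p * u ∧ (c : ℕ∞) ≤ u.order := by
  have hp0 : p ≠ 0 := by
    intro h; rw [h, PowerSeries.order_zero] at hp; exact ENat.top_ne_coe l hp
  have hl : p.order.toNat = l := by rw [hp]; rfl
  have hpf := PowerSeries.X_pow_order_mul_divXPowOrder (f := p)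
  rw [hl] at hpf
  have hp₀ : PowerSeries.constantCoeff (PowerSeries.divXPowOrder p) ≠ 0 := by
    rw [Ne, PowerSeries.constantCoeff_divXPowOrder_eq_zero_iff]; exact hp0
  obtain ⟨q₀, hq₀⟩ : (PowerSeries.X : PowerSeries k) ^ (l + c) ∣ q := by
    rw [PowerSeries.X_pow_dvd_iff]
    intro m hm
    exact PowerSeries.coeff_of_lt_order m (lt_of_lt_of_le (by exact_mod_cast hm) hq)
  refine ⟨PowerSeries.X ^ c * q₀ * (PowerSeries.divXPowOrder p)⁻¹, ?_, ?_⟩
  · have hinv := PowerSeries.mul_inv_cancel _ hp₀
    calc q = PowerSeries.X ^ (l + c) * q₀ := hq₀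
      _ = (PowerSeries.X ^ l * PowerSeries.divXPowOrder p) *
            (PowerSeries.X ^ c * q₀ * (PowerSeries.divXPowOrder p)⁻¹) := by
          rw [pow_add]
          have : PowerSeries.X ^ l * PowerSeries.divXPowOrder p *
              (PowerSeries.X ^ c * q₀ * (PowerSeries.divXPowOrder p)⁻¹) =
              PowerSeries.X ^ l * PowerSeries.X ^ c * q₀ *
                (PowerSeries.divXPowOrder p * (PowerSeries.divXPowOrder p)⁻¹) := by ring
          rw [this, hinv, mul_one]
      _ = p * _ := by rw [hpf]
  · calc (c : ℕ∞) = PowerSeries.order ((PowerSeries.X : PowerSeries k) ^ c) :=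
          (PowerSeries.order_X_pow c).symm
      _ ≤ PowerSeries.order ((PowerSeries.X : PowerSeries k) ^ c) +
            PowerSeries.order (q₀ * (PowerSeries.divXPowOrder p)⁻¹) := le_self_add
      _ ≤ PowerSeries.order (PowerSeries.X ^ c * (q₀ * (PowerSeries.divXPowOrder p)⁻¹)) :=
          PowerSeries.le_order_mul _ _
      _ = _ := by rw [mul_assoc]


/-- Let k be a field, s a natural number and R a k-subalgebra of the product of s copies of the power
series ring k[[x]], of finite codimension δ over k and local with residue field k (all components of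
an element of R have the same constant term); write v_i for the x-adic order of the i-th component
of an s-tuple, and let c = (c_1, …, c_s) be the conductor exponents, so that an s-tuple f satisfies
f·g ∈ R for every s-tuple g exactly when v_i(f) ≥ c_i for all i (over an algebraically closed field
such an R is precisely the completed local ring of a reduced curve singularity having s branches
sitting inside its normalisation, δ is its delta invariant and the conductor ideal is generated by
the x_i^{c_i}). If J is an ideal of R of finite colength which contains, for each i, an element f_i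
with v_i(f_i) = l_i, then every s-tuple g with v_i(g) ≥ l_i + c_i for all i lies in R and belongs to
J. (The published statement is over an algebraically closed field; this row allows any field.) -/
theorem result (k : Type u) [Field k] (s : ℕ)
    (R : Subalgebra k (Fin s → PowerSeries k))
    (hfin : Module.Finite k ((Fin s → PowerSeries k) ⧸ Subalgebra.toSubmodule R))
    (hloc : ∀ f ∈ R, ∀ i j : Fin s, PowerSeries.constantCoeff (f i) = PowerSeries.constantCoeff (f j))
    (c : Fin s → ℕ)
    (hc : ∀ f : Fin s → PowerSeries k,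
      (∀ g : Fin s → PowerSeries k, g * f ∈ R) ↔ ∀ i, ((c i : ℕ) : ℕ∞) ≤ (f i).order)
    (J : Ideal ↥R) (hJ : Module.Finite k (↥R ⧸ J))
    (l : Fin s → ℕ) (hl : ∀ i : Fin s, ∃ f ∈ J, ((f : Fin s → PowerSeries k) i).order = ((l i : ℕ) : ℕ∞))
    (g : Fin s → PowerSeries k) (hg : ∀ i : Fin s, ((l i + c i : ℕ) : ℕ∞) ≤ (g i).order) :
    ∃ hgR : g ∈ R, (⟨g, hgR⟩ : ↥R) ∈ J := by
  classical
  have hcond : ∀ f : Fin s → PowerSeries k, (∀ i, ((c i : ℕ) : ℕ∞) ≤ (f i).order) → f ∈ R := by
    intro f hf
    have := (hc f).mpr hf 1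
    rwa [one_mul] at this
  choose F hFJ hFl using hl
  have hdiv : ∀ i, ∃ u : PowerSeries k,
      g i = ((F i : ↥R) : Fin s → PowerSeries k) i * u ∧ ((c i : ℕ) : ℕ∞) ≤ u.order :=
    fun i => div_lemma _ _ (l i) (c i) (hFl i) (hg i)
  choose u hu1 hu2 using hdiv
  have hw : ∀ i, (Pi.single i (u i) : Fin s → PowerSeries k) ∈ R := by
    intro i
    apply hcond
    intro j
    by_cases hji : j = i
    · subst hji; rw [Pi.single_eq_same]; exact hu2 j
    · rw [Pi.single_eq_of_ne hji, PowerSeries.order_zero]; exact le_top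
  obtain ⟨G, hGdef⟩ : ∃ G : ↥R, G = ∑ i, F i * ⟨Pi.single i (u i), hw i⟩ := ⟨_, rfl⟩
  have hGJ : G ∈ J := by
    rw [hGdef]
    exact J.sum_mem (fun i _ => J.mul_mem_right _ (hFJ i))
  have hGval : (G : Fin s → PowerSeries k) = g := by
    rw [hGdef]
    funext j
    rw [AddSubmonoidClass.coe_finset_sum, Finset.sum_apply, Finset.sum_eq_single j]
    · show ((F j : ↥R) : Fin s → PowerSeries k) j *
        (Pi.single j (u j) : Fin s → PowerSeries k) j = g j
      rw [Pi.single_eq_same, ← hu1 j]
    · intro i _ hij
      show ((F i : ↥R) : Fin s → PowerSeries k) j *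
        (Pi.single i (u i) : Fin s → PowerSeries k) j = 0
      rw [Pi.single_eq_of_ne (Ne.symm hij), mul_zero]
    · intro h; exact absurd (Finset.mem_univ j) h
  have hgR : g ∈ R := by rw [← hGval]; exact G.2
  refine ⟨hgR, ?_⟩
  have : (⟨g, hgR⟩ : ↥R) = G := Subtype.ext hGval.symm
  rw [this]; exact hGJ

end Groth.Agent.S15146
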