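import Groth.Statements.S15148
import Mathlib
import Groth.Agent.S15147
import Groth.Agent.Lib.Helper22.HilbZ2

set_option autoImplicit false
universe u
open HilbZeta

namespace Groth.Agent.S15148

open Groth.Agent.Helper22.HilbZ in

/-- Let k be a field, s a natural number and R a k-subalgebra of the product of s copies of the power
series ring k[[x]], of finite codimension δ over k and local with residue field k (all components of
an element of R have the same constant term); write v_i for the x-adic order of the i-th component
of an s-tuple, and let c = (c_1, …, c_s) be the conductor exponents, so that an s-tuple f satisfies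
f·g ∈ R for every s-tuple g exactly when v_i(f) ≥ c_i for all i (over an algebraically closed field
such an R is precisely the completed local ring of a reduced curve singularity having s branches
sitting inside its normalisation, δ is its delta invariant and the conductor ideal is generated by
the x_i^{c_i}), and put C = c_1 + ⋯ + c_s. Let I be an ideal of R of finite colength d with
branch-length vector a (for every i the ideal of k[[x]] generated by the i-th components of the
elements of I is (x^{a_i})). Then −δ ≤ d − Σ a_i ≤ C − δ, and the second inequality is strict when R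
is not the whole product (the singularity is not smooth). (The published statement is over an
algebraically closed field; this row allows any field.) -/
theorem result (k : Type u) [Field k] (s : ℕ)
    (R : Subalgebra k (Fin s → PowerSeries k))
    (hfin : Module.Finite k ((Fin s → PowerSeries k) ⧸ Subalgebra.toSubmodule R))
    (hloc : ∀ f ∈ R, ∀ i j : Fin s, PowerSeries.constantCoeff (f i) = PowerSeries.constantCoeff (f j))
    (c : Fin s → ℕ)
    (hc : ∀ f : Fin s → PowerSeries k,
      (∀ g : Fin s → PowerSeries k, g * f ∈ R) ↔ ∀ i, ((c i : ℕ) : ℕ∞) ≤ (f i).order)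
    (I : Ideal ↥R) (hI : Module.Finite k (↥R ⧸ I)) (a : Fin s → ℕ)
    (ha : (∀ i : Fin s, Ideal.map ((Pi.evalAlgHom k (fun _ : Fin s => PowerSeries k) i).comp R.val) I = Ideal.span {PowerSeries.X ^ (a i)})) :
    (∑ i, a i) ≤ Module.finrank k (↥R ⧸ I) + Module.finrank k ((Fin s → PowerSeries k) ⧸ Subalgebra.toSubmodule R) ∧
    Module.finrank k (↥R ⧸ I) + Module.finrank k ((Fin s → PowerSeries k) ⧸ Subalgebra.toSubmodule R) ≤ (∑ i, a i) + ∑ i, c i ∧
    (R ≠ ⊤ → Module.finrank k (↥R ⧸ I) + Module.finrank k ((Fin s → PowerSeries k) ⧸ Subalgebra.toSubmodule R) < (∑ i, a i) + ∑ i, c i) := by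
  classical
  obtain ⟨h1, h2⟩ := Groth.Agent.S15147.result k s R hfin hloc c hc I hI a ha
  have hle1 : img R I ≤ Fil (k := k) a := by
    intro x hx
    obtain ⟨hxR, hxI⟩ := (mem_img R).1 hx
    rw [mem_Fil_iff]
    exact h2 ⟨x, hxR⟩ hxI
  have hle2 : Fil (k := k) (a + c) ≤ img R I := by
    intro g hg
    rw [mem_Fil_iff] at hg
    obtain ⟨hgR, hgI⟩ := h1 g (fun i => by simpa using hg i)
    exact (mem_img R).2 ⟨hgR, hgI⟩
  haveI hfi : Module.Finite k ((Fin s → PowerSeries k) ⧸ img R I) := finite_img R hfin I hI
  have hr := finrank_img R I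
  have e1 := finrank_le_of_le hle1
  have e2 := finrank_le_of_le hle2
  rw [finrank_quot_Fil] at e1 e2
  have hsum : ∑ i, (a + c) i = ∑ i, a i + ∑ i, c i := by simp [Finset.sum_add_distrib]
  refine ⟨by omega, by omega, ?_⟩
  intro hRtop
  have hex : ∃ i, 0 < c i := by
    by_contra hcon
    push Not at hcon
    apply hRtop
    have h1R : ∀ g : Fin s → PowerSeries k, g * 1 ∈ R := (hc 1).2 (fun i => by
      have : c i = 0 := Nat.le_zero.1 (hcon i)
      rw [this]; simp)
    rw [Algebra.eq_top_iff]
    intro g
    simpa using h1R g
  obtain ⟨i, hi⟩ := hex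
  obtain ⟨f, hfI, hford⟩ := exists_order_eq R I i (a i) (ha i)
  have hfimg : (f : Fin s → PowerSeries k) ∈ img R I := coe_mem_img R hfI
  have hfnot : (f : Fin s → PowerSeries k) ∉ Fil (k := k) (a + c) := by
    intro hmem
    rw [mem_Fil_iff] at hmem
    have h3 := hmem i
    rw [hford] at h3
    have h' : (a + c) i ≤ a i := by exact_mod_cast h3
    simp at h'
    omega
  have e3 := finrank_lt_of_lt hle2 hfimg hfnot
  rw [finrank_quot_Fil] at e3
  omega

end Groth.Agent.S15148
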