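import Groth.Statements.S15149
import Mathlib
import Groth.Agent.Lib.Helper22.HilbZ3

set_option autoImplicit false
universe u
open HilbZeta

namespace Groth.Agent.S15149

open Groth.Agent.Helper22.HilbZ in

/-- Let k be a field, s a natural number and R a k-subalgebra of the product of s copies of the power
series ring k[[x]], of finite codimension δ over k and local with residue field k (all components of
an element of R have the same constant term); write v_i for the x-adic order of the i-th component
of an s-tuple, and let c = (c_1, …, c_s) be the conductor exponents, so that an s-tuple f satisfies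
f·g ∈ R for every s-tuple g exactly when v_i(f) ≥ c_i for all i (over an algebraically closed field
such an R is precisely the completed local ring of a reduced curve singularity having s branches
sitting inside its normalisation, δ is its delta invariant and the conductor ideal is generated by
the x_i^{c_i}). Fix a branch j, a colength d and a branch-length vector a = (a_1, …, a_s) with a_j ≥
c_j, and let ξ be the s-tuple with x in the j-th place and 1 elsewhere. Call an ideal I of R of type
(d, a) when it has colength d and, for every i, the ideal of k[[x]] generated by the i-th components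
of its elements is (x^{a_i}). Then multiplication by ξ is a bijection from the ideals of type (d, a)
onto the ideals of type (d + 1, a + e_j), where a + e_j is a with its j-th entry raised by one: for
every ideal I of type (d, a) the set ξ·I is (the image of) an ideal of type (d + 1, a + e_j), and
every ideal of type (d + 1, a + e_j) is ξ·I for some ideal I of type (d, a). (The published
statement is the equality, in the Grothendieck ring of varieties, of the classes of the two
corresponding branch-length strata of the punctual Hilbert scheme; this row states the bijection on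
ideals underlying it, which is what the argument establishes; the published statement is over an
algebraically closed field, and this row allows any field.) -/
theorem result (k : Type u) [Field k] (s : ℕ)
    (R : Subalgebra k (Fin s → PowerSeries k))
    (hfin : Module.Finite k ((Fin s → PowerSeries k) ⧸ Subalgebra.toSubmodule R))
    (hloc : ∀ f ∈ R, ∀ i j : Fin s, PowerSeries.constantCoeff (f i) = PowerSeries.constantCoeff (f j))
    (c : Fin s → ℕ)
    (hc : ∀ f : Fin s → PowerSeries k,
      (∀ g : Fin s → PowerSeries k, g * f ∈ R) ↔ ∀ i, ((c i : ℕ) : ℕ∞) ≤ (f i).order)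
    (j : Fin s) (d : ℕ) (a : Fin s → ℕ) (hj : c j ≤ a j) :
    (∀ I ∈ {I : Ideal ↥R | Module.Finite k (↥R ⧸ I) ∧ Module.finrank k (↥R ⧸ I) = d ∧ (∀ i : Fin s, Ideal.map ((Pi.evalAlgHom k (fun _ : Fin s => PowerSeries k) i).comp R.val) I = Ideal.span {PowerSeries.X ^ (a i)})},
      ∃ J ∈ {I : Ideal ↥R | Module.Finite k (↥R ⧸ I) ∧ Module.finrank k (↥R ⧸ I) = d + 1 ∧ (∀ i : Fin s, Ideal.map ((Pi.evalAlgHom k (fun _ : Fin s => PowerSeries k) i).comp R.val) I = Ideal.span {PowerSeries.X ^ ((Function.update a j (a j + 1)) i)})},
        (Subtype.val '' (J : Set ↥R)) = (fun f => Pi.mulSingle j PowerSeries.X * f) '' (Subtype.val '' (I : Set ↥R))) ∧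
    (∀ J ∈ {I : Ideal ↥R | Module.Finite k (↥R ⧸ I) ∧ Module.finrank k (↥R ⧸ I) = d + 1 ∧ (∀ i : Fin s, Ideal.map ((Pi.evalAlgHom k (fun _ : Fin s => PowerSeries k) i).comp R.val) I = Ideal.span {PowerSeries.X ^ ((Function.update a j (a j + 1)) i)})},
      ∃ I ∈ {I : Ideal ↥R | Module.Finite k (↥R ⧸ I) ∧ Module.finrank k (↥R ⧸ I) = d ∧ (∀ i : Fin s, Ideal.map ((Pi.evalAlgHom k (fun _ : Fin s => PowerSeries k) i).comp R.val) I = Ideal.span {PowerSeries.X ^ (a i)})},
        (Subtype.val '' (J : Set ↥R)) = (fun f => Pi.mulSingle j PowerSeries.X * f) '' (Subtype.val '' (I : Set ↥R))) := by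
  classical
  have hcj : ((c j : ℕ) : ℕ∞) ≤ ((a j : ℕ) : ℕ∞) := by exact_mod_cast hj
  have hcomp : ∀ i : Fin s, Ideal.span {xi (k := k) j i} * Ideal.span {PowerSeries.X ^ (a i)} =
      Ideal.span {PowerSeries.X ^ ((Function.update a j (a j + 1)) i)} := by
    intro i
    rw [Ideal.span_singleton_mul_span_singleton]
    rcases eq_or_ne i j with rfl | hij
    · rw [xi_same, Function.update_self, pow_succ']
    · rw [xi_ne hij, Function.update_of_ne hij, one_mul]
  constructor
  · rintro I ⟨hIfin, hId, hIa⟩
    have hmem : ∀ f ∈ I, xi j * (f : Fin s → PowerSeries k) ∈ R := fun f hf =>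
      xi_mul_mem R c hc j f.2 (le_trans hcj (le_order_of_map_eq R I j (a j) (hIa j) f hf))
    have hset := ideA_set R I j hmem
    obtain ⟨hJfin, hJd⟩ := colength_fwd R hfin j (img_eq_map R j hset) hIfin
    refine ⟨ideA R I j, ⟨hJfin, by rw [hJd, hId], ?_⟩, hset⟩
    intro i
    have h1 := map_br_eq R j hset i
    rw [show Ideal.map (br R i) I = Ideal.span {PowerSeries.X ^ (a i)} from hIa i, hcomp i] at h1
    exact h1
  · rintro J ⟨hJfin, hJd, hJa⟩
    have hmem : ∀ t ∈ J, ∃ r ∈ R, (t : Fin s → PowerSeries k) = xi j * r := fun t ht => by
      have h1 := le_order_of_map_eq R J j _ (hJa j) t ht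
      rw [Function.update_self] at h1
      exact exists_eq_xi_mul R c hc j (a j) hj t.2 h1
    have hset := ideB_set R J j hmem
    obtain ⟨hIfin, hId⟩ := colength_bwd R hfin j (img_eq_map R j hset) hJfin
    refine ⟨ideB R J j, ⟨hIfin, by omega, ?_⟩, hset⟩
    intro i
    have h1 := map_br_eq R j hset i
    rw [show Ideal.map (br R i) J = Ideal.span {PowerSeries.X ^ ((Function.update a j (a j + 1)) i)}
      from hJa i, ← hcomp i] at h1
    exact ((Ideal.span_singleton_mul_right_inj (xi_apply_ne_zero j i)).1 h1).symm

end Groth.Agent.S15149
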