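import Groth.Statements.S15150
import Mathlib

set_option autoImplicit false
universe u
open HilbZeta

namespace Groth.Agent.S15150

open scoped TensorProduct

theorem nil_pow_eq_bot {K B : Type*} [Field K] [CommRing B] [Algebra K B] [FiniteDimensional K B]
    (n : Ideal B) (hn : ∀ x ∈ n, IsNilpotent x) (d : ℕ) (hd : Module.finrank K B = d) :
    n ^ d = ⊥ := by
  have hjac : n ≤ Ideal.jacobson ⊥ := by
    intro x hx
    obtain ⟨m, hm⟩ := hn x hx
    have hx' : x ∈ (⊥ : Ideal B).radical := ⟨m, by rw [hm]; exact (⊥ : Ideal B).zero_mem⟩
    exact Ideal.radical_le_jacobson hx'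
  haveI : IsNoetherianRing B := isNoetherian_of_tower K (inferInstance : IsNoetherian K B)
  have key : ∀ j : ℕ, n ^ j = ⊥ ∨ Module.finrank K ((n ^ j).restrictScalars K) + j ≤ d := by
    intro j
    induction j with
    | zero =>
      right
      rw [pow_zero, Ideal.one_eq_top, Submodule.restrictScalars_top, finrank_top, hd]
      omega
    | succ j ih =>
      rcases ih with h | h
      · left
        rw [pow_succ, h, Ideal.bot_mul]
      · by_cases heq : n ^ (j + 1) = n ^ j
        · left
          have hle : n ^ j ≤ n • n ^ j := by
            rw [smul_eq_mul, ← pow_succ', heq]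
          have hbot := Submodule.eq_bot_of_le_smul_of_le_jacobson_bot n (n ^ j)
            (IsNoetherian.noetherian _) hle hjac
          rw [pow_succ, hbot, Ideal.bot_mul]
        · right
          have hlt : n ^ (j + 1) < n ^ j :=
            lt_of_le_of_ne (Ideal.pow_le_pow_right (Nat.le_succ j)) heq
          have hlt' : (n ^ (j + 1)).restrictScalars K < (n ^ j).restrictScalars K :=
            (Submodule.restrictScalarsEmbedding K B B).strictMono hlt
          have := Submodule.finrank_lt_finrank_of_lt hlt'
          omega
  rcases key d with h | h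
  · exact h
  · have h0 : Module.finrank K ((n ^ d).restrictScalars K) = 0 := by omega
    rw [Submodule.finrank_eq_zero] at h0
    exact (Submodule.restrictScalars_eq_bot_iff _ _ _).1 h0


/-- Let A be a reduced commutative ring, S an A-algebra together with an A-algebra homomorphism π : S →
A (a section of Spec S → Spec A), with kernel m, and I an ideal of S such that S/I is a finite
projective A-module of constant rank d and m is contained in the radical of I (the finite flat
subscheme Spec S/I of degree d lies, as a set, on the section). Then m^d ⊆ I: the subscheme lies in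
the (d−1)-st infinitesimal neighbourhood of the section. (The published statement is for a closed
subscheme, flat and proper of degree d over a Noetherian base, of a family of reduced curve
singularities with a section, with no reducedness assumption on the base; over the dual numbers k[ε]
the ideal (x − ε) of k[ε][x] has quotient free of rank one and radical containing x but does not
contain x, so the base is taken reduced here, and the statement is given in its affine form, to
which the argument reduces at once; the curve hypotheses play no role and are dropped; the condition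
that Spec S/I lies set-theoretically on the section, which the published argument deduces from
properness of Z inside the germ, is a hypothesis here.) -/
theorem result (A : Type u) [CommRing A] [IsReduced A]
    (S : Type u) [CommRing S] [Algebra A S] (π : S →ₐ[A] A) (I : Ideal S) (d : ℕ)
    [Module.Finite A (S ⧸ I)] [Module.Projective A (S ⧸ I)]
    (hrank : ∀ p : PrimeSpectrum A, Module.rankAtStalk (R := A) (S ⧸ I) p = d)
    (hsupp : RingHom.ker π ≤ I.radical) :
    RingHom.ker π ^ d ≤ I := by
  intro s hs
  rw [← Ideal.Quotient.eq_zero_iff_mem]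
  have hy_mem : Ideal.Quotient.mk I s ∈
      (Ideal.map (Ideal.Quotient.mk I) (RingHom.ker π)) ^ d := by
    rw [← Ideal.map_pow]
    exact Ideal.mem_map_of_mem _ hs
  have hnil : ∀ x ∈ Ideal.map (Ideal.Quotient.mk I) (RingHom.ker π), IsNilpotent x := by
    have hle : Ideal.map (Ideal.Quotient.mk I) (RingHom.ker π) ≤ nilradical (S ⧸ I) := by
      rw [Ideal.map_le_iff_le_comap]
      intro x hx
      obtain ⟨k, hk⟩ := hsupp hx
      rw [Ideal.mem_comap, mem_nilradical]
      exact ⟨k, by rw [← map_pow]; exact Ideal.Quotient.eq_zero_iff_mem.2 hk⟩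
    intro x hx
    exact mem_nilradical.1 (hle hx)
  by_contra hy0
  obtain ⟨sfun, hsfun⟩ := Module.projective_def'.1 (inferInstance : Module.Projective A (S ⧸ I))
  have hsy : sfun (Ideal.Quotient.mk I s) ≠ 0 := by
    intro h0
    apply hy0
    have := LinearMap.congr_fun hsfun (Ideal.Quotient.mk I s)
    rw [LinearMap.comp_apply, h0, map_zero] at this
    exact this.symm
  obtain ⟨b, hb⟩ : ∃ b, sfun (Ideal.Quotient.mk I s) b ≠ 0 := by
    by_contra hcon
    push Not at hcon
    exact hsy (Finsupp.ext hcon)
  set φ : (S ⧸ I) →ₗ[A] A := (Finsupp.lapply b) ∘ₗ sfun with hφ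
  have hφy : φ (Ideal.Quotient.mk I s) ≠ 0 := hb
  -- a prime avoiding φ y
  obtain ⟨p, hp, hpy⟩ : ∃ p : Ideal A, p.IsPrime ∧ φ (Ideal.Quotient.mk I s) ∉ p := by
    by_contra hcon
    push Not at hcon
    apply hφy
    apply IsReduced.eq_zero
    rw [← mem_nilradical, nilradical_eq_sInf, Submodule.mem_sInf]
    intro J hJ
    exact hcon J hJ
  haveI := hp
  have hfin : Module.finrank p.ResidueField (p.ResidueField ⊗[A] (S ⧸ I)) = d :=
    (Module.rankAtStalk_eq (M := S ⧸ I) ⟨p, hp⟩).symm.trans (hrank ⟨p, hp⟩)
  set ι : (S ⧸ I) →ₐ[A] p.ResidueField ⊗[A] (S ⧸ I) := Algebra.TensorProduct.includeRight with hι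
  have hn : ∀ x ∈ Ideal.map ι (Ideal.map (Ideal.Quotient.mk I) (RingHom.ker π)),
      IsNilpotent x := by
    have hle : Ideal.map ι (Ideal.map (Ideal.Quotient.mk I) (RingHom.ker π)) ≤
        nilradical (p.ResidueField ⊗[A] (S ⧸ I)) := by
      rw [Ideal.map_le_iff_le_comap]
      intro x hx
      rw [Ideal.mem_comap, mem_nilradical]
      exact (hnil x hx).map ι
    intro x hx
    exact mem_nilradical.1 (hle hx)
  have hbot := nil_pow_eq_bot (K := p.ResidueField) _ hn d hfin
  have hιy : ι (Ideal.Quotient.mk I s) = 0 := by
    have : ι (Ideal.Quotient.mk I s) ∈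
        (Ideal.map ι (Ideal.map (Ideal.Quotient.mk I) (RingHom.ker π))) ^ d := by
      rw [← Ideal.map_pow]
      exact Ideal.mem_map_of_mem _ hy_mem
    rw [hbot] at this
    exact this
  have h1 : (TensorProduct.rid A p.ResidueField)
      (LinearMap.lTensor p.ResidueField φ (ι (Ideal.Quotient.mk I s))) = 0 := by
    rw [hιy, map_zero, map_zero]
  rw [hι, Algebra.TensorProduct.includeRight_apply, LinearMap.lTensor_tmul,
    TensorProduct.rid_tmul, Algebra.smul_def, mul_one,
    Ideal.algebraMap_residueField_eq_zero] at h1
  exact hpy h1

end Groth.Agent.S15150
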