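import Groth.Statements.S15151
import Mathlib

set_option autoImplicit false
universe u
open CategoryTheory AlgebraicGeometry
open HilbZeta

namespace Groth.Agent.S15151

/-- Let k be a field, and let f : X → Y and g : Y → Spec k[t] be morphisms of schemes with f
quasi-compact and with zero kernel ideal sheaf (Y is the scheme-theoretic image of f), such that the
composite X → Spec k[t] is flat. Then g is flat; in particular a k[t]-subalgebra of a flat
k[t]-algebra is flat. (The published statement has no quasi-compactness hypothesis on f and is over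
an algebraically closed field; this row assumes f quasi-compact and allows any field.) -/
theorem result (k : Type u) [Field k]
    (X Y : Scheme.{u}) (f : X ⟶ Y) (g : Y ⟶ Spec (CommRingCat.of (Polynomial k)))
    [QuasiCompact f] (hker : f.ker = ⊥) [Flat (f ≫ g)] : Flat g := by
  classical
  let e : Γ(Spec (CommRingCat.of (Polynomial k)), ⊤) ≃+* Polynomial k :=
    (Scheme.ΓSpecIso (CommRingCat.of (Polynomial k))).commRingCatIsoToRingEquiv
  haveI : IsDomain Γ(Spec (CommRingCat.of (Polynomial k)), ⊤) :=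
    MulEquiv.isDomain (Polynomial k) e.toMulEquiv
  haveI : IsPrincipalIdealRing Γ(Spec (CommRingCat.of (Polynomial k)), ⊤) :=
    IsPrincipalIdealRing.of_surjective e.symm.toRingHom e.symm.surjective
  rw [HasRingHomProperty.iff_of_iSup_eq_top (P := @Flat) (fun V : Y.affineOpens => V)
    (iSup_affineOpens_eq_top Y)]
  intro V
  set φ : Γ(Spec (CommRingCat.of (Polynomial k)), ⊤) →+* Γ(Y, V.1) :=
    (g.appLE ⊤ V.1 le_top).hom with hφ
  letI : Algebra Γ(Spec (CommRingCat.of (Polynomial k)), ⊤) Γ(Y, V.1) := φ.toAlgebra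
  show Module.Flat Γ(Spec (CommRingCat.of (Polynomial k)), ⊤) Γ(Y, V.1)
  rw [Module.Flat.flat_iff_torsion_eq_bot_of_isBezout, Submodule.eq_bot_iff]
  intro y hy
  rw [Submodule.mem_torsion_iff] at hy
  obtain ⟨⟨a, ha⟩, hay⟩ := hy
  have hay' : φ a * y = 0 := by
    have h2 : a • y = 0 := hay
    rwa [Algebra.smul_def] at h2
  have hinj : Function.Injective (f.app V.1).hom := by
    rw [RingHom.injective_iff_ker_eq_bot, ← Scheme.Hom.ker_apply f V, hker]
    rfl
  apply hinj
  rw [map_zero]
  apply X.IsSheaf.section_ext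
  intro x hx
  obtain ⟨W, hW, hxW, hWV⟩ := exists_isAffineOpen_mem_and_subset (x := x) (U := f ⁻¹ᵁ V.1) hx
  refine ⟨W, hWV, hxW, ?_⟩
  rw [map_zero]
  have hfl : ((f ≫ g).appLE ⊤ W le_top).hom.Flat :=
    HasRingHomProperty.appLE (P := @Flat) (f ≫ g) inferInstance
      ⟨⊤, isAffineOpen_top _⟩ ⟨W, hW⟩ le_top
  have hcomp : ((f ≫ g).appLE ⊤ W le_top) = g.appLE ⊤ V.1 le_top ≫ f.appLE V.1 W hWV := by
    rw [Scheme.Hom.appLE_comp_appLE]
  have key : (f.appLE V.1 W hWV).hom y = 0 := by
    letI : Algebra Γ(Spec (CommRingCat.of (Polynomial k)), ⊤) Γ(X, W) :=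
      ((f ≫ g).appLE ⊤ W le_top).hom.toAlgebra
    haveI : Module.Flat Γ(Spec (CommRingCat.of (Polynomial k)), ⊤) Γ(X, W) := hfl
    have hreg := Module.Flat.isSMulRegular_of_nonZeroDivisors (M := Γ(X, W)) ha
    apply hreg
    show a • (f.appLE V.1 W hWV).hom y = a • 0
    rw [smul_zero, Algebra.smul_def]
    show ((f ≫ g).appLE ⊤ W le_top).hom a * (f.appLE V.1 W hWV).hom y = 0
    rw [hcomp]
    show (f.appLE V.1 W hWV).hom (φ a) * (f.appLE V.1 W hWV).hom y = 0
    rw [← map_mul, hay', map_zero]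
  exact key

end Groth.Agent.S15151
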