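import Groth.Statements.S15152
import Mathlib

set_option autoImplicit false
universe u
open HilbZeta

namespace Groth.Agent.S15152

/-- Let k be a field, s a natural number and R a k-subalgebra of the product of s copies of the power
series ring k[[x]], of finite codimension δ over k and local with residue field k (all components of
an element of R have the same constant term); write v_i for the x-adic order of the i-th component
of an s-tuple, and let c = (c_1, …, c_s) be the conductor exponents, so that an s-tuple f satisfies
f·g ∈ R for every s-tuple g exactly when v_i(f) ≥ c_i for all i (over an algebraically closed field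
such an R is precisely the completed local ring of a reduced curve singularity having s branches
sitting inside its normalisation, δ is its delta invariant and the conductor ideal is generated by
the x_i^{c_i}). Let A be the k-subalgebra of the product of s polynomial rings k[x] consisting of
the tuples whose image in the power series product lies in R, and m₀ its ideal of tuples with zero
constant terms. Then: A is of finite type over k and has no idempotents besides 0 and 1; the product
of polynomial rings is a finite A-module, and for some N every product of N elements of m₀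
multiplies all of it into A; every element of R is approximated to any x-adic order by elements of
A; and for every N there is an M such that every element of A whose components are all divisible by
x^M lies in m₀^N. In words: Y = Spec A is a connected affine curve whose normalisation is the
disjoint union of s affine lines and is an isomorphism away from the origin, and the completed local
ring of Y at the origin is R, compatibly with the inclusion of the polynomial product in the power
series product. (The published statement asserts the existence of such a curve Y and is over an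
algebraically closed field; this row names Y and allows any field.) -/
theorem result (k : Type u) [Field k] (s : ℕ)
    (R : Subalgebra k (Fin s → PowerSeries k))
    (hfin : Module.Finite k ((Fin s → PowerSeries k) ⧸ Subalgebra.toSubmodule R))
    (hloc : ∀ f ∈ R, ∀ i j : Fin s, PowerSeries.constantCoeff (f i) = PowerSeries.constantCoeff (f j))
    (c : Fin s → ℕ)
    (hc : ∀ f : Fin s → PowerSeries k,
      (∀ g : Fin s → PowerSeries k, g * f ∈ R) ↔ ∀ i, ((c i : ℕ) : ℕ∞) ≤ (f i).order)
    (A : Subalgebra k (Fin s → Polynomial k))
    (hA : ∀ g : Fin s → Polynomial k, g ∈ A ↔ (fun i => ((g i : Polynomial k) : PowerSeries k)) ∈ R) :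
    Algebra.FiniteType k ↥A ∧
    (∀ e ∈ A, e * e = e → e = 0 ∨ e = 1) ∧
    Module.Finite ↥A (Fin s → Polynomial k) ∧
    (∃ N : ℕ, ∀ g : Fin N → (Fin s → Polynomial k),
      (∀ n, g n ∈ A ∧ ∀ i, (g n i).coeff 0 = 0) → ∀ p : Fin s → Polynomial k, p * ∏ n, g n ∈ A) ∧
    (∀ f ∈ R, ∀ N : ℕ, ∃ g ∈ A, ∀ i : Fin s, (N : ℕ∞) ≤ (f i - ((g i : Polynomial k) : PowerSeries k)).order) ∧
    (∀ N : ℕ, ∃ M : ℕ, ∀ g : ↥A, (∀ i : Fin s, Polynomial.X ^ M ∣ (g : Fin s → Polynomial k) i) →
      g ∈ (Ideal.span {h : ↥A | ∀ i : Fin s, ((h : Fin s → Polynomial k) i).coeff 0 = 0}) ^ N) := by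
  classical
  obtain ⟨C, hC⟩ : ∃ C : ℕ, C = 1 + ∑ i, c i := ⟨_, rfl⟩
  have hC1 : 1 ≤ C := by omega
  have hcC : ∀ i, c i ≤ C := fun i => by
    have := Finset.single_le_sum (f := c) (fun j _ => Nat.zero_le _) (Finset.mem_univ i)
    omega
  -- conductor lemma
  have condA : ∀ p : Fin s → Polynomial k, (∀ i, (Polynomial.X : Polynomial k) ^ (c i) ∣ p i) →
      ∀ q : Fin s → Polynomial k, q * p ∈ A := by
    intro p hp q
    refine (hA _).2 ?_
    have e : (fun i => (((q * p) i : Polynomial k) : PowerSeries k)) =
        (fun i => ((q i : Polynomial k) : PowerSeries k)) *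
          (fun i => ((p i : Polynomial k) : PowerSeries k)) := by
      funext i
      exact Polynomial.coe_mul (q i) (p i)
    rw [e]
    refine (hc _).2 (fun i => ?_) _
    refine PowerSeries.nat_le_order _ _ (fun d hd => ?_)
    show (PowerSeries.coeff d) ((p i : Polynomial k) : PowerSeries k) = 0
    rw [Polynomial.coeff_coe]
    exact Polynomial.X_pow_dvd_iff.1 (hp i) d hd
  have condA' : ∀ p : Fin s → Polynomial k,
      (∀ i, (Polynomial.X : Polynomial k) ^ (c i) ∣ p i) → p ∈ A := by
    intro p hp
    have := condA p hp 1
    rwa [one_mul] at this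
  -- single maps
  obtain ⟨E, hEsame, hEne, hEsum⟩ :
      ∃ E : Fin s → (Polynomial k →ₗ[k] (Fin s → Polynomial k)),
      (∀ i q, E i q i = q) ∧ (∀ i q j, j ≠ i → E i q j = 0) ∧
      (∀ p : Fin s → Polynomial k, p = ∑ i, E i (p i)) := by
    refine ⟨fun i => LinearMap.single k (fun _ : Fin s => Polynomial k) i, ?_, ?_, ?_⟩
    · intro i q
      show (Pi.single i q : Fin s → Polynomial k) i = q
      rw [Pi.single_eq_same]
    · intro i q j hj
      show (Pi.single i q : Fin s → Polynomial k) j = 0
      rw [Pi.single_eq_of_ne hj]
    · intro p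
      exact (Finset.univ_sum_single p).symm
  have hEdvd : ∀ (i : Fin s) (q : Polynomial k), (Polynomial.X : Polynomial k) ^ C ∣ q →
      ∀ j, (Polynomial.X : Polynomial k) ^ (c j) ∣ E i q j := by
    intro i q hq j
    by_cases hj : j = i
    · subst hj
      rw [hEsame]
      exact dvd_trans (pow_dvd_pow _ (hcC _)) hq
    · rw [hEne i q j hj]
      exact dvd_zero _
  -- (3)
  have h3 : Module.Finite ↥A (Fin s → Polynomial k) := by
    refine ⟨Submodule.fg_def.2 ⟨{1} ∪ Set.range
      (fun ij : Fin s × Fin C => E ij.1 ((Polynomial.X : Polynomial k) ^ (ij.2 : ℕ))),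
      (Set.finite_singleton _).union (Set.finite_range _), ?_⟩⟩
    refine eq_top_iff.2 (fun p _ => ?_)
    have key : ∀ (i : Fin s) (q : Polynomial k), E i q ∈ Submodule.span ↥A
        ({1} ∪ Set.range
          (fun ij : Fin s × Fin C => E ij.1 ((Polynomial.X : Polynomial k) ^ (ij.2 : ℕ)))) := by
      intro i q
      refine Polynomial.induction_on' q (fun p q hp hq => ?_) (fun n a => ?_)
      · rw [map_add]
        exact Submodule.add_mem _ hp hq
      · by_cases hn : n < C
        · rw [← Polynomial.smul_X_eq_monomial, map_smul]
          exact Submodule.smul_of_tower_mem _ a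
            (Submodule.subset_span (Or.inr ⟨(i, ⟨n, hn⟩), rfl⟩))
        · have hmem : E i (Polynomial.monomial n a) ∈ A := by
            refine condA' _ (hEdvd i _ ?_)
            rw [Polynomial.X_pow_dvd_iff]
            intro d hd
            rw [Polynomial.coeff_monomial, if_neg (show ¬ n = d by omega)]
          have e : E i (Polynomial.monomial n a) =
              (⟨E i (Polynomial.monomial n a), hmem⟩ : ↥A) • (1 : Fin s → Polynomial k) := by
            rw [Subalgebra.smul_def, smul_eq_mul, mul_one]
          rw [e]
          exact Submodule.smul_mem _ _ (Submodule.subset_span (Or.inl rfl))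
    rw [hEsum p]
    exact Submodule.sum_mem _ (fun i _ => key i (p i))
  -- (1)
  have h1 : Algebra.FiniteType k ↥A := by
    haveI : Algebra.FiniteType k (Fin s → Polynomial k) :=
      Algebra.FiniteType.trans (S := Polynomial k) inferInstance inferInstance
    exact ⟨fg_of_fg_of_fg k ↥A (Fin s → Polynomial k) Algebra.FiniteType.out h3.fg_top
      (fun x y h => Subtype.ext h)⟩
  -- (2)
  have h2 : ∀ e ∈ A, e * e = e → e = 0 ∨ e = 1 := by
    intro e he hee
    have hcomp : ∀ i, e i = 0 ∨ e i = 1 := fun i => by
      have h1 : e i * e i = e i := congrFun hee i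
      have h0 : e i * (e i - 1) = 0 := by rw [mul_sub, mul_one, h1, sub_self]
      rcases mul_eq_zero.1 h0 with h | h
      · exact Or.inl h
      · exact Or.inr (sub_eq_zero.1 h)
    have hR := (hA e).1 he
    have hcc : ∀ i j, (e i).coeff 0 = (e j).coeff 0 := fun i j => by
      have := hloc _ hR i j
      simpa only [Polynomial.constantCoeff_coe] using this
    by_cases h : ∀ i, e i = 0
    · exact Or.inl (funext h)
    · right
      push_neg at h
      obtain ⟨i0, hi0⟩ := h
      have h1 : e i0 = 1 := (hcomp i0).resolve_left hi0
      funext j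
      rcases hcomp j with hj | hj
      · exfalso
        have := hcc i0 j
        rw [h1, hj, Polynomial.coeff_one_zero, Polynomial.coeff_zero] at this
        exact one_ne_zero this
      · exact hj
  -- (4)
  have h4 : ∃ N : ℕ, ∀ g : Fin N → (Fin s → Polynomial k),
      (∀ n, g n ∈ A ∧ ∀ i, (g n i).coeff 0 = 0) →
      ∀ p : Fin s → Polynomial k, p * ∏ n, g n ∈ A := by
    refine ⟨C, fun g hg p => condA _ (fun i => ?_) p⟩
    rw [Finset.prod_apply]
    have h := Finset.prod_dvd_prod_of_dvd (s := Finset.univ)
      (fun _ : Fin C => (Polynomial.X : Polynomial k))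
      (fun n => g n i) (fun n _ => Polynomial.X_dvd_iff.2 ((hg n).2 i))
    rw [Finset.prod_const, Finset.card_univ, Fintype.card_fin] at h
    exact dvd_trans (pow_dvd_pow _ (hcC i)) h
  -- (5)
  have h5 : ∀ f ∈ R, ∀ N : ℕ, ∃ g ∈ A, ∀ i : Fin s,
      (N : ℕ∞) ≤ (f i - ((g i : Polynomial k) : PowerSeries k)).order := by
    intro f hf N
    have hd : ∀ i, ((max N C : ℕ) : ℕ∞) ≤
        (f i - ((PowerSeries.trunc (max N C) (f i) : Polynomial k) : PowerSeries k)).order := by
      intro i
      refine PowerSeries.nat_le_order _ _ (fun m hm => ?_)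
      rw [map_sub, Polynomial.coeff_coe, PowerSeries.coeff_trunc, if_pos hm, sub_self]
    have hdR : (fun i => f i -
        ((PowerSeries.trunc (max N C) (f i) : Polynomial k) : PowerSeries k)) ∈ R := by
      have := (hc (fun i => f i -
        ((PowerSeries.trunc (max N C) (f i) : Polynomial k) : PowerSeries k))).2
        (fun i => le_trans (Nat.cast_le.2 (le_trans (hcC i) (le_max_right N C))) (hd i)) 1
      rwa [one_mul] at this
    refine ⟨fun i => PowerSeries.trunc (max N C) (f i), (hA _).2 ?_,
      fun i => le_trans (Nat.cast_le.2 (le_max_left N C)) (hd i)⟩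
    show (fun i => ((PowerSeries.trunc (max N C) (f i) : Polynomial k) : PowerSeries k)) ∈ R
    have e : (fun i => ((PowerSeries.trunc (max N C) (f i) : Polynomial k) : PowerSeries k)) =
        f - (fun i => f i -
          ((PowerSeries.trunc (max N C) (f i) : Polynomial k) : PowerSeries k)) := by
      funext i
      exact (sub_sub_cancel _ _).symm
    rw [e]
    exact R.sub_mem hf hdR
  -- (6)
  have h6 : ∀ N : ℕ, ∃ M : ℕ, ∀ g : ↥A,
      (∀ i : Fin s, Polynomial.X ^ M ∣ (g : Fin s → Polynomial k) i) →
      g ∈ (Ideal.span {h : ↥A | ∀ i : Fin s,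
        ((h : Fin s → Polynomial k) i).coeff 0 = 0}) ^ N := by
    intro N
    refine ⟨(N + 1) * C, fun g hg => ?_⟩
    have hXC : ∀ i, E i ((Polynomial.X : Polynomial k) ^ C) ∈ A :=
      fun i => condA' _ (hEdvd i _ dvd_rfl)
    have hb : ∀ i, (⟨E i ((Polynomial.X : Polynomial k) ^ C), hXC i⟩ : ↥A) ∈
        Ideal.span {h : ↥A | ∀ i : Fin s, ((h : Fin s → Polynomial k) i).coeff 0 = 0} := by
      intro i
      refine Ideal.subset_span ?_
      show ∀ j : Fin s, ((E i ((Polynomial.X : Polynomial k) ^ C)) j).coeff 0 = 0
      intro j
      by_cases hj : j = i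
      · subst hj
        rw [hEsame, Polynomial.coeff_X_pow, if_neg (show ¬ (0 = C) by omega)]
      · rw [hEne i _ j hj, Polynomial.coeff_zero]
    have hg' : ∀ i, ∃ r : Polynomial k,
        (g : Fin s → Polynomial k) i = Polynomial.X ^ ((N + 1) * C) * r := fun i => hg i
    choose r hr using hg'
    have hd : ∀ i, E i ((Polynomial.X : Polynomial k) ^ C * r i) ∈ A :=
      fun i => condA' _ (hEdvd i _ (dvd_mul_right _ _))
    have hg_eq : g = ∑ i, (⟨E i ((Polynomial.X : Polynomial k) ^ C), hXC i⟩ : ↥A) ^ N *
        ⟨E i ((Polynomial.X : Polynomial k) ^ C * r i), hd i⟩ := by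
      apply Subtype.ext
      rw [AddSubmonoidClass.coe_finsetSum]
      refine (hEsum _).trans (Finset.sum_congr rfl (fun i _ => ?_))
      rw [Subalgebra.coe_mul, Subalgebra.coe_pow]
      funext j
      show E i ((g : Fin s → Polynomial k) i) j =
        (E i ((Polynomial.X : Polynomial k) ^ C) j) ^ N *
          E i ((Polynomial.X : Polynomial k) ^ C * r i) j
      by_cases hj : j = i
      · subst hj
        rw [hEsame, hEsame, hEsame, hr]
        ring
      · rw [hEne i _ j hj, hEne i ((Polynomial.X : Polynomial k) ^ C * r i) j hj, mul_zero]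
    rw [hg_eq]
    exact Ideal.sum_mem _ (fun i _ => Ideal.mul_mem_right _ _ (Ideal.pow_mem_pow (hb i) N))
  exact ⟨h1, h2, h3, h4, h5, h6⟩

end Groth.Agent.S15152
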