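import Groth.Statements.S15162
import Mathlib

set_option autoImplicit false
open Matrix
open BddFin

namespace Groth.Agent.S15162

private lemma eq_one_of_det_one (M : Matrix (Fin 2) (Fin 2) ℤ) (hdet : M.det = 1)
    (v : Fin 2 → ℤ) (hv0 : v ≠ 0) (hv : M *ᵥ v = v) (n : ℕ) (hn : 0 < n) (hMn : M ^ n = 1) :
    M = 1 := by
  have hd0 : (M - 1).det = 0 := by
    apply Matrix.exists_mulVec_eq_zero_iff.mp
    exact ⟨v, hv0, by rw [Matrix.sub_mulVec, hv, Matrix.one_mulVec, sub_self]⟩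
  have e00 : (M - 1) 0 0 = M 0 0 - 1 := by simp
  have e01 : (M - 1) 0 1 = M 0 1 := by simp
  have e10 : (M - 1) 1 0 = M 1 0 := by simp
  have e11 : (M - 1) 1 1 = M 1 1 - 1 := by simp
  rw [Matrix.det_fin_two] at hd0 hdet
  rw [e00, e01, e10, e11] at hd0
  have htr : M 0 0 + M 1 1 = 2 := by linear_combination hdet - hd0
  obtain ⟨N, hN⟩ : ∃ N, N = M - 1 := ⟨_, rfl⟩
  have hMN : M = 1 + N := by rw [hN]; abel
  have hN2 : N * N = 0 := by
    rw [hN]
    ext i j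
    rw [Matrix.mul_apply, Fin.sum_univ_two]
    fin_cases i <;> fin_cases j
    · show (M - 1) 0 0 * (M - 1) 0 0 + (M - 1) 0 1 * (M - 1) 1 0 = 0
      rw [e00, e01, e10]; linear_combination (-1 : ℤ) * hdet + M 0 0 * htr
    · show (M - 1) 0 0 * (M - 1) 0 1 + (M - 1) 0 1 * (M - 1) 1 1 = 0
      rw [e00, e01, e11]; linear_combination M 0 1 * htr
    · show (M - 1) 1 0 * (M - 1) 0 0 + (M - 1) 1 1 * (M - 1) 1 0 = 0
      rw [e00, e10, e11]; linear_combination M 1 0 * htr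
    · show (M - 1) 1 0 * (M - 1) 0 1 + (M - 1) 1 1 * (M - 1) 1 1 = 0
      rw [e01, e10, e11]; linear_combination (-1 : ℤ) * hdet + M 1 1 * htr
  have hpow : ∀ k : ℕ, M ^ k = 1 + (k : ℤ) • N := by
    intro k
    induction k with
    | zero => simp
    | succ k ih =>
      rw [pow_succ, ih]
      rw [hMN]
      rw [mul_add, mul_one, add_mul, one_mul, smul_mul_assoc, hN2, smul_zero, add_zero]
      push_cast
      rw [add_smul, one_smul]; abel
  have hnN : (n : ℤ) • N = 0 := by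
    have := hpow n
    rw [hMn] at this
    have h2 : (1 : Matrix (Fin 2) (Fin 2) ℤ) + (n : ℤ) • N = 1 + 0 := by rw [← this, add_zero]
    exact add_left_cancel h2
  have hN0 : N = 0 := by
    ext i j
    have := congrFun (congrFun hnN i) j
    rw [Matrix.smul_apply, smul_eq_mul, Matrix.zero_apply] at this
    rcases mul_eq_zero.mp this with h | h
    · exfalso; have : (n : ℤ) ≠ 0 := by exact_mod_cast hn.ne'
      exact this h
    · simpa using h
  rw [hMN, hN0, add_zero]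


/-- Let Γ be a finite subgroup of GL_2(ℤ) acting on ℤ² by matrix multiplication. If every element of Γ
has a non-zero fixed vector in ℤ², then there is a non-zero vector of ℤ² fixed by all of Γ. -/
theorem result
    (Γ : Subgroup (Matrix.GeneralLinearGroup (Fin 2) ℤ)) [Finite Γ]
    (h : ∀ γ ∈ Γ, ∃ v : Fin 2 → ℤ, v ≠ 0 ∧ (γ : Matrix (Fin 2) (Fin 2) ℤ) *ᵥ v = v) :
    ∃ v : Fin 2 → ℤ, v ≠ 0 ∧ ∀ γ ∈ Γ, (γ : Matrix (Fin 2) (Fin 2) ℤ) *ᵥ v = v := by
  classical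
  have claim1 : ∀ γ ∈ Γ, (γ : Matrix (Fin 2) (Fin 2) ℤ).det = 1 → γ = 1 := by
    intro γ hγ hdet
    obtain ⟨v, hv0, hv⟩ := h γ hγ
    have hd : 0 < orderOf (⟨γ, hγ⟩ : Γ) := orderOf_pos _
    have hgd := pow_orderOf_eq_one (⟨γ, hγ⟩ : Γ)
    have hgd' : γ ^ orderOf (⟨γ, hγ⟩ : Γ) = 1 := by
      have := congrArg (Subtype.val) hgd
      simpa using this
    have hM : (γ : Matrix (Fin 2) (Fin 2) ℤ) ^ orderOf (⟨γ, hγ⟩ : Γ) = 1 := by
      rw [← Units.val_pow_eq_pow_val, hgd', Units.val_one]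
    apply Units.ext
    rw [Units.val_one]
    exact eq_one_of_det_one _ hdet v hv0 hv _ hd hM
  have hunit : ∀ γ : Matrix.GeneralLinearGroup (Fin 2) ℤ,
      (γ : Matrix (Fin 2) (Fin 2) ℤ).det = 1 ∨ (γ : Matrix (Fin 2) (Fin 2) ℤ).det = -1 := by
    intro γ
    have : IsUnit (γ : Matrix (Fin 2) (Fin 2) ℤ).det :=
      (Matrix.isUnit_iff_isUnit_det _).mp γ.isUnit
    exact Int.isUnit_iff.mp this
  by_cases hall : ∀ γ ∈ Γ, (γ : Matrix (Fin 2) (Fin 2) ℤ).det = 1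
  · refine ⟨![1, 0], ?_, ?_⟩
    · intro h0; have := congrFun h0 0; simp at this
    · intro γ hγ
      rw [claim1 γ hγ (hall γ hγ), Units.val_one, Matrix.one_mulVec]
  · push_neg at hall
    obtain ⟨γ₀, hγ₀, hdet₀⟩ := hall
    obtain ⟨v, hv0, hv⟩ := h γ₀ hγ₀
    refine ⟨v, hv0, ?_⟩
    have hd₀ : (γ₀ : Matrix (Fin 2) (Fin 2) ℤ).det = -1 := (hunit γ₀).resolve_left hdet₀
    have hγ₀sq : γ₀ * γ₀ = 1 := by
      apply claim1 _ (Γ.mul_mem hγ₀ hγ₀)
      rw [Units.val_mul, Matrix.det_mul, hd₀]; norm_num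
    intro γ hγ
    rcases hunit γ with hd | hd
    · rw [claim1 γ hγ hd, Units.val_one, Matrix.one_mulVec]
    · have : γ * γ₀ = 1 := by
        apply claim1 _ (Γ.mul_mem hγ hγ₀)
        rw [Units.val_mul, Matrix.det_mul, hd, hd₀]; norm_num
      have hγeq : γ = γ₀ := mul_right_cancel (this.trans hγ₀sq.symm)
      rw [hγeq]; exact hv

end Groth.Agent.S15162
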