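import Groth.Statements.S15163
import Mathlib
import Groth.Agent.S15162

set_option autoImplicit false
open Matrix
open BddFin

namespace Groth.Agent.S15163

private lemma trace_bound (M : Matrix (Fin 2) (Fin 2) ℤ) (hdet : M.det = 1 ∨ M.det = -1)
    (n : ℕ) (hn : 0 < n) (hMn : M ^ n = 1) : |M 0 0 + M 1 1| ≤ 2 := by
  by_contra hcon
  have hT : 3 ≤ |M 0 0 + M 1 1| := by
    have : 2 < |M 0 0 + M 1 1| := not_le.mp hcon
    omega
  obtain ⟨t, ht⟩ : ∃ t, t = M 0 0 + M 1 1 := ⟨_, rfl⟩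
  rw [← ht] at hT
  obtain ⟨δ, hδ⟩ : ∃ δ, δ = M.det := ⟨_, rfl⟩
  have hδ1 : |δ| = 1 := by
    rcases hdet with h | h <;> rw [hδ, h] <;> simp
  have o00 : (1 : Matrix (Fin 2) (Fin 2) ℤ) 0 0 = 1 := by simp
  have o01 : (1 : Matrix (Fin 2) (Fin 2) ℤ) 0 1 = 0 := by simp
  have o10 : (1 : Matrix (Fin 2) (Fin 2) ℤ) 1 0 = 0 := by simp
  have o11 : (1 : Matrix (Fin 2) (Fin 2) ℤ) 1 1 = 1 := by simp
  have hCH : M * M = t • M - δ • (1 : Matrix (Fin 2) (Fin 2) ℤ) := by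
    rw [hδ, Matrix.det_fin_two, ht]
    ext i j
    rw [Matrix.mul_apply, Fin.sum_univ_two]
    fin_cases i <;> fin_cases j
    · show M 0 0 * M 0 0 + M 0 1 * M 1 0 = ((M 0 0 + M 1 1) • M -
        (M 0 0 * M 1 1 - M 0 1 * M 1 0) • (1 : Matrix (Fin 2) (Fin 2) ℤ)) 0 0
      rw [Matrix.sub_apply, Matrix.smul_apply, Matrix.smul_apply, o00, smul_eq_mul, smul_eq_mul]
      ring
    · show M 0 0 * M 0 1 + M 0 1 * M 1 1 = ((M 0 0 + M 1 1) • M -
        (M 0 0 * M 1 1 - M 0 1 * M 1 0) • (1 : Matrix (Fin 2) (Fin 2) ℤ)) 0 1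
      rw [Matrix.sub_apply, Matrix.smul_apply, Matrix.smul_apply, o01, smul_eq_mul, smul_eq_mul]
      ring
    · show M 1 0 * M 0 0 + M 1 1 * M 1 0 = ((M 0 0 + M 1 1) • M -
        (M 0 0 * M 1 1 - M 0 1 * M 1 0) • (1 : Matrix (Fin 2) (Fin 2) ℤ)) 1 0
      rw [Matrix.sub_apply, Matrix.smul_apply, Matrix.smul_apply, o10, smul_eq_mul, smul_eq_mul]
      ring
    · show M 1 0 * M 0 1 + M 1 1 * M 1 1 = ((M 0 0 + M 1 1) • M -
        (M 0 0 * M 1 1 - M 0 1 * M 1 0) • (1 : Matrix (Fin 2) (Fin 2) ℤ)) 1 1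
      rw [Matrix.sub_apply, Matrix.smul_apply, Matrix.smul_apply, o11, smul_eq_mul, smul_eq_mul]
      ring
  have hrec : ∀ k : ℕ, (M ^ (k + 2)).trace = t * (M ^ (k + 1)).trace - δ * (M ^ k).trace := by
    intro k
    have : M ^ (k + 2) = t • M ^ (k + 1) - δ • M ^ k := by
      rw [pow_succ, pow_succ, mul_assoc, hCH, mul_sub, Matrix.mul_smul, Matrix.mul_smul, mul_one,
        ← pow_succ]
    rw [this, Matrix.trace_sub, Matrix.trace_smul, Matrix.trace_smul, smul_eq_mul, smul_eq_mul]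
  have h0 : (M ^ 0).trace = 2 := by
    rw [pow_zero, Matrix.trace_one]; simp
  have h1 : (M ^ 1).trace = t := by
    rw [pow_one, Matrix.trace_fin_two, ht]
  have hinv : ∀ k : ℕ, |(M ^ k).trace| + 1 ≤ |(M ^ (k + 1)).trace| := by
    intro k
    induction k with
    | zero =>
      rw [h0, h1]
      have : |(2 : ℤ)| = 2 := by norm_num
      rw [this]; linarith
    | succ k ih =>
      rw [hrec k]
      have e1 := abs_sub_abs_le_abs_sub (t * (M ^ (k + 1)).trace) (δ * (M ^ k).trace)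
      rw [abs_mul, abs_mul, hδ1, one_mul] at e1
      have e2 : 0 ≤ (|t| - 3) * |(M ^ (k + 1)).trace| :=
        mul_nonneg (sub_nonneg.mpr hT) (abs_nonneg _)
      have e3 := abs_nonneg ((M ^ (k + 1)).trace)
      linarith
  have hgrow : ∀ k : ℕ, 2 + (k : ℤ) ≤ |(M ^ k).trace| := by
    intro k
    induction k with
    | zero => rw [h0]; norm_num
    | succ k ih =>
      have := hinv k
      push_cast
      linarith
  have := hgrow n
  rw [hMn, Matrix.trace_one] at this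
  simp at this
  omega


/-- Let Γ be a finite subgroup of GL_2(ℤ) and d > 6 an integer. Suppose some vector w of (ℤ/dℤ)², with
m·w ≠ 0 for all 0 < m < d, is fixed by the reduction modulo d of every element of Γ. Then some
non-zero vector of ℤ² is fixed by all of Γ. -/
theorem result
    (Γ : Subgroup (Matrix.GeneralLinearGroup (Fin 2) ℤ)) [Finite Γ] (d : ℕ) (hd : 6 < d)
    (w : Fin 2 → ZMod d) (hw : ∀ m : ℕ, 0 < m → m < d → m • w ≠ 0)
    (hfix : ∀ γ ∈ Γ, ((γ : Matrix (Fin 2) (Fin 2) ℤ).map (Int.castRingHom (ZMod d))) *ᵥ w = w) :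
    ∃ v : Fin 2 → ℤ, v ≠ 0 ∧ ∀ γ ∈ Γ, (γ : Matrix (Fin 2) (Fin 2) ℤ) *ᵥ v = v := by
  classical
  apply Groth.Agent.S15162.result Γ
  intro γ hγ
  have hord : 0 < orderOf (⟨γ, hγ⟩ : Γ) := orderOf_pos _
  have hgd := pow_orderOf_eq_one (⟨γ, hγ⟩ : Γ)
  have hgd' : γ ^ orderOf (⟨γ, hγ⟩ : Γ) = 1 := by
    have := congrArg (Subtype.val) hgd
    simpa using this
  have hMn : (γ : Matrix (Fin 2) (Fin 2) ℤ) ^ orderOf (⟨γ, hγ⟩ : Γ) = 1 := by
    rw [← Units.val_pow_eq_pow_val, hgd', Units.val_one]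
  have hunit : IsUnit (γ : Matrix (Fin 2) (Fin 2) ℤ).det :=
    (Matrix.isUnit_iff_isUnit_det _).mp γ.isUnit
  have hdet := Int.isUnit_iff.mp hunit
  have hfixM := hfix γ hγ
  obtain ⟨M, hM⟩ : ∃ M, M = (γ : Matrix (Fin 2) (Fin 2) ℤ) := ⟨_, rfl⟩
  rw [← hM] at hMn hdet hfixM ⊢
  have htb := trace_bound M hdet _ hord hMn
  by_cases hD : (M - 1).det = 0
  · obtain ⟨v, hv0, hv⟩ := Matrix.exists_mulVec_eq_zero_iff.mpr hD
    refine ⟨v, hv0, ?_⟩
    rw [Matrix.sub_mulVec, Matrix.one_mulVec, sub_eq_zero] at hv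
    exact hv
  · exfalso
    have e00 : (M - 1) 0 0 = M 0 0 - 1 := by simp
    have e01 : (M - 1) 0 1 = M 0 1 := by simp
    have e10 : (M - 1) 1 0 = M 1 0 := by simp
    have e11 : (M - 1) 1 1 = M 1 1 - 1 := by simp
    have hDval : (M - 1).det = M.det - (M 0 0 + M 1 1) + 1 := by
      rw [Matrix.det_fin_two, Matrix.det_fin_two, e00, e01, e10, e11]; ring
    have hab := abs_le.mp htb
    have hD4 : (M - 1).det ≤ 4 := by
      rw [hDval]; rcases hdet with h | h <;> rw [h] <;> linarith [hab.1, hab.2]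
    have hD4' : -4 ≤ (M - 1).det := by
      rw [hDval]; rcases hdet with h | h <;> rw [h] <;> linarith [hab.1, hab.2]
    obtain ⟨A, hA⟩ : ∃ A, A = (Int.castRingHom (ZMod d)).mapMatrix (M - 1) := ⟨_, rfl⟩
    have hAw : A *ᵥ w = 0 := by
      rw [hA, map_sub, map_one, Matrix.sub_mulVec, Matrix.one_mulVec, RingHom.mapMatrix_apply,
        hfixM, sub_self]
    have hdetw : A.det • w = 0 := by
      have h1 : (A.adjugate * A) *ᵥ w = 0 := by
        rw [← Matrix.mulVec_mulVec, hAw, Matrix.mulVec_zero]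
      rw [Matrix.adjugate_mul, Matrix.smul_mulVec, Matrix.one_mulVec] at h1
      exact h1
    have hAdet : A.det = (((M - 1).det : ℤ) : ZMod d) := by
      rw [hA, ← RingHom.map_det]; rfl
    rw [hAdet, Int.cast_smul_eq_zsmul] at hdetw
    obtain ⟨D, hDdef⟩ : ∃ D, D = (M - 1).det := ⟨_, rfl⟩
    rw [← hDdef] at hdetw hD hD4 hD4'
    obtain ⟨m, hm⟩ : ∃ m : ℕ, D = m ∨ D = -m := ⟨D.natAbs, Int.natAbs_eq D⟩
    have hm0 : 0 < m := by rcases hm with h | h <;> omega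
    have hm4 : m < d := by rcases hm with h | h <;> omega
    apply hw m hm0 hm4
    rcases hm with h | h
    · rw [h, natCast_zsmul] at hdetw; exact hdetw
    · rw [h, neg_smul, natCast_zsmul, neg_eq_zero] at hdetw; exact hdetw

end Groth.Agent.S15163
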