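import Groth.Statements.S15164
import Mathlib

set_option autoImplicit false
universe u v
open BddFin

namespace Groth.Agent.S15164

/-- Let K be a field of characteristic p > 2, V a finite-dimensional K-vector space and q a quadratic
form on V that does not represent zero (q x = 0 only for x = 0). Then the group of K-linear
automorphisms of V preserving q has no element of order p: if g preserves q and g ^ p = 1 then g =
1. (Non-degeneracy of q, also assumed in the published statement, follows from anisotropy since 2 is
invertible, so it is not repeated here.) -/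
theorem result
    (K : Type u) [Field K] (p : ℕ) [Fact p.Prime] [CharP K p] (hp : p ≠ 2)
    (V : Type v) [AddCommGroup V] [Module K V] [FiniteDimensional K V]
    (q : QuadraticForm K V) (hq : q.Anisotropic)
    (g : V ≃ₗ[K] V) (hg : ∀ x : V, q (g x) = q x) (hgp : g ^ p = 1) : g = 1 := by
  classical
  rcases subsingleton_or_nontrivial V with hV | hV
  · ext x; exact Subsingleton.elim _ _
  haveI : Nontrivial (Module.End K V) := inferInstance
  haveI : CharP (Module.End K V) p :=
    charP_of_injective_algebraMap (algebraMap K (Module.End K V)).injective p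
  have h2 : (2 : K) ≠ 0 := by
    intro h
    have : (p : ℕ) ∣ 2 := (CharP.cast_eq_zero_iff K p 2).mp (by exact_mod_cast h)
    have hp' := (Nat.prime_dvd_prime_iff_eq (Fact.out : p.Prime) Nat.prime_two).mp this
    exact hp hp'
  set G : Module.End K V := g.toLinearMap with hG
  have hGp : G ^ p = 1 := by
    have : ∀ n : ℕ, G ^ n = ((g ^ n : V ≃ₗ[K] V) : V →ₗ[K] V) := by
      intro n
      induction n with
      | zero => rfl
      | succ n ih => rw [pow_succ, ih, pow_succ]; rfl
    rw [this, hgp]; rfl
  have hN : (G - 1) ^ p = 0 := by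
    rw [sub_pow_char_of_commute p (Commute.one_right G), hGp, one_pow, sub_self]
  by_contra hne
  have hN0 : G - 1 ≠ 0 := by
    intro h0
    apply hne
    ext x
    have := LinearMap.congr_fun h0 x
    simp only [LinearMap.sub_apply, Module.End.one_apply, LinearMap.zero_apply, sub_eq_zero] at this
    exact this
  -- minimal nilpotency index
  have hex : ∃ m, (G - 1) ^ m = 0 := ⟨p, hN⟩
  obtain ⟨m, hm0, hmmin⟩ : ∃ m, (G - 1) ^ m = 0 ∧ ∀ j, j < m → (G - 1) ^ j ≠ 0 :=
    ⟨Nat.find hex, Nat.find_spec hex, fun j hj => Nat.find_min hex hj⟩
  have hm2 : 2 ≤ m := by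
    rcases Nat.lt_or_ge m 2 with h | h
    · exfalso
      interval_cases m
      · simp at hm0
      · rw [pow_one] at hm0; exact hN0 hm0
    · exact h
  have hm1 := hmmin (m - 1) (by omega)
  obtain ⟨v, hv⟩ : ∃ v, ((G - 1) ^ (m - 1)) v ≠ 0 := by
    by_contra hcon
    push_neg at hcon
    exact hm1 (LinearMap.ext hcon)
  set w := ((G - 1) ^ (m - 1)) v with hw
  set u := ((G - 1) ^ (m - 2)) v with hu
  have hNu : (G - 1) u = w := by
    rw [hu, hw, ← Module.End.mul_apply, ← pow_succ']
    congr 2
    omega
  have hNw : (G - 1) w = 0 := by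
    rw [hw, ← Module.End.mul_apply, ← pow_succ']
    have : m - 1 + 1 = m := by omega
    rw [this, hm0]; rfl
  have hgu : g u = u + w := by
    have : (G - 1) u = g u - u := rfl
    rw [← hNu, this]; abel
  have hgw : g w = w := by
    have : (G - 1) w = g w - w := rfl
    rw [this, sub_eq_zero] at hNw
    exact hNw
  have e1 : q (u + w) = q u := by rw [← hgu, hg]
  have e2 : q (u + w + w) = q u := by
    have : g (u + w) = u + w + w := by rw [map_add, hgu, hgw]
    rw [← this, hg, e1]
  have p1 := QuadraticMap.polar_add_left (Q := q) u w w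
  have hqw : q w = 0 := by
    have a1 : q (u + w) = q u + q w + QuadraticMap.polar q u w := QuadraticMap.map_add q u w
    have a2 : q (u + w + w) = q (u + w) + q w + QuadraticMap.polar q (u + w) w :=
      QuadraticMap.map_add q (u + w) w
    have a3 : QuadraticMap.polar q w w = 2 * q w := by
      rw [QuadraticMap.polar_self]; simp
    rw [p1, a3] at a2
    have a4 : 2 * q w = 0 := by linear_combination (-1 : K) * a2 + e2 + a1 - 2 * e1
    exact (mul_eq_zero.mp a4).resolve_left h2
  exact hv (hq w hqw)

end Groth.Agent.S15164
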