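import Groth.Statements.S15165
import Mathlib

set_option autoImplicit false
universe u v
open Polynomial
open BddFin

namespace Groth.Agent.S15165

private lemma claimB {K : Type u} [Field K] (h2 : (2 : K) ≠ 0)
    {V : Type v} [AddCommGroup V] [Module K V]
    (q : QuadraticForm K V) (hq : q.Anisotropic)
    (h : V →ₗ[K] V) (hh : ∀ x, q (h x) = q x) (x : V) (hx : h (h x - x) = h x - x) :
    h x = x := by
  set w := h x - x with hw
  have hgu : h x = x + w := by rw [hw]; abel
  have e1 : q (x + w) = q x := by rw [← hgu, hh]
  have e2 : q (x + w + w) = q x := by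
    have : h (x + w) = x + w + w := by rw [map_add, hx, hgu]
    rw [← this, hh, e1]
  have p1 := QuadraticMap.polar_add_left (Q := q) x w w
  have hqw : q w = 0 := by
    have a1 : q (x + w) = q x + q w + QuadraticMap.polar q x w := QuadraticMap.map_add q x w
    have a2 : q (x + w + w) = q (x + w) + q w + QuadraticMap.polar q (x + w) w :=
      QuadraticMap.map_add q (x + w) w
    have a3 : QuadraticMap.polar q w w = 2 * q w := by
      rw [QuadraticMap.polar_self]; simp
    rw [p1, a3] at a2
    have a4 : 2 * q w = 0 := by linear_combination (-1 : K) * a2 + e2 + a1 - 2 * e1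
    exact (mul_eq_zero.mp a4).resolve_left h2
  have hw0 : w = 0 := hq w hqw
  rw [hgu, hw0, add_zero]

private lemma claimA {K : Type u} [Field K]
    {V : Type v} [AddCommGroup V] [Module K V]
    (q : QuadraticForm K V) (hq : q.Anisotropic)
    (h : V →ₗ[K] V) (hh : ∀ x, q (h x) = q x) (ζ : K) (hζ : ζ * ζ ≠ 1) (x : V)
    (hx : h x = ζ • x) : x = 0 := by
  apply hq
  have := hh x
  rw [hx, QuadraticMap.map_smul, smul_eq_mul] at this
  have h3 : (ζ * ζ - 1) * q x = 0 := by linear_combination this
  exact (mul_eq_zero.mp h3).resolve_left (sub_ne_zero.mpr hζ)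


/-- Let K be a field of characteristic different from 2 such that K contains all roots of unity (for
every n ≥ 1 the polynomial X^n − 1 splits into linear factors over K), V a finite-dimensional
K-vector space and q a quadratic form on V that does not represent zero. If a K-linear automorphism
g of V preserves q and has finite order (g ^ d = 1 for some d ≥ 1), then g ^ 2 = 1. (The published
statement also covers perfect fields of characteristic 2; this row is the case of characteristic ≠
2.) -/
theorem result
    (K : Type u) [Field K] (hK : ∀ n : ℕ, 0 < n → (X ^ n - 1 : K[X]).Splits) (h2 : (2 : K) ≠ 0)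
    (V : Type v) [AddCommGroup V] [Module K V] [FiniteDimensional K V]
    (q : QuadraticForm K V) (hq : q.Anisotropic)
    (g : V ≃ₗ[K] V) (hg : ∀ x : V, q (g x) = q x) (d : ℕ) (hd : 0 < d) (hgd : g ^ d = 1) :
    g ^ 2 = 1 := by
  classical
  set G : Module.End K V := g.toLinearMap with hG
  have hGd : G ^ d = 1 := by
    have : ∀ n : ℕ, G ^ n = ((g ^ n : V ≃ₗ[K] V) : V →ₗ[K] V) := by
      intro n
      induction n with
      | zero => rfl
      | succ n ih => rw [pow_succ, ih, pow_succ]; rfl
    rw [this, hgd]; rfl
  have hGq : ∀ x, q (G x) = q x := fun x => hg x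
  have hnG : ∀ x, q ((-G) x) = q x := by
    intro x
    rw [LinearMap.neg_apply, QuadraticMap.map_neg]; exact hg x
  have key : ∀ s : Multiset K, ∀ v : V,
      (Polynomial.aeval G (s.map (fun a => X - C a)).prod) v = 0 → G (G v) = v := by
    intro s
    induction s using Multiset.induction_on with
    | empty =>
      intro v hv
      simp only [Multiset.map_zero, Multiset.prod_zero, map_one, Module.End.one_apply] at hv
      rw [hv, map_zero, map_zero]
    | cons ζ s ih =>
      intro v hv
      rw [Multiset.map_cons, Multiset.prod_cons, mul_comm (X - C ζ) _, map_mul,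
        Module.End.mul_apply] at hv
      have hv' : (Polynomial.aeval G (X - C ζ)) v = G v - ζ • v := by
        rw [map_sub, Polynomial.aeval_X, Polynomial.aeval_C, LinearMap.sub_apply,
          Module.algebraMap_end_apply]
      rw [hv'] at hv
      have ih' := ih _ hv
      rw [map_sub, map_smul, map_sub, map_smul] at ih'
      have e : G (G (G v)) = G v - ζ • v + ζ • G (G v) := by rw [← ih']; abel
      have hGu : G (G (G v) - v) = ζ • (G (G v) - v) := by
        rw [map_sub, smul_sub, e]; abel
      have hu0 : G (G v) - v = 0 := by
        by_cases hζ : ζ * ζ = 1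
        · rcases mul_self_eq_one_iff.mp hζ with h1 | h1
          · subst h1
            rw [one_smul] at hGu
            have e2 : G (G v + v) - (G v + v) = G (G v) - v := by rw [map_add]; abel
            have hy : G (G v + v) = G v + v := by
              apply claimB h2 q hq G hGq (G v + v)
              rw [e2, hGu]
            rw [← e2, hy, sub_self]
          · subst h1
            rw [neg_smul, one_smul] at hGu
            have e2 : (-G) (G v - v) - (G v - v) = -(G (G v) - v) := by
              rw [LinearMap.neg_apply, map_sub]; abel
            have hy : (-G) (G v - v) = G v - v := by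
              apply claimB h2 q hq (-G) hnG (G v - v)
              rw [e2, LinearMap.neg_apply, map_neg, neg_neg, hGu]
            have : -(G (G v) - v) = 0 := by rw [← e2, hy, sub_self]
            exact neg_eq_zero.mp this
        · exact claimA q hq G hGq ζ hζ _ hGu
      exact sub_eq_zero.mp hu0
  have hsp := hK d hd
  have hmonic : (X ^ d - 1 : K[X]).Monic := by
    have := Polynomial.monic_X_pow_sub_C (1 : K) (Nat.pos_iff_ne_zero.mp hd)
    simpa using this
  have hfac := hsp.eq_prod_roots_of_monic hmonic
  have hall : ∀ v, G (G v) = v := by
    intro v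
    apply key (X ^ d - 1 : K[X]).roots v
    rw [← hfac]
    simp [hGd]
  ext x
  rw [pow_two, LinearEquiv.mul_apply]
  exact hall x

end Groth.Agent.S15165
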