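import Groth.Statements.S15166
import Mathlib
import Groth.Agent.S15165

set_option autoImplicit false
universe u v
open Polynomial
open BddFin

namespace Groth.Agent.S15166

/-- Let K be a field of characteristic different from 2 such that K contains all roots of unity (for
every n ≥ 1 the polynomial X^n − 1 splits into linear factors over K), V a finite-dimensional
K-vector space and q a quadratic form on V that does not represent zero. Then every finite subgroup
of the group of K-linear automorphisms of V preserving q is abelian and has order at most 2 ^ (dim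
V). (The published statement also covers perfect fields of characteristic 2; this row is the case of
characteristic ≠ 2.) -/
theorem result
    (K : Type u) [Field K] (hK : ∀ n : ℕ, 0 < n → (X ^ n - 1 : K[X]).Splits) (h2 : (2 : K) ≠ 0)
    (V : Type v) [AddCommGroup V] [Module K V] [FiniteDimensional K V]
    (q : QuadraticForm K V) (hq : q.Anisotropic)
    (G : Subgroup (V ≃ₗ[K] V)) [Finite G] (hG : ∀ g ∈ G, ∀ x : V, q (g x) = q x) :
    (∀ g ∈ G, ∀ h ∈ G, g * h = h * g) ∧ Nat.card G ≤ 2 ^ Module.finrank K V := by
  classical
  -- Step 1: every element is an involution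
  have hsq : ∀ g ∈ G, g ^ 2 = 1 := by
    intro g hgG
    have hd : 0 < orderOf (⟨g, hgG⟩ : G) := orderOf_pos _
    have hgd := pow_orderOf_eq_one (⟨g, hgG⟩ : G)
    have hgd' : g ^ orderOf (⟨g, hgG⟩ : G) = 1 := by
      have := congrArg (Subtype.val) hgd
      simpa using this
    exact Groth.Agent.S15165.result K hK h2 V q hq g (hG g hgG) _ hd hgd'
  have hcommG : ∀ g ∈ G, ∀ h ∈ G, g * h = h * g := by
    intro g hg h hh
    have e1 : g * g = 1 := by rw [← pow_two]; exact hsq g hg
    have e2 : h * h = 1 := by rw [← pow_two]; exact hsq h hh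
    have e3 : (g * h) * (g * h) = 1 := by rw [← pow_two]; exact hsq _ (G.mul_mem hg hh)
    calc g * h = g * ((g * h) * (g * h)) * h := by rw [e3, mul_one]
      _ = (g * g) * (h * g) * (h * h) := by simp only [mul_assoc]
      _ = h * g := by rw [e1, e2, one_mul, mul_one]
  refine ⟨hcommG, ?_⟩
  let f : G → Module.End K V := fun g => (g : V ≃ₗ[K] V).toLinearMap
  have hf2' : ∀ (g : G) (v : V), f g (f g v) = v := by
    intro g v
    have h' := LinearEquiv.congr_fun (hsq g g.2) v
    rw [pow_two, LinearEquiv.mul_apply] at h'
    exact h'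
  have hf2 : ∀ g : G, f g * f g = 1 := by
    intro g
    ext x
    exact hf2' g x
  have hcomm_all : ∀ i j : G, Commute (f i) (f j) := by
    intro i j
    have hc := hcommG i i.2 j j.2
    show f i * f j = f j * f i
    ext x
    have := LinearEquiv.congr_fun hc x
    rw [LinearEquiv.mul_apply, LinearEquiv.mul_apply] at this
    exact this
  have hcomm : Pairwise fun i j => Commute (f i) (f j) := fun i j _ => hcomm_all i j
  have hss : ∀ g : G, (f g).IsSemisimple := by
    intro g
    have hsep : (X ^ 2 - 1 : K[X]).Separable := by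
      rw [Polynomial.X_pow_sub_one_separable_iff]; exact_mod_cast h2
    apply Module.End.isSemisimple_of_squarefree_aeval_eq_zero hsep.squarefree
    rw [map_sub, map_pow, aeval_X, map_one, pow_two, hf2 g, sub_self]
  have htri : ∀ g : G, ⨆ μ, (f g).maxGenEigenspace μ = ⊤ := by
    intro g
    rw [(hss g).iSup_maxGenEigenspace_eq_top_iff, eq_top_iff]
    intro v _
    have h1 : (2:K)⁻¹ • (v + f g v) ∈ (f g).eigenspace 1 := by
      rw [Module.End.mem_eigenspace_iff, map_smul, map_add, one_smul, hf2' g v, add_comm]
    have h2' : (2:K)⁻¹ • (v - f g v) ∈ (f g).eigenspace (-1) := by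
      rw [Module.End.mem_eigenspace_iff, map_smul, map_sub, hf2' g v, neg_smul, one_smul,
        ← smul_neg, neg_sub]
    have hv : v = (2:K)⁻¹ • (v + f g v) + (2:K)⁻¹ • (v - f g v) := by
      rw [← smul_add]
      have : v + f g v + (v - f g v) = (2:K) • v := by rw [two_smul]; abel
      rw [this, smul_smul, inv_mul_cancel₀ h2, one_smul]
    rw [hv]
    exact Submodule.add_mem _ (Submodule.mem_iSup_of_mem 1 h1)
      (Submodule.mem_iSup_of_mem (-1) h2')
  let p : (G → K) → Submodule K V := fun χ => ⨅ i, (f i).maxGenEigenspace (χ i)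
  have htop : ⨆ χ, p χ = ⊤ :=
    Module.End.iSup_iInf_maxGenEigenspace_eq_top_of_iSup_maxGenEigenspace_eq_top_of_commute
      f hcomm htri
  have hind : iSupIndep p :=
    Module.End.independent_iInf_maxGenEigenspace_of_forall_mapsTo f
      (fun i j φ => Module.End.mapsTo_maxGenEigenspace_of_comm (hcomm_all j i) φ)
  have heig : ∀ (χ : G → K) (v : V), v ∈ p χ → ∀ g : G, f g v = χ g • v := by
    intro χ v hv g
    have h1 := (Submodule.mem_iInf _).mp hv g
    rw [(hss g).isFinitelySemisimple.maxGenEigenspace_eq_eigenspace (χ g)] at h1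
    exact Module.End.mem_eigenspace_iff.mp h1
  have hpm : ∀ (χ : G → K), p χ ≠ ⊥ → ∀ g : G, χ g = 1 ∨ χ g = -1 := by
    intro χ hχ g
    obtain ⟨v, hv, hv0⟩ := Submodule.exists_mem_ne_zero_of_ne_bot hχ
    have e := heig χ v hv g
    have e2 : f g (f g v) = v := hf2' g v
    rw [e, map_smul, e, smul_smul] at e2
    have : (χ g * χ g - 1) • v = 0 := by rw [sub_smul, one_smul, e2, sub_self]
    rcases smul_eq_zero.mp this with h | h
    · exact mul_self_eq_one_iff.mp (sub_eq_zero.mp h)
    · exact absurd h hv0
  have hne : (1 : K) ≠ -1 := by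
    intro h1; apply h2; linear_combination h1
  let X := {χ : G → K // p χ ≠ ⊥}
  haveI : Fintype X := hind.fintypeNeBotOfFiniteDimensional
  have hcard : Fintype.card X ≤ Module.finrank K V := hind.subtype_ne_bot_le_finrank
  let Φ : G → (X → Bool) := fun g χ => decide (χ.1 g = 1)
  have hinj : Function.Injective Φ := by
    intro g h hgh
    have hχ : ∀ χ : G → K, p χ ≤ LinearMap.eqLocus (f g) (f h) := by
      intro χ
      by_cases hb : p χ = ⊥
      · rw [hb]; exact bot_le
      · intro v hv
        rw [LinearMap.mem_eqLocus, heig χ v hv g, heig χ v hv h]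
        have hΦ := congrFun hgh ⟨χ, hb⟩
        have hiff : χ g = 1 ↔ χ h = 1 := by simpa [Φ] using hΦ
        rcases hpm χ hb g with hg1 | hg1
        · rw [hg1, hiff.mp hg1]
        · rcases hpm χ hb h with hh1 | hh1
          · exfalso
            have := hiff.mpr hh1
            rw [hg1] at this
            exact hne this.symm
          · rw [hg1, hh1]
    have htop' : (⊤ : Submodule K V) ≤ LinearMap.eqLocus (f g) (f h) := by
      rw [← htop]; exact iSup_le hχ
    apply Subtype.ext
    apply LinearEquiv.toLinearMap_injective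
    ext x
    exact LinearMap.mem_eqLocus.mp (htop' Submodule.mem_top)
  calc Nat.card G ≤ Nat.card (X → Bool) := Nat.card_le_card_of_injective Φ hinj
    _ = 2 ^ Fintype.card X := by
        rw [Nat.card_eq_fintype_card, Fintype.card_fun, Fintype.card_bool]
    _ ≤ 2 ^ Module.finrank K V := Nat.pow_le_pow_right (by norm_num) hcard

end Groth.Agent.S15166
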