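import Groth.Statements.S15167
import Groth.Agent.Lib.Helper22.CSAMin1
import Groth.Agent.Lib.Helper22.CSAMin2

set_option autoImplicit false
universe u v
open Polynomial
open BddFin

namespace Groth.Agent.S15167

/-- Let K be a field such that K contains all roots of unity (for every n ≥ 1 the polynomial X^n − 1
splits into linear factors over K), A a central simple K-algebra of dimension n ^ 2, and x an
invertible element of A some power x ^ m (m ≥ 1) of which lies in K. Then there are a positive
integer r dividing n and elements a_i of K such that the minimal polynomial of x over K is the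
product of the polynomials X ^ r − a_i. -/
theorem result
    (K : Type u) [Field K] (hK : ∀ n : ℕ, 0 < n → (X ^ n - 1 : K[X]).Splits)
    (A : Type v) [Ring A] [Algebra K A] [Algebra.IsCentral K A] [IsSimpleRing A] [FiniteDimensional K A]
    (n : ℕ) (hn : Module.finrank K A = n ^ 2)
    (x : A) (hx : IsUnit x) (hxm : ∃ m : ℕ, 0 < m ∧ x ^ m ∈ (algebraMap K A).range) :
    ∃ r : ℕ, 0 < r ∧ r ∣ n ∧ ∃ s : Multiset K, minpoly K x = (s.map fun a : K => X ^ r - C a).prod := by
  obtain ⟨m, hm, hmem⟩ := hxm
  obtain ⟨c, hc⟩ := RingHom.mem_range.mp hmem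
  have hc0 : c ≠ 0 := by
    rintro rfl
    rw [map_zero] at hc
    exact (hx.pow m).ne_zero hc.symm
  have hint : IsIntegral K x := IsIntegral.of_finite K x
  have hdvd : minpoly K x ∣ X ^ m - C c := minpoly.dvd K x (by
    rw [map_sub, map_pow, aeval_X, aeval_C, hc, sub_self])
  obtain ⟨r, hr, s, hs, hsirr⟩ :=
    Groth.Agent.Helper22.CSAMin.exists_factor hK m hm c hc0 (minpoly K x) (minpoly.monic hint) hdvd
  exact ⟨r, hr, Groth.Agent.Helper22.CSAMin.dvd_of_minpoly_eq n hn x r s hsirr hs, s, hs⟩

end Groth.Agent.S15167
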