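import Groth.Statements.S15168
import Mathlib
import Groth.Agent.Lib.Helper1.CSACentralizer

set_option autoImplicit false
universe u v
open Polynomial
open BddFin

namespace Groth.Agent.S15168

open Polynomial in
theorem pow_natDegree_mem {K : Type u} [Field K]
    (hK : ∀ n : ℕ, 0 < n → (X ^ n - 1 : K[X]).Splits)
    {L : Type v} [Field L] [Algebra K L] (x : L) (hint : IsIntegral K x) (m : ℕ) (hm : 0 < m)
    (a : K) (ha : algebraMap K L a = x ^ m) :
    x ^ (minpoly K x).natDegree ∈ (algebraMap K L).range := by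
  classical
  by_cases hx0 : x = 0
  · refine ⟨0, ?_⟩
    rw [hx0, map_zero, zero_pow]
    rw [← hx0]
    exact (minpoly.natDegree_pos hint).ne'
  set f := minpoly K x with hf
  set g := f.map (algebraMap K L) with hg
  have hgmonic : g.Monic := (minpoly.monic hint).map _
  set P : L[X] := X ^ m - 1 with hP
  have hPmap : P = (X ^ m - 1 : K[X]).map (algebraMap K L) := by
    simp [hP, Polynomial.map_sub, Polynomial.map_pow]
  have hPsplit : P.Splits := by
    rw [hPmap]
    exact (hK m hm).map (algebraMap K L)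
  have hPnat : P.natDegree = m := by
    rw [hP, ← C_1]
    exact natDegree_X_pow_sub_C
  have hscale : P.scaleRoots x = X ^ m - C (x ^ m) := by
    ext i
    rw [coeff_scaleRoots, hPnat, hP, coeff_sub, coeff_sub, coeff_X_pow, coeff_one, coeff_C]
    by_cases hi : i = m
    · subst hi
      simp [hm.ne']
    · by_cases hi0 : i = 0
      · subst hi0
        simp [hm.ne', Ne.symm hm.ne']
      · simp [hi, hi0]
  have hQsplit : (X ^ m - C (x ^ m) : L[X]).Splits := hscale ▸ hPsplit.scaleRoots x
  have hQ0 : (X ^ m - C (x ^ m) : L[X]) ≠ 0 := X_pow_sub_C_ne_zero hm _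
  have hdvd : g ∣ X ^ m - C (x ^ m) := by
    have h1 : f ∣ X ^ m - C a := minpoly.dvd K x (by simp [ha])
    have h2 := Polynomial.map_dvd (algebraMap K L) h1
    simpa [hg, Polynomial.map_sub, Polynomial.map_pow, ha] using h2
  have hgsplit : g.Splits := hQsplit.of_dvd hQ0 hdvd
  have hroots : ∀ r ∈ g.roots, ∃ ζ : K, ζ ≠ 0 ∧ r = x * algebraMap K L ζ := by
    intro r hr
    have h1 : r ∈ (X ^ m - C (x ^ m) : L[X]).roots :=
      Multiset.mem_of_le (roots.le_of_dvd hQ0 hdvd) hr
    rw [← hscale, roots_scaleRoots P (isUnit_iff_ne_zero.mpr hx0)] at h1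
    obtain ⟨ζ', hζ', rfl⟩ := Multiset.mem_map.mp h1
    rw [hPmap, (hK m hm).roots_map] at hζ'
    obtain ⟨ζ, hζ, rfl⟩ := Multiset.mem_map.mp hζ'
    refine ⟨ζ, ?_, rfl⟩
    rintro rfl
    have h0 := (mem_roots'.mp hζ).2
    simp [hm.ne'] at h0
  have hprod : ∀ M : Multiset L, (∀ r ∈ M, ∃ ζ : K, ζ ≠ 0 ∧ r = x * algebraMap K L ζ) →
      ∃ c : K, c ≠ 0 ∧ M.prod = algebraMap K L c * x ^ (Multiset.card M) := by
    intro M
    induction M using Multiset.induction_on with
    | empty =>
      intro _
      exact ⟨1, one_ne_zero, by simp⟩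
    | cons r M ih =>
      intro h
      obtain ⟨c, hc, hM⟩ := ih (fun r' hr' => h r' (Multiset.mem_cons_of_mem hr'))
      obtain ⟨ζ, hζ, rfl⟩ := h r (Multiset.mem_cons_self _ _)
      refine ⟨ζ * c, mul_ne_zero hζ hc, ?_⟩
      rw [Multiset.prod_cons, hM, Multiset.card_cons, map_mul, pow_succ]
      ring
  obtain ⟨c, hc, hcprod⟩ := hprod g.roots hroots
  have hgnat : g.natDegree = f.natDegree := by rw [hg, natDegree_map]
  have hcard : Multiset.card g.roots = f.natDegree := by
    rw [← hgsplit.natDegree_eq_card_roots, hgnat]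
  have hcoeff := hgsplit.coeff_zero_eq_prod_roots_of_monic hgmonic
  rw [hcprod, hcard, hgnat] at hcoeff
  have hg0 : g.coeff 0 = algebraMap K L (f.coeff 0) := by rw [hg, coeff_map]
  refine ⟨(-1) ^ f.natDegree * f.coeff 0 * c⁻¹, ?_⟩
  have hc' : algebraMap K L c ≠ 0 := by rwa [Ne, map_eq_zero]
  rw [RingHom.map_mul, RingHom.map_mul, map_pow, map_neg, map_one, ← hg0, hcoeff, map_inv₀]
  have hsq : ((-1 : L) ^ f.natDegree) * ((-1 : L) ^ f.natDegree) = 1 := by
    rw [← mul_pow]; simp
  rw [← mul_assoc ((-1 : L) ^ f.natDegree), hsq, one_mul, mul_comm (algebraMap K L c), mul_assoc,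
    mul_inv_cancel₀ hc', mul_one]

open Polynomial in
theorem main (K : Type u) [Field K] (hK : ∀ n : ℕ, 0 < n → (X ^ n - 1 : K[X]).Splits)
    (A : Type v) [DivisionRing A] [Algebra K A] [Algebra.IsCentral K A] [FiniteDimensional K A]
    (n : ℕ) (hn : Module.finrank K A = n ^ 2)
    (x : A) (m : ℕ) (hm : 0 < m) (a : K) (ha : algebraMap K A a = x ^ m) :
    x ^ n ∈ (algebraMap K A).range := by
  classical
  let S : Subalgebra K A := Algebra.adjoin K {x}
  have hcomm : ∀ u ∈ ({x} : Set A), ∀ v ∈ ({x} : Set A), u * v = v * u := by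
    intro u hu v hv
    rw [Set.mem_singleton_iff.mp hu, Set.mem_singleton_iff.mp hv]
  letI : CommRing S := Algebra.adjoinCommRingOfComm K hcomm
  letI : Field S := fieldOfFiniteDimensional K S
  let α : S := ⟨x, Algebra.subset_adjoin rfl⟩
  have hintα : IsIntegral K α := IsIntegral.of_finite K α
  have hαm : algebraMap K S a = α ^ m := by
    apply Subtype.ext
    show algebraMap K A a = x ^ m
    exact ha
  obtain ⟨b, hb⟩ := pow_natDegree_mem hK α hintα m hm a hαm
  have hα : Algebra.adjoin K {α} = ⊤ := by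
    have := Algebra.adjoin_adjoin_coe_preimage (R := K) (s := ({x} : Set A))
    convert this using 2
    ext y
    simp [α, Subtype.ext_iff]
  have hd : Module.finrank K S = (minpoly K α).natDegree :=
    (PowerBasis.ofAdjoinEqTop hintα hα).finrank
  have hdvd : Module.finrank K S ∣ n := by
    haveI : IsSimpleRing S := inferInstance
    obtain ⟨_, hdim⟩ := Groth.Agent.Helper1.centralizer_isSimpleRing_and_finrank K A S
    set C := Subalgebra.centralizer K (S : Set A) with hC
    have hSC : S ≤ C := by
      intro s hs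
      rw [hC, Subalgebra.mem_centralizer_iff]
      intro t ht
      have := mul_comm (⟨t, ht⟩ : S) ⟨s, hs⟩
      exact congrArg Subtype.val this
    letI : Module S C := Module.compHom C (Subalgebra.inclusion hSC).toRingHom
    haveI : IsScalarTower K S C := ⟨fun k s c => by
      apply Subtype.ext
      show ((k • s : S) : A) * (c : A) = k • ((s : A) * (c : A))
      rw [Subalgebra.coe_smul, smul_mul_assoc]⟩
    have h1 := Module.finrank_mul_finrank K S C
    rw [hn, ← h1, ← mul_assoc] at hdim
    have : (Module.finrank K S) ^ 2 ∣ n ^ 2 := ⟨Module.finrank S C, by rw [hdim]; ring⟩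
    exact (Nat.pow_dvd_pow_iff two_ne_zero).mp this
  obtain ⟨q, hq⟩ := hdvd
  refine ⟨b ^ q, ?_⟩
  rw [map_pow]
  have hb' : algebraMap K A b = x ^ (minpoly K α).natDegree := by
    have := congrArg Subtype.val hb
    exact this
  rw [hb', ← pow_mul, ← hd, ← hq]


/-- Let K be a field such that K contains all roots of unity (for every n ≥ 1 the polynomial X^n − 1
splits into linear factors over K), A a central division algebra of dimension n ^ 2 over K, and x an
element of A some power x ^ m (m ≥ 1) of which lies in K. Then x ^ n lies in K; that is, the order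
of the class of x in the quotient of the unit group of A by that of K divides n. -/
theorem result
    (K : Type u) [Field K] (hK : ∀ n : ℕ, 0 < n → (X ^ n - 1 : K[X]).Splits)
    (A : Type v) [DivisionRing A] [Algebra K A] [Algebra.IsCentral K A] [FiniteDimensional K A]
    (n : ℕ) (hn : Module.finrank K A = n ^ 2)
    (x : A) (hxm : ∃ m : ℕ, 0 < m ∧ x ^ m ∈ (algebraMap K A).range) :
    x ^ n ∈ (algebraMap K A).range := by
  obtain ⟨m, hm, a, ha⟩ := hxm
  exact main K hK A n hn x m hm a ha

end Groth.Agent.S15168
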