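import Groth.Statements.S1517
import Mathlib.LinearAlgebra.Span.Basic
import Mathlib.RingTheory.TwoSidedIdeal.Basic

set_option autoImplicit false
universe u
open Brauer

namespace Groth.Agent.S1517

/-- Let A be a ring with no nontrivial two-sided ideals and M a nonzero right ideal, viewed as a right
A-module with endomorphism ring A'. Then every A'-linear endomorphism of M is right multiplication
by exactly one element of A; that is, the natural map from A to the bicommutant of M is a bijection. -/
theorem result (A : Type u) [Ring A] [IsSimpleRing A]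
    (M : Submodule Aᵐᵒᵖ A) (hM : M ≠ ⊥)
    (g : Module.End (Module.End Aᵐᵒᵖ M) M) :
    ∃! a : A, ∀ m : M, (g m : A) = (m : A) * a := by
  classical
  have hmulmem : ∀ (x : A), x ∈ M → ∀ (b : A), x * b ∈ M := fun x hx b => by
    have := M.smul_mem (MulOpposite.op b) hx
    simpa using this
  let lam : M → Module.End Aᵐᵒᵖ M := fun x =>
    { toFun := fun m => ⟨(x : A) * (m : A), hmulmem x x.2 m⟩
      map_add' := fun m m' => by ext; simp [mul_add]
      map_smul' := fun c m => by ext; simp [mul_assoc] }
  have hg : ∀ (x m : M),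
      ((g ⟨(x : A) * (m : A), hmulmem x x.2 m⟩ : M) : A) = (x : A) * (g m : A) := by
    intro x m
    have := g.map_smul (lam x) m
    exact congrArg Subtype.val this
  -- the left ideal generated by M
  set S : Submodule A A := Submodule.span A (M : Set A) with hS
  have hSr : ∀ x ∈ S, ∀ y : A, x * y ∈ S := by
    intro x hx y
    induction hx using Submodule.span_induction with
    | mem x hx => exact Submodule.subset_span (hmulmem x hx y)
    | zero => simp
    | add x x' _ _ hx hx' => rw [add_mul]; exact S.add_mem hx hx'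
    | smul c x _ hx => rw [smul_eq_mul, mul_assoc]; exact S.smul_mem c hx
  let T : TwoSidedIdeal A := TwoSidedIdeal.mk' (S : Set A) S.zero_mem
    (fun hx hy => S.add_mem hx hy) (fun hx => S.neg_mem hx)
    (fun {x y} hy => S.smul_mem x hy) (fun {x y} hx => hSr x hx y)
  obtain ⟨m₀, hm₀, hm₀0⟩ := (Submodule.ne_bot_iff M).1 hM
  have h1T : (1 : A) ∈ T := IsSimpleRing.one_mem_of_ne_zero_mem T hm₀0
    ((TwoSidedIdeal.mem_mk' _ _ _ _ _ _ _).2 (Submodule.subset_span hm₀))
  have h1S : (1 : A) ∈ S := (TwoSidedIdeal.mem_mk' _ _ _ _ _ _ _).1 h1T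
  -- existence
  have hex : ∀ y ∈ S, ∃ b : A, ∀ m : M,
      ((g ⟨(m : A) * y, hmulmem m m.2 y⟩ : M) : A) = (m : A) * b := by
    intro y hy
    induction hy using Submodule.span_induction with
    | mem y hy => exact ⟨(g ⟨y, hy⟩ : A), fun m => hg m ⟨y, hy⟩⟩
    | zero =>
      refine ⟨0, fun m => ?_⟩
      have : (⟨(m : A) * 0, hmulmem m m.2 0⟩ : M) = 0 := by ext; simp
      rw [this, map_zero]; simp
    | add y y' _ _ hy hy' =>
      obtain ⟨b, hb⟩ := hy
      obtain ⟨b', hb'⟩ := hy'
      refine ⟨b + b', fun m => ?_⟩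
      have : (⟨(m : A) * (y + y'), hmulmem m m.2 (y + y')⟩ : M) =
          ⟨(m : A) * y, hmulmem m m.2 y⟩ + ⟨(m : A) * y', hmulmem m m.2 y'⟩ := by
        ext; simp [mul_add]
      rw [this, map_add, Submodule.coe_add, hb, hb', mul_add]
    | smul c y _ hy =>
      obtain ⟨b, hb⟩ := hy
      refine ⟨c * b, fun m => ?_⟩
      have := hb ⟨(m : A) * c, hmulmem m m.2 c⟩
      have h2 : (⟨(m : A) * (c • y), hmulmem m m.2 (c • y)⟩ : M) =
          ⟨((⟨(m : A) * c, hmulmem m m.2 c⟩ : M) : A) * y,
            hmulmem _ (hmulmem m m.2 c) y⟩ := by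
        ext; simp [mul_assoc]
      rw [h2, this, mul_assoc]
  obtain ⟨a, ha⟩ := hex 1 h1S
  refine ⟨a, fun m => ?_, fun a' ha' => ?_⟩
  · have := ha m
    have h2 : (⟨(m : A) * 1, hmulmem m m.2 1⟩ : M) = m := by ext; simp
    rw [h2] at this
    exact this
  · -- uniqueness
    have hQ : ∀ y ∈ S, y * a' = y * a := by
      intro y hy
      induction hy using Submodule.span_induction with
      | mem y hy =>
        have e1 := ha' ⟨y, hy⟩
        have e2 := ha ⟨y, hy⟩
        have h2 : (⟨((⟨y, hy⟩ : M) : A) * 1, hmulmem _ hy 1⟩ : M) = ⟨y, hy⟩ := by ext; simp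
        rw [h2] at e2
        rw [← e1]
        exact e2
      | zero => simp
      | add y y' _ _ hy hy' => rw [add_mul, add_mul, hy, hy']
      | smul c y _ hy => rw [smul_eq_mul, mul_assoc, mul_assoc, hy]
    simpa using hQ 1 h1S

end Groth.Agent.S1517
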