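import Groth.Statements.S15172
import Mathlib

set_option autoImplicit false
universe u v
open Polynomial
open BddFin

namespace Groth.Agent.S15172

/-- Let L be a field of characteristic p > 0 and s a finite subset of L containing 0 and closed under
addition (a finite additive subgroup). Then the polynomial f = ∏_{a ∈ s} (X - a) is additive: f (x +
y) = f x + f y for all x, y in any commutative L-algebra (equivalently, as an identity of
polynomials in two variables). -/
theorem result
    (L : Type u) [Field L] (p : ℕ) [Fact p.Prime] [CharP L p] (s : Finset L) (h0 : (0 : L) ∈ s)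
    (hadd : ∀ a ∈ s, ∀ b ∈ s, a + b ∈ s) (R : Type v) [CommRing R] [Algebra L R] (x y : R) :
    aeval (x + y) (∏ a ∈ s, (X - C a)) = aeval x (∏ a ∈ s, (X - C a)) + aeval y (∏ a ∈ s, (X - C a)) := by
  classical
  have hnsmul : ∀ (n : ℕ) (a : L), a ∈ s → n • a ∈ s := by
    intro n a ha
    induction n with
    | zero => simpa using h0
    | succ n ih => rw [succ_nsmul]; exact hadd _ ih _ ha
  have hneg : ∀ a ∈ s, -a ∈ s := by
    intro a ha
    have h1 := hnsmul (p - 1) a ha
    have hp1 : 1 ≤ p := (Fact.out : p.Prime).one_lt.le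
    have : (p - 1) • a = -a := by
      have h2 : (p - 1) • a + a = 0 := by
        rw [← succ_nsmul, Nat.sub_add_cancel hp1, nsmul_eq_mul, CharP.cast_eq_zero, zero_mul]
      exact eq_neg_of_add_eq_zero_left h2
    rwa [this] at h1
  have hsub : ∀ a ∈ s, ∀ b ∈ s, b - a ∈ s := by
    intro a ha b hb
    rw [sub_eq_add_neg]; exact hadd b hb _ (hneg a ha)
  have hQ : (∏ a ∈ s, (X - C (C a - X)) : L[X][X]) - ∏ a ∈ s, (X - C (C a))
      - C (∏ a ∈ s, (X - C a)) = 0 := by
    have hA : (∏ a ∈ s, (X - C (C a - X)) : L[X][X]).degree = s.card := by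
      rw [degree_eq_natDegree (monic_prod_X_sub_C _ s).ne_zero,
        natDegree_finsetProd_X_sub_C_eq_card]
    have hB : (∏ a ∈ s, (X - C (C a)) : L[X][X]).degree = s.card := by
      rw [degree_eq_natDegree (monic_prod_X_sub_C _ s).ne_zero,
        natDegree_finsetProd_X_sub_C_eq_card]
    have hAB : ((∏ a ∈ s, (X - C (C a - X)) : L[X][X]) - ∏ a ∈ s, (X - C (C a))).degree
        < s.card := by
      rw [← hA]
      apply degree_sub_lt (hA.trans hB.symm) (monic_prod_X_sub_C _ s).ne_zero
      rw [(monic_prod_X_sub_C _ s).leadingCoeff, (monic_prod_X_sub_C _ s).leadingCoeff]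
    have hC : (C (∏ a ∈ s, (X - C a)) : L[X][X]).degree < s.card := by
      apply lt_of_le_of_lt degree_C_le
      have : 0 < s.card := Finset.card_pos.mpr ⟨0, h0⟩
      exact_mod_cast this
    apply Polynomial.eq_zero_of_degree_lt_of_eval_index_eq_zero (v := fun a : L => (C a : L[X])) s
      (Polynomial.C_injective.injOn) ((degree_sub_le _ _).trans_lt (max_lt hAB hC))
    intro a ha
    rw [eval_sub, eval_sub, eval_C, eval_prod, eval_prod]
    have e1 : ∏ b ∈ s, eval (C a) ((X : L[X][X]) - C (C b - X)) = ∏ b ∈ s, ((X : L[X]) - C b) := by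
      apply Finset.prod_nbij' (fun b => b - a) (fun b => b + a)
      · intro b hb; exact hsub a ha b hb
      · intro b hb; exact hadd b hb a ha
      · intro b _; ring
      · intro b _; ring
      · intro b _
        simp only [eval_sub, eval_X, eval_C, C_sub]; ring
    have e2 : ∏ b ∈ s, eval (C a) ((X : L[X][X]) - C (C b)) = 0 := by
      apply Finset.prod_eq_zero ha
      rw [eval_sub, eval_X, eval_C, sub_self]
    rw [e1, e2]; ring
  have key := congrArg (Polynomial.eval₂ ((Polynomial.aeval y : L[X] →ₐ[L] R) : L[X] →+* R) x) hQ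
  rw [eval₂_sub, eval₂_sub, eval₂_finsetProd, eval₂_finsetProd, eval₂_C, eval₂_zero] at key
  have hA : ∀ a ∈ s, Polynomial.eval₂ ((Polynomial.aeval y : L[X] →ₐ[L] R) : L[X] →+* R) x
      (X - C (C a - X)) = x + y - algebraMap L R a := by
    intro a _
    simp only [eval₂_sub, eval₂_X, eval₂_C, AlgHom.coe_toRingHom, RingHom.coe_coe, map_sub,
      aeval_C, aeval_X]
    ring
  have hB : ∀ a ∈ s, Polynomial.eval₂ ((Polynomial.aeval y : L[X] →ₐ[L] R) : L[X] →+* R) x
      (X - C (C a)) = x - algebraMap L R a := by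
    intro a _
    simp only [eval₂_sub, eval₂_X, eval₂_C, AlgHom.coe_toRingHom, RingHom.coe_coe, aeval_C]
  rw [Finset.prod_congr rfl hA, Finset.prod_congr rfl hB] at key
  simp only [AlgHom.coe_toRingHom, RingHom.coe_coe, map_prod, map_sub, aeval_X, aeval_C] at key
  simp only [map_prod, map_sub, aeval_X, aeval_C]
  linear_combination key

end Groth.Agent.S15172
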