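import Groth.Statements.S15173
import Mathlib

set_option autoImplicit false
universe u v
open Polynomial
open BddFin

namespace Groth.Agent.S15173

/-- Let K be a field of characteristic p > 0 such that K contains all roots of unity (for every n ≥ 1
the polynomial X^n − 1 splits into linear factors over K), and A a finite-dimensional central
division algebra over K. If A contains an element w not in K with w ^ p in K, then the quotient of
the unit group of A by that of K has unbounded finite subgroups: for every N there is a subgroup H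
of the units of A containing the units of K as a subgroup of finite index greater than N. (The
published statement assumes only that some element of A is inseparable over K and passes at once to
a purely inseparable subfield of degree p; this row assumes an element generating such a subfield
directly, which is what the rest of the printed argument uses.) -/
theorem result
    (K : Type u) [Field K] (p : ℕ) [Fact p.Prime] [CharP K p] (hK : ∀ n : ℕ, 0 < n → (X ^ n - 1 : K[X]).Splits)
    (A : Type v) [DivisionRing A] [Algebra K A] [Algebra.IsCentral K A] [FiniteDimensional K A]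
    (w : A) (hw : w ^ p ∈ (algebraMap K A).range) (hwK : w ∉ (algebraMap K A).range) (N : ℕ) :
    ∃ H : Subgroup Aˣ, (Units.map (algebraMap K A : K →* A)).range ≤ H ∧
      N < ((Units.map (algebraMap K A : K →* A)).range).relIndex H := by
  classical
  haveI : CharP A p := charP_of_injective_algebraMap (algebraMap K A).injective p
  have hp : p.Prime := Fact.out
  -- K is infinite
  have hKinf : Infinite K := by
    by_contra hfin
    rw [not_infinite_iff_finite] at hfin
    haveI := Fintype.ofFinite K
    obtain ⟨n, hn⟩ : ∃ n, n = Fintype.card K + 1 := ⟨_, rfl⟩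
    have hn0 : 0 < n := by omega
    have hnK : (n : K) ≠ 0 := by
      have h0 : ((Fintype.card K : ℕ) : K) = 0 := Nat.cast_card_eq_zero K
      rw [hn, Nat.cast_add, h0, zero_add, Nat.cast_one]
      exact one_ne_zero
    haveI : NeZero (n : K) := ⟨hnK⟩
    have hne : (X ^ n - 1 : K[X]) ≠ 0 := by
      have := X_pow_sub_C_ne_zero hn0 (1 : K)
      simpa using this
    have hcyc := (hK n hn0).of_dvd hne (cyclotomic.dvd_X_pow_sub_one n K)
    obtain ⟨ζ, hζ⟩ := hcyc.exists_eval_eq_zero (degree_cyclotomic_pos n K hn0).ne'
    have hprim : IsPrimitiveRoot ζ n := isRoot_cyclotomic_iff.mp hζ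
    have h1 := hprim.card_nthRootsFinset
    have h2 : (nthRootsFinset n (1:K)).card ≤ Fintype.card K := Finset.card_le_univ _
    omega
  let c : ℕ → K := Infinite.natEmbedding K
  have hc : Function.Injective c := (Infinite.natEmbedding K).injective
  have hne0 : ∀ i, w + algebraMap K A (c i) ≠ 0 := by
    intro i h
    apply hwK
    refine ⟨-(c i), ?_⟩
    rw [map_neg]
    exact (eq_neg_of_add_eq_zero_left h).symm
  let g : ℕ → Aˣ := fun i => Units.mk0 _ (hne0 i)
  have hgval : ∀ i, ((g i : Aˣ) : A) = w + algebraMap K A (c i) := fun i => rfl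
  obtain ⟨U, hU⟩ : ∃ U : Subgroup Aˣ, U = (Units.map (algebraMap K A : K →* A)).range := ⟨_, rfl⟩
  rw [← hU]
  have hUmem : ∀ x : Aˣ, x ∈ U ↔ ∃ u : Kˣ, algebraMap K A u = x := by
    intro x
    rw [hU, MonoidHom.mem_range]
    constructor
    · rintro ⟨u, rfl⟩
      exact ⟨u, rfl⟩
    · rintro ⟨u, hu⟩
      exact ⟨u, Units.ext hu⟩
  haveI hUn : U.Normal := by
    constructor
    intro n hn a
    rw [hUmem] at hn ⊢
    obtain ⟨u, hu⟩ := hn
    refine ⟨u, ?_⟩
    rw [Units.val_mul, Units.val_mul, ← hu, ← Algebra.commutes, mul_assoc, Units.mul_inv, mul_one]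
  have hgcomm : ∀ i j, g i * g j = g j * g i := by
    intro i j
    ext
    rw [Units.val_mul, Units.val_mul, hgval, hgval]
    have : Commute (w + algebraMap K A (c i)) (w + algebraMap K A (c j)) :=
      ((Commute.refl w).add_right (Algebra.commute_algebraMap_right _ _)).add_left
        ((Algebra.commute_algebraMap_left _ _).add_right (Algebra.commute_algebraMap_left _ _))
    exact this
  have hgp : ∀ i, (g i) ^ p ∈ U := by
    intro i
    obtain ⟨a, ha⟩ := hw
    have h1 : (w + algebraMap K A (c i)) ^ p = algebraMap K A (a + (c i) ^ p) := by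
      rw [add_pow_char_of_commute (p := p) (h := Algebra.commute_algebraMap_right _ _), map_add, map_pow]
      congr 1
      exact ha.symm
    have h2 : a + (c i) ^ p ≠ 0 := by
      intro h
      rw [h, map_zero] at h1
      exact hne0 i ((pow_eq_zero_iff hp.ne_zero).mp h1)
    rw [hUmem]
    refine ⟨Units.mk0 _ h2, ?_⟩
    rw [Units.val_pow_eq_pow_val, hgval, h1]
    rfl
  have hginj : ∀ i j, (g i)⁻¹ * g j ∈ U → i = j := by
    intro i j hij
    rw [hUmem] at hij
    obtain ⟨u, hu⟩ := hij
    have h1 : w + algebraMap K A (c j) = (w + algebraMap K A (c i)) * algebraMap K A u := by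
      rw [hu, Units.val_mul, ← hgval, ← hgval, ← mul_assoc, Units.mul_inv, one_mul]
    by_cases hu1 : (u : K) = 1
    · rw [hu1, map_one, mul_one] at h1
      exact (hc ((algebraMap K A).injective (add_left_cancel h1))).symm
    · exfalso
      apply hwK
      have h1u : (1 - (u : K)) ≠ 0 := sub_ne_zero.mpr (Ne.symm hu1)
      have h2 : w * algebraMap K A (1 - u) = algebraMap K A (c i * u - c j) := by
        simp only [map_sub, map_one, map_mul, mul_sub, mul_one]
        rw [add_mul] at h1
        rw [sub_eq_sub_iff_add_eq_add, h1]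
        abel
      refine ⟨(c i * (u : K) - c j) * (1 - (u : K))⁻¹, ?_⟩
      rw [map_mul, ← h2, mul_assoc, ← map_mul, mul_inv_cancel₀ h1u, map_one, mul_one]
  let π := QuotientGroup.mk' U
  let S : Finset (Aˣ ⧸ U) := (Finset.range (N + 1)).image (fun i => π (g i))
  obtain ⟨T, hT⟩ : ∃ T : Subgroup (Aˣ ⧸ U), T = Subgroup.closure (S : Set (Aˣ ⧸ U)) := ⟨_, rfl⟩
  have hSmem : ∀ x ∈ (S : Set (Aˣ ⧸ U)), ∃ i, x = π (g i) := by
    intro x hx
    simp only [S, Finset.coe_image, Set.mem_image] at hx
    obtain ⟨i, -, rfl⟩ := hx
    exact ⟨i, rfl⟩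
  have hScomm : ∀ x ∈ (S : Set (Aˣ ⧸ U)), ∀ y ∈ (S : Set (Aˣ ⧸ U)), x * y = y * x := by
    intro x hx y hy
    obtain ⟨i, rfl⟩ := hSmem x hx
    obtain ⟨j, rfl⟩ := hSmem y hy
    rw [← map_mul, ← map_mul, hgcomm]
  haveI hTc : IsMulCommutative T := by
    rw [hT]
    exact Subgroup.isMulCommutative_closure hScomm
  have hTp : ∀ x ∈ T, x ^ p = 1 := by
    intro x hx
    rw [hT] at hx
    induction hx using Subgroup.closure_induction with
    | mem x hx =>
      obtain ⟨i, rfl⟩ := hSmem x hx
      rw [← map_pow]
      exact (QuotientGroup.eq_one_iff _).mpr (hgp i)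
    | one => simp
    | mul x y hx hy ihx ihy =>
      have hxy : Commute x y := by
        rw [← hT] at hx hy
        exact setLike_mul_comm hx hy
      rw [hxy.mul_pow, ihx, ihy, one_mul]
    | inv x hx ih => rw [inv_pow, ih, inv_one]
  haveI hTfg : Group.FG T := by
    rw [hT]
    exact Group.closure_finset_fg S
  have hTfin : Finite T := by
    letI : CommGroup T := { (inferInstance : Group T) with mul_comm := fun a b => Subtype.ext (setLike_mul_comm a.2 b.2) }
    apply CommGroup.finite_of_fg_isMulTorsion
    intro t
    rw [isOfFinOrder_iff_pow_eq_one]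
    refine ⟨p, hp.pos, ?_⟩
    apply Subtype.ext
    simpa using hTp t t.2
  refine ⟨T.comap π, ?_, ?_⟩
  · intro x hx
    rw [Subgroup.mem_comap]
    have : π x = 1 := (QuotientGroup.eq_one_iff _).mpr hx
    rw [this]
    exact T.one_mem
  · have h1 : U.relIndex (T.comap π) = Nat.card T := by
      have h0 := Subgroup.relIndex_ker (K := T.comap π) π
      rw [QuotientGroup.ker_mk', Subgroup.map_comap_eq_self_of_surjective (QuotientGroup.mk'_surjective U)] at h0
      exact h0
    rw [h1]
    let φ : Fin (N + 1) → T := fun i => ⟨π (g i), by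
      rw [hT]
      apply Subgroup.subset_closure
      simp only [S, Finset.coe_image, Set.mem_image]
      exact ⟨i.val, Finset.mem_coe.mpr (Finset.mem_range.mpr i.isLt), rfl⟩⟩
    have hφ : Function.Injective φ := by
      intro i j hij
      have h2 : π (g i) = π (g j) := congrArg Subtype.val hij
      have h3 := (QuotientGroup.eq).mp h2
      exact Fin.ext (hginj i j h3)
    have := Nat.card_le_card_of_injective φ hφ
    rw [Nat.card_fin] at this
    omega

end Groth.Agent.S15173
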