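import Groth.Statements.S15179
import Mathlib
import Groth.Agent.Lib.Helper22.Conic6

set_option autoImplicit false
universe u
attribute [local instance] MvPolynomial.gradedAlgebra
open BddFin

namespace Groth.Agent.S15179

/-- Let K be a field such that K contains all roots of unity (for every n ≥ 1 the polynomial X^n − 1
splits into linear factors over K). Let q be an irreducible binary quadratic form over K with
non-zero discriminant, so that its zero locus in the projective line over K is a single closed point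
with separable quadratic residue field over K (a pair of distinct conjugate geometric points), and
let U be the complement of that point: the affine curve whose coordinate ring is the ring of
degree-0 fractions f / q ^ k (f a binary form of degree 2k). Then for every finite group G of
K-automorphisms of U (K-linear ring automorphisms of its coordinate ring), every g ∈ G satisfies g ^
2 = 1 and G has at most 4 elements. -/
theorem result
    (K : Type u) [Field K] (hK : ∀ n : ℕ, 0 < n → (Polynomial.X ^ n - 1 : Polynomial K).Splits)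
    (q : MvPolynomial (Fin 2) K) (hq : q.IsHomogeneous 2) (hirr : Irreducible q)
    (hdisc : (q.coeff (Finsupp.single 0 1 + Finsupp.single 1 1)) ^ 2 -
      4 * q.coeff (Finsupp.single 0 2) * q.coeff (Finsupp.single 1 2) ≠ 0)
    (G : Subgroup (HomogeneousLocalization.Away (MvPolynomial.homogeneousSubmodule (Fin 2) K) q ≃+* HomogeneousLocalization.Away (MvPolynomial.homogeneousSubmodule (Fin 2) K) q)) [Finite G]
    (hG : ∀ g ∈ G, ∀ (k : K) (z : HomogeneousLocalization.Away (MvPolynomial.homogeneousSubmodule (Fin 2) K) q), g (k • z) = k • g z) :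
    (∀ g ∈ G, g ^ 2 = 1) ∧ Nat.card G ≤ 4 := by
  classical
  open Groth.Agent.Helper22.Conic in
  obtain ⟨hdeg, hirrp⟩ := dehom_facts hq hirr
  have hqp := Groth.Agent.Helper22.Conic.hom_dehom hq
  obtain ⟨p, hp⟩ : ∃ p : Polynomial K, p = MvPolynomial.aeval ![(Polynomial.X : Polynomial K), 1] q :=
    ⟨_, rfl⟩
  rw [← hp] at hdeg hirrp hqp
  haveI : Fact (Irreducible p) := ⟨hirrp⟩
  obtain ⟨a, ha_def⟩ : ∃ a, a = p.coeff 2 := ⟨_, rfl⟩
  obtain ⟨b, hb_def⟩ : ∃ b, b = p.coeff 1 := ⟨_, rfl⟩
  obtain ⟨c, hc_def⟩ : ∃ c, c = p.coeff 0 := ⟨_, rfl⟩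
  have hp0 : p ≠ 0 := by
    intro h
    rw [h] at hdeg
    simp at hdeg
  have ha : a ≠ 0 := by
    rw [ha_def, ← hdeg, Polynomial.coeff_natDegree]
    exact Polynomial.leadingCoeff_ne_zero.2 hp0
  have hpform : p = Polynomial.C a * Polynomial.X ^ 2 + Polynomial.C b * Polynomial.X +
      Polynomial.C c := by
    conv_lhs => rw [Polynomial.as_sum_range' p 3 (by omega)]
    simp only [Finset.sum_range_succ, Finset.sum_range_zero, zero_add,
      ← Polynomial.C_mul_X_pow_eq_monomial, ← ha_def, ← hb_def, ← hc_def, pow_zero, pow_one, mul_one]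
    ring
  have hqform : q = a • MvPolynomial.X 0 ^ 2 + b • (MvPolynomial.X 0 * MvPolynomial.X 1) +
      c • MvPolynomial.X 1 ^ 2 := by
    rw [← hqp]
    conv_lhs => rw [hpform]
    rw [Polynomial.homogenize_add, Polynomial.homogenize_add, Polynomial.homogenize_C_mul,
      Polynomial.homogenize_C_mul, Polynomial.homogenize_C, Polynomial.homogenize_X_pow (le_refl 2),
      Polynomial.homogenize_X (by norm_num)]
    simp [MvPolynomial.smul_eq_C_mul]
  have hb' : q.coeff (Finsupp.single 0 1 + Finsupp.single 1 1) = b := by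
    rw [← hqp, Polynomial.coeff_homogenize, hb_def]
    simp
  have ha' : q.coeff (Finsupp.single 0 2) = a := by
    rw [← hqp, Polynomial.coeff_homogenize, ha_def]
    simp
  have hc' : q.coeff (Finsupp.single 1 2) = c := by
    rw [← hqp, Polynomial.coeff_homogenize, hc_def]
    simp
  rw [hb', ha', hc'] at hdisc
  -- the field
  obtain ⟨θ, hθdef⟩ : ∃ θ : AdjoinRoot p, θ = AdjoinRoot.root p := ⟨_, rfl⟩
  have haL : algebraMap K (AdjoinRoot p) a ≠ 0 := (map_ne_zero _).2 ha
  have hθ : algebraMap K (AdjoinRoot p) a * θ ^ 2 + algebraMap K (AdjoinRoot p) b * θ +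
      algebraMap K (AdjoinRoot p) c = 0 := by
    have h : AdjoinRoot.mk p (Polynomial.C a * Polynomial.X ^ 2 + Polynomial.C b * Polynomial.X +
        Polynomial.C c) = 0 := by
      rw [← hpform]; exact AdjoinRoot.mk_self
    simp only [map_add, map_mul, map_pow, AdjoinRoot.mk_C, AdjoinRoot.mk_X] at h
    rw [hθdef]
    exact h
  obtain ⟨θ', hθ'def⟩ : ∃ θ' : AdjoinRoot p,
      θ' = -(algebraMap K (AdjoinRoot p) b / algebraMap K (AdjoinRoot p) a) - θ := ⟨_, rfl⟩
  have hb : algebraMap K (AdjoinRoot p) b = -(algebraMap K (AdjoinRoot p) a * (θ + θ')) := by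
    rw [hθ'def]
    field_simp
    ring
  have hc : algebraMap K (AdjoinRoot p) c = algebraMap K (AdjoinRoot p) a * θ * θ' := by
    have h1 : algebraMap K (AdjoinRoot p) a * θ * θ' =
        -(algebraMap K (AdjoinRoot p) b * θ) - algebraMap K (AdjoinRoot p) a * θ ^ 2 := by
      rw [hb]; ring
    rw [h1]
    linear_combination hθ
  have hne : θ ≠ θ' := by
    intro h
    apply hdisc
    apply (algebraMap K (AdjoinRoot p)).injective
    simp only [map_sub, map_mul, map_pow, map_ofNat, map_zero]
    rw [hb, hc, ← h]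
    ring
  have hroot' : p.eval₂ (AdjoinRoot.of p) θ' = 0 := by
    have h : (Polynomial.C a * Polynomial.X ^ 2 + Polynomial.C b * Polynomial.X +
        Polynomial.C c).eval₂ (AdjoinRoot.of p) θ' = 0 := by
      simp only [Polynomial.eval₂_add, Polynomial.eval₂_mul, Polynomial.eval₂_pow,
        Polynomial.eval₂_C, Polynomial.eval₂_X]
      have hb2 : AdjoinRoot.of p b = -(AdjoinRoot.of p a * (θ + θ')) := hb
      have hc2 : AdjoinRoot.of p c = AdjoinRoot.of p a * θ * θ' := hc
      rw [hb2, hc2]
      ring
    rw [← hpform] at h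
    exact h
  obtain ⟨σ, hσdef⟩ : ∃ σ : AdjoinRoot p →+* AdjoinRoot p,
      σ = AdjoinRoot.lift (AdjoinRoot.of p) θ' hroot' := ⟨_, rfl⟩
  have hσK : ∀ k : K, σ (algebraMap K (AdjoinRoot p) k) = algebraMap K (AdjoinRoot p) k := by
    intro k
    rw [hσdef]
    exact AdjoinRoot.lift_of hroot'
  have hσθ : σ θ = θ' := by
    rw [hσdef, hθdef]
    exact AdjoinRoot.lift_root hroot'
  have hσθ' : σ θ' = θ := by
    conv_lhs => rw [hθ'def]
    rw [map_sub, map_neg, map_div₀, hσK, hσK, hσθ, hθ'def]
    ring
  let S : Groth.Agent.Helper22.Conic.Setup K (AdjoinRoot p) :=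
    { q := q
      hq := hq
      a := a
      b := b
      c := c
      ha := ha
      hqform := hqform
      θ := θ
      θ' := θ'
      hb := hb
      hc := hc
      hne := hne
      σ := σ
      hσK := hσK
      hσθ := hσθ
      hσθ' := hσθ' }
  exact S.main hK G hG

end Groth.Agent.S15179
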