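import Groth.Statements.S15180
import Groth.Agent.Lib.Helper18.FinSub5

set_option autoImplicit false
universe u
open CategoryTheory MonoidalCategory CartesianMonoidalCategory MonObj GrpObj AlgebraicGeometry
open BddFin

namespace Groth.Agent.S15180

/-- Let K be an arbitrary field, G a K-group scheme isomorphic (as a group scheme) to 𝔾_a (additive) or
to 𝔾_m (multiplicative), and H a finite subgroup scheme of G (a monomorphic homomorphism H → G with
H finite over K). Then the quotient G/H is isomorphic to G; equivalently, there is a homomorphism of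
K-group schemes G → G which is flat and surjective and whose kernel is H. -/
theorem result
    (K : Type u) [Field K] (G H : Over (Spec (CommRingCat.of K))) [GrpObj G] [GrpObj H]
    (hG : Nonempty (Grp.mk G ≅ Grp.mk (Red.Ga (Spec (CommRingCat.of K)))) ∨
      Nonempty (Grp.mk G ≅ Grp.mk (Red.Gm (Spec (CommRingCat.of K)))))
    (i : H ⟶ G) [IsMonHom i] [Mono i] [IsFinite H.hom] :
    ∃ φ : G ⟶ G, IsMonHom φ ∧ AlgGrp.IsKernel i φ ∧ Flat φ.left ∧ Surjective φ.left := by
  rcases hG with ⟨⟨α⟩⟩ | ⟨⟨α⟩⟩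
  · let ψ : G ≅ Red.Ga (Spec (CommRingCat.of K)) :=
      ⟨α.hom.hom.hom, α.inv.hom.hom, congrArg (fun k => k.hom.hom) α.hom_inv_id,
        congrArg (fun k => k.hom.hom) α.inv_hom_id⟩
    haveI : IsMonHom ψ.hom := inferInstanceAs (IsMonHom α.hom.hom.hom)
    haveI : IsMonHom ψ.inv := inferInstanceAs (IsMonHom α.inv.hom.hom)
    haveI : Mono (i ≫ ψ.hom) := mono_comp _ _
    obtain ⟨φ₀, h1, h2, h3, h4⟩ := Groth.Agent.Helper18.FinSub.main_ga H (i ≫ ψ.hom)
    exact Groth.Agent.Helper18.FinSub.transport ψ i φ₀ h1 h2 h3 h4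
  · let ψ : G ≅ Red.Gm (Spec (CommRingCat.of K)) :=
      ⟨α.hom.hom.hom, α.inv.hom.hom, congrArg (fun k => k.hom.hom) α.hom_inv_id,
        congrArg (fun k => k.hom.hom) α.inv_hom_id⟩
    haveI : IsMonHom ψ.hom := inferInstanceAs (IsMonHom α.hom.hom.hom)
    haveI : IsMonHom ψ.inv := inferInstanceAs (IsMonHom α.inv.hom.hom)
    haveI : Mono (i ≫ ψ.hom) := mono_comp _ _
    obtain ⟨φ₀, h1, h2, h3, h4⟩ := Groth.Agent.Helper18.FinSub.main_gm H (i ≫ ψ.hom)
    exact Groth.Agent.Helper18.FinSub.transport ψ i φ₀ h1 h2 h3 h4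

end Groth.Agent.S15180
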