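import Groth.Statements.S15183
import Mathlib

set_option autoImplicit false
universe u v
open Polynomial
open BddFin

namespace Groth.Agent.S15183

/-- Let K be a field such that K contains all roots of unity (for every n ≥ 1 the polynomial X^n − 1
splits into linear factors over K), and A a finite-dimensional central simple K-algebra which is not
a division algebra (some non-zero element is not a unit). Then the quotient of the unit group of A
by that of K has elements of every finite order invertible in K: for every d ≥ 1 with d ≠ 0 in K
there is a unit x of A with x ^ d in K and x ^ k not in K for 0 < k < d. (The published assertion is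
phrased for the automorphism group of the Severi–Brauer variety of A, which is isomorphic to the
units of A modulo those of K; this row is the algebra-side statement its proof establishes.) -/
theorem result
    (K : Type u) [Field K] (hK : ∀ n : ℕ, 0 < n → (X ^ n - 1 : K[X]).Splits)
    (A : Type v) [Ring A] [Algebra K A] [Algebra.IsCentral K A] [IsSimpleRing A] [FiniteDimensional K A]
    (hA : ∃ y : A, y ≠ 0 ∧ ¬ IsUnit y) (d : ℕ) (hd : 0 < d) (hdK : (d : K) ≠ 0) :
    ∃ x : A, IsUnit x ∧ x ^ d ∈ (algebraMap K A).range ∧
      ∀ k : ℕ, 0 < k → k < d → x ^ k ∉ (algebraMap K A).range := by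
  classical
  haveI : NeZero (d : K) := ⟨hdK⟩
  have hne : (X ^ d - 1 : K[X]) ≠ 0 := by
    have := X_pow_sub_C_ne_zero hd (1 : K)
    simpa using this
  have hcyc : (cyclotomic d K).Splits := (hK d hd).of_dvd hne (cyclotomic.dvd_X_pow_sub_one d K)
  obtain ⟨ζ, hζ⟩ := hcyc.exists_eval_eq_zero (degree_cyclotomic_pos d K hd).ne'
  have hprim : IsPrimitiveRoot ζ d := isRoot_cyclotomic_iff.mp hζ
  haveI : IsArtinianRing A := IsArtinianRing.of_finite K A
  obtain ⟨n, hn, D, _, _, _, ⟨e⟩⟩ := IsSimpleRing.exists_algEquiv_matrix_divisionRing_finite K A
  have hn2 : 2 ≤ n := by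
    by_contra hlt
    have hn1 : n = 1 := by have := hn.out; omega
    subst hn1
    obtain ⟨y, hy0, hyu⟩ := hA
    apply hyu
    have hey : e y ≠ 0 := by
      intro h
      apply hy0
      have := congrArg e.symm h
      simpa using this
    have h00 : (e y) 0 0 ≠ 0 := by
      intro h
      apply hey
      ext i j
      fin_cases i; fin_cases j
      simpa using h
    have hu : IsUnit (e y) := by
      refine ⟨⟨e y, Matrix.of fun _ _ => ((e y) 0 0)⁻¹, ?_, ?_⟩, rfl⟩
      · ext i j
        fin_cases i; fin_cases j
        simp [Matrix.mul_apply, h00]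
      · ext i j
        fin_cases i; fin_cases j
        simp [Matrix.mul_apply, h00]
    have := hu.map e.symm
    simpa using this
  let i0 : Fin n := ⟨0, by omega⟩
  let i1 : Fin n := ⟨1, by omega⟩
  have hi01 : i1 ≠ i0 := by
    intro h
    have := congrArg Fin.val h
    simp [i0, i1] at this
  let v : Fin n → D := fun i => if i = i0 then algebraMap K D ζ else 1
  let M : Matrix (Fin n) (Fin n) D := Matrix.diagonal v
  have hMpow : ∀ k : ℕ, M ^ k = Matrix.diagonal (fun i => if i = i0 then algebraMap K D (ζ ^ k) else 1) := by
    intro k
    rw [Matrix.diagonal_pow]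
    congr 1
    ext i
    by_cases h : i = i0
    · simp [v, h]
    · simp [v, h]
  have hxpow : ∀ k : ℕ, (e.symm M) ^ k = e.symm (M ^ k) := fun k => (map_pow e.symm M k).symm
  have hxd : (e.symm M) ^ d = 1 := by
    rw [hxpow, hMpow, hprim.pow_eq_one]
    have : (Matrix.diagonal (fun i => if i = i0 then algebraMap K D (1 : K) else (1 : D))) = (1 : Matrix (Fin n) (Fin n) D) := by
      rw [← Matrix.diagonal_one]
      congr 1
      ext i
      simp
    rw [this, map_one]
  refine ⟨e.symm M, IsUnit.of_pow_eq_one hxd hd.ne', ?_, ?_⟩
  · rw [hxd]
    exact ⟨1, map_one _⟩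
  · intro k hk hkd ⟨c, hc⟩
    have h1 : M ^ k = algebraMap K _ c := by
      have := congrArg e hc
      rw [hxpow] at this
      simpa using this.symm
    rw [hMpow, Matrix.algebraMap_eq_diagonal] at h1
    have h2 := Matrix.diagonal_injective h1
    have h3 : algebraMap K D (ζ ^ k) = algebraMap K D c := by
      have := congrFun h2 i0
      simpa using this
    have h4 : (1 : D) = algebraMap K D c := by
      have := congrFun h2 i1
      simpa [hi01] using this
    have h5 : ζ ^ k = 1 := by
      apply (algebraMap K D).injective
      rw [h3, ← h4, map_one]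
    have := (hprim.pow_eq_one_iff_dvd k).mp h5
    have := Nat.le_of_dvd hk this
    omega

end Groth.Agent.S15183
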