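import Groth.Statements.S15185
import Mathlib
import Groth.Agent.S15168

set_option autoImplicit false
universe u v
open Polynomial
open BddFin

namespace Groth.Agent.S15185

/-- Let K be a field of characteristic p > 0 such that K contains all roots of unity (for every n ≥ 1
the polynomial X^n − 1 splits into linear factors over K), A a central division algebra of dimension
n ^ 2 over K, and write n = n' · p ^ m with n' prime to p; let N be the reduced norm of A. Consider
the kernel of the homomorphism from the units of A modulo those of K to Kˣ/(Kˣ)^(p^m) induced by N.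
Every element of finite order of that kernel has order dividing n': if x ≠ 0 in A has x ^ r in K for
some r ≥ 1 and N x is a (p ^ m)-th power of a non-zero element of K, then x ^ n' lies in K. -/
theorem result
    (K : Type u) [Field K] (p : ℕ) [Fact p.Prime] [CharP K p] (hK : ∀ n : ℕ, 0 < n → (X ^ n - 1 : K[X]).Splits)
    (A : Type v) [DivisionRing A] [Algebra K A] [Algebra.IsCentral K A] [FiniteDimensional K A]
    (n n' m : ℕ) (hA : Module.finrank K A = n ^ 2) (hn : n = n' * p ^ m) (hn' : ¬ p ∣ n')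
    (N : A →* K) (hN : CSAGal.IsRedNorm K A N)
    (x : A) (hx : x ≠ 0) (hxr : ∃ r : ℕ, 0 < r ∧ x ^ r ∈ (algebraMap K A).range)
    (hNx : ∃ b : K, b ≠ 0 ∧ N x = b ^ (p ^ m)) :
    x ^ n' ∈ (algebraMap K A).range := by
  classical
  obtain ⟨c, hc⟩ := Groth.Agent.S15168.result K hK A n hA x hxr
  obtain ⟨b, hb0, hNx⟩ := hNx
  obtain ⟨K', _, _, _, nm, φ, hφ⟩ := hN
  have hnm : nm = n := by
    have h1 : Module.finrank K' (TensorProduct K K' A) = n ^ 2 := by
      rw [Module.finrank_tensorProduct, Module.finrank_self, one_mul, hA]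
    have h2 := φ.toLinearEquiv.finrank_eq
    rw [h1, Module.finrank_matrix, Fintype.card_fin, Module.finrank_self, mul_one] at h2
    have h3 : nm ^ 2 = n ^ 2 := by rw [h2]; ring
    exact Nat.pow_left_injective (two_ne_zero) h3
  have hNsc : ∀ r : K, N (algebraMap K A r) = r ^ n := by
    intro r
    apply (algebraMap K K').injective
    rw [hφ, map_pow]
    have h1 : (1 : K') ⊗ₜ[K] (algebraMap K A r) =
        algebraMap K' (TensorProduct K K' A) (algebraMap K K' r) := by
      rw [Algebra.TensorProduct.algebraMap_apply, Algebra.algebraMap_eq_smul_one r,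
        TensorProduct.tmul_smul, TensorProduct.smul_tmul', ← Algebra.algebraMap_eq_smul_one]
      rfl
    rw [h1, AlgEquiv.commutes, Algebra.algebraMap_eq_smul_one, Matrix.det_smul, Matrix.det_one,
      mul_one, Fintype.card_fin, hnm]
  have hy : (x ^ n') ^ (p ^ m) = algebraMap K A c := by
    rw [← pow_mul, ← hn, hc]
  have hNy : N (x ^ n') ^ (p ^ m) = c ^ n := by
    rw [← map_pow, hy, hNsc]
  have hNy2 : N (x ^ n') = (b ^ (p ^ m)) ^ n' := by
    rw [map_pow, hNx]
  have h3 : ((b ^ (p ^ m)) ^ n') ^ (p ^ m) = (c ^ n') ^ (p ^ m) := by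
    rw [← hNy2, hNy, hn, pow_mul]
  have h4 : (b ^ (p ^ m)) ^ n' = c ^ n' := by
    apply iterateFrobenius_inj K p m
    simpa [iterateFrobenius_def] using h3
  have hbp : b ^ (p ^ m) ≠ 0 := pow_ne_zero _ hb0
  have hζn : (c / b ^ (p ^ m)) ^ n' = 1 := by
    rw [div_pow, ← h4, div_self (pow_ne_zero _ hbp)]
  have hn'pos : 0 < n' := Nat.pos_of_ne_zero (by rintro rfl; exact hn' (dvd_zero p))
  obtain ⟨ξ, hξ⟩ : ∃ ξ : K, ξ ^ (p ^ m) = c / b ^ (p ^ m) := by
    rcases Nat.lt_or_ge 1 n' with h1 | h1
    · have hp : p.Prime := Fact.out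
      have hcop : Nat.Coprime (p ^ m) n' :=
        Nat.Coprime.pow_left m ((Nat.Prime.coprime_iff_not_dvd hp).mpr hn')
      obtain ⟨u, -, hu⟩ := Nat.exists_mul_mod_eq_one_of_coprime hcop h1
      refine ⟨(c / b ^ (p ^ m)) ^ u, ?_⟩
      rw [← pow_mul, mul_comm, ← Nat.div_add_mod (p ^ m * u) n', hu, pow_add, pow_mul, hζn,
        one_pow, one_mul, pow_one]
    · have h2 : n' = 1 := by omega
      rw [h2, pow_one] at hζn
      exact ⟨1, by rw [one_pow, hζn]⟩
  haveI : CharP A p := charP_of_injective_algebraMap (algebraMap K A).injective p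
  have hcomm : Commute (x ^ n') (algebraMap K A (ξ * b)) := (Algebra.commutes _ _).symm
  have h5 : (x ^ n' - algebraMap K A (ξ * b)) ^ (p ^ m) = 0 := by
    rw [sub_pow_char_pow_of_commute p m hcomm, hy, ← map_pow, mul_pow, hξ, div_mul_cancel₀ _ hbp,
      sub_self]
  have h6 := pow_eq_zero_iff (pow_ne_zero m (Nat.Prime.ne_zero Fact.out)) |>.mp h5
  exact ⟨ξ * b, (sub_eq_zero.mp h6).symm⟩

end Groth.Agent.S15185
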