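import Groth.Statements.S15222
import Groth.Agent.Lib.Lead.ShStabHom
import Groth.Agent.Lib.Helper18.TopPartLE

set_option autoImplicit false
open CategoryTheory CategoryTheory.Limits AlgebraicGeometry Polynomial
universe u
open ShStab

namespace Groth.Agent.S15222

/-- Let X be a scheme proper over a field k with an ample invertible sheaf L, all Hilbert polynomials
being taken with respect to L, and let 1 ≤ ℓ ≤ d. If an O_X-module E is semistable of dimension d in
the sense of Gieseker (coherent, nonzero, pure of dimension d, with reduced Hilbert polynomial p(F)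
≤ p(E) for every nonzero proper coherent submodule F), then E is ℓ-semistable of dimension d: for
every coherent submodule F whose multiplicity satisfies 0 < α_d(F) < α_d(E), the reduced ℓ-truncated
Hilbert polynomials (the coefficients α_{d-1}/α_d, …, α_{d-ℓ}/α_d, compared lexicographically)
satisfy p_ℓ(F) ≤ p_ℓ(E). (The published text records the case ℓ = d − 1, for sheaves on a connected
smooth projective variety with a very ample polarisation; this row states the implication for every
1 ≤ ℓ ≤ d, for X proper over any field with L ample.) -/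
theorem result (k : Type u) [Field k] (X : Scheme.{u})
    [X.Over (Spec (CommRingCat.of k))] [IsProper (X ↘ Spec (CommRingCat.of k))]
    (L : X.Modules) (hL : CohB1.IsAmple L) (d ℓ : ℕ) (hℓ : 1 ≤ ℓ) (hℓd : ℓ ≤ d) (E : X.Modules)
    (hE : ShStab.IsSemistable k X L E d) : ShStab.IsEllSemistable k X L E d ℓ := by
  obtain ⟨hc, hnz, hp, hss⟩ := hE
  refine ⟨hc, hnz, hp, ?_⟩
  intro F ι hm hF pF pE hpF hpE h0 hlt
  haveI := hm
  obtain ⟨pF', dF⟩ := Groth.Agent.Lead.ShStabHom.pdata_of_sub k X L hL E d hp F ι hF
  obtain ⟨pE', dE⟩ := Groth.Agent.Lead.ShStabHom.pdata_of_sub k X L hL E d hp E (𝟙 E) hc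
  have e1 : pF = pF' := Groth.Agent.Helper6.HilbDeg.poly_eq_of_eval_nat_eq _ _
    (fun m => by rw [← hpF m, ← dF.hp m])
  have e2 : pE = pE' := Groth.Agent.Helper6.HilbDeg.poly_eq_of_eval_nat_eq _ _
    (fun m => by rw [← hpE m, ← dE.hp m])
  have hFnz : ¬ IsZero F := by
    intro hz
    have h1 := Groth.Agent.Lead.ShStabHom.isHilbPoly_zero_of_isZero k X L F hz
    have h2 : pF = 0 := Groth.Agent.Helper6.HilbDeg.poly_eq_of_eval_nat_eq _ _
      (fun m => by rw [← hpF m, ← h1 m])
    rw [h2, Groth.Agent.Lead.StabPoly.alpha_zero] at h0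
    exact lt_irrefl _ h0
  have hni : ¬ IsIso ι := by
    intro hi
    have h1 : ShStab.IsHilbPoly k X L E pF :=
      Groth.Agent.Helper25.ShStabFormal.isHilbPoly_of_iso k X L (asIso ι) pF hpF
    have h2 : pF = pE := Groth.Agent.Helper6.HilbDeg.poly_eq_of_eval_nat_eq _ _
      (fun m => by rw [← h1 m, ← hpE m])
    rw [h2] at hlt
    exact lt_irrefl _ hlt
  have hle := hss F ι hm hF hFnz hni pF pE hpF hpE
  exact Groth.Agent.Helper18.TopPartLE.redLE_topPart d ℓ pF pE (e1 ▸ dF.deg) (e2 ▸ dE.deg) hle

end Groth.Agent.S15222
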