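import Groth.Statements.S15224
import Mathlib.Tactic
import Mathlib.Data.Nat.Choose.Sum

set_option autoImplicit false
open Finset
open W4c2rk2extmaps

namespace Groth.Agent.S15224

theorem rat_identity (k : ℕ) (hk : 2 ≤ k) :
    (∑ i ∈ Finset.Ico 1 k, (-1 : ℚ) ^ (i - 1) * ((Nat.factorial i : ℚ)⁻¹ * (Nat.factorial (k - i) : ℚ)⁻¹))
      + (-1 : ℚ) ^ (k - 1) * (Nat.factorial k : ℚ)⁻¹ = (Nat.factorial k : ℚ)⁻¹ := by
  have hk0 : k ≠ 0 := by omega
  have hfac : (Nat.factorial k : ℚ) ≠ 0 := by exact_mod_cast Nat.factorial_ne_zero k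
  have key : ∀ i ∈ Finset.Ico 1 k, (-1 : ℚ) ^ (i - 1) * ((Nat.factorial i : ℚ)⁻¹ * (Nat.factorial (k - i) : ℚ)⁻¹)
      = - ((-1 : ℚ) ^ i * (k.choose i : ℚ)) * (Nat.factorial k : ℚ)⁻¹ := by
    intro i hi
    rw [Finset.mem_Ico] at hi
    have hik : i ≤ k := hi.2.le
    have h1 : (k.choose i : ℚ) * (Nat.factorial i : ℚ) * (Nat.factorial (k - i) : ℚ) = (Nat.factorial k : ℚ) := by
      exact_mod_cast Nat.choose_mul_factorial_mul_factorial hik
    have hi0 : (Nat.factorial i : ℚ) ≠ 0 := by exact_mod_cast Nat.factorial_ne_zero i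
    have hki0 : (Nat.factorial (k - i) : ℚ) ≠ 0 := by exact_mod_cast Nat.factorial_ne_zero (k - i)
    have hpow : (-1 : ℚ) ^ i = - (-1 : ℚ) ^ (i - 1) := by
      obtain ⟨j, rfl⟩ : ∃ j, i = j + 1 := ⟨i - 1, by omega⟩
      simp [pow_succ]
    have hch : (k.choose i : ℚ) ≠ 0 := by exact_mod_cast (Nat.choose_pos hik).ne'
    rw [hpow, ← h1]
    field_simp
  rw [Finset.sum_congr rfl key, ← Finset.sum_mul, Finset.sum_neg_distrib]
  have halt : (∑ m ∈ Finset.range (k + 1), ((-1 : ℚ) ^ m * (k.choose m : ℚ))) = 0 := by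
    have := Int.alternating_sum_range_choose_of_ne hk0
    have h2 : ((∑ m ∈ Finset.range (k + 1), ((-1 : ℤ) ^ m * (k.choose m : ℤ)) : ℤ) : ℚ) = 0 := by
      rw [this]; simp
    push_cast at h2
    exact h2
  rw [Finset.range_eq_Ico, Finset.sum_Ico_succ_top (by omega), Finset.sum_eq_sum_Ico_succ_bot (by omega)] at halt
  simp only [pow_zero, Nat.choose_zero_right, Nat.cast_one, mul_one, Nat.choose_self, zero_add] at halt
  have hpowk : (-1 : ℚ) ^ k = - (-1 : ℚ) ^ (k - 1) := by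
    obtain ⟨j, rfl⟩ : ∃ j, k = j + 1 := ⟨k - 1, by omega⟩
    simp [pow_succ]
  rw [hpowk] at halt
  have hS : (∑ m ∈ Finset.Ico 1 k, ((-1 : ℚ) ^ m * (k.choose m : ℚ))) = -1 + (-1 : ℚ) ^ (k - 1) := by
    linarith
  rw [hS]
  ring

/-- In a commutative ℚ-algebra R let y be an element and put c_k = y^k / k! for every k. Then for k ≥ 2,
Σ_{i=1}^{k-1} (-1)^(i-1) c_i c_(k-i) + (-1)^(k-1) c_k = c_k. (The published statement concerns the
Chern classes of a specific vector bundle on a Jacobian, which are of the form c_k = (4θ)^k / k!;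
the printed argument establishes the identity for every sequence of this form in a commutative
ℚ-algebra, which is the form stated here.) -/
theorem result (R : Type*) [CommRing R] [Algebra ℚ R] (y : R)
    (c : ℕ → R) (hc : ∀ k : ℕ, c k = ((Nat.factorial k : ℚ)⁻¹) • y ^ k)
    (k : ℕ) (hk : 2 ≤ k) :
    (∑ i ∈ Finset.Ico 1 k, (-1 : R) ^ (i - 1) * c i * c (k - i)) + (-1 : R) ^ (k - 1) * c k = c k := by
  have aux : ∀ (q : ℚ) (n : ℕ) (x : R), (-1 : R) ^ n * (q • x) = ((-1 : ℚ) ^ n * q) • x := by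
    intro q n x
    rw [mul_smul, Algebra.smul_def ((-1 : ℚ) ^ n)]
    simp
  have hq := rat_identity k hk
  have hterm : ∀ i ∈ Finset.Ico 1 k, (-1 : R) ^ (i - 1) * c i * c (k - i)
      = ((-1 : ℚ) ^ (i - 1) * ((Nat.factorial i : ℚ)⁻¹ * (Nat.factorial (k - i) : ℚ)⁻¹)) • y ^ k := by
    intro i hi
    rw [Finset.mem_Ico] at hi
    have hik : i + (k - i) = k := by omega
    rw [hc i, hc (k - i)]
    rw [mul_assoc, smul_mul_smul_comm, ← pow_add, hik, aux]
  have hlast : (-1 : R) ^ (k - 1) * c k = ((-1 : ℚ) ^ (k - 1) * (Nat.factorial k : ℚ)⁻¹) • y ^ k := by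
    rw [hc k, aux]
  rw [Finset.sum_congr rfl hterm, hlast, ← Finset.sum_smul, ← add_smul, hq, hc k]

end Groth.Agent.S15224
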