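import Groth.Statements.S15229
import Mathlib.Tactic
import Groth.Agent.S15224

set_option autoImplicit false
open Finset
open W4c2rk2extmaps

namespace Groth.Agent.S15229

/-- In a commutative ℚ-algebra R let θ, η be elements and g a natural number, and put c_k = (4θ)^k / k!.
Suppose θ^(g+1) = 0 and that η satisfies the relation η^(g+1) = Σ_{i=1}^{g+1} (-1)^(i-1) c_i
η^(g+1-i). Then η^(g+k) θ^(g-k) = c_k η^g θ^(g-k) for every 1 ≤ k ≤ g. (The published statement
concerns the first Chern class η of the tautological line bundle on a projective bundle P(U) over a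
g-dimensional Jacobian, with c_k the Chern classes of U, which are (4θ)^k / k!; there θ^(g+1)
vanishes for dimension reasons and the displayed relation is the projective-bundle relation, and the
printed argument derives the identity from exactly these three inputs, which is the form stated
here.) -/
theorem result (R : Type*) [CommRing R] [Algebra ℚ R]
    (θ η : R) (g : ℕ) (c : ℕ → R) (hc : ∀ k : ℕ, c k = ((Nat.factorial k : ℚ)⁻¹) • ((4 : R) * θ) ^ k)
    (hθ : θ ^ (g + 1) = 0)
    (hrel : η ^ (g + 1) = ∑ i ∈ Finset.Ico 1 (g + 2), (-1 : R) ^ (i - 1) * c i * η ^ (g + 1 - i))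
    (k : ℕ) (hk1 : 1 ≤ k) (hkg : k ≤ g) :
    η ^ (g + k) * θ ^ (g - k) = c k * η ^ g * θ ^ (g - k) := by
  set d : ℕ → R := fun i => ((Nat.factorial i : ℚ)⁻¹) • (4 : R) ^ i with hd
  have hcd : ∀ i, c i = d i * θ ^ i := by
    intro i
    rw [hc, mul_pow, hd]
    simp only [smul_mul_assoc]
  have hθ0 : ∀ m, g + 1 ≤ m → θ ^ m = 0 := by
    intro m hm
    obtain ⟨r, rfl⟩ := Nat.exists_eq_add_of_le hm
    rw [pow_add, hθ, zero_mul]
  have key : ∀ k, 1 ≤ k → k ≤ g → η ^ (g + k) * θ ^ (g - k) = d k * η ^ g * θ ^ g := by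
    intro k
    induction k using Nat.strong_induction_on with
    | _ k ih =>
      intro hk1 hkg
      have h1 : η ^ (g + k) = η ^ (k - 1) * η ^ (g + 1) := by
        rw [← pow_add]; congr 1; omega
      rw [h1, hrel, Finset.mul_sum, Finset.sum_mul]
      have hterm : ∀ i ∈ Finset.Ico 1 (g + 2),
          η ^ (k - 1) * ((-1 : R) ^ (i - 1) * c i * η ^ (g + 1 - i)) * θ ^ (g - k) =
          if i < k then (-1 : R) ^ (i - 1) * d i * d (k - i) * (η ^ g * θ ^ g)
          else if i = k then (-1 : R) ^ (k - 1) * d k * (η ^ g * θ ^ g) else 0 := by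
        intro i hi
        rw [Finset.mem_Ico] at hi
        have e1 : η ^ (k - 1) * ((-1 : R) ^ (i - 1) * c i * η ^ (g + 1 - i)) * θ ^ (g - k) =
            (-1 : R) ^ (i - 1) * d i * (η ^ (g + k - i) * θ ^ (i + (g - k))) := by
          rw [hcd i]
          have : η ^ (g + k - i) = η ^ (k - 1) * η ^ (g + 1 - i) := by
            rw [← pow_add]; congr 1; omega
          rw [this, pow_add]; ring
        rw [e1]
        split_ifs with h1 h2
        · have e2 : η ^ (g + k - i) * θ ^ (i + (g - k)) = η ^ (g + (k - i)) * θ ^ (g - (k - i)) := by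
            congr 2 <;> omega
          rw [e2, ih (k - i) (by omega) (by omega) (by omega)]; ring
        · subst h2
          have : η ^ (g + i - i) * θ ^ (i + (g - i)) = η ^ g * θ ^ g := by
            congr 2 <;> omega
          rw [this]
        · rw [hθ0 (i + (g - k)) (by omega)]; ring
      rw [Finset.sum_congr rfl hterm]
      rw [← Finset.sum_Ico_consecutive _ (show 1 ≤ k from hk1) (show k ≤ g + 2 by omega)]
      rw [← Finset.sum_Ico_consecutive _ (show k ≤ k + 1 by omega) (show k + 1 ≤ g + 2 by omega)]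
      have s1 : ∑ i ∈ Finset.Ico 1 k, (if i < k then (-1 : R) ^ (i - 1) * d i * d (k - i) * (η ^ g * θ ^ g)
          else if i = k then (-1 : R) ^ (k - 1) * d k * (η ^ g * θ ^ g) else 0)
          = (∑ i ∈ Finset.Ico 1 k, (-1 : R) ^ (i - 1) * d i * d (k - i)) * (η ^ g * θ ^ g) := by
        rw [Finset.sum_mul]
        apply Finset.sum_congr rfl
        intro i hi
        rw [Finset.mem_Ico] at hi
        rw [if_pos hi.2]
      have s2 : ∑ i ∈ Finset.Ico k (k + 1), (if i < k then (-1 : R) ^ (i - 1) * d i * d (k - i) * (η ^ g * θ ^ g)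
          else if i = k then (-1 : R) ^ (k - 1) * d k * (η ^ g * θ ^ g) else 0)
          = (-1 : R) ^ (k - 1) * d k * (η ^ g * θ ^ g) := by
        rw [Nat.Ico_succ_singleton, Finset.sum_singleton, if_neg (lt_irrefl k), if_pos rfl]
      have s3 : ∑ i ∈ Finset.Ico (k + 1) (g + 2), (if i < k then (-1 : R) ^ (i - 1) * d i * d (k - i) * (η ^ g * θ ^ g)
          else if i = k then (-1 : R) ^ (k - 1) * d k * (η ^ g * θ ^ g) else 0) = 0 := by
        apply Finset.sum_eq_zero
        intro i hi
        rw [Finset.mem_Ico] at hi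
        rw [if_neg (by omega), if_neg (by omega)]
      rw [s1, s2, s3, add_zero, ← add_mul]
      rcases Nat.lt_or_ge k 2 with hk2 | hk2
      · have hk : k = 1 := by omega
        subst hk
        simp
        ring
      · have := Groth.Agent.S15224.result R (4 : R) d (fun _ => rfl) k hk2
        rw [this]; ring
  rw [key k hk1 hkg, hcd k]
  have : θ ^ g = θ ^ k * θ ^ (g - k) := by rw [← pow_add]; congr 1; omega
  rw [this]; ring

end Groth.Agent.S15229
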