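import Groth.Statements.S15232
import Groth.Agent.Lib.Helper11.LocalPerf7

set_option autoImplicit false
universe u
open CategoryTheory CategoryTheory.Limits
attribute [local instance] HasDerivedCategory.standard
open DRing

namespace Groth.Agent.S15232

/-- Let R be a Noetherian commutative ring and I an ideal contained in the Jacobson radical of R, and
assume the derived base change D(R) → D(R/I) exists. Let P be a pseudo-coherent object of D(R) and
a, b integers. If P ⊗^L_R R/I has tor amplitude in [a, b] as an object of D(R/I), then P has tor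
amplitude in [a, b] as an object of D(R). Tor amplitude is taken in the flat-representative form
(isomorphic in the derived category to a complex of flat modules vanishing outside [a, b]). -/
theorem result (R : Type u) [CommRing R] [IsNoetherianRing R]
    (I : Ideal R) (hI : I ≤ Ideal.jacobson (⊥ : Ideal R)) [DRing.HasLBaseChange (Ideal.Quotient.mk I)]
    (P : Dual.D R) (hP : DRing.IsPseudoCoherent' R P) (a b : ℤ)
    (h : DRing.HasTorAmplitudeIn (R ⧸ I) a b ((DRing.LBaseChange (Ideal.Quotient.mk I)).obj P)) :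
    DRing.HasTorAmplitudeIn R a b P := by
  obtain ⟨E, b₀, hEb, hEff, ⟨e⟩⟩ := hP
  have hEproj : ∀ i, Module.Projective R (E.X i) := fun i => by
    haveI := (hEff i).2
    infer_instance
  obtain ⟨eL⟩ := Groth.Agent.Helper11.LDer.nonempty_LBaseChange_iso_of_projRes
    (Ideal.Quotient.mk I) P E b₀ hEb hEproj e
  obtain ⟨F₀, hF₀, hFf₀, ⟨eF₀⟩⟩ := h
  have hTA : DRing.HasTorAmplitudeIn R a b (DerivedCategory.Q.obj E) :=
    Groth.Agent.Helper11.LocalPerf.hasTorAmplitudeIn_of_jacobson I hI E b₀ hEb hEproj
      (fun i => (hEff i).1) a b ⟨F₀, hF₀, hFf₀, ⟨eF₀ ≪≫ eL⟩⟩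
  obtain ⟨F, hF, hFf, ⟨eF⟩⟩ := hTA
  exact ⟨F, hF, hFf, ⟨eF ≪≫ e⟩⟩

end Groth.Agent.S15232
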