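import Groth.Statements.S15235
import Mathlib

set_option autoImplicit false
universe u
open CategoryTheory Opposite
open HomAlg3

namespace Groth.Agent.S15235

open CategoryTheory Opposite in
theorem map_comp_apply' (G : ℕᵒᵖ ⥤ AddCommGrpCat.{u}) {a b c : ℕ} (hab : a ≤ b) (hbc : b ≤ c)
    (x : G.obj (op c)) :
    (G.map (homOfLE hab).op).hom ((G.map (homOfLE hbc).op).hom x) =
      (G.map (homOfLE (hab.trans hbc)).op).hom x := by
  have : (homOfLE (hab.trans hbc)).op = (homOfLE hbc).op ≫ (homOfLE hab).op := Subsingleton.elim _ _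
  rw [this, G.map_comp]
  rfl

open CategoryTheory Opposite in
theorem map_refl_apply' (G : ℕᵒᵖ ⥤ AddCommGrpCat.{u}) {a : ℕ} (h : a ≤ a) (x : G.obj (op a)) :
    (G.map (homOfLE h).op).hom x = x := by
  have : (homOfLE h).op = 𝟙 (op a) := Subsingleton.elim _ _
  rw [this, G.map_id]
  rfl

open CategoryTheory Opposite in
theorem surj_trans (G : ℕᵒᵖ ⥤ AddCommGrpCat.{u}) (j₀ : ℕ)
    (hs : ∀ j : ℕ, j₀ ≤ j → Function.Surjective (G.map (homOfLE (Nat.le_succ j)).op).hom)
    {a b : ℕ} (ha : j₀ ≤ a) (hab : a ≤ b) :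
    Function.Surjective (G.map (homOfLE hab).op).hom := by
  induction b, hab using Nat.le_induction with
  | base => intro x; exact ⟨x, map_refl_apply' G _ x⟩
  | succ b hab ih =>
    intro x
    obtain ⟨y, hy⟩ := ih x
    obtain ⟨z, hz⟩ := hs b (ha.trans hab) y
    refine ⟨z, ?_⟩
    rw [← map_comp_apply' G hab (Nat.le_succ b), hz, hy]

open CategoryTheory Opposite in
theorem inj_trans (G : ℕᵒᵖ ⥤ AddCommGrpCat.{u}) (j₀ : ℕ)
    (hi : ∀ j : ℕ, j₀ ≤ j → Function.Injective (G.map (homOfLE (Nat.le_succ j)).op).hom)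
    {a b : ℕ} (ha : j₀ ≤ a) (hab : a ≤ b) :
    Function.Injective (G.map (homOfLE hab).op).hom := by
  induction b, hab using Nat.le_induction with
  | base => intro x y h; rwa [map_refl_apply', map_refl_apply'] at h
  | succ b hab ih =>
    intro x y h
    rw [← map_comp_apply' G hab (Nat.le_succ b), ← map_comp_apply' G hab (Nat.le_succ b)] at h
    exact hi b (ha.trans hab) (ih h)

open CategoryTheory Opposite in
noncomputable def secSeq (G : ℕᵒᵖ ⥤ AddCommGrpCat.{u}) (j₀ : ℕ)
    (hs : ∀ j : ℕ, j₀ ≤ j → Function.Surjective (G.map (homOfLE (Nat.le_succ j)).op).hom)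
    (x : G.obj (op j₀)) : ∀ n : ℕ, G.obj (op n)
  | 0 => (G.map (homOfLE (Nat.zero_le j₀)).op).hom x
  | n + 1 => if h : n + 1 ≤ j₀ then (G.map (homOfLE h).op).hom x
      else Classical.choose (hs n (by omega) (secSeq G j₀ hs x n))

open CategoryTheory Opposite in
theorem secSeq_le (G : ℕᵒᵖ ⥤ AddCommGrpCat.{u}) (j₀ : ℕ)
    (hs : ∀ j : ℕ, j₀ ≤ j → Function.Surjective (G.map (homOfLE (Nat.le_succ j)).op).hom)
    (x : G.obj (op j₀)) (n : ℕ) (h : n ≤ j₀) :
    secSeq G j₀ hs x n = (G.map (homOfLE h).op).hom x := by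
  cases n with
  | zero => rfl
  | succ n => simp only [secSeq]; rw [dif_pos h]

open CategoryTheory Opposite in
theorem secSeq_succ (G : ℕᵒᵖ ⥤ AddCommGrpCat.{u}) (j₀ : ℕ)
    (hs : ∀ j : ℕ, j₀ ≤ j → Function.Surjective (G.map (homOfLE (Nat.le_succ j)).op).hom)
    (x : G.obj (op j₀)) (n : ℕ) :
    (G.map (homOfLE (Nat.le_succ n)).op).hom (secSeq G j₀ hs x (n + 1)) = secSeq G j₀ hs x n := by
  by_cases h : n + 1 ≤ j₀
  · rw [secSeq_le G j₀ hs x (n + 1) h, secSeq_le G j₀ hs x n (by omega), map_comp_apply']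
  · have : secSeq G j₀ hs x (n + 1) = Classical.choose (hs n (by omega) (secSeq G j₀ hs x n)) := by
      simp only [secSeq]; rw [dif_neg h]
    rw [this]
    exact Classical.choose_spec (hs n (by omega) (secSeq G j₀ hs x n))

open CategoryTheory Opposite in
theorem secSeq_trans (G : ℕᵒᵖ ⥤ AddCommGrpCat.{u}) (j₀ : ℕ)
    (hs : ∀ j : ℕ, j₀ ≤ j → Function.Surjective (G.map (homOfLE (Nat.le_succ j)).op).hom)
    (x : G.obj (op j₀)) {a b : ℕ} (hab : a ≤ b) :
    (G.map (homOfLE hab).op).hom (secSeq G j₀ hs x b) = secSeq G j₀ hs x a := by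
  induction b, hab using Nat.le_induction with
  | base => exact map_refl_apply' G _ _
  | succ b hab ih =>
    rw [← map_comp_apply' G hab (Nat.le_succ b), secSeq_succ, ih]

/-- Let (G_j) be an inverse system of abelian groups indexed by the natural numbers, with transition
maps G_{j+1} → G_j, and let j₀ be a natural number such that the transition map G_{j+1} → G_j is
surjective for every j ≥ j₀. Then: (a) the system satisfies the Mittag-Leffler condition; (b) the
evaluation map from the inverse limit (realised as the set of compatible families) to G_{j₀} is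
surjective; (c) if in addition the transition maps G_{j+1} → G_j are injective for every j ≥ j₀,
that evaluation map is bijective. (The published statement indexes the system by the negative
integers and assumes j₀ ≥ 1; this row indexes it by the natural numbers and allows j₀ = 0, which
changes nothing.) -/
theorem result (G : ℕᵒᵖ ⥤ AddCommGrpCat.{u})
    (j₀ : ℕ) (hs : ∀ j : ℕ, j₀ ≤ j → Function.Surjective (G.map (homOfLE (Nat.le_succ j)).op).hom) :
    (G ⋙ forget AddCommGrpCat.{u}).IsMittagLeffler ∧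
      Function.Surjective (fun s : (G ⋙ forget AddCommGrpCat.{u}).sections => s.1 (op j₀)) ∧
      ((∀ j : ℕ, j₀ ≤ j → Function.Injective (G.map (homOfLE (Nat.le_succ j)).op).hom) →
        Function.Bijective (fun s : (G ⋙ forget AddCommGrpCat.{u}).sections => s.1 (op j₀))) := by
  have hsurj : Function.Surjective
      (fun s : (G ⋙ forget AddCommGrpCat.{u}).sections => s.1 (op j₀)) := by
    intro x
    refine ⟨⟨fun j => secSeq G j₀ hs x j.unop, ?_⟩, ?_⟩
    · intro j j' f
      have hle : j'.unop ≤ j.unop := leOfHom f.unop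
      have hf : f = (homOfLE hle).op := Subsingleton.elim _ _
      rw [hf]
      exact secSeq_trans G j₀ hs x hle
    · change secSeq G j₀ hs x j₀ = x
      rw [secSeq_le G j₀ hs x j₀ le_rfl, map_refl_apply']
  refine ⟨?_, hsurj, fun hinj => ⟨?_, hsurj⟩⟩
  · intro j
    refine ⟨op (max j.unop j₀), (homOfLE (le_max_left _ _)).op, ?_⟩
    intro k g
    have hjk : j.unop ≤ k.unop := leOfHom g.unop
    rintro _ ⟨y, rfl⟩
    obtain ⟨z, hz⟩ := surj_trans G j₀ hs (le_max_right j.unop j₀)
      (le_max_right k.unop (max j.unop j₀)) y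
    refine ⟨(G.map (homOfLE (le_max_left k.unop (max j.unop j₀))).op).hom z, ?_⟩
    have hg : g = (homOfLE hjk).op := Subsingleton.elim _ _
    rw [hg, ← hz]
    change (G.map (homOfLE hjk).op).hom ((G.map (homOfLE _).op).hom z)
      = (G.map (homOfLE _).op).hom ((G.map (homOfLE _).op).hom z)
    rw [map_comp_apply', map_comp_apply']
  · apply (G ⋙ forget AddCommGrpCat.{u}).eval_section_injective_of_eventually_injective
      (j := op j₀) ?_ (op j₀) (𝟙 _)
    intro i f
    have hle : j₀ ≤ i.unop := leOfHom f.unop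
    have hf : f = (homOfLE hle).op := Subsingleton.elim _ _
    rw [hf]
    exact inj_trans G j₀ hinj le_rfl hle

end Groth.Agent.S15235
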