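import Groth.Statements.S15237
import Mathlib

set_option autoImplicit false
open CategoryTheory AlgebraicGeometry
universe u
open Variety

namespace Groth.Agent.S15237

section aux237
open Cardinal
section core

/-- a field extension of an uncountable field which is countably generated as an algebra is
algebraic -/
theorem isAlgebraic_of_countable_gen (k K : Type u) [Field k] [Uncountable k] [Field K] [Algebra k K]
    (σ : Type u) [Countable σ] (g : σ → K) (hg : Algebra.adjoin k (Set.range g) = ⊤) :
    Algebra.IsAlgebraic k K := by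
  have hsurj : Function.Surjective (MvPolynomial.aeval g : MvPolynomial σ k →ₐ[k] K) := by
    rw [← AlgHom.range_eq_top, ← Algebra.adjoin_range_eq_range_aeval, hg]
  have hrank : Module.rank k K ≤ ℵ₀ := by
    have h1 := LinearMap.rank_le_of_surjective (MvPolynomial.aeval g : MvPolynomial σ k →ₐ[k] K).toLinearMap hsurj
    rw [MvPolynomial.rank_eq] at h1
    exact h1.trans (Cardinal.mk_le_aleph0)
  constructor
  intro t
  by_contra ht
  have ht' : Transcendental k t := ht
  have h2 := ht'.linearIndependent_sub_inv.cardinal_lift_le_rank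
  rw [Cardinal.lift_id, Cardinal.lift_id] at h2
  have h3 : #k ≤ ℵ₀ := h2.trans hrank
  rw [Cardinal.mk_le_aleph0_iff] at h3
  exact not_countable h3

end core

section maxid

theorem exists_maximal_avoiding (k : Type u) [Field k] [Uncountable k] (A : Type u) [CommRing A]
    [Algebra k A] [Algebra.FiniteType k A] (hA : (nilradical A).IsPrime) (f : ℕ → A)
    (hf : ∀ n, f n ∉ nilradical A) : ∃ m : Ideal A, m.IsMaximal ∧ ∀ n, f n ∉ m := by
  let S : Submonoid A := Submonoid.closure (Set.range f)
  have hS : S ≤ (nilradical A).primeCompl := by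
    apply Submonoid.closure_le.2
    rintro _ ⟨n, rfl⟩
    exact hf n
  have h0 : (0 : A) ∉ S := fun h => hS h (Ideal.zero_mem _)
  let L := Localization S
  haveI : Nontrivial L := by
    rw [← not_subsingleton_iff_nontrivial, IsLocalization.subsingleton_iff (M := S)]
    exact h0
  obtain ⟨m', hm'⟩ := Ideal.exists_maximal L
  let K := L ⧸ m'
  letI : Field K := Ideal.Quotient.field m'
  let φ : A →ₐ[k] K := (Ideal.Quotient.mkₐ k m').comp (IsScalarTower.toAlgHom k A L)
  have hunit : ∀ s ∈ S, φ s ≠ 0 := by
    intro s hs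
    have h1 : IsUnit (algebraMap A L s) := IsLocalization.map_units L ⟨s, hs⟩
    have h2 : IsUnit (φ s) := h1.map (Ideal.Quotient.mk m')
    exact h2.ne_zero
  -- generators
  obtain ⟨G, hG⟩ := (Algebra.FiniteType.out : (⊤ : Subalgebra k A).FG)
  let g : (↥G ⊕ ℕ) → K := Sum.elim (fun a => φ a.1) (fun n => (φ (f n))⁻¹)
  have hinv : ∀ s ∈ S, (φ s)⁻¹ ∈ Algebra.adjoin k (Set.range g) := by
    intro s hs
    induction hs using Submonoid.closure_induction with
    | mem x hx =>
      obtain ⟨n, rfl⟩ := hx
      exact Algebra.subset_adjoin ⟨Sum.inr n, rfl⟩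
    | one => rw [map_one, inv_one]; exact Subalgebra.one_mem _
    | mul x y _ _ hx hy => rw [map_mul, mul_inv]; exact Subalgebra.mul_mem _ hx hy
  have hφA : ∀ a : A, φ a ∈ Algebra.adjoin k (Set.range g) := by
    intro a
    have ha : a ∈ Algebra.adjoin k (G : Set A) := by rw [hG]; exact Algebra.mem_top
    induction ha using Algebra.adjoin_induction with
    | mem x hx => exact Algebra.subset_adjoin ⟨Sum.inl ⟨x, hx⟩, rfl⟩
    | algebraMap r => rw [AlgHom.commutes]; exact Subalgebra.algebraMap_mem _ r
    | add x y _ _ hx hy => rw [map_add]; exact Subalgebra.add_mem _ hx hy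
    | mul x y _ _ hx hy => rw [map_mul]; exact Subalgebra.mul_mem _ hx hy
  have hgen : Algebra.adjoin k (Set.range g) = ⊤ := by
    rw [eq_top_iff]
    rintro z -
    obtain ⟨z, rfl⟩ := Ideal.Quotient.mk_surjective z
    obtain ⟨⟨a, s⟩, hz⟩ := IsLocalization.surj S z
    have hz' : Ideal.Quotient.mk m' z * φ s = φ a := by
      change Ideal.Quotient.mk m' z * Ideal.Quotient.mk m' (algebraMap A L s) =
        Ideal.Quotient.mk m' (algebraMap A L a)
      rw [← map_mul, hz]
    have : Ideal.Quotient.mk m' z = φ a * (φ s)⁻¹ := by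
      rw [← hz', mul_assoc, mul_inv_cancel₀ (hunit s s.2), mul_one]
    rw [this]
    exact Subalgebra.mul_mem _ (hφA a) (hinv s s.2)
  haveI : Algebra.IsAlgebraic k K := isAlgebraic_of_countable_gen k K (↥G ⊕ ℕ) g hgen
  let m : Ideal A := RingHom.ker φ
  have hmprime : m.IsPrime := RingHom.ker_isPrime φ
  refine ⟨m, ?_, ?_⟩
  · -- A/m is a domain integral over k, hence a field
    let ψ : (A ⧸ m) →ₐ[k] K := Ideal.Quotient.liftₐ m φ (fun a ha => ha)
    have hψ : Function.Injective ψ := by
      rw [injective_iff_map_eq_zero]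
      intro x hx
      obtain ⟨x, rfl⟩ := Ideal.Quotient.mk_surjective x
      exact Ideal.Quotient.eq_zero_iff_mem.2 hx
    haveI : IsDomain (A ⧸ m) := (Ideal.Quotient.isDomain_iff_prime m).2 hmprime
    haveI : Algebra.IsIntegral k (A ⧸ m) := ⟨fun x =>
      (isIntegral_algHom_iff ψ hψ).1 (Algebra.IsIntegral.isIntegral (ψ x))⟩
    have hfld : IsField (A ⧸ m) := isField_of_isIntegral_of_isField' (Field.toIsField k)
    exact Ideal.Quotient.maximal_of_isField m hfld
  · intro n hn
    exact hunit (f n) (Submonoid.subset_closure ⟨n, rfl⟩) hn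

end maxid

section sch

theorem main (k : Type u) [Field k] [Uncountable k]
    (X : Scheme.{u}) (sX : X ⟶ Spec (CommRingCat.of k)) [IrreducibleSpace X]
    [LocallyOfFiniteType sX] [QuasiCompact sX]
    (Z : ℕ → TopologicalSpace.Closeds X) (hZ : ∀ n, (Z n : Set X) ≠ Set.univ) :
    ∃ x : X, IsClosed ({x} : Set X) ∧ ∀ n, x ∉ Z n := by
  haveI : JacobsonSpace X := LocallyOfFiniteType.jacobsonSpace sX
  obtain ⟨x₀⟩ := (inferInstance : Nonempty X)
  obtain ⟨U, hU, hx₀U, -⟩ := exists_isAffineOpen_mem_and_subset (X := X) (x := x₀) (U := ⊤) trivial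
  -- the k-algebra structure
  let ρ : k →+* Γ(X, U) := (sX.appLE ⊤ U (by simp)).hom.comp
    (Scheme.ΓSpecIso (CommRingCat.of k)).inv.hom
  have hρ : ρ.FiniteType := by
    refine RingHom.FiniteType.comp (sX.finiteType_appLE (isAffineOpen_top _) hU (by simp)) ?_
    apply RingHom.FiniteType.of_surjective
    exact (ConcreteCategory.bijective_of_isIso (Scheme.ΓSpecIso (CommRingCat.of k)).inv).2
  letI : Algebra k Γ(X, U) := ρ.toAlgebra
  haveI : Algebra.FiniteType k Γ(X, U) := hρ
  let j := hU.fromSpec
  have hj : Topology.IsOpenEmbedding j := j.isOpenEmbedding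
  have hrange : Set.range j = (U : Set X) := hU.range_fromSpec
  -- irreducibility of Spec A
  haveI : Nonempty (Spec Γ(X, U)) := by
    have : x₀ ∈ Set.range j := by rw [hrange]; exact hx₀U
    obtain ⟨y, -⟩ := this
    exact ⟨y⟩
  haveI : IrreducibleSpace (PrimeSpectrum Γ(X, U)) := by
    haveI : PreirreducibleSpace (Spec Γ(X, U)) := by
      constructor
      have := (PreirreducibleSpace.isPreirreducible_univ (X := X)).preimage hj
      rwa [Set.preimage_univ] at this
    exact (⟨inferInstance⟩ : IrreducibleSpace (Spec Γ(X, U)))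
  have hnil : (nilradical Γ(X, U)).IsPrime :=
    PrimeSpectrum.irreducibleSpace_iff_isPrime_nilradical.1 inferInstance
  -- U is dense
  have hUd : Dense (U : Set X) := U.isOpen.dense ⟨x₀, hx₀U⟩
  -- the closed sets
  let W : ℕ → Set (PrimeSpectrum Γ(X, U)) := fun n => j ⁻¹' (Z n : Set X)
  have hWcl : ∀ n, IsClosed (W n) := fun n => (Z n).isClosed.preimage hj.continuous
  have hWne : ∀ n, W n ≠ Set.univ := by
    intro n hn
    apply hZ n
    rw [Set.eq_univ_iff_forall]
    have hsub : (U : Set X) ⊆ (Z n : Set X) := by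
      rw [← hrange]
      rintro _ ⟨y, rfl⟩
      have : y ∈ W n := by rw [hn]; trivial
      exact this
    have := hUd.closure_eq ▸ closure_minimal hsub (Z n).isClosed
    intro x
    exact this (Set.mem_univ x)
  have hex : ∀ n, ∃ f : Γ(X, U), f ∈ PrimeSpectrum.vanishingIdeal (W n) ∧ f ∉ nilradical Γ(X, U) := by
    intro n
    by_contra hcon
    push Not at hcon
    apply hWne n
    have h1 : PrimeSpectrum.vanishingIdeal (W n) ≤ nilradical Γ(X, U) := fun f hf => hcon f hf
    have h2 : PrimeSpectrum.zeroLocus (PrimeSpectrum.vanishingIdeal (W n) : Set Γ(X, U)) = W n := by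
      rw [PrimeSpectrum.zeroLocus_vanishingIdeal_eq_closure, (hWcl n).closure_eq]
    rw [← h2, Set.eq_univ_iff_forall]
    intro y
    rw [PrimeSpectrum.mem_zeroLocus]
    intro f hf
    exact nilradical_le_prime y.asIdeal (h1 hf)
  choose f hfI hfn using hex
  obtain ⟨m, hm, hfm⟩ := exists_maximal_avoiding k Γ(X, U) hnil f hfn
  let y : PrimeSpectrum Γ(X, U) := ⟨m, hm.isPrime⟩
  have hyW : ∀ n, y ∉ W n := by
    intro n hy
    apply hfm n
    have := (PrimeSpectrum.mem_vanishingIdeal _ _).1 (hfI n) y hy
    exact this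
  have hycl : y ∈ closedPoints (PrimeSpectrum Γ(X, U)) := by
    rw [mem_closedPoints_iff, PrimeSpectrum.isClosed_singleton_iff_isMaximal]
    exact hm
  have hpre := hj.preimage_closedPoints
  have hy' : y ∈ j ⁻¹' closedPoints X := by
    rw [hpre]
    exact hycl
  exact ⟨j y, hy', fun n hn => hyW n hn⟩

end sch
end aux237

/-- Let k be an uncountable field and X an irreducible k-scheme of finite type. Then the closed points
of X are not covered by countably many closed subsets of X different from X: for every sequence Z₀,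
Z₁, … of closed subsets of X with Zₙ ≠ X for all n there is a closed point of X lying in no Zₙ. (The
published statement is for an irreducible quasi-projective variety and says that the variety is not
a countable union of closed subsets different from it, a variety being read through its closed
points; with the generic point of the scheme that assertion would be immediate, so this row asks for
a closed point, and it assumes only finite type over k.) -/
theorem result (k : Type u) [Field k] [Uncountable k]
    (X : Scheme.{u}) (sX : X ⟶ Spec (CommRingCat.of k)) [IrreducibleSpace X]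
    [LocallyOfFiniteType sX] [QuasiCompact sX]
    (Z : ℕ → TopologicalSpace.Closeds X) (hZ : ∀ n, (Z n : Set X) ≠ Set.univ) :
    ∃ x : X, IsClosed ({x} : Set X) ∧ ∀ n, x ∉ Z n := by
  exact main k X sX Z hZ

end Groth.Agent.S15237
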