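import Groth.Statements.S15245
import Groth.Agent.Lib.Helper29.Exchange

set_option autoImplicit false
universe u
open CategoryTheory AlgebraicGeometry
open RedSub

namespace Groth.Agent.S15245

set_option linter.style.haveILetI false
set_option linter.unusedVariables false
set_option linter.unusedSectionVars false
open Groth.Agent.Helper29.Exchange

variable {idx M N : Type} [AddCommGroup M] [AddCommGroup N]
  (P : RootPairing idx ℤ M N) (b : P.Base)

theorem mem_posRoots_iff (c : idx) : c ∈ RedSub.posRoots P b ↔ b.IsPos c := by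
  constructor
  · exact isPos_of_mem_posRoots P b
  · intro h
    rcases b.root_mem_or_neg_mem c with h1 | h1
    · exact h1
    · exact absurd h (not_isPos_of_mem_negRoots P b h1)

theorem mem_negRoots_iff (c : idx) : c ∈ RedSub.negRoots P b ↔ ¬ b.IsPos c := by
  constructor
  · exact not_isPos_of_mem_negRoots P b
  · intro h
    rcases b.root_mem_or_neg_mem c with h1 | h1
    · exact absurd (isPos_of_mem_posRoots P b h1) h
    · exact h1

/-- permutations of the roots induced by linear maps -/
def IsLin (u : Equiv.Perm idx) : Prop := ∃ U : M →ₗ[ℤ] M, ∀ a, P.root (u a) = U (P.root a)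

theorem isLin_one : IsLin P (1 : Equiv.Perm idx) := ⟨LinearMap.id, fun a => rfl⟩

theorem isLin_reflectionPerm (c : idx) : IsLin P (P.reflectionPerm c) :=
  ⟨(P.reflection c).toLinearMap, fun a => P.root_reflectionPerm c a⟩

theorem IsLin.mul {u v : Equiv.Perm idx} (hu : IsLin P u) (hv : IsLin P v) : IsLin P (u * v) := by
  obtain ⟨U, hU⟩ := hu
  obtain ⟨V, hV⟩ := hv
  refine ⟨U.comp V, fun a => ?_⟩
  rw [Equiv.Perm.mul_apply, hU, hV, LinearMap.comp_apply]

theorem isLin_wordPerm (l : List idx) : IsLin P (RedSub.wordPerm P l) := by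
  induction l with
  | nil => exact isLin_one P
  | cons x l ih =>
    have : RedSub.wordPerm P (x :: l) = P.reflectionPerm x * RedSub.wordPerm P l := by
      simp [RedSub.wordPerm]
    rw [this]
    exact (isLin_reflectionPerm P x).mul P ih

theorem reflectionPerm_wordPerm (l : List idx) (a : idx) :
    P.reflectionPerm (RedSub.wordPerm P l a) =
      RedSub.wordPerm P l * P.reflectionPerm a * (RedSub.wordPerm P l)⁻¹ := by
  induction l generalizing a with
  | nil => simp [RedSub.wordPerm]
  | cons x l ih =>
    have h1 : RedSub.wordPerm P (x :: l) = P.reflectionPerm x * RedSub.wordPerm P l := by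
      simp [RedSub.wordPerm]
    rw [h1, Equiv.Perm.mul_apply, reflectionPerm_conj, ih, mul_inv_rev, P.reflectionPerm_inv]
    simp only [mul_assoc]

variable {P b}

theorem height_lin {u : Equiv.Perm idx} (hu : IsLin P u) (γ a : idx) :
    b.height (u (P.reflectionPerm γ a)) = b.height (u a) - P.pairing a γ * b.height (u γ) := by
  obtain ⟨U, hU⟩ := hu
  have hk : P.root (u (P.reflectionPerm γ a)) = P.root (u a) + (-(P.pairing a γ)) • P.root (u γ) := by
    rw [hU, P.root_reflectionPerm, P.reflection_apply_root, map_sub, map_zsmul, ← hU, ← hU]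
    rw [neg_smul, sub_eq_add_neg]
  rw [b.height_add_zsmul hk]
  simp only [smul_eq_mul]
  ring

theorem height_refl (γ a : idx) :
    b.height (P.reflectionPerm γ a) = b.height a - P.pairing a γ * b.height γ :=
  height_lin (isLin_one P) γ a

theorem height_refl_self (γ : idx) : b.height (P.reflectionPerm γ γ) = - b.height γ := by
  rw [height_refl, P.pairing_same]; ring

theorem height_lin_self {u : Equiv.Perm idx} (hu : IsLin P u) (γ : idx) :
    b.height (u (P.reflectionPerm γ γ)) = - b.height (u γ) := by
  rw [height_lin hu, P.pairing_same]; ring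

/-- the inversion set -/
def Inv (b : P.Base) (u : Equiv.Perm idx) : Set idx := {a | b.IsPos a ∧ ¬ b.IsPos (u a)}

theorem ncard_inv_lt [Finite idx] {u : Equiv.Perm idx} (hu : IsLin P u) (γ : idx)
    (hγ : b.IsPos γ) (huγ : b.IsPos (u γ)) :
    (Inv b u).ncard < (Inv b (u * P.reflectionPerm γ)).ncard := by
  classical
  set s := P.reflectionPerm γ with hs
  have hss : ∀ a, s (s a) = a := fun a => P.reflectionPerm_self γ a
  have hγmem : γ ∈ Inv b (u * s) := by
    refine ⟨hγ, ?_⟩
    rw [Equiv.Perm.mul_apply, RootPairing.Base.isPos_iff, height_lin_self hu]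
    rw [RootPairing.Base.isPos_iff] at huγ
    omega
  have hlt := Set.ncard_sdiff_singleton_lt_of_mem hγmem (Set.toFinite _)
  refine lt_of_le_of_lt ?_ hlt
  let f : idx → idx := fun a => if b.IsPos (s a) then s a else a
  refine Set.ncard_le_ncard_of_injOn f ?_ ?_ (Set.toFinite _)
  · rintro a ⟨ha, hua⟩
    rw [RootPairing.Base.isPos_iff] at ha hua hγ huγ
    have hne := b.height_ne_zero (u a)
    by_cases hp : b.IsPos (s a)
    · have hf : f a = s a := if_pos hp
      rw [hf]
      refine ⟨⟨hp, ?_⟩, ?_⟩
      · rw [Equiv.Perm.mul_apply, hss, RootPairing.Base.isPos_iff]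
        exact hua
      · intro h
        rw [Set.mem_singleton_iff] at h
        have : a = s γ := by rw [← h, hss]
        rw [this, hs, height_refl_self] at ha
        omega
    · have hf : f a = a := if_neg hp
      rw [hf]
      rw [RootPairing.Base.isPos_iff, hs, height_refl] at hp
      have hc : 0 < P.pairing a γ := by
        by_contra hc
        push Not at hc
        have : P.pairing a γ * b.height γ ≤ 0 := mul_nonpos_of_nonpos_of_nonneg hc hγ.le
        omega
      refine ⟨⟨ha, ?_⟩, ?_⟩
      · rw [Equiv.Perm.mul_apply, RootPairing.Base.isPos_iff, hs, height_lin hu]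
        have : 0 < P.pairing a γ * b.height (u γ) := mul_pos hc huγ
        omega
      · intro h
        rw [Set.mem_singleton_iff] at h
        rw [h] at hua
        exact hua huγ
  · rintro a₁ ⟨ha₁, _⟩ a₂ ⟨ha₂, _⟩ h12
    by_cases hp₁ : b.IsPos (s a₁)
    · by_cases hp₂ : b.IsPos (s a₂)
      · have h1 : f a₁ = s a₁ := if_pos hp₁
        have h2 : f a₂ = s a₂ := if_pos hp₂
        rw [h1, h2] at h12
        exact s.injective h12
      · have h1 : f a₁ = s a₁ := if_pos hp₁
        have h2 : f a₂ = a₂ := if_neg hp₂
        rw [h1, h2] at h12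
        exfalso
        apply hp₂
        rw [← h12, hss]
        exact ha₁
    · by_cases hp₂ : b.IsPos (s a₂)
      · have h1 : f a₁ = a₁ := if_neg hp₁
        have h2 : f a₂ = s a₂ := if_pos hp₂
        rw [h1, h2] at h12
        exfalso
        apply hp₁
        rw [h12, hss]
        exact ha₂
      · have h1 : f a₁ = a₁ := if_neg hp₁
        have h2 : f a₂ = a₂ := if_neg hp₂
        rw [h1, h2] at h12
        exact h12

theorem main {idx M N : Type}
    [AddCommGroup M] [AddCommGroup N] [Finite idx]
    (P : RootPairing idx ℤ M N) [P.IsReduced] (b : P.Base) (l : List idx) (c : idx)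
    (hc : c ∈ RedSub.posRoots P b) :
    Set.ncard {a : idx | a ∈ RedSub.posRoots P b ∧ RedSub.wordPerm P l a ∈ RedSub.negRoots P b} <
        Set.ncard {a : idx | a ∈ RedSub.posRoots P b ∧
          (P.reflectionPerm c * RedSub.wordPerm P l) a ∈ RedSub.negRoots P b} ↔
      (RedSub.wordPerm P l)⁻¹ c ∈ RedSub.posRoots P b := by
  set w := RedSub.wordPerm P l with hw
  have hwlin : IsLin P w := isLin_wordPerm P l
  have hcpos : b.IsPos c := (mem_posRoots_iff P b c).mp hc
  set γ := w⁻¹ c with hγdef
  have hwγ : w γ = c := by rw [hγdef]; exact Equiv.apply_symm_apply w c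
  have hconj : P.reflectionPerm c * w = w * P.reflectionPerm γ := by
    rw [← hwγ, hw, reflectionPerm_wordPerm, mul_assoc, mul_assoc, inv_mul_cancel, mul_one]
  have hset1 : {a : idx | a ∈ RedSub.posRoots P b ∧ w a ∈ RedSub.negRoots P b} = Inv b w := by
    ext a
    simp only [Set.mem_ofPred_eq, Inv, mem_posRoots_iff, mem_negRoots_iff]
  have hset2 : {a : idx | a ∈ RedSub.posRoots P b ∧
      (P.reflectionPerm c * w) a ∈ RedSub.negRoots P b} = Inv b (w * P.reflectionPerm γ) := by
    ext a
    rw [hconj]
    simp only [Set.mem_ofPred_eq, Inv, mem_posRoots_iff, mem_negRoots_iff]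
  rw [hset1, hset2, mem_posRoots_iff]
  constructor
  · intro hlt
    by_contra hγneg
    -- `γ' = -γ` is positive
    set γ' := P.reflectionPerm γ γ with hγ'
    have hγ'pos : b.IsPos γ' := by
      rw [RootPairing.Base.isPos_iff, hγ', height_refl_self]
      rw [RootPairing.Base.isPos_iff] at hγneg
      have := b.height_ne_zero γ
      omega
    have hulin : IsLin P (w * P.reflectionPerm γ) := hwlin.mul P (isLin_reflectionPerm P γ)
    have huγ' : b.IsPos ((w * P.reflectionPerm γ) γ') := by
      rw [Equiv.Perm.mul_apply, hγ', P.reflectionPerm_self, hwγ]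
      exact hcpos
    have hlt2 := ncard_inv_lt hulin γ' hγ'pos huγ'
    have hrefl : P.reflectionPerm γ' = P.reflectionPerm γ := by
      rw [hγ', reflectionPerm_conj]
      have hsq : P.reflectionPerm γ * P.reflectionPerm γ = 1 := by
        have := P.reflectionPerm_sq γ
        rwa [sq] at this
      rw [hsq, one_mul]
    rw [hrefl, mul_assoc] at hlt2
    have hsq : P.reflectionPerm γ * P.reflectionPerm γ = 1 := by
      have := P.reflectionPerm_sq γ
      rwa [sq] at this
    rw [hsq, mul_one] at hlt2
    exact lt_asymm hlt hlt2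
  · intro hγpos
    exact ncard_inv_lt hwlin γ hγpos (by rw [hwγ]; exact hcpos)

/-- Let Φ be a finite reduced root system (a reduced root pairing over ℤ on a finite index set) with a
base b, w an element of its Weyl group, given as the product of the reflections along a word l and
acting on the roots, and γ a positive root. Writing ℓ(u) for the number of positive roots a with
u(a) negative, one has ℓ(w) < ℓ(σ_γ w) if and only if w⁻¹(γ) is positive. (Here the length is taken
as the number of inverted positive roots.) -/
theorem result {idx M N : Type}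
    [AddCommGroup M] [AddCommGroup N] [Finite idx]
    (P : RootPairing idx ℤ M N) [P.IsReduced] (b : P.Base) (l : List idx) (c : idx)
    (hc : c ∈ RedSub.posRoots P b) :
    Set.ncard {a : idx | a ∈ RedSub.posRoots P b ∧ RedSub.wordPerm P l a ∈ RedSub.negRoots P b} <
        Set.ncard {a : idx | a ∈ RedSub.posRoots P b ∧
          (P.reflectionPerm c * RedSub.wordPerm P l) a ∈ RedSub.negRoots P b} ↔
      (RedSub.wordPerm P l)⁻¹ c ∈ RedSub.posRoots P b := by
  exact main P b l c hc

end Groth.Agent.S15245
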