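import Groth.Statements.S15247
import Groth.Agent.Lib.Helper18.DimFG
import Mathlib

set_option autoImplicit false
open Fano

namespace Groth.Agent.S15247

open MvPolynomial Cardinal

universe u

variable {k : Type u} [Field k]

theorem exists_algInd (N a : ℕ) (P : Ideal (MvPolynomial (Fin N) k)) [P.IsPrime]
    (hdim : ringKrullDim (MvPolynomial (Fin N) k ⧸ P) = (a : WithBot ℕ∞)) :
    ∃ y : Fin a → Fin N, Function.Injective y ∧
      AlgebraicIndependent k (fun i : Fin a => Ideal.Quotient.mk P (X (y i))) := by
  classical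
  set A := MvPolynomial (Fin N) k ⧸ P with hA
  haveI : IsDomain A := Ideal.Quotient.isDomain P
  obtain ⟨s, g, hinj, -, hs⟩ := Groth.Agent.Helper18.DimFG.exists_noether (k := k) A
  have hsa : s = a := by
    rw [hdim] at hs
    exact_mod_cast hs.symm
  subst hsa
  have hind : AlgebraicIndependent k (fun i : Fin s => g (MvPolynomial.X i)) := by
    rw [algebraicIndependent_iff_injective_aeval]
    have : (MvPolynomial.aeval fun i : Fin s => g (MvPolynomial.X i)) = g := by
      apply MvPolynomial.algHom_ext
      intro i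
      simp
    rw [this]
    exact hinj
  have h1 : (s : Cardinal.{u}) ≤ Algebra.trdeg k A := by
    have := hind.lift_cardinalMk_le_trdeg
    simpa using this
  let xb : Fin N → A := fun i => Ideal.Quotient.mk P (X i)
  have hadj : Algebra.adjoin k (Set.range xb) = ⊤ := by
    rw [Algebra.adjoin_range_eq_range_aeval, eq_top_iff]
    rintro x -
    obtain ⟨p, rfl⟩ := Ideal.Quotient.mk_surjective x
    refine ⟨p, ?_⟩
    have : (MvPolynomial.aeval xb) = (Ideal.Quotient.mkₐ k P) := by
      apply MvPolynomial.algHom_ext
      intro i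
      simp [xb]
      rfl
    rw [this]
    rfl
  haveI : Algebra.IsAlgebraic (Algebra.adjoin k (Set.range xb)) A := by
    constructor
    intro x
    have hx : x ∈ Algebra.adjoin k (Set.range xb) := by rw [hadj]; trivial
    exact isAlgebraic_algebraMap (⟨x, hx⟩ : Algebra.adjoin k (Set.range xb))
  haveI : FaithfulSMul k A :=
    (faithfulSMul_iff_algebraMap_injective k A).mpr (algebraMap k A).injective
  obtain ⟨u, hut, hu⟩ := exists_isTranscendenceBasis_subset (R := k) (Set.range xb)
  have hcard : #u = Algebra.trdeg k A := hu.cardinalMk_eq_trdeg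
  have h2 : Cardinal.lift.{u} #(Fin s) ≤ Cardinal.lift.{0} #u := by
    rw [hcard]
    simpa using h1
  obtain ⟨e⟩ := Cardinal.lift_mk_le'.1 h2
  have hch : ∀ v : u, ∃ i : Fin N, xb i = v := fun v => hut v.2
  choose ι hι using hch
  refine ⟨fun i => ι (e i), ?_, ?_⟩
  · intro i j hij
    apply e.injective
    apply Subtype.ext
    have := congrArg xb hij
    simpa [hι] using this
  · have := hu.1.comp e e.injective
    convert this using 1
    funext i
    exact hι (e i)


/-- the exponent family -/
noncomputable def sig (a' t : ℕ) : Fin (t+1) ⊕ Fin a' → (Fin (a'+2) →₀ ℕ)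
  | Sum.inl j => Finsupp.single 0 (t - j) + Finsupp.single 1 (j : ℕ)
  | Sum.inr i => Finsupp.single 0 (t - 1) + Finsupp.single i.succ.succ 1

lemma sig_inj (a' t : ℕ) : Function.Injective (sig a' t) := by
  rintro (j | i) (j' | i') h
  · have h1 := DFunLike.congr_fun h 1
    simp [sig, Finsupp.single_apply] at h1
    congr 1
    exact Fin.ext h1
  · have h1 := DFunLike.congr_fun h i'.succ.succ
    simp [sig, Finsupp.single_apply, Fin.ext_iff] at h1
  · have h1 := DFunLike.congr_fun h i.succ.succ
    simp [sig, Finsupp.single_apply, Fin.ext_iff] at h1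
  · have h1 := DFunLike.congr_fun h i.succ.succ
    simp [sig, Finsupp.single_apply, Fin.ext_iff] at h1
    congr 1
    exact Fin.ext h1.symm

lemma sig_deg (a' t : ℕ) (ht : 1 ≤ t) (x : Fin (t+1) ⊕ Fin a') : (sig a' t x).degree = t := by
  rcases x with j | i
  · simp only [sig, map_add, Finsupp.degree_single]
    have := j.2
    omega
  · simp only [sig, map_add, Finsupp.degree_single]
    omega

theorem main_bound (N a' t : ℕ) (ht : 1 ≤ t) (P : Ideal (MvPolynomial (Fin N) k))
    (y : Fin (a'+2) → Fin N)
    (hind : AlgebraicIndependent k (fun i => Ideal.Quotient.mk P (X (y i))))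
    (K : Submodule k (MvPolynomial (Fin N) k)) (hKS : K ≤ homogeneousSubmodule (Fin N) k t)
    (hKP : ∀ x ∈ K, x ∈ P) :
    (t + 1 + a') + Module.finrank k K ≤ Module.finrank k (homogeneousSubmodule (Fin N) k t) := by
  classical
  let mon : Fin (t+1) ⊕ Fin a' → MvPolynomial (Fin N) k :=
    fun x => rename y (monomial (sig a' t x) 1)
  let ev : MvPolynomial (Fin (a'+2)) k →ₐ[k] (MvPolynomial (Fin N) k ⧸ P) :=
    aeval (fun i => Ideal.Quotient.mk P (X (y i)))
  have hevinj : Function.Injective ev := by
    rw [algebraicIndependent_iff_injective_aeval] at hind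
    exact hind
  let mkL : MvPolynomial (Fin N) k →ₗ[k] (MvPolynomial (Fin N) k ⧸ P) :=
    (Ideal.Quotient.mkₐ k P).toLinearMap
  have hev : ∀ q, mkL (rename y q) = ev q := by
    intro q
    have : (Ideal.Quotient.mkₐ k P).comp (rename y) = ev := by
      apply MvPolynomial.algHom_ext
      intro i
      simp [ev]
    exact DFunLike.congr_fun this q
  have hLI0 : LinearIndependent k (fun x : Fin (t+1) ⊕ Fin a' =>
      (monomial (sig a' t x) (1 : k) : MvPolynomial (Fin (a'+2)) k)) := by
    have := (basisMonomials (Fin (a'+2)) k).linearIndependent.comp (sig a' t) (sig_inj a' t)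
    simpa [Function.comp_def] using this
  have hLI1 : LinearIndependent k (fun x => mkL (mon x)) := by
    have h := hLI0.map' ev.toLinearMap (LinearMap.ker_eq_bot.2 hevinj)
    have e : (fun x => mkL (mon x)) =
        (ev.toLinearMap ∘ fun x => (monomial (sig a' t x) (1 : k) : MvPolynomial (Fin (a'+2)) k)) := by
      funext x
      exact hev _
    rw [e]
    exact h
  have hLI : LinearIndependent k mon := LinearIndependent.of_comp mkL hLI1
  set W : Submodule k (MvPolynomial (Fin N) k) := Submodule.span k (Set.range mon) with hW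
  have hWcard : Module.finrank k W = t + 1 + a' := by
    rw [hW, finrank_span_eq_card hLI]
    simp
  have hWS : W ≤ homogeneousSubmodule (Fin N) k t := by
    rw [hW, Submodule.span_le]
    rintro _ ⟨x, rfl⟩
    simp only [SetLike.mem_coe, mem_homogeneousSubmodule]
    exact (isHomogeneous_monomial _ (sig_deg a' t ht x)).rename_isHomogeneous
  have hdisj : W ⊓ K = ⊥ := by
    rw [eq_bot_iff]
    rintro x ⟨hxW, hxK⟩
    rw [Submodule.mem_bot]
    have hxP : mkL x = 0 := Ideal.Quotient.eq_zero_iff_mem.2 (hKP x hxK)
    rw [SetLike.mem_coe, hW, Finsupp.mem_span_range_iff_exists_finsupp] at hxW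
    obtain ⟨c, rfl⟩ := hxW
    have hc : Finsupp.linearCombination k (fun x => mkL (mon x)) c = 0 := by
      rw [← hxP, Finsupp.linearCombination_apply, Finsupp.sum, Finsupp.sum, map_sum]
      simp
    have := (linearIndependent_iff.1 hLI1) c hc
    simp [this]
  haveI : Module.Finite k (homogeneousSubmodule (Fin N) k t) :=
    Module.Finite.iff_fg.2 (homogeneousSubmodule_fg _ _ _)
  haveI : FiniteDimensional k W := Submodule.finiteDimensional_of_le hWS
  haveI : FiniteDimensional k K := Submodule.finiteDimensional_of_le hKS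
  have h1 := Submodule.finrank_sup_add_finrank_inf_eq W K
  rw [hdisj, finrank_bot, add_zero, hWcard] at h1
  rw [← h1]
  exact Submodule.finrank_mono (sup_le hWS hKS)

theorem main (m d : ℕ) (hd : 1 ≤ d) (hdm : d + 1 ≤ m)
    (I : Ideal (MvPolynomial (Fin (m + 1)) k))
    (hirr : I.radical.IsPrime)
    (hdim : ringKrullDim (MvPolynomial (Fin (m + 1)) k ⧸ I) = ((m + 1 - d : ℕ) : WithBot ℕ∞)) :
    m + 1 + Module.finrank k ↥(homogeneousSubmodule (Fin (m+1)) k (d + 1) ⊓ Submodule.restrictScalars k I)
      ≤ Module.finrank k (homogeneousSubmodule (Fin (m+1)) k (d + 1)) := by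
  haveI := hirr
  have hdim' : ringKrullDim (MvPolynomial (Fin (m + 1)) k ⧸ I.radical) =
      (((m - 1 - d) + 2 : ℕ) : WithBot ℕ∞) := by
    rw [ringKrullDim_quotient, PrimeSpectrum.zeroLocus_radical, ← ringKrullDim_quotient, hdim]
    congr 2
    omega
  obtain ⟨y, -, hy⟩ := exists_algInd (m+1) ((m - 1 - d) + 2) I.radical hdim'
  have := main_bound (m+1) (m - 1 - d) (d+1) (by omega) I.radical y hy
    (homogeneousSubmodule (Fin (m+1)) k (d + 1) ⊓ Submodule.restrictScalars k I) inf_le_left
    (fun x hx => Ideal.le_radical hx.2)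
  have e : d + 1 + 1 + (m - 1 - d) = m + 1 := by omega
  rw [e] at this
  exact this

/-- Over ℂ, let Y be an irreducible closed subscheme of projective m-space of dimension m − d, where 1 ≤
d and d + 1 ≤ m. Then the hypersurfaces of degree d + 1 containing Y form a linear family of
codimension at least m + 1 (that is, greater than m) in the projective space of all hypersurfaces of
degree d + 1. Here Y is given by a homogeneous ideal I of ℂ[x_0, …, x_m] whose radical is prime and
with dim ℂ[x_0, …, x_m]/I = m + 1 − d, a hypersurface contains Y when its form lies in I, and the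
conclusion reads: the forms of degree d + 1 in I span a subspace of codimension at least m + 1 in
the space of all forms of degree d + 1. -/
theorem result (m d : ℕ) (hd : 1 ≤ d) (hdm : d + 1 ≤ m)
    (I : Ideal (MvPolynomial (Fin (m + 1)) ℂ))
    (hI : I.IsHomogeneous (CohB1.polyGrading m ℂ))
    (hirr : I.radical.IsPrime)
    (hdim : ringKrullDim (MvPolynomial (Fin (m + 1)) ℂ ⧸ I) = ((m + 1 - d : ℕ) : WithBot ℕ∞)) :
    m + 1 + Module.finrank ℂ ↥(CohB1.polyGrading m ℂ (d + 1) ⊓ Submodule.restrictScalars ℂ I)
      ≤ Module.finrank ℂ (LefPen.Form m ℂ (d + 1)) := by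
  exact main m d hd hdm I hirr hdim

end Groth.Agent.S15247
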