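import Groth.Statements.S15285

set_option autoImplicit false
universe v v' u u'
open PicCat

namespace Groth.Agent.S15285

open CategoryTheory MonoidalCategory

section
variable {C : Type u} [Category.{v} C] [MonoidalCategory C] [IsGroupoid C]

/-- the action of `End 𝟙` on an object -/
noncomputable def act (X : C) (φ : 𝟙_ C ⟶ 𝟙_ C) : X ⟶ X :=
  (λ_ X).inv ≫ (φ ▷ X) ≫ (λ_ X).hom

theorem act_bijective (hC : ∀ X : C, (tensorLeft X).IsEquivalence ∧ (tensorRight X).IsEquivalence)
    (X : C) : Function.Bijective (act X) := by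
  haveI := (hC X).2
  constructor
  · intro φ ψ h
    have h2 : φ ▷ X = ψ ▷ X := by
      have := congrArg (fun t => (λ_ X).hom ≫ t ≫ (λ_ X).inv) h
      simpa [act] using this
    exact (tensorRight X).map_injective h2
  · intro f
    obtain ⟨φ, hφ⟩ := (tensorRight X).map_surjective ((λ_ X).hom ≫ f ≫ (λ_ X).inv)
    refine ⟨φ, ?_⟩
    have : φ ▷ X = (λ_ X).hom ≫ f ≫ (λ_ X).inv := hφ
    simp [act, this]

end

variable {C : Type u} [Category.{v} C] [MonoidalCategory C] [IsGroupoid C]
    {D : Type u'} [Category.{v'} D] [MonoidalCategory D] [IsGroupoid D]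

theorem conj_bijective {A B : D} (θ : A ⟶ B) :
    Function.Bijective (fun t : A ⟶ A => inv θ ≫ t ≫ θ) := by
  constructor
  · intro s t h
    have := congrArg (fun r => θ ≫ r ≫ inv θ) h
    simpa using this
  · intro r
    exact ⟨θ ≫ r ≫ inv θ, by simp⟩

theorem map_end_bijective
    (hC : ∀ X : C, (tensorLeft X).IsEquivalence ∧ (tensorRight X).IsEquivalence)
    (hD : ∀ X : D, (tensorLeft X).IsEquivalence ∧ (tensorRight X).IsEquivalence)
    (F : C ⥤ D) [F.LaxMonoidal]
    (h1 : Function.Bijective (fun φ : 𝟙_ C ⟶ 𝟙_ C => F.map φ)) (X : C) :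
    Function.Bijective (fun f : X ⟶ X => F.map f) := by
  haveI := (hD (F.obj X)).2
  have ha := act_bijective hC X
  -- F ∘ act X is bijective
  set θ : F.obj (𝟙_ C) ⊗ F.obj X ⟶ F.obj X :=
    Functor.LaxMonoidal.μ F (𝟙_ C) X ≫ F.map (λ_ X).hom with hθ
  have key : ∀ φ : 𝟙_ C ⟶ 𝟙_ C, F.map (act X φ) = inv θ ≫ (F.map φ ▷ F.obj X) ≫ θ := by
    intro φ
    rw [IsIso.eq_inv_comp, hθ, act]
    simp only [Functor.map_comp, Category.assoc]
    rw [Functor.LaxMonoidal.μ_natural_left_assoc]
    have e : F.map (λ_ X).hom ≫ F.map (λ_ X).inv = 𝟙 _ := by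
      rw [← Functor.map_comp]; simp
    rw [reassoc_of% e]
  have hcomp : Function.Bijective (fun φ : 𝟙_ C ⟶ 𝟙_ C => F.map (act X φ)) := by
    have h3 : Function.Bijective (fun t : F.obj (𝟙_ C) ⟶ F.obj (𝟙_ C) => t ▷ F.obj X) := by
      constructor
      · intro s t h
        exact (tensorRight (F.obj X)).map_injective h
      · intro r
        obtain ⟨t, ht⟩ := (tensorRight (F.obj X)).map_surjective r
        exact ⟨t, ht⟩
    have := ((conj_bijective θ).comp h3).comp h1
    convert this using 1
    funext φ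
    exact key φ
  -- deduce
  have : (fun f : X ⟶ X => F.map f) = (fun φ : 𝟙_ C ⟶ 𝟙_ C => F.map (act X φ)) ∘
      (Equiv.ofBijective _ ha).symm := by
    funext f
    simp only [Function.comp]
    congr 1
    exact ((Equiv.ofBijective _ ha).apply_symm_apply f).symm
  rw [this]
  exact hcomp.comp (Equiv.bijective _)

theorem main
    (hC : ∀ X : C, (tensorLeft X).IsEquivalence ∧ (tensorRight X).IsEquivalence)
    (hD : ∀ X : D, (tensorLeft X).IsEquivalence ∧ (tensorRight X).IsEquivalence)
    (F : C ⥤ D) [F.LaxMonoidal] [F.EssSurj]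
    (h0 : ∀ X Y : C, Nonempty (F.obj X ≅ F.obj Y) → Nonempty (X ≅ Y))
    (h1 : Function.Bijective (fun φ : 𝟙_ C ⟶ 𝟙_ C => F.map φ)) :
    F.IsEquivalence := by
  have hend := map_end_bijective hC hD F h1
  have hfaith : F.Faithful := by
    constructor
    intro X Y f g hfg
    have : F.map (f ≫ inv g) = F.map (𝟙 X) := by
      rw [Functor.map_comp, Functor.map_inv, hfg]; simp
    have h2 := (hend X).1 this
    calc f = (f ≫ inv g) ≫ g := by simp
      _ = g := by rw [h2]; simp
  have hfull : F.Full := by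
    constructor
    intro X Y h
    obtain ⟨t⟩ := h0 X Y ⟨asIso h⟩
    obtain ⟨s, hs⟩ := (hend X).2 (h ≫ inv (F.map t.hom))
    refine ⟨s ≫ t.hom, ?_⟩
    have hs' : F.map s = h ≫ inv (F.map t.hom) := hs
    rw [Functor.map_comp, hs']
    simp
  exact { }

open CategoryTheory MonoidalCategory in
/-- Let C and D be Picard categories (monoidal groupoids in which tensoring on either side with any
object is an equivalence of categories) and F : C ⥤ D a lax monoidal functor. If F induces a
bijection on isomorphism classes of objects (it is essentially surjective, and F X ≅ F Y only when X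
≅ Y) and a bijection on endomorphisms of the unit object, then F is an equivalence of categories. -/
theorem result
    {C : Type u} [Category.{v} C] [MonoidalCategory C] [IsGroupoid C]
    {D : Type u'} [Category.{v'} D] [MonoidalCategory D] [IsGroupoid D]
    (hC : ∀ X : C, (tensorLeft X).IsEquivalence ∧ (tensorRight X).IsEquivalence)
    (hD : ∀ X : D, (tensorLeft X).IsEquivalence ∧ (tensorRight X).IsEquivalence)
    (F : C ⥤ D) [F.LaxMonoidal] [F.EssSurj]
    (h0 : ∀ X Y : C, Nonempty (F.obj X ≅ F.obj Y) → Nonempty (X ≅ Y))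
    (h1 : Function.Bijective (fun φ : 𝟙_ C ⟶ 𝟙_ C => F.map φ)) :
    F.IsEquivalence := by
  exact main hC hD F h0 h1

end Groth.Agent.S15285
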