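import Groth.Statements.S15286

set_option autoImplicit false
universe v v' u u'
open PicCat

namespace Groth.Agent.S15286

open CategoryTheory MonoidalCategory

section Act
variable {D : Type u'} [Category.{v'} D] [MonoidalCategory D]

/-- the action of `End 𝟙` on an object -/
def act (Z : D) (φ : 𝟙_ D ⟶ 𝟙_ D) : Z ⟶ Z :=
  (λ_ Z).inv ≫ (φ ▷ Z) ≫ (λ_ Z).hom

/-- the right action of `End 𝟙` on an object -/
def actR (Z : D) (φ : 𝟙_ D ⟶ 𝟙_ D) : Z ⟶ Z :=
  (ρ_ Z).inv ≫ (Z ◁ φ) ≫ (ρ_ Z).hom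

theorem act_id (Z : D) : act Z (𝟙 _) = 𝟙 Z := by simp [act]

theorem act_comp (Z : D) (a b : 𝟙_ D ⟶ 𝟙_ D) : act Z (a ≫ b) = act Z a ≫ act Z b := by
  simp [act]

theorem act_natural {Z W : D} (h : Z ⟶ W) (a : 𝟙_ D ⟶ 𝟙_ D) : act Z a ≫ h = h ≫ act W a := by
  simp only [act, Category.assoc]
  rw [← leftUnitor_naturality, ← whisker_exchange_assoc, leftUnitor_inv_naturality_assoc]

theorem act_whiskerRight (Z W : D) (a : 𝟙_ D ⟶ 𝟙_ D) : act Z a ▷ W = act (Z ⊗ W) a := by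
  simp [act]

theorem whiskerLeft_act (Z W : D) (b : 𝟙_ D ⟶ 𝟙_ D) : Z ◁ act W b = actR Z b ▷ W := by
  simp [act, actR]

theorem act_eq_actR [BraidedCategory D] (Z : D) (b : 𝟙_ D ⟶ 𝟙_ D) : act Z b = actR Z b := by
  simp only [act, actR]
  rw [← braiding_leftUnitor, BraidedCategory.braiding_naturality_right_assoc]
  have : (ρ_ Z).inv ≫ (β_ Z (𝟙_ D)).hom = (λ_ Z).inv := by
    rw [Iso.inv_comp_eq, ← braiding_leftUnitor]; simp
  rw [reassoc_of% this]

theorem act_tensor [BraidedCategory D] (Z W : D) (a b : 𝟙_ D ⟶ 𝟙_ D) :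
    act Z a ⊗ₘ act W b = act (Z ⊗ W) (b ≫ a) := by
  rw [tensorHom_def', whiskerLeft_act, ← act_eq_actR, act_whiskerRight, act_whiskerRight, act_comp]

theorem act_bijective (hD : ∀ X : D, (tensorLeft X).IsEquivalence ∧ (tensorRight X).IsEquivalence)
    (X : D) : Function.Bijective (act X) := by
  have := (hD X).2
  constructor
  · intro φ ψ h
    have h2 : φ ▷ X = ψ ▷ X := by
      have := congrArg (fun t => (λ_ X).hom ≫ t ≫ (λ_ X).inv) h
      simpa [act] using this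
    exact (tensorRight X).map_injective h2
  · intro f
    obtain ⟨φ, hφ⟩ := (tensorRight X).map_surjective ((λ_ X).hom ≫ f ≫ (λ_ X).inv)
    refine ⟨φ, ?_⟩
    have : φ ▷ X = (λ_ X).hom ≫ f ≫ (λ_ X).inv := hφ
    simp [act, this]

end Act

section Main
open Functor.LaxMonoidal

variable {C : Type u} [Category.{v} C] [MonoidalCategory C] [IsGroupoid C]
    {D : Type u'} [Category.{v'} D] [MonoidalCategory D] [BraidedCategory D] [IsGroupoid D]
    (hD : ∀ X : D, (tensorLeft X).IsEquivalence ∧ (tensorRight X).IsEquivalence)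
    (F G : C ⥤ D) [F.LaxMonoidal] [G.LaxMonoidal] (θ₀ : F ⟶ G) [NatTrans.IsMonoidal θ₀]

/-- the twisted transformation -/
noncomputable def twist (χ : Skeleton C →* End (𝟙_ D)) : F ⟶ G where
  app X := θ₀.app X ≫ act (G.obj X) (χ (toSkeleton X) : 𝟙_ D ⟶ 𝟙_ D)
  naturality X Y h := by
    have e : toSkeleton X = toSkeleton Y := congr_toSkeleton_of_iso (asIso h)
    rw [e, ← Category.assoc, θ₀.naturality, Category.assoc, Category.assoc, act_natural]

theorem twist_isMonoidal (χ : Skeleton C →* End (𝟙_ D)) :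
    NatTrans.IsMonoidal (twist F G θ₀ χ) where
  unit := by
    have h1 : (χ (toSkeleton (𝟙_ C)) : 𝟙_ D ⟶ 𝟙_ D) = 𝟙 _ := by
      rw [← Skeleton.one_eq, map_one]; rfl
    simp [twist, h1, act_id]
  tensor X Y := by
    have h1 : (χ (toSkeleton (X ⊗ Y)) : 𝟙_ D ⟶ 𝟙_ D) =
        (χ (toSkeleton Y) : 𝟙_ D ⟶ 𝟙_ D) ≫ (χ (toSkeleton X) : 𝟙_ D ⟶ 𝟙_ D) := by
      rw [Skeleton.toSkeleton_tensorObj, map_mul]; rfl
    simp only [twist]
    rw [h1, NatTrans.IsMonoidal.tensor_assoc, ← act_natural, ← act_tensor,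
      tensorHom_comp_tensorHom_assoc]


section Exist
variable (θ : F ⟶ G) [NatTrans.IsMonoidal θ]

/-- the class `c X` with `θ₀_X⁻¹ ≫ θ_X = act (G X) (c X)` -/
noncomputable def cls (X : C) : 𝟙_ D ⟶ 𝟙_ D :=
  (Equiv.ofBijective _ (act_bijective hD (G.obj X))).symm (inv (θ₀.app X) ≫ θ.app X)

include hD in
theorem act_cls (X : C) : act (G.obj X) (cls hD F G θ₀ θ X) = inv (θ₀.app X) ≫ θ.app X :=
  (Equiv.ofBijective _ (act_bijective hD (G.obj X))).apply_symm_apply _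

theorem cls_unique (X : C) (φ : 𝟙_ D ⟶ 𝟙_ D) (h : act (G.obj X) φ = inv (θ₀.app X) ≫ θ.app X) :
    φ = cls hD F G θ₀ θ X :=
  (act_bijective hD (G.obj X)).1 (h.trans (act_cls hD F G θ₀ θ X).symm)

theorem cls_iso {X Y : C} (t : X ⟶ Y) : cls hD F G θ₀ θ X = cls hD F G θ₀ θ Y := by
  apply cls_unique
  have h1 := act_cls hD F G θ₀ θ X
  -- act (G Y) (c X) = inv (G t) ≫ act (G X) (c X) ≫ G t
  have h2 : act (G.obj Y) (cls hD F G θ₀ θ X) =
      inv (G.map t) ≫ act (G.obj X) (cls hD F G θ₀ θ X) ≫ G.map t := by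
    rw [act_natural]; simp
  rw [h2, h1]
  rw [IsIso.inv_comp_eq, Category.assoc, ← θ.naturality]
  have e : inv (θ₀.app X) ≫ F.map t = G.map t ≫ inv (θ₀.app Y) := by
    rw [IsIso.inv_comp_eq, ← Category.assoc, ← θ₀.naturality]; simp
  rw [reassoc_of% e]

theorem cls_unit : cls hD F G θ₀ θ (𝟙_ C) = 𝟙 _ := by
  symm
  apply cls_unique
  rw [act_id, eq_comm, IsIso.inv_comp_eq, Category.comp_id]
  have h1 := NatTrans.IsMonoidal.unit (τ := θ)
  have h2 := NatTrans.IsMonoidal.unit (τ := θ₀)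
  have : ε F ≫ θ.app (𝟙_ C) = ε F ≫ θ₀.app (𝟙_ C) := by rw [h1, h2]
  exact (cancel_epi (ε F)).mp this

theorem cls_tensor (X Y : C) :
    cls hD F G θ₀ θ (X ⊗ Y) = cls hD F G θ₀ θ Y ≫ cls hD F G θ₀ θ X := by
  symm
  apply cls_unique
  have h1 := NatTrans.IsMonoidal.tensor (τ := θ) X Y
  have h2 := NatTrans.IsMonoidal.tensor (τ := θ₀) X Y
  have h3 : act (G.obj (X ⊗ Y)) (cls hD F G θ₀ θ Y ≫ cls hD F G θ₀ θ X) =
      inv (μ G X Y) ≫ act (G.obj X ⊗ G.obj Y) (cls hD F G θ₀ θ Y ≫ cls hD F G θ₀ θ X) ≫ μ G X Y := by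
    rw [act_natural]; simp
  rw [h3, ← act_tensor, act_cls, act_cls]
  rw [IsIso.inv_comp_eq]
  have e2 : (inv (θ₀.app X) ⊗ₘ inv (θ₀.app Y)) ≫ μ F X Y = μ G X Y ≫ inv (θ₀.app (X ⊗ Y)) := by
    rw [IsIso.eq_comp_inv, Category.assoc, h2, tensorHom_comp_tensorHom_assoc]; simp
  rw [← tensorHom_comp_tensorHom, Category.assoc, ← h1, reassoc_of% e2]

/-- the character attached to `θ` -/
noncomputable def chi : Skeleton C →* End (𝟙_ D) where
  toFun s := cls hD F G θ₀ θ ((fromSkeleton C).obj s)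
  map_one' := by
    have e : (fromSkeleton C).obj (1 : Skeleton C) ≅ 𝟙_ C := fromSkeletonToSkeletonIso (𝟙_ C)
    rw [cls_iso hD F G θ₀ θ e.hom, cls_unit]; rfl
  map_mul' s t := by
    have e : (fromSkeleton C).obj (s * t) ≅ (fromSkeleton C).obj s ⊗ (fromSkeleton C).obj t :=
      fromSkeletonToSkeletonIso _
    rw [cls_iso hD F G θ₀ θ e.hom, cls_tensor]; rfl

theorem chi_apply (X : C) : (chi hD F G θ₀ θ (toSkeleton X) : 𝟙_ D ⟶ 𝟙_ D) = cls hD F G θ₀ θ X :=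
  cls_iso hD F G θ₀ θ (fromSkeletonToSkeletonIso X).hom

end Exist

include hD in
theorem main :
    (∀ θ : F ⟶ G, NatTrans.IsMonoidal θ →
      ∃! χ : Skeleton C →* End (𝟙_ D), ∀ X : C,
        θ.app X = θ₀.app X ≫ (λ_ (G.obj X)).inv ≫
          ((χ (toSkeleton X) : 𝟙_ D ⟶ 𝟙_ D) ▷ G.obj X) ≫ (λ_ (G.obj X)).hom) ∧
    (∀ χ : Skeleton C →* End (𝟙_ D), ∃ θ : F ⟶ G, NatTrans.IsMonoidal θ ∧ ∀ X : C,
        θ.app X = θ₀.app X ≫ (λ_ (G.obj X)).inv ≫
          ((χ (toSkeleton X) : 𝟙_ D ⟶ 𝟙_ D) ▷ G.obj X) ≫ (λ_ (G.obj X)).hom) := by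
  constructor
  · intro θ hθ
    refine ⟨chi hD F G θ₀ θ, ?_, ?_⟩
    · intro X
      change θ.app X = θ₀.app X ≫ act (G.obj X) (chi hD F G θ₀ θ (toSkeleton X) : 𝟙_ D ⟶ 𝟙_ D)
      rw [chi_apply, act_cls]; simp
    · intro χ' hχ'
      ext s
      obtain ⟨X, rfl⟩ : ∃ X : C, toSkeleton X = s := ⟨_, toSkeleton_fromSkeleton_obj s⟩
      change (χ' (toSkeleton X) : 𝟙_ D ⟶ 𝟙_ D) = (chi hD F G θ₀ θ (toSkeleton X) : 𝟙_ D ⟶ 𝟙_ D)
      rw [chi_apply]
      apply cls_unique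
      have := hχ' X
      change θ.app X = θ₀.app X ≫ act (G.obj X) (χ' (toSkeleton X) : 𝟙_ D ⟶ 𝟙_ D) at this
      rw [this]; simp
  · intro χ
    exact ⟨twist F G θ₀ χ, twist_isMonoidal F G θ₀ χ, fun X => rfl⟩

end Main

open CategoryTheory MonoidalCategory in
/-- Let C be a Picard category, D a commutative (braided) Picard category, F, G : C ⥤ D lax monoidal
functors and θ₀ : F ⟶ G a monoidal natural transformation. Identify an endomorphism φ of the unit of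
D with the automorphism λ⁻¹ ≫ (φ ▷ Z) ≫ λ of any object Z. Then the monoidal natural transformations
F ⟶ G form a torsor under the monoid homomorphisms χ from the monoid of isomorphism classes of C to
End(𝟙_D): every monoidal θ : F ⟶ G is X ↦ θ₀_X ≫ (action of χ[X] on G X) for a unique such χ, and
for every χ this formula defines a monoidal natural transformation. (The published statement allows
D non-commutative; for a non-braided monoidal groupoid the classes so obtained are crossed rather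
than plain homomorphisms, so D is taken braided here.) -/
theorem result
    {C : Type u} [Category.{v} C] [MonoidalCategory C] [IsGroupoid C]
    {D : Type u'} [Category.{v'} D] [MonoidalCategory D] [BraidedCategory D] [IsGroupoid D]
    (hC : ∀ X : C, (tensorLeft X).IsEquivalence ∧ (tensorRight X).IsEquivalence)
    (hD : ∀ X : D, (tensorLeft X).IsEquivalence ∧ (tensorRight X).IsEquivalence)
    (F G : C ⥤ D) [F.LaxMonoidal] [G.LaxMonoidal] (θ₀ : F ⟶ G) [NatTrans.IsMonoidal θ₀] :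
    (∀ θ : F ⟶ G, NatTrans.IsMonoidal θ →
      ∃! χ : Skeleton C →* End (𝟙_ D), ∀ X : C,
        θ.app X = θ₀.app X ≫ (λ_ (G.obj X)).inv ≫
          ((χ (toSkeleton X) : 𝟙_ D ⟶ 𝟙_ D) ▷ G.obj X) ≫ (λ_ (G.obj X)).hom) ∧
    (∀ χ : Skeleton C →* End (𝟙_ D), ∃ θ : F ⟶ G, NatTrans.IsMonoidal θ ∧ ∀ X : C,
        θ.app X = θ₀.app X ≫ (λ_ (G.obj X)).inv ≫
          ((χ (toSkeleton X) : 𝟙_ D ⟶ 𝟙_ D) ▷ G.obj X) ≫ (λ_ (G.obj X)).hom) := by
  exact main hD F G θ₀

end Groth.Agent.S15286
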