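import Groth.Statements.S1529
import Mathlib
import Groth.Agent.Lib.Helper14.ConsFin


set_option autoImplicit false
universe u
open CategoryTheory CategoryTheory.Limits AlgebraicGeometry
open Variety

namespace Groth.Agent.S1529

/-- A scheme of finite type over a field whose underlying topological space has Krull dimension at most
zero is affine, and its structure morphism is finite. -/
theorem result (k : Type u) [Field k] (X : Scheme.{u}) [X.Over (Spec (CommRingCat.of k))]
    [LocallyOfFiniteType (X ↘ (Spec (CommRingCat.of k)))] [QuasiCompact (X ↘ (Spec (CommRingCat.of k)))]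
    (hdim : topologicalKrullDim X ≤ 0) :
    IsAffine X ∧ IsFinite (X ↘ (Spec (CommRingCat.of k))) := by
  haveI : IsIntegral (Spec (CommRingCat.of k)) := inferInstance
  haveI : Subsingleton ↥(Spec (CommRingCat.of k)) :=
    inferInstanceAs (Subsingleton (PrimeSpectrum k))
  have hfin : IsFinite (X ↘ (Spec (CommRingCat.of k))) :=
    (Groth.Agent.Helper14.ConsFin.isFinite_iff_dim_le_zero (X ↘ (Spec (CommRingCat.of k)))).2 hdim
  exact ⟨isAffine_of_isAffineHom (X ↘ (Spec (CommRingCat.of k))), hfin⟩

end Groth.Agent.S1529
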