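import Groth.Statements.S15292
import Mathlib
import Groth.Agent.Lib.Helper23.DeRhamGen

set_option autoImplicit false
universe u
open DeRham

namespace Groth.Agent.S15292

open exteriorPower in
/-- Let R → A be a ring map and d a family of R-linear maps from p-forms to (p+1)-forms on the exterior
powers of the Kähler differentials of A over R, p ≥ 0, satisfying the de Rham rule d(b₀ db₁ ∧ … ∧
db_p) = db₀ ∧ db₁ ∧ … ∧ db_p for all p and all bᵢ in A. Then the composite of two consecutive d is
zero in every degree; together with the rule this says that d is a de Rham differential of the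
Kähler differentials. -/
theorem result (R A : Type u) [CommRing R] [CommRing A] [Algebra R A]
    (d : ∀ p : ℕ, ↥(⋀[A]^p (Ω[A⁄R])) →ₗ[R] ↥(⋀[A]^(p + 1) (Ω[A⁄R])))
    (hd : DeRham.IsRule (KaehlerDifferential.D R A) d) :
    DeRham.IsDiff (KaehlerDifferential.D R A) d := by
  refine ⟨hd, fun p => ?_⟩
  have h := Groth.Agent.Helper23.addHom_ext_gen R A p
    ((d (p + 1) ∘ₗ d p).toAddMonoidHom) (0 : ↥(⋀[A]^p (Ω[A⁄R])) →+ ↥(⋀[A]^(p + 1 + 1) (Ω[A⁄R]))) ?_
  · ext x
    have := DFunLike.congr_fun h x
    simpa using this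
  · intro b₀ b
    simp only [LinearMap.toAddMonoidHom_coe, LinearMap.coe_comp, Function.comp_apply,
      AddMonoidHom.zero_apply]
    rw [hd p b₀ b]
    have h1 : ιMulti A (p + 1) (Fin.cons ((KaehlerDifferential.D R A) b₀)
        (fun i => (KaehlerDifferential.D R A) (b i)))
        = DeRham.gen (KaehlerDifferential.D R A) (p + 1) 1 (Fin.cons b₀ b) := by
      simp only [DeRham.gen, one_smul]
      congr 1
      funext i
      refine Fin.cases ?_ (fun j => ?_) i <;> simp
    rw [h1, hd (p + 1) 1 (Fin.cons b₀ b)]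
    have h0 : (KaehlerDifferential.D R A) (1 : A) = 0 := by simp
    exact (ιMulti A (p + 1 + 1)).map_coord_zero (0 : Fin (p + 1 + 1)) (by simp [h0])

end Groth.Agent.S15292
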