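import Groth.Statements.S15296
import Mathlib
import Groth.Agent.Lib.Helper23.ExtKer
import Groth.Agent.Lib.Helper23.DeRhamGen

set_option autoImplicit false
universe u
open DeRham

namespace Groth.Agent.S15296

section aux
open scoped TensorProduct
open KaehlerDifferential Groth.Agent.Helper23 Groth.Agent.Helper23.ExtKer

variable (R A : Type u) [CommRing R] [CommRing A] [Algebra R A]
  (dA : ∀ p : ℕ, ↥(⋀[A]^p (Ω[A⁄R])) →ₗ[R] ↥(⋀[A]^(p + 1) (Ω[A⁄R])))

theorem oneEquiv_symm_eq (e g : A) :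
    (exteriorPower.oneEquiv A (Ω[A⁄R])).symm (e • D R A g) =
      DeRham.gen (D R A) 1 e (fun _ => g) := by
  apply (exteriorPower.oneEquiv A (Ω[A⁄R])).injective
  rw [LinearEquiv.apply_symm_apply, DeRham.gen, map_smul, exteriorPower.oneEquiv_ιMulti]

variable {R A dA}

theorem leibniz_gen (hdA : DeRham.IsDiff (D R A) dA) (p : ℕ) (e g b₀ : A) (b : Fin p → A) :
    ((dA (p + 1) (wedge1 p (e • D R A g) (DeRham.gen (D R A) p b₀ b)) :
        ↥(⋀[A]^(p + 1 + 1) (Ω[A⁄R]))) : ExteriorAlgebra A (Ω[A⁄R])) =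
      ((dA 1 ((exteriorPower.oneEquiv A (Ω[A⁄R])).symm (e • D R A g)) :
        ↥(⋀[A]^(1 + 1) (Ω[A⁄R]))) : ExteriorAlgebra A (Ω[A⁄R])) *
        ((DeRham.gen (D R A) p b₀ b : ↥(⋀[A]^p (Ω[A⁄R]))) : ExteriorAlgebra A (Ω[A⁄R])) -
      ExteriorAlgebra.ι A (e • D R A g) *
        ((dA p (DeRham.gen (D R A) p b₀ b) : ↥(⋀[A]^(p + 1) (Ω[A⁄R]))) :
          ExteriorAlgebra A (Ω[A⁄R])) := by
  have h1 : wedge1 p (e • D R A g) (DeRham.gen (D R A) p b₀ b) =
      DeRham.gen (D R A) (p + 1) (e * b₀) (Fin.cons g b) := by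
    have : (fun i => D R A ((Fin.cons g b : Fin (p + 1) → A) i)) =
        Fin.cons (D R A g) (fun i => D R A (b i)) := by
      funext i
      refine Fin.cases ?_ (fun j => ?_) i <;> simp
    rw [DeRham.gen, DeRham.gen, this, ιMulti_cons, wedge1_smul, map_smul, map_smul, smul_smul]
  rw [h1, hdA.1 (p + 1) (e * b₀) (Fin.cons g b), oneEquiv_symm_eq, hdA.1 1 e (fun _ => g),
    hdA.1 p b₀ b]
  set P : ExteriorAlgebra A (Ω[A⁄R]) := ExteriorAlgebra.ιMulti A p (fun i => D R A (b i)) with hP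
  have e1 : ((exteriorPower.ιMulti A (p + 1 + 1)
      (Fin.cons (D R A (e * b₀)) (fun i => D R A ((Fin.cons g b : Fin (p + 1) → A) i))) :
        ↥(⋀[A]^(p + 1 + 1) (Ω[A⁄R]))) : ExteriorAlgebra A (Ω[A⁄R])) =
      ExteriorAlgebra.ι A (D R A (e * b₀)) * (ExteriorAlgebra.ι A (D R A g) * P) := by
    rw [ιMulti_cons, wedge1_coe]
    have : (fun i => D R A ((Fin.cons g b : Fin (p + 1) → A) i)) =
        Fin.cons (D R A g) (fun i => D R A (b i)) := by
      funext i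
      refine Fin.cases ?_ (fun j => ?_) i <;> simp
    rw [this, ιMulti_cons, wedge1_coe, exteriorPower.ιMulti_apply_coe]
  have e2 : ((exteriorPower.ιMulti A (1 + 1)
      (Fin.cons (D R A e) (fun _ : Fin 1 => D R A g)) :
        ↥(⋀[A]^(1 + 1) (Ω[A⁄R]))) : ExteriorAlgebra A (Ω[A⁄R])) =
      ExteriorAlgebra.ι A (D R A e) * ExteriorAlgebra.ι A (D R A g) := by
    rw [ιMulti_cons, wedge1_coe, exteriorPower.ιMulti_apply_coe, ExteriorAlgebra.ιMulti_succ_apply,
      ExteriorAlgebra.ιMulti_zero_apply, mul_one]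
  have e3 : ((exteriorPower.ιMulti A (p + 1)
      (Fin.cons (D R A b₀) (fun i => D R A (b i))) :
        ↥(⋀[A]^(p + 1) (Ω[A⁄R]))) : ExteriorAlgebra A (Ω[A⁄R])) =
      ExteriorAlgebra.ι A (D R A b₀) * P := by
    rw [ιMulti_cons, wedge1_coe, exteriorPower.ιMulti_apply_coe]
  have e4 : ((DeRham.gen (D R A) p b₀ b : ↥(⋀[A]^p (Ω[A⁄R]))) : ExteriorAlgebra A (Ω[A⁄R])) =
      b₀ • P := by
    rw [DeRham.gen, Submodule.coe_smul, exteriorPower.ιMulti_apply_coe]
  rw [e1, e2, e3, e4, Derivation.leibniz, map_add, map_smul, map_smul, map_smul]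
  have anti : ExteriorAlgebra.ι A (D R A b₀) * ExteriorAlgebra.ι A (D R A g) =
      -(ExteriorAlgebra.ι A (D R A g) * ExteriorAlgebra.ι A (D R A b₀)) :=
    eq_neg_of_add_eq_zero_left (ExteriorAlgebra.ι_add_mul_swap _ _)
  simp only [add_mul, smul_mul_assoc, mul_smul_comm, ← mul_assoc, anti, neg_mul, smul_neg]
  abel


/-- the Leibniz formula for a `1`-form times a `p`-form, in the exterior algebra. -/
def Leib (dA : ∀ p : ℕ, ↥(⋀[A]^p (Ω[A⁄R])) →ₗ[R] ↥(⋀[A]^(p + 1) (Ω[A⁄R]))) (p : ℕ)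
    (ω : Ω[A⁄R]) (x : ↥(⋀[A]^p (Ω[A⁄R]))) : Prop :=
  ((dA (p + 1) (wedge1 p ω x) : ↥(⋀[A]^(p + 1 + 1) (Ω[A⁄R]))) : ExteriorAlgebra A (Ω[A⁄R])) =
    ((dA 1 ((exteriorPower.oneEquiv A (Ω[A⁄R])).symm ω) :
      ↥(⋀[A]^(1 + 1) (Ω[A⁄R]))) : ExteriorAlgebra A (Ω[A⁄R])) * (x : ExteriorAlgebra A (Ω[A⁄R])) -
    ExteriorAlgebra.ι A ω * ((dA p x : ↥(⋀[A]^(p + 1) (Ω[A⁄R]))) : ExteriorAlgebra A (Ω[A⁄R]))

theorem Leib_add_right {p : ℕ} {ω : Ω[A⁄R]} {x y : ↥(⋀[A]^p (Ω[A⁄R]))}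
    (hx : Leib dA p ω x) (hy : Leib dA p ω y) : Leib dA p ω (x + y) := by
  unfold Leib at *
  simp only [map_add, Submodule.coe_add, mul_add, hx, hy]
  abel

theorem Leib_neg_right {p : ℕ} {ω : Ω[A⁄R]} {x : ↥(⋀[A]^p (Ω[A⁄R]))}
    (hx : Leib dA p ω x) : Leib dA p ω (-x) := by
  unfold Leib at *
  simp only [map_neg, Submodule.coe_neg, mul_neg, hx]
  abel

theorem Leib_zero_right {p : ℕ} {ω : Ω[A⁄R]} : Leib dA p ω 0 := by
  unfold Leib
  simp

theorem Leib_add_left {p : ℕ} {ω₁ ω₂ : Ω[A⁄R]} {x : ↥(⋀[A]^p (Ω[A⁄R]))}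
    (h₁ : Leib dA p ω₁ x) (h₂ : Leib dA p ω₂ x) : Leib dA p (ω₁ + ω₂) x := by
  unfold Leib at *
  simp only [wedge1_add, map_add, Submodule.coe_add, add_mul, h₁, h₂]
  abel

theorem Leib_zero_left {p : ℕ} {x : ↥(⋀[A]^p (Ω[A⁄R]))} : Leib dA p 0 x := by
  unfold Leib
  simp [wedge1_zero]

theorem leibniz1 (hdA : DeRham.IsDiff (D R A) dA) (p : ℕ) (ω : Ω[A⁄R])
    (x : ↥(⋀[A]^p (Ω[A⁄R]))) : Leib dA p ω x := by
  have hω : ω ∈ Submodule.span A (Set.range (D R A)) := by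
    rw [KaehlerDifferential.span_range_derivation]; trivial
  have key : ∀ e : A, Leib dA p (e • ω) x := by
    induction hω using Submodule.span_induction with
    | mem ω hω =>
      obtain ⟨g, rfl⟩ := hω
      intro e
      have hx : x ∈ AddSubgroup.closure {x : ↥(⋀[A]^p (Ω[A⁄R])) | ∃ (b₀ : A) (b : Fin p → A),
          x = DeRham.gen (D R A) p b₀ b} := by
        rw [closure_gen_eq_top]; trivial
      induction hx using AddSubgroup.closure_induction with
      | mem x hx =>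
        obtain ⟨b₀, b, rfl⟩ := hx
        exact leibniz_gen hdA p e g b₀ b
      | zero => exact Leib_zero_right
      | add x y _ _ hx hy => exact Leib_add_right hx hy
      | neg x _ hx => exact Leib_neg_right hx
    | zero => intro e; rw [smul_zero]; exact Leib_zero_left
    | add ω₁ ω₂ _ _ h₁ h₂ => intro e; rw [smul_add]; exact Leib_add_left (h₁ e) (h₂ e)
    | smul c ω _ h => intro e; rw [smul_smul]; exact h (e * c)
  simpa using key 1


variable {Ω' : Type u} [AddCommGroup Ω'] [Module A Ω']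

theorem L_kills (hdA : DeRham.IsDiff (D R A) dA) (π : Ω[A⁄R] →ₗ[A] Ω')
    (hker : LinearMap.ker π ≤ Submodule.span A {ω : Ω[A⁄R] | π ω = 0 ∧
      exteriorPower.map 2 π (dA 1 ((exteriorPower.oneEquiv A (Ω[A⁄R])).symm ω)) = 0})
    (q : ℕ) (k : Ω[A⁄R]) (hk : k ∈ LinearMap.ker π) (y : ↥(⋀[A]^q (Ω[A⁄R]))) :
    exteriorPower.map (q + 1 + 1) π (dA (q + 1) (wedge1 q k y)) = 0 := by
  have hk' := hker hk
  clear hk
  induction hk' using Submodule.span_induction generalizing y with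
  | mem ω hω =>
    obtain ⟨h1, h2⟩ := hω
    apply Subtype.ext
    rw [coe_map, leibniz1 hdA q ω y, map_sub, map_mul, map_mul, ← coe_map, ← coe_map]
    have h2' : exteriorPower.map (1 + 1) π
        (dA 1 ((exteriorPower.oneEquiv A (Ω[A⁄R])).symm ω)) = 0 := h2
    rw [h2', ExteriorAlgebra.map_apply_ι, h1]
    simp
  | zero => rw [wedge1_zero, map_zero, map_zero]
  | add ω₁ ω₂ _ _ h₁ h₂ => rw [wedge1_add, map_add, map_add, h₁, h₂, add_zero]
  | smul c ω _ h => rw [wedge1_smul]; exact h _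

theorem L_kills_gen (hdA : DeRham.IsDiff (D R A) dA) (π : Ω[A⁄R] →ₗ[A] Ω')
    (hker : LinearMap.ker π ≤ Submodule.span A {ω : Ω[A⁄R] | π ω = 0 ∧
      exteriorPower.map 2 π (dA 1 ((exteriorPower.oneEquiv A (Ω[A⁄R])).symm ω)) = 0})
    (p : ℕ) (m : Fin p → Ω[A⁄R]) (i : Fin p) (hi : m i ∈ LinearMap.ker π) (a : A) :
    exteriorPower.map (p + 1) π (dA p (a • exteriorPower.ιMulti A p m)) = 0 := by
  cases p with
  | zero => exact i.elim0
  | succ q =>
    -- first the case `i = 0`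
    have h0 : ∀ m' : Fin (q + 1) → Ω[A⁄R], m' 0 ∈ LinearMap.ker π →
        exteriorPower.map (q + 1 + 1) π (dA (q + 1) (a • exteriorPower.ιMulti A (q + 1) m')) = 0 := by
      intro m' hm'
      rw [ιMulti_eq_wedge1, ← map_smul]
      exact L_kills hdA π hker q (m' 0) hm' _
    by_cases hi0 : i = 0
    · subst hi0
      exact h0 m hi
    · have hswap := (exteriorPower.ιMulti A (q + 1) (M := Ω[A⁄R])).map_swap m (Ne.symm hi0)
      have : exteriorPower.ιMulti A (q + 1) m =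
          -exteriorPower.ιMulti A (q + 1) (m ∘ ⇑(Equiv.swap 0 i)) := by
        rw [hswap, neg_neg]
      rw [this, smul_neg, map_neg, map_neg, neg_eq_zero]
      apply h0
      simpa using hi

theorem L_kills_ker (hdA : DeRham.IsDiff (D R A) dA) (π : Ω[A⁄R] →ₗ[A] Ω')
    (hπ : Function.Surjective π)
    (hker : LinearMap.ker π ≤ Submodule.span A {ω : Ω[A⁄R] | π ω = 0 ∧
      exteriorPower.map 2 π (dA 1 ((exteriorPower.oneEquiv A (Ω[A⁄R])).symm ω)) = 0})
    (p : ℕ) (x : ↥(⋀[A]^p (Ω[A⁄R]))) (hx : exteriorPower.map p π x = 0) :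
    exteriorPower.map (p + 1) π (dA p x) = 0 := by
  have hx' : x ∈ Submodule.span A (Kset π p) := ker_map_le π hπ p hx
  clear hx
  have key : ∀ a : A, exteriorPower.map (p + 1) π (dA p (a • x)) = 0 := by
    induction hx' using Submodule.span_induction with
    | mem x hx =>
      obtain ⟨m, ⟨i, hi⟩, rfl⟩ := hx
      intro a
      exact L_kills_gen hdA π hker p m i hi a
    | zero => intro a; rw [smul_zero, map_zero, map_zero]
    | add x y _ _ hx hy =>
      intro a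
      rw [smul_add, map_add, map_add, hx a, hy a, add_zero]
    | smul c x _ h => intro a; rw [smul_smul]; exact h (a * c)
  have := key 1
  rwa [one_smul] at this


theorem main (R A Ω' : Type u) [CommRing R] [CommRing A] [Algebra R A]
    [AddCommGroup Ω'] [Module A Ω'] [Module R Ω'] [IsScalarTower R A Ω']
    (π : Ω[A⁄R] →ₗ[A] Ω') (hπ : Function.Surjective π)
    (dA : ∀ p : ℕ, ↥(⋀[A]^p (Ω[A⁄R])) →ₗ[R] ↥(⋀[A]^(p + 1) (Ω[A⁄R])))
    (hdA : DeRham.IsDiff (KaehlerDifferential.D R A) dA)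
    (hker : LinearMap.ker π ≤ Submodule.span A {ω : Ω[A⁄R] | π ω = 0 ∧
      exteriorPower.map 2 π (dA 1 ((exteriorPower.oneEquiv A (Ω[A⁄R])).symm ω)) = 0}) :
    ∃ d : ∀ p : ℕ, ↥(⋀[A]^p Ω') →ₗ[R] ↥(⋀[A]^(p + 1) Ω'),
      DeRham.IsDiff (π.compDer (KaehlerDifferential.D R A)) d ∧
        ∀ (p : ℕ) (x : ↥(⋀[A]^p (Ω[A⁄R]))),
          d p (exteriorPower.map p π x) = exteriorPower.map (p + 1) π (dA p x) := by
  -- the `R`-linear maps to descend
  let P : ∀ p : ℕ, ↥(⋀[A]^p (Ω[A⁄R])) →ₗ[R] ↥(⋀[A]^p Ω') :=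
    fun p => (exteriorPower.map p π).restrictScalars R
  let L : ∀ p : ℕ, ↥(⋀[A]^p (Ω[A⁄R])) →ₗ[R] ↥(⋀[A]^(p + 1) Ω') :=
    fun p => (exteriorPower.map (p + 1) π).restrictScalars R ∘ₗ dA p
  have hP : ∀ p, Function.Surjective (P p) := fun p => exteriorPower.map_surjective hπ
  have hPL : ∀ p, LinearMap.ker (P p) ≤ LinearMap.ker (L p) := by
    intro p x hx
    rw [LinearMap.mem_ker] at hx ⊢
    exact L_kills_ker hdA π hπ hker p x hx
  let d : ∀ p : ℕ, ↥(⋀[A]^p Ω') →ₗ[R] ↥(⋀[A]^(p + 1) Ω') := fun p =>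
    (LinearMap.ker (P p)).liftQ (L p) (hPL p) ∘ₗ
      ((P p).quotKerEquivOfSurjective (hP p)).symm.toLinearMap
  have hd : ∀ (p : ℕ) (x : ↥(⋀[A]^p (Ω[A⁄R]))),
      d p (exteriorPower.map p π x) = exteriorPower.map (p + 1) π (dA p x) := by
    intro p x
    have h1 : ((P p).quotKerEquivOfSurjective (hP p)).symm (exteriorPower.map p π x) =
        (LinearMap.ker (P p)).mkQ x := by
      rw [LinearEquiv.symm_apply_eq]
      rfl
    change (LinearMap.ker (P p)).liftQ (L p) (hPL p)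
      (((P p).quotKerEquivOfSurjective (hP p)).symm (exteriorPower.map p π x)) = _
    rw [h1]
    rfl
  refine ⟨d, ⟨?_, ?_⟩, hd⟩
  · intro p b₀ b
    have h1 : DeRham.gen (π.compDer (D R A)) p b₀ b =
        exteriorPower.map p π (DeRham.gen (D R A) p b₀ b) := by
      simp only [DeRham.gen, map_smul, exteriorPower.map_apply_ιMulti]
      rfl
    rw [h1, hd, hdA.1 p b₀ b, exteriorPower.map_apply_ιMulti]
    congr 1
    funext i
    refine Fin.cases ?_ (fun j => ?_) i <;> simp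
  · intro p
    refine LinearMap.ext fun y => ?_
    obtain ⟨x, rfl⟩ := exteriorPower.map_surjective (n := p) hπ y
    rw [LinearMap.comp_apply, hd, hd]
    have := LinearMap.congr_fun (hdA.2 p) x
    rw [LinearMap.comp_apply] at this
    rw [this]
    simp

end aux

open exteriorPower in
/-- Let R → A be a ring map, π a surjective A-linear map from the Kähler differentials of A over R onto
an A-module Ω', δ = π ∘ d the induced derivation A → Ω', and d_A a de Rham differential of the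
Kähler differentials. Suppose the kernel of π is generated over A by elements ω with π(ω) = 0 whose
differential d_A(ω) is killed by the second exterior power of π. Then the exterior powers of Ω' over
A carry a de Rham differential for δ: a family of R-linear maps d from p-forms to (p+1)-forms with
d(f₀ δf₁ ∧ … ∧ δf_p) = δf₀ ∧ δf₁ ∧ … ∧ δf_p and d ∘ d = 0; moreover d is compatible with d_A through
the exterior powers of π. -/
theorem result (R A Ω' : Type u) [CommRing R] [CommRing A] [Algebra R A]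
    [AddCommGroup Ω'] [Module A Ω'] [Module R Ω'] [IsScalarTower R A Ω']
    (π : Ω[A⁄R] →ₗ[A] Ω') (hπ : Function.Surjective π)
    (dA : ∀ p : ℕ, ↥(⋀[A]^p (Ω[A⁄R])) →ₗ[R] ↥(⋀[A]^(p + 1) (Ω[A⁄R])))
    (hdA : DeRham.IsDiff (KaehlerDifferential.D R A) dA)
    (hker : LinearMap.ker π ≤ Submodule.span A {ω : Ω[A⁄R] | π ω = 0 ∧
      exteriorPower.map 2 π (dA 1 ((exteriorPower.oneEquiv A (Ω[A⁄R])).symm ω)) = 0}) :
    ∃ d : ∀ p : ℕ, ↥(⋀[A]^p Ω') →ₗ[R] ↥(⋀[A]^(p + 1) Ω'),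
      DeRham.IsDiff (π.compDer (KaehlerDifferential.D R A)) d ∧
        ∀ (p : ℕ) (x : ↥(⋀[A]^p (Ω[A⁄R]))),
          d p (exteriorPower.map p π x) = exteriorPower.map (p + 1) π (dA p x) := by
  exact main R A Ω' π hπ dA hdA hker

end Groth.Agent.S15296
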