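import Groth.Statements.S15297
import Mathlib
import Groth.Agent.Lib.Helper23.DeRhamGen

set_option autoImplicit false
universe u
open DeRham

namespace Groth.Agent.S15297

open exteriorPower in
/-- Let R → A be a ring map and d a de Rham differential of the Kähler differentials of A over R. Then
each d from p-forms to (p+1)-forms, an R-linear map between A-modules, is a differential operator of
order at most 1 relative to R → A: every commutator of d with multiplication by an element of A is
A-linear. -/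
theorem result (R A : Type u) [CommRing R] [CommRing A] [Algebra R A]
    (d : ∀ p : ℕ, ↥(⋀[A]^p (Ω[A⁄R])) →ₗ[R] ↥(⋀[A]^(p + 1) (Ω[A⁄R])))
    (hd : DeRham.IsDiff (KaehlerDifferential.D R A) d) (p : ℕ) :
    Diff16.IsDiffOpLE R A ↥(⋀[A]^p (Ω[A⁄R])) ↥(⋀[A]^(p + 1) (Ω[A⁄R])) 1 (d p) := by
  intro a c m
  have hcomm : ∀ (b₀ : A) (b : Fin p → A),
      Diff16.commutator R A ↥(⋀[A]^p (Ω[A⁄R])) ↥(⋀[A]^(p + 1) (Ω[A⁄R])) (d p) a
        (DeRham.gen (KaehlerDifferential.D R A) p b₀ b)
      = b₀ • ιMulti A (p + 1) (Fin.cons ((KaehlerDifferential.D R A) a)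
        (fun i => (KaehlerDifferential.D R A) (b i))) := by
    intro b₀ b
    simp only [Diff16.commutator, LinearMap.sub_apply, LinearMap.coe_comp, Function.comp_apply,
      LinearMap.coe_restrictScalars, LinearMap.lsmul_apply]
    have h1 : a • DeRham.gen (KaehlerDifferential.D R A) p b₀ b
        = DeRham.gen (KaehlerDifferential.D R A) p (a * b₀) b := by
      simp only [DeRham.gen, mul_smul]
    rw [h1, hd.1 p (a * b₀) b, hd.1 p b₀ b, Derivation.leibniz]
    have h2 := (ιMulti A (p + 1)).toMultilinearMap.cons_add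
      (fun i => (KaehlerDifferential.D R A) (b i))
      (a • (KaehlerDifferential.D R A) b₀) (b₀ • (KaehlerDifferential.D R A) a)
    have h3 := (ιMulti A (p + 1)).toMultilinearMap.cons_smul
      (fun i => (KaehlerDifferential.D R A) (b i)) a ((KaehlerDifferential.D R A) b₀)
    have h4 := (ιMulti A (p + 1)).toMultilinearMap.cons_smul
      (fun i => (KaehlerDifferential.D R A) (b i)) b₀ ((KaehlerDifferential.D R A) a)
    simp only [AlternatingMap.coe_multilinearMap] at h2 h3 h4
    rw [h2, h3, h4]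
    abel
  have h := Groth.Agent.Helper23.addHom_ext_gen R A p
    ((Diff16.commutator R A ↥(⋀[A]^p (Ω[A⁄R])) ↥(⋀[A]^(p + 1) (Ω[A⁄R])) (d p) a).toAddMonoidHom.comp
      (DistribSMul.toAddMonoidHom ↥(⋀[A]^p (Ω[A⁄R])) c))
    ((DistribSMul.toAddMonoidHom ↥(⋀[A]^(p + 1) (Ω[A⁄R])) c).comp
      (Diff16.commutator R A ↥(⋀[A]^p (Ω[A⁄R])) ↥(⋀[A]^(p + 1) (Ω[A⁄R])) (d p) a).toAddMonoidHom) ?_
  · exact DFunLike.congr_fun h m
  · intro b₀ b
    simp only [AddMonoidHom.coe_comp, LinearMap.toAddMonoidHom_coe, Function.comp_apply,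
      DistribSMul.toAddMonoidHom_apply]
    have h1 : c • DeRham.gen (KaehlerDifferential.D R A) p b₀ b
        = DeRham.gen (KaehlerDifferential.D R A) p (c * b₀) b := by
      simp only [DeRham.gen, mul_smul]
    rw [h1, hcomm, hcomm, mul_smul]

end Groth.Agent.S15297
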