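import Groth.Statements.S15298
import Mathlib
import Groth.Agent.Lib.Helper14.PowerSeriesComplete
import Groth.Agent.Lib.Helper14.FlatIso
-- import your own Groth.Agent.* helpers here

set_option autoImplicit false
universe u
open CAlg

namespace Groth.Agent.S15298

/-- Let k be a field, A a Noetherian k-algebra and x a non-zero-divisor of A such that A is separated
and complete for the (x)-adic topology, and assume that B = A/xA is formally smooth over k. Then A
is a power series ring over B in the variable x: there is a k-algebra isomorphism e : B[[T]] ≅ A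
with e(T) = x whose reduction modulo x is the constant-coefficient map, i.e. e(f) ≡ f(0) mod x for
every power series f. -/
theorem result (k A : Type u) [Field k]
    [CommRing A] [Algebra k A] [IsNoetherianRing A] (x : A) (hx : x ∈ nonZeroDivisors A)
    [IsAdicComplete (Ideal.span {x}) A] [Algebra.FormallySmooth k (A ⧸ Ideal.span {x})] :
    ∃ e : PowerSeries (A ⧸ Ideal.span {x}) ≃ₐ[k] A,
      e PowerSeries.X = x ∧
      ∀ f : PowerSeries (A ⧸ Ideal.span {x}),
        Ideal.Quotient.mk (Ideal.span {x}) (e f) = PowerSeries.constantCoeff f := by
  classical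
  let I : Ideal A := Ideal.span {x}
  let B := A ⧸ I
  -- a section of the quotient map
  obtain ⟨s, hs⟩ := Algebra.FormallySmooth.exists_mkₐ_comp_eq_of_isAdicComplete (R := k) (A := B)
    (S := A) (I := I) (AlgHom.id k B)
  have hs' : ∀ b : B, Ideal.Quotient.mk I (s b) = b := fun b => DFunLike.congr_fun hs b
  letI algBA : Algebra B A := s.toRingHom.toAlgebra
  haveI : IsScalarTower k B A := IsScalarTower.of_algebraMap_eq (fun r => (s.commutes r).symm)
  have halg : ∀ b : B, algebraMap B A b = s b := fun b => rfl
  obtain ⟨Φ, hΦ⟩ := Groth.Agent.Helper14.PowerSeriesComplete.exists_algHom_complete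
    (Λ := B) (σ := Unit) I (fun _ => x) (fun _ => Ideal.mem_span_singleton_self x)
  have hΦX : Φ PowerSeries.X = x := hΦ ()
  -- reduction mod x
  have hmk : ∀ f : PowerSeries B, Ideal.Quotient.mk I (Φ f) = PowerSeries.constantCoeff f := by
    intro f
    have h1 : f = PowerSeries.X * PowerSeries.mk (fun p => PowerSeries.coeff (p + 1) f) +
        PowerSeries.C (PowerSeries.constantCoeff f) :=
      PowerSeries.eq_X_mul_shift_add_const f
    conv_lhs => rw [h1]
    rw [map_add, map_mul, hΦX, map_add, map_mul]
    have h2 : Ideal.Quotient.mk I x = 0 :=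
      Ideal.Quotient.eq_zero_iff_mem.mpr (Ideal.mem_span_singleton_self x)
    rw [h2, zero_mul, zero_add]
    have h3 : Φ (PowerSeries.C (PowerSeries.constantCoeff f)) = s (PowerSeries.constantCoeff f) := by
      have := Φ.commutes (PowerSeries.constantCoeff f)
      rw [halg] at this
      rw [← this]
      rfl
    rw [h3, hs']
  -- injectivity
  have hinj : Function.Injective Φ := by
    rw [injective_iff_map_eq_zero]
    have key : ∀ n : ℕ, ∀ f : PowerSeries B, Φ f = 0 → PowerSeries.coeff n f = 0 := by
      intro n
      induction n with
      | zero =>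
        intro f hf
        have := hmk f
        rw [hf, map_zero] at this
        rw [PowerSeries.coeff_zero_eq_constantCoeff_apply]
        exact this.symm
      | succ n ih =>
        intro f hf
        have h0 : PowerSeries.constantCoeff f = 0 := by
          have := hmk f
          rw [hf, map_zero] at this
          exact this.symm
        obtain ⟨g, rfl⟩ := PowerSeries.X_dvd_iff.mpr h0
        rw [map_mul, hΦX] at hf
        have hg : Φ g = 0 := by
          have := (mem_nonZeroDivisors_iff.mp hx).1 (Φ g)
          apply this
          exact hf
        rw [PowerSeries.coeff_succ_X_mul]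
        exact ih g hg
    intro f hf
    ext n
    rw [key n f hf, map_zero]
  -- surjectivity
  have hsurj : Function.Surjective Φ := by
    letI algPA : Algebra (PowerSeries B) A := Φ.toRingHom.toAlgebra
    let g : PowerSeries B →ₐ[PowerSeries B] A := Algebra.ofId _ _
    have hg : ∀ f, g f = Φ f := fun f => rfl
    have hmapA : (Ideal.span {(PowerSeries.X : PowerSeries B)}).map (algebraMap (PowerSeries B) A) = I := by
      rw [Ideal.map_span, Set.image_singleton]
      change Ideal.span {Φ PowerSeries.X} = I
      rw [hΦX]
    haveI : IsPrecomplete ((Ideal.span {(PowerSeries.X : PowerSeries B)}).map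
        (algebraMap (PowerSeries B) (PowerSeries B))) (PowerSeries B) := by
      have : (Ideal.span {(PowerSeries.X : PowerSeries B)}).map
        (algebraMap (PowerSeries B) (PowerSeries B)) = Ideal.span {(PowerSeries.X : PowerSeries B)} := by
        rw [Algebra.algebraMap_self, Ideal.map_id]
      rw [this]; infer_instance
    haveI : IsHausdorff ((Ideal.span {(PowerSeries.X : PowerSeries B)}).map
        (algebraMap (PowerSeries B) A)) A := by
      rw [hmapA]; infer_instance
    have := Groth.Agent.Helper14.FlatIso.surjective_of_mod
      (Ideal.span {(PowerSeries.X : PowerSeries B)}) g (fun a => by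
        refine ⟨PowerSeries.C (Ideal.Quotient.mk I a), ?_⟩
        rw [hmapA, hg, ← Ideal.Quotient.eq_zero_iff_mem, map_sub, hmk]
        simp)
    exact this
  let e : PowerSeries B ≃ₐ[k] A := AlgEquiv.ofBijective (Φ.restrictScalars k) ⟨hinj, hsurj⟩
  exact ⟨e, hΦX, hmk⟩

end Groth.Agent.S15298
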