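import Groth.Statements.S15299
import Mathlib
import Groth.Agent.Lib.Helper23.DRWt

set_option autoImplicit false
universe u
open Omega

namespace Groth.Agent.S15299

set_option linter.style.haveILetI false
set_option linter.unusedVariables false
set_option linter.unusedSectionVars false
open exteriorPower Groth.Agent.Helper23 Groth.Agent.Helper23.DRContr Groth.Agent.Helper23.DRLie Groth.Agent.Helper23.DRPoinc Groth.Agent.Helper23.DRWt

section Gen

variable {R B : Type u} [CommRing R] [CommRing B] [Algebra R B]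
  (d : ExteriorAlgebra B (Ω[B⁄R]) →ₗ[R] ExteriorAlgebra B (Ω[B⁄R]))
  (h0 : ∀ a : B, d (algebraMap B _ a) = ExteriorAlgebra.ι B (KaehlerDifferential.D R B a))
  (hdeg : ∀ (p : ℕ) (ω : ExteriorAlgebra B (Ω[B⁄R])), ω ∈ ⋀[B]^p (Ω[B⁄R]) →
    d ω ∈ ⋀[B]^(p + 1) (Ω[B⁄R]))
  (hder : ∀ (p : ℕ) (ω η : ExteriorAlgebra B (Ω[B⁄R])), ω ∈ ⋀[B]^p (Ω[B⁄R]) →
    d (ω * η) = d ω * η + (-1) ^ p * ω * d η)
  (hdd : ∀ ω, d (d ω) = 0)

/-- the degreewise family -/
noncomputable def dd (p : ℕ) : FF R B p →ₗ[R] FF R B (p + 1) :=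
  LinearMap.codRestrict ((⋀[B]^(p + 1) (Ω[B⁄R])).restrictScalars R)
    (d ∘ₗ ((⋀[B]^p (Ω[B⁄R])).restrictScalars R).subtype) (fun x => hdeg p x.1 x.2)

theorem dd_coe (p : ℕ) (x : FF R B p) : ((dd d hdeg p x : FF R B (p + 1)) : ExteriorAlgebra B (Ω[B⁄R])) = d x.1 := rfl

include h0 hder hdd in
theorem d_ιMulti (p : ℕ) (v : Fin p → B) :
    d (ExteriorAlgebra.ιMulti B p (fun i => KaehlerDifferential.D R B (v i))) = 0 := by
  induction p with
  | zero =>
    rw [ExteriorAlgebra.ιMulti_zero_apply]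
    have h1 := h0 1
    rw [map_one, Derivation.map_one_eq_zero, map_zero] at h1
    exact h1
  | succ p ih =>
    rw [ExteriorAlgebra.ιMulti_succ_apply,
      hder 1 _ _ (by
        rw [ExteriorAlgebra.exteriorPower, pow_one]
        exact LinearMap.mem_range_self _ _)]
    have h1 : d (ExteriorAlgebra.ι B (KaehlerDifferential.D R B (v 0))) = 0 := by
      rw [← h0, hdd]
    rw [h1, zero_mul, zero_add]
    have h2 := ih (Matrix.vecTail v)
    have h3 : (Matrix.vecTail fun i => KaehlerDifferential.D R B (v i)) =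
        fun i => KaehlerDifferential.D R B (Matrix.vecTail v i) := rfl
    rw [h3, h2, mul_zero]

include h0 hder hdd in
theorem isRule : DeRham.IsRule (KaehlerDifferential.D R B) (dd d hdeg) := by
  intro p b₀ b
  apply Subtype.ext
  rw [dd_coe]
  have h1 : ((DeRham.gen (KaehlerDifferential.D R B) p b₀ b : FF R B p) :
      ExteriorAlgebra B (Ω[B⁄R])) =
      algebraMap B _ b₀ * ExteriorAlgebra.ιMulti B p (fun i => KaehlerDifferential.D R B (b i)) := by
    rw [DeRham.gen, Submodule.coe_smul, ιMulti_apply_coe, Algebra.smul_def]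
  rw [h1, hder 0 _ _ (by
    rw [mem_zero_iff]; exact ⟨b₀, rfl⟩), h0, d_ιMulti d h0 hder hdd, mul_zero, add_zero,
    ιMulti_apply_coe, ExteriorAlgebra.ιMulti_succ_apply]
  congr 1

end Gen

section Poly

open MvPolynomial

variable {k : Type u} [Field k] {n : ℕ}

/-- the Euler derivation -/
noncomputable def Eul : Derivation k (MvPolynomial (Fin n) k) (MvPolynomial (Fin n) k) :=
  ∑ i : Fin n, (X i : MvPolynomial (Fin n) k) • (pderiv i : Derivation k _ _)

theorem Eul_apply (b : MvPolynomial (Fin n) k) : Eul b = ∑ i : Fin n, X i * pderiv i b := by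
  unfold Eul
  show (Derivation.coeFnAddMonoidHom (∑ i : Fin n, (X i : MvPolynomial (Fin n) k) •
    (pderiv i : Derivation k _ _))) b = _
  rw [map_sum, Finset.sum_apply]
  rfl

/-- weights: homogeneity -/
def Wt (b : MvPolynomial (Fin n) k) (N : ℕ) : Prop := b.IsHomogeneous N

theorem heu (b : MvPolynomial (Fin n) k) (N : ℕ) (h : Wt b N) : Eul b = (N : MvPolynomial (Fin n) k) * b := by
  rw [Eul_apply, h.sum_X_mul_pderiv, nsmul_eq_mul]

theorem hone : Wt (1 : MvPolynomial (Fin n) k) 0 := isHomogeneous_one _ _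

theorem hdec (b : MvPolynomial (Fin n) k) : ∃ (J : Finset (Fin n →₀ ℕ)) (c : (Fin n →₀ ℕ) → MvPolynomial (Fin n) k)
    (N : (Fin n →₀ ℕ) → ℕ), (∀ j ∈ J, Wt (c j) (N j)) ∧ b = ∑ j ∈ J, c j := by
  refine ⟨b.support, fun m => monomial m (coeff m b), fun m => m.degree, ?_, ?_⟩
  · intro j _
    exact isHomogeneous_monomial _ rfl
  · exact (support_sum_monomial_coeff b).symm

theorem eq_C_of_wt_zero {b : MvPolynomial (Fin n) k} (h : Wt b 0) : b = C (coeff 0 b) :=
  totalDegree_eq_zero_iff_eq_C.mp ((MvPolynomial.totalDegree_zero_iff_isHomogeneous (p := b)).mpr h)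

theorem G_succ_zero (p : ℕ) {x : FF k (MvPolynomial (Fin n) k) (p + 1)}
    (hx : x ∈ G (R := k) (Wt (k := k) (n := n)) (p + 1) 0) : x = 0 := by
  induction hx using Submodule.span_induction with
  | mem x hx =>
    obtain ⟨b₀, n₀, bs, N, h₀, hb, hN, rfl⟩ := hx
    have hN0 : N 0 = 0 := by
      have : N 0 ≤ ∑ j, N j := Finset.single_le_sum (fun _ _ => Nat.zero_le _) (Finset.mem_univ 0)
      omega
    have h1 := hb 0
    rw [hN0] at h1
    have h2 : KaehlerDifferential.D k (MvPolynomial (Fin n) k) (bs 0) = 0 := by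
      rw [eq_C_of_wt_zero h1, ← algebraMap_eq, Derivation.map_algebraMap]
    have h3 : w (R := k) (p + 1) bs = 0 := by
      unfold w
      exact (ιMulti (MvPolynomial (Fin n) k) (p + 1)).map_coord_zero 0 h2
    rw [h3, smul_zero]
  | zero => rfl
  | add x y _ _ hx hy => rw [hx, hy, add_zero]
  | smul z x _ hx => rw [hx, smul_zero]

theorem G_zero_zero {x : FF k (MvPolynomial (Fin n) k) 0}
    (hx : x ∈ G (R := k) (Wt (k := k) (n := n)) 0 0) :
    ∃ c : k, (x : ExteriorAlgebra (MvPolynomial (Fin n) k) (Ω[MvPolynomial (Fin n) k⁄k])) =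
      algebraMap (MvPolynomial (Fin n) k) _ (C c) := by
  induction hx using Submodule.span_induction with
  | mem x hx =>
    obtain ⟨b₀, n₀, bs, N, h₀, hb, hN, rfl⟩ := hx
    have hn₀ : n₀ = 0 := by omega
    rw [hn₀] at h₀
    refine ⟨coeff 0 b₀, ?_⟩
    rw [← eq_C_of_wt_zero h₀, Submodule.coe_smul]
    unfold w
    rw [ιMulti_apply_coe, ExteriorAlgebra.ιMulti_zero_apply, Algebra.smul_def, mul_one]
  | zero => exact ⟨0, by simp⟩
  | add x y _ _ hx hy =>
    obtain ⟨c, hc⟩ := hx
    obtain ⟨c', hc'⟩ := hy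
    exact ⟨c + c', by rw [Submodule.coe_add, hc, hc', map_add, map_add]⟩
  | smul z x _ hx =>
    obtain ⟨c, hc⟩ := hx
    refine ⟨z • c, ?_⟩
    rw [Submodule.coe_smul_of_tower, hc, map_zsmul, map_zsmul]

end Poly

theorem main (k : Type u) [Field k] [CharZero k] (n : ℕ)
    (d : ExteriorAlgebra (MvPolynomial (Fin n) k) (KaehlerDifferential k (MvPolynomial (Fin n) k)) →ₗ[k]
      ExteriorAlgebra (MvPolynomial (Fin n) k) (KaehlerDifferential k (MvPolynomial (Fin n) k)))
    (h0 : ∀ a : MvPolynomial (Fin n) k,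
      d (algebraMap (MvPolynomial (Fin n) k) _ a) =
        ExteriorAlgebra.ι (MvPolynomial (Fin n) k) (KaehlerDifferential.D k (MvPolynomial (Fin n) k) a))
    (hdeg : ∀ (p : ℕ) (ω : ExteriorAlgebra (MvPolynomial (Fin n) k) (KaehlerDifferential k (MvPolynomial (Fin n) k))),
      ω ∈ ExteriorAlgebra.exteriorPower (MvPolynomial (Fin n) k) p (KaehlerDifferential k (MvPolynomial (Fin n) k)) →
        d ω ∈ ExteriorAlgebra.exteriorPower (MvPolynomial (Fin n) k) (p + 1) (KaehlerDifferential k (MvPolynomial (Fin n) k)))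
    (hder : ∀ (p : ℕ) (ω η : ExteriorAlgebra (MvPolynomial (Fin n) k) (KaehlerDifferential k (MvPolynomial (Fin n) k))),
      ω ∈ ExteriorAlgebra.exteriorPower (MvPolynomial (Fin n) k) p (KaehlerDifferential k (MvPolynomial (Fin n) k)) →
        d (ω * η) = d ω * η + (-1) ^ p * ω * d η)
    (hdd : ∀ ω, d (d ω) = 0) :
    (∀ a : MvPolynomial (Fin n) k, d (algebraMap (MvPolynomial (Fin n) k) _ a) = 0 →
        ∃ c : k, a = MvPolynomial.C c) ∧
    ∀ (p : ℕ) (ω : ExteriorAlgebra (MvPolynomial (Fin n) k) (KaehlerDifferential k (MvPolynomial (Fin n) k))),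
      ω ∈ ExteriorAlgebra.exteriorPower (MvPolynomial (Fin n) k) (p + 1) (KaehlerDifferential k (MvPolynomial (Fin n) k)) →
        d ω = 0 →
          ∃ θ ∈ ExteriorAlgebra.exteriorPower (MvPolynomial (Fin n) k) p (KaehlerDifferential k (MvPolynomial (Fin n) k)),
            d θ = ω := by
  classical
  have hrule := isRule d h0 hdeg hder hdd
  constructor
  · intro a ha
    let y : FF k (MvPolynomial (Fin n) k) 0 := ⟨algebraMap _ _ a, (mem_zero_iff _).mpr ⟨a, rfl⟩⟩
    have hy : dd d hdeg 0 y = 0 := Subtype.ext ha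
    obtain ⟨g, hg, hgy⟩ := decomp (R := k) Wt hdec 0 y
    have hcl := closed_components Eul Wt (dd d hdeg) hrule heu hone 0 g hg (by rw [hgy]; exact hy)
    have hz : ∀ N, N ≠ 0 → g N = 0 := fun N hN =>
      eq_zero_of_pos Eul Wt (dd d hdeg) hrule heu N hN (hg N) (hcl N)
    have hy0 : y = g 0 := by
      rw [← hgy, Finsupp.sum]
      by_cases h0 : 0 ∈ g.support
      · rw [Finset.sum_eq_single_of_mem 0 h0 (fun N _ hN => hz N hN)]
      · rw [Finsupp.notMem_support_iff.mp h0]
        exact Finset.sum_eq_zero (fun N hN => hz N (fun h => h0 (h ▸ hN)))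
    obtain ⟨c, hc⟩ := G_zero_zero (hg 0)
    refine ⟨c, ?_⟩
    have h1 : algebraMap (MvPolynomial (Fin n) k)
        (ExteriorAlgebra (MvPolynomial (Fin n) k) (Ω[MvPolynomial (Fin n) k⁄k])) a =
        algebraMap (MvPolynomial (Fin n) k)
        (ExteriorAlgebra (MvPolynomial (Fin n) k) (Ω[MvPolynomial (Fin n) k⁄k]))
          (MvPolynomial.C c : MvPolynomial (Fin n) k) := by
      rw [← hc, ← hy0]
    exact (ExteriorAlgebra.algebraMap_inj (Ω[MvPolynomial (Fin n) k⁄k]) a (MvPolynomial.C c)).mp h1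
  · intro p ω hω hcl
    let y : FF k (MvPolynomial (Fin n) k) (p + 1) := ⟨ω, hω⟩
    have hy : dd d hdeg (p + 1) y = 0 := Subtype.ext hcl
    obtain ⟨g, hg, hgy⟩ := decomp (R := k) Wt hdec (p + 1) y
    have hcl' := closed_components Eul Wt (dd d hdeg) hrule heu hone (p + 1) g hg
      (by rw [hgy]; exact hy)
    have hex : ∀ N, ∃ z : FF k (MvPolynomial (Fin n) k) p, dd d hdeg p z = g N := by
      intro N
      by_cases hN : N = 0
      · refine ⟨0, ?_⟩
        rw [map_zero, hN, G_succ_zero p (hg 0)]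
      · exact exact_of_pos Eul Wt (dd d hdeg) hrule heu p N hN (hg N) (hcl' N)
    choose z hz using hex
    refine ⟨(∑ N ∈ g.support, z N : FF k (MvPolynomial (Fin n) k) p).1,
      (∑ N ∈ g.support, z N : FF k (MvPolynomial (Fin n) k) p).2, ?_⟩
    have h1 : dd d hdeg p (∑ N ∈ g.support, z N) = y := by
      rw [map_sum, ← hgy, Finsupp.sum]
      exact Finset.sum_congr rfl (fun N _ => hz N)
    exact congrArg Subtype.val h1

/-- Let k be a field of characteristic zero, A = k[x_1, …, x_n] and Ω = Ω_{A/k}. Let d be a k-linear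
endomorphism of the exterior algebra ⋀_A Ω which agrees with the universal derivation on A, sends
⋀^p Ω into ⋀^(p+1) Ω, is a graded derivation and satisfies d ∘ d = 0 (these properties characterise
the de Rham differential). Then the de Rham complex 0 → k → A → Ω → ⋀^2 Ω → ⋯ → ⋀^n Ω → 0 is exact:
an element of A with d a = 0 is a constant, and every d-closed element of ⋀^(p+1) Ω is d of some
element of ⋀^p Ω. -/
theorem result (k : Type u) [Field k] [CharZero k] (n : ℕ)
    (d : ExteriorAlgebra (MvPolynomial (Fin n) k) (KaehlerDifferential k (MvPolynomial (Fin n) k)) →ₗ[k]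
      ExteriorAlgebra (MvPolynomial (Fin n) k) (KaehlerDifferential k (MvPolynomial (Fin n) k)))
    (h0 : ∀ a : MvPolynomial (Fin n) k,
      d (algebraMap (MvPolynomial (Fin n) k) _ a) =
        ExteriorAlgebra.ι (MvPolynomial (Fin n) k) (KaehlerDifferential.D k (MvPolynomial (Fin n) k) a))
    (hdeg : ∀ (p : ℕ) (ω : ExteriorAlgebra (MvPolynomial (Fin n) k) (KaehlerDifferential k (MvPolynomial (Fin n) k))),
      ω ∈ ExteriorAlgebra.exteriorPower (MvPolynomial (Fin n) k) p (KaehlerDifferential k (MvPolynomial (Fin n) k)) →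
        d ω ∈ ExteriorAlgebra.exteriorPower (MvPolynomial (Fin n) k) (p + 1) (KaehlerDifferential k (MvPolynomial (Fin n) k)))
    (hder : ∀ (p : ℕ) (ω η : ExteriorAlgebra (MvPolynomial (Fin n) k) (KaehlerDifferential k (MvPolynomial (Fin n) k))),
      ω ∈ ExteriorAlgebra.exteriorPower (MvPolynomial (Fin n) k) p (KaehlerDifferential k (MvPolynomial (Fin n) k)) →
        d (ω * η) = d ω * η + (-1) ^ p * ω * d η)
    (hdd : ∀ ω, d (d ω) = 0) :
    (∀ a : MvPolynomial (Fin n) k, d (algebraMap (MvPolynomial (Fin n) k) _ a) = 0 →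
        ∃ c : k, a = MvPolynomial.C c) ∧
    ∀ (p : ℕ) (ω : ExteriorAlgebra (MvPolynomial (Fin n) k) (KaehlerDifferential k (MvPolynomial (Fin n) k))),
      ω ∈ ExteriorAlgebra.exteriorPower (MvPolynomial (Fin n) k) (p + 1) (KaehlerDifferential k (MvPolynomial (Fin n) k)) →
        d ω = 0 →
          ∃ θ ∈ ExteriorAlgebra.exteriorPower (MvPolynomial (Fin n) k) p (KaehlerDifferential k (MvPolynomial (Fin n) k)),
            d θ = ω := by
  exact main k n d h0 hdeg hder hdd

end Groth.Agent.S15299
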