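import Groth.Statements.S15302
import Mathlib

set_option autoImplicit false
universe v u
open HomAlg3

namespace Groth.Agent.S15302

open CategoryTheory CategoryTheory.Limits ZeroObject

variable {C : Type u} [Category.{v} C] [Abelian C]

section Disk
variable (I : CochainComplex C ℕ)

/-- objects of the disk complex -/
noncomputable def DX : ℕ → C
  | 0 => I.X 0
  | (p+1) => I.X (p+1) ⊞ I.X p

/-- differential of the disk complex -/
noncomputable def dD : (p : ℕ) → (DX I p ⟶ DX I (p+1))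
  | 0 => (biprod.inr : I.X 0 ⟶ I.X 1 ⊞ I.X 0)
  | (p+1) => (biprod.fst : I.X (p+1) ⊞ I.X p ⟶ I.X (p+1)) ≫
      (biprod.inr : I.X (p+1) ⟶ I.X (p+2) ⊞ I.X (p+1))

/-- the projection to `I` -/
noncomputable def πf : (p : ℕ) → (DX I p ⟶ I.X p)
  | 0 => 𝟙 _
  | (p+1) => biprod.desc (𝟙 _) (I.d p (p+1))

/-- section of the projection -/
noncomputable def σ : (p : ℕ) → (I.X p ⟶ DX I p)
  | 0 => 𝟙 _
  | (p+1) => biprod.inl

/-- contracting homotopy -/
noncomputable def sD : (p : ℕ) → (DX I (p+1) ⟶ DX I p)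
  | 0 => (biprod.snd : I.X 1 ⊞ I.X 0 ⟶ I.X 0)
  | (p+1) => (biprod.snd : I.X (p+2) ⊞ I.X (p+1) ⟶ I.X (p+1)) ≫
      (biprod.inl : I.X (p+1) ⟶ I.X (p+1) ⊞ I.X p)

theorem dD_comp (p : ℕ) : dD I p ≫ dD I (p+1) = 0 := by
  cases p with
  | zero =>
    show (biprod.inr : I.X 0 ⟶ I.X 1 ⊞ I.X 0) ≫ ((biprod.fst : I.X 1 ⊞ I.X 0 ⟶ I.X 1) ≫
      (biprod.inr : I.X 1 ⟶ I.X 2 ⊞ I.X 1)) = 0
    simp
  | succ p =>
    show ((biprod.fst : I.X (p+1) ⊞ I.X p ⟶ I.X (p+1)) ≫
      (biprod.inr : I.X (p+1) ⟶ I.X (p+2) ⊞ I.X (p+1))) ≫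
      ((biprod.fst : I.X (p+2) ⊞ I.X (p+1) ⟶ I.X (p+2)) ≫
      (biprod.inr : I.X (p+2) ⟶ I.X (p+3) ⊞ I.X (p+2))) = 0
    simp

theorem πf_comm (p : ℕ) : πf I p ≫ I.d p (p+1) = dD I p ≫ πf I (p+1) := by
  cases p with
  | zero =>
    show 𝟙 (I.X 0) ≫ I.d 0 1 = (biprod.inr : I.X 0 ⟶ I.X 1 ⊞ I.X 0) ≫
      biprod.desc (𝟙 _) (I.d 0 1)
    simp
  | succ p =>
    show biprod.desc (𝟙 _) (I.d p (p+1)) ≫ I.d (p+1) (p+2) =
      ((biprod.fst : I.X (p+1) ⊞ I.X p ⟶ I.X (p+1)) ≫
      (biprod.inr : I.X (p+1) ⟶ I.X (p+2) ⊞ I.X (p+1))) ≫ biprod.desc (𝟙 _) (I.d (p+1) (p+2))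
    apply biprod.hom_ext' <;> simp

theorem σ_πf (p : ℕ) : σ I p ≫ πf I p = 𝟙 _ := by
  cases p with
  | zero =>
    show 𝟙 (I.X 0) ≫ 𝟙 (I.X 0) = 𝟙 _
    simp
  | succ p =>
    show (biprod.inl : I.X (p+1) ⟶ I.X (p+1) ⊞ I.X p) ≫ biprod.desc (𝟙 _) (I.d p (p+1)) = 𝟙 _
    simp

theorem dD_sD_zero : dD I 0 ≫ sD I 0 = 𝟙 _ := by
  show (biprod.inr : I.X 0 ⟶ I.X 1 ⊞ I.X 0) ≫ (biprod.snd : I.X 1 ⊞ I.X 0 ⟶ I.X 0) = 𝟙 _
  simp

theorem dD_sD_succ (p : ℕ) : dD I (p+1) ≫ sD I (p+1) + sD I p ≫ dD I p = 𝟙 _ := by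
  cases p with
  | zero =>
    show ((biprod.fst : I.X 1 ⊞ I.X 0 ⟶ I.X 1) ≫ (biprod.inr : I.X 1 ⟶ I.X 2 ⊞ I.X 1)) ≫
        ((biprod.snd : I.X 2 ⊞ I.X 1 ⟶ I.X 1) ≫ (biprod.inl : I.X 1 ⟶ I.X 1 ⊞ I.X 0)) +
      (biprod.snd : I.X 1 ⊞ I.X 0 ⟶ I.X 0) ≫ (biprod.inr : I.X 0 ⟶ I.X 1 ⊞ I.X 0) = 𝟙 _
    simp
  | succ p =>
    show ((biprod.fst : I.X (p+2) ⊞ I.X (p+1) ⟶ I.X (p+2)) ≫
        (biprod.inr : I.X (p+2) ⟶ I.X (p+3) ⊞ I.X (p+2))) ≫
        ((biprod.snd : I.X (p+3) ⊞ I.X (p+2) ⟶ I.X (p+2)) ≫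
        (biprod.inl : I.X (p+2) ⟶ I.X (p+2) ⊞ I.X (p+1))) +
      ((biprod.snd : I.X (p+2) ⊞ I.X (p+1) ⟶ I.X (p+1)) ≫
        (biprod.inl : I.X (p+1) ⟶ I.X (p+1) ⊞ I.X p)) ≫
      ((biprod.fst : I.X (p+1) ⊞ I.X p ⟶ I.X (p+1)) ≫
        (biprod.inr : I.X (p+1) ⟶ I.X (p+2) ⊞ I.X (p+1))) = 𝟙 _
    simp

theorem DX_injective (hI : ∀ n, Injective (I.X n)) (p : ℕ) : Injective (DX I p) := by
  cases p with
  | zero => exact hI 0
  | succ p =>
    have := hI (p+1)
    have := hI p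
    show Injective (I.X (p+1) ⊞ I.X p)
    infer_instance

/-- the disk complex -/
noncomputable def D : CochainComplex C ℕ := CochainComplex.of (DX I) (dD I) (dD_comp I)

/-- the projection `D ⟶ I` -/
noncomputable def π : D I ⟶ I where
  f p := πf I p
  comm' i j hij := by
    have : i + 1 = j := hij
    subst this
    simp only [D, CochainComplex.of_d]
    exact πf_comm I i

/-- the contracting homotopy of `D` -/
noncomputable def contr : Homotopy (𝟙 (D I)) 0 := by
  have h := Homotopy.nullHomotopy' (C := D I) (D := D I)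
    (fun i j (hij : (ComplexShape.up ℕ).Rel j i) => by
      have : j + 1 = i := hij
      subst this
      exact sD I j)
  refine (Homotopy.ofEq ?_).trans h
  ext p
  cases p with
  | zero =>
    rw [Homotopy.nullHomotopicMap'_f_of_not_rel_right (k₁ := 0) (k₀ := 1) rfl
      (fun l (hl : l + 1 = 0) => by omega)]
    have e : (D I).d 0 1 = dD I 0 := CochainComplex.of_d (DX I) (dD I) 0
    rw [e, HomologicalComplex.id_f]
    exact (dD_sD_zero I).symm
  | succ p =>
    rw [Homotopy.nullHomotopicMap'_f (k₂ := p) (k₁ := p+1) (k₀ := p+2) rfl rfl]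
    have e : (D I).d (p+1) (p+2) = dD I (p+1) := CochainComplex.of_d (DX I) (dD I) (p+1)
    have e' : (D I).d p (p+1) = dD I p := CochainComplex.of_d (DX I) (dD I) p
    rw [e, e', HomologicalComplex.id_f]
    exact (dD_sD_succ I p).symm

/-- section of `π` in degree `p` -/
noncomputable def σ' (p : ℕ) : I.X p ⟶ (D I).X p := σ I p

theorem σ'_π (p : ℕ) : σ' I p ≫ (π I).f p = 𝟙 _ := σ_πf I p

end Disk

theorem exists_split {A B : C} (r : A ⟶ B) (s : B ⟶ A) (hs : s ≫ r = 𝟙 B) :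
    ∃ (K : C) (e : A ≅ B ⊞ K), r = e.hom ≫ biprod.fst := by
  let S : ShortComplex C := ShortComplex.mk (kernel.ι r) r (kernel.condition r)
  have hS : S.Exact := ShortComplex.exact_kernel r
  have hmono : Mono S.f := by dsimp [S]; infer_instance
  let spl : S.Splitting := ShortComplex.Splitting.ofExactOfSection S hS s hs hmono
  refine ⟨kernel r, spl.isoBinaryBiproduct ≪≫ biprod.braiding _ _, ?_⟩
  simp [S]

theorem main [EnoughInjectives C] {G F : C} (α : G ⟶ F) (I : InjectiveResolution F) :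
    ∃ (J : InjectiveResolution G) (β : J.cocomplex ⟶ I.cocomplex),
      J.ι ≫ β = (CochainComplex.single₀ C).map α ≫ I.ι ∧
      ∀ p : ℕ, ∃ (K : C) (e : J.cocomplex.X p ≅ I.cocomplex.X p ⊞ K), β.f p = e.hom ≫ biprod.fst := by
  let J₀ : InjectiveResolution G := InjectiveResolution.of G
  let β₀ : J₀.cocomplex ⟶ I.cocomplex := InjectiveResolution.desc α I J₀
  let Jc : CochainComplex C ℕ := J₀.cocomplex ⊞ D I.cocomplex
  have hinj : ∀ n, Injective (Jc.X n) := by
    intro n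
    have h1 : Injective (J₀.cocomplex.X n) := J₀.injective n
    have h2 : Injective ((D I.cocomplex).X n) := DX_injective I.cocomplex I.injective n
    have h3 : Injective (J₀.cocomplex.X n ⊞ (D I.cocomplex).X n) := inferInstance
    exact Injective.of_iso (HomologicalComplex.biprodXIso _ _ n).symm h3
  -- homotopy equivalence
  let he : HomotopyEquiv J₀.cocomplex Jc :=
    { hom := biprod.inl
      inv := biprod.fst
      homotopyHomInvId := Homotopy.ofEq (by simp)
      homotopyInvHomId := by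
        have h1 : Homotopy ((biprod.snd : Jc ⟶ D I.cocomplex) ≫ 𝟙 (D I.cocomplex) ≫
              (biprod.inr : D I.cocomplex ⟶ Jc))
            ((biprod.snd : Jc ⟶ D I.cocomplex) ≫ 0 ≫ (biprod.inr : D I.cocomplex ⟶ Jc)) :=
          ((contr I.cocomplex).compRight (biprod.inr : D I.cocomplex ⟶ Jc)).compLeft
            (biprod.snd : Jc ⟶ D I.cocomplex)
        have h2 := (Homotopy.refl ((biprod.fst : Jc ⟶ J₀.cocomplex) ≫ biprod.inl)).add h1.symm
        refine (Homotopy.ofEq ?_).trans (h2.trans (Homotopy.ofEq ?_))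
        · simp
        · simp [Jc, biprod.total] }
  have hq : QuasiIso (biprod.inl : J₀.cocomplex ⟶ Jc) := he.quasiIso_hom
  let J : InjectiveResolution G :=
    { cocomplex := Jc
      injective := hinj
      ι := J₀.ι ≫ biprod.inl
      quasiIso := inferInstance }
  refine ⟨J, biprod.desc β₀ (π I.cocomplex), ?_, ?_⟩
  · show (J₀.ι ≫ biprod.inl) ≫ biprod.desc β₀ (π I.cocomplex) = _
    rw [Category.assoc, biprod.inl_desc]
    exact InjectiveResolution.desc_commutes α I J₀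
  · intro p
    apply exists_split _ (σ' I.cocomplex p ≫ (biprod.inr : D I.cocomplex ⟶ Jc).f p)
    rw [Category.assoc, HomologicalComplex.biprod_inr_desc_f]
    exact σ'_π I.cocomplex p

open CategoryTheory CategoryTheory.Limits in
/-- In an abelian category with enough injectives, let α : G ⟶ F be a morphism and I an injective
resolution of F. Then G has an injective resolution J together with a morphism of cochain complexes
β : J ⟶ I lying over α (the augmentations commute with α and β) such that for every p there are an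
object K^p and an isomorphism J^p ≅ I^p ⊕ K^p identifying β^p with the projection onto the first
factor (so K^p is injective as well). (The published statement is for abelian sheaves on a
topological space; its proof uses only an embedding of G into an injective object and cokernels, so
the row is stated in any abelian category with enough injectives.) -/
theorem result {C : Type u} [Category.{v} C] [Abelian C]
    [EnoughInjectives C] {G F : C} (α : G ⟶ F) (I : InjectiveResolution F) :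
    ∃ (J : InjectiveResolution G) (β : J.cocomplex ⟶ I.cocomplex),
      J.ι ≫ β = (CochainComplex.single₀ C).map α ≫ I.ι ∧
      ∀ p : ℕ, ∃ (K : C) (e : J.cocomplex.X p ≅ I.cocomplex.X p ⊞ K), β.f p = e.hom ≫ biprod.fst := by
  exact main α I

end Groth.Agent.S15302
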