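import Groth.Statements.S15307
import Mathlib

set_option autoImplicit false
universe u
open HomAlg3

namespace Groth.Agent.S15307

open CategoryTheory Limits Opposite


/-- transition maps surjective -/
def SurjTrans (A : ℕᵒᵖ ⥤ AddCommGrpCat.{u}) : Prop :=
  ∀ n : ℕ, Function.Surjective (A.map (homOfLE (Nat.le_succ n)).op)

/-- the tower of partial products -/
def bigTow (A : ℕᵒᵖ ⥤ AddCommGrpCat.{u}) : ℕᵒᵖ ⥤ AddCommGrpCat.{u} where
  obj k := AddCommGrpCat.of (∀ j : {j : ℕ // j ≤ k.unop}, A.obj (op j.1))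
  map {k k'} f := AddCommGrpCat.ofHom
    { toFun := fun s j => s ⟨j.1, j.2.trans (leOfHom f.unop)⟩
      map_zero' := rfl
      map_add' := fun _ _ => rfl }
  map_id := by intros; rfl
  map_comp := by intros; rfl

lemma bigTow_surj (A : ℕᵒᵖ ⥤ AddCommGrpCat.{u}) : SurjTrans (bigTow A) := by
  intro n s'
  classical
  refine ⟨fun j => if h : j.1 ≤ n then s' ⟨j.1, h⟩ else 0, ?_⟩
  funext j
  change (if h : j.1 ≤ n then s' ⟨j.1, h⟩ else 0) = s' j
  rw [dif_pos j.2]

/-- the diagonal embedding -/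
def toBig (A : ℕᵒᵖ ⥤ AddCommGrpCat.{u}) : A ⟶ bigTow A where
  app k := AddCommGrpCat.ofHom
    { toFun := fun a j => A.map (homOfLE j.2).op a
      map_zero' := by funext j; simp
      map_add' := fun a b => by funext j; simp }
  naturality := by
    intro k k' f
    ext a
    funext j
    change A.map (homOfLE j.2).op (A.map f a) = A.map (homOfLE _).op a
    rw [← ConcreteCategory.comp_apply, ← A.map_comp]
    rfl

instance toBig_mono (A : ℕᵒᵖ ⥤ AddCommGrpCat.{u}) : Mono (toBig A) := by
  haveI : ∀ k, Mono ((toBig A).app k) := by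
    intro k
    rw [AddCommGrpCat.mono_iff_injective]
    intro a b h
    have := congrFun h ⟨k.unop, le_refl _⟩
    change A.map (homOfLE _).op a = A.map (homOfLE _).op b at this
    have e : (homOfLE (le_refl k.unop)).op = 𝟙 k := rfl
    rw [e, A.map_id] at this
    exact this
  exact NatTrans.mono_of_mono_app _

/-- injective towers have surjective transition maps -/
theorem surjTrans_of_injective (J : ℕᵒᵖ ⥤ AddCommGrpCat.{u}) [Injective J] : SurjTrans J := by
  intro n w
  let r : bigTow J ⟶ J := Injective.factorThru (𝟙 J) (toBig J)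
  have hr : toBig J ≫ r = 𝟙 J := Injective.comp_factorThru _ _
  obtain ⟨s', hs'⟩ := bigTow_surj J n ((toBig J).app (op n) w)
  refine ⟨r.app (op (n+1)) s', ?_⟩
  have h1 := r.naturality (homOfLE (Nat.le_succ n)).op
  have h2 : J.map (homOfLE (Nat.le_succ n)).op (r.app (op (n+1)) s') =
      r.app (op n) ((bigTow J).map (homOfLE (Nat.le_succ n)).op s') := by
    rw [← ConcreteCategory.comp_apply, ← h1, ConcreteCategory.comp_apply]
  rw [h2, hs', ← ConcreteCategory.comp_apply, ← NatTrans.comp_app, hr]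
  rfl


lemma exists_seq {α : ℕ → Type u} (P : ∀ n, α n → Prop) (R : ∀ n, α (n+1) → α n → Prop)
    (h0 : ∃ a, P 0 a) (hstep : ∀ n a, P n a → ∃ b, P (n+1) b ∧ R n b a) :
    ∃ y : ∀ n, α n, (∀ n, P n (y n)) ∧ ∀ n, R n (y (n+1)) (y n) := by
  classical
  let z : ∀ n, {a : α n // P n a} := fun n =>
    Nat.rec (motive := fun n => {a : α n // P n a}) ⟨h0.choose, h0.choose_spec⟩
      (fun n yn => ⟨(hstep n yn.1 yn.2).choose, (hstep n yn.1 yn.2).choose_spec.1⟩) n
  refine ⟨fun n => (z n).1, fun n => (z n).2, fun n => ?_⟩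
  exact (hstep n (z n).1 (z n).2).choose_spec.2

/-- existence of elements of the limit from compatible families -/
lemma exists_limit_elt (F : ℕᵒᵖ ⥤ AddCommGrpCat.{u}) (s : ∀ n : ℕ, F.obj (op n))
    (hs : ∀ n, F.map (homOfLE (Nat.le_succ n)).op (s (n+1)) = s n) :
    ∃ y : (limit F : AddCommGrpCat.{u}), ∀ n, limit.π F (op n) y = s n := by
  have hcompat : ∀ (m n : ℕ) (h : n ≤ m), F.map (homOfLE h).op (s m) = s n := by
    intro m n h
    induction m, h using Nat.le_induction with
    | base =>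
      have e : (homOfLE (le_refl n)).op = 𝟙 (op n) := rfl
      rw [e, F.map_id]
      rfl
    | succ m h ih =>
      have e : (homOfLE (h.trans (Nat.le_succ m))).op =
          (homOfLE (Nat.le_succ m)).op ≫ (homOfLE h).op := rfl
      rw [e, F.map_comp, ConcreteCategory.comp_apply, hs, ih]
  let sec : (F ⋙ forget AddCommGrpCat.{u}).sections := ⟨fun k => s k.unop, by
    intro k k' f
    have e : f = (homOfLE (leOfHom f.unop)).op := rfl
    rw [e]
    exact hcompat k.unop k'.unop (leOfHom f.unop)⟩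
  let t := isLimitOfPreserves (forget AddCommGrpCat.{u}) (limit.isLimit F)
  refine ⟨(Types.isLimitEquivSections t).symm sec, fun n => ?_⟩
  exact Types.isLimitEquivSections_symm_apply t sec (op n)

lemma limit_elt_ext (F : ℕᵒᵖ ⥤ AddCommGrpCat.{u}) (x y : (limit F : AddCommGrpCat.{u}))
    (h : ∀ n : ℕ, limit.π F (op n) x = limit.π F (op n) y) : x = y := by
  apply Concrete.limit_ext
  intro k
  exact h k.unop

theorem lim_exact_core (X0 X1 X2 X3 : ℕᵒᵖ ⥤ AddCommGrpCat.{u}) (D0 : X0 ⟶ X1) (D1 : X1 ⟶ X2)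
    (D2 : X2 ⟶ X3) (h01 : D0 ≫ D1 = 0) (h12 : D1 ≫ D2 = 0)
    (E0 : (ShortComplex.mk D0 D1 h01).Exact) (E1 : (ShortComplex.mk D1 D2 h12).Exact)
    (hsurj : SurjTrans X0)
    (x : (limit X2 : AddCommGrpCat.{u})) (hx : limMap D2 x = 0) :
    ∃ y : (limit X1 : AddCommGrpCat.{u}), limMap D1 y = x := by
  -- pointwise exactness
  have P1 : ∀ (n : ℕ) (z : X2.obj (op n)), D2.app (op n) z = 0 →
      ∃ y : X1.obj (op n), D1.app (op n) y = z := fun n =>
    (ShortComplex.ab_exact_iff _).1 (E1.map ((evaluation _ _).obj (op n)))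
  have P0 : ∀ (n : ℕ) (z : X1.obj (op n)), D1.app (op n) z = 0 →
      ∃ y : X0.obj (op n), D0.app (op n) y = z := fun n =>
    (ShortComplex.ab_exact_iff _).1 (E0.map ((evaluation _ _).obj (op n)))
  have h01' : ∀ (n : ℕ) (w : X0.obj (op n)), D1.app (op n) (D0.app (op n) w) = 0 := by
    intro n w
    rw [← ConcreteCategory.comp_apply, ← NatTrans.comp_app, h01]
    rfl
  -- components of x
  set xs : ∀ n : ℕ, X2.obj (op n) := fun n => limit.π X2 (op n) x with hxs
  have hxs_tr : ∀ n, X2.map (homOfLE (Nat.le_succ n)).op (xs (n+1)) = xs n := by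
    intro n
    simp only [hxs]
    rw [← ConcreteCategory.comp_apply, limit.w]
  have hxs0 : ∀ n, D2.app (op n) (xs n) = 0 := by
    intro n
    have := congrArg (limit.π X3 (op n)) hx
    rw [← ConcreteCategory.comp_apply, limMap_π, ConcreteCategory.comp_apply, map_zero] at this
    exact this
  -- build the compatible lifts
  obtain ⟨ys, hys, hys_tr⟩ := exists_seq (α := fun n => X1.obj (op n))
    (fun n y => D1.app (op n) y = xs n)
    (fun n b a => X1.map (homOfLE (Nat.le_succ n)).op b = a)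
    (P1 0 (xs 0) (hxs0 0))
    (by
      intro n yn hyn
      obtain ⟨y', hy'⟩ := P1 (n+1) (xs (n+1)) (hxs0 (n+1))
      -- difference
      have hnat1 := D1.naturality (homOfLE (Nat.le_succ n)).op
      have hd : D1.app (op n) (X1.map (homOfLE (Nat.le_succ n)).op y' - yn) = 0 := by
        rw [map_sub, hyn, ← ConcreteCategory.comp_apply, hnat1, ConcreteCategory.comp_apply, hy',
          hxs_tr, sub_self]
      obtain ⟨w, hw⟩ := P0 n _ hd
      obtain ⟨w', hw'⟩ := hsurj n w
      refine ⟨y' - D0.app (op (n+1)) w', ?_, ?_⟩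
      · rw [map_sub, h01', sub_zero, hy']
      · have hnat0 := D0.naturality (homOfLE (Nat.le_succ n)).op
        rw [map_sub, ← ConcreteCategory.comp_apply (D0.app _), ← hnat0, ConcreteCategory.comp_apply,
          hw', hw]
        abel)
  obtain ⟨y, hy⟩ := exists_limit_elt X1 ys hys_tr
  refine ⟨y, ?_⟩
  apply limit_elt_ext
  intro n
  rw [← ConcreteCategory.comp_apply, limMap_π, ConcreteCategory.comp_apply, hy, hys]

theorem main [EnoughInjectives (ℕᵒᵖ ⥤ AddCommGrpCat.{u})]
    [(lim : (ℕᵒᵖ ⥤ AddCommGrpCat.{u}) ⥤ AddCommGrpCat.{u}).Additive]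
    (A : ℕᵒᵖ ⥤ AddCommGrpCat.{u}) (i : ℕ) (hi : 2 ≤ i) :
    IsZero (((lim : (ℕᵒᵖ ⥤ AddCommGrpCat.{u}) ⥤ AddCommGrpCat.{u}).rightDerived i).obj A) := by
  obtain ⟨j, rfl⟩ : ∃ j, i = j + 2 := ⟨i - 2, by omega⟩
  let I : InjectiveResolution A := (HasInjectiveResolutions.out A).out.some
  refine IsZero.of_iso ?_ (I.isoRightDerivedObj lim (j+2))
  change IsZero (((lim.mapHomologicalComplex _).obj I.cocomplex).homology (j+2))
  rw [← HomologicalComplex.exactAt_iff_isZero_homology]
  rw [HomologicalComplex.exactAt_iff' _ (j+1) (j+2) (j+3) (by simp)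
    (by simp only [CochainComplex.next]; rfl)]
  rw [ShortComplex.ab_exact_iff]
  intro x hx
  exact lim_exact_core _ _ _ _ _ _ _ _ _ (I.exact_succ j) (I.exact_succ (j+1))
    (surjTrans_of_injective _) x hx

open CategoryTheory CategoryTheory.Limits in
/-- For abelian groups, for an inverse system (A_n) of abelian groups indexed by the natural numbers,
the right derived functors lim^(i) A_n of the inverse limit vanish for every i ≥ 2. (The two
instance hypotheses, enough injectives in the category of towers of abelian groups and additivity of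
the limit functor, always hold. The published statement is made in an axiomatic setting that also
covers quasi-coherent sheaves; this row is the case of abelian groups.) -/
theorem result
    [EnoughInjectives (ℕᵒᵖ ⥤ AddCommGrpCat.{u})]
    [(lim : (ℕᵒᵖ ⥤ AddCommGrpCat.{u}) ⥤ AddCommGrpCat.{u}).Additive]
    (A : ℕᵒᵖ ⥤ AddCommGrpCat.{u}) (i : ℕ) (hi : 2 ≤ i) :
    IsZero (((lim : (ℕᵒᵖ ⥤ AddCommGrpCat.{u}) ⥤ AddCommGrpCat.{u}).rightDerived i).obj A) := by
  exact main A i hi

end Groth.Agent.S15307
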