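import Groth.Statements.S15319
import Mathlib

set_option autoImplicit false
universe u
open ArLef ArLef.NodeAlg

namespace Groth.Agent.S15319

theorem swap_regular {R : Type*} [CommRing R] (a b : R) (ha : ∀ z, a * z = 0 → z = 0)
    (hb : ∀ w, b * w ∈ Ideal.span {a} → w ∈ Ideal.span {a}) :
    ∀ z, a * z ∈ Ideal.span {b} → z ∈ Ideal.span {b} := by
  intro z hz
  obtain ⟨w, hw⟩ := Ideal.mem_span_singleton'.1 hz
  have h1 : b * w ∈ Ideal.span {a} := by
    rw [Ideal.mem_span_singleton']; exact ⟨z, by rw [mul_comm z a, ← hw, mul_comm]⟩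
  obtain ⟨w', hw'⟩ := Ideal.mem_span_singleton'.1 (hb w h1)
  rw [Ideal.mem_span_singleton']
  refine ⟨w', ?_⟩
  have h2 : a * (z - w' * b) = 0 := by
    rw [mul_sub, ← hw, ← hw']; ring
  exact (sub_eq_zero.1 (ha _ h2)).symm

open MvPowerSeries in
theorem pi_regular (B : Type u) [CommRing B] [IsDomain B] (π : B) (hπ : Prime π) :
    ∀ z : ArLef.NodeAlg B π, algebraMap B (ArLef.NodeAlg B π) π * z = 0 → z = 0 := by
  have hπ0 : π ≠ 0 := hπ.ne_zero
  have : (Ideal.span {π}).IsPrime := (Ideal.span_singleton_prime hπ0).2 hπ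
  let q : B →+* (B ⧸ Ideal.span {π}) := Ideal.Quotient.mk _
  let ρ : MvPowerSeries (Fin 2) B →+* MvPowerSeries (Fin 2) (B ⧸ Ideal.span {π}) :=
    MvPowerSeries.map q
  have hqπ : q π = 0 := Ideal.Quotient.eq_zero_iff_mem.2 (Ideal.subset_span rfl)
  have hker : ∀ u : MvPowerSeries (Fin 2) B, ρ u = 0 → u ∈ Ideal.span {(C π : MvPowerSeries (Fin 2) B)} := by
    intro u hu
    have h1 : ∀ n, ∃ c : B, c * π = coeff n u := by
      intro n
      have h2 : q (coeff n u) = 0 := by
        have := congrArg (coeff n) hu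
        rwa [coeff_map, map_zero] at this
      exact Ideal.mem_span_singleton'.1 (Ideal.Quotient.eq_zero_iff_mem.1 h2)
    choose c hc using h1
    rw [Ideal.mem_span_singleton']
    refine ⟨(fun n => c n : MvPowerSeries (Fin 2) B), ?_⟩
    ext n
    rw [coeff_mul_C, ← hc n]
    rfl
  have ha : ∀ z : MvPowerSeries (Fin 2) B, C π * z = 0 → z = 0 := by
    intro z hz
    refine (mul_eq_zero.1 hz).resolve_left ?_
    intro h0
    apply hπ0
    have := congrArg (constantCoeff (σ := Fin 2) (R := B)) h0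
    simpa using this
  have hb : ∀ w : MvPowerSeries (Fin 2) B, (X 0 * X 1 - C π) * w ∈ Ideal.span {(C π : MvPowerSeries (Fin 2) B)} →
      w ∈ Ideal.span {(C π : MvPowerSeries (Fin 2) B)} := by
    intro w hw
    apply hker
    obtain ⟨v, hv⟩ := Ideal.mem_span_singleton'.1 hw
    have h1 : ρ ((X 0 * X 1 - C π) * w) = 0 := by
      rw [← hv, map_mul]
      have : ρ (C π) = 0 := by
        show MvPowerSeries.map q (C π) = 0
        rw [map_C, hqπ, map_zero]
      rw [this, mul_zero]
    rw [map_mul, map_sub, map_mul] at h1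
    have h2 : ρ (C π) = 0 := by
      show MvPowerSeries.map q (C π) = 0
      rw [map_C, hqπ, map_zero]
    have h3 : ρ (X 0) = X 0 := map_X q 0
    have h4 : ρ (X 1) = X 1 := map_X q 1
    rw [h2, h3, h4, sub_zero] at h1
    have hX : ∀ s : Fin 2, (X s : MvPowerSeries (Fin 2) (B ⧸ Ideal.span {π})) ≠ 0 := by
      intro s h0
      have := congrArg (coeff (Finsupp.single s 1)) h0
      rw [coeff_index_single_self_X, map_zero] at this
      exact one_ne_zero this
    rcases mul_eq_zero.1 h1 with h | h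
    · rcases mul_eq_zero.1 h with h | h
      · exact absurd h (hX 0)
      · exact absurd h (hX 1)
    · exact h
  intro z hz
  obtain ⟨w, rfl⟩ := Ideal.Quotient.mk_surjective z
  have hP : algebraMap B (ArLef.NodeAlg B π) π = Ideal.Quotient.mk _ (C π) := by
    rw [← Ideal.Quotient.mk_algebraMap, MvPowerSeries.algebraMap_apply]
    rfl
  rw [hP, ← map_mul, Ideal.Quotient.eq_zero_iff_mem] at hz
  rw [Ideal.Quotient.eq_zero_iff_mem]
  exact swap_regular _ _ ha hb w hz

/-- Let B be a discrete valuation ring with uniformizer π, N = B[[t, e]]/(te - π) the complete local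
ring of a semi-stable arithmetic surface over B at a singular point of the closed fibre, and σ a
ring automorphism of N sending π to π + γ π^j with γ a unit of B and j ≥ 1 (σ lies over an
automorphism τ of B with v(τ(π) - π) = j). Then the fixed-point ideal of σ is not contained in (π^j)
= (t^j e^j): the two branches through the point cannot both occur with multiplicity j in the
divisorial part of the fixed locus. (The published setting has B complete with algebraically closed
residue field.) -/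
theorem result (B : Type u) [CommRing B] [IsDomain B] [IsDiscreteValuationRing B] (π : B) (hπ : Irreducible π)
    (j : ℕ) (hj : 1 ≤ j) (γ : B) (hγ : IsUnit γ)
    (σ : ArLef.NodeAlg B π ≃+* ArLef.NodeAlg B π)
    (hσ : σ (algebraMap B (ArLef.NodeAlg B π) π) = algebraMap B (ArLef.NodeAlg B π) (π + γ * π ^ j)) :
    ¬ ArLef.fixIdeal σ ≤ Ideal.span ({algebraMap B (ArLef.NodeAlg B π) (π ^ j)} : Set (ArLef.NodeAlg B π)) := by
  intro hle
  have hprime : Prime π := hπ.prime
  have hπ0 : π ≠ 0 := hπ.ne_zero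
  -- notation
  have hreg := pi_regular B π hprime
  have hregj : ∀ (n : ℕ) (z : ArLef.NodeAlg B π),
      (algebraMap B (ArLef.NodeAlg B π) π) ^ n * z = 0 → z = 0 := by
    intro n
    induction n with
    | zero => intro z hz; simpa using hz
    | succ n ih =>
      intro z hz
      rw [pow_succ, mul_assoc] at hz
      exact hreg z (ih _ hz)
  have hte : ArLef.NodeAlg.t π * ArLef.NodeAlg.e π = algebraMap B (ArLef.NodeAlg B π) π := by
    rw [← Ideal.Quotient.mk_algebraMap, MvPowerSeries.algebraMap_apply]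
    show Ideal.Quotient.mk _ (MvPowerSeries.X 0) * Ideal.Quotient.mk _ (MvPowerSeries.X 1) = _
    rw [← map_mul, Ideal.Quotient.eq]
    exact Ideal.subset_span rfl
  have ht' : σ (ArLef.NodeAlg.t π) - ArLef.NodeAlg.t π ∈
      Ideal.span ({algebraMap B (ArLef.NodeAlg B π) (π ^ j)} : Set (ArLef.NodeAlg B π)) :=
    hle (Ideal.subset_span ⟨_, rfl⟩)
  have he' : σ (ArLef.NodeAlg.e π) - ArLef.NodeAlg.e π ∈
      Ideal.span ({algebraMap B (ArLef.NodeAlg B π) (π ^ j)} : Set (ArLef.NodeAlg B π)) :=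
    hle (Ideal.subset_span ⟨_, rfl⟩)
  obtain ⟨a, ha⟩ := Ideal.mem_span_singleton'.1 ht'
  obtain ⟨b, hb⟩ := Ideal.mem_span_singleton'.1 he'
  rw [map_pow] at ha hb
  rw [← hte, map_mul] at hσ
  -- ring hom to B / π
  let q : B →+* (B ⧸ Ideal.span {π}) := Ideal.Quotient.mk _
  let f : MvPowerSeries (Fin 2) B →+* (B ⧸ Ideal.span {π}) :=
    q.comp (MvPowerSeries.constantCoeff (σ := Fin 2) (R := B))
  have hqπ : q π = 0 := Ideal.Quotient.eq_zero_iff_mem.2 (Ideal.subset_span rfl)
  have hI : Ideal.span {(MvPowerSeries.X 0 * MvPowerSeries.X 1 - MvPowerSeries.C π :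
      MvPowerSeries (Fin 2) B)} ≤ RingHom.ker f := by
    rw [Ideal.span_singleton_le_iff_mem, RingHom.mem_ker]
    simp [f, hqπ]
  let ψ : ArLef.NodeAlg B π →+* (B ⧸ Ideal.span {π}) :=
    Ideal.Quotient.lift _ f (fun x hx => RingHom.mem_ker.1 (hI hx))
  have hψt : ψ (ArLef.NodeAlg.t π) = 0 := by
    show f (MvPowerSeries.X 0) = 0
    simp [f]
  have hψe : ψ (ArLef.NodeAlg.e π) = 0 := by
    show f (MvPowerSeries.X 1) = 0
    simp [f]
  have hψγ : ψ (algebraMap B (ArLef.NodeAlg B π) γ) = q γ := by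
    rw [← Ideal.Quotient.mk_algebraMap, MvPowerSeries.algebraMap_apply]
    show f (MvPowerSeries.C γ) = q γ
    simp [f]
  -- main identity
  have hmain : (algebraMap B (ArLef.NodeAlg B π) π) ^ j *
      (algebraMap B (ArLef.NodeAlg B π) γ -
        (a * ArLef.NodeAlg.e π + b * ArLef.NodeAlg.t π +
          a * b * (algebraMap B (ArLef.NodeAlg B π) π) ^ j)) = 0 := by
    have h1 : σ (ArLef.NodeAlg.t π) = ArLef.NodeAlg.t π + a * (algebraMap B (ArLef.NodeAlg B π) π) ^ j := by
      rw [ha]; ring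
    have h2 : σ (ArLef.NodeAlg.e π) = ArLef.NodeAlg.e π + b * (algebraMap B (ArLef.NodeAlg B π) π) ^ j := by
      rw [hb]; ring
    rw [h1, h2, map_add, map_mul, map_pow, ← hte] at hσ
    rw [← hte]
    linear_combination (-1 : ArLef.NodeAlg B π) * hσ
  have hΓ := sub_eq_zero.1 (hregj j _ hmain)
  have hψ := congrArg ψ hΓ
  rw [hψγ, map_add, map_add, map_mul, map_mul, map_mul, map_pow, ← hte, map_mul, hψt, hψe] at hψ
  obtain ⟨k, rfl⟩ : ∃ k, j = k + 1 := ⟨j - 1, by omega⟩
  simp only [mul_zero, zero_add, pow_succ] at hψ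
  have hψP : ψ (ArLef.NodeAlg.t π * ArLef.NodeAlg.e π) = 0 := by rw [map_mul, hψt, zero_mul]
  rw [hψP, mul_zero, mul_zero] at hψ
  have hγmem : γ ∈ Ideal.span {π} := Ideal.Quotient.eq_zero_iff_mem.1 hψ
  obtain ⟨c, hc⟩ := Ideal.mem_span_singleton'.1 hγmem
  have hdvd : π ∣ γ := ⟨c, by rw [← hc, mul_comm]⟩
  exact hπ.not_isUnit (isUnit_of_dvd_unit hdvd hγ)

end Groth.Agent.S15319
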