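import Groth.Statements.S15317
import Groth.Agent.Lib.Helper23.NodeFix
import Groth.Agent.S15319

set_option autoImplicit false
universe u
open ArLef ArLef.NodeAlg

namespace Groth.Agent.S15317

set_option linter.style.haveILetI false
set_option linter.unusedVariables false
set_option linter.unusedSectionVars false
open Groth.Agent.Helper23.NodeFix Groth.Agent.Helper23.NodeAlgLib

variable {B : Type u} [CommRing B] [IsDomain B] [IsDiscreteValuationRing B] (π : B)

theorem not_isUnit_X (hπ : Irreducible π) {s s' : Fin 2} (hss : s ≠ s') :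
    ¬ IsUnit (mkN π (MvPowerSeries.X s)) := by
  intro h
  have hp := isPrime_span π hπ hss
  apply hp.ne_top
  rw [Ideal.eq_top_iff_one]
  obtain ⟨u, hu⟩ := h
  rw [Ideal.mem_span_singleton']
  exact ⟨(u⁻¹ : (NodeAlg B π)ˣ), by rw [← hu]; simp⟩

theorem span_te_le_jac (hπ : Irreducible π) :
    Ideal.span ({NodeAlg.t π, NodeAlg.e π} : Set (NodeAlg B π)) ≤ Ideal.jacobson ⊥ := by
  haveI := isLocalRing π hπ
  rw [IsLocalRing.jacobson_eq_maximalIdeal ⊥ bot_ne_top, Ideal.span_le]
  intro x hx
  simp only [Set.mem_insert_iff, Set.mem_singleton_iff] at hx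
  rcases hx with rfl | rfl
  · exact (IsLocalRing.mem_maximalIdeal _).2 (not_isUnit_X π hπ (s := 0) (s' := 1) (by decide))
  · exact (IsLocalRing.mem_maximalIdeal _).2 (not_isUnit_X π hπ (s := 1) (s' := 0) (by decide))

theorem main (hπ : Irreducible π)
    (σ : NodeAlg B π ≃ₐ[B] NodeAlg B π) (hσ : σ ≠ AlgEquiv.refl)
    (ht : Associated (σ (NodeAlg.t π)) (NodeAlg.t π))
    (he : Associated (σ (NodeAlg.e π)) (NodeAlg.e π)) :
    ∃ g : NodeAlg B π, g ≠ 0 ∧
      fixIdeal σ = Ideal.span {g} * Ideal.span ({NodeAlg.t π, NodeAlg.e π} : Set (NodeAlg B π)) := by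
  obtain ⟨α, hα⟩ := ht.symm
  obtain ⟨β, hβ⟩ := he.symm
  rw [mul_comm] at hα hβ
  -- αβ = 1
  have hte : NodeAlg.t π * NodeAlg.e π = algebraMap B (NodeAlg B π) π := (mkN_C_eq π).symm
  have hαβ : (α : NodeAlg B π) * β = 1 := by
    have h1 : σ (NodeAlg.t π * NodeAlg.e π) = NodeAlg.t π * NodeAlg.e π := by
      rw [hte, σ.commutes]
    rw [map_mul, ← hα, ← hβ] at h1
    have h2 : algebraMap B (NodeAlg B π) π * ((α : NodeAlg B π) * β - 1) = 0 := by
      rw [← hte]
      linear_combination h1
    exact sub_eq_zero.1 (Groth.Agent.S15319.pi_regular B π hπ.prime _ h2)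
  let g : NodeAlg B π := α - 1
  have hβg : (β : NodeAlg B π) - 1 = -β * g := by
    change _ = -β * ((α : NodeAlg B π) - 1)
    linear_combination hαβ
  let J : Ideal (NodeAlg B π) :=
    Ideal.span {g} * Ideal.span ({NodeAlg.t π, NodeAlg.e π} : Set (NodeAlg B π))
  have hgt : g * NodeAlg.t π ∈ J :=
    Ideal.mul_mem_mul (Ideal.subset_span rfl) (Ideal.subset_span (by simp))
  have hge : g * NodeAlg.e π ∈ J :=
    Ideal.mul_mem_mul (Ideal.subset_span rfl) (Ideal.subset_span (by simp))
  have hσt : σ (NodeAlg.t π) - NodeAlg.t π = g * NodeAlg.t π := by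
    rw [← hα]; change _ = ((α : NodeAlg B π) - 1) * _; ring
  have hσe : σ (NodeAlg.e π) - NodeAlg.e π = -β * (g * NodeAlg.e π) := by
    rw [← hβ]
    have : (β : NodeAlg B π) * NodeAlg.e π - NodeAlg.e π = ((β : NodeAlg B π) - 1) * NodeAlg.e π := by ring
    rw [this, hβg]; ring
  have hle : fixIdeal σ ≤ J := by
    refine fixIdeal_le (σ : NodeAlg B π →+* NodeAlg B π) (NodeAlg.t π) (NodeAlg.e π)
      (Set.range (algebraMap B (NodeAlg B π))) (span_te_le_jac π hπ) (node_decomp π) J ?_ ?_ ?_
    · change σ (NodeAlg.t π) - NodeAlg.t π ∈ J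
      rw [hσt]; exact hgt
    · change σ (NodeAlg.e π) - NodeAlg.e π ∈ J
      rw [hσe]; exact J.mul_mem_left _ hge
    · rintro _ ⟨b, rfl⟩
      change σ (algebraMap B (NodeAlg B π) b) - algebraMap B (NodeAlg B π) b ∈ J
      rw [σ.commutes, sub_self]
      exact J.zero_mem
  have hI : ∀ x : NodeAlg B π, σ x - x ∈ fixIdeal σ := fun x => Ideal.subset_span ⟨x, rfl⟩
  have hge' : J ≤ fixIdeal σ := by
    change Ideal.span {g} * Ideal.span _ ≤ _
    rw [Ideal.span_mul_span, Ideal.span_le]
    rintro _ ⟨a, ha, b, hb, rfl⟩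
    rw [Set.mem_singleton_iff] at ha
    subst ha
    simp only [Set.mem_insert_iff, Set.mem_singleton_iff] at hb
    rcases hb with rfl | rfl
    · change g * NodeAlg.t π ∈ fixIdeal σ
      rw [← hσt]; exact hI _
    · change g * NodeAlg.e π ∈ fixIdeal σ
      have h1 : g * NodeAlg.e π = -α * (σ (NodeAlg.e π) - NodeAlg.e π) := by
        rw [hσe]
        linear_combination (-(g * NodeAlg.e π)) * hαβ
      rw [h1]
      exact Ideal.mul_mem_left _ _ (hI _)
  refine ⟨g, ?_, le_antisymm hle hge'⟩
  intro hg0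
  apply hσ
  have hJ0 : J = ⊥ := by
    change Ideal.span {g} * _ = ⊥
    rw [hg0]
    simp
  apply AlgEquiv.ext
  intro x
  have := hle (hI x)
  rw [hJ0, Ideal.mem_bot, sub_eq_zero] at this
  exact this

/-- Let B be a discrete valuation ring with uniformizer π, N = B[[t, e]]/(te - π), and σ a non-trivial
B-algebra automorphism of N stabilizing both branches of the closed fibre (σ(t) associated to t,
σ(e) associated to e). Then the fixed-point ideal of σ, generated by all σ(r) - r, is g·(t, e) for a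
non-zero g: the divisorial part of the fixed locus is cut out by g and its residual part is the
reduced closed point, of multiplicity one. (Stated in the complete local ring, where the published
argument takes place; the published setting has B complete with algebraically closed residue field.) -/
theorem result (B : Type u) [CommRing B] [IsDomain B] [IsDiscreteValuationRing B] (π : B) (hπ : Irreducible π)
    (σ : ArLef.NodeAlg B π ≃ₐ[B] ArLef.NodeAlg B π) (hσ : σ ≠ AlgEquiv.refl)
    (ht : Associated (σ (ArLef.NodeAlg.t π)) (ArLef.NodeAlg.t π))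
    (he : Associated (σ (ArLef.NodeAlg.e π)) (ArLef.NodeAlg.e π)) :
    ∃ g : ArLef.NodeAlg B π, g ≠ 0 ∧
      ArLef.fixIdeal σ = Ideal.span {g} * Ideal.span ({ArLef.NodeAlg.t π, ArLef.NodeAlg.e π} : Set (ArLef.NodeAlg B π)) := by
  exact main π hπ σ hσ ht he

end Groth.Agent.S15317
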