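import Groth.Statements.S15318
import Groth.Agent.Lib.Helper23.NodeFix
import Groth.Agent.S15317

set_option autoImplicit false
universe u
open ArLef ArLef.NodeAlg

namespace Groth.Agent.S15318

set_option linter.style.haveILetI false
set_option linter.unusedVariables false
set_option linter.unusedSectionVars false
open Groth.Agent.Helper23.NodeFix Groth.Agent.Helper23.NodeAlgLib

variable {B : Type u} [CommRing B] [IsDomain B] [IsDiscreteValuationRing B] (π : B)

/-- the branch maps N → κ[[X]] -/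
noncomputable def Ψ (hπ : Irreducible π) {s s' : Fin 2} (hss : s ≠ s') :
    NodeAlg B π →+* PowerSeries (IsLocalRing.ResidueField B) :=
  Ideal.Quotient.lift _ (ψ (B := B) s') (fun a ha => rel_le_ker_ψ π hπ hss ha)

theorem Ψ_mk (hπ : Irreducible π) {s s' : Fin 2} (hss : s ≠ s') (f : MvPowerSeries (Fin 2) B) :
    Ψ π hπ hss (mkN π f) = ψ (B := B) s' f := rfl

theorem Ψ_X_self (hπ : Irreducible π) {s s' : Fin 2} (hss : s ≠ s') :
    Ψ π hπ hss (mkN π (MvPowerSeries.X s')) = PowerSeries.X := by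
  rw [Ψ_mk, ψ_X_self]

theorem Ψ_X_other (hπ : Irreducible π) {s s' : Fin 2} (hss : s ≠ s') :
    Ψ π hπ hss (mkN π (MvPowerSeries.X s)) = 0 := by
  rw [Ψ_mk]
  have : (MvPowerSeries.X s : MvPowerSeries (Fin 2) B) ∈ RingHom.ker (ψ (B := B) s') := by
    rw [ker_ψ π hπ hss]; exact Ideal.subset_span (by simp)
  exact this

theorem Ψ_pi (hπ : Irreducible π) {s s' : Fin 2} (hss : s ≠ s') :
    Ψ π hπ hss (algebraMap B (NodeAlg B π) π) = 0 := by
  rw [algebraMap_eq, Ψ_mk]
  have : (MvPowerSeries.C π : MvPowerSeries (Fin 2) B) ∈ RingHom.ker (ψ (B := B) s') := by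
    rw [ker_ψ π hπ hss]; exact Ideal.subset_span (by simp)
  exact this

theorem ker_Ψ (hπ : Irreducible π) {s s' : Fin 2} (hss : s ≠ s') (w : NodeAlg B π)
    (hw : Ψ π hπ hss w = 0) : w ∈ Ideal.span {mkN π (MvPowerSeries.X s)} := by
  obtain ⟨f, rfl⟩ := Ideal.Quotient.mk_surjective w
  rw [← map_ker_ψ π hπ hss]
  exact Ideal.mem_map_of_mem _ hw

theorem inter_te (hπ : Irreducible π) (w : NodeAlg B π)
    (h0 : w ∈ Ideal.span {NodeAlg.t π}) (h1 : w ∈ Ideal.span {NodeAlg.e π}) :
    w ∈ Ideal.span {algebraMap B (NodeAlg B π) π} := by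
  obtain ⟨w₁, rfl⟩ := Ideal.mem_span_singleton'.1 h0
  have hp : (Ideal.span {NodeAlg.e π}).IsPrime := isPrime_span π hπ (s := 1) (s' := 0) (by decide)
  rcases hp.mem_or_mem h1 with h | h
  · obtain ⟨w₂, rfl⟩ := Ideal.mem_span_singleton'.1 h
    rw [Ideal.mem_span_singleton']
    refine ⟨w₂, ?_⟩
    rw [algebraMap_eq, mkN_C_eq]; ring
  · exact absurd h (not_mem_span π hπ (s := 1) (s' := 0) (by decide))

theorem main (hπ : Irreducible π)
    (σ : NodeAlg B π ≃ₐ[B] NodeAlg B π)
    (ht : Associated (σ (NodeAlg.t π)) (NodeAlg.e π))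
    (he : Associated (σ (NodeAlg.e π)) (NodeAlg.t π)) :
    ∃ h : NodeAlg B π, fixIdeal σ = Ideal.span {h} ∧
      h ∉ (Ideal.span ({NodeAlg.t π, NodeAlg.e π} : Set (NodeAlg B π))) ^ 2 ∧
      IsSMulRegular (NodeAlg B π ⧸ Ideal.span ({h} : Set (NodeAlg B π))) π := by
  obtain ⟨α, hα⟩ := ht.symm
  obtain ⟨β, hβ⟩ := he.symm
  rw [mul_comm] at hα hβ
  have hte : NodeAlg.t π * NodeAlg.e π = algebraMap B (NodeAlg B π) π := (mkN_C_eq π).symm
  have hαβ : (α : NodeAlg B π) * β = 1 := by
    have h1 : σ (NodeAlg.t π * NodeAlg.e π) = NodeAlg.t π * NodeAlg.e π := by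
      rw [hte, σ.commutes]
    rw [map_mul, ← hα, ← hβ] at h1
    have h2 : algebraMap B (NodeAlg B π) π * ((α : NodeAlg B π) * β - 1) = 0 := by
      rw [← hte]
      linear_combination h1
    exact sub_eq_zero.1 (Groth.Agent.S15319.pi_regular B π hπ.prime _ h2)
  let h : NodeAlg B π := α * NodeAlg.e π - NodeAlg.t π
  have hσt : σ (NodeAlg.t π) - NodeAlg.t π = h := by rw [← hα]
  have hσe : σ (NodeAlg.e π) - NodeAlg.e π = -β * h := by
    rw [← hβ]
    change _ = -β * (α * NodeAlg.e π - NodeAlg.t π)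
    linear_combination (NodeAlg.e π) * hαβ
  have hI : ∀ x : NodeAlg B π, σ x - x ∈ fixIdeal σ := fun x => Ideal.subset_span ⟨x, rfl⟩
  have hle : fixIdeal σ ≤ Ideal.span {h} := by
    refine fixIdeal_le (σ : NodeAlg B π →+* NodeAlg B π) (NodeAlg.t π) (NodeAlg.e π)
      (Set.range (algebraMap B (NodeAlg B π))) (Groth.Agent.S15317.span_te_le_jac π hπ) (node_decomp π) _ ?_ ?_ ?_
    · change σ (NodeAlg.t π) - NodeAlg.t π ∈ _
      rw [hσt]; exact Ideal.subset_span rfl
    · change σ (NodeAlg.e π) - NodeAlg.e π ∈ _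
      rw [hσe]; exact Ideal.mul_mem_left _ _ (Ideal.subset_span rfl)
    · rintro _ ⟨b, rfl⟩
      change σ (algebraMap B (NodeAlg B π) b) - algebraMap B (NodeAlg B π) b ∈ _
      rw [σ.commutes, sub_self]
      exact Ideal.zero_mem _
  have hge : Ideal.span {h} ≤ fixIdeal σ := by
    rw [Ideal.span_le, Set.singleton_subset_iff, ← hσt]
    exact hI _
  refine ⟨h, le_antisymm hle hge, ?_, ?_⟩
  · -- h ∉ (t,e)^2
    intro hmem
    let Ψ₀ := Ψ π hπ (s := 1) (s' := 0) (by decide)
    have hΨh : Ψ₀ h = -PowerSeries.X := by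
      change Ψ₀ (α * NodeAlg.e π - NodeAlg.t π) = _
      rw [map_sub, map_mul]
      change Ψ₀ α * Ψ π hπ (s := 1) (s' := 0) (by decide) (mkN π (MvPowerSeries.X 1)) -
        Ψ π hπ (s := 1) (s' := 0) (by decide) (mkN π (MvPowerSeries.X 0)) = _
      rw [Ψ_X_other, Ψ_X_self, mul_zero, zero_sub]
    have hmap : (Ideal.span ({NodeAlg.t π, NodeAlg.e π} : Set (NodeAlg B π))).map Ψ₀ ≤
        Ideal.span {(PowerSeries.X : PowerSeries (IsLocalRing.ResidueField B))} := by
      rw [Ideal.map_span, Ideal.span_le]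
      rintro _ ⟨x, hx, rfl⟩
      simp only [Set.mem_insert_iff, Set.mem_singleton_iff] at hx
      rcases hx with rfl | rfl
      · change Ψ π hπ (s := 1) (s' := 0) (by decide) (mkN π (MvPowerSeries.X 0)) ∈ _
        rw [Ψ_X_self]; exact Ideal.subset_span rfl
      · change Ψ π hπ (s := 1) (s' := 0) (by decide) (mkN π (MvPowerSeries.X 1)) ∈ _
        rw [Ψ_X_other]; exact Ideal.zero_mem _
    have h2 : Ψ₀ h ∈ (Ideal.span {(PowerSeries.X : PowerSeries (IsLocalRing.ResidueField B))}) ^ 2 := by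
      have := Ideal.mem_map_of_mem Ψ₀ hmem
      rw [Ideal.map_pow] at this
      exact Ideal.pow_right_mono hmap 2 this
    rw [hΨh, Ideal.span_singleton_pow, Ideal.mem_span_singleton, dvd_neg,
      PowerSeries.X_pow_dvd_iff] at h2
    have := h2 1 (by norm_num)
    rw [PowerSeries.coeff_one_X] at this
    exact one_ne_zero this
  · -- π regular mod h
    have hreg : ∀ z : NodeAlg B π, algebraMap B (NodeAlg B π) π * z ∈ Ideal.span {h} →
        z ∈ Ideal.span {h} := by
      apply Groth.Agent.S15319.swap_regular _ _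
        (Groth.Agent.S15319.pi_regular B π hπ.prime)
      intro w hw
      obtain ⟨v, hv⟩ := Ideal.mem_span_singleton'.1 hw
      -- apply Ψ₀ and Ψ₁
      let Ψ₀ := Ψ π hπ (s := 1) (s' := 0) (by decide)
      let Ψ₁ := Ψ π hπ (s := 0) (s' := 1) (by decide)
      have hΨ0h : Ψ₀ h = -PowerSeries.X := by
        change Ψ₀ (α * NodeAlg.e π - NodeAlg.t π) = _
        rw [map_sub, map_mul]
        change Ψ₀ α * Ψ π hπ (s := 1) (s' := 0) (by decide) (mkN π (MvPowerSeries.X 1)) -
          Ψ π hπ (s := 1) (s' := 0) (by decide) (mkN π (MvPowerSeries.X 0)) = _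
        rw [Ψ_X_other, Ψ_X_self, mul_zero, zero_sub]
      have hΨ1h : Ψ₁ h = Ψ₁ α * PowerSeries.X := by
        change Ψ₁ (α * NodeAlg.e π - NodeAlg.t π) = _
        rw [map_sub, map_mul]
        change Ψ₁ α * Ψ π hπ (s := 0) (s' := 1) (by decide) (mkN π (MvPowerSeries.X 1)) -
          Ψ π hπ (s := 0) (s' := 1) (by decide) (mkN π (MvPowerSeries.X 0)) = _
        rw [Ψ_X_other, Ψ_X_self, sub_zero]
      have e0 : Ψ₀ (h * w) = 0 := by
        rw [← hv, map_mul]
        change _ * Ψ π hπ (s := 1) (s' := 0) (by decide) (algebraMap B (NodeAlg B π) π) = 0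
        rw [Ψ_pi, mul_zero]
      have e1 : Ψ₁ (h * w) = 0 := by
        rw [← hv, map_mul]
        change _ * Ψ π hπ (s := 0) (s' := 1) (by decide) (algebraMap B (NodeAlg B π) π) = 0
        rw [Ψ_pi, mul_zero]
      rw [map_mul, hΨ0h] at e0
      rw [map_mul, hΨ1h] at e1
      have hw0 : Ψ₀ w = 0 := by
        rcases mul_eq_zero.1 e0 with h' | h'
        · exact absurd (neg_eq_zero.1 h') PowerSeries.X_ne_zero
        · exact h'
      have hαu : IsUnit (Ψ₁ α) := (α.isUnit).map Ψ₁
      have hw1 : Ψ₁ w = 0 := by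
        rcases mul_eq_zero.1 e1 with h' | h'
        · rcases mul_eq_zero.1 h' with h'' | h''
          · exact absurd h'' hαu.ne_zero
          · exact absurd h'' PowerSeries.X_ne_zero
        · exact h'
      have m0 := ker_Ψ π hπ (s := 1) (s' := 0) (by decide) w hw0
      have m1 := ker_Ψ π hπ (s := 0) (s' := 1) (by decide) w hw1
      exact inter_te π hπ w m1 m0
    intro x y hxy
    obtain ⟨x, rfl⟩ := Ideal.Quotient.mk_surjective x
    obtain ⟨y, rfl⟩ := Ideal.Quotient.mk_surjective y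
    have h3 : Ideal.Quotient.mk (Ideal.span {h}) (algebraMap B (NodeAlg B π) π * (x - y)) = 0 := by
      have h4 : Ideal.Quotient.mk (Ideal.span {h}) (π • x) =
          Ideal.Quotient.mk (Ideal.span {h}) (π • y) := hxy
      have e1 : (π • x : NodeAlg B π) = algebraMap B (NodeAlg B π) π * x := Algebra.smul_def π x
      have e2 : (π • y : NodeAlg B π) = algebraMap B (NodeAlg B π) π * y := Algebra.smul_def π y
      rw [e1, e2] at h4
      rw [mul_sub, map_sub]
      exact sub_eq_zero.2 h4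
    rw [Ideal.Quotient.eq_zero_iff_mem] at h3
    exact Ideal.Quotient.eq.2 (hreg _ h3)

/-- Let B be a discrete valuation ring with uniformizer π, N = B[[t, e]]/(te - π), and σ a B-algebra
automorphism of N switching the two branches of the closed fibre (σ(t) associated to e, σ(e)
associated to t). Then the fixed-point ideal of σ is principal, generated by an element h of order
one (h is not in (t, e)²), and π is a non-zero-divisor modulo h: the fixed locus is a horizontal
regular divisor through the point with empty residual part. (Stated in the complete local ring,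
where the published argument takes place; the published setting has B complete with algebraically
closed residue field.) -/
theorem result (B : Type u) [CommRing B] [IsDomain B] [IsDiscreteValuationRing B] (π : B) (hπ : Irreducible π)
    (σ : ArLef.NodeAlg B π ≃ₐ[B] ArLef.NodeAlg B π)
    (ht : Associated (σ (ArLef.NodeAlg.t π)) (ArLef.NodeAlg.e π))
    (he : Associated (σ (ArLef.NodeAlg.e π)) (ArLef.NodeAlg.t π)) :
    ∃ h : ArLef.NodeAlg B π, ArLef.fixIdeal σ = Ideal.span {h} ∧
      h ∉ (Ideal.span ({ArLef.NodeAlg.t π, ArLef.NodeAlg.e π} : Set (ArLef.NodeAlg B π))) ^ 2 ∧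
      IsSMulRegular (ArLef.NodeAlg B π ⧸ Ideal.span ({h} : Set (ArLef.NodeAlg B π))) π := by
  exact main π hπ σ ht he

end Groth.Agent.S15318
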