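import Groth.Statements.S15320
import Groth.Agent.Lib.Helper23.NodeLen
import Groth.Agent.S15318
import Groth.Agent.S15315

set_option autoImplicit false
universe u
open ArLef ArLef.NodeAlg

namespace Groth.Agent.S15320

set_option linter.style.haveILetI false
set_option linter.unusedVariables false
set_option linter.unusedSectionVars false
open Groth.Agent.Helper23.NodeFix Groth.Agent.Helper23.NodeAlgLib Groth.Agent.Helper23.NodeLen
open Groth.Agent.S15318

variable {B : Type u} [CommRing B] [IsDomain B] [IsDiscreteValuationRing B] (π : B)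

theorem h_not_mem_sq (hπ : Irreducible π) (α : (NodeAlg B π)ˣ) :
    (α : NodeAlg B π) * NodeAlg.e π - NodeAlg.t π ∉
      (Ideal.span ({NodeAlg.t π, NodeAlg.e π} : Set (NodeAlg B π))) ^ 2 := by
  intro hmem
  let Ψ₀ := Ψ π hπ (s := 1) (s' := 0) (by decide)
  have hΨh : Ψ₀ ((α : NodeAlg B π) * NodeAlg.e π - NodeAlg.t π) = -PowerSeries.X := by
    rw [map_sub, map_mul]
    change Ψ₀ α * Ψ π hπ (s := 1) (s' := 0) (by decide) (mkN π (MvPowerSeries.X 1)) -
      Ψ π hπ (s := 1) (s' := 0) (by decide) (mkN π (MvPowerSeries.X 0)) = _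
    rw [Ψ_X_other, Ψ_X_self, mul_zero, zero_sub]
  have hmap : (Ideal.span ({NodeAlg.t π, NodeAlg.e π} : Set (NodeAlg B π))).map Ψ₀ ≤
      Ideal.span {(PowerSeries.X : PowerSeries (IsLocalRing.ResidueField B))} := by
    rw [Ideal.map_span, Ideal.span_le]
    rintro _ ⟨x, hx, rfl⟩
    simp only [Set.mem_insert_iff, Set.mem_singleton_iff] at hx
    rcases hx with rfl | rfl
    · change Ψ π hπ (s := 1) (s' := 0) (by decide) (mkN π (MvPowerSeries.X 0)) ∈ _
      rw [Ψ_X_self]; exact Ideal.subset_span rfl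
    · change Ψ π hπ (s := 1) (s' := 0) (by decide) (mkN π (MvPowerSeries.X 1)) ∈ _
      rw [Ψ_X_other]; exact Ideal.zero_mem _
  have h2 : Ψ₀ ((α : NodeAlg B π) * NodeAlg.e π - NodeAlg.t π) ∈
      (Ideal.span {(PowerSeries.X : PowerSeries (IsLocalRing.ResidueField B))}) ^ 2 := by
    have := Ideal.mem_map_of_mem Ψ₀ hmem
    rw [Ideal.map_pow] at this
    exact Ideal.pow_right_mono hmap 2 this
  rw [hΨh, Ideal.span_singleton_pow, Ideal.mem_span_singleton, dvd_neg,
    PowerSeries.X_pow_dvd_iff] at h2
  have := h2 1 (by norm_num)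
  rw [PowerSeries.coeff_one_X] at this
  exact one_ne_zero this

theorem te_max (hπ : Irreducible π) :
    (Ideal.span ({NodeAlg.t π, NodeAlg.e π} : Set (NodeAlg B π))).IsMaximal := by
  apply te_isMaximal π hπ.not_isUnit
  intro b hb
  have hb' : b ∈ IsLocalRing.maximalIdeal B := (IsLocalRing.mem_maximalIdeal b).2 hb
  rw [hπ.maximalIdeal_eq, Ideal.mem_span_singleton] at hb'
  obtain ⟨c, rfl⟩ := hb'
  rw [map_mul, algebraMap_eq π π, mkN_C_eq]
  exact Ideal.mul_mem_right _ _ (Ideal.mul_mem_right _ _ (Ideal.subset_span (by simp)))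

theorem e_regular (hπ : Irreducible π) (z : NodeAlg B π) (hz : NodeAlg.e π * z = 0) : z = 0 := by
  apply Groth.Agent.S15319.pi_regular B π hπ.prime
  rw [algebraMap_eq π π, mkN_C_eq, mul_assoc, hz, mul_zero]

theorem e_regular_mod (hπ : Irreducible π) (α : (NodeAlg B π)ˣ) (z : NodeAlg B π)
    (hz : NodeAlg.e π * z ∈ Ideal.span {(α : NodeAlg B π) * NodeAlg.e π - NodeAlg.t π}) :
    z ∈ Ideal.span {(α : NodeAlg B π) * NodeAlg.e π - NodeAlg.t π} := by
  refine Groth.Agent.S15319.swap_regular _ _ (e_regular π hπ) ?_ z hz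
  intro w hw
  have hp : (Ideal.span {NodeAlg.e π}).IsPrime := isPrime_span π hπ (s := 1) (s' := 0) (by decide)
  rcases hp.mem_or_mem hw with h | h
  · exfalso
    have ht : NodeAlg.t π ∈ Ideal.span {NodeAlg.e π} := by
      have h1 : (α : NodeAlg B π) * NodeAlg.e π ∈ Ideal.span {NodeAlg.e π} :=
        Ideal.mul_mem_left _ _ (Ideal.subset_span rfl)
      have := Ideal.sub_mem _ h1 h
      rwa [sub_sub_cancel] at this
    exact not_mem_span π hπ (s := 1) (s' := 0) (by decide) ht
  · exact h

theorem length_pow_e (hπ : Irreducible π) (α : (NodeAlg B π)ˣ) (m : ℕ) :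
    Module.length (NodeAlg B π) (NodeAlg B π ⧸ (Ideal.span {NodeAlg.e π ^ m} ⊔
      Ideal.span {(α : NodeAlg B π) * NodeAlg.e π - NodeAlg.t π})) = (m : ℕ∞) := by
  haveI : IsNoetherianRing (NodeAlg B π) := inferInstance
  set h := (α : NodeAlg B π) * NodeAlg.e π - NodeAlg.t π with hh
  have hreg : IsSMulRegular (NodeAlg B π ⧸ Ideal.span ({h} : Set (NodeAlg B π))) (NodeAlg.e π) := by
    intro x y hxy
    obtain ⟨x, rfl⟩ := Ideal.Quotient.mk_surjective x
    obtain ⟨y, rfl⟩ := Ideal.Quotient.mk_surjective y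
    have h4 : Ideal.Quotient.mk (Ideal.span {h}) (NodeAlg.e π * x) =
        Ideal.Quotient.mk (Ideal.span {h}) (NodeAlg.e π * y) := hxy
    rw [Ideal.Quotient.eq, ← mul_sub] at h4
    exact Ideal.Quotient.eq.2 (e_regular_mod π hπ α _ h4)
  have hone : Module.length (NodeAlg B π) (NodeAlg B π ⧸
      Ideal.span ({NodeAlg.e π, h} : Set (NodeAlg B π))) = 1 := by
    have heq : Ideal.span ({NodeAlg.e π, h} : Set (NodeAlg B π)) =
        Ideal.span {NodeAlg.t π, NodeAlg.e π} := by
      apply le_antisymm
      · rw [Ideal.span_le]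
        intro x hx
        simp only [Set.mem_insert_iff, Set.mem_singleton_iff] at hx
        rcases hx with rfl | rfl
        · exact Ideal.subset_span (by simp)
        · exact Ideal.sub_mem _ (Ideal.mul_mem_left _ _ (Ideal.subset_span (by simp)))
            (Ideal.subset_span (by simp))
      · rw [Ideal.span_le]
        intro x hx
        simp only [Set.mem_insert_iff, Set.mem_singleton_iff] at hx
        rcases hx with rfl | rfl
        · have : NodeAlg.t π = (α : NodeAlg B π) * NodeAlg.e π - h := by rw [hh]; ring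
          rw [this]
          exact Ideal.sub_mem _ (Ideal.mul_mem_left _ _ (Ideal.subset_span (by simp)))
            (Ideal.subset_span (by simp))
        · exact Ideal.subset_span (by simp)
    rw [heq]
    haveI := te_max π hπ
    exact length_quot_maximal _
  induction m with
  | zero =>
    rw [pow_zero, Ideal.span_singleton_one, top_sup_eq, Nat.cast_zero, Module.length_eq_zero_iff]
    exact Submodule.Quotient.subsingleton_iff.2 rfl
  | succ m ih =>
    have := Groth.Agent.S15315.result (NodeAlg B π) (NodeAlg.e π) h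
      (Ideal.span ({NodeAlg.e π ^ m} : Set (NodeAlg B π))) hreg
    rw [Ideal.span_singleton_mul_span_singleton, ← pow_succ', hone, ih] at this
    rw [this, Nat.cast_succ, add_comm]

theorem main (hπ : Irreducible π)
    (j : ℕ) (hj : 1 ≤ j) (γ : B) (hγ : IsUnit γ)
    (σ : NodeAlg B π ≃+* NodeAlg B π)
    (hσB : ∀ b : B, σ (algebraMap B (NodeAlg B π) b) - algebraMap B (NodeAlg B π) b ∈
      Ideal.span ({algebraMap B (NodeAlg B π) (π ^ j)} : Set (NodeAlg B π)))
    (hσπ : σ (algebraMap B (NodeAlg B π) π) = algebraMap B (NodeAlg B π) (π + γ * π ^ j))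
    (ht : Associated (σ (NodeAlg.t π)) (NodeAlg.e π)) (he : Associated (σ (NodeAlg.e π)) (NodeAlg.t π)) :
    (∀ g : NodeAlg B π, fixIdeal σ ≤ Ideal.span ({g} : Set (NodeAlg B π)) → IsUnit g) ∧
      Module.length (NodeAlg B π) (NodeAlg B π ⧸ fixIdeal σ) = ((2 * j - 1 : ℕ) : ℕ∞) := by
  obtain ⟨j', rfl⟩ : ∃ j', j = j' + 1 := ⟨j - 1, by omega⟩
  obtain ⟨α, hα⟩ := ht.symm
  obtain ⟨β, hβ⟩ := he.symm
  rw [mul_comm] at hα hβ
  set t := NodeAlg.t π with ht_def
  set e := NodeAlg.e π with he_def
  set P : NodeAlg B π := algebraMap B (NodeAlg B π) π with hP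
  set G : NodeAlg B π := algebraMap B (NodeAlg B π) γ with hG
  have hGu : IsUnit G := hγ.map _
  have hte : t * e = P := (mkN_C_eq π).symm
  -- αβ = 1 + γ π^{j'}
  have hαβ : (α : NodeAlg B π) * β = 1 + G * P ^ j' := by
    have h1 : σ (t * e) = P + G * P ^ (j' + 1) := by
      rw [hte, hσπ, map_add, map_mul, map_pow]
    rw [map_mul, ← hα, ← hβ] at h1
    have h2 : P * ((α : NodeAlg B π) * β - (1 + G * P ^ j')) = 0 := by
      rw [pow_succ] at h1
      rw [← hte] at h1 ⊢
      linear_combination h1
    exact sub_eq_zero.1 (Groth.Agent.S15319.pi_regular B π hπ.prime _ h2)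
  set h : NodeAlg B π := (α : NodeAlg B π) * e - t with hh
  have hσt : σ t - t = h := by rw [← hα]
  have hσe : σ e - e = -β * h + G * (P ^ j' * e) := by
    rw [← hβ, hh]
    linear_combination e * hαβ
  set I := fixIdeal σ with hI_def
  have hIx : ∀ x : NodeAlg B π, σ x - x ∈ I := fun x => Ideal.subset_span ⟨x, rfl⟩
  have hIeq : I = Ideal.span {h, P ^ j' * e} := by
    apply le_antisymm
    · refine fixIdeal_le (σ : NodeAlg B π →+* NodeAlg B π) t e
        (Set.range (algebraMap B (NodeAlg B π))) (span_te_le_jac π) (node_decomp π) _ ?_ ?_ ?_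
      · change σ t - t ∈ _
        rw [hσt]; exact Ideal.subset_span (by simp)
      · change σ e - e ∈ _
        rw [hσe]
        exact Ideal.add_mem _ (Ideal.mul_mem_left _ _ (Ideal.subset_span (by simp)))
          (Ideal.mul_mem_left _ _ (Ideal.subset_span (by simp)))
      · rintro _ ⟨b, rfl⟩
        change σ (algebraMap B (NodeAlg B π) b) - algebraMap B (NodeAlg B π) b ∈ _
        have h1 := hσB b
        obtain ⟨c, hc⟩ := Ideal.mem_span_singleton'.1 h1
        have hPj : algebraMap B (NodeAlg B π) (π ^ (j' + 1)) = t * (P ^ j' * e) := by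
          rw [map_pow]
          change P ^ (j' + 1) = _
          rw [pow_succ]
          nth_rewrite 2 [← hte]
          ring
        rw [← hc, hPj]
        exact Ideal.mul_mem_left _ _ (Ideal.mul_mem_left _ _ (Ideal.subset_span (by simp)))
    · rw [Ideal.span_le]
      intro x hx
      simp only [Set.mem_insert_iff, Set.mem_singleton_iff] at hx
      rcases hx with rfl | rfl
      · rw [← hσt]; exact hIx _
      · obtain ⟨Gu, hGu'⟩ := hGu
        have : P ^ j' * e = (↑Gu⁻¹ : NodeAlg B π) * ((σ e - e) + β * (σ t - t)) := by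
          rw [hσe, hσt, ← hGu']
          have : (↑Gu⁻¹ : NodeAlg B π) * (-↑β * h + ↑Gu * (P ^ j' * e) + ↑β * h) =
              ((↑Gu⁻¹ : NodeAlg B π) * ↑Gu) * (P ^ j' * e) := by ring
          rw [this, Units.inv_mul, one_mul]
        rw [this]
        exact Ideal.mul_mem_left _ _ (Ideal.add_mem _ (hIx _) (Ideal.mul_mem_left _ _ (hIx _)))
  -- congruence modulo h
  have hcong : P ^ j' * e - (α : NodeAlg B π) ^ j' * e ^ (2 * j' + 1) ∈ Ideal.span {h} := by
    have h1 : Ideal.Quotient.mk (Ideal.span {h}) P =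
        Ideal.Quotient.mk (Ideal.span {h}) ((α : NodeAlg B π) * e ^ 2) := by
      rw [Ideal.Quotient.eq, Ideal.mem_span_singleton']
      exact ⟨-e, by rw [← hte, hh]; ring⟩
    rw [← Ideal.Quotient.eq, map_mul, map_pow, h1, ← map_pow, ← map_mul]
    congr 1
    ring
  have hIeq2 : I = Ideal.span {e ^ (2 * j' + 1)} ⊔ Ideal.span {h} := by
    rw [hIeq]
    apply le_antisymm
    · rw [Ideal.span_le]
      intro x hx
      simp only [Set.mem_insert_iff, Set.mem_singleton_iff] at hx
      rcases hx with rfl | rfl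
      · exact Ideal.mem_sup_right (Ideal.subset_span rfl)
      · have : P ^ j' * e = (α : NodeAlg B π) ^ j' * e ^ (2 * j' + 1) +
            (P ^ j' * e - (α : NodeAlg B π) ^ j' * e ^ (2 * j' + 1)) := by ring
        rw [this]
        exact Ideal.add_mem _ (Ideal.mem_sup_left (Ideal.mul_mem_left _ _ (Ideal.subset_span rfl)))
          (Ideal.mem_sup_right hcong)
    · refine sup_le ?_ ?_
      · rw [Ideal.span_le, Set.singleton_subset_iff]
        have hu : IsUnit ((α : NodeAlg B π) ^ j') := (α.isUnit).pow j'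
        obtain ⟨u, hu'⟩ := hu
        have : e ^ (2 * j' + 1) = (↑u⁻¹ : NodeAlg B π) *
            (P ^ j' * e - (P ^ j' * e - (α : NodeAlg B π) ^ j' * e ^ (2 * j' + 1))) := by
          rw [sub_sub_cancel, ← hu', ← mul_assoc, Units.inv_mul, one_mul]
        rw [SetLike.mem_coe, this]
        apply Ideal.mul_mem_left
        apply Ideal.sub_mem
        · exact Ideal.subset_span (by simp)
        · exact (Ideal.span_mono (by simp) : Ideal.span {h} ≤ Ideal.span {h, P ^ j' * e}) hcong
      · exact Ideal.span_mono (by simp)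
  constructor
  · -- no proper principal ideal contains I
    intro g hg
    by_contra hgu
    haveI := isLocalRing π hπ
    haveI hmax := te_max π hπ
    have hm : IsLocalRing.maximalIdeal (NodeAlg B π) = Ideal.span {t, e} :=
      (IsLocalRing.eq_maximalIdeal hmax).symm
    have hhI : h ∈ I := by rw [← hσt]; exact hIx _
    obtain ⟨u, hu⟩ := Ideal.mem_span_singleton'.1 (hg hhI)
    have hgm : g ∈ Ideal.span ({t, e} : Set (NodeAlg B π)) := by
      rw [← hm]; exact (IsLocalRing.mem_maximalIdeal g).2 hgu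
    have huu : IsUnit u := by
      by_contra hun
      have hum : u ∈ Ideal.span ({t, e} : Set (NodeAlg B π)) := by
        rw [← hm]; exact (IsLocalRing.mem_maximalIdeal u).2 hun
      apply h_not_mem_sq π hπ α
      change h ∈ _
      rw [← hu, pow_two]
      exact Ideal.mul_mem_mul hum hgm
    -- so (g) = (h), and e^(2j'+1) ∈ (h)
    have hgh : Ideal.span ({g} : Set (NodeAlg B π)) = Ideal.span {h} := by
      rw [← hu]
      exact (Ideal.span_singleton_mul_left_unit huu g).symm
    have hmem : e ^ (2 * j' + 1) ∈ Ideal.span ({h} : Set (NodeAlg B π)) := by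
      rw [← hgh]
      apply hg
      rw [hIeq2]
      exact Ideal.mem_sup_left (Ideal.subset_span rfl)
    have hstrip : ∀ m : ℕ, e ^ m ∈ Ideal.span ({h} : Set (NodeAlg B π)) →
        (1 : NodeAlg B π) ∈ Ideal.span ({h} : Set (NodeAlg B π)) := by
      intro m
      induction m with
      | zero => intro h0; simpa using h0
      | succ m ih =>
        intro h1
        rw [pow_succ'] at h1
        exact ih (e_regular_mod π hπ α _ h1)
    have h1 := hstrip _ hmem
    have hhm : h ∈ Ideal.span ({t, e} : Set (NodeAlg B π)) :=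
      Ideal.sub_mem _ (Ideal.mul_mem_left _ _ (Ideal.subset_span (by simp)))
        (Ideal.subset_span (by simp))
    have : (1 : NodeAlg B π) ∈ Ideal.span ({t, e} : Set (NodeAlg B π)) :=
      (Ideal.span_le.2 (Set.singleton_subset_iff.2 hhm)) h1
    exact hmax.ne_top ((Ideal.eq_top_iff_one _).2 this)
  · rw [hIeq2, length_pow_e π hπ α]
    have : 2 * (j' + 1) - 1 = 2 * j' + 1 := by omega
    rw [this]

/-- Let B be a discrete valuation ring with uniformizer π, N = B[[t, e]]/(te - π) the complete local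
ring of a semi-stable arithmetic surface over B at a singular point x of the closed fibre, and σ a
ring automorphism of N over an automorphism τ of B with v(τ(π) - π) = j ≥ 1, that is σ(π) = π + γ
π^j with γ a unit of B, and with σ(b) - b ∈ π^j N for every b ∈ B (automatic when B is totally
ramified over the fixed ring of τ, as in the published setting, where the residue field is
algebraically closed). If σ switches the two branches through x (σ(t) associated to e and σ(e) to
t), then the fixed-point ideal I of σ is contained in no proper principal ideal (x is not on the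
divisorial part of the fixed locus) and N/I has length 2j - 1 (the multiplicity of x in the residual
fixed-point scheme). -/
theorem result (B : Type u) [CommRing B] [IsDomain B] [IsDiscreteValuationRing B] (π : B) (hπ : Irreducible π)
    (j : ℕ) (hj : 1 ≤ j) (γ : B) (hγ : IsUnit γ)
    (σ : ArLef.NodeAlg B π ≃+* ArLef.NodeAlg B π)
    (hσB : ∀ b : B, σ (algebraMap B (ArLef.NodeAlg B π) b) - algebraMap B (ArLef.NodeAlg B π) b ∈
      Ideal.span ({algebraMap B (ArLef.NodeAlg B π) (π ^ j)} : Set (ArLef.NodeAlg B π)))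
    (hσπ : σ (algebraMap B (ArLef.NodeAlg B π) π) = algebraMap B (ArLef.NodeAlg B π) (π + γ * π ^ j))
    (ht : Associated (σ (ArLef.NodeAlg.t π)) (ArLef.NodeAlg.e π)) (he : Associated (σ (ArLef.NodeAlg.e π)) (ArLef.NodeAlg.t π)) :
    (∀ g : ArLef.NodeAlg B π, ArLef.fixIdeal σ ≤ Ideal.span ({g} : Set (ArLef.NodeAlg B π)) → IsUnit g) ∧
      Module.length (ArLef.NodeAlg B π) (ArLef.NodeAlg B π ⧸ ArLef.fixIdeal σ) = ((2 * j - 1 : ℕ) : ℕ∞) := by
  exact main π hπ j hj γ hγ σ hσB hσπ ht he

end Groth.Agent.S15320
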