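import Groth.Statements.S15321
import Groth.Agent.S15315
import Groth.Agent.Lib.Helper23.NodeAlgLib
import Mathlib

set_option autoImplicit false
universe u
open ArLef

namespace Groth.Agent.S15321

section aux
open PowerSeries IsLocalRing
open Groth.Agent.Helper23.NodeAlgLib

theorem mem_of_forall_mem_sup_pow {A : Type u} [CommRing A] [IsNoetherianRing A] [IsLocalRing A]
    (J : Ideal A) (x : A) (h : ∀ n : ℕ, x ∈ J ⊔ maximalIdeal A ^ n) : x ∈ J := by
  have hbot := Ideal.iInf_pow_smul_eq_bot_of_isLocalRing (maximalIdeal A) (M := A ⧸ J)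
    (maximalIdeal.isMaximal A).ne_top
  have hx : (Ideal.Quotient.mk J x) ∈
      (⨅ i : ℕ, maximalIdeal A ^ i • ⊤ : Submodule A (A ⧸ J)) := by
    rw [Submodule.mem_iInf]
    intro n
    obtain ⟨y, hy, z, hz, rfl⟩ := Submodule.mem_sup.1 (h n)
    have h1 : Ideal.Quotient.mk J (y + z) = z • (Ideal.Quotient.mk J 1) := by
      rw [map_add, Ideal.Quotient.eq_zero_iff_mem.2 hy, zero_add, map_one, Algebra.smul_def,
        mul_one]
      rfl
    rw [h1]
    exact Submodule.smul_mem_smul hz trivial
  rw [hbot] at hx
  exact Ideal.Quotient.eq_zero_iff_mem.1 hx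

variable {B : Type u} [CommRing B] [IsDomain B] [IsDiscreteValuationRing B]

/-- the set of `r` with `σ r - r ∈ J` is closed under products -/
theorem diff_mul_mem (σ : PowerSeries B ≃+* PowerSeries B) (J : Ideal (PowerSeries B))
    {r s : PowerSeries B} (hr : σ r - r ∈ J) (hs : σ s - s ∈ J) : σ (r * s) - r * s ∈ J := by
  have : σ (r * s) - r * s = σ r * (σ s - s) + (σ r - r) * s := by rw [map_mul]; ring
  rw [this]
  exact J.add_mem (J.mul_mem_left _ hs) (J.mul_mem_right _ hr)

theorem diff_poly_mem (σ : PowerSeries B ≃+* PowerSeries B) (J : Ideal (PowerSeries B))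
    (hB : ∀ b : B, σ (algebraMap B (PowerSeries B) b) - algebraMap B (PowerSeries B) b ∈ J)
    (hX : σ X - X ∈ J) (q : Polynomial B) : σ (q : PowerSeries B) - (q : PowerSeries B) ∈ J := by
  induction q using Polynomial.induction_on with
  | C b =>
    rw [Polynomial.coe_C]
    exact hB b
  | add q q' hq hq' =>
    rw [Polynomial.coe_add, map_add]
    have : σ ↑q + σ ↑q' - (↑q + ↑q') = (σ (q : PowerSeries B) - q) + (σ (q' : PowerSeries B) - q') := by
      ring
    rw [this]
    exact J.add_mem hq hq'
  | monomial n b h =>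
    rw [pow_succ, ← mul_assoc, Polynomial.coe_mul, Polynomial.coe_X]
    exact diff_mul_mem σ J h hX

theorem sigma_mem_max (σ : PowerSeries B ≃+* PowerSeries B) {x : PowerSeries B}
    (hx : x ∈ maximalIdeal (PowerSeries B)) : σ x ∈ maximalIdeal (PowerSeries B) := by
  rw [mem_maximalIdeal, mem_nonunits_iff] at hx ⊢
  intro h
  apply hx
  have := h.map σ.symm
  simpa using this

theorem diff_mem (σ : PowerSeries B ≃+* PowerSeries B) (J : Ideal (PowerSeries B))
    (hB : ∀ b : B, σ (algebraMap B (PowerSeries B) b) - algebraMap B (PowerSeries B) b ∈ J)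
    (hX : σ X - X ∈ J) (r : PowerSeries B) : σ r - r ∈ J := by
  apply mem_of_forall_mem_sup_pow
  intro n
  have hr := eq_X_pow_mul_shift_add_trunc n r
  set r' : PowerSeries B := (mk fun i ↦ coeff (i + n) r) with hr'
  have hXm : (X : PowerSeries B) ∈ maximalIdeal (PowerSeries B) := by
    rw [mem_maximalIdeal, mem_nonunits_iff]
    intro h
    have := (isUnit_iff_constantCoeff.1 h)
    simp at this
  have h1 : σ r - r = (σ X ^ n * σ r' - X ^ n * r') + (σ (r.trunc n : PowerSeries B) - (r.trunc n : PowerSeries B)) := by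
    conv_lhs => rw [hr]
    rw [map_add, map_mul, map_pow]
    ring
  rw [h1, add_comm]
  refine Submodule.add_mem_sup (diff_poly_mem σ J hB hX _) ?_
  refine Ideal.sub_mem _ (Ideal.mul_mem_right _ _ (Ideal.pow_mem_pow (sigma_mem_max σ hXm) n))
    (Ideal.mul_mem_right _ _ (Ideal.pow_mem_pow hXm n))

end aux

section aux2
open PowerSeries IsLocalRing
open Groth.Agent.Helper23.NodeAlgLib

variable {B : Type u} [CommRing B] [IsDomain B] [IsDiscreteValuationRing B]

theorem C_dvd_iff (π : B) (hπ : Irreducible π) (g : PowerSeries B) :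
    C π ∣ g ↔ PowerSeries.map (IsLocalRing.residue B) g = 0 := by
  constructor
  · rintro ⟨g', rfl⟩
    rw [map_mul, PowerSeries.map_C, (residue_eq_zero_iff π hπ π).2 dvd_rfl, map_zero, zero_mul]
  · intro h
    obtain ⟨g', rfl⟩ := map_residue_eq_zero π hπ g h
    exact dvd_mul_right _ _

theorem C_prime_dvd (π : B) (hπ : Irreducible π) {g h : PowerSeries B} (hgh : C π ∣ g * h) :
    C π ∣ g ∨ C π ∣ h := by
  rw [C_dvd_iff π hπ] at hgh ⊢
  rw [C_dvd_iff π hπ]
  rw [map_mul] at hgh
  exact mul_eq_zero.1 hgh

theorem regular_mod (π : B) (hπ : Irreducible π) (f : PowerSeries B) (h0 : ¬ C π ∣ f) :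
    IsSMulRegular (PowerSeries B ⧸ Ideal.span ({f} : Set (PowerSeries B))) (C π) := by
  intro x y hxy
  obtain ⟨x, rfl⟩ := Ideal.Quotient.mk_surjective x
  obtain ⟨y, rfl⟩ := Ideal.Quotient.mk_surjective y
  have hxy' : Ideal.Quotient.mk (Ideal.span ({f} : Set (PowerSeries B))) (C π * x) =
      Ideal.Quotient.mk (Ideal.span ({f} : Set (PowerSeries B))) (C π * y) := hxy
  rw [Ideal.Quotient.eq, Ideal.mem_span_singleton] at hxy' ⊢
  have hxy := hxy'
  obtain ⟨z, hz⟩ := hxy
  have h1 : C π ∣ f * z := ⟨x - y, by rw [← hz]; ring⟩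
  obtain ⟨z', rfl⟩ := (C_prime_dvd π hπ h1).resolve_left h0
  have hπ0 : (C π : PowerSeries B) ≠ 0 := by
    intro h
    have := congrArg (constantCoeff (R := B)) h
    simp at this
    exact hπ.ne_zero this
  refine ⟨z', mul_left_cancel₀ hπ0 ?_⟩
  rw [mul_sub, hz]
  ring

theorem length_pow (π : B) (hπ : Irreducible π) (f : PowerSeries B) (h0 : ¬ C π ∣ f) (j : ℕ) :
    Module.length (PowerSeries B) (PowerSeries B ⧸
      (Ideal.span ({C (π ^ j)} : Set (PowerSeries B)) ⊔ Ideal.span {f})) =
    (j : ℕ∞) * Module.length (PowerSeries B) (PowerSeries B ⧸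
      (Ideal.span ({C π} : Set (PowerSeries B)) ⊔ Ideal.span {f})) := by
  induction j with
  | zero =>
    rw [pow_zero, map_one, Ideal.span_singleton_one, top_sup_eq, Nat.cast_zero, zero_mul,
      Module.length_eq_zero_iff]
    exact Submodule.Quotient.subsingleton_iff.2 rfl
  | succ j ih =>
    have := Groth.Agent.S15315.result (PowerSeries B) (C π) f
      (Ideal.span ({C (π ^ j)} : Set (PowerSeries B))) (regular_mod π hπ f h0)
    rw [Ideal.span_singleton_mul_span_singleton, ← map_mul, ← pow_succ', Ideal.span_insert, ih]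
      at this
    rw [this, Nat.cast_succ, add_mul, one_mul, add_comm]

theorem map_residue_surjective :
    Function.Surjective (PowerSeries.map (IsLocalRing.residue B)) := by
  intro g
  choose c hc using fun n => IsLocalRing.residue_surjective (R := B) (coeff n g)
  refine ⟨mk c, ?_⟩
  ext n
  rw [coeff_map, coeff_mk, hc]

theorem length_residue (π : B) (hπ : Irreducible π) (f : PowerSeries B) :
    Module.length (PowerSeries B) (PowerSeries B ⧸
      (Ideal.span ({C π} : Set (PowerSeries B)) ⊔ Ideal.span {f})) =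
    Module.length (PowerSeries (ResidueField B)) (PowerSeries (ResidueField B) ⧸
      Ideal.span ({PowerSeries.map (IsLocalRing.residue B) f} :
        Set (PowerSeries (ResidueField B)))) := by
  letI : Algebra (PowerSeries B) (PowerSeries (ResidueField B)) :=
    (PowerSeries.map (IsLocalRing.residue B)).toAlgebra
  have hsurj : Function.Surjective (algebraMap (PowerSeries B) (PowerSeries (ResidueField B))) :=
    map_residue_surjective
  rw [← Module.length_eq_of_surjective (S := PowerSeries B) hsurj]
  let φ : PowerSeries B →ₗ[PowerSeries B] (PowerSeries (ResidueField B) ⧸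
      Ideal.span ({PowerSeries.map (IsLocalRing.residue B) f} :
        Set (PowerSeries (ResidueField B)))) :=
    ((Submodule.mkQ _).restrictScalars (PowerSeries B)) ∘ₗ
      (Algebra.linearMap (PowerSeries B) (PowerSeries (ResidueField B)))
  have hφ : ∀ x, φ x = Ideal.Quotient.mk _ (PowerSeries.map (IsLocalRing.residue B) x) :=
    fun x => rfl
  have hφs : Function.Surjective φ := by
    intro y
    obtain ⟨y, rfl⟩ := Ideal.Quotient.mk_surjective y
    obtain ⟨x, rfl⟩ := map_residue_surjective y
    exact ⟨x, rfl⟩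
  have hker : LinearMap.ker φ =
      (Ideal.span ({C π} : Set (PowerSeries B)) ⊔ Ideal.span {f} : Ideal (PowerSeries B)) := by
    ext x
    rw [LinearMap.mem_ker, hφ, Ideal.Quotient.eq_zero_iff_mem, Ideal.mem_span_singleton]
    constructor
    · rintro ⟨y, hy⟩
      obtain ⟨y, rfl⟩ := map_residue_surjective y
      have h1 : PowerSeries.map (IsLocalRing.residue B) (x - f * y) = 0 := by
        rw [map_sub, map_mul, hy, sub_self]
      obtain ⟨z, hz⟩ := (C_dvd_iff π hπ _).2 h1
      have : x = C π * z + f * y := by rw [← hz]; ring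
      rw [this]
      exact Submodule.add_mem_sup (Ideal.mem_span_singleton.2 (dvd_mul_right _ _))
        (Ideal.mem_span_singleton.2 (dvd_mul_right _ _))
    · intro hx
      obtain ⟨a, ha, b, hb, rfl⟩ := Submodule.mem_sup.1 hx
      obtain ⟨a, rfl⟩ := Ideal.mem_span_singleton.1 ha
      obtain ⟨b, rfl⟩ := Ideal.mem_span_singleton.1 hb
      refine ⟨PowerSeries.map (IsLocalRing.residue B) b, ?_⟩
      rw [map_add, map_mul, map_mul, PowerSeries.map_C,
        (residue_eq_zero_iff π hπ π).2 dvd_rfl, map_zero, zero_mul, zero_add]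
  exact ((Submodule.quotEquivOfEq _ _ hker.symm).trans
    (φ.quotKerEquivOfSurjective hφs)).length_eq

theorem main (π : B) (hπ : Irreducible π)
    (j : ℕ) (γ : B) (hγ : IsUnit γ)
    (σ : PowerSeries B ≃+* PowerSeries B)
    (hσB : ∀ b : B, σ (algebraMap B (PowerSeries B) b) - algebraMap B (PowerSeries B) b ∈
      Ideal.span ({algebraMap B (PowerSeries B) (π ^ j)} : Set (PowerSeries B)))
    (hσπ : σ (algebraMap B (PowerSeries B) π) = algebraMap B (PowerSeries B) (π + γ * π ^ j))
    (h0 : ¬ (algebraMap B (PowerSeries B) π ∣ σ PowerSeries.X - PowerSeries.X)) :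
    Module.length (PowerSeries B) (PowerSeries B ⧸ ArLef.fixIdeal σ) =
      (j : ℕ∞) * Module.length (PowerSeries (IsLocalRing.ResidueField B)) (PowerSeries (IsLocalRing.ResidueField B) ⧸
        Ideal.span ({PowerSeries.map (IsLocalRing.residue B) (σ PowerSeries.X - PowerSeries.X)} : Set (PowerSeries (IsLocalRing.ResidueField B)))) := by
  have hC : ∀ b : B, algebraMap B (PowerSeries B) b = C b := fun b => rfl
  simp only [hC] at hσB hσπ h0
  have hfix : ArLef.fixIdeal σ = Ideal.span ({C (π ^ j)} : Set (PowerSeries B)) ⊔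
      Ideal.span {σ X - X} := by
    apply le_antisymm
    · unfold ArLef.fixIdeal
      rw [Ideal.span_le]
      rintro _ ⟨r, rfl⟩
      show σ r - r ∈ (Ideal.span ({C (π ^ j)} : Set (PowerSeries B)) ⊔
        Ideal.span ({σ X - X} : Set (PowerSeries B)))
      exact diff_mem σ (Ideal.span ({C (π ^ j)} : Set (PowerSeries B)) ⊔
        Ideal.span ({σ X - X} : Set (PowerSeries B))) (fun b => Ideal.mem_sup_left (hσB b))
        (Ideal.mem_sup_right (Ideal.subset_span (Set.mem_singleton _))) r
    · rw [sup_le_iff, Ideal.span_singleton_le_iff_mem, Ideal.span_singleton_le_iff_mem]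
      constructor
      · have h1 : σ (C π) - C π ∈ ArLef.fixIdeal σ := Ideal.subset_span ⟨_, rfl⟩
        obtain ⟨u, rfl⟩ := hγ
        have h2 : C (π ^ j) = C ((↑u⁻¹ : B)) * (σ (C π) - C π) := by
          rw [hσπ, ← map_sub, ← map_mul]
          congr 1
          have : π + ↑u * π ^ j - π = ↑u * π ^ j := by ring
          rw [this, ← mul_assoc, Units.inv_mul, one_mul]
        rw [h2]
        exact Ideal.mul_mem_left _ _ h1
      · exact Ideal.subset_span ⟨X, rfl⟩
  rw [hfix, length_pow π hπ _ h0 j, length_residue π hπ]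

end aux2

/-- In the case of a smooth point with the closed fibre outside the divisorial part, let B be a discrete
valuation ring with uniformizer π and residue field k, B[[t]] the complete local ring of a
semi-stable arithmetic surface over B at a point x where the closed fibre is smooth, and σ a ring
automorphism of B[[t]] over an automorphism τ of B with v(τ(π) - π) = j ≥ 1, that is σ(π) = π + γ
π^j with γ a unit, and σ(b) - b ∈ π^j B[[t]] for all b ∈ B (automatic for B totally ramified over
the fixed ring of τ, as in the published setting). If π does not divide f = σ(t) - t (the closed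
fibre is not in the divisorial part of the fixed locus near x), then the length of B[[t]] modulo the
fixed-point ideal of σ is j m, where m, the length of k[[t]]/(f mod π), is the multiplicity of x as
a fixed point of σ on the closed fibre. -/
theorem result (B : Type u) [CommRing B] [IsDomain B] [IsDiscreteValuationRing B] (π : B) (hπ : Irreducible π)
    (j : ℕ) (hj : 1 ≤ j) (γ : B) (hγ : IsUnit γ)
    (σ : PowerSeries B ≃+* PowerSeries B)
    (hσB : ∀ b : B, σ (algebraMap B (PowerSeries B) b) - algebraMap B (PowerSeries B) b ∈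
      Ideal.span ({algebraMap B (PowerSeries B) (π ^ j)} : Set (PowerSeries B)))
    (hσπ : σ (algebraMap B (PowerSeries B) π) = algebraMap B (PowerSeries B) (π + γ * π ^ j))
    (h0 : ¬ (algebraMap B (PowerSeries B) π ∣ σ PowerSeries.X - PowerSeries.X)) :
    Module.length (PowerSeries B) (PowerSeries B ⧸ ArLef.fixIdeal σ) =
      (j : ℕ∞) * Module.length (PowerSeries (IsLocalRing.ResidueField B)) (PowerSeries (IsLocalRing.ResidueField B) ⧸
        Ideal.span ({PowerSeries.map (IsLocalRing.residue B) (σ PowerSeries.X - PowerSeries.X)} : Set (PowerSeries (IsLocalRing.ResidueField B)))) := by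
  exact main π hπ j γ hγ σ hσB hσπ h0

end Groth.Agent.S15321
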