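import Groth.Statements.S15322
import Mathlib.AlgebraicGeometry.Morphisms.Etale
import Mathlib.AlgebraicGeometry.Morphisms.Separated

set_option autoImplicit false
universe u
open CategoryTheory AlgebraicGeometry
open ArLef

namespace Groth.Agent.S15322

/-- Let f : D → C be a morphism, τ an automorphism of C and σ an automorphism of D with σ f = f τ; call
σ a good lifting of τ when the fixed-point scheme of σ is the full preimage of that of τ, i.e. every
morphism z : Z → D with z f τ = z f has z σ = z. If f is etale, separated and surjective with D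
connected and the fixed-point scheme of τ is non-empty (some point of C, with its residue field, is
fixed by τ), then τ has at most one good lifting. (The published statement is for a finite etale
cover of smooth projective irreducible curves over a field and a non-trivial τ; the argument uses
only the hypotheses stated here.) -/
theorem result {C D : Scheme.{u}} (f : D ⟶ C) [Etale f] [IsSeparated f] [Surjective f]
    [ConnectedSpace D] (τ : C ≅ C) (σ σ' : D ≅ D)
    (hσ : σ.hom ≫ f = f ≫ τ.hom) (hσ' : σ'.hom ≫ f = f ≫ τ.hom)
    (good : ∀ (Z : Scheme.{u}) (z : Z ⟶ D), z ≫ f ≫ τ.hom = z ≫ f → z ≫ σ.hom = z)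
    (good' : ∀ (Z : Scheme.{u}) (z : Z ⟶ D), z ≫ f ≫ τ.hom = z ≫ f → z ≫ σ'.hom = z)
    (x : C) (hx : C.fromSpecResidueField x ≫ τ.hom = C.fromSpecResidueField x) :
    σ = σ' := by
  classical
  apply Iso.ext
  have h : σ.hom ≫ f = σ'.hom ≫ f := by rw [hσ, hσ']
  let Δ := Limits.pullback.diagonal f
  let s : D ⟶ Limits.pullback f f := Limits.pullback.lift σ.hom σ'.hom h
  let e : Limits.pullback s Δ ⟶ D := Limits.pullback.fst s Δ
  have he_open : IsOpenImmersion e := inferInstance
  have he_closed : IsClosedImmersion e := inferInstance
  have he : e ≫ σ.hom = e ≫ σ'.hom := by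
    have h1 : e ≫ s = Limits.pullback.snd s Δ ≫ Δ := Limits.pullback.condition
    have h2 := congrArg (fun m => m ≫ Limits.pullback.fst f f) h1
    have h3 := congrArg (fun m => m ≫ Limits.pullback.snd f f) h1
    simp only [Category.assoc, s, Δ, Limits.pullback.lift_fst, Limits.pullback.lift_snd,
      Limits.pullback.diagonal_fst, Limits.pullback.diagonal_snd, Category.comp_id] at h2 h3
    rw [h2, h3]
  -- a point in the range of e
  obtain ⟨d, hd⟩ := Surjective.surj (f := f) x
  subst hd
  let z := D.fromSpecResidueField d
  have hzf : z ≫ f ≫ τ.hom = z ≫ f := by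
    have h1 := Scheme.Hom.SpecMap_residueFieldMap_fromSpecResidueField f d
    rw [← Category.assoc, ← h1, Category.assoc, hx]
  have hz1 : z ≫ σ.hom = z := good _ z hzf
  have hz2 : z ≫ σ'.hom = z := good' _ z hzf
  have hzs : z ≫ s = z ≫ Δ := by
    apply Limits.pullback.hom_ext
    · simp only [Category.assoc, s, Δ, Limits.pullback.lift_fst, Limits.pullback.diagonal_fst,
        Category.comp_id, hz1]
    · simp only [Category.assoc, s, Δ, Limits.pullback.lift_snd, Limits.pullback.diagonal_snd,
        Category.comp_id, hz2]
  let l : Spec (D.residueField d) ⟶ Limits.pullback s Δ := Limits.pullback.lift z z hzs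
  have hl : l ≫ e = z := Limits.pullback.lift_fst _ _ _
  have hne : (Set.range e).Nonempty := by
    refine ⟨(l ≫ e) (IsLocalRing.closedPoint _), ?_⟩
    exact ⟨l (IsLocalRing.closedPoint _), rfl⟩
  have hclopen : IsClopen (Set.range e) :=
    ⟨e.isClosedEmbedding.isClosed_range, e.isOpenEmbedding.isOpen_range⟩
  have huniv : Set.range e = Set.univ := by
    rcases isClopen_iff.mp hclopen with h0 | h1
    · rw [h0] at hne; exact absurd hne Set.not_nonempty_empty
    · exact h1
  have hsurj : Function.Surjective e := Set.range_eq_univ.mp huniv
  have hepi : Epi e.base := by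
    rw [TopCat.epi_iff_surjective]
    exact hsurj
  have hiso : IsIso e := IsOpenImmersion.isIso e
  exact (cancel_epi e).mp he

end Groth.Agent.S15322
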