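import Groth.Statements.S15323
import Groth.Agent.Lib.Helper23.NodeCol
import Groth.Agent.S15320

set_option autoImplicit false
universe u
open ArLef ArLef.NodeAlg

namespace Groth.Agent.S15323

set_option linter.style.haveILetI false
set_option linter.unusedVariables false
set_option linter.unusedSectionVars false
set_option linter.style.haveILetI false
set_option linter.unusedVariables false
set_option linter.unusedSectionVars false
open Groth.Agent.Helper23.NodeFix Groth.Agent.Helper23.NodeAlgLib Groth.Agent.Helper23.NodeLen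
open Groth.Agent.Helper23.NodeCol

variable {B : Type u} [CommRing B] [IsDomain B] [IsDiscreteValuationRing B] (π : B)

theorem t_regular (hπ : Irreducible π) (z : NodeAlg B π) (hz : NodeAlg.t π * z = 0) : z = 0 := by
  apply Groth.Agent.S15319.pi_regular B π hπ.prime
  rw [algebraMap_eq π π, mkN_C_eq, mul_comm (NodeAlg.t π), mul_assoc, hz, mul_zero]

theorem t_prime (hπ : Irreducible π) : (Ideal.span {NodeAlg.t π}).IsPrime :=
  isPrime_span π hπ (s := 0) (s' := 1) (by decide)

theorem e_prime (hπ : Irreducible π) : (Ideal.span {NodeAlg.e π}).IsPrime :=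
  isPrime_span π hπ (s := 1) (s' := 0) (by decide)

theorem e_not_mem_t (hπ : Irreducible π) : NodeAlg.e π ∉ Ideal.span {NodeAlg.t π} :=
  not_mem_span π hπ (s := 0) (s' := 1) (by decide)

theorem t_not_mem_e (hπ : Irreducible π) : NodeAlg.t π ∉ Ideal.span {NodeAlg.e π} :=
  not_mem_span π hπ (s := 1) (s' := 0) (by decide)

/-- regularity of x on A/(a) from the elementwise statement -/
theorem isSMulRegular_of {A : Type u} [CommRing A] (a x : A)
    (h : ∀ z, x * z ∈ Ideal.span ({a} : Set A) → z ∈ Ideal.span ({a} : Set A)) :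
    IsSMulRegular (A ⧸ Ideal.span ({a} : Set A)) x := by
  intro p q hpq
  obtain ⟨p, rfl⟩ := Ideal.Quotient.mk_surjective p
  obtain ⟨q, rfl⟩ := Ideal.Quotient.mk_surjective q
  have h4 : Ideal.Quotient.mk (Ideal.span {a}) (x * p) =
      Ideal.Quotient.mk (Ideal.span {a}) (x * q) := hpq
  rw [Ideal.Quotient.eq, ← mul_sub] at h4
  exact Ideal.Quotient.eq.2 (h _ h4)


theorem mem_span3 {A : Type u} [CommRing A] {w x y z : A} :
    w ∈ Ideal.span ({x, y, z} : Set A) ↔ ∃ a b c : A, a * x + b * y + c * z = w :=
  Submodule.mem_span_triple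

theorem main (hπ : Irreducible π)
    (j : ℕ) (hj : 1 ≤ j) (γ : B) (hγ : IsUnit γ)
    (σ : NodeAlg B π ≃+* NodeAlg B π)
    (hσB : ∀ b : B, σ (algebraMap B (NodeAlg B π) b) - algebraMap B (NodeAlg B π) b ∈
      Ideal.span ({algebraMap B (NodeAlg B π) (π ^ j)} : Set (NodeAlg B π)))
    (hσπ : σ (algebraMap B (NodeAlg B π) π) = algebraMap B (NodeAlg B π) (π + γ * π ^ j))
    (α β : (NodeAlg B π)ˣ) (ht : σ (NodeAlg.t π) = (α : NodeAlg B π) * NodeAlg.t π)
    (he : σ (NodeAlg.e π) = (β : NodeAlg B π) * NodeAlg.e π)
    (htb : ¬ (NodeAlg.t π ∣ (β : NodeAlg B π) - 1)) (hea : ¬ (NodeAlg.e π ∣ (α : NodeAlg B π) - 1)) :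
    Module.length (NodeAlg B π) (NodeAlg B π ⧸ fixIdeal σ) =
      (j : ℕ∞) * (Module.length (NodeAlg B π) (NodeAlg B π ⧸ Ideal.span ({NodeAlg.t π, (β : NodeAlg B π) - 1} : Set (NodeAlg B π))) +
        Module.length (NodeAlg B π) (NodeAlg B π ⧸ Ideal.span ({NodeAlg.e π, (α : NodeAlg B π) - 1} : Set (NodeAlg B π)))) + 1 := by
  obtain ⟨j', rfl⟩ : ∃ j', j = j' + 1 := ⟨j - 1, by omega⟩
  haveI : IsNoetherianRing (NodeAlg B π) := inferInstance
  set t := NodeAlg.t π with ht_def
  set e := NodeAlg.e π with he_def
  set P : NodeAlg B π := algebraMap B (NodeAlg B π) π with hP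
  set G : NodeAlg B π := algebraMap B (NodeAlg B π) γ with hG
  set a : NodeAlg B π := (α : NodeAlg B π) - 1 with ha
  set b : NodeAlg B π := (β : NodeAlg B π) - 1 with hb
  have hGu : IsUnit G := hγ.map _
  obtain ⟨Gu, hGu'⟩ := hGu
  have hte : t * e = P := (mkN_C_eq π).symm
  have htp := t_prime π hπ
  have hep := e_prime π hπ
  have htreg := t_regular π hπ
  have hereg := Groth.Agent.S15320.e_regular π hπ
  -- αβ = 1 + γ π^{j'}
  have hαβ : (α : NodeAlg B π) * β = 1 + G * P ^ j' := by
    have h1 : σ (t * e) = P + G * P ^ (j' + 1) := by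
      rw [hte, hσπ, map_add, map_mul, map_pow]
    rw [map_mul, ht, he] at h1
    have h2 : P * ((α : NodeAlg B π) * β - (1 + G * P ^ j')) = 0 := by
      rw [pow_succ] at h1
      rw [← hte] at h1 ⊢
      linear_combination h1
    exact sub_eq_zero.1 (Groth.Agent.S15319.pi_regular B π hπ.prime _ h2)
  have hab : a + b + a * b = G * P ^ j' := by
    rw [ha, hb]; linear_combination hαβ
  have hσt : σ t - t = a * t := by rw [ht, ha]; ring
  have hσe : σ e - e = b * e := by rw [he, hb]; ring
  have hPj : P ^ (j' + 1) = t * (t ^ j' * e ^ (j' + 1)) := by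
    rw [← hte]; ring
  set I := fixIdeal σ with hI_def
  have hIx : ∀ x : NodeAlg B π, σ x - x ∈ I := fun x => Ideal.subset_span ⟨x, rfl⟩
  have hIeq : I = Ideal.span {a * t, b * e, P ^ (j' + 1)} := by
    apply le_antisymm
    · refine fixIdeal_le (σ : NodeAlg B π →+* NodeAlg B π) t e
        (Set.range (algebraMap B (NodeAlg B π))) (span_te_le_jac π) (node_decomp π) _ ?_ ?_ ?_
      · change σ t - t ∈ _
        rw [hσt]; exact Ideal.subset_span (by simp)
      · change σ e - e ∈ _
        rw [hσe]; exact Ideal.subset_span (by simp)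
      · rintro _ ⟨c, rfl⟩
        change σ (algebraMap B (NodeAlg B π) c) - algebraMap B (NodeAlg B π) c ∈ _
        have h1 := hσB c
        obtain ⟨d, hd⟩ := Ideal.mem_span_singleton'.1 h1
        rw [← hd, map_pow]
        exact Ideal.mul_mem_left _ _ (Ideal.subset_span (Or.inr (Or.inr rfl)))
    · rw [Ideal.span_le]
      intro x hx
      simp only [Set.mem_insert_iff, Set.mem_singleton_iff] at hx
      rcases hx with rfl | rfl | rfl
      · rw [← hσt]; exact hIx _
      · rw [← hσe]; exact hIx _
      · have h1 : σ P - P = G * P ^ (j' + 1) := by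
          rw [hσπ, map_add, map_mul, map_pow]; ring
        have : P ^ (j' + 1) = (↑Gu⁻¹ : NodeAlg B π) * (σ P - P) := by
          rw [h1, ← hGu', ← mul_assoc, Units.inv_mul, one_mul]
        rw [this]
        exact Ideal.mul_mem_left _ _ (hIx _)
  -- first colon: by t
  set K₁ : Ideal (NodeAlg B π) := Ideal.span {a, b * e, t ^ j' * e ^ (j' + 1)} with hK₁
  have hbt : b ∉ Ideal.span ({t} : Set (NodeAlg B π)) := fun h => htb (Ideal.mem_span_singleton.1 h)
  have hae : a ∉ Ideal.span ({e} : Set (NodeAlg B π)) := fun h => hea (Ideal.mem_span_singleton.1 h)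
  have hcol1 : ∀ z, z ∈ K₁ ↔ t * z ∈ I := by
    intro z
    constructor
    · intro hz
      rw [hIeq]
      rw [hK₁] at hz
      obtain ⟨u, v, w, rfl⟩ := mem_span3.1 hz
      have : t * (u * a + v * (b * e) + w * (t ^ j' * e ^ (j' + 1))) =
          u * (a * t) + (t * v) * (b * e) + w * P ^ (j' + 1) := by
        rw [hPj]; ring
      rw [this]
      exact mem_span3.2 ⟨_, _, _, rfl⟩
    · intro hz
      rw [hIeq] at hz
      obtain ⟨u, v, w, huvw⟩ := mem_span3.1 hz
      have h1 : v * (b * e) ∈ Ideal.span ({t} : Set (NodeAlg B π)) := by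
        rw [Ideal.mem_span_singleton']
        refine ⟨z - u * a - w * (t ^ j' * e ^ (j' + 1)), ?_⟩
        rw [hPj] at huvw
        linear_combination (-1 : NodeAlg B π) * huvw
      have h2 : v ∈ Ideal.span ({t} : Set (NodeAlg B π)) := by
        rcases htp.mem_or_mem h1 with h | h
        · exact h
        · exfalso
          rcases htp.mem_or_mem h with h | h
          · exact hbt h
          · exact e_not_mem_t π hπ h
      obtain ⟨v', rfl⟩ := Ideal.mem_span_singleton'.1 h2
      have h3 : t * (z - (u * a + v' * (b * e) + w * (t ^ j' * e ^ (j' + 1)))) = 0 := by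
        rw [hPj] at huvw
        linear_combination (-1 : NodeAlg B π) * huvw
      have h4 := sub_eq_zero.1 (htreg _ h3)
      rw [h4, hK₁]
      exact mem_span3.2 ⟨_, _, _, rfl⟩
  have hsup1 : I ⊔ Ideal.span {t} = Ideal.span {e} * Ideal.span {b} ⊔ Ideal.span {t} := by
    rw [Ideal.span_singleton_mul_span_singleton, hIeq]
    apply le_antisymm
    · refine sup_le ?_ le_sup_right
      rw [Ideal.span_le]
      intro x hx
      simp only [Set.mem_insert_iff, Set.mem_singleton_iff] at hx
      rcases hx with rfl | rfl | rfl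
      · exact Ideal.mem_sup_right (Ideal.mul_mem_left _ _ (Ideal.subset_span rfl))
      · rw [mul_comm b e]; exact Ideal.mem_sup_left (Ideal.subset_span rfl)
      · rw [hPj]; exact Ideal.mem_sup_right (Ideal.mul_mem_right _ _ (Ideal.subset_span rfl))
    · refine sup_le ?_ le_sup_right
      rw [Ideal.span_le, Set.singleton_subset_iff, mul_comm e b]
      exact Ideal.mem_sup_left (Ideal.subset_span (by simp))
  have hlen1 : Module.length (NodeAlg B π) (NodeAlg B π ⧸ (I ⊔ Ideal.span {t})) =
      1 + Module.length (NodeAlg B π) (NodeAlg B π ⧸ Ideal.span ({t, b} : Set (NodeAlg B π))) := by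
    rw [hsup1]
    have hreg : IsSMulRegular (NodeAlg B π ⧸ Ideal.span ({t} : Set (NodeAlg B π))) e := by
      apply isSMulRegular_of
      intro z hz
      rcases htp.mem_or_mem hz with h | h
      · exact absurd h (e_not_mem_t π hπ)
      · exact h
    rw [Groth.Agent.S15315.result (NodeAlg B π) e t (Ideal.span {b}) hreg]
    have h1 : Ideal.span ({e, t} : Set (NodeAlg B π)) = Ideal.span {t, e} := by
      rw [Set.pair_comm]
    have h2 : Ideal.span ({b} : Set (NodeAlg B π)) ⊔ Ideal.span {t} = Ideal.span {t, b} := by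
      rw [sup_comm, ← Ideal.span_union, Set.singleton_union]
    rw [h1, h2]
    haveI := Groth.Agent.S15320.te_max π hπ
    rw [length_quot_maximal]
  -- second colon: by e
  set K₂ : Ideal (NodeAlg B π) := Ideal.span {a, b, P ^ j'} with hK₂
  have hPj' : e * P ^ j' = t ^ j' * e ^ (j' + 1) := by
    rw [← hte]; ring
  have hcol2 : ∀ z, z ∈ K₂ ↔ e * z ∈ K₁ := by
    intro z
    constructor
    · intro hz
      rw [hK₂] at hz
      obtain ⟨u, v, w, rfl⟩ := mem_span3.1 hz
      have : e * (u * a + v * b + w * P ^ j') =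
          (e * u) * a + v * (b * e) + w * (t ^ j' * e ^ (j' + 1)) := by
        rw [← hPj']; ring
      rw [this, hK₁]
      exact mem_span3.2 ⟨_, _, _, rfl⟩
    · intro hz
      rw [hK₁] at hz
      obtain ⟨u, v, w, huvw⟩ := mem_span3.1 hz
      have h1 : u * a ∈ Ideal.span ({e} : Set (NodeAlg B π)) := by
        rw [Ideal.mem_span_singleton']
        refine ⟨z - v * b - w * P ^ j', ?_⟩
        rw [← hPj'] at huvw
        linear_combination (-1 : NodeAlg B π) * huvw
      have h2 : u ∈ Ideal.span ({e} : Set (NodeAlg B π)) := by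
        rcases hep.mem_or_mem h1 with h | h
        · exact h
        · exact absurd h hae
      obtain ⟨u', rfl⟩ := Ideal.mem_span_singleton'.1 h2
      have h3 : e * (z - (u' * a + v * b + w * P ^ j')) = 0 := by
        rw [← hPj'] at huvw
        linear_combination (-1 : NodeAlg B π) * huvw
      have h4 := sub_eq_zero.1 (hereg _ h3)
      rw [h4, hK₂]
      exact mem_span3.2 ⟨_, _, _, rfl⟩
  have hsup2 : K₁ ⊔ Ideal.span {e} = Ideal.span {e, a} := by
    rw [hK₁]
    apply le_antisymm
    · refine sup_le ?_ ?_
      · rw [Ideal.span_le]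
        intro x hx
        simp only [Set.mem_insert_iff, Set.mem_singleton_iff] at hx
        rcases hx with rfl | rfl | rfl
        · exact Ideal.subset_span (by simp)
        · exact Ideal.mul_mem_left _ _ (Ideal.subset_span (by simp))
        · rw [pow_succ, ← mul_assoc]
          exact Ideal.mul_mem_left _ _ (Ideal.subset_span (by simp))
      · exact Ideal.span_mono (by simp)
    · rw [Ideal.span_le]
      intro x hx
      simp only [Set.mem_insert_iff, Set.mem_singleton_iff] at hx
      rcases hx with rfl | rfl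
      · exact Ideal.mem_sup_right (Ideal.subset_span rfl)
      · exact Ideal.mem_sup_left (Ideal.subset_span (by simp))
  have hlenK2 : Module.length (NodeAlg B π) (NodeAlg B π ⧸ K₂) =
      (j' : ℕ∞) * Module.length (NodeAlg B π) (NodeAlg B π ⧸ Ideal.span ({t, b} : Set (NodeAlg B π))) +
      (j' : ℕ∞) * Module.length (NodeAlg B π) (NodeAlg B π ⧸ Ideal.span ({e, a} : Set (NodeAlg B π))) := by
    rcases Nat.eq_zero_or_pos j' with hj0 | hjpos
    · have htop : K₂ = ⊤ := by
        rw [Ideal.eq_top_iff_one, hK₂, hj0, pow_zero]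
        exact Ideal.subset_span (by simp)
      rw [htop, hj0, Nat.cast_zero, zero_mul, zero_mul, zero_add, Module.length_eq_zero_iff]
      exact Submodule.Quotient.subsingleton_iff.2 rfl
    · obtain ⟨j'', rfl⟩ : ∃ j'', j' = j'' + 1 := ⟨j' - 1, by omega⟩
      have hPt : P ^ (j'' + 1) = t * (t ^ j'' * e ^ (j'' + 1)) := by rw [← hte]; ring
      have hPte : P ^ (j'' + 1) = t ^ (j'' + 1) * e ^ (j'' + 1) := by rw [← hte]; ring
      have hαa : (α : NodeAlg B π) = 1 + a := by rw [ha]; ring
      have hbα : b * (α : NodeAlg B π) = G * P ^ (j'' + 1) - a := by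
        rw [hαa]; linear_combination hab
      have hbeq : b = (↑α⁻¹ : NodeAlg B π) * (G * P ^ (j'' + 1) - a) := by
        rw [← hbα, mul_comm b, ← mul_assoc, Units.inv_mul, one_mul]
      have hat : a ∉ Ideal.span ({t} : Set (NodeAlg B π)) := by
        intro h
        have h1 : b * (α : NodeAlg B π) ∈ Ideal.span ({t} : Set (NodeAlg B π)) := by
          rw [hbα, hPt]
          exact Ideal.sub_mem _ (Ideal.mul_mem_left _ _ (Ideal.mul_mem_right _ _
            (Ideal.subset_span rfl))) h
        rcases htp.mem_or_mem h1 with h2 | h2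
        · exact hbt h2
        · exact htp.ne_top (Ideal.eq_top_of_isUnit_mem _ h2 α.isUnit)
      have hregt : IsSMulRegular (NodeAlg B π ⧸ Ideal.span ({a} : Set (NodeAlg B π))) t := by
        apply isSMulRegular_of
        refine Groth.Agent.S15319.swap_regular t a htreg ?_
        intro w hw
        rcases htp.mem_or_mem hw with h | h
        · exact absurd h hat
        · exact h
      have hrege : IsSMulRegular (NodeAlg B π ⧸ Ideal.span ({a} : Set (NodeAlg B π))) e := by
        apply isSMulRegular_of
        refine Groth.Agent.S15319.swap_regular e a hereg ?_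
        intro w hw
        rcases hep.mem_or_mem hw with h | h
        · exact absurd h hae
        · exact h
      have hK₂eq : K₂ = Ideal.span {t ^ (j'' + 1) * e ^ (j'' + 1)} ⊔ Ideal.span {a} := by
        rw [hK₂, ← hPte]
        apply le_antisymm
        · rw [Ideal.span_le]
          intro x hx
          simp only [Set.mem_insert_iff, Set.mem_singleton_iff] at hx
          rcases hx with rfl | rfl | rfl
          · exact Ideal.mem_sup_right (Ideal.subset_span rfl)
          · rw [hbeq]
            apply Ideal.mul_mem_left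
            exact Ideal.sub_mem _ (Ideal.mem_sup_left (Ideal.mul_mem_left _ _ (Ideal.subset_span rfl)))
              (Ideal.mem_sup_right (Ideal.subset_span rfl))
          · exact Ideal.mem_sup_left (Ideal.subset_span rfl)
        · refine sup_le ?_ ?_
          · exact Ideal.span_mono (by simp)
          · exact Ideal.span_mono (by simp)
      have hta : Ideal.span ({t, a} : Set (NodeAlg B π)) = Ideal.span {t, b} := by
        apply le_antisymm
        · rw [Ideal.span_le]
          intro x hx
          simp only [Set.mem_insert_iff, Set.mem_singleton_iff] at hx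
          rcases hx with rfl | rfl
          · exact Ideal.subset_span (by simp)
          · have : a = G * P ^ (j'' + 1) - b * (α : NodeAlg B π) := by rw [hbα]; ring
            rw [this, hPt]
            exact Ideal.sub_mem _ (Ideal.mul_mem_left _ _ (Ideal.mul_mem_right _ _
              (Ideal.subset_span (by simp)))) (Ideal.mul_mem_right _ _ (Ideal.subset_span (by simp)))
        · rw [Ideal.span_le]
          intro x hx
          simp only [Set.mem_insert_iff, Set.mem_singleton_iff] at hx
          rcases hx with rfl | rfl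
          · exact Ideal.subset_span (by simp)
          · rw [hbeq, hPt]
            apply Ideal.mul_mem_left
            exact Ideal.sub_mem _ (Ideal.mul_mem_left _ _ (Ideal.mul_mem_right _ _
              (Ideal.subset_span (by simp)))) (Ideal.subset_span (by simp))
      rw [hK₂eq, length_peel a t e hregt hrege, hta]
  rw [length_colon I K₁ t hcol1, hlen1, length_colon K₁ K₂ e hcol2, hsup2, hlenK2, Nat.cast_succ]
  ring

/-- In the cases where the branches through the point do not lie in the divisorial part of the fixed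
locus, let B be a discrete valuation ring with uniformizer π, N = B[[t, e]]/(te - π) the complete
local ring of a semi-stable arithmetic surface over B at a singular point x of the closed fibre, and
σ a ring automorphism of N with σ(π) = π + γ π^j (γ a unit of B, j ≥ 1) and σ(b) - b ∈ π^j N for all
b ∈ B (σ lies over an automorphism τ of B with v(τ(π) - π) = j, B totally ramified over the fixed
ring as in the published setting). Suppose σ fixes the branches, σ(t) = α t and σ(e) = β e with
units α, β, and that t does not divide β - 1 and e does not divide α - 1. Then the length of N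
modulo the fixed-point ideal of σ (the multiplicity of x in the residual fixed-point scheme) is j
(s₁ + s₂) + 1, where s₁ = length N/(t, β - 1) and s₂ = length N/(e, α - 1) are the fixed-point
multiplicities of σ at x along the two branches, each lowered by one. -/
theorem result (B : Type u) [CommRing B] [IsDomain B] [IsDiscreteValuationRing B] (π : B) (hπ : Irreducible π)
    (j : ℕ) (hj : 1 ≤ j) (γ : B) (hγ : IsUnit γ)
    (σ : ArLef.NodeAlg B π ≃+* ArLef.NodeAlg B π)
    (hσB : ∀ b : B, σ (algebraMap B (ArLef.NodeAlg B π) b) - algebraMap B (ArLef.NodeAlg B π) b ∈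
      Ideal.span ({algebraMap B (ArLef.NodeAlg B π) (π ^ j)} : Set (ArLef.NodeAlg B π)))
    (hσπ : σ (algebraMap B (ArLef.NodeAlg B π) π) = algebraMap B (ArLef.NodeAlg B π) (π + γ * π ^ j))
    (α β : (ArLef.NodeAlg B π)ˣ) (ht : σ (ArLef.NodeAlg.t π) = (α : ArLef.NodeAlg B π) * ArLef.NodeAlg.t π) (he : σ (ArLef.NodeAlg.e π) = (β : ArLef.NodeAlg B π) * ArLef.NodeAlg.e π)
    (htb : ¬ (ArLef.NodeAlg.t π ∣ (β : ArLef.NodeAlg B π) - 1)) (hea : ¬ (ArLef.NodeAlg.e π ∣ (α : ArLef.NodeAlg B π) - 1)) :
    Module.length (ArLef.NodeAlg B π) (ArLef.NodeAlg B π ⧸ ArLef.fixIdeal σ) =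
      (j : ℕ∞) * (Module.length (ArLef.NodeAlg B π) (ArLef.NodeAlg B π ⧸ Ideal.span ({ArLef.NodeAlg.t π, (β : ArLef.NodeAlg B π) - 1} : Set (ArLef.NodeAlg B π))) +
        Module.length (ArLef.NodeAlg B π) (ArLef.NodeAlg B π ⧸ Ideal.span ({ArLef.NodeAlg.e π, (α : ArLef.NodeAlg B π) - 1} : Set (ArLef.NodeAlg B π)))) + 1 := by
  exact main π hπ j hj γ hγ σ hσB hσπ α β ht he htb hea

end Groth.Agent.S15323
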