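import Groth.Statements.S15325
import Groth.Agent.Lib.Helper23.NodeLen

set_option autoImplicit false
universe u
open ArLef ArLef.NodeAlg

namespace Groth.Agent.S15325

set_option linter.style.haveILetI false
set_option linter.unusedVariables false
set_option linter.unusedSectionVars false
open Groth.Agent.Helper23.NodeFix Groth.Agent.Helper23.NodeLen

theorem main (k : Type u) [Field k]
    (σ : NodeAlg k 0 ≃ₐ[k] NodeAlg k 0) (α β : (NodeAlg k 0)ˣ)
    (ht : σ (NodeAlg.t (0 : k)) = (α : NodeAlg k 0) * NodeAlg.t (0 : k))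
    (he : σ (NodeAlg.e (0 : k)) = (β : NodeAlg k 0) * NodeAlg.e (0 : k)) :
    Module.length (NodeAlg k 0) (NodeAlg k 0 ⧸ fixIdeal σ) + 1 =
      Module.length (NodeAlg k 0) (NodeAlg k 0 ⧸ (fixIdeal σ ⊔ Ideal.span ({NodeAlg.t (0 : k)} : Set (NodeAlg k 0)))) +
        Module.length (NodeAlg k 0) (NodeAlg k 0 ⧸ (fixIdeal σ ⊔ Ideal.span ({NodeAlg.e (0 : k)} : Set (NodeAlg k 0)))) := by
  set t := NodeAlg.t (0 : k) with ht_def
  set e := NodeAlg.e (0 : k) with he_def
  set I := fixIdeal σ with hI_def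
  let a' : NodeAlg k 0 := ((α : NodeAlg k 0) - 1) * t
  let b' : NodeAlg k 0 := ((β : NodeAlg k 0) - 1) * e
  have hσt : σ t - t = a' := by rw [ht]; change _ = ((α : NodeAlg k 0) - 1) * t; ring
  have hσe : σ e - e = b' := by rw [he]; change _ = ((β : NodeAlg k 0) - 1) * e; ring
  have hIx : ∀ x : NodeAlg k 0, σ x - x ∈ I := fun x => Ideal.subset_span ⟨x, rfl⟩
  have hIeq : I = Ideal.span {a', b'} := by
    apply le_antisymm
    · refine fixIdeal_le (σ : NodeAlg k 0 →+* NodeAlg k 0) t e
        (Set.range (algebraMap k (NodeAlg k 0))) (span_te_le_jac 0) (node_decomp 0) _ ?_ ?_ ?_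
      · change σ t - t ∈ _
        rw [hσt]; exact Ideal.subset_span (by simp)
      · change σ e - e ∈ _
        rw [hσe]; exact Ideal.subset_span (by simp)
      · rintro _ ⟨b, rfl⟩
        change σ (algebraMap k (NodeAlg k 0) b) - algebraMap k (NodeAlg k 0) b ∈ _
        rw [σ.commutes, sub_self]
        exact Ideal.zero_mem _
    · rw [Ideal.span_le]
      intro x hx
      simp only [Set.mem_insert_iff, Set.mem_singleton_iff] at hx
      rcases hx with rfl | rfl
      · rw [← hσt]; exact hIx _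
      · rw [← hσe]; exact hIx _
  have hIle : I ≤ Ideal.span {t, e} := by
    rw [hIeq, Ideal.span_le]
    intro x hx
    simp only [Set.mem_insert_iff, Set.mem_singleton_iff] at hx
    rcases hx with rfl | rfl
    · exact Ideal.mul_mem_left _ _ (Ideal.subset_span (by simp))
    · exact Ideal.mul_mem_left _ _ (Ideal.subset_span (by simp))
  have hsup : (I ⊔ Ideal.span {t}) ⊔ (I ⊔ Ideal.span {e}) = Ideal.span {t, e} := by
    apply le_antisymm
    · refine sup_le (sup_le hIle ?_) (sup_le hIle ?_)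
      · exact Ideal.span_mono (by simp)
      · exact Ideal.span_mono (by simp)
    · rw [Ideal.span_le]
      intro x hx
      simp only [Set.mem_insert_iff, Set.mem_singleton_iff] at hx
      rcases hx with rfl | rfl
      · exact Ideal.mem_sup_left (Ideal.mem_sup_right (Ideal.subset_span rfl))
      · exact Ideal.mem_sup_right (Ideal.mem_sup_right (Ideal.subset_span rfl))
  have hinf : (I ⊔ Ideal.span {t}) ⊓ (I ⊔ Ideal.span {e}) = I := by
    apply le_antisymm
    · rintro z ⟨hz1, hz2⟩
      obtain ⟨i₁, hi₁, tu, htu, rfl⟩ := Submodule.mem_sup.1 hz1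
      obtain ⟨i₂, hi₂, ev, hev, h12⟩ := Submodule.mem_sup.1 hz2
      rw [hIeq] at hi₁ hi₂
      obtain ⟨c₁, d₁, rfl⟩ := Ideal.mem_span_pair.1 hi₁
      obtain ⟨c₂, d₂, rfl⟩ := Ideal.mem_span_pair.1 hi₂
      obtain ⟨u, rfl⟩ := Ideal.mem_span_singleton'.1 htu
      obtain ⟨v, rfl⟩ := Ideal.mem_span_singleton'.1 hev
      -- the difference lies in (t) ∩ (e) = 0
      have hmemT : c₁ * a' + u * t - c₂ * a' ∈ Ideal.span ({t} : Set (NodeAlg k 0)) := by
        rw [Ideal.mem_span_singleton']
        exact ⟨c₁ * ((α : NodeAlg k 0) - 1) + u - c₂ * ((α : NodeAlg k 0) - 1), by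
          change _ = c₁ * (((α : NodeAlg k 0) - 1) * t) + u * t - c₂ * (((α : NodeAlg k 0) - 1) * t)
          ring⟩
      have hmemE : c₁ * a' + u * t - c₂ * a' ∈ Ideal.span ({e} : Set (NodeAlg k 0)) := by
        have : c₁ * a' + u * t - c₂ * a' = d₂ * b' + v * e - d₁ * b' := by
          linear_combination -h12
        rw [this, Ideal.mem_span_singleton']
        exact ⟨d₂ * ((β : NodeAlg k 0) - 1) + v - d₁ * ((β : NodeAlg k 0) - 1), by
          change _ = d₂ * (((β : NodeAlg k 0) - 1) * e) + v * e - d₁ * (((β : NodeAlg k 0) - 1) * e)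
          ring⟩
      have hzero : c₁ * a' + u * t - c₂ * a' = 0 := by
        have : c₁ * a' + u * t - c₂ * a' ∈ Ideal.span ({t} : Set (NodeAlg k 0)) ⊓ Ideal.span {e} :=
          ⟨hmemT, hmemE⟩
        rw [inf_te_zero] at this
        exact this
      have : c₁ * a' + d₁ * b' + u * t = c₂ * a' + d₁ * b' := by linear_combination hzero
      rw [this, hIeq]
      exact Ideal.mem_span_pair.2 ⟨c₂, d₁, rfl⟩
    · exact le_inf le_sup_left le_sup_left
  have hmax : (Ideal.span ({t, e} : Set (NodeAlg k 0))).IsMaximal := by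
    apply te_isMaximal (0 : k) not_isUnit_zero
    intro b hb
    have : b = 0 := by
      by_contra h0
      exact hb (isUnit_iff_ne_zero.2 h0)
    have h0 : algebraMap k (NodeAlg k 0) b = 0 := by rw [this]; exact map_zero _
    rw [h0]
    exact Ideal.zero_mem _
  have h1 := length_mv (I ⊔ Ideal.span {t}) (I ⊔ Ideal.span {e})
  rw [hinf, hsup, @length_quot_maximal _ _ (Ideal.span ({t, e} : Set (NodeAlg k 0))) hmax] at h1
  exact h1.symm

/-- Let k be a field, A = k[[t, e]]/(te) the complete local ring of a nodal curve at a node x, and σ a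
k-algebra automorphism of A fixing the two branches, σ(t) = α t and σ(e) = β e with units α, β.
Writing I for the fixed-point ideal of σ (generated by all σ(r) - r), the fixed-point multiplicity
length(A/I) of σ at x and the fixed-point multiplicities length(A/(I + (t))), length(A/(I + (e))) of
the automorphisms induced on the two branches satisfy length(A/I) + 1 = length(A/(I + (t))) +
length(A/(I + (e))), as extended natural numbers (both sides are infinite when σ fixes a branch
pointwise). (The published setting has k algebraically closed.) -/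
theorem result (k : Type u) [Field k]
    (σ : ArLef.NodeAlg k 0 ≃ₐ[k] ArLef.NodeAlg k 0) (α β : (ArLef.NodeAlg k 0)ˣ)
    (ht : σ (ArLef.NodeAlg.t (0 : k)) = (α : ArLef.NodeAlg k 0) * ArLef.NodeAlg.t (0 : k)) (he : σ (ArLef.NodeAlg.e (0 : k)) = (β : ArLef.NodeAlg k 0) * ArLef.NodeAlg.e (0 : k)) :
    Module.length (ArLef.NodeAlg k 0) (ArLef.NodeAlg k 0 ⧸ ArLef.fixIdeal σ) + 1 =
      Module.length (ArLef.NodeAlg k 0) (ArLef.NodeAlg k 0 ⧸ (ArLef.fixIdeal σ ⊔ Ideal.span ({ArLef.NodeAlg.t (0 : k)} : Set (ArLef.NodeAlg k 0)))) +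
        Module.length (ArLef.NodeAlg k 0) (ArLef.NodeAlg k 0 ⧸ (ArLef.fixIdeal σ ⊔ Ideal.span ({ArLef.NodeAlg.e (0 : k)} : Set (ArLef.NodeAlg k 0)))) := by
  exact main k σ α β ht he

end Groth.Agent.S15325
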