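import Groth.Statements.S15329

set_option autoImplicit false
open TensorProduct LaurentPolynomial
universe u v
open CAlg

namespace Groth.Agent.S15329

/-- Let k be a field, E a k-vector space and F an increasing ℤ-indexed filtration of E by subspaces. In
E[T, T⁻¹] = k[T, T⁻¹] ⊗ E the Rees module of (E, F) is the k-span of the elements T^n ⊗ v with v ∈ F
n; it is the module of global sections of the equivariant bundle on the affine line attached to (E,
F), and E[T, T⁻¹] that of its sections away from the origin. For a linear form α on E and an integer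
p, the k[T, T⁻¹]-linear form m ↦ T^p · (id ⊗ α)(m) is the invariant section α of the dual bundle
away from the origin multiplied by T^p, and it extends over the origin exactly when it maps the Rees
module into the polynomial subring k[T]. This happens if and only if α vanishes on F(−p − 1); so the
dual equivariant bundle corresponds to the dual space filtered by the annihilators of the F(−p − 1).
(The published statement has the annihilator of F(−p + 1), over the complex numbers; for E = k with
F n = 0 for n < 0 and F n = E for n ≥ 0 the form with p = 0 and α ≠ 0 maps the Rees module into k[T]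
although α does not vanish on F(1) = E, and the published argument gives the index −p − 1, which
this row states, over any field.) -/
theorem result
    (k : Type u) [Field k] (E : Type v) [AddCommGroup E] [Module k E]
    (F : ℤ → Submodule k E) (hF : Monotone F)
    (α : Module.Dual k E) (p : ℤ) :
    (∀ m ∈ Submodule.span k {x : k[T;T⁻¹] ⊗[k] E | ∃ (n : ℤ) (v : E), v ∈ F n ∧ x = T n ⊗ₜ[k] v},
      T p * (TensorProduct.AlgebraTensorModule.rid k k[T;T⁻¹] k[T;T⁻¹]) (LinearMap.baseChange k[T;T⁻¹] α m)
        ∈ (Polynomial.toLaurent : Polynomial k →+* k[T;T⁻¹]).range) ↔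
    ∀ v ∈ F (-p - 1), α v = 0 := by
  have hΦ : ∀ (n : ℤ) (v : E),
      (TensorProduct.AlgebraTensorModule.rid k k[T;T⁻¹] k[T;T⁻¹])
        (LinearMap.baseChange k[T;T⁻¹] α (T n ⊗ₜ[k] v)) = α v • T n := by
    intro n v
    rw [LinearMap.baseChange_tmul, TensorProduct.AlgebraTensorModule.rid_tmul]
  constructor
  · intro h v hv
    have hm := h (T (-p - 1) ⊗ₜ[k] v) (Submodule.subset_span ⟨-p - 1, v, hv, rfl⟩)
    rw [hΦ] at hm
    obtain ⟨f, hf⟩ := RingHom.mem_range.1 hm
    have hT : (T p * T (-p - 1) * T 1 : k[T;T⁻¹]) = 1 := by
      rw [← T_add, ← T_add]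
      have : p + (-p - 1) + 1 = 0 := by ring
      rw [this, T_zero]
    have h1 : Polynomial.toLaurent (f * Polynomial.X) = Polynomial.toLaurent (Polynomial.C (α v)) := by
      rw [map_mul, hf, Polynomial.toLaurent_X, Polynomial.toLaurent_C,
        LaurentPolynomial.smul_eq_C_mul]
      calc T p * (C (α v) * T (-p - 1)) * T 1 = C (α v) * (T p * T (-p - 1) * T 1) := by ring
        _ = C (α v) := by rw [hT, mul_one]
    have h2 := Polynomial.toLaurent_injective h1
    have h3 := congrArg (fun q => Polynomial.coeff q 0) h2
    simp only [Polynomial.coeff_mul_X_zero, Polynomial.coeff_C_zero] at h3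
    exact h3.symm
  · intro h m hm
    induction hm using Submodule.span_induction with
    | mem x hx =>
      obtain ⟨n, v, hv, rfl⟩ := hx
      rw [hΦ]
      by_cases hpn : 0 ≤ p + n
      · refine RingHom.mem_range.2 ⟨Polynomial.C (α v) * Polynomial.X ^ (p + n).toNat, ?_⟩
        rw [map_mul, Polynomial.toLaurent_C, Polynomial.toLaurent_X_pow, Int.toNat_of_nonneg hpn,
          LaurentPolynomial.smul_eq_C_mul, T_add]
        ring
      · have hle : n ≤ -p - 1 := by omega
        have h0 : α v = 0 := h v (hF hle hv)
        rw [h0, zero_smul, mul_zero]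
        exact Subring.zero_mem _
    | zero =>
      rw [map_zero, map_zero, mul_zero]
      exact Subring.zero_mem _
    | add x y _ _ hx hy =>
      rw [map_add, map_add, mul_add]
      exact Subring.add_mem _ hx hy
    | smul c x _ hx =>
      rw [← algebraMap_smul k[T;T⁻¹] c x, map_smul, map_smul, smul_eq_mul, mul_left_comm]
      refine Subring.mul_mem _ (RingHom.mem_range.2 ⟨Polynomial.C c, ?_⟩) hx
      rw [Polynomial.toLaurent_C, LaurentPolynomial.C_eq_algebraMap]

end Groth.Agent.S15329
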