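import Groth.Statements.S15339
import Groth.Agent.Lib.Helper20.WeilFin2

set_option autoImplicit false
universe u
open CategoryTheory CategoryTheory.Limits AlgebraicGeometry
open VBCurve

namespace Groth.Agent.S15339


theorem result (k : Type u) [Field k] [IsAlgClosed k] (X : Scheme.{u}) [X.Over (Spec (CommRingCat.of k))]
    [IsIntegral X] [IsProper (X ↘ Spec (CommRingCat.of k))] [Smooth (X ↘ Spec (CommRingCat.of k))]
    (hdim : topologicalKrullDim X = 1)
    (L : X.Modules) (hL : PicF.IsInvertible L) :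
    (∃ P Q : Polynomial ℕ, P ≠ Q ∧ Nonempty ((∐ fun i : Fin (P.natDegree + 1) => ∐ fun _ : Fin (P.coeff ↑i) => CohB1.tensorPow L ↑i) ≅
      (∐ fun i : Fin (Q.natDegree + 1) => ∐ fun _ : Fin (Q.coeff ↑i) => CohB1.tensorPow L ↑i))) ↔
    ∃ m : ℕ, 0 < m ∧ Nonempty (CohB1.tensorPow L m ≅ Coh.structureModule X) := by
  constructor
  · rintro ⟨P, Q, hPQ, ⟨φ⟩⟩
    exact Groth.Agent.Helper20.WeilFin.exists_pow_trivial k L hL P Q hPQ φ
  · rintro ⟨m, hm, ⟨e⟩⟩
    refine ⟨(Polynomial.X ^ m : Polynomial ℕ), (Polynomial.X ^ 0 : Polynomial ℕ), ?_, ?_⟩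
    · intro h
      have h2 := congrArg Polynomial.natDegree h
      rw [Polynomial.natDegree_X_pow, Polynomial.natDegree_X_pow] at h2
      omega
    · obtain ⟨a⟩ := Groth.Agent.Helper20.WeilFin.nonempty_iso_X_pow m
        (fun n => CohB1.tensorPow L n)
      obtain ⟨b⟩ := Groth.Agent.Helper20.WeilFin.nonempty_iso_X_pow 0
        (fun n => CohB1.tensorPow L n)
      exact ⟨a ≪≫ e ≪≫ b.symm⟩

end Groth.Agent.S15339
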