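import Groth.Statements.S15340
import Groth.Agent.Lib.Helper20.StableIndec

set_option autoImplicit false
universe u
open CategoryTheory CategoryTheory.Limits AlgebraicGeometry
open VBCurve

namespace Groth.Agent.S15340


theorem result (k : Type u) [Field k] [IsAlgClosed k] (X : Scheme.{u}) [X.Over (Spec (CommRingCat.of k))]
    [IsIntegral X] [IsProper (X ↘ Spec (CommRingCat.of k))] [Smooth (X ↘ Spec (CommRingCat.of k))]
    (hdim : topologicalKrullDim X = 1)
    (r : ℕ) (hr : 0 < r) (E : X.Modules) (hE : FlatMod.IsFinLocFreeOfRank r E)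
    (hEss : ModFun.IsSlopeSemistable k X E r) (hEst : ModFun.IsSlopeStable k X E r) :
    ¬ IsZero E ∧ ∀ (E₁ E₂ : X.Modules), Nonempty (E ≅ E₁ ⊞ E₂) → IsZero E₁ ∨ IsZero E₂ := by
  refine ⟨Groth.Agent.Helper20.VBIndec.not_isZero_of_isFinLocFreeOfRank r hr E hE, ?_⟩
  rintro E₁ E₂ ⟨φ⟩
  exact Groth.Agent.Helper20.RankFn.indec_of_stable k r E hE hEst E₁ E₂ φ

end Groth.Agent.S15340
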