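import Groth.Statements.S15347
import Mathlib

set_option autoImplicit false
universe u
open CategoryTheory CategoryTheory.Limits AlgebraicGeometry
open Mor

namespace Groth.Agent.S15347

/-- a morphism from a reduced scheme landing set-theoretically in an immersion factors through it -/
theorem exists_lift_of_range_subset {X Y T : Scheme.{u}} (f : Y ⟶ X) [IsImmersion f] (s : T ⟶ X)
    [IsReduced T] (h : Set.range s ⊆ Set.range f) : ∃ l : T ⟶ Y, l ≫ f = s := by
  have hsurj : Surjective (pullback.fst s f) := by
    constructor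
    intro t
    obtain ⟨y, hy⟩ := h ⟨t, rfl⟩
    obtain ⟨z, hz, -⟩ := Scheme.Pullback.exists_preimage_pullback (f := s) (g := f) t y hy.symm
    exact ⟨z, hz⟩
  have hcl : IsClosedImmersion (pullback.fst s f) := by
    apply IsClosedImmersion.of_isPreimmersion
    rw [hsurj.surj.range_eq]
    exact isClosed_univ
  have hiso : IsIso (pullback.fst s f) := isIso_of_isClosedImmersion_of_surjective _
  refine ⟨inv (pullback.fst s f) ≫ pullback.snd s f, ?_⟩
  rw [Category.assoc, ← pullback.condition, IsIso.inv_hom_id_assoc]

theorem part1 {X Y : Scheme.{u}} (f : Y ⟶ X) [IsImmersion f] (S : ValuativeCommSq f)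
    (h0 : ∃ l₀ : Spec (CommRingCat.of (IsLocalRing.ResidueField S.R)) ⟶ Y,
            l₀ ≫ f = Spec.map (CommRingCat.ofHom (IsLocalRing.residue S.R)) ≫ S.i₂) :
    S.commSq.HasLift := by
  obtain ⟨l₀, hl₀⟩ := h0
  obtain ⟨U, Z, hU, hZ, hUZ⟩ := f.isLocallyClosed_range
  have hrange : Set.range S.i₂ ⊆ Set.range f := by
    rintro _ ⟨t, rfl⟩
    rw [hUZ]
    constructor
    · -- open set containing the image of the closed point
      have hm : S.i₂ (IsLocalRing.closedPoint S.R) ∈ U := by
        have : S.i₂ (IsLocalRing.closedPoint S.R) ∈ Set.range f := by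
          have hx := congrArg (fun g => g.base (IsLocalRing.closedPoint (IsLocalRing.ResidueField S.R))) hl₀
          simp only [Scheme.Hom.comp_base, TopCat.comp_app] at hx
          have hcp : (Spec.map (CommRingCat.ofHom (IsLocalRing.residue S.R))).base
              (IsLocalRing.closedPoint (IsLocalRing.ResidueField S.R)) = IsLocalRing.closedPoint S.R := by
            exact IsLocalRing.comap_closedPoint (IsLocalRing.residue S.R)
          rw [hcp] at hx
          exact ⟨_, hx⟩
        rw [hUZ] at this
        exact this.1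
      have hspec : t ⤳ IsLocalRing.closedPoint S.R := IsLocalRing.specializes_closedPoint t
      have := (hspec.map S.i₂.continuous)
      exact this.mem_open hU hm
    · set η : Spec (CommRingCat.of S.R) :=
        (Spec.map (CommRingCat.ofHom (algebraMap S.R S.K))).base (IsLocalRing.closedPoint S.K) with hη
      have hg : S.i₂ η ∈ Z := by
        have hx := congrArg (fun g => g.base (IsLocalRing.closedPoint S.K)) S.commSq.w
        simp only [Scheme.Hom.comp_base, TopCat.comp_app] at hx
        have : S.i₂ η ∈ Set.range f := ⟨_, hx⟩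
        rw [hUZ] at this
        exact this.2
      have hspec : η ⤳ t := by
        refine (PrimeSpectrum.le_iff_specializes η t).mp ?_
        change Ideal.comap (algebraMap S.R S.K) (IsLocalRing.closedPoint S.K).asIdeal ≤ t.asIdeal
        intro x hx
        rw [Ideal.mem_comap] at hx
        have hx0 : algebraMap S.R S.K x = 0 := by
          by_contra hne
          have hu : IsUnit (algebraMap S.R S.K x) := isUnit_iff_ne_zero.mpr hne
          exact (IsLocalRing.closedPoint S.K).isPrime.ne_top (Ideal.eq_top_of_isUnit_mem _ hx hu)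
        have : x = 0 := (IsFractionRing.injective S.R S.K) (by rw [hx0, map_zero])
        rw [this]; exact t.asIdeal.zero_mem
      exact (hspec.map S.i₂.continuous).mem_closed hZ hg
  have : IsReduced (Spec (CommRingCat.of S.R)) := inferInstance
  obtain ⟨l, hl⟩ := exists_lift_of_range_subset f S.i₂ hrange
  refine ⟨⟨⟨l, ?_, hl⟩⟩⟩
  rw [← cancel_mono f, Category.assoc, hl, S.commSq.w]

theorem part2 {X Y : Scheme.{u}} (f : Y ⟶ X) [IsImmersion f] (A : Type u) [CommRing A] [IsDomain A]
    (s : Spec (CommRingCat.of A) ⟶ X) (D : Set ↥(Spec (CommRingCat.of A))) (hD : Dense D)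
    (hl : ∀ p ∈ D, ∃ l : Spec ((Spec (CommRingCat.of A)).residueField p) ⟶ Y,
            l ≫ f = (Spec (CommRingCat.of A)).fromSpecResidueField p ≫ s) :
    ∃ U : (Spec (CommRingCat.of A)).Opens, (U : Set ↥(Spec (CommRingCat.of A))).Nonempty ∧
      ∃ l : (U : Scheme.{u}) ⟶ Y, l ≫ f = U.ι ≫ s := by
  obtain ⟨V, Z, hV, hZ, hVZ⟩ := f.isLocallyClosed_range
  have hmem : ∀ p ∈ D, s p ∈ Set.range f := by
    intro p hp
    obtain ⟨l, hl⟩ := hl p hp
    let y : Spec ((Spec (CommRingCat.of A)).residueField p) :=
      IsLocalRing.closedPoint ((Spec (CommRingCat.of A)).residueField p)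
    have hx := congrArg (fun g => g.base y) hl
    simp only [Scheme.Hom.comp_base, TopCat.comp_app] at hx
    have h2 : ((Spec (CommRingCat.of A)).fromSpecResidueField p) y = p :=
      Scheme.fromSpecResidueField_apply p y
    refine ⟨l y, ?_⟩
    rw [hx, h2]
  have hne : D.Nonempty := hD.nonempty
  let U : (Spec (CommRingCat.of A)).Opens := s ⁻¹ᵁ ⟨V, hV⟩
  have hDU : D ⊆ (U : Set ↥(Spec (CommRingCat.of A))) := by
    intro p hp
    have := hmem p hp
    rw [hVZ] at this
    exact this.1
  have hZall : ∀ t : Spec (CommRingCat.of A), s t ∈ Z := by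
    have hcl : IsClosed (s ⁻¹' Z) := hZ.preimage s.continuous
    have hDZ : D ⊆ s ⁻¹' Z := by
      intro p hp
      have := hmem p hp
      rw [hVZ] at this
      exact this.2
    have := closure_minimal hDZ hcl
    rw [hD.closure_eq] at this
    intro t
    exact this (Set.mem_univ t)
  refine ⟨U, hne.mono hDU, ?_⟩
  have hrange : Set.range (U.ι ≫ s) ⊆ Set.range f := by
    rintro _ ⟨u, rfl⟩
    rw [hVZ]
    refine ⟨?_, hZall _⟩
    exact u.2
  have : IsReduced (U : Scheme.{u}) := inferInstance
  exact exists_lift_of_range_subset f (U.ι ≫ s) hrange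

theorem main {X Y : Scheme.{u}} (f : Y ⟶ X) [IsImmersion f] :
    (∀ S : ValuativeCommSq f,
        (∃ l₀ : Spec (CommRingCat.of (IsLocalRing.ResidueField S.R)) ⟶ Y,
            l₀ ≫ f = Spec.map (CommRingCat.ofHom (IsLocalRing.residue S.R)) ≫ S.i₂) →
          S.commSq.HasLift) ∧
      ∀ (A : Type u) [CommRing A] [IsDomain A] (s : Spec (CommRingCat.of A) ⟶ X) (D : Set ↥(Spec (CommRingCat.of A))),
        Dense D →
        (∀ p ∈ D, ∃ l : Spec ((Spec (CommRingCat.of A)).residueField p) ⟶ Y,
            l ≫ f = (Spec (CommRingCat.of A)).fromSpecResidueField p ≫ s) →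
          ∃ U : (Spec (CommRingCat.of A)).Opens, (U : Set ↥(Spec (CommRingCat.of A))).Nonempty ∧
            ∃ l : (U : Scheme.{u}) ⟶ Y, l ≫ f = U.ι ≫ s :=
  ⟨fun S h0 => part1 f S h0, fun A _ _ s D hD hl => part2 f A s D hD hl⟩

/-- Let f : Y ⟶ X be an immersion of schemes. Then: for every valuation ring A with fraction field K and
every commutative square Spec K ⟶ Y, Spec A ⟶ X over f such that some morphism from the spectrum of
the residue field of A to Y lies over Spec A ⟶ X, the square admits a lift; and for every integral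
domain A and every morphism s : Spec A ⟶ X such that the points of a dense subset of Spec A lift to
Y (the residue field of each such point maps to Y over s), there is a nonempty open subscheme U of
Spec A with a morphism U ⟶ Y over s. (The published statement is for a representable, locally
finitely presented morphism of algebraic stacks with locally Noetherian target and a quasi-compact
immersion, and also lists that f is a monomorphism; this row is the case of schemes, for any
immersion and any target.) -/
theorem result {X Y : Scheme.{u}} (f : Y ⟶ X) [IsImmersion f] :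
    (∀ S : ValuativeCommSq f,
        (∃ l₀ : Spec (CommRingCat.of (IsLocalRing.ResidueField S.R)) ⟶ Y,
            l₀ ≫ f = Spec.map (CommRingCat.ofHom (IsLocalRing.residue S.R)) ≫ S.i₂) →
          S.commSq.HasLift) ∧
      ∀ (A : Type u) [CommRing A] [IsDomain A] (s : Spec (CommRingCat.of A) ⟶ X) (D : Set ↥(Spec (CommRingCat.of A))),
        Dense D →
        (∀ p ∈ D, ∃ l : Spec ((Spec (CommRingCat.of A)).residueField p) ⟶ Y,
            l ≫ f = (Spec (CommRingCat.of A)).fromSpecResidueField p ≫ s) →
          ∃ U : (Spec (CommRingCat.of A)).Opens, (U : Set ↥(Spec (CommRingCat.of A))).Nonempty ∧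
            ∃ l : (U : Scheme.{u}) ⟶ Y, l ≫ f = U.ι ≫ s := by
  exact main f

end Groth.Agent.S15347
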