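import Groth.Statements.S15354
import Mathlib

set_option autoImplicit false
universe u
open CategoryTheory CategoryTheory.Limits AlgebraicGeometry
open Mor

namespace Groth.Agent.S15354

/-- Let f : Y ⟶ X be a morphism of schemes, A a valuation ring with fraction field K and residue field
k, and ξ, η : Spec A ⟶ Y two A-points of Y over the same A-point of X. If ξ and η restrict to the
same K-point and to the same k-point of Y, then ξ = η. (The published statement is an equivalence,
for algebraic spaces locally of finite presentation over a Noetherian scheme, between local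
separatedness of f and conditions (a), (b); this row is the necessity of (a) in the case of schemes,
where no hypothesis on f is needed.) -/
theorem result {X Y : Scheme.{u}} (f : Y ⟶ X)
    (A : Type u) [CommRing A] [IsDomain A] [ValuationRing A] (K : Type u) [Field K] [Algebra A K]
    [IsFractionRing A K] (ξ η : Spec (CommRingCat.of A) ⟶ Y) (hf : ξ ≫ f = η ≫ f)
    (hK : Spec.map (CommRingCat.ofHom (algebraMap A K)) ≫ ξ = Spec.map (CommRingCat.ofHom (algebraMap A K)) ≫ η)
    (hk : Spec.map (CommRingCat.ofHom (IsLocalRing.residue A)) ≫ ξ =
      Spec.map (CommRingCat.ofHom (IsLocalRing.residue A)) ≫ η) :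
    ξ = η := by
  have hcp : ξ (IsLocalRing.closedPoint A) = η (IsLocalRing.closedPoint A) := by
    have h1 : (Spec.map (CommRingCat.ofHom (IsLocalRing.residue A)))
        (IsLocalRing.closedPoint (IsLocalRing.ResidueField A)) = IsLocalRing.closedPoint A :=
      IsLocalRing.comap_closedPoint (IsLocalRing.residue A)
    have h2 := congrArg (fun g : Spec (CommRingCat.of (IsLocalRing.ResidueField A)) ⟶ Y =>
      g (IsLocalRing.closedPoint (IsLocalRing.ResidueField A))) hk
    simp only [Scheme.Hom.comp_apply] at h2
    rw [h1] at h2
    exact h2
  have hmono : Mono (CommRingCat.ofHom (algebraMap A K)) :=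
    ConcreteCategory.mono_of_injective _ (IsFractionRing.injective A K)
  have key : Scheme.stalkClosedPointTo ξ =
      (Y.presheaf.stalkCongr (.of_eq hcp)).hom ≫ Scheme.stalkClosedPointTo η := by
    rw [← cancel_mono (CommRingCat.ofHom (algebraMap A K))]
    apply Spec.map_injective
    rw [← cancel_mono (Y.fromSpecStalk (ξ (IsLocalRing.closedPoint A)))]
    rw [Spec.map_comp, Category.assoc, Scheme.Spec_stalkClosedPointTo_fromSpecStalk, hK]
    rw [Spec.map_comp, Spec.map_comp, Category.assoc, Category.assoc, TopCat.Presheaf.stalkCongr_hom,
      Scheme.SpecMap_stalkSpecializes_fromSpecStalk, Scheme.Spec_stalkClosedPointTo_fromSpecStalk]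
  rw [← Scheme.Spec_stalkClosedPointTo_fromSpecStalk ξ, ← Scheme.Spec_stalkClosedPointTo_fromSpecStalk η,
    key, Spec.map_comp, Category.assoc, TopCat.Presheaf.stalkCongr_hom,
    Scheme.SpecMap_stalkSpecializes_fromSpecStalk]

end Groth.Agent.S15354
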