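import Groth.Statements.S15355
import Mathlib

set_option autoImplicit false
universe u
open CategoryTheory CategoryTheory.Limits AlgebraicGeometry
open Mor

namespace Groth.Agent.S15355

theorem aux {Y : Scheme.{u}} (S : Scheme.{u}) [IsIntegral S] (ξ η : S ⟶ Y)
    (D : Set S) (hD : Dense D)
    (hpt : ∀ p ∈ D, S.fromSpecResidueField p ≫ ξ = S.fromSpecResidueField p ≫ η) :
    ∃ U : S.Opens, (U : Set S).Nonempty ∧ U.ι ≫ ξ = U.ι ≫ η := by
  obtain ⟨p, hp⟩ := hD.nonempty
  -- ξ p = η p
  have hval : ∀ p ∈ D, ξ p = η p := by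
    intro p hp
    have h := hpt p hp
    obtain ⟨pt⟩ : Nonempty (Spec (S.residueField p)) := inferInstance
    have h2 := congrArg (fun g : Spec (S.residueField p) ⟶ Y => g pt) h
    simpa using h2
  obtain ⟨V, hVaff, hyV, -⟩ := Y.isBasis_affineOpens.exists_subset_of_mem_open
    (Set.mem_univ (ξ p)) isOpen_univ
  obtain ⟨V, rfl⟩ : ∃ V' : Y.Opens, V = (V' : Set Y) := by
    obtain ⟨V', hV', rfl⟩ := hVaff
    exact ⟨V', rfl⟩
  have hVaff' : IsAffineOpen V := by
    obtain ⟨V', hV', hV'V⟩ := hVaff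
    have : V' = V := SetLike.coe_injective hV'V
    rw [← this]; exact hV'
  have : IsAffine V.toScheme := hVaff'
  let W : S.Opens := ξ ⁻¹ᵁ V ⊓ η ⁻¹ᵁ V
  have hpW : p ∈ W := ⟨hyV, by show η p ∈ V; rw [← hval p hp]; exact hyV⟩
  refine ⟨W, ⟨p, hpW⟩, ?_⟩
  have hrξ : Set.range (W.ι ≫ ξ) ⊆ Set.range V.ι := by
    rw [Scheme.Opens.range_ι]
    rintro _ ⟨x, rfl⟩
    have hx : W.ι x ∈ W := by
      have := Set.mem_range_self (f := W.ι) x
      rw [Scheme.Opens.range_ι] at this
      exact this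
    exact hx.1
  have hrη : Set.range (W.ι ≫ η) ⊆ Set.range V.ι := by
    rw [Scheme.Opens.range_ι]
    rintro _ ⟨x, rfl⟩
    have hx : W.ι x ∈ W := by
      have := Set.mem_range_self (f := W.ι) x
      rw [Scheme.Opens.range_ι] at this
      exact this
    exact hx.2
  let ξ' : W.toScheme ⟶ V.toScheme := IsOpenImmersion.lift V.ι (W.ι ≫ ξ) hrξ
  let η' : W.toScheme ⟶ V.toScheme := IsOpenImmersion.lift V.ι (W.ι ≫ η) hrη
  have hξ' : ξ' ≫ V.ι = W.ι ≫ ξ := IsOpenImmersion.lift_fac _ _ _
  have hη' : η' ≫ V.ι = W.ι ≫ η := IsOpenImmersion.lift_fac _ _ _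
  suffices h : ξ' = η' by rw [← hξ', ← hη', h]
  apply ext_of_isAffine
  ext b
  rw [← sub_eq_zero]
  set s : Γ(W.toScheme, ⊤) := ξ'.appTop b - η'.appTop b with hs
  apply eq_zero_of_basicOpen_eq_bot
  by_contra hne
  -- nonempty open
  have hne' : ((W.toScheme.basicOpen s : W.toScheme.Opens) : Set W.toScheme).Nonempty := by
    rw [Set.nonempty_iff_ne_empty]
    intro h
    apply hne
    ext x
    simp [h]
  obtain ⟨x0, hx0⟩ := hne'
  let O : S.Opens := W.ι ''ᵁ (W.toScheme.basicOpen s)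
  have hO : (O : Set S).Nonempty := ⟨W.ι x0, ⟨x0, hx0, rfl⟩⟩
  obtain ⟨p', hp'O, hp'D⟩ := hD.inter_open_nonempty O O.isOpen hO
  obtain ⟨x, hx, rfl⟩ := hp'O
  -- the point
  have hrp : Set.range (S.fromSpecResidueField (W.ι x)) ⊆ Set.range W.ι := by
    rw [Scheme.range_fromSpecResidueField]
    rintro _ rfl
    exact ⟨x, rfl⟩
  let ιp : Spec (S.residueField (W.ι x)) ⟶ W.toScheme :=
    IsOpenImmersion.lift W.ι (S.fromSpecResidueField (W.ι x)) hrp
  have hιp : ιp ≫ W.ι = S.fromSpecResidueField (W.ι x) := IsOpenImmersion.lift_fac _ _ _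
  have heq : ιp ≫ ξ' = ιp ≫ η' := by
    rw [← cancel_mono V.ι, Category.assoc, Category.assoc, hξ', hη', reassoc_of% hιp,
      reassoc_of% hιp]
    exact hpt _ hp'D
  have hs0 : ιp.appTop s = 0 := by
    rw [hs, map_sub, sub_eq_zero]
    have h1 := congrArg (fun g => (Scheme.Hom.appTop g) b) heq
    simp only [Scheme.Hom.comp_appTop, CommRingCat.comp_apply] at h1
    exact h1
  have hpre : ιp ⁻¹ᵁ (W.toScheme.basicOpen s) = ⊥ := by
    rw [Scheme.preimage_basicOpen_top, hs0, Scheme.basicOpen_zero]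
  obtain ⟨pt⟩ : Nonempty (Spec (S.residueField (W.ι x))) := inferInstance
  have hpt_x : ιp pt = x := by
    apply W.ι.isOpenEmbedding.injective
    have := congrArg (fun g : Spec (S.residueField (W.ι x)) ⟶ S => g pt) hιp
    simp only [Scheme.fromSpecResidueField_apply] at this
    exact this
  have : pt ∈ ιp ⁻¹ᵁ (W.toScheme.basicOpen s) := by
    show ιp pt ∈ W.toScheme.basicOpen s
    rw [hpt_x]; exact hx
  rw [hpre] at this
  exact this

/-- Let f : Y ⟶ X be a morphism of schemes, A an integral domain and ξ, η : Spec A ⟶ Y two A-points of Y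
over the same A-point of X. If ξ and η induce the same κ(p)-point of Y at every point p of some
dense subset of Spec A, then ξ and η agree on a nonempty open subscheme of Spec A. (The published
statement is an equivalence, for algebraic spaces locally of finite presentation over a Noetherian
scheme, between local separatedness of f and conditions (a), (b); this row is the necessity of (b)
in the case of schemes, where no hypothesis on f is needed.) -/
theorem result {X Y : Scheme.{u}} (f : Y ⟶ X)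
    (A : Type u) [CommRing A] [IsDomain A] (ξ η : Spec (CommRingCat.of A) ⟶ Y) (hf : ξ ≫ f = η ≫ f)
    (D : Set ↥(Spec (CommRingCat.of A))) (hD : Dense D)
    (hpt : ∀ p ∈ D, (Spec (CommRingCat.of A)).fromSpecResidueField p ≫ ξ =
      (Spec (CommRingCat.of A)).fromSpecResidueField p ≫ η) :
    ∃ U : (Spec (CommRingCat.of A)).Opens, (U : Set ↥(Spec (CommRingCat.of A))).Nonempty ∧ U.ι ≫ ξ = U.ι ≫ η := by
  exact aux (Spec (CommRingCat.of A)) ξ η D hD hpt

end Groth.Agent.S15355
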