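import Groth.Statements.S15362
import Mathlib

set_option autoImplicit false
universe u v w
open CAlg

namespace Groth.Agent.S15362

open Polynomial in
/-- polynomials `T i` in the unknown `s`. -/
noncomputable def Tpoly {L : Type*} [Field L] (p : ℕ) (c : ℕ → L) : ℕ → Polynomial L
  | 0 => C (c 0) * X - 1
  | (i+1) => (Tpoly p c i) ^ p + C (c (i+1)) * X

open Polynomial in
theorem core (p : ℕ) [Fact p.Prime] (L : Type u) [Field L] [IsAlgClosed L] [CharP L p]
    (M : Type w) [AddCommGroup M] [Module L M] (ψ : M → M)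
    (hadd : ∀ x y, ψ (x + y) = ψ x + ψ y) (hsmul : ∀ (c : L) x, ψ (c • x) = c ^ p • ψ x)
    (v : M) (n : ℕ) (c : ℕ → L)
    (hrel : ψ^[n] v = ∑ i ∈ Finset.range n, c i • ψ^[i] v) : ∃ x, ψ x - x = v := by
  have hzero : ψ 0 = 0 := by
    have := hadd 0 0
    simpa using this
  have hsum : ∀ (s : Finset ℕ) (f : ℕ → M), ψ (∑ i ∈ s, f i) = ∑ i ∈ s, ψ (f i) := by
    intro s f
    induction s using Finset.induction_on with
    | empty => simpa using hzero
    | insert a s ha ih => rw [Finset.sum_insert ha, Finset.sum_insert ha, hadd, ih]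
  rcases n with _ | n'
  · refine ⟨0, ?_⟩
    simp only [Function.iterate_zero, id_eq, Finset.range_zero, Finset.sum_empty] at hrel
    rw [hrel, hzero, sub_zero]
  · -- the polynomial G
    set G : L[X] := (Tpoly p c n') ^ p - X with hG
    have hp0 : (p : L) = 0 := CharP.cast_eq_zero _ p
    have hder : derivative G = -1 := by
      rw [hG, derivative_sub, derivative_pow, derivative_X, hp0]
      simp
    have hdeg : G.degree ≠ 0 := by
      intro h0
      have := eq_C_of_degree_eq_zero h0
      rw [this, derivative_C] at hder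
      have : (1 : L[X]) = 0 := by
        have := congrArg Neg.neg hder
        simpa using this.symm
      exact one_ne_zero this
    obtain ⟨s, hs⟩ := IsAlgClosed.exists_root G hdeg
    set t : ℕ → L := fun i => (Tpoly p c i).eval s with ht
    have ht0 : t 0 = c 0 * s - 1 := by simp [ht, Tpoly]
    have htsucc : ∀ i, t (i + 1) = (t i) ^ p + c (i + 1) * s := by
      intro i
      simp [ht, Tpoly]
    have hts : (t n') ^ p = s := by
      have : G.eval s = 0 := hs
      rw [hG, eval_sub, eval_pow, eval_X, sub_eq_zero] at this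
      exact this
    set w : ℕ → M := fun i => ψ^[i] v with hw
    have hwsucc : ∀ i, ψ (w i) = w (i + 1) := by
      intro i
      simp only [hw, Function.iterate_succ_apply']
    refine ⟨∑ i ∈ Finset.range (n' + 1), t i • w i, ?_⟩
    rw [hsum]
    have h1 : ∑ i ∈ Finset.range (n' + 1), ψ (t i • w i)
        = ∑ i ∈ Finset.range n', (t i) ^ p • w (i + 1) + s • w (n' + 1) := by
      rw [Finset.sum_range_succ]
      congr 1
      · apply Finset.sum_congr rfl
        intro i _
        rw [hsmul, hwsucc]
      · rw [hsmul, hwsucc, hts]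
    have h2 : w (n' + 1) = c 0 • w 0 + ∑ i ∈ Finset.range n', c (i + 1) • w (i + 1) := by
      show ψ^[n' + 1] v = _
      rw [hrel, Finset.sum_range_succ', add_comm]
    have h3 : ∑ i ∈ Finset.range (n' + 1), t i • w i
        = t 0 • w 0 + ∑ i ∈ Finset.range n', t (i + 1) • w (i + 1) := by
      rw [Finset.sum_range_succ', add_comm]
    rw [h1, h2, h3, smul_add, Finset.smul_sum]
    have h4 : ∀ i ∈ Finset.range n', t (i + 1) • w (i + 1)
        = (t i) ^ p • w (i + 1) + s • c (i + 1) • w (i + 1) := by
      intro i _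
      rw [htsucc, add_smul, smul_smul, mul_comm]
    rw [Finset.sum_congr rfl h4, Finset.sum_add_distrib, ht0, sub_smul, smul_smul, one_smul,
      mul_comm (c 0) s]
    show _ = w 0
    abel

theorem red (p : ℕ) [Fact p.Prime]
    (L : Type u) [Field L] [CharP L p]
    (R : Type v) [CommRing R] [Algebra L R] [Algebra.IsIntegral L R] [ExpChar R p]
    (M : Type w) [AddCommGroup M] [Module R M] [Module.Finite R M]
    [Module L M] [IsScalarTower L R M]
    (φ : M →ₛₗ[frobenius R p] M) (v : M) :
    ∃ (n : ℕ) (c : ℕ → L), φ^[n] v = ∑ i ∈ Finset.range n, c i • φ^[i] v := by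
  classical
  obtain ⟨k, e, he⟩ := Module.Finite.exists_fin (R := R) (M := M)
  have hmem : ∀ x : M, ∃ a : Fin k → R, ∑ i, a i • e i = x := by
    intro x
    have : x ∈ Submodule.span R (Set.range e) := by rw [he]; trivial
    exact (Submodule.mem_span_range_iff_exists_fun R).mp this
  choose a ha using fun j => hmem (φ (e j))
  obtain ⟨b, hb⟩ := hmem v
  set S : Set R := Set.range (fun ij : Fin k × Fin k => a ij.2 ij.1) ∪ Set.range b with hS
  have hSfin : S.Finite := (Set.finite_range _).union (Set.finite_range _)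
  set R₀ := Algebra.adjoin L S with hR₀
  have hfg : (Subalgebra.toSubmodule R₀).FG :=
    fg_adjoin_of_finite hSfin (fun x _ => Algebra.IsIntegral.isIntegral x)
  have haR₀ : ∀ i j, a j i ∈ R₀ := fun i j =>
    Algebra.subset_adjoin (Or.inl ⟨(i, j), rfl⟩)
  have hbR₀ : ∀ j, b j ∈ R₀ := fun j => Algebra.subset_adjoin (Or.inr ⟨j, rfl⟩)
  let ℓ : Fin k → R →ₗ[L] M := fun j => (LinearMap.toSpanSingleton R M (e j)).restrictScalars L
  have hℓ : ∀ j r, ℓ j r = r • e j := fun j r => rfl
  set N : Submodule L M := ⨆ j, (Subalgebra.toSubmodule R₀).map (ℓ j) with hN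
  have hNfg : N.FG := Submodule.fg_iSup _ (fun j => hfg.map _)
  have hmemN : ∀ (r : R) (j : Fin k), r ∈ R₀ → r • e j ∈ N := by
    intro r j hr
    apply Submodule.mem_iSup_of_mem j
    exact ⟨r, hr, rfl⟩
  have hNφ : ∀ x ∈ N, φ x ∈ N := by
    intro x hx
    induction hx using Submodule.iSup_induction' with
    | mem j x hx =>
      obtain ⟨r, hr, rfl⟩ := hx
      rw [hℓ, φ.map_smulₛₗ, ← ha j, Finset.smul_sum]
      apply Submodule.sum_mem
      intro i _
      rw [smul_smul]
      apply hmemN
      apply R₀.mul_mem _ (haR₀ i j)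
      rw [frobenius_def]
      exact R₀.pow_mem hr p
    | zero => rw [map_zero]; exact N.zero_mem
    | add x y _ _ hx hy => rw [map_add]; exact N.add_mem hx hy
  have hvN : v ∈ N := by
    rw [← hb]
    apply Submodule.sum_mem
    intro j _
    exact hmemN _ _ (hbR₀ j)
  have hwN : ∀ i, φ^[i] v ∈ N := by
    intro i
    induction i with
    | zero => simpa using hvN
    | succ i ih => rw [Function.iterate_succ_apply']; exact hNφ _ ih
  let W : ℕ → Submodule L M := fun r => Submodule.span L (Set.range (fun i : Fin r => φ^[i] v))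
  have hWmono : Monotone W := by
    intro r r' hrr'
    apply Submodule.span_mono
    rintro _ ⟨i, rfl⟩
    exact ⟨⟨i.1, lt_of_lt_of_le i.2 hrr'⟩, rfl⟩
  have : IsNoetherian L N := isNoetherian_of_fg_of_noetherian N hNfg
  let f : ℕ →o Submodule L N :=
    ⟨fun r => (W r).comap N.subtype, fun r r' hrr' => Submodule.comap_mono (hWmono hrr')⟩
  obtain ⟨n, hn⟩ := monotone_stabilizes_iff_noetherian.mpr inferInstance f
  have h1 : φ^[n] v ∈ W (n + 1) := Submodule.subset_span ⟨⟨n, Nat.lt_succ_self n⟩, rfl⟩
  have h2 : (⟨φ^[n] v, hwN n⟩ : N) ∈ f (n + 1) := h1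
  rw [← hn (n + 1) (Nat.le_succ n)] at h2
  have h3 : φ^[n] v ∈ W n := h2
  obtain ⟨c, hc⟩ := (Submodule.mem_span_range_iff_exists_fun L).mp h3
  refine ⟨n, fun i => if h : i < n then c ⟨i, h⟩ else 0, ?_⟩
  rw [← hc, ← Fin.sum_univ_eq_sum_range (fun i => (if h : i < n then c ⟨i, h⟩ else 0) • φ^[i] v) n]
  apply Finset.sum_congr rfl
  intro i _
  simp [i.2]

/-- For an algebraically closed field L of characteristic p > 0, a commutative L-algebra R integral over
L, and a finitely presented R-module M carrying an additive endomorphism φ with φ(r·m) = r^p·φ(m)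
for r ∈ R, m ∈ M, the map m ↦ φ(m) − m is onto. (R is taken of exponential characteristic p so that
its Frobenius is a ring endomorphism; for a non-zero L-algebra this is automatic.) -/
theorem result (p : ℕ) [Fact p.Prime]
    (L : Type u) [Field L] [IsAlgClosed L] [CharP L p]
    (R : Type v) [CommRing R] [Algebra L R] [Algebra.IsIntegral L R] [ExpChar R p]
    (M : Type w) [AddCommGroup M] [Module R M] [Module.FinitePresentation R M]
    (φ : M →ₛₗ[frobenius R p] M) :
    Function.Surjective fun m : M => φ m - m := by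
  intro m
  letI : Module L M := Module.compHom M (algebraMap L R)
  have hdef : ∀ (a : L) (x : M), a • x = (algebraMap L R a) • x := fun _ _ => rfl
  haveI : IsScalarTower L R M := ⟨fun a r x => by
    rw [hdef, Algebra.smul_def, mul_smul]⟩
  obtain ⟨n, c, hrel⟩ := red p L R M φ m
  have hsmul : ∀ (c : L) (x : M), φ (c • x) = c ^ p • φ x := by
    intro c x
    rw [hdef, φ.map_smulₛₗ, frobenius_def, hdef, map_pow]
  obtain ⟨x, hx⟩ := core p L M (fun x => φ x) (map_add φ) hsmul m n c hrel
  exact ⟨x, hx⟩

end Groth.Agent.S15362
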