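import Groth.Statements.S15363
import Groth.Agent.Lib.Helper23.SekInj

set_option autoImplicit false
universe u
open CategoryTheory AlgebraicGeometry
open SekSuwa

namespace Groth.Agent.S15363

/-- Let R be an integral domain, p a prime and λ ∈ R a non-zero element with λ^p dividing (1 + λX)^p −
1, so that the congruence group scheme G_λ = Spec R[T]/(P_λ(T)) of level λ and its homomorphism θ_λ
: G_λ → μ_p, X ↦ 1 + λT, are defined. For every scheme G flat over Spec R, composition with θ_λ is
injective on R-morphisms G → G_λ; in particular θ_λ induces an injective map from the homomorphisms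
G → G_λ of a flat R-group scheme G to its homomorphisms G → μ_p. (The published statement is over
the ring of integers of an algebraic closure of a complete discretely valued field of mixed
characteristic, for finite flat commutative group schemes killed by p; the published argument, that
θ_λ is an isomorphism on the generic fibre and G is flat, gives the form stated here.) -/
theorem result (R : Type u) [CommRing R] [IsDomain R]
    (p : ℕ) [Fact p.Prime] (lam : R) (h : SekSuwa.DivCond lam p)
    (G : Over (Spec (CommRingCat.of R))) [Flat G.hom]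
    (f g : G ⟶ SekSuwa.GK R lam p h)
    (hfg : f ≫ SekSuwa.alphaN R lam p h = g ≫ SekSuwa.alphaN R lam p h) : f = g := by
  have hnz : lam ∈ nonZeroDivisors R := h.nzd
  apply Over.OverMorphism.ext
  haveI : IsAffine (SekSuwa.GK R lam p h).left :=
    inferInstanceAs (IsAffine (Spec (CommRingCat.of (SekSuwa.AK R lam p h))))
  apply ext_of_isAffine
  obtain ⟨f', hf'⟩ : ∃ f' : G.left ⟶ Spec (CommRingCat.of (SekSuwa.AK R lam p h)), f' = f.left :=
    ⟨_, rfl⟩
  obtain ⟨g', hg'⟩ : ∃ g' : G.left ⟶ Spec (CommRingCat.of (SekSuwa.AK R lam p h)), g' = g.left :=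
    ⟨_, rfl⟩
  suffices hs : (Scheme.ΓSpecIso (CommRingCat.of (SekSuwa.AK R lam p h))).inv ≫ f'.appTop =
      (Scheme.ΓSpecIso (CommRingCat.of (SekSuwa.AK R lam p h))).inv ≫ g'.appTop by
    have := (cancel_epi (Scheme.ΓSpecIso (CommRingCat.of (SekSuwa.AK R lam p h))).inv).1 hs
    rw [hf', hg'] at this
    exact this
  have hwf : f' ≫ Spec.map (CommRingCat.ofHom (algebraMap R (SekSuwa.AK R lam p h))) = G.hom := by
    rw [hf']; exact Over.w f
  have hwg : g' ≫ Spec.map (CommRingCat.ofHom (algebraMap R (SekSuwa.AK R lam p h))) = G.hom := by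
    rw [hg']; exact Over.w g
  have hα : f' ≫ Spec.map (CommRingCat.ofHom
        ((SekSuwa.alphaNHom R lam p h : MonoidAlgebra R (Multiplicative (ZMod p)) →+*
          SekSuwa.AK R lam p h))) =
      g' ≫ Spec.map (CommRingCat.ofHom
        ((SekSuwa.alphaNHom R lam p h : MonoidAlgebra R (Multiplicative (ZMod p)) →+*
          SekSuwa.AK R lam p h))) := by
    rw [hf', hg']
    exact congrArg (fun m => m.left) hfg
  -- the structure map on global functions
  let ρ : R →+* Γ(G.left, ⊤) :=
    ((Scheme.ΓSpecIso (CommRingCat.of R)).inv ≫ G.hom.appTop).hom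
  letI : Algebra R Γ(G.left, ⊤) := ρ.toAlgebra
  have hρ : ∀ r : R, algebraMap R Γ(G.left, ⊤) r = ρ r := fun r => rfl
  -- compatibility with `R`
  have hcompat : ∀ k : G.left ⟶ Spec (CommRingCat.of (SekSuwa.AK R lam p h)),
      k ≫ Spec.map (CommRingCat.ofHom (algebraMap R (SekSuwa.AK R lam p h))) = G.hom →
      CommRingCat.ofHom (algebraMap R (SekSuwa.AK R lam p h)) ≫
        (Scheme.ΓSpecIso (CommRingCat.of (SekSuwa.AK R lam p h))).inv ≫ k.appTop =
      (Scheme.ΓSpecIso (CommRingCat.of R)).inv ≫ G.hom.appTop := by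
    intro k hw
    calc CommRingCat.ofHom (algebraMap R (SekSuwa.AK R lam p h)) ≫
          (Scheme.ΓSpecIso (CommRingCat.of (SekSuwa.AK R lam p h))).inv ≫ k.appTop
        = (CommRingCat.ofHom (algebraMap R (SekSuwa.AK R lam p h)) ≫
          (Scheme.ΓSpecIso (CommRingCat.of (SekSuwa.AK R lam p h))).inv) ≫ k.appTop :=
          (Category.assoc _ _ _).symm
      _ = ((Scheme.ΓSpecIso (CommRingCat.of R)).inv ≫
          (Spec.map (CommRingCat.ofHom (algebraMap R (SekSuwa.AK R lam p h)))).appTop) ≫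
            k.appTop := by rw [Scheme.ΓSpecIso_inv_naturality]
      _ = (Scheme.ΓSpecIso (CommRingCat.of R)).inv ≫
          ((Spec.map (CommRingCat.ofHom (algebraMap R (SekSuwa.AK R lam p h)))).appTop ≫
            k.appTop) := Category.assoc _ _ _
      _ = (Scheme.ΓSpecIso (CommRingCat.of R)).inv ≫
          (k ≫ Spec.map (CommRingCat.ofHom (algebraMap R (SekSuwa.AK R lam p h)))).appTop := by
          rw [Scheme.Hom.comp_appTop]
      _ = _ := by rw [hw]
  let mkAlg : ∀ k : G.left ⟶ Spec (CommRingCat.of (SekSuwa.AK R lam p h)),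
      k ≫ Spec.map (CommRingCat.ofHom (algebraMap R (SekSuwa.AK R lam p h))) = G.hom →
      (SekSuwa.AK R lam p h →ₐ[R] Γ(G.left, ⊤)) := fun k hw =>
    { toRingHom := ((Scheme.ΓSpecIso (CommRingCat.of (SekSuwa.AK R lam p h))).inv ≫
        k.appTop).hom
      commutes' := fun r => by
        have := congrArg (fun m => m.hom r) (hcompat k hw)
        exact this }
  have hmk : ∀ (k : G.left ⟶ Spec (CommRingCat.of (SekSuwa.AK R lam p h))) (hw) 
      (z : SekSuwa.AK R lam p h),
      mkAlg k hw z = ((Scheme.ΓSpecIso (CommRingCat.of (SekSuwa.AK R lam p h))).inv ≫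
        k.appTop).hom z := fun k hw z => rfl
  -- the hypothesis on `1 + λ t`
  have hu : mkAlg f' hwf (1 + lam • SekSuwa.AK.t) = mkAlg g' hwg (1 + lam • SekSuwa.AK.t) := by
    have h2 : (Scheme.ΓSpecIso (CommRingCat.of (MonoidAlgebra R (Multiplicative (ZMod p))))).inv ≫
        (f' ≫ Spec.map (CommRingCat.ofHom
        ((SekSuwa.alphaNHom R lam p h : MonoidAlgebra R (Multiplicative (ZMod p)) →+*
          SekSuwa.AK R lam p h)))).appTop =
        (Scheme.ΓSpecIso (CommRingCat.of (MonoidAlgebra R (Multiplicative (ZMod p))))).inv ≫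
        (g' ≫ Spec.map (CommRingCat.ofHom
        ((SekSuwa.alphaNHom R lam p h : MonoidAlgebra R (Multiplicative (ZMod p)) →+*
          SekSuwa.AK R lam p h)))).appTop := by rw [hα]
    rw [Scheme.Hom.comp_appTop, Scheme.Hom.comp_appTop, ← Category.assoc, ← Category.assoc,
      ← Scheme.ΓSpecIso_inv_naturality, Category.assoc, Category.assoc] at h2
    have h3 := congrArg (fun m => m.hom
      (MonoidAlgebra.single (Multiplicative.ofAdd (1 : ZMod p)) (1 : R))) h2
    simp only [CommRingCat.hom_comp, CommRingCat.hom_ofHom, RingHom.comp_apply] at h3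
    rw [hmk f' hwf, hmk g' hwg, ← SekSuwa.alphaNHom_single_one]
    exact h3
  have key : ∀ (k : G.left ⟶ Spec (CommRingCat.of (SekSuwa.AK R lam p h))) (hw),
      mkAlg k hw (1 + lam • SekSuwa.AK.t) = 1 + ρ lam * mkAlg k hw SekSuwa.AK.t := by
    intro k hw
    rw [map_add, map_one, map_smul, Algebra.smul_def, hρ]
  have ht : mkAlg f' hwf SekSuwa.AK.t = mkAlg g' hwg SekSuwa.AK.t := by
    rw [key f' hwf, key g' hwg] at hu
    have h4 : ρ lam * (mkAlg f' hwf SekSuwa.AK.t - mkAlg g' hwg SekSuwa.AK.t) = 0 := by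
      rw [mul_sub, sub_eq_zero]
      exact add_left_cancel hu
    have := Groth.Agent.Helper23.SekInj.eq_zero_of_mul_eq_zero G.hom lam hnz _ h4
    exact sub_eq_zero.1 this
  have hinv : mkAlg f' hwf SekSuwa.AK.inv = mkAlg g' hwg SekSuwa.AK.inv := by
    have hui : (1 + lam • SekSuwa.AK.t : SekSuwa.AK R lam p h) * SekSuwa.AK.inv = 1 := by
      rw [← SekSuwa.AK.mkHom_u]
      change SekSuwa.AK.mkHom R lam p h SekSuwa.A.u * SekSuwa.AK.mkHom R lam p h SekSuwa.A.inv = 1
      rw [← map_mul, SekSuwa.A.u_mul_inv, map_one]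
    have e1 : mkAlg f' hwf (1 + lam • SekSuwa.AK.t) * mkAlg f' hwf SekSuwa.AK.inv = 1 := by
      rw [← map_mul, hui, map_one]
    have e2 : mkAlg g' hwg (1 + lam • SekSuwa.AK.t) * mkAlg g' hwg SekSuwa.AK.inv = 1 := by
      rw [← map_mul, hui, map_one]
    calc mkAlg f' hwf SekSuwa.AK.inv
        = mkAlg f' hwf SekSuwa.AK.inv *
          (mkAlg g' hwg (1 + lam • SekSuwa.AK.t) * mkAlg g' hwg SekSuwa.AK.inv) := by
          rw [e2, mul_one]
      _ = (mkAlg f' hwf (1 + lam • SekSuwa.AK.t) * mkAlg f' hwf SekSuwa.AK.inv) *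
          mkAlg g' hwg SekSuwa.AK.inv := by
          rw [← hu]; ring
      _ = mkAlg g' hwg SekSuwa.AK.inv := by rw [e1, one_mul]
  have hfin : mkAlg f' hwf = mkAlg g' hwg := SekSuwa.AK.algHom_ext ht hinv
  apply CommRingCat.hom_ext
  exact congrArg (fun m : SekSuwa.AK R lam p h →ₐ[R] Γ(G.left, ⊤) => m.toRingHom) hfin

end Groth.Agent.S15363
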