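import Groth.Statements.S15364
import Groth.Agent.Lib.Helper18.Rigid19

set_option autoImplicit false
universe u
open CategoryTheory CategoryTheory.Limits MonoidalCategory CartesianMonoidalCategory AlgebraicGeometry
open AbSch

namespace Groth.Agent.S15364

/-- For an abelian scheme f : A → T (a commutative T-group scheme, proper and smooth over T with
geometrically connected fibres) and a commutative group scheme H finite and locally free over T, the
adjunction map H → f_* f^* H of fppf sheaves on T is an isomorphism, i.e. for every T-scheme U the
map H(U) → H(A ×_T U), s ↦ s ∘ pr, is bijective. This row states the case U = T, to which the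
general case reduces by base change: composition with the structure morphism A → T is a bijection
from the sections of H over T onto the T-morphisms A → H. The group structure of H plays no role and
is not assumed. (The published statement has an arbitrary base T; the published argument rests on
the rigidity lemma in its form for Noetherian schemes, so T is taken locally Noetherian here.) -/
theorem result {T : Scheme.{u}} [IsLocallyNoetherian T]
    (A : Over T) [GrpObj A] [IsCommMonObj A] [IsProper A.hom] [Smooth A.hom] [GeometricallyConnected A.hom]
    (H : Over T) [IsFinite H.hom] [Flat H.hom] [LocallyOfFinitePresentation H.hom] :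
    Function.Bijective fun s : (𝟙_ (Over T) ⟶ H) => toUnit A ≫ s := by
  have hconn : ∀ s : T, ConnectedSpace ↥(Limits.pullback A.hom (T.fromSpecResidueField s)) :=
    fun s => inferInstanceAs (ConnectedSpace (A.hom.fiber s))
  have h0 : ∀ s : T, Function.Bijective
      (Limits.pullback.snd A.hom (T.fromSpecResidueField s)).appTop.hom := by
    intro s
    haveI := hconn s
    exact Groth.Agent.Helper18.Rigid.h0_of_smooth_proper A MonObj.one s
  have hη : (MonObj.one : 𝟙_ (Over T) ⟶ A) ≫ toUnit A = 𝟙 _ := toUnit_unique _ _
  constructor
  · intro s s' hss'
    have h1 : toUnit A ≫ s = toUnit A ≫ s' := hss'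
    have := congrArg (fun k => (MonObj.one : 𝟙_ (Over T) ⟶ A) ≫ k) h1
    simpa only [← Category.assoc, hη, Category.id_comp] using this
  · intro g
    have hcoll : ∀ (t : T) (x x' : A.left), A.hom.base x = t → A.hom.base x' = t →
        g.left.base x = g.left.base x' := by
      intro t x x' hx hx'
      have hC : _root_.IsConnected (A.hom.base ⁻¹' {t}) := A.hom.isConnected_preimage_singleton t
      haveI : ConnectedSpace ↥(A.hom.base ⁻¹' {t}) := isConnected_iff_connectedSpace.mp hC
      haveI : DiscreteTopology ↥(H.hom.base ⁻¹' {t}) :=
        (H.hom.isDiscrete_preimage_singleton t).to_subtype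
      have hmem : ∀ a : ↥(A.hom.base ⁻¹' {t}), g.left.base a.1 ∈ H.hom.base ⁻¹' {t} := by
        intro a
        have h1 : H.hom.base (g.left.base a.1) = A.hom.base a.1 := by
          rw [← TopCat.comp_app, ← Scheme.Hom.comp_base, Over.w g]
        exact h1.trans a.2
      have hcont : Continuous (fun a : ↥(A.hom.base ⁻¹' {t}) =>
          (⟨g.left.base a.1, hmem a⟩ : ↥(H.hom.base ⁻¹' {t}))) :=
        Continuous.subtype_mk (g.left.continuous.comp continuous_subtype_val) _
      have := PreconnectedSpace.constant inferInstance hcont (x := ⟨x, hx⟩) (y := ⟨x', hx'⟩)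
      exact congrArg Subtype.val this
    obtain ⟨t₀, ht₀⟩ := Groth.Agent.Helper18.Rigid.rigidity_proper' A.hom H.hom (𝟙 T) g.left
      (by rw [Over.w g, Category.comp_id]) h0
      (fun s => ⟨s, mem_connectedComponent, hcoll s⟩)
    haveI : Surjective A.hom :=
      ⟨Groth.Agent.Helper18.Rigid.surjective_of_h0 A.hom (fun s => (h0 s).injective)⟩
    haveI : Epi A.hom := Flat.epi_of_flat_of_surjective A.hom
    have ht₀' : t₀ ≫ H.hom = 𝟙 T := by
      rw [← cancel_epi A.hom, ← Category.assoc, ← ht₀, Over.w g, Category.comp_id]
    refine ⟨Over.homMk t₀ (by simpa using ht₀'), ?_⟩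
    ext
    simp only [Over.comp_left, Over.toUnit_left, Over.homMk_left]
    exact ht₀.symm

end Groth.Agent.S15364
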