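import Groth.Statements.S15365
import Mathlib

set_option autoImplicit false
universe u
open scoped BigOperators
open CAlg

namespace Groth.Agent.S15365

open MvPolynomial

theorem isNilpotent_of_mul_zero {R : Type*} [CommRing R] (I : Ideal R)
    (hI : ∀ x ∈ I, ∀ y ∈ I, x * y = 0) : IsNilpotent I := by
  refine ⟨2, ?_⟩
  rw [Ideal.zero_eq_bot, eq_bot_iff, pow_two, Ideal.mul_le]
  intro x hx y hy
  rw [Ideal.mem_bot]
  exact hI x hx y hy

theorem dir1 (p : ℕ) [Fact p.Prime]
    (A : Type u) [CommRing A] [CharP A p] (n : ℕ) (h : Matrix (Fin n) (Fin n) A)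
    (hE : Algebra.FormallyUnramified A (MvPolynomial (Fin n) A ⧸ Ideal.span (Set.range fun j : Fin n =>
        (MvPolynomial.X j : MvPolynomial (Fin n) A) ^ p -
          ∑ i : Fin n, MvPolynomial.C (h i j) * MvPolynomial.X i))) :
      IsUnit h.det := by
  classical
  have hp2 : 2 ≤ p := (Fact.out : p.Prime).two_le
  by_contra hdet
  obtain ⟨𝔪, h𝔪, hmem⟩ := exists_max_ideal_of_mem_nonunits hdet
  let : Field (A ⧸ 𝔪) := Ideal.Quotient.field 𝔪
  set k := A ⧸ 𝔪 with hk
  let hbar : Matrix (Fin n) (Fin n) k := h.map (algebraMap A k)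
  have hdet0 : hbar.det = 0 := by
    have : hbar = (algebraMap A k).mapMatrix h := rfl
    rw [this, ← RingHom.map_det]
    exact Ideal.Quotient.eq_zero_iff_mem.mpr hmem
  obtain ⟨c, hc0, hc⟩ := Matrix.exists_vecMul_eq_zero_iff.mpr hdet0
  set I := Ideal.span (Set.range fun j : Fin n =>
        (MvPolynomial.X j : MvPolynomial (Fin n) A) ^ p -
          ∑ i : Fin n, MvPolynomial.C (h i j) * MvPolynomial.X i) with hI
  let f₁ : MvPolynomial (Fin n) A →ₐ[A] DualNumber k := aeval (fun _ => 0)
  let f₂ : MvPolynomial (Fin n) A →ₐ[A] DualNumber k := aeval (fun i => TrivSqZeroExt.inr (c i))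
  have hf₁ : ∀ a ∈ I, f₁ a = 0 := by
    intro a ha
    have hle : I ≤ RingHom.ker f₁.toRingHom := by
      rw [hI, Ideal.span_le]
      rintro _ ⟨j, rfl⟩
      show f₁ _ = 0
      simp only [f₁, map_sub, map_pow, aeval_X, map_sum, map_mul, mul_zero, Finset.sum_const_zero,
        sub_zero]
      exact zero_pow (by omega)
    exact hle ha
  have hf₂ : ∀ a ∈ I, f₂ a = 0 := by
    intro a ha
    have hle : I ≤ RingHom.ker f₂.toRingHom := by
      rw [hI, Ideal.span_le]
      rintro _ ⟨j, rfl⟩
      show f₂ _ = 0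
      simp only [f₂, map_sub, map_pow, aeval_X, map_sum, map_mul, aeval_C]
      have h1 : (TrivSqZeroExt.inr (c j) : DualNumber k) ^ p = 0 := by
        obtain ⟨q, rfl⟩ := Nat.exists_eq_add_of_le hp2
        rw [pow_add, pow_two, TrivSqZeroExt.inr_mul_inr, zero_mul]
      rw [h1, zero_sub, neg_eq_zero]
      have h2 : ∀ i, (algebraMap A (DualNumber k)) (h i j) * TrivSqZeroExt.inr (c i)
          = TrivSqZeroExt.inr (c i * hbar i j) := by
        intro i
        rw [TrivSqZeroExt.algebraMap_eq_inl', TrivSqZeroExt.inl_mul_inr]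
        congr 1
        simp [hbar, mul_comm]
      simp_rw [h2]
      rw [← TrivSqZeroExt.inr_sum]
      have := congrFun hc j
      simp only [Matrix.vecMul, dotProduct, Pi.zero_apply] at this
      rw [this, TrivSqZeroExt.inr_zero]
    exact hle ha
  let g₁ : (MvPolynomial (Fin n) A ⧸ I) →ₐ[A] DualNumber k := Ideal.Quotient.liftₐ I f₁ hf₁
  let g₂ : (MvPolynomial (Fin n) A ⧸ I) →ₐ[A] DualNumber k := Ideal.Quotient.liftₐ I f₂ hf₂
  have hnil : IsNilpotent (RingHom.ker ((TrivSqZeroExt.fstHom A k k : DualNumber k →ₐ[A] k) :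
      DualNumber k →+* k)) := by
    apply isNilpotent_of_mul_zero
    intro x hx y hy
    rw [RingHom.mem_ker] at hx hy
    have hx' : x.fst = 0 := hx
    have hy' : y.fst = 0 := hy
    apply TrivSqZeroExt.ext
    · simp [hx']
    · simp [hx', hy']
  have hgg : g₁ = g₂ := by
    refine Algebra.FormallyUnramified.ext' _ hnil g₁ g₂ ?_
    intro x
    have : ((TrivSqZeroExt.fstHom A k k).comp g₁) = ((TrivSqZeroExt.fstHom A k k).comp g₂) := by
      apply Ideal.Quotient.algHom_ext
      apply MvPolynomial.algHom_ext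
      intro i
      simp [g₁, g₂, f₁, f₂]
    exact DFunLike.congr_fun this x
  apply hc0
  funext i
  have h1 := DFunLike.congr_fun hgg (Ideal.Quotient.mk I (X i))
  simp only [g₁, g₂, f₁, f₂, Ideal.Quotient.liftₐ_apply, Ideal.Quotient.lift_mk,
    AlgHom.coe_toRingHom, aeval_X] at h1
  have h2 := congrArg TrivSqZeroExt.snd h1
  simpa using h2.symm

theorem dir2 (p : ℕ) [Fact p.Prime]
    (A : Type u) [CommRing A] [CharP A p] (n : ℕ) (h : Matrix (Fin n) (Fin n) A)
    (hdet : IsUnit h.det) :
    Algebra.Etale A (MvPolynomial (Fin n) A ⧸ Ideal.span (Set.range fun j : Fin n =>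
        (MvPolynomial.X j : MvPolynomial (Fin n) A) ^ p -
          ∑ i : Fin n, MvPolynomial.C (h i j) * MvPolynomial.X i)) := by
  classical
  let rel : Fin n → MvPolynomial (Fin n) A := fun j =>
        (MvPolynomial.X j : MvPolynomial (Fin n) A) ^ p -
          ∑ i : Fin n, MvPolynomial.C (h i j) * MvPolynomial.X i
  show Algebra.Etale A (MvPolynomial (Fin n) A ⧸ Ideal.span (Set.range rel))
  let P0 : Algebra.Presentation A (MvPolynomial (Fin n) A ⧸ Ideal.span (Set.range rel))
      (Fin n) (Fin n) := Algebra.Presentation.naive (v := rel)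
  let P1 : Algebra.PreSubmersivePresentation A
      (MvPolynomial (Fin n) A ⧸ Ideal.span (Set.range rel)) (Fin n) (Fin n) :=
    { P0 with map := id, map_inj := Function.injective_id }
  have hmat : P1.jacobiMatrix = -(h.map C) := by
    refine Matrix.ext fun i j => ?_
    rw [Algebra.PreSubmersivePresentation.jacobiMatrix_apply]
    show pderiv i (rel j) = _
    simp only [rel, map_sub, Derivation.leibniz_pow, pderiv_X, map_sum, Derivation.leibniz,
      pderiv_C, smul_zero, add_zero, Matrix.neg_apply, Matrix.map_apply]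
    have hp0 : (p : MvPolynomial (Fin n) A) = 0 := CharP.cast_eq_zero _ p
    rw [← Nat.cast_smul_eq_nsmul (MvPolynomial (Fin n) A), hp0, zero_smul, zero_sub]
    congr 1
    rw [Finset.sum_eq_single i]
    · simp
    · intro b _ hb
      simp [Pi.single_apply, hb]
    · simp
  have hjac : IsUnit P1.jacobian := by
    rw [Algebra.PreSubmersivePresentation.jacobian_eq_jacobiMatrix_det, hmat, Matrix.det_neg]
    have : (h.map C : Matrix (Fin n) (Fin n) (MvPolynomial (Fin n) A)).det = C h.det := by
      have : h.map C = (C : A →+* MvPolynomial (Fin n) A).mapMatrix h := rfl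
      rw [this, ← RingHom.map_det]
    rw [this]
    apply IsUnit.map
    apply IsUnit.mul
    · exact (isUnit_one.neg).pow _
    · exact hdet.map C
  let P2 : Algebra.SubmersivePresentation A
      (MvPolynomial (Fin n) A ⧸ Ideal.span (Set.range rel)) (Fin n) (Fin n) :=
    { P1 with jacobian_isUnit := hjac }
  have hdim : P2.dimension = 0 := by
    simp [Algebra.Presentation.dimension]
  have := P2.isStandardSmoothOfRelativeDimension hdim
  infer_instance

/-- Let A be a commutative ring of characteristic p > 0 and (h_{ij})_{1 ≤ i,j ≤ n} a square matrix over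
A, the matrix of a commutative p-Lie algebra (L, φ) with L free with basis e_1, …, e_n and φ(e_j) =
Σ_i h_{ij} e_i. The associated finite group scheme Spec A[X_1, …, X_n]/(X_j^p − Σ_i h_{ij} X_i)_{1 ≤
j ≤ n} is étale over A if and only if the matrix (h_{ij}) is invertible, i.e. its determinant is a
unit of A. Only the algebra structure enters this assertion. -/
theorem result (p : ℕ) [Fact p.Prime]
    (A : Type u) [CommRing A] [CharP A p] (n : ℕ) (h : Matrix (Fin n) (Fin n) A) :
    Algebra.Etale A (MvPolynomial (Fin n) A ⧸ Ideal.span (Set.range fun j : Fin n =>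
        (MvPolynomial.X j : MvPolynomial (Fin n) A) ^ p -
          ∑ i : Fin n, MvPolynomial.C (h i j) * MvPolynomial.X i)) ↔
      IsUnit h.det := by
  constructor
  · intro hE
    exact dir1 p A n h inferInstance
  · exact dir2 p A n h

end Groth.Agent.S15365
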