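import Groth.Statements.S15367
import Groth.Agent.S15368
import Mathlib.Algebra.Module.PID
import Mathlib.LinearAlgebra.TensorProduct.Pi
import Mathlib.LinearAlgebra.FreeModule.Finite.Matrix

set_option autoImplicit false
universe u v
open TensorProduct
open CAlg

namespace Groth.Agent.S15367

section
variable {R : Type u} [CommRing R] [IsDomain R] [IsDiscreteValuationRing R]

/-- μ is iso-invariant -/
theorem mu_congr {X : Type*} {Y : Type*} [AddCommGroup X] [Module R X] [AddCommGroup Y] [Module R Y]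
    (e : X ≃ₗ[R] Y) :
    Module.finrank (IsLocalRing.ResidueField R) (IsLocalRing.ResidueField R ⊗[R] X) =
    Module.finrank (IsLocalRing.ResidueField R) (IsLocalRing.ResidueField R ⊗[R] Y) :=
  LinearEquiv.finrank_eq (TensorProduct.AlgebraTensorModule.congr (LinearEquiv.refl _ _) e)

theorem mu_pi {ι : Type*} [Fintype ι] [DecidableEq ι] (X : ι → Type*) [∀ i, AddCommGroup (X i)]
    [∀ i, Module R (X i)] [∀ i, Module.Finite R (X i)] :
    Module.finrank (IsLocalRing.ResidueField R) (IsLocalRing.ResidueField R ⊗[R] (∀ i, X i)) =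
      ∑ i, Module.finrank (IsLocalRing.ResidueField R) (IsLocalRing.ResidueField R ⊗[R] X i) := by
  rw [LinearEquiv.finrank_eq (TensorProduct.piRight R (IsLocalRing.ResidueField R)
    (IsLocalRing.ResidueField R) X), Module.finrank_pi_fintype]

theorem mu_le_one_of_cyclic {X : Type*} [AddCommGroup X] [Module R X] (g : R →ₗ[R] X)
    (hg : Function.Surjective g) :
    Module.finrank (IsLocalRing.ResidueField R) (IsLocalRing.ResidueField R ⊗[R] X) ≤ 1 := by
  have h1 := LinearMap.baseChange_surjective (IsLocalRing.ResidueField R) hg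
  have h2 := LinearMap.finrank_le_finrank_of_surjective h1
  have h3 : Module.finrank (IsLocalRing.ResidueField R) (IsLocalRing.ResidueField R ⊗[R] R) = 1 := by
    rw [Module.finrank_baseChange, Module.finrank_self]
  omega

theorem mu_pos {X : Type*} [AddCommGroup X] [Module R X] [Module.Finite R X] [Nontrivial X] :
    0 < Module.finrank (IsLocalRing.ResidueField R) (IsLocalRing.ResidueField R ⊗[R] X) := by
  have : Nontrivial (IsLocalRing.ResidueField R ⊗[R] X) := by
    by_contra h
    rw [not_nontrivial_iff_subsingleton, IsLocalRing.subsingleton_tensorProduct] at h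
    exact not_subsingleton X h
  exact Module.finrank_pos

theorem mu_zero {X : Type*} [AddCommGroup X] [Module R X] [Subsingleton X] :
    Module.finrank (IsLocalRing.ResidueField R) (IsLocalRing.ResidueField R ⊗[R] X) = 0 := by
  have : Subsingleton (IsLocalRing.ResidueField R ⊗[R] X) := inferInstance
  exact Module.finrank_zero_of_subsingleton

theorem mu_hom_cyclic (ϖ : R) (hϖ : Irreducible ϖ) (n : ℕ) (p : R) (hp : Irreducible p) (e : ℕ)
    (hX : ∀ x : R ⧸ Submodule.span R {p ^ e}, ϖ ^ n • x = 0) :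
    Module.finrank (IsLocalRing.ResidueField R) (IsLocalRing.ResidueField R ⊗[R]
      ((R ⧸ Submodule.span R {p ^ e}) →ₗ[R] (R ⧸ Ideal.span {ϖ ^ n}))) =
    Module.finrank (IsLocalRing.ResidueField R) (IsLocalRing.ResidueField R ⊗[R]
      (R ⧸ Submodule.span R {p ^ e})) := by
  rcases Nat.eq_zero_or_pos e with he0 | hepos
  · -- X is trivial
    subst he0
    have hsub : Subsingleton (R ⧸ Submodule.span R {p ^ 0}) := by
      rw [pow_zero, Submodule.Quotient.subsingleton_iff]
      rw [eq_top_iff]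
      intro x _
      rw [Submodule.mem_span_singleton]
      exact ⟨x, by simp⟩
    have hsub2 : Subsingleton ((R ⧸ Submodule.span R {p ^ 0}) →ₗ[R] (R ⧸ Ideal.span {ϖ ^ n})) :=
      ⟨fun f g => LinearMap.ext fun x => by rw [Subsingleton.elim x 0, map_zero, map_zero]⟩
    rw [mu_zero, mu_zero]
  · -- X nontrivial
    have hpnu : ¬ IsUnit p := hp.not_isUnit
    have hϖnu : ¬ IsUnit ϖ := hϖ.not_isUnit
    have hϖ0 : ϖ ≠ 0 := hϖ.ne_zero
    obtain ⟨u, hu⟩ := IsDiscreteValuationRing.associated_of_irreducible R hϖ hp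
    have hen : e ≤ n := by
      have h1 := hX (Submodule.Quotient.mk 1)
      rw [← Submodule.Quotient.mk_smul, Submodule.Quotient.mk_eq_zero, smul_eq_mul, mul_one,
        Submodule.mem_span_singleton] at h1
      obtain ⟨a, ha⟩ := h1
      have hdvd : ϖ ^ e ∣ ϖ ^ n := ⟨a * (u : R) ^ e, by
        rw [← ha, ← hu, smul_eq_mul, mul_pow]; ring⟩
      exact (pow_dvd_pow_iff hϖ0 hϖnu).mp hdvd
    have hnt : Nontrivial (R ⧸ Submodule.span R {p ^ e}) := by
      rw [Submodule.Quotient.nontrivial_iff]
      intro htop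
      have h1 : (1 : R) ∈ Submodule.span R {p ^ e} := htop ▸ Submodule.mem_top
      rw [Submodule.mem_span_singleton] at h1
      obtain ⟨a, ha⟩ := h1
      have : p ∣ 1 := (dvd_pow_self p hepos.ne').trans ⟨a, by rw [← ha, smul_eq_mul]; ring⟩
      exact hpnu (isUnit_of_dvd_one this)
    have hμX : Module.finrank (IsLocalRing.ResidueField R) (IsLocalRing.ResidueField R ⊗[R]
        (R ⧸ Submodule.span R {p ^ e})) = 1 := by
      have h1 := mu_le_one_of_cyclic (Submodule.mkQ (Submodule.span R {p ^ e}))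
        (Submodule.mkQ_surjective _)
      have h2 := mu_pos (R := R) (X := R ⧸ Submodule.span R {p ^ e})
      omega
    rw [hμX]
    let ev : ((R ⧸ Submodule.span R {p ^ e}) →ₗ[R] (R ⧸ Ideal.span {ϖ ^ n})) →ₗ[R]
        (R ⧸ Ideal.span {ϖ ^ n}) := LinearMap.applyₗ (Submodule.Quotient.mk 1)
    have hev : Function.Injective ev := by
      intro f g hfg
      apply LinearMap.ext; intro x
      obtain ⟨r, rfl⟩ := Submodule.Quotient.mk_surjective _ x
      have hr : (Submodule.Quotient.mk r : R ⧸ Submodule.span R {p ^ e}) =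
          r • Submodule.Quotient.mk (1 : R) := by
        rw [← Submodule.Quotient.mk_smul, smul_eq_mul, mul_one]
      rw [hr, map_smul, map_smul]
      congr 1
    have hΛ : ∀ m : R ⧸ Ideal.span {ϖ ^ n}, ϖ ^ n • m = 0 := by
      intro m
      obtain ⟨r, rfl⟩ := Submodule.Quotient.mk_surjective _ m
      rw [← Submodule.Quotient.mk_smul, Submodule.Quotient.mk_eq_zero, smul_eq_mul]
      exact Ideal.mul_mem_right _ _ (Ideal.mem_span_singleton_self _)
    have h1 := mu_congr (LinearEquiv.ofInjective ev hev)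
    have h2 := Groth.Agent.S15368.result R ϖ hϖ n (R ⧸ Ideal.span {ϖ ^ n}) hΛ (LinearMap.range ev)
    have h3 := mu_le_one_of_cyclic (Submodule.mkQ (Ideal.span {ϖ ^ n} : Submodule R R))
        (Submodule.mkQ_surjective _)
    have hntH : Nontrivial ((R ⧸ Submodule.span R {p ^ e}) →ₗ[R] (R ⧸ Ideal.span {ϖ ^ n})) := by
      have hle : Submodule.span R {p ^ e} ≤
          Submodule.comap (LinearMap.lsmul R R (ϖ ^ (n - e))) (Ideal.span {ϖ ^ n} : Submodule R R) := by
        rw [Submodule.span_le, Set.singleton_subset_iff]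
        show ϖ ^ (n - e) • p ^ e ∈ Ideal.span {ϖ ^ n}
        rw [Ideal.mem_span_singleton]
        refine ⟨(u : R) ^ e, ?_⟩
        rw [← hu, smul_eq_mul, mul_pow, ← mul_assoc, ← pow_add, Nat.sub_add_cancel hen]
      let f₀ : (R ⧸ Submodule.span R {p ^ e}) →ₗ[R] (R ⧸ Ideal.span {ϖ ^ n}) :=
        Submodule.mapQ _ _ (LinearMap.lsmul R R (ϖ ^ (n - e))) hle
      refine ⟨⟨f₀, 0, ?_⟩⟩
      intro h
      have h5 : f₀ (Submodule.Quotient.mk 1) = 0 := by rw [h]; rfl
      have h6 : f₀ (Submodule.Quotient.mk 1) = Submodule.Quotient.mk (ϖ ^ (n - e) • (1 : R)) := rfl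
      rw [h6, Submodule.Quotient.mk_eq_zero, smul_eq_mul, mul_one] at h5
      have h7 : ϖ ^ n ∣ ϖ ^ (n - e) := Ideal.mem_span_singleton.mp h5
      have := (pow_dvd_pow_iff hϖ0 hϖnu).mp h7
      omega
    have h4 := mu_pos (R := R) (X := (R ⧸ Submodule.span R {p ^ e}) →ₗ[R] (R ⧸ Ideal.span {ϖ ^ n}))
    omega

end

/-- Let R be a discrete valuation ring with uniformizer π and residue field k, n ≥ 0, and M₀ a finitely
generated module over R/πⁿR, viewed as an R-module killed by πⁿ; put M₀* = Hom_R(M₀, R/πⁿR). Then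
dim_k(M₀*/πM₀*) = dim_k(M₀/πM₀). The published lemma is stated for a finitely presented module over
the quotient of the ring of integers of an algebraic closure of K by the elements of valuation ≥ t,
with its dual into that quotient ring, and the published proof reduces it by descent to exactly this
statement over the valuation ring of a finite extension of K; the row states that step. -/
theorem result
    (R : Type u) [CommRing R] [IsDomain R] [IsDiscreteValuationRing R] (ϖ : R) (hϖ : Irreducible ϖ) (n : ℕ)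
    (M : Type v) [AddCommGroup M] [Module R M] [Module.Finite R M] (hM : ∀ m : M, ϖ ^ n • m = 0) :
    Module.finrank (IsLocalRing.ResidueField R)
        (IsLocalRing.ResidueField R ⊗[R] (M →ₗ[R] (R ⧸ Ideal.span {ϖ ^ n}))) =
      Module.finrank (IsLocalRing.ResidueField R) (IsLocalRing.ResidueField R ⊗[R] M) := by
  classical
  have hϖ0 : ϖ ≠ 0 := hϖ.ne_zero
  have htors : Module.IsTorsion R M := by
    intro x
    exact ⟨⟨ϖ ^ n, mem_nonZeroDivisors_of_ne_zero (pow_ne_zero n hϖ0)⟩, hM x⟩
  obtain ⟨ι, _, p, hp, e, ⟨φ⟩⟩ := Module.equiv_directSum_of_isTorsion htors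
  let X : ι → Type u := fun i => R ⧸ Submodule.span R {p i ^ e i}
  let ψ : M ≃ₗ[R] (∀ i, X i) := φ.trans (DirectSum.linearEquivFunOnFintype R ι X)
  have hX : ∀ i (x : X i), ϖ ^ n • x = 0 := by
    intro i x
    have h1 : x = (ψ (ψ.symm (Pi.single i x))) i := by
      rw [LinearEquiv.apply_symm_apply, Pi.single_eq_same]
    rw [h1, ← Pi.smul_apply, ← map_smul, hM, map_zero]
    rfl
  have e1 : Module.finrank (IsLocalRing.ResidueField R) (IsLocalRing.ResidueField R ⊗[R] M) =
      ∑ i, Module.finrank (IsLocalRing.ResidueField R) (IsLocalRing.ResidueField R ⊗[R] X i) := by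
    rw [mu_congr ψ, mu_pi]
  have e2 : Module.finrank (IsLocalRing.ResidueField R)
        (IsLocalRing.ResidueField R ⊗[R] (M →ₗ[R] (R ⧸ Ideal.span {ϖ ^ n}))) =
      ∑ i, Module.finrank (IsLocalRing.ResidueField R)
        (IsLocalRing.ResidueField R ⊗[R] (X i →ₗ[R] (R ⧸ Ideal.span {ϖ ^ n}))) := by
    rw [mu_congr ((LinearEquiv.congrLeft (R ⧸ Ideal.span {ϖ ^ n}) R ψ).trans
      (LinearMap.lsum R X R).symm), mu_pi]
  rw [e1, e2]
  apply Finset.sum_congr rfl
  intro i _
  exact mu_hom_cyclic ϖ hϖ n (p i) (hp i) (e i) (hX i)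

end Groth.Agent.S15367
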