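import Groth.Statements.S1537
import Groth.Agent.Lib.Helper4.GeomConnSep
import Groth.Agent.Lib.Helper4.CurveMor

set_option autoImplicit false
universe u
open CategoryTheory CategoryTheory.Limits AlgebraicGeometry
open Variety

namespace Groth.Agent.S1537

/-- A connected k-scheme is geometrically connected as soon as it has a point whose residue field
contains no element integral over k other than the elements of k. -/
theorem result (k : Type u) [Field k] (X : Scheme.{u}) [X.Over (Spec (CommRingCat.of k))] [ConnectedSpace X]
    (x : X) (hx : ∀ a : X.residueField x, (Curv2.resMap k X x).IsIntegralElem a → a ∈ (Curv2.resMap k X x).range) :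
    GeometricallyConnected (X ↘ (Spec (CommRingCat.of k))) := by
  have hφ : Spec.map (CommRingCat.ofHom (Curv2.resMap k X x)) =
      X.fromSpecResidueField x ≫ (X ↘ Spec (CommRingCat.of k)) := by
    have h1 : CommRingCat.ofHom (Curv2.resMap k X x) =
        CommRingCat.ofHom (Curv2.stalkMap k X x) ≫ X.residue x := rfl
    rw [h1, Spec.map_comp, ← Groth.Agent.Helper4.CurveMor.fromSpecStalk_over,
      ← Category.assoc]
    rfl
  refine Groth.Agent.Helper4.GeomConnSep.geometricallyConnected_of_point _ x
    (Curv2.resMap k X x) hφ ?_
  intro α hα
  apply hx
  letI : Algebra k (X.residueField x) := (Curv2.resMap k X x).toAlgebra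
  exact hα.isIntegral

end Groth.Agent.S1537
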