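import Groth.Statements.S1539
import Groth.Agent.Lib.Helper4.GeomIrrSep
import Groth.Agent.Lib.Helper4.CurveMor

set_option autoImplicit false
universe u
open CategoryTheory CategoryTheory.Limits AlgebraicGeometry
open Variety

namespace Groth.Agent.S1539

/-- If X_{k'} is irreducible for every finite separable field extension k' of k, then X is geometrically
irreducible over k. -/
theorem result (k : Type u) [Field k] (X : Scheme.{u}) [X.Over (Spec (CommRingCat.of k))]
    (h : ∀ (k' : Type u) [Field k'] [Algebra k k'] [FiniteDimensional k k'] [Algebra.IsSeparable k k'],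
      IrreducibleSpace (Curv2.bc k X k')) :
    GeometricallyIrreducible (X ↘ (Spec (CommRingCat.of k))) := by
  haveI hX : IrreducibleSpace ↥X := by
    haveI := h k
    have hsurj : Function.Surjective (Curv2.bcFst k X k).base := by
      haveI : Surjective (Spec.map (CommRingCat.ofHom (algebraMap k k))) :=
        ⟨fun x => ⟨x, by
          haveI : Subsingleton ↥(Spec (CommRingCat.of k)) :=
            inferInstanceAs (Subsingleton (PrimeSpectrum k))
          exact Subsingleton.elim _ _⟩⟩
      exact (Limits.pullback.fst (X ↘ Spec (CommRingCat.of k)) _).surjective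
    exact hsurj.irreducibleSpace (Curv2.bcFst k X k).continuous
  have hφ : Spec.map (CommRingCat.ofHom (Curv2.resMap k X (genericPoint X))) =
      X.fromSpecResidueField (genericPoint X) ≫ (X ↘ Spec (CommRingCat.of k)) := by
    have h1 : CommRingCat.ofHom (Curv2.resMap k X (genericPoint X)) =
        CommRingCat.ofHom (Curv2.stalkMap k X (genericPoint X)) ≫ X.residue (genericPoint X) := rfl
    rw [h1, Spec.map_comp, ← Groth.Agent.Helper4.CurveMor.fromSpecStalk_over,
      ← Category.assoc]
    rfl
  refine Groth.Agent.Helper4.GeomIrrSep.geometricallyIrreducible_of_genericPoint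
    (X ↘ Spec (CommRingCat.of k)) (Curv2.resMap k X (genericPoint X)) hφ ?_
  intro a ha
  exact Groth.Agent.Helper4.GeomIrrSep.mem_range_of_geometricallyIrreducible
    (X ↘ Spec (CommRingCat.of k)) (Curv2.resMap k X (genericPoint X)) hφ
    (fun E _ _ _ _ => h E) a ha

end Groth.Agent.S1539
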