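import Groth.Statements.S15391
import Mathlib

set_option autoImplicit false
universe u
open TensorProduct
open TorFree

namespace Groth.Agent.S15391

/-- Let R be a reduced Noetherian commutative ring, M a finitely generated torsion-free R-module (no
non-zero element of M is annihilated by a non-zero-divisor of R), and t an element of M whose image
1 ⊗ t in the fibre κ(p) ⊗_R M vanishes for every prime ideal p of R, κ(p) being the residue field at
p. Then t = 0. This is the affine form of the claim that a global section of a coherent torsion-free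
module on a reduced Noetherian scheme which vanishes in every fibre is zero. -/
theorem result (R : Type u) [CommRing R] [IsReduced R] [IsNoetherianRing R]
    (M : Type u) [AddCommGroup M] [Module R M] [Module.Finite R M] [Module.IsTorsionFree R M]
    (t : M) (ht : ∀ p : PrimeSpectrum R, (1 : p.asIdeal.ResidueField) ⊗ₜ[R] t = (0 : p.asIdeal.ResidueField ⊗[R] M)) :
    t = 0 := by
  classical
  have step1 : ∀ p ∈ minimalPrimes R, ∃ s : R, s ∉ p ∧ s • t = 0 := by
    intro p hp
    have : p.IsPrime := hp.1.1
    have hmax : IsLocalRing.maximalIdeal (Localization.AtPrime p) = ⊥ := by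
      rw [← IsLocalization.AtPrime.map_eq_maximalIdeal p (Localization.AtPrime p),
        ← IsLocalization.AtPrime.radical_map_of_mem_minimalPrimes (Localization.AtPrime p) p ⊥ hp,
        Ideal.map_bot]
      exact nilradical_eq_zero _
    have hinj : Function.Injective (IsLocalRing.residue (Localization.AtPrime p)) := by
      rw [injective_iff_map_eq_zero]
      intro x hx
      have hx' : x ∈ IsLocalRing.maximalIdeal (Localization.AtPrime p) :=
        (IsLocalRing.residue_eq_zero_iff x).1 hx
      rw [hmax] at hx'
      exact hx'
    let ρ : Localization.AtPrime p →ₗ[R] p.ResidueField :=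
      (IsScalarTower.toAlgHom R (Localization.AtPrime p) p.ResidueField).toLinearMap
    let e : Localization.AtPrime p ≃ₗ[R] p.ResidueField :=
      LinearEquiv.ofBijective ρ ⟨hinj, IsLocalRing.residue_surjective⟩
    have h1 : (e.rTensor M) ((1 : Localization.AtPrime p) ⊗ₜ[R] t) = 0 := by
      rw [LinearEquiv.rTensor_tmul]
      have he1 : e 1 = 1 := map_one (IsLocalRing.residue (Localization.AtPrime p))
      rw [he1]
      exact ht ⟨p, inferInstance⟩
    have h2 : (1 : Localization.AtPrime p) ⊗ₜ[R] t = 0 :=
      (e.rTensor M).injective (by rw [h1, map_zero])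
    obtain ⟨c, hc⟩ := IsLocalizedModule.exists_of_eq (S := p.primeCompl)
      (f := TensorProduct.mk R (Localization.AtPrime p) M 1) (x₁ := t) (x₂ := 0)
      (by simpa using h2)
    exact ⟨c, c.2, by simpa [Submonoid.smul_def] using hc⟩
  -- annihilator of t
  let I : Ideal R := LinearMap.ker (LinearMap.toSpanSingleton R M t)
  have hI : ∀ s : R, s ∈ I ↔ s • t = 0 := fun s => by
    simp [I, LinearMap.mem_ker, LinearMap.toSpanSingleton_apply]
  have hfin : (minimalPrimes R).Finite := minimalPrimes.finite_of_isNoetherianRing R
  have hex : ∃ s ∈ I, ∀ p ∈ minimalPrimes R, s ∉ p := by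
    by_contra hcon
    push Not at hcon
    have hsub : (I : Set R) ⊆ ⋃ p ∈ (↑hfin.toFinset : Set (Ideal R)), (p : Set R) := by
      intro s hs
      obtain ⟨p, hp, hsp⟩ := hcon s hs
      exact Set.mem_biUnion (by simpa using hp) hsp
    obtain ⟨p, hp, hIp⟩ := (Ideal.subset_union_prime (f := fun p : Ideal R => p) ⊥ ⊥
      (fun p hp _ _ => ((hfin.mem_toFinset.1 hp)).1.1)).1 hsub
    have hp' : p ∈ minimalPrimes R := hfin.mem_toFinset.1 hp
    obtain ⟨s, hsp, hst⟩ := step1 p hp'
    exact hsp (hIp ((hI s).2 hst))
  obtain ⟨s, hsI, hs⟩ := hex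
  have hzero : ∀ x : R, s * x = 0 → x = 0 := by
    intro x hx
    have hmem : x ∈ sInf (minimalPrimes R) := by
      rw [Ideal.mem_sInf]
      intro p hp
      have : p.IsPrime := hp.1.1
      have : s * x ∈ p := by rw [hx]; exact p.zero_mem
      exact (Ideal.IsPrime.mem_or_mem inferInstance this).resolve_left (hs p hp)
    have h3 : sInf (minimalPrimes R) = (⊥ : Ideal R) := by
      show sInf (⊥ : Ideal R).minimalPrimes = ⊥
      rw [Ideal.sInf_minimalPrimes]
      exact nilradical_eq_zero R
    rw [h3] at hmem
    exact hmem
  have hreg : IsRegular s := by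
    have hl : IsLeftRegular s := by
      intro a b hab
      have : s * (a - b) = 0 := by rw [mul_sub]; exact sub_eq_zero.2 hab
      exact sub_eq_zero.1 (hzero _ this)
    exact ⟨hl, hl.right_of_commute (fun _ => mul_comm _ _)⟩
  have hsm : IsSMulRegular M s := Module.IsTorsionFree.isSMulRegular hreg
  exact hsm (by show s • t = s • 0; rw [smul_zero]; exact (hI s).1 hsI)

end Groth.Agent.S15391
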