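import Groth.Statements.S1540
import Groth.Agent.Lib.Helper4.GeomIrrSep
import Groth.Agent.Lib.Helper4.CurveMor

set_option autoImplicit false
universe u
open CategoryTheory CategoryTheory.Limits AlgebraicGeometry
attribute [local instance] Curv2.resAlgebra Curv2.stalkAlgebra
open Variety

namespace Groth.Agent.S1540

/-- An irreducible scheme X over k with generic point ξ is geometrically irreducible if and only if the
separable algebraic closure of k in the residue field of ξ is k itself. -/
theorem result (k : Type u) [Field k] (X : Scheme.{u}) [X.Over (Spec (CommRingCat.of k))] [IrreducibleSpace X] :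
    GeometricallyIrreducible (X ↘ (Spec (CommRingCat.of k))) ↔
      ∀ a : X.residueField (genericPoint X), IsSeparable k a → a ∈ Set.range (algebraMap k (X.residueField (genericPoint X))) := by
  have hφ : Spec.map (CommRingCat.ofHom (Curv2.resMap k X (genericPoint X))) =
      X.fromSpecResidueField (genericPoint X) ≫ (X ↘ Spec (CommRingCat.of k)) := by
    have h1 : CommRingCat.ofHom (Curv2.resMap k X (genericPoint X)) =
        CommRingCat.ofHom (Curv2.stalkMap k X (genericPoint X)) ≫ X.residue (genericPoint X) := rfl
    rw [h1, Spec.map_comp, ← Groth.Agent.Helper4.CurveMor.fromSpecStalk_over,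
      ← Category.assoc]
    rfl
  constructor
  · intro h a ha
    refine Groth.Agent.Helper4.GeomIrrSep.mem_range_of_geometricallyIrreducible
      (X ↘ Spec (CommRingCat.of k)) (Curv2.resMap k X (genericPoint X)) hφ ?_ a ha
    intro E _ _ _ _
    exact pullback_of_geometrically
      (GeometricallyIrreducible.geometrically_irreducibleSpace
        (f := X ↘ Spec (CommRingCat.of k))) E (Spec.map (CommRingCat.ofHom (algebraMap k E)))
  · intro h
    exact Groth.Agent.Helper4.GeomIrrSep.geometricallyIrreducible_of_genericPoint
      (X ↘ Spec (CommRingCat.of k)) (Curv2.resMap k X (genericPoint X)) hφ h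

end Groth.Agent.S1540
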