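import Groth.Statements.S15411
import Groth.Agent.Lib.Helper6.EqDescent

set_option autoImplicit false
universe u
open scoped TensorProduct
open Hopf

namespace Groth.Agent.S15411

/-- Let K be a field and let finitely many commutative K-algebras be given in two layers, K_i for each
vertex i and K_k for each edge k, with K-algebra maps from K_{l k} and from K_{r k} into K_k for
every edge k, such that K is the equalizer of the system: every family (x_i) whose two images in K_k
agree for every k comes from exactly one element of K. Let A and B be commutative K-bialgebras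
(coordinate rings of affine group or monoid schemes over K) and let u_i : K_i ⊗ B ≅ K_i ⊗ A be
isomorphisms of K_i-bialgebras such that, for every edge k, the base changes of u_{l k} and u_{r k}
to K_k agree. Then there is exactly one isomorphism of K-bialgebras v : B ≅ A inducing every u_i,
that is with u_i (1 ⊗ b) = 1 ⊗ v b. (The published statement is for the system obtained from a
finite inverse factorization system of fields by base change to a finite separable extension K, and
for linear algebraic groups; this row keeps from that setting only what the argument uses: K is a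
field and is the equalizer of the finite system, and the group schemes are affine.) -/
theorem result
    (K : Type u) [Field K] (ιv ιe : Type u) [Finite ιv] [Finite ιe]
    (Kv : ιv → Type u) [∀ i, CommRing (Kv i)] [∀ i, Algebra K (Kv i)]
    (Ke : ιe → Type u) [∀ k, CommRing (Ke k)] [∀ k, Algebra K (Ke k)]
    (l r : ιe → ιv) (ρl : ∀ k, Kv (l k) →ₐ[K] Ke k) (ρr : ∀ k, Kv (r k) →ₐ[K] Ke k)
    (hlim : ∀ x : (∀ i, Kv i), (∀ k, ρl k (x (l k)) = ρr k (x (r k))) →
      ∃! a : K, ∀ i, algebraMap K (Kv i) a = x i)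
    (A B : Type u) [CommRing A] [CommRing B] [Bialgebra K A] [Bialgebra K B]
    (u : ∀ i, (Kv i ⊗[K] B) ≃ₐc[Kv i] (Kv i ⊗[K] A))
    (hu : ∀ (k : ιe) (b : B),
      Algebra.TensorProduct.map (ρl k) (AlgHom.id K A) (u (l k) (1 ⊗ₜ[K] b)) =
        Algebra.TensorProduct.map (ρr k) (AlgHom.id K A) (u (r k) (1 ⊗ₜ[K] b))) :
    ∃! v : B ≃ₐc[K] A, ∀ (i : ιv) (b : B), u i (1 ⊗ₜ[K] b) = 1 ⊗ₜ[K] v b := by
  classical
  obtain ⟨i₀, hi₀⟩ := Groth.Agent.Lib.Helper6.EqDescent.exists_nontrivial ρl ρr hlim
  haveI := hi₀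
  have injK : Function.Injective (algebraMap K (Kv i₀)) := (algebraMap K (Kv i₀)).injective
  have injA : ∀ a a' : A, ((1 : Kv i₀) ⊗ₜ[K] a = (1 : Kv i₀) ⊗ₜ[K] a') → a = a' :=
    fun a a' h =>
      Algebra.TensorProduct.includeRight_injective (R := K) (A := Kv i₀) (B := A) injK h
  have injB : ∀ b b' : B, ((1 : Kv i₀) ⊗ₜ[K] b = (1 : Kv i₀) ⊗ₜ[K] b') → b = b' :=
    fun b b' h =>
      Algebra.TensorProduct.includeRight_injective (R := K) (A := Kv i₀) (B := B) injK h
  have hex : ∀ b : B, ∃ a : A, ∀ i, u i (1 ⊗ₜ[K] b) = 1 ⊗ₜ[K] a := fun b =>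
    Groth.Agent.Lib.Helper6.EqDescent.descent ρl ρr hlim A (fun i => u i (1 ⊗ₜ[K] b))
      (fun k => hu k b)
  choose v hv using hex
  let vA : B →ₐ[K] A :=
    { toFun := v
      map_one' := by
        apply injA
        rw [← hv 1 i₀]
        exact map_one (u i₀)
      map_mul' := by
        intro b b'
        apply injA
        rw [← hv (b * b') i₀]
        have h1 : ((1 : Kv i₀) ⊗ₜ[K] (b * b') : Kv i₀ ⊗[K] B) =
            ((1 : Kv i₀) ⊗ₜ[K] b) * ((1 : Kv i₀) ⊗ₜ[K] b') := by
          rw [Algebra.TensorProduct.tmul_mul_tmul, mul_one]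
        rw [h1, map_mul, hv b i₀, hv b' i₀, Algebra.TensorProduct.tmul_mul_tmul, mul_one]
      map_zero' := by
        apply injA
        rw [← hv 0 i₀, TensorProduct.tmul_zero, TensorProduct.tmul_zero, map_zero]
      map_add' := by
        intro b b'
        apply injA
        rw [← hv (b + b') i₀, TensorProduct.tmul_add, map_add, hv b i₀, hv b' i₀,
          TensorProduct.tmul_add]
      commutes' := by
        intro c
        apply injA
        rw [← hv _ i₀, ← Algebra.TensorProduct.algebraMap_apply',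
          ← Algebra.TensorProduct.algebraMap_apply',
          IsScalarTower.algebraMap_apply K (Kv i₀) (Kv i₀ ⊗[K] B),
          IsScalarTower.algebraMap_apply K (Kv i₀) (Kv i₀ ⊗[K] A)]
        exact AlgHomClass.commutes (u i₀) _ }
  have hvA : ∀ b, vA b = v b := fun _ => rfl
  have hinj : Function.Injective vA := by
    intro b b' h
    apply injB
    have h2 : u i₀ (1 ⊗ₜ[K] b) = u i₀ (1 ⊗ₜ[K] b') := by
      rw [hv b i₀, hv b' i₀, ← hvA, ← hvA, h]
    exact EquivLike.injective (u i₀) h2
  have hsurj : Function.Surjective vA := by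
    intro a
    obtain ⟨b, hb⟩ := Groth.Agent.Lib.Helper6.EqDescent.descent ρl ρr hlim B
      (fun i => ((u i : (Kv i ⊗[K] B) ≃ₐ[Kv i] (Kv i ⊗[K] A))).symm (1 ⊗ₜ[K] a))
      (fun k => Groth.Agent.Lib.Helper6.EqDescent.bcMap_symm_eq (ρl k) (ρr k)
        (u (l k) : (Kv (l k) ⊗[K] B) ≃ₐ[Kv (l k)] (Kv (l k) ⊗[K] A))
        (u (r k) : (Kv (r k) ⊗[K] B) ≃ₐ[Kv (r k)] (Kv (r k) ⊗[K] A)) (hu k) a)
    refine ⟨b, ?_⟩
    apply injA
    rw [hvA, ← hv b i₀, ← hb i₀]
    exact ((u i₀ : (Kv i₀ ⊗[K] B) ≃ₐ[Kv i₀] (Kv i₀ ⊗[K] A))).apply_symm_apply _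
  let vE : B ≃ₐ[K] A := AlgEquiv.ofBijective vA ⟨hinj, hsurj⟩
  have hvE : ∀ b, vE b = v b := fun _ => rfl
  have hcounit : (Bialgebra.counitAlgHom K A).comp (vE : B →ₐ[K] A) =
      Bialgebra.counitAlgHom K B := by
    ext b
    apply injK
    show algebraMap K (Kv i₀) (Coalgebra.counit (R := K) (v b)) =
      algebraMap K (Kv i₀) (Coalgebra.counit (R := K) b)
    rw [← Groth.Agent.Lib.Helper6.EqDescent.counit_one_tmul (Kv i₀) (v b),
      ← Groth.Agent.Lib.Helper6.EqDescent.counit_one_tmul (Kv i₀) b, ← hv b i₀]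
    exact CoalgHomClass.counit_comp_apply (u i₀) _
  have hcomul : (Algebra.TensorProduct.map (vE : B →ₐ[K] A) (vE : B →ₐ[K] A)).comp
      (Bialgebra.comulAlgHom K B) = (Bialgebra.comulAlgHom K A).comp (vE : B →ₐ[K] A) := by
    ext b
    apply Groth.Agent.Lib.Helper6.EqDescent.phi_injective (Kv i₀) A
    have h1 := CoalgHomClass.map_comp_comul_apply (u i₀) ((1 : Kv i₀) ⊗ₜ[K] b)
    rw [Groth.Agent.Lib.Helper6.EqDescent.comul_one_tmul, hv b i₀,
      Groth.Agent.Lib.Helper6.EqDescent.comul_one_tmul] at h1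
    show Groth.Agent.Lib.Helper6.EqDescent.phi (Kv i₀) A
        (Algebra.TensorProduct.map vA vA (Coalgebra.comul (R := K) b)) =
      Groth.Agent.Lib.Helper6.EqDescent.phi (Kv i₀) A (Coalgebra.comul (R := K) (v b))
    exact (Groth.Agent.Lib.Helper6.EqDescent.phi_map (Kv i₀) _ vA
      (fun b => hv b i₀) _).symm.trans h1
  refine ⟨BialgEquiv.ofAlgEquiv vE hcounit hcomul, fun i b => hv b i, ?_⟩
  intro w hw
  apply BialgEquiv.ext
  intro b
  apply injA
  rw [← hw i₀ b]
  exact hv b i₀

end Groth.Agent.S15411
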