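import Groth.Statements.S15412

set_option autoImplicit false
universe w v u
open CategoryTheory Opposite
open Bitors

namespace Groth.Agent.S15412

lemma isomFamily_ext {C : Type u} [Category.{v} C] {J : GrothendieckTopology C}
    {G H : Sheaf J GrpCat.{w}} {P : NonAbH1.GSheaf G} (a b : Bitors.IsomFamily P H)
    (h : ∀ (U : Cᵒᵖ) (p : P.P.obj.obj U) (x : H.obj.obj U), a.φ p x = b.φ p x) : a = b := by
  cases a with
  | mk φa ha1 ha2 =>
    cases b with
    | mk φb hb1 hb2 =>
      have : @φa = @φb := by
        funext U p
        exact MulEquiv.ext (h U p)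
      subst this
      rfl

lemma rightStr_ext {C : Type u} [Category.{v} C] {J : GrothendieckTopology C}
    {G H : Sheaf J GrpCat.{w}} {P : NonAbH1.GSheaf G} (a b : Bitors.RightStr P H)
    (h : ∀ (U : Cᵒᵖ) (p : P.P.obj.obj U) (x : H.obj.obj U), a.rsmul p x = b.rsmul p x) : a = b := by
  cases a with
  | mk ra a1 a2 a3 a4 a5 =>
    cases b with
    | mk rb b1 b2 b3 b4 b5 =>
      have : @ra = @rb := by
        funext U p x
        exact h U p x
      subst this
      rfl

/-- On a site, let G and H be sheaves of groups and P a sheaf of sets with a left G-action which is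
simply transitive on every set of sections P(U). The right H-actions on P that are compatible with
restriction, commute with the G-action and are simply transitive on every P(U) (for P a G-torsor:
the structures of (G, H)-bitorsor on P) correspond exactly to the families of group isomorphisms φ_p
: H(U) ≃ G(U), one for each section p of P over each U, compatible with restriction and with φ_{g·p}
= g φ_p g⁻¹ (the equivariant maps from P to the sheaf of isomorphisms from H to G); the
correspondence is the rule p · h = φ_p(h) · p, and the statement is that every right structure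
arises by this rule from exactly one family and every family from exactly one right structure. (The
published statement takes P a left G-torsor; only the simple transitivity of the G-action on
sections enters, so local existence of sections is not assumed.) -/
theorem result
    {C : Type u} [Category.{v} C] {J : GrothendieckTopology C}
    (G H : Sheaf J GrpCat.{w}) (P : NonAbH1.GSheaf G) (hP : P.IsPseudoTorsor) :
    (∀ ρ : Bitors.RightStr P H, ∃! φ : Bitors.IsomFamily P H,
        ∀ (U : Cᵒᵖ) (p : P.P.obj.obj U) (h : H.obj.obj U), ρ.rsmul p h = P.smul (φ.φ p h) p) ∧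
    (∀ φ : Bitors.IsomFamily P H, ∃! ρ : Bitors.RightStr P H,
        ∀ (U : Cᵒᵖ) (p : P.P.obj.obj U) (h : H.obj.obj U), ρ.rsmul p h = P.smul (φ.φ p h) p) := by
  have cancel : ∀ (U : Cᵒᵖ) (p : P.P.obj.obj U) (g g' : G.obj.obj U),
      P.smul g p = P.smul g' p → g = g' := by
    intro U p g g' hgg
    obtain ⟨g₀, -, hu⟩ := hP U p (P.smul g' p)
    rw [hu g hgg, hu g' rfl]
  constructor
  · intro ρ
    have hex : ∀ (U : Cᵒᵖ) (p : P.P.obj.obj U) (h : H.obj.obj U),
        ∃ g : G.obj.obj U, P.smul g p = ρ.rsmul p h := fun U p h => (hP U p (ρ.rsmul p h)).exists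
    choose ψ hψ using hex
    have hmul : ∀ (U : Cᵒᵖ) (p : P.P.obj.obj U) (h h' : H.obj.obj U),
        ψ U p (h * h') = ψ U p h * ψ U p h' := by
      intro U p h h'
      apply cancel U p
      rw [hψ, ρ.rsmul_mul, ← hψ U p h, ρ.smul_rsmul, ← hψ U p h', ← P.mul_smul]
    have hinj : ∀ (U : Cᵒᵖ) (p : P.P.obj.obj U), Function.Injective (ψ U p) := by
      intro U p h h' hh
      have h1 : ρ.rsmul p h = ρ.rsmul p h' := by rw [← hψ, ← hψ, hh]
      exact (ρ.existsUnique_rsmul p (ρ.rsmul p h')).unique h1 rfl
    have hsurj : ∀ (U : Cᵒᵖ) (p : P.P.obj.obj U), Function.Surjective (ψ U p) := by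
      intro U p g
      obtain ⟨h, hh, -⟩ := ρ.existsUnique_rsmul p (P.smul g p)
      exact ⟨h, cancel U p _ _ (by rw [hψ, hh])⟩
    let φfam : Bitors.IsomFamily P H :=
      { φ := fun {U} p => MulEquiv.ofBijective (MonoidHom.mk' (ψ U p) (hmul U p))
          ⟨hinj U p, hsurj U p⟩
        map_φ := by
          intro U V f p h
          show G.obj.map f (ψ U p h) = ψ V (P.P.obj.map f p) (H.obj.map f h)
          apply cancel V (P.P.obj.map f p)
          rw [← P.map_smul, hψ, ρ.map_rsmul, ← hψ]
        φ_smul := by
          intro U g p h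
          show ψ U (P.smul g p) h = g * ψ U p h * g⁻¹
          apply cancel U (P.smul g p)
          rw [hψ, ρ.smul_rsmul, ← hψ U p h, ← P.mul_smul, ← P.mul_smul, inv_mul_cancel_right] }
    refine ⟨φfam, fun U p h => (hψ U p h).symm, ?_⟩
    intro φ' hφ'
    apply isomFamily_ext
    intro U p x
    show φ'.φ p x = ψ U p x
    apply cancel U p
    rw [hψ, hφ']
  · intro φ
    let ρ₀ : Bitors.RightStr P H :=
      { rsmul := fun {U} p h => P.smul (φ.φ p h) p
        rsmul_one := by
          intro U p
          rw [map_one, P.one_smul]
        rsmul_mul := by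
          intro U p h h'
          rw [map_mul, φ.φ_smul, ← P.mul_smul, inv_mul_cancel_right]
        map_rsmul := by
          intro U V f p h
          rw [P.map_smul, φ.map_φ]
        smul_rsmul := by
          intro U g p h
          rw [φ.φ_smul, ← P.mul_smul, inv_mul_cancel_right, P.mul_smul]
        existsUnique_rsmul := by
          intro U p q
          obtain ⟨g, hg, hgu⟩ := hP U p q
          refine ⟨(φ.φ p).symm g, ?_, ?_⟩
          · show P.smul (φ.φ p ((φ.φ p).symm g)) p = q
            rw [MulEquiv.apply_symm_apply, hg]
          · intro h hh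
            have : φ.φ p h = g := hgu _ hh
            rw [← this, MulEquiv.symm_apply_apply] }
    refine ⟨ρ₀, fun U p h => rfl, ?_⟩
    intro ρ' hρ'
    apply rightStr_ext
    intro U p x
    exact hρ' U p x

end Groth.Agent.S15412
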