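import Groth.Statements.S15415
-- import your own Groth.Agent.* helpers here
import Groth.Agent.Lib.Helper3.SL1H1

set_option autoImplicit false
universe u v w
open scoped TensorProduct
attribute [local instance] CSAGal.tensorAction GpH1.unitsAction
open GalCoh

namespace Groth.Agent.S15415

/-- For a central simple algebra over a field, the first Galois cohomology set of its norm-one group is
identified with the nonzero scalars modulo the reduced norms of units, by the boundary map of the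
sequence norm-one units → units → nonzero scalars. Finite-level form: let k be a field, K a finite
Galois extension of k whose Galois group acts on K ⊗_k A through the first factor, A a
finite-dimensional central simple k-algebra split by K, N the reduced norm of A over k and N_K the
reduced norm of K ⊗_k A over K. Then (i) every 1-cocycle a with values in the units of K ⊗_k A of
reduced norm one is of the form a σ = b⁻¹ · σ(b) for a unit b whose reduced norm is an element c of
kˣ; and (ii) for units b, b' of K ⊗_k A with reduced norms c, c' in kˣ, the cocycles σ ↦ b⁻¹σ(b) and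
σ ↦ b'⁻¹σ(b') are cohomologous through a unit of reduced norm one if and only if c' = N(x) · c for
some unit x of A. (Since K splits A the reduced norm N_K takes every value in kˣ, so (i) and (ii)
say that c ↦ class of b⁻¹σ(b), N_K b = c, is a well-defined bijection from kˣ/N(Aˣ) onto the
cohomology set of the norm-one units. The published statement is for the absolute Galois group of a
field of characteristic different from 2, an assumption playing no role here; this row is the
finite-level form over a splitting field.) -/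
theorem result
    (k : Type u) [Field k] (K : Type v) [Field K] [Algebra k K] [FiniteDimensional k K] [IsGalois k K]
    (A : Type w) [Ring A] [Algebra k A] [Algebra.IsCentral k A] [IsSimpleRing A] [FiniteDimensional k A]
    (hA : Curves.Splits k A K)
    (N : A →* k) (hN : CSAGal.IsRedNorm k A N)
    (NK : (K ⊗[k] A) →* K) (hNK : CSAGal.IsRedNorm K (K ⊗[k] A) NK) :
    (∀ a : GpH1.OneCocycle (K ≃ₐ[k] K) (K ⊗[k] A)ˣ, (∀ σ, NK (a σ : K ⊗[k] A) = 1) →
        ∃ (c : kˣ) (b : (K ⊗[k] A)ˣ), NK (b : K ⊗[k] A) = algebraMap k K (c : k) ∧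
          ∀ σ : K ≃ₐ[k] K, a σ = b⁻¹ * σ • b) ∧
    (∀ (c c' : kˣ) (b b' : (K ⊗[k] A)ˣ),
        NK (b : K ⊗[k] A) = algebraMap k K (c : k) → NK (b' : K ⊗[k] A) = algebraMap k K (c' : k) →
        ((∃ s : (K ⊗[k] A)ˣ, NK (s : K ⊗[k] A) = 1 ∧
            ∀ σ : K ≃ₐ[k] K, b'⁻¹ * σ • b' = s⁻¹ * (b⁻¹ * σ • b) * σ • s) ↔
          ∃ x : Aˣ, (c' : k) = N (x : A) * (c : k))) := by
  obtain ⟨n, hn, ⟨φ⟩⟩ := hA
  haveI : NeZero n := ⟨hn⟩
  haveI : IsSimpleRing (K ⊗[k] A) := IsSimpleRing.of_ringEquiv φ.symm.toRingEquiv inferInstance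
  haveI : Algebra.IsCentral K (K ⊗[k] A) := ⟨fun x hx => by
    have h1 : φ x ∈ Subalgebra.center K (Matrix (Fin n) (Fin n) K) := by
      rw [Subalgebra.mem_center_iff] at hx ⊢
      intro y
      obtain ⟨y', rfl⟩ := φ.surjective y
      rw [← map_mul, ← map_mul, hx y']
    have h2 := Algebra.IsCentral.out h1
    obtain ⟨c, hc⟩ := Algebra.mem_bot.1 h2
    exact Algebra.mem_bot.2 ⟨c, φ.injective (by rw [← hc, AlgEquiv.commutes])⟩⟩
  have hsm : ∀ (σ : K ≃ₐ[k] K) (x : K ⊗[k] A), NK (σ • x) = σ (NK x) :=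
    fun σ x => Groth.Agent.Helper3.SL1H1.NK_smul hn φ NK hNK σ x
  have h1t : ∀ a : A, NK ((1 : K) ⊗ₜ[k] a) = algebraMap k K (N a) :=
    Groth.Agent.Helper3.SL1H1.NK_one_tmul hn φ NK hNK N hN
  have hfix : ∀ y : K, (∀ σ : K ≃ₐ[k] K, σ y = y) → ∃ c : k, algebraMap k K c = y := by
    intro y hy
    have h1 : y ∈ (⊥ : IntermediateField k K) := (IsGalois.mem_bot_iff_fixed y).2 hy
    exact IntermediateField.mem_bot.1 h1
  have hNu : ∀ u : (K ⊗[k] A)ˣ, NK ((u⁻¹ : (K ⊗[k] A)ˣ) : K ⊗[k] A) * NK (u : K ⊗[k] A) = 1 := by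
    intro u
    rw [← map_mul, Units.inv_mul, map_one]
  have hNu0 : ∀ u : (K ⊗[k] A)ˣ, NK (u : K ⊗[k] A) ≠ 0 := by
    intro u h0
    have := hNu u
    rw [h0, mul_zero] at this
    exact zero_ne_one this
  have hsmu : ∀ (σ : K ≃ₐ[k] K) (u : (K ⊗[k] A)ˣ), ((σ • u : (K ⊗[k] A)ˣ) : K ⊗[k] A) = σ • (u : K ⊗[k] A) :=
    fun σ u => rfl
  constructor
  · intro a ha
    obtain ⟨b, hb⟩ := Groth.Agent.Helper3.H90A.main k K A (fun σ => a σ) (fun σ τ => by
      have h2 := congrArg Units.val (a.2 σ τ)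
      rw [Units.val_mul] at h2
      exact h2)
    have hb' : ∀ σ : K ≃ₐ[k] K, ((a σ : (K ⊗[k] A)ˣ) : K ⊗[k] A) =
        ((b⁻¹ : (K ⊗[k] A)ˣ) : K ⊗[k] A) * σ • (b : K ⊗[k] A) := hb
    have hNb : ∀ σ : K ≃ₐ[k] K, σ (NK (b : K ⊗[k] A)) = NK (b : K ⊗[k] A) := by
      intro σ
      have h2 := ha σ
      rw [hb' σ, map_mul] at h2
      have h3 : NK (σ • (b : K ⊗[k] A)) = σ (NK (b : K ⊗[k] A)) := hsm σ _
      have h4 := hNu b
      have h5 : NK (σ • (b : K ⊗[k] A)) = NK (b : K ⊗[k] A) :=
        mul_left_cancel₀ (hNu0 b⁻¹) (h2.trans h4.symm)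
      rw [← h3, h5]
    obtain ⟨c, hc⟩ := hfix _ hNb
    have hc0 : c ≠ 0 := by
      rintro rfl
      rw [map_zero] at hc
      exact hNu0 b hc.symm
    exact ⟨Units.mk0 c hc0, b, hc.symm, fun σ => Units.ext (hb' σ)⟩
  · intro c c' b b' hb hb'
    have hinj := Groth.Agent.Helper24.GalDescent.one_tmul_injective (k := k) (K := K) (W := A)
    constructor
    · rintro ⟨s, hs, h⟩
      have hu : ∀ σ : K ≃ₐ[k] K, σ • (b * s * b'⁻¹) = b * s * b'⁻¹ := by
        intro σ
        have h1 := h σ
        rw [smul_mul', smul_mul', smul_inv']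
        have h2 : σ • b * σ • s = b * s * (b'⁻¹ * σ • b') := by
          rw [h1]
          group
        rw [h2]
        group
      have hu' : ∀ σ : K ≃ₐ[k] K, σ • (b * s * b'⁻¹)⁻¹ = (b * s * b'⁻¹)⁻¹ := by
        intro σ
        rw [smul_inv', hu σ]
      obtain ⟨x, hx⟩ := Groth.Agent.Helper24.GalDescent.exists_one_tmul_eq_of_fixed
        (((b * s * b'⁻¹ : (K ⊗[k] A)ˣ)) : K ⊗[k] A) (fun σ => congrArg Units.val (hu σ))
      obtain ⟨x', hx'⟩ := Groth.Agent.Helper24.GalDescent.exists_one_tmul_eq_of_fixed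
        ((((b * s * b'⁻¹)⁻¹ : (K ⊗[k] A)ˣ)) : K ⊗[k] A) (fun σ => congrArg Units.val (hu' σ))
      have hxx' : x * x' = 1 := by
        apply hinj
        change (1 : K) ⊗ₜ[k] (x * x') = (1 : K) ⊗ₜ[k] (1 : A)
        rw [← one_mul (1 : K), ← Algebra.TensorProduct.tmul_mul_tmul, hx, hx', one_mul,
          Units.mul_inv, Algebra.TensorProduct.one_def]
      have hx'x : x' * x = 1 := by
        apply hinj
        change (1 : K) ⊗ₜ[k] (x' * x) = (1 : K) ⊗ₜ[k] (1 : A)
        rw [← one_mul (1 : K), ← Algebra.TensorProduct.tmul_mul_tmul, hx, hx', one_mul,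
          Units.inv_mul, Algebra.TensorProduct.one_def]
      refine ⟨⟨x', x, hx'x, hxx'⟩, ?_⟩
      change (c' : k) = N x' * (c : k)
      have e1 : algebraMap k K (N x) = NK (b : K ⊗[k] A) * NK (s : K ⊗[k] A) *
          NK ((b'⁻¹ : (K ⊗[k] A)ˣ) : K ⊗[k] A) := by
        rw [← h1t, hx, Units.val_mul, Units.val_mul, map_mul, map_mul]
      rw [hb, hs, mul_one] at e1
      have e2 := hNu b'
      rw [hb'] at e2
      have e3 : N x' * N x = 1 := by rw [← map_mul, hx'x, map_one]
      apply (algebraMap k K).injective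
      rw [map_mul]
      have e4 : algebraMap k K (N x') * algebraMap k K (N x) = 1 := by
        rw [← map_mul, e3, map_one]
      calc algebraMap k K (c' : k) = (algebraMap k K (N x') * algebraMap k K (N x)) *
            algebraMap k K (c' : k) := by rw [e4, one_mul]
        _ = algebraMap k K (N x') * (algebraMap k K (c : k) *
            (NK ((b'⁻¹ : (K ⊗[k] A)ˣ) : K ⊗[k] A) * algebraMap k K (c' : k))) := by
          rw [e1]
          ring
        _ = algebraMap k K (N x') * algebraMap k K (c : k) := by rw [e2, mul_one]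
    · rintro ⟨x, hx⟩
      let y : (K ⊗[k] A)ˣ :=
        Units.map ((Algebra.TensorProduct.includeRight : A →ₐ[k] K ⊗[k] A) : A →* K ⊗[k] A) x
      have hyv : (y : K ⊗[k] A) = (1 : K) ⊗ₜ[k] (x : A) := rfl
      have hy : ∀ σ : K ≃ₐ[k] K, σ • y = y := fun σ =>
        Units.ext (Groth.Agent.Helper24.GalDescent.smul_one_tmul σ (x : A))
      refine ⟨b⁻¹ * y⁻¹ * b', ?_, fun σ => ?_⟩
      · rw [Units.val_mul, Units.val_mul, map_mul, map_mul, hb', hx, map_mul]
        have e1 := hNu b
        have e2 := hNu y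
        rw [hb] at e1
        rw [hyv, h1t] at e2
        calc NK ((b⁻¹ : (K ⊗[k] A)ˣ) : K ⊗[k] A) * NK ((y⁻¹ : (K ⊗[k] A)ˣ) : K ⊗[k] A) *
              (algebraMap k K (N (x : A)) * algebraMap k K (c : k))
            = (NK ((b⁻¹ : (K ⊗[k] A)ˣ) : K ⊗[k] A) * algebraMap k K (c : k)) *
              (NK ((y⁻¹ : (K ⊗[k] A)ˣ) : K ⊗[k] A) * algebraMap k K (N (x : A))) := by ring
          _ = 1 := by rw [e1, e2, one_mul]
      · rw [smul_mul', smul_mul', smul_inv', smul_inv', hy σ]
        group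

end Groth.Agent.S15415
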