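import Groth.Statements.S15419
import Groth.Agent.Lib.Helper20.GrCx15

set_option autoImplicit false
universe u
open GrLC

namespace Groth.Agent.S15419

open Groth.Agent.Helper20.GrInj

theorem stdGr_neg_aux {k : Type u} [Field k] {σ : Type} (n : ℤ) (hn : n < 0)
    (x : MvPolynomial σ k) (hx : x ∈ GrSyz.stdGr k σ n) : x = 0 := by
  rw [GrSyz.mem_stdGr_iff] at hx
  ext d
  rw [MvPolynomial.coeff_zero]
  by_contra hd
  have hw := hx hd
  have hnn : (0 : ℤ) ≤ Finsupp.weight (fun _ : σ => (1 : ℤ)) d := by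
    rw [Finsupp.weight_apply]
    exact Finset.sum_nonneg (fun i _ => by positivity)
  omega

theorem result (k : Type u) [Field k] (r : ℕ)
    (M : Type u) [AddCommGroup M] [Module k M] [Module (MvPolynomial (Fin (r + 1)) k) M]
    [IsScalarTower k (MvPolynomial (Fin (r + 1)) k) M] [Module.Finite (MvPolynomial (Fin (r + 1)) k) M]
    (ℳ : ℤ → Submodule k M) [DirectSum.Decomposition ℳ] [SetLike.GradedSMul (GrSyz.stdGr k (Fin (r + 1))) ℳ]
    (x : MvPolynomial (Fin (r + 1)) k) (hx : x ∈ GrSyz.stdGr k (Fin (r + 1)) 1)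
    (hq : IsFiniteLength (MvPolynomial (Fin (r + 1)) k) ↥(Submodule.torsionBy (MvPolynomial (Fin (r + 1)) k) M x))
    (N : Type u) [AddCommGroup N] [Module k N] [Module (MvPolynomial (Fin (r + 1)) k) N]
    [IsScalarTower k (MvPolynomial (Fin (r + 1)) k) N] [Module.Finite (MvPolynomial (Fin (r + 1)) k) N]
    (𝒩 : ℤ → Submodule k N) [DirectSum.Decomposition 𝒩] [SetLike.GradedSMul (GrSyz.stdGr k (Fin (r + 1))) 𝒩]
    (π : M →ₗ[MvPolynomial (Fin (r + 1)) k] N) (hπ : Function.Surjective π) (hπg : GrLC.IsGrHom ℳ 𝒩 π)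
    (hker : LinearMap.ker π = LinearMap.range (x • (LinearMap.id : M →ₗ[MvPolynomial (Fin (r + 1)) k] M)))
    (E : GrLC.StarInjRes (GrSyz.stdGr k (Fin (r + 1))) ℳ) (E' : GrLC.StarInjRes (GrSyz.stdGr k (Fin (r + 1))) 𝒩) (d : ℤ)
    (hM : ∀ i : ℕ, 0 < i → E.Hcomp (GrSyz.irrel (GrSyz.stdGr k (Fin (r + 1)))) i (d - (i : ℤ) + 1) = ⊥) (i : ℕ) (hi : 0 < i) :
    E'.Hcomp (GrSyz.irrel (GrSyz.stdGr k (Fin (r + 1)))) i (d - (i : ℤ) + 1) = ⊥ := by
  classical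
  -- notation
  have hpos : ∀ n : ℤ, n < 0 → ∀ y ∈ GrSyz.stdGr k (Fin (r + 1)) n, y = 0 :=
    fun n hn y hy => stdGr_neg_aux n hn y hy
  have ha : ∀ y ∈ (GrSyz.irrel (GrSyz.stdGr k (Fin (r + 1)))).toIdeal, ∀ u : ℤ, u ≤ 0 →
      (DirectSum.decompose (GrSyz.stdGr k (Fin (r + 1))) y u : MvPolynomial (Fin (r + 1)) k) = 0 :=
    fun y hy u hu => decompose_eq_zero_of_mem_span_pos _ hpos y hy u hu
  -- the kernel of multiplication by x is torsion
  have hKhom : (LinearMap.ker (LinearMap.lsmul (MvPolynomial (Fin (r + 1)) k) M x)).IsHomogeneous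
      (addGr ℳ) := ker_lsmul_isHomogeneous (ℳ := addGr ℳ) hx
  have hKeq : LinearMap.ker (LinearMap.lsmul (MvPolynomial (Fin (r + 1)) k) M x) =
      Submodule.torsionBy (MvPolynomial (Fin (r + 1)) k) M x := by
    ext m
    rw [LinearMap.mem_ker, Submodule.mem_torsionBy_iff]
    rfl
  haveI : IsArtinian (MvPolynomial (Fin (r + 1)) k)
      ↥(LinearMap.ker (LinearMap.lsmul (MvPolynomial (Fin (r + 1)) k) M x)) := by
    rw [hKeq]
    exact (isFiniteLength_iff_isNoetherian_isArtinian.1 hq).2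
  obtain ⟨n₀, hn₀⟩ := exists_bddBelow_of_finite (GrSyz.stdGr k (Fin (r + 1))) (addGr ℳ) hpos
  have hKt : LinearMap.ker (LinearMap.lsmul (MvPolynomial (Fin (r + 1)) k) M x) ≤
      GrLC.gam (GrSyz.irrel (GrSyz.stdGr k (Fin (r + 1)))).toIdeal M :=
    le_gam_of_isArtinian (GrSyz.stdGr k (Fin (r + 1))) (addGr ℳ)
      (GrSyz.irrel (GrSyz.stdGr k (Fin (r + 1)))) ha _ hKhom n₀
      (fun j hj p _ hpj => hn₀ j hj p hpj)
  obtain ⟨i', rfl⟩ : ∃ i', i = i' + 1 := ⟨i - 1, by omega⟩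
  have h1 := hM (i' + 1) (Nat.succ_pos _)
  have h2 := hM (i' + 2) (Nat.succ_pos _)
  have h2' : E.Hcomp (GrSyz.irrel (GrSyz.stdGr k (Fin (r + 1)))) (i' + 2)
      (d - ((i' + 1 : ℕ) : ℤ) + 1 - 1) = ⊥ := by
    have : d - ((i' + 1 : ℕ) : ℤ) + 1 - 1 = d - ((i' + 2 : ℕ) : ℤ) + 1 := by push_cast; ring
    rw [this]; exact h2
  have hker' : LinearMap.ker π = LinearMap.range (LinearMap.lsmul (MvPolynomial (Fin (r + 1)) k) M x) := by
    rw [hker]; rfl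
  exact Hcomp_quotient_regular_eq_bot (ℳ := addGr ℳ) (𝒩 := addGr 𝒩)
    (GrSyz.irrel (GrSyz.stdGr k (Fin (r + 1)))) hx hKt π hπ hπg hker'
    (resToAdd E) (resToAdd E') i' (d - ((i' + 1 : ℕ) : ℤ) + 1) h1 h2'

end Groth.Agent.S15419
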