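import Groth.Statements.S15420
import Groth.Agent.Lib.Helper20.GrStd

set_option autoImplicit false
universe u
open GrLC

namespace Groth.Agent.S15420

open Groth.Agent.Helper20.GrInj in

theorem result (k : Type u) [Field k] (r : ℕ)
    (M : Type u) [AddCommGroup M] [Module k M] [Module (MvPolynomial (Fin (r + 1)) k) M]
    [IsScalarTower k (MvPolynomial (Fin (r + 1)) k) M] [Module.Finite (MvPolynomial (Fin (r + 1)) k) M]
    (ℳ : ℤ → Submodule k M) [DirectSum.Decomposition ℳ] [SetLike.GradedSMul (GrSyz.stdGr k (Fin (r + 1))) ℳ]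
    (x : MvPolynomial (Fin (r + 1)) k) (hx : x ∈ GrSyz.stdGr k (Fin (r + 1)) 1)
    (hq : IsFiniteLength (MvPolynomial (Fin (r + 1)) k) ↥(Submodule.torsionBy (MvPolynomial (Fin (r + 1)) k) M x))
    (N : Type u) [AddCommGroup N] [Module k N] [Module (MvPolynomial (Fin (r + 1)) k) N]
    [IsScalarTower k (MvPolynomial (Fin (r + 1)) k) N] [Module.Finite (MvPolynomial (Fin (r + 1)) k) N]
    (𝒩 : ℤ → Submodule k N) [DirectSum.Decomposition 𝒩] [SetLike.GradedSMul (GrSyz.stdGr k (Fin (r + 1))) 𝒩]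
    (π : M →ₗ[MvPolynomial (Fin (r + 1)) k] N) (hπ : Function.Surjective π) (hπg : GrLC.IsGrHom ℳ 𝒩 π)
    (hker : LinearMap.ker π = LinearMap.range (x • (LinearMap.id : M →ₗ[MvPolynomial (Fin (r + 1)) k] M)))
    (E : GrLC.StarInjRes (GrSyz.stdGr k (Fin (r + 1))) ℳ) (E' : GrLC.StarInjRes (GrSyz.stdGr k (Fin (r + 1))) 𝒩) (d : ℤ) :
    (GrLC.endDeg (E.Hgr (GrSyz.irrel (GrSyz.stdGr k (Fin (r + 1)))) 0) ≤ ((d : WithTop ℤ) : WithBot (WithTop ℤ)) ∧ ∀ i : ℕ, 0 < i → E.Hcomp (GrSyz.irrel (GrSyz.stdGr k (Fin (r + 1)))) i (d - (i : ℤ) + 1) = ⊥) ↔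
      ((GrLC.endDeg (E'.Hgr (GrSyz.irrel (GrSyz.stdGr k (Fin (r + 1)))) 0) ≤ ((d : WithTop ℤ) : WithBot (WithTop ℤ)) ∧ ∀ i : ℕ, 0 < i → E'.Hcomp (GrSyz.irrel (GrSyz.stdGr k (Fin (r + 1)))) i (d - (i : ℤ) + 1) = ⊥) ∧
        GrLC.endDeg (E.Hgr (GrSyz.irrel (GrSyz.stdGr k (Fin (r + 1)))) 0) ≤ ((d : WithTop ℤ) : WithBot (WithTop ℤ))) := by
  classical
  have hpos : ∀ n : ℤ, n < 0 → ∀ y ∈ GrSyz.stdGr k (Fin (r + 1)) n, y = 0 :=
    fun n hn y hy => stdGr_eq_zero_of_neg n hn y hy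
  have ha : ∀ y ∈ (GrSyz.irrel (GrSyz.stdGr k (Fin (r + 1)))).toIdeal, ∀ u : ℤ, u ≤ 0 →
      (DirectSum.decompose (GrSyz.stdGr k (Fin (r + 1))) y u : MvPolynomial (Fin (r + 1)) k) = 0 :=
    fun y hy u hu => decompose_eq_zero_of_mem_span_pos _ hpos y hy u hu
  have hKhom : (LinearMap.ker (LinearMap.lsmul (MvPolynomial (Fin (r + 1)) k) M x)).IsHomogeneous
      (addGr ℳ) := ker_lsmul_isHomogeneous (ℳ := addGr ℳ) hx
  have hKeq : LinearMap.ker (LinearMap.lsmul (MvPolynomial (Fin (r + 1)) k) M x) =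
      Submodule.torsionBy (MvPolynomial (Fin (r + 1)) k) M x := by
    ext m
    rw [LinearMap.mem_ker, Submodule.mem_torsionBy_iff]
    rfl
  haveI : IsArtinian (MvPolynomial (Fin (r + 1)) k)
      ↥(LinearMap.ker (LinearMap.lsmul (MvPolynomial (Fin (r + 1)) k) M x)) := by
    rw [hKeq]
    exact (isFiniteLength_iff_isNoetherian_isArtinian.1 hq).2
  obtain ⟨n₀, hn₀⟩ := exists_bddBelow_of_finite (GrSyz.stdGr k (Fin (r + 1))) (addGr ℳ) hpos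
  have hKt : LinearMap.ker (LinearMap.lsmul (MvPolynomial (Fin (r + 1)) k) M x) ≤
      GrLC.gam (GrSyz.irrel (GrSyz.stdGr k (Fin (r + 1)))).toIdeal M :=
    le_gam_of_isArtinian (GrSyz.stdGr k (Fin (r + 1))) (addGr ℳ)
      (GrSyz.irrel (GrSyz.stdGr k (Fin (r + 1)))) ha _ hKhom n₀
      (fun j hj p _ hpj => hn₀ j hj p hpj)
  have hker' : LinearMap.ker π = LinearMap.range (LinearMap.lsmul (MvPolynomial (Fin (r + 1)) k) M x) := by
    rw [hker]; rfl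
  have key := wreg_iff_quotient (ℳ := addGr ℳ) (𝒩 := addGr 𝒩)
    (GrSyz.irrel (GrSyz.stdGr k (Fin (r + 1)))) irrel_stdGr_eq_span hx hKt π hπ hπg hker'
    (resToAdd E) (resToAdd E') d
  have e1 := endDeg_Hgr_le_iff (resToAdd E) (GrSyz.irrel (GrSyz.stdGr k (Fin (r + 1)))) 0 d
  have e2 := endDeg_Hgr_le_iff (resToAdd E') (GrSyz.irrel (GrSyz.stdGr k (Fin (r + 1)))) 0 d
  change (GrLC.endDeg ((resToAdd E).Hgr (GrSyz.irrel (GrSyz.stdGr k (Fin (r + 1)))) 0) ≤ _ ∧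
      ∀ i : ℕ, 0 < i → (resToAdd E).Hcomp (GrSyz.irrel (GrSyz.stdGr k (Fin (r + 1)))) i (d - (i : ℤ) + 1) = ⊥) ↔
    ((GrLC.endDeg ((resToAdd E').Hgr (GrSyz.irrel (GrSyz.stdGr k (Fin (r + 1)))) 0) ≤ _ ∧
      ∀ i : ℕ, 0 < i → (resToAdd E').Hcomp (GrSyz.irrel (GrSyz.stdGr k (Fin (r + 1)))) i (d - (i : ℤ) + 1) = ⊥) ∧
      GrLC.endDeg ((resToAdd E).Hgr (GrSyz.irrel (GrSyz.stdGr k (Fin (r + 1)))) 0) ≤ _)
  rw [e1, e2]
  exact key

end Groth.Agent.S15420
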