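import Groth.Statements.S15422
import Mathlib
import Groth.Agent.S15423
import Groth.Agent.Lib.Helper23.GrSyzFinLen

set_option autoImplicit false
universe u
open GrSyz

namespace Groth.Agent.S15422

set_option linter.style.haveILetI false
set_option linter.unusedVariables false
set_option linter.unusedSectionVars false
open Groth.Agent.Helper23.GrSyzFinLen Groth.Agent.Helper23.GrSyzQuot Groth.Agent.Helper23.GrSyzReg GrSyz GrLC

variable {k : Type u} [Field k] {r : ℕ}
  {M : Type u} [AddCommGroup M] [Module k M] [Module (MvPolynomial (Fin (r + 1)) k) M]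
  [IsScalarTower k (MvPolynomial (Fin (r + 1)) k) M]
  [Module.Finite (MvPolynomial (Fin (r + 1)) k) M]
  (ℳ : ℤ → Submodule k M) [DirectSum.Decomposition ℳ]
  [SetLike.GradedSMul (stdGr k (Fin (r + 1))) ℳ]

theorem toAddSubgroup_ne_bot_iff (n : ℤ) : (ℳ n).toAddSubgroup ≠ ⊥ ↔ ℳ n ≠ ⊥ := by
  rw [not_iff_not]
  constructor
  · intro h
    rw [eq_bot_iff]
    intro x hx
    have : x ∈ (ℳ n).toAddSubgroup := hx
    rw [h] at this
    exact this
  · intro h
    rw [h]
    rfl

theorem main (hM : IsFiniteLength (MvPolynomial (Fin (r + 1)) k) M) :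
    reg (stdGr k (Fin (r + 1))) ℳ (irrel (stdGr k (Fin (r + 1)))).toIdeal =
      endDeg (fun n => (ℳ n).toAddSubgroup) := by
  obtain ⟨n, hn⟩ := ENat.ne_top_iff_exists.mp (Module.length_ne_top_iff.mpr hM)
  obtain ⟨hnoeth, hart⟩ := isFiniteLength_iff_isNoetherian_isArtinian.mp hM
  obtain ⟨e, he⟩ := exists_bound (σ := Fin (r + 1)) ℳ
  have hD := isRegLE_of_length n M ℳ hn.symm
  by_cases hall : ∀ j, ℳ j = ⊥
  · have h1 : endDeg (fun n => (ℳ n).toAddSubgroup) = ⊥ := by
      unfold endDeg
      rw [eq_bot_iff]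
      refine iSup₂_le (fun n hn => ?_)
      exact absurd (hall n) ((toAddSubgroup_ne_bot_iff ℳ n).mp hn)
    rw [h1, eq_bot_iff]
    apply Groth.Agent.S15423.le_of_forall_int
    intro ρ _
    exact iInf₂_le ρ (hD ρ (fun j _ => hall j))
  · push Not at hall
    obtain ⟨e₀, he₀, hmax⟩ := Int.exists_greatest_of_bdd (P := fun j => ℳ j ≠ ⊥)
      ⟨e, fun z hz => by by_contra hc; exact hz (he z (by omega))⟩ hall
    have htop : ∀ j, e₀ < j → ℳ j = ⊥ := by
      intro j hj
      by_contra hc
      have := hmax j hc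
      omega
    have h1 : endDeg (fun n => (ℳ n).toAddSubgroup) =
        ((e₀ : WithTop ℤ) : WithBot (WithTop ℤ)) := by
      unfold endDeg
      apply le_antisymm
      · refine iSup₂_le (fun n hn => ?_)
        have := hmax n ((toAddSubgroup_ne_bot_iff ℳ n).mp hn)
        exact_mod_cast this
      · exact le_iSup₂ (f := fun (n : ℤ) (_ : (ℳ n).toAddSubgroup ≠ ⊥) =>
          ((n : WithTop ℤ) : WithBot (WithTop ℤ))) e₀ ((toAddSubgroup_ne_bot_iff ℳ e₀).mpr he₀)
    rw [h1]
    apply le_antisymm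
    · exact iInf₂_le e₀ (hD e₀ htop)
    · refine le_iInf₂ (fun ρ hρ => ?_)
      have := le_of_isRegLE ℳ he₀ htop ρ hρ
      exact_mod_cast this

/-- Let k be a field, S = k[x_0, …, x_r] graded by degree, 𝔪 = (x_0, …, x_r) and M a finitely generated
ℤ-graded S-module of finite length. Then the Castelnuovo–Mumford regularity of M, in the sense of
minimal graded free resolutions (an extended integer, −∞ for the zero module), equals the largest
degree d with M_d ≠ 0. -/
theorem result (k : Type u) [Field k] (r : ℕ)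
    (M : Type u) [AddCommGroup M] [Module k M] [Module (MvPolynomial (Fin (r + 1)) k) M]
    [IsScalarTower k (MvPolynomial (Fin (r + 1)) k) M] [Module.Finite (MvPolynomial (Fin (r + 1)) k) M]
    (ℳ : ℤ → Submodule k M) [DirectSum.Decomposition ℳ] [SetLike.GradedSMul (GrSyz.stdGr k (Fin (r + 1))) ℳ]
    (hM : IsFiniteLength (MvPolynomial (Fin (r + 1)) k) M) :
    GrSyz.reg (GrSyz.stdGr k (Fin (r + 1))) ℳ (GrSyz.irrel (GrSyz.stdGr k (Fin (r + 1)))).toIdeal = GrLC.endDeg (fun n => (ℳ n).toAddSubgroup) := by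
  exact main ℳ hM

end Groth.Agent.S15422
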