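import Groth.Statements.S15432
import Mathlib
import Groth.Agent.Lib.Helper23.GrSyzHilb

set_option autoImplicit false
universe u
open GrSyz

namespace Groth.Agent.S15432

open Matrix

section LinAlg

variable {A : Type*} [CommRing A] [IsDomain A]
  {ι κ l : Type*} [Fintype ι] [Fintype κ] [Fintype l] [DecidableEq ι] [DecidableEq κ]

/-- extension by zero of a vector on a subtype -/
noncomputable def ext0 (Q : κ → Prop) [DecidablePred Q] (w : {q // Q q} → A) : κ → A :=
  fun q => if h : Q q then w ⟨q, h⟩ else 0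

theorem ext0_apply (Q : κ → Prop) [DecidablePred Q] (w : {q // Q q} → A) (q : {q // Q q}) :
    ext0 Q w q.1 = w q := by
  simp [ext0, q.2]

theorem sum_dite_zero (Q : κ → Prop) [DecidablePred Q] (f : ∀ x, Q x → A) :
    ∑ x, (if h : Q x then f x h else 0) = ∑ q : {q // Q q}, f q.1 q.2 := by
  rw [← Finset.sum_filter_of_ne (p := Q) (s := Finset.univ)]
  · rw [Finset.sum_subtype (Finset.univ.filter Q) (p := Q) (by simp)]
    apply Finset.sum_congr rfl
    intro q _
    rw [dif_pos q.2]
  · intro x _ hx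
    by_contra hQ
    exact hx (dif_neg hQ)

theorem mulVec_ext0 (N : Matrix ι κ A) (Q : κ → Prop) [DecidablePred Q] (w : {q // Q q} → A)
    (p : ι) : (N *ᵥ ext0 Q w) p = ∑ q : {q // Q q}, N p q.1 * w q := by
  rw [Matrix.mulVec, dotProduct]
  simp only [ext0, mul_dite, mul_zero]
  exact sum_dite_zero Q (fun x h => N p x * w ⟨x, h⟩)

/-- square block lemma -/
theorem block_sq (N : Matrix ι κ A) (hinj : ∀ v, N *ᵥ v = 0 → v = 0)
    (G : Matrix l ι A) (hGN : ∀ v, G *ᵥ (N *ᵥ v) = 0)
    (P : ι → Prop) [DecidablePred P] (Q : κ → Prop) [DecidablePred Q]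
    (e : {p // P p} ≃ {q // Q q}) (hzero : ∀ p q, ¬ P p → Q q → N p q = 0)
    (a : l) (p : ι) (hp : P p) : G a p = 0 := by
  classical
  let D : Matrix {p // P p} {p // P p} A := fun p p' => N p.1 (e p').1
  have hdet : D.det ≠ 0 := by
    intro hdet
    obtain ⟨w, hw0, hw⟩ := Matrix.exists_mulVec_eq_zero_iff.mpr hdet
    apply hw0
    let w' : {q // Q q} → A := fun q => w (e.symm q)
    have hv : N *ᵥ ext0 Q w' = 0 := by
      funext p
      rw [mulVec_ext0, Pi.zero_apply]
      rw [← e.sum_comp]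
      by_cases hp : P p
      · have := congrFun hw ⟨p, hp⟩
        rw [Matrix.mulVec, dotProduct, Pi.zero_apply] at this
        simpa [D, w'] using this
      · apply Finset.sum_eq_zero
        intro p' _
        rw [hzero p _ hp (e p').2, zero_mul]
    have hv0 := hinj _ hv
    funext p'
    have := congrFun hv0 (e p').1
    rw [ext0_apply] at this
    simpa [w'] using this
  let g : {p // P p} → A := fun p => G a p.1
  have hg : g ᵥ* D = 0 := by
    funext p'
    rw [Matrix.vecMul, dotProduct, Pi.zero_apply]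
    have h1 := congrFun (hGN (Pi.single (e p').1 1)) a
    rw [Matrix.mulVec_single_one, Pi.zero_apply, Matrix.mulVec, dotProduct] at h1
    have h2 : ∑ x, G a x * N x (e p').1 =
        ∑ x, (if hx : P x then G a x * N x (e p').1 else 0) := by
      apply Finset.sum_congr rfl
      intro x _
      split_ifs with hx
      · rfl
      · rw [hzero x _ hx (e p').2, mul_zero]
    have h3 : ∑ x, G a x * (N.col (e p').1) x = ∑ x, G a x * N x (e p').1 := rfl
    rw [h3, h2, sum_dite_zero P (fun x _ => G a x * N x (e p').1)] at h1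
    simpa [g, D] using h1
  have hg0 : g = 0 := by
    by_contra hne
    exact hdet (Matrix.exists_vecMul_eq_zero_iff.mp ⟨g, hne, hg⟩)
  exact congrFun hg0 ⟨p, hp⟩

/-- wide block lemma -/
theorem block_wide (N : Matrix ι κ A) (hinj : ∀ v, N *ᵥ v = 0 → v = 0)
    (P : ι → Prop) [DecidablePred P] (Q : κ → Prop) [DecidablePred Q]
    (j : Option {p // P p} → {q // Q q}) (hj : Function.Injective j)
    (hzero : ∀ p q, ¬ P p → Q q → N p q = 0) : False := by
  classical
  let D : Matrix {p // P p} {q // Q q} A := fun p q => N p.1 q.1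
  have hD : Function.Injective (Matrix.mulVecLin D) := by
    rw [← LinearMap.ker_eq_bot, LinearMap.ker_eq_bot']
    intro w hw
    rw [Matrix.mulVecLin_apply] at hw
    have hv : N *ᵥ ext0 Q w = 0 := by
      funext p
      rw [mulVec_ext0, Pi.zero_apply]
      by_cases hp : P p
      · have := congrFun hw ⟨p, hp⟩
        rw [Matrix.mulVec, dotProduct, Pi.zero_apply] at this
        exact this
      · apply Finset.sum_eq_zero
        intro q _
        rw [hzero p _ hp q.2, zero_mul]
    have hv0 := hinj _ hv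
    funext q
    have := congrFun hv0 q.1
    rw [ext0_apply] at this
    exact this
  have h1 := LinearMap.finrank_le_finrank_of_injective hD
  rw [Module.finrank_fintype_fun_eq_card, Module.finrank_fintype_fun_eq_card] at h1
  have h2 := Fintype.card_le_of_injective j hj
  rw [Fintype.card_option] at h2
  omega

end LinAlg


theorem quad_bounded (A B C N x0 : ℤ)
    (h : ∀ x, x0 ≤ x → 0 ≤ A * x ^ 2 + B * x + C ∧ A * x ^ 2 + B * x + C ≤ N) :
    A = 0 ∧ B = 0 := by
  have hN : 0 ≤ N := le_trans (h x0 le_rfl).1 (h x0 le_rfl).2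
  have hA : A = 0 := by
    have h0 := h x0 le_rfl
    have h1 := h (x0 + (N + 1)) (by omega)
    have h2 := h (x0 + 2 * (N + 1)) (by omega)
    by_contra hA
    rcases lt_or_gt_of_ne hA with hlt | hgt
    · have : A ≤ -1 := by omega
      nlinarith [sq_nonneg (N + 1)]
    · have : 1 ≤ A := by omega
      nlinarith [sq_nonneg (N + 1)]
  subst hA
  refine ⟨rfl, ?_⟩
  have h0 := h x0 le_rfl
  have h1 := h (x0 + (N + 1)) (by omega)
  by_contra hB
  rcases lt_or_gt_of_ne hB with hlt | hgt
  · have : B ≤ -1 := by omega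
    nlinarith
  · have : 1 ≤ B := by omega
    nlinarith

theorem two_mul_choose (n : ℕ) : 2 * ((2 + n).choose 2 : ℤ) = ((n : ℤ) + 2) * ((n : ℤ) + 1) := by
  induction n with
  | zero => simp
  | succ n ih =>
    have : (2 + (n + 1)).choose 2 = (2 + n).choose 1 + (2 + n).choose 2 := by
      rw [show 2 + (n + 1) = (2 + n) + 1 by ring, Nat.choose_succ_succ]
    rw [this]
    push_cast
    rw [mul_add, ih, Nat.choose_one_right]
    push_cast
    ring

/-- the quadratic term sums -/
theorem sum_quad {n : ℕ} (δ : Fin n → ℤ) (d : ℤ) :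
    ∑ b, ((d - δ b) + 2) * ((d - δ b) + 1) =
      (n : ℤ) * d ^ 2 + (3 * (n : ℤ) - 2 * ∑ b, δ b) * d + ∑ b, (δ b ^ 2 - 3 * δ b + 2) := by
  have : ∀ b, ((d - δ b) + 2) * ((d - δ b) + 1) =
      d ^ 2 + (3 - 2 * δ b) * d + (δ b ^ 2 - 3 * δ b + 2) := fun b => by ring
  simp only [this, Finset.sum_add_distrib, Finset.sum_const, Finset.card_univ, Fintype.card_fin,
    ← Finset.sum_mul, Finset.sum_sub_distrib, ← Finset.mul_sum, nsmul_eq_mul]
  ring


open GrSyz MvPolynomial DirectSum Groth.Agent.Helper23.GrSyzLib Groth.Agent.Helper23.GrSyzHilb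

section Comp

variable {k : Type u} [Field k] {σ : Type} 

theorem homogeneousComponent_of_mem_stdGr {d : ℤ} {s : MvPolynomial σ k} (hs : s ∈ stdGr k σ d)
    (j : ℕ) : homogeneousComponent j s = if (j : ℤ) = d then s else 0 := by
  classical
  rw [mem_stdGr_iff] at hs
  ext d'
  rw [coeff_homogeneousComponent]
  by_cases hc : coeff d' s = 0
  · split_ifs <;> simp [hc]
  · have hw := hs hc
    rw [weight_one] at hw
    have hdeg : (d'.degree : ℤ) = d := by
      rw [← hw]; rfl
    by_cases hj : (j : ℤ) = d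
    · rw [if_pos hj, if_pos]
      exact_mod_cast hdeg.trans hj.symm
    · rw [if_neg hj, coeff_zero, if_neg]
      intro h
      apply hj
      rw [← h]; exact hdeg

end Comp

section Bound

variable {k : Type u} [Field k]
  {M : Type u} [AddCommGroup M] [Module k M] [Module (MvPolynomial (Fin 3) k) M]
  [IsScalarTower k (MvPolynomial (Fin 3) k) M]
  {ℳ : ℤ → Submodule k M} [DirectSum.Decomposition ℳ] [SetLike.GradedSMul (stdGr k (Fin 3)) ℳ]

variable (Z : Finset (Fin 3 → k)) (I : Ideal (MvPolynomial (Fin 3) k))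
    (hI : ∀ f : MvPolynomial (Fin 3) k, f ∈ I ↔
      ∀ p ∈ Z, ∀ j : ℕ, MvPolynomial.eval p (MvPolynomial.homogeneousComponent j f) = 0)
    (π : MvPolynomial (Fin 3) k →ₗ[MvPolynomial (Fin 3) k] M) (hπ : Function.Surjective π)
    (hπg : GrLC.IsGrHom (GrSyz.stdGr k (Fin 3)) ℳ π) (hker : LinearMap.ker π = I)

include hI hker in
theorem pi_eq_zero_iff {d : ℕ} {s : MvPolynomial (Fin 3) k} (hs : s ∈ stdGr k (Fin 3) (d : ℤ)) :
    π s = 0 ↔ ∀ p ∈ Z, MvPolynomial.eval p s = 0 := by
  rw [← LinearMap.mem_ker, hker, hI]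
  constructor
  · intro h p hp
    have := h p hp d
    rwa [homogeneousComponent_of_mem_stdGr hs, if_pos rfl] at this
  · intro h p hp j
    rw [homogeneousComponent_of_mem_stdGr hs]
    split_ifs
    · exact h p hp
    · simp

include hπ hπg in
theorem exists_of_mem (d : ℤ) (m : M) (hm : m ∈ ℳ d) : ∃ s ∈ stdGr k (Fin 3) d, π s = m := by
  obtain ⟨s, rfl⟩ := hπ m
  have hu : π 1 ∈ ℳ 0 := hπg 0 1 (SetLike.GradedOne.one_mem)
  have hs : π s = s • π 1 := by rw [← map_smul, smul_eq_mul, mul_one]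
  refine ⟨(decompose (stdGr k (Fin 3)) s d : stdGr k (Fin 3) d), Submodule.coe_mem _, ?_⟩
  have h1 := decompose_smul_of_mem ℳ s hu d
  rw [sub_zero, ← hs, decompose_of_mem_same ℳ hm] at h1
  rw [h1, ← map_smul, smul_eq_mul, mul_one]

include hI hπ hπg hker in
theorem finrank_le (d : ℕ) : Module.finrank k (ℳ (d : ℤ)) ≤ Z.card := by
  classical
  let φ : stdGr k (Fin 3) (d : ℤ) →ₗ[k] M := (π.restrictScalars k).domRestrict (stdGr k (Fin 3) (d : ℤ))
  let ev : stdGr k (Fin 3) (d : ℤ) →ₗ[k] ({p : Fin 3 → k // p ∈ Z} → k) :=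
    (LinearMap.pi (fun p : {p : Fin 3 → k // p ∈ Z} =>
      (MvPolynomial.aeval (p.1 : Fin 3 → k) : MvPolynomial (Fin 3) k →ₐ[k] k).toLinearMap)) ∘ₗ
      (stdGr k (Fin 3) (d : ℤ)).subtype
  have hrange : LinearMap.range φ = ℳ (d : ℤ) := by
    ext m
    constructor
    · rintro ⟨s, rfl⟩
      exact hπg _ _ s.2
    · intro hm
      obtain ⟨s, hs, rfl⟩ := exists_of_mem π hπ hπg _ m hm
      exact ⟨⟨s, hs⟩, rfl⟩
  have hkereq : LinearMap.ker φ = LinearMap.ker ev := by
    ext s
    rw [LinearMap.mem_ker, LinearMap.mem_ker]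
    show π s.1 = 0 ↔ _
    rw [pi_eq_zero_iff Z I hI π hker s.2]
    constructor
    · intro h
      funext p
      show MvPolynomial.aeval (p.1 : Fin 3 → k) s.1 = 0
      rw [MvPolynomial.aeval_eq_eval]
      exact h p.1 p.2
    · intro h p hp
      have := congrFun h ⟨p, hp⟩
      change MvPolynomial.aeval p s.1 = 0 at this
      rwa [MvPolynomial.aeval_eq_eval] at this
  have h1 := LinearMap.finrank_range_add_finrank_ker φ
  have h2 := LinearMap.finrank_range_add_finrank_ker ev
  rw [hkereq] at h1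
  have h3 : Module.finrank k (LinearMap.range φ) = Module.finrank k (LinearMap.range ev) := by omega
  rw [← hrange, h3]
  calc Module.finrank k (LinearMap.range ev) ≤ Module.finrank k ({p : Fin 3 → k // p ∈ Z} → k) :=
        Submodule.finrank_le _
    _ = Z.card := by
        rw [Module.finrank_fintype_fun_eq_card]
        simp

end Bound


open GrSyz MvPolynomial DirectSum Groth.Agent.Helper23.GrSyzLib Groth.Agent.Helper23.GrSyzHilb

section Hilb

variable {k : Type u} [Field k]
  {M : Type u} [AddCommGroup M] [Module k M] [Module (MvPolynomial (Fin 3) k) M]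
  [IsScalarTower k (MvPolynomial (Fin 3) k) M]
  {ℳ : ℤ → Submodule k M} [DirectSum.Decomposition ℳ] [SetLike.GradedSMul (stdGr k (Fin 3)) ℳ]
  (F : FreeRes (stdGr k (Fin 3)) ℳ)

theorem term_sum (i : ℕ) (d : ℤ) (hd : ∀ b, F.deg i b ≤ d) :
    2 * ∑ b : Fin (F.rk i),
        (if F.deg i b ≤ d then ((Nat.choose (2 + (d - F.deg i b).toNat) 2 : ℕ) : ℤ) else 0) =
      ∑ b : Fin (F.rk i), ((d - F.deg i b) + 2) * ((d - F.deg i b) + 1) := by
  rw [Finset.mul_sum]
  apply Finset.sum_congr rfl
  intro b _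
  rw [if_pos (hd b), two_mul_choose, Int.toNat_of_nonneg (by have := hd b; omega)]

theorem hilb_coeffs (hlen : F.HasLengthLE 2) (Nb : ℤ)
    (hb : ∀ d : ℕ, (Module.finrank k (ℳ (d : ℤ)) : ℤ) ≤ Nb) :
    (F.rk 0 : ℤ) - F.rk 1 + F.rk 2 = 0 ∧
      (∑ b, F.deg 0 b) - (∑ b, F.deg 1 b) + ∑ b, F.deg 2 b = 0 := by
  -- a bound for all degrees
  let D0 : ℤ := ∑ b, |F.deg 0 b| + ∑ b, |F.deg 1 b| + ∑ b, |F.deg 2 b|
  have hD0 : ∀ i, i < 3 → ∀ b, F.deg i b ≤ D0 := by
    intro i hi b
    have h0 : 0 ≤ ∑ b, |F.deg 0 b| := Finset.sum_nonneg fun _ _ => abs_nonneg _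
    have h1 : 0 ≤ ∑ b, |F.deg 1 b| := Finset.sum_nonneg fun _ _ => abs_nonneg _
    have h2 : 0 ≤ ∑ b, |F.deg 2 b| := Finset.sum_nonneg fun _ _ => abs_nonneg _
    have hle : |F.deg i b| ≤ ∑ b, |F.deg i b| :=
      Finset.single_le_sum (f := fun b => |F.deg i b|) (fun _ _ => abs_nonneg _) (Finset.mem_univ b)
    have habs := le_abs_self (F.deg i b)
    interval_cases i <;> omega
  have hD0nn : 0 ≤ D0 := by
    have h0 : 0 ≤ ∑ b, |F.deg 0 b| := Finset.sum_nonneg fun _ _ => abs_nonneg _
    have h1 : 0 ≤ ∑ b, |F.deg 1 b| := Finset.sum_nonneg fun _ _ => abs_nonneg _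
    have h2 : 0 ≤ ∑ b, |F.deg 2 b| := Finset.sum_nonneg fun _ _ => abs_nonneg _
    omega
  have key : ∀ x : ℤ, D0 ≤ x →
      2 * (Module.finrank k (ℳ x) : ℤ) =
        ((F.rk 0 : ℤ) - F.rk 1 + F.rk 2) * x ^ 2 +
        (3 * ((F.rk 0 : ℤ) - F.rk 1 + F.rk 2) -
          2 * ((∑ b, F.deg 0 b) - (∑ b, F.deg 1 b) + ∑ b, F.deg 2 b)) * x +
        ((∑ b, (F.deg 0 b ^ 2 - 3 * F.deg 0 b + 2)) - (∑ b, (F.deg 1 b ^ 2 - 3 * F.deg 1 b + 2)) +
          ∑ b, (F.deg 2 b ^ 2 - 3 * F.deg 2 b + 2)) := by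
    intro x hx
    have hf := hilbert_function (r := 2) F 2 hlen x
    rw [hf, Finset.sum_range_succ, Finset.sum_range_succ, Finset.sum_range_one]
    have t0 := term_sum F 0 x (fun b => le_trans (hD0 0 (by norm_num) b) hx)
    have t1 := term_sum F 1 x (fun b => le_trans (hD0 1 (by norm_num) b) hx)
    have t2 := term_sum F 2 x (fun b => le_trans (hD0 2 (by norm_num) b) hx)
    rw [sum_quad] at t0 t1 t2
    simp only [pow_zero, pow_one, one_mul, neg_mul, even_two, Even.neg_pow, one_pow]
    linarith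
  have hq := quad_bounded _ _ _ (2 * Nb) D0 (fun x hx => by
    rw [← key x hx]
    obtain ⟨n, rfl⟩ := Int.eq_ofNat_of_zero_le (le_trans hD0nn hx)
    constructor
    · positivity
    · have := hb n
      omega)
  obtain ⟨hA, hB⟩ := hq
  refine ⟨hA, ?_⟩
  rw [hA] at hB
  omega

end Hilb


open GrSyz MvPolynomial DirectSum Groth.Agent.Helper23.GrSyzLib Groth.Agent.Helper23.GrSyzHilb

section DegZero

variable {k : Type u} [Field k] {σ : Type}

theorem eq_zero_of_mem_stdGr_neg {n : ℤ} (hn : n < 0) {p : MvPolynomial σ k}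
    (hp : p ∈ stdGr k σ n) : p = 0 := by
  rw [mem_stdGr_iff] at hp
  ext d
  rw [coeff_zero]
  by_contra hd
  have hw := hp hd
  have hnn := weight_one_nonneg σ d
  omega

variable {M : Type u} [AddCommGroup M] [Module k M] [Module (MvPolynomial σ k) M]
  [IsScalarTower k (MvPolynomial σ k) M]
  {ℳ : ℤ → Submodule k M} [DirectSum.Decomposition ℳ] [SetLike.GradedSMul (stdGr k σ) ℳ]
  (F : FreeRes (stdGr k σ) ℳ)

theorem deg_zero (π : MvPolynomial σ k →ₗ[MvPolynomial σ k] M) (hπ : Function.Surjective π)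
    (hπg : GrLC.IsGrHom (GrSyz.stdGr k σ) ℳ π) (hne : π 1 ≠ 0)
    (b0 : Fin (F.rk 0)) (huniq : ∀ b, b = b0) : F.deg 0 b0 = 0 := by
  have hu : π 1 ∈ ℳ 0 := hπg 0 1 (SetLike.GradedOne.one_mem)
  have hg : F.aug b0 ∈ ℳ (F.deg 0 b0) := F.aug_mem b0
  obtain ⟨v, hv⟩ := F.aug_surjective (π 1)
  rw [Fintype.linearCombination_apply, Fintype.sum_eq_single b0 (fun b hb => absurd (huniq b) hb)] at hv
  have hgne : F.aug b0 ≠ 0 := by
    intro h0
    rw [h0, smul_zero] at hv
    exact hne hv.symm
  apply le_antisymm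
  · by_contra hpos
    rw [not_le] at hpos
    have h1 := decompose_smul_of_mem ℳ (v b0) hg 0
    rw [hv, decompose_of_mem_same ℳ hu] at h1
    have hz : ((decompose (stdGr k σ) (v b0) (0 - F.deg 0 b0) : stdGr k σ (0 - F.deg 0 b0)) :
        MvPolynomial σ k) = 0 := eq_zero_of_mem_stdGr_neg (by omega) (Submodule.coe_mem _)
    rw [hz, zero_smul] at h1
    exact hne h1
  · by_contra hneg
    rw [not_le] at hneg
    obtain ⟨s, hs⟩ := hπ (F.aug b0)
    have hs' : F.aug b0 = s • π 1 := by rw [← hs, ← map_smul, smul_eq_mul, mul_one]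
    have h1 := decompose_smul_of_mem ℳ s hu (F.deg 0 b0)
    rw [← hs', decompose_of_mem_same ℳ hg] at h1
    have hz : ((decompose (stdGr k σ) s (F.deg 0 b0 - 0) : stdGr k σ (F.deg 0 b0 - 0)) :
        MvPolynomial σ k) = 0 := eq_zero_of_mem_stdGr_neg (by omega) (Submodule.coe_mem _)
    rw [hz, zero_smul] at h1
    exact hgne h1

end DegZero


section Main

open GrSyz MvPolynomial DirectSum Groth.Agent.Helper23.GrSyzLib Groth.Agent.Helper23.GrSyzHilb

theorem main (k : Type u) [Field k]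
    (Z : Finset (Fin 3 → k)) (hZ : ∀ p ∈ Z, p ≠ 0) (hZne : Z.Nonempty) (I : Ideal (MvPolynomial (Fin 3) k))
    (hI : ∀ f : MvPolynomial (Fin 3) k, f ∈ I ↔
      ∀ p ∈ Z, ∀ j : ℕ, MvPolynomial.eval p (MvPolynomial.homogeneousComponent j f) = 0)
    (M : Type u) [AddCommGroup M] [Module k M] [Module (MvPolynomial (Fin 3) k) M] [IsScalarTower k (MvPolynomial (Fin 3) k) M]
    (ℳ : ℤ → Submodule k M) [DirectSum.Decomposition ℳ] [SetLike.GradedSMul (GrSyz.stdGr k (Fin 3)) ℳ]
    (π : MvPolynomial (Fin 3) k →ₗ[MvPolynomial (Fin 3) k] M) (hπ : Function.Surjective π)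
    (hπg : GrLC.IsGrHom (GrSyz.stdGr k (Fin 3)) ℳ π) (hker : LinearMap.ker π = I)
    (F : GrSyz.FreeRes (GrSyz.stdGr k (Fin 3)) ℳ) (hF : F.IsMinimal (GrSyz.irrel (GrSyz.stdGr k (Fin 3))).toIdeal) (hlen : F.HasLengthLE 2)
    (t : ℕ) (h1 : F.rk 1 = t + 1) (h2 : F.rk 2 = t)
    (ha : ∀ i j : Fin (t + 1), i ≤ j → F.deg 1 (Fin.cast h1.symm j) ≤ F.deg 1 (Fin.cast h1.symm i))
    (hb : ∀ i j : Fin t, i ≤ j → F.deg 2 (Fin.cast h2.symm j) ≤ F.deg 2 (Fin.cast h2.symm i)) :
    (∀ i : Fin t, 1 ≤ F.deg 2 (Fin.cast h2.symm i) - F.deg 1 (Fin.cast h1.symm i.castSucc) ∧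
        1 ≤ F.deg 2 (Fin.cast h2.symm i) - F.deg 1 (Fin.cast h1.symm i.succ)) ∧
      ∑ i : Fin (t + 1), F.deg 1 (Fin.cast h1.symm i) = ∑ j : Fin t, F.deg 2 (Fin.cast h2.symm j) := by
  classical
  -- antitonicity in original indices
  have ha' : ∀ p p' : Fin (F.rk 1), p.val ≤ p'.val → F.deg 1 p' ≤ F.deg 1 p := by
    intro p p' hpp
    have := ha (Fin.cast h1 p) (Fin.cast h1 p') (Fin.le_def.mpr hpp)
    simpa using this
  have hb' : ∀ q q' : Fin (F.rk 2), q.val ≤ q'.val → F.deg 2 q' ≤ F.deg 2 q := by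
    intro q q' hqq
    have := hb (Fin.cast h2 q) (Fin.cast h2 q') (Fin.le_def.mpr hqq)
    simpa using this
  -- zero entries
  have hzero : ∀ (p : Fin (F.rk 1)) (q : Fin (F.rk 2)), F.deg 2 q - F.deg 1 p ≤ 0 → F.d 1 p q = 0 := by
    intro p q hle
    exact eq_zero_of_mem_stdGr_of_mem_irrel k (Fin 3) hle (F.d_mem 1 p q) (hF 1 p q)
  -- injectivity of d 1
  have hinj : ∀ v, (F.d 1).mulVec v = 0 → v = 0 := by
    intro v hv
    have hmem : v ∈ LinearMap.ker (Matrix.mulVecLin (F.d 1)) := by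
      rw [LinearMap.mem_ker, Matrix.mulVecLin_apply]; exact hv
    rw [F.exact_succ 1] at hmem
    obtain ⟨w, hw⟩ := hmem
    have hrk3 : F.rk 3 = 0 := hlen 3 (by norm_num)
    have : IsEmpty (Fin (F.rk (1 + 1 + 1))) := by
      show IsEmpty (Fin (F.rk 3)); rw [hrk3]; infer_instance
    have hw0 : w = 0 := Subsingleton.elim _ _
    rw [← hw, hw0, map_zero]
  -- d0 d1 = 0
  have hGN : ∀ v, (F.d 0).mulVec ((F.d 1).mulVec v) = 0 := by
    intro v
    have : Matrix.mulVecLin (F.d 1) v ∈ LinearMap.ker (Matrix.mulVecLin (F.d 0)) := by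
      rw [F.exact_succ 0]; exact ⟨v, rfl⟩
    rw [LinearMap.mem_ker, Matrix.mulVecLin_apply, Matrix.mulVecLin_apply] at this
    exact this
  refine ⟨fun i => ⟨?_, ?_⟩, ?_⟩
  · -- e_i ≥ 1
    by_contra hcon
    rw [not_le] at hcon
    have hle : F.deg 2 (Fin.cast h2.symm i) - F.deg 1 (Fin.cast h1.symm i.castSucc) ≤ 0 := by omega
    let P : Fin (F.rk 1) → Prop := fun p => i.val < p.val
    let Q : Fin (F.rk 2) → Prop := fun q => i.val ≤ q.val
    let e : {p // P p} ≃ {q // Q q} :=
      { toFun := fun p => ⟨⟨p.1.val - 1, by have := p.1.isLt; have := p.2; omega⟩, by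
          show i.val ≤ p.1.val - 1
          have := p.2
          show i.val ≤ p.1.val - 1
          have h' : i.val < p.1.val := p.2
          omega⟩
        invFun := fun q => ⟨⟨q.1.val + 1, by have := q.1.isLt; omega⟩, by
          show i.val < q.1.val + 1
          have h' : i.val ≤ q.1.val := q.2
          omega⟩
        left_inv := fun p => by
          apply Subtype.ext
          apply Fin.ext
          show p.1.val - 1 + 1 = p.1.val
          have h' : i.val < p.1.val := p.2
          omega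
        right_inv := fun q => by
          apply Subtype.ext
          apply Fin.ext
          show q.1.val + 1 - 1 = q.1.val
          omega }
    have hz : ∀ p q, ¬ P p → Q q → F.d 1 p q = 0 := by
      intro p q hp hq
      apply hzero
      have hp' : p.val ≤ i.val := Nat.le_of_not_lt hp
      have hq' : i.val ≤ q.val := hq
      have hq1 := hb' (Fin.cast h2.symm i) q (by simpa using hq')
      have hp1 := ha' p (Fin.cast h1.symm i.castSucc) (by simpa using hp')
      omega
    let plast : Fin (F.rk 1) := Fin.cast h1.symm (Fin.last t)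
    have hPlast : P plast := by
      show i.val < (Fin.cast h1.symm (Fin.last t)).val
      simp
    have hcol : ∀ a, F.d 0 a plast = 0 := fun a =>
      block_sq (F.d 1) hinj (F.d 0) hGN P Q e hz a plast hPlast
    have hmin := ((isMinimal_iff F).mp hF).2 0 plast
    apply hmin
    have : (fun a => F.d 0 a plast) = 0 := by funext a; exact hcol a
    rw [this]
    exact Submodule.zero_mem _
  · -- f_i ≥ 1
    by_contra hcon
    rw [not_le] at hcon
    have hle : F.deg 2 (Fin.cast h2.symm i) - F.deg 1 (Fin.cast h1.symm i.succ) ≤ 0 := by omega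
    let P : Fin (F.rk 1) → Prop := fun p => i.val + 1 < p.val
    let Q : Fin (F.rk 2) → Prop := fun q => i.val ≤ q.val
    let j : Option {p // P p} → {q // Q q} := fun o =>
      match o with
      | none => ⟨Fin.cast h2.symm i, by show i.val ≤ (Fin.cast h2.symm i).val; simp⟩
      | some p => ⟨⟨p.1.val - 1, by have := p.1.isLt; have h' : i.val + 1 < p.1.val := p.2; omega⟩, by
          show i.val ≤ p.1.val - 1
          have h' : i.val + 1 < p.1.val := p.2
          omega⟩
    have hj : Function.Injective j := by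
      intro o o' hoo
      match o, o' with
      | none, none => rfl
      | none, some p' =>
        exfalso
        have := congrArg (fun x => x.1.val) hoo
        simp only [j] at this
        have h' : i.val + 1 < p'.1.val := p'.2
        simp at this
        omega
      | some p, none =>
        exfalso
        have := congrArg (fun x => x.1.val) hoo
        simp only [j] at this
        have h' : i.val + 1 < p.1.val := p.2
        simp at this
        omega
      | some p, some p' =>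
        have := congrArg (fun x => x.1.val) hoo
        simp only [j] at this
        have h' : i.val + 1 < p.1.val := p.2
        have h'' : i.val + 1 < p'.1.val := p'.2
        congr 1
        apply Subtype.ext
        apply Fin.ext
        omega
    have hz : ∀ p q, ¬ P p → Q q → F.d 1 p q = 0 := by
      intro p q hp hq
      apply hzero
      have hp' : p.val ≤ i.val + 1 := Nat.le_of_not_lt hp
      have hq' : i.val ≤ q.val := hq
      have hq1 := hb' (Fin.cast h2.symm i) q (by simpa using hq')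
      have hp1 := ha' p (Fin.cast h1.symm i.succ) (by simpa using hp')
      omega
    exact block_wide (F.d 1) hinj P Q j hj hz
  · -- the sums
    have hbound : ∀ d : ℕ, (Module.finrank k (ℳ (d : ℤ)) : ℤ) ≤ (Z.card : ℤ) := fun d => by
      exact_mod_cast finrank_le Z I hI π hπ hπg hker d
    obtain ⟨hA, hB⟩ := hilb_coeffs F hlen (Z.card : ℤ) hbound
    have hrk0 : F.rk 0 = 1 := by
      rw [h1, h2] at hA
      push_cast at hA
      omega
    -- π 1 ≠ 0
    have hne : π 1 ≠ 0 := by
      intro h0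
      have hmem : (1 : MvPolynomial (Fin 3) k) ∈ I := by
        rw [← hker, LinearMap.mem_ker]; exact h0
      obtain ⟨p, hp⟩ := hZne
      have := (hI 1).mp hmem p hp 0
      rw [homogeneousComponent_of_mem_stdGr (d := 0) (SetLike.GradedOne.one_mem), if_pos (by norm_num)] at this
      simp at this
    let b0 : Fin (F.rk 0) := Fin.cast hrk0.symm 0
    have huniq : ∀ b : Fin (F.rk 0), b = b0 := by
      intro b
      apply Fin.ext
      have := b.isLt
      simp only [b0, Fin.val_cast]
      omega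
    have hdeg0 := deg_zero F π hπ hπg hne b0 huniq
    have hsum0 : ∑ b, F.deg 0 b = 0 := by
      rw [Fintype.sum_eq_single b0 (fun b hb => absurd (huniq b) hb), hdeg0]
    rw [hsum0] at hB
    have e1 : ∑ i : Fin (t + 1), F.deg 1 (Fin.cast h1.symm i) = ∑ b, F.deg 1 b :=
      Fintype.sum_equiv (finCongr h1.symm) _ _ (fun i => rfl)
    have e2 : ∑ j : Fin t, F.deg 2 (Fin.cast h2.symm j) = ∑ b, F.deg 2 b :=
      Fintype.sum_equiv (finCongr h2.symm) _ _ (fun i => rfl)
    rw [e1, e2]
    omega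

end Main

/-- Let k be a field, Z a nonempty finite set of nonzero vectors of k^3, regarded as points of the
projective plane, I ⊆ S = k[x_0, x_1, x_2] the homogeneous vanishing ideal of Z (a polynomial lies
in I exactly when each of its homogeneous components vanishes at every vector of Z), M = S/I given
as a ℤ-graded S-module with a surjective degree-preserving S-linear map π : S → M with kernel I, and
F a minimal graded free resolution of M of length at most 2 whose terms F_1 and F_2 have ranks t + 1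
and t, with basis degrees a_1 ≥ … ≥ a_{t+1} for F_1 and b_1 ≥ … ≥ b_t for F_2 (non-increasing along
the chosen bases), so that the (i, j) entry of the matrix F_2 → F_1 has degree b_j − a_i. Put e_i =
b_i − a_i and f_i = b_i − a_{i+1}. Then e_i ≥ 1 and f_i ≥ 1 for every i, and Σ_i a_i = Σ_j b_j
(equivalently a_i = Σ_{j < i} e_j + Σ_{j ≥ i} f_j for every i). (The ordering of both bases is the
standing assumption under which the published statement is made; this row carries it as the
hypotheses on the basis degrees. The further inequalities f_i ≥ e_i and f_i ≥ e_{i+1} follow at once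
from the ordering and are not restated.) -/
theorem result (k : Type u) [Field k]
    (Z : Finset (Fin 3 → k)) (hZ : ∀ p ∈ Z, p ≠ 0) (hZne : Z.Nonempty) (I : Ideal (MvPolynomial (Fin 3) k))
    (hI : ∀ f : MvPolynomial (Fin 3) k, f ∈ I ↔
      ∀ p ∈ Z, ∀ j : ℕ, MvPolynomial.eval p (MvPolynomial.homogeneousComponent j f) = 0)
    (M : Type u) [AddCommGroup M] [Module k M] [Module (MvPolynomial (Fin 3) k) M] [IsScalarTower k (MvPolynomial (Fin 3) k) M]
    (ℳ : ℤ → Submodule k M) [DirectSum.Decomposition ℳ] [SetLike.GradedSMul (GrSyz.stdGr k (Fin 3)) ℳ]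
    (π : MvPolynomial (Fin 3) k →ₗ[MvPolynomial (Fin 3) k] M) (hπ : Function.Surjective π)
    (hπg : GrLC.IsGrHom (GrSyz.stdGr k (Fin 3)) ℳ π) (hker : LinearMap.ker π = I)
    (F : GrSyz.FreeRes (GrSyz.stdGr k (Fin 3)) ℳ) (hF : F.IsMinimal (GrSyz.irrel (GrSyz.stdGr k (Fin 3))).toIdeal) (hlen : F.HasLengthLE 2)
    (t : ℕ) (h1 : F.rk 1 = t + 1) (h2 : F.rk 2 = t)
    (ha : ∀ i j : Fin (t + 1), i ≤ j → F.deg 1 (Fin.cast h1.symm j) ≤ F.deg 1 (Fin.cast h1.symm i))
    (hb : ∀ i j : Fin t, i ≤ j → F.deg 2 (Fin.cast h2.symm j) ≤ F.deg 2 (Fin.cast h2.symm i)) :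
    (∀ i : Fin t, 1 ≤ F.deg 2 (Fin.cast h2.symm i) - F.deg 1 (Fin.cast h1.symm i.castSucc) ∧
        1 ≤ F.deg 2 (Fin.cast h2.symm i) - F.deg 1 (Fin.cast h1.symm i.succ)) ∧
      ∑ i : Fin (t + 1), F.deg 1 (Fin.cast h1.symm i) = ∑ j : Fin t, F.deg 2 (Fin.cast h2.symm j) := by
  exact main k Z hZ hZne I hI M ℳ π hπ hπg hker F hF hlen t h1 h2 ha hb

end Groth.Agent.S15432
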