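import Groth.Statements.S15433
import Mathlib
import Groth.Agent.S15425
import Groth.Agent.Lib.Helper23.GrSyzCyc

set_option autoImplicit false
universe u
open GrSyz

namespace Groth.Agent.S15433

set_option linter.style.haveILetI false
set_option linter.unusedVariables false
set_option linter.unusedSectionVars false
open Groth.Agent.Helper23.GrSyzFinLen Groth.Agent.Helper23.GrSyzQuot Groth.Agent.Helper23.GrSyzReg Groth.Agent.Helper23.GrSyzCyc Groth.Agent.Helper23.GrSyzLen GrSyz GrLC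

theorem main (k : Type u) [Field k] (r : ℕ)
    (M : Type u) [AddCommGroup M] [Module k M] [Module (MvPolynomial (Fin (r + 1)) k) M]
    [IsScalarTower k (MvPolynomial (Fin (r + 1)) k) M] [Module.Finite (MvPolynomial (Fin (r + 1)) k) M]
    (ℳ : ℤ → Submodule k M) [DirectSum.Decomposition ℳ] [SetLike.GradedSMul (GrSyz.stdGr k (Fin (r + 1))) ℳ]
    (π : MvPolynomial (Fin (r + 1)) k →ₗ[MvPolynomial (Fin (r + 1)) k] M) (hπ : Function.Surjective π)
    (hπg : GrLC.IsGrHom (GrSyz.stdGr k (Fin (r + 1))) ℳ π)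
    (hlin : ∀ x : MvPolynomial (Fin (r + 1)) k, x ∈ GrSyz.stdGr k (Fin (r + 1)) 1 → π x = 0 → x = 0)
    (ys : List (MvPolynomial (Fin (r + 1)) k)) (hys : ∀ y ∈ ys, y ∈ GrSyz.stdGr k (Fin (r + 1)) 1)
    (hreg : RingTheory.Sequence.IsWeaklyRegular M ys)
    (N : Type u) [AddCommGroup N] [Module k N] [Module (MvPolynomial (Fin (r + 1)) k) N]
    [IsScalarTower k (MvPolynomial (Fin (r + 1)) k) N]
    (𝒩 : ℤ → Submodule k N) [DirectSum.Decomposition 𝒩] [SetLike.GradedSMul (GrSyz.stdGr k (Fin (r + 1))) 𝒩]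
    (σ : M →ₗ[MvPolynomial (Fin (r + 1)) k] N) (hσ : Function.Surjective σ) (hσg : GrLC.IsGrHom ℳ 𝒩 σ)
    (hker : LinearMap.ker σ = Ideal.ofList ys • (⊤ : Submodule (MvPolynomial (Fin (r + 1)) k) M))
    (ℓ : ℕ) (hℓ : Module.length (MvPolynomial (Fin (r + 1)) k) N = (ℓ : ℕ∞)) :
    GrSyz.reg (GrSyz.stdGr k (Fin (r + 1))) ℳ (GrSyz.irrel (GrSyz.stdGr k (Fin (r + 1)))).toIdeal + ((((r : ℤ) + 1 - (ys.length : ℤ) : ℤ) : WithTop ℤ) : WithBot (WithTop ℤ)) ≤
      (((ℓ : ℤ) : WithTop ℤ) : WithBot (WithTop ℤ)) := by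
  classical
  haveI : Module.Finite (MvPolynomial (Fin (r + 1)) k) N := Module.Finite.of_surjective σ hσ
  have hN : IsFiniteLength (MvPolynomial (Fin (r + 1)) k) N :=
    Module.length_ne_top_iff.mp (by rw [hℓ]; exact ENat.natCast_ne_top _)
  rw [Groth.Agent.S15425.main k r M ℳ ys hys hreg N 𝒩 σ hσ hσg hker hN]
  obtain ⟨hnoeth, hart⟩ := isFiniteLength_iff_isNoetherian_isArtinian.mp hN
  obtain ⟨e, he⟩ := exists_bound (σ := Fin (r + 1)) 𝒩
  by_cases hall : ∀ j, 𝒩 j = ⊥
  · have h1 : endDeg (fun n => (𝒩 n).toAddSubgroup) = ⊥ := by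
      unfold endDeg
      rw [eq_bot_iff]
      refine iSup₂_le (fun n hn => ?_)
      exact absurd (hall n) ((Groth.Agent.S15422.toAddSubgroup_ne_bot_iff 𝒩 n).mp hn)
    rw [h1, WithBot.bot_add]
    exact bot_le
  · push Not at hall
    obtain ⟨e₀, he₀, hmax⟩ := Int.exists_greatest_of_bdd (P := fun j => 𝒩 j ≠ ⊥)
      ⟨e, fun z hz => by by_contra hc; exact hz (he z (by omega))⟩ hall
    have htop : ∀ j, e₀ < j → 𝒩 j = ⊥ := by
      intro j hj
      by_contra hc
      have := hmax j hc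
      omega
    have h1 : endDeg (fun n => (𝒩 n).toAddSubgroup) =
        ((e₀ : WithTop ℤ) : WithBot (WithTop ℤ)) := by
      unfold endDeg
      apply le_antisymm
      · refine iSup₂_le (fun n hn => ?_)
        have := hmax n ((Groth.Agent.S15422.toAddSubgroup_ne_bot_iff 𝒩 n).mp hn)
        exact_mod_cast this
      · exact le_iSup₂ (f := fun (n : ℤ) (_ : (𝒩 n).toAddSubgroup ≠ ⊥) =>
          ((n : WithTop ℤ) : WithBot (WithTop ℤ))) e₀
          ((Groth.Agent.S15422.toAddSubgroup_ne_bot_iff 𝒩 e₀).mpr he₀)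
    rw [h1]
    let τ : MvPolynomial (Fin (r + 1)) k →ₗ[MvPolynomial (Fin (r + 1)) k] N := σ ∘ₗ π
    have hτ : Function.Surjective τ := hσ.comp hπ
    have hτg : IsGrHom (stdGr k (Fin (r + 1))) 𝒩 τ := fun i x hx => hσg i _ (hπg i x hx)
    have hnil : ∀ x ∈ (irrel (stdGr k (Fin (r + 1)))).toIdeal, ∀ v : N, ∃ c : ℕ, x ^ c • v = 0 :=
      fun x hx v => exists_pow_smul_eq_zero 𝒩 htop hx v
    obtain ⟨hfin, hrk⟩ := finrank_of_length (irrel (stdGr k (Fin (r + 1)))).toIdeal
      exists_sub_mem_irrel ℓ N hnil hℓ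
    have he₀0 := nonneg_of_ne_bot 𝒩 τ hτ hτg he₀
    have hlin1 := le_length_add_finrank ℳ π hπ hπg hlin ys hys 𝒩 σ hσg hker
    have hsum := sum_finrank_le 𝒩 (Finset.Icc 0 e₀)
    rw [hrk] at hsum
    suffices h : e₀ + ((r : ℤ) + 1 - ys.length) ≤ ℓ by exact_mod_cast h
    by_cases h0 : e₀ = 0
    · have : Module.finrank k (𝒩 1) = 0 := by
        rw [htop 1 (by omega)]
        exact finrank_bot k N
      omega
    · have hmem : (1 : ℤ) ∈ Finset.Icc 0 e₀ := by
        rw [Finset.mem_Icc]; omega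
      rw [← Finset.add_sum_erase _ _ hmem] at hsum
      have hcard : ((Finset.Icc 0 e₀).erase 1).card = e₀.toNat := by
        rw [Finset.card_erase_of_mem hmem, Int.card_Icc]
        omega
      have hge : ((Finset.Icc 0 e₀).erase 1).card ≤
          ∑ j ∈ (Finset.Icc 0 e₀).erase 1, Module.finrank k (𝒩 j) := by
        rw [Finset.card_eq_sum_ones]
        apply Finset.sum_le_sum
        intro j hj
        have hj' := Finset.mem_Icc.mp (Finset.mem_of_mem_erase hj)
        have hne := ne_bot_of_le 𝒩 τ hτ hτg he₀ hj'.1 hj'.2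
        haveI : Nontrivial (𝒩 j) := (Submodule.nontrivial_iff_ne_bot).mpr hne
        exact Module.finrank_pos
      rw [hcard] at hge
      omega

/-- Let k be a field, S = k[x_0, …, x_r] graded by degree, 𝔪 = (x_0, …, x_r), and M = S/I a graded
quotient of S, given with a surjective degree-preserving S-linear map π : S → M whose kernel I
contains no nonzero linear form. Let y_0, …, y_t be linear forms forming a weakly regular sequence
on M (each a non-zerodivisor modulo the previous ones) and N = M/(y_0, …, y_t)M, given as a graded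
module with a surjective degree-preserving S-linear map σ : M → N with kernel (y_0, …, y_t)M, and
suppose N has finite length ℓ. Then reg M + (r − t) ≤ ℓ, reg being the Castelnuovo–Mumford
regularity of M in the sense of minimal graded free resolutions. (The published statement is reg S_X
≤ deg X − codim X for an arithmetically Cohen–Macaulay subvariety X of P^r not contained in a
hyperplane; this row is the algebraic statement its proof establishes, with S_X any graded quotient
of S by an ideal without linear forms, the maximal regular sequence of linear forms given, deg X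
replaced by the length of S_X/(y_0, …, y_t)S_X and codim X by r − t, which agree with the degree and
the codimension in that situation.) -/
theorem result (k : Type u) [Field k] (r : ℕ)
    (M : Type u) [AddCommGroup M] [Module k M] [Module (MvPolynomial (Fin (r + 1)) k) M]
    [IsScalarTower k (MvPolynomial (Fin (r + 1)) k) M] [Module.Finite (MvPolynomial (Fin (r + 1)) k) M]
    (ℳ : ℤ → Submodule k M) [DirectSum.Decomposition ℳ] [SetLike.GradedSMul (GrSyz.stdGr k (Fin (r + 1))) ℳ]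
    (π : MvPolynomial (Fin (r + 1)) k →ₗ[MvPolynomial (Fin (r + 1)) k] M) (hπ : Function.Surjective π)
    (hπg : GrLC.IsGrHom (GrSyz.stdGr k (Fin (r + 1))) ℳ π)
    (hlin : ∀ x : MvPolynomial (Fin (r + 1)) k, x ∈ GrSyz.stdGr k (Fin (r + 1)) 1 → π x = 0 → x = 0)
    (ys : List (MvPolynomial (Fin (r + 1)) k)) (hys : ∀ y ∈ ys, y ∈ GrSyz.stdGr k (Fin (r + 1)) 1)
    (hreg : RingTheory.Sequence.IsWeaklyRegular M ys)
    (N : Type u) [AddCommGroup N] [Module k N] [Module (MvPolynomial (Fin (r + 1)) k) N]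
    [IsScalarTower k (MvPolynomial (Fin (r + 1)) k) N]
    (𝒩 : ℤ → Submodule k N) [DirectSum.Decomposition 𝒩] [SetLike.GradedSMul (GrSyz.stdGr k (Fin (r + 1))) 𝒩]
    (σ : M →ₗ[MvPolynomial (Fin (r + 1)) k] N) (hσ : Function.Surjective σ) (hσg : GrLC.IsGrHom ℳ 𝒩 σ)
    (hker : LinearMap.ker σ = Ideal.ofList ys • (⊤ : Submodule (MvPolynomial (Fin (r + 1)) k) M))
    (ℓ : ℕ) (hℓ : Module.length (MvPolynomial (Fin (r + 1)) k) N = (ℓ : ℕ∞)) :
    GrSyz.reg (GrSyz.stdGr k (Fin (r + 1))) ℳ (GrSyz.irrel (GrSyz.stdGr k (Fin (r + 1)))).toIdeal + ((((r : ℤ) + 1 - (ys.length : ℤ) : ℤ) : WithTop ℤ) : WithBot (WithTop ℤ)) ≤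
      (((ℓ : ℤ) : WithTop ℤ) : WithBot (WithTop ℤ)) := by
  exact main k r M ℳ π hπ hπg hlin ys hys hreg N 𝒩 σ hσ hσg hker ℓ hℓ

end Groth.Agent.S15433
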