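import Groth.Statements.S15437
import Groth.Agent.Lib.Helper23.GrSyzHilb

set_option autoImplicit false
universe u
open GrSyz

namespace Groth.Agent.S15437

theorem sum_deg_eq {n : ℕ} (deg : Fin n → ℤ) (g : ℤ → ℤ) (T : Finset ℤ) (hT : ∀ b, deg b ∈ T) :
    ∑ b : Fin n, g (deg b) =
      ∑ j ∈ T, ((Finset.univ.filter fun b : Fin n => deg b = j).card : ℤ) * g j := by
  rw [← Finset.sum_fiberwise_of_maps_to' (s := Finset.univ) (t := T) (g := deg) (fun b _ => hT b) g]
  apply Finset.sum_congr rfl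
  intro j _
  rw [Finset.sum_const, nsmul_eq_mul]

theorem alt_sum_deg_eq (m : ℕ) (rk : ℕ → ℕ) (deg : ∀ i, Fin (rk i) → ℤ) (g : ℤ → ℤ) (T : Finset ℤ)
    (hT : ∀ i ∈ Finset.range (m + 1), ∀ b, deg i b ∈ T) :
    ∑ i ∈ Finset.range (m + 1), (-1 : ℤ) ^ i * ∑ b : Fin (rk i), g (deg i b) =
      ∑ j ∈ T, (∑ i ∈ Finset.range (m + 1), (-1 : ℤ) ^ i *
        ((Finset.univ.filter fun b : Fin (rk i) => deg i b = j).card : ℤ)) * g j := by
  have h1 : ∀ i ∈ Finset.range (m + 1), (-1 : ℤ) ^ i * ∑ b : Fin (rk i), g (deg i b) =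
      ∑ j ∈ T, (-1 : ℤ) ^ i * ((Finset.univ.filter fun b : Fin (rk i) => deg i b = j).card : ℤ) * g j := by
    intro i hi
    rw [sum_deg_eq (deg i) g T (hT i hi), Finset.mul_sum]
    apply Finset.sum_congr rfl
    intro j _
    ring
  rw [Finset.sum_congr rfl h1, Finset.sum_comm]
  apply Finset.sum_congr rfl
  intro j _
  rw [Finset.sum_mul]

theorem core (m : ℕ) (rk : ℕ → ℕ) (deg : ∀ i, Fin (rk i) → ℤ) (c : ℤ → ℤ → ℤ) (h : ℤ → ℤ)
    (hc0 : ∀ d j, d < j → c d j = 0) (hc1 : ∀ d, c d d = 1)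
    (hh : ∀ d, h d = ∑ i ∈ Finset.range (m + 1), (-1 : ℤ) ^ i * ∑ b : Fin (rk i), c d (deg i b)) :
    (∀ d : ℤ, h d = ∑ᶠ j : ℤ, (∑ i ∈ Finset.range (m + 1), (-1 : ℤ) ^ i *
        ((Finset.univ.filter fun b : Fin (rk i) => deg i b = j).card : ℤ)) * c d j) ∧
    ∀ j : ℤ, (∑ i ∈ Finset.range (m + 1), (-1 : ℤ) ^ i *
        ((Finset.univ.filter fun b : Fin (rk i) => deg i b = j).card : ℤ)) =
      h j - ∑ᶠ n : ℤ, (if n < j then (∑ i ∈ Finset.range (m + 1), (-1 : ℤ) ^ i *
        ((Finset.univ.filter fun b : Fin (rk i) => deg i b = n).card : ℤ)) * c j n else 0) := by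
  classical
  set B : ℤ → ℤ := fun j => ∑ i ∈ Finset.range (m + 1), (-1 : ℤ) ^ i *
        ((Finset.univ.filter fun b : Fin (rk i) => deg i b = j).card : ℤ) with hB
  set T : Finset ℤ := (Finset.range (m + 1)).biUnion (fun i => Finset.univ.image (deg i)) with hTdef
  have hT : ∀ i ∈ Finset.range (m + 1), ∀ b, deg i b ∈ T := by
    intro i hi b
    rw [hTdef, Finset.mem_biUnion]
    exact ⟨i, hi, Finset.mem_image_of_mem _ (Finset.mem_univ _)⟩
  have hB0 : ∀ j, j ∉ T → B j = 0 := by
    intro j hj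
    rw [hB]
    apply Finset.sum_eq_zero
    intro i hi
    have : (Finset.univ.filter fun b : Fin (rk i) => deg i b = j) = ∅ := by
      rw [Finset.filter_eq_empty_iff]
      intro b _ hb
      exact hj (hb ▸ hT i hi b)
    rw [this]
    simp
  have hsum : ∀ (T' : Finset ℤ), T ⊆ T' → ∀ d, h d = ∑ j ∈ T', B j * c d j := by
    intro T' hTT' d
    rw [hh d, alt_sum_deg_eq m rk deg (c d) T hT]
    apply Finset.sum_subset hTT'
    intro j _ hj
    show B j * c d j = 0
    rw [hB0 j hj, zero_mul]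
  have part1 : ∀ d : ℤ, h d = ∑ᶠ j : ℤ, B j * c d j := by
    intro d
    rw [hsum T (Finset.Subset.refl _) d]
    symm
    apply finsum_eq_sum_of_support_subset
    intro j hj
    rw [Function.mem_support] at hj
    by_contra hjT
    apply hj
    rw [hB0 j hjT, zero_mul]
  refine ⟨part1, ?_⟩
  intro j
  have e1 : ∑ᶠ n : ℤ, (if n < j then B n * c j n else 0) =
      ∑ n ∈ insert j T, (if n < j then B n * c j n else 0) := by
    apply finsum_eq_sum_of_support_subset
    intro n hn
    rw [Function.mem_support] at hn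
    by_contra hnT
    apply hn
    have hnT' : n ∉ T := fun h => hnT (Finset.mem_insert_of_mem h)
    rw [hB0 n hnT', zero_mul, ite_self]
  rw [e1, hsum (insert j T) (Finset.subset_insert _ _) j]
  have e2 : ∀ n ∈ insert j T, B n * c j n =
      (if n < j then B n * c j n else 0) + (if n = j then B j else 0) := by
    intro n _
    rcases lt_trichotomy n j with hlt | heq | hgt
    · rw [if_pos hlt, if_neg (ne_of_lt hlt), add_zero]
    · subst heq
      rw [if_neg (lt_irrefl _), if_pos rfl, hc1, mul_one, zero_add]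
    · rw [if_neg (not_lt.mpr hgt.le), if_neg (ne_of_gt hgt), hc0 j n hgt, mul_zero, add_zero]
  rw [Finset.sum_congr rfl e2, Finset.sum_add_distrib, Finset.sum_ite_eq' , if_pos (Finset.mem_insert_self _ _)]
  ring

/-- Let k be a field, S = k[x_0, …, x_r] graded by degree and M a ℤ-graded S-module with a finite graded
free resolution F of length at most m by free modules of finite rank with homogeneous bases; write
β_{i,j} for the number of basis vectors of F_i of degree j (the graded Betti numbers when F is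
minimal) and B_j = Σ_{i ≤ m} (−1)^i β_{i,j}. Then for every integer d, dim_k M_d = Σ_j B_j C(r + d −
j, r), where a binomial with d < j counts as zero and only finitely many j contribute; and the B_j
are recovered from the Hilbert function by B_j = dim_k M_j − Σ_{n < j} B_n C(r + j − n, r). (Stated
for any finite graded free resolution; the published statement takes the minimal one.) -/
theorem result (k : Type u) [Field k] (r : ℕ)
    (M : Type u) [AddCommGroup M] [Module k M] [Module (MvPolynomial (Fin (r + 1)) k) M]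
    [IsScalarTower k (MvPolynomial (Fin (r + 1)) k) M] [Module.Finite (MvPolynomial (Fin (r + 1)) k) M]
    (ℳ : ℤ → Submodule k M) [DirectSum.Decomposition ℳ] [SetLike.GradedSMul (GrSyz.stdGr k (Fin (r + 1))) ℳ]
    (F : GrSyz.FreeRes (GrSyz.stdGr k (Fin (r + 1))) ℳ) (m : ℕ) (hF : F.HasLengthLE m) :
    (∀ d : ℤ, (Module.finrank k ↥(ℳ d) : ℤ) =
        ∑ᶠ j : ℤ, (∑ i ∈ Finset.range (m + 1), (-1 : ℤ) ^ i * (F.betti i j : ℤ)) *
          (if j ≤ d then ((Nat.choose (r + (d - j).toNat) r : ℕ) : ℤ) else 0)) ∧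
      ∀ j : ℤ, (∑ i ∈ Finset.range (m + 1), (-1 : ℤ) ^ i * (F.betti i j : ℤ)) =
        (Module.finrank k ↥(ℳ j) : ℤ) -
          ∑ᶠ n : ℤ, (if n < j then (∑ i ∈ Finset.range (m + 1), (-1 : ℤ) ^ i * (F.betti i n : ℤ)) * ((Nat.choose (r + (j - n).toNat) r : ℕ) : ℤ) else 0) := by
  have key := core m F.rk F.deg
    (fun d j => if j ≤ d then ((Nat.choose (r + (d - j).toNat) r : ℕ) : ℤ) else 0)
    (fun d => (Module.finrank k ↥(ℳ d) : ℤ))
    (by
      intro d j hdj
      exact if_neg (not_le.mpr hdj))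
    (by
      intro d
      show (if d ≤ d then ((Nat.choose (r + (d - d).toNat) r : ℕ) : ℤ) else 0) = 1
      rw [if_pos le_rfl, sub_self, Int.toNat_zero, add_zero, Nat.choose_self, Nat.cast_one])
    (fun d => Groth.Agent.Helper23.GrSyzHilb.hilbert_function F m hF d)
  refine ⟨key.1, ?_⟩
  intro j
  have h2 := key.2 j
  rw [show (∑ i ∈ Finset.range (m + 1), (-1 : ℤ) ^ i * (F.betti i j : ℤ)) =
      ∑ i ∈ Finset.range (m + 1), (-1 : ℤ) ^ i *
        ((Finset.univ.filter fun b : Fin (F.rk i) => F.deg i b = j).card : ℤ) from rfl, h2]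
  congr 1
  apply finsum_congr
  intro n
  by_cases hn : n < j
  · rw [if_pos hn, if_pos hn, if_pos hn.le]
    rfl
  · rw [if_neg hn, if_neg hn]

end Groth.Agent.S15437
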