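import Groth.Statements.S1544
import Groth.Agent.Lib.Helper18.GeomRedGen2

set_option autoImplicit false
universe u
open CategoryTheory CategoryTheory.Limits AlgebraicGeometry
attribute [local instance] Curv2.resAlgebra Curv2.stalkAlgebra
open Variety

namespace Groth.Agent.S1544

/-- For an integral scheme over k, geometric reducedness of the scheme is equivalent to geometric
reducedness over k of the function field (the local ring at the generic point), i.e. a separable
extension of k in the sense of commutative algebra. The source states this for varieties;
integrality is what the proof uses. -/
theorem result (k : Type u) [Field k] (X : Scheme.{u}) [X.Over (Spec (CommRingCat.of k))] [IsIntegral X] :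
    GeometricallyReduced (X ↘ (Spec (CommRingCat.of k))) ↔ Algebra.IsGeometricallyReduced k X.functionField := by
  have key : FBase.IsGeomReducedAt (X ↘ Spec (CommRingCat.of k)) (genericPoint X) ↔
      Algebra.IsGeometricallyReduced k X.functionField :=
    Groth.Agent.Helper18.StalkBC.isGeomReducedAt_iff_stalk
      (X ↘ Spec (CommRingCat.of k)) (genericPoint X)
  constructor
  · intro hgr
    refine key.mp ?_
    intro K _ _ x' _
    haveI : IsReduced (FBase.bc (X ↘ Spec (CommRingCat.of k)) K) :=
      hgr.geometrically_isReduced (Spec.map (CommRingCat.ofHom (algebraMap k K))) _ _
        (IsPullback.of_hasPullback _ _)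
    infer_instance
  · intro hgr
    refine Groth.Agent.Helper18.GeomRedGen.geometricallyReduced_of_generic
      (X ↘ Spec (CommRingCat.of k)) ?_
    intro Z hZ η hη
    rw [irreducibleComponents_eq_singleton] at hZ
    have hZ' : Z = Set.univ := hZ
    subst hZ'
    have : η = genericPoint X := hη.eq (genericPoint_spec X)
    subst this
    exact key.mpr hgr

end Groth.Agent.S1544
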