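import Groth.Statements.S15449
import Groth.Agent.Lib.Helper23.WeilLib

set_option autoImplicit false
universe u v
open CategoryTheory AlgebraicGeometry
open WeilCoh

namespace Groth.Agent.S15449

/-- For a Weil cohomology theory H^* (coefficients in K of characteristic zero, on nonsingular connected
projective varieties over an algebraically closed field k), such varieties X and Y with product X ×
Y and projections p, q, and α ∈ H^i(Y): p_*(q^*(α)) = Tr_Y(α) (as a multiple of 1 ∈ H^0(X)) if i = 2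
dim Y, and p_*(q^*(α)) = 0 otherwise. The product is any object Q with morphisms p : Q → X, q : Q →
Y forming a cartesian square over Spec k; both sides are read in the total cohomology ring of X. -/
theorem result (k : Type u) [Field k] [IsAlgClosed k] (K : Type v) [Field K] [CharZero K]
    (T : WeilCoh.Theory k K) (X Y Q : WeilCoh.Var k) (p : Q ⟶ X) (q : Q ⟶ Y)
    (hQ : WeilCoh.IsProd p q) (i : ℤ) (a : ↥(T.gr Y i)) :
    (i = 2 * (WeilCoh.dim Y.obj.left : ℤ) →
      (T.push p i ⟨T.pull q a, T.pull_mem q i a a.2⟩ : T.H X) = algebraMap K (T.H X) (T.tr Y a)) ∧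
    (i ≠ 2 * (WeilCoh.dim Y.obj.left : ℤ) →
      (T.push p i ⟨T.pull q a, T.pull_mem q i a a.2⟩ : T.H X) = 0) := by
  have hdim := Groth.Agent.Helper23.WeilLib.dim_prod T p q hQ
  have hu : (T.push p i ⟨T.pull q a, T.pull_mem q i a a.2⟩ : T.H X) ∈
      T.gr X (i - 2 * (WeilCoh.dim Y.obj.left : ℤ)) :=
    Groth.Agent.Helper23.WeilLib.mem_gr_of_eq T (T.push p i ⟨T.pull q a, T.pull_mem q i a a.2⟩).2
      (by omega)
  constructor
  · intro hi
    have hu0 : (T.push p i ⟨T.pull q a, T.pull_mem q i a a.2⟩ : T.H X) ∈ T.gr X 0 :=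
      Groth.Agent.Helper23.WeilLib.mem_gr_of_eq T hu (by omega)
    have hv0 : algebraMap K (T.H X) (T.tr Y a) ∈ T.gr X 0 := by
      rw [Algebra.algebraMap_eq_smul_one]
      exact (T.gr X 0).smul_mem _ (SetLike.one_mem_graded _)
    apply Groth.Agent.Helper23.WeilLib.eq_of_tr_mul_eq T 0 _ _ hu0 hv0
    intro b hb
    have hb' : b ∈ T.gr X (2 * (WeilCoh.dim Q.obj.left : ℤ) - i) :=
      Groth.Agent.Helper23.WeilLib.mem_gr_of_eq T hb (by omega)
    rw [Groth.Agent.Helper23.WeilLib.tr_push_mul T p i _ b hb']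
    have hb2 : b ∈ T.gr X (2 * (WeilCoh.dim X.obj.left : ℤ)) :=
      Groth.Agent.Helper23.WeilLib.mem_gr_of_eq T hb (by ring)
    have ha2 : (a : T.H Y) ∈ T.gr Y (2 * (WeilCoh.dim Y.obj.left : ℤ)) :=
      Groth.Agent.Helper23.WeilLib.mem_gr_of_eq T a.2 hi
    have hcomm := T.gradedComm Q i (2 * (WeilCoh.dim X.obj.left : ℤ)) (T.pull q a) (T.pull p b)
      (T.pull_mem q i a a.2) (T.pull_mem p _ b hb2)
    have hev : Even (i.natAbs * (2 * (WeilCoh.dim X.obj.left : ℤ)).natAbs) := by
      have : (2 * (WeilCoh.dim X.obj.left : ℤ)).natAbs = 2 * WeilCoh.dim X.obj.left := by omega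
      rw [this]
      exact ⟨i.natAbs * WeilCoh.dim X.obj.left, by ring⟩
    rw [hev.neg_one_pow, one_smul] at hcomm
    show T.tr Q (T.pull q a * T.pull p b) = _
    rw [hcomm, T.tr_prod p q hQ b a hb2 ha2, Algebra.algebraMap_eq_smul_one, smul_mul_assoc, one_mul,
      map_smul, smul_eq_mul, mul_comm]
  · intro hi
    apply Groth.Agent.Helper23.WeilLib.eq_of_tr_mul_eq T (i - 2 * (WeilCoh.dim Y.obj.left : ℤ)) _ 0 hu
      (Submodule.zero_mem _)
    intro b hb
    rw [zero_mul, map_zero, Groth.Agent.Helper23.WeilLib.tr_push_mul T p i _ b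
      (Groth.Agent.Helper23.WeilLib.mem_gr_of_eq T hb (by omega))]
    rcases lt_or_gt_of_ne hi with hlt | hgt
    · have hb0 : b = 0 := Groth.Agent.Helper23.WeilLib.eq_zero_of_mem_gr_of_lt T _ b hb
        (Or.inr (by omega))
      rw [hb0, map_zero, mul_zero, map_zero]
    · have ha0 : (a : T.H Y) = 0 := Groth.Agent.Helper23.WeilLib.eq_zero_of_mem_gr_of_lt T i a a.2
        (Or.inr hgt)
      show T.tr Q (T.pull q a * T.pull p b) = 0
      rw [ha0, map_zero, zero_mul, map_zero]

end Groth.Agent.S15449
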