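import Groth.Statements.S1547
import Groth.Agent.Lib.Helper4.GeomIrrSep

set_option autoImplicit false
universe u
open CategoryTheory CategoryTheory.Limits AlgebraicGeometry
open Variety

namespace Groth.Agent.S1547

/-- Let k be a separably closed field, X a scheme over k and K any field extension of k. Then taking
images along the projection X_K → X is injective on irreducible components: two irreducible
components of X_K with the same image in X are equal. (Together with surjectivity on irreducible
components, stated separately, this gives a bijection of irreducible components.) -/
theorem result (k : Type u) [Field k] (X : Scheme.{u}) [X.Over (Spec (CommRingCat.of k))] [IsSepClosed k] (K : Type u) [Field K] [Algebra k K]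
    (T T' : Set (Curv2.bc k X K : Type u)) (hT : T ∈ irreducibleComponents (Curv2.bc k X K : Type u))
    (hT' : T' ∈ irreducibleComponents (Curv2.bc k X K : Type u))
    (h : (Curv2.bcFst k X K).base '' T = (Curv2.bcFst k X K).base '' T') : T = T' := by
  haveI : IrreducibleSpace ↥(Spec (CommRingCat.of K)) :=
    inferInstanceAs (IrreducibleSpace (PrimeSpectrum K))
  haveI hgi : GeometricallyIrreducible (Spec.map (CommRingCat.ofHom (algebraMap k K))) :=
    Groth.Agent.Helper4.GeomIrrSep.geometricallyIrreducible_of_isSepClosed _
  haveI : GeometricallyIrreducible (Curv2.bcFst k X K) :=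
    MorphismProperty.pullback_fst _ _ hgi
  have hopen : IsOpenMap (Curv2.bcFst k X K).base := (Curv2.bcFst k X K).isOpenMap
  have hinj := ((Curv2.bcFst k X K).irreducibleComponentsEquiv hopen).injective
    (a₁ := ⟨T, hT⟩) (a₂ := ⟨T', hT'⟩) (Subtype.ext h)
  exact congrArg Subtype.val hinj

end Groth.Agent.S1547
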