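import Groth.Statements.S1548
import Groth.Agent.Lib.Helper16.Sch.BCRed

set_option autoImplicit false
universe u
open CategoryTheory CategoryTheory.Limits AlgebraicGeometry
open Variety

namespace Groth.Agent.S1548

/-- Let k be a field of characteristic p > 0. If the base change X_{k'} is reduced whenever k' is a
finite purely inseparable extension of k, then X is geometrically reduced over k. -/
theorem result (k : Type u) [Field k] (p : ℕ) [Fact p.Prime] [CharP k p]
    (X : Scheme.{u}) [X.Over (Spec (CommRingCat.of k))]
    (h : ∀ (k' : Type u) [Field k'] [Algebra k k'] [FiniteDimensional k k'] [IsPurelyInseparable k k'], IsReduced (Curv2.bc k X k')) :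
    GeometricallyReduced (X ↘ (Spec (CommRingCat.of k))) := by
  refine ⟨?_⟩
  intro K _ y Z fst snd hpb
  letI : Algebra k K := (Spec.preimage y).hom.toAlgebra
  have hy : y = Spec.map (CommRingCat.ofHom (algebraMap k K)) := (Spec.map_preimage y).symm
  have hred : IsReduced (FBase.bc (X ↘ Spec (CommRingCat.of k)) K) :=
    Groth.Agent.Helper16.BCRed.isReduced_bc_of_forall_finite_purelyInseparable
      (X ↘ Spec (CommRingCat.of k))
      (fun k' _ _ hfin hpi => by
        haveI := hfin
        haveI := hpi
        exact h k') K
  rw [hy] at hpb
  haveI : IsReduced (pullback (X ↘ Spec (CommRingCat.of k))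
      (Spec.map (CommRingCat.ofHom (algebraMap k K)))) := hred
  exact isReduced_of_isOpenImmersion hpb.isoPullback.hom

end Groth.Agent.S1548
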