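import Mathlib
import Groth.Statements.S15482
import Groth.Agent.Lib.Helper19.IsoNatQcMor

set_option autoImplicit false
universe u
open CategoryTheory AlgebraicGeometry
open IsoNat

namespace Groth.Agent.S15482

/-- A morphism f : 𝒳 → 𝒴 of algebraic stacks over a quasi-separated scheme S is quasi-compact (its base
change to every quasi-compact algebraic stack is quasi-compact) if and only if for every
quasi-compact algebraic stack 𝒴' and every open immersion j : 𝒴' → 𝒴 (representable by open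
immersions of algebraic spaces) the 2-fibre product 𝒴' ×_𝒴 𝒳 is quasi-compact. Here an algebraic
stack over a quasi-separated scheme S means a stack in groupoids for the fppf topology with a smooth
surjective atlas from a scheme, whose diagonal is representable by separated quasi-compact morphisms
of algebraic spaces and whose inertia is locally of finite presentation over it. -/
theorem result
    (S : Scheme.{u}) [QuasiSeparatedSpace S]
    (𝒳 𝒴 : AlgSt.Cat S)
    (h𝒳 : AlgSt.IsAlgStack Scheme.fppfPrecoverage 𝒳)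
    (h𝒳d : AlgSt.RepByAlgSpWith (AlgSp.IsSeparatedMor ⊓ AlgSp.IsQuasiCompactMor)
      (FibCat.diag (FibCat.toSelf 𝒳)))
    (h𝒳i : AlgSt.RepByAlgSpWith (AlgSp.LocP @LocallyOfFinitePresentation)
      (FibCat.inertiaToBase (FibCat.toSelf 𝒳)))
    (h𝒴 : AlgSt.IsAlgStack Scheme.fppfPrecoverage 𝒴)
    (h𝒴d : AlgSt.RepByAlgSpWith (AlgSp.IsSeparatedMor ⊓ AlgSp.IsQuasiCompactMor)
      (FibCat.diag (FibCat.toSelf 𝒴)))
    (h𝒴i : AlgSt.RepByAlgSpWith (AlgSp.LocP @LocallyOfFinitePresentation)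
      (FibCat.inertiaToBase (FibCat.toSelf 𝒴)))
    (f : 𝒳 ⥤ᵇ 𝒴) :
    AlgSt.IsQuasiCompactMor Scheme.fppfPrecoverage f ↔
      ∀ (𝒴' : AlgSt.Cat S), AlgSt.IsAlgStack Scheme.fppfPrecoverage 𝒴' → AlgSt.IsQuasiCompact 𝒴' →
        ∀ (j : 𝒴' ⥤ᵇ 𝒴), AlgSt.IsOpenImm j → AlgSt.IsQuasiCompact (FibCat.fp j f) := by
  have hqs : AlgSt.IsQuasiSeparatedOver 𝒴 :=
    Groth.Agent.Helper19.CancelLib.repByAlgSpWith_mono
      (fun _ _ a ha => ⟨ha.2, Groth.Agent.Helper15.repWith_mono
        Groth.Agent.Helper15.isClosedImmersion_le_quasiCompact ha.1⟩) h𝒴d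
  constructor
  · intro hf 𝒴' h𝒴' hqc j _
    exact hf 𝒴' h𝒴' hqc j
  · intro H
    refine Groth.Agent.Helper19.IsoNatQcMor.isQuasiCompactMor_of_forall_isOpen_isCompact h𝒳 h𝒴 hqs f
      (fun T hTo hTc => ?_)
    exact H _ (Groth.Agent.Helper19.OpenSub.isAlgStack_fullSub_ofSet h𝒴 T hTo)
      (Groth.Agent.Helper19.IsoNatQcMor.isQuasiCompact_fullSub_ofSet h𝒴 T hTo hTc) _
      (Groth.Agent.Helper19.OpenSub.isOpenImm_subIncl_ofSet h𝒴 T hTo)

end Groth.Agent.S15482
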