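import Groth.Statements.S15488
import Mathlib.GroupTheory.Coset.Card
import Mathlib.LinearAlgebra.Dimension.Constructions
import Mathlib.LinearAlgebra.Dimension.Free
import Mathlib.LinearAlgebra.FreeModule.StrongRankCondition
import Mathlib.Data.ZMod.QuotientGroup

set_option autoImplicit false
universe u
open IsoNat

namespace Groth.Agent.S15488

section
variable {A : Type u} [CommRing A] {G : Type u} [Group G]

/-- membership in the eigen-submodule -/
theorem mem_E (g : G) (l : A) (v : G → A) :
    v ∈ LinearMap.ker (LinearMap.funLeft A A (fun h : G => g * h) - l • LinearMap.id) ↔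
      ∀ h, v (g * h) = l * v h := by
  rw [LinearMap.mem_ker]
  constructor
  · intro h x
    have := congrFun h x
    simp only [LinearMap.sub_apply, LinearMap.funLeft_apply, LinearMap.smul_apply, LinearMap.id_apply,
      Pi.sub_apply, Pi.smul_apply, smul_eq_mul, Pi.zero_apply, sub_eq_zero] at this
    exact this
  · intro h
    funext x
    simp only [LinearMap.sub_apply, LinearMap.funLeft_apply, LinearMap.smul_apply, LinearMap.id_apply,
      Pi.sub_apply, Pi.smul_apply, smul_eq_mul, Pi.zero_apply, sub_eq_zero]
    exact h x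

/-- iterating the eigen-relation along integer powers -/
theorem eigen_zpow (g : G) (lu : Aˣ) (v : G → A) (hv : ∀ h, v (g * h) = (lu : A) * v h) (n : ℤ) :
    ∀ h, v (g ^ n * h) = ((lu ^ n : Aˣ) : A) * v h := by
  induction n using Int.induction_on with
  | zero => intro h; simp
  | succ n ih =>
    intro h
    rw [zpow_add_one, mul_assoc, ih, hv, zpow_add_one, Units.val_mul, mul_assoc]
  | pred n ih =>
    intro h
    have h1 := ih (g⁻¹ * h)
    have h2 := hv (g⁻¹ * h)
    rw [mul_inv_cancel_left] at h2
    rw [zpow_sub_one, mul_assoc, h1, zpow_sub_one, Units.val_mul]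
    have h3 : v (g⁻¹ * h) = ((lu⁻¹ : Aˣ) : A) * v h := by
      rw [h2, ← mul_assoc, ← Units.val_mul, inv_mul_cancel, Units.val_one, one_mul]
    rw [h3, mul_assoc]

end

/-- Let A be a nontrivial commutative ring, G a finite group, g an element of G of order ν and l an
element of A with l ^ ν = 1. In the free A-module of functions G → A (the regular representation, g
acting by translation v ↦ v(g·)), the submodule of v with v(g h) = l v(h) for all h is a direct
summand, free of rank |G| / ν (stated as: free, rank · ν = |G|, and a complementary submodule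
exists). (The published statement is over an arbitrary ring and also covers Hom(A^N, −) of the
regular representation, which follows; nontriviality of A is needed for the rank to be meaningful.) -/
theorem result
    (A : Type u) [CommRing A] [Nontrivial A] (G : Type u) [Group G] [Finite G]
    (g : G) (l : A) (hl : l ^ orderOf g = 1) :
    Module.Free A (LinearMap.ker (LinearMap.funLeft A A (fun h : G => g * h) - l • LinearMap.id)) ∧
      Module.finrank A (LinearMap.ker (LinearMap.funLeft A A (fun h : G => g * h) - l • LinearMap.id)) * orderOf g = Nat.card G ∧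
      ∃ E' : Submodule A (G → A), IsCompl (LinearMap.ker (LinearMap.funLeft A A (fun h : G => g * h) - l • LinearMap.id)) E' := by
  classical
  have hfin : Fintype G := Fintype.ofFinite G
  have hν : 0 < orderOf g := orderOf_pos g
  let lu : Aˣ := ⟨l, l ^ (orderOf g - 1), by rw [← pow_succ', Nat.sub_add_cancel hν, hl],
    by rw [← pow_succ, Nat.sub_add_cancel hν, hl]⟩
  have hlu : lu ^ orderOf g = 1 := Units.ext (by simpa [lu] using hl)
  have hluz : ∀ n m : ℤ, g ^ n = g ^ m → lu ^ n = lu ^ m := by
    intro n m h
    rw [← orderOf_dvd_sub_iff_zpow_eq_zpow] at h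
    obtain ⟨c, hc⟩ := h
    have hnm : n = m + (orderOf g : ℤ) * c := by linarith
    rw [hnm, zpow_add, zpow_mul, zpow_natCast, hlu, one_zpow, mul_one]
  let H := Subgroup.zpowers g
  have hex : ∀ x : G, x ∈ H → ∃ n : ℤ, g ^ n = x := fun x hx => Subgroup.mem_zpowers_iff.mp hx
  let χ : G → Aˣ := fun x => if hx : x ∈ H then lu ^ (Classical.choose (hex x hx)) else 1
  have hχ : ∀ n : ℤ, χ (g ^ n) = lu ^ n := by
    intro n
    have hx : g ^ n ∈ H := Subgroup.zpow_mem_zpowers g n
    simp only [χ, dif_pos hx]
    exact hluz _ _ (Classical.choose_spec (hex _ hx))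
  let q : G → G ⧸ H := fun h => QuotientGroup.mk h⁻¹
  let r : G ⧸ H → G := fun c => (Quotient.out c)⁻¹
  have hqr : ∀ c, q (r c) = c := by
    intro c
    simp only [q, r, inv_inv]
    exact Quotient.out_eq c
  have hmem : ∀ h, h * (r (q h))⁻¹ ∈ H := by
    intro h
    have h1 : (QuotientGroup.mk (Quotient.out (q h)) : G ⧸ H) = QuotientGroup.mk h⁻¹ :=
      Quotient.out_eq _
    rw [QuotientGroup.eq] at h1
    have h2 := H.inv_mem h1
    simpa [r, mul_inv_rev] using h2
  have hqg : ∀ h, q (g * h) = q h := by
    intro h
    simp only [q]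
    rw [QuotientGroup.eq]
    simp only [inv_inv, mul_inv_cancel_right]
    exact Subgroup.mem_zpowers g
  let res : (G → A) →ₗ[A] (G ⧸ H → A) := LinearMap.funLeft A A r
  let ext : (G ⧸ H → A) →ₗ[A] (G → A) :=
    { toFun := fun w h => ((χ (h * (r (q h))⁻¹) : Aˣ) : A) * w (q h)
      map_add' := fun w w' => by funext h; simp [mul_add]
      map_smul' := fun c w => by funext h; simp [mul_left_comm] }
  have hext_mem : ∀ w, ext w ∈
      LinearMap.ker (LinearMap.funLeft A A (fun h : G => g * h) - l • LinearMap.id) := by
    intro w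
    rw [mem_E]
    intro h
    show ((χ (g * h * (r (q (g * h)))⁻¹) : Aˣ) : A) * w (q (g * h)) =
      l * (((χ (h * (r (q h))⁻¹) : Aˣ) : A) * w (q h))
    rw [hqg]
    obtain ⟨n, hn⟩ := hex _ (hmem h)
    rw [mul_assoc g, ← hn, ← zpow_one_add, hχ, hχ, zpow_add, zpow_one, Units.val_mul, mul_assoc]
  have hres_ext : ∀ w, res (ext w) = w := by
    intro w
    funext c
    show ((χ (r c * (r (q (r c)))⁻¹) : Aˣ) : A) * w (q (r c)) = w c
    rw [hqr, mul_inv_cancel, ← zpow_zero g, hχ, zpow_zero, Units.val_one, one_mul]
  have hext_res : ∀ v ∈ LinearMap.ker (LinearMap.funLeft A A (fun h : G => g * h) - l • LinearMap.id),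
      ext (res v) = v := by
    intro v hv
    rw [mem_E] at hv
    funext h
    show ((χ (h * (r (q h))⁻¹) : Aˣ) : A) * v (r (q h)) = v h
    obtain ⟨n, hn⟩ := hex _ (hmem h)
    rw [← hn, hχ, ← eigen_zpow g lu v hv n, hn, inv_mul_cancel_right]
  let e : LinearMap.ker (LinearMap.funLeft A A (fun h : G => g * h) - l • LinearMap.id) ≃ₗ[A]
      (G ⧸ H → A) :=
    { toFun := fun v => res v.1
      invFun := fun w => ⟨ext w, hext_mem w⟩
      map_add' := fun v v' => by simp
      map_smul' := fun c v => by simp
      left_inv := fun v => Subtype.ext (hext_res v.1 v.2)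
      right_inv := hres_ext }
  refine ⟨Module.Free.of_equiv e.symm, ?_, ?_⟩
  · rw [e.finrank_eq, Module.finrank_pi, ← Nat.card_eq_fintype_card]
    have h1 := Subgroup.card_eq_card_quotient_mul_card_subgroup H
    rw [Nat.card_zpowers] at h1
    exact h1.symm
  · refine ⟨LinearMap.ker res, ?_⟩
    rw [isCompl_iff]
    constructor
    · rw [Submodule.disjoint_def]
      intro v hv1 hv2
      rw [← hext_res v hv1, LinearMap.mem_ker.mp hv2, map_zero]
    · rw [codisjoint_iff, eq_top_iff]
      intro v _
      rw [Submodule.mem_sup]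
      refine ⟨ext (res v), hext_mem _, v - ext (res v), ?_, by abel⟩
      rw [LinearMap.mem_ker, map_sub, hres_ext, sub_self]

end Groth.Agent.S15488
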