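import Groth.Statements.S1549
import Mathlib
import Groth.Agent.Lib.Helper16.Sch.GenGS3
import Groth.Agent.Lib.Helper16.Sch.GenGS1


set_option autoImplicit false
universe u
open CategoryTheory CategoryTheory.Limits AlgebraicGeometry
open Variety

namespace Groth.Agent.S1549

/-- For a reduced scheme locally of finite type over k, being geometrically reduced is equivalent to
having a dense open subscheme that is smooth over k. -/
theorem result (k : Type u) [Field k] (X : Scheme.{u}) [X.Over (Spec (CommRingCat.of k))] [IsReduced X] [LocallyOfFiniteType (X ↘ (Spec (CommRingCat.of k)))] :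
    GeometricallyReduced (X ↘ (Spec (CommRingCat.of k))) ↔ ∃ U : X.Opens, Dense (U : Set X) ∧ Smooth (U.ι ≫ (X ↘ (Spec (CommRingCat.of k)))) := by
  haveI : LocallyOfFinitePresentation (X ↘ (Spec (CommRingCat.of k))) := inferInstance
  constructor
  · intro h
    refine ⟨(X ↘ (Spec (CommRingCat.of k))).smoothLocus,
      Groth.Agent.Helper16.GenGS.dense_smoothLocus_of_geometricallyReduced k _,
      Groth.Agent.Helper16.GenGS.smooth_smoothLocus_ι_comp _⟩
  · rintro ⟨U, hUd, hUs⟩
    have hle : U ≤ (X ↘ (Spec (CommRingCat.of k))).smoothLocus := by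
      intro x hx
      have h1 : (U.ι ≫ (X ↘ (Spec (CommRingCat.of k)))).smoothLocus = ⊤ :=
        Scheme.Hom.smoothLocus_eq_top_iff.2 hUs
      rw [← Scheme.Hom.preimage_smoothLocus_eq] at h1
      have h2 : (⟨x, hx⟩ : U) ∈ U.ι ⁻¹ᵁ (X ↘ (Spec (CommRingCat.of k))).smoothLocus := by
        rw [h1]; trivial
      exact h2
    have hd : Dense ((X ↘ (Spec (CommRingCat.of k))).smoothLocus : Set X) := hUd.mono hle
    haveI : IsDominant (X ↘ (Spec (CommRingCat.of k))).smoothLocus.ι := by
      constructor
      rw [DenseRange, Scheme.Opens.range_ι]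
      exact hd
    haveI : IsSchemeTheoreticallyDominant (X ↘ (Spec (CommRingCat.of k))).smoothLocus.ι :=
      IsSchemeTheoreticallyDominant.of_isDominant _
    exact Groth.Agent.Helper16.GenGS.geometricallyReduced_of_smoothLocus k _

end Groth.Agent.S1549
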