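import Groth.Statements.S15491

set_option autoImplicit false
universe v u
open CategoryTheory CategoryTheory.Functor
open IsoNat

namespace Groth.Agent.S15491

open CategoryTheory.Limits CategoryTheory.Limits.CategoricalPullback

section Paste

variable {A B A' B' A'' B'' : Type u} [Category.{v} A] [Category.{v} B] [Category.{v} A']
  [Category.{v} B'] [Category.{v} A''] [Category.{v} B'']
  (t : A ⥤ B) (l : A ⥤ A') (r : B ⥤ B') (t' : A' ⥤ B') (l' : A' ⥤ A'') (r' : B' ⥤ B'')
  (t'' : A'' ⥤ B'') (e₁ : t ⋙ r ≅ l ⋙ t') (e₂ : t' ⋙ r' ≅ l' ⋙ t'')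

/-- the comparison functor of the lower square -/
abbrev c₂ : A' ⥤ r' ⊡ t'' :=
  (CatCommSqOver.toFunctorToCategoricalPullback r' t'' A').obj ⟨t', l', e₂⟩

/-- the pasting functor `B ×_{B'} A' ⥤ B ×_{B''} A''` -/
def Φ : r ⊡ t' ⥤ (r ⋙ r') ⊡ t'' where
  obj x := ⟨x.fst, l'.obj x.snd, r'.mapIso x.iso ≪≫ e₂.app x.snd⟩
  map {x y} f :=
    { fst := f.fst
      snd := l'.map f.snd
      w := by
        have h1 := congrArg r'.map f.w
        simp only [Functor.map_comp] at h1
        have h2 := e₂.hom.naturality f.snd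
        simp only [Functor.comp_map] at h2
        simp only [Functor.comp_map, Iso.trans_hom, Functor.mapIso_hom, Iso.app_hom,
          Category.assoc]
        rw [← h2, reassoc_of% h1] }
  map_id x := by apply CategoricalPullback.hom_ext <;> simp
  map_comp f g := by apply CategoricalPullback.hom_ext <;> simp

variable {r t' l' r' t'' e₂}

theorem Φ_faithful [(c₂ t' l' r' t'' e₂).Faithful] : (Φ r t' l' r' t'' e₂).Faithful where
  map_injective {x y} f g h := by
    have hfst : f.fst = g.fst := by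
      have := congrArg CategoricalPullback.Hom.fst h; exact this
    have hsnd : l'.map f.snd = l'.map g.snd := by
      have := congrArg CategoricalPullback.Hom.snd h; exact this
    apply CategoricalPullback.hom_ext hfst
    apply (c₂ t' l' r' t'' e₂).map_injective
    apply CategoricalPullback.hom_ext
    · change t'.map f.snd = t'.map g.snd
      have hf := f.w
      have hg := g.w
      rw [hfst] at hf
      have : x.iso.hom ≫ t'.map f.snd = x.iso.hom ≫ t'.map g.snd := by rw [← hf, ← hg]
      exact (cancel_epi _).mp this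
    · exact hsnd

theorem Φ_full [(c₂ t' l' r' t'' e₂).Full] [(c₂ t' l' r' t'' e₂).Faithful] :
    (Φ r t' l' r' t'' e₂).Full where
  map_surjective {x y} g := by
    let g1 : x.fst ⟶ y.fst := g.fst
    let g2 : l'.obj x.snd ⟶ l'.obj y.snd := g.snd
    have gw : r'.map (r.map g1) ≫ r'.map y.iso.hom ≫ e₂.hom.app y.snd =
        r'.map x.iso.hom ≫ e₂.hom.app x.snd ≫ t''.map g2 := by
      have := g.w
      simpa [Φ] using this
    let h : t'.obj x.snd ⟶ t'.obj y.snd := x.iso.inv ≫ r.map g1 ≫ y.iso.hom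
    let m : (c₂ t' l' r' t'' e₂).obj x.snd ⟶ (c₂ t' l' r' t'' e₂).obj y.snd :=
      { fst := h
        snd := g2
        w := by
          change r'.map h ≫ e₂.hom.app y.snd = e₂.hom.app x.snd ≫ t''.map g2
          simp only [h, Functor.map_comp, Category.assoc]
          rw [gw, ← Functor.map_comp_assoc, Iso.inv_hom_id, Functor.map_id, Category.id_comp] }
    obtain ⟨s, hs⟩ := (c₂ t' l' r' t'' e₂).map_surjective m
    have hs1 : t'.map s = h := by
      have := congrArg CategoricalPullback.Hom.fst hs; exact this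
    have hs2 : l'.map s = g2 := by
      have := congrArg CategoricalPullback.Hom.snd hs; exact this
    refine ⟨⟨g1, s, ?_⟩, ?_⟩
    · rw [hs1]; simp [h]
    · apply CategoricalPullback.hom_ext
      · rfl
      · exact hs2

theorem Φ_essSurj [(c₂ t' l' r' t'' e₂).EssSurj] : (Φ r t' l' r' t'' e₂).EssSurj where
  mem_essImage q := by
    let p' : r' ⊡ t'' := ⟨r.obj q.fst, q.snd, q.iso⟩
    obtain ⟨a', ⟨i⟩⟩ := Functor.EssSurj.mem_essImage (F := c₂ t' l' r' t'' e₂) p'
    -- i : c₂ a' ≅ p'
    let α : t'.obj a' ≅ r.obj q.fst :=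
      ⟨i.hom.fst, i.inv.fst, congrArg CategoricalPullback.Hom.fst i.hom_inv_id,
        congrArg CategoricalPullback.Hom.fst i.inv_hom_id⟩
    let β : l'.obj a' ≅ q.snd :=
      ⟨i.hom.snd, i.inv.snd, congrArg CategoricalPullback.Hom.snd i.hom_inv_id,
        congrArg CategoricalPullback.Hom.snd i.inv_hom_id⟩
    have hw : r'.map α.hom ≫ q.iso.hom = e₂.hom.app a' ≫ t''.map β.hom := i.hom.w
    let x : r ⊡ t' := ⟨q.fst, a', α.symm⟩
    refine ⟨x, ⟨CategoricalPullback.mkIso (Iso.refl _) β ?_⟩⟩
    simp only [Φ, x, Functor.comp_map, Iso.refl_hom, Functor.map_id, Category.id_comp,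
      Iso.trans_hom, Functor.mapIso_hom, Iso.symm_hom, Iso.app_hom, Category.assoc]
    rw [← hw, ← Functor.map_comp_assoc, Iso.inv_hom_id, Functor.map_id, Category.id_comp]
    simp

theorem Φ_isEquivalence (h₂ : (c₂ t' l' r' t'' e₂).IsEquivalence) :
    (Φ r t' l' r' t'' e₂).IsEquivalence := by
  have := Φ_faithful (r := r) (e₂ := e₂)
  have := Φ_full (r := r) (e₂ := e₂)
  have := Φ_essSurj (r := r) (e₂ := e₂)
  exact { }

end Paste

/-- Pasting of 2-cartesian squares, stated in the 2-category of categories. Consider functors t : A → B,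
t' : A' → B', t'' : A'' → B'' and l : A → A', r : B → B', l' : A' → A'', r' : B' → B'' with natural
isomorphisms e₁ : t ⋙ r ≅ l ⋙ t' and e₂ : t' ⋙ r' ≅ l' ⋙ t''. If the lower square (t', l', r', t'',
e₂) is 2-cartesian (its comparison functor to the 2-fibre product is an equivalence), then the upper
square (t, l, r, t', e₁) is 2-cartesian if and only if the outer rectangle (t, l ⋙ l', r ⋙ r', t'')
with the pasted isomorphism is. (The published statement is for an arbitrary 2-category whose
2-morphisms are invertible; this row is the case of categories, functors and natural isomorphisms.) -/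
theorem result
    {A B A' B' A'' B'' : Type u} [Category.{v} A] [Category.{v} B] [Category.{v} A'] [Category.{v} B']
    [Category.{v} A''] [Category.{v} B'']
    (t : A ⥤ B) (l : A ⥤ A') (r : B ⥤ B') (t' : A' ⥤ B') (l' : A' ⥤ A'') (r' : B' ⥤ B'') (t'' : A'' ⥤ B'')
    (e₁ : t ⋙ r ≅ l ⋙ t') (e₂ : t' ⋙ r' ≅ l' ⋙ t'')
    (h₂ : FibCat.IsTwoCart t' l' r' t'' e₂) :
    FibCat.IsTwoCart t l r t' e₁ ↔
      FibCat.IsTwoCart t (l ⋙ l') (r ⋙ r') t''
        ((Functor.associator t r r').symm ≪≫ isoWhiskerRight e₁ r' ≪≫ Functor.associator l t' r' ≪≫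
          isoWhiskerLeft l e₂ ≪≫ (Functor.associator l l' t'').symm) := by
  unfold FibCat.IsTwoCart at h₂ ⊢
  have hΦ := Φ_isEquivalence (r := r) h₂
  set pasted := ((Functor.associator t r r').symm ≪≫ isoWhiskerRight e₁ r' ≪≫ Functor.associator l t' r' ≪≫
          isoWhiskerLeft l e₂ ≪≫ (Functor.associator l l' t'').symm) with hp
  let c₁ : A ⥤ r ⊡ t' := (CatCommSqOver.toFunctorToCategoricalPullback r t' A).obj ⟨t, l, e₁⟩
  let c₃ : A ⥤ (r ⋙ r') ⊡ t'' :=
    (CatCommSqOver.toFunctorToCategoricalPullback (r ⋙ r') t'' A).obj ⟨t, l ⋙ l', pasted⟩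
  have iso : c₁ ⋙ Φ r t' l' r' t'' e₂ ≅ c₃ :=
    NatIso.ofComponents
      (fun x => CategoricalPullback.mkIso (Iso.refl _) (Iso.refl _) (by
        show (r ⋙ r').map (𝟙 (t.obj x)) ≫ pasted.hom.app x =
          (r'.map (e₁.hom.app x) ≫ e₂.hom.app (l.obj x)) ≫ t''.map (𝟙 (l'.obj (l.obj x)))
        simp [pasted]))
      (fun {x y} f => by
        apply CategoricalPullback.hom_ext
        · show t.map f ≫ 𝟙 _ = 𝟙 _ ≫ t.map f
          simp
        · show l'.map (l.map f) ≫ 𝟙 _ = 𝟙 _ ≫ l'.map (l.map f)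
          simp)
  change c₁.IsEquivalence ↔ c₃.IsEquivalence
  constructor
  · intro h
    exact Functor.isEquivalence_of_iso iso
  · intro h
    have : (c₁ ⋙ Φ r t' l' r' t'' e₂).IsEquivalence := Functor.isEquivalence_of_iso iso.symm
    exact Functor.isEquivalence_of_comp_right c₁ (Φ r t' l' r' t'' e₂)

end Groth.Agent.S15491
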