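import Mathlib
import Groth.Statements.S15493
import Groth.Agent.Lib.Helper19.IsoNatLib
import Groth.Agent.Lib.Helper19.CancelLib
import Groth.Agent.Lib.Helper15.AlgSpGlue
import Groth.Agent.S12774

set_option autoImplicit false
universe u
open CategoryTheory AlgebraicGeometry
open IsoNat

namespace Groth.Agent.S15493

/-- The presheaf of isomorphism classes commutes with fibre products along an open immersion. Let f : 𝒳
→ 𝒴 be a morphism of algebraic stacks over a quasi-separated scheme S and i : 𝒴' → 𝒴 an open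
immersion of algebraic stacks (representable by open immersions of algebraic spaces). If two objects
of the 2-fibre product 𝒳 ×_𝒴 𝒴' over a scheme T have isomorphic images in 𝒳 over T and isomorphic
images in 𝒴' over T, then they are isomorphic over T. (Together with the evident surjectivity this
says that the natural map from the presheaf of isomorphism classes of 𝒳 ×_𝒴 𝒴' to the fibre product
of the presheaves of 𝒳 and 𝒴' over that of 𝒴 is an isomorphism; the published statement is for
arbitrary stacks, this row takes them algebraic.) -/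
theorem result
    (S : Scheme.{u}) [QuasiSeparatedSpace S]
    (𝒳 𝒴 𝒴' : AlgSt.Cat S)
    (h𝒳 : AlgSt.IsAlgStack Scheme.fppfPrecoverage 𝒳) (h𝒴 : AlgSt.IsAlgStack Scheme.fppfPrecoverage 𝒴)
    (h𝒴' : AlgSt.IsAlgStack Scheme.fppfPrecoverage 𝒴')
    (f : 𝒳 ⥤ᵇ 𝒴) (i : 𝒴' ⥤ᵇ 𝒴) (hi : AlgSt.IsOpenImm i)
    (T : Over S) (z₁ z₂ : (FibCat.fp f i).p.Fiber T)
    (h₁ : IsoNat.mapCls (FibCat.fpFst f i) T (IsoNat.cls z₁) = IsoNat.mapCls (FibCat.fpFst f i) T (IsoNat.cls z₂))
    (h₂ : IsoNat.mapCls (FibCat.fpSnd f i) T (IsoNat.cls z₁) = IsoNat.mapCls (FibCat.fpSnd f i) T (IsoNat.cls z₂)) :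
    IsoNat.cls z₁ = IsoNat.cls z₂ := by
  have himono : AlgSt.IsMono i :=
    Groth.Agent.Helper19.CancelLib.repByAlgSpWith_mono
      (fun A T a h => Groth.Agent.Helper15.mono_of_repWith_isOpenImmersion a h) hi
  obtain ⟨hfull, hfaith⟩ := Groth.Agent.S12774.result h𝒴'.isStack.1 h𝒴.isStack.1 i himono
  exact Groth.Agent.Helper19.IsoNatLib.cls_fp_eq_of_fullyFaithful h𝒳.isStack.1 h𝒴.isStack.1
    h𝒴'.isStack.1 f i T z₁ z₂ h₁

end Groth.Agent.S15493
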