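import Groth.Statements.S15494
import Mathlib

set_option autoImplicit false
universe u v
open Dieud

namespace Groth.Agent.S15494

/-- Let W be a commutative ring with a ring endomorphism σ, p a natural number, M a W-module and F an
additive self-map of M with F (w • m) = σ w • F m. Let d ≥ 1, c ≥ 1, h = d + c, and let e_1, …, e_h,
… be vectors of M on which F acts through a display matrix in normal form: F e_i = e_{i+1} for 1 ≤ i
< d; F e_d = Σ_{i=1}^{d} a_{i,d} e_i + e_{d+1}; F e_j = Σ_{i=1}^{d} p a_{i,j} e_i + p e_{j+1} for d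
< j < h; F e_h = Σ_{i=1}^{d} p a_{i,h} e_i. Then F^h e_1 = Σ_{i=1}^{d} Σ_{j=d}^{h} p^{j-d}
σ^{h-j}(a_{i,j}) F^{h+i-j-1} e_1. (The published statement is for the Dieudonné module of a
p-divisible group of dimension d and height h over the Witt ring of a field of characteristic p,
with σ the Frobenius and e_1, …, e_h a basis; this row keeps only the relations which the printed
computation uses, so W, σ, p and the vectors are arbitrary.) -/
theorem result
    (W : Type u) [CommRing W] (σ : W →+* W) (p : ℕ)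
    (M : Type v) [AddCommGroup M] [Module W M]
    (F : M →+ M) (hF : ∀ (w : W) (m : M), F (w • m) = σ w • F m)
    (d c : ℕ) (hd : 0 < d) (hc : 0 < c)
    (a : ℕ → ℕ → W) (e : ℕ → M)
    (h1 : ∀ i : ℕ, 1 ≤ i → i < d → F (e i) = e (i + 1))
    (h2 : F (e d) = (∑ i ∈ Finset.Icc 1 d, a i d • e i) + e (d + 1))
    (h3 : ∀ j : ℕ, d < j → j < d + c →
      F (e j) = (∑ i ∈ Finset.Icc 1 d, ((p : W) * a i j) • e i) + (p : W) • e (j + 1))
    (h4 : F (e (d + c)) = ∑ i ∈ Finset.Icc 1 d, ((p : W) * a i (d + c)) • e i) :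
    (⇑F)^[d + c] (e 1) = ∑ i ∈ Finset.Icc 1 d, ∑ j ∈ Finset.Icc d (d + c),
      ((p : W) ^ (j - d) * (⇑σ)^[d + c - j] (a i j)) • (⇑F)^[d + c + i - j - 1] (e 1) := by
  have hσp : ∀ n : ℕ, σ ((p : W) ^ n) = (p : W) ^ n := by
    intro n
    rw [map_pow, map_natCast]
  -- e i = F^[i-1] e 1
  have hA : ∀ i, 1 ≤ i → i ≤ d → (⇑F)^[i - 1] (e 1) = e i := by
    intro i hi
    induction i, hi using Nat.le_induction with
    | base => intro _; rfl
    | succ i hi ih =>
      intro hid
      have : i + 1 - 1 = (i - 1) + 1 := by omega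
      rw [this, Function.iterate_succ_apply', ih (by omega), h1 i hi (by omega)]
  -- F applied to the double sum
  have hFsum : ∀ (n : ℕ) (x : M),
      F (∑ i ∈ Finset.Icc 1 d, ∑ j ∈ Finset.Icc d (d + n),
        ((p : W) ^ (j - d) * (⇑σ)^[d + n - j] (a i j)) • (⇑F)^[d + n - j] (e i))
      = ∑ i ∈ Finset.Icc 1 d, ∑ j ∈ Finset.Icc d (d + n),
        ((p : W) ^ (j - d) * (⇑σ)^[d + (n + 1) - j] (a i j)) • (⇑F)^[d + (n + 1) - j] (e i) := by
    intro n x
    rw [map_sum]
    apply Finset.sum_congr rfl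
    intro i _
    rw [map_sum]
    apply Finset.sum_congr rfl
    intro j hj
    rw [Finset.mem_Icc] at hj
    have : d + (n + 1) - j = (d + n - j) + 1 := by omega
    rw [hF, map_mul, hσp, this, Function.iterate_succ_apply', Function.iterate_succ_apply']
  have claim : ∀ t, t < c → (⇑F)^[d + t] (e 1) =
      (∑ i ∈ Finset.Icc 1 d, ∑ j ∈ Finset.Icc d (d + t),
        ((p : W) ^ (j - d) * (⇑σ)^[d + t - j] (a i j)) • (⇑F)^[d + t - j] (e i))
      + (p : W) ^ t • e (d + t + 1) := by
    intro t
    induction t with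
    | zero =>
      intro _
      have : d + 0 = (d - 1) + 1 := by omega
      rw [this, Function.iterate_succ_apply', hA d hd le_rfl, h2]
      have : d - 1 + 1 = d := by omega
      simp [this]
    | succ t ih =>
      intro ht
      have ih' := ih (by omega)
      have : d + (t + 1) = (d + t) + 1 := by omega
      rw [this, Function.iterate_succ_apply', ih', map_add, hFsum t (e 1), hF, hσp,
        h3 (d + t + 1) (by omega) (by omega), smul_add, Finset.smul_sum]
      have hsplit : ∀ i, ∑ j ∈ Finset.Icc d (d + t + 1),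
          ((p : W) ^ (j - d) * (⇑σ)^[d + t + 1 - j] (a i j)) • (⇑F)^[d + t + 1 - j] (e i)
          = ∑ j ∈ Finset.Icc d (d + t),
          ((p : W) ^ (j - d) * (⇑σ)^[d + (t + 1) - j] (a i j)) • (⇑F)^[d + (t + 1) - j] (e i)
          + ((p : W) ^ t * ((p : W) * a i (d + t + 1))) • e i := by
        intro i
        rw [Finset.sum_Icc_succ_top (by omega)]
        congr 1
        have h1' : d + t + 1 - d = t + 1 := by omega
        have h2' : d + t + 1 - (d + t + 1) = 0 := by omega
        rw [h1', h2', pow_succ]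
        simp [mul_assoc]
      simp_rw [hsplit, Finset.sum_add_distrib, smul_smul]
      rw [pow_succ]
      abel
  have hc' : d + c = (d + (c - 1)) + 1 := by omega
  have hfin : (⇑F)^[d + c] (e 1) = ∑ i ∈ Finset.Icc 1 d, ∑ j ∈ Finset.Icc d (d + c),
      ((p : W) ^ (j - d) * (⇑σ)^[d + c - j] (a i j)) • (⇑F)^[d + c - j] (e i) := by
    conv_lhs => rw [hc', Function.iterate_succ_apply', claim (c - 1) (by omega), map_add,
      hFsum (c - 1) (e 1), hF, hσp]
    have e1 : d + (c - 1) + 1 = d + c := by omega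
    have e2 : c - 1 + 1 = c := by omega
    rw [e1, h4, Finset.smul_sum, e2]
    have hsplit : ∀ i, ∑ j ∈ Finset.Icc d (d + c),
        ((p : W) ^ (j - d) * (⇑σ)^[d + c - j] (a i j)) • (⇑F)^[d + c - j] (e i)
        = ∑ j ∈ Finset.Icc d (d + (c - 1)),
        ((p : W) ^ (j - d) * (⇑σ)^[d + c - j] (a i j)) • (⇑F)^[d + c - j] (e i)
        + ((p : W) ^ (c - 1) * ((p : W) * a i (d + c))) • e i := by
      intro i
      have : d + c = d + (c - 1) + 1 := by omega
      conv_lhs => rw [this, Finset.sum_Icc_succ_top (by omega)]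
      rw [← this]
      congr 1
      have h1' : d + c - d = (c - 1) + 1 := by omega
      have h2' : d + c - (d + c) = 0 := by omega
      rw [h1', h2', pow_succ]
      simp [mul_assoc]
    simp_rw [hsplit, Finset.sum_add_distrib, smul_smul]
  rw [hfin]
  apply Finset.sum_congr rfl
  intro i hi
  rw [Finset.mem_Icc] at hi
  apply Finset.sum_congr rfl
  intro j hj
  rw [Finset.mem_Icc] at hj
  rw [← hA i hi.1 hi.2, ← Function.iterate_add_apply]
  congr 2
  omega

end Groth.Agent.S15494
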