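import Groth.Statements.S15495
import Mathlib.Tactic
import Mathlib.Algebra.Ring.GeomSum
import Mathlib.RingTheory.Jacobson.Ideal

set_option autoImplicit false
universe u
open CAlg

namespace Groth.Agent.S15495

theorem one_add_pow_sub_one_mem {R : Type*} [CommRing R] (m : Ideal R) (x : R) (hx : x ∈ m) (i : ℕ) :
    (1 + x) ^ i - 1 ∈ m := by
  have h := geom_sum_mul (1 + x) i
  rw [← h]
  have : (1 + x) - 1 = x := by ring
  rw [this]
  exact Ideal.mul_mem_left _ _ hx

theorem one_add_pow_prime_sub_one_mem {R : Type*} [CommRing R] (m : Ideal R) (p : ℕ)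
    (hpm : (p : R) ∈ m) (k : ℕ) (x : R) (hx : x ∈ m) (hxk : x ∈ m ^ k) :
    (1 + x) ^ p - 1 ∈ m ^ (k + 1) := by
  have h := geom_sum_mul (1 + x) p
  rw [← h]
  have h1 : (1 + x) - 1 = x := by ring
  rw [h1, pow_succ']
  refine Ideal.mul_mem_mul ?_ hxk
  have hsum : ∑ i ∈ Finset.range p, (1 + x) ^ i
      = ∑ i ∈ Finset.range p, ((1 + x) ^ i - 1) + (p : R) := by
    rw [Finset.sum_sub_distrib]
    simp
  rw [hsum]
  exact Ideal.add_mem _ (Ideal.sum_mem _ (fun i _ => one_add_pow_sub_one_mem m x hx i)) hpm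

/-- In an Artinian local ring R whose maximal ideal m contains the prime number p, the multiplicative
group 1 + m is annihilated under some power of p: there is n with (1 + x)^(p^n) = 1 for every x in
m. (The published text makes this assertion inside a proof, for Artinian local algebras over the
Witt ring of a perfect field of characteristic p; only p ∈ m and the nilpotence of m are used.) -/
theorem result
    (R : Type u) [CommRing R] [IsLocalRing R] [IsArtinianRing R]
    (p : ℕ) (hp : p.Prime) (hpm : (p : R) ∈ IsLocalRing.maximalIdeal R) :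
    ∃ n : ℕ, ∀ x ∈ IsLocalRing.maximalIdeal R, (1 + x) ^ (p ^ n) = 1 := by
  have hnil : IsNilpotent (IsLocalRing.maximalIdeal R) := by
    have h := IsArtinianRing.isNilpotent_jacobson_bot (R := R)
    rwa [IsLocalRing.jacobson_eq_maximalIdeal _ bot_ne_top] at h
  obtain ⟨N, hN⟩ := hnil
  have key : ∀ n : ℕ, ∀ x ∈ IsLocalRing.maximalIdeal R,
      (1 + x) ^ (p ^ n) - 1 ∈ IsLocalRing.maximalIdeal R ^ (n + 1) := by
    intro n
    induction n with
    | zero => intro x hx; simpa using hx
    | succ n ih =>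
      intro x hx
      have hy := ih x hx
      have hy1 : (1 + x) ^ (p ^ n) - 1 ∈ IsLocalRing.maximalIdeal R :=
        Ideal.pow_le_self (by omega) hy
      have := one_add_pow_prime_sub_one_mem (IsLocalRing.maximalIdeal R) p hpm (n + 1) _ hy1 hy
      have he : (1 + ((1 + x) ^ (p ^ n) - 1)) ^ p = (1 + x) ^ (p ^ (n + 1)) := by
        rw [pow_succ, pow_mul]; congr 1; ring
      rwa [he] at this
  refine ⟨N, fun x hx => ?_⟩
  have h1 := key N x hx
  have h2 : IsLocalRing.maximalIdeal R ^ (N + 1) ≤ IsLocalRing.maximalIdeal R ^ N :=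
    Ideal.pow_le_pow_right (by omega)
  have h3 := h2 h1
  rw [hN] at h3
  have h4 : (1 + x) ^ (p ^ N) - 1 = 0 := by simpa using h3
  exact sub_eq_zero.mp h4

end Groth.Agent.S15495
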