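import Groth.Statements.S15496
import Mathlib

set_option autoImplicit false
universe u
open CAlg

namespace Groth.Agent.S15496

/-- Let R be a local ring with maximal ideal m, p a prime number lying in m, and suppose the residue
field of R is perfect, i.e. every element is a p-th power; let n ≥ 0. Then every unit of R is the
product of a p^n-th power of a unit and an element of 1 + m, and an element of 1 + m which is a
p^n-th power of a unit is a p^n-th power of an element of 1 + m; so the inclusion of 1 + m in the
unit group induces a bijection between (1 + m)/(1 + m)^(p^n) and Rˣ/(Rˣ)^(p^n). (The published text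
derives this equality of quotients, inside a proof, from perfectness of the base field K for all
Artinian local algebras over its Witt ring, whose residue fields need not be perfect; this row
assumes the residue field of R perfect of characteristic p, which the equality needs, and does not
assume R Artinian.) -/
theorem result
    (R : Type u) [CommRing R] [IsLocalRing R] (p : ℕ) (hp : p.Prime)
    (hpm : (p : R) ∈ IsLocalRing.maximalIdeal R)
    (hperf : ∀ a : IsLocalRing.ResidueField R, ∃ b : IsLocalRing.ResidueField R, b ^ p = a)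
    (n : ℕ) :
    (∀ u : Rˣ, ∃ v : Rˣ, ∃ x ∈ IsLocalRing.maximalIdeal R, (u : R) = (v : R) ^ (p ^ n) * (1 + x)) ∧
    (∀ x ∈ IsLocalRing.maximalIdeal R, (∃ v : Rˣ, (v : R) ^ (p ^ n) = 1 + x) →
      ∃ y ∈ IsLocalRing.maximalIdeal R, (1 + y) ^ (p ^ n) = 1 + x) := by
  have hperfn : ∀ (m : ℕ) (a : IsLocalRing.ResidueField R),
      ∃ b : IsLocalRing.ResidueField R, b ^ (p ^ m) = a := by
    intro m
    induction m with
    | zero => intro a; exact ⟨a, by simp⟩
    | succ m ih =>
      intro a
      obtain ⟨c, hc⟩ := hperf a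
      obtain ⟨b, hb⟩ := ih c
      exact ⟨b, by rw [pow_succ, pow_mul, hb, hc]⟩
  have hp0 : ((p : ℕ) : IsLocalRing.ResidueField R) = 0 := by
    have := (IsLocalRing.residue_eq_zero_iff (p : R)).2 hpm
    rwa [map_natCast] at this
  have hN : p ^ n ≠ 0 := (pow_pos hp.pos n).ne'
  haveI : Fact p.Prime := ⟨hp⟩
  haveI : CharP (IsLocalRing.ResidueField R) p := (CharP.charP_iff_prime_eq_zero hp).2 hp0
  constructor
  · intro u
    obtain ⟨b, hb⟩ := hperfn n (IsLocalRing.residue R u)
    obtain ⟨v₀, hv₀⟩ := IsLocalRing.residue_surjective b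
    have hb0 : b ≠ 0 := by
      rintro rfl
      rw [zero_pow hN] at hb
      exact (IsLocalRing.residue_ne_zero_iff_isUnit (u : R)).2 u.isUnit hb.symm
    have hv₀u : IsUnit v₀ := (IsLocalRing.residue_ne_zero_iff_isUnit v₀).1 (by rw [hv₀]; exact hb0)
    obtain ⟨v, rfl⟩ := hv₀u
    refine ⟨v, (u : R) * ((v⁻¹ : Rˣ) : R) ^ (p ^ n) - 1, ?_, ?_⟩
    · have h1 : IsLocalRing.residue R (v : R) * IsLocalRing.residue R ((v⁻¹ : Rˣ) : R) = 1 := by
        rw [← map_mul, Units.mul_inv, map_one]
      rw [← IsLocalRing.residue_eq_zero_iff, map_sub, map_mul, map_pow, map_one, ← hb, ← hv₀,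
        ← mul_pow, h1, one_pow, sub_self]
    · have : (v : R) ^ (p ^ n) * ((v⁻¹ : Rˣ) : R) ^ (p ^ n) = 1 := by
        rw [← mul_pow, Units.mul_inv, one_pow]
      linear_combination (-(u : R)) * this
  · rintro x hx ⟨v, hv⟩
    have h1 : IsLocalRing.residue R (v : R) ^ (p ^ n) = 1 := by
      rw [← map_pow, hv, map_add, map_one, (IsLocalRing.residue_eq_zero_iff x).2 hx, add_zero]
    have h2 : (IsLocalRing.residue R (v : R) - 1) ^ (p ^ n) = 0 := by
      rw [sub_pow_char_pow, h1, one_pow, sub_self]
    have h3 : IsLocalRing.residue R (v : R) - 1 = 0 := (pow_eq_zero_iff hN).1 h2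
    refine ⟨(v : R) - 1, ?_, ?_⟩
    · rw [← IsLocalRing.residue_eq_zero_iff, map_sub, map_one]; exact h3
    · rw [add_sub_cancel, hv]

end Groth.Agent.S15496
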