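import Groth.Statements.S15498
import Mathlib

set_option autoImplicit false
open NewtonPoly

namespace Groth.Agent.S15498

/-- Let m, n ≥ 1 be coprime, h = m + n, δ the segment from (0,0) to (h,m) (the isoclinic Newton polygon
of slope m/h) and ρ the ordinary polygon with n slopes 0 followed with m slopes 1, so ρ(i) = max(0,
i − n). The integer points (i,j), 0 ≤ i ≤ h, on or above ρ and strictly below δ — that is max(0, i −
n) ≤ j and j·h < i·m — are (m−1)(n−1)/2 + (m+n−1) in number (which equals mn − r for r =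
(m−1)(n−1)/2). (The published text works under m ≥ n > 0 coprime; the inequality m ≥ n is not used
and not assumed.) -/
theorem result
    (m n : ℕ) (hm : 0 < m) (hn : 0 < n) (hmn : Nat.Coprime m n) :
    ((Finset.range (m + n + 1) ×ˢ Finset.range (m + 1)).filter
      (fun ij : ℕ × ℕ => ij.1 ≤ ij.2 + n ∧ ij.2 * (m + n) < ij.1 * m)).card
      = (m - 1) * (n - 1) / 2 + (m + n - 1) := by
  classical
  set R := Finset.range (n+1) ×ˢ Finset.range (m+1) with hR
  set S1 := R.filter (fun p : ℕ × ℕ => p.2 * n < p.1 * m) with hS1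
  set S2 := R.filter (fun p : ℕ × ℕ => p.1 * m < p.2 * n) with hS2
  set D := R.filter (fun p : ℕ × ℕ => p.2 * n = p.1 * m) with hD
  have h1 : ((Finset.range (m + n + 1) ×ˢ Finset.range (m + 1)).filter
      (fun ij : ℕ × ℕ => ij.1 ≤ ij.2 + n ∧ ij.2 * (m + n) < ij.1 * m)).card = S1.card := by
    apply Finset.card_nbij' (fun p => (p.1 - p.2, p.2)) (fun p => (p.1 + p.2, p.2))
    · rintro ⟨i, j⟩ hp
      simp only [Finset.coe_filter, Finset.mem_product, Finset.mem_range, Set.mem_ofPred_eq] at hp
      obtain ⟨⟨hi, hj⟩, hij, hlt⟩ := hp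
      have hji : j ≤ i := by
        by_contra hc
        push Not at hc
        have : i * m ≤ j * (m + n) := by nlinarith
        omega
      simp only [hS1, hR, Finset.coe_filter, Finset.mem_product, Finset.mem_range,
        Set.mem_ofPred_eq]
      refine ⟨⟨by omega, hj⟩, ?_⟩
      obtain ⟨a, rfl⟩ := Nat.exists_eq_add_of_le hji
      simp only [Nat.add_sub_cancel_left]
      nlinarith
    · rintro ⟨a, j⟩ hp
      simp only [hS1, hR, Finset.coe_filter, Finset.mem_product, Finset.mem_range,
        Set.mem_ofPred_eq] at hp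
      obtain ⟨⟨ha, hj⟩, hlt⟩ := hp
      simp only [Finset.coe_filter, Finset.mem_product, Finset.mem_range, Set.mem_ofPred_eq]
      have hjm : j < m := by
        by_contra hc
        push Not at hc
        have h1 : a * m ≤ n * m := Nat.mul_le_mul_right _ (by omega)
        have h2 : m * n ≤ j * n := Nat.mul_le_mul_right _ hc
        nlinarith
      refine ⟨⟨by omega, hj⟩, by omega, ?_⟩
      nlinarith
    · rintro ⟨i, j⟩ hp
      simp only [Finset.coe_filter, Finset.mem_product, Finset.mem_range, Set.mem_ofPred_eq] at hp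
      obtain ⟨⟨hi, hj⟩, hij, hlt⟩ := hp
      have hji : j ≤ i := by
        by_contra hc
        push Not at hc
        have : i * m ≤ j * (m + n) := by nlinarith
        omega
      simp only [Prod.mk.injEq, and_true]
      omega
    · rintro ⟨a, j⟩ hp
      simp
  have h2 : S2.card = S1.card := by
    apply Finset.card_nbij' (fun p => (n - p.1, m - p.2)) (fun p => (n - p.1, m - p.2))
    · rintro ⟨a, j⟩ hp
      simp only [hS1, hS2, hR, Finset.coe_filter, Finset.mem_product, Finset.mem_range,
        Set.mem_ofPred_eq] at hp ⊢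
      obtain ⟨⟨ha, hj⟩, hlt⟩ := hp
      refine ⟨⟨by omega, by omega⟩, ?_⟩
      obtain ⟨a', ha'⟩ := Nat.exists_eq_add_of_le (Nat.lt_succ_iff.mp ha)
      obtain ⟨j', hj'⟩ := Nat.exists_eq_add_of_le (Nat.lt_succ_iff.mp hj)
      have e1 : n - a = a' := by omega
      have e2 : m - j = j' := by omega
      rw [e1, e2]
      subst ha' hj'
      nlinarith
    · rintro ⟨a, j⟩ hp
      simp only [hS1, hS2, hR, Finset.coe_filter, Finset.mem_product, Finset.mem_range,
        Set.mem_ofPred_eq] at hp ⊢
      obtain ⟨⟨ha, hj⟩, hlt⟩ := hp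
      refine ⟨⟨by omega, by omega⟩, ?_⟩
      obtain ⟨a', ha'⟩ := Nat.exists_eq_add_of_le (Nat.lt_succ_iff.mp ha)
      obtain ⟨j', hj'⟩ := Nat.exists_eq_add_of_le (Nat.lt_succ_iff.mp hj)
      have e1 : n - a = a' := by omega
      have e2 : m - j = j' := by omega
      rw [e1, e2]
      subst ha' hj'
      nlinarith
    · rintro ⟨a, j⟩ hp
      simp only [hS2, hR, Finset.coe_filter, Finset.mem_product, Finset.mem_range,
        Set.mem_ofPred_eq] at hp
      obtain ⟨⟨ha, hj⟩, hlt⟩ := hp
      simp only [Prod.mk.injEq]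
      omega
    · rintro ⟨a, j⟩ hp
      simp only [hS1, hR, Finset.coe_filter, Finset.mem_product, Finset.mem_range,
        Set.mem_ofPred_eq] at hp
      obtain ⟨⟨ha, hj⟩, hlt⟩ := hp
      simp only [Prod.mk.injEq]
      omega
  have h3 : D = {(0,0), (n,m)} := by
    ext ⟨a, j⟩
    simp only [hD, hR, Finset.mem_filter, Finset.mem_product, Finset.mem_range,
      Finset.mem_insert, Finset.mem_singleton, Prod.mk.injEq]
    constructor
    · rintro ⟨⟨ha, hj⟩, he⟩
      have hdvd : n ∣ a := by
        have : n ∣ a * m := ⟨j, by rw [← he]; ring⟩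
        exact (Nat.Coprime.dvd_mul_right hmn.symm).mp this
      obtain ⟨k, rfl⟩ := hdvd
      have hk : k = 0 ∨ k = 1 := by
        have : n * k < n * 2 := by omega
        have := Nat.lt_of_mul_lt_mul_left this
        omega
      rcases hk with rfl | rfl
      · left
        simp only [mul_zero, zero_mul, mul_eq_zero] at he
        omega
      · right
        simp only [mul_one] at he ⊢
        refine ⟨trivial, ?_⟩
        have : j * n = m * n := by rw [he]; ring
        exact Nat.eq_of_mul_eq_mul_right hn this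
    · rintro (⟨rfl, rfl⟩ | ⟨rfl, rfl⟩)
      · simp
      · simp [mul_comm]
  have h3' : D.card = 2 := by
    rw [h3, Finset.card_pair]
    simp only [ne_eq, Prod.mk.injEq, not_and]
    omega
  have h4 : R.card = S1.card + S2.card + D.card := by
    rw [hS1, hS2, hD, Finset.card_filter, Finset.card_filter, Finset.card_filter,
      ← Finset.sum_add_distrib, ← Finset.sum_add_distrib, Finset.card_eq_sum_ones]
    apply Finset.sum_congr rfl
    rintro ⟨a, j⟩ _
    rcases lt_trichotomy (j * n) (a * m) with h | h | h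
    · simp [h, h.ne, h.not_gt]
    · simp [h]
    · simp [h, h.ne', h.not_gt]
  have h5 : R.card = (n+1)*(m+1) := by
    simp [hR]
  rw [h1]
  obtain ⟨m', rfl⟩ := Nat.exists_eq_add_of_lt hm
  obtain ⟨n', rfl⟩ := Nat.exists_eq_add_of_lt hn
  simp only [zero_add, Nat.add_sub_cancel] at *
  have : (n' + 1 + 1) * (m' + 1 + 1) = n' * m' + 2 * n' + 2 * m' + 4 := by ring
  have e2 : m' * n' = n' * m' := mul_comm _ _
  have : m' + 1 + (n' + 1) - 1 = m' + n' + 1 := by omega
  omega

end Groth.Agent.S15498
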