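import Groth.Statements.S15504
import Mathlib

set_option autoImplicit false
universe u v
open FrobAlg

namespace Groth.Agent.S15504

section Fitting
variable {R : Type u} [CommRing R] {M : Type v} [AddCommGroup M] [Module R M]
  (e : R ≃+* R) (φ : M →ₛₗ[(e.symm : R →+* R)] M)

theorem iter_smul (n : ℕ) (a : R) (x : M) :
    (⇑φ)^[n] (a • x) = ((⇑e.symm)^[n] a) • (⇑φ)^[n] x := by
  induction n generalizing a x with
  | zero => simp
  | succ n ih =>
    rw [Function.iterate_succ_apply, Function.iterate_succ_apply, Function.iterate_succ_apply,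
      φ.map_smulₛₗ, ih]
    rfl

theorem iter_add (n : ℕ) (x y : M) : (⇑φ)^[n] (x + y) = (⇑φ)^[n] x + (⇑φ)^[n] y := by
  induction n generalizing x y with
  | zero => simp
  | succ n ih =>
    rw [Function.iterate_succ_apply, Function.iterate_succ_apply, Function.iterate_succ_apply,
      map_add, ih]

theorem iter_zero (n : ℕ) : (⇑φ)^[n] (0 : M) = 0 := by
  induction n with
  | zero => simp
  | succ n ih => rw [Function.iterate_succ_apply, map_zero, ih]

theorem iter_sub (n : ℕ) (x y : M) : (⇑φ)^[n] (x - y) = (⇑φ)^[n] x - (⇑φ)^[n] y := by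
  induction n generalizing x y with
  | zero => simp
  | succ n ih =>
    rw [Function.iterate_succ_apply, Function.iterate_succ_apply, Function.iterate_succ_apply,
      map_sub, ih]

theorem symm_iter_iter (n : ℕ) (a : R) : (⇑e.symm)^[n] ((⇑e)^[n] a) = a := by
  induction n generalizing a with
  | zero => simp
  | succ n ih =>
    rw [Function.iterate_succ_apply', Function.iterate_succ_apply, ih]
    simp

/-- kernel of the `n`-th iterate -/
def K (n : ℕ) : Submodule R M where
  carrier := {x | (⇑φ)^[n] x = 0}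
  add_mem' := by
    intro x y hx hy
    simp only [Set.mem_ofPred_eq] at hx hy ⊢
    rw [iter_add, hx, hy, add_zero]
  zero_mem' := iter_zero e φ n
  smul_mem' := by
    intro a x hx
    simp only [Set.mem_ofPred_eq] at hx ⊢
    rw [iter_smul, hx, smul_zero]

/-- image of the `n`-th iterate -/
def I (n : ℕ) : Submodule R M where
  carrier := Set.range (⇑φ)^[n]
  add_mem' := by
    rintro _ _ ⟨x, rfl⟩ ⟨y, rfl⟩
    exact ⟨x + y, iter_add e φ n x y⟩
  zero_mem' := ⟨0, iter_zero e φ n⟩
  smul_mem' := by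
    rintro a _ ⟨x, rfl⟩
    refine ⟨((⇑e)^[n] a) • x, ?_⟩
    rw [iter_smul, symm_iter_iter]

theorem mem_K (n : ℕ) (x : M) : x ∈ K e φ n ↔ (⇑φ)^[n] x = 0 := Iff.rfl
theorem mem_I (n : ℕ) (x : M) : x ∈ I e φ n ↔ ∃ y, (⇑φ)^[n] y = x := Iff.rfl

theorem K_mono : Monotone (K e φ) := by
  apply monotone_nat_of_le_succ
  intro n x hx
  rw [mem_K] at hx ⊢
  rw [Function.iterate_succ_apply', hx, map_zero]

theorem I_anti : Antitone (I e φ) := by
  apply antitone_nat_of_succ_le
  rintro n x ⟨y, rfl⟩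
  exact ⟨φ y, by rw [← Function.iterate_succ_apply]⟩

theorem fitting [IsNoetherian R M] [IsArtinian R M] :
    ∃ Ms Mn : Submodule R M, IsCompl Ms Mn ∧
      Set.MapsTo φ Ms Ms ∧ Set.MapsTo φ Mn Mn ∧ Set.BijOn φ Ms Ms ∧
      ∃ r : ℕ, ∀ x ∈ Mn, (⇑φ)^[r] x = 0 := by
  obtain ⟨n₁, h₁⟩ := monotone_stabilizes_iff_noetherian.mpr ‹IsNoetherian R M›
    ⟨K e φ, K_mono e φ⟩
  obtain ⟨n₂, h₂⟩ := IsArtinian.monotone_stabilizes (R := R) (M := M)
    ⟨fun n => OrderDual.toDual (I e φ n), fun a b hab => I_anti e φ hab⟩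
  simp only [OrderHom.coe_mk] at h₁ h₂
  set n := max (max n₁ n₂) 1 with hn
  have hK : ∀ m, n ≤ m → K e φ m = K e φ n := by
    intro m hm
    rw [← h₁ m (by omega), ← h₁ n (by omega)]
  have hI : ∀ m, n ≤ m → I e φ m = I e φ n := by
    intro m hm
    have e1 := h₂ m (by omega)
    have e2 := h₂ n (by omega)
    exact (OrderDual.toDual.injective e1).symm.trans (OrderDual.toDual.injective e2)
  have hdisj : ∀ x, x ∈ I e φ n → x ∈ K e φ n → x = 0 := by
    rintro x ⟨y, rfl⟩ hx
    rw [mem_K, ← Function.iterate_add_apply] at hx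
    have : y ∈ K e φ (n + n) := hx
    rw [hK (n + n) (by omega)] at this
    exact this
  refine ⟨I e φ n, K e φ n, ⟨?_, ?_⟩, ?_, ?_, ⟨?_, ?_, ?_⟩, n, fun x hx => hx⟩
  · rw [Submodule.disjoint_def]
    exact hdisj
  · rw [codisjoint_iff, eq_top_iff]
    intro x _
    have h1 : (⇑φ)^[n] x ∈ I e φ n := ⟨x, rfl⟩
    rw [← hI (n + n) (by omega)] at h1
    obtain ⟨y, hy⟩ := h1
    rw [Function.iterate_add_apply] at hy
    have h2 : x - (⇑φ)^[n] y ∈ K e φ n := by
      rw [mem_K, iter_sub, hy, sub_self]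
    have : x = (⇑φ)^[n] y + (x - (⇑φ)^[n] y) := by abel
    rw [this]
    exact Submodule.add_mem_sup ⟨y, rfl⟩ h2
  · rintro _ ⟨y, rfl⟩
    exact ⟨φ y, by rw [← Function.iterate_succ_apply, Function.iterate_succ_apply']⟩
  · intro x hx
    change (⇑φ)^[n] (φ x) = 0
    rw [← Function.iterate_succ_apply, Function.iterate_succ_apply']
    have : (⇑φ)^[n] x = 0 := hx
    rw [this, map_zero]
  · rintro _ ⟨y, rfl⟩
    exact ⟨φ y, by rw [← Function.iterate_succ_apply, Function.iterate_succ_apply']⟩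
  · intro x hx x' hx' hxx'
    have h1 : x - x' ∈ I e φ n := (I e φ n).sub_mem hx hx'
    have h2 : x - x' ∈ K e φ 1 := by
      rw [mem_K, Function.iterate_one, map_sub, hxx', sub_self]
    have h3 : x - x' ∈ K e φ n := K_mono e φ (by omega : 1 ≤ n) h2
    exact sub_eq_zero.mp (hdisj _ h1 h3)
  · intro y hy
    have : y ∈ I e φ (n + 1) := by rw [hI (n + 1) (by omega)]; exact hy
    obtain ⟨z, hz⟩ := this
    rw [Function.iterate_succ_apply'] at hz
    exact ⟨(⇑φ)^[n] z, ⟨z, rfl⟩, hz⟩

end Fitting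

section Art
variable (R : Type u) [CommRing R] [IsDomain R] [IsPrincipalIdealRing R] [Ring.KrullDimLE 1 R]
  (M : Type v) [AddCommGroup M] [Module R M]

theorem isArtinian_of_fg_torsion [Module.Finite R M] (hM : Module.IsTorsion R M) :
    IsArtinian R M := by
  classical
  obtain ⟨ι, _, p, hp, ex, ⟨f⟩⟩ := Module.equiv_directSum_of_isTorsion hM
  have h1 : ∀ i, IsArtinian R (R ⧸ Submodule.span R {p i ^ ex i}) := by
    intro i
    have hne : p i ^ ex i ≠ 0 := pow_ne_zero _ (hp i).ne_zero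
    have := isFiniteLength_quotient_span_singleton (R := R) (x := p i ^ ex i)
      (mem_nonZeroDivisors_of_ne_zero hne)
    exact (isFiniteLength_iff_isNoetherian_isArtinian.mp this).2
  have h2 : IsArtinian R (∀ i, R ⧸ Submodule.span R {p i ^ ex i}) := inferInstance
  have h3 : IsArtinian R (DirectSum ι fun i => R ⧸ Submodule.span R {p i ^ ex i}) :=
    isArtinian_of_linearEquiv (DirectSum.linearEquivFunOnFintype R ι _).symm
  exact isArtinian_of_linearEquiv f.symm

end Art

theorem main (p : ℕ) [Fact p.Prime]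
    (k : Type u) [Field k] [CharP k p] [IsAlgClosed k]
    (M : Type v) [AddCommGroup M] [Module (WittVector p k) M] [Module.Finite (WittVector p k) M]
    (hM : Module.IsTorsion (WittVector p k) M)
    (φ : M →ₛₗ[((WittVector.frobeniusEquiv p k).symm : WittVector p k →+* WittVector p k)] M) :
    ∃ Ms Mn : Submodule (WittVector p k) M, IsCompl Ms Mn ∧
      Set.MapsTo φ Ms Ms ∧ Set.MapsTo φ Mn Mn ∧ Set.BijOn φ Ms Ms ∧
      ∃ r : ℕ, ∀ x ∈ Mn, (⇑φ)^[r] x = 0 := by
  have hart : IsArtinian (WittVector p k) M := isArtinian_of_fg_torsion _ _ hM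
  have hnoe : IsNoetherian (WittVector p k) M := inferInstance
  exact fitting (WittVector.frobeniusEquiv p k) φ

/-- Let k be an algebraically closed field of characteristic p, W = W(k) the ring of p-typical Witt
vectors, M a finitely generated torsion W-module and φ a p⁻¹-linear endomorphism of M (additive,
with φ(a·m) = σ⁻¹(a)·φ(m) for the Frobenius automorphism σ of W). Then M = M_s ⊕ M_n for two
φ-stable submodules, with φ bijective on M_s and nilpotent on M_n (one iterate of φ kills M_n). -/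
theorem result (p : ℕ) [Fact p.Prime]
    (k : Type u) [Field k] [CharP k p] [IsAlgClosed k]
    (M : Type v) [AddCommGroup M] [Module (WittVector p k) M] [Module.Finite (WittVector p k) M]
    (hM : Module.IsTorsion (WittVector p k) M)
    (φ : M →ₛₗ[((WittVector.frobeniusEquiv p k).symm : WittVector p k →+* WittVector p k)] M) :
    ∃ Ms Mn : Submodule (WittVector p k) M, IsCompl Ms Mn ∧
      Set.MapsTo φ Ms Ms ∧ Set.MapsTo φ Mn Mn ∧ Set.BijOn φ Ms Ms ∧
      ∃ r : ℕ, ∀ x ∈ Mn, (⇑φ)^[r] x = 0 := by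
  exact main p k M hM φ

end Groth.Agent.S15504
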