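import Groth.Statements.S15506
import Mathlib

set_option autoImplicit false
universe u
open CategoryTheory AlgebraicGeometry
open EtBase

namespace Groth.Agent.S15506

theorem mem_range_of_isIntegral (K Ω : Type u) [Field K] [Field Ω] [IsAlgClosed K] [Algebra K Ω]
    (x : Ω) (hx : IsIntegral K x) : x ∈ (algebraMap K Ω).range := by
  apply minpoly.mem_range_of_degree_eq_one K x
  exact IsAlgClosed.degree_eq_one_of_irreducible K (minpoly.irreducible hx)

theorem alg_part (k K Ω B : Type u) [Field k] [Field K] [Field Ω] [CommRing B] [Algebra k K]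
    [IsAlgClosed K] [Algebra K Ω] [Algebra k Ω] [IsScalarTower k K Ω]
    (ψ : k →+* B) (φ : B →+* Ω) (hψ : ψ.Etale) (hcomp : φ.comp ψ = algebraMap k Ω) :
    ∃ φ' : B →+* K, (algebraMap K Ω).comp φ' = φ := by
  algebraize [ψ]
  have hfin : Module.Finite k B := Algebra.FormallyUnramified.finite_of_free k B
  have hmem : ∀ b : B, φ b ∈ (algebraMap K Ω).range := by
    intro b
    apply mem_range_of_isIntegral
    have hint : IsIntegral k b := Algebra.IsIntegral.isIntegral b
    have hint2 : IsIntegral k (φ b) := by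
      obtain ⟨p, hp, hpb⟩ := hint
      refine ⟨p, hp, ?_⟩
      have : (algebraMap k Ω) = φ.comp (algebraMap k B) := hcomp.symm
      rw [this, ← Polynomial.hom_eval₂, hpb, map_zero]
    exact hint2.tower_top
  let e : K ≃+* (algebraMap K Ω).range :=
    RingEquiv.ofBijective (algebraMap K Ω).rangeRestrict
      ⟨fun a b hab => (algebraMap K Ω).injective (congrArg Subtype.val hab),
        (algebraMap K Ω).rangeRestrict_surjective⟩
  refine ⟨e.symm.toRingHom.comp (φ.codRestrict (algebraMap K Ω).range hmem), ?_⟩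
  ext b
  simp only [RingHom.comp_apply, RingEquiv.toRingHom_eq_coe, RingHom.coe_coe]
  have : ((algebraMap K Ω).rangeRestrict (e.symm (φ.codRestrict (algebraMap K Ω).range hmem b)) :
      (algebraMap K Ω).range) = φ.codRestrict (algebraMap K Ω).range hmem b := e.apply_symm_apply _
  have h2 := congrArg Subtype.val this
  simpa using h2

theorem part1 (K Ω : Type u) [Field K] [Field Ω] [Algebra K Ω] :
    Epi (Spec.map (CommRingCat.ofHom (algebraMap K Ω))) := by
  have hflat : Flat (Spec.map (CommRingCat.ofHom (algebraMap K Ω))) := by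
    rw [HasRingHomProperty.Spec_iff (P := @Flat)]
    simp only [CommRingCat.hom_ofHom]
    rw [RingHom.flat_algebraMap_iff]
    infer_instance
  have hsurj : Surjective (Spec.map (CommRingCat.ofHom (algebraMap K Ω))) := by
    constructor
    intro y
    refine ⟨IsLocalRing.closedPoint Ω, ?_⟩
    exact Subsingleton.elim _ _
  exact Flat.epi_of_flat_of_surjective _

theorem part2
    (k K Ω : Type u) [Field k] [Field K] [Field Ω] [Algebra k K] [IsAlgClosed K] [Algebra.IsAlgebraic k K]
    [Algebra K Ω] [Algebra k Ω] [IsScalarTower k K Ω]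
    (Z : Scheme.{u}) (f : Z ⟶ Spec (CommRingCat.of k)) [AlgebraicGeometry.Etale f]
    (h : Spec (CommRingCat.of Ω) ⟶ Z) (hh : h ≫ f = Spec.map (CommRingCat.ofHom (algebraMap k Ω))) :
    ∃ g : Spec (CommRingCat.of K) ⟶ Z, g ≫ f = Spec.map (CommRingCat.ofHom (algebraMap k K)) ∧
      Spec.map (CommRingCat.ofHom (algebraMap K Ω)) ≫ g = h := by
  let z := h (IsLocalRing.closedPoint Ω)
  obtain ⟨U, hU, hzU⟩ : ∃ U : Z.Opens, IsAffineOpen U ∧ z ∈ U := by
    obtain ⟨_, ⟨U, hU, rfl⟩, hz, -⟩ :=
      Z.isBasis_affineOpens.exists_subset_of_mem_open (Set.mem_univ z) isOpen_univ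
    exact ⟨U, hU, hz⟩
  let j : Spec Γ(Z, U) ⟶ Z := hU.fromSpec
  have hrange : Set.range h ⊆ Set.range j := by
    rw [hU.range_fromSpec]
    rintro _ ⟨y, rfl⟩
    have : y = IsLocalRing.closedPoint Ω := Subsingleton.elim _ _
    rw [this]; exact hzU
  let h' := IsOpenImmersion.lift j h hrange
  have hh' : h' ≫ j = h := IsOpenImmersion.lift_fac j h hrange
  obtain ⟨φ, hφ⟩ : ∃ φ : Γ(Z, U) ⟶ CommRingCat.of Ω, Spec.map φ = h' :=
    ⟨Spec.preimage h', Spec.map_preimage h'⟩
  obtain ⟨ψ, hψ⟩ : ∃ ψ : CommRingCat.of k ⟶ Γ(Z, U), Spec.map ψ = j ≫ f :=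
    ⟨Spec.preimage _, Spec.map_preimage _⟩
  have hψet : ψ.hom.Etale := by
    have : Etale (j ≫ f) := inferInstance
    rw [← hψ] at this
    exact (HasRingHomProperty.Spec_iff (P := @Etale)).mp this
  have hcomp : ψ ≫ φ = CommRingCat.ofHom (algebraMap k Ω) := by
    apply Spec.map_injective
    rw [Spec.map_comp, hφ, hψ, ← Category.assoc, hh', hh]
  obtain ⟨φ', hφ'⟩ := alg_part k K Ω Γ(Z, U) ψ.hom φ.hom hψet (by
    have := congrArg CommRingCat.Hom.hom hcomp
    simpa using this)
  refine ⟨Spec.map (CommRingCat.ofHom φ') ≫ j, ?_, ?_⟩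
  · rw [Category.assoc, ← hψ, ← Spec.map_comp]
    congr 1
    ext x
    apply (algebraMap K Ω).injective
    have h1 := congrArg (fun t => t (ψ.hom x)) hφ'.symm
    have h2 := congrArg (fun t : CommRingCat.of k ⟶ CommRingCat.of Ω => t.hom x) hcomp
    simp only [RingHom.comp_apply] at h1
    simp only [CommRingCat.hom_comp, RingHom.comp_apply, CommRingCat.hom_ofHom] at h2 ⊢
    rw [← h1, h2, ← IsScalarTower.algebraMap_apply]
  · rw [← Category.assoc, ← Spec.map_comp, ← hh', ← hφ]
    congr 2
    ext x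
    have h1 := congrArg (fun t => t x) hφ'
    simpa using h1

theorem main
    (k K Ω : Type u) [Field k] [Field K] [Field Ω] [Algebra k K] [IsAlgClosed K] [Algebra.IsAlgebraic k K]
    [Algebra K Ω] [Algebra k Ω] [IsScalarTower k K Ω]
    (Z : Scheme.{u}) (f : Z ⟶ Spec (CommRingCat.of k)) [AlgebraicGeometry.Etale f] :
    (∀ g₁ g₂ : Spec (CommRingCat.of K) ⟶ Z,
        g₁ ≫ f = Spec.map (CommRingCat.ofHom (algebraMap k K)) →
        g₂ ≫ f = Spec.map (CommRingCat.ofHom (algebraMap k K)) →
        Spec.map (CommRingCat.ofHom (algebraMap K Ω)) ≫ g₁ = Spec.map (CommRingCat.ofHom (algebraMap K Ω)) ≫ g₂ →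
        g₁ = g₂) ∧
    (∀ h : Spec (CommRingCat.of Ω) ⟶ Z, h ≫ f = Spec.map (CommRingCat.ofHom (algebraMap k Ω)) →
        ∃ g : Spec (CommRingCat.of K) ⟶ Z, g ≫ f = Spec.map (CommRingCat.ofHom (algebraMap k K)) ∧
          Spec.map (CommRingCat.ofHom (algebraMap K Ω)) ≫ g = h) := by
  constructor
  · intro g₁ g₂ _ _ h12
    have := part1 K Ω
    exact (cancel_epi _).mp h12
  · intro h hh
    exact part2 k K Ω Z f h hh

/-- Let k be a field, K an algebraic closure of k (an algebraically closed field algebraic over k), Ω a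
field containing K, and Z a scheme étale over Spec k. Composition with Spec Ω → Spec K is a
bijection from the k-morphisms Spec K → Z onto the k-morphisms Spec Ω → Z: two k-morphisms Spec K →
Z that agree on Spec Ω are equal, and every k-morphism Spec Ω → Z factors through Spec K. (The
published statement is the case where k has characteristic zero with a chosen embedding of its
algebraic closure into the complex numbers, Ω = ℂ, and Z is the scheme of isomorphisms between two
K3 surfaces over k, known there to be étale over k; this row states the fact about an arbitrary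
étale k-scheme that the argument establishes.) -/
theorem result
    (k K Ω : Type u) [Field k] [Field K] [Field Ω] [Algebra k K] [IsAlgClosed K] [Algebra.IsAlgebraic k K]
    [Algebra K Ω] [Algebra k Ω] [IsScalarTower k K Ω]
    (Z : Scheme.{u}) (f : Z ⟶ Spec (CommRingCat.of k)) [AlgebraicGeometry.Etale f] :
    (∀ g₁ g₂ : Spec (CommRingCat.of K) ⟶ Z,
        g₁ ≫ f = Spec.map (CommRingCat.ofHom (algebraMap k K)) →
        g₂ ≫ f = Spec.map (CommRingCat.ofHom (algebraMap k K)) →
        Spec.map (CommRingCat.ofHom (algebraMap K Ω)) ≫ g₁ = Spec.map (CommRingCat.ofHom (algebraMap K Ω)) ≫ g₂ →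
        g₁ = g₂) ∧
    (∀ h : Spec (CommRingCat.of Ω) ⟶ Z, h ≫ f = Spec.map (CommRingCat.ofHom (algebraMap k Ω)) →
        ∃ g : Spec (CommRingCat.of K) ⟶ Z, g ≫ f = Spec.map (CommRingCat.ofHom (algebraMap k K)) ∧
          Spec.map (CommRingCat.ofHom (algebraMap K Ω)) ≫ g = h) := by
  exact main k K Ω Z f

end Groth.Agent.S15506
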