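import Groth.Statements.S15524
import Mathlib

set_option autoImplicit false
open Finset
open Zeta

namespace Groth.Agent.S15524

open Finset

theorem vdm_bound {m : ℕ} (w c : Fin m → ℂ) (hw : Function.Injective w) (hc : ∀ j, c j ≠ 0) (B : ℝ)
    (hB : ∀ N : ℕ, 1 ≤ N → ‖∑ j, c j * w j ^ N‖ ≤ B) (j : Fin m) : ‖w j‖ ≤ 1 := by
  classical
  have hdet : (Matrix.vandermonde w).det ≠ 0 := Matrix.det_vandermonde_ne_zero_iff.mpr hw
  have hVinv : Matrix.vandermonde w * (Matrix.vandermonde w)⁻¹ = 1 :=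
    Matrix.mul_nonsing_inv _ (isUnit_iff_ne_zero.mpr hdet)
  have key : ∀ N : ℕ, c j * w j ^ N =
      ∑ t : Fin m, (∑ i, c i * w i ^ (N + (t : ℕ))) * (Matrix.vandermonde w)⁻¹ t j := by
    intro N
    have h1 : (fun i => c i * w i ^ N) = Matrix.vecMul (Matrix.vecMul (fun i => c i * w i ^ N)
        (Matrix.vandermonde w)) (Matrix.vandermonde w)⁻¹ := by
      rw [Matrix.vecMul_vecMul, hVinv, Matrix.vecMul_one]
    have h2 := congrFun h1 j
    rw [h2]
    simp only [Matrix.vecMul, dotProduct, Matrix.vandermonde_apply]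
    refine Finset.sum_congr rfl (fun t _ => ?_)
    congr 1
    refine Finset.sum_congr rfl (fun i _ => ?_)
    rw [pow_add]; ring
  set B' : ℝ := ∑ t, B * ‖(Matrix.vandermonde w)⁻¹ t j‖ with hB'
  have hbound : ∀ N : ℕ, 1 ≤ N → ‖c j‖ * ‖w j‖ ^ N ≤ B' := by
    intro N hN
    rw [← norm_pow, ← norm_mul, key N]
    refine (norm_sum_le _ _).trans ?_
    refine Finset.sum_le_sum (fun t _ => ?_)
    rw [norm_mul]
    exact mul_le_mul_of_nonneg_right (hB _ (by omega)) (norm_nonneg _)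
  by_contra hlt
  push Not at hlt
  have hcj : 0 < ‖c j‖ := norm_pos_iff.mpr (hc j)
  obtain ⟨n, hn⟩ := pow_unbounded_of_one_lt (B' / ‖c j‖) hlt
  have h1 := hbound (n + 1) (by omega)
  have h2 : ‖w j‖ ^ n ≤ ‖w j‖ ^ (n + 1) := pow_le_pow_right₀ hlt.le (by omega)
  have h3 : B' / ‖c j‖ < ‖w j‖ ^ (n + 1) := lt_of_lt_of_le hn h2
  rw [div_lt_iff₀ hcj] at h3
  linarith

/-- bounded power sums force all terms into the closed unit disc -/
theorem norm_le_one_of_powerSum_bounded {n : ℕ} (z : Fin n → ℂ) (B : ℝ)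
    (hB : ∀ N : ℕ, 1 ≤ N → ‖∑ i, z i ^ N‖ ≤ B) (i : Fin n) : ‖z i‖ ≤ 1 := by
  classical
  set S : Finset ℂ := Finset.univ.image z with hS
  set m := S.card with hm
  let e : Fin m ≃ S := (S.equivFin).symm
  let w : Fin m → ℂ := fun j => (e j : ℂ)
  let c : Fin m → ℂ := fun j => ((Finset.univ.filter fun i => z i = w j).card : ℂ)
  have hw : Function.Injective w := fun a b h => e.injective (Subtype.ext h)
  have hc : ∀ j, c j ≠ 0 := by
    intro j
    have hmem : w j ∈ S := (e j).2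
    rw [hS, Finset.mem_image] at hmem
    obtain ⟨i₀, -, hi₀⟩ := hmem
    have : 0 < (Finset.univ.filter fun i => z i = w j).card :=
      Finset.card_pos.mpr ⟨i₀, by simp [hi₀]⟩
    have h2 : ((Finset.univ.filter fun i => z i = w j).card : ℂ) ≠ 0 := by exact_mod_cast this.ne'
    exact h2
  have hsum : ∀ N : ℕ, ∑ i, z i ^ N = ∑ j, c j * w j ^ N := by
    intro N
    have h1 := Finset.sum_comp (s := (Finset.univ : Finset (Fin n))) (fun b : ℂ => b ^ N) z
    rw [h1, ← hS, ← Finset.sum_coe_sort S]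
    rw [← e.sum_comp]
    refine Finset.sum_congr rfl (fun j _ => ?_)
    simp [c, w, nsmul_eq_mul]
  have hB' : ∀ N : ℕ, 1 ≤ N → ‖∑ j, c j * w j ^ N‖ ≤ B := by
    intro N hN; rw [← hsum]; exact hB N hN
  have hzi : z i ∈ S := by rw [hS]; exact Finset.mem_image_of_mem _ (Finset.mem_univ _)
  have : z i = w (e.symm ⟨z i, hzi⟩) := by simp [w]
  rw [this]
  exact vdm_bound w c hw hc B hB' _

theorem main {g : ℕ} (q : ℕ) (hq : 0 < q)
    (α : Fin (2 * g) → ℂ) (σ : Equiv.Perm (Fin (2 * g))) (hσ : ∀ i, α (σ i) * α i = q)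
    (d : ℕ) (hd : 0 < d) (C : ℝ)
    (hC : ∀ N : ℕ, 1 ≤ N → ‖∑ i, α i ^ (d * N)‖ ≤ C * (q : ℝ) ^ ((d : ℝ) * N / 2))
    (i : Fin (2 * g)) : ‖α i‖ ^ 2 = q := by
  have hq0 : (0 : ℝ) < q := by exact_mod_cast hq
  set r : ℝ := (q : ℝ) ^ ((1 : ℝ) / 2) with hr
  have hr0 : 0 < r := Real.rpow_pos_of_pos hq0 _
  have hr2 : r ^ 2 = q := by
    rw [hr, ← Real.rpow_natCast, ← Real.rpow_mul hq0.le]; norm_num
  have hrpow : ∀ N : ℕ, (q : ℝ) ^ ((d : ℝ) * N / 2) = r ^ (d * N) := by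
    intro N
    rw [hr, ← Real.rpow_natCast, ← Real.rpow_mul hq0.le]
    congr 1
    push_cast; ring
  let z : Fin (2 * g) → ℂ := fun i => α i ^ d / (r : ℂ) ^ d
  have hrC : (r : ℂ) ≠ 0 := by exact_mod_cast hr0.ne'
  have hz : ∀ N : ℕ, 1 ≤ N → ‖∑ i, z i ^ N‖ ≤ C := by
    intro N hN
    have h1 : ∑ i, z i ^ N = (∑ i, α i ^ (d * N)) / (r : ℂ) ^ (d * N) := by
      rw [Finset.sum_div]
      refine Finset.sum_congr rfl (fun i _ => ?_)
      simp only [z]
      rw [div_pow, ← pow_mul, ← pow_mul]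
    rw [h1, norm_div, norm_pow, Complex.norm_real, Real.norm_of_nonneg hr0.le]
    rw [div_le_iff₀ (pow_pos hr0 _), ← hrpow]
    exact hC N hN
  have hle : ∀ i, ‖α i‖ ≤ r := by
    intro i
    have h1 := norm_le_one_of_powerSum_bounded z C hz i
    simp only [z] at h1
    rw [norm_div, norm_pow, norm_pow, Complex.norm_real, Real.norm_of_nonneg hr0.le,
      div_le_one (pow_pos hr0 _)] at h1
    exact le_of_pow_le_pow_left₀ hd.ne' hr0.le h1
  have hprod : ‖α (σ i)‖ * ‖α i‖ = r ^ 2 := by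
    rw [← norm_mul, hσ i, hr2]; simp
  have h1 := hle i
  have h2 := hle (σ i)
  have h3 : ‖α i‖ = r := by
    by_contra hne
    have hlt : ‖α i‖ < r := lt_of_le_of_ne h1 hne
    have : ‖α (σ i)‖ * ‖α i‖ < r ^ 2 := by
      have h4 : 0 ≤ ‖α (σ i)‖ := norm_nonneg _
      have h5 : 0 ≤ ‖α i‖ := norm_nonneg _
      nlinarith
    linarith
  rw [h3, hr2]

/-- Let q ≥ 1 and let α_1, …, α_{2g} be complex numbers permuted by α ↦ q/α, i.e. α_{σ(i)} α_i = q for a
permutation σ of the indices; these play the role of the inverse roots of the numerator of the zeta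
function of a curve over a field with q elements, for which #X(F_{q^N}) = q^N + 1 − Σ_i α_i^N. If
for some d ≥ 1 and real C one has |Σ_i α_i^{dN}| ≤ C q^{dN/2} for every N ≥ 1, then |α_i|^2 = q for
every i (the Riemann hypothesis for the curve). -/
theorem result {g : ℕ} (q : ℕ) (hq : 0 < q)
    (α : Fin (2 * g) → ℂ) (σ : Equiv.Perm (Fin (2 * g))) (hσ : ∀ i, α (σ i) * α i = q)
    (d : ℕ) (hd : 0 < d) (C : ℝ)
    (hC : ∀ N : ℕ, 1 ≤ N → ‖∑ i, α i ^ (d * N)‖ ≤ C * (q : ℝ) ^ ((d : ℝ) * N / 2))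
    (i : Fin (2 * g)) : ‖α i‖ ^ 2 = q := by
  exact main q hq α σ hσ d hd C hC i

end Groth.Agent.S15524
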