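import Groth.Statements.S15525
import Mathlib

set_option autoImplicit false
universe u
open Zeta

namespace Groth.Agent.S15525

open Polynomial

/-- If `N * M = 1` then `charpoly N * C (det M) = (-1)^r * reverse (charpoly M)`. -/
theorem charpoly_inv_aux {R : Type*} [CommRing R] {r : ℕ} (M N : Matrix (Fin r) (Fin r) R)
    (h : N * M = 1) :
    N.charpoly * C M.det = (-1) ^ r * M.charpoly.reverse := by
  rw [Matrix.reverse_charpoly, Matrix.charpolyRev, Matrix.charpoly]
  have h1 : Matrix.charmatrix N * M.map C = -(1 - (X : R[X]) • M.map C) := by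
    rw [Matrix.charmatrix, Matrix.sub_mul]
    have : (C.mapMatrix N) * M.map C = 1 := by
      have := congrArg (fun A : Matrix (Fin r) (Fin r) R => A.map C) h
      simp only [Matrix.map_mul] at this
      rw [RingHom.mapMatrix_apply, this]
      ext i j
      simp [Matrix.one_apply]
    rw [this]
    have h2 : (Matrix.scalar (Fin r)) (X : R[X]) * M.map C = (X : R[X]) • M.map C := by
      ext i j
      simp [Matrix.scalar, Matrix.diagonal_mul]
    rw [h2]
    abel
  have h3 := congrArg Matrix.det h1
  rw [Matrix.det_mul, Matrix.det_neg, Fintype.card_fin] at h3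
  rw [← h3]
  congr 1
  have : M.map C = C.mapMatrix M := rfl
  rw [this, ← RingHom.map_det]

/-- Reverse of a product of `X - C z` with `‖z‖ = 1`. -/
theorem reverse_prod_aux (s : Multiset ℂ) (hs : ∀ z ∈ s, ‖z‖ = 1) :
    (s.map (fun z => X - C z)).prod.reverse =
      C (s.map (fun z => -z)).prod * (s.map (fun z => X - C ((starRingEnd ℂ) z))).prod := by
  induction s using Multiset.induction_on with
  | empty =>
    have : (1 : ℂ[X]).reverse = 1 := by
      have := reverse_C (1 : ℂ)
      simpa using this
    simp [this]
  | cons a s ih =>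
    have ha : ‖a‖ = 1 := hs a (Multiset.mem_cons_self a s)
    have hs' : ∀ z ∈ s, ‖z‖ = 1 := fun z hz => hs z (Multiset.mem_cons_of_mem hz)
    rw [Multiset.map_cons, Multiset.prod_cons, reverse_mul_of_domain, ih hs',
      Multiset.map_cons, Multiset.prod_cons, Multiset.map_cons, Multiset.prod_cons]
    have h1 : (X - C a : ℂ[X]).reverse = C (-a) * (X - C ((starRingEnd ℂ) a)) := by
      have : (X - C a : ℂ[X]) = X + C (-a) := by rw [C_neg]; ring
      rw [this, reverse_add_C]
      have hX : (X : ℂ[X]).reverse = 1 := by
        have := reverse_mul_X (C (1 : ℂ))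
        rw [reverse_C] at this
        simpa using this
      rw [hX, natDegree_X, pow_one]
      have hconj : a * (starRingEnd ℂ) a = 1 := by
        rw [Complex.mul_conj, Complex.normSq_eq_norm_sq, ha]
        simp
      rw [mul_sub, ← C_mul, neg_mul, hconj]
      simp
      ring
    rw [h1, C_mul]
    ring

/-- Let L be a field with a ring embedding ι into ℂ and M an r × r matrix over L all of whose
eigenvalues, the complex roots of its characteristic polynomial mapped along ι, have absolute value
1. Then every coefficient of the characteristic polynomial of the block-diagonal matrix with blocks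
M and the inverse transpose of M is mapped by ι into ℝ. This is the pointwise content of the
assertion that for a lisse sheaf F pure of weight 0 the sum of F and its dual is real, the Frobenius
of the dual acting by the inverse transpose. -/
theorem result (L : Type u) [Field L] (ι : L →+* ℂ)
    {r : ℕ} (M : Matrix (Fin r) (Fin r) L)
    (hM : ∀ z ∈ ((Matrix.charpoly M).map ι).roots, ‖z‖ = 1) (n : ℕ) :
    (ι ((Matrix.fromBlocks M 0 0 (M⁻¹).transpose).charpoly.coeff n)).im = 0 := by
  rw [Matrix.charpoly_fromBlocks_zero₁₂, Matrix.charpoly_transpose, ← coeff_map, Polynomial.map_mul]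
  set p := (Matrix.charpoly M).map ι with hp
  set q := (Matrix.charpoly M⁻¹).map ι with hq
  have hpm : p.Monic := (Matrix.charpoly_monic M).map ι
  have hqm : q.Monic := (Matrix.charpoly_monic M⁻¹).map ι
  -- det M ≠ 0
  have hdet : M.det ≠ 0 := by
    intro h0
    have h1 : M.charpoly.coeff 0 = 0 := by
      have := Matrix.det_eq_sign_charpoly_coeff M
      rw [h0] at this
      have h2 : ((-1 : L) ^ Fintype.card (Fin r)) ≠ 0 := pow_ne_zero _ (by simp)
      exact (mul_eq_zero.mp this.symm).resolve_left h2
    have h2 : p.IsRoot 0 := by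
      rw [IsRoot, ← coeff_zero_eq_eval_zero, hp, coeff_map, h1, map_zero]
    have h3 : (0 : ℂ) ∈ p.roots := (mem_roots hpm.ne_zero).mpr h2
    have := hM 0 h3
    simp at this
  have hMinv : M⁻¹ * M = 1 := Matrix.nonsing_inv_mul M (isUnit_iff_ne_zero.mpr hdet)
  have key := charpoly_inv_aux (M.map ι) (M⁻¹.map ι) (by rw [← Matrix.map_mul, hMinv]; simp)
  rw [Matrix.charpoly_map, Matrix.charpoly_map, ← hp, ← hq] at key
  -- p splits
  have hsplit : p = (p.roots.map (fun z => X - C z)).prod :=
    (IsAlgClosed.splits p).eq_prod_roots_of_monic hpm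
  have hrev := reverse_prod_aux p.roots hM
  rw [← hsplit] at hrev
  set p' := (p.roots.map (fun z => X - C ((starRingEnd ℂ) z))).prod with hp'
  have hp'conj : p' = p.map (starRingEnd ℂ) := by
    conv_rhs => rw [hsplit]
    rw [Polynomial.map_multiset_prod, Multiset.map_map]
    simp [hp']
  have hp'm : p'.Monic := by rw [hp'conj]; exact hpm.map _
  rw [hrev] at key
  have hdet' : (M.map ι).det ≠ 0 := by
    have : (M.map ι).det = ι M.det := by
      have : M.map ι = ι.mapMatrix M := rfl
      rw [this, ← RingHom.map_det]
    rw [this]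
    exact (map_ne_zero ι).mpr hdet
  have hqp' : q = p' := by
    have h1 : q * C (M.map ι).det = C ((-1) ^ r * (p.roots.map (fun z => -z)).prod) * p' := by
      rw [key, C_mul, C_pow, C_neg, C_1]
      ring
    have h2 := congrArg leadingCoeff h1
    rw [leadingCoeff_mul, leadingCoeff_mul, hqm.leadingCoeff, hp'm.leadingCoeff, leadingCoeff_C,
      leadingCoeff_C, one_mul, mul_one] at h2
    rw [← h2, mul_comm] at h1
    exact mul_left_cancel₀ (by simpa using hdet') h1
  rw [hqp', hp'conj]
  clear_value p
  rw [← Complex.conj_eq_iff_im, ← coeff_map, Polynomial.map_mul, Polynomial.map_map]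
  have : (starRingEnd ℂ).comp (starRingEnd ℂ) = RingHom.id ℂ := by
    ext z; simp
  rw [this, Polynomial.map_id, mul_comm]

end Groth.Agent.S15525
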