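import Groth.Statements.S15526
import Mathlib.Algebra.Polynomial.Eval.Defs

set_option autoImplicit false
universe u
open MvPolynomial
open CAlg

namespace Groth.Agent.S15526

section core
variable {R : Type u} [CommRing R] {Q : Type u} [CommRing Q] [Algebra R Q]

/-- the spanning set in abstract form -/
def S' (g : ℕ) (x : Q) (u : Qˣ) : Submodule R Q :=
  Submodule.span R {a | ∃ i : ℕ, i ≤ 2 * g ∧ ∃ k : ℤ, a = x ^ i * ((u ^ k : Qˣ) : Q)}

theorem gen_mem (g : ℕ) (x : Q) (u : Qˣ) (i : ℕ) (hi : i ≤ 2 * g) (k : ℤ) :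
    x ^ i * ((u ^ k : Qˣ) : Q) ∈ S' (R := R) g x u :=
  Submodule.subset_span ⟨i, hi, k, rfl⟩

theorem one_mem_S' (g : ℕ) (x : Q) (u : Qˣ) : (1 : Q) ∈ S' (R := R) g x u := by
  have := gen_mem (R := R) g x u 0 (Nat.zero_le _) 0
  simpa using this

theorem u_mul_mem (g : ℕ) (x : Q) (u : Qˣ) (e : ℤ) (s : Q) (hs : s ∈ S' (R := R) g x u) :
    ((u ^ e : Qˣ) : Q) * s ∈ S' (R := R) g x u := by
  induction hs using Submodule.span_induction with
  | mem a ha =>
    obtain ⟨i, hi, k, rfl⟩ := ha
    have : ((u ^ e : Qˣ) : Q) * (x ^ i * ((u ^ k : Qˣ) : Q)) = x ^ i * ((u ^ (e + k) : Qˣ) : Q) := by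
      rw [zpow_add, Units.val_mul]; ring
    rw [this]
    exact gen_mem g x u i hi _
  | zero => rw [mul_zero]; exact Submodule.zero_mem _
  | add a b _ _ ha hb => rw [mul_add]; exact Submodule.add_mem _ ha hb
  | smul r a _ ha => rw [mul_smul_comm]; exact Submodule.smul_mem _ r ha

theorem x_mul_mem (g : ℕ) (x : Q) (u : Qˣ) (P : Polynomial R) (hP : P.Monic)
    (hdeg : P.natDegree = 2 * g + 1) (hrel : (u : Q) ^ 2 = Polynomial.aeval x P)
    (s : Q) (hs : s ∈ S' (R := R) g x u) : x * s ∈ S' (R := R) g x u := by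
  have hx : x ^ (2 * g + 1) = (u : Q) ^ 2 -
      ∑ j ∈ Finset.range (2 * g + 1), algebraMap R Q (P.coeff j) * x ^ j := by
    have hP' : Polynomial.aeval x P = x ^ (2 * g + 1) +
        ∑ j ∈ Finset.range (2 * g + 1), algebraMap R Q (P.coeff j) * x ^ j := by
      conv_lhs => rw [hP.as_sum]
      rw [hdeg]
      simp [map_add, map_sum]
    rw [hrel, hP']
    ring
  induction hs using Submodule.span_induction with
  | mem a ha =>
    obtain ⟨i, hi, k, rfl⟩ := ha
    rcases Nat.lt_or_ge i (2 * g) with hlt | hge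
    · have : x * (x ^ i * ((u ^ k : Qˣ) : Q)) = x ^ (i + 1) * ((u ^ k : Qˣ) : Q) := by ring
      rw [this]
      exact gen_mem g x u (i + 1) hlt _
    · have hi2 : i = 2 * g := le_antisymm hi hge
      subst hi2
      have : x * (x ^ (2 * g) * ((u ^ k : Qˣ) : Q)) =
          ((u ^ (2 : ℤ) : Qˣ) : Q) * (x ^ 0 * ((u ^ k : Qˣ) : Q)) -
            ∑ j ∈ Finset.range (2 * g + 1), (P.coeff j) • (x ^ j * ((u ^ k : Qˣ) : Q)) := by
        have h1 : x * (x ^ (2 * g) * ((u ^ k : Qˣ) : Q)) = x ^ (2 * g + 1) * ((u ^ k : Qˣ) : Q) := by ring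
        rw [h1, hx, sub_mul, Finset.sum_mul]
        congr 1
        · simp
        · apply Finset.sum_congr rfl
          intro j _
          rw [Algebra.smul_def]; ring
      rw [this]
      apply Submodule.sub_mem
      · exact u_mul_mem g x u 2 _ (gen_mem g x u 0 (Nat.zero_le _) k)
      · apply Submodule.sum_mem
        intro j hj
        apply Submodule.smul_mem
        exact gen_mem g x u j (by have := Finset.mem_range.mp hj; omega) k
  | zero => rw [mul_zero]; exact Submodule.zero_mem _
  | add a b _ _ ha hb => rw [mul_add]; exact Submodule.add_mem _ ha hb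
  | smul r a _ ha => rw [mul_smul_comm]; exact Submodule.smul_mem _ r ha

end core

/-- Let R be a commutative ring, P ∈ R[x] a monic polynomial of degree 2g + 1, and A = R[x, y, z]/(y^2 −
P(x), yz − 1). Then every element of A is a finite sum Σ_n Q_n(x) y^n over integers n, negative
powers of y meaning powers of z, with each Q_n ∈ R[x] of degree at most 2g: the R-submodule of A
spanned by the classes of x^i y^n and x^i z^n with i ≤ 2g and n ≥ 0 is all of A. (The published
statement takes for R the ring of Witt vectors of a finite field and for P a lift of a separable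
polynomial; the argument uses only that P is monic of degree 2g + 1.) -/
theorem result (R : Type u) [CommRing R] (g : ℕ)
    (P : Polynomial R) (hP : P.Monic) (hdeg : P.natDegree = 2 * g + 1) :
    Submodule.span R {a : MvPolynomial (Fin 3) R ⧸
        Ideal.span ({X 1 ^ 2 - Polynomial.aeval (X 0 : MvPolynomial (Fin 3) R) P, X 1 * X 2 - 1} :
          Set (MvPolynomial (Fin 3) R)) |
        ∃ i n : ℕ, i ≤ 2 * g ∧
          (a = Ideal.Quotient.mk _ (X 0 ^ i * X 1 ^ n) ∨ a = Ideal.Quotient.mk _ (X 0 ^ i * X 2 ^ n))} =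
      ⊤ := by
  classical
  set I := Ideal.span ({X 1 ^ 2 - Polynomial.aeval (X 0 : MvPolynomial (Fin 3) R) P, X 1 * X 2 - 1} :
          Set (MvPolynomial (Fin 3) R)) with hI
  set x : MvPolynomial (Fin 3) R ⧸ I := Ideal.Quotient.mk I (X 0) with hx
  set y : MvPolynomial (Fin 3) R ⧸ I := Ideal.Quotient.mk I (X 1) with hy
  set z : MvPolynomial (Fin 3) R ⧸ I := Ideal.Quotient.mk I (X 2) with hz
  have hyz : y * z = 1 := by
    rw [hy, hz, ← map_mul, ← sub_eq_zero, ← map_one (Ideal.Quotient.mk I), ← map_sub,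
      Ideal.Quotient.eq_zero_iff_mem]
    exact Ideal.subset_span (by simp)
  let u : (MvPolynomial (Fin 3) R ⧸ I)ˣ := ⟨y, z, hyz, by rw [mul_comm]; exact hyz⟩
  have hrel : ((u : (MvPolynomial (Fin 3) R ⧸ I)ˣ) : MvPolynomial (Fin 3) R ⧸ I) ^ 2 =
      Polynomial.aeval x P := by
    show y ^ 2 = _
    have h1 : Ideal.Quotient.mk I (X 1 ^ 2 - Polynomial.aeval (X 0 : MvPolynomial (Fin 3) R) P) = 0 :=
      Ideal.Quotient.eq_zero_iff_mem.mpr (Ideal.subset_span (by simp))
    rw [map_sub, sub_eq_zero, map_pow] at h1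
    rw [hy, h1]
    exact (Polynomial.aeval_algHom_apply (Ideal.Quotient.mkₐ R I) (X 0) P).symm
  have hle : S' (R := R) g x u ≤ Submodule.span R {a : MvPolynomial (Fin 3) R ⧸ I |
        ∃ i n : ℕ, i ≤ 2 * g ∧
          (a = Ideal.Quotient.mk _ (X 0 ^ i * X 1 ^ n) ∨ a = Ideal.Quotient.mk _ (X 0 ^ i * X 2 ^ n))} := by
    apply Submodule.span_le.mpr
    rintro a ⟨i, hi, k, rfl⟩
    apply Submodule.subset_span
    obtain ⟨n, rfl | rfl⟩ := Int.eq_nat_or_neg k
    · refine ⟨i, n, hi, Or.inl ?_⟩
      rw [map_mul, map_pow, map_pow, zpow_natCast, Units.val_pow_eq_pow_val]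
    · refine ⟨i, n, hi, Or.inr ?_⟩
      rw [map_mul, map_pow, map_pow, zpow_neg, zpow_natCast, ← inv_pow, Units.val_pow_eq_pow_val]
      rfl
  have htop : S' (R := R) g x u = ⊤ := by
    rw [eq_top_iff]
    intro a _
    obtain ⟨p, rfl⟩ := Ideal.Quotient.mk_surjective a
    have key : ∀ p : MvPolynomial (Fin 3) R, ∀ s ∈ S' (R := R) g x u,
        Ideal.Quotient.mk I p * s ∈ S' (R := R) g x u := by
      intro p
      induction p using MvPolynomial.induction_on with
      | C r =>
        intro s hs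
        have : Ideal.Quotient.mk I (C r) * s = r • s := by
          rw [Algebra.smul_def r s]; rfl
        rw [this]
        exact Submodule.smul_mem _ r hs
      | add p q hp hq =>
        intro s hs
        rw [map_add, add_mul]
        exact Submodule.add_mem _ (hp s hs) (hq s hs)
      | mul_X p i hp =>
        intro s hs
        rw [map_mul, mul_assoc]
        apply hp
        fin_cases i
        · exact x_mul_mem g x u P hP hdeg hrel s hs
        · have := u_mul_mem (R := R) g x u 1 s hs
          simpa using this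
        · have := u_mul_mem (R := R) g x u (-1) s hs
          rw [zpow_neg, zpow_one] at this
          exact this
    have := key p 1 (one_mem_S' g x u)
    rwa [mul_one] at this
  rw [eq_top_iff, ← htop]
  exact hle

end Groth.Agent.S15526
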