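import Groth.Statements.S1553
import Mathlib
import Groth.Agent.Lib.Helper14.GenFibBound
-- import your own Groth.Agent.* helpers here

set_option autoImplicit false
universe u
open CategoryTheory CategoryTheory.Limits AlgebraicGeometry
open Variety

namespace Groth.Agent.S1553

/-- Let f : X → Y be locally of finite type, x a point with image y such that the local ring of Y at y
is Noetherian, and d a natural number such that at the generic points η of the irreducible
components of X passing through x we have f(η) ≠ y and local fibre dimension d. Then the local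
dimension at x of the fibre over y is at most d + dim O_{Y,y} - 1 (written additively). -/
theorem result {X Y : Scheme.{u}} (f : X ⟶ Y) [LocallyOfFiniteType f]
    (x : X) [IsNoetherianRing (Y.presheaf.stalk (f.base x))] (d : ℕ)
    (hgen : ∀ Z ∈ irreducibleComponents (X : Type u), x ∈ Z → ∀ η : X, IsGenericPoint η Z →
      f.base η ≠ f.base x ∧ FlatMor.fibreDimAt f η = d) :
    FlatMor.fibreDimAt f x + 1 ≤ (d : WithBot ℕ∞) + ringKrullDim (Y.presheaf.stalk (f.base x)) := by
  obtain ⟨X', Y', f', g', x', hN, hlft, hgx, hdim, hstalk, hfib, hgen'⟩ :=
    Groth.Agent.Helper14.GenFibBound.reduction f x (fun η => f η ≠ f x) d hgen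
  haveI := hN
  haveI := hlft
  have h := Groth.Agent.Helper14.GenFibBound.bound f' x' d (fun η' hmax hsp => by
    obtain ⟨h1, h2⟩ := hgen' η' hmax hsp
    exact ⟨fun h3 => h1 (hfib η' h3), h2⟩)
  rw [hdim, hstalk] at h
  exact h

end Groth.Agent.S1553
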