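import Groth.Statements.S15536
import Mathlib
import Groth.Agent.Lib.Helper23.DRPoinc

set_option autoImplicit false
universe u
open DeRham

namespace Groth.Agent.S15536

set_option linter.style.haveILetI false
set_option linter.unusedVariables false
set_option linter.unusedSectionVars false
open exteriorPower Polynomial Groth.Agent.Helper23 Groth.Agent.Helper23.DRContr Groth.Agent.Helper23.DRLie Groth.Agent.Helper23.DRPoinc

theorem decomp (R A : Type u) [CommRing R] [CommRing A] [Algebra R A] (p : ℕ) (y : VV R A p) :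
    ∃ g : ℕ →₀ VV R A p, (∀ N, g N ∈ G R A p N) ∧ (g.sum fun _ v => v) = y := by
  have hy : y ∈ ⨆ N, G R A p N := by rw [iSup_G_eq_top]; trivial
  exact (Submodule.mem_iSup_iff_exists_finsupp _ _).mp hy

theorem main (R A : Type u) [CommRing R]
    [CommRing A] [Algebra R A] [Algebra ℚ R]
    (d : ∀ p : ℕ, ↥(⋀[A]^p (Ω[A⁄R])) →ₗ[R] ↥(⋀[A]^(p + 1) (Ω[A⁄R])))
    (hd : DeRham.IsDiff (KaehlerDifferential.D R A) d)
    (d' : ∀ p : ℕ, ↥(⋀[A[X]]^p (Ω[A[X]⁄R])) →ₗ[R] ↥(⋀[A[X]]^(p + 1) (Ω[A[X]⁄R])))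
    (hd' : DeRham.IsDiff (KaehlerDifferential.D R A[X]) d')
    (ψ : ∀ p : ℕ, ↥(⋀[A]^p (Ω[A⁄R])) →+ ↥(⋀[A[X]]^p (Ω[A[X]⁄R])))
    (hψ : DeRham.IsCxMap (KaehlerDifferential.D R A) (KaehlerDifferential.D R A[X]) (algebraMap A A[X]) ψ)
    (hcomm : ∀ (p : ℕ) (x : ↥(⋀[A]^p (Ω[A⁄R]))), ψ (p + 1) (d p x) = d' p (ψ p x)) (i : ℕ) :
    (∀ y ∈ DeRham.cocycles d' i, ∃ x ∈ DeRham.cocycles d i, y - ψ i x ∈ DeRham.coboundaries d' i) ∧
      (∀ x ∈ DeRham.cocycles d i, ψ i x ∈ DeRham.coboundaries d' i → x ∈ DeRham.coboundaries d i) := by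
  classical
  have hinj := psi_injective ψ hψ
  constructor
  · intro y hy
    have hy0 : d' i y = 0 := hy
    obtain ⟨g, hg, hgy⟩ := decomp R A i y
    -- each component is closed
    have hcl : ∀ N, d' i (g N) = 0 := by
      have h1 : ∑ N ∈ g.support, d' i (g N) = 0 := by
        rw [← map_sum]
        have : ∑ N ∈ g.support, g N = y := hgy
        rw [this, hy0]
      have h2 := eigen_indep (LE d' (Eu (R := R) (A := A)) (i + 1)) g.support
        (fun N => d' i (g N))
        (fun N _ => LE_of_mem_G d' hd'.1 (i + 1) N (d_mem_G d' hd'.1 i N (hg N))) h1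
      intro N
      by_cases hN : N ∈ g.support
      · exact h2 N hN
      · rw [Finsupp.notMem_support_iff.mp hN, map_zero]
    obtain ⟨x₀, hx₀⟩ := exists_of_mem_G_zero ψ hψ i (hg 0)
    refine ⟨x₀, ?_, ?_⟩
    · show d i x₀ = 0
      apply hinj (i + 1)
      rw [hcomm, hx₀, hcl 0, map_zero]
    · -- positive weight components are exact
      have hex : ∀ N, N ≠ 0 → g N ∈ DeRham.coboundaries d' i := by
        intro N hN
        have hLE := LE_of_mem_G d' hd'.1 i N (hg N)
        obtain ⟨u, hu⟩ := isUnit_cast (R := R) hN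
        cases i with
        | zero =>
          rw [LE_zero, hcl N, map_zero] at hLE
          have : g N = 0 := by
            have h3 := hLE.symm
            rw [← hu] at h3
            exact (u.isUnit.smul_eq_zero).mp h3
          rw [this]
          exact zero_mem _
        | succ j =>
          rw [LE_succ, hcl N, map_zero, add_zero] at hLE
          show g N ∈ LinearMap.range (d' j)
          refine ⟨(↑u⁻¹ : R) • contr (th (Eu (R := R) (A := A))) j (g N), ?_⟩
          rw [map_smul, hLE, ← hu, smul_smul, Units.inv_mul, one_smul]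
      have hsum : y - ψ i x₀ = ∑ N ∈ g.support.erase 0, g N := by
        rw [hx₀]
        have : ∑ N ∈ g.support, g N = y := hgy
        rw [← this]
        by_cases h0 : 0 ∈ g.support
        · rw [Finset.sum_erase_eq_sub h0]
        · rw [Finset.erase_eq_of_notMem h0, Finsupp.notMem_support_iff.mp h0, sub_zero]
      rw [hsum]
      exact Submodule.sum_mem _ (fun N hN => hex N (Finset.ne_of_mem_erase hN))
  · intro x hx hψx
    cases i with
    | zero =>
      have h0 : ψ 0 x = 0 := by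
        have : ψ 0 x ∈ (⊥ : Submodule R _) := hψx
        simpa using this
      have : x = 0 := hinj 0 (by rw [h0, map_zero])
      rw [this]
      exact zero_mem _
    | succ j =>
      obtain ⟨z, hz⟩ : ∃ z, d' j z = ψ (j + 1) x := hψx
      obtain ⟨g, hg, hgz⟩ := decomp R A j z
      let F : Finset ℕ := insert 0 g.support
      let uu : ℕ → VV R A (j + 1) := fun N => d' j (g N) - (if N = 0 then ψ (j + 1) x else 0)
      have hu_mem : ∀ N, uu N ∈ G R A (j + 1) N := by
        intro N
        refine sub_mem (d_mem_G d' hd'.1 j N (hg N)) ?_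
        by_cases hN : N = 0
        · rw [if_pos hN, hN]
          exact psi_mem_G_zero ψ hψ (j + 1) x
        · rw [if_neg hN]
          exact zero_mem _
      have hu_sum : ∑ N ∈ F, uu N = 0 := by
        rw [Finset.sum_sub_distrib, Finset.sum_ite_eq' F 0, if_pos (Finset.mem_insert_self _ _),
          ← map_sum]
        have : ∑ N ∈ F, g N = z := by
          rw [← hgz]
          exact (Finsupp.sum_of_support_subset g (Finset.subset_insert _ _) (fun _ v => v)
            (fun _ _ => rfl)).symm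
        rw [this, hz, sub_self]
      have h2 := eigen_indep (LE d' (Eu (R := R) (A := A)) (j + 1)) F uu
        (fun N _ => LE_of_mem_G d' hd'.1 (j + 1) N (hu_mem N)) hu_sum 0
        (Finset.mem_insert_self _ _)
      have h3 : d' j (g 0) = ψ (j + 1) x := by
        have : d' j (g 0) - ψ (j + 1) x = 0 := by simpa [uu] using h2
        exact sub_eq_zero.mp this
      obtain ⟨x₀, hx₀⟩ := exists_of_mem_G_zero ψ hψ j (hg 0)
      show x ∈ LinearMap.range (d j)
      refine ⟨x₀, ?_⟩
      apply hinj (j + 1)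
      rw [hcomm, hx₀, h3]

open exteriorPower Polynomial in
/-- For a commutative ℚ-algebra R, an R-algebra A, de Rham differentials d on ⋀^• Ω_{A/R} and d' on ⋀^•
Ω_{A[t]/R}, and the map of de Rham complexes ψ induced by the inclusion A → A[t] (pinned by its
values on the elements b₀ db₁ ∧ … ∧ db_p and commuting with d, d'), the map ψ is a
quasi-isomorphism: in every degree i, each d'-closed form on A[t] is the sum of ψ_i of a d-closed
form on A and a d'-exact form, and a d-closed form on A whose image under ψ_i is d'-exact is d-exact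
(in degree 0, exact means zero). -/
theorem result (R A : Type u) [CommRing R]
    [CommRing A] [Algebra R A] [Algebra ℚ R]
    (d : ∀ p : ℕ, ↥(⋀[A]^p (Ω[A⁄R])) →ₗ[R] ↥(⋀[A]^(p + 1) (Ω[A⁄R])))
    (hd : DeRham.IsDiff (KaehlerDifferential.D R A) d)
    (d' : ∀ p : ℕ, ↥(⋀[A[X]]^p (Ω[A[X]⁄R])) →ₗ[R] ↥(⋀[A[X]]^(p + 1) (Ω[A[X]⁄R])))
    (hd' : DeRham.IsDiff (KaehlerDifferential.D R A[X]) d')
    (ψ : ∀ p : ℕ, ↥(⋀[A]^p (Ω[A⁄R])) →+ ↥(⋀[A[X]]^p (Ω[A[X]⁄R])))
    (hψ : DeRham.IsCxMap (KaehlerDifferential.D R A) (KaehlerDifferential.D R A[X]) (algebraMap A A[X]) ψ)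
    (hcomm : ∀ (p : ℕ) (x : ↥(⋀[A]^p (Ω[A⁄R]))), ψ (p + 1) (d p x) = d' p (ψ p x)) (i : ℕ) :
    (∀ y ∈ DeRham.cocycles d' i, ∃ x ∈ DeRham.cocycles d i, y - ψ i x ∈ DeRham.coboundaries d' i) ∧
      (∀ x ∈ DeRham.cocycles d i, ψ i x ∈ DeRham.coboundaries d' i → x ∈ DeRham.coboundaries d i) := by
  exact main R A d hd d' hd' ψ hψ hcomm i

end Groth.Agent.S15536
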