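import Groth.Statements.S1554
import Mathlib
import Groth.Agent.Lib.Helper14.GenFibBound
-- import your own Groth.Agent.* helpers here

set_option autoImplicit false
universe u
open CategoryTheory CategoryTheory.Limits AlgebraicGeometry
open Variety

namespace Groth.Agent.S1554

/-- Let f : X → Y be locally of finite type, x a point with image y such that the local ring of Y at y
is Noetherian of dimension at most one, and d a natural number such that the local fibre dimension
is d at the generic points of the irreducible components of X passing through x. Then the local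
dimension at x of the fibre over y equals d. -/
theorem result {X Y : Scheme.{u}} (f : X ⟶ Y) [LocallyOfFiniteType f]
    (x : X) [IsNoetherianRing (Y.presheaf.stalk (f.base x))] (hdimY : ringKrullDim (Y.presheaf.stalk (f.base x)) ≤ 1) (d : ℕ)
    (hgen : ∀ Z ∈ irreducibleComponents (X : Type u), x ∈ Z → ∀ η : X, IsGenericPoint η Z → FlatMor.fibreDimAt f η = d) :
    FlatMor.fibreDimAt f x = d := by
  obtain ⟨X', Y', f', g', x', hN, hlft, hgx, hdim, hstalk, hfib, hgen'⟩ :=
    Groth.Agent.Helper14.GenFibBound.reduction f x (fun _ => True) d
      (fun Z hZ hx η hη => ⟨trivial, hgen Z hZ hx η hη⟩)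
  haveI := hN
  haveI := hlft
  have h := Groth.Agent.Helper14.GenFibBound.eq_of_dim_le_one f' x' (by rw [hstalk]; exact hdimY) d
    (fun η' hmax hsp => (hgen' η' hmax hsp).2)
  rw [hdim] at h
  exact h

end Groth.Agent.S1554
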