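import Groth.Statements.S15541
import Mathlib
import Groth.Prelude.Def_FrobAlg
import Groth.Agent.S14036
import Groth.Agent.S19857
-- import your own Groth.Agent.* helpers here

set_option autoImplicit false
universe u
open FrobSch

namespace Groth.Agent.S15541

section

open CategoryTheory CategoryTheory.Limits AlgebraicGeometry TopologicalSpace TensorProduct

theorem relFrob_tmul (p : ℕ) [Fact p.Prime] {A B : Type u} [CommRing A] [CommRing B]
    [CharP A p] [CharP B p] [Algebra A B] (b : B) (t : FrobAlg.Twist p A) :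
    FrobAlg.relFrob p A B (b ⊗ₜ[A] t) = b ^ p * algebraMap A B ((FrobAlg.toTwist p A).symm t) := by
  unfold FrobAlg.relFrob
  simp only [RingHom.coe_comp, Function.comp_apply, AlgHom.toRingHom_eq_coe, RingHom.coe_coe,
    Algebra.TensorProduct.lift_tmul]
  rfl

theorem flat_of_isPushout (p : ℕ) [Fact p.Prime] {A B T : Type u} [CommRing A] [CommRing B]
    [CommRing T] [CharP A p] [CharP B p] [Algebra A B] [Algebra.Smooth A B]
    (φ : A →+* A) (hφ : ∀ a, φ a = a ^ p) (ι₁ : B →+* T) (ι₂ : A →+* T)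
    (hpo : IsPushout (CommRingCat.ofHom (algebraMap A B)) (CommRingCat.ofHom φ)
      (CommRingCat.ofHom ι₁) (CommRingCat.ofHom ι₂))
    (ρ : T →+* B) (h1 : ∀ b, ρ (ι₁ b) = b ^ p) (h2 : ∀ a, ρ (ι₂ a) = algebraMap A B a) :
    ρ.Flat := by
  let τ : CommRingCat.of A ≅ CommRingCat.of (FrobAlg.Twist p A) :=
    (FrobAlg.toTwist p A).toCommRingCatIso
  have hpo' : IsPushout (CommRingCat.ofHom (algebraMap A B))
      (CommRingCat.ofHom (algebraMap A (FrobAlg.Twist p A)))
      (CommRingCat.ofHom ι₁) (τ.inv ≫ CommRingCat.ofHom ι₂) := by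
    refine hpo.of_iso (Iso.refl _) (Iso.refl _) τ (Iso.refl _) ?_ ?_ ?_ ?_
    · simp
    · ext a
      show FrobAlg.toTwist p A (φ a) = algebraMap A (FrobAlg.Twist p A) a
      rw [hφ, FrobAlg.algebraMap_twist]
    · simp
    · simp
  have hten := CommRingCat.isPushout_tensorProduct A B (FrobAlg.Twist p A)
  let e := hten.isoIsPushout _ _ hpo'
  have he1 : CommRingCat.ofHom (S := B ⊗[A] FrobAlg.Twist p A)
      Algebra.TensorProduct.includeLeftRingHom ≫ e.hom = CommRingCat.ofHom ι₁ :=
    hten.inl_isoIsPushout_hom _ _ hpo'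
  have he2 : CommRingCat.ofHom (S := B ⊗[A] FrobAlg.Twist p A)
      Algebra.TensorProduct.includeRight.toRingHom ≫ e.hom = τ.inv ≫ CommRingCat.ofHom ι₂ :=
    hten.inr_isoIsPushout_hom _ _ hpo'
  have he1' : ∀ b : B, e.hom.hom (b ⊗ₜ[A] (1 : FrobAlg.Twist p A)) = ι₁ b := by
    intro b
    have := congrArg (fun g => g.hom b) he1
    exact this
  have he2' : ∀ t : FrobAlg.Twist p A, e.hom.hom ((1 : B) ⊗ₜ[A] t) =
      ι₂ ((FrobAlg.toTwist p A).symm t) := by
    intro t
    have := congrArg (fun g => g.hom t) he2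
    exact this
  have key : ρ.comp e.hom.hom = FrobAlg.relFrob p A B := by
    refine RingHom.ext fun x => ?_
    induction x using TensorProduct.induction_on with
    | zero => rw [map_zero, map_zero]
    | tmul b t =>
      have hbt : b ⊗ₜ[A] t = (b ⊗ₜ[A] (1 : FrobAlg.Twist p A)) * ((1 : B) ⊗ₜ[A] t) := by
        rw [Algebra.TensorProduct.tmul_mul_tmul, mul_one, one_mul]
      rw [relFrob_tmul, hbt, RingHom.comp_apply, map_mul, map_mul, he1', he2', h1, h2]
    | add x y hx hy => rw [map_add, map_add, hx, hy]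
  have hρ : ρ = (FrobAlg.relFrob p A B).comp e.inv.hom := by
    rw [← key]
    ext t
    simp
  rw [hρ]
  refine RingHom.Flat.comp ?_ (Groth.Agent.S14036.result p A B)
  exact RingHom.Flat.of_bijective (ConcreteCategory.bijective_of_isIso e.inv)

theorem frob_appLE (p : ℕ) [Fact p.Prime] (X : Scheme.{u}) [FrobSch.IsCharP X p] (U : X.Opens)
    (e : U ≤ FrobSch.frob X p ⁻¹ᵁ U) (s : Γ(X, U)) :
    ((FrobSch.frob X p).appLE U U e).hom s = s ^ p := by
  have h1 : (FrobSch.frob X p).appLE U U e =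
      (FrobSch.frob X p).app U ≫ X.presheaf.map (𝟙 _) := rfl
  rw [h1, X.presheaf.map_id, Category.comp_id]
  rfl

theorem appLE_of_eq {X S : Scheme.{u}} (g f : X ⟶ S) (hg : g = f) (V : S.Opens) (U : X.Opens)
    (e' : U ≤ g ⁻¹ᵁ V) (e : U ≤ f ⁻¹ᵁ V) : g.appLE V U e' = f.appLE V U e := by
  subst hg
  rfl

theorem nontrivial_of_mem {X : Scheme.{u}} (U : X.Opens) (x : X) (hx : x ∈ U) :
    Nontrivial Γ(X, U) :=
  (X.presheaf.germ U x hx).hom.domain_nontrivial

theorem flat_relFrob (p : ℕ) [Fact p.Prime] {X S : Scheme.{u}} [FrobSch.IsCharP S p] (f : X ⟶ S)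
    [Smooth f] : Flat (FrobSch.relFrob f p) := by
  haveI : FrobSch.IsCharP X p := FrobSch.IsCharP.of_hom f p
  rw [HasRingHomProperty.iff_exists_appLE (P := @Flat)
    (RingHom.Flat.stableUnderComposition.stableUnderCompositionWithLocalizationAway
      RingHom.Flat.holdsForLocalizationAway).left]
  intro x
  obtain ⟨_, ⟨V, hV, rfl⟩, hxV, -⟩ :=
    (S.isBasis_affineOpens).exists_subset_of_mem_open (Set.mem_univ (f x)) isOpen_univ
  have hxV' : x ∈ f ⁻¹ᵁ V := hxV
  obtain ⟨_, ⟨U, hU, rfl⟩, hxU, hUle⟩ :=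
    (X.isBasis_affineOpens).exists_subset_of_mem_open hxV' (f ⁻¹ᵁ V).isOpen
  have H : IsPullback (pullback.fst f (FrobSch.frob S p)) (pullback.snd f (FrobSch.frob S p)) f
      (FrobSch.frob S p) := IsPullback.of_hasPullback f (FrobSch.frob S p)
  have hUST : V ≤ FrobSch.frob S p ⁻¹ᵁ V := le_refl V
  set UY : (FrobSch.frobTwist f p).Opens :=
    pullback.fst f (FrobSch.frob S p) ⁻¹ᵁ U ⊓ pullback.snd f (FrobSch.frob S p) ⁻¹ᵁ V with hUY
  -- the pushout square of sections
  haveI := isIso_pushoutSection_of_isAffineOpen H hUST hUle hUY hV hV hU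
  have hpo := (isIso_pushoutSection_iff H hUST hUle hUY).mp inferInstance
  have hUYaff : IsAffineOpen UY := by
    haveI : IsAffine (V : Scheme.{u}) := hV
    haveI : IsAffine (U : Scheme.{u}) := hU
    exact IsAffine.of_isIso (Scheme.Hom.isPullback_resLE H hUST hUle hUY).isoPullback.hom
  have hle : U ≤ FrobSch.relFrob f p ⁻¹ᵁ UY := by
    intro z hz
    refine ⟨?_, ?_⟩
    · show pullback.fst f (FrobSch.frob S p) (FrobSch.relFrob f p z) ∈ U
      rw [← Scheme.Hom.comp_apply, FrobSch.relFrob_fst]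
      exact hz
    · show pullback.snd f (FrobSch.frob S p) (FrobSch.relFrob f p z) ∈ V
      rw [← Scheme.Hom.comp_apply, FrobSch.relFrob_snd]
      exact hUle hz
  have hfstle : UY ≤ pullback.fst f (FrobSch.frob S p) ⁻¹ᵁ U := inf_le_left
  have hsndle : UY ≤ pullback.snd f (FrobSch.frob S p) ⁻¹ᵁ V := inf_le_right
  refine ⟨⟨UY, hUYaff⟩, ⟨U, hU⟩, hxU, hle, ?_⟩
  -- ring-level data
  letI alg := (f.appLE V U hUle).hom.toAlgebra
  haveI : Nontrivial Γ(S, V) := nontrivial_of_mem V (f x) hxV
  haveI : Nontrivial Γ(X, U) := nontrivial_of_mem U x hxU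
  haveI : CharP Γ(S, V) p :=
    (CharP.charP_iff_prime_eq_zero Fact.out).2 (FrobSch.natCast_eq_zero_app S p V)
  haveI : CharP Γ(X, U) p :=
    (CharP.charP_iff_prime_eq_zero Fact.out).2 (FrobSch.natCast_eq_zero_app X p U)
  haveI : Algebra.Smooth Γ(S, V) Γ(X, U) := f.smooth_appLE hV hU hUle
  refine flat_of_isPushout p ((FrobSch.frob S p).appLE V V hUST).hom
    (fun a => frob_appLE p S V hUST a) _ _ hpo _ ?_ ?_
  · intro b
    have h1 := Scheme.Hom.appLE_comp_appLE (FrobSch.relFrob f p)
      (pullback.fst f (FrobSch.frob S p)) U UY U hfstle hle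
    have h2 := appLE_of_eq _ _ (FrobSch.relFrob_fst f p) U U
      (hle.trans (Scheme.Hom.preimage_mono _ hfstle)) (le_refl U)
    have h3 := congrArg (fun g => g.hom b) (h1.trans h2)
    exact h3.trans (frob_appLE p X U _ b)
  · intro a
    have h1 := Scheme.Hom.appLE_comp_appLE (FrobSch.relFrob f p)
      (pullback.snd f (FrobSch.frob S p)) V UY U hsndle hle
    have h2 := appLE_of_eq _ _ (FrobSch.relFrob_snd f p) V U
      (hle.trans (Scheme.Hom.preimage_mono _ hsndle)) hUle
    exact congrArg (fun g => g.hom a) (h1.trans h2)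

theorem main (p : ℕ) [Fact p.Prime] (S X : Scheme.{u})
    [FrobSch.IsCharP S p] (f : X ⟶ S) (d : ℕ) [SmoothOfRelativeDimension d f] :
    Synt.IsSyntomicMor (FrobSch.relFrob f p) := by
  haveI : Smooth f := SmoothOfRelativeDimension.smooth d f
  haveI := flat_relFrob p f
  haveI : Smooth (pullback.snd f (FrobSch.frob S p)) := inferInstance
  exact Groth.Agent.S19857.result f (pullback.snd f (FrobSch.frob S p)) (FrobSch.relFrob f p)
    (FrobSch.relFrob_snd f p)

end

open CategoryTheory AlgebraicGeometry in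
/-- For a prime p, a scheme S of characteristic p and a morphism f : X → S which is smooth of relative
dimension d, the relative Frobenius F_{X/S} : X → X^{(p)} is syntomic (the published assertion is
'finite syntomic'; finiteness of the relative Frobenius of a morphism locally of finite type is a
separate known result and is not restated; the assertion about the trace maps Θ on de Rham complexes
is not stated here). -/
theorem result (p : ℕ) [Fact p.Prime] (S X : Scheme.{u})
    [FrobSch.IsCharP S p] (f : X ⟶ S) (d : ℕ) [SmoothOfRelativeDimension d f] :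
    Synt.IsSyntomicMor (FrobSch.relFrob f p) := by
  exact Groth.Agent.S15541.main p S X f d

end Groth.Agent.S15541
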