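import Groth.Statements.S15545
import Mathlib

set_option autoImplicit false
open CategoryTheory AlgebraicGeometry
universe u
open FDesc

namespace Groth.Agent.S15545

open Topology

section LemmaB
variable {Y : Type*} [TopologicalSpace Y]

lemma cons_clopen [CompactSpace Y] {s : Set Y} (hs : IsConstructible s) :
    IsOpen[constructibleTopology Y] s ∧ IsOpen[constructibleTopology Y] sᶜ := by
  induction hs using IsConstructible.empty_union_induction with
  | open_retrocompact U hUopen hUcomp =>
    refine ⟨hUcomp.isCompact.isOpen_constructibleTopology_of_isOpen hUopen, ?_⟩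
    apply IsCompact.isOpen_constructibleTopology_of_isClosed
    · rw [compl_compl]; exact hUcomp.isCompact
    · exact hUopen.isClosed_compl
  | union s hs t ht hs' ht' =>
    refine ⟨@IsOpen.union _ _ _ (constructibleTopology Y) hs'.1 ht'.1, ?_⟩
    rw [Set.compl_union]
    exact @IsOpen.inter _ (constructibleTopology Y) _ _ hs'.2 ht'.2
  | compl s hs hs' =>
    refine ⟨hs'.2, ?_⟩
    rw [compl_compl]; exact hs'.1

lemma lemmaB [CompactSpace Y] [QuasiSober Y] [PrespectralSpace Y] [QuasiSeparatedSpace Y]
    (S : Set (Set Y)) (hS : ∀ T ∈ S, IsConstructible T) (x : Y) (hx : x ∈ closure (⋂₀ S)) :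
    ∃ z ∈ ⋂₀ S, z ⤳ x := by
  have hc : @CompactSpace Y (constructibleTopology Y) :=
    @Function.Surjective.compactSpace (WithConstructibleTopology Y) Y _ (constructibleTopology Y) _
      (WithTopology.continuous_ofTopology _) _ (WithTopology.ofTopology_surjective _)
  let F : Set (Set Y) := S ∪ {V | IsOpen V ∧ IsCompact V ∧ x ∈ V}
  have hFcl : ∀ i : F, IsClosed[constructibleTopology Y] (i : Set Y) := by
    rintro ⟨T, hT | hT⟩
    · exact @IsClosed.mk _ (constructibleTopology Y) _ (cons_clopen (hS T hT)).2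
    · refine @IsClosed.mk _ (constructibleTopology Y) _ ?_
      apply IsCompact.isOpen_constructibleTopology_of_isClosed
      · rw [compl_compl]; exact hT.2.1
      · exact hT.1.isClosed_compl
  by_contra hcon
  have hempty : (Set.univ : Set Y) ∩ ⋂ i : F, (i : Set Y) = ∅ := by
    rw [Set.univ_inter]
    by_contra hne
    obtain ⟨z, hz⟩ := Set.nonempty_iff_ne_empty.mpr hne
    rw [Set.mem_iInter] at hz
    apply hcon
    refine ⟨z, ?_, ?_⟩
    · intro T hT
      exact hz ⟨T, Or.inl hT⟩
    · rw [specializes_iff_forall_open]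
      intro U hU hxU
      obtain ⟨V, hV, hxV, hVU⟩ :=
        (PrespectralSpace.isTopologicalBasis (X := Y)).exists_subset_of_mem_open hxU hU
      exact hVU (hz ⟨V, Or.inr ⟨hV.1, hV.2, hxV⟩⟩)
  obtain ⟨u, hu⟩ := @IsCompact.elim_finite_subfamily_closed Y (constructibleTopology Y) _ _
    (@isCompact_univ Y (constructibleTopology Y) hc) (fun i : F => (i : Set Y)) hFcl hempty
  rw [Set.univ_inter] at hu
  -- the finite intersection of the open nbhds
  classical
  let V₀ : Set Y := ⋂ i ∈ u, if (i : Set Y) ∈ S then Set.univ else (i : Set Y)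
  have hV₀open : IsOpen V₀ := by
    apply isOpen_biInter_finset
    intro i _
    split_ifs with h
    · exact isOpen_univ
    · rcases i.2 with h' | h'
      · exact absurd h' h
      · exact h'.1
  have hxV₀ : x ∈ V₀ := by
    simp only [V₀, Set.mem_iInter]
    intro i _
    split_ifs with h
    · trivial
    · rcases i.2 with h' | h'
      · exact absurd h' h
      · exact h'.2.2
  obtain ⟨z, hzV, hzS⟩ := mem_closure_iff.mp hx V₀ hV₀open hxV₀
  have : z ∈ ⋂ i ∈ u, (i : Set Y) := by
    simp only [Set.mem_iInter]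
    intro i hi
    by_cases h : (i : Set Y) ∈ S
    · exact hzS _ h
    · have := hzV
      simp only [V₀, Set.mem_iInter] at this
      have h2 := this i hi
      rwa [if_neg h] at h2
  rw [hu] at this
  exact this

end LemmaB

lemma claimA {X : Scheme.{u}} (Z : Set X) (hZ : ProCons.IsProConstructible Z) (x : X)
    (hx : x ∈ closure Z) : ∃ z ∈ Z, z ⤳ x := by
  obtain ⟨U, hUo, hxU, S, hS, hE⟩ := hZ x
  obtain ⟨W, hW, hxW, hWU⟩ := X.isBasis_affineOpens.exists_subset_of_mem_open hxU hUo
  obtain ⟨W, rfl⟩ : ∃ W' : X.Opens, W = (W' : Set X) := by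
    obtain ⟨W', _, rfl⟩ := hW
    exact ⟨W', rfl⟩
  have hWaff : IsAffineOpen W := by
    obtain ⟨W', hW', h⟩ := hW
    have : W' = W := SetLike.coe_injective h
    exact this ▸ hW'
  have : CompactSpace ↥W := isCompact_iff_compactSpace.mp hWaff.isCompact
  have : QuasiSeparatedSpace ↥W :=
    (isQuasiSeparated_iff_quasiSeparatedSpace _ W.isOpen).mp hWaff.isQuasiSeparated
  have : QuasiSober ↥W := W.isOpenEmbedding'.quasiSober
  have : PrespectralSpace ↥W := W.isOpenEmbedding'.prespectralSpace
  let ι : ↥W → ↥U := Set.inclusion hWU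
  have hι : IsOpenEmbedding ι := by
    apply Topology.IsOpenEmbedding.inclusion
    exact W.isOpen.preimage continuous_subtype_val
  let S' : Set (Set ↥W) := (fun T => ι ⁻¹' T) '' S
  have hS' : ∀ T ∈ S', IsConstructible T := by
    rintro _ ⟨T, hT, rfl⟩
    exact ((hS T hT).preimage_of_isOpenEmbedding hι).isConstructible
  have hS'eq : ⋂₀ S' = (Subtype.val ⁻¹' Z : Set ↥W) := by
    ext w
    have h1 : (ι w ∈ (Subtype.val ⁻¹' Z : Set ↥U)) ↔ ι w ∈ ⋂₀ S := by rw [hE]
    simp only [S', Set.mem_sInter, Set.mem_image, forall_exists_index, and_imp,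
      forall_apply_eq_imp_iff₂, Set.mem_preimage] at h1 ⊢
    rw [← h1]
  have hxcl : (⟨x, hxW⟩ : ↥W) ∈ closure (⋂₀ S') := by
    rw [hS'eq, closure_subtype, Set.image_preimage_eq_inter_range, Subtype.range_coe_subtype]
    have := W.isOpen.inter_closure ⟨hxW, hx⟩
    rw [Set.inter_comm] at this
    exact this
  obtain ⟨z, hz, hzx⟩ := lemmaB S' hS' ⟨x, hxW⟩ hxcl
  rw [hS'eq] at hz
  exact ⟨z.1, hz, hzx.map continuous_subtype_val⟩

theorem main {X' X : Scheme.{u}} (f : X' ⟶ X)
    [Flat f] (Z : Set X) (hZ : ProCons.IsProConstructible Z)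
    (hd : Dense Z) : Dense (f.base ⁻¹' Z) := by
  intro x'
  obtain ⟨z, hz, hzx⟩ := claimA Z hZ (f.base x') (hd _)
  obtain ⟨η, hη, hfη⟩ := Flat.generalizingMap f hzx
  have : x' ∈ closure {η} := hη.mem_closure
  exact closure_mono (Set.singleton_subset_iff.mpr (by
    show f.base η ∈ Z
    rw [hfη]; exact hz)) this

/-- Let f : X' ⟶ X be flat, quasi-compact and surjective, and Z a pro-constructible subset of X (locally
on X an intersection of locally constructible subsets) which is dense in X. Then the preimage of Z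
under f is dense in X'. -/
theorem result {X' X : Scheme.{u}} (f : X' ⟶ X)
    [Flat f] [QuasiCompact f] [Surjective f] (Z : Set X) (hZ : ProCons.IsProConstructible Z)
    (hd : Dense Z) : Dense (f.base ⁻¹' Z) := by
  exact main f Z hZ hd

end Groth.Agent.S15545
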