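import Groth.Statements.S15546
import Mathlib

set_option autoImplicit false
open scoped TensorProduct
universe u
open Unram

namespace Groth.Agent.S15546

open Polynomial TensorProduct

theorem exists_sq_dvd_of_not_separable {K : Type*} [Field K] [IsAlgClosed K] (f : K[X])
    (hf0 : f ≠ 0) (hf : ¬ f.Separable) : ∃ a : K, (X - C a) ^ 2 ∣ f := by
  rw [PerfectField.separable_iff_squarefree] at hf
  unfold Squarefree at hf
  push Not at hf
  obtain ⟨g, hg, hgu⟩ := hf
  have hg0 : g ≠ 0 := by
    rintro rfl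
    rw [zero_mul, zero_dvd_iff] at hg
    exact hf0 hg
  have hdeg : g.degree ≠ 0 := by
    intro h0
    exact hgu (isUnit_iff_degree_eq_zero.mpr h0)
  obtain ⟨a, ha⟩ := IsAlgClosed.exists_root g hdeg
  refine ⟨a, ?_⟩
  have h1 : (X - C a) ∣ g := dvd_iff_isRoot.mpr ha
  calc (X - C a) ^ 2 = (X - C a) * (X - C a) := sq _
    _ ∣ g * g := mul_dvd_mul h1 h1
    _ ∣ f := hg

theorem key (k E K : Type*) [Field k] [Field E] [Algebra k E] [FiniteDimensional k E]
    [Field K] [Algebra k K] [IsAlgClosed K] (α : E) (hα : ¬ (minpoly k α).Separable) :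
    ∃ y : K ⊗[k] E, y ≠ 0 ∧ y ^ 2 = 0 := by
  have hint : IsIntegral k α := Algebra.IsIntegral.isIntegral α
  set f := minpoly k α with hf
  have hf0 : f ≠ 0 := minpoly.ne_zero hint
  set fK := f.map (algebraMap k K) with hfK
  have hfK0 : fK ≠ 0 := (Polynomial.map_ne_zero_iff (algebraMap k K).injective).mpr hf0
  have hns : ¬ fK.Separable := by
    rw [hfK, Polynomial.separable_map]; exact hα
  obtain ⟨a, h', hh'⟩ := exists_sq_dvd_of_not_separable fK hfK0 hns
  set h := (X - C a) * h' with hh
  have hh0 : h ≠ 0 := by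
    intro h0
    apply hfK0
    rw [hh', sq, mul_assoc, ← hh, h0, mul_zero]
  have hdeg : h.natDegree < f.natDegree := by
    have e1 : fK.natDegree = f.natDegree := Polynomial.natDegree_map _
    have e2 : fK = (X - C a) * h := by rw [hh', sq, mul_assoc]
    have e3 : fK.natDegree = (X - C a).natDegree + h.natDegree :=
      e2 ▸ Polynomial.natDegree_mul (X_sub_C_ne_zero a) hh0
    rw [natDegree_X_sub_C] at e3
    omega
  let Φ : K[X] →ₐ[K] K ⊗[k] E := Polynomial.aeval ((1 : K) ⊗ₜ[k] α)
  have hΦf : Φ fK = 0 := by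
    show Polynomial.aeval ((1 : K) ⊗ₜ[k] α) (f.map (algebraMap k K)) = 0
    rw [Polynomial.aeval_map_algebraMap]
    have : ((1 : K) ⊗ₜ[k] α) = (Algebra.TensorProduct.includeRight : E →ₐ[k] K ⊗[k] E) α := rfl
    rw [this, Polynomial.aeval_algHom_apply, hf, minpoly.aeval, map_zero]
  refine ⟨Φ h, ?_, ?_⟩
  · -- nonzero
    have hli : LinearIndependent K (fun i : Fin f.natDegree => (1 : K) ⊗ₜ[k] (α ^ (i : ℕ))) :=
      Module.Flat.linearIndependent_one_tmul (S := K) (linearIndependent_pow (K := k) α)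
    intro h0
    have hexp : Φ h = ∑ i : Fin f.natDegree, h.coeff i • ((1 : K) ⊗ₜ[k] (α ^ (i : ℕ))) := by
      show Polynomial.aeval ((1 : K) ⊗ₜ[k] α) h = _
      rw [Polynomial.aeval_eq_sum_range' hdeg, Finset.sum_range]
      refine Finset.sum_congr rfl fun i _ => ?_
      rw [Algebra.TensorProduct.tmul_pow, one_pow]
    rw [hexp] at h0
    have hc := Fintype.linearIndependent_iff.mp hli (fun i => h.coeff i) h0
    apply hh0
    ext i
    by_cases hi : i < f.natDegree
    · simpa using hc ⟨i, hi⟩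
    · rw [coeff_zero, Polynomial.coeff_eq_zero_of_natDegree_lt (by omega)]
  · rw [← map_pow]
    have : h ^ 2 = fK * h' := by rw [hh', hh]; ring
    rw [this, map_mul, hΦf, zero_mul]

/-- Let E be a finite extension of a field k which is not separable over k, and K an algebraic closure
of k. Then E ⊗_k K has a nonzero nilpotent element. -/
theorem result (k E K : Type u) [Field k] [Field E]
    [Algebra k E] [FiniteDimensional k E] [Field K] [Algebra k K] [IsAlgClosure k K]
    (h : ¬ Algebra.IsSeparable k E) : ∃ x : E ⊗[k] K, x ≠ 0 ∧ IsNilpotent x := by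
  have hα : ∃ α : E, ¬ (minpoly k α).Separable := by
    by_contra hall
    push Not at hall
    exact h ⟨fun x => hall x⟩
  obtain ⟨α, hα⟩ := hα
  haveI : IsAlgClosed K := IsAlgClosure.isAlgClosed k
  obtain ⟨y, hy0, hy2⟩ := key k E K α hα
  refine ⟨(Algebra.TensorProduct.comm k K E) y, ?_, ⟨2, ?_⟩⟩
  · intro h0
    apply hy0
    exact (Algebra.TensorProduct.comm k K E).injective (by rw [h0, map_zero])
  · rw [← map_pow, hy2, map_zero]

end Groth.Agent.S15546
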