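import Groth.Statements.S15555
import Groth.Agent.Lib.Helper23.HermHyp

set_option autoImplicit false
universe u
open CategoryTheory AlgebraicGeometry
open Zeta

namespace Groth.Agent.S15555

set_option linter.style.haveILetI false
set_option linter.unusedVariables false
set_option linter.unusedSectionVars false
open Polynomial Groth.Agent.Helper23.HermHyp
set_option linter.unusedVariables false
set_option linter.style.haveILetI false

variable {k : Type u} [Field k] {n : ℕ}

theorem aeval_F [Fintype k] (F : MvPolynomial (Fin (n + 1) ⊕ Fin (n + 1)) k)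
    (hF : F = ∑ i : Fin (n + 1), (MvPolynomial.X (Sum.inl i) * MvPolynomial.X (Sum.inr i) ^ Fintype.card k -
      MvPolynomial.X (Sum.inr i) * MvPolynomial.X (Sum.inl i) ^ Fintype.card k))
    (x : Fin (n + 1) ⊕ Fin (n + 1) → k[X]) :
    MvPolynomial.aeval x F = Fval (Fintype.card k) x := by
  rw [hF]
  unfold Fval
  simp only [map_sum, map_sub, map_mul, map_pow, MvPolynomial.aeval_X]

theorem aeval_L [Fintype k] (L : MvPolynomial (Fin (n + 1) ⊕ Fin (n + 1)) k)
    (c : Fin (n + 1) ⊕ Fin (n + 1) → k)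
    (hL : L = ∑ v, MvPolynomial.C (c v) * MvPolynomial.X v)
    (x : Fin (n + 1) ⊕ Fin (n + 1) → k[X]) :
    MvPolynomial.aeval x L = Lval c x := by
  rw [hL]
  unfold Lval
  simp only [map_sum, map_mul, MvPolynomial.aeval_X, MvPolynomial.aeval_C, Polynomial.algebraMap_eq]

theorem isNilpotent_ker_factor (N : ℕ) (hN : 1 ≤ N) :
    IsNilpotent (RingHom.ker (Ideal.Quotient.factorₐ k
      (Ideal.span_singleton_le_span_singleton.2 (pow_dvd_pow (X : k[X]) (Nat.le_succ N))) :
        (k[X] ⧸ Ideal.span {(X : k[X]) ^ (N + 1)}) →+* (k[X] ⧸ Ideal.span {(X : k[X]) ^ N}))) := by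
  refine ⟨2, ?_⟩
  rw [Ideal.Quotient.coe_factorₐ, Ideal.Quotient.factor_ker, ← Ideal.map_pow, Ideal.zero_eq_bot,
    Ideal.map_eq_bot_iff_le_ker, Ideal.mk_ker, Ideal.span_singleton_pow,
    Ideal.span_singleton_le_span_singleton, ← pow_mul]
  exact pow_dvd_pow _ (by omega)

theorem main (k : Type u) [Field k] [Fintype k] (n : ℕ) (hn : 1 ≤ n)
    (F L : MvPolynomial (Fin (n + 1) ⊕ Fin (n + 1)) k)
    (hF : F = ∑ i : Fin (n + 1), (MvPolynomial.X (Sum.inl i) * MvPolynomial.X (Sum.inr i) ^ Fintype.card k -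
      MvPolynomial.X (Sum.inr i) * MvPolynomial.X (Sum.inl i) ^ Fintype.card k))
    (c : Fin (n + 1) ⊕ Fin (n + 1) → k) (hc : c ≠ 0)
    (hL : L = ∑ v, MvPolynomial.C (c v) * MvPolynomial.X v) :
    ¬ ∀ w : Fin (n + 1) ⊕ Fin (n + 1),
      Smooth (Spec.map (CommRingCat.ofHom (algebraMap k
        (Localization.Away (Ideal.Quotient.mk (Ideal.span {F, L}) (MvPolynomial.X w)))))) := by
  intro hall
  obtain ⟨p, hchar, m, hp, hq⟩ := FiniteField.card' k
  haveI := hchar
  haveI : Fact p.Prime := ⟨hp⟩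
  have hq2 : 2 ≤ p ^ (m : ℕ) := by rw [← hq]; exact Fintype.one_lt_card
  obtain ⟨v₀, hv₀⟩ := Function.ne_iff.1 hc
  simp only [Pi.zero_apply] at hv₀
  obtain ⟨j, hj1, hj2⟩ : ∃ j : Fin (n + 1), Sum.inl j ≠ v₀ ∧ Sum.inr j ≠ v₀ := by
    haveI : Nontrivial (Fin (n + 1)) := Fin.nontrivial_iff_two_le.2 (by omega)
    obtain ⟨j, hj⟩ := exists_ne (Sum.elim id id v₀ : Fin (n + 1))
    refine ⟨j, ?_, ?_⟩
    · intro h; apply hj; rw [← h]; rfl
    · intro h; apply hj; rw [← h]; rfl
  set w := Sum.swap v₀ with hw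
  have hsm := hall w
  have hA : Algebra.Smooth k (Localization.Away (Ideal.Quotient.mk (Ideal.span {F, L})
      (MvPolynomial.X w))) :=
    RingHom.smooth_algebraMap.1 ((HasRingHomProperty.Spec_iff (P := @Smooth)).1 hsm)
  haveI : Algebra.FormallySmooth k (Localization.Away (Ideal.Quotient.mk (Ideal.span {F, L})
      (MvPolynomial.X w))) := hA.formallySmooth
  set q := p ^ (m : ℕ) with hq_def
  set J : Ideal (MvPolynomial (Fin (n + 1) ⊕ Fin (n + 1)) k) := Ideal.span {F, L} with hJ
  set xw := Ideal.Quotient.mk J (MvPolynomial.X w) with hxw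
  have hFJ : F ∈ J := Ideal.subset_span (by simp)
  have hLJ : L ∈ J := Ideal.subset_span (by simp)
  -- the curve
  let γ : MvPolynomial (Fin (n + 1) ⊕ Fin (n + 1)) k →ₐ[k] k[X] := MvPolynomial.aeval (gam c v₀ j)
  have hγF : γ F = X ^ (q + 2) - X ^ (2 * q + 1) := by
    change MvPolynomial.aeval (gam c v₀ j) F = _
    rw [aeval_F F hF, hq]
    exact Fval_gam p m hq c v₀ j hv₀ hj1 hj2
  have hγL : γ L = 0 := by
    change MvPolynomial.aeval (gam c v₀ j) L = _
    rw [aeval_L L c hL]
    exact Lval_gam c v₀ j hv₀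
  have hle : Ideal.span {(X : k[X]) ^ (q + 2 + 1)} ≤ Ideal.span {(X : k[X]) ^ (q + 2)} :=
    Ideal.span_singleton_le_span_singleton.2 (pow_dvd_pow (X : k[X]) (Nat.le_succ (q + 2)))
  let g := Ideal.Quotient.factorₐ k hle
  have hgsurj : Function.Surjective g := Ideal.Quotient.factor_surjective hle
  have hgnil : IsNilpotent (RingHom.ker (g : (k[X] ⧸ Ideal.span {(X : k[X]) ^ (q + 2 + 1)}) →+*
      (k[X] ⧸ Ideal.span {(X : k[X]) ^ (q + 2)}))) := isNilpotent_ker_factor (q + 2) (by omega)
  -- the map from the quotient ring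
  have hJker : ∀ a ∈ J, ((Ideal.Quotient.mkₐ k (Ideal.span {(X : k[X]) ^ (q + 2)})).comp γ) a = 0 := by
    intro a ha
    have : J ≤ RingHom.ker ((Ideal.Quotient.mkₐ k (Ideal.span {(X : k[X]) ^ (q + 2)})).comp γ) := by
      rw [hJ, Ideal.span_le]
      intro x hx
      simp only [Set.mem_insert_iff, Set.mem_singleton_iff] at hx
      rcases hx with rfl | rfl
      · rw [SetLike.mem_coe, RingHom.mem_ker]
        change Ideal.Quotient.mk _ (γ x) = 0
        rw [hγF, Ideal.Quotient.eq_zero_iff_mem, Ideal.mem_span_singleton]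
        exact dvd_sub dvd_rfl (pow_dvd_pow _ (by omega))
      · rw [SetLike.mem_coe, RingHom.mem_ker]
        change Ideal.Quotient.mk _ (γ x) = 0
        rw [hγL, map_zero]
    exact (RingHom.mem_ker).1 (this ha)
  let f₀ : (MvPolynomial (Fin (n + 1) ⊕ Fin (n + 1)) k ⧸ J) →ₐ[k]
      (k[X] ⧸ Ideal.span {(X : k[X]) ^ (q + 2)}) :=
    Ideal.Quotient.liftₐ J ((Ideal.Quotient.mkₐ k (Ideal.span {(X : k[X]) ^ (q + 2)})).comp γ) hJker
  have hf₀ : ∀ a, f₀ (Ideal.Quotient.mk J a) = Ideal.Quotient.mk _ (γ a) := fun a => rfl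
  have hγw : γ (MvPolynomial.X w) = C (Pt c w) := by
    change MvPolynomial.aeval (gam c v₀ j) (MvPolynomial.X w) = _
    rw [MvPolynomial.aeval_X]
    unfold gam
    rw [hw, yy_swap c v₀ j hj1 hj2, add_zero]
  have hPtw : Pt c w ≠ 0 := by
    rw [hw]
    cases v₀ with
    | inl i => simpa [Pt] using hv₀
    | inr i => simpa [Pt] using hv₀
  have hunit : ∀ y : Submonoid.powers xw, IsUnit (f₀ y) := by
    rintro ⟨_, e, rfl⟩
    rw [map_pow]
    apply IsUnit.pow
    rw [hxw, hf₀, hγw]
    exact ((isUnit_C.2 (isUnit_iff_ne_zero.2 hPtw)).map _)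
  let f : Localization.Away xw →ₐ[k] (k[X] ⧸ Ideal.span {(X : k[X]) ^ (q + 2)}) :=
    IsLocalization.liftAlgHom (M := Submonoid.powers xw) (f := f₀) hunit
  have hf : ∀ a, f (algebraMap _ _ a) = f₀ a := fun a => IsLocalization.lift_eq _ a
  let g' := Algebra.FormallySmooth.liftOfSurjective f g hgsurj hgnil
  have hg' : ∀ x, g (g' x) = f x := Algebra.FormallySmooth.liftOfSurjective_apply f g hgsurj hgnil
  -- representatives of the images of the variables
  have hex : ∀ v : Fin (n + 1) ⊕ Fin (n + 1), ∃ P' : k[X],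
      Ideal.Quotient.mk (Ideal.span {(X : k[X]) ^ (q + 2 + 1)}) P' =
        g' (algebraMap _ _ (Ideal.Quotient.mk J (MvPolynomial.X v))) :=
    fun v => Ideal.Quotient.mk_surjective _
  choose P' hP' using hex
  have hP'γ : ∀ v, X ^ (q + 2) ∣ P' v - gam c v₀ j v := by
    intro v
    have h1 : g (Ideal.Quotient.mk _ (P' v)) = Ideal.Quotient.mk _ (gam c v₀ j v) := by
      rw [hP', hg', hf, hf₀]
      change Ideal.Quotient.mk _ (MvPolynomial.aeval (gam c v₀ j) (MvPolynomial.X v)) = _
      rw [MvPolynomial.aeval_X]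
    have h2 : g (Ideal.Quotient.mk _ (P' v)) = Ideal.Quotient.mk _ (P' v) := rfl
    rw [h2, Ideal.Quotient.eq, Ideal.mem_span_singleton] at h1
    exact h1
  -- compare the two algebra maps from the polynomial ring
  have hcomp : (g'.comp ((IsScalarTower.toAlgHom k (MvPolynomial (Fin (n + 1) ⊕ Fin (n + 1)) k ⧸ J)
      (Localization.Away xw)).comp (Ideal.Quotient.mkₐ k J))) =
      (Ideal.Quotient.mkₐ k (Ideal.span {(X : k[X]) ^ (q + 2 + 1)})).comp (MvPolynomial.aeval P') := by
    apply MvPolynomial.algHom_ext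
    intro v
    change g' (algebraMap _ _ (Ideal.Quotient.mk J (MvPolynomial.X v))) =
      Ideal.Quotient.mk _ (MvPolynomial.aeval P' (MvPolynomial.X v))
    rw [MvPolynomial.aeval_X, hP']
  have hzero : ∀ a ∈ J, X ^ (q + 2 + 1) ∣ MvPolynomial.aeval P' a := by
    intro a ha
    have h1 := AlgHom.congr_fun hcomp a
    have h2 : (g'.comp ((IsScalarTower.toAlgHom k (MvPolynomial (Fin (n + 1) ⊕ Fin (n + 1)) k ⧸ J)
        (Localization.Away xw)).comp (Ideal.Quotient.mkₐ k J))) a = 0 := by
      change g' (algebraMap _ _ (Ideal.Quotient.mk J a)) = 0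
      rw [Ideal.Quotient.eq_zero_iff_mem.2 ha, map_zero, map_zero]
    rw [h2] at h1
    have h3 : Ideal.Quotient.mk (Ideal.span {(X : k[X]) ^ (q + 2 + 1)}) (MvPolynomial.aeval P' a) = 0 :=
      h1.symm
    rwa [Ideal.Quotient.eq_zero_iff_mem, Ideal.mem_span_singleton] at h3
  have hLz := hzero L hLJ
  have hFz := hzero F hFJ
  rw [aeval_L L c hL] at hLz
  rw [aeval_F F hF, hq] at hFz
  exact poly_contra p m hq hq2 c v₀ j hv₀ hj1 hj2 P' hP'γ hLz hFz

/-- Let k be a finite field with q elements and n ≥ 1 a natural number; in the 2n + 2 variables X_0, …,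
X_n, Y_0, …, Y_n (indexed by Fin (n+1) ⊕ Fin (n+1), the left summand carrying the X_i) let F = Σ_i
(X_i Y_i^q − Y_i X_i^q), a form of degree q + 1 defining the hypersurface Hyp ⊂ P^{2n+1}_k. Then no
hyperplane of P^{2n+1}_k defined over k meets Hyp transversally: for every linear form L = Σ_v c_v
x_v with a nonzero coefficient vector c over k, the scheme-theoretic intersection Hyp ∩ (L = 0) ⊂
P^{2n+1}_k is not smooth over k. The intersection is presented through the standard open pieces of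
its affine cone: with R = k[X, Y]/(F, L), the piece x_w ≠ 0 of the cone Spec R is (Hyp ∩ (L = 0) ∩
D₊(x_w)) × 𝔾_m, so Hyp ∩ (L = 0) is smooth over k exactly when every localisation R[1/x_w] is a
smooth k-algebra, and the row states that not all of them are. (The published example is stated for
every n ≥ 0; for n = 0 the hypersurface is the set of the q + 1 rational points of P^1_k, it
contains every rational point H, and Hyp ∩ H = H is a reduced point, smooth over k; so this row
takes n ≥ 1, where no rational hyperplane is contained in Hyp and each one is tangent to Hyp at a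
rational point, at which the intersection is singular.) -/
theorem result (k : Type u) [Field k] [Fintype k] (n : ℕ) (hn : 1 ≤ n)
    (F L : MvPolynomial (Fin (n + 1) ⊕ Fin (n + 1)) k)
    (hF : F = ∑ i : Fin (n + 1), (MvPolynomial.X (Sum.inl i) * MvPolynomial.X (Sum.inr i) ^ Fintype.card k -
      MvPolynomial.X (Sum.inr i) * MvPolynomial.X (Sum.inl i) ^ Fintype.card k))
    (c : Fin (n + 1) ⊕ Fin (n + 1) → k) (hc : c ≠ 0)
    (hL : L = ∑ v, MvPolynomial.C (c v) * MvPolynomial.X v) :
    ¬ ∀ w : Fin (n + 1) ⊕ Fin (n + 1),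
      Smooth (Spec.map (CommRingCat.ofHom (algebraMap k
        (Localization.Away (Ideal.Quotient.mk (Ideal.span {F, L}) (MvPolynomial.X w)))))) := by
  exact main k n hn F L hF c hc hL

end Groth.Agent.S15555
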