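import Groth.Statements.S15568
import Mathlib.Analysis.Convex.Segment
import Mathlib.Analysis.Convex.Topology
import Mathlib.Topology.Order.IntermediateValue
import Mathlib.Data.Sign.Basic

set_option autoImplicit false
universe u
open QuiverStab

namespace Groth.Agent.S15568

/-- the pairing of a weight with a dimension vector -/
noncomputable def pr {I : Type u} [Fintype I] (d' : I → ℕ) (θ : I → ℝ) : ℝ := ∑ i, θ i * (d' i : ℝ)

theorem pr_comb {I : Type u} [Fintype I] (d' : I → ℕ) (θ₁ θ₂ : I → ℝ) (a b : ℝ) :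
    pr d' (a • θ₁ + b • θ₂) = a * pr d' θ₁ + b * pr d' θ₂ := by
  simp only [pr, Pi.add_apply, Pi.smul_apply, smul_eq_mul, Finset.mul_sum, ← Finset.sum_add_distrib]
  apply Finset.sum_congr rfl
  intro i _
  ring

theorem pr_continuous {I : Type u} [Fintype I] (d' : I → ℕ) : Continuous (pr d') := by
  unfold pr
  fun_prop

theorem sign_eq_of_same {x y : ℝ} (h0 : x = 0 → y = 0) (hp : 0 < x → 0 < y) (hn : x < 0 → y < 0) :
    SignType.sign x = SignType.sign y := by
  rcases lt_trichotomy x 0 with h | h | h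
  · rw [sign_neg h, sign_neg (hn h)]
  · rw [h, h0 h]
  · rw [sign_pos h, sign_pos (hp h)]

theorem same_of_sign_eq {x y : ℝ} (h : SignType.sign x = SignType.sign y) :
    (x = 0 → y = 0) ∧ (0 < x → 0 < y) ∧ (x < 0 → y < 0) := by
  refine ⟨fun hx => ?_, fun hx => ?_, fun hx => ?_⟩
  · rw [hx, sign_zero] at h
    exact sign_eq_zero_iff.mp h.symm
  · rw [sign_pos hx] at h
    exact sign_eq_one_iff.mp h.symm
  · rw [sign_neg hx] at h
    exact sign_eq_neg_one_iff.mp h.symm

/-- Walls and chambers for stability weights of a quiver. Let I be the finite vertex set, d ∈ ℕ^I a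
dimension vector, and call two weights θ₁, θ₂ ∈ ℝ^I orthogonal to d numerically equivalent when, for
every d′ ≤ d in ℕ^I, the numbers θ₁·d′ and θ₂·d′ are both positive, both negative or both zero. The
walls are the hyperplanes W(d′) = {θ ⊥ d : θ·d′ = 0} of d^⊥ for d′ ≤ d such that d is not a multiple
of d′. Then θ₁ and θ₂ are numerically equivalent if and only if there is a set J₁ of such d′ for
which θ₁ and θ₂ lie in the same connected component of the locally closed subset of d^⊥ consisting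
of the weights lying on W(d₁) for every d₁ ∈ J₁ and off W(d₂) for every other wall W(d₂). (Only the
quiver's vertex set enters; multiples are taken with natural-number factors.) -/
theorem result
    (I : Type u) [Fintype I] (d : I → ℕ) (θ₁ θ₂ : I → ℝ)
    (h₁ : ∑ i, θ₁ i * (d i : ℝ) = 0) (h₂ : ∑ i, θ₂ i * (d i : ℝ) = 0) :
    (∀ d' : I → ℕ, d' ≤ d →
        SignType.sign (∑ i, θ₁ i * (d' i : ℝ)) = SignType.sign (∑ i, θ₂ i * (d' i : ℝ))) ↔
    ∃ J₁ : Set (I → ℕ), J₁ ⊆ {d' | d' ≤ d ∧ ¬ ∃ m : ℕ, d = m • d'} ∧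
      θ₂ ∈ connectedComponentIn
        {θ : I → ℝ | ∑ i, θ i * (d i : ℝ) = 0 ∧ (∀ d₁ ∈ J₁, ∑ i, θ i * (d₁ i : ℝ) = 0) ∧
          ∀ d₂ : I → ℕ, d₂ ≤ d → (¬ ∃ m : ℕ, d = m • d₂) → d₂ ∉ J₁ →
            ∑ i, θ i * (d₂ i : ℝ) ≠ 0} θ₁ := by
  classical
  change (∀ d' : I → ℕ, d' ≤ d → SignType.sign (pr d' θ₁) = SignType.sign (pr d' θ₂)) ↔
    ∃ J₁ : Set (I → ℕ), J₁ ⊆ {d' | d' ≤ d ∧ ¬ ∃ m : ℕ, d = m • d'} ∧
      θ₂ ∈ connectedComponentIn
        {θ : I → ℝ | pr d θ = 0 ∧ (∀ d₁ ∈ J₁, pr d₁ θ = 0) ∧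
          ∀ d₂ : I → ℕ, d₂ ≤ d → (¬ ∃ m : ℕ, d = m • d₂) → d₂ ∉ J₁ → pr d₂ θ ≠ 0} θ₁
  have h₁' : pr d θ₁ = 0 := h₁
  have h₂' : pr d θ₂ = 0 := h₂
  constructor
  · intro hsign
    refine ⟨{d' | (d' ≤ d ∧ ¬ ∃ m : ℕ, d = m • d') ∧ pr d' θ₁ = 0}, fun d' hd' => hd'.1, ?_⟩
    have hseg : segment ℝ θ₁ θ₂ ⊆ {θ : I → ℝ | pr d θ = 0 ∧
        (∀ d₁ ∈ {d' | (d' ≤ d ∧ ¬ ∃ m : ℕ, d = m • d') ∧ pr d' θ₁ = 0}, pr d₁ θ = 0) ∧
          ∀ d₂ : I → ℕ, d₂ ≤ d → (¬ ∃ m : ℕ, d = m • d₂) →
            d₂ ∉ {d' | (d' ≤ d ∧ ¬ ∃ m : ℕ, d = m • d') ∧ pr d' θ₁ = 0} → pr d₂ θ ≠ 0} := by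
      rintro θ ⟨a, b, ha, hb, hab, rfl⟩
      refine ⟨?_, ?_, ?_⟩
      · rw [pr_comb, h₁', h₂']; simp
      · rintro d₁ ⟨⟨hd₁, _⟩, h0⟩
        have := (same_of_sign_eq (hsign d₁ hd₁)).1 h0
        rw [pr_comb, h0, this]; simp
      · intro d₂ hd₂ hwall hnot
        have hne : pr d₂ θ₁ ≠ 0 := fun h0 => hnot ⟨⟨hd₂, hwall⟩, h0⟩
        obtain ⟨-, hp, hn⟩ := same_of_sign_eq (hsign d₂ hd₂)
        rw [pr_comb]
        rcases lt_or_gt_of_ne hne with hlt | hgt
        · have h2 := hn hlt
          have : a * pr d₂ θ₁ + b * pr d₂ θ₂ < 0 := by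
            rcases eq_or_lt_of_le ha with ha0 | ha0
            · have hb1 : b = 1 := by linarith
              rw [← ha0, hb1]; linarith
            · nlinarith
          exact ne_of_lt this
        · have h2 := hp hgt
          have : 0 < a * pr d₂ θ₁ + b * pr d₂ θ₂ := by
            rcases eq_or_lt_of_le ha with ha0 | ha0
            · have hb1 : b = 1 := by linarith
              rw [← ha0, hb1]; linarith
            · nlinarith
          exact ne_of_gt this
    exact (convex_segment θ₁ θ₂).isPreconnected.subset_connectedComponentIn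
      (left_mem_segment ℝ θ₁ θ₂) hseg (right_mem_segment ℝ θ₁ θ₂)
  · rintro ⟨J₁, hJ₁, hmem⟩
    set S := {θ : I → ℝ | pr d θ = 0 ∧ (∀ d₁ ∈ J₁, pr d₁ θ = 0) ∧
          ∀ d₂ : I → ℕ, d₂ ≤ d → (¬ ∃ m : ℕ, d = m • d₂) → d₂ ∉ J₁ → pr d₂ θ ≠ 0} with hS
    have hθ₁S : θ₁ ∈ S := by
      by_contra hnot
      rw [connectedComponentIn_eq_empty hnot] at hmem
      exact hmem
    have hCS := connectedComponentIn_subset S θ₁
    have hθ₂S : θ₂ ∈ S := hCS hmem
    have hθ₁C : θ₁ ∈ connectedComponentIn S θ₁ := mem_connectedComponentIn hθ₁S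
    have hpre : IsPreconnected (connectedComponentIn S θ₁) := isPreconnected_connectedComponentIn
    intro d' hd'
    by_cases hwall : ∃ m : ℕ, d = m • d'
    · obtain ⟨m, hm⟩ := hwall
      have hzero : ∀ θ : I → ℝ, pr d θ = 0 → pr d' θ = 0 := by
        intro θ hθ
        rcases Nat.eq_zero_or_pos m with hm0 | hmpos
        · have hd0 : d' = 0 := by
            funext i
            have h1 : d' i ≤ d i := hd' i
            have h2 : d i = 0 := by
              have h3 := congrFun hm i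
              rw [hm0] at h3
              simpa using h3
            simp only [Pi.zero_apply]
            omega
          simp [pr, hd0]
        · have h1 : pr d θ = (m : ℝ) * pr d' θ := by
            simp only [pr, Finset.mul_sum]
            apply Finset.sum_congr rfl
            intro i _
            have h2 := congrFun hm i
            simp only [Pi.smul_apply, smul_eq_mul] at h2
            rw [h2]; push_cast; ring
          rw [h1] at hθ
          rcases mul_eq_zero.mp hθ with h | h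
          · exact absurd h (by positivity)
          · exact h
      rw [hzero θ₁ h₁', hzero θ₂ h₂']
    · by_cases hJ : d' ∈ J₁
      · rw [hθ₁S.2.1 d' hJ, hθ₂S.2.1 d' hJ]
      · have hne : ∀ θ ∈ connectedComponentIn S θ₁, pr d' θ ≠ 0 :=
          fun θ hθ => (hCS hθ).2.2 d' hd' hwall hJ
        apply sign_eq_of_same
        · intro h0; exact absurd h0 (hne θ₁ hθ₁C)
        · intro hpos
          by_contra hnp
          have hle : pr d' θ₂ ≤ 0 := not_lt.mp hnp
          have hcont : ContinuousOn (pr d') (connectedComponentIn S θ₁) :=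
            (pr_continuous d').continuousOn
          have := hpre.intermediate_value hmem hθ₁C hcont
          obtain ⟨θ, hθ, h0⟩ := this ⟨hle, hpos.le⟩
          exact hne θ hθ h0
        · intro hneg
          by_contra hnp
          have hle : 0 ≤ pr d' θ₂ := not_lt.mp hnp
          have hcont : ContinuousOn (pr d') (connectedComponentIn S θ₁) :=
            (pr_continuous d').continuousOn
          have := hpre.intermediate_value hθ₁C hmem hcont
          obtain ⟨θ, hθ, h0⟩ := this ⟨hneg.le, hle⟩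
          exact hne θ hθ h0

end Groth.Agent.S15568
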