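import Groth.Statements.S15578
import Groth.Agent.Lib.Helper23.RInvLib
import Groth.Agent.Lib.Helper23.RInvLoc
import Groth.Agent.Lib.Helper6.HenselTransfer
import Groth.Agent.Lib.Helper1.HenselFinite

set_option autoImplicit false
universe u v
open RInv

namespace Groth.Agent.S15578

set_option linter.style.haveILetI false
set_option linter.unusedVariables false
set_option linter.unusedSectionVars false
open RInv Groth.Agent.Helper23.RInvLib Groth.Agent.Helper23.RInvLoc IsLocalRing Polynomial
open Groth.Agent.Lib.Helper6.HenselTransfer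

/-- an algebraic extension of a separably closed field is separably closed -/
theorem isSepClosed_of_isAlgebraic (K : Type u) (L : Type v) [Field K] [Field L] [Algebra K L]
    [Algebra.IsAlgebraic K L] [IsSepClosed K] : IsSepClosed L := by
  apply IsSepClosed.of_exists_root
  intro p hpm hirr hsep
  haveI : Algebra.IsAlgebraic K (AlgebraicClosure L) :=
    Algebra.IsAlgebraic.trans K L (AlgebraicClosure L)
  haveI : IsPurelyInseparable K (AlgebraicClosure L) := inferInstance
  haveI : IsPurelyInseparable L (AlgebraicClosure L) :=
    IsPurelyInseparable.tower_top K L (AlgebraicClosure L)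
  obtain ⟨α, hα⟩ := IsAlgClosed.exists_aeval_eq_zero (AlgebraicClosure L) p
    (degree_pos_of_irreducible hirr).ne'
  have hsepα : IsSeparable L α := hsep.of_dvd (minpoly.dvd L α hα)
  obtain ⟨x, hx⟩ := IsPurelyInseparable.inseparable L α hsepα
  refine ⟨x, ?_⟩
  rw [← hx, Polynomial.aeval_algebraMap_apply] at hα
  rw [Polynomial.coe_aeval_eq_eval] at hα
  exact (FaithfulSMul.algebraMap_injective L (AlgebraicClosure L)) (by rw [hα, map_zero])

/-- a local ring integral over a henselian local ring is henselian (universe-polymorphic) -/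
theorem henselian_of_isIntegral (S : Type u) [CommRing S] [HenselianLocalRing S]
    (C : Type v) [CommRing C] [IsLocalRing C] [Algebra S C] [Algebra.IsIntegral S C] :
    HenselianLocalRing C := by
  let eS : ULift.{v} S ≃+* S := ULift.ringEquiv
  let eC : ULift.{u} C ≃+* C := ULift.ringEquiv
  haveI : HenselianLocalRing (ULift.{v} S) := henselianLocalRing_of_ringEquiv eS.symm
  haveI : IsLocalRing (ULift.{u} C) := eC.symm.isLocalRing
  let alg : Algebra (ULift.{v} S) (ULift.{u} C) :=
    ((eC.symm : C →+* ULift.{u} C).comp ((algebraMap S C).comp (eS : ULift.{v} S →+* S))).toAlgebra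
  have hint : @Algebra.IsIntegral (ULift.{v} S) (ULift.{u} C) _ _ alg := by
    rw [← algebraMap_isIntegral_iff]
    change ((eC.symm : C →+* ULift.{u} C).comp
      ((algebraMap S C).comp (eS : ULift.{v} S →+* S))).IsIntegral
    apply RingHom.IsIntegral.trans
    · apply RingHom.IsIntegral.trans
      · exact RingHom.isIntegral_of_surjective _ eS.surjective
      · exact algebraMap_isIntegral_iff.mpr inferInstance
    · exact RingHom.isIntegral_of_surjective _ eC.symm.surjective
  haveI := @Groth.Agent.Helper1.IH.henselianLocalRing_of_isIntegral (ULift.{v} S) _ _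
    (ULift.{u} C) _ _ alg hint
  exact henselianLocalRing_of_ringEquiv eC

section Loc

variable (S : Type u) (T : Type v) [CommRing S] [CommRing T] [Algebra S T] [Algebra.IsIntegral S T]
  [IsLocalRing S] [IsLocalRing T]

theorem isLocalHom_of_isIntegral : IsLocalHom (algebraMap S T) := by
  constructor
  intro s hs
  by_contra hns
  have hmem : s ∈ maximalIdeal S := (mem_maximalIdeal s).mpr hns
  haveI hmax : ((maximalIdeal T).comap (algebraMap S T)).IsMaximal :=
    Ideal.isMaximal_comap_of_isIntegral_of_isMaximal (maximalIdeal T)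
  have heq : (maximalIdeal T).comap (algebraMap S T) = maximalIdeal S :=
    IsLocalRing.eq_maximalIdeal hmax
  rw [← heq, Ideal.mem_comap, mem_maximalIdeal] at hmem
  exact hmem hs

theorem isSepClosed_residue [IsSepClosed (ResidueField S)] : IsSepClosed (ResidueField T) := by
  haveI := isLocalHom_of_isIntegral S T
  haveI : Algebra.IsAlgebraic (ResidueField S) (ResidueField T) := by
    constructor
    intro x
    obtain ⟨t, rfl⟩ := residue_surjective x
    obtain ⟨p, hpm, hp⟩ := Algebra.IsIntegral.isIntegral (R := S) t
    apply IsIntegral.isAlgebraic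
    refine ⟨p.map (residue S), hpm.map _, ?_⟩
    rw [Polynomial.eval₂_map]
    have h1 : (algebraMap (ResidueField S) (ResidueField T)).comp (residue S) =
        (residue T).comp (algebraMap S T) := by
      ext s; rfl
    rw [h1, ← Polynomial.hom_eval₂, hp, map_zero]
  exact isSepClosed_of_isAlgebraic (ResidueField S) (ResidueField T)

end Loc

section Main

theorem sh (S : Type u) (T : Type v) [CommRing S] [CommRing T] [Algebra S T]
    [Algebra.IsIntegral S T] [HenselianLocalRing S] [IsSepClosed (ResidueField S)]
    (hloc : IsLocalRing T) :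
    ∃ _ : HenselianLocalRing T, IsSepClosed (ResidueField T) :=
  ⟨henselian_of_isIntegral S T, isSepClosed_residue S T⟩

theorem isLocalRing_quot {R : Type v} [CommRing R] (I M : Ideal R) [hM : M.IsMaximal] (hIM : I ≤ M)
    (h : ∀ N : Ideal R, N.IsMaximal → I ≤ N → N = M) : IsLocalRing (R ⧸ I) := by
  have hne : I ≠ ⊤ := fun h' => hM.ne_top (top_le_iff.mp (h' ▸ hIM))
  haveI : Nontrivial (R ⧸ I) := Ideal.Quotient.nontrivial_iff.mpr hne
  have hcomap : ∀ N' : Ideal (R ⧸ I), N'.IsMaximal → N' = M.map (Ideal.Quotient.mk I) := by
    intro N' hN'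
    have h1 : (N'.comap (Ideal.Quotient.mk I)).IsMaximal :=
      Ideal.comap_isMaximal_of_surjective _ Ideal.Quotient.mk_surjective
    have h2 : I ≤ N'.comap (Ideal.Quotient.mk I) := by
      intro x hx
      rw [Ideal.mem_comap, Ideal.Quotient.eq_zero_iff_mem.mpr hx]
      exact N'.zero_mem
    rw [← h _ h1 h2, Ideal.map_comap_of_surjective _ Ideal.Quotient.mk_surjective]
  obtain ⟨N₀, hN₀⟩ := Ideal.exists_maximal (R ⧸ I)
  refine IsLocalRing.of_unique_max_ideal ⟨N₀, hN₀, ?_⟩
  intro N' hN'
  rw [hcomap N' hN', hcomap N₀ hN₀]

variable (S : Type u) (R : Type v) [CommRing S] [CommRing R] [Algebra S R] (lam : R ≃+* R)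
  (hlam : Function.Involutive lam) (hS : IsFixedRing S R lam)
  [HenselianLocalRing S] [IsSepClosed (ResidueField S)]

include hlam hS in
theorem main : ∃ (ι : Type) (_ : Fintype ι) (T : ι → Type v) (_ : ∀ i, CommRing (T i))
      (_ : ∀ i, HenselianLocalRing (T i)),
      (∀ i, IsSepClosed (IsLocalRing.ResidueField (T i))) ∧ Nonempty (R ≃+* (∀ i, T i)) := by
  classical
  haveI : Algebra.IsIntegral S R := algebra_isIntegral hlam hS
  haveI : Nontrivial R := hS.1.nontrivial
  obtain ⟨M, hM⟩ := Ideal.exists_maximal R
  haveI hM'max : (M.comap (lam : R →+* R)).IsMaximal :=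
    Ideal.comap_isMaximal_of_surjective _ lam.surjective
  by_cases hMM : M.comap (lam : R →+* R) = M
  · have hloc : IsLocalRing R := by
      refine IsLocalRing.of_unique_max_ideal ⟨M, hM, ?_⟩
      intro N hN
      rcases isMaximal_eq_or_eq_comap hlam hS M N with h | h
      · exact h
      · rw [h, hMM]
    obtain ⟨hh, hsc⟩ := sh S R hloc
    refine ⟨Unit, inferInstance, fun _ => R, fun _ => inferInstance, fun _ => hh, fun _ => hsc, ?_⟩
    exact ⟨(RingEquiv.piUnique (fun _ : Unit => R)).symm⟩
  · -- two maximal ideals
    obtain ⟨s, hsM, hsM'⟩ : ∃ s, s ∈ M ∧ s ∉ M.comap (lam : R →+* R) := by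
      by_contra hcon
      push Not at hcon
      exact hMM (hM.eq_of_le hM'max.ne_top hcon).symm
    let S' : Subalgebra S R := Algebra.adjoin S {s}
    haveI hfin : Module.Finite S S' :=
      Algebra.finite_adjoin_of_finite_of_isIntegral (Set.finite_singleton s)
        (fun x _ => Algebra.IsIntegral.isIntegral x)
    haveI : Algebra.IsIntegral S' R := Algebra.IsIntegral.tower_top S
    haveI hQ₁ : (M.comap (algebraMap S' R)).IsMaximal :=
      Ideal.isMaximal_comap_of_isIntegral_of_isMaximal M
    haveI hQ₂ : ((M.comap (lam : R →+* R)).comap (algebraMap S' R)).IsMaximal :=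
      Ideal.isMaximal_comap_of_isIntegral_of_isMaximal _
    have hsS' : s ∈ S' := Algebra.subset_adjoin (Set.mem_singleton s)
    have hne : M.comap (algebraMap S' R) ≠ (M.comap (lam : R →+* R)).comap (algebraMap S' R) := by
      intro heq
      have h1 : (⟨s, hsS'⟩ : S') ∈ M.comap (algebraMap S' R) := hsM
      rw [heq] at h1
      exact hsM' h1
    obtain ⟨e₀, he₀, h1, h2⟩ := Groth.Agent.Helper1.exists_isIdempotentElem_mem_notMem (R := S)
      (M.comap (algebraMap S' R)) ((M.comap (lam : R →+* R)).comap (algebraMap S' R)) hne
    obtain ⟨e, hee⟩ : ∃ e : R, e = (e₀ : R) := ⟨_, rfl⟩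
    have heidem : IsIdempotentElem e := by
      rw [hee]
      have := congrArg (Subtype.val) he₀.eq
      exact this
    have heM : e ∈ M := by rw [hee]; exact h1
    have heM' : e ∉ M.comap (lam : R →+* R) := by rw [hee]; exact h2
    have h1eM' : 1 - e ∈ M.comap (lam : R →+* R) := by
      have hz : e * (1 - e) ∈ M.comap (lam : R →+* R) := by
        have : e * (1 - e) = 0 := by rw [mul_sub, mul_one, heidem.eq, sub_self]
        rw [this]; exact Ideal.zero_mem _
      exact (hM'max.isPrime.mem_or_mem hz).resolve_left heM'
    have h1eM : 1 - e ∉ M := by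
      intro h
      exact hM.ne_top ((Ideal.eq_top_iff_one _).mpr (by simpa using M.add_mem heM h))
    let e' : Bool → R := fun b => cond b e (1 - e)
    have hbij : Function.Bijective (RingHom.pi fun b => Ideal.Quotient.mk (Ideal.span {e' b})) := by
      apply RingHom.pi_bijective_of_isIdempotentElem e'
      · intro b
        cases b
        · exact heidem.one_sub
        · exact heidem
      · intro i j hij
        cases i <;> cases j
        · exact absurd rfl hij
        · change (1 - (1 - e)) * (1 - e) = 0
          rw [sub_sub_cancel, mul_sub, mul_one, heidem.eq, sub_self]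
        · change (1 - e) * (1 - (1 - e)) = 0
          rw [sub_sub_cancel, sub_mul, one_mul, heidem.eq, sub_self]
        · exact absurd rfl hij
      · rw [Fintype.prod_bool]
        change e * (1 - e) = 0
        rw [mul_sub, mul_one, heidem.eq, sub_self]
    have hloc : ∀ b, IsLocalRing (R ⧸ Ideal.span {e' b}) := by
      intro b
      cases b
      · -- 1 - e, maximal ideal M'
        refine isLocalRing_quot (Ideal.span {1 - e}) (M.comap (lam : R →+* R))
          ((Ideal.span_singleton_le_iff_mem _).mpr h1eM') ?_
        intro N hN hle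
        have hmem : 1 - e ∈ N := (Ideal.span_singleton_le_iff_mem _).mp hle
        rcases isMaximal_eq_or_eq_comap hlam hS M N with h | h
        · rw [h] at hmem; exact absurd hmem h1eM
        · exact h
      · refine isLocalRing_quot (Ideal.span {e}) M
          ((Ideal.span_singleton_le_iff_mem _).mpr heM) ?_
        intro N hN hle
        have hmem : e ∈ N := (Ideal.span_singleton_le_iff_mem _).mp hle
        rcases isMaximal_eq_or_eq_comap hlam hS M N with h | h
        · exact h
        · rw [h] at hmem; exact absurd hmem heM'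
    haveI hint : ∀ b, Algebra.IsIntegral S (R ⧸ Ideal.span {e' b}) := by
      intro b
      haveI : Algebra.IsIntegral R (R ⧸ Ideal.span {e' b}) :=
        Algebra.isIntegral_of_surjective Ideal.Quotient.mk_surjective
      exact Algebra.IsIntegral.trans R
    refine ⟨Bool, inferInstance, fun b => R ⧸ Ideal.span {e' b}, fun _ => inferInstance,
      fun b => (sh S _ (hloc b)).choose, fun b => (sh S _ (hloc b)).choose_spec, ?_⟩
    exact ⟨RingEquiv.ofBijective _ hbij⟩

end Main

/-- Let `R` be a commutative ring with an involution `lam` whose fixed ring `S` is strictly henselian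
(henselian local with separably closed residue field). Then `R` is isomorphic to a product of
finitely many strictly henselian local rings (existence of a ring isomorphism with such a product). -/
theorem result (S : Type u) (R : Type v) [CommRing S] [CommRing R]
    [Algebra S R] (lam : R ≃+* R) (hlam : Function.Involutive lam) (hS : RInv.IsFixedRing S R lam)
    [HenselianLocalRing S] [IsSepClosed (IsLocalRing.ResidueField S)] :
    ∃ (ι : Type) (_ : Fintype ι) (T : ι → Type v) (_ : ∀ i, CommRing (T i))
      (_ : ∀ i, HenselianLocalRing (T i)),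
      (∀ i, IsSepClosed (IsLocalRing.ResidueField (T i))) ∧ Nonempty (R ≃+* (∀ i, T i)) := by
  exact main S R lam hlam hS

end Groth.Agent.S15578
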