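import Groth.Statements.S15582
import Mathlib

set_option autoImplicit false
universe u
open CategoryTheory TopologicalSpace
open CohTop

namespace Groth.Agent.S15582

open Opposite

theorem subsingleton_of_eq_bot {X : TopCat.{u}} (F : TopCat.Sheaf (Type u) X) {U : Opens X}
    (h : U = ⊥) (a b : F.1.obj (op U)) : a = b := by
  have hT := F.isTerminalOfEqEmpty h
  have := hT.hom_ext (TypeCat.ofHom (X := PUnit.{u+1}) (fun _ => a)) (TypeCat.ofHom (fun _ => b))
  have h2 := ConcreteCategory.congr_hom this PUnit.unit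
  exact h2

/-- Let `π : X → Y` be a continuous map such that every open set containing a fibre `π⁻¹(y)` contains
the preimage of an open neighbourhood of `y`, and such that every fibre is finite with its points
separated by pairwise disjoint open sets of `X`. Then the direct image of sheaves of sets along `π`
preserves epimorphisms. -/
theorem result
    {X Y : TopCat.{u}} (π : X ⟶ Y)
    (h1 : ∀ (y : Y) (U : Set X), IsOpen U → π ⁻¹' {y} ⊆ U →
      ∃ V : Set Y, IsOpen V ∧ y ∈ V ∧ π ⁻¹' V ⊆ U)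
    (h2 : ∀ y : Y, (π ⁻¹' {y}).Finite ∧ ∃ U : X → Set X,
      (∀ x ∈ π ⁻¹' {y}, IsOpen (U x) ∧ x ∈ U x) ∧ (π ⁻¹' {y}).PairwiseDisjoint U) :
    (TopCat.Sheaf.pushforward (Type u) π).PreservesEpimorphisms := by
  constructor
  intro F G φ hφ
  have hφ' : TopCat.Presheaf.IsLocallySurjective φ.hom :=
    (CategoryTheory.Sheaf.isLocallySurjective_iff_epi φ).mpr hφ
  rw [TopCat.Presheaf.isLocallySurjective_iff] at hφ'
  refine (CategoryTheory.Sheaf.isLocallySurjective_iff_epi
    ((TopCat.Sheaf.pushforward (Type u) π).map φ)).mp ?_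
  show TopCat.Presheaf.IsLocallySurjective ((TopCat.Sheaf.pushforward (Type u) π).map φ).hom
  rw [TopCat.Presheaf.isLocallySurjective_iff]
  intro V t y hyV
  obtain ⟨hfin, Ux, hUx, hdisj⟩ := h2 y
  set PV : Opens X := (Opens.map π).obj V with hPV
  let t' : G.1.obj (op PV) := t
  have hmemPV : ∀ x : (π ⁻¹' {y} : Set X), x.1 ∈ PV := by
    rintro ⟨x, hx⟩
    show π x ∈ V
    have : π x = y := hx
    rw [this]; exact hyV
  choose W hW hs hxW using fun x : (π ⁻¹' {y} : Set X) => hφ' PV t' x.1 (hmemPV x)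
  choose s hs using hs
  let W' : (π ⁻¹' {y} : Set X) → Opens X := fun x => W x ⊓ ⟨Ux x.1, (hUx x.1 x.2).1⟩
  let sf : ∀ x, F.1.obj (op (W' x)) := fun x => F.1.map (homOfLE inf_le_left).op (s x)
  have hcompat : TopCat.Presheaf.IsCompatible F.1 W' sf := by
    intro x x'
    by_cases hxx : x = x'
    · subst hxx
      rfl
    · apply subsingleton_of_eq_bot F
      have hd : Disjoint (Ux x.1) (Ux x'.1) := hdisj x.2 x'.2 (fun h => hxx (Subtype.ext h))
      ext z
      simp only [Opens.coe_inf, Opens.coe_bot, Set.mem_inter_iff, Set.mem_empty_iff_false,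
        iff_false, W']
      rintro ⟨⟨-, hz1⟩, ⟨-, hz2⟩⟩
      exact Set.disjoint_left.mp hd hz1 hz2
  obtain ⟨sg, hsg, -⟩ := F.existsUnique_gluing W' sf hcompat
  have hW'PV : ∀ x, W' x ≤ PV := fun x => inf_le_left.trans (hW x)
  have hφsg := TopCat.Sheaf.eq_app_of_locally_eq (f := φ) (t := t') hsg hW'PV (by
    intro x
    have hnat := ConcreteCategory.congr_hom (φ.hom.naturality
      (homOfLE (inf_le_left : W' x ≤ W x)).op) (s x)
    simp only [ConcreteCategory.comp_apply] at hnat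
    show φ.hom.app (op (W' x)) (F.1.map (homOfLE inf_le_left).op (s x)) = _
    rw [hnat, hs x]
    show G.1.map _ (G.1.map _ t') = _
    rw [← ConcreteCategory.comp_apply, ← G.1.map_comp]
    rfl)
  -- apply h1
  have hfib : π ⁻¹' {y} ⊆ ((iSup W' : Opens X) : Set X) := by
    intro x hx
    have : x ∈ W' ⟨x, hx⟩ := ⟨hxW ⟨x, hx⟩, (hUx x hx).2⟩
    exact (le_iSup W' ⟨x, hx⟩) this
  obtain ⟨V0, hV0o, hyV0, hV0⟩ := h1 y _ (iSup W').isOpen hfib
  let V' : Opens Y := V ⊓ ⟨V0, hV0o⟩
  have hV'V : V' ≤ V := inf_le_left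
  have hPV' : (Opens.map π).obj V' ≤ iSup W' := by
    intro x hx
    exact hV0 hx.2
  refine ⟨V', hV'V, ⟨F.1.map (homOfLE hPV').op sg, ?_⟩, ⟨hyV, hyV0⟩⟩
  show φ.hom.app (op ((Opens.map π).obj V')) (F.1.map (homOfLE hPV').op sg) = _
  have hnat := ConcreteCategory.congr_hom (φ.hom.naturality (homOfLE hPV').op) sg
  simp only [ConcreteCategory.comp_apply] at hnat
  rw [hnat, hφsg]
  show G.1.map _ (G.1.map _ t') = _
  rw [← ConcreteCategory.comp_apply, ← G.1.map_comp]
  rfl

end Groth.Agent.S15582
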