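import Groth.Statements.S15585
import Mathlib

set_option autoImplicit false
universe u v
open RInv

namespace Groth.Agent.S15585

/-- For a local ring `S` (maximal ideal `m`, residue field `k`) and a quadratic etale `S`-algebra `R`,
the ring `R/mR` is a field that is a separable extension of `k` of degree 2, or else it is
isomorphic as a `k`-algebra to `k × k`. -/
theorem result (S : Type u) (R : Type v) [CommRing S]
    [CommRing R] [Algebra S R] [IsLocalRing S] (hq : RInv.IsQuadEtale S R) :
    (IsField (R ⧸ (IsLocalRing.maximalIdeal S).map (algebraMap S R)) ∧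
      Module.finrank (S ⧸ IsLocalRing.maximalIdeal S)
        (R ⧸ (IsLocalRing.maximalIdeal S).map (algebraMap S R)) = 2 ∧
      Algebra.IsSeparable (S ⧸ IsLocalRing.maximalIdeal S)
        (R ⧸ (IsLocalRing.maximalIdeal S).map (algebraMap S R))) ∨
    Nonempty ((R ⧸ (IsLocalRing.maximalIdeal S).map (algebraMap S R)) ≃ₐ[S ⧸ IsLocalRing.maximalIdeal S]
      ((S ⧸ IsLocalRing.maximalIdeal S) × (S ⧸ IsLocalRing.maximalIdeal S))) := by
  obtain ⟨hfin, hproj, hunr, hrank⟩ := hq
  have hfree : Module.Free S R := Module.free_of_flat_of_isLocalRing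
  have h2 : Module.finrank S R = 2 := by
    have := congrFun (Module.rankAtStalk_eq_finrank_of_free (R := S) (M := R))
      (IsLocalRing.closedPoint S)
    rw [hrank] at this
    simpa using this.symm
  letI : Field (S ⧸ IsLocalRing.maximalIdeal S) := Ideal.Quotient.field _
  have hdim : Module.finrank (S ⧸ IsLocalRing.maximalIdeal S)
      (R ⧸ (IsLocalRing.maximalIdeal S).map (algebraMap S R)) = 2 := by
    rw [IsLocalRing.finrank_quotient_map, h2]
  have hfinA : Module.Finite (S ⧸ IsLocalRing.maximalIdeal S)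
      (R ⧸ (IsLocalRing.maximalIdeal S).map (algebraMap S R)) :=
    Module.Finite.of_restrictScalars_finite S _ _
  have hunrA : Algebra.FormallyUnramified (S ⧸ IsLocalRing.maximalIdeal S)
      (R ⧸ (IsLocalRing.maximalIdeal S).map (algebraMap S R)) := inferInstance
  have hred : IsReduced (R ⧸ (IsLocalRing.maximalIdeal S).map (algebraMap S R)) :=
    Algebra.FormallyUnramified.isReduced_of_field (S ⧸ IsLocalRing.maximalIdeal S) _
  have hnt : Nontrivial (R ⧸ (IsLocalRing.maximalIdeal S).map (algebraMap S R)) :=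
    Module.nontrivial_of_finrank_pos (R := S ⧸ IsLocalRing.maximalIdeal S) (by rw [hdim]; norm_num)
  by_cases hF : IsField (R ⧸ (IsLocalRing.maximalIdeal S).map (algebraMap S R))
  · left
    refine ⟨hF, hdim, ?_⟩
    letI := hF.toField
    exact Algebra.FormallyUnramified.isSeparable (S ⧸ IsLocalRing.maximalIdeal S)
      (R ⧸ (IsLocalRing.maximalIdeal S).map (algebraMap S R))
  · right
    have hex : ∃ e : R ⧸ (IsLocalRing.maximalIdeal S).map (algebraMap S R), e ≠ 0 ∧ ¬ IsUnit e := by
      by_contra hcon
      push Not at hcon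
      exact hF ⟨exists_pair_ne _, mul_comm, fun {a} ha => (hcon a ha).exists_right_inv⟩
    obtain ⟨e, he0, heu⟩ := hex
    let V : Submodule (S ⧸ IsLocalRing.maximalIdeal S)
        (R ⧸ (IsLocalRing.maximalIdeal S).map (algebraMap S R)) :=
      (Ideal.span {e}).restrictScalars (S ⧸ IsLocalRing.maximalIdeal S)
    have heV : e ∈ V := Ideal.subset_span rfl
    have hVtop : V ≠ ⊤ := by
      intro h
      have h1 : (1 : R ⧸ (IsLocalRing.maximalIdeal S).map (algebraMap S R)) ∈ V :=
        h ▸ Submodule.mem_top
      have : Ideal.span {e} = ⊤ := (Ideal.eq_top_iff_one _).2 h1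
      exact heu (Ideal.span_singleton_eq_top.1 this)
    have hne : (⟨e, heV⟩ : V) ≠ 0 := fun h => he0 (congrArg Subtype.val h)
    have hV1 : Module.finrank (S ⧸ IsLocalRing.maximalIdeal S) V = 1 := by
      have hlt := Submodule.finrank_lt hVtop
      rw [hdim] at hlt
      have hpos : 0 < Module.finrank (S ⧸ IsLocalRing.maximalIdeal S) V :=
        Module.finrank_pos_iff_exists_ne_zero.2 ⟨⟨e, heV⟩, hne⟩
      omega
    obtain ⟨c, hc⟩ := (finrank_eq_one_iff_of_nonzero' (⟨e, heV⟩ : V) hne).1 hV1
      ⟨e * e, Ideal.mul_mem_left _ _ (Ideal.subset_span rfl)⟩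
    have hc' : c • e = e * e := congrArg Subtype.val hc
    have hc0 : c ≠ 0 := by
      rintro rfl
      rw [zero_smul] at hc'
      exact he0 (IsReduced.eq_zero e ⟨2, by rw [sq, ← hc']⟩)
    obtain ⟨e', he'⟩ : ∃ e' : R ⧸ (IsLocalRing.maximalIdeal S).map (algebraMap S R),
        e' = c⁻¹ • e := ⟨_, rfl⟩
    have hidem : e' * e' = e' := by
      rw [he', smul_mul_smul_comm, ← hc', smul_smul, mul_assoc, inv_mul_cancel₀ hc0, mul_one]
    have he'0 : e' ≠ 0 := by
      rw [he']; exact smul_ne_zero (inv_ne_zero hc0) he0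
    have he'1 : 1 - e' ≠ 0 := by
      intro h
      apply heu
      have h1 : e * (c⁻¹ • 1) = 1 := by
        rw [mul_smul_comm, mul_one, ← he']
        exact (sub_eq_zero.1 h).symm
      exact IsUnit.of_mul_eq_one _ h1
    have hortho : e' * (1 - e') = 0 := by rw [mul_sub, mul_one, hidem, sub_self]
    have hidem' : (1 - e') * (1 - e') = 1 - e' := by
      rw [sub_mul, one_mul, hortho, sub_zero]
    let φl : ((S ⧸ IsLocalRing.maximalIdeal S) × (S ⧸ IsLocalRing.maximalIdeal S))
        →ₗ[S ⧸ IsLocalRing.maximalIdeal S]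
        (R ⧸ (IsLocalRing.maximalIdeal S).map (algebraMap S R)) :=
      (LinearMap.fst _ _ _).smulRight e' + (LinearMap.snd _ _ _).smulRight (1 - e')
    have hφl : ∀ x, φl x = x.1 • e' + x.2 • (1 - e') := fun x => rfl
    let φ : ((S ⧸ IsLocalRing.maximalIdeal S) × (S ⧸ IsLocalRing.maximalIdeal S))
        →ₐ[S ⧸ IsLocalRing.maximalIdeal S]
        (R ⧸ (IsLocalRing.maximalIdeal S).map (algebraMap S R)) :=
      AlgHom.ofLinearMap φl
        (by rw [hφl]; simp)
        (by
          intro x y
          rw [hφl, hφl, hφl]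
          simp only [Prod.fst_mul, Prod.snd_mul, Algebra.smul_def, map_mul]
          linear_combination
            (-(algebraMap _ _ x.1 * algebraMap _ _ y.1) + algebraMap _ _ x.1 * algebraMap _ _ y.2 +
              algebraMap _ _ x.2 * algebraMap _ _ y.1 - algebraMap _ _ x.2 * algebraMap _ _ y.2) * hidem)
    have hφ : ∀ x, φ x = x.1 • e' + x.2 • (1 - e') := fun x => rfl
    have hinj : Function.Injective φ := by
      rw [injective_iff_map_eq_zero]
      intro x hx
      rw [hφ] at hx
      have h1 : x.1 • e' = 0 := by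
        have := congrArg (fun z => e' * z) hx
        simp only [mul_add, mul_smul_comm, hidem, hortho, smul_zero, add_zero, mul_zero] at this
        exact this
      have h2 : x.2 • (1 - e') = 0 := by
        have := congrArg (fun z => (1 - e') * z) hx
        rw [mul_comm] at hortho
        simp only [mul_add, mul_smul_comm, hidem', hortho, smul_zero, zero_add, mul_zero] at this
        exact this
      have h1' : x.1 = 0 := (smul_eq_zero.1 h1).resolve_right he'0
      have h2' : x.2 = 0 := (smul_eq_zero.1 h2).resolve_right he'1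
      exact Prod.ext h1' h2'
    have hsurj : Function.Surjective φ := by
      have hfr : Module.finrank (S ⧸ IsLocalRing.maximalIdeal S)
          ((S ⧸ IsLocalRing.maximalIdeal S) × (S ⧸ IsLocalRing.maximalIdeal S)) =
          Module.finrank (S ⧸ IsLocalRing.maximalIdeal S)
            (R ⧸ (IsLocalRing.maximalIdeal S).map (algebraMap S R)) := by
        rw [hdim, Module.finrank_prod, Module.finrank_self]
      exact (LinearMap.injective_iff_surjective_of_finrank_eq_finrank hfr (f := φ.toLinearMap)).1 hinj
    exact ⟨(AlgEquiv.ofBijective φ ⟨hinj, hsurj⟩).symm⟩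

end Groth.Agent.S15585
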