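import Groth.Statements.S15589
import Groth.Agent.Lib.Helper23.RInvLoc

set_option autoImplicit false
universe u v
open scoped TensorProduct
open RInv

namespace Groth.Agent.S15589

/-- Let `R` be a commutative ring with an involution `lam` and fixed ring `S`, `W ⊆ Spec S` the branch
locus (primes `p` with `S_p ⊗_S R` not quadratic etale over `S_p`), `I` its vanishing ideal and `J =
rad(IR)`. Then `Spec(R/J) → Spec(S/I)` is a homeomorphism; if `2` is a unit of `S`, the ring map
`S/I → R/J` is moreover bijective, so the reduced preimage of the branch locus maps isomorphically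
onto it. Affine-local form of the statement for a good quotient of schemes by an involution (the
hypothesis `I ≤ J ∩ S` holds automatically and only serves to write down the map). -/
theorem result (S : Type u) (R : Type v) [CommRing S] [CommRing R]
    [Algebra S R] (lam : R ≃+* R) (hlam : Function.Involutive lam) (hS : RInv.IsFixedRing S R lam)
    (W : Set (PrimeSpectrum S))
    (hW : W = {p : PrimeSpectrum S | ¬ RInv.IsQuadEtale (Localization.AtPrime p.asIdeal) (Localization.AtPrime p.asIdeal ⊗[S] R)})
    (J : Ideal R) (hJ : J = ((PrimeSpectrum.vanishingIdeal W).map (algebraMap S R)).radical)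
    (hIJ : PrimeSpectrum.vanishingIdeal W ≤ J.comap (algebraMap S R)) :
    IsHomeomorph (PrimeSpectrum.comap (Ideal.quotientMap J (algebraMap S R) hIJ)) ∧
      (IsUnit (2 : S) → Function.Bijective (Ideal.quotientMap J (algebraMap S R) hIJ)) := by
  have hint : Algebra.IsIntegral S R := Groth.Agent.Helper23.RInvLoc.algebra_isIntegral hlam hS
  have hlamJ : ∀ r, lam r - r ∈ J := fun r =>
    hJ ▸ Groth.Agent.Helper23.RInvLoc.map_sub_mem_radical W hlam hS hW r
  have hJle : ∀ Q : Ideal R, Q.IsPrime →
      PrimeSpectrum.vanishingIdeal W ≤ Q.comap (algebraMap S R) → J ≤ Q := by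
    intro Q hQ h
    rw [hJ]
    exact (Ideal.IsPrime.radical_le_iff hQ).2 (Ideal.map_le_iff_le_comap.2 h)
  have hfmk : ∀ s, (Ideal.quotientMap J (algebraMap S R) hIJ)
      (Ideal.Quotient.mk (PrimeSpectrum.vanishingIdeal W) s) =
      Ideal.Quotient.mk J (algebraMap S R s) := fun s => Ideal.quotientMap_mk
  have key : ∀ Q : PrimeSpectrum (R ⧸ J),
      (Q.asIdeal.comap (Ideal.Quotient.mk J)).comap (algebraMap S R) =
      ((PrimeSpectrum.comap (Ideal.quotientMap J (algebraMap S R) hIJ) Q).asIdeal).comap
        (Ideal.Quotient.mk (PrimeSpectrum.vanishingIdeal W)) := by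
    intro Q
    ext s
    simp only [Ideal.mem_comap, PrimeSpectrum.comap_asIdeal, hfmk]
  have hker : (⊥ : Ideal R).comap (algebraMap S R) = ⊥ := by
    ext s
    simp only [Ideal.mem_comap, Ideal.mem_bot]
    exact ⟨fun h => hS.1 (by rw [h, map_zero]), fun h => by rw [h, map_zero]⟩
  refine ⟨?_, ?_⟩
  · rw [isHomeomorph_iff_continuous_isClosedMap_bijective]
    refine ⟨PrimeSpectrum.continuous_comap _, PrimeSpectrum.isClosedMap_comap_of_isIntegral _ ?_,
      ?_, ?_⟩
    · intro y
      obtain ⟨r, rfl⟩ := Ideal.Quotient.mk_surjective y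
      obtain ⟨P, hPm, hP0⟩ := Groth.Agent.Helper23.RInvLoc.isIntegral_elem hlam hS r
      refine ⟨P.map (Ideal.Quotient.mk (PrimeSpectrum.vanishingIdeal W)), hPm.map _, ?_⟩
      rw [Polynomial.eval₂_map]
      have hcomp : (Ideal.quotientMap J (algebraMap S R) hIJ).comp
          (Ideal.Quotient.mk (PrimeSpectrum.vanishingIdeal W)) =
          (Ideal.Quotient.mk J).comp (algebraMap S R) := by
        ext s; exact hfmk s
      rw [hcomp, ← Polynomial.hom_eval₂, hP0, map_zero]
    · intro Q₁ Q₂ h
      have hQ₁ : J ≤ Q₁.asIdeal.comap (Ideal.Quotient.mk J) := by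
        intro x hx
        rw [Ideal.mem_comap, Ideal.Quotient.eq_zero_iff_mem.2 hx]
        exact Ideal.zero_mem _
      have heq : (Q₂.asIdeal.comap (Ideal.Quotient.mk J)).comap (algebraMap S R) =
          (Q₁.asIdeal.comap (Ideal.Quotient.mk J)).comap (algebraMap S R) := by
        rw [key, key, h]
      have h1 := Groth.Agent.Helper23.RInvLoc.prime_eq_or_eq_comap hlam hS
        (Q₁.asIdeal.comap (Ideal.Quotient.mk J)) (Q₂.asIdeal.comap (Ideal.Quotient.mk J)) heq
      rw [Groth.Agent.Helper23.RInvLoc.comap_lam_eq_self (fun x => hQ₁ (hlamJ x)), or_self] at h1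
      apply PrimeSpectrum.ext
      exact (Ideal.comap_injective_of_surjective _ Ideal.Quotient.mk_surjective h1).symm
    · intro P
      obtain ⟨Q, -, hQp, hQ⟩ := Ideal.exists_ideal_over_prime_of_isIntegral
        (P.asIdeal.comap (Ideal.Quotient.mk (PrimeSpectrum.vanishingIdeal W))) (⊥ : Ideal R)
        (by rw [hker]; exact bot_le)
      have hIP : PrimeSpectrum.vanishingIdeal W ≤
          P.asIdeal.comap (Ideal.Quotient.mk (PrimeSpectrum.vanishingIdeal W)) := by
        intro x hx
        rw [Ideal.mem_comap, Ideal.Quotient.eq_zero_iff_mem.2 hx]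
        exact Ideal.zero_mem _
      have hJQ : J ≤ Q := hJle Q hQp (by rw [hQ]; exact hIP)
      have hprime : (Q.map (Ideal.Quotient.mk J)).IsPrime :=
        Ideal.map_isPrime_of_surjective Ideal.Quotient.mk_surjective
          (by rw [Ideal.mk_ker]; exact hJQ)
      have hcm : (Q.map (Ideal.Quotient.mk J)).comap (Ideal.Quotient.mk J) = Q := by
        rw [Ideal.comap_map_of_surjective _ Ideal.Quotient.mk_surjective, ← RingHom.ker_eq_comap_bot,
          Ideal.mk_ker, sup_eq_left]
        exact hJQ
      refine ⟨⟨Q.map (Ideal.Quotient.mk J), hprime⟩, ?_⟩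
      apply PrimeSpectrum.ext
      apply Ideal.comap_injective_of_surjective _ Ideal.Quotient.mk_surjective
      rw [← key]
      show ((Q.map (Ideal.Quotient.mk J)).comap (Ideal.Quotient.mk J)).comap (algebraMap S R) = _
      rw [hcm, hQ]
  · intro h2
    constructor
    · rw [injective_iff_map_eq_zero]
      intro y hy
      obtain ⟨s, rfl⟩ := Ideal.Quotient.mk_surjective y
      rw [hfmk, Ideal.Quotient.eq_zero_iff_mem] at hy
      rw [Ideal.Quotient.eq_zero_iff_mem, PrimeSpectrum.mem_vanishingIdeal]
      intro P hP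
      have hIP : PrimeSpectrum.vanishingIdeal W ≤ P.asIdeal := fun x hx =>
        (PrimeSpectrum.mem_vanishingIdeal _ _).1 hx P hP
      obtain ⟨Q, -, hQp, hQ⟩ := Ideal.exists_ideal_over_prime_of_isIntegral
        P.asIdeal (⊥ : Ideal R) (by rw [hker]; exact bot_le)
      have hJQ : J ≤ Q := hJle Q hQp (by rw [hQ]; exact hIP)
      have : s ∈ Q.comap (algebraMap S R) := hJQ hy
      rw [hQ] at this
      exact this
    · intro y
      obtain ⟨r, rfl⟩ := Ideal.Quotient.mk_surjective y
      obtain ⟨u2, hu2⟩ := h2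
      obtain ⟨st, hst⟩ := Groth.Agent.Helper23.RInvLib.exists_trace hlam hS r
      have hc2 : ((u2⁻¹ : Sˣ) : S) * 2 = 1 := by rw [← hu2, Units.inv_mul]
      have hc : algebraMap S R ((u2⁻¹ : Sˣ) : S) * 2 = 1 := by
        rw [← map_ofNat (algebraMap S R) 2, ← map_mul, hc2, map_one]
      refine ⟨Ideal.Quotient.mk _ (((u2⁻¹ : Sˣ) : S) * st), ?_⟩
      rw [hfmk, Ideal.Quotient.eq]
      have h3 : algebraMap S R (((u2⁻¹ : Sˣ) : S) * st) - r =
          algebraMap S R ((u2⁻¹ : Sˣ) : S) * (lam r - r) := by
        rw [map_mul, hst]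
        linear_combination r * hc
      rw [h3]
      exact Ideal.mul_mem_left _ _ (hlamJ r)

end Groth.Agent.S15589
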