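import Groth.Statements.S15590
import Mathlib

set_option autoImplicit false
universe u v
open CAlg

namespace Groth.Agent.S15590

theorem intcl (A : Type u) (B : Type v)
    [CommRing A] [CommRing B] [Algebra A B] [IsDedekindDomain B] [IsDomain A]
    (hinj : Function.Injective (algebraMap A B)) [Module.FaithfullyFlat A B] :
    IsIntegrallyClosed A := by
    rw [isIntegrallyClosed_iff (FractionRing A)]
    intro x hx
    obtain ⟨a, b, hb, rfl⟩ := IsFractionRing.div_surjective (A := A) x
    have hb0 : b ≠ 0 := nonZeroDivisors.ne_zero hb
    have hinj' : Function.Injective ((algebraMap B (FractionRing B)).comp (algebraMap A B)) :=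
      (IsFractionRing.injective B (FractionRing B)).comp hinj
    let φ : FractionRing A →+* FractionRing B :=
      IsFractionRing.lift (g := (algebraMap B (FractionRing B)).comp (algebraMap A B)) hinj'
    have hφ : ∀ a : A, φ (algebraMap A (FractionRing A) a) =
        algebraMap B (FractionRing B) (algebraMap A B a) := by
      intro a
      simp [φ]
    obtain ⟨p, hpm, hp0⟩ := hx
    have hint : IsIntegral B (φ (algebraMap A (FractionRing A) a / algebraMap A (FractionRing A) b)) := by
      refine ⟨p.map (algebraMap A B), hpm.map _, ?_⟩
      rw [Polynomial.eval₂_map]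
      have : (algebraMap B (FractionRing B)).comp (algebraMap A B) =
          φ.comp (algebraMap A (FractionRing A)) := by
        ext a
        simp [hφ]
      rw [this, ← Polynomial.hom_eval₂, hp0, map_zero]
    obtain ⟨c, hc⟩ := (isIntegrallyClosed_iff (FractionRing B)).mp inferInstance hint
    rw [map_div₀, hφ, hφ] at hc
    have hb' : algebraMap B (FractionRing B) (algebraMap A B b) ≠ 0 := by
      intro h
      apply hb0
      apply hinj'
      simpa using h
    rw [eq_div_iff hb', ← map_mul] at hc
    have hc' := IsFractionRing.injective B (FractionRing B) hc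
    have hmem : a ∈ (Ideal.span {b} : Ideal A) := by
      rw [← Ideal.comap_map_eq_self_of_faithfullyFlat (B := B) (Ideal.span {b})]
      rw [Ideal.mem_comap, Ideal.map_span, Set.image_singleton, Ideal.mem_span_singleton]
      exact ⟨c, by rw [← hc', mul_comm]⟩
    rw [Ideal.mem_span_singleton] at hmem
    obtain ⟨d, rfl⟩ := hmem
    refine ⟨d, ?_⟩
    have hbK : algebraMap A (FractionRing A) b ≠ 0 := by
      intro h
      exact hb0 (IsFractionRing.injective A (FractionRing A) (by simpa using h))
    rw [map_mul]
    field_simp

/-- Let A → B be an injective homomorphism of commutative rings which makes B a finite flat A-module,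
and suppose B is a Dedekind domain (Noetherian, integrally closed, of Krull dimension at most one; a
field is allowed). Then A is a Dedekind domain. -/
theorem result (A : Type u) (B : Type v)
    [CommRing A] [CommRing B] [Algebra A B] [IsDedekindDomain B]
    (hinj : Function.Injective (algebraMap A B)) [Module.Finite A B] [Module.Flat A B] :
    IsDedekindDomain A := by
  have : FaithfulSMul A B := (faithfulSMul_iff_algebraMap_injective A B).mpr hinj
  have : Algebra.IsIntegral A B := Algebra.IsIntegral.of_finite A B
  have : IsDomain A := hinj.isDomain (algebraMap A B)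
  have : Module.FaithfullyFlat A B := inferInstance
  -- Noetherian
  have hle : ∀ I J : Ideal A, I.map (algebraMap A B) ≤ J.map (algebraMap A B) ↔ I ≤ J := by
    intro I J
    constructor
    · intro h
      have := Ideal.comap_mono (f := algebraMap A B) h
      rwa [Ideal.comap_map_eq_self_of_faithfullyFlat, Ideal.comap_map_eq_self_of_faithfullyFlat]
        at this
    · exact fun h => Ideal.map_mono h
  let e : Ideal A ↪o Ideal B :=
    { toFun := Ideal.map (algebraMap A B)
      inj' := Ideal.map_injective_of_faithfullyFlat
      map_rel_iff' := fun {I J} => hle I J }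
  have : IsNoetherianRing A := by
    have hB : IsNoetherianRing B := inferInstance
    unfold IsNoetherianRing at hB ⊢
    rw [isNoetherian_iff'] at hB ⊢
    exact e.wellFoundedGT
  -- dimension ≤ 1
  have : Ring.DimensionLEOne A := by
    refine ⟨fun {p} hp0 hp => ?_⟩
    obtain ⟨P, hP, hPp⟩ := Ideal.exists_isPrime_liesOver_of_faithfullyFlat (B := B) p
    have hP0 : P ≠ ⊥ := by
      rintro rfl
      apply hp0
      have := hPp.over
      rw [this]
      ext x
      simp [Ideal.under_def]
    have hPmax : P.IsMaximal := Ring.DimensionLEOne.maximalOfPrime hP0 hP
    rw [hPp.over]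
    exact Ideal.isMaximal_comap_of_isIntegral_of_isMaximal (R := A) P
  -- integrally closed
  have : IsIntegrallyClosed A := intcl A B hinj
  exact { }

end Groth.Agent.S15590
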