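import Groth.Statements.S15592
import Groth.Agent.Lib.Helper18.FixPt4

set_option autoImplicit false
universe u
open CategoryTheory MonoidalCategory CartesianMonoidalCategory MonObj GrpObj AlgebraicGeometry
open AlgGrp

namespace Groth.Agent.S15592

/-- The case of a one-dimensional group. Let k be a field, X a proper k-scheme having a k-rational
point, and G a k-group scheme isomorphic, as a k-group scheme, to the additive group or to the
multiplicative group over k. Then every action of G on X fixes some k-rational point of X: there is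
a k-point x with g · x = x for all points g of G with values in any k-scheme. (This is the
one-dimensional case of the fixed point property of k-split solvable groups acting on proper
k-schemes with a rational point, to which the general case reduces by induction along a composition
series.) -/
theorem result (k : Type u) [Field k]
    (G X : Over (Spec (CommRingCat.of k))) [GrpObj G]
    (hG : Nonempty (Grp.mk G ≅ Grp.mk (Red.Ga (Spec (CommRingCat.of k)))) ∨ Nonempty (Grp.mk G ≅ Grp.mk (Red.Gm (Spec (CommRingCat.of k)))))
    [IsProper X.hom] (x₀ : 𝟙_ (Over (Spec (CommRingCat.of k))) ⟶ X) (a : AlgGrp.Action G X) :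
    ∃ x : 𝟙_ (Over (Spec (CommRingCat.of k))) ⟶ X, a.IsFixedPt x := by
  rcases hG with ⟨⟨α⟩⟩ | ⟨⟨α⟩⟩
  · let ψ : G ≅ Red.Ga (Spec (CommRingCat.of k)) :=
      ⟨α.hom.hom.hom, α.inv.hom.hom, congrArg (fun q => q.hom.hom) α.hom_inv_id,
        congrArg (fun q => q.hom.hom) α.inv_hom_id⟩
    haveI : IsMonHom ψ.inv := inferInstanceAs (IsMonHom α.inv.hom.hom)
    obtain ⟨x, hx⟩ := Groth.Agent.Helper18.FixPt.fixed_ga a ψ.inv x₀
    refine ⟨x, fun T g => ?_⟩
    have := hx T (g ≫ ψ.hom)
    rw [Category.assoc, ψ.hom_inv_id, Category.comp_id] at this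
    exact this
  · let ψ : G ≅ Red.Gm (Spec (CommRingCat.of k)) :=
      ⟨α.hom.hom.hom, α.inv.hom.hom, congrArg (fun q => q.hom.hom) α.hom_inv_id,
        congrArg (fun q => q.hom.hom) α.inv_hom_id⟩
    haveI : IsMonHom ψ.inv := inferInstanceAs (IsMonHom α.inv.hom.hom)
    obtain ⟨x, hx⟩ := Groth.Agent.Helper18.FixPt.fixed_gm a ψ.inv x₀
    refine ⟨x, fun T g => ?_⟩
    have := hx T (g ≫ ψ.hom)
    rw [Category.assoc, ψ.hom_inv_id, Category.comp_id] at this
    exact this

end Groth.Agent.S15592
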