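import Groth.Statements.S15594
import Mathlib.LinearAlgebra.TensorProduct.Basis
import Mathlib.LinearAlgebra.Basis.VectorSpace

set_option autoImplicit false
universe u
open TensorProduct
open AGF

namespace Groth.Agent.S15594

theorem key (k K A : Type u) [Field k] [Field K] [Algebra k K] [CommRing A] [Algebra k A]
    {ι : Type u} [DecidableEq ι] (ℬ : Module.Basis ι k K) (σ : A →ₐ[k] k) (z : K ⊗[k] A) (i : ι) :
    σ (TensorProduct.equivFinsuppOfBasisLeft ℬ z i) =
      ℬ.coord i (((Algebra.TensorProduct.rid k K K).toAlgHom.comp
        (Algebra.TensorProduct.map (AlgHom.id K K) σ)) z) := by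
  induction z using TensorProduct.induction_on with
  | zero => simp
  | tmul c a =>
    rw [TensorProduct.equivFinsuppOfBasisLeft_apply_tmul_apply]
    have h1 : ((Algebra.TensorProduct.rid k K K).toAlgHom.comp
        (Algebra.TensorProduct.map (AlgHom.id K K) σ)) (c ⊗ₜ[k] a) = σ a • c := by
      simp [Algebra.smul_def, mul_comm]
    rw [h1, map_smul, map_smul, smul_eq_mul, smul_eq_mul, mul_comm]
    rfl
  | add x y hx hy =>
    rw [map_add, Finsupp.add_apply, map_add, hx, hy, map_add, map_add]

/-- Affine form. Let k ⊆ K be a field extension, A a commutative k-algebra and S a set of k-algebra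
homomorphisms A → k (rational points of Spec A). The ideal ⋂_{σ ∈ S} ker σ cuts out the Zariski
closure of S with its reduced structure, and its extension to K ⊗_k A equals ⋂_{σ ∈ S} ker σ_K,
where σ_K : K ⊗_k A → K is the K-algebra map induced by σ. In words: the closure of a set of
rational points is formed compatibly with extension of the ground field. (The published statement is
for schemes locally of finite type; this affine row assumes no finiteness, which the argument does
not use.) -/
theorem result (k K A : Type u) [Field k] [Field K] [Algebra k K]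
    [CommRing A] [Algebra k A] (S : Set (A →ₐ[k] k)) :
    Ideal.map (Algebra.TensorProduct.includeRight : A →ₐ[k] K ⊗[k] A) (⨅ σ ∈ S, RingHom.ker σ) =
      ⨅ σ ∈ S, RingHom.ker ((Algebra.TensorProduct.rid k K K).toAlgHom.comp
        (Algebra.TensorProduct.map (AlgHom.id K K) σ)) := by
  classical
  apply le_antisymm
  · rw [Ideal.map_le_iff_le_comap]
    intro a ha
    rw [Ideal.mem_comap]
    simp only [Ideal.mem_iInf] at ha ⊢
    intro σ hσ
    rw [RingHom.mem_ker]
    have h1 := ha σ hσ
    rw [RingHom.mem_ker] at h1
    simp [h1]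
  · intro z hz
    simp only [Ideal.mem_iInf] at hz
    let ℬ := Module.Basis.ofVectorSpace k K
    set b := TensorProduct.equivFinsuppOfBasisLeft ℬ z with hb
    have hbI : ∀ i, b i ∈ (⨅ σ ∈ S, RingHom.ker σ : Ideal A) := by
      intro i
      simp only [Ideal.mem_iInf]
      intro σ hσ
      rw [RingHom.mem_ker, hb, key k K A ℬ σ z i]
      have := hz σ hσ
      rw [RingHom.mem_ker] at this
      rw [this, map_zero]
    have hzb : z = b.sum fun i a => ℬ i ⊗ₜ[k] a := by
      rw [← TensorProduct.equivFinsuppOfBasisLeft_symm_apply, hb, LinearEquiv.symm_apply_apply]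
    rw [hzb, Finsupp.sum]
    apply Submodule.sum_mem
    intro i _
    have : ℬ i ⊗ₜ[k] b i = (ℬ i ⊗ₜ[k] (1 : A)) *
        (Algebra.TensorProduct.includeRight : A →ₐ[k] K ⊗[k] A) (b i) := by
      simp
    rw [this]
    exact Ideal.mul_mem_left _ _ (Ideal.mem_map_of_mem _ (hbI i))

end Groth.Agent.S15594
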