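import Groth.Statements.S15595
import Mathlib
import Groth.Agent.Lib.Helper14.RegAscent
import Groth.Agent.Lib.Lead.Hom14
-- import your own Groth.Agent.* helpers here

set_option autoImplicit false
universe u
open TensorProduct
attribute [local instance] RingHom.ker_isPrime
open CAlg

namespace Groth.Agent.S15595

/-- Let k ⊆ K be a field extension and A a Noetherian local k-algebra with residue field k, recorded by
a k-algebra map π : A → k whose kernel is the maximal ideal. Let π_K : K ⊗_k A → K be the induced
K-algebra map, m' its kernel, and A' the localization of K ⊗_k A at m'. Assume A' is Noetherian.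
Then A is a regular local ring if and only if A' is a regular local ring. -/
theorem result (k K A : Type u) [Field k] [Field K]
    [Algebra k K] [CommRing A] [Algebra k A] [IsLocalRing A] [IsNoetherianRing A]
    (π : A →ₐ[k] k) (hπ : RingHom.ker π = IsLocalRing.maximalIdeal A)
    [IsNoetherianRing (Localization.AtPrime (RingHom.ker
      ((Algebra.TensorProduct.rid k K K).toAlgHom.comp (Algebra.TensorProduct.map (AlgHom.id K K) π))))] :
    IsRegularLocalRing A ↔ IsRegularLocalRing (Localization.AtPrime (RingHom.ker
      ((Algebra.TensorProduct.rid k K K).toAlgHom.comp (Algebra.TensorProduct.map (AlgHom.id K K) π)))) := by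
  classical
  open TensorProduct in
  have main : IsRegularLocalRing A ↔ IsRegularLocalRing (Localization.AtPrime (RingHom.ker
      ((Algebra.TensorProduct.rid k K K).toAlgHom.comp (Algebra.TensorProduct.map (AlgHom.id K K) π)))) := by
    letI algAT : Algebra A (K ⊗[k] A) := Algebra.TensorProduct.rightAlgebra
    set ψ : K ⊗[k] A →ₐ[K] K :=
      (Algebra.TensorProduct.rid k K K).toAlgHom.comp (Algebra.TensorProduct.map (AlgHom.id K K) π) with hψ
    set q : Ideal (K ⊗[k] A) := RingHom.ker ψ with hq
    let p := IsLocalRing.maximalIdeal A
    have hπs : Function.Surjective π := fun c => ⟨algebraMap k A c, by simp⟩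
    have halg : ∀ a : A, algebraMap A (K ⊗[k] A) a = (1 : K) ⊗ₜ[k] a := fun a => rfl
    have hψa : ∀ a : A, ψ ((1 : K) ⊗ₜ[k] a) = algebraMap k K (π a) := by
      intro a
      simp [hψ, Algebra.algebraMap_eq_smul_one]
    have hqp : q = p.map (algebraMap A (K ⊗[k] A)) := by
      have h1 : q = RingHom.ker (Algebra.TensorProduct.map (AlgHom.id k K) π) := by
        ext x
        rw [hq, RingHom.mem_ker, RingHom.mem_ker, hψ, AlgHom.comp_apply]
        change (Algebra.TensorProduct.rid k K K) _ = 0 ↔ _
        rw [EmbeddingLike.map_eq_zero_iff]
        rfl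
      rw [h1, Algebra.TensorProduct.lTensor_ker _ hπs]
      have : RingHom.ker π = p := hπ
      rw [this]
      rfl
    have hmem : ∀ a : A, algebraMap A (K ⊗[k] A) a ∈ q ↔ a ∈ p := by
      intro a
      rw [halg, hq, RingHom.mem_ker, hψa]
      change _ ↔ a ∈ IsLocalRing.maximalIdeal A
      rw [← hπ, RingHom.mem_ker]
      exact (map_eq_zero_iff _ (algebraMap k K).injective)
    -- notation for the localization
    let A' := Localization.AtPrime q
    haveI : Module.Flat A (K ⊗[k] A) :=
      Module.Flat.of_linearEquiv (Algebra.TensorProduct.commRight k A K).toLinearEquiv.symm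
    haveI : Module.Flat (K ⊗[k] A) A' := IsLocalization.flat A' q.primeCompl
    haveI : Module.Flat A A' := Module.Flat.trans A (K ⊗[k] A) A'
    haveI hloc : IsLocalHom (algebraMap A A') := by
      constructor
      intro a ha
      rw [IsScalarTower.algebraMap_apply A (K ⊗[k] A) A',
        IsLocalization.AtPrime.isUnit_to_map_iff A' q] at ha
      by_contra hna
      exact ha ((hmem a).mpr ((IsLocalRing.mem_maximalIdeal a).mpr hna))
    have hmap : p.map (algebraMap A A') = IsLocalRing.maximalIdeal A' := by
      rw [IsScalarTower.algebraMap_eq A (K ⊗[k] A) A', ← Ideal.map_map, ← hqp]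
      exact Localization.AtPrime.map_eq_maximalIdeal
    constructor
    · intro hreg
      apply Groth.Agent.Helper14.RegAscent.isRegularLocalRing_of_flat_of_fibre A A'
      rw [hmap]
      change IsRegularLocalRing (IsLocalRing.ResidueField A')
      infer_instance
    · intro hreg
      exact Groth.Agent.Lead.Hom.isRegularLocalRing_of_flat A A'
  exact main

end Groth.Agent.S15595
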