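import Groth.Statements.S15596
import Mathlib

set_option autoImplicit false
universe u
open CategoryTheory MonoidalCategory CartesianMonoidalCategory MonObj GrpObj AlgebraicGeometry
open AlgGrp

namespace Groth.Agent.S15596

/-- Let k be an algebraically closed field, H a smooth k-group scheme of finite type, and U a dense open
subset of H. Then every k-rational point h of H is of the form u₂ · u₁⁻¹ for k-rational points u₁,
u₂ of H whose underlying points lie in U. -/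
theorem result (k : Type u) [Field k] [IsAlgClosed k]
    (H : Over (Spec (CommRingCat.of k))) [GrpObj H] [Smooth H.hom] [QuasiCompact H.hom]
    (U : H.left.Opens) (hU : Dense (U : Set ↥H.left)) (h : 𝟙_ (Over (Spec (CommRingCat.of k))) ⟶ H) :
    ∃ u₁ u₂ : 𝟙_ (Over (Spec (CommRingCat.of k))) ⟶ H,
      u₁.left.base (IsLocalRing.closedPoint k) ∈ U ∧ u₂.left.base (IsLocalRing.closedPoint k) ∈ U ∧
        h = u₂ * u₁⁻¹ := by
  haveI : LocallyOfFiniteType H.hom := inferInstance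
  haveI : JacobsonSpace H.left := LocallyOfFiniteType.jacobsonSpace H.hom
  let c : H ⟶ H := toUnit H ≫ h
  let τ : H ⟶ H := c⁻¹ * 𝟙 H
  let τ' : H ⟶ H := c * 𝟙 H
  have hc : ∀ m : H ⟶ H, m ≫ c = c := by
    intro m
    show m ≫ toUnit H ≫ h = toUnit H ≫ h
    rw [← Category.assoc, toUnit_unique (m ≫ toUnit H) (toUnit H)]
  have h1 : τ ≫ τ' = 𝟙 H := by
    show τ ≫ (c * 𝟙 H) = 𝟙 H
    rw [MonObj.comp_mul, hc, Category.comp_id]
    show c * (c⁻¹ * 𝟙 H) = 𝟙 H
    rw [mul_inv_cancel_left]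
  have h2 : τ' ≫ τ = 𝟙 H := by
    show τ' ≫ (c⁻¹ * 𝟙 H) = 𝟙 H
    rw [MonObj.comp_mul, GrpObj.comp_inv, hc, Category.comp_id]
    show c⁻¹ * (c * 𝟙 H) = 𝟙 H
    rw [inv_mul_cancel_left]
  haveI : IsIso τ := ⟨τ', h1, h2⟩
  haveI : IsIso τ.left := inferInstanceAs (IsIso ((Over.forget _).map τ))
  let V : H.left.Opens := τ.left ⁻¹ᵁ U
  have hV : Dense (V : Set ↥H.left) := by
    have : (V : Set ↥H.left) = τ.left.homeomorph ⁻¹' (U : Set ↥H.left) := rfl
    rw [this]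
    exact hU.preimage τ.left.homeomorph.isOpenMap
  have hW : Dense ((U ⊓ V : H.left.Opens) : Set ↥H.left) := hU.inter_of_isOpen_left hV U.2
  haveI : Nonempty ↥H.left := ⟨η[H].left (IsLocalRing.closedPoint k : PrimeSpectrum k)⟩
  obtain ⟨z, hzW, hz'⟩ := nonempty_inter_closedPoints (Z := ((U ⊓ V : H.left.Opens) : Set ↥H.left))
    hW.nonempty (U ⊓ V).2.isLocallyClosed
  have hz : IsClosed ({z} : Set ↥H.left) := hz'
  let u₂ : 𝟙_ (Over (Spec (CommRingCat.of k))) ⟶ H :=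
    Over.homMk (pointOfClosedPoint H.hom z hz) (pointOfClosedPoint_comp H.hom z hz)
  have hu₂pt : u₂.left (IsLocalRing.closedPoint k : PrimeSpectrum k) = z :=
    pointOfClosedPoint_apply H.hom z hz _
  have hu₂c : u₂ ≫ c = h := by
    show u₂ ≫ toUnit H ≫ h = h
    rw [← Category.assoc, toUnit_unique (u₂ ≫ toUnit H) (𝟙 _), Category.id_comp]
  have hu₁ : u₂ ≫ τ = h⁻¹ * u₂ := by
    show u₂ ≫ (c⁻¹ * 𝟙 H) = h⁻¹ * u₂
    rw [MonObj.comp_mul, GrpObj.comp_inv, hu₂c, Category.comp_id]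
  refine ⟨u₂ ≫ τ, u₂, ?_, ?_, ?_⟩
  · show τ.left (u₂.left (IsLocalRing.closedPoint k : PrimeSpectrum k)) ∈ U
    rw [hu₂pt]
    exact hzW.2
  · show u₂.left (IsLocalRing.closedPoint k : PrimeSpectrum k) ∈ U
    rw [hu₂pt]
    exact hzW.1
  · rw [hu₁]
    group

end Groth.Agent.S15596
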