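import Groth.Statements.S15602
import Groth.Agent.Lib.Helper13.GaPts
import Groth.Agent.Lib.Helper23.GaCore
import Mathlib

set_option autoImplicit false
universe u
open CategoryTheory MonoidalCategory CartesianMonoidalCategory MonObj GrpObj AlgebraicGeometry
open AlgGrp

namespace Groth.Agent.S15602

section cat
open CategoryTheory MonoidalCategory CartesianMonoidalCategory MonObj AlgebraicGeometry Opposite
open CategoryTheory.Limits
open Groth.Agent.Helper13.GaPts
variable (k : Type u) [Field k]

/-- test object -/
noncomputable abbrev TT (R : Type u) [CommRing R] [Algebra k R] : Over (Spec (CommRingCat.of k)) :=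
  Over.mk (Spec.map (CommRingCat.ofHom (algebraMap k R)))

variable {k}
variable {R R' : Type u} [CommRing R] [Algebra k R] [CommRing R'] [Algebra k R']

noncomputable def val (t : TT k R ⟶ Red.Ga (Spec (CommRingCat.of k))) : R :=
  (Scheme.ΓSpecIso (CommRingCat.of R)).hom (Red.gaFn t)

noncomputable def pt (a : R) : TT k R ⟶ Red.Ga (Spec (CommRingCat.of k)) :=
  ptOfElt ((Scheme.ΓSpecIso (CommRingCat.of R)).inv a)

theorem val_pt (a : R) : val (pt (k := k) a) = a := by
  unfold val pt
  rw [gaFn_ptOfElt]
  exact congrArg (fun f => f.hom a) (Scheme.ΓSpecIso (CommRingCat.of R)).inv_hom_id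

theorem pt_val (t : TT k R ⟶ Red.Ga (Spec (CommRingCat.of k))) : pt (val t) = t := by
  unfold val pt
  have : (Scheme.ΓSpecIso (CommRingCat.of R)).inv
      ((Scheme.ΓSpecIso (CommRingCat.of R)).hom (Red.gaFn t)) = Red.gaFn t :=
    congrArg (fun f => f.hom (Red.gaFn t)) (Scheme.ΓSpecIso (CommRingCat.of R)).hom_inv_id
  rw [this, ptOfElt_gaFn]

noncomputable def specHom (φ : R →ₐ[k] R') : TT k R' ⟶ TT k R :=
  Over.homMk (Spec.map (CommRingCat.ofHom φ.toRingHom)) (by
    change Spec.map _ ≫ Spec.map _ = Spec.map _
    rw [← Spec.map_comp, ← CommRingCat.ofHom_comp]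
    congr 2
    exact φ.comp_algebraMap)

theorem val_comp (φ : R →ₐ[k] R') (t : TT k R ⟶ Red.Ga (Spec (CommRingCat.of k))) :
    val (specHom φ ≫ t) = φ (val t) := by
  unfold val
  rw [gaFn_comp]
  have := Scheme.ΓSpecIso_naturality (CommRingCat.ofHom φ.toRingHom)
  exact congrArg (fun f => f.hom (Red.gaFn t)) this


/-- the unit of a group law as an element of `k` -/
noncomputable def unitElt (h : GrpObj (Red.Ga (Spec (CommRingCat.of k)))) : k :=
  (Scheme.ΓSpecIso (CommRingCat.of k)).hom (Red.gaFn (h.one))

theorem val_one (h : GrpObj (Red.Ga (Spec (CommRingCat.of k)))) :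
    letI := h
    val (1 : TT k R ⟶ Red.Ga (Spec (CommRingCat.of k))) = algebraMap k R (unitElt h) := by
  letI := h
  unfold val unitElt
  rw [Hom.one_def, gaFn_comp]
  have h1 : (toUnit (TT k R)).left = Spec.map (CommRingCat.ofHom (algebraMap k R)) := rfl
  rw [h1]
  have := Scheme.ΓSpecIso_naturality (CommRingCat.ofHom (algebraMap k R))
  exact congrArg (fun f => f.hom (Red.gaFn η[Red.Ga (Spec (CommRingCat.of k))])) this

noncomputable def gop (h : GrpObj (Red.Ga (Spec (CommRingCat.of k))))
    (R : Type u) [CommRing R] [Algebra k R] (a b : R) : R :=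
  letI := h
  val (pt (k := k) a * pt b)

noncomputable def ginv (h : GrpObj (Red.Ga (Spec (CommRingCat.of k))))
    (R : Type u) [CommRing R] [Algebra k R] (a : R) : R :=
  letI := h
  val ((pt (k := k) a)⁻¹)

theorem specHom_pt (φ : R →ₐ[k] R') (a : R) : specHom φ ≫ pt (k := k) a = pt (φ a) := by
  rw [← pt_val (specHom φ ≫ pt a), val_comp, val_pt]

theorem op_nat (h : GrpObj (Red.Ga (Spec (CommRingCat.of k)))) (φ : R →ₐ[k] R') (a b : R) :
    φ (gop h R a b) = gop h R' (φ a) (φ b) := by
  letI := h
  unfold gop
  rw [← val_comp, MonObj.comp_mul, specHom_pt, specHom_pt]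

theorem op_assoc (h : GrpObj (Red.Ga (Spec (CommRingCat.of k)))) (a b c : R) :
    gop h R (gop h R a b) c = gop h R a (gop h R b c) := by
  letI := h
  unfold gop
  rw [pt_val, pt_val, _root_.mul_assoc]

theorem pt_unit (h : GrpObj (Red.Ga (Spec (CommRingCat.of k)))) :
    letI := h
    pt (k := k) (algebraMap k R (unitElt h)) = 1 := by
  letI := h
  rw [← val_one h, pt_val]

theorem op_one (h : GrpObj (Red.Ga (Spec (CommRingCat.of k)))) (a : R) :
    gop h R a (algebraMap k R (unitElt h)) = a := by
  letI := h
  unfold gop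
  rw [pt_unit h, _root_.mul_one, val_pt]

theorem one_op (h : GrpObj (Red.Ga (Spec (CommRingCat.of k)))) (a : R) :
    gop h R (algebraMap k R (unitElt h)) a = a := by
  letI := h
  unfold gop
  rw [pt_unit h, _root_.one_mul, val_pt]

theorem op_inv (h : GrpObj (Red.Ga (Spec (CommRingCat.of k)))) (a : R) :
    gop h R a (ginv h R a) = algebraMap k R (unitElt h) := by
  letI := h
  unfold gop ginv
  rw [pt_val, mul_inv_cancel, val_one h]


instance : IsAffine (Red.Ga (Spec (CommRingCat.of k))).left := by
  haveI : IsAffine Red.GaZ.{u}.left := by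
    change IsAffine (Spec _)
    infer_instance
  change IsAffine (pullback Red.GaZ.{u}.hom _)
  infer_instance

instance : IsAffine (Red.Ga (Spec (CommRingCat.of k)) ⊗ Red.Ga (Spec (CommRingCat.of k))).left := by
  change IsAffine (pullback _ _)
  infer_instance


theorem op_eq (h : GrpObj (Red.Ga (Spec (CommRingCat.of k)))) (a b : R) :
    gop h R a b = a + b - algebraMap k R (unitElt h) :=
  Groth.Agent.Helper23.GaCore.core k (fun R _ _ => gop h R) (unitElt h) (fun R _ _ => ginv h R)
    (fun R R' _ _ _ _ φ a b => op_nat h φ a b)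
    (fun R _ _ a b c => op_assoc h a b c)
    (fun R _ _ a => op_one h a) (fun R _ _ a => one_op h a) (fun R _ _ a => op_inv h a) R a b

theorem main (h₁ h₂ : GrpObj (Red.Ga (Spec (CommRingCat.of k)))) (e : h₁.one = h₂.one) :
    h₁.mul = h₂.mul := by
  let G := Red.Ga (Spec (CommRingCat.of k))
  let W : Over (Spec (CommRingCat.of k)) := G ⊗ G
  let R : Type u := Γ(W.left, ⊤)
  letI : Algebra k R :=
    RingHom.toAlgebra ((Scheme.ΓSpecIso (CommRingCat.of k)).inv ≫ W.hom.appTop).hom
  have hw : W.left.isoSpec.inv ≫ W.hom = Spec.map (CommRingCat.ofHom (algebraMap k R)) := by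
    rw [Iso.inv_comp_eq]
    have h1 := Scheme.toSpecΓ_naturality W.hom
    have h2 : (Spec (CommRingCat.of k)).toSpecΓ =
        Spec.map (Scheme.ΓSpecIso (CommRingCat.of k)).hom := by
      simp
    rw [h2] at h1
    have h3 : (CommRingCat.ofHom (algebraMap k R)) =
        (Scheme.ΓSpecIso (CommRingCat.of k)).inv ≫ W.hom.appTop := rfl
    rw [h3, Spec.map_comp, Scheme.isoSpec_hom, ← Category.assoc, ← h1, Category.assoc,
      ← Spec.map_comp, Iso.inv_hom_id, Spec.map_id, Category.comp_id]
  let ε : TT k R ⟶ W := Over.homMk (W.left.isoSpec.inv) hw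
  haveI : IsIso ε := by
    haveI : IsIso ((Over.forget (Spec (CommRingCat.of k))).map ε) := by
      change IsIso (W.left.isoSpec.inv)
      infer_instance
    exact isIso_of_reflects_iso ε (Over.forget _)
  have key : ∀ h : GrpObj G, ε ≫ h.mul =
      pt (val (ε ≫ fst G G) + val (ε ≫ snd G G) - algebraMap k R (unitElt h)) := by
    intro h
    letI := h
    have h1 : h.mul = fst G G * snd G G := by
      rw [Hom.mul_def, lift_fst_snd, Category.id_comp]
    rw [h1, MonObj.comp_mul, ← op_eq h]
    unfold gop
    rw [pt_val, pt_val, pt_val]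
  have he : unitElt h₁ = unitElt h₂ := by
    unfold unitElt
    rw [e]
  rw [← cancel_epi ε, key h₁, key h₂, he]

end cat

/-- Additive case. Let k be a field and consider the affine line over k, taken here as the underlying
k-scheme of the additive group. Any two structures of k-group scheme on it with the same unit
section have the same multiplication; in particular a group law on the affine line whose identity is
the origin is the usual addition. -/
theorem result (k : Type u) [Field k]
    (h₁ h₂ : GrpObj (Red.Ga (Spec (CommRingCat.of k)))) (e : h₁.one = h₂.one) : h₁.mul = h₂.mul := by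
  exact main h₁ h₂ e

end Groth.Agent.S15602
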