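import Groth.Statements.S15603
import Groth.Prelude.Def_GmPts
import Groth.Agent.Lib.Helper23.GmCore
import Mathlib

set_option autoImplicit false
universe u
open CategoryTheory MonoidalCategory CartesianMonoidalCategory MonObj GrpObj AlgebraicGeometry
open AlgGrp

namespace Groth.Agent.S15603

section cat
open CategoryTheory MonoidalCategory CartesianMonoidalCategory MonObj AlgebraicGeometry Opposite
open CategoryTheory.Limits
open GmPts
variable (k : Type u) [Field k]

/-- test object -/
noncomputable abbrev TT (R : Type u) [CommRing R] [Algebra k R] : Over (Spec (CommRingCat.of k)) :=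
  Over.mk (Spec.map (CommRingCat.ofHom (algebraMap k R)))

variable {k}
variable {R R' : Type u} [CommRing R] [Algebra k R] [CommRing R'] [Algebra k R']

noncomputable def val (t : TT k R ⟶ Red.Gm (Spec (CommRingCat.of k))) : Rˣ :=
  Units.map (Scheme.ΓSpecIso (CommRingCat.of R)).hom.hom.toMonoidHom
    (show (Γ(Spec (CommRingCat.of R), ⊤))ˣ from unitOfPt t)

noncomputable def pt (a : Rˣ) : TT k R ⟶ Red.Gm (Spec (CommRingCat.of k)) :=
  ptOfUnit (T := TT k R) (show (Γ((TT k R).left, ⊤))ˣ from
    Units.map (Scheme.ΓSpecIso (CommRingCat.of R)).inv.hom.toMonoidHom a)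

theorem val_pt (a : Rˣ) : val (pt (k := k) a) = a := by
  unfold val pt
  rw [unitOfPt_ptOfUnit]
  apply Units.ext
  exact congrArg (fun f => f.hom (a : R)) (Scheme.ΓSpecIso (CommRingCat.of R)).inv_hom_id

theorem pt_val (t : TT k R ⟶ Red.Gm (Spec (CommRingCat.of k))) : pt (val t) = t := by
  unfold val pt
  have : (show (Γ((TT k R).left, ⊤))ˣ from
      Units.map (Scheme.ΓSpecIso (CommRingCat.of R)).inv.hom.toMonoidHom
      (Units.map (Scheme.ΓSpecIso (CommRingCat.of R)).hom.hom.toMonoidHom
        (show (Γ(Spec (CommRingCat.of R), ⊤))ˣ from unitOfPt t))) =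
      unitOfPt t := by
    apply Units.ext
    exact congrArg (fun f => f.hom ((unitOfPt t : (Γ((TT k R).left, ⊤))ˣ) : Γ((TT k R).left, ⊤)))
      (Scheme.ΓSpecIso (CommRingCat.of R)).hom_inv_id
  rw [this, ptOfUnit_unitOfPt]

noncomputable def specHom (φ : R →ₐ[k] R') : TT k R' ⟶ TT k R :=
  Over.homMk (Spec.map (CommRingCat.ofHom φ.toRingHom)) (by
    change Spec.map _ ≫ Spec.map _ = Spec.map _
    rw [← Spec.map_comp, ← CommRingCat.ofHom_comp]
    congr 2
    exact φ.comp_algebraMap)

theorem val_comp (φ : R →ₐ[k] R') (t : TT k R ⟶ Red.Gm (Spec (CommRingCat.of k))) :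
    val (specHom φ ≫ t) = Units.map (φ : R →* R') (val t) := by
  unfold val
  rw [unitOfPt_comp]
  apply Units.ext
  have := Scheme.ΓSpecIso_naturality (CommRingCat.ofHom φ.toRingHom)
  exact congrArg (fun f => f.hom ((unitOfPt t : (Γ((TT k R).left, ⊤))ˣ) : Γ((TT k R).left, ⊤))) this


/-- the unit of a group law as an element of `kˣ` -/
noncomputable def unitElt (h : GrpObj (Red.Gm (Spec (CommRingCat.of k)))) : kˣ :=
  Units.map (Scheme.ΓSpecIso (CommRingCat.of k)).hom.hom.toMonoidHom
    (show (Γ(Spec (CommRingCat.of k), ⊤))ˣ from unitOfPt (h.one))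

theorem val_one (h : GrpObj (Red.Gm (Spec (CommRingCat.of k)))) :
    letI := h
    val (1 : TT k R ⟶ Red.Gm (Spec (CommRingCat.of k))) =
      Units.map (algebraMap k R : k →* R) (unitElt h) := by
  letI := h
  unfold val unitElt
  rw [Hom.one_def, unitOfPt_comp]
  have h1 : (toUnit (TT k R)).left = Spec.map (CommRingCat.ofHom (algebraMap k R)) := rfl
  rw [h1]
  apply Units.ext
  have := Scheme.ΓSpecIso_naturality (CommRingCat.ofHom (algebraMap k R))
  exact congrArg (fun f => f.hom (((show (Γ(Spec (CommRingCat.of k), ⊤))ˣ from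
    unitOfPt η[Red.Gm (Spec (CommRingCat.of k))]) : (Γ(Spec (CommRingCat.of k), ⊤))ˣ) :
      Γ(Spec (CommRingCat.of k), ⊤))) this

noncomputable def gop (h : GrpObj (Red.Gm (Spec (CommRingCat.of k))))
    (R : Type u) [CommRing R] [Algebra k R] (a b : Rˣ) : Rˣ :=
  letI := h
  val (pt (k := k) a * pt b)

theorem specHom_pt (φ : R →ₐ[k] R') (a : Rˣ) :
    specHom φ ≫ pt (k := k) a = pt (Units.map (φ : R →* R') a) := by
  rw [← pt_val (specHom φ ≫ pt a), val_comp, val_pt]

theorem op_nat (h : GrpObj (Red.Gm (Spec (CommRingCat.of k)))) (φ : R →ₐ[k] R') (a b : Rˣ) :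
    Units.map (φ : R →* R') (gop h R a b) =
      gop h R' (Units.map (φ : R →* R') a) (Units.map (φ : R →* R') b) := by
  letI := h
  unfold gop
  rw [← val_comp, MonObj.comp_mul, specHom_pt, specHom_pt]

theorem pt_unit (h : GrpObj (Red.Gm (Spec (CommRingCat.of k)))) :
    letI := h
    pt (k := k) (Units.map (algebraMap k R : k →* R) (unitElt h)) = 1 := by
  letI := h
  rw [← val_one h, pt_val]

theorem op_one (h : GrpObj (Red.Gm (Spec (CommRingCat.of k)))) (a : Rˣ) :
    gop h R a (Units.map (algebraMap k R : k →* R) (unitElt h)) = a := by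
  letI := h
  unfold gop
  rw [pt_unit h, _root_.mul_one, val_pt]

theorem one_op (h : GrpObj (Red.Gm (Spec (CommRingCat.of k)))) (a : Rˣ) :
    gop h R (Units.map (algebraMap k R : k →* R) (unitElt h)) a = a := by
  letI := h
  unfold gop
  rw [pt_unit h, _root_.one_mul, val_pt]

theorem op_eq (h : GrpObj (Red.Gm (Spec (CommRingCat.of k)))) (a b : Rˣ) :
    gop h R a b = Units.map (algebraMap k R : k →* R) (unitElt h)⁻¹ * a * b :=
  Groth.Agent.Helper23.GmCore.coreGm k (fun R _ _ => gop h R) (unitElt h)
    (fun _ _ _ _ _ _ φ a b => op_nat h φ a b)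
    (fun _ _ _ a => op_one h a) (fun _ _ _ a => one_op h a) R a b

instance : IsAffine (Red.Gm (Spec (CommRingCat.of k))).left := by
  haveI : IsAffine GmZ.{u}.left := by
    change IsAffine (Spec _)
    infer_instance
  change IsAffine (pullback GmZ.{u}.hom _)
  infer_instance

instance : IsAffine (Red.Gm (Spec (CommRingCat.of k)) ⊗ Red.Gm (Spec (CommRingCat.of k))).left := by
  change IsAffine (pullback _ _)
  infer_instance

theorem main (h₁ h₂ : GrpObj (Red.Gm (Spec (CommRingCat.of k)))) (e : h₁.one = h₂.one) :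
    h₁.mul = h₂.mul := by
  let G := Red.Gm (Spec (CommRingCat.of k))
  let W : Over (Spec (CommRingCat.of k)) := G ⊗ G
  let R : Type u := Γ(W.left, ⊤)
  letI : Algebra k R :=
    RingHom.toAlgebra ((Scheme.ΓSpecIso (CommRingCat.of k)).inv ≫ W.hom.appTop).hom
  have hw : W.left.isoSpec.inv ≫ W.hom = Spec.map (CommRingCat.ofHom (algebraMap k R)) := by
    rw [Iso.inv_comp_eq]
    have h1 := Scheme.toSpecΓ_naturality W.hom
    have h2 : (Spec (CommRingCat.of k)).toSpecΓ =
        Spec.map (Scheme.ΓSpecIso (CommRingCat.of k)).hom := by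
      simp
    rw [h2] at h1
    have h3 : (CommRingCat.ofHom (algebraMap k R)) =
        (Scheme.ΓSpecIso (CommRingCat.of k)).inv ≫ W.hom.appTop := rfl
    rw [h3, Spec.map_comp, Scheme.isoSpec_hom, ← Category.assoc, ← h1, Category.assoc,
      ← Spec.map_comp, Iso.inv_hom_id, Spec.map_id, Category.comp_id]
  let ε : TT k R ⟶ W := Over.homMk (W.left.isoSpec.inv) hw
  haveI : IsIso ε := by
    haveI : IsIso ((Over.forget (Spec (CommRingCat.of k))).map ε) := by
      change IsIso (W.left.isoSpec.inv)
      infer_instance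
    exact isIso_of_reflects_iso ε (Over.forget _)
  have key : ∀ h : GrpObj G, ε ≫ h.mul =
      pt (Units.map (algebraMap k R : k →* R) (unitElt h)⁻¹ * val (ε ≫ fst G G) *
        val (ε ≫ snd G G)) := by
    intro h
    letI := h
    have h1 : h.mul = fst G G * snd G G := by
      rw [Hom.mul_def, lift_fst_snd, Category.id_comp]
    rw [h1, MonObj.comp_mul, ← op_eq h]
    unfold gop
    rw [pt_val, pt_val, pt_val]
  have he : unitElt h₁ = unitElt h₂ := by
    unfold unitElt
    rw [e]
  rw [← cancel_epi ε, key h₁, key h₂, he]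

end cat

/-- Multiplicative case. Let k be a field and consider the affine line minus the origin over k, taken
here as the underlying k-scheme of the multiplicative group. Any two structures of k-group scheme on
it with the same unit section have the same multiplication; in particular a group law on the
punctured line whose identity is the point 1 is the usual multiplication. -/
theorem result (k : Type u) [Field k]
    (h₁ h₂ : GrpObj (Red.Gm (Spec (CommRingCat.of k)))) (e : h₁.one = h₂.one) : h₁.mul = h₂.mul := by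
  exact main h₁ h₂ e

end Groth.Agent.S15603
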