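import Groth.Statements.S15605
import Mathlib.LinearAlgebra.TensorProduct.Basis
import Mathlib.LinearAlgebra.Basis.VectorSpace
import Mathlib.LinearAlgebra.TensorProduct.RightExactness

set_option autoImplicit false
universe u
open TensorProduct
open AGF

namespace Groth.Agent.S15605

/-- linear algebra core: a tensor killed by all `φ ⊗ ψ` for separating families vanishes -/
theorem tensor_eq_zero_of_separating (k V W : Type u) [Field k] [AddCommGroup V] [Module k V]
    [AddCommGroup W] [Module k W] (Φ : Set (V →ₗ[k] k)) (Ψ : Set (W →ₗ[k] k))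
    (hΦ : ∀ v : V, (∀ φ ∈ Φ, φ v = 0) → v = 0) (hΨ : ∀ w : W, (∀ ψ ∈ Ψ, ψ w = 0) → w = 0)
    (z : V ⊗[k] W)
    (hz : ∀ φ ∈ Φ, ∀ ψ ∈ Ψ, LinearMap.mul' k k (TensorProduct.map φ ψ z) = 0) : z = 0 := by
  classical
  let ℬ := Module.Basis.ofVectorSpace k V
  -- u ψ : V ⊗ W → V
  let u : (W →ₗ[k] k) → (V ⊗[k] W →ₗ[k] V) := fun ψ =>
    (TensorProduct.rid k V).toLinearMap ∘ₗ LinearMap.lTensor V ψ
  have h1 : ∀ (φ : V →ₗ[k] k) (ψ : W →ₗ[k] k) (x : V ⊗[k] W),
      LinearMap.mul' k k (TensorProduct.map φ ψ x) = φ (u ψ x) := by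
    intro φ ψ x
    induction x using TensorProduct.induction_on with
    | zero => simp
    | tmul v w => simp [u, mul_comm]
    | add x y hx hy => simp only [map_add, hx, hy]
  have h2 : ∀ (ψ : W →ₗ[k] k) (x : V ⊗[k] W) (i : _),
      ℬ.coord i (u ψ x) = ψ (TensorProduct.equivFinsuppOfBasisLeft ℬ x i) := by
    intro ψ x i
    induction x using TensorProduct.induction_on with
    | zero => simp
    | tmul v w =>
      rw [TensorProduct.equivFinsuppOfBasisLeft_apply_tmul_apply]
      simp [u, mul_comm]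
    | add x y hx hy =>
      rw [map_add, map_add, hx, hy, map_add, Finsupp.add_apply, map_add]
  have h3 : ∀ ψ ∈ Ψ, u ψ z = 0 := by
    intro ψ hψ
    apply hΦ
    intro φ hφ
    rw [← h1]
    exact hz φ hφ ψ hψ
  have h4 : TensorProduct.equivFinsuppOfBasisLeft ℬ z = 0 := by
    ext i
    rw [Finsupp.zero_apply]
    apply hΨ
    intro ψ hψ
    rw [← h2, h3 ψ hψ, map_zero]
  exact (TensorProduct.equivFinsuppOfBasisLeft ℬ).map_eq_zero_iff.mp h4

/-- Affine form. Let k be a field, A and A' finitely generated commutative k-algebras and S, S' sets of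
k-algebra homomorphisms A → k, A' → k. The closure of a set of rational points of Spec A is cut out
by the intersection of their kernels. Compatibility of these closures with products: in A ⊗_k A',
the intersection over (σ, σ') ∈ S × S' of the kernels of σ ⊗ σ' : A ⊗_k A' → k equals the ideal
generated by the images of ⋂_{σ} ker σ and of ⋂_{σ'} ker σ'. -/
theorem result (k A A' : Type u) [Field k] [CommRing A] [Algebra k A]
    [Algebra.FiniteType k A] [CommRing A'] [Algebra k A'] [Algebra.FiniteType k A']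
    (S : Set (A →ₐ[k] k)) (S' : Set (A' →ₐ[k] k)) :
    (⨅ σ ∈ S, ⨅ σ' ∈ S', RingHom.ker ((Algebra.TensorProduct.lmul' (S := k) k).comp
        (Algebra.TensorProduct.map σ σ'))) =
      Ideal.map (Algebra.TensorProduct.includeLeft : A →ₐ[k] A ⊗[k] A') (⨅ σ ∈ S, RingHom.ker σ) ⊔
        Ideal.map (Algebra.TensorProduct.includeRight : A' →ₐ[k] A ⊗[k] A') (⨅ σ' ∈ S', RingHom.ker σ') := by
  classical
  set I : Ideal A := ⨅ σ ∈ S, RingHom.ker σ with hI
  set I' : Ideal A' := ⨅ σ' ∈ S', RingHom.ker σ' with hI'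
  apply le_antisymm
  · intro z hz
    simp only [Ideal.mem_iInf] at hz
    let f : A →ₐ[k] A ⧸ I := Ideal.Quotient.mkₐ k I
    let g : A' →ₐ[k] A' ⧸ I' := Ideal.Quotient.mkₐ k I'
    have hf : Function.Surjective f := Ideal.Quotient.mkₐ_surjective k I
    have hg : Function.Surjective g := Ideal.Quotient.mkₐ_surjective k I'
    have hkerf : RingHom.ker f = I := Ideal.Quotient.mkₐ_ker k I
    have hkerg : RingHom.ker g = I' := Ideal.Quotient.mkₐ_ker k I'
    rw [← hkerf, ← hkerg, ← Algebra.TensorProduct.map_ker f g hf hg, RingHom.mem_ker]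
    -- the induced points of the quotients
    have hIσ : ∀ σ ∈ S, ∀ a ∈ I, σ a = 0 := by
      intro σ hσ a ha
      rw [hI] at ha
      simp only [Ideal.mem_iInf] at ha
      exact (RingHom.mem_ker).mp (ha σ hσ)
    have hIσ' : ∀ σ' ∈ S', ∀ a ∈ I', σ' a = 0 := by
      intro σ hσ a ha
      rw [hI'] at ha
      simp only [Ideal.mem_iInf] at ha
      exact (RingHom.mem_ker).mp (ha σ hσ)
    let Φ : Set ((A ⧸ I) →ₗ[k] k) :=
      {φ | ∃ σ, ∃ hσ : σ ∈ S, φ = (Ideal.Quotient.liftₐ I σ (hIσ σ hσ)).toLinearMap}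
    let Ψ : Set ((A' ⧸ I') →ₗ[k] k) :=
      {ψ | ∃ σ, ∃ hσ : σ ∈ S', ψ = (Ideal.Quotient.liftₐ I' σ (hIσ' σ hσ)).toLinearMap}
    apply tensor_eq_zero_of_separating k (A ⧸ I) (A' ⧸ I') Φ Ψ
    · intro v hv
      obtain ⟨a, rfl⟩ := Ideal.Quotient.mk_surjective v
      rw [Ideal.Quotient.eq_zero_iff_mem, hI]
      simp only [Ideal.mem_iInf]
      intro σ hσ
      rw [RingHom.mem_ker]
      have := hv _ ⟨σ, hσ, rfl⟩
      exact this
    · intro v hv
      obtain ⟨a, rfl⟩ := Ideal.Quotient.mk_surjective v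
      rw [Ideal.Quotient.eq_zero_iff_mem, hI']
      simp only [Ideal.mem_iInf]
      intro σ hσ
      rw [RingHom.mem_ker]
      have := hv _ ⟨σ, hσ, rfl⟩
      exact this
    · rintro φ ⟨σ, hσ, rfl⟩ ψ ⟨σ', hσ', rfl⟩
      have h1 := hz σ hσ σ' hσ'
      rw [RingHom.mem_ker] at h1
      have h2 : ∀ x : A ⊗[k] A',
          LinearMap.mul' k k (TensorProduct.map (Ideal.Quotient.liftₐ I σ (hIσ σ hσ)).toLinearMap
            (Ideal.Quotient.liftₐ I' σ' (hIσ' σ' hσ')).toLinearMap (Algebra.TensorProduct.map f g x)) =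
          ((Algebra.TensorProduct.lmul' (S := k) k).comp (Algebra.TensorProduct.map σ σ')) x := by
        intro x
        induction x using TensorProduct.induction_on with
        | zero => simp
        | tmul a b =>
          simp only [f, g, Algebra.TensorProduct.map_tmul, Ideal.Quotient.mkₐ_eq_mk, TensorProduct.map_tmul,
            AlgHom.toLinearMap_apply, Ideal.Quotient.liftₐ_apply, Ideal.Quotient.lift_mk, RingHom.coe_coe,
            LinearMap.mul'_apply, AlgHom.coe_comp, Function.comp_apply, Algebra.TensorProduct.lmul'_apply_tmul] <;> rfl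
        | add x y hx hy => simp only [map_add, hx, hy]
      rw [h2, h1]
  · apply sup_le
    · rw [Ideal.map_le_iff_le_comap]
      intro a ha
      rw [Ideal.mem_comap]
      simp only [Ideal.mem_iInf]
      intro σ hσ σ' hσ'
      rw [RingHom.mem_ker]
      rw [hI] at ha
      simp only [Ideal.mem_iInf] at ha
      have h1 := (RingHom.mem_ker).mp (ha σ hσ)
      simp [h1]
    · rw [Ideal.map_le_iff_le_comap]
      intro a ha
      rw [Ideal.mem_comap]
      simp only [Ideal.mem_iInf]
      intro σ hσ σ' hσ'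
      rw [RingHom.mem_ker]
      rw [hI'] at ha
      simp only [Ideal.mem_iInf] at ha
      have h1 := (RingHom.mem_ker).mp (ha σ' hσ')
      simp [h1]

end Groth.Agent.S15605
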