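import Groth.Statements.S15609
import Groth.Agent.Lib.Helper12.TanUnr

set_option autoImplicit false
universe u
open CategoryTheory MonoidalCategory CartesianMonoidalCategory MonObj GrpObj AlgebraicGeometry
open AlgGrp

namespace Groth.Agent.S15609

open CategoryTheory.Limits Groth.Agent.Helper12.Tan in
/-- every `k`-point of `Spec k[ε]` is the zero section -/
theorem pt_eq_zero (k : Type u) [Field k]
    (x : 𝟙_ (Over (Spec (CommRingCat.of k))) ⟶ T (k := k) (TrivSqZeroExt k k)) :
    ∃ e0 : 𝟙_ (Over (Spec (CommRingCat.of k))) ⟶ T (k := k) k, x = e0 ≫ pW k k := by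
  have hid : (𝟙 (Spec (CommRingCat.of k)) : Spec (CommRingCat.of k) ⟶ Spec (CommRingCat.of k)) ≫
      Spec.map (CommRingCat.ofHom (algebraMap k k)) = 𝟙 _ := by
    rw [Category.id_comp, Algebra.algebraMap_self, CommRingCat.ofHom_id, Spec.map_id]
  let e0 : 𝟙_ (Over (Spec (CommRingCat.of k))) ⟶ T (k := k) k :=
    Over.homMk (𝟙 (Spec (CommRingCat.of k))) hid
  refine ⟨e0, ?_⟩
  apply Over.OverMorphism.ext
  set xl : Spec (CommRingCat.of k) ⟶ Spec (CommRingCat.of (TrivSqZeroExt k k)) := x.left with hxl
  have hw : xl ≫ Spec.map (CommRingCat.ofHom (algebraMap k (TrivSqZeroExt k k))) = 𝟙 _ := Over.w x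
  let ψ : TrivSqZeroExt k k →+* k := (Spec.preimage xl).hom
  have hψ : Spec.map (CommRingCat.ofHom ψ) = xl := by
    show Spec.map (CommRingCat.ofHom (Spec.preimage xl).hom) = xl
    rw [CommRingCat.ofHom_hom]
    exact Spec.map_preimage _
  have hcomm : ψ.comp (algebraMap k (TrivSqZeroExt k k)) = RingHom.id k := by
    have h1 : Spec.map (CommRingCat.ofHom (ψ.comp (algebraMap k (TrivSqZeroExt k k)))) =
        Spec.map (CommRingCat.ofHom (RingHom.id k)) := by
      rw [CommRingCat.ofHom_comp, Spec.map_comp, hψ, hw, CommRingCat.ofHom_id, Spec.map_id]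
    exact congrArg CommRingCat.Hom.hom (Spec.map_injective h1)
  have hψeq : ψ = (TrivSqZeroExt.fstHom k k k).toRingHom := by
    refine RingHom.ext fun y => ?_
    have hy : y = algebraMap k (TrivSqZeroExt k k) y.fst + TrivSqZeroExt.inr y.snd := by
      rw [TrivSqZeroExt.algebraMap_eq_inl]
      exact (TrivSqZeroExt.inl_fst_add_inr_snd_eq y).symm
    have h1 : ψ (algebraMap k (TrivSqZeroExt k k) y.fst) = y.fst :=
      congrFun (congrArg DFunLike.coe hcomm) y.fst
    have h2 : ψ (TrivSqZeroExt.inr y.snd) = 0 := by
      have hsq : ψ (TrivSqZeroExt.inr y.snd) * ψ (TrivSqZeroExt.inr y.snd) = 0 := by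
        rw [← map_mul, TrivSqZeroExt.inr_mul_inr, map_zero]
      exact mul_self_eq_zero.mp hsq
    show ψ y = y.fst
    conv_lhs => rw [hy]
    rw [map_add, h1, h2, add_zero]
  show xl = 𝟙 _ ≫ Spec.map (CommRingCat.ofHom (TrivSqZeroExt.fstHom k k k).toRingHom)
  rw [Category.id_comp, ← hψ, hψeq]


/-- The implication (ii) ⇒ (i). Let k be a field and f : G ⟶ G' a homomorphism of k-group schemes of
finite type. Suppose that f is injective on K-points for every algebraically closed field K over k,
and that f is injective on tangent spaces at the identity: every point of G with values in the dual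
numbers k[ε] which restricts to the identity at ε = 0 and is sent by f to the identity point of G'
is itself the identity point. Then f has trivial kernel: it is a monomorphism. (The published
statement assumes G smooth; this implication does not use it.) -/
theorem result (k : Type u) [Field k]
    (G G' : Over (Spec (CommRingCat.of k))) [GrpObj G] [GrpObj G'] [LocallyOfFiniteType G.hom] [QuasiCompact G.hom]
    [LocallyOfFiniteType G'.hom] [QuasiCompact G'.hom] (f : G ⟶ G') [IsMonHom f]
    (hgeom : ∀ (K : Type u) [Field K] [IsAlgClosed K] [Algebra k K],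
      Function.Injective (fun g : (Over.mk (Spec.map (CommRingCat.ofHom (algebraMap k K)))) ⟶ G => g ≫ f))
    (htan : ∀ g : (Over.mk (Spec.map (CommRingCat.ofHom (algebraMap k (DualNumber k))))) ⟶ G,
      (∀ x : 𝟙_ (Over (Spec (CommRingCat.of k))) ⟶ (Over.mk (Spec.map (CommRingCat.ofHom (algebraMap k (DualNumber k))))), x ≫ g = η[G]) →
        g ≫ f = toUnit _ ≫ η[G'] → g = toUnit _ ≫ η[G]) :
    Mono f := by
  classical
  haveI : LocallyOfFiniteType (f.left ≫ G'.hom) := by rw [Over.w f]; infer_instance
  haveI : LocallyOfFiniteType f.left := locallyOfFiniteType_of_comp f.left G'.hom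
  -- unramified
  haveI hunr : FormallyUnramified f.left := by
    apply Groth.Agent.Helper12.TanUnr.formallyUnramified_of_tangent_injective f
    intro a ha hau
    have h1 := htan a ?_ ?_
    · exact h1.trans (Hom.one_def (X := Groth.Agent.Helper12.Tan.T (k := k) (TrivSqZeroExt k k))
        (M := G)).symm
    · intro x
      obtain ⟨e0, hx⟩ := pt_eq_zero k x
      have hx2 : x ≫ a = (e0 ≫ Groth.Agent.Helper12.Tan.pW k k) ≫ a :=
        congrArg (fun t => t ≫ a) hx
      refine hx2.trans ?_
      rw [Category.assoc, ha, MonObj.comp_one, Hom.one_def]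
      have : toUnit (𝟙_ (Over (Spec (CommRingCat.of k)))) = 𝟙 _ := toUnit_unique _ _
      rw [this, Category.id_comp]
    · exact hau.trans (Hom.one_def (X := Groth.Agent.Helper12.Tan.T (k := k) (TrivSqZeroExt k k))
        (M := G'))
  haveI : IsOpenImmersion (Limits.pullback.diagonal f.left) := inferInstance
  -- the diagonal is surjective
  haveI hsurj : Surjective (Limits.pullback.diagonal f.left) := by
    rw [surjective_iff]
    intro z
    let K := AlgebraicClosure ((Limits.pullback f.left f.left).residueField z)
    let φ : Spec (CommRingCat.of K) ⟶ Limits.pullback f.left f.left :=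
      Spec.map (CommRingCat.ofHom (algebraMap ((Limits.pullback f.left f.left).residueField z) K)) ≫
        (Limits.pullback f.left f.left).fromSpecResidueField z
    let g₁ : Spec (CommRingCat.of K) ⟶ G.left := φ ≫ Limits.pullback.fst f.left f.left
    let g₂ : Spec (CommRingCat.of K) ⟶ G.left := φ ≫ Limits.pullback.snd f.left f.left
    have hg : g₁ ≫ f.left = g₂ ≫ f.left := by
      simp only [g₁, g₂, Category.assoc, Limits.pullback.condition]
    have hgG : g₁ ≫ G.hom = g₂ ≫ G.hom := by
      rw [← Over.w f, ← Category.assoc, hg, Category.assoc]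
    let c : k →+* K := (Spec.preimage (g₁ ≫ G.hom)).hom
    have hc : Spec.map (CommRingCat.ofHom c) = g₁ ≫ G.hom := by
      show Spec.map (CommRingCat.ofHom (Spec.preimage (g₁ ≫ G.hom)).hom) = _
      rw [CommRingCat.ofHom_hom]
      exact Spec.map_preimage _
    letI : Algebra k K := c.toAlgebra
    have hc' : Spec.map (CommRingCat.ofHom (algebraMap k K)) = g₁ ≫ G.hom := hc
    let p₁ : Over.mk (Spec.map (CommRingCat.ofHom (algebraMap k K))) ⟶ G :=
      Over.homMk g₁ hc'.symm
    let p₂ : Over.mk (Spec.map (CommRingCat.ofHom (algebraMap k K))) ⟶ G :=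
      Over.homMk g₂ (hgG ▸ hc'.symm)
    have hp : p₁ ≫ f = p₂ ≫ f := by
      apply Over.OverMorphism.ext
      exact hg
    have hpp : p₁ = p₂ := hgeom K hp
    have hgg : g₁ = g₂ := congrArg (fun t => t.left) hpp
    have hφ : φ = g₁ ≫ Limits.pullback.diagonal f.left := by
      apply Limits.pullback.hom_ext
      · have h1 : (g₁ ≫ Limits.pullback.diagonal f.left) ≫ Limits.pullback.fst f.left f.left = g₁ := by
          rw [Category.assoc, Limits.pullback.diagonal_fst, Category.comp_id]
        exact h1.symm
      · have h2 : (g₁ ≫ Limits.pullback.diagonal f.left) ≫ Limits.pullback.snd f.left f.left = g₁ := by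
          rw [Category.assoc, Limits.pullback.diagonal_snd, Category.comp_id]
        exact (h2.trans hgg).symm
    refine ⟨g₁ (IsLocalRing.closedPoint K), ?_⟩
    have h1 : (Limits.pullback.diagonal f.left) (g₁ (IsLocalRing.closedPoint K)) =
        φ (IsLocalRing.closedPoint K) := by
      rw [hφ]; rfl
    rw [h1]
    show ((Limits.pullback f.left f.left).fromSpecResidueField z)
      ((Spec.map (CommRingCat.ofHom (algebraMap ((Limits.pullback f.left f.left).residueField z) K)))
        (IsLocalRing.closedPoint K)) = z
    exact Scheme.fromSpecResidueField_apply _ _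
  haveI : IsIso (Limits.pullback.diagonal f.left) :=
    (isIso_iff_isOpenImmersion_and_surjective _).mpr ⟨inferInstance, hsurj⟩
  haveI : Mono f.left := (Limits.pullback.isIso_diagonal_iff f.left).mp inferInstance
  exact (Over.forget _).mono_of_mono_map (inferInstanceAs (Mono f.left))

end Groth.Agent.S15609
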