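import Groth.Statements.S15610
import Mathlib

set_option autoImplicit false
universe u
open SchFin SchFin.RSpace

namespace Groth.Agent.S15610

section aux
open SchFin

theorem idem_eq_zero_or_one {R : Type u} [CommRing R] [ConnectedSpace (PrimeSpectrum R)] {e : R}
    (he : IsIdempotentElem e) : e = 0 ∨ e = 1 := by
  have nil_zero : ∀ {a : R}, IsIdempotentElem a → IsNilpotent a → a = 0 := by
    rintro a ha ⟨n, hn⟩
    have : a ^ (n + 1) = a := ha.pow_succ_eq n
    rw [← this, pow_succ, hn, zero_mul]
  have hc : IsClopen ((PrimeSpectrum.basicOpen e : TopologicalSpace.Opens (PrimeSpectrum R)) :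
      Set (PrimeSpectrum R)) :=
    PrimeSpectrum.isClopen_iff.2 ⟨e, he, rfl⟩
  rcases isClopen_iff.1 hc with h | h
  · left
    apply nil_zero he
    rw [← PrimeSpectrum.basicOpen_eq_bot_iff]
    exact TopologicalSpace.Opens.ext h
  · right
    have h2 : PrimeSpectrum.basicOpen (1 - e) = ⊥ := by
      apply TopologicalSpace.Opens.ext
      have h3 : ((PrimeSpectrum.basicOpen (e * (1 - e)) : TopologicalSpace.Opens (PrimeSpectrum R)) :
          Set (PrimeSpectrum R)) = ∅ := by
        have : e * (1 - e) = 0 := by rw [mul_sub, mul_one, he.eq, sub_self]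
        rw [this, PrimeSpectrum.basicOpen_zero]
        rfl
      rw [PrimeSpectrum.basicOpen_mul, TopologicalSpace.Opens.coe_inf, h, Set.univ_inter] at h3
      exact h3
    have := nil_zero he.one_sub ((PrimeSpectrum.basicOpen_eq_bot_iff _).1 h2)
    exact (sub_eq_zero.1 this).symm

theorem connected_of_idem {R : Type u} [CommRing R] [Nontrivial R]
    (h : ∀ e : R, IsIdempotentElem e → e = 0 ∨ e = 1) : ConnectedSpace (PrimeSpectrum R) := by
  rw [connectedSpace_iff_clopen]
  refine ⟨inferInstance, fun s hs => ?_⟩
  obtain ⟨e, he, rfl⟩ := PrimeSpectrum.isClopen_iff.1 hs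
  rcases h e he with rfl | rfl
  · left; rw [PrimeSpectrum.basicOpen_zero]; rfl
  · right; rw [PrimeSpectrum.basicOpen_one]; rfl

theorem main (X : RSpace.{u}) : X.IsWellConnected ↔ (X.IsTopConnected ∧ X.IsPwConnected) := by
  classical
  constructor
  · rintro ⟨hc, hpw⟩
    refine ⟨?_, hpw⟩
    have hc' : ConnectedSpace (PrimeSpectrum (X.sectRing Set.univ)) := hc
    have hnt : ∀ p : X.pt, Nontrivial (X.ring p) := fun p => by
      have := hpw p
      exact (PrimeSpectrum.nonempty_iff_nontrivial).1 inferInstance
    have hne : Nonempty X.pt := by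
      by_contra h
      rw [not_nonempty_iff] at h
      have : Nontrivial (X.sectRing Set.univ) := (PrimeSpectrum.nonempty_iff_nontrivial).1 inferInstance
      obtain ⟨a, b, hab⟩ := this
      apply hab
      apply Subtype.ext
      funext q
      exact (h.false q.1).elim
    refine ⟨hne, fun p q => ?_⟩
    let C : X.pt → Prop := fun q => Relation.EqvGen (fun a b : X.pt => a ≤ b) p q
    have hC : ∀ a b : X.pt, a ≤ b → (C a ↔ C b) := fun a b hab =>
      ⟨fun h => Relation.EqvGen.trans _ _ _ h (Relation.EqvGen.rel _ _ hab),
       fun h => Relation.EqvGen.trans _ _ _ h (Relation.EqvGen.symm _ _ (Relation.EqvGen.rel _ _ hab))⟩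
    let e : X.sectRing Set.univ := ⟨fun q => if C q.1 then 1 else 0, fun q q' h => by
      by_cases hq : C q.1
      · change X.res h (if C q.1 then 1 else 0) = if C q'.1 then 1 else 0
        rw [if_pos hq, if_pos ((hC _ _ h).1 hq), map_one]
      · change X.res h (if C q.1 then 1 else 0) = if C q'.1 then 1 else 0
        rw [if_neg hq, if_neg (fun h' => hq ((hC _ _ h).2 h')), map_zero]⟩
    have he : IsIdempotentElem e := by
      apply Subtype.ext
      funext q
      change (if C q.1 then (1 : X.ring q.1) else 0) * (if C q.1 then 1 else 0) = if C q.1 then 1 else 0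
      split_ifs <;> simp
    rcases idem_eq_zero_or_one he with h0 | h1
    · exfalso
      have := congrFun (congrArg Subtype.val h0) ⟨p, trivial⟩
      change (if C p then (1 : X.ring p) else 0) = 0 at this
      rw [if_pos (Relation.EqvGen.refl p)] at this
      exact one_ne_zero this
    · have := congrFun (congrArg Subtype.val h1) ⟨q, trivial⟩
      change (if C q then (1 : X.ring q) else 0) = 1 at this
      by_contra hq
      rw [if_neg hq] at this
      exact zero_ne_one this
  · rintro ⟨⟨hne, htc⟩, hpw⟩
    refine ⟨?_, hpw⟩
    have hnt : ∀ p : X.pt, Nontrivial (X.ring p) := fun p => by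
      have := hpw p
      exact (PrimeSpectrum.nonempty_iff_nontrivial).1 inferInstance
    obtain ⟨p₀⟩ := hne
    haveI : Nontrivial (X.sectRing Set.univ) := by
      refine ⟨⟨0, 1, fun h => ?_⟩⟩
      have := congrFun (congrArg Subtype.val h) ⟨p₀, trivial⟩
      exact zero_ne_one this
    change ConnectedSpace (PrimeSpectrum (X.sectRing Set.univ))
    apply connected_of_idem
    intro e he
    have hpt : ∀ q : (Set.univ : Set X.pt), e.1 q = 0 ∨ e.1 q = 1 := by
      intro q
      have := hpw q.1
      apply idem_eq_zero_or_one
      have := congrFun (congrArg Subtype.val he) q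
      exact this
    have hstep : ∀ a b : X.pt, a ≤ b → (e.1 ⟨a, trivial⟩ = 0 ↔ e.1 ⟨b, trivial⟩ = 0) := by
      intro a b hab
      have hr := e.2 ⟨a, trivial⟩ ⟨b, trivial⟩ hab
      constructor
      · intro h
        rw [← hr, h, map_zero]
      · intro h
        rcases hpt ⟨a, trivial⟩ with h0 | h1
        · exact h0
        · rw [h1, map_one, h] at hr
          exact absurd hr one_ne_zero
    have hall : ∀ a b : X.pt, Relation.EqvGen (fun a b : X.pt => a ≤ b) a b →
        (e.1 ⟨a, trivial⟩ = 0 ↔ e.1 ⟨b, trivial⟩ = 0) := by
      intro a b hab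
      induction hab with
      | rel a b h => exact hstep a b h
      | refl a => exact Iff.rfl
      | symm a b _ ih => exact ih.symm
      | trans a b c _ _ ih1 ih2 => exact ih1.trans ih2
    rcases hpt ⟨p₀, trivial⟩ with h0 | h1
    · left
      apply Subtype.ext
      funext q
      exact (hall p₀ q.1 (htc p₀ q.1)).1 h0
    · right
      apply Subtype.ext
      funext q
      rcases hpt q with hq0 | hq1
      · have := (hall p₀ q.1 (htc p₀ q.1)).2 hq0
        rw [h1] at this
        exact absurd this one_ne_zero
      · exact hq1
end aux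

open SchFin in
/-- A schematic finite space is well-connected (the prime spectrum of its ring of global sections is
connected and the prime spectrum of the ring of each point is connected) if and only if its poset of
points is non-empty and connected and the prime spectrum of the ring of each point is connected. -/
theorem result (X : RSpace.{u})
    (hX : X.IsSchematic) : X.IsWellConnected ↔ (X.IsTopConnected ∧ X.IsPwConnected) := by
  exact main X

end Groth.Agent.S15610
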