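import Groth.Statements.S15611
import Mathlib
import Groth.Agent.Lib.Helper23.SchFinH0
import Groth.Agent.Lib.Helper23.FlatEpi

set_option autoImplicit false
universe u
open SchFin SchFin.RSpace

namespace Groth.Agent.S15611

section aux
open SchFin Groth.Agent.Helper23.SchFinH0 Groth.Agent.Helper23.FlatEpi

theorem res_epi (X : RSpace.{u}) (hX : X.IsSchematic) {x y : X.pt} (h : x ≤ y)
    {T : Type u} [CommRing T] (g₁ g₂ : X.ring y →+* T) (hg : g₁.comp (X.res h) = g₂.comp (X.res h)) :
    g₁ = g₂ := by
  obtain ⟨γ, h1, h2⟩ := schematic_pushout X hX h h g₁ g₂ (fun r => RingHom.congr_fun hg r)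
  ext a
  rw [← h1 a, ← h2 a]

theorem main (X : RSpace.{u}) (hX : X.IsSchematic)
    {x y : X.pt} (h : x ≤ y) (P : Ideal (X.ring y)) [P.IsPrime] :
    Function.Bijective (Localization.localRingHom (P.comap (X.res h)) P (X.res h) rfl) :=
  localRingHom_bijective_of_flat_epi (X.res h) (hX.1.2 x y h)
    (fun g₁ g₂ hg => res_epi X hX h g₁ g₂ hg) P

theorem aux2 (X : RSpace.{u}) (hX : X.IsSchematic) (x y : X.pt) (h : x ≤ y)
    (Q : PrimeSpectrum (X.ring y)) (P : PrimeSpectrum (X.ring x))
    (hp : PrimeSpectrum.comap (X.res h) Q = P) :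
    Function.Surjective (RSpace.Pair.κMap (⟨x, P⟩ : X.Pair) ⟨y, Q⟩ h hp) := by
  subst hp
  intro z
  obtain ⟨z', rfl⟩ := IsLocalRing.residue_surjective z
  obtain ⟨w, rfl⟩ := (main X hX h Q.asIdeal).2 z'
  exact ⟨IsLocalRing.residue _ w, rfl⟩

theorem main2 (X : RSpace.{u}) (hX : X.IsSchematic) (a b : X.Pair)
    (h : a.1 ≤ b.1) (hp : PrimeSpectrum.comap (X.res h) b.2 = a.2) :
    Function.Bijective (RSpace.Pair.κMap a b h hp) := by
  refine ⟨RingHom.injective _, ?_⟩
  obtain ⟨x, P⟩ := a
  obtain ⟨y, Q⟩ := b
  exact aux2 X hX x y h Q P hp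
end aux

open SchFin in
/-- In a schematic finite space, for points x ≤ y and a prime P of the ring of y, with Q its contraction
to the ring of x, the restriction map induces a bijection from the localization of the ring of x at
Q onto the localization of the ring of y at P. (Stated for the rings of the space themselves; the
published statement is the corresponding identification of localizations for the values of any
quasi-coherent algebra, which follows from this case by base change.) -/
theorem result (X : RSpace.{u}) (hX : X.IsSchematic)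
    {x y : X.pt} (h : x ≤ y) (P : Ideal (X.ring y)) [P.IsPrime] :
    Function.Bijective (Localization.localRingHom (P.comap (X.res h)) P (X.res h) rfl) := by
  exact main X hX h P

end Groth.Agent.S15611
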