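import Groth.Statements.S15613
import Mathlib
import Groth.Agent.Lib.Helper23.SchFinH0

set_option autoImplicit false
universe u
open SchFin SchFin.GeomPt

namespace Groth.Agent.S15613

section aux
open SchFin Groth.Agent.Helper23.SchFinH0

theorem main (X : RSpace.{u}) {Ω : Type u} [Field Ω]
    [IsAlgClosed Ω] (ξ : GeomPt X Ω) {x' : X.pt} (hx : ξ.base < x') (P : Ideal (X.ring x')) [P.IsPrime] :
    P.comap (X.res hx.le) ≠ RingHom.ker ξ.toField := by
  intro heq
  have hbc := (ξ.isSchematic.2.2 0 PUnit.unit PUnit.unit (le_refl _) ξ.base x' hx.le).2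
  have hcomap : (⊥ : Ideal Ω).comap ξ.toField = P.comap (X.res hx.le) := by
    rw [heq]; rfl
  obtain ⟨Ω', _, α, β, hαβ, -, -⟩ :=
    exists_field_of_comap_eq ξ.toField (X.res hx.le) (⊥ : Ideal Ω) P hcomap
  set f := ξ.hom with hf
  let q₀ : f.wedge PUnit.unit ξ.base := ⟨PUnit.unit, le_refl _, le_refl _⟩
  obtain ⟨γ, -, -⟩ := pushout_desc _ (f.subTgt PUnit.unit hx.le) hbc β
    (α.comp ((RSpace.point Ω).evalRing (f.wedge PUnit.unit ξ.base) q₀)) (fun r => by
      refine (hαβ r).symm.trans ?_
      change α (ξ.toField r) = α (f.app PUnit.unit (X.res (le_refl ξ.base) r))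
      rw [X.res_self]
      rfl)
  have h01 : (1 : (RSpace.point Ω).sectRing (f.wedge PUnit.unit x')) = 0 := by
    apply Subtype.ext
    funext q
    exact absurd q.2.2 (not_le_of_gt hx)
  have := congrArg γ h01
  rw [map_one, map_zero] at this
  exact one_ne_zero this
end aux

open SchFin in
/-- For a geometric point of a schematic finite space with values in an algebraically closed field,
hitting the point x with ring map from the ring of x to the field, the kernel of that ring map does
not lift to any point strictly above x: no prime of the ring of such a point contracts to it along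
the restriction map. -/
theorem result (X : RSpace.{u}) (hX : X.IsSchematic) {Ω : Type u} [Field Ω]
    [IsAlgClosed Ω] (ξ : GeomPt X Ω) {x' : X.pt} (hx : ξ.base < x') (P : Ideal (X.ring x')) [P.IsPrime] :
    P.comap (X.res hx.le) ≠ RingHom.ker ξ.toField := by
  exact main X ξ hx P

end Groth.Agent.S15613
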