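import Groth.Statements.S15616
import Mathlib
import Groth.Agent.Lib.Helper23.SchFinH0

set_option autoImplicit false
universe u
open SchFin SchFin.RSpace

namespace Groth.Agent.S15616

section aux
open SchFin Groth.Agent.Helper23.SchFinH0

theorem comap_res_self (X : RSpace.{u}) {z : X.pt} (h : z ≤ z) (r : PrimeSpectrum (X.ring z)) :
    PrimeSpectrum.comap (X.res h) r = r := by
  apply PrimeSpectrum.ext; ext t
  change X.res h t ∈ r.asIdeal ↔ t ∈ r.asIdeal
  rw [X.res_self]

theorem main (X : RSpace.{u}) (hX : X.IsSchematic) (hff : FFHyp X) (c : X.SchPt) :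
    ∃! a : X.Pair, Quot.mk X.PairRel a = c ∧ ∀ b : X.Pair, Quot.mk X.PairRel b = c → b.1 ≤ a.1 := by
  have E := pairRel_equivalence X hX hff
  have hq : ∀ a b : X.Pair, Quot.mk X.PairRel a = Quot.mk X.PairRel b ↔ X.PairRel a b := by
    intro a b
    rw [Quot.eq, E.eqvGen_iff]
  obtain ⟨a₀, rfl⟩ := Quot.exists_rep c
  -- the top pair is related to the bottom ones
  have htop : ∀ (a : X.Pair) (z : X.pt) (hz : a.1 ≤ z) (r : PrimeSpectrum (X.ring z)),
      PrimeSpectrum.comap (X.res hz) r = a.2 → X.PairRel a ⟨z, r⟩ := by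
    intro a z hz r hr
    exact ⟨z, hz, le_refl z, r, hr, comap_res_self X _ r⟩
  let T : Set X.pt := {p | ∃ b : X.Pair, b.1 = p ∧ X.PairRel a₀ b}
  have hTne : T.Nonempty := ⟨a₀.1, a₀, rfl, E.refl a₀⟩
  obtain ⟨x, hxT, hxmax⟩ := (Set.toFinite T).exists_maximal hTne
  obtain ⟨a, hax, haa₀⟩ := hxT
  have hamax : ∀ b : X.Pair, X.PairRel a₀ b → a.1 ≤ b.1 → b.1 = a.1 := by
    intro b hb hle
    have hbT : b.1 ∈ T := ⟨b, rfl, hb⟩
    have := hxmax hbT (hax ▸ hle)
    exact le_antisymm (hax ▸ this) hle
  have key : ∀ b : X.Pair, X.PairRel a₀ b → b.1 ≤ a.1 := by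
    intro b hb
    obtain ⟨z, hx, hy, r, h1, h2⟩ := E.trans (E.symm haa₀) hb
    have hz : X.PairRel a₀ ⟨z, r⟩ := E.trans haa₀ (htop a z hx r h1)
    have hza : z = a.1 := hamax ⟨z, r⟩ hz hx
    exact hza ▸ hy
  refine ⟨a, ⟨((hq _ _).2 haa₀).symm, fun b hb => key b ((hq _ _).1 hb.symm)⟩, ?_⟩
  rintro a' ⟨ha', hmax'⟩
  have ha'₀ : X.PairRel a₀ a' := (hq _ _).1 ha'.symm
  have h1 : a'.1 ≤ a.1 := key a' ha'₀
  have h2 : a.1 ≤ a'.1 := hmax' a ((hq _ _).2 haa₀).symm
  have hpt : a'.1 = a.1 := le_antisymm h1 h2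
  obtain ⟨z, hx, hy, r, e1, e2⟩ := E.trans (E.symm ha'₀) haa₀
  have hz : X.PairRel a₀ ⟨z, r⟩ := E.trans ha'₀ (htop a' z hx r e1)
  have hza : z = a.1 := hamax ⟨z, r⟩ hz hy
  obtain ⟨x', P'⟩ := a'
  obtain ⟨x, P⟩ := a
  simp only at hpt hza hx hy e1 e2
  subst hpt
  subst hza
  rw [comap_res_self] at e1 e2
  rw [← e1, ← e2]
end aux

open SchFin in
/-- In a schematic finite space every schematic point, that is, every class of pairs (a point with a
prime of its ring), has exactly one representative whose point lies above the points of all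
representatives of the class. (The published statement does not carry the hypothesis that, for every
two points that lie above a common point and whose minimal open sets meet, the product of the rings
over the intersection of these minimal open sets is faithfully flat over the ring of sections on it;
the published proof obtains this fact from properties of affine schematic spaces recalled there
without proof, and this row carries it explicitly.) -/
theorem result (X : RSpace.{u}) (hX : X.IsSchematic)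
    (hff : ∀ s a b : X.pt, s ≤ a → s ≤ b → (X.up a ∩ X.up b).Nonempty →
      Module.FaithfullyFlat (X.sectRing (X.up a ∩ X.up b)) ((q : ↥(X.up a ∩ X.up b)) → X.ring q.1))
    (c : X.SchPt) :
    ∃! a : X.Pair, Quot.mk X.PairRel a = c ∧ ∀ b : X.Pair, Quot.mk X.PairRel b = c → b.1 ≤ a.1 := by
  exact main X hX hff c

end Groth.Agent.S15616
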