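import Groth.Statements.S1562
import Groth.Agent.Lib.Helper16.Sch.GeomRk2

set_option autoImplicit false
universe u
open CategoryTheory CategoryTheory.Limits AlgebraicGeometry
open Variety

namespace Groth.Agent.S1562

/-- Let X be locally of finite type over a field k and x a point of X. Then X is geometrically regular
at x (regular local rings at all points over x after every finitely generated field extension) if
and only if x lies in the smooth locus of X → Spec k. -/
theorem result (k : Type u) [Field k] (X : Scheme.{u}) [X.Over (Spec (CommRingCat.of k))] [LocallyOfFinitePresentation (X ↘ (Spec (CommRingCat.of k)))] (x : X) :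
    Curv2.IsGeomRegularAt k X x ↔ x ∈ (X ↘ (Spec (CommRingCat.of k))).smoothLocus := by
  constructor
  · intro H
    apply Groth.Agent.Helper16.GeomRk.mem_smoothLocus_of_forall_finite_reg
    intro K _ _ hfin v' hv'
    have := hfin
    refine H K ?_ v' hv'
    exact IntermediateField.fg_top k K
  · intro hx k' _ _ _ x' hx'
    have h4 : x' ∈ (FBase.bcStr (X ↘ (Spec (CommRingCat.of k))) k').smoothLocus :=
      Groth.Agent.Helper16.SmoothLocusBC.preimage_smoothLocus_le
        (Groth.Agent.Helper16.GeomRk.isPullback_bc (X ↘ (Spec (CommRingCat.of k))) k')
        (show (FBase.bcπ (X ↘ (Spec (CommRingCat.of k))) k') x' ∈ _ from hx' ▸ hx)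
    exact Groth.Agent.Helper16.GeomRk.isRegularLocalRing_stalk_of_mem_smoothLocus
      (FBase.bcStr (X ↘ (Spec (CommRingCat.of k))) k') x' h4

end Groth.Agent.S1562
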