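import Groth.Statements.S15622
import Mathlib

set_option autoImplicit false
universe u
open SchFin SchFin.FEt

namespace Groth.Agent.S15622

open SchFin CategoryTheory CategoryTheory.Limits TensorProduct

section bc

theorem isBaseChange_prodMap {R S : Type u} [CommRing R] [CommRing S] [Algebra R S]
    {M N M' N' : Type u} [AddCommGroup M] [AddCommGroup N] [AddCommGroup M'] [AddCommGroup N']
    [Module R M] [Module R N] [Module R M'] [Module R N'] [Module S M'] [Module S N']
    [IsScalarTower R S M'] [IsScalarTower R S N'] {f : M →ₗ[R] M'} {g : N →ₗ[R] N'}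
    (hf : IsBaseChange S f) (hg : IsBaseChange S g) : IsBaseChange S (f.prodMap g) := by
  apply IsBaseChange.of_equiv ((TensorProduct.prodRight R S S M N).trans
    (hf.equiv.prodCongr hg.equiv))
  intro x
  obtain ⟨m, n⟩ := x
  simp [IsBaseChange.equiv_tmul]

theorem isBaseChange_of_subsingleton {R S : Type u} [CommRing R] [CommRing S] [Algebra R S]
    {M M' : Type u} [AddCommGroup M] [AddCommGroup M']
    [Module R M] [Module R M'] [Module S M'] [IsScalarTower R S M'] [Subsingleton M]
    [Subsingleton M'] (f : M →ₗ[R] M') : IsBaseChange S f := by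
  have : Subsingleton (S ⊗[R] M) := inferInstance
  apply IsBaseChange.of_equiv (LinearEquiv.ofSubsingleton _ _)
  intro x
  exact Subsingleton.elim _ _

theorem isBCAlong_prod {R S : Type u} [CommRing R] [CommRing S] (g : R →+* S)
    {M N M' N' : Type u} [AddCommGroup M] [AddCommGroup N] [AddCommGroup M'] [AddCommGroup N']
    [Module R M] [Module R N] [Module S M'] [Module S N'] (f : M →ₛₗ[g] M') (f' : N →ₛₗ[g] N')
    (hf : IsBCAlong g f) (hf' : IsBCAlong g f') (F : (M × N) →ₛₗ[g] (M' × N'))
    (hF : ∀ x, F x = (f x.1, f' x.2)) : IsBCAlong g F := by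
  unfold IsBCAlong at hf hf' ⊢
  letI : Algebra R S := g.toAlgebra
  letI : Module R M' := Module.compHom M' g
  letI : Module R N' := Module.compHom N' g
  letI : Module R (M' × N') := Module.compHom (M' × N') g
  haveI : IsScalarTower R S M' := IsScalarTower.of_algebraMap_smul fun _ _ => rfl
  haveI : IsScalarTower R S N' := IsScalarTower.of_algebraMap_smul fun _ _ => rfl
  haveI : IsScalarTower R S (M' × N') := IsScalarTower.of_algebraMap_smul fun _ _ => rfl
  apply IsBaseChange.of_equiv ((TensorProduct.prodRight R S S M N).trans
    (hf.equiv.prodCongr hf'.equiv))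
  rintro ⟨m, n⟩
  change _ = F (m, n)
  rw [hF]
  simp [IsBaseChange.equiv_tmul]

end bc

section et

theorem etale_punit (R : Type u) [CommRing R] : Algebra.Etale R PUnit.{u+1} := by
  have : Algebra.Etale R (PEmpty.{u+1} → R) := inferInstance
  let e : (PEmpty.{u+1} → R) ≃ₐ[R] PUnit.{u+1} :=
    { toFun := fun _ => PUnit.unit
      invFun := fun _ => fun x => x.elim
      left_inv := fun f => by ext x; exact x.elim
      right_inv := fun _ => rfl
      map_mul' := fun _ _ => rfl
      map_add' := fun _ _ => rfl
      commutes' := fun _ => rfl }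
  exact Algebra.Etale.of_equiv e

theorem etale_prod (R A B : Type u) [CommRing R] [CommRing A] [CommRing B] [Algebra R A]
    [Algebra R B] [Algebra.Etale R A] [Algebra.Etale R B] : Algebra.Etale R (A × B) := by
  let F : Bool → Type u := fun b => cond b A B
  letI i1 : ∀ i, CommRing (F i) := fun i => by
    cases i
    · exact (inferInstance : CommRing B)
    · exact (inferInstance : CommRing A)
  letI i2 : ∀ i, Algebra R (F i) := fun i => by
    cases i
    · exact (inferInstance : Algebra R B)
    · exact (inferInstance : Algebra R A)
  haveI : ∀ i, Algebra.Etale R (F i) := fun i => by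
    cases i
    · exact (inferInstance : Algebra.Etale R B)
    · exact (inferInstance : Algebra.Etale R A)
  have : Algebra.Etale R (Π i, F i) := inferInstance
  let e : (Π i, F i) ≃ₐ[R] (A × B) :=
    { toFun := fun f => (f true, f false)
      invFun := fun p => fun b => match b with
        | true => p.1
        | false => p.2
      left_inv := fun f => by
        funext b
        cases b <;> rfl
      right_inv := fun _ => rfl
      map_mul' := fun _ _ => rfl
      map_add' := fun _ _ => rfl
      commutes' := fun _ => rfl }
  exact Algebra.Etale.of_equiv e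

end et

section algs
variable (X : RSpace.{u})

/-- the zero algebra -/
def zeroAlg : Alg X where
  carrier _ := PUnit.{u+1}
  res _ := RingHom.id _
  res_algebraMap _ _ := rfl
  res_self _ _ := rfl
  res_comp _ _ _ := rfl

theorem zeroAlg_isEtCover : (zeroAlg X).IsEtCover := by
  refine ⟨?_, fun p => ⟨?_, ?_⟩⟩
  · intro p q h
    unfold IsBCAlong
    exact @isBaseChange_of_subsingleton _ _ _ _ (_) _ _ _ _ _ (_) _ (_)
      (inferInstanceAs (Subsingleton PUnit)) (inferInstanceAs (Subsingleton PUnit)) _
  · exact (inferInstance : Module.Finite (X.ring p) PUnit.{u+1})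
  · exact etale_punit _

variable {X}

/-- the product algebra -/
def prodAlg (A B : Alg X) : Alg X where
  carrier p := A.carrier p × B.carrier p
  res h := RingHom.prodMap (A.res h) (B.res h)
  res_algebraMap h a := by
    change (A.res h (algebraMap _ _ a), B.res h (algebraMap _ _ a)) = _
    rw [A.res_algebraMap, B.res_algebraMap]
    rfl
  res_self p b := by
    change (A.res _ b.1, B.res _ b.2) = b
    rw [A.res_self, B.res_self]
  res_comp h h' b := by
    change (A.res h' (A.res h b.1), B.res h' (B.res h b.2)) = (A.res _ b.1, B.res _ b.2)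
    rw [A.res_comp, B.res_comp]

theorem prodAlg_isEtCover (A B : Alg X) (hA : A.IsEtCover) (hB : B.IsEtCover) :
    (prodAlg A B).IsEtCover := by
  refine ⟨?_, fun p => ⟨?_, ?_⟩⟩
  · intro p q h
    exact isBCAlong_prod (X.res h) (A.toMod.res h) (B.toMod.res h) (hA.1 p q h) (hB.1 p q h)
      ((prodAlg A B).toMod.res h) (fun _ => rfl)
  · haveI := (hA.2 p).1
    haveI := (hB.2 p).1
    exact (inferInstance : Module.Finite (X.ring p) (A.carrier p × B.carrier p))
  · haveI := (hA.2 p).2
    haveI := (hB.2 p).2
    exact etale_prod _ _ _

end algs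

section cat
variable (X : RSpace.{u})

def toZero (A : Alg X) : A ⟶ zeroAlg X :=
  ⟨fun p =>
    { toFun := fun _ => PUnit.unit
      map_one' := rfl
      map_mul' := fun _ _ => rfl
      map_zero' := rfl
      map_add' := fun _ _ => rfl
      commutes' := fun _ => rfl }, fun _ _ => rfl⟩

theorem hasTerminal_FEt : HasTerminal (FEt X) := by
  let T : FEt X := ⟨zeroAlg X, zeroAlg_isEtCover X⟩
  haveI : ∀ Y : FEt X, Unique (Y ⟶ T) := fun Y =>
    { default := ObjectProperty.homMk (toZero X Y.obj)
      uniq := fun f => by
        apply ObjectProperty.hom_ext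
        apply Alg.hom_ext
        intro p
        apply AlgHom.ext
        intro c
        exact Subsingleton.elim (α := PUnit) _ _ }
  exact hasTerminal_of_unique T

variable {X}

def pfst (A B : Alg X) : prodAlg A B ⟶ A :=
  ⟨fun p => AlgHom.fst _ _ _, fun _ _ => rfl⟩

def psnd (A B : Alg X) : prodAlg A B ⟶ B :=
  ⟨fun p => AlgHom.snd _ _ _, fun _ _ => rfl⟩

def plift {A B C : Alg X} (f : C ⟶ A) (g : C ⟶ B) : C ⟶ prodAlg A B :=
  ⟨fun p => AlgHom.prod (f.app p) (g.app p), fun h b => by
    change (A.res h (f.app _ b), B.res h (g.app _ b)) = (f.app _ (C.res h b), g.app _ (C.res h b))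
    rw [f.compat, g.compat]⟩

theorem hasBinaryProducts_FEt : HasBinaryProducts (FEt X) := by
  haveI : ∀ A B : FEt X, HasLimit (pair A B) := by
    intro A B
    let P : FEt X := ⟨prodAlg A.obj B.obj, prodAlg_isEtCover A.obj B.obj A.property B.property⟩
    let fan : BinaryFan A B := BinaryFan.mk (P := P) (ObjectProperty.homMk (pfst A.obj B.obj))
      (ObjectProperty.homMk (psnd A.obj B.obj))
    refine ⟨⟨⟨fan, BinaryFan.IsLimit.mk fan
      (fun {T} f g => ObjectProperty.homMk (plift f.hom g.hom)) ?_ ?_ ?_⟩⟩⟩
    · intro T f g
      apply ObjectProperty.hom_ext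
      apply Alg.hom_ext
      intro p
      apply AlgHom.ext
      intro c
      rfl
    · intro T f g
      apply ObjectProperty.hom_ext
      apply Alg.hom_ext
      intro p
      apply AlgHom.ext
      intro c
      rfl
    · intro T f g m h1 h2
      apply ObjectProperty.hom_ext
      apply Alg.hom_ext
      intro p
      apply AlgHom.ext
      intro c
      have e1 := congrArg (fun k => (k.hom.app p) c) h1
      have e2 := congrArg (fun k => (k.hom.app p) c) h2
      exact Prod.ext e1 e2
  exact hasBinaryProducts_of_hasLimit_pair _

end cat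

open SchFin CategoryTheory CategoryTheory.Limits in
/-- For a schematic finite space, the category of étale covers (quasi-coherent algebras whose value at
every point is finite and étale over the ring of that point) has a terminal object and has binary
products. (In the published statement: finite direct products, the terminal object being the zero
algebra.) -/
theorem result (X : RSpace.{u}) (hX : X.IsSchematic) :
    HasTerminal (FEt X) ∧ HasBinaryProducts (FEt X) := by
  exact ⟨hasTerminal_FEt X, hasBinaryProducts_FEt⟩

end Groth.Agent.S15622
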