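import Groth.Statements.S15625
import Groth.Agent.Lib.Helper23.FEtLib
import Mathlib

set_option autoImplicit false
universe u
open SchFin SchFin.FEt

namespace Groth.Agent.S15625

open SchFin CategoryTheory CategoryTheory.Limits Groth.Agent.Helper23.FEtLib

section aux

theorem main (X : RSpace.{u}) (hX : X.IsSchematic) {A B : FEt X} (f : A ⟶ B) :
    ∃ (Q : FEt X) (g : A ⟶ Q) (h : Q ⟶ B), g ≫ h = f ∧
      (∀ p : X.pt, Function.Surjective (g.hom.app p)) ∧
      ∀ p : X.pt, Function.Injective (h.hom.app p) := by
  obtain ⟨e, hid, hk, he⟩ := exists_idem_family X hX.1 A.property B.property f.hom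
  let Q : FEt X := ⟨quotAlg A.obj e he, quotAlg_isEtCover A.obj A.property e he hid⟩
  let g : A ⟶ Q := ObjectProperty.homMk (quotMk A.obj e he)
  let h0 : Q.obj ⟶ B.obj :=
    ⟨fun p => Ideal.Quotient.liftₐ (Ideal.span {e p}) (f.hom.app p) (fun a ha => by
      rw [← hk p] at ha
      exact ha), fun {p q} hpq b => by
      obtain ⟨b, rfl⟩ := Ideal.Quotient.mk_surjective b
      exact f.hom.compat hpq b⟩
  refine ⟨Q, g, ObjectProperty.homMk h0, ?_, ?_, ?_⟩
  · apply ObjectProperty.hom_ext
    apply Alg.hom_ext
    intro p
    apply AlgHom.ext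
    intro a
    rfl
  · intro p
    exact Ideal.Quotient.mk_surjective
  · intro p
    rw [injective_iff_map_eq_zero]
    intro b hb
    obtain ⟨b, rfl⟩ := Ideal.Quotient.mk_surjective b
    have hb' : f.hom.app p b = 0 := hb
    have : b ∈ RingHom.ker (f.hom.app p) := hb'
    rw [hk p] at this
    exact Ideal.Quotient.eq_zero_iff_mem.2 this

end aux

open SchFin CategoryTheory in
/-- Over a schematic finite space, every morphism of étale covers factors, inside the category of étale
covers, as a morphism that is surjective at every point followed by one that is injective at every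
point (in particular as an epimorphism followed by a monomorphism; the middle object is the quotient
by the kernel). -/
theorem result (X : RSpace.{u}) (hX : X.IsSchematic) {A B : FEt X}
    (f : A ⟶ B) :
    ∃ (Q : FEt X) (g : A ⟶ Q) (h : Q ⟶ B), g ≫ h = f ∧ (∀ p : X.pt, Function.Surjective (g.hom.app p)) ∧
      ∀ p : X.pt, Function.Injective (h.hom.app p) := by
  exact main X hX f

end Groth.Agent.S15625
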