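import Groth.Statements.S15626
import Groth.Agent.Lib.Helper23.FEtLib
import Mathlib

set_option autoImplicit false
universe u
open SchFin SchFin.FEt

namespace Groth.Agent.S15626

open SchFin CategoryTheory CategoryTheory.Limits Groth.Agent.Helper23.FEtLib TensorProduct

section aux

theorem isBCAlong_self {R S : Type u} [CommRing R] [CommRing S] (g : R →+* S)
    (φ : R →ₛₗ[g] S) (hφ : ∀ r, φ r = g r) : IsBCAlong g φ := by
  unfold IsBCAlong
  letI : Algebra R S := g.toAlgebra
  letI : Module R S := Module.compHom S g
  haveI : IsScalarTower R S S := IsScalarTower.of_algebraMap_smul fun _ _ => rfl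
  apply IsBaseChange.of_equiv (TensorProduct.AlgebraTensorModule.rid R S S)
  intro x
  change _ = φ x
  rw [hφ]
  simp [Algebra.smul_def]
  rfl

theorem str_isEtCover (X : RSpace.{u}) : (Alg.str X).IsEtCover := by
  refine ⟨?_, fun p => ⟨?_, ?_⟩⟩
  · intro p q h
    exact isBCAlong_self (X.res h) _ (fun _ => rfl)
  · exact (inferInstance : Module.Finite (X.ring p) (X.ring p))
  · exact (inferInstance : Algebra.Etale (X.ring p) (X.ring p))

end aux

section test
variable {X : RSpace.{u}}

/-- the algebra map `R × R → A`, `(x, y) ↦ x e + y (1 - e)` of an idempotent `e` -/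
def idemHom {R A : Type u} [CommRing R] [CommRing A] [Algebra R A] (e : A)
    (he : IsIdempotentElem e) : (R × R) →ₐ[R] A where
  toFun x := algebraMap R A x.1 * e + algebraMap R A x.2 * (1 - e)
  map_one' := by simp
  map_mul' x y := by
    have h1 : e * e = e := he.eq
    simp only [Prod.fst_mul, Prod.snd_mul, map_mul]
    linear_combination (-(algebraMap R A x.1 * algebraMap R A y.1 - algebraMap R A x.1 * algebraMap R A y.2
      - algebraMap R A x.2 * algebraMap R A y.1 + algebraMap R A x.2 * algebraMap R A y.2)) * h1
  map_zero' := by simp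
  map_add' x y := by
    simp only [Prod.fst_add, Prod.snd_add, map_add]
    ring
  commutes' r := by
    change algebraMap R A r * e + algebraMap R A r * (1 - e) = algebraMap R A r
    ring

def testHom (A : Alg X) (e : ∀ p, A.carrier p) (hid : ∀ p, IsIdempotentElem (e p))
    (he : ∀ {p q : X.pt} (h : p ≤ q), A.res h (e p) = e q) :
    prodAlg (Alg.str X) (Alg.str X) ⟶ A :=
  ⟨fun p => idemHom (e p) (hid p), fun {p q} h b => by
    obtain ⟨x, y⟩ := b
    change A.res h (algebraMap (X.ring p) (A.carrier p) x * e p +
      algebraMap (X.ring p) (A.carrier p) y * (1 - e p)) =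
      algebraMap (X.ring q) (A.carrier q) (X.res h x) * e q +
        algebraMap (X.ring q) (A.carrier q) (X.res h y) * (1 - e q)
    rw [map_add, map_mul, map_mul, map_sub, map_one, he h, A.res_algebraMap, A.res_algebraMap]⟩

theorem main (X : RSpace.{u}) (hX : X.IsSchematic) {A B : FEt X} (f : A ⟶ B)
    [Mono f] (p : X.pt) : Function.Injective (f.hom.app p) := by
  obtain ⟨e, hid, hk, he⟩ := exists_idem_family X hX.1 A.property B.property f.hom
  let S2 : FEt X := ⟨prodAlg (Alg.str X) (Alg.str X),
    prodAlg_isEtCover _ _ (str_isEtCover X) (str_isEtCover X)⟩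
  let g : S2 ⟶ A := ObjectProperty.homMk (testHom A.obj e hid he)
  let h : S2 ⟶ A := ObjectProperty.homMk (testHom A.obj (fun _ => 0) (fun _ => IsIdempotentElem.zero)
    (fun _ => map_zero _))
  have hfe : ∀ q, f.hom.app q (e q) = 0 := by
    intro q
    have : e q ∈ RingHom.ker (f.hom.app q) := hk q ▸ Ideal.subset_span rfl
    exact this
  have hgh : g ≫ f = h ≫ f := by
    apply ObjectProperty.hom_ext
    apply Alg.hom_ext
    intro q
    apply AlgHom.ext
    intro x
    obtain ⟨x, y⟩ := x
    change f.hom.app q (algebraMap (X.ring q) (A.obj.carrier q) x * e q +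
      algebraMap (X.ring q) (A.obj.carrier q) y * (1 - e q)) =
      f.hom.app q (algebraMap (X.ring q) (A.obj.carrier q) x * 0 +
        algebraMap (X.ring q) (A.obj.carrier q) y * (1 - 0))
    simp only [map_add, map_mul, map_sub, map_one, hfe q, map_zero]
  have hgh' : g = h := (cancel_mono f).1 hgh
  have he0 : e p = 0 := by
    have := congrArg (fun k => (k.hom.app p) ((1, 0) : X.ring p × X.ring p)) hgh'
    change algebraMap (X.ring p) (A.obj.carrier p) (1 : X.ring p) * e p +
        algebraMap (X.ring p) (A.obj.carrier p) (0 : X.ring p) * (1 - e p) =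
      algebraMap (X.ring p) (A.obj.carrier p) (1 : X.ring p) * 0 +
        algebraMap (X.ring p) (A.obj.carrier p) (0 : X.ring p) * (1 - 0) at this
    simpa using this
  rw [RingHom.injective_iff_ker_eq_bot]
  change RingHom.ker (f.hom.app p) = ⊥
  rw [hk p, he0]
  simp

end test

open SchFin CategoryTheory in
/-- Over a schematic finite space, a monomorphism in the category of étale covers is injective at every
point (the converse implication being elementary). -/
theorem result (X : RSpace.{u}) (hX : X.IsSchematic) {A B : FEt X} (f : A ⟶ B)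
    [Mono f] (p : X.pt) : Function.Injective (f.hom.app p) := by
  exact main X hX f p

end Groth.Agent.S15626
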