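import Groth.Statements.S15627
import Mathlib
import Groth.Agent.Lib.Helper23.SchFinH0
import Groth.Agent.Lib.Helper23.SchFinAff

set_option autoImplicit false
universe u
open SchFin SchFin.GeomPt

namespace Groth.Agent.S15627

set_option linter.style.haveILetI false
set_option linter.unusedVariables false
set_option linter.unusedSectionVars false
open SchFin TensorProduct Groth.Agent.Helper23.SchFinH0 Groth.Agent.Helper23.SchFinAff

section bcgen

variable {R S : Type u} [CommRing R] [CommRing S] (g : R →+* S)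
  {M N : Type u} [AddCommGroup M] [AddCommGroup N] [Module R M] [Module S N] (f : M →ₛₗ[g] N)

/-- universal property criterion for `IsBCAlong` -/
theorem isBCAlong_of_lift
    (h : ∀ (Q : Type u) [AddCommGroup Q] [Module S Q] (ψ : M →+ Q),
      (∀ (r : R) (m : M), ψ (r • m) = g r • ψ m) →
        ∃ χ : N →ₗ[S] Q, (∀ m, χ (f m) = ψ m) ∧ ∀ χ' : N →ₗ[S] Q, (∀ m, χ' (f m) = ψ m) → χ' = χ) :
    IsBCAlong g f := by
  unfold IsBCAlong
  letI : Algebra R S := g.toAlgebra
  letI : Module R N := Module.compHom N g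
  haveI : IsScalarTower R S N := IsScalarTower.of_algebraMap_smul fun _ _ => rfl
  apply IsBaseChange.of_lift_unique
  intro Q _ _ _ _ ψ
  have hsm : ∀ (r : R) (x : Q), r • x = g r • x := fun r x => by
    rw [← algebraMap_smul S r x]; rfl
  letI : AddCommGroup Q := Module.addCommMonoidToAddCommGroup S
  obtain ⟨χ, hχ, huniq⟩ := h Q (ψ : M →+ Q) (fun r m => by
    show ψ (r • m) = g r • ψ m
    rw [map_smul, hsm])
  refine ⟨χ, ?_, ?_⟩
  · ext m
    exact hχ m
  · intro χ' hχ'
    apply huniq
    intro m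
    exact LinearMap.congr_fun hχ' m

theorem isBCAlong_subsingleton [Subsingleton M] [Subsingleton N] : IsBCAlong g f := by
  apply isBCAlong_of_lift
  intro Q _ _ ψ hψ
  refine ⟨0, fun m => ?_, fun χ' _ => ?_⟩
  · rw [Subsingleton.elim m 0, map_zero, map_zero, map_zero]
  · ext n
    rw [Subsingleton.elim n 0, map_zero, map_zero]

end bcgen

theorem isBCAlong_of_bijective {R S : Type u} [CommRing R] [CommRing S] (g : R →+* S)
    (hg : Function.Surjective g) {M N : Type u} [AddCommGroup M]
    [AddCommGroup N] [Module R M] [Module S N] (f : M →ₛₗ[g] N)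
    (hf : Function.Bijective f) : IsBCAlong g f := by
  apply isBCAlong_of_lift
  intro Q _ _ ψ hψ
  let e : M ≃ N := Equiv.ofBijective f hf
  have hfe : ∀ n, f (e.symm n) = n := fun n => e.apply_symm_apply n
  let χ : N →ₗ[S] Q :=
    { toFun := fun n => ψ (e.symm n)
      map_add' := fun n₁ n₂ => by
        rw [← map_add]
        congr 1
        apply hf.1
        rw [hfe, map_add, hfe, hfe]
      map_smul' := fun s n => by
        obtain ⟨r, rfl⟩ := hg s
        rw [RingHom.id_apply, ← hψ]
        congr 1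
        apply hf.1
        rw [hfe, LinearMap.map_smulₛₗ, hfe] }
  refine ⟨χ, fun m => ?_, fun χ' hχ' => ?_⟩
  · show ψ (e.symm (f m)) = ψ m
    congr 1
    exact e.symm_apply_apply m
  · ext n
    obtain ⟨m, rfl⟩ := hf.2 n
    rw [hχ']
    show _ = ψ (e.symm (f m))
    congr 1
    exact (e.symm_apply_apply m).symm

section lemmaB

variable {R S Ω : Type u} [CommRing R] [CommRing S] [Field Ω] (g : R →+* S) (b : R →+* Ω)

/-- if no prime of `S` contracts to the kernel of `b`, then `S ⊗[R] Ω` is trivial -/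
theorem tensor_subsingleton
    (hno : ¬ ∃ Q' : Ideal S, Q'.IsPrime ∧ Q'.comap g = RingHom.ker b) :
    letI : Algebra R S := g.toAlgebra
    letI : Algebra R Ω := b.toAlgebra
    Subsingleton (S ⊗[R] Ω) := by
  letI : Algebra R S := g.toAlgebra
  letI : Algebra R Ω := b.toAlgebra
  by_contra hns
  rw [not_subsingleton_iff_nontrivial] at hns
  obtain ⟨𝔪, h𝔪⟩ := Ideal.exists_maximal (S ⊗[R] Ω)
  haveI := h𝔪.isPrime
  apply hno
  refine ⟨𝔪.comap (Algebra.TensorProduct.includeLeftRingHom (R := R) (A := S) (B := Ω)),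
    Ideal.comap_isPrime _ _, ?_⟩
  ext r
  rw [Ideal.mem_comap, Ideal.mem_comap, RingHom.mem_ker]
  have e1 : Algebra.TensorProduct.includeLeftRingHom (R := R) (A := S) (B := Ω) (g r) =
      (Algebra.TensorProduct.includeRight (R := R) (A := S) (B := Ω)) (b r) := by
    show (g r) ⊗ₜ[R] (1 : Ω) = (1 : S) ⊗ₜ[R] (b r)
    have h1 : g r = r • (1 : S) := by rw [Algebra.smul_def, mul_one]; rfl
    have h2 : b r = r • (1 : Ω) := by rw [Algebra.smul_def, mul_one]; rfl
    rw [h1, h2, TensorProduct.smul_tmul]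
  rw [e1]
  have hprime : (𝔪.comap (Algebra.TensorProduct.includeRight (R := R) (A := S) (B := Ω)).toRingHom)
      = ⊥ := by
    have : (𝔪.comap (Algebra.TensorProduct.includeRight (R := R) (A := S)
        (B := Ω)).toRingHom).IsPrime := Ideal.comap_isPrime _ _
    rcases Ideal.eq_bot_or_top (𝔪.comap (Algebra.TensorProduct.includeRight (R := R) (A := S)
        (B := Ω)).toRingHom) with h | h
    · exact h
    · exact absurd h this.ne_top
  constructor
  · intro hmem
    have : b r ∈ 𝔪.comap (Algebra.TensorProduct.includeRight (R := R) (A := S)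
        (B := Ω)).toRingHom := hmem
    rw [hprime] at this
    exact this
  · intro hz
    rw [hz, map_zero]
    exact 𝔪.zero_mem

variable {M N : Type u} [AddCommGroup M] [AddCommGroup N] [Module R M] [Module S N]

theorem isBCAlong_of_no_prime
    (hno : ¬ ∃ Q' : Ideal S, Q'.IsPrime ∧ Q'.comap g = RingHom.ker b)
    (eM : M ≃+ Ω) (heM : ∀ (r : R) (m : M), eM (r • m) = b r * eM m) [Subsingleton N]
    (f : M →ₛₗ[g] N) : IsBCAlong g f := by
  apply isBCAlong_of_lift
  intro Q _ _ ψ hψ
  have hsub := tensor_subsingleton g b hno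
  letI : Algebra R S := g.toAlgebra
  letI : Algebra R Ω := b.toAlgebra
  letI : Module R Q := Module.compHom Q g
  haveI : IsScalarTower R S Q := IsScalarTower.of_algebraMap_smul fun _ _ => rfl
  have hsymm : ∀ (r : R) (ω : Ω), eM.symm (b r * ω) = r • eM.symm ω := by
    intro r ω
    apply eM.injective
    rw [heM, AddEquiv.apply_symm_apply, AddEquiv.apply_symm_apply]
  let Θ : S ⊗[R] Ω →ₗ[R] Q := TensorProduct.lift (LinearMap.mk₂ R
    (fun (s : S) (ω : Ω) => s • ψ (eM.symm ω))
    (fun s₁ s₂ ω => add_smul _ _ _)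
    (fun r s ω => by
      show (r • s) • ψ (eM.symm ω) = r • (s • ψ (eM.symm ω))
      rw [smul_assoc])
    (fun s ω₁ ω₂ => by rw [map_add, map_add, smul_add])
    (fun r s ω => by
      show s • ψ (eM.symm (r • ω)) = r • (s • ψ (eM.symm ω))
      have : r • ω = b r * ω := by rw [Algebra.smul_def]; rfl
      rw [this, hsymm, hψ, smul_comm]
      rfl))
  have hzero : ∀ m, ψ m = 0 := by
    intro m
    have h1 : Θ ((1 : S) ⊗ₜ[R] eM m) = ψ m := by
      show (1 : S) • ψ (eM.symm (eM m)) = ψ m
      rw [one_smul, AddEquiv.symm_apply_apply]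
    rw [← h1, Subsingleton.elim ((1 : S) ⊗ₜ[R] eM m) 0, map_zero]
  refine ⟨0, fun m => ?_, fun χ' _ => ?_⟩
  · rw [hzero m]; rfl
  · ext n
    rw [Subsingleton.elim n 0, map_zero, map_zero]

end lemmaB

section lemmaC

variable {R S Ω : Type u} [CommRing R] [CommRing S] [CommRing Ω] (g : R →+* S) (a : S →+* Ω)
  {M N : Type u} [AddCommGroup M] [AddCommGroup N] [Module R M] [Module S N]

theorem tmul_comm_of_epi
    (hepi : ∀ (T : Type u) [CommRing T] (α β : S →+* T), (∀ r, α (g r) = β (g r)) → α = β)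
    (s : S) :
    letI : Algebra R S := g.toAlgebra
    (s ⊗ₜ[R] (1 : S) : S ⊗[R] S) = (1 : S) ⊗ₜ[R] s := by
  letI : Algebra R S := g.toAlgebra
  have := hepi (S ⊗[R] S) (Algebra.TensorProduct.includeLeftRingHom (R := R) (A := S) (B := S))
    (Algebra.TensorProduct.includeRight (R := R) (A := S) (B := S)).toRingHom (fun r => by
      show (g r) ⊗ₜ[R] (1 : S) = (1 : S) ⊗ₜ[R] (g r)
      have h1 : g r = r • (1 : S) := by rw [Algebra.smul_def, mul_one]; rfl
      rw [h1, TensorProduct.smul_tmul])
  exact RingHom.congr_fun this s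

theorem isBCAlong_of_epi
    (hepi : ∀ (T : Type u) [CommRing T] (α β : S →+* T), (∀ r, α (g r) = β (g r)) → α = β)
    (eM : M ≃+ Ω) (heM : ∀ (r : R) (m : M), eM (r • m) = a (g r) * eM m)
    (eN : N ≃+ Ω) (heN : ∀ (s : S) (n : N), eN (s • n) = a s * eN n)
    (f : M →ₛₗ[g] N) (hf : ∀ m, eN (f m) = eM m) : IsBCAlong g f := by
  apply isBCAlong_of_lift
  intro Q _ _ ψ hψ
  letI : Algebra R S := g.toAlgebra
  letI : Module R Q := Module.compHom Q g
  haveI : IsScalarTower R S Q := IsScalarTower.of_algebraMap_smul fun _ _ => rfl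
  have hsymm : ∀ (r : R) (ω : Ω), eM.symm (a (g r) * ω) = r • eM.symm ω := by
    intro r ω
    apply eM.injective
    rw [heM, AddEquiv.apply_symm_apply, AddEquiv.apply_symm_apply]
  have key : ∀ (s : S) (ω : Ω), ψ (eM.symm (a s * ω)) = s • ψ (eM.symm ω) := by
    intro s ω
    let Θ : S ⊗[R] S →ₗ[R] Q := TensorProduct.lift (LinearMap.mk₂ R
      (fun (s₁ : S) (s₂ : S) => s₁ • ψ (eM.symm (a s₂ * ω)))
      (fun s₁ s₂ ω' => add_smul _ _ _)
      (fun r s₁ s₂ => by
        show (r • s₁) • ψ (eM.symm (a s₂ * ω)) = r • (s₁ • ψ (eM.symm (a s₂ * ω)))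
        rw [smul_assoc])
      (fun s₁ s₂ s₃ => by rw [map_add, add_mul, map_add, map_add, smul_add])
      (fun r s₁ s₂ => by
        show s₁ • ψ (eM.symm (a (r • s₂) * ω)) = r • (s₁ • ψ (eM.symm (a s₂ * ω)))
        have : r • s₂ = g r * s₂ := by rw [Algebra.smul_def]; rfl
        rw [this, map_mul a, mul_assoc, hsymm, hψ, smul_comm]
        rfl))
    have h1 : Θ (s ⊗ₜ[R] (1 : S)) = s • ψ (eM.symm ω) := by
      show s • ψ (eM.symm (a 1 * ω)) = _
      rw [map_one, one_mul]
    have h2 : Θ ((1 : S) ⊗ₜ[R] s) = ψ (eM.symm (a s * ω)) := by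
      show (1 : S) • ψ (eM.symm (a s * ω)) = _
      rw [one_smul]
    rw [← h1, ← h2, tmul_comm_of_epi g hepi s]
  let χ : N →ₗ[S] Q :=
    { toFun := fun n => ψ (eM.symm (eN n))
      map_add' := fun n₁ n₂ => by rw [map_add, map_add, map_add]
      map_smul' := fun s n => by
        rw [RingHom.id_apply, heN, key] }
  refine ⟨χ, fun m => ?_, fun χ' hχ' => ?_⟩
  · show ψ (eM.symm (eN (f m))) = ψ m
    rw [hf, AddEquiv.symm_apply_apply]
  · ext n
    have hn : n = f (eM.symm (eN n)) := by
      apply eN.injective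
      rw [hf, AddEquiv.apply_symm_apply]
    rw [hn, hχ']
    show _ = ψ (eM.symm (eN (f (eM.symm (eN n)))))
    rw [hf, AddEquiv.apply_symm_apply]

end lemmaC

section point

variable {Ω : Type u} [Field Ω]

variable {W : Set (RSpace.point Ω).pt} {R : Type u} [CommRing R] (φ : Coef (RSpace.point Ω) W R)

instance : Subsingleton (RSpace.point Ω).pt := by
  show Subsingleton PUnit
  infer_instance

theorem chain_isEmpty (n : ℕ) : IsEmpty (Chain (X := RSpace.point Ω) W (n + 1)) := by
  constructor
  intro σ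
  have h01 : (0 : Fin (n + 2)) ≠ 1 := by
    intro h
    have := congrArg Fin.val h
    simp at this
  apply h01
  apply σ.injective
  apply Subtype.ext
  exact Subsingleton.elim _ _

theorem H_succ_subsingleton (M : OMod (RSpace.point Ω)) (n : ℕ) :
    Subsingleton (H φ M (n + 1)) := by
  haveI := chain_isEmpty (Ω := Ω) (W := W) n
  haveI : Subsingleton (Cochain φ M (n + 1)) := by
    unfold Cochain
    infer_instance
  haveI : Subsingleton ↥(cocycles φ M (n + 1)) := inferInstance
  unfold H
  infer_instance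

/-- evaluation of sections at the point -/
def evSect {p : (RSpace.point Ω).pt} (hW : p ∈ W) : (RSpace.point Ω).sectRing W ≃+ Ω where
  toFun t := t.1 ⟨p, hW⟩
  invFun ω := ⟨fun _ => ω, fun _ _ _ => rfl⟩
  left_inv t := by
    apply Subtype.ext
    funext q
    have : q = ⟨p, hW⟩ := Subtype.ext (Subsingleton.elim _ _)
    rw [this]
  right_inv ω := rfl
  map_add' _ _ := rfl

noncomputable def evW {p : (RSpace.point Ω).pt} (hW : p ∈ W) :
    H φ (RSpace.point Ω).str 0 ≃+ Ω :=
  (secEquiv φ).symm.trans (evSect hW)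

/-- the coefficient map to the field -/
def coefΩ {p : (RSpace.point Ω).pt} (hW : p ∈ W) : R →+* Ω := φ.map ⟨p, hW⟩

theorem evW_smul {p : (RSpace.point Ω).pt} (hW : p ∈ W) (r : R)
    (m : H φ (RSpace.point Ω).str 0) :
    evW φ hW (r • m) = coefΩ φ hW r * evW φ hW m := by
  obtain ⟨t, rfl⟩ := (secEquiv φ).surjective m
  rw [← secEquiv_smul]
  show evSect hW ((secEquiv φ).symm (secEquiv φ _)) = _ * evSect hW ((secEquiv φ).symm (secEquiv φ _))
  rw [AddEquiv.symm_apply_apply, AddEquiv.symm_apply_apply]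
  rfl

theorem H0_subsingleton (hW : ∀ p, p ∉ W) : Subsingleton (H φ (RSpace.point Ω).str 0) := by
  haveI : IsEmpty W := ⟨fun q => hW q.1 q.2⟩
  haveI : Subsingleton ((RSpace.point Ω).sectRing W) := ⟨fun a b => by
    apply Subtype.ext
    funext q
    exact isEmptyElim q⟩
  exact (secEquiv φ).symm.toEquiv.subsingleton

variable {W' : Set (RSpace.point Ω).pt} {R' : Type u} [CommRing R']
  {φ' : Coef (RSpace.point Ω) W' R'}

theorem evW_resH (sub : Coef.Sub φ φ') {p : (RSpace.point Ω).pt} (hW' : p ∈ W')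
    (m : H φ (RSpace.point Ω).str 0) :
    evW φ' hW' (resH (RSpace.point Ω).str sub 0 m) = evW φ (sub.le hW') m := by
  obtain ⟨t, rfl⟩ := (secEquiv φ).surjective m
  rw [resH_secEquiv]
  show evSect hW' ((secEquiv φ').symm (secEquiv φ' _)) = evSect _ ((secEquiv φ).symm (secEquiv φ _))
  rw [AddEquiv.symm_apply_apply, AddEquiv.symm_apply_apply]
  rfl

end point

section main

variable (X : RSpace.{u}) {Ω : Type u} [Field Ω]

/-- the morphism from the one-point space given by a point and a ring map to the field -/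
def ptHom (x₀ : X.pt) (θ : X.ring x₀ →+* Ω) : Hom (RSpace.point Ω) X where
  fn _ := x₀
  mono _ _ _ := le_refl _
  app _ := θ
  compat h b := by
    show θ b = θ (X.res _ b)
    rw [X.res_self]

theorem res_epi (hX : X.IsSchematic) {y y' : X.pt} (hy : y ≤ y') (T : Type u) [CommRing T]
    (α β : X.ring y' →+* T) (h : ∀ r, α (X.res hy r) = β (X.res hy r)) : α = β := by
  obtain ⟨γ, h1, h2⟩ := schematic_pushout X hX hy hy α β h
  ext b
  rw [← h1 b, ← h2 b]

theorem point_isFinSp : (RSpace.point Ω).IsFinSp := by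
  refine ⟨fun _ => ?_, fun p q h => ?_⟩
  · show IsNoetherianRing Ω
    infer_instance
  · show (RingHom.id Ω).Flat
    exact RingHom.Flat.id Ω

theorem mem_wedge_iff (x₀ : X.pt) (θ : X.ring x₀ →+* Ω) (x : (RSpace.point Ω).pt) (y : X.pt) :
    x ∈ (ptHom X x₀ θ).wedge x y ↔ y ≤ x₀ :=
  ⟨fun h => h.2, fun h => ⟨le_refl _, h⟩⟩

theorem not_mem_wedge (x₀ : X.pt) (θ : X.ring x₀ →+* Ω) (x : (RSpace.point Ω).pt) (y : X.pt)
    (h : ¬ y ≤ x₀) (p : (RSpace.point Ω).pt) : p ∉ (ptHom X x₀ θ).wedge x y :=
  fun hp => h hp.2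

theorem ptHom_isSchematic (hX : X.IsSchematic) (hff : FFHyp X) (x₀ : X.pt)
    (P₀ : PrimeSpectrum (X.ring x₀))
    (ha : ∀ b : X.Pair, X.PairRel ⟨x₀, P₀⟩ b → b.1 ≤ x₀) (θ : X.ring x₀ →+* Ω)
    (hθ : RingHom.ker θ = P₀.asIdeal) : (ptHom X x₀ θ).IsSchematic := by
  refine ⟨point_isFinSp, hX.1, ?_⟩
  intro n x x' hx y y' hy
  constructor
  · cases n with
    | succ n =>
      haveI := H_succ_subsingleton (Coef.ofLE x ((ptHom X x₀ θ).wedge x y)
        ((ptHom X x₀ θ).wedge_subset_up x y)) (RSpace.point Ω).str n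
      haveI := H_succ_subsingleton (Coef.ofLE x' ((ptHom X x₀ θ).wedge x' y)
        ((ptHom X x₀ θ).wedge_subset_up x' y)) (RSpace.point Ω).str n
      exact isBCAlong_subsingleton _ _
    | zero =>
      by_cases hW : y ≤ x₀
      · have hW' := (mem_wedge_iff X x₀ θ x' y).mpr hW
        apply isBCAlong_of_bijective
        · exact fun ω => ⟨ω, rfl⟩
        have key : ∀ m, evW _ hW' (resH (RSpace.point Ω).str ((ptHom X x₀ θ).subSrc hx y) 0 m) =
            evW _ (((ptHom X x₀ θ).subSrc hx y).le hW') m := fun m => evW_resH _ _ hW' m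
        constructor
        · intro m₁ m₂ h
          apply (evW _ (((ptHom X x₀ θ).subSrc hx y).le hW')).injective
          exact (key m₁).symm.trans ((congrArg _ h).trans (key m₂))
        · intro n
          refine ⟨(evW _ (((ptHom X x₀ θ).subSrc hx y).le hW')).symm (evW _ hW' n), ?_⟩
          apply (evW _ hW').injective
          exact (key _).trans (AddEquiv.apply_symm_apply _ _)
      · haveI := H0_subsingleton (Coef.ofLE x ((ptHom X x₀ θ).wedge x y)
          ((ptHom X x₀ θ).wedge_subset_up x y)) (not_mem_wedge X x₀ θ x y hW)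
        haveI := H0_subsingleton (Coef.ofLE x' ((ptHom X x₀ θ).wedge x' y)
          ((ptHom X x₀ θ).wedge_subset_up x' y)) (not_mem_wedge X x₀ θ x' y hW)
        exact isBCAlong_subsingleton _ _
  · cases n with
    | succ n =>
      haveI := H_succ_subsingleton (Coef.ofHom (ptHom X x₀ θ) y ((ptHom X x₀ θ).wedge x y)
        ((ptHom X x₀ θ).wedge_subset_pre x y)) (RSpace.point Ω).str n
      haveI := H_succ_subsingleton (Coef.ofHom (ptHom X x₀ θ) y' ((ptHom X x₀ θ).wedge x y')
        ((ptHom X x₀ θ).wedge_subset_pre x y')) (RSpace.point Ω).str n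
      exact isBCAlong_subsingleton _ _
    | zero =>
      by_cases h1 : y' ≤ x₀
      · have hyx : y ≤ x₀ := hy.trans h1
        have hW := (mem_wedge_iff X x₀ θ x y).mpr hyx
        have hW' := (mem_wedge_iff X x₀ θ x y').mpr h1
        refine isBCAlong_of_epi (X.res hy) (θ.comp (X.res h1)) (res_epi X hX hy)
          (evW _ hW) ?_ (evW _ hW') ?_ _ ?_
        · intro r m
          rw [evW_smul]
          congr 1
          show θ (X.res _ r) = θ (X.res h1 (X.res hy r))
          rw [X.res_comp]
        · intro s n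
          rw [evW_smul]
          rfl
        · intro m
          exact evW_resH _ _ hW' m
      · by_cases h2 : y ≤ x₀
        · have hW := (mem_wedge_iff X x₀ θ x y).mpr h2
          haveI := H0_subsingleton (Coef.ofHom (ptHom X x₀ θ) y' ((ptHom X x₀ θ).wedge x y')
            ((ptHom X x₀ θ).wedge_subset_pre x y')) (not_mem_wedge X x₀ θ x y' h1)
          refine isBCAlong_of_no_prime (X.res hy) (θ.comp (X.res h2)) ?_ (evW _ hW) ?_ _
          · rintro ⟨Q', hQ', hQ'eq⟩
            apply h1
            have hrel : X.PairRel ⟨x₀, P₀⟩ ⟨y', ⟨Q', hQ'⟩⟩ := by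
              apply pair_lift X hX hff h2 hy P₀ ⟨Q', hQ'⟩
              apply PrimeSpectrum.ext
              show P₀.asIdeal.comap (X.res h2) = Q'.comap (X.res hy)
              rw [hQ'eq, ← hθ]
              ext r
              simp [RingHom.mem_ker]
            exact ha _ hrel
          · intro r m
            rw [evW_smul]
            rfl
        · haveI := H0_subsingleton (Coef.ofHom (ptHom X x₀ θ) y ((ptHom X x₀ θ).wedge x y)
            ((ptHom X x₀ θ).wedge_subset_pre x y)) (not_mem_wedge X x₀ θ x y h2)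
          haveI := H0_subsingleton (Coef.ofHom (ptHom X x₀ θ) y' ((ptHom X x₀ θ).wedge x y')
            ((ptHom X x₀ θ).wedge_subset_pre x y')) (not_mem_wedge X x₀ θ x y' h1)
          exact isBCAlong_subsingleton _ _

theorem geomPt_ext {Ω : Type u} [Field Ω] [IsAlgClosed Ω] (ξ ξ' : GeomPt X Ω)
    (h : (⟨ξ.base, ξ.toField⟩ : Σ x : X.pt, (X.ring x →+* Ω)) = ⟨ξ'.base, ξ'.toField⟩) :
    ξ = ξ' := by
  obtain ⟨⟨fn, mono, app, compat⟩, hs⟩ := ξ
  obtain ⟨⟨fn', mono', app', compat'⟩, hs'⟩ := ξ'
  have h1 : fn PUnit.unit = fn' PUnit.unit := congrArg Sigma.fst h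
  have hfn : fn = fn' := by
    funext q
    cases q
    exact h1
  subst hfn
  have h2 : app PUnit.unit = app' PUnit.unit := by
    have := (Sigma.mk.inj_iff.mp h).2
    exact eq_of_heq this
  have happ : app = app' := by
    funext q
    cases q
    exact h2
  subst happ
  rfl

theorem main (hX : X.IsSchematic)
    (hff : ∀ s a b : X.pt, s ≤ a → s ≤ b → (X.up a ∩ X.up b).Nonempty →
      Module.FaithfullyFlat (X.sectRing (X.up a ∩ X.up b)) ((q : ↥(X.up a ∩ X.up b)) → X.ring q.1))
    (Ω : Type u) [Field Ω] [IsAlgClosed Ω] (a : X.Pair) (ha : ∀ b : X.Pair, X.PairRel a b → b.1 ≤ a.1)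
    (φ : a.κ →+* Ω) :
    ∃! ξ : GeomPt X Ω, (⟨ξ.base, ξ.toField⟩ : Σ x : X.pt, (X.ring x →+* Ω)) =
      ⟨a.1, φ.comp (algebraMap (X.ring a.1) a.κ)⟩ := by
  obtain ⟨x₀, P₀⟩ := a
  have hker : RingHom.ker (φ.comp (algebraMap (X.ring x₀) P₀.asIdeal.ResidueField)) =
      P₀.asIdeal := by
    ext r
    rw [RingHom.mem_ker, RingHom.comp_apply, map_eq_zero_iff φ (RingHom.injective φ),
      Ideal.algebraMap_residueField_eq_zero]
  let ξ₀ : GeomPt X Ω := ⟨ptHom X x₀ (φ.comp (algebraMap (X.ring x₀) P₀.asIdeal.ResidueField)),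
    ptHom_isSchematic X hX hff x₀ P₀ ha _ hker⟩
  refine ⟨ξ₀, rfl, fun ξ' hξ' => ?_⟩
  exact geomPt_ext X ξ' ξ₀ hξ'

end main

open SchFin in
/-- Let X be a schematic finite space and Ω an algebraically closed field. Given a pair (x, P) of a
point and a prime of its ring which is the maximal representative of its class (every related pair
sits at a point below x) and a ring map φ from the residue field of P to Ω, there is exactly one
geometric point of X with values in Ω that hits x and whose ring map from the ring of x to Ω is φ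
composed with the passage to the residue field. (The published statement is the resulting bijection
between geometric points with values in Ω and schematic points equipped with an embedding of their
residue field into Ω.) (The published statement does not carry the hypothesis that, for every two
points that lie above a common point and whose minimal open sets meet, the product of the rings over
the intersection of these minimal open sets is faithfully flat over the ring of sections on it; the
published proof obtains this fact from properties of affine schematic spaces recalled there without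
proof, and this row carries it explicitly.) -/
theorem result (X : RSpace.{u}) (hX : X.IsSchematic)
    (hff : ∀ s a b : X.pt, s ≤ a → s ≤ b → (X.up a ∩ X.up b).Nonempty →
      Module.FaithfullyFlat (X.sectRing (X.up a ∩ X.up b)) ((q : ↥(X.up a ∩ X.up b)) → X.ring q.1))
    (Ω : Type u) [Field Ω] [IsAlgClosed Ω] (a : X.Pair) (ha : ∀ b : X.Pair, X.PairRel a b → b.1 ≤ a.1)
    (φ : a.κ →+* Ω) :
    ∃! ξ : GeomPt X Ω, (⟨ξ.base, ξ.toField⟩ : Σ x : X.pt, (X.ring x →+* Ω)) =
      ⟨a.1, φ.comp (algebraMap (X.ring a.1) a.κ)⟩ := by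
  exact main X hX hff Ω a ha φ

end Groth.Agent.S15627
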