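import Groth.Statements.S15628
import Groth.Agent.Lib.Helper23.FEtLib
import Mathlib

set_option autoImplicit false
universe u
open SchFin SchFin.FEt

namespace Groth.Agent.S15628

open SchFin CategoryTheory CategoryTheory.Limits Groth.Agent.Helper23.FEtLib TensorProduct

section aux

/-- joint bijectivity -/
theorem prod_bijective {R A B : Type u} [CommRing R] [CommRing A] [CommRing B] [Algebra R A]
    [Algebra R B] (f : A →ₐ[R] B) (hf : Function.Surjective f) (e : A) (he : IsIdempotentElem e)
    (hk : RingHom.ker f = Ideal.span {e}) :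
    Function.Bijective ((f.prod (Ideal.Quotient.mkₐ R (Ideal.span {1 - e})))) := by
  have hfe : f e = 0 := by
    have : e ∈ RingHom.ker f := hk ▸ Ideal.subset_span rfl
    exact this
  have hee : e * e = e := he.eq
  constructor
  · rw [injective_iff_map_eq_zero]
    intro a ha
    have h1 : f a = 0 := congrArg Prod.fst ha
    have h2 : Ideal.Quotient.mk (Ideal.span {1 - e}) a = 0 := congrArg Prod.snd ha
    have h1' : a ∈ RingHom.ker f := h1
    rw [hk] at h1'
    obtain ⟨x, rfl⟩ := Ideal.mem_span_singleton'.1 h1'
    obtain ⟨y, hy⟩ := Ideal.mem_span_singleton'.1 (Ideal.Quotient.eq_zero_iff_mem.1 h2)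
    have : x * e = (x * e) * e := by rw [mul_assoc, hee]
    rw [this, ← hy]
    linear_combination (-y) * hee
  · rintro ⟨b, d⟩
    obtain ⟨a1, rfl⟩ := hf b
    obtain ⟨a2, rfl⟩ := Ideal.Quotient.mk_surjective d
    refine ⟨(1 - e) * a1 + e * a2, ?_⟩
    apply Prod.ext
    · change f ((1 - e) * a1 + e * a2) = f a1
      simp [hfe]
    · change Ideal.Quotient.mk _ ((1 - e) * a1 + e * a2) = Ideal.Quotient.mk _ a2
      rw [Ideal.Quotient.eq, Ideal.mem_span_singleton']
      exact ⟨a1 - a2, by ring⟩

end aux

section mainsec

theorem main (X : RSpace.{u}) (hX : X.IsSchematic)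
    {A B : FEt X} (f : A ⟶ B) (hf : ∀ p : X.pt, Function.Surjective (f.hom.app p)) :
    ∃ (D : FEt X) (π : A ⟶ D), Nonempty (IsLimit (BinaryFan.mk f π)) := by
  obtain ⟨e, hid, hk, he⟩ := exists_idem_family X hX.1 A.property B.property f.hom
  have he' : ∀ {p q : X.pt} (h : p ≤ q), A.obj.res h (1 - e p) = 1 - e q := by
    intro p q h
    rw [map_sub, map_one, he h]
  let D : FEt X := ⟨quotAlg A.obj (fun p => 1 - e p) he',
    quotAlg_isEtCover A.obj A.property _ he' (fun p => (hid p).one_sub)⟩
  let π : A ⟶ D := ObjectProperty.homMk (quotMk A.obj _ he')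
  have hbij : ∀ p, Function.Bijective ((f.hom.app p).prod (π.hom.app p)) :=
    fun p => prod_bijective (f.hom.app p) (hf p) (e p) (hid p) (hk p)
  let Φ : ∀ p, A.obj.carrier p ≃ₐ[X.ring p] (B.obj.carrier p × D.obj.carrier p) :=
    fun p => AlgEquiv.ofBijective _ (hbij p)
  have hΦ : ∀ p a, Φ p a = (f.hom.app p a, π.hom.app p a) := fun p a => rfl
  let lift : ∀ {T : FEt X} (k1 : T ⟶ B) (k2 : T ⟶ D), T ⟶ A := fun {T} k1 k2 =>
    ObjectProperty.homMk
      ⟨fun p => ((Φ p).symm : _ →ₐ[X.ring p] _).comp ((k1.hom.app p).prod (k2.hom.app p)),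
        fun {p q} h t => by
          apply (Φ q).injective
          change Φ q (A.obj.res h ((Φ p).symm (k1.hom.app p t, k2.hom.app p t))) =
            Φ q ((Φ q).symm (k1.hom.app q (T.obj.res h t), k2.hom.app q (T.obj.res h t)))
          rw [AlgEquiv.apply_symm_apply, hΦ, ← f.hom.compat, ← π.hom.compat, ← k1.hom.compat,
            ← k2.hom.compat]
          have := hΦ p ((Φ p).symm (k1.hom.app p t, k2.hom.app p t))
          rw [AlgEquiv.apply_symm_apply] at this
          have h1 := congrArg Prod.fst this
          have h2 := congrArg Prod.snd this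
          simp only at h1 h2
          rw [← h1, ← h2]⟩
  refine ⟨D, π, ⟨BinaryFan.IsLimit.mk _ (fun {T} k1 k2 => lift k1 k2) ?_ ?_ ?_⟩⟩
  · intro T k1 k2
    apply ObjectProperty.hom_ext
    apply Alg.hom_ext
    intro p
    apply AlgHom.ext
    intro t
    have := hΦ p ((Φ p).symm (k1.hom.app p t, k2.hom.app p t))
    rw [AlgEquiv.apply_symm_apply] at this
    exact (congrArg Prod.fst this).symm
  · intro T k1 k2
    apply ObjectProperty.hom_ext
    apply Alg.hom_ext
    intro p
    apply AlgHom.ext
    intro t
    have := hΦ p ((Φ p).symm (k1.hom.app p t, k2.hom.app p t))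
    rw [AlgEquiv.apply_symm_apply] at this
    exact (congrArg Prod.snd this).symm
  · intro T k1 k2 m h1 h2
    apply ObjectProperty.hom_ext
    apply Alg.hom_ext
    intro p
    apply AlgHom.ext
    intro t
    apply (Φ p).injective
    change Φ p (m.hom.app p t) = Φ p ((Φ p).symm (k1.hom.app p t, k2.hom.app p t))
    rw [AlgEquiv.apply_symm_apply, hΦ]
    have e1 := congrArg (fun k => (k.hom.app p) t) h1
    have e2 := congrArg (fun k => (k.hom.app p) t) h2
    exact Prod.ext e1 e2

end mainsec

open SchFin CategoryTheory CategoryTheory.Limits in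
/-- Over a schematic finite space, a morphism f from an étale cover A to an étale cover B which is
surjective at every point identifies B with a direct factor of A: there are an étale cover D and a
morphism from A to D which together with f exhibit A as the product of B and D in the category of
étale covers. (The published statement assumes f an epimorphism of étale covers and first shows that
epimorphisms are exactly the pointwise surjective morphisms, a step resting on an extension result
for quasi-coherent modules recalled there without proof; this row takes f surjective at every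
point.) -/
theorem result (X : RSpace.{u}) (hX : X.IsSchematic)
    {A B : FEt X} (f : A ⟶ B) (hf : ∀ p : X.pt, Function.Surjective (f.hom.app p)) :
    ∃ (D : FEt X) (π : A ⟶ D), Nonempty (IsLimit (BinaryFan.mk f π)) := by
  exact main X hX f hf

end Groth.Agent.S15628
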