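import Groth.Statements.S15630
import Groth.Agent.Lib.Helper23.FEtLib
import Mathlib

set_option autoImplicit false
universe u
open SchFin SchFin.FEt

namespace Groth.Agent.S15630

open SchFin CategoryTheory CategoryTheory.Limits Groth.Agent.Helper23.FEtLib TensorProduct

section alg

theorem rTensor_injective_of_faithfullyFlat {R A B : Type u} [CommRing R] [CommRing A]
    [CommRing B] [Algebra R A] [Algebra R B] [Algebra A B] [IsScalarTower R A B]
    [Module.FaithfullyFlat A B] (K : Type u) [AddCommGroup K] [Module R K] :
    Function.Injective ((IsScalarTower.toAlgHom R A B).toLinearMap.rTensor K) := by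
  have h1 := Module.FaithfullyFlat.tensorProduct_mk_injective (A := A) (B := B) (A ⊗[R] K)
  have h2 : ∀ m : A ⊗[R] K, (IsScalarTower.toAlgHom R A B).toLinearMap.rTensor K m =
      TensorProduct.AlgebraTensorModule.cancelBaseChange R A A B K
        (TensorProduct.mk A B (A ⊗[R] K) 1 m) := by
    intro m
    induction m using TensorProduct.induction_on with
    | zero => simp
    | tmul a x =>
      simp only [LinearMap.rTensor_tmul, AlgHom.toLinearMap_apply, IsScalarTower.coe_toAlgHom',
        TensorProduct.mk_apply, TensorProduct.AlgebraTensorModule.cancelBaseChange_tmul]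
      rw [Algebra.smul_def, mul_one]
    | add x y hx hy => rw [map_add, hx, hy, map_add, map_add]
  intro m m' hmm
  rw [h2, h2] at hmm
  exact h1 ((TensorProduct.AlgebraTensorModule.cancelBaseChange R A A B K).injective hmm)

end alg

section bij

theorem surjective_of_fibers {R M N : Type u} [CommRing R] [AddCommGroup M] [AddCommGroup N]
    [Module R M] [Module R N] [Module.Finite R N] (f : M →ₗ[R] N)
    (h : ∀ P : PrimeSpectrum R, Function.Surjective (f.lTensor P.asIdeal.ResidueField)) :
    Function.Surjective f := by
  rw [← LinearMap.range_eq_top, ← Submodule.Quotient.subsingleton_iff,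
    ← Module.support_eq_empty_iff (R := R)]
  rw [Set.eq_empty_iff_forall_notMem]
  intro P hP
  rw [Module.mem_support_iff_nontrivial_residueField_tensorProduct] at hP
  have hex := lTensor_exact P.asIdeal.ResidueField
    (LinearMap.exact_map_mkQ_range f) (Submodule.mkQ_surjective _)
  have hsurj := LinearMap.lTensor_surjective P.asIdeal.ResidueField
    (Submodule.mkQ_surjective (LinearMap.range f))
  obtain ⟨x, y, hxy⟩ := hP
  apply hxy
  have h0 : ∀ z : P.asIdeal.ResidueField ⊗[R] (N ⧸ LinearMap.range f), z = 0 := by
    intro z
    obtain ⟨w, rfl⟩ := hsurj z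
    obtain ⟨v, rfl⟩ := h P w
    exact (hex _).2 ⟨v, rfl⟩
  rw [h0 x, h0 y]

theorem bijective_of_injective_of_rank {R A B : Type u} [CommRing R] [CommRing A] [CommRing B]
    [Algebra R A] [Algebra R B] [IsNoetherianRing R] [Module.Finite R A] [Module.Finite R B]
    [Algebra.Etale R A] [Algebra.Etale R B] (f : A →ₐ[R] B) (hf : Function.Injective f)
    (hr : ∀ P : PrimeSpectrum R, Module.rankAtStalk A P = Module.rankAtStalk B P) :
    Function.Bijective f := by
  refine ⟨hf, ?_⟩
  letI : Algebra A B := f.toRingHom.toAlgebra
  haveI : IsScalarTower R A B := IsScalarTower.of_algebraMap_eq fun r => (f.commutes r).symm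
  haveI : Algebra.Etale A B := Algebra.Etale.of_restrictScalars R A B
  haveI : Module.Finite A B := Module.Finite.of_restrictScalars_finite R A B
  haveI : Module.Flat A B := inferInstance
  haveI : Module.FaithfullyFlat A B := Module.FaithfullyFlat.of_comap_surjective
    (PrimeSpectrum.comap_surjective_iff_injective_of_finite.2 hf)
  have hf' : f = IsScalarTower.toAlgHom R A B := AlgHom.ext fun _ => rfl
  change Function.Surjective f.toLinearMap
  apply surjective_of_fibers
  intro P
  have hinj : Function.Injective (f.toLinearMap.lTensor P.asIdeal.ResidueField) := by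
    rw [LinearMap.lTensor_inj_iff_rTensor_inj, hf']
    exact rTensor_injective_of_faithfullyFlat _
  have hfin : Module.finrank P.asIdeal.ResidueField (P.asIdeal.ResidueField ⊗[R] A) =
      Module.finrank P.asIdeal.ResidueField (P.asIdeal.ResidueField ⊗[R] B) := by
    have h1 := Module.rankAtStalk_eq (M := A) P
    have h2 := Module.rankAtStalk_eq (M := B) P
    rw [← h1, ← h2, hr P]
  have hinj' : Function.Injective (f.toLinearMap.baseChange P.asIdeal.ResidueField) := hinj
  exact (LinearMap.injective_iff_surjective_of_finrank_eq_finrank hfin).1 hinj'

end bij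

section iso

theorem isIso_of_bijective (X : RSpace.{u}) {A B : FEt X} (f : A ⟶ B)
    (hb : ∀ p : X.pt, Function.Bijective (f.hom.app p)) : IsIso f := by
  let e : ∀ p, A.obj.carrier p ≃ₐ[X.ring p] B.obj.carrier p :=
    fun p => AlgEquiv.ofBijective (f.hom.app p) (hb p)
  have he : ∀ p a, e p a = f.hom.app p a := fun p a => rfl
  let g0 : B.obj ⟶ A.obj :=
    ⟨fun p => ((e p).symm : B.obj.carrier p →ₐ[X.ring p] A.obj.carrier p), fun {p q} h b => by
      apply (e q).injective
      change e q (A.obj.res h ((e p).symm b)) = e q ((e q).symm (B.obj.res h b))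
      rw [AlgEquiv.apply_symm_apply, he, ← f.hom.compat, ← he, AlgEquiv.apply_symm_apply]⟩
  refine ⟨ObjectProperty.homMk g0, ?_, ?_⟩
  · apply ObjectProperty.hom_ext
    apply Alg.hom_ext
    intro p
    apply AlgHom.ext
    intro a
    exact (e p).symm_apply_apply a
  · apply ObjectProperty.hom_ext
    apply Alg.hom_ext
    intro p
    apply AlgHom.ext
    intro b
    exact (e p).apply_symm_apply b

theorem main (X : RSpace.{u}) (hX : X.IsSchematic) {A B : FEt X} (f : A ⟶ B)
    (hf : ∀ p : X.pt, Function.Injective (f.hom.app p))
    (hdeg : ∀ (p : X.pt) (P : PrimeSpectrum (X.ring p)),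
      Module.rankAtStalk (A.obj.carrier p) P = Module.rankAtStalk (B.obj.carrier p) P) :
    IsIso f := by
  apply isIso_of_bijective
  intro p
  haveI := hX.1.1 p
  haveI := (A.property.2 p).1
  haveI := (A.property.2 p).2
  haveI := (B.property.2 p).1
  haveI := (B.property.2 p).2
  exact bijective_of_injective_of_rank (f.hom.app p) (hf p) (hdeg p)

end iso

open SchFin CategoryTheory in
/-- Over a well-connected schematic finite space, a morphism of étale covers from A to B which is
injective at every point, where the values of A and B have the same rank at every prime of the ring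
of every point, is an isomorphism. (The published statement asks for equal degrees, which on a
well-connected space are constant and hence the same as the pointwise ranks.) (This row carries as a
hypothesis the local triviality of étale covers — for every étale cover A there are a quasi-coherent
algebra B, finite and faithfully flat at every point, and a natural number n with B_p ⊗ A_p
isomorphic to B_p^n as a B_p-algebra at every point p — which holds for well-connected schematic
spaces, the published proof of that fact going by way of an equivalence of quasi-coherent modules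
along qc-isomorphisms recalled without proof; the published statement does not carry it.) -/
theorem result (X : RSpace.{u}) (hX : X.IsSchematic)
    (hwc : X.IsWellConnected)
    (hlt : ∀ A : FEt X, ∃ (B : Alg X) (n : ℕ), B.IsCovering ∧
      ∀ p : X.pt, Nonempty (TensorProduct (X.ring p) (B.carrier p) (A.obj.carrier p) ≃ₐ[B.carrier p] (Fin n → B.carrier p)))
    {A B : FEt X} (f : A ⟶ B) (hf : ∀ p : X.pt, Function.Injective (f.hom.app p))
    (hdeg : ∀ (p : X.pt) (P : PrimeSpectrum (X.ring p)),
      Module.rankAtStalk (A.obj.carrier p) P = Module.rankAtStalk (B.obj.carrier p) P) :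
    IsIso f := by
  exact main X hX f hf hdeg

end Groth.Agent.S15630
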