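import Groth.Statements.S15631
import Groth.Agent.Lib.Helper23.FEtGal
import Groth.Agent.S15630

set_option autoImplicit false
universe u
open SchFin SchFin.GeomPt

namespace Groth.Agent.S15631

set_option linter.style.haveILetI false
set_option linter.unusedVariables false
set_option linter.unusedSectionVars false
open CategoryTheory CategoryTheory.Limits TensorProduct Groth.Agent.Helper23.FEtLib Groth.Agent.Helper23.FEtFib

section alg

theorem card_spec_eq_finrank {Ω E : Type u} [Field Ω] [IsAlgClosed Ω] [CommRing E] [Algebra Ω E]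
    [Algebra.Etale Ω E] : Nat.card (PrimeSpectrum E) = Module.finrank Ω E := by
  haveI : Algebra.EssFiniteType Ω E := inferInstance
  haveI : Algebra.FormallyEtale Ω E := inferInstance
  haveI := Algebra.FormallyUnramified.finite_of_free Ω E
  haveI : IsArtinianRing E := isArtinian_of_tower Ω inferInstance
  haveI : Finite (PrimeSpectrum E) := inferInstance
  letI := Fintype.ofFinite (PrimeSpectrum E)
  rw [(Algebra.FormallyEtale.equivPiOfIsSepClosed Ω E).toLinearEquiv.finrank_eq,
    Module.finrank_fintype_fun_eq_card, Nat.card_eq_fintype_card]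

theorem rank_eq_card {R M Ω : Type u} [CommRing R] [CommRing M] [Algebra R M]
    [Module.Finite R M] [Algebra.Etale R M] [Field Ω] [IsAlgClosed Ω] [Algebra R Ω]
    (P0 : PrimeSpectrum Ω) :
    Module.rankAtStalk M (P0.comap (algebraMap R Ω)) = Nat.card (PrimeSpectrum (Ω ⊗[R] M)) := by
  haveI : Module.Flat R M := inferInstance
  rw [← Module.rankAtStalk_baseChange, Module.rankAtStalk_eq_finrank_of_free, card_spec_eq_finrank (Ω := Ω)]
  rfl

theorem rank_of_triv {R S M : Type u} [CommRing R] [CommRing S] [Algebra R S]
    [Module.FaithfullyFlat R S] [CommRing M] [Algebra R M] [Module.Finite R M] [Module.Flat R M]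
    (n : ℕ) (e : S ⊗[R] M ≃ₐ[S] (Fin n → S)) (P : PrimeSpectrum R) :
    Module.rankAtStalk M P = n := by
  obtain ⟨Q, rfl⟩ := PrimeSpectrum.comap_surjective_of_faithfullyFlat (B := S) P
  haveI : Nontrivial S := (PrimeSpectrum.nonempty_iff_nontrivial).1 ⟨Q⟩
  rw [← Module.rankAtStalk_baseChange, Module.rankAtStalk_eq_of_equiv e.toLinearEquiv,
    Module.rankAtStalk_eq_finrank_of_free]
  simp

end alg

section main

variable {X : RSpace.{u}} {Ω : Type u} [Field Ω] [IsAlgClosed Ω] (ξ : GeomPt X Ω)

attribute [local instance] algΩ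

/-- local triviality hypothesis -/
def LT (X : RSpace.{u}) : Prop :=
  ∀ A : FEt X, ∃ (B : Alg X) (n : ℕ), B.IsCovering ∧
      ∀ p : X.pt, Nonempty (TensorProduct (X.ring p) (B.carrier p) (A.obj.carrier p) ≃ₐ[B.carrier p] (Fin n → B.carrier p))

theorem rank_const (hlt : LT X) (C : FEt X) : ∃ n : ℕ, ∀ (p : X.pt) (P : PrimeSpectrum (X.ring p)),
    Module.rankAtStalk (C.obj.carrier p) P = n := by
  obtain ⟨B, n, hB, hiso⟩ := hlt C
  refine ⟨n, fun p P => ?_⟩
  obtain ⟨e⟩ := hiso p
  haveI := (hB.2 p).2
  haveI := (C.property.2 p).1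
  haveI := (C.property.2 p).2
  haveI : Module.Flat (X.ring p) (C.obj.carrier p) := inferInstance
  exact rank_of_triv n e P

theorem rank_eq_card_fib (C : FEt X) :
    Module.rankAtStalk (C.obj.carrier ξ.base)
      ((⊥ : PrimeSpectrum Ω).comap (algebraMap (X.ring ξ.base) Ω)) = Nat.card (ξ.Fib C.obj) := by
  haveI := (C.property.2 ξ.base).1
  haveI := (C.property.2 ξ.base).2
  exact rank_eq_card (R := X.ring ξ.base) (M := C.obj.carrier ξ.base) (Ω := Ω) ⊥

theorem subsingleton_of_fib_empty (hlt : LT X) (D : FEt X) (hD : IsEmpty (ξ.Fib D.obj)) (p : X.pt) :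
    Subsingleton (D.obj.carrier p) := by
  obtain ⟨n, hn⟩ := rank_const hlt D
  have h0 : n = 0 := by
    rw [← hn ξ.base _, rank_eq_card_fib ξ D]
    exact Nat.card_of_isEmpty
  haveI := (D.property.2 p).1
  haveI := (D.property.2 p).2
  haveI : Module.Flat (X.ring p) (D.obj.carrier p) := inferInstance
  rw [← Module.rankAtStalk_eq_zero_iff_subsingleton (R := X.ring p)]
  funext P
  rw [hn p P, h0]
  rfl

theorem injective_of_fib_surjective (hX : X.IsFinSp) (hlt : LT X) {A B : FEt X} (f : A ⟶ B)
    (hsurj : Function.Surjective (ξ.fibMap f.hom)) (p : X.pt) :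
    Function.Injective (f.hom.app p) := by
  obtain ⟨e, hid, hk, hres⟩ := exists_idem_family X hX A.property B.property f.hom
  let e' : ∀ p, A.obj.carrier p := fun p => 1 - e p
  have he' : ∀ {p q : X.pt} (h : p ≤ q), A.obj.res h (e' p) = e' q := by
    intro p q h
    change A.obj.res h (1 - e p) = 1 - e q
    rw [map_sub, map_one, hres h]
  have hid' : ∀ p, IsIdempotentElem (e' p) := fun p => (hid p).one_sub
  let D : FEt X := ⟨quotAlg A.obj e' he', quotAlg_isEtCover A.obj A.property e' he' hid'⟩
  have hDfin : Module.Finite (X.ring ξ.base) (D.obj.carrier ξ.base) := (D.property.2 _).1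
  have hBfin : Module.Finite (X.ring ξ.base) (B.obj.carrier ξ.base) := (B.property.2 _).1
  have hD : IsEmpty (ξ.Fib D.obj) := by
    constructor
    intro z
    obtain ⟨ρD, rfl⟩ := fibOf_surjective ξ D.obj hDfin z
    obtain ⟨b, hb⟩ := hsurj (ξ.fibMap (quotMk A.obj e' he') (fibOf ξ D.obj ρD))
    obtain ⟨ρB, rfl⟩ := fibOf_surjective ξ B.obj hBfin b
    rw [fibMap_fibOf, fibMap_fibOf] at hb
    have h2 := AlgHom.congr_fun (fibOf_injective ξ _ hb) (e ξ.base)
    have h3 : f.hom.app ξ.base (e ξ.base) = 0 := by
      have : e ξ.base ∈ RingHom.ker (f.hom.app ξ.base) := by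
        rw [hk]; exact Ideal.subset_span rfl
      exact this
    have h4 : (quotMk A.obj e' he').app ξ.base (e ξ.base) = 1 := by
      change Ideal.Quotient.mk _ (e ξ.base) = 1
      rw [← map_one (Ideal.Quotient.mk _), Ideal.Quotient.eq]
      have : e ξ.base - 1 = -(e' ξ.base) := by change _ = -(1 - e ξ.base); ring
      rw [this]
      exact neg_mem (Ideal.subset_span rfl)
    rw [AlgHom.comp_apply, AlgHom.comp_apply, h3, h4, map_zero, map_one] at h2
    exact zero_ne_one h2
  have hsub := subsingleton_of_fib_empty ξ hlt D hD p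
  have hep : e p = 0 := by
    have h1 : (Ideal.Quotient.mk (Ideal.span {e' p}) 1) = 0 := Subsingleton.elim (α := D.obj.carrier p) _ _
    rw [Ideal.Quotient.eq_zero_iff_mem, Ideal.mem_span_singleton'] at h1
    obtain ⟨a, ha⟩ := h1
    have : e p = e p * (a * e' p) := by rw [ha, mul_one]
    rw [this]
    change e p * (a * (1 - e p)) = 0
    have := (hid p).eq
    calc e p * (a * (1 - e p)) = a * (e p - e p * e p) := by ring
      _ = 0 := by rw [this, sub_self, mul_zero]
  rw [injective_iff_map_eq_zero]
  intro a ha
  have : a ∈ RingHom.ker (f.hom.app p) := ha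
  rw [hk p, hep] at this
  simpa using this

theorem isIso_of_fib_bijective (hX : X.IsSchematic) (hlt : LT X) {A B : FEt X} (f : A ⟶ B)
    (hbij : Function.Bijective (ξ.fibMap f.hom)) : IsIso f := by
  apply Groth.Agent.S15630.main X hX f (injective_of_fib_surjective ξ hX.1 hlt f hbij.2)
  obtain ⟨nA, hA⟩ := rank_const hlt A
  obtain ⟨nB, hB⟩ := rank_const hlt B
  have : nA = nB := by
    rw [← hA ξ.base _, ← hB ξ.base _, rank_eq_card_fib ξ A, rank_eq_card_fib ξ B]
    exact (Nat.card_eq_of_bijective _ hbij).symm
  intro p P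
  rw [hA, hB, this]

theorem main (hX : X.IsSchematic) (hlt : LT X) : ξ.fibFunctor.ReflectsIsomorphisms := by
  refine ⟨fun {A' B'} f' hf' => ?_⟩
  have hbij : Function.Bijective (ξ.fibMap f'.unop.hom) := by
    have h1 : IsIso ((forget FintypeCat).map (ξ.fibFunctor.map f')) := inferInstance
    rw [isIso_iff_bijective] at h1
    exact h1
  haveI := isIso_of_fib_bijective ξ hX hlt f'.unop hbij
  exact (isIso_unop_iff f').1 inferInstance

end main

open SchFin CategoryTheory in
/-- For a well-connected schematic finite space and a geometric point with values in an algebraically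
closed field, the fibre functor at that point (an étale cover A goes to the prime spectrum of Ω ⊗
A_x, x the point hit), on the opposite of the category of étale covers, reflects isomorphisms. (This
row carries as a hypothesis the local triviality of étale covers — for every étale cover A there are
a quasi-coherent algebra B, finite and faithfully flat at every point, and a natural number n with
B_p ⊗ A_p isomorphic to B_p^n as a B_p-algebra at every point p — which holds for well-connected
schematic spaces, the published proof of that fact going by way of an equivalence of quasi-coherent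
modules along qc-isomorphisms recalled without proof; the published statement does not carry it.) -/
theorem result (X : RSpace.{u}) (hX : X.IsSchematic)
    (hwc : X.IsWellConnected)
    (hlt : ∀ A : FEt X, ∃ (B : Alg X) (n : ℕ), B.IsCovering ∧
      ∀ p : X.pt, Nonempty (TensorProduct (X.ring p) (B.carrier p) (A.obj.carrier p) ≃ₐ[B.carrier p] (Fin n → B.carrier p)))
    {Ω : Type u} [Field Ω] [IsAlgClosed Ω] (ξ : GeomPt X Ω) : ξ.fibFunctor.ReflectsIsomorphisms := by
  exact main ξ hX hlt

end Groth.Agent.S15631
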