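import Groth.Statements.S15632
import Groth.Agent.Lib.Helper23.FEtOrb
import Groth.Agent.S15628
import Groth.Agent.S15631

set_option autoImplicit false
universe u
open SchFin SchFin.GeomPt

namespace Groth.Agent.S15632

set_option linter.style.haveILetI false
set_option linter.unusedVariables false
set_option linter.unusedSectionVars false
open CategoryTheory CategoryTheory.Limits TensorProduct Groth.Agent.Helper23.FEtLib
  Groth.Agent.Helper23.FEtPush Groth.Agent.Helper23.FEtInvCat Groth.Agent.Helper23.FEtOrb

variable {X : RSpace.{u}}

theorem mono_summand (hX : X.IsSchematic)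
    (hepi : ∀ (A B : FEt X) (f : A ⟶ B), Epi f → ∀ p : X.pt, Function.Surjective (f.hom.app p))
    {A' B' : (FEt X)ᵒᵖ} (i : A' ⟶ B') [Mono i] :
    ∃ (Z : (FEt X)ᵒᵖ) (u : Z ⟶ B'), Nonempty (IsColimit (BinaryCofan.mk i u)) := by
  haveI : Epi i.unop := unop_epi_of_mono i
  obtain ⟨D, π, ⟨hlim⟩⟩ := Groth.Agent.S15628.main X hX i.unop (hepi _ _ i.unop inferInstance)
  refine ⟨Opposite.op D, π.op, ⟨?_⟩⟩
  refine BinaryCofan.IsColimit.mk _
    (fun {T} f g => (BinaryFan.IsLimit.lift' hlim f.unop g.unop).1.op) ?_ ?_ ?_
  · intro T f g
    apply Quiver.Hom.unop_inj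
    exact (BinaryFan.IsLimit.lift' hlim f.unop g.unop).2.1
  · intro T f g
    apply Quiver.Hom.unop_inj
    exact (BinaryFan.IsLimit.lift' hlim f.unop g.unop).2.2
  · intro T f g m h1 h2
    apply Quiver.Hom.unop_inj
    apply BinaryFan.IsLimit.hom_ext hlim
    · exact (congrArg Quiver.Hom.unop h1).trans
        (BinaryFan.IsLimit.lift' hlim f.unop g.unop).2.1.symm
    · exact (congrArg Quiver.Hom.unop h2).trans
        (BinaryFan.IsLimit.lift' hlim f.unop g.unop).2.2.symm

theorem main (hX : X.IsSchematic) (hlt : LT X)
    (hepi : ∀ (A B : FEt X) (f : A ⟶ B), Epi f → ∀ p : X.pt, Function.Surjective (f.hom.app p))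
    {Ω : Type u} [Field Ω] [IsAlgClosed Ω] (ξ : GeomPt X Ω) :
    ∃ h : PreGaloisCategory (FEt X)ᵒᵖ, @PreGaloisCategory.FiberFunctor (FEt X)ᵒᵖ _ h ξ.fibFunctor := by
  haveI := hasInitial_FEt X
  haveI := hasPushouts_FEt X
  haveI := hasBinaryProducts_FEt (X := X)
  haveI := hasTerminal_FEt X
  haveI : HasFiniteProducts (FEt X) := hasFiniteProducts_of_has_binary_and_terminal
  let h : PreGaloisCategory (FEt X)ᵒᵖ :=
    { hasTerminal := inferInstance
      hasPullbacks := inferInstance
      hasFiniteCoproducts := inferInstance
      hasQuotientsByFiniteGroups := fun G _ _ => hasColimits_singleObj hX.1 hlt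
      monoInducesIsoOnDirectSummand := fun i _ => mono_summand hX hepi i }
  refine ⟨h, ?_⟩
  obtain ⟨h1, h2, h3, h4⟩ := Groth.Agent.Helper23.FEtGal.main ξ hX
  exact
    { preservesTerminalObjects := h1
      preservesPullbacks := h2
      preservesFiniteCoproducts := h3
      preservesEpis := h4
      preservesQuotientsByFiniteGroups := fun G _ _ => preserves_singleObj hX.1 hlt ξ
      reflectsIsos := Groth.Agent.S15631.main ξ hX hlt }

open SchFin CategoryTheory in
/-- For a well-connected schematic finite space and a geometric point with values in an algebraically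
closed field, the opposite of the category of étale covers, with the fibre functor at that point (an
étale cover A goes to the prime spectrum of Ω ⊗ A_x, x the point hit), is a Galois category: a
pre-Galois category for which that functor is a fibre functor. (The published statement assumes the
space only connected and reduces to the well-connected case through a pointwise construction and a
comparison of geometric points resting on a result recalled without proof; this row takes the space
well-connected. It carries two hypotheses the published statement does not: the local triviality of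
étale covers — for every étale cover A, a quasi-coherent algebra B, finite and faithfully flat at
every point, and n with B_p ⊗ A_p isomorphic to B_p^n as B_p-algebras at every point — and the
pointwise surjectivity of epimorphisms of étale covers; both hold for every such space, each being
proved in the published text by way of a result on quasi-coherent modules recalled without proof.) -/
theorem result (X : RSpace.{u}) (hX : X.IsSchematic)
    (hwc : X.IsWellConnected)
    (hlt : ∀ A : FEt X, ∃ (B : Alg X) (n : ℕ), B.IsCovering ∧
      ∀ p : X.pt, Nonempty (TensorProduct (X.ring p) (B.carrier p) (A.obj.carrier p) ≃ₐ[B.carrier p] (Fin n → B.carrier p)))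
    (hepi : ∀ (A B : FEt X) (f : A ⟶ B), Epi f → ∀ p : X.pt, Function.Surjective (f.hom.app p))
    {Ω : Type u} [Field Ω] [IsAlgClosed Ω] (ξ : GeomPt X Ω) :
    ∃ h : PreGaloisCategory (FEt X)ᵒᵖ, @PreGaloisCategory.FiberFunctor (FEt X)ᵒᵖ _ h ξ.fibFunctor := by
  exact main hX hlt hepi ξ

end Groth.Agent.S15632
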