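import Groth.Statements.S15701

set_option autoImplicit false
universe u
open CategoryTheory AlgebraicGeometry
open RatVar

namespace Groth.Agent.S15701

open CategoryTheory.Limits in
/-- points of a scheme fixed (with residue field) by an automorphism: the range of the equalizer -/
noncomputable def fixSet {X : Scheme.{u}} (a : X ⟶ X) : Set X :=
  Set.range (equalizer.ι a (𝟙 X))

open CategoryTheory.Limits in
theorem range_subset_fixSet {X T : Scheme.{u}} (a : X ⟶ X) (t : T ⟶ X) (h : t ≫ a = t) :
    Set.range t ⊆ fixSet a := by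
  rintro _ ⟨p, rfl⟩
  refine ⟨equalizer.lift t (by rw [h, Category.comp_id]) p, ?_⟩
  rw [← Scheme.Hom.comp_apply, equalizer.lift_ι]

open CategoryTheory.Limits in
theorem exists_point_of_mem_fixSet {X : Scheme.{u}} (a : X ⟶ X) (p : X) (hp : p ∈ fixSet a) :
    ∃ (T : Scheme.{u}) (t : T ⟶ X), Nonempty T ∧ Set.range t ⊆ {p} ∧ t ≫ a = t := by
  obtain ⟨e, rfl⟩ := hp
  refine ⟨Spec ((equalizer a (𝟙 X)).residueField e),
    (equalizer a (𝟙 X)).fromSpecResidueField e ≫ equalizer.ι a (𝟙 X), inferInstance, ?_, ?_⟩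
  · rintro _ ⟨z, rfl⟩
    rw [Scheme.Hom.comp_apply, Scheme.fromSpecResidueField_apply]
    rfl
  · rw [Category.assoc, equalizer.condition, Category.comp_id]

/-- A faithful action of a finite group on a geometrically integral variety is almost free. Here k is a
field of characteristic zero, X is an integral separated scheme of finite type over k, and the
finite group G acts on X by k-automorphisms through an injective homomorphism to Aut X; the
conclusion is a non-empty G-stable open subscheme U of X such that for every field K and every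
morphism Spec K → X whose image lies in U, an element of G fixing that K-point is the identity. (X
is taken separated: for the affine line with a doubled origin and the involution exchanging the two
origins the action is faithful while every point off the origins is fixed, so no such U exists;
integrality replaces geometric integrality, which is all the codimension argument uses.) -/
theorem result (k : Type u) [Field k] [CharZero k]
    (X : Scheme.{u}) (f : X ⟶ Spec (CommRingCat.of k)) [IsIntegral X] [LocallyOfFiniteType f]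
    [QuasiCompact f] [IsSeparated f]
    (G : Type u) [Group G] [Finite G] (ρ : G →* Aut X)
    (hρ : ∀ g : G, (ρ g).hom ≫ f = f) (hfaith : Function.Injective ρ) :
    ∃ U : X.Opens, (U : Set X).Nonempty ∧ (∀ g : G, (ρ g).hom ⁻¹ᵁ U = U) ∧
      ∀ (K : Type u) [Field K] (x : Spec (CommRingCat.of K) ⟶ X),
        Set.range x.base ⊆ (U : Set X) → ∀ g : G, x ≫ (ρ g).hom = x → g = 1 := by
  classical
  haveI : X.IsSeparated := ⟨by
    rw [← Limits.terminal.comp_from f]
    infer_instance⟩
  have hmul : ∀ a b : G, (ρ a).hom ≫ (ρ b).hom = (ρ (b * a)).hom := by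
    intro a b
    rw [map_mul]
    rfl
  have hone : (ρ 1).hom = 𝟙 X := by
    rw [map_one]
    rfl
  -- closedness
  have hclosed : ∀ g : G, IsClosed (fixSet (ρ g).hom) := fun g =>
    (Scheme.Hom.isClosedEmbedding (Limits.equalizer.ι (ρ g).hom (𝟙 X))).isClosed_range
  -- transport of fixed points
  have htrans : ∀ (g h : G) (p : X), p ∈ fixSet (ρ g).hom →
      (ρ h).hom p ∈ fixSet (ρ (h * g * h⁻¹)).hom := by
    intro g h p hp
    obtain ⟨T, t, ⟨z⟩, ht, hfix⟩ := exists_point_of_mem_fixSet _ p hp
    have h1 : (t ≫ (ρ h).hom) ≫ (ρ (h * g * h⁻¹)).hom = t ≫ (ρ h).hom := by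
      rw [Category.assoc, hmul, inv_mul_cancel_right, ← hmul, ← Category.assoc, hfix]
    have h2 := range_subset_fixSet _ _ h1
    have h3 : t z = p := ht ⟨z, rfl⟩
    have h4 : (t ≫ (ρ h).hom) z ∈ fixSet (ρ (h * g * h⁻¹)).hom := h2 ⟨z, rfl⟩
    rwa [Scheme.Hom.comp_apply, h3] at h4
  let Z : Set X := ⋃ g ∈ {g : G | g ≠ 1}, fixSet (ρ g).hom
  have hZclosed : IsClosed Z := by
    haveI : Fintype G := Fintype.ofFinite G
    exact Set.Finite.isClosed_biUnion (Set.toFinite _) (fun g _ => hclosed g)
  have hZmem : ∀ p : X, p ∈ Z ↔ ∃ g : G, g ≠ 1 ∧ p ∈ fixSet (ρ g).hom := by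
    intro p
    simp only [Z, Set.mem_iUnion, Set.mem_ofPred_eq, exists_prop]
  refine ⟨⟨Zᶜ, hZclosed.isOpen_compl⟩, ?_, ?_, ?_⟩
  · -- nonempty
    by_contra hne
    have hZuniv : Z = Set.univ := by
      rw [Set.not_nonempty_iff_eq_empty] at hne
      have : (Zᶜ : Set X) = ∅ := hne
      rwa [Set.compl_empty_iff] at this
    -- X irreducible: some fixSet is everything
    haveI : IrreducibleSpace X := inferInstance
    have hirr : IsIrreducible (Set.univ : Set X) := IrreducibleSpace.isIrreducible_univ X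
    haveI : Fintype G := Fintype.ofFinite G
    obtain ⟨g, hg1, hg⟩ : ∃ g : G, g ≠ 1 ∧ Set.univ ⊆ fixSet (ρ g).hom := by
      have := (isIrreducible_iff_sUnion_isClosed.1 hirr)
        (Finset.univ.filter (fun g : G => g ≠ 1) |>.image (fun g => fixSet (ρ g).hom))
        (by
          intro s hs
          obtain ⟨g, -, rfl⟩ := Finset.mem_image.1 hs
          exact hclosed g)
        (by
          intro p _
          have hp : p ∈ Z := hZuniv ▸ Set.mem_univ p
          obtain ⟨g, hg1, hpg⟩ := (hZmem p).1 hp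
          exact Set.mem_sUnion.2 ⟨_, Finset.mem_coe.2 (Finset.mem_image.2
            ⟨g, Finset.mem_filter.2 ⟨Finset.mem_univ _, hg1⟩, rfl⟩), hpg⟩)
      obtain ⟨s, hs, hsub⟩ := this
      obtain ⟨g, hgm, rfl⟩ := Finset.mem_image.1 hs
      exact ⟨g, (Finset.mem_filter.1 hgm).2, hsub⟩
    haveI : Surjective (Limits.equalizer.ι (ρ g).hom (𝟙 X)) := ⟨fun p => hg (Set.mem_univ p)⟩
    haveI := isIso_of_isClosedImmersion_of_surjective (Limits.equalizer.ι (ρ g).hom (𝟙 X))
    have h1 : (ρ g).hom = 𝟙 X := by
      rw [← cancel_epi (Limits.equalizer.ι (ρ g).hom (𝟙 X))]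
      exact Limits.equalizer.condition _ _
    have h2 : ρ g = ρ 1 := by
      apply Iso.ext
      rw [h1, hone]
    exact hg1 (hfaith h2)
  · -- stability
    intro h
    apply TopologicalSpace.Opens.ext
    ext p
    change (ρ h).hom p ∈ Zᶜ ↔ p ∈ Zᶜ
    rw [Set.mem_compl_iff, Set.mem_compl_iff, not_iff_not, hZmem, hZmem]
    constructor
    · rintro ⟨c, hc1, hpc⟩
      have h5 := htrans c h⁻¹ _ hpc
      have hback : (ρ h⁻¹).hom ((ρ h).hom p) = p := by
        rw [← Scheme.Hom.comp_apply, hmul, inv_mul_cancel, hone]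
        rfl
      rw [hback] at h5
      exact ⟨h⁻¹ * c * h⁻¹⁻¹, fun h6 => hc1 (conj_eq_one_iff.1 h6), h5⟩
    · rintro ⟨g, hg1, hpg⟩
      exact ⟨h * g * h⁻¹, fun h6 => hg1 (conj_eq_one_iff.1 h6), htrans g h p hpg⟩
  · intro K _ x hx g hxg
    by_contra hg1
    have h1 := range_subset_fixSet _ _ hxg
    have z : Spec (CommRingCat.of K) := default
    have h2 : x z ∈ Z := (hZmem _).2 ⟨g, hg1, h1 ⟨z, rfl⟩⟩
    exact hx ⟨z, rfl⟩ h2

end Groth.Agent.S15701
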