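import Groth.Statements.S15706
import Mathlib
import Groth.Agent.Lib.Helper23.PrimeAvoid

set_option autoImplicit false
universe u
open CAlg

namespace Groth.Agent.S15706

/-- Let A be a Noetherian ring with Serre's property (S_1), stated here in the equivalent form that
every associated prime of A is a minimal prime of A. Let I be an ideal of A and b an element of A/I
which is regular (a non-zero-divisor) in A/I. Then b is the image of a regular element of A. -/
theorem result (A : Type u) [CommRing A]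
    [IsNoetherianRing A] (hS1 : ∀ p ∈ associatedPrimes A A, p ∈ minimalPrimes A) (I : Ideal A)
    (b : A ⧸ I) (hb : b ∈ nonZeroDivisors (A ⧸ I)) :
    ∃ a : A, a ∈ nonZeroDivisors A ∧ Ideal.Quotient.mk I a = b := by
  classical
  obtain ⟨b₀, rfl⟩ := Ideal.Quotient.mk_surjective b
  set s : Finset (Ideal A) := (associatedPrimes.finite A A).toFinset with hs
  have hprop : ∀ p ∈ s, p.IsPrime ∧ ¬ (Ideal.span {b₀} ⊔ I ≤ p) := by
    intro p hp
    rw [hs, Set.Finite.mem_toFinset] at hp
    have hpprime : p.IsPrime := hp.isPrime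
    refine ⟨hpprime, fun hle => ?_⟩
    have hmin : p ∈ minimalPrimes A := hS1 p hp
    have hIp : I ≤ p := le_sup_right.trans hle
    have hb₀p : b₀ ∈ p := hle (Ideal.mem_sup_left (Ideal.mem_span_singleton_self b₀))
    have hpI : p ∈ I.minimalPrimes := by
      refine ⟨⟨hpprime, hIp⟩, ?_⟩
      rintro q ⟨hq, _⟩ hqp
      exact hmin.2 ⟨hq, bot_le⟩ hqp
    rw [Ideal.minimalPrimes_eq_comap] at hpI
    obtain ⟨q, hq, rfl⟩ := hpI
    have hbq : Ideal.Quotient.mk I b₀ ∈ q := hb₀p
    exact Set.disjoint_left.mp (Ideal.disjoint_nonZeroDivisors_of_mem_minimalPrimes hq) hbq hb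
  obtain ⟨i, hiI, hi⟩ := Groth.Agent.Helper23.exists_add_notMem_of_primes I b₀ s hprop
  refine ⟨b₀ + i, ?_, ?_⟩
  · by_contra hnz
    have hmem : b₀ + i ∈ ((nonZeroDivisors A : Set A))ᶜ := hnz
    rw [← biUnion_associatedPrimes_eq_compl_nonZeroDivisors] at hmem
    simp only [Set.mem_iUnion] at hmem
    obtain ⟨p, hp, hmp⟩ := hmem
    exact hi p (by rw [hs, Set.Finite.mem_toFinset]; exact hp) hmp
  · rw [map_add, Ideal.Quotient.eq_zero_iff_mem.mpr hiI, add_zero]

end Groth.Agent.S15706
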