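import Groth.Statements.S15708

set_option autoImplicit false
universe u v
open CAlg

namespace Groth.Agent.S15708

open DirectSum in
theorem base_case {R : Type u} {A : Type v} [CommRing R] [CommRing A]
    [Algebra R A] (𝒜 : ℕ → Submodule R A) [GradedRing 𝒜]
    (I : Ideal A) (hI : I.IsHomogeneous 𝒜) (hI' : I ≤ (HomogeneousIdeal.irrelevant 𝒜).toIdeal)
    (q : Ideal A) (hq : ¬ I ≤ q) :
    ∃ (z : A) (n : ℕ), 0 < n ∧ z ∈ 𝒜 n ∧ z ∈ I ∧ z ∉ q := by
  classical
  obtain ⟨x, hxI, hxq⟩ := Set.not_subset.mp hq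
  have hex : ∃ i, ((decompose 𝒜 x i : 𝒜 i) : A) ∉ q := by
    by_contra hcon
    push Not at hcon
    apply hxq
    rw [← DirectSum.sum_support_decompose 𝒜 x]
    exact Ideal.sum_mem _ fun i _ => hcon i
  obtain ⟨i, hi⟩ := hex
  refine ⟨((decompose 𝒜 x i : 𝒜 i) : A), i, ?_, (decompose 𝒜 x i).2, hI i hxI, hi⟩
  rcases Nat.eq_zero_or_pos i with h0 | hpos
  · exfalso
    subst h0
    have hmem : ((decompose 𝒜 x 0 : 𝒜 0) : A) ∈ (HomogeneousIdeal.irrelevant 𝒜).toIdeal :=
      hI' (hI 0 hxI)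
    have h2 : GradedRing.proj 𝒜 0 ((decompose 𝒜 x 0 : 𝒜 0) : A) = 0 := hmem
    rw [GradedRing.proj_apply, DirectSum.decompose_of_mem_same 𝒜 (decompose 𝒜 x 0).2] at h2
    apply hi
    rw [h2]
    exact q.zero_mem
  · exact hpos

theorem main_aux {R : Type u} {A : Type v} [CommRing R] [CommRing A]
    [Algebra R A] (𝒜 : ℕ → Submodule R A) [GradedRing 𝒜]
    (I : Ideal A) (hI : I.IsHomogeneous 𝒜) (hI' : I ≤ (HomogeneousIdeal.irrelevant 𝒜).toIdeal) :
    ∀ (n : ℕ) (P : Finset (Ideal A)), P.card = n → (∀ p ∈ P, p.IsPrime ∧ ¬ I ≤ p) →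
      ∃ (z : A) (d : ℕ), 0 < d ∧ z ∈ 𝒜 d ∧ z ∈ I ∧ ∀ p ∈ P, z ∉ p := by
  classical
  intro n
  induction n with
  | zero =>
    intro P hP _
    rw [Finset.card_eq_zero] at hP
    subst hP
    exact ⟨0, 1, Nat.one_pos, (𝒜 1).zero_mem, I.zero_mem, fun p hp => absurd hp (Finset.notMem_empty p)⟩
  | succ n ih =>
    intro P hPcard hP
    rcases Nat.eq_zero_or_pos n with hn0 | hnpos
    · -- card = 1
      subst hn0
      obtain ⟨q, hq⟩ := Finset.card_eq_one.mp hPcard
      subst hq
      obtain ⟨z, d, hd, hz, hzI, hzq⟩ := base_case 𝒜 I hI hI' q (hP q (Finset.mem_singleton_self q)).2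
      exact ⟨z, d, hd, hz, hzI, fun p hp => by rw [Finset.mem_singleton.mp hp]; exact hzq⟩
    · -- card ≥ 2
      have hex : ∀ q ∈ P, ∃ (z : A) (d : ℕ), 0 < d ∧ z ∈ 𝒜 d ∧ z ∈ I ∧ ∀ p ∈ P.erase q, z ∉ p := by
        intro q hq
        apply ih (P.erase q)
        · rw [Finset.card_erase_of_mem hq, hPcard]; rfl
        · intro p hp
          exact hP p (Finset.mem_of_mem_erase hp)
      choose! zf df hdf hzf hzfI hzfP using hex
      by_cases hgood : ∃ q ∈ P, zf q ∉ q
      · obtain ⟨q, hqP, hq⟩ := hgood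
        refine ⟨zf q, df q, hdf q hqP, hzf q hqP, hzfI q hqP, ?_⟩
        intro p hp
        by_cases hpq : p = q
        · rw [hpq]; exact hq
        · exact hzfP q hqP p (Finset.mem_erase.mpr ⟨hpq, hp⟩)
      · push Not at hgood
        have hne : P.Nonempty := by
          rw [← Finset.card_pos, hPcard]; omega
        obtain ⟨q₁, hq₁⟩ := hne
        set P' := P.erase q₁ with hP'
        have hP'ne : P'.Nonempty := by
          rw [← Finset.card_pos, hP', Finset.card_erase_of_mem hq₁, hPcard]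
          omega
        set a := ∑ q ∈ P', df q with ha
        set b := df q₁ with hb
        set w := ∏ q ∈ P', zf q with hw
        have hwdeg : w ∈ 𝒜 a :=
          SetLike.prod_mem_graded 𝒜 df zf (fun q hq => hzf q (Finset.mem_of_mem_erase hq))
        have hapos : 0 < a := by
          obtain ⟨q₂, hq₂⟩ := hP'ne
          exact lt_of_lt_of_le (hdf q₂ (Finset.mem_of_mem_erase hq₂))
            (Finset.single_le_sum (fun _ _ => Nat.zero_le _) hq₂)
        have hbpos : 0 < b := hdf q₁ hq₁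
        have h1 : zf q₁ ^ a ∈ 𝒜 (a * b) := by
          have := SetLike.pow_mem_graded a (hzf q₁ hq₁)
          rwa [smul_eq_mul] at this
        have h2 : w ^ b ∈ 𝒜 (a * b) := by
          have := SetLike.pow_mem_graded b hwdeg
          rwa [smul_eq_mul, mul_comm] at this
        have hwI : w ∈ I := by
          obtain ⟨q₂, hq₂⟩ := hP'ne
          rw [hw, ← Finset.mul_prod_erase P' zf hq₂]
          exact I.mul_mem_right _ (hzfI q₂ (Finset.mem_of_mem_erase hq₂))
        refine ⟨zf q₁ ^ a + w ^ b, a * b, Nat.mul_pos hapos hbpos, (𝒜 (a * b)).add_mem h1 h2,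
          I.add_mem (I.pow_mem_of_mem (hzfI q₁ hq₁) a hapos) (I.pow_mem_of_mem hwI b hbpos), ?_⟩
        intro p hp hmem
        have hpprime : p.IsPrime := (hP p hp).1
        by_cases hpq : p = q₁
        · subst hpq
          -- zf p ∈ p so w^b ∈ p so w ∈ p so some zf q ∈ p, q ≠ p
          have h3 : w ^ b ∈ p := by
            have h4 : zf p ^ a ∈ p := p.pow_mem_of_mem (hgood p hp) a hapos
            have := p.sub_mem hmem h4
            rwa [add_sub_cancel_left] at this
          have h5 : w ∈ p := hpprime.mem_of_pow_mem b h3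
          rw [hw, hpprime.prod_mem_iff] at h5
          obtain ⟨q, hqP', hq⟩ := h5
          have hqP : q ∈ P := Finset.mem_of_mem_erase hqP'
          have hqne : q ≠ p := (Finset.mem_erase.mp hqP').1
          exact hzfP q hqP p (Finset.mem_erase.mpr ⟨hqne.symm, hp⟩) hq
        · have hpP' : p ∈ P' := Finset.mem_erase.mpr ⟨hpq, hp⟩
          have h3 : w ∈ p := by
            rw [hw, hpprime.prod_mem_iff]
            exact ⟨p, hpP', hgood p hp⟩
          have h4 : zf q₁ ^ a ∈ p := by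
            have := p.sub_mem hmem (p.pow_mem_of_mem h3 b hbpos)
            rwa [add_sub_cancel_right] at this
          have h5 : zf q₁ ∈ p := hpprime.mem_of_pow_mem a h4
          exact hzfP q₁ hq₁ p hpP' h5

/-- Let A be a Noetherian commutative ring graded by the natural numbers, J a homogeneous ideal, and
p_1, ..., p_r finitely many prime ideals such that no p_i contains the irrelevant ideal A_+ and no
p_i contains J. Then there is a homogeneous element z of positive degree with z in J and z in no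
p_i. -/
theorem result {R : Type u} {A : Type v} [CommRing R] [CommRing A]
    [Algebra R A] [IsNoetherianRing A] (𝒜 : ℕ → Submodule R A) [GradedRing 𝒜]
    (J : Ideal A) (hJ : J.IsHomogeneous 𝒜) (P : Finset (Ideal A))
    (hP : ∀ p ∈ P, p.IsPrime ∧ ¬ (HomogeneousIdeal.irrelevant 𝒜).toIdeal ≤ p ∧ ¬ J ≤ p) :
    ∃ (z : A) (n : ℕ), 0 < n ∧ z ∈ 𝒜 n ∧ z ∈ J ∧ ∀ p ∈ P, z ∉ p := by
  classical
  set I := J * (HomogeneousIdeal.irrelevant 𝒜).toIdeal with hIdef
  have hI : I.IsHomogeneous 𝒜 := hJ.mul (HomogeneousIdeal.irrelevant 𝒜).isHomogeneous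
  have hI' : I ≤ (HomogeneousIdeal.irrelevant 𝒜).toIdeal := Ideal.mul_le_right
  have hIJ : I ≤ J := Ideal.mul_le_left
  obtain ⟨z, d, hd, hz, hzI, hzP⟩ := main_aux 𝒜 I hI hI' P.card P rfl (by
    intro p hp
    obtain ⟨hpp, h1, h2⟩ := hP p hp
    refine ⟨hpp, ?_⟩
    intro hle
    rcases hpp.mul_le.mp hle with h | h
    · exact h2 h
    · exact h1 h)
  exact ⟨z, d, hd, hz, hIJ hzI, hzP⟩

end Groth.Agent.S15708
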