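import Groth.Statements.S15712
import Mathlib

set_option autoImplicit false
universe u
open CategoryTheory AlgebraicGeometry TopologicalSpace
open RatSing

namespace Groth.Agent.S15712

open CategoryTheory AlgebraicGeometry TopologicalSpace Opposite


theorem depth_eq_zero {R : Type u} [CommRing R] [IsLocalRing R] (z : R) (hz : z ≠ 0)
    (hkill : ∀ r ∈ IsLocalRing.maximalIdeal R, r * z = 0) : LocCoh.depth R R = 0 := by
  classical
  unfold LocCoh.depth LocCoh.idealDepth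
  have hne : ¬ (IsLocalRing.maximalIdeal R • (⊤ : Submodule R R) = ⊤) := by
    intro h
    have h1 : (IsLocalRing.maximalIdeal R • (⊤ : Submodule R R)) = IsLocalRing.maximalIdeal R := by
      change IsLocalRing.maximalIdeal R • (⊤ : Ideal R) = _
      rw [smul_eq_mul, Ideal.mul_top]
    rw [h1] at h
    exact (IsLocalRing.maximalIdeal.isMaximal R).ne_top h
  rw [if_neg hne]
  apply le_antisymm _ zero_le
  apply iSup_le
  intro rs
  apply iSup_le
  rintro ⟨hreg, hmem⟩
  rcases rs with _ | ⟨r, rs⟩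
  · simp
  · exfalso
    rw [RingTheory.Sequence.isWeaklyRegular_cons_iff] at hreg
    have hr : r ∈ IsLocalRing.maximalIdeal R := hmem r (by simp)
    have h0 : r • z = r • (0 : R) := by
      rw [smul_eq_mul, smul_zero]; exact hkill r hr
    exact hz (hreg.1 h0)

theorem alg_core {A : Type u} [CommRing A] [IsNoetherianRing A] (𝔭 : Ideal A) [𝔭.IsPrime] (a' : A)
    (hp : ∀ r, r ∈ 𝔭 ↔ r * a' = 0)
    (R : Type u) [CommRing R] [Algebra A R] [IsLocalization.AtPrime R 𝔭] [IsLocalRing R]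
    [IsNoetherianRing R]
    (hS1 : min (1 : WithBot ℕ∞) (ringKrullDim R) ≤ ((LocCoh.depth R R : ℕ∞) : WithBot ℕ∞)) :
    algebraMap A R a' ≠ 0 ∧ ∃ s : A, s ∉ 𝔭 ∧ ∀ 𝔮 : Ideal A, 𝔮.IsPrime → s ∉ 𝔮 → 𝔭 ≤ 𝔮 := by
  classical
  set z : R := algebraMap A R a' with hzdef
  have hz : z ≠ 0 := by
    intro h
    obtain ⟨m, hm⟩ := (IsLocalization.map_eq_zero_iff 𝔭.primeCompl R a').1 h
    exact m.2 ((hp _).2 hm)
  have hkill : ∀ r ∈ IsLocalRing.maximalIdeal R, r * z = 0 := by
    intro r hr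
    obtain ⟨g, s, rfl⟩ := IsLocalization.exists_mk'_eq 𝔭.primeCompl r
    have hg : g ∈ 𝔭 := (IsLocalization.AtPrime.mk'_mem_maximal_iff R 𝔭 g s inferInstance).1 hr
    have hu : IsUnit (algebraMap A R s) := IsLocalization.map_units R s
    have h1 : algebraMap A R s * (IsLocalization.mk' R g s * z) = 0 := by
      rw [← mul_assoc, mul_comm (algebraMap A R s), IsLocalization.mk'_spec, hzdef, ← map_mul,
        (hp g).1 hg, map_zero]
    exact (hu.mul_right_eq_zero).1 h1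
  have hdepth := depth_eq_zero z hz hkill
  rw [hdepth] at hS1
  have hdim : ringKrullDim R ≤ 0 := by
    rcases le_total (1 : WithBot ℕ∞) (ringKrullDim R) with h | h
    · rw [min_eq_left h] at hS1
      exfalso
      have : (1 : WithBot ℕ∞) ≤ 0 := by simpa using hS1
      exact absurd this (by decide)
    · rw [min_eq_right h] at hS1
      simpa using hS1
  haveI : Ring.KrullDimLE 0 R := Ring.krullDimLE_iff.2 (by simpa using hdim)
  have hnil : ∀ r ∈ IsLocalRing.maximalIdeal R, IsNilpotent r := by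
    intro r hr
    rw [← Ring.KrullDimLE.nilradical_eq_maximalIdeal] at hr
    exact mem_nilradical.1 hr
  have hloc : ∀ g ∈ 𝔭, ∃ s : A, s ∉ 𝔭 ∧ ∃ n : ℕ, s * g ^ n = 0 := by
    intro g hg
    have : algebraMap A R g ∈ IsLocalRing.maximalIdeal R :=
      (IsLocalization.AtPrime.to_map_mem_maximal_iff R 𝔭 g inferInstance).2 hg
    obtain ⟨n, hn⟩ := hnil _ this
    rw [← map_pow] at hn
    obtain ⟨m, hm⟩ := (IsLocalization.map_eq_zero_iff 𝔭.primeCompl R _).1 hn
    exact ⟨m.1, m.2, n, hm⟩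
  obtain ⟨T, hT⟩ := (isNoetherianRing_iff_ideal_fg A).1 inferInstance 𝔭
  have hTmem : ∀ g ∈ T, g ∈ 𝔭 := fun g hg => hT ▸ Ideal.subset_span hg
  choose! sg hsg ng hng using hloc
  refine ⟨hz, ∏ g ∈ T, sg g, ?_, ?_⟩
  · intro h
    obtain ⟨g, hgT, hg⟩ := (Ideal.IsPrime.prod_mem_iff).1 h
    exact hsg g (hTmem g hgT) hg
  · intro 𝔮 h𝔮 hs
    rw [← hT, Ideal.span_le]
    intro g hgT
    have h1 : sg g ∉ 𝔮 := by
      intro h
      exact hs (Ideal.mem_of_dvd _ (Finset.dvd_prod_of_mem sg hgT) h)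
    have h2 : sg g * g ^ ng g ∈ 𝔮 := by
      rw [hng g (hTmem g hgT)]; exact 𝔮.zero_mem
    exact h𝔮.mem_of_pow_mem _ ((h𝔮.mem_or_mem h2).resolve_left h1)


variable {X : Scheme.{u}}

lemma subsingleton_of_le_bot {W : X.Opens} (hW : W ≤ ⊥) : Subsingleton Γ(X, W) := by
  refine ⟨fun a b => ?_⟩
  refine TopCat.Sheaf.eq_of_locally_eq' X.sheaf (fun i : PEmpty.{1} => i.elim) W
    (fun i => i.elim) ?_ a b (fun i => i.elim)
  exact hW.trans bot_le

theorem dense_of_schematicallyDense (U : X.Opens) (hU : CInt.IsSchematicallyDense U) :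
    Dense (U : Set X) := by
  rw [dense_iff_inter_open]
  intro N hN hne
  by_contra hcon
  rw [Set.not_nonempty_iff_eq_empty] at hcon
  let N' : X.Opens := ⟨N, hN⟩
  have hbot : N' ⊓ U ≤ ⊥ := by
    intro x hx
    have : x ∈ N ∩ (U : Set X) := hx
    rw [hcon] at this
    exact this.elim
  haveI := subsingleton_of_le_bot hbot
  have h10 : (1 : Γ(X, N')) = 0 := hU N' (Subsingleton.elim _ _)
  have h1 : X.basicOpen (1 : Γ(X, N')) = N' := X.basicOpen_of_isUnit isUnit_one
  have h2 : X.basicOpen (0 : Γ(X, N')) = ⊥ := X.basicOpen_zero N'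
  rw [h10, h2] at h1
  obtain ⟨x, hx⟩ := hne
  have : x ∈ N' := hx
  rw [← h1] at this
  exact this

theorem affine_case [IsLocallyNoetherian X]
    (hS1 : ∀ x : X, min (1 : WithBot ℕ∞) (ringKrullDim (X.presheaf.stalk x)) ≤
      ((LocCoh.depth (X.presheaf.stalk x) (X.presheaf.stalk x) : ℕ∞) : WithBot ℕ∞))
    (U : X.Opens) (hU : Dense (U : Set X)) (W : X.Opens) (hW : IsAffineOpen W) (a : Γ(X, W))
    (ha : X.presheaf.map (homOfLE (inf_le_left : W ⊓ U ≤ W)).op a = 0) : a = 0 := by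
  classical
  by_contra hne
  haveI : IsNoetherianRing Γ(X, W) := IsLocallyNoetherian.component_noetherian ⟨W, hW⟩
  let M' : Ideal Γ(X, W) := Ideal.span {a}
  let x0 : M' := ⟨a, Ideal.subset_span rfl⟩
  have hx0 : x0 ≠ 0 := by
    intro h
    exact hne (congrArg Subtype.val h)
  obtain ⟨𝔭, hass, -⟩ := exists_le_isAssociatedPrime_of_isNoetherianRing Γ(X, W) x0 hx0
  obtain ⟨hprime, y, hy⟩ := (isAssociatedPrime_iff (M := M')).1 hass
  obtain ⟨c, hc⟩ := Ideal.mem_span_singleton'.1 y.2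
  set a' : Γ(X, W) := y.1 with ha'
  have hp : ∀ r, r ∈ 𝔭 ↔ r * a' = 0 := by
    intro r
    rw [hy, Submodule.mem_colon_singleton, Submodule.mem_bot]
    constructor
    · intro h
      exact congrArg Subtype.val h
    · intro h
      exact Subtype.ext h
  have ha'0 : X.presheaf.map (homOfLE (inf_le_left : W ⊓ U ≤ W)).op a' = 0 := by
    rw [← hc, map_mul, ha, mul_zero]
  haveI := hprime
  let 𝔭pt : PrimeSpectrum Γ(X, W) := ⟨𝔭, hprime⟩
  set x : X := hW.fromSpec 𝔭pt with hx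
  have hxW : x ∈ W := by
    have : x ∈ Set.range hW.fromSpec := ⟨𝔭pt, rfl⟩
    rw [hW.range_fromSpec] at this
    exact this
  letI := TopCat.Presheaf.algebra_section_stalk X.presheaf (⟨x, hxW⟩ : W)
  haveI : IsLocalization.AtPrime (X.presheaf.stalk x) 𝔭 := hW.isLocalization_stalk' 𝔭pt hxW
  obtain ⟨hz, s, hs𝔭, hs⟩ := alg_core 𝔭 a' hp (X.presheaf.stalk x) (hS1 x)
  -- x ∈ U
  have hxs : x ∈ X.basicOpen s := by
    rw [← hW.fromSpec_image_basicOpen s]
    exact ⟨𝔭pt, hs𝔭, rfl⟩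
  obtain ⟨y', hy's, hy'U⟩ := hU.inter_open_nonempty _ (X.basicOpen s).isOpen ⟨x, hxs⟩
  rw [← hW.fromSpec_image_basicOpen s] at hy's
  obtain ⟨𝔮pt, h𝔮s, rfl⟩ := hy's
  have hle : 𝔭pt ≤ 𝔮pt := hs 𝔮pt.asIdeal 𝔮pt.isPrime h𝔮s
  have hsp : x ⤳ hW.fromSpec 𝔮pt :=
    ((PrimeSpectrum.le_iff_specializes _ _).1 hle).map hW.fromSpec.continuous
  have hxU : x ∈ U := hsp.mem_open U.isOpen hy'U
  -- contradiction
  apply hz
  change X.presheaf.germ W x hxW a' = 0
  have hxWU : x ∈ W ⊓ U := ⟨hxW, hxU⟩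
  rw [← TopCat.Presheaf.germ_res_apply X.presheaf (homOfLE (inf_le_left : W ⊓ U ≤ W)) x hxWU a',
    ha'0, map_zero]

theorem main [IsLocallyNoetherian X]
    (hS1 : ∀ x : X, min (1 : WithBot ℕ∞) (ringKrullDim (X.presheaf.stalk x)) ≤
      ((LocCoh.depth (X.presheaf.stalk x) (X.presheaf.stalk x) : ℕ∞) : WithBot ℕ∞))
    (U : X.Opens) : CInt.IsSchematicallyDense U ↔ Dense (U : Set X) := by
  refine ⟨dense_of_schematicallyDense U, fun hU V => ?_⟩
  rw [injective_iff_map_eq_zero]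
  intro a ha
  refine TopCat.Sheaf.eq_of_locally_eq' X.sheaf
    (fun W : {W : X.affineOpens // W.1 ≤ V} => W.1.1) V
    (fun W => homOfLE W.2) ?_ _ _ ?_
  · intro x hx
    obtain ⟨W, hWaff, hxW, hWV⟩ := Opens.isBasis_iff_nbhd.1 X.isBasis_affineOpens hx
    exact Opens.mem_iSup.2 ⟨⟨⟨W, hWaff⟩, hWV⟩, hxW⟩
  · rintro ⟨⟨W, hWaff⟩, hWV⟩
    change X.presheaf.map (homOfLE hWV).op a = X.presheaf.map (homOfLE hWV).op 0
    rw [map_zero]
    apply affine_case hS1 U hU W hWaff
    have h1 : X.presheaf.map (homOfLE (inf_le_left : W ⊓ U ≤ W)).op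
        (X.presheaf.map (homOfLE hWV).op a) =
        X.presheaf.map (homOfLE (inf_le_inf_right U hWV : W ⊓ U ≤ V ⊓ U)).op
          (X.presheaf.map (homOfLE (inf_le_left : V ⊓ U ≤ V)).op a) := by
      rw [← CommRingCat.comp_apply, ← CommRingCat.comp_apply, ← Functor.map_comp,
        ← Functor.map_comp]
      rfl
    rw [h1, ha, map_zero]

/-- Let X be a locally Noetherian scheme with Serre's property (S_1), i.e. every local ring O_{X,x} has
depth at least min(1, dim O_{X,x}) (for instance X Cohen–Macaulay), and let U ⊆ X be open. Then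
scheme-theoretic density of U in X is equivalent to U being dense as a subset. (The published
statement assumes every scheme excellent, in particular locally Noetherian.) -/
theorem result (X : Scheme.{u}) [IsLocallyNoetherian X]
    (hS1 : ∀ x : X, min (1 : WithBot ℕ∞) (ringKrullDim (X.presheaf.stalk x)) ≤
      ((LocCoh.depth (X.presheaf.stalk x) (X.presheaf.stalk x) : ℕ∞) : WithBot ℕ∞))
    (U : X.Opens) : CInt.IsSchematicallyDense U ↔ Dense (U : Set X) := by
  exact main hS1 U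

end Groth.Agent.S15712
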