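import Groth.Statements.S15715
import Groth.Agent.Lib.Helper13.Qcqs
import Mathlib

set_option autoImplicit false
universe u
open CategoryTheory AlgebraicGeometry TopologicalSpace
open RatSing

namespace Groth.Agent.S15715

open CategoryTheory AlgebraicGeometry TopologicalSpace Opposite
open Groth.Agent.Helper13.QCoh Groth.Agent.Helper13.Qcqs


variable {X : Scheme.{u}}

/-- naturality of a module morphism with restriction -/
lemma app_res {F G : X.Modules} (φ : F ⟶ G) {U V : X.Opens} (h : V ≤ U) (t : Γ(F, U)) :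
    (φ.app V).hom (res F h t) = res G h ((φ.app U).hom t) := by
  have := φ.mapPresheaf.naturality (homOfLE h).op
  exact congr($this t)

/-- a function vanishing on all basic opens inside `W ⊓ U` vanishes on `W ⊓ U` -/
lemma resO_eq_zero_of_basicOpen {W : X.Opens} (hW : IsAffineOpen W) (U : X.Opens) (a : Γ(X, W))
    (h : ∀ f : Γ(X, W), ∀ hf : X.basicOpen f ≤ W ⊓ U,
      resO (hf.trans inf_le_left) a = 0) :
    resO (inf_le_left : W ⊓ U ≤ W) a = 0 := by
  refine TopCat.Sheaf.eq_of_locally_eq' X.sheaf
    (fun f : {f : Γ(X, W) // X.basicOpen f ≤ W ⊓ U} => X.basicOpen f.1) (W ⊓ U)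
    (fun f => homOfLE f.2) ?_ _ _ ?_
  · intro x hx
    obtain ⟨f, hf, hxf⟩ := hW.exists_basicOpen_le (V := W ⊓ U) ⟨x, hx⟩ hx.1
    exact Opens.mem_iSup.2 ⟨⟨f, hf⟩, hxf⟩
  · rintro ⟨f, hf⟩
    have h1 := h f hf
    have h2 : resO hf (resO (inf_le_left : W ⊓ U ≤ W) a) = resO (hf.trans inf_le_left) a :=
      resO_resO _ _ a
    change resO hf (resO (inf_le_left : W ⊓ U ≤ W) a) = resO hf 0
    rw [h2, h1, map_zero]

theorem affine_case [IsLocallyNoetherian X] (F G : X.Modules) [F.IsQuasicoherent]
    (φ : F ⟶ G) (U : X.Opens) (hU : CInt.IsSchematicallyDense U)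
    (hφU : ∀ V : X.Opens, V ≤ U → Function.Injective (φ.app V).hom)
    (W : X.Opens) (hW : IsAffineOpen W)
    (htf : Submodule.torsion Γ(X, W) Γ(F, W) = ⊥)
    (t : Γ(F, W)) (ht : (φ.app W).hom t = 0) : t = 0 := by
  classical
  haveI : IsNoetherianRing Γ(X, W) := IsLocallyNoetherian.component_noetherian ⟨W, hW⟩
  set I : Ideal Γ(X, W) := (Submodule.span Γ(X, W) {t}).annihilator with hI
  have hmemI : ∀ a : Γ(X, W), a ∈ I ↔ a • t = 0 := fun a =>
    Submodule.mem_annihilator_span_singleton _ _
  -- key: powers of functions with basic open in U kill t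
  have hpow : ∀ f : Γ(X, W), X.basicOpen f ≤ U → ∃ n : ℕ, f ^ n ∈ I := by
    intro f hf
    have h0 : res F (X.basicOpen_le f) t = 0 := by
      apply hφU _ hf
      rw [app_res, ht, map_zero, map_zero]
    obtain ⟨n, hn⟩ := exists_pow_smul_eq_zero F hW f t h0
    exact ⟨n, (hmemI _).2 hn⟩
  -- there is a regular element in I
  have hreg : ∃ r ∈ I, r ∈ nonZeroDivisors Γ(X, W) := by
    by_contra hcon
    push Not at hcon
    have hsub : (I : Set Γ(X, W)) ⊆ ⋃ p ∈ associatedPrimes Γ(X, W) Γ(X, W), (p : Set Γ(X, W)) := by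
      rw [biUnion_associatedPrimes_eq_compl_nonZeroDivisors]
      intro r hr
      exact hcon r hr
    have hfin : (associatedPrimes Γ(X, W) Γ(X, W)).Finite := associatedPrimes.finite _ _
    obtain ⟨p, hp, hIp⟩ := (Ideal.subset_union_prime_finite hfin ⊤ ⊤
      (fun i hi _ _ => hi.isPrime)).1 hsub
    obtain ⟨hprime, a, hpa⟩ := (isAssociatedPrime_iff (M := Γ(X, W))).1 hp
    have hmem : ∀ r : Γ(X, W), r ∈ p ↔ r * a = 0 := by
      intro r
      rw [hpa, Submodule.mem_colon_singleton, Submodule.mem_bot, smul_eq_mul]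
    -- a vanishes on W ⊓ U
    have ha0 : resO (inf_le_left : W ⊓ U ≤ W) a = 0 := by
      apply resO_eq_zero_of_basicOpen hW U a
      intro f hf
      obtain ⟨n, hn⟩ := hpow f (hf.trans inf_le_right)
      have h1 : f ^ n * a = 0 := (hmem _).1 (hIp hn)
      have h2 := congrArg (resO (hf.trans inf_le_left)) h1
      rw [map_mul, map_pow, map_zero] at h2
      have hu : IsUnit (resO (hf.trans inf_le_left) f) :=
        RingedSpace.isUnit_res_basicOpen X.toRingedSpace f
      exact (hu.pow n).mul_right_eq_zero.1 h2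
    have ha : a = 0 := by
      apply hU W
      rw [map_zero]
      exact ha0
    have : (1 : Γ(X, W)) ∈ p := by
      rw [hmem, ha, mul_zero]
    exact hprime.ne_top ((Ideal.eq_top_iff_one _).2 this)
  obtain ⟨r, hrI, hr⟩ := hreg
  have : t ∈ Submodule.torsion Γ(X, W) Γ(F, W) := by
    rw [Submodule.mem_torsion_iff]
    exact ⟨⟨r, hr⟩, (hmemI r).1 hrI⟩
  rw [htf] at this
  exact this

theorem main [IsLocallyNoetherian X] (F G : X.Modules) [F.IsQuasicoherent]
    (htf : ∀ V : X.affineOpens, Submodule.torsion Γ(X, V.1) Γ(F, V.1) = ⊥)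
    (φ : F ⟶ G) (U : X.Opens) (hU : CInt.IsSchematicallyDense U)
    (hφU : ∀ V : X.Opens, V ≤ U → Function.Injective (φ.app V).hom) (V : X.Opens) :
    Function.Injective (φ.app V).hom := by
  rw [injective_iff_map_eq_zero]
  intro s hs
  refine TopCat.Sheaf.eq_of_locally_eq' ⟨F.presheaf, F.isSheaf⟩
    (fun W : {W : X.affineOpens // W.1 ≤ V} => W.1.1) V
    (fun W => homOfLE W.2) ?_ _ _ ?_
  · intro x hx
    obtain ⟨W, hWaff, hxW, hWV⟩ := Opens.isBasis_iff_nbhd.1 X.isBasis_affineOpens hx
    exact Opens.mem_iSup.2 ⟨⟨⟨W, hWaff⟩, hWV⟩, hxW⟩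
  · rintro ⟨⟨W, hWaff⟩, hWV⟩
    change res F hWV s = res F hWV 0
    rw [map_zero]
    apply affine_case F G φ U hU hφU W hWaff (htf ⟨W, hWaff⟩)
    rw [app_res, hs, map_zero]

/-- Let X be a locally Noetherian scheme, φ : F → G a homomorphism of O_X-modules with F quasi-coherent
and torsion-free (over every affine open V, no nonzero section of F is killed by a regular element
of O_X(V)), and U a scheme-theoretically dense open subset of X such that the restriction of φ to U
is injective. Then φ is injective. (The published statement allows an arbitrary O_X-module F; for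
the skyscraper sheaf on the affine line over a field, placed at a closed point with value the local
ring at that point, which is torsion-free in this sense, the zero map to the zero module is
injective over the dense open complement of the point but not injective. This row takes F
quasi-coherent.) -/
theorem result (X : Scheme.{u})
    [IsLocallyNoetherian X] (F G : X.Modules) (hF : Coh.IsQCoh F)
    (htf : ∀ V : X.affineOpens, Submodule.torsion Γ(X, V.1) (F.val.obj (Opposite.op V.1)) = ⊥)
    (φ : F ⟶ G) (U : X.Opens) (hU : CInt.IsSchematicallyDense U)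
    (hφU : ∀ V : X.Opens, V ≤ U → Function.Injective ⇑(ConcreteCategory.hom (φ.val.app (Opposite.op V)))) (V : X.Opens) :
    Function.Injective ⇑(ConcreteCategory.hom (φ.val.app (Opposite.op V))) := by
  haveI : F.IsQuasicoherent := hF
  exact main F G (fun V => htf V) φ U hU (fun V hV => hφU V hV) V

end Groth.Agent.S15715
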