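import Groth.Statements.S15717
import Mathlib
import Groth.Agent.Lib.Lead.Bass5

set_option autoImplicit false
universe u
open CAlg

namespace Groth.Agent.S15717

/-- Let R be a Cohen–Macaulay local ring and I an ideal of R with R/I equidimensional (all minimal
primes p over I have the same dim R/p). Then there is a regular sequence r_1, ..., r_n in I such
that the closed subscheme V(r_1, ..., r_n) of Spec R, a local complete intersection, contains V(I),
has the same dimension as V(I), and has the irreducible components of V(I) among its irreducible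
components: dim R/(r_1, ..., r_n) = dim R/I and every minimal prime over I is a minimal prime over
(r_1, ..., r_n). The sequence is asked to be weakly regular (each r_i a non-zero-divisor modulo the
previous ones), which for I proper is the same as regular and which also covers I = R with the
sequence (1). -/
theorem result (R : Type u) [CommRing R]
    [LocCoh.IsCohenMacaulayLocalRing R] (I : Ideal R)
    (hI : ∀ p ∈ I.minimalPrimes, ringKrullDim (R ⧸ p) = ringKrullDim (R ⧸ I)) :
    ∃ rs : List R, RingTheory.Sequence.IsWeaklyRegular R rs ∧ Ideal.ofList rs ≤ I ∧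
      ringKrullDim (R ⧸ Ideal.ofList rs) = ringKrullDim (R ⧸ I) ∧
      I.minimalPrimes ⊆ (Ideal.ofList rs).minimalPrimes := by
  classical
  by_cases hItop : I = ⊤
  · subst hItop
    refine ⟨[1], ?_, le_top, ?_, ?_⟩
    · refine (RingTheory.Sequence.isWeaklyRegular_cons_iff R 1 []).mpr ⟨?_, ?_⟩
      · intro a b hab
        simpa using hab
      · exact RingTheory.Sequence.IsWeaklyRegular.nil _ _
    · have h1 : Ideal.ofList [(1 : R)] = ⊤ := by
        rw [Ideal.ofList_singleton]; exact Ideal.span_singleton_one
      rw [h1]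
    · rw [Ideal.minimalPrimes_top]
      exact Set.empty_subset _
  · have hCM : LocCoh.IsCohenMacaulayModule R R :=
      LocCoh.IsCohenMacaulayLocalRing.supportDim_eq_depth
    have hIR : I • (⊤ : Submodule R R) ≠ ⊤ := by
      rw [smul_eq_mul, Ideal.mul_top]; exact hItop
    have hfin : LocCoh.idealDepth I R ≠ ⊤ :=
      ne_top_of_le_ne_top (Groth.Agent.Lead.Depth.depth_ne_top (R := R) R)
        (Groth.Agent.Lead.Depth.idealDepth_le_depth R I hItop)
    obtain ⟨n, hn⟩ := ENat.ne_top_iff_exists.mp hfin
    obtain ⟨rs, hlen, hreg, hmem⟩ := Groth.Agent.Lead.Depth.exists_of_le_idealDepth I R hIR n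
      (by rw [hn])
    have hle : Ideal.ofList rs ≤ I := by
      rw [Ideal.ofList, Ideal.span_le]
      intro x hx
      exact hmem x hx
    have hreg' : RingTheory.Sequence.IsRegular R rs :=
      Groth.Agent.Lead.Depth.isRegular_of_isWeaklyRegular_of_mem hIR hreg hmem
    have hdim1 := ringKrullDim_add_length_eq_ringKrullDim_of_isRegular rs hreg'
    have hdim2 := Groth.Agent.Lead.Depth.supportDim_eq_add_idealDepth_of_CM I hItop R hCM
    rw [Module.supportDim_self_eq_ringKrullDim, ← hn] at hdim2
    have hq : Module.supportDim R (R ⧸ I • (⊤ : Submodule R R)) = ringKrullDim (R ⧸ I) := by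
      have hII : I • (⊤ : Submodule R R) = I := by rw [smul_eq_mul, Ideal.mul_top]
      rw [hII]
      exact Module.supportDim_quotient_eq_ringKrullDim I
    rw [hq, ← hdim1, hlen] at hdim2
    have hdimeq : ringKrullDim (R ⧸ Ideal.ofList rs) = ringKrullDim (R ⧸ I) := by
      have h3 : ringKrullDim (R ⧸ Ideal.ofList rs) + ((n : ℕ∞) : WithBot ℕ∞) =
          ringKrullDim (R ⧸ I) + ((n : ℕ∞) : WithBot ℕ∞) := hdim2
      induction hx : ringKrullDim (R ⧸ Ideal.ofList rs) using WithBot.recBotCoe with
      | bot =>
        rw [hx, WithBot.bot_add] at h3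
        induction hy : ringKrullDim (R ⧸ I) using WithBot.recBotCoe with
        | bot => rfl
        | coe y =>
          rw [hy, ← WithBot.coe_add] at h3
          exact absurd h3.symm WithBot.coe_ne_bot
      | coe x =>
        rw [hx] at h3
        induction hy : ringKrullDim (R ⧸ I) using WithBot.recBotCoe with
        | bot =>
          rw [hy, WithBot.bot_add, ← WithBot.coe_add] at h3
          exact absurd h3 WithBot.coe_ne_bot
        | coe y =>
          rw [hy, ← WithBot.coe_add, ← WithBot.coe_add, WithBot.coe_inj] at h3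
          congr 1
          exact (ENat.add_left_injective_of_ne_top (ENat.coe_ne_top n)) h3
    refine ⟨rs, hreg, hle, hdimeq, ?_⟩
    intro p hp
    haveI : p.IsPrime := hp.1.1
    refine ⟨⟨hp.1.1, hle.trans hp.1.2⟩, ?_⟩
    rintro q ⟨hq1, hq2⟩ hqp
    by_contra hnle
    haveI : q.IsPrime := hq1
    have hlt : q < p := lt_of_le_of_ne hqp (by rintro rfl; exact hnle le_rfl)
    obtain ⟨x, hxp, hxq⟩ := SetLike.exists_of_lt hlt
    have h1 := Groth.Agent.Lead.Depth.ringKrullDim_quotient_succ_le_of_lt hqp hxp hxq
    have h2 : ringKrullDim (R ⧸ q) ≤ ringKrullDim (R ⧸ Ideal.ofList rs) :=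
      ringKrullDim_le_of_surjective (Ideal.Quotient.factor hq2)
        (Ideal.Quotient.factor_surjective hq2)
    rw [hdimeq, ← hI p hp] at h2
    have h3 : ringKrullDim (R ⧸ p) + 1 ≤ ringKrullDim (R ⧸ p) := h1.trans h2
    haveI : Nontrivial (R ⧸ p) := Ideal.Quotient.nontrivial_iff.mpr hp.1.1.ne_top
    haveI : IsLocalRing (R ⧸ p) :=
      IsLocalRing.of_surjective' (Ideal.Quotient.mk p) Ideal.Quotient.mk_surjective
    obtain ⟨d, hd⟩ := Groth.Agent.Lead.Depth.exists_nat_ringKrullDim (R := R ⧸ p)
    rw [hd] at h3
    have h4 : ((d + 1 : ℕ) : WithBot ℕ∞) ≤ ((d : ℕ) : WithBot ℕ∞) := by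
      push_cast
      exact h3
    have h5 : d + 1 ≤ d := by exact_mod_cast h4
    omega

end Groth.Agent.S15717
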