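import Groth.Statements.S15724
import Groth.Agent.Lib.Helper23.InvHilbLib

set_option autoImplicit false
universe u
open W4c2invhilbsl2

namespace Groth.Agent.S15724

open Groth.Agent.Helper23.InvHilb MvPolynomial

theorem pow_pred_mul {k : Type*} [CommRing k] (i : Fin 5) {n : ℕ} (h : 1 ≤ n) :
    (X i : MvPolynomial (Fin 5) k) ^ n = X i ^ (n - 1) * X i := by
  rw [← pow_succ, Nat.sub_add_cancel h]

/-- Grade the polynomial ring k[X₀,…,X₄] over a field k by ℤ × ℤ/m, giving X₀ weight (1,0), X₁ and X₂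
weight (−p,−1), and X₃ and X₄ weight (q,1), where 0 < p < q are coprime integers and m ≥ 1, and let
P be the principal ideal generated by the weight-zero element X₀^(q−p) − X₁X₄ + X₂X₃ (the equation
of an affine hypersurface). Then every polynomial homogeneous of the weight of X₁ is congruent
modulo P to some a·X₁ + b·X₂ with a and b homogeneous of weight zero, and every polynomial
homogeneous of the weight of X₃ is congruent modulo P to some a·X₃ + b·X₄ with a and b homogeneous
of weight zero. Equivalently, in the coordinate ring of the hypersurface the weight pieces of the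
weights of X₁ and of X₃ are generated over the weight-zero subring (the ring of invariants of the
diagonal action of a one-dimensional torus times the group of m-th roots of unity with these
weights) by X₁, X₂ and by X₃, X₄ respectively. (For the weight of X₁ the congruence is already an
equality in the polynomial ring; for the weight of X₃ the hypersurface equation is needed, e.g.
X₀^(q+p)X₁ has that weight when m divides 2.) -/
theorem result (k : Type u) [Field k] (p q m : ℕ) (hp : 0 < p) (hpq : p < q) (hcop : Nat.Coprime p q) (hm : 0 < m) (f : MvPolynomial (Fin 5) k) :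
    (f ∈ MvPolynomial.weightedHomogeneousSubmodule k (W4c2invhilbsl2.wt5 p q m) (W4c2invhilbsl2.wt5 p q m 1) →
      ∃ a b : MvPolynomial (Fin 5) k, a ∈ MvPolynomial.weightedHomogeneousSubmodule k (W4c2invhilbsl2.wt5 p q m) 0 ∧ b ∈ MvPolynomial.weightedHomogeneousSubmodule k (W4c2invhilbsl2.wt5 p q m) 0 ∧
        f - (a * MvPolynomial.X (1 : Fin 5) + b * MvPolynomial.X (2 : Fin 5)) ∈ Ideal.span {MvPolynomial.X (0 : Fin 5) ^ (q - p) - MvPolynomial.X 1 * MvPolynomial.X 4 + MvPolynomial.X 2 * MvPolynomial.X 3}) ∧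
    (f ∈ MvPolynomial.weightedHomogeneousSubmodule k (W4c2invhilbsl2.wt5 p q m) (W4c2invhilbsl2.wt5 p q m 3) →
      ∃ a b : MvPolynomial (Fin 5) k, a ∈ MvPolynomial.weightedHomogeneousSubmodule k (W4c2invhilbsl2.wt5 p q m) 0 ∧ b ∈ MvPolynomial.weightedHomogeneousSubmodule k (W4c2invhilbsl2.wt5 p q m) 0 ∧
        f - (a * MvPolynomial.X (3 : Fin 5) + b * MvPolynomial.X (4 : Fin 5)) ∈ Ideal.span {MvPolynomial.X (0 : Fin 5) ^ (q - p) - MvPolynomial.X 1 * MvPolynomial.X 4 + MvPolynomial.X 2 * MvPolynomial.X 3}) := by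
  have hqp : (p : ℤ) < q := by exact_mod_cast hpq
  have hp0 : (0 : ℤ) < p := by exact_mod_cast hp
  set P : Ideal (MvPolynomial (Fin 5) k) := Ideal.span {MvPolynomial.X (0 : Fin 5) ^ (q - p) - MvPolynomial.X 1 * MvPolynomial.X 4 + MvPolynomial.X 2 * MvPolynomial.X 3} with hP
  have hw1 : wt5 p q m 1 = (-(p : ℤ), (-1 : ZMod m)) := by simp [wt5]
  have hw3 : wt5 p q m 3 = ((q : ℤ), (1 : ZMod m)) := by simp [wt5]
  constructor
  · intro hf
    have key : f ∈ genSub (wt5 p q m) P ![X (1 : Fin 5), X (2 : Fin 5)] := by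
      refine wh_mem_of_monomials _ ?_ hf
      intro d hd
      rw [weight_wt5, hw1, Prod.ext_iff] at hd
      obtain ⟨h1, h2⟩ := hd
      simp only at h1 h2
      rw [monomial_eq5]
      by_cases hd1 : d 1 = 0
      · by_cases hd2 : d 2 = 0
        · exfalso
          rw [hd1, hd2] at h1
          simp only [Nat.cast_zero, add_zero, mul_zero, sub_zero] at h1
          have h3 : (0 : ℤ) ≤ d 0 := Int.natCast_nonneg _
          have h4 : (0 : ℤ) ≤ (q : ℤ) * ((d 3 : ℤ) + d 4) := by positivity
          linarith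
        · have h2' : 1 ≤ d 2 := Nat.pos_of_ne_zero hd2
          have heq : (X 0 ^ d 0 * X 1 ^ d 1 * X 2 ^ d 2 * X 3 ^ d 3 * X 4 ^ d 4 : MvPolynomial (Fin 5) k) =
              (X 0 ^ d 0 * X 1 ^ d 1 * X 2 ^ (d 2 - 1) * X 3 ^ d 3 * X 4 ^ d 4) * (![X (1 : Fin 5), X (2 : Fin 5)] 1) := by
            simp only [Matrix.cons_val_one, Matrix.cons_val_zero]
            rw [pow_pred_mul 2 h2']; ring
          rw [heq]
          apply mem_genSub_of_mul
          rw [mem_weightedHomogeneousSubmodule]
          convert wh_mono5 (k := k) p q m (d 0) (d 1) (d 2 - 1) (d 3) (d 4) using 1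
          ext
          · simp only [Prod.fst_zero]
            push_cast [Nat.cast_sub h2']
            linarith
          · simp only [Prod.snd_zero]
            push_cast [Nat.cast_sub h2']
            linear_combination (-1 : ZMod m) * h2
      · have h1' : 1 ≤ d 1 := Nat.pos_of_ne_zero hd1
        have heq : (X 0 ^ d 0 * X 1 ^ d 1 * X 2 ^ d 2 * X 3 ^ d 3 * X 4 ^ d 4 : MvPolynomial (Fin 5) k) =
            (X 0 ^ d 0 * X 1 ^ (d 1 - 1) * X 2 ^ d 2 * X 3 ^ d 3 * X 4 ^ d 4) * (![X (1 : Fin 5), X (2 : Fin 5)] 0) := by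
          simp only [Matrix.cons_val_zero]
          rw [pow_pred_mul 1 h1']; ring
        rw [heq]
        apply mem_genSub_of_mul
        rw [mem_weightedHomogeneousSubmodule]
        convert wh_mono5 (k := k) p q m (d 0) (d 1 - 1) (d 2) (d 3) (d 4) using 1
        ext
        · simp only [Prod.fst_zero]
          push_cast [Nat.cast_sub h1']
          linarith
        · simp only [Prod.snd_zero]
          push_cast [Nat.cast_sub h1']
          linear_combination (-1 : ZMod m) * h2
    obtain ⟨a, ha, h⟩ := key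
    refine ⟨a 0, a 1, ha 0, ha 1, ?_⟩
    simpa [Fin.sum_univ_two] using h
  · intro hf
    have key : f ∈ genSub (wt5 p q m) P ![X (3 : Fin 5), X (4 : Fin 5)] := by
      refine wh_mem_of_monomials _ ?_ hf
      intro d hd
      rw [weight_wt5, hw3, Prod.ext_iff] at hd
      obtain ⟨h1, h2⟩ := hd
      simp only at h1 h2
      rw [monomial_eq5]
      by_cases hd3 : d 3 = 0
      · by_cases hd4 : d 4 = 0
        · -- the interesting case
          rw [hd3, hd4] at h1 h2
          simp only [Nat.cast_zero, add_zero, mul_zero, zero_sub] at h1 h2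
          have h0 : d 0 = p * (d 1 + d 2 + 1) + (q - p) := by
            zify [hpq.le]; linarith
          have heq : (X 0 ^ d 0 * X 1 ^ d 1 * X 2 ^ d 2 * X 3 ^ d 3 * X 4 ^ d 4 : MvPolynomial (Fin 5) k) =
              (X 0 ^ (p * (d 1 + d 2 + 1)) * X 1 ^ d 1 * X 2 ^ d 2) * (X (0 : Fin 5) ^ (q - p) - X 1 * X 4 + X 2 * X 3)
              + ((X 0 ^ (p * (d 1 + d 2 + 1)) * X 1 ^ (d 1 + 1) * X 2 ^ d 2 * X 3 ^ 0 * X 4 ^ 0) * (![X (3 : Fin 5), X (4 : Fin 5)] 1)
              + (-(X 0 ^ (p * (d 1 + d 2 + 1)) * X 1 ^ d 1 * X 2 ^ (d 2 + 1) * X 3 ^ 0 * X 4 ^ 0)) * (![X (3 : Fin 5), X (4 : Fin 5)] 0)) := by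
            simp only [Matrix.cons_val_one, Matrix.cons_val_zero, hd3, hd4, pow_zero, mul_one]
            rw [h0, pow_add, pow_succ, pow_succ]; ring
          rw [heq]
          have hwz : ((((p * (d 1 + d 2 + 1) : ℕ) : ℤ) - (p : ℤ) * (((d 1 + 1 : ℕ) : ℤ) + (d 2 : ℤ)) + (q : ℤ) * (((0 : ℕ) : ℤ) + ((0 : ℕ) : ℤ))),
              ((((0 : ℕ) : ZMod m) + ((0 : ℕ) : ZMod m)) - (((d 1 + 1 : ℕ) : ZMod m) + (d 2 : ZMod m)))) = (0 : ℤ × ZMod m) := by
            ext
            · simp only [Prod.fst_zero]; push_cast; ring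
            · simp only [Prod.snd_zero]; push_cast; linear_combination h2
          have hwz' : ((((p * (d 1 + d 2 + 1) : ℕ) : ℤ) - (p : ℤ) * (((d 1 : ℕ) : ℤ) + ((d 2 + 1 : ℕ) : ℤ)) + (q : ℤ) * (((0 : ℕ) : ℤ) + ((0 : ℕ) : ℤ))),
              ((((0 : ℕ) : ZMod m) + ((0 : ℕ) : ZMod m)) - (((d 1 : ℕ) : ZMod m) + ((d 2 + 1 : ℕ) : ZMod m)))) = (0 : ℤ × ZMod m) := by
            ext
            · simp only [Prod.fst_zero]; push_cast; ring
            · simp only [Prod.snd_zero]; push_cast; linear_combination h2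
          refine Submodule.add_mem _ ?_ (Submodule.add_mem _ ?_ ?_)
          · apply mem_genSub_of_mem
            exact Ideal.mul_mem_left _ _ (Ideal.subset_span rfl)
          · apply mem_genSub_of_mul
            rw [mem_weightedHomogeneousSubmodule, ← hwz]
            exact wh_mono5 (k := k) p q m _ _ _ _ _
          · apply mem_genSub_of_mul
            apply Submodule.neg_mem
            rw [mem_weightedHomogeneousSubmodule, ← hwz']
            exact wh_mono5 (k := k) p q m _ _ _ _ _
        · have h4' : 1 ≤ d 4 := Nat.pos_of_ne_zero hd4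
          have heq : (X 0 ^ d 0 * X 1 ^ d 1 * X 2 ^ d 2 * X 3 ^ d 3 * X 4 ^ d 4 : MvPolynomial (Fin 5) k) =
              (X 0 ^ d 0 * X 1 ^ d 1 * X 2 ^ d 2 * X 3 ^ d 3 * X 4 ^ (d 4 - 1)) * (![X (3 : Fin 5), X (4 : Fin 5)] 1) := by
            simp only [Matrix.cons_val_one, Matrix.cons_val_zero]
            rw [pow_pred_mul 4 h4']; ring
          rw [heq]
          apply mem_genSub_of_mul
          rw [mem_weightedHomogeneousSubmodule]
          convert wh_mono5 (k := k) p q m (d 0) (d 1) (d 2) (d 3) (d 4 - 1) using 1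
          ext
          · simp only [Prod.fst_zero]
            push_cast [Nat.cast_sub h4']
            linarith
          · simp only [Prod.snd_zero]
            push_cast [Nat.cast_sub h4']
            linear_combination (-1 : ZMod m) * h2
      · have h3' : 1 ≤ d 3 := Nat.pos_of_ne_zero hd3
        have heq : (X 0 ^ d 0 * X 1 ^ d 1 * X 2 ^ d 2 * X 3 ^ d 3 * X 4 ^ d 4 : MvPolynomial (Fin 5) k) =
            (X 0 ^ d 0 * X 1 ^ d 1 * X 2 ^ d 2 * X 3 ^ (d 3 - 1) * X 4 ^ d 4) * (![X (3 : Fin 5), X (4 : Fin 5)] 0) := by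
          simp only [Matrix.cons_val_zero]
          rw [pow_pred_mul 3 h3']; ring
        rw [heq]
        apply mem_genSub_of_mul
        rw [mem_weightedHomogeneousSubmodule]
        convert wh_mono5 (k := k) p q m (d 0) (d 1) (d 2) (d 3 - 1) (d 4) using 1
        ext
        · simp only [Prod.fst_zero]
          push_cast [Nat.cast_sub h3']
          linarith
        · simp only [Prod.snd_zero]
          push_cast [Nat.cast_sub h3']
          linear_combination (-1 : ZMod m) * h2
    obtain ⟨a, ha, h⟩ := key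
    refine ⟨a 0, a 1, ha 0, ha 1, ?_⟩
    simpa [Fin.sum_univ_two] using h

end Groth.Agent.S15724
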