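import Groth.Statements.S15725
import Groth.Agent.Lib.Helper23.InvHilbLib

set_option autoImplicit false
universe u
open W4c2invhilbsl2

namespace Groth.Agent.S15725

open Groth.Agent.Helper23.InvHilb MvPolynomial

/-- Grade the polynomial ring k[X₀,X₁,X₂] over a field k by ℤ × ℤ/m, giving X₀ weight (1,0), X₁ weight
(−p,−1) and X₂ weight (q,1), where 0 < p < q are coprime integers and m ≥ 1 (this three-variable
ring stands for the subring k[X₀,X₁,Xⱼ], j = 3 or 4, of the five-variable ring with the same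
weights). Then every polynomial homogeneous of weight (q−p, 0) can be written a·X₀^(q−p) + b·X₁X₂
with a and b homogeneous of weight zero; in other words the weight-(q−p, 0) piece is generated by
X₀^(q−p) and X₁X₂ as a module over the weight-zero subring. -/
theorem result (k : Type u) [Field k] (p q m : ℕ) (hp : 0 < p) (hpq : p < q) (hcop : Nat.Coprime p q) (hm : 0 < m) (f : MvPolynomial (Fin 3) k)
    (hf : f ∈ MvPolynomial.weightedHomogeneousSubmodule k (W4c2invhilbsl2.wt3 p q m) ((q : ℤ) - (p : ℤ), (0 : ZMod m))) :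
    ∃ a b : MvPolynomial (Fin 3) k, a ∈ MvPolynomial.weightedHomogeneousSubmodule k (W4c2invhilbsl2.wt3 p q m) 0 ∧ b ∈ MvPolynomial.weightedHomogeneousSubmodule k (W4c2invhilbsl2.wt3 p q m) 0 ∧
      f = a * MvPolynomial.X (0 : Fin 3) ^ (q - p) + b * (MvPolynomial.X (1 : Fin 3) * MvPolynomial.X (2 : Fin 3)) := by
  have hqp : (p : ℤ) < q := by exact_mod_cast hpq
  have hp0 : (0 : ℤ) < p := by exact_mod_cast hp
  have key : f ∈ genSub (wt3 p q m) (⊥ : Ideal (MvPolynomial (Fin 3) k))
      ![X (0 : Fin 3) ^ (q - p), X (1 : Fin 3) * X (2 : Fin 3)] := by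
    refine wh_mem_of_monomials _ ?_ hf
    intro d hd
    rw [weight_wt3, Prod.ext_iff] at hd
    obtain ⟨h1, h2⟩ := hd
    simp only at h1 h2
    rw [monomial_eq3]
    by_cases hd2 : d 2 = 0
    · -- X₀^(q-p) divides
      have h0 : q - p ≤ d 0 := by
        rw [hd2] at h1
        have : (0 : ℤ) ≤ (p : ℤ) * d 1 := by positivity
        zify [hpq.le]; push_cast at h1; linarith
      have heq : (X 0 ^ d 0 * X 1 ^ d 1 * X 2 ^ d 2 : MvPolynomial (Fin 3) k) =
          (X 0 ^ (d 0 - (q - p)) * X 1 ^ d 1 * X 2 ^ 0) * (![X (0 : Fin 3) ^ (q - p), X (1 : Fin 3) * X (2 : Fin 3)] 0) := by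
        simp only [Matrix.cons_val_zero, hd2, pow_zero, mul_one]
        rw [mul_right_comm, ← pow_add, Nat.sub_add_cancel h0]
      rw [heq]
      apply mem_genSub_of_mul
      rw [mem_weightedHomogeneousSubmodule]
      convert wh_mono3 (k := k) p q m (d 0 - (q - p)) (d 1) 0 using 1
      ext
      · simp only [Prod.fst_zero]
        rw [hd2] at h1
        push_cast [Nat.cast_sub h0, Nat.cast_sub hpq.le] at h1 ⊢
        linarith
      · simp only [Prod.snd_zero]
        rw [hd2] at h2
        simpa using h2.symm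
    · by_cases hd1 : d 1 = 0
      · exfalso
        rw [hd1] at h1
        simp only [Nat.cast_zero, mul_zero, sub_zero] at h1
        have : (1 : ℤ) ≤ d 2 := by
          have : 0 < d 2 := Nat.pos_of_ne_zero hd2
          exact_mod_cast this
        have h3 : (0 : ℤ) ≤ d 0 := Int.natCast_nonneg _
        nlinarith
      · have h1' : 1 ≤ d 1 := Nat.pos_of_ne_zero hd1
        have h2' : 1 ≤ d 2 := Nat.pos_of_ne_zero hd2
        have heq : (X 0 ^ d 0 * X 1 ^ d 1 * X 2 ^ d 2 : MvPolynomial (Fin 3) k) =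
            (X 0 ^ d 0 * X 1 ^ (d 1 - 1) * X 2 ^ (d 2 - 1)) * (![X (0 : Fin 3) ^ (q - p), X (1 : Fin 3) * X (2 : Fin 3)] 1) := by
          simp only [Matrix.cons_val_one, Matrix.cons_val_zero]
          have e1 : (X 1 : MvPolynomial (Fin 3) k) ^ d 1 = X 1 ^ (d 1 - 1) * X 1 := by
            rw [← pow_succ, Nat.sub_add_cancel h1']
          have e2 : (X 2 : MvPolynomial (Fin 3) k) ^ d 2 = X 2 ^ (d 2 - 1) * X 2 := by
            rw [← pow_succ, Nat.sub_add_cancel h2']
          rw [e1, e2]; ring
        rw [heq]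
        apply mem_genSub_of_mul
        rw [mem_weightedHomogeneousSubmodule]
        convert wh_mono3 (k := k) p q m (d 0) (d 1 - 1) (d 2 - 1) using 1
        ext
        · simp only [Prod.fst_zero]
          push_cast [Nat.cast_sub h1', Nat.cast_sub h2']
          linarith
        · simp only [Prod.snd_zero]
          push_cast [Nat.cast_sub h1', Nat.cast_sub h2']
          rw [← h2]; ring
  obtain ⟨a, ha, h⟩ := key
  refine ⟨a 0, a 1, ha 0, ha 1, ?_⟩
  rw [Ideal.mem_bot, sub_eq_zero] at h
  rw [h, Fin.sum_univ_two]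
  rfl

end Groth.Agent.S15725
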