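import Groth.Statements.S15726
import Groth.Agent.Lib.Helper23.InvHilbLib

set_option autoImplicit false
universe u
open W4c2invhilbsl2

namespace Groth.Agent.S15726

open Groth.Agent.Helper23.InvHilb MvPolynomial

theorem pow_pred_mul {k : Type*} [CommRing k] (i : Fin 5) {n : ℕ} (h : 1 ≤ n) :
    (X i : MvPolynomial (Fin 5) k) ^ n = X i ^ (n - 1) * X i := by
  rw [← pow_succ, Nat.sub_add_cancel h]

/-- Grade the polynomial ring k[X₀,…,X₄] over a field k by ℤ × ℤ/m, giving X₀ weight (1,0), X₁ and X₂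
weight (−p,−1), and X₃ and X₄ weight (q,1), where 0 < p < q are coprime integers and m ≥ 1. Then
modulo the principal ideal generated by the weight-zero element X₀^(q−p) − X₁X₄ + X₂X₃ (the equation
of an affine hypersurface), every polynomial homogeneous of weight (q−p, 0) is congruent to a
combination a₁₃X₁X₃ + a₁₄X₁X₄ + a₂₃X₂X₃ + a₂₄X₂X₄ whose four coefficients are homogeneous of weight
zero. Equivalently, in the coordinate ring of the hypersurface the weight-(q−p, 0) piece is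
generated over the weight-zero subring (the invariant ring of the diagonal action with these
weights) by the span of the four products XₐX_b with a ∈ {1,2} and b ∈ {3,4}. (The published
statement is over the complex numbers; this row takes any field.) -/
theorem result (k : Type u) [Field k] (p q m : ℕ) (hp : 0 < p) (hpq : p < q) (hcop : Nat.Coprime p q) (hm : 0 < m) (f : MvPolynomial (Fin 5) k)
    (hf : f ∈ MvPolynomial.weightedHomogeneousSubmodule k (W4c2invhilbsl2.wt5 p q m) ((q : ℤ) - (p : ℤ), (0 : ZMod m))) :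
    ∃ a₁₃ a₁₄ a₂₃ a₂₄ : MvPolynomial (Fin 5) k,
      a₁₃ ∈ MvPolynomial.weightedHomogeneousSubmodule k (W4c2invhilbsl2.wt5 p q m) 0 ∧ a₁₄ ∈ MvPolynomial.weightedHomogeneousSubmodule k (W4c2invhilbsl2.wt5 p q m) 0 ∧ a₂₃ ∈ MvPolynomial.weightedHomogeneousSubmodule k (W4c2invhilbsl2.wt5 p q m) 0 ∧ a₂₄ ∈ MvPolynomial.weightedHomogeneousSubmodule k (W4c2invhilbsl2.wt5 p q m) 0 ∧
      f - (a₁₃ * (MvPolynomial.X (1 : Fin 5) * MvPolynomial.X 3) + a₁₄ * (MvPolynomial.X (1 : Fin 5) * MvPolynomial.X 4) +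
          a₂₃ * (MvPolynomial.X (2 : Fin 5) * MvPolynomial.X 3) + a₂₄ * (MvPolynomial.X (2 : Fin 5) * MvPolynomial.X 4)) ∈
        Ideal.span {MvPolynomial.X (0 : Fin 5) ^ (q - p) - MvPolynomial.X 1 * MvPolynomial.X 4 + MvPolynomial.X 2 * MvPolynomial.X 3} := by
  have hqp : (p : ℤ) < q := by exact_mod_cast hpq
  have hp0 : (0 : ℤ) < p := by exact_mod_cast hp
  set P : Ideal (MvPolynomial (Fin 5) k) := Ideal.span {MvPolynomial.X (0 : Fin 5) ^ (q - p) - MvPolynomial.X 1 * MvPolynomial.X 4 + MvPolynomial.X 2 * MvPolynomial.X 3} with hP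
  have key : f ∈ genSub (wt5 p q m) P ![X (1 : Fin 5) * X 3, X (1 : Fin 5) * X 4, X (2 : Fin 5) * X 3, X (2 : Fin 5) * X 4] := by
    refine wh_mem_of_monomials _ ?_ hf
    intro d hd
    rw [weight_wt5, Prod.ext_iff] at hd
    obtain ⟨h1, h2⟩ := hd
    simp only at h1 h2
    rw [monomial_eq5]
    -- generic step: coefficient × X_i X_j
    have step : ∀ (i : Fin 4) (a b c e : ℕ),
        (a : ℤ) + b + 1 = (d 1 : ℤ) + d 2 → (c : ℤ) + e + 1 = (d 3 : ℤ) + d 4 →
        (X 0 ^ d 0 * X 1 ^ d 1 * X 2 ^ d 2 * X 3 ^ d 3 * X 4 ^ d 4 : MvPolynomial (Fin 5) k) =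
          (X 0 ^ d 0 * X 1 ^ a * X 2 ^ b * X 3 ^ c * X 4 ^ e) *
            (![X (1 : Fin 5) * X 3, X (1 : Fin 5) * X 4, X (2 : Fin 5) * X 3, X (2 : Fin 5) * X 4] i) →
        (X 0 ^ d 0 * X 1 ^ d 1 * X 2 ^ d 2 * X 3 ^ d 3 * X 4 ^ d 4 : MvPolynomial (Fin 5) k) ∈
          genSub (wt5 p q m) P ![X (1 : Fin 5) * X 3, X (1 : Fin 5) * X 4, X (2 : Fin 5) * X 3, X (2 : Fin 5) * X 4] := by
      intro i a b c e hB hC heq
      rw [heq]
      apply mem_genSub_of_mul
      rw [mem_weightedHomogeneousSubmodule]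
      convert wh_mono5 (k := k) p q m (d 0) a b c e using 1
      ext
      · simp only [Prod.fst_zero]
        have : (a : ℤ) + b = (d 1 : ℤ) + d 2 - 1 := by linarith
        have : (c : ℤ) + e = (d 3 : ℤ) + d 4 - 1 := by linarith
        nlinarith
      · simp only [Prod.snd_zero]
        have hB' : (a : ZMod m) + b + 1 = (d 1 : ZMod m) + d 2 := by exact_mod_cast congrArg (Int.cast : ℤ → ZMod m) hB
        have hC' : (c : ZMod m) + e + 1 = (d 3 : ZMod m) + d 4 := by exact_mod_cast congrArg (Int.cast : ℤ → ZMod m) hC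
        linear_combination (-1 : ZMod m) * h2 - hC' + hB'
    by_cases hC : d 3 = 0 ∧ d 4 = 0
    · obtain ⟨hd3, hd4⟩ := hC
      rw [hd3, hd4] at h1 h2
      simp only [Nat.cast_zero, add_zero, mul_zero, zero_sub] at h1 h2
      have h0 : d 0 = p * (d 1 + d 2) + (q - p) := by
        zify [hpq.le]; linarith
      have hg1 : (![X (1 : Fin 5) * X 3, X (1 : Fin 5) * X 4, X (2 : Fin 5) * X 3, X (2 : Fin 5) * X 4] : Fin 4 → MvPolynomial (Fin 5) k) 1 = X 1 * X 4 := rfl
      have hg2 : (![X (1 : Fin 5) * X 3, X (1 : Fin 5) * X 4, X (2 : Fin 5) * X 3, X (2 : Fin 5) * X 4] : Fin 4 → MvPolynomial (Fin 5) k) 2 = X 2 * X 3 := rfl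
      have heq : (X 0 ^ d 0 * X 1 ^ d 1 * X 2 ^ d 2 * X 3 ^ d 3 * X 4 ^ d 4 : MvPolynomial (Fin 5) k) =
          (X 0 ^ (p * (d 1 + d 2)) * X 1 ^ d 1 * X 2 ^ d 2) * (X (0 : Fin 5) ^ (q - p) - X 1 * X 4 + X 2 * X 3)
          + ((X 0 ^ (p * (d 1 + d 2)) * X 1 ^ d 1 * X 2 ^ d 2 * X 3 ^ 0 * X 4 ^ 0) * (![X (1 : Fin 5) * X 3, X (1 : Fin 5) * X 4, X (2 : Fin 5) * X 3, X (2 : Fin 5) * X 4] 1)
          + (-(X 0 ^ (p * (d 1 + d 2)) * X 1 ^ d 1 * X 2 ^ d 2 * X 3 ^ 0 * X 4 ^ 0)) * (![X (1 : Fin 5) * X 3, X (1 : Fin 5) * X 4, X (2 : Fin 5) * X 3, X (2 : Fin 5) * X 4] 2)) := by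
        rw [hg1, hg2, hd3, hd4, h0, pow_add]; ring
      rw [heq]
      have hwz : ((((p * (d 1 + d 2) : ℕ) : ℤ) - (p : ℤ) * (((d 1 : ℕ) : ℤ) + (d 2 : ℤ)) + (q : ℤ) * (((0 : ℕ) : ℤ) + ((0 : ℕ) : ℤ))),
          ((((0 : ℕ) : ZMod m) + ((0 : ℕ) : ZMod m)) - (((d 1 : ℕ) : ZMod m) + (d 2 : ZMod m)))) = (0 : ℤ × ZMod m) := by
        ext
        · simp only [Prod.fst_zero]; push_cast; ring
        · simp only [Prod.snd_zero]; push_cast; linear_combination h2
      refine Submodule.add_mem _ ?_ (Submodule.add_mem _ ?_ ?_)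
      · apply mem_genSub_of_mem
        exact Ideal.mul_mem_left _ _ (Ideal.subset_span rfl)
      · apply mem_genSub_of_mul
        rw [mem_weightedHomogeneousSubmodule, ← hwz]
        exact wh_mono5 (k := k) p q m _ _ _ _ _
      · apply mem_genSub_of_mul
        apply Submodule.neg_mem
        rw [mem_weightedHomogeneousSubmodule, ← hwz]
        exact wh_mono5 (k := k) p q m _ _ _ _ _
    · have hCpos : (1 : ℤ) ≤ (d 3 : ℤ) + d 4 := by
        have : 1 ≤ d 3 + d 4 := by
          by_contra hlt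
          apply hC
          omega
        exact_mod_cast this
      have hBpos : ¬ (d 1 = 0 ∧ d 2 = 0) := by
        rintro ⟨hd1, hd2⟩
        rw [hd1, hd2] at h1
        simp only [Nat.cast_zero, add_zero, mul_zero, sub_zero] at h1
        have h3 : (0 : ℤ) ≤ d 0 := Int.natCast_nonneg _
        nlinarith
      by_cases hd1 : d 1 = 0
      · have h2' : 1 ≤ d 2 := by
          by_contra hlt
          apply hBpos
          omega
        by_cases hd3 : d 3 = 0
        · have h4' : 1 ≤ d 4 := by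
            by_contra hlt
            apply hC
            omega
          refine step 3 (d 1) (d 2 - 1) (d 3) (d 4 - 1) (by push_cast [Nat.cast_sub h2']; ring) (by push_cast [Nat.cast_sub h4']; ring) ?_
          show _ = _ * (X 2 * X 4)
          rw [pow_pred_mul 2 h2', pow_pred_mul 4 h4']; ring
        · have h3' : 1 ≤ d 3 := Nat.pos_of_ne_zero hd3
          refine step 2 (d 1) (d 2 - 1) (d 3 - 1) (d 4) (by push_cast [Nat.cast_sub h2']; ring) (by push_cast [Nat.cast_sub h3']; ring) ?_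
          show _ = _ * (X 2 * X 3)
          rw [pow_pred_mul 2 h2', pow_pred_mul 3 h3']; ring
      · have h1' : 1 ≤ d 1 := Nat.pos_of_ne_zero hd1
        by_cases hd3 : d 3 = 0
        · have h4' : 1 ≤ d 4 := by
            by_contra hlt
            apply hC
            omega
          refine step 1 (d 1 - 1) (d 2) (d 3) (d 4 - 1) (by push_cast [Nat.cast_sub h1']; ring) (by push_cast [Nat.cast_sub h4']; ring) ?_
          show _ = _ * (X 1 * X 4)
          rw [pow_pred_mul 1 h1', pow_pred_mul 4 h4']; ring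
        · have h3' : 1 ≤ d 3 := Nat.pos_of_ne_zero hd3
          refine step 0 (d 1 - 1) (d 2) (d 3 - 1) (d 4) (by push_cast [Nat.cast_sub h1']; ring) (by push_cast [Nat.cast_sub h3']; ring) ?_
          show _ = _ * (X 1 * X 3)
          rw [pow_pred_mul 1 h1', pow_pred_mul 3 h3']; ring
  obtain ⟨a, ha, h⟩ := key
  refine ⟨a 0, a 1, a 2, a 3, ha 0, ha 1, ha 2, ha 3, ?_⟩
  simpa [Fin.sum_univ_four] using h

end Groth.Agent.S15726
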