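import Groth.Statements.S15727
import Groth.Agent.Lib.Helper23.InvHilbLib

set_option autoImplicit false
universe u
open W4c2invhilbsl2

namespace Groth.Agent.S15727

open Groth.Agent.Helper23.InvHilb MvPolynomial

/-- Let k be an algebraically closed field, 0 < p < q coprime integers and m ≥ 1, and grade k[X₀,…,X₄]
by ℤ × ℤ/m, giving X₀ weight (1,0), X₁ and X₂ weight (−p,−1), and X₃ and X₄ weight (q,1). For s ∈ k
let I_s be the ideal (X₀^(q−p) − X₁X₄, X₂, X₃, s − X₀^(mp)X₁^m), whose generators are homogeneous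
(the last one of weight zero). Then for every weight ν the image in k[X₀,…,X₄]/I_s of the
homogeneous polynomials of weight ν is a k-vector space of dimension at most 1. (The published
statement asserts that this dimension equals 1 for every ν and every s, namely that the quotient has
the Hilbert function of the regular representation of the grading group; this row states the upper
bound, the half obtained from the monomial analysis of the weight pieces, while the lower bound
there is drawn from the moduli interpretation of these ideals. The published statement is over the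
complex numbers; this row takes any algebraically closed field, which is what the reduction to s =
0, 1 by rescaling the variables uses.) -/
theorem result (k : Type u) [Field k] [IsAlgClosed k] (p q m : ℕ) (hp : 0 < p) (hpq : p < q) (hcop : Nat.Coprime p q) (hm : 0 < m) (s : k) (ν : ℤ × ZMod m) :
    Module.rank k (W4c2invhilbsl2.piece k (W4c2invhilbsl2.wt5 p q m) (W4c2invhilbsl2.idealI k p q m s) ν) ≤ 1 := by
  have hqp : (p : ℤ) < q := by exact_mod_cast hpq
  have hp0 : (0 : ℤ) < p := by exact_mod_cast hp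
  set I := W4c2invhilbsl2.idealI k p q m s with hI
  have hx2 : Ideal.Quotient.mk I (X 2) = 0 :=
    Ideal.Quotient.eq_zero_iff_mem.mpr (Ideal.subset_span (by simp))
  have hx3 : Ideal.Quotient.mk I (X 3) = 0 :=
    Ideal.Quotient.eq_zero_iff_mem.mpr (Ideal.subset_span (by simp))
  have hrel : Ideal.Quotient.mk I (X 0) ^ (q - p) = Ideal.Quotient.mk I (X 1) * Ideal.Quotient.mk I (X 4) := by
    rw [← map_pow, ← map_mul, Ideal.Quotient.eq]
    exact Ideal.subset_span (by simp)
  have hrel2 : Ideal.Quotient.mk I (X 0) ^ (m * p) * Ideal.Quotient.mk I (X 1) ^ m = Ideal.Quotient.mk I (C s) := by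
    rw [← map_pow, ← map_pow, ← map_mul, eq_comm, Ideal.Quotient.eq]
    exact Ideal.subset_span (by simp)
  -- monomials in the quotient
  have hmono : ∀ d : Fin 5 →₀ ℕ, Ideal.Quotient.mk I (monomial d 1) =
      Ideal.Quotient.mk I (X 0) ^ d 0 * Ideal.Quotient.mk I (X 1) ^ d 1 * Ideal.Quotient.mk I (X 2) ^ d 2 *
        Ideal.Quotient.mk I (X 3) ^ d 3 * Ideal.Quotient.mk I (X 4) ^ d 4 := by
    intro d
    rw [monomial_eq5]; simp only [map_mul, map_pow]
  by_cases hT : ∃ d : Fin 5 →₀ ℕ, Finsupp.weight (wt5 p q m) d = ν ∧ d 2 = 0 ∧ d 3 = 0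
  · obtain ⟨dm, ⟨hdm, hdm2, hdm3⟩, hmin⟩ := exists_min_c
      {d : Fin 5 →₀ ℕ | Finsupp.weight (wt5 p q m) d = ν ∧ d 2 = 0 ∧ d 3 = 0}
      (fun d => (d 1 : ℤ) - d 4) (-|ν.1|)
      (by
        rintro d ⟨hd, hd2, hd3⟩
        rw [weight_wt5, hd2, hd3] at hd
        apply c_lower_bound p q hp hpq (d 0) (d 1) (d 4) ν.1
        rw [← hd]; simp)
      hT
    apply piece_rank_le_one _ _ _ (Ideal.Quotient.mk I (monomial dm 1))
    intro d hd
    by_cases hd23 : d 2 = 0 ∧ d 3 = 0
    · obtain ⟨hd2, hd3⟩ := hd23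
      have hle : (dm 1 : ℤ) - dm 4 ≤ (d 1 : ℤ) - d 4 := hmin d ⟨hd, hd2, hd3⟩
      have hd' := hd
      have hdm' := hdm
      rw [weight_wt5, hd2, hd3] at hd'
      rw [weight_wt5, hdm2, hdm3] at hdm'
      have e1 : (d 0 : ℤ) - (p : ℤ) * (d 1) + (q : ℤ) * (d 4) = ν.1 := by
        rw [← hd']; simp
      have e2 : (dm 0 : ℤ) - (p : ℤ) * (dm 1) + (q : ℤ) * (dm 4) = ν.1 := by
        rw [← hdm']; simp
      have f1 : ((d 4 : ZMod m)) - (d 1 : ZMod m) = ν.2 := by
        rw [← hd']; simp
      have f2 : ((dm 4 : ZMod m)) - (dm 1 : ZMod m) = ν.2 := by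
        rw [← hdm']; simp
      have hdvd : (m : ℤ) ∣ ((d 1 : ℤ) - d 4) - ((dm 1 : ℤ) - dm 4) := by
        rw [← ZMod.intCast_zmod_eq_zero_iff_dvd]
        push_cast
        linear_combination f2 - f1
      obtain ⟨j, hj⟩ := hdvd
      have hj0 : 0 ≤ j := by
        have hm' : (0 : ℤ) < m := by exact_mod_cast hm
        by_contra hneg
        push Not at hneg
        have : (m : ℤ) * j < 0 := mul_neg_of_pos_of_neg hm' hneg
        linarith
      obtain ⟨j', rfl⟩ : ∃ j' : ℕ, j = (j' : ℤ) := ⟨j.toNat, by omega⟩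
      refine ⟨s ^ j', ?_⟩
      rw [smul_eq_mk_C_mul, hmono, hmono, hd2, hd3, hdm2, hdm3, map_pow, map_pow]
      simp only [pow_zero, mul_one]
      exact mono_eq_smul _ _ _ p q hpq hrel m _ hrel2 (d 0) (d 1) (d 4) (dm 0) (dm 1) (dm 4)
        (by rw [e1, e2]) j' hj
    · refine ⟨0, ?_⟩
      rw [zero_smul, hmono]
      rcases not_and_or.mp hd23 with h | h
      · rw [hx2, zero_pow h]; simp
      · rw [hx3, zero_pow h]; simp
  · apply piece_rank_le_one _ _ _ 0
    intro d hd
    refine ⟨0, ?_⟩
    rw [zero_smul, hmono]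
    have hd23 : ¬ (d 2 = 0 ∧ d 3 = 0) := fun h => hT ⟨d, hd, h.1, h.2⟩
    rcases not_and_or.mp hd23 with h | h
    · rw [hx2, zero_pow h]; simp
    · rw [hx3, zero_pow h]; simp

end Groth.Agent.S15727
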