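import Groth.Statements.S15728
import Groth.Agent.Lib.Helper23.InvHilbLib

set_option autoImplicit false
universe u
open W4c2invhilbsl2

namespace Groth.Agent.S15728

open Groth.Agent.Helper23.InvHilb MvPolynomial

/-- Let k be an algebraically closed field, 0 < p < q coprime integers and m ≥ 1; put g = gcd(m, q−p)
and a = m/g, and grade k[X₀,…,X₄] by ℤ × ℤ/m, giving X₀ weight (1,0), X₁ and X₂ weight (−p,−1), and
X₃ and X₄ weight (q,1). For s ∈ k let J_s be the ideal (X₀^g, X₂, X₄, s − X₁^(aq)X₃^(ap)), whose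
generators are homogeneous (the last one of weight zero). Then for every weight ν the image in
k[X₀,…,X₄]/J_s of the homogeneous polynomials of weight ν is a k-vector space of dimension at most
1. (The published statement asserts that this dimension equals 1 for every ν and every s; this row
states the upper bound, the half obtained from the monomial analysis of the weight pieces, while the
lower bound there is drawn from the moduli interpretation of these ideals. The published statement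
is over the complex numbers; this row takes any algebraically closed field, which is what the
reduction to s = 0, 1 by rescaling the variables uses.) -/
theorem result (k : Type u) [Field k] [IsAlgClosed k] (p q m : ℕ) (hp : 0 < p) (hpq : p < q) (hcop : Nat.Coprime p q) (hm : 0 < m) (s : k) (ν : ℤ × ZMod m) :
    Module.rank k (W4c2invhilbsl2.piece k (W4c2invhilbsl2.wt5 p q m) (W4c2invhilbsl2.idealJ k p q m s) ν) ≤ 1 := by
  have hqp : (p : ℤ) < q := by exact_mod_cast hpq
  have hp0 : (0 : ℤ) < p := by exact_mod_cast hp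
  set I := W4c2invhilbsl2.idealJ k p q m s with hI
  set g := Nat.gcd m (q - p) with hg
  have hx2 : Ideal.Quotient.mk I (X 2) = 0 :=
    Ideal.Quotient.eq_zero_iff_mem.mpr (Ideal.subset_span (by simp))
  have hx4 : Ideal.Quotient.mk I (X 4) = 0 :=
    Ideal.Quotient.eq_zero_iff_mem.mpr (Ideal.subset_span (by simp))
  have hx0 : Ideal.Quotient.mk I (X 0) ^ g = 0 := by
    rw [← map_pow]
    exact Ideal.Quotient.eq_zero_iff_mem.mpr (Ideal.subset_span (by simp [hg]))
  have hrel2 : Ideal.Quotient.mk I (X 1) ^ (m / g * q) * Ideal.Quotient.mk I (X 3) ^ (m / g * p) = Ideal.Quotient.mk I (C s) := by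
    rw [← map_pow, ← map_pow, ← map_mul, eq_comm, Ideal.Quotient.eq]
    exact Ideal.subset_span (by simp [hg])
  -- monomials in the quotient
  have hmono : ∀ d : Fin 5 →₀ ℕ, Ideal.Quotient.mk I (monomial d 1) =
      Ideal.Quotient.mk I (X 0) ^ d 0 * Ideal.Quotient.mk I (X 1) ^ d 1 * Ideal.Quotient.mk I (X 2) ^ d 2 *
        Ideal.Quotient.mk I (X 3) ^ d 3 * Ideal.Quotient.mk I (X 4) ^ d 4 := by
    intro d
    rw [monomial_eq5]; simp only [map_mul, map_pow]
  have hzero : ∀ d : Fin 5 →₀ ℕ, ¬ (d 2 = 0 ∧ d 4 = 0 ∧ d 0 < g) → Ideal.Quotient.mk I (monomial d 1) = 0 := by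
    intro d hd
    rw [hmono]
    by_cases h2 : d 2 = 0
    · by_cases h4 : d 4 = 0
      · have h0 : g ≤ d 0 := by
          by_contra hlt
          exact hd ⟨h2, h4, by omega⟩
        obtain ⟨r, hr⟩ := Nat.exists_eq_add_of_le h0
        rw [hr, pow_add, hx0]; simp
      · rw [hx4, zero_pow h4]; simp
    · rw [hx2, zero_pow h2]; simp
  by_cases hT : ∃ d : Fin 5 →₀ ℕ, Finsupp.weight (wt5 p q m) d = ν ∧ d 2 = 0 ∧ d 4 = 0 ∧ d 0 < g
  · obtain ⟨dm, ⟨hdm, hdm2, hdm4, hdm0⟩, hmin⟩ := exists_min_c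
      {d : Fin 5 →₀ ℕ | Finsupp.weight (wt5 p q m) d = ν ∧ d 2 = 0 ∧ d 4 = 0 ∧ d 0 < g}
      (fun d => (d 1 : ℤ) - d 3) (-|ν.1|)
      (by
        rintro d ⟨hd, hd2, hd4, -⟩
        rw [weight_wt5, hd2, hd4] at hd
        apply c_lower_bound p q hp hpq (d 0) (d 1) (d 3) ν.1
        rw [← hd]; simp)
      hT
    apply piece_rank_le_one _ _ _ (Ideal.Quotient.mk I (monomial dm 1))
    intro d hd
    by_cases hd24 : d 2 = 0 ∧ d 4 = 0 ∧ d 0 < g
    · obtain ⟨hd2, hd4, hd0⟩ := hd24
      have hle : (dm 1 : ℤ) - dm 3 ≤ (d 1 : ℤ) - d 3 := hmin d ⟨hd, hd2, hd4, hd0⟩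
      have hd' := hd
      have hdm' := hdm
      rw [weight_wt5, hd2, hd4] at hd'
      rw [weight_wt5, hdm2, hdm4] at hdm'
      have e1 : (d 0 : ℤ) - (p : ℤ) * (d 1) + (q : ℤ) * (d 3) = ν.1 := by
        rw [← hd']; simp
      have e2 : (dm 0 : ℤ) - (p : ℤ) * (dm 1) + (q : ℤ) * (dm 3) = ν.1 := by
        rw [← hdm']; simp
      have f1 : ((d 3 : ZMod m)) - (d 1 : ZMod m) = ν.2 := by
        rw [← hd']; simp
      have f2 : ((dm 3 : ZMod m)) - (dm 1 : ZMod m) = ν.2 := by
        rw [← hdm']; simp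
      have hdvd : (m : ℤ) ∣ ((dm 1 : ℤ) - dm 3) - ((d 1 : ℤ) - d 3) := by
        rw [← ZMod.intCast_zmod_eq_zero_iff_dvd]
        push_cast
        linear_combination f1 - f2
      obtain ⟨v, h0, h1, h3⟩ := monoJ_arith p q m hpq hcop hm (dm 0) (dm 1) (dm 3) (d 0) (d 1) (d 3)
        (by rw [e1, e2]) hdvd hdm0 hd0 hle
      rw [← hg] at h1 h3
      refine ⟨s ^ v, ?_⟩
      rw [smul_eq_mk_C_mul, hmono, hmono, hd2, hd4, hdm2, hdm4, map_pow, map_pow, ← hrel2, h0, h1, h3]
      simp only [pow_zero, mul_one]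
      rw [pow_add, pow_add, mul_pow, ← pow_mul, ← pow_mul]; ring
    · refine ⟨0, ?_⟩
      rw [zero_smul]
      exact hzero d hd24
  · apply piece_rank_le_one _ _ _ 0
    intro d hd
    refine ⟨0, ?_⟩
    rw [zero_smul]
    exact hzero d (fun h => hT ⟨d, hd, h⟩)

end Groth.Agent.S15728
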