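import Groth.Statements.S15729
import Groth.Agent.Lib.Helper23.InvHilbLib
import Groth.Agent.Lib.Helper23.InvHilbHJ

set_option autoImplicit false
universe u
open W4c2invhilbsl2

namespace Groth.Agent.S15729

open Groth.Agent.Helper23.InvHilb Groth.Agent.Helper23.InvHilbHJ MvPolynomial

/-- Let 0 < p < q be coprime integers and m ≥ 1 such that q − p does not divide m; put g = gcd(m, q−p),
b = (q−p)/g, α = ⌊mp/(q−p)⌋, β = the remainder of mp modulo q−p and t = (q−p−β)/g, so that 1 ≤ t <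
b, and let b/t = c₁ − 1/(c₂ − 1/(⋯ − 1/c_r)) be the negative-regular (Hirzebruch–Jung) continued
fraction expansion with every cᵢ ≥ 2; set P₀ = 0, P₁ = 1, Q₀ = −1, Q₁ = 0, Pᵢ = cᵢ₋₁Pᵢ₋₁ − Pᵢ₋₂, Qᵢ
= cᵢ₋₁Qᵢ₋₁ − Qᵢ₋₂ for 2 ≤ i ≤ r+1, and eᵢ = (α+1+m)Pᵢ − Qᵢ, lᵢ = (α+1)Pᵢ − Qᵢ, nᵢ = q·lᵢ − p·eᵢ,
which are non-negative integers for 0 ≤ i ≤ r+1. Grade the polynomial ring k[X₀,X₁,X₂] over a field
k by ℤ × ℤ/m with weights (1,0), (−p,−1), (q,1) (it stands for k[X₀,X₁,Xⱼ], j = 3 or 4, inside the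
five-variable ring). Then for every 1 ≤ i ≤ r, every polynomial homogeneous of weight (nᵢ, 0) can be
written a·X₀^(nᵢ) + b·X₁^(eᵢ)X₂^(lᵢ) with a and b homogeneous of weight zero; that is, the
weight-(nᵢ,0) piece is generated over the weight-zero subring by X₀^(nᵢ) and X₁^(eᵢ)X₂^(lᵢ). -/
theorem result (k : Type u) [Field k] (p q m : ℕ) (hp : 0 < p) (hpq : p < q) (hcop : Nat.Coprime p q) (hm : 0 < m) (hnt : ¬ (q - p ∣ m)) (c : List ℤ) (hc : W4c2invhilbsl2.IsHJDigits p q m c) (i : ℕ) (hi : 1 ≤ i) (hir : i ≤ c.length)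
    (f : MvPolynomial (Fin 3) k) (hf : f ∈ MvPolynomial.weightedHomogeneousSubmodule k (W4c2invhilbsl2.wt3 p q m) (W4c2invhilbsl2.nN p q m c i, (0 : ZMod m))) :
    ∃ a b : MvPolynomial (Fin 3) k, a ∈ MvPolynomial.weightedHomogeneousSubmodule k (W4c2invhilbsl2.wt3 p q m) 0 ∧ b ∈ MvPolynomial.weightedHomogeneousSubmodule k (W4c2invhilbsl2.wt3 p q m) 0 ∧
      f = a * MvPolynomial.X (0 : Fin 3) ^ (W4c2invhilbsl2.nN p q m c i).toNat +
        b * (MvPolynomial.X (1 : Fin 3) ^ (W4c2invhilbsl2.eE p q m c i).toNat * MvPolynomial.X (2 : Fin 3) ^ (W4c2invhilbsl2.lL p q m c i).toNat) := by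
  have hn0 := nN_nonneg p q m hp hpq hcop hm c hc i (by omega)
  have he0 := eE_nonneg p q m hp hpq hcop hm c hc i (by omega)
  have hl0 := lL_nonneg p q m hp hpq hcop hm c hc i (by omega)
  have hN : (((nN p q m c i).toNat : ℕ) : ℤ) = nN p q m c i := Int.toNat_of_nonneg hn0
  have hE : (((eE p q m c i).toNat : ℕ) : ℤ) = eE p q m c i := Int.toNat_of_nonneg he0
  have hL : (((lL p q m c i).toNat : ℕ) : ℤ) = lL p q m c i := Int.toNat_of_nonneg hl0
  set N := (nN p q m c i).toNat with hNdef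
  set E := (eE p q m c i).toNat with hEdef
  set L := (lL p q m c i).toNat with hLdef
  have hnEL : nN p q m c i = -(p : ℤ) * eE p q m c i + (q : ℤ) * lL p q m c i := rfl
  have hEL : ((E : ZMod m)) - (L : ZMod m) = 0 := by
    have h1 : (((E : ℕ) : ℤ) : ZMod m) - (((L : ℕ) : ℤ) : ZMod m) = ((eE p q m c i - lL p q m c i : ℤ) : ZMod m) := by
      rw [hE, hL]; push_cast; ring
    rw [eE_eq_lL] at h1
    simpa using h1
  have key : f ∈ genSub (wt3 p q m) (⊥ : Ideal (MvPolynomial (Fin 3) k))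
      ![X (0 : Fin 3) ^ N, X (1 : Fin 3) ^ E * X (2 : Fin 3) ^ L] := by
    refine wh_mem_of_monomials _ ?_ hf
    intro d hd
    rw [weight_wt3, Prod.ext_iff] at hd
    obtain ⟨h1, h2⟩ := hd
    simp only at h1 h2
    rw [monomial_eq3]
    by_cases hd0 : N ≤ d 0
    · have heq : (X 0 ^ d 0 * X 1 ^ d 1 * X 2 ^ d 2 : MvPolynomial (Fin 3) k) =
          (X 0 ^ (d 0 - N) * X 1 ^ d 1 * X 2 ^ d 2) * (![X (0 : Fin 3) ^ N, X (1 : Fin 3) ^ E * X (2 : Fin 3) ^ L] 0) := by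
        simp only [Matrix.cons_val_zero]
        have : (X 0 : MvPolynomial (Fin 3) k) ^ d 0 = X 0 ^ (d 0 - N) * X 0 ^ N := by
          rw [← pow_add, Nat.sub_add_cancel hd0]
        rw [this]; ring
      rw [heq]
      apply mem_genSub_of_mul
      rw [mem_weightedHomogeneousSubmodule]
      convert wh_mono3 (k := k) p q m (d 0 - N) (d 1) (d 2) using 1
      ext
      · simp only [Prod.fst_zero]
        push_cast [Nat.cast_sub hd0]
        rw [hN]; linarith
      · simp only [Prod.snd_zero]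
        exact h2.symm
    · have hlt : (d 0 : ℤ) < nN p q m c i := by
        rw [← hN]; exact_mod_cast (not_le.mp hd0)
      have hdvd : (m : ℤ) ∣ (d 1 : ℤ) - d 2 := by
        rw [← ZMod.intCast_zmod_eq_zero_iff_dvd]
        push_cast
        linear_combination (-1 : ZMod m) * h2
      obtain ⟨k1, k2⟩ := key_exponents p q m hp hpq hcop hm c hc i hi hir (d 0) (d 1) (d 2) h1 hdvd hlt
      have k1' : E ≤ d 1 := by rw [← hE] at k1; exact_mod_cast k1
      have k2' : L ≤ d 2 := by rw [← hL] at k2; exact_mod_cast k2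
      have heq : (X 0 ^ d 0 * X 1 ^ d 1 * X 2 ^ d 2 : MvPolynomial (Fin 3) k) =
          (X 0 ^ d 0 * X 1 ^ (d 1 - E) * X 2 ^ (d 2 - L)) * (![X (0 : Fin 3) ^ N, X (1 : Fin 3) ^ E * X (2 : Fin 3) ^ L] 1) := by
        simp only [Matrix.cons_val_one, Matrix.cons_val_zero]
        have e1 : (X 1 : MvPolynomial (Fin 3) k) ^ d 1 = X 1 ^ (d 1 - E) * X 1 ^ E := by
          rw [← pow_add, Nat.sub_add_cancel k1']
        have e2 : (X 2 : MvPolynomial (Fin 3) k) ^ d 2 = X 2 ^ (d 2 - L) * X 2 ^ L := by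
          rw [← pow_add, Nat.sub_add_cancel k2']
        rw [e1, e2]; ring
      rw [heq]
      apply mem_genSub_of_mul
      rw [mem_weightedHomogeneousSubmodule]
      convert wh_mono3 (k := k) p q m (d 0) (d 1 - E) (d 2 - L) using 1
      ext
      · simp only [Prod.fst_zero]
        push_cast [Nat.cast_sub k1', Nat.cast_sub k2']
        rw [hE, hL]; linarith
      · simp only [Prod.snd_zero]
        push_cast [Nat.cast_sub k1', Nat.cast_sub k2']
        linear_combination (-1 : ZMod m) * h2 - hEL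
  obtain ⟨a, ha, h⟩ := key
  refine ⟨a 0, a 1, ha 0, ha 1, ?_⟩
  rw [Ideal.mem_bot, sub_eq_zero] at h
  rw [h, Fin.sum_univ_two]
  rfl

end Groth.Agent.S15729
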