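import Groth.Statements.S15732
import Groth.Agent.Lib.Helper23.InvHilbLib
import Groth.Agent.Lib.Helper23.InvHilbHJ

set_option autoImplicit false
universe u
open W4c2invhilbsl2

namespace Groth.Agent.S15732

open Groth.Agent.Helper23.InvHilb Groth.Agent.Helper23.InvHilbHJ MvPolynomial

theorem exists_split (E a b : ℕ) (h : E ≤ a + b) : ∃ e, e ≤ E ∧ e ≤ b ∧ E - e ≤ a := by
  by_cases hb : b ≤ E
  · exact ⟨b, hb, le_refl _, by omega⟩
  · exact ⟨E, le_refl _, by omega, by omega⟩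

theorem pow_split {k : Type*} [CommRing k] (i : Fin 5) {n r : ℕ} (h : r ≤ n) :
    (X i : MvPolynomial (Fin 5) k) ^ n = X i ^ (n - r) * X i ^ r := by
  rw [← pow_add, Nat.sub_add_cancel h]

/-- Let 0 < p < q be coprime integers and m ≥ 1 such that q − p does not divide m; put g = gcd(m, q−p),
b = (q−p)/g, α = ⌊mp/(q−p)⌋, β = the remainder of mp modulo q−p and t = (q−p−β)/g, so that 1 ≤ t <
b, and let b/t = c₁ − 1/(c₂ − 1/(⋯ − 1/c_r)) be the negative-regular (Hirzebruch–Jung) continued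
fraction expansion with every cᵢ ≥ 2; set P₀ = 0, P₁ = 1, Q₀ = −1, Q₁ = 0, Pᵢ = cᵢ₋₁Pᵢ₋₁ − Pᵢ₋₂, Qᵢ
= cᵢ₋₁Qᵢ₋₁ − Qᵢ₋₂ for 2 ≤ i ≤ r+1, and eᵢ = (α+1+m)Pᵢ − Qᵢ, lᵢ = (α+1)Pᵢ − Qᵢ, nᵢ = q·lᵢ − p·eᵢ,
which are non-negative integers for 0 ≤ i ≤ r+1. Grade the polynomial ring k[X₀,…,X₄] over a field k
by ℤ × ℤ/m, giving X₀ weight (1,0), X₁ and X₂ weight (−p,−1), and X₃ and X₄ weight (q,1). Then for
every 1 ≤ i ≤ r, modulo the principal ideal generated by the weight-zero element X₀^(q−p) − X₁X₄ +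
X₂X₃, every polynomial homogeneous of weight (nᵢ, 0) is congruent to a combination a₀·X₀^(nᵢ) + Σ
a_{e,l}·X₁^(eᵢ−e)X₂^e X₃^(lᵢ−l)X₄^l (sum over 0 ≤ e ≤ eᵢ, 0 ≤ l ≤ lᵢ) whose coefficients a₀, a_{e,l}
are homogeneous of weight zero. Equivalently, in the coordinate ring of the hypersurface the
weight-(nᵢ,0) piece is generated over the weight-zero subring (the invariant ring) by X₀^(nᵢ)
together with the products of a degree-eᵢ monomial in X₁, X₂ and a degree-lᵢ monomial in X₃, X₄.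
(The published statement is over the complex numbers; this row takes any field.) -/
theorem result (k : Type u) [Field k] (p q m : ℕ) (hp : 0 < p) (hpq : p < q) (hcop : Nat.Coprime p q) (hm : 0 < m) (hnt : ¬ (q - p ∣ m)) (c : List ℤ) (hc : W4c2invhilbsl2.IsHJDigits p q m c) (i : ℕ) (hi : 1 ≤ i) (hir : i ≤ c.length)
    (f : MvPolynomial (Fin 5) k) (hf : f ∈ MvPolynomial.weightedHomogeneousSubmodule k (W4c2invhilbsl2.wt5 p q m) (W4c2invhilbsl2.nN p q m c i, (0 : ZMod m))) :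
    ∃ (a₀ : MvPolynomial (Fin 5) k) (a : ℕ → ℕ → MvPolynomial (Fin 5) k),
      a₀ ∈ MvPolynomial.weightedHomogeneousSubmodule k (W4c2invhilbsl2.wt5 p q m) 0 ∧ (∀ e l : ℕ, a e l ∈ MvPolynomial.weightedHomogeneousSubmodule k (W4c2invhilbsl2.wt5 p q m) 0) ∧
      f - (a₀ * MvPolynomial.X (0 : Fin 5) ^ (W4c2invhilbsl2.nN p q m c i).toNat +
          ∑ e ∈ Finset.range ((W4c2invhilbsl2.eE p q m c i).toNat + 1), ∑ l ∈ Finset.range ((W4c2invhilbsl2.lL p q m c i).toNat + 1),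
            a e l * (MvPolynomial.X (1 : Fin 5) ^ ((W4c2invhilbsl2.eE p q m c i).toNat - e) * MvPolynomial.X (2 : Fin 5) ^ e *
              MvPolynomial.X (3 : Fin 5) ^ ((W4c2invhilbsl2.lL p q m c i).toNat - l) * MvPolynomial.X (4 : Fin 5) ^ l)) ∈
        Ideal.span {MvPolynomial.X (0 : Fin 5) ^ (q - p) - MvPolynomial.X 1 * MvPolynomial.X 4 + MvPolynomial.X 2 * MvPolynomial.X 3} := by
  have hn0 := nN_nonneg p q m hp hpq hcop hm c hc i (by omega)
  have he0 := eE_nonneg p q m hp hpq hcop hm c hc i (by omega)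
  have hl0 := lL_nonneg p q m hp hpq hcop hm c hc i (by omega)
  have hN : (((nN p q m c i).toNat : ℕ) : ℤ) = nN p q m c i := Int.toNat_of_nonneg hn0
  have hE : (((eE p q m c i).toNat : ℕ) : ℤ) = eE p q m c i := Int.toNat_of_nonneg he0
  have hL : (((lL p q m c i).toNat : ℕ) : ℤ) = lL p q m c i := Int.toNat_of_nonneg hl0
  set N := (nN p q m c i).toNat with hNdef
  set E := (eE p q m c i).toNat with hEdef
  set L := (lL p q m c i).toNat with hLdef
  set P : Ideal (MvPolynomial (Fin 5) k) := Ideal.span {MvPolynomial.X (0 : Fin 5) ^ (q - p) - MvPolynomial.X 1 * MvPolynomial.X 4 + MvPolynomial.X 2 * MvPolynomial.X 3} with hP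
  have hnEL : nN p q m c i = -(p : ℤ) * eE p q m c i + (q : ℤ) * lL p q m c i := rfl
  have hEL : ((E : ZMod m)) - (L : ZMod m) = 0 := by
    have h1 : (((E : ℕ) : ℤ) : ZMod m) - (((L : ℕ) : ℤ) : ZMod m) = ((eE p q m c i - lL p q m c i : ℤ) : ZMod m) := by
      rw [hE, hL]; push_cast; ring
    rw [eE_eq_lL] at h1
    simpa using h1
  obtain ⟨g, hgn, hgs⟩ : ∃ g : Option (Fin (E + 1) × Fin (L + 1)) → MvPolynomial (Fin 5) k,
      g none = X (0 : Fin 5) ^ N ∧ ∀ x : Fin (E + 1) × Fin (L + 1), g (some x) =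
        X (1 : Fin 5) ^ (E - (x.1 : ℕ)) * X (2 : Fin 5) ^ (x.1 : ℕ) * X (3 : Fin 5) ^ (L - (x.2 : ℕ)) * X (4 : Fin 5) ^ (x.2 : ℕ) :=
    ⟨fun o => match o with
      | none => X (0 : Fin 5) ^ N
      | some x => X (1 : Fin 5) ^ (E - (x.1 : ℕ)) * X (2 : Fin 5) ^ (x.1 : ℕ) * X (3 : Fin 5) ^ (L - (x.2 : ℕ)) * X (4 : Fin 5) ^ (x.2 : ℕ),
      rfl, fun _ => rfl⟩
  have key : f ∈ genSub (wt5 p q m) P g := by
    refine wh_mem_of_monomials _ ?_ hf
    intro d hd
    rw [weight_wt5, Prod.ext_iff] at hd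
    obtain ⟨h1, h2⟩ := hd
    simp only at h1 h2
    rw [monomial_eq5]
    by_cases hd0 : N ≤ d 0
    · have heq : (X 0 ^ d 0 * X 1 ^ d 1 * X 2 ^ d 2 * X 3 ^ d 3 * X 4 ^ d 4 : MvPolynomial (Fin 5) k) =
          (X 0 ^ (d 0 - N) * X 1 ^ d 1 * X 2 ^ d 2 * X 3 ^ d 3 * X 4 ^ d 4) * g none := by
        rw [hgn, pow_split 0 hd0]; ring
      rw [heq]
      refine mem_genSub_of_mul (wt5 p q m) P g none _ ?_
      rw [mem_weightedHomogeneousSubmodule]
      convert wh_mono5 (k := k) p q m (d 0 - N) (d 1) (d 2) (d 3) (d 4) using 1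
      ext
      · simp only [Prod.fst_zero]
        push_cast [Nat.cast_sub hd0]
        rw [hN]; linarith
      · simp only [Prod.snd_zero]
        exact h2.symm
    · have hlt : (d 0 : ℤ) < nN p q m c i := by
        rw [← hN]; exact_mod_cast (not_le.mp hd0)
      have hdvd : (m : ℤ) ∣ ((d 1 + d 2 : ℕ) : ℤ) - ((d 3 + d 4 : ℕ) : ℤ) := by
        rw [← ZMod.intCast_zmod_eq_zero_iff_dvd]
        push_cast
        linear_combination (-1 : ZMod m) * h2
      obtain ⟨k1, k2⟩ := key_exponents p q m hp hpq hcop hm c hc i hi hir (d 0) (d 1 + d 2) (d 3 + d 4)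
        (by push_cast; exact h1) hdvd hlt
      have k1' : E ≤ d 1 + d 2 := by rw [← hE] at k1; exact_mod_cast k1
      have k2' : L ≤ d 3 + d 4 := by rw [← hL] at k2; exact_mod_cast k2
      obtain ⟨e, he1, he2, he3⟩ := exists_split E (d 1) (d 2) k1'
      obtain ⟨l, hl1, hl2, hl3⟩ := exists_split L (d 3) (d 4) k2'
      have heq : (X 0 ^ d 0 * X 1 ^ d 1 * X 2 ^ d 2 * X 3 ^ d 3 * X 4 ^ d 4 : MvPolynomial (Fin 5) k) =
          (X 0 ^ d 0 * X 1 ^ (d 1 - (E - e)) * X 2 ^ (d 2 - e) * X 3 ^ (d 3 - (L - l)) * X 4 ^ (d 4 - l)) *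
            g (some (⟨e, by omega⟩, ⟨l, by omega⟩)) := by
        rw [hgs, pow_split 1 he3, pow_split 2 he2, pow_split 3 hl3, pow_split 4 hl2]; ring
      rw [heq]
      refine mem_genSub_of_mul (wt5 p q m) P g (some (⟨e, by omega⟩, ⟨l, by omega⟩)) _ ?_
      rw [mem_weightedHomogeneousSubmodule]
      convert wh_mono5 (k := k) p q m (d 0) (d 1 - (E - e)) (d 2 - e) (d 3 - (L - l)) (d 4 - l) using 1
      ext
      · simp only [Prod.fst_zero]
        push_cast [Nat.cast_sub he3, Nat.cast_sub he2, Nat.cast_sub hl3, Nat.cast_sub hl2, Nat.cast_sub he1, Nat.cast_sub hl1]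
        rw [hE, hL]; linarith
      · simp only [Prod.snd_zero]
        push_cast [Nat.cast_sub he3, Nat.cast_sub he2, Nat.cast_sub hl3, Nat.cast_sub hl2, Nat.cast_sub he1, Nat.cast_sub hl1]
        linear_combination (-1 : ZMod m) * h2 - hEL
  obtain ⟨a, ha, h⟩ := key
  refine ⟨a none, fun e l => if h : e < E + 1 ∧ l < L + 1 then a (some (⟨e, h.1⟩, ⟨l, h.2⟩)) else 0, ha none, ?_, ?_⟩
  · intro e l
    beta_reduce
    by_cases h : e < E + 1 ∧ l < L + 1
    · rw [dif_pos h]; exact ha _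
    · rw [dif_neg h]; exact Submodule.zero_mem _
  · convert h using 2
    rw [Fintype.sum_option, Fintype.sum_prod_type, Finset.sum_range, hgn]
    congr 1
    refine Finset.sum_congr rfl fun e _ => ?_
    rw [Finset.sum_range]
    refine Finset.sum_congr rfl fun l _ => ?_
    beta_reduce
    rw [dif_pos (⟨e.2, l.2⟩ : (e : ℕ) < E + 1 ∧ (l : ℕ) < L + 1), hgs]

end Groth.Agent.S15732
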