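import Groth.Statements.S15733
import Groth.Agent.Lib.Helper23.InvHilbHJ

set_option autoImplicit false
open W4c2invhilbsl2

namespace Groth.Agent.S15733

open Groth.Agent.Helper23.InvHilbHJ

/-- Let 0 < p < q be coprime integers and m ≥ 1 such that q − p does not divide m; put g = gcd(m, q−p),
b = (q−p)/g, α = ⌊mp/(q−p)⌋, β = the remainder of mp modulo q−p and t = (q−p−β)/g, so that 1 ≤ t <
b, and let b/t = c₁ − 1/(c₂ − 1/(⋯ − 1/c_r)) be the negative-regular (Hirzebruch–Jung) continued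
fraction expansion with every cᵢ ≥ 2; set P₀ = 0, P₁ = 1, Q₀ = −1, Q₁ = 0, Pᵢ = cᵢ₋₁Pᵢ₋₁ − Pᵢ₋₂, Qᵢ
= cᵢ₋₁Qᵢ₋₁ − Qᵢ₋₂ for 2 ≤ i ≤ r+1, and eᵢ = (α+1+m)Pᵢ − Qᵢ, lᵢ = (α+1)Pᵢ − Qᵢ, nᵢ = q·lᵢ − p·eᵢ,
which are non-negative integers for 0 ≤ i ≤ r+1. Then for every 1 < i ≤ r and every integer x with 0
< x < Pᵢ, the remainder of pmx + nᵢ on division by q − p equals nᵢ plus the remainder of pmx on
division by q − p (in particular nᵢ + (pmx mod (q−p)) < q − p). -/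
theorem result (p q m : ℕ) (hp : 0 < p) (hpq : p < q) (hcop : Nat.Coprime p q) (hm : 0 < m) (hnt : ¬ (q - p ∣ m)) (c : List ℤ) (hc : W4c2invhilbsl2.IsHJDigits p q m c) (i : ℕ) (hi : 1 < i) (hir : i ≤ c.length)
    (x : ℤ) (hx0 : 0 < x) (hx : x < W4c2invhilbsl2.hjP c i) :
    Int.emod ((p : ℤ) * m * x + W4c2invhilbsl2.nN p q m c i) ((q : ℤ) - p) = W4c2invhilbsl2.nN p q m c i + Int.emod ((p : ℤ) * m * x) ((q : ℤ) - p) := by
  obtain ⟨hg, hD, hb, ht, h5, hbt, -⟩ := basic_arith p q m hp hpq hcop hm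
  obtain ⟨j, rfl⟩ := Nat.exists_eq_add_of_le hi
  have e1 : Nat.succ 1 + j = j + 2 := by omega
  have hir' : j + 2 ≤ c.length := by omega
  rw [e1] at hx
  rw [e1]
  have hg' : (0 : ℤ) < gcdK p q m := by exact_mod_cast hg
  have hb' : (0 : ℤ) < bB p q m := by exact_mod_cast hb
  have hD' : (q : ℤ) - p = (gcdK p q m : ℤ) * (bB p q m : ℤ) := by
    have : ((q - p : ℕ) : ℤ) = (gcdK p q m : ℤ) * (bB p q m : ℤ) := by exact_mod_cast hD
    rw [← this]; push_cast [Nat.cast_sub hpq.le]; ring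
  have h5' : (gcdK p q m : ℤ) * (tT p q m : ℤ) + (m : ℤ) * p = ((q : ℤ) - p) * ((alpha p q m : ℤ) + 1) := by
    have : ((gcdK p q m * tT p q m + m * p : ℕ) : ℤ) = (((q - p) * (alpha p q m + 1) : ℕ) : ℤ) := by
      exact_mod_cast h5
    push_cast [Nat.cast_sub hpq.le] at this
    linarith
  obtain ⟨r1, r2⟩ := residue_bounds p q m hp hpq hcop hm c hc j hir' x hx0 hx
  obtain ⟨t1, t2⟩ := TT_facts p q m hp hpq hcop hm c hc (j + 1) (by omega)
  have hmod := Int.emod_add_mul_ediv ((tT p q m : ℤ) * x) (bB p q m : ℤ)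
  have hlt := Int.emod_lt_of_pos ((tT p q m : ℤ) * x) hb'
  set ρ := ((tT p q m : ℤ) * x) % (bB p q m : ℤ) with hρ
  set y := ((tT p q m : ℤ) * x) / (bB p q m : ℤ) with hy
  have hn : nN p q m c (j + 2) = (gcdK p q m : ℤ) * TT p q m c (j + 2) := nN_eq_TT p q m hp hpq hcop hm c (j + 2)
  have key : (p : ℤ) * m * x = (((q : ℤ) - p) - (gcdK p q m : ℤ) * ρ) + ((q : ℤ) - p) * (((alpha p q m : ℤ) + 1) * x - y - 1) := by
    have : (gcdK p q m : ℤ) * ((tT p q m : ℤ) * x) = (gcdK p q m : ℤ) * (ρ + (bB p q m : ℤ) * y) := by rw [hmod]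
    linear_combination x * h5' - this + y * hD'
  have hgρ1 : (gcdK p q m : ℤ) * ρ < (q : ℤ) - p := by
    rw [hD']; exact mul_lt_mul_of_pos_left hlt hg'
  have hρpos : 0 < ρ := by linarith
  have hgρ0 : 0 < (gcdK p q m : ℤ) * ρ := mul_pos hg' hρpos
  have hgT : (gcdK p q m : ℤ) * TT p q m c (j + 2) < (gcdK p q m : ℤ) * ρ :=
    mul_lt_mul_of_pos_left (by linarith) hg'
  have hgT0 : 0 ≤ (gcdK p q m : ℤ) * TT p q m c (j + 2) := mul_nonneg hg'.le t1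
  show ((p : ℤ) * m * x + nN p q m c (j + 2)) % ((q : ℤ) - p) = nN p q m c (j + 2) + ((p : ℤ) * m * x) % ((q : ℤ) - p)
  have R1 : ((p : ℤ) * m * x) % ((q : ℤ) - p) = ((q : ℤ) - p) - (gcdK p q m : ℤ) * ρ := by
    rw [key, Int.add_mul_emod_self_left]
    exact Int.emod_eq_of_lt (by linarith) (by linarith)
  have R2 : ((p : ℤ) * m * x + nN p q m c (j + 2)) % ((q : ℤ) - p) = ((q : ℤ) - p) - (gcdK p q m : ℤ) * ρ + nN p q m c (j + 2) := by
    have : (p : ℤ) * m * x + nN p q m c (j + 2) = ((((q : ℤ) - p) - (gcdK p q m : ℤ) * ρ) + nN p q m c (j + 2)) + ((q : ℤ) - p) * (((alpha p q m : ℤ) + 1) * x - y - 1) := by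
      rw [key]; ring
    rw [this, Int.add_mul_emod_self_left]
    exact Int.emod_eq_of_lt (by rw [hn]; linarith) (by rw [hn]; linarith)
  rw [R1, R2]; ring

end Groth.Agent.S15733
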