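import Groth.Statements.S15734
import Groth.Agent.Lib.Helper23.InvHilbHJ

set_option autoImplicit false
open W4c2invhilbsl2

namespace Groth.Agent.S15734

open Groth.Agent.Helper23.InvHilbHJ

/-- Let 0 < p < q be coprime integers and m ≥ 1 such that q − p does not divide m; put g = gcd(m, q−p),
b = (q−p)/g, α = ⌊mp/(q−p)⌋, β = the remainder of mp modulo q−p and t = (q−p−β)/g, so that 1 ≤ t <
b, and let b/t = c₁ − 1/(c₂ − 1/(⋯ − 1/c_r)) be the negative-regular (Hirzebruch–Jung) continued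
fraction expansion with every cᵢ ≥ 2; set P₀ = 0, P₁ = 1, Q₀ = −1, Q₁ = 0, Pᵢ = cᵢ₋₁Pᵢ₋₁ − Pᵢ₋₂, Qᵢ
= cᵢ₋₁Qᵢ₋₁ − Qᵢ₋₂ for 2 ≤ i ≤ r+1, and eᵢ = (α+1+m)Pᵢ − Qᵢ, lᵢ = (α+1)Pᵢ − Qᵢ, nᵢ = q·lᵢ − p·eᵢ,
which are non-negative integers for 0 ≤ i ≤ r+1; moreover g divides every nᵢ, and write tᵢ = nᵢ/g
(so t₁ = t). Then (a) for every 1 ≤ i ≤ r the remainder of t·Pᵢ on division by b equals tᵢ, and (b)
for every 1 < i ≤ r and every integer x with 0 < x < Pᵢ the remainder ρ of t·x on division by b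
satisfies tᵢ₋₁ ≤ ρ ≤ b + tᵢ − tᵢ₋₁. -/
theorem result (p q m : ℕ) (hp : 0 < p) (hpq : p < q) (hcop : Nat.Coprime p q) (hm : 0 < m) (hnt : ¬ (q - p ∣ m)) (c : List ℤ) (hc : W4c2invhilbsl2.IsHJDigits p q m c) :
    (∀ i : ℕ, 1 ≤ i → i ≤ c.length →
      Int.emod ((W4c2invhilbsl2.tT p q m : ℤ) * W4c2invhilbsl2.hjP c i) (W4c2invhilbsl2.bB p q m : ℤ) = W4c2invhilbsl2.nN p q m c i / (W4c2invhilbsl2.gcdK p q m : ℤ)) ∧
    (∀ i : ℕ, 1 < i → i ≤ c.length → ∀ x : ℤ, 0 < x → x < W4c2invhilbsl2.hjP c i →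
      W4c2invhilbsl2.nN p q m c (i - 1) / (W4c2invhilbsl2.gcdK p q m : ℤ) ≤ Int.emod ((W4c2invhilbsl2.tT p q m : ℤ) * x) (W4c2invhilbsl2.bB p q m : ℤ) ∧
      Int.emod ((W4c2invhilbsl2.tT p q m : ℤ) * x) (W4c2invhilbsl2.bB p q m : ℤ) ≤
        (W4c2invhilbsl2.bB p q m : ℤ) + W4c2invhilbsl2.nN p q m c i / (W4c2invhilbsl2.gcdK p q m : ℤ) - W4c2invhilbsl2.nN p q m c (i - 1) / (W4c2invhilbsl2.gcdK p q m : ℤ)) := by
  obtain ⟨hg, hD, hb, ht, h5, hbt, -⟩ := basic_arith p q m hp hpq hcop hm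
  constructor
  · intro i hi hir
    obtain ⟨j, rfl⟩ := Nat.exists_eq_add_of_le hi
    rw [nN_div p q m hp hpq hcop hm]
    obtain ⟨h1, h2⟩ := TT_facts p q m hp hpq hcop hm c hc j (by omega)
    have h3 := TT_le_b p q m hp hpq hcop hm c hc j (by omega)
    rw [Nat.add_comm 1 j] at *
    show ((tT p q m : ℤ) * hjP c (j + 1)) % (bB p q m : ℤ) = _
    have e : (tT p q m : ℤ) * hjP c (j + 1) = TT p q m c (j + 1) + (bB p q m : ℤ) * hjQ c (j + 1) := by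
      unfold TT; ring
    rw [e, Int.add_mul_emod_self_left]
    exact Int.emod_eq_of_lt h1 (by linarith)
  · intro i hi hir x hx0 hx
    obtain ⟨j, rfl⟩ := Nat.exists_eq_add_of_le hi
    have e1 : Nat.succ 1 + j = j + 2 := by omega
    have e2 : Nat.succ 1 + j - 1 = j + 1 := by omega
    have hir' : j + 2 ≤ c.length := by omega
    rw [e1] at hx
    rw [e2, e1]
    rw [nN_div p q m hp hpq hcop hm, nN_div p q m hp hpq hcop hm]
    exact residue_bounds p q m hp hpq hcop hm c hc j hir' x hx0 hx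

end Groth.Agent.S15734
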