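import Groth.Statements.S15738
import Groth.Agent.Lib.Helper23.InvHilbLib

set_option autoImplicit false
universe u
open W4c2invhilbsl2

namespace Groth.Agent.S15738

open Groth.Agent.Helper23.InvHilb

/-- Let k be a field and m ≥ 1; for a monomial X₀^d₀X₁^d₁X₂^d₂ of the polynomial ring in X₀, X₁, X₂ (X₂
standing for Xⱼ, j = 3 or 4, of the five-variable ring) put n = d₀ − p·d₁ + q·d₂ (its weight for the
torus diag(t, t^(−p), t^q)), c = d₁ − d₂ and ω = p·d₁ − q·d₂, so that d₀ = n + ω; here 0 < p < q are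
coprime integers. Take two monomials X₀^d₀X₁^d₁X₂^d₂ and X₀^e₀X₁^e₁X₂^e₂ with the same n and with
values c, c' of c congruent modulo m (so both lie in the same ℤ × ℤ/m-weight piece for the weights
(1,0), (−p,−1), (q,1)). Then: (i) if c = c', the difference of the two monomials lies in the
principal ideal (X₀^(q−p) − X₁X₂); (ii) if c' < c, the monomial X₀^d₀X₁^d₁X₂^d₂ lies in the ideal
(X₀^(q−p) − X₁X₂, X₀^(mp)X₁^m); (iii) in all cases the difference lies in the ideal (X₀^(q−p) −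
X₁X₂, 1 − X₀^(mp)X₁^m). -/
theorem result (k : Type u) [Field k] (p q m : ℕ) (hp : 0 < p) (hpq : p < q) (hcop : Nat.Coprime p q) (hm : 0 < m)
    (d0 d1 d2 e0 e1 e2 : ℕ) (hn : (e0 : ℤ) - (p : ℤ) * e1 + (q : ℤ) * e2 = (d0 : ℤ) - (p : ℤ) * d1 + (q : ℤ) * d2)
    (hc : (m : ℤ) ∣ ((d1 : ℤ) - d2) - ((e1 : ℤ) - e2)) :
    ((d1 : ℤ) - d2 = (e1 : ℤ) - e2 →
      (MvPolynomial.X (0 : Fin 3) ^ d0 * MvPolynomial.X (1 : Fin 3) ^ d1 * MvPolynomial.X (2 : Fin 3) ^ d2 - MvPolynomial.X (0 : Fin 3) ^ e0 * MvPolynomial.X (1 : Fin 3) ^ e1 * MvPolynomial.X (2 : Fin 3) ^ e2 : MvPolynomial (Fin 3) k) ∈ Ideal.span {MvPolynomial.X (0 : Fin 3) ^ (q - p) - MvPolynomial.X (1 : Fin 3) * MvPolynomial.X (2 : Fin 3)}) ∧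
    ((e1 : ℤ) - e2 < (d1 : ℤ) - d2 →
      (MvPolynomial.X (0 : Fin 3) ^ d0 * MvPolynomial.X (1 : Fin 3) ^ d1 * MvPolynomial.X (2 : Fin 3) ^ d2 : MvPolynomial (Fin 3) k) ∈ Ideal.span {MvPolynomial.X (0 : Fin 3) ^ (q - p) - MvPolynomial.X (1 : Fin 3) * MvPolynomial.X (2 : Fin 3), MvPolynomial.X (0 : Fin 3) ^ (m * p) * MvPolynomial.X (1 : Fin 3) ^ m}) ∧
    ((MvPolynomial.X (0 : Fin 3) ^ d0 * MvPolynomial.X (1 : Fin 3) ^ d1 * MvPolynomial.X (2 : Fin 3) ^ d2 - MvPolynomial.X (0 : Fin 3) ^ e0 * MvPolynomial.X (1 : Fin 3) ^ e1 * MvPolynomial.X (2 : Fin 3) ^ e2 : MvPolynomial (Fin 3) k) ∈ Ideal.span {MvPolynomial.X (0 : Fin 3) ^ (q - p) - MvPolynomial.X (1 : Fin 3) * MvPolynomial.X (2 : Fin 3), 1 - MvPolynomial.X (0 : Fin 3) ^ (m * p) * MvPolynomial.X (1 : Fin 3) ^ m}) := by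
  have hn' := hn
  refine ⟨?_, ?_, ?_⟩
  · intro hceq
    rw [← Ideal.Quotient.eq]
    simp only [map_mul, map_pow]
    apply mono_eq_of_same _ _ _ p q hpq _ d0 d1 d2 e0 e1 e2 hn hceq
    rw [← map_pow, ← map_mul, Ideal.Quotient.eq]
    exact Ideal.subset_span rfl
  · intro hlt
    obtain ⟨j, hj⟩ := hc
    have hj0 : 0 < j := by
      have hm' : (0 : ℤ) < m := by exact_mod_cast hm
      by_contra hneg
      push Not at hneg
      have : (m : ℤ) * j ≤ 0 := mul_nonpos_of_nonneg_of_nonpos hm'.le hneg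
      linarith
    obtain ⟨j', rfl⟩ : ∃ j' : ℕ, j = (j' : ℤ) := ⟨j.toNat, by omega⟩
    rw [← Ideal.Quotient.eq_zero_iff_mem]
    simp only [map_mul, map_pow]
    rw [mono_eq_smul _ _ _ p q hpq _ m 0 _ d0 d1 d2 e0 e1 e2 hn j' hj]
    · have : j' ≠ 0 := by omega
      rw [zero_pow this, zero_mul]
    · rw [← map_pow, ← map_mul, Ideal.Quotient.eq]
      exact Ideal.subset_span (by simp)
    · rw [← map_pow, ← map_pow, ← map_mul, Ideal.Quotient.eq_zero_iff_mem]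
      exact Ideal.subset_span (by simp)
  · rw [← Ideal.Quotient.eq]
    simp only [map_mul, map_pow]
    have hr1 : (Ideal.Quotient.mk (Ideal.span {MvPolynomial.X (0 : Fin 3) ^ (q - p) - MvPolynomial.X (1 : Fin 3) * MvPolynomial.X (2 : Fin 3), 1 - MvPolynomial.X (0 : Fin 3) ^ (m * p) * MvPolynomial.X (1 : Fin 3) ^ m} : Ideal (MvPolynomial (Fin 3) k))) (MvPolynomial.X 0) ^ (q - p) = (Ideal.Quotient.mk _) (MvPolynomial.X 1) * (Ideal.Quotient.mk _) (MvPolynomial.X 2) := by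
      rw [← map_pow, ← map_mul, Ideal.Quotient.eq]
      exact Ideal.subset_span (by simp)
    have hr2 : (Ideal.Quotient.mk (Ideal.span {MvPolynomial.X (0 : Fin 3) ^ (q - p) - MvPolynomial.X (1 : Fin 3) * MvPolynomial.X (2 : Fin 3), 1 - MvPolynomial.X (0 : Fin 3) ^ (m * p) * MvPolynomial.X (1 : Fin 3) ^ m} : Ideal (MvPolynomial (Fin 3) k))) (MvPolynomial.X 0) ^ (m * p) * (Ideal.Quotient.mk _) (MvPolynomial.X 1) ^ m = 1 := by
      rw [← map_pow, ← map_pow, ← map_mul, ← map_one (Ideal.Quotient.mk _), eq_comm, Ideal.Quotient.eq]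
      exact Ideal.subset_span (by simp)
    obtain ⟨j, hj⟩ := hc
    rcases le_total 0 j with h0 | h0
    · obtain ⟨j', rfl⟩ : ∃ j' : ℕ, j = (j' : ℤ) := ⟨j.toNat, by omega⟩
      rw [mono_eq_smul _ _ _ p q hpq hr1 m 1 hr2 d0 d1 d2 e0 e1 e2 hn j' hj, one_pow, one_mul]
    · obtain ⟨j', hj'⟩ : ∃ j' : ℕ, j = -(j' : ℤ) := ⟨(-j).toNat, by omega⟩
      subst hj'
      rw [mono_eq_smul _ _ _ p q hpq hr1 m 1 hr2 e0 e1 e2 d0 d1 d2 hn.symm j' (by rw [← neg_sub, hj]; ring), one_pow, one_mul]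

end Groth.Agent.S15738
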