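import Groth.Statements.S15739
import Groth.Agent.Lib.Helper23.InvHilbLib

set_option autoImplicit false
universe u
open W4c2invhilbsl2

namespace Groth.Agent.S15739

open Groth.Agent.Helper23.InvHilb

/-- Let k be a field and m ≥ 1, put g = gcd(m, q−p), a = m/g and b = (q−p)/g; for a monomial
X₀^d₀X₁^d₁X₂^d₂ of the polynomial ring in X₀, X₁, X₂ (X₂ standing for Xⱼ, j = 3 or 4, of the
five-variable ring) put n = d₀ − p·d₁ + q·d₂ (its weight for the torus diag(t, t^(−p), t^q)), c = d₁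
− d₂ and ω = p·d₁ − q·d₂, so that d₀ = n + ω; here 0 < p < q are coprime integers. Take two
monomials X₀^d₀X₁^d₁X₂^d₂ and X₀^e₀X₁^e₁X₂^e₂ with the same n, where 0 ≤ n < q − p, whose values c
and c' of c are both divisible by m, and with d₀ < g and e₀ < g (so each has the least ω for its
pair (n, c), as g ≤ q − p). Then: (i) d₀ = e₀, i.e. the two values of ω agree, and m·b divides c −
c'; (ii) if c < c', then X₀^e₀X₁^e₁X₂^e₂ is a multiple of X₀^d₀X₁^d₁X₂^d₂ · X₁^(aq)X₂^(ap); (iii)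
the difference of the two monomials lies in the principal ideal (1 − X₁^(aq)X₂^(ap)). -/
theorem result (k : Type u) [Field k] (p q m : ℕ) (hp : 0 < p) (hpq : p < q) (hcop : Nat.Coprime p q) (hm : 0 < m)
    (d0 d1 d2 e0 e1 e2 : ℕ) (hn : (e0 : ℤ) - (p : ℤ) * e1 + (q : ℤ) * e2 = (d0 : ℤ) - (p : ℤ) * d1 + (q : ℤ) * d2)
    (hn0 : 0 ≤ (d0 : ℤ) - (p : ℤ) * d1 + (q : ℤ) * d2) (hnq : (d0 : ℤ) - (p : ℤ) * d1 + (q : ℤ) * d2 < (q : ℤ) - p)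
    (hcd : (m : ℤ) ∣ (d1 : ℤ) - d2) (hce : (m : ℤ) ∣ (e1 : ℤ) - e2)
    (hd0 : d0 < Nat.gcd m (q - p)) (he0 : e0 < Nat.gcd m (q - p)) :
    (d0 = e0 ∧ ((m : ℤ) * ((q - p) / Nat.gcd m (q - p) : ℕ)) ∣ ((d1 : ℤ) - d2) - ((e1 : ℤ) - e2)) ∧
    ((d1 : ℤ) - d2 < (e1 : ℤ) - e2 →
      (MvPolynomial.X (0 : Fin 3) ^ d0 * MvPolynomial.X (1 : Fin 3) ^ d1 * MvPolynomial.X (2 : Fin 3) ^ d2 * (MvPolynomial.X (1 : Fin 3) ^ (m / Nat.gcd m (q - p) * q) * MvPolynomial.X (2 : Fin 3) ^ (m / Nat.gcd m (q - p) * p)) : MvPolynomial (Fin 3) k) ∣ MvPolynomial.X (0 : Fin 3) ^ e0 * MvPolynomial.X (1 : Fin 3) ^ e1 * MvPolynomial.X (2 : Fin 3) ^ e2) ∧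
    ((MvPolynomial.X (0 : Fin 3) ^ e0 * MvPolynomial.X (1 : Fin 3) ^ e1 * MvPolynomial.X (2 : Fin 3) ^ e2 - MvPolynomial.X (0 : Fin 3) ^ d0 * MvPolynomial.X (1 : Fin 3) ^ d1 * MvPolynomial.X (2 : Fin 3) ^ d2 : MvPolynomial (Fin 3) k) ∈
      Ideal.span {(1 : MvPolynomial (Fin 3) k) - MvPolynomial.X (1 : Fin 3) ^ (m / Nat.gcd m (q - p) * q) * MvPolynomial.X (2 : Fin 3) ^ (m / Nat.gcd m (q - p) * p)}) := by
  have hc : (m : ℤ) ∣ ((d1 : ℤ) - d2) - ((e1 : ℤ) - e2) := dvd_sub hcd hce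
  have hc' : (m : ℤ) ∣ ((e1 : ℤ) - e2) - ((d1 : ℤ) - d2) := dvd_sub hce hcd
  set g := Nat.gcd m (q - p) with hg
  have hgD : g ∣ (q - p) := Nat.gcd_dvd_right _ _
  have hgm : g ∣ m := Nat.gcd_dvd_left _ _
  have hgpos : 0 < g := Nat.gcd_pos_of_pos_left _ hm
  have hD : ((q - p : ℕ) : ℤ) = (q : ℤ) - p := by push_cast [Nat.cast_sub hpq.le]; ring
  -- key: m * b * v = (m/g) * (q - p) * v
  have hkey : (m : ℤ) * (((q - p) / g : ℕ) : ℤ) = ((m / g : ℕ) : ℤ) * ((q : ℤ) - p) := by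
    rw [← hD]
    obtain ⟨a, ha⟩ := hgm
    obtain ⟨b, hb⟩ := hgD
    have ha' : m / g = a := by rw [ha]; exact Nat.mul_div_cancel_left _ hgpos
    have hb' : (q - p) / g = b := by rw [hb]; exact Nat.mul_div_cancel_left _ hgpos
    rw [ha', hb']
    rw [ha, hb]; push_cast; ring
  refine ⟨?_, ?_, ?_⟩
  · rcases le_total ((d1 : ℤ) - d2) ((e1 : ℤ) - e2) with hle | hle
    · obtain ⟨v, h0, h1, h2⟩ := monoJ_arith p q m hpq hcop hm d0 d1 d2 e0 e1 e2 hn hc hd0 he0 hle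
      refine ⟨h0.symm, ?_⟩
      rw [hkey]
      refine ⟨-(v : ℤ), ?_⟩
      rw [h1, h2]; push_cast; ring
    · obtain ⟨v, h0, h1, h2⟩ := monoJ_arith p q m hpq hcop hm e0 e1 e2 d0 d1 d2 hn.symm hc' he0 hd0 hle
      refine ⟨h0, ?_⟩
      rw [hkey]
      refine ⟨(v : ℤ), ?_⟩
      rw [h1, h2]; push_cast; ring
  · intro hlt
    obtain ⟨v, h0, h1, h2⟩ := monoJ_arith p q m hpq hcop hm d0 d1 d2 e0 e1 e2 hn hc hd0 he0 hlt.le
    have hv : v ≠ 0 := by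
      rintro rfl
      simp only [mul_zero, add_zero] at h1 h2
      subst h1 h2
      exact lt_irrefl _ hlt
    obtain ⟨v', rfl⟩ := Nat.exists_eq_succ_of_ne_zero hv
    refine ⟨MvPolynomial.X (1 : Fin 3) ^ (m / g * q * v') * MvPolynomial.X (2 : Fin 3) ^ (m / g * p * v'), ?_⟩
    rw [h0, h1, h2, Nat.succ_eq_add_one, mul_add, mul_add, mul_one, mul_one, pow_add, pow_add, pow_add, pow_add]
    ring
  · have key : ∀ (d0 d1 d2 e0 e1 e2 : ℕ) (v : ℕ), e0 = d0 → e1 = d1 + (m / g * q) * v → e2 = d2 + (m / g * p) * v →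
        (MvPolynomial.X (0 : Fin 3) ^ e0 * MvPolynomial.X (1 : Fin 3) ^ e1 * MvPolynomial.X (2 : Fin 3) ^ e2 - MvPolynomial.X (0 : Fin 3) ^ d0 * MvPolynomial.X (1 : Fin 3) ^ d1 * MvPolynomial.X (2 : Fin 3) ^ d2 : MvPolynomial (Fin 3) k) ∈
      Ideal.span {(1 : MvPolynomial (Fin 3) k) - MvPolynomial.X (1 : Fin 3) ^ (m / g * q) * MvPolynomial.X (2 : Fin 3) ^ (m / g * p)} := by
      intro d0 d1 d2 e0 e1 e2 v h0 h1 h2
      rw [Ideal.mem_span_singleton]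
      have hdvd : (1 : MvPolynomial (Fin 3) k) - MvPolynomial.X (1 : Fin 3) ^ (m / g * q) * MvPolynomial.X (2 : Fin 3) ^ (m / g * p) ∣ 1 ^ v - (MvPolynomial.X (1 : Fin 3) ^ (m / g * q) * MvPolynomial.X (2 : Fin 3) ^ (m / g * p)) ^ v :=
        sub_dvd_pow_sub_pow _ _ v
      have heq : (MvPolynomial.X (0 : Fin 3) ^ e0 * MvPolynomial.X (1 : Fin 3) ^ e1 * MvPolynomial.X (2 : Fin 3) ^ e2 - MvPolynomial.X (0 : Fin 3) ^ d0 * MvPolynomial.X (1 : Fin 3) ^ d1 * MvPolynomial.X (2 : Fin 3) ^ d2 : MvPolynomial (Fin 3) k)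
          = -(MvPolynomial.X (0 : Fin 3) ^ d0 * MvPolynomial.X (1 : Fin 3) ^ d1 * MvPolynomial.X (2 : Fin 3) ^ d2) * (1 ^ v - (MvPolynomial.X (1 : Fin 3) ^ (m / g * q) * MvPolynomial.X (2 : Fin 3) ^ (m / g * p)) ^ v) := by
        rw [h0, h1, h2, pow_add, pow_add, mul_pow, ← pow_mul, ← pow_mul]; ring
      rw [heq]
      exact Dvd.dvd.mul_left hdvd _
    rcases le_total ((d1 : ℤ) - d2) ((e1 : ℤ) - e2) with hle | hle
    · obtain ⟨v, h0, h1, h2⟩ := monoJ_arith p q m hpq hcop hm d0 d1 d2 e0 e1 e2 hn hc hd0 he0 hle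
      exact key d0 d1 d2 e0 e1 e2 v h0 h1 h2
    · obtain ⟨v, h0, h1, h2⟩ := monoJ_arith p q m hpq hcop hm e0 e1 e2 d0 d1 d2 hn.symm hc' he0 hd0 hle
      have := key e0 e1 e2 d0 d1 d2 v h0 h1 h2
      have h3 := neg_mem this
      rwa [neg_sub] at h3

end Groth.Agent.S15739
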