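import Groth.Statements.S15740
import Mathlib.Tactic

set_option autoImplicit false
open W4c2invhilbsl2

namespace Groth.Agent.S15740

/-- For a monomial X₀^d₀X₁^d₁X₂^d₂ of the polynomial ring in X₀, X₁, X₂ (X₂ standing for Xⱼ, j = 3 or 4,
of the five-variable ring) put n = d₀ − p·d₁ + q·d₂ (its weight for the torus diag(t, t^(−p), t^q)),
c = d₁ − d₂ and ω = p·d₁ − q·d₂, so that d₀ = n + ω; here 0 < p < q are coprime integers. Suppose n
≥ 0, c > 0 and d₀ < q − p (the last condition says that ω is the least value of ω for the pair (n,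
c)). Then ω ≥ 0 if and only if the remainder of p·c on division by q − p, plus n, is less than q −
p. -/
theorem result (p q : ℕ) (hp : 0 < p) (hpq : p < q) (hcop : Nat.Coprime p q) (d0 d1 d2 : ℕ)
    (hn : 0 ≤ (d0 : ℤ) - (p : ℤ) * d1 + (q : ℤ) * d2) (hc : (d2 : ℤ) < d1) (hd0 : d0 < q - p) :
    0 ≤ (p : ℤ) * d1 - (q : ℤ) * d2 ↔
      Int.emod ((p : ℤ) * ((d1 : ℤ) - d2)) ((q : ℤ) - p) + ((d0 : ℤ) - (p : ℤ) * d1 + (q : ℤ) * d2) < (q : ℤ) - p := by
  have hqp : (p : ℤ) < q := by exact_mod_cast hpq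
  have hp0 : (0 : ℤ) < p := by exact_mod_cast hp
  have hD : (0 : ℤ) < (q : ℤ) - p := by linarith
  have hd0' : (d0 : ℤ) < (q : ℤ) - p := by
    have : ((d0 : ℕ) : ℤ) < ((q - p : ℕ) : ℤ) := by exact_mod_cast hd0
    rwa [Nat.cast_sub hpq.le] at this
  have hd0nn : (0 : ℤ) ≤ d0 := Int.natCast_nonneg d0
  set ω : ℤ := (p : ℤ) * d1 - q * d2 with hω
  have hpc : (p : ℤ) * ((d1 : ℤ) - d2) = ω + ((q : ℤ) - p) * d2 := by rw [hω]; ring
  have hn' : (d0 : ℤ) - (p : ℤ) * d1 + q * d2 = d0 - ω := by rw [hω]; ring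
  change 0 ≤ ω ↔ ((p : ℤ) * ((d1 : ℤ) - d2)) % ((q : ℤ) - p) + ((d0 : ℤ) - (p : ℤ) * d1 + q * d2) < (q : ℤ) - p
  have hemod : (p : ℤ) * ((d1 : ℤ) - d2) % ((q : ℤ) - p) = ω % ((q : ℤ) - p) := by
    rw [hpc, Int.add_mul_emod_self_left]
  have hr0 : 0 ≤ ω % ((q : ℤ) - p) := Int.emod_nonneg _ hD.ne'
  have hr1 : ω % ((q : ℤ) - p) < (q : ℤ) - p := Int.emod_lt_of_pos _ hD
  have hdiv : ω % ((q : ℤ) - p) + ((q : ℤ) - p) * (ω / ((q : ℤ) - p)) = ω := Int.emod_add_mul_ediv _ _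
  rw [hemod, hn']
  rw [hn'] at hn
  constructor
  · intro h
    have hlt : ω < (q : ℤ) - p := by linarith
    rw [Int.emod_eq_of_lt h hlt]
    linarith
  · intro h
    by_contra hneg
    push Not at hneg
    have hk : ω / ((q : ℤ) - p) ≤ -1 := by
      by_contra hk
      push Not at hk
      have hk0 : 0 ≤ ω / ((q : ℤ) - p) := by omega
      nlinarith [mul_nonneg hD.le hk0]
    nlinarith [mul_nonneg hD.le (show (0 : ℤ) ≤ -1 - ω / ((q : ℤ) - p) by linarith)]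

end Groth.Agent.S15740
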