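import Groth.Statements.S15749
import Mathlib.RingTheory.Idempotents
import Mathlib.RingTheory.Noetherian.Nilpotent

set_option autoImplicit false
universe u
open CAlg

namespace Groth.Agent.S15749

theorem coeff_C' {S : Type u} [CommRing S] (c : S) (n : ℤ) :
    (HahnSeries.C c : LaurentSeries S).coeff n = if n = 0 then c else 0 := by
  rw [HahnSeries.C_apply, HahnSeries.coeff_single]
  split_ifs <;> rfl

open HahnSeries in
theorem coeff_mem_prime {R : Type u} [CommRing R] (e : LaurentSeries R) (he : IsIdempotentElem e)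
    (p : Ideal R) [p.IsPrime] :
    (∀ n : ℤ, n ≠ 0 → e.coeff n ∈ p) ∧ (e.coeff 0 ^ 2 - e.coeff 0 ∈ p) := by
  let f : R →ₙ+* R ⧸ p := ((Ideal.Quotient.mk p : R →+* R ⧸ p) : R →ₙ+* R ⧸ p)
  have hf : ∀ a, f a = Ideal.Quotient.mk p a := fun _ => rfl
  let e' : LaurentSeries (R ⧸ p) := e.map f
  have he' : e' * e' = e' := by
    have h1 : (e * e).map f = e.map f := by rw [he.eq]
    rw [HahnSeries.map_mul] at h1
    exact h1
  have hcoeff : ∀ n, e'.coeff n = Ideal.Quotient.mk p (e.coeff n) := fun n => rfl
  have h01 : e' = 0 ∨ e' = 1 := by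
    have h2 : e' * (e' - 1) = 0 := by rw [mul_sub, he', mul_one, sub_self]
    rcases mul_eq_zero.mp h2 with h | h
    · exact Or.inl h
    · exact Or.inr (sub_eq_zero.mp h)
  rcases h01 with h | h
  · have h3 : ∀ n, e.coeff n ∈ p := by
      intro n
      rw [← Ideal.Quotient.eq_zero_iff_mem, ← hcoeff, h]; rfl
    exact ⟨fun n _ => h3 n, p.sub_mem (p.pow_mem_of_mem (h3 0) 2 (by norm_num)) (h3 0)⟩
  · constructor
    · intro n hn
      rw [← Ideal.Quotient.eq_zero_iff_mem, ← hcoeff, h, HahnSeries.coeff_one, if_neg hn]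
    · rw [← Ideal.Quotient.eq_zero_iff_mem, map_sub, map_pow, ← hcoeff, h, HahnSeries.coeff_one,
        if_pos rfl]
      ring

theorem coeff_mem_nilradical {R : Type u} [CommRing R] (e : LaurentSeries R)
    (he : IsIdempotentElem e) :
    (∀ n : ℤ, n ≠ 0 → e.coeff n ∈ nilradical R) ∧ (e.coeff 0 ^ 2 - e.coeff 0 ∈ nilradical R) := by
  constructor
  · intro n hn
    rw [nilradical_eq_sInf, Ideal.mem_sInf]
    intro p hp
    have : p.IsPrime := hp
    exact (coeff_mem_prime e he p).1 n hn
  · rw [nilradical_eq_sInf, Ideal.mem_sInf]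
    intro p hp
    have : p.IsPrime := hp
    exact (coeff_mem_prime e he p).2

/-- product of series with coefficients in ideals has coefficients in the product ideal -/
theorem coeff_mul_mem {R : Type u} [CommRing R] (I J : Ideal R) (x y : LaurentSeries R)
    (hx : ∀ n, x.coeff n ∈ I) (hy : ∀ n, y.coeff n ∈ J) (n : ℤ) : (x * y).coeff n ∈ I * J := by
  rw [HahnSeries.coeff_mul]
  exact Ideal.sum_mem _ fun ij _ => Ideal.mul_mem_mul (hx _) (hy _)

theorem coeff_pow_mem {R : Type u} [CommRing R] (I : Ideal R) (x : LaurentSeries R)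
    (hx : ∀ n, x.coeff n ∈ I) (k : ℕ) (n : ℤ) : (x ^ k).coeff n ∈ I ^ k := by
  induction k generalizing n with
  | zero => simp
  | succ k ih =>
    rw [pow_succ, pow_succ]
    exact coeff_mul_mem _ _ _ _ ih hx n

/-- an idempotent Laurent series with no negative part and idempotent constant coefficient -/
theorem eq_C_of_nonneg {S : Type u} [CommRing S] (e : LaurentSeries S) (he : e * e = e)
    (hneg : ∀ n : ℤ, n < 0 → e.coeff n = 0) (hc : e.coeff 0 * e.coeff 0 = e.coeff 0) :
    e = HahnSeries.C (e.coeff 0) := by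
  set c := e.coeff 0 with hcdef
  set f : LaurentSeries S := e - HahnSeries.C c with hfdef
  have hf0 : ∀ n : ℤ, n ≤ 0 → f.coeff n = 0 := by
    intro n hn
    rcases lt_or_eq_of_le hn with h | h
    · simp only [hfdef, HahnSeries.coeff_sub, hneg n h, coeff_C', if_neg (ne_of_lt h)]
      simp
    · subst h
      simp [hfdef, hcdef]
  -- key identity : f = f * f * (1 - 2 C c)
  have hCC : (HahnSeries.C c : LaurentSeries S) * HahnSeries.C c = HahnSeries.C c := by
    rw [← map_mul, hc]
  have hkey : f = f * f * (1 - 2 * HahnSeries.C c) := by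
    have e1 : e = f + HahnSeries.C c := by rw [hfdef]; ring
    have h1 : f * (1 - 2 * HahnSeries.C c) = f * f := by
      have h2 := he
      rw [e1] at h2
      have h3 : (f + HahnSeries.C c) * (f + HahnSeries.C c) =
          f * f + 2 * HahnSeries.C c * f + HahnSeries.C c * HahnSeries.C c := by ring
      rw [h3, hCC] at h2
      have h4 : f * f + 2 * HahnSeries.C c * f = f := add_right_cancel h2
      calc f * (1 - 2 * HahnSeries.C c) = f - 2 * HahnSeries.C c * f := by ring
        _ = (f * f + 2 * HahnSeries.C c * f) - 2 * HahnSeries.C c * f := by rw [h4]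
        _ = f * f := by ring
    have h5 : (1 - 2 * HahnSeries.C c : LaurentSeries S) * (1 - 2 * HahnSeries.C c) = 1 := by
      have : (1 - 2 * HahnSeries.C c : LaurentSeries S) * (1 - 2 * HahnSeries.C c) =
          1 - 4 * HahnSeries.C c + 4 * (HahnSeries.C c * HahnSeries.C c) := by ring
      rw [this, hCC]; ring
    calc f = f * ((1 - 2 * HahnSeries.C c) * (1 - 2 * HahnSeries.C c)) := by rw [h5, mul_one]
      _ = (f * (1 - 2 * HahnSeries.C c)) * (1 - 2 * HahnSeries.C c) := by ring
      _ = f * f * (1 - 2 * HahnSeries.C c) := by rw [h1]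
  -- f = 0
  have hfz : f = 0 := by
    by_contra hne
    -- minimal element of support
    have hsupp : f.support.Nonempty := HahnSeries.support_nonempty_iff.mpr hne
    set n₀ := f.isWF_support.min hsupp with hn₀
    have hn₀mem : n₀ ∈ f.support := f.isWF_support.min_mem hsupp
    have hmin : ∀ m ∈ f.support, n₀ ≤ m := fun m hm => f.isWF_support.min_le hsupp hm
    have hpos : 0 < n₀ := by
      by_contra h
      exact hn₀mem (hf0 n₀ (not_lt.mp h))
    -- (f * f).coeff m = 0 for m < 2 n₀
    have hff : ∀ m : ℤ, m < 2 * n₀ → (f * f).coeff m = 0 := by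
      intro m hm
      rw [HahnSeries.coeff_mul]
      apply Finset.sum_eq_zero
      intro ij hij
      rw [Finset.mem_antidiagonal] at hij
      have h1 := hmin _ hij.1
      have h2 := hmin _ hij.2.1
      omega
    have hcoef : (f * f * (1 - 2 * HahnSeries.C c)).coeff n₀ = 0 := by
      have : f * f * (1 - 2 * HahnSeries.C c) = f * f - HahnSeries.C (2 * c) * (f * f) := by
        rw [map_mul]
        have : (HahnSeries.C (2 : S) : LaurentSeries S) = 2 := by
          rw [show (2 : S) = 1 + 1 by norm_num, map_add, map_one]; norm_num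
        rw [this]; ring
      rw [this, HahnSeries.coeff_sub, HahnSeries.C_mul_eq_smul, HahnSeries.coeff_smul,
        hff n₀ (by omega)]
      simp
    rw [← hkey] at hcoef
    exact hn₀mem hcoef
  rw [hfdef, sub_eq_zero] at hfz
  exact hfz

/-- For an arbitrary commutative ring R, every idempotent of the ring of formal Laurent series R((t)) is
the constant series attached to a unique idempotent of R. Equivalently, the structure map R → R((t))
induces a bijection on idempotents, so that the spectrum of R((t)) is connected if and only if the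
spectrum of R is. No reducedness is assumed. -/
theorem result (R : Type u) [CommRing R]
    (e : LaurentSeries R) (he : IsIdempotentElem e) :
    ∃! r : R, IsIdempotentElem r ∧ HahnSeries.C r = e := by
  classical
  obtain ⟨hnil, hnil0⟩ := coeff_mem_nilradical e he
  -- the finite set of negative-index coefficients
  have hfin : (e.support ∩ Set.Iio (0 : ℤ)).Finite := by
    by_cases hemp : e.support.Nonempty
    · have hwf := e.isWF_support
      set m := hwf.min hemp
      apply Set.Finite.subset (Set.finite_Ico m 0)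
      intro n hn
      exact ⟨hwf.min_le hemp hn.1, hn.2⟩
    · rw [Set.not_nonempty_iff_eq_empty] at hemp
      rw [hemp, Set.empty_inter]; exact Set.finite_empty
  let T : Set R := (fun n => e.coeff n) '' (e.support ∩ Set.Iio (0 : ℤ)) ∪ {e.coeff 0 ^ 2 - e.coeff 0}
  have hTfin : T.Finite := (hfin.image _).union (Set.finite_singleton _)
  let I : Ideal R := Ideal.span T
  have hIfg : I.FG := ⟨hTfin.toFinset, by simp [I]⟩
  have hIle : I ≤ nilradical R := by
    rw [Ideal.span_le]
    rintro x (⟨n, hn, rfl⟩ | hx)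
    · exact hnil n (ne_of_lt hn.2)
    · rw [Set.mem_singleton_iff] at hx; rw [hx]; exact hnil0
  obtain ⟨k, hk⟩ := hIfg.isNilpotent_iff_le_nilradical.mpr hIle
  have hnegI : ∀ n : ℤ, n < 0 → e.coeff n ∈ I := by
    intro n hn
    by_cases h0 : e.coeff n = 0
    · rw [h0]; exact I.zero_mem
    · exact Ideal.subset_span (Or.inl ⟨n, ⟨h0, hn⟩, rfl⟩)
  have h0I : e.coeff 0 ^ 2 - e.coeff 0 ∈ I := Ideal.subset_span (Or.inr rfl)
  -- pass to the quotient
  let f : R →ₙ+* R ⧸ I := ((Ideal.Quotient.mk I : R →+* R ⧸ I) : R →ₙ+* R ⧸ I)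
  let e' : LaurentSeries (R ⧸ I) := e.map f
  have he' : e' * e' = e' := by
    have h1 : (e * e).map f = e.map f := by rw [he.eq]
    rw [HahnSeries.map_mul] at h1
    exact h1
  have hcoeff : ∀ n, e'.coeff n = Ideal.Quotient.mk I (e.coeff n) := fun n => rfl
  have hq := eq_C_of_nonneg e' he'
    (fun n hn => by rw [hcoeff, Ideal.Quotient.eq_zero_iff_mem]; exact hnegI n hn)
    (by
      rw [hcoeff, ← map_mul, ← sub_eq_zero, ← map_sub, Ideal.Quotient.eq_zero_iff_mem]
      have : e.coeff 0 * e.coeff 0 - e.coeff 0 = e.coeff 0 ^ 2 - e.coeff 0 := by ring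
      rw [this]; exact h0I)
  have hallI : ∀ n : ℤ, n ≠ 0 → e.coeff n ∈ I := by
    intro n hn
    rw [← Ideal.Quotient.eq_zero_iff_mem, ← hcoeff, hq, coeff_C', if_neg hn]
  -- lift the idempotent
  have hker : ∀ x ∈ RingHom.ker (Ideal.Quotient.mk I), IsNilpotent x := by
    intro x hx
    rw [Ideal.mk_ker] at hx
    exact hIle hx
  have hidem : IsIdempotentElem (Ideal.Quotient.mk I (e.coeff 0)) := by
    unfold IsIdempotentElem
    rw [← map_mul, ← sub_eq_zero, ← map_sub, Ideal.Quotient.eq_zero_iff_mem]
    have : e.coeff 0 * e.coeff 0 - e.coeff 0 = e.coeff 0 ^ 2 - e.coeff 0 := by ring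
    rw [this]; exact h0I
  obtain ⟨r, hr, hr'⟩ := exists_isIdempotentElem_eq_of_ker_isNilpotent (Ideal.Quotient.mk I) hker
    (Ideal.Quotient.mk I (e.coeff 0)) ⟨_, rfl⟩ hidem
  have hr0 : e.coeff 0 - r ∈ I := by
    rw [← Ideal.Quotient.eq_zero_iff_mem, map_sub, hr', sub_self]
  have hCr : IsIdempotentElem (HahnSeries.C r : LaurentSeries R) := by
    unfold IsIdempotentElem
    rw [← map_mul, hr.eq]
  have hdiff : ∀ n, (e - HahnSeries.C r).coeff n ∈ I := by
    intro n
    rw [HahnSeries.coeff_sub, coeff_C']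
    by_cases hn : n = 0
    · subst hn; rw [if_pos rfl]; exact hr0
    · rw [if_neg hn, sub_zero]; exact hallI n hn
  have hnilp : IsNilpotent (e - HahnSeries.C r) := by
    refine ⟨k, ?_⟩
    ext n
    have := coeff_pow_mem I _ hdiff k n
    rw [hk] at this
    simpa using this
  have heq : e = HahnSeries.C r := eq_of_isNilpotent_sub_of_isIdempotentElem he hCr hnilp
  refine ⟨r, ⟨hr, heq.symm⟩, ?_⟩
  rintro s ⟨_, hs⟩
  exact HahnSeries.C_injective (hs.trans heq)

end Groth.Agent.S15749
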