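import Groth.Statements.S15750
import Mathlib.RingTheory.Idempotents
import Mathlib.RingTheory.Noetherian.Nilpotent
import Mathlib.RingTheory.PowerSeries.Inverse

set_option autoImplicit false
universe u
open CAlg

namespace Groth.Agent.S15750

open HahnSeries in
theorem prime_lemma {R : Type u} [CommRing R] (x y : LaurentSeries R) (hxy : x * y = 1)
    (p : Ideal R) [p.IsPrime] :
    ∃ n : ℤ, (∀ i < n, x.coeff i ∈ p) ∧ (∀ j < -n, y.coeff j ∈ p) ∧
      x.coeff n * y.coeff (-n) - 1 ∈ p := by
  let f : R →ₙ+* R ⧸ p := ((Ideal.Quotient.mk p : R →+* R ⧸ p) : R →ₙ+* R ⧸ p)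
  let x' : LaurentSeries (R ⧸ p) := x.map f
  let y' : LaurentSeries (R ⧸ p) := y.map f
  have hcx : ∀ n, x'.coeff n = Ideal.Quotient.mk p (x.coeff n) := fun n => rfl
  have hcy : ∀ n, y'.coeff n = Ideal.Quotient.mk p (y.coeff n) := fun n => rfl
  have h1 : x' * y' = 1 := by
    have h : (x * y).map f = (1 : LaurentSeries R).map f := by rw [hxy]
    rw [HahnSeries.map_mul] at h
    rw [show x' * y' = x.map f * y.map f from rfl, h]
    ext n
    show Ideal.Quotient.mk p ((1 : LaurentSeries R).coeff n) = (1 : LaurentSeries (R ⧸ p)).coeff n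
    rw [HahnSeries.coeff_one, HahnSeries.coeff_one]
    split_ifs <;> simp
  have hx0 : x' ≠ 0 := by
    intro h; rw [h, zero_mul] at h1; exact zero_ne_one h1
  have hy0 : y' ≠ 0 := by
    intro h; rw [h, mul_zero] at h1; exact zero_ne_one h1
  have hord : x'.order + y'.order = 0 := by
    have h := HahnSeries.order_mul hx0 hy0
    rw [h1, HahnSeries.order_one] at h; exact h.symm
  have hy : y'.order = - x'.order := by omega
  refine ⟨x'.order, ?_, ?_, ?_⟩
  · intro i hi
    have h := HahnSeries.coeff_eq_zero_of_lt_order hi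
    rw [hcx] at h
    exact Ideal.Quotient.eq_zero_iff_mem.mp h
  · intro j hj
    have hj' : j < y'.order := by omega
    have h := HahnSeries.coeff_eq_zero_of_lt_order hj'
    rw [hcy] at h
    exact Ideal.Quotient.eq_zero_iff_mem.mp h
  · have h := HahnSeries.coeff_mul_order_add_order x' y'
    rw [h1, hord, HahnSeries.coeff_one, if_pos rfl, HahnSeries.leadingCoeff_eq,
      HahnSeries.leadingCoeff_eq, hy, hcx, hcy] at h
    rw [← Ideal.Quotient.eq_zero_iff_mem, map_sub, map_mul, map_one]
    exact sub_eq_zero.mpr h.symm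

theorem mem_all_primes_eq_zero {R : Type u} [CommRing R] [IsReduced R] (a : R)
    (h : ∀ (p : Ideal R), p.IsPrime → a ∈ p) : a = 0 := by
  have : a ∈ nilradical R := by
    rw [nilradical_eq_sInf, Ideal.mem_sInf]
    intro p hp
    exact h p hp
  rw [nilradical_eq_zero R] at this
  exact this

theorem single_mul_coeff {R : Type u} [CommRing R] (n m : ℤ) (z : LaurentSeries R) :
    (HahnSeries.single n (1 : R) * z).coeff m = z.coeff (m - n) := by
  have h := HahnSeries.coeff_single_mul_add (r := (1 : R)) (x := z) (a := m - n) (b := n)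
  rw [sub_add_cancel, one_mul] at h
  exact h

/-- Let R be a nonzero reduced commutative ring with no idempotents other than 0 and 1. Then every unit
of the Laurent series ring R((t)) is t^n · u for a unique integer n and a unique unit u of the power
series ring R[[t]]. (The published statement is for an arbitrary torus T over a reduced ring R, with
n replaced by a locally constant integer-valued function on Spec R, i.e. a point of the cocharacter
lattice; this row is the case where T is the multiplicative group and Spec R is connected, to which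
the published proof reduces.) -/
theorem result (R : Type u) [CommRing R]
    [IsReduced R] [Nontrivial R] (hconn : ∀ e : R, IsIdempotentElem e → e = 0 ∨ e = 1)
    (f : (LaurentSeries R)ˣ) :
    ∃! p : ℤ × (PowerSeries R)ˣ,
      (f : LaurentSeries R) = HahnSeries.single p.1 (1 : R) * HahnSeries.ofPowerSeries ℤ R (p.2 : PowerSeries R) := by
  classical
  set x : LaurentSeries R := (f : LaurentSeries R) with hx
  set y : LaurentSeries R := ((f⁻¹ : (LaurentSeries R)ˣ) : LaurentSeries R) with hy
  have hxy : x * y = 1 := by rw [hx, hy]; exact Units.mul_inv f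
  have hP := fun (p : Ideal R) (hp : p.IsPrime) => @prime_lemma R _ x y hxy p hp
  -- each e k is 0 or 1
  have he01 : ∀ k : ℤ, x.coeff k * y.coeff (-k) = 0 ∨ x.coeff k * y.coeff (-k) = 1 := by
    intro k
    apply hconn
    have : x.coeff k * y.coeff (-k) * (x.coeff k * y.coeff (-k) - 1) = 0 := by
      apply mem_all_primes_eq_zero
      intro p hp
      obtain ⟨n, h1, h2, h3⟩ := hP p hp
      rcases lt_trichotomy k n with hlt | heq | hgt
      · exact p.mul_mem_right _ (p.mul_mem_right _ (h1 k hlt))
      · subst heq
        exact p.mul_mem_left _ h3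
      · exact p.mul_mem_right _ (p.mul_mem_left _ (h2 (-k) (by omega)))
    unfold IsIdempotentElem
    have h := this
    rw [mul_sub, mul_one, sub_eq_zero] at h
    exact h
  -- find n₀
  obtain ⟨m, hm⟩ := Ideal.exists_maximal R
  have hmp : m.IsPrime := hm.isPrime
  obtain ⟨n₀, hn1, hn2, hn3⟩ := hP m hmp
  have hen₀ : x.coeff n₀ * y.coeff (-n₀) = 1 := by
    rcases he01 n₀ with h | h
    · exfalso
      rw [h, zero_sub] at hn3
      have : (1 : R) ∈ m := by simpa using m.neg_mem hn3
      exact hmp.ne_top ((Ideal.eq_top_iff_one m).mpr this)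
    · exact h
  have hlow : ∀ i < n₀, x.coeff i = 0 := by
    intro i hi
    apply mem_all_primes_eq_zero
    intro q hq
    obtain ⟨n, h1, h2, h3⟩ := hP q hq
    have hnn : n = n₀ := by
      by_contra hne
      have hmem : x.coeff n₀ * y.coeff (-n₀) ∈ q := by
        rcases lt_or_gt_of_ne hne with hlt | hgt
        · exact q.mul_mem_left _ (h2 (-n₀) (by omega))
        · exact q.mul_mem_right _ (h1 n₀ hgt)
      rw [hen₀] at hmem
      exact hq.ne_top ((Ideal.eq_top_iff_one q).mpr hmem)
    exact h1 i (hnn ▸ hi)
  -- construct u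
  let u₀ : PowerSeries R := PowerSeries.mk fun k => x.coeff (n₀ + k)
  have hu₀c : PowerSeries.constantCoeff u₀ = x.coeff n₀ := by
    rw [← PowerSeries.coeff_zero_eq_constantCoeff_apply, PowerSeries.coeff_mk]
    simp
  have hu₀ : IsUnit u₀ := by
    rw [PowerSeries.isUnit_iff_constantCoeff, hu₀c]
    exact IsUnit.of_mul_eq_one _ hen₀
  have hxeq : x = HahnSeries.single n₀ (1 : R) * HahnSeries.ofPowerSeries ℤ R u₀ := by
    ext i
    rw [single_mul_coeff]
    by_cases hi : i < n₀
    · rw [hlow i hi]
      have : i - n₀ < 0 := by omega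
      have h := PowerSeries.coeff_coe (f := u₀) (i - n₀)
      rw [if_pos this] at h
      exact h.symm
    · obtain ⟨k, hk⟩ := Int.eq_ofNat_of_zero_le (show 0 ≤ i - n₀ by omega)
      rw [hk, HahnSeries.ofPowerSeries_apply_coeff, PowerSeries.coeff_mk]
      congr 1
      omega
  -- the key uniqueness facts
  have huniq : ∀ (n : ℤ) (u : (PowerSeries R)ˣ),
      x = HahnSeries.single n (1 : R) * HahnSeries.ofPowerSeries ℤ R (u : PowerSeries R) →
      n = n₀ ∧ (u : PowerSeries R) = u₀ := by
    intro n u hnu
    have hcu : IsUnit (PowerSeries.constantCoeff (u : PowerSeries R)) :=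
      PowerSeries.isUnit_iff_constantCoeff.mp u.isUnit
    have hxn : x.coeff n = PowerSeries.constantCoeff (u : PowerSeries R) := by
      rw [hnu, single_mul_coeff, sub_self]
      have h := HahnSeries.ofPowerSeries_apply_coeff (Γ := ℤ) (u : PowerSeries R) 0
      rw [Nat.cast_zero] at h
      rw [h, PowerSeries.coeff_zero_eq_constantCoeff_apply]
    have hxlow : ∀ i < n, x.coeff i = 0 := by
      intro i hi
      rw [hnu, single_mul_coeff]
      have : i - n < 0 := by omega
      have h := PowerSeries.coeff_coe (f := (u : PowerSeries R)) (i - n)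
      rw [if_pos this] at h
      exact h
    have hnn : n = n₀ := by
      rcases lt_trichotomy n n₀ with hlt | heq | hgt
      · exfalso
        have := hlow n hlt
        rw [hxn] at this
        rw [this] at hcu
        exact not_isUnit_zero hcu
      · exact heq
      · exfalso
        have := hxlow n₀ hgt
        rw [this, zero_mul] at hen₀
        exact zero_ne_one hen₀
    refine ⟨hnn, ?_⟩
    subst hnn
    have hsu : (HahnSeries.single (-n) (1 : R) : LaurentSeries R) * HahnSeries.single n (1 : R) = 1 := by
      rw [HahnSeries.single_mul_single, neg_add_cancel, mul_one]; rfl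
    have h2 : HahnSeries.ofPowerSeries ℤ R (u : PowerSeries R) = HahnSeries.ofPowerSeries ℤ R u₀ := by
      have h3 : HahnSeries.single n (1 : R) * HahnSeries.ofPowerSeries ℤ R (u : PowerSeries R) =
          HahnSeries.single n (1 : R) * HahnSeries.ofPowerSeries ℤ R u₀ := by rw [← hnu, ← hxeq]
      have h4 := congrArg (fun z => (HahnSeries.single (-n) (1 : R) : LaurentSeries R) * z) h3
      simp only [← mul_assoc, hsu, one_mul] at h4
      exact h4
    exact HahnSeries.ofPowerSeries_injective h2
  refine ⟨(n₀, hu₀.unit), ?_, ?_⟩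
  · show x = HahnSeries.single n₀ (1 : R) * HahnSeries.ofPowerSeries ℤ R ((hu₀.unit : (PowerSeries R)ˣ) : PowerSeries R)
    rw [IsUnit.unit_spec]
    exact hxeq
  · rintro ⟨n, u⟩ hnu
    obtain ⟨h1, h2⟩ := huniq n u hnu
    ext1
    · exact h1
    · apply Units.ext
      rw [IsUnit.unit_spec]
      exact h2

end Groth.Agent.S15750
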