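import Groth.Statements.S15765
import Mathlib

set_option autoImplicit false
universe u
open CategoryTheory AlgebraicGeometry
open CAlg

namespace Groth.Agent.S15765

open CategoryTheory AlgebraicGeometry TopologicalSpace


/-- closure of an additive subgroup stable under multiplication by a dense subring is an ideal -/
theorem one_mem_closure {B : Type u} [CommRing B] [TopologicalSpace B] [IsTopologicalRing B]
    (D : Set B) (hD : Dense D) (M : Set B) (h0 : (0 : B) ∈ M)
    (hadd : ∀ a ∈ M, ∀ b ∈ M, a + b ∈ M) (hmul : ∀ c ∈ D, ∀ m ∈ M, c * m ∈ M)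
    (htop : Ideal.span M = ⊤) : (1 : B) ∈ closure M := by
  let J : Ideal B :=
    { carrier := closure M
      add_mem' := by
        intro a b ha hb
        exact map_mem_closure₂ continuous_add ha hb (fun a ha b hb => hadd a ha b hb)
      zero_mem' := subset_closure h0
      smul_mem' := by
        intro c x hx
        exact map_mem_closure₂ continuous_mul (hD c) hx (fun a ha b hb => hmul a ha b hb) }
  have hle : Ideal.span M ≤ J := Ideal.span_le.2 subset_closure
  rw [htop] at hle
  exact hle (Submodule.mem_top : (1 : B) ∈ ⊤)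

theorem main (B : Type u) [CommRing B] [TopologicalSpace B]
    [IsTopologicalRing B] (hB : IsOpen {b : B | IsUnit b})
    (B₀ : Type u) [CommRing B₀] (φ : B₀ →+* B) (hφ : DenseRange φ)
    (X : Scheme.{u}) [X.IsQuasiAffine] (p : X ⟶ Spec (CommRingCat.of B₀))
    (f : Spec (CommRingCat.of B) ⟶ X) (hf : f ≫ p = Spec.map (CommRingCat.ofHom φ)) :
    ∃ U : X.Opens, IsAffineOpen U ∧ Set.range f.base ⊆ (U : Set X) := by
  -- ring maps
  let p' : CommRingCat.of B₀ ⟶ Γ(X, ⊤) := (Scheme.ΓSpecIso (CommRingCat.of B₀)).inv ≫ p.appTop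
  let ψ : Γ(X, ⊤) ⟶ CommRingCat.of B := f.appTop ≫ (Scheme.ΓSpecIso (CommRingCat.of B)).hom
  have hp : X.toSpecΓ ≫ Spec.map p' = p := by
    have h1 := Scheme.toSpecΓ_naturality p
    have h2 := toSpecΓ_SpecMap_ΓSpecIso_inv (CommRingCat.of B₀)
    calc X.toSpecΓ ≫ Spec.map p' = (X.toSpecΓ ≫ Spec.map p.appTop) ≫
          Spec.map (Scheme.ΓSpecIso (CommRingCat.of B₀)).inv := by
            simp only [p', Spec.map_comp, Category.assoc]
      _ = p ≫ ((Spec (CommRingCat.of B₀)).toSpecΓ ≫
          Spec.map (Scheme.ΓSpecIso (CommRingCat.of B₀)).inv) := by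
            rw [← h1, Category.assoc]
      _ = p := by rw [h2, Category.comp_id]
  have hψ : f ≫ X.toSpecΓ = Spec.map ψ := by
    have h1 := Scheme.toSpecΓ_naturality f
    rw [h1, ← SpecMap_ΓSpecIso_hom, ← Spec.map_comp]
  have hcomp : p' ≫ ψ = CommRingCat.ofHom φ := by
    apply Spec.map_injective
    rw [Spec.map_comp, ← hψ, Category.assoc, hp, hf]
  have hcomp' : ∀ c : B₀, ψ.hom (p'.hom c) = φ c := by
    intro c
    have := congrArg (fun h => h.hom c) hcomp
    simpa using this
  -- the open image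
  let Uset : Set (PrimeSpectrum Γ(X, ⊤)) := Set.range X.toSpecΓ.base
  have hUopen : IsOpen Uset := X.toSpecΓ.isOpenEmbedding.isOpen_range
  let I : Ideal Γ(X, ⊤) := PrimeSpectrum.vanishingIdeal Usetᶜ
  have hzl : PrimeSpectrum.zeroLocus (I : Set Γ(X, ⊤)) = Usetᶜ := by
    rw [PrimeSpectrum.zeroLocus_vanishingIdeal_eq_closure]
    exact hUopen.isClosed_compl.closure_eq
  have hDI : ∀ g ∈ I, (PrimeSpectrum.basicOpen g : Set (PrimeSpectrum Γ(X, ⊤))) ⊆ Uset := by
    intro g hg x hx
    by_contra hxU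
    have : g ∈ x.asIdeal := (PrimeSpectrum.mem_vanishingIdeal _ _).1 hg x hxU
    exact hx this
  -- the image ideal is everything
  have htop : Ideal.map ψ.hom I = ⊤ := by
    by_contra hne
    obtain ⟨𝔪, hmax, hle⟩ := Ideal.exists_le_maximal _ hne
    let x : Spec (CommRingCat.of B) := ⟨𝔪, hmax.isPrime⟩
    have hz : (f ≫ X.toSpecΓ).base x ∈ Uset := ⟨f.base x, rfl⟩
    rw [hψ] at hz
    have hz' : (Spec.map ψ).base x ∈ PrimeSpectrum.zeroLocus (I : Set Γ(X, ⊤)) := by
      change PrimeSpectrum.comap ψ.hom x ∈ PrimeSpectrum.zeroLocus (I : Set Γ(X, ⊤))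
      rw [PrimeSpectrum.mem_zeroLocus]
      intro g hg
      have : ψ.hom g ∈ 𝔪 := hle (Ideal.mem_map_of_mem _ hg)
      exact this
    rw [hzl] at hz'
    exact hz' hz
  -- approximate
  let M : Set B := ψ.hom '' (I : Set Γ(X, ⊤))
  have h1 : (1 : B) ∈ closure M := by
    apply one_mem_closure (Set.range φ) hφ M
    · exact ⟨0, I.zero_mem, map_zero _⟩
    · rintro _ ⟨a, ha, rfl⟩ _ ⟨b, hb, rfl⟩
      exact ⟨a + b, I.add_mem ha hb, map_add _ _ _⟩
    · rintro _ ⟨c, rfl⟩ _ ⟨m, hm, rfl⟩
      refine ⟨p'.hom c * m, I.mul_mem_left _ hm, ?_⟩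
      rw [map_mul, hcomp']
    · exact htop
  obtain ⟨b, hbu, g, hg, rfl⟩ := mem_closure_iff.1 h1 _ hB isUnit_one
  have hgu : IsUnit (ψ.hom g) := hbu
  refine ⟨X.basicOpen g, ?_, ?_⟩
  · rw [← Scheme.toSpecΓ_preimage_basicOpen]
    rw [← Scheme.Hom.isAffineOpen_iff_of_isOpenImmersion X.toSpecΓ]
    convert IsAffineOpen.Spec_basicOpen g
    exact SetLike.coe_injective (Set.image_preimage_eq_of_subset (hDI g hg))
  · rintro _ ⟨x, rfl⟩
    have h2 : f ⁻¹ᵁ X.basicOpen g = ⊤ := by
      rw [Scheme.preimage_basicOpen_top]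
      apply Scheme.basicOpen_of_isUnit
      have : IsUnit ((Scheme.ΓSpecIso (CommRingCat.of B)).hom.hom (f.appTop.hom g)) := hgu
      have h3 := this.map (Scheme.ΓSpecIso (CommRingCat.of B)).inv.hom
      have e : (Scheme.ΓSpecIso (CommRingCat.of B)).inv.hom
          ((Scheme.ΓSpecIso (CommRingCat.of B)).hom.hom (f.appTop.hom g)) = f.appTop.hom g := by
        rw [← CommRingCat.comp_apply, Iso.hom_inv_id]
        rfl
      rw [e] at h3
      exact h3
    have : x ∈ f ⁻¹ᵁ X.basicOpen g := by rw [h2]; trivial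
    exact this

/-- Let B be a topological ring in which the units form an open subset, B₀ → B a ring map with dense
image and X a quasi-affine scheme over B₀. Then the image of any B-point Spec B → X over B₀ is
contained in an affine open of X. (The published statement allows X ind-quasi-affine, i.e. with all
quasi-compact opens quasi-affine; since a B-point lands in a quasi-compact open, this row's
quasi-affine case carries the content.) -/
theorem result (B : Type u) [CommRing B] [TopologicalSpace B]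
    [IsTopologicalRing B] (hB : IsOpen {b : B | IsUnit b})
    (B₀ : Type u) [CommRing B₀] (φ : B₀ →+* B) (hφ : DenseRange φ)
    (X : Scheme.{u}) [X.IsQuasiAffine] (p : X ⟶ Spec (CommRingCat.of B₀))
    (f : Spec (CommRingCat.of B) ⟶ X) (hf : f ≫ p = Spec.map (CommRingCat.ofHom φ)) :
    ∃ U : X.Opens, IsAffineOpen U ∧ Set.range f.base ⊆ (U : Set X) := by
  exact main B hB B₀ φ hφ X p f hf

end Groth.Agent.S15765
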