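import Groth.Statements.S15770
import Mathlib.RingTheory.Finiteness.Cardinality
import Mathlib.Topology.Instances.Matrix
import Mathlib.LinearAlgebra.Matrix.ToLin
import Mathlib.LinearAlgebra.Matrix.NonsingularInverse

set_option autoImplicit false
universe u
open CAlg

namespace Groth.Agent.S15770

/-- Let B be a topological ring with Bˣ ⊂ B open and M, M' finitely generated projective B-modules, and
endow Hom_B(M, M') with the module topology (the canonical topology of a finite module). Then the
set of surjective B-linear maps M → M' is open. -/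
theorem result (B : Type u) [CommRing B] [TopologicalSpace B]
    [IsTopologicalRing B] (hB : IsOpen {b : B | IsUnit b})
    (M M' : Type u) [AddCommGroup M] [Module B M] [Module.Finite B M] [Module.Projective B M]
    [AddCommGroup M'] [Module B M'] [Module.Finite B M'] [Module.Projective B M']
    [TopologicalSpace (M →ₗ[B] M')] [IsModuleTopology B (M →ₗ[B] M')] :
    IsOpen {f : M →ₗ[B] M' | Function.Surjective f} := by
  classical
  rw [isOpen_iff_forall_mem_open]
  intro f₀ hf₀
  obtain ⟨g₀, hg₀⟩ := Module.projective_lifting_property f₀ LinearMap.id hf₀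
  obtain ⟨n, π, hπ⟩ := Module.Finite.exists_fin' B M'
  obtain ⟨ι, hι⟩ := Module.projective_lifting_property π LinearMap.id hπ
  have hιπ : ∀ m', π (ι m') = m' := fun m' => LinearMap.congr_fun hι m'
  have hfg : ∀ m', f₀ (g₀ m') = m' := fun m' => LinearMap.congr_fun hg₀ m'
  let L : (M →ₗ[B] M') →ₗ[B] Matrix (Fin n) (Fin n) B :=
    { toFun := fun f => LinearMap.toMatrix' (ι ∘ₗ f ∘ₗ g₀ ∘ₗ π)
      map_add' := fun f f' => by
        rw [← map_add]
        congr 1
        apply LinearMap.ext
        intro v
        simp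
      map_smul' := fun c f => by
        rw [RingHom.id_apply, ← map_smul]
        congr 1
        apply LinearMap.ext
        intro v
        simp }
  let C : Matrix (Fin n) (Fin n) B := LinearMap.toMatrix' (LinearMap.id - ι ∘ₗ π)
  have hcont : Continuous (fun f : M →ₗ[B] M' => (L f + C).det) :=
    Continuous.matrix_det ((IsModuleTopology.continuous_of_linearMap L).add continuous_const)
  refine ⟨{f | IsUnit (L f + C).det}, ?_, hB.preimage hcont, ?_⟩
  · intro f hf
    have hf' : IsUnit (L f + C).det := hf
    set Ψ : (Fin n → B) →ₗ[B] (Fin n → B) := ι ∘ₗ f ∘ₗ g₀ ∘ₗ π + (LinearMap.id - ι ∘ₗ π) with hΨdef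
    have hΨ : LinearMap.toMatrix' Ψ = L f + C := by
      rw [hΨdef, map_add]
      rfl
    have hunit : IsUnit (LinearMap.toMatrix' Ψ) := by
      rw [Matrix.isUnit_iff_isUnit_det, hΨ]
      exact hf'
    have hsurjΨ : Function.Surjective Ψ := by
      intro w
      refine ⟨(LinearMap.toMatrix' Ψ)⁻¹.mulVec w, ?_⟩
      have h1 : ∀ v, Ψ v = (LinearMap.toMatrix' Ψ).mulVec v := by
        intro v
        rw [← Matrix.toLin'_apply, Matrix.toLin'_toMatrix']
      rw [h1, Matrix.mulVec_mulVec,
        Matrix.mul_nonsing_inv _ ((Matrix.isUnit_iff_isUnit_det _).mp hunit), Matrix.one_mulVec]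
    intro m'
    obtain ⟨v, hv⟩ := hsurjΨ (ι m')
    refine ⟨g₀ (π v), ?_⟩
    have h2 := congrArg π hv
    simp only [hΨdef, LinearMap.add_apply, LinearMap.comp_apply, LinearMap.sub_apply,
      LinearMap.id_apply, map_add, map_sub, hιπ] at h2
    rw [← h2]
    abel
  · show IsUnit (L f₀ + C).det
    have h1 : L f₀ + C = 1 := by
      show LinearMap.toMatrix' (ι ∘ₗ f₀ ∘ₗ g₀ ∘ₗ π) + LinearMap.toMatrix' (LinearMap.id - ι ∘ₗ π) = 1
      rw [← map_add, ← LinearMap.toMatrix'_id]
      congr 1
      apply LinearMap.ext
      intro v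
      simp only [LinearMap.add_apply, LinearMap.comp_apply, LinearMap.sub_apply, LinearMap.id_apply,
        hfg]
      abel
    rw [h1, Matrix.det_one]
    exact isUnit_one

end Groth.Agent.S15770
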