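import Groth.Statements.S15771
import Mathlib.Tactic
import Mathlib.Topology.Algebra.Group.Basic

set_option autoImplicit false
universe u
open TensorProduct
open CAlg

namespace Groth.Agent.S15771

/-- For a ring map B₀ → B with dense image into a topological ring B, a finitely generated B₀-module M₀
and any topological B-module structure on M = B ⊗_{B₀} M₀, the natural map M₀ → M has dense image. -/
theorem result (B₀ B : Type u) [CommRing B₀] [CommRing B] [Algebra B₀ B]
    [TopologicalSpace B] [IsTopologicalRing B] (hφ : DenseRange (algebraMap B₀ B))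
    (M₀ : Type u) [AddCommGroup M₀] [Module B₀ M₀] [Module.Finite B₀ M₀]
    [TopologicalSpace (B ⊗[B₀] M₀)] [IsTopologicalAddGroup (B ⊗[B₀] M₀)] [ContinuousSMul B (B ⊗[B₀] M₀)] :
    DenseRange (fun m : M₀ => (1 : B) ⊗ₜ[B₀] m) := by
  let f : M₀ →+ B ⊗[B₀] M₀ := (TensorProduct.mk B₀ B M₀ 1).toAddMonoidHom
  have hf : ∀ m, f m = (1 : B) ⊗ₜ[B₀] m := fun m => rfl
  have key : ∀ x : B ⊗[B₀] M₀, x ∈ f.range.topologicalClosure := by
    intro x
    induction x using TensorProduct.induction_on with
    | zero => exact zero_mem _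
    | tmul b m =>
      have hcont : Continuous (fun b : B => b • ((1 : B) ⊗ₜ[B₀] m)) :=
        Continuous.smul (f := fun b : B => b) (g := fun _ : B => ((1 : B) ⊗ₜ[B₀] m))
          continuous_id continuous_const
      have hclosed : IsClosed {b : B | b • ((1 : B) ⊗ₜ[B₀] m) ∈
          (f.range.topologicalClosure : Set (B ⊗[B₀] M₀))} :=
        f.range.isClosed_topologicalClosure.preimage hcont
      have hsub : Set.range (algebraMap B₀ B) ⊆ {b : B | b • ((1 : B) ⊗ₜ[B₀] m) ∈
          (f.range.topologicalClosure : Set (B ⊗[B₀] M₀))} := by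
        rintro _ ⟨b₀, rfl⟩
        apply f.range.le_topologicalClosure
        refine ⟨b₀ • m, ?_⟩
        rw [hf, TensorProduct.tmul_smul, TensorProduct.smul_tmul', TensorProduct.smul_tmul',
          Algebra.smul_def, smul_eq_mul]
      have hb : b ∈ {b : B | b • ((1 : B) ⊗ₜ[B₀] m) ∈
          (f.range.topologicalClosure : Set (B ⊗[B₀] M₀))} :=
        closure_minimal hsub hclosed (hφ b)
      have hb' : b • ((1 : B) ⊗ₜ[B₀] m) ∈ f.range.topologicalClosure := hb
      rwa [TensorProduct.smul_tmul', smul_eq_mul, mul_one] at hb'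
    | add x y hx hy => exact add_mem hx hy
  intro x
  have := key x
  rw [← SetLike.mem_coe, AddSubgroup.topologicalClosure_coe, AddMonoidHom.coe_range] at this
  exact this

end Groth.Agent.S15771
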