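import Groth.Statements.S15784
import Mathlib

set_option autoImplicit false
universe u
open Neron

namespace Groth.Agent.S15784

/-- Let O be a discrete valuation ring with fraction field L and uniformizer ϖ', let ϖ be an element of
the maximal ideal of O, let q = u·ϖ'^n with u a unit of O and n ≥ 1, and let m ≥ 1 be a divisor of
n. Then the following are equivalent: (i) there is a nonzero element z = w·ϖ'^a of L, with w a unit
of O and a an integer congruent to n/m modulo n, and an integer j such that z^m·q^j lies in 1 + ϖO;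
(ii) ϖ'^n/q is an m-th power in the group of units of O/ϖO, that is, u·(y^m + ϖ·r) = 1 for some y, r
∈ O. (The published statement phrases (i) geometrically, as the existence of a point of order m in
the special fibre of the Néron model of the Weil restriction of the Tate curve with parameter q from
L down to a subfield over which L is totally ramified with ϖ a uniformizer of the subfield, whose
image in the component group also has order m; this row states the equivalence between (i) and (ii)
that the printed argument establishes.) -/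
theorem result
    (O : Type u) [CommRing O] [IsDomain O] [IsDiscreteValuationRing O]
    (L : Type u) [Field L] [Algebra O L] [IsFractionRing O L]
    (ϖ' : O) (hϖ' : Irreducible ϖ') (ϖ : O) (hϖ : ϖ ∈ IsLocalRing.maximalIdeal O)
    (n : ℕ) (hn : 1 ≤ n) (u : Oˣ) (q : O) (hq : q = u * ϖ' ^ n)
    (m : ℕ) (hm : 1 ≤ m) (hmn : m ∣ n) :
    (∃ (w : Oˣ) (a j t : ℤ) (r : O), a = (n / m : ℕ) + t * n ∧
        (algebraMap O L w * algebraMap O L ϖ' ^ a) ^ m * algebraMap O L q ^ j = algebraMap O L (1 + ϖ * r)) ↔
      ∃ y r : O, (u : O) * (y ^ m + ϖ * r) = 1 := by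
  have hinj : Function.Injective (algebraMap O L) := IsFractionRing.injective O L
  have hP : algebraMap O L ϖ' ≠ 0 := by
    intro h
    exact hϖ'.ne_zero (hinj (by simpa using h))
  have hunit_ne : ∀ v : Oˣ, algebraMap O L (v : O) ≠ 0 := by
    intro v h
    exact v.ne_zero (hinj (by simpa using h))
  have hzpow : ∀ (v : Oˣ) (k : ℤ), algebraMap O L ((v ^ k : Oˣ) : O) = (algebraMap O L (v : O)) ^ k := by
    intro v k
    have := map_zpow (Units.map (algebraMap O L : O →* L)) v k
    have h2 := congrArg (fun x : Lˣ => (x : L)) this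
    simp only [Units.coe_map, MonoidHom.coe_coe, Units.val_zpow_eq_zpow_val] at h2
    exact h2
  have hone_add : ∀ r : O, IsUnit (1 + ϖ * r) := by
    intro r
    have hmem : ϖ * r ∈ IsLocalRing.maximalIdeal O := Ideal.mul_mem_right _ _ hϖ
    by_contra hc
    have h1 : (1 + ϖ * r) ∈ IsLocalRing.maximalIdeal O := hc
    have : (1 : O) ∈ IsLocalRing.maximalIdeal O := by
      have := Ideal.sub_mem _ h1 hmem
      simpa using this
    exact (Ideal.ne_top_iff_one _).mp (IsLocalRing.maximalIdeal.isMaximal O).ne_top this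
  have hnot : ¬ IsUnit ϖ' := hϖ'.not_isUnit
  constructor
  · rintro ⟨w, a, j, t, r, ha, heq⟩
    obtain ⟨E, hE⟩ := hone_add r
    -- rewrite LHS
    have hL : (algebraMap O L w * algebraMap O L ϖ' ^ a) ^ m * algebraMap O L q ^ j
        = algebraMap O L ((w ^ m * u ^ j : Oˣ) : O) * algebraMap O L ϖ' ^ (a * m + n * j) := by
      rw [hq, map_mul, map_pow, mul_zpow, mul_pow, zpow_add₀ hP, zpow_mul, zpow_mul,
        zpow_natCast, zpow_natCast, Units.val_mul, map_mul, hzpow, Units.val_pow_eq_pow_val, map_pow]
      ring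
    rw [hL, ← hE] at heq
    set k : ℤ := a * m + n * j with hk
    set U : Oˣ := w ^ m * u ^ j with hU
    have hk0 : k = 0 := by
      rcases lt_trichotomy k 0 with hneg | h0 | hpos
      · exfalso
        obtain ⟨k', hk'⟩ := Int.exists_eq_neg_ofNat hneg.le
        have hk'pos : k' ≠ 0 := by
          rintro rfl
          simp at hk'
          omega
        rw [hk', zpow_neg, zpow_natCast, ← map_pow] at heq
        have hne : algebraMap O L (ϖ' ^ k') ≠ 0 := by
          rw [map_pow]; exact pow_ne_zero _ hP
        rw [mul_inv_eq_iff_eq_mul₀ hne, ← map_mul] at heq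
        have := hinj heq
        have hu : IsUnit (ϖ' ^ k') := by
          have h1 : IsUnit ((E : O) * ϖ' ^ k') := by
            rw [← this]; exact U.isUnit
          exact isUnit_of_mul_isUnit_right h1
        exact hnot ((isUnit_pow_iff hk'pos).mp hu)
      · exact h0
      · exfalso
        obtain ⟨k', hk'⟩ := Int.eq_ofNat_of_zero_le hpos.le
        have hk'pos : k' ≠ 0 := by
          rintro rfl
          simp at hk'
          omega
        rw [hk', zpow_natCast, ← map_pow, ← map_mul] at heq
        have := hinj heq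
        have hu : IsUnit (ϖ' ^ k') := by
          have h1 : IsUnit ((U : O) * ϖ' ^ k') := by
            rw [this]; exact E.isUnit
          exact isUnit_of_mul_isUnit_right h1
        exact hnot ((isUnit_pow_iff hk'pos).mp hu)
    rw [hk0, zpow_zero, mul_one] at heq
    have hUE : U = E := Units.ext (hinj heq)
    -- j = -1 - t m
    obtain ⟨d, hd⟩ := hmn
    have hdiv : n / m = d := by
      rw [hd]; exact Nat.mul_div_cancel_left d (by omega)
    have hj : j = -1 - t * m := by
      have h1 : a * m + n * j = 0 := hk0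
      rw [ha, hdiv] at h1
      have h2 : (n : ℤ) * (1 + t * m + j) = 0 := by
        have : (n : ℤ) = m * d := by exact_mod_cast hd
        rw [← h1]
        rw [this]; ring
      have hn0 : (n : ℤ) ≠ 0 := by exact_mod_cast (by omega : n ≠ 0)
      have := (mul_eq_zero.mp h2).resolve_left hn0
      omega
    -- y0
    set y0 : Oˣ := w * u ^ (-t) with hy0
    have hy0m : y0 ^ m = E * u := by
      rw [← hUE, hU, hj, hy0, mul_pow, ← zpow_natCast (u ^ (-t)) m, ← zpow_mul, mul_assoc]
      congr 1
      rw [← zpow_add_one]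
      congr 1
      ring
    refine ⟨((y0⁻¹ : Oˣ) : O), ((u⁻¹ : Oˣ) : O) * r * ((E⁻¹ : Oˣ) : O), ?_⟩
    have h1 : (u : O) * ((y0⁻¹ : Oˣ) : O) ^ m = ((E⁻¹ : Oˣ) : O) := by
      rw [← Units.val_pow_eq_pow_val, ← Units.val_mul, inv_pow, hy0m]
      congr 1
      rw [mul_inv_rev, mul_comm (u⁻¹) (E⁻¹), mul_comm, mul_assoc, inv_mul_cancel, mul_one]
    have h2 : ((E⁻¹ : Oˣ) : O) * (1 + ϖ * r) = 1 := by
      rw [← hE]; simp
    have h3 : (u : O) * ((u⁻¹ : Oˣ) : O) = 1 := by simp
    rw [mul_add, h1]
    linear_combination h2 + (ϖ * r * ((E⁻¹ : Oˣ) : O)) * h3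
  · rintro ⟨y, r, hyr⟩
    have h1 : (u : O) * y ^ m = 1 + ϖ * (-(u : O) * r) := by
      linear_combination hyr
    obtain ⟨F, hF⟩ := hone_add (-(u : O) * r)
    have hyu : IsUnit y := by
      have h2 : IsUnit ((u : O) * y ^ m) := by rw [h1, ← hF]; exact F.isUnit
      have h3 : IsUnit (y ^ m) := isUnit_of_mul_isUnit_right h2
      exact (isUnit_pow_iff (by omega)).mp h3
    obtain ⟨Y, rfl⟩ := hyu
    have hFu : F = u * Y ^ m := by
      apply Units.ext
      rw [hF, ← h1]
      simp
    obtain ⟨d, hd⟩ := hmn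
    have hdiv : n / m = d := by
      rw [hd]; exact Nat.mul_div_cancel_left d (by omega)
    refine ⟨Y⁻¹, (n / m : ℕ), -1, 0, (u : O) * r * ((F⁻¹ : Oˣ) : O), by simp, ?_⟩
    have hF2 : ((F⁻¹ : Oˣ) : O) * (1 + ϖ * (-(u : O) * r)) = 1 := by
      rw [← hF]; simp
    have hR : (1 : O) + ϖ * ((u : O) * r * ((F⁻¹ : Oˣ) : O)) = ((F⁻¹ : Oˣ) : O) := by
      linear_combination (-1 : O) * hF2
    rw [hR, hFu, hq, zpow_natCast, mul_pow, ← pow_mul, hdiv, mul_comm d m, ← hd, zpow_neg_one, map_mul, map_pow,
      mul_inv_rev, mul_inv_rev, Units.val_mul, map_mul]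
    have hPn : algebraMap O L ϖ' ^ n ≠ 0 := pow_ne_zero _ hP
    have e1 : algebraMap O L ((Y⁻¹ : Oˣ) : O) = (algebraMap O L (Y : O))⁻¹ := by
      have := hzpow Y (-1)
      simpa using this
    have e2 : algebraMap O L ((u⁻¹ : Oˣ) : O) = (algebraMap O L (u : O))⁻¹ := by
      have := hzpow u (-1)
      simpa using this
    have e3 : algebraMap O L (((Y ^ m)⁻¹ : Oˣ) : O) = ((algebraMap O L (Y : O)) ^ m)⁻¹ := by
      have := hzpow (Y ^ m) (-1)
      simpa using this
    rw [e1, e2, e3]
    have := hunit_ne u
    have := hunit_ne Y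
    field_simp
    rw [← mul_pow, one_div, inv_mul_cancel₀ this, one_pow]

end Groth.Agent.S15784
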