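import Groth.Statements.S15788
import Groth.Agent.Lib.Helper23.ASAlg
import Groth.Agent.Lib.Helper5.FinComplete
import Groth.Agent.Lib.Helper9.PSOmega

set_option autoImplicit false
universe u
open WildQuot

namespace Groth.Agent.S15788

open Groth.Agent.Helper23.ASAlg Groth.Agent.Helper23.MonicBasis
set_option linter.style.haveILetI false

open MvPolynomial in
/-- Let `k` be a field of characteristic `p > 0`, `n ≥ 2`, `R = k[[x_1, …, x_n]]`, `a_1, …, a_n ∈ R`
with zero constant term, and `A = R[u_1, …, u_n] / (u_i ^ p - a_i ^ (p-1) u_i - x_i : i = 1..n)`.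
Then `A` is a free `R`-module of rank `p ^ n`, `A` is complete and separated for the adic topology
of the ideal generated by the classes of the `u_i` (which is its maximal ideal), and `A` is an
integral domain. (The published statement also assumes each `a_i` nonzero; that is not needed for
this part.) -/
theorem result
    (p : ℕ) [Fact p.Prime] (k : Type u) [Field k] [CharP k p] (n : ℕ) (hn : 2 ≤ n)
    (a : Fin n → MvPowerSeries (Fin n) k)
    (ham : ∀ i, MvPowerSeries.constantCoeff (a i) = 0) :
    let I : Ideal (MvPolynomial (Fin n) (MvPowerSeries (Fin n) k)) :=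
      Ideal.span (Set.range fun i : Fin n =>
        X i ^ p - C (a i ^ (p - 1)) * X i - C (MvPowerSeries.X i))
    Module.Free (MvPowerSeries (Fin n) k) (MvPolynomial (Fin n) (MvPowerSeries (Fin n) k) ⧸ I) ∧
      Module.finrank (MvPowerSeries (Fin n) k) (MvPolynomial (Fin n) (MvPowerSeries (Fin n) k) ⧸ I) = p ^ n ∧
      IsAdicComplete (Ideal.map (Ideal.Quotient.mk I)
          (Ideal.span (Set.range (X : Fin n → MvPolynomial (Fin n) (MvPowerSeries (Fin n) k)))))
        (MvPolynomial (Fin n) (MvPowerSeries (Fin n) k) ⧸ I) ∧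
      IsDomain (MvPolynomial (Fin n) (MvPowerSeries (Fin n) k) ⧸ I) := by
  intro I
  have hreg := Groth.Agent.Helper3.WildQuot.main p k n a ham
  have hI : I = Ideal.span (Set.range (FG (Gp p k n a))) := ideal_eq p k n a
  have hreg' : IsRegularLocalRing (MvPolynomial (Fin n) (MvPowerSeries (Fin n) k) ⧸ I) ∧
      (Ideal.map (Ideal.Quotient.mk I)
        (Ideal.span (Set.range (X : Fin n → MvPolynomial (Fin n) (MvPowerSeries (Fin n) k))))).IsMaximal :=
    hreg
  rw [hI] at hreg' ⊢
  obtain ⟨hr1, hr2⟩ := hreg'
  haveI : IsRegularLocalRing (A p k n a) := hr1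
  refine ⟨Module.Free.of_basis (bas p k n a), ?_, ?_, isDomain p k n a ham⟩
  · rw [Module.finrank_eq_card_basis (bas p k n a), Fintype.card_pi]
    simp only [Fintype.card_fin, Gp_natDegree, Finset.prod_const, Finset.card_univ]
  · haveI : Module.Finite (MvPowerSeries (Fin n) k) (A p k n a) :=
      Module.Finite.of_basis (bas p k n a)
    have h1 := Groth.Agent.Helper5.FinComplete.isAdicComplete_maximalIdeal_of_finite
      (MvPowerSeries (Fin n) k) (A p k n a)
    have h2 : Ideal.map (Ideal.Quotient.mk (Ideal.span (Set.range (FG (Gp p k n a)))))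
        (Ideal.span (Set.range (X : Fin n → MvPolynomial (Fin n) (MvPowerSeries (Fin n) k)))) =
        IsLocalRing.maximalIdeal (A p k n a) := IsLocalRing.eq_maximalIdeal hr2
    rw [h2]
    exact h1

end Groth.Agent.S15788
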