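import Groth.Statements.S15791
import Mathlib

set_option autoImplicit false
universe u v
open WildQuot

namespace Groth.Agent.S15791

lemma length_mul_le {A : Type*} [CommRing A] (I : Ideal A) (a b : A) :
    Module.length A (A ⧸ (I ⊔ Ideal.span {a * b})) ≤
      Module.length A (A ⧸ (I ⊔ Ideal.span {a})) + Module.length A (A ⧸ (I ⊔ Ideal.span {b})) := by
  have hle : I ⊔ Ideal.span {a * b} ≤ I ⊔ Ideal.span {a} := by
    refine sup_le le_sup_left ?_
    rw [Ideal.span_singleton_le_iff_mem]
    exact Ideal.mem_sup_right (Ideal.mul_mem_right _ _ (Ideal.mem_span_singleton_self a))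
  let π : (A ⧸ (I ⊔ Ideal.span {a * b})) →ₗ[A] (A ⧸ (I ⊔ Ideal.span {a})) :=
    Submodule.liftQ _ (Submodule.mkQ _) (by rw [Submodule.ker_mkQ]; exact hle)
  have hπmk : ∀ z : A, π (Submodule.Quotient.mk z) = Submodule.Quotient.mk z := fun z => rfl
  have hπ : Function.Surjective π := by
    intro y
    obtain ⟨z, rfl⟩ := Submodule.Quotient.mk_surjective _ y
    exact ⟨Submodule.Quotient.mk z, hπmk z⟩
  let μ : (A ⧸ (I ⊔ Ideal.span {b})) →ₗ[A] (A ⧸ (I ⊔ Ideal.span {a * b})) :=
    Submodule.liftQ _ ((Submodule.mkQ _).comp (LinearMap.lsmul A A a)) (by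
      intro x hx
      rw [LinearMap.mem_ker, LinearMap.comp_apply, LinearMap.lsmul_apply, Submodule.mkQ_apply,
        Submodule.Quotient.mk_eq_zero]
      obtain ⟨i, hi, y, hy, rfl⟩ := Submodule.mem_sup.1 hx
      obtain ⟨c, rfl⟩ := Ideal.mem_span_singleton'.1 hy
      rw [smul_add]
      refine Submodule.add_mem _ (Ideal.mem_sup_left (Ideal.mul_mem_left _ _ hi))
        (Ideal.mem_sup_right ?_)
      rw [Ideal.mem_span_singleton']
      exact ⟨c, by rw [smul_eq_mul]; ring⟩)
  have hμmk : ∀ z : A, μ (Submodule.Quotient.mk z) = Submodule.Quotient.mk (a * z) := fun z => rfl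
  have hker : LinearMap.ker π ≤ LinearMap.range μ := by
    intro y hy
    obtain ⟨z, rfl⟩ := Submodule.Quotient.mk_surjective _ y
    have hz : z ∈ I ⊔ Ideal.span {a} := by
      have h1 : π (Submodule.Quotient.mk z) = 0 := hy
      rw [hπmk, Submodule.Quotient.mk_eq_zero] at h1
      exact h1
    obtain ⟨i, hi, y', hy', rfl⟩ := Submodule.mem_sup.1 hz
    obtain ⟨c, rfl⟩ := Ideal.mem_span_singleton'.1 hy'
    refine ⟨Submodule.Quotient.mk c, ?_⟩
    rw [hμmk, eq_comm, ← sub_eq_zero, ← Submodule.Quotient.mk_sub, Submodule.Quotient.mk_eq_zero]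
    have h2 : i + c * a - a * c = i := by ring
    rw [h2]
    exact Ideal.mem_sup_left hi
  calc Module.length A (A ⧸ (I ⊔ Ideal.span {a * b}))
      = Module.length A (LinearMap.ker π) + Module.length A (A ⧸ (I ⊔ Ideal.span {a})) :=
        Module.length_eq_add_of_exact (LinearMap.ker π).subtype π (Submodule.subtype_injective _) hπ
          (LinearMap.exact_subtype_ker_map π)
    _ ≤ Module.length A (A ⧸ (I ⊔ Ideal.span {b})) +
          Module.length A (A ⧸ (I ⊔ Ideal.span {a})) := by
        gcongr
        calc Module.length A (LinearMap.ker π) ≤ Module.length A (LinearMap.range μ) :=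
              Module.length_le_of_injective (Submodule.inclusion hker)
                (Submodule.inclusion_injective hker)
          _ ≤ _ := Module.length_le_of_surjective μ.rangeRestrict μ.surjective_rangeRestrict
    _ = _ := add_comm _ _

lemma span_range_update {A : Type*} [CommRing A] {n : ℕ} (v : Fin n → A) (i : Fin n) (c : A) :
    Ideal.span (Set.range (Function.update v i c)) =
      Ideal.span (v '' {j | j ≠ i}) ⊔ Ideal.span {c} := by
  have : Set.range (Function.update v i c) = insert c (v '' {j | j ≠ i}) := by
    ext x
    constructor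
    · rintro ⟨j, rfl⟩
      by_cases hj : j = i
      · subst hj; left; simp
      · right; exact ⟨j, hj, by rw [Function.update_of_ne hj]⟩
    · rintro (rfl | ⟨j, hj, rfl⟩)
      · exact ⟨i, by simp⟩
      · exact ⟨j, by rw [Function.update_of_ne hj]⟩
  rw [this, Ideal.span_insert, sup_comm]

lemma length_update_mul_le {A : Type*} [CommRing A] {n : ℕ} (v : Fin n → A) (i : Fin n) (a b : A) :
    Module.length A (A ⧸ Ideal.span (Set.range (Function.update v i (a * b)))) ≤
      Module.length A (A ⧸ Ideal.span (Set.range (Function.update v i a))) +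
        Module.length A (A ⧸ Ideal.span (Set.range (Function.update v i b))) := by
  rw [span_range_update, span_range_update, span_range_update]
  exact length_mul_le _ a b

lemma length_update_prod_le {A : Type*} [CommRing A] {n : ℕ} {G : Type*} (v : Fin n → A) (i : Fin n)
    (f : G → A) (s : Finset G) :
    Module.length A (A ⧸ Ideal.span (Set.range (Function.update v i (∏ σ ∈ s, f σ)))) ≤
      ∑ σ ∈ s, Module.length A (A ⧸ Ideal.span (Set.range (Function.update v i (f σ)))) := by
  classical
  induction s using Finset.induction_on with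
  | empty =>
    rw [Finset.prod_empty, Finset.sum_empty]
    have htop : Ideal.span (Set.range (Function.update v i (1 : A))) = ⊤ := by
      rw [Ideal.eq_top_iff_one]
      exact Ideal.subset_span ⟨i, by simp⟩
    rw [htop]
    have : Subsingleton (A ⧸ (⊤ : Ideal A)) := Ideal.Quotient.subsingleton_iff.2 rfl
    rw [Module.length_eq_zero]
  | insert a s ha ih =>
    rw [Finset.prod_insert ha, Finset.sum_insert ha]
    exact (length_update_mul_le v i _ _).trans (add_le_add le_rfl ih)

/-- Let `A` be a regular local ring of Krull dimension `n` with maximal ideal `m`, let a finite group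
`G` of order `g` act on `A` by ring automorphisms, and let `u_1, …, u_n` be an admissible regular
system of parameters: for every choice `σ_1, …, σ_n ∈ G`, the elements `σ_1 u_1, …, σ_n u_n`
generate `m`. With `x_i = ∏_{σ ∈ G} σ u_i` the norms, the length of `A / (x_1, …, x_n)` is at most
`g ^ n`. (The published statement is for a complete regular local ring containing a `G`-fixed field
of representatives and asserts that the length equals `g ^ n`; this row states the upper bound for
any regular local ring.) -/
theorem result
    (A : Type u) [CommRing A] [IsRegularLocalRing A]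
    (G : Type v) [Group G] [Fintype G] [MulSemiringAction G A]
    (n : ℕ) (hn : ringKrullDim A = n) (u : Fin n → A)
    (hu : ∀ τ : Fin n → G,
      Ideal.span (Set.range fun i => τ i • u i) = IsLocalRing.maximalIdeal A) :
    Module.length A (A ⧸ Ideal.span (Set.range fun i => ∏ σ : G, σ • u i)) ≤
      (Fintype.card G ^ n : ℕ) := by
  classical
  have key : ∀ k : ℕ, k ≤ n → ∀ τ : Fin n → G,
      Module.length A (A ⧸ Ideal.span (Set.range fun i : Fin n =>
        if i.val < k then ∏ σ : G, σ • u i else τ i • u i)) ≤ ((Fintype.card G ^ k : ℕ) : ℕ∞) := by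
    intro k
    induction k with
    | zero =>
      intro _ τ
      have h0 : (fun i : Fin n => if i.val < 0 then ∏ σ : G, σ • u i else τ i • u i) =
          fun i => τ i • u i := by
        funext i; simp
      rw [h0, hu τ]
      have : IsSimpleModule A (A ⧸ IsLocalRing.maximalIdeal A) :=
        isSimpleModule_iff_isCoatom.2 (Ideal.isMaximal_def.1 inferInstance)
      rw [Module.length_eq_one]
      simp
    | succ k ih =>
      intro hk τ
      have hk' : k < n := hk
      have h1 : (fun i : Fin n => if i.val < k + 1 then ∏ σ : G, σ • u i else τ i • u i) =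
          Function.update (fun i : Fin n => if i.val < k then ∏ σ : G, σ • u i else τ i • u i)
            ⟨k, hk'⟩ (∏ σ ∈ (Finset.univ : Finset G), σ • u ⟨k, hk'⟩) := by
        funext i
        by_cases hi : i = ⟨k, hk'⟩
        · subst hi; simp
        · rw [Function.update_of_ne hi]
          have hne : i.val ≠ k := fun h => hi (Fin.ext h)
          by_cases hlt : i.val < k
          · rw [if_pos hlt, if_pos (by omega)]
          · rw [if_neg hlt, if_neg (by omega)]
      have h2 : ∀ σ : G,
          Function.update (fun i : Fin n => if i.val < k then ∏ σ : G, σ • u i else τ i • u i)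
            ⟨k, hk'⟩ (σ • u ⟨k, hk'⟩) =
          fun i : Fin n => if i.val < k then ∏ σ : G, σ • u i
            else (Function.update τ ⟨k, hk'⟩ σ) i • u i := by
        intro σ
        funext i
        by_cases hi : i = ⟨k, hk'⟩
        · subst hi; simp
        · rw [Function.update_of_ne hi, Function.update_of_ne hi]
      rw [h1]
      refine (length_update_prod_le _ ⟨k, hk'⟩ (fun σ => σ • u ⟨k, hk'⟩) Finset.univ).trans ?_
      calc ∑ σ : G, Module.length A (A ⧸ Ideal.span (Set.range (Function.update
              (fun i : Fin n => if i.val < k then ∏ σ : G, σ • u i else τ i • u i)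
              ⟨k, hk'⟩ (σ • u ⟨k, hk'⟩))))
          ≤ ∑ _σ : G, ((Fintype.card G ^ k : ℕ) : ℕ∞) := by
            refine Finset.sum_le_sum fun σ _ => ?_
            rw [h2 σ]
            exact ih (by omega) _
        _ = ((Fintype.card G ^ (k + 1) : ℕ) : ℕ∞) := by
            rw [Finset.sum_const, Finset.card_univ, nsmul_eq_mul, pow_succ]
            push_cast
            ring
  have hfin := key n le_rfl (fun _ => 1)
  have h3 : (fun i : Fin n => if i.val < n then ∏ σ : G, σ • u i else (1 : G) • u i) =
      fun i => ∏ σ : G, σ • u i := by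
    funext i; rw [if_pos i.isLt]
  rw [h3] at hfin
  exact hfin

end Groth.Agent.S15791
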