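import Groth.Statements.S15792
import Mathlib

set_option autoImplicit false
universe u v
open WildQuot

namespace Groth.Agent.S15792

section aux
variable {κ : Type u} [Field κ] (p : ℕ) [Fact p.Prime] [CharP κ p]
  {G : Type v} [Group G] [Finite G]

/-- a linear representation of a finite `p`-group on a nonzero vector space in characteristic `p`
has a nonzero fixed vector -/
theorem exists_fixed {U : Type u} [AddCommGroup U] [Module κ U] [Nontrivial U]
    (hG : IsPGroup p G) (ρ : Representation κ G U) :
    ∃ u : U, u ≠ 0 ∧ ∀ σ : G, ρ σ u = u := by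
  classical
  obtain ⟨u₀, hu₀⟩ := exists_ne (0 : U)
  letI : Algebra (ZMod p) κ := ZMod.algebra κ p
  letI : Module (ZMod p) U := Module.compHom U (algebraMap (ZMod p) κ)
  have hsmul : ∀ (c : ZMod p) (x : U), c • x = (algebraMap (ZMod p) κ c) • x := fun _ _ => rfl
  let S : Submodule (ZMod p) U := Submodule.span (ZMod p) (Set.range fun σ : G => ρ σ u₀)
  have hstab : ∀ (σ : G) (x : U), x ∈ S → ρ σ x ∈ S := by
    intro σ x hx
    induction hx using Submodule.span_induction with
    | mem x hx =>
      obtain ⟨τ, rfl⟩ := hx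
      refine Submodule.subset_span ⟨σ * τ, ?_⟩
      simp [map_mul]
    | zero => rw [map_zero]; exact Submodule.zero_mem _
    | add x y _ _ hx hy => rw [map_add]; exact Submodule.add_mem _ hx hy
    | smul c x _ hx =>
      rw [hsmul, map_smul, ← hsmul]
      exact Submodule.smul_mem _ _ hx
  haveI : Module.Finite (ZMod p) S := Module.Finite.span_of_finite _ (Set.finite_range _)
  haveI : Finite S := Module.finite_of_finite (ZMod p)
  letI : MulAction G S :=
    { smul := fun σ s => ⟨ρ σ s.1, hstab σ s.1 s.2⟩
      one_smul := fun s => Subtype.ext (by change ρ 1 s.1 = s.1; simp)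
      mul_smul := fun σ τ s => Subtype.ext (by change ρ (σ * τ) s.1 = ρ σ (ρ τ s.1); simp [map_mul]) }
  have hsm : ∀ (σ : G) (s : S), ((σ • s : S) : U) = ρ σ s.1 := fun _ _ => rfl
  have hmod := hG.card_modEq_card_fixedPoints (α := S)
  -- p divides the cardinality of S
  have hu₀S : u₀ ∈ S := Submodule.subset_span ⟨1, by simp⟩
  have hpS : p ∣ Nat.card S := by
    have hord : addOrderOf (⟨u₀, hu₀S⟩ : S) = p := by
      apply addOrderOf_eq_prime
      · apply Subtype.ext
        change p • u₀ = 0
        rw [← Nat.cast_smul_eq_nsmul (ZMod p), ZMod.natCast_self, zero_smul]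
      · intro h
        exact hu₀ (congrArg Subtype.val h)
    have := addOrderOf_dvd_natCard (⟨u₀, hu₀S⟩ : S)
    rwa [hord] at this
  have hpF : p ∣ Nat.card (MulAction.fixedPoints G S) := by
    have := (Nat.modEq_zero_iff_dvd.2 hpS).symm.trans hmod
    exact Nat.modEq_zero_iff_dvd.1 this.symm
  have h0 : (0 : S) ∈ MulAction.fixedPoints G S := by
    intro σ
    apply Subtype.ext
    rw [hsm]
    simp
  have hlt : 1 < Nat.card (MulAction.fixedPoints G S) := by
    have hpos : 0 < Nat.card (MulAction.fixedPoints G S) :=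
      Nat.card_pos_iff.2 ⟨⟨⟨0, h0⟩⟩, inferInstance⟩
    have := Nat.le_of_dvd hpos hpF
    have := (Fact.out : p.Prime).two_le
    omega
  haveI : Nontrivial (MulAction.fixedPoints G S) := Finite.one_lt_card_iff_nontrivial.1 hlt
  obtain ⟨w, hw⟩ := exists_ne (⟨0, h0⟩ : MulAction.fixedPoints G S)
  refine ⟨(w.1 : U), ?_, fun σ => ?_⟩
  · intro h
    apply hw
    apply Subtype.ext
    apply Subtype.ext
    exact h
  · have := w.2 σ
    exact congrArg Subtype.val this

/-- an invariant nonzero linear functional -/
theorem exists_inv_functional {V : Type u} [AddCommGroup V] [Module κ V] [FiniteDimensional κ V]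
    [Nontrivial V] (hG : IsPGroup p G) (ρ : Representation κ G V) :
    ∃ φ : Module.Dual κ V, φ ≠ 0 ∧ ∀ (σ : G) (x : V), φ (ρ σ x) = φ x := by
  haveI : Nontrivial (Module.Dual κ V) := by
    obtain ⟨x, hx⟩ := exists_ne (0 : V)
    obtain ⟨f, hf⟩ := (Module.forall_dual_apply_eq_zero_iff κ x).not.2 hx |> not_forall.1
    exact ⟨⟨f, 0, fun h => hf (by rw [h]; rfl)⟩⟩
  obtain ⟨φ, hφ0, hφ⟩ := exists_fixed p hG ρ.dual
  refine ⟨φ, hφ0, fun σ x => ?_⟩
  have := congrArg (fun ψ : Module.Dual κ V => ψ x) (hφ σ⁻¹)
  simpa [Module.Dual.transpose_apply] using this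

/-- restriction of a representation to an invariant subspace -/
def restr {V : Type u} [AddCommGroup V] [Module κ V] (ρ : Representation κ G V)
    (H : Submodule κ V) (hH : ∀ (σ : G) (x : V), x ∈ H → ρ σ x ∈ H) : Representation κ G H where
  toFun σ := (ρ σ).restrict (hH σ)
  map_one' := by
    ext x
    simp
  map_mul' σ τ := by
    ext x
    simp [map_mul]

/-- a full flag on which the group acts unipotently -/
theorem exists_flag (hG : IsPGroup p G) : ∀ (n : ℕ) (V : Type u) [AddCommGroup V] [Module κ V]
    [FiniteDimensional κ V] (ρ : Representation κ G V), Module.finrank κ V = n →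
    ∃ v : Fin n → V, Submodule.span κ (Set.range v) = ⊤ ∧
      ∀ (σ : G) (i : Fin n), ρ σ (v i) - v i ∈ Submodule.span κ (v '' {j | i < j}) := by
  intro n
  induction n with
  | zero =>
    intro V _ _ _ ρ hV
    haveI : Subsingleton V := Module.finrank_zero_iff.1 hV
    exact ⟨Fin.elim0, Subsingleton.elim _ _, fun σ i => i.elim0⟩
  | succ n ih =>
    intro V _ _ _ ρ hV
    haveI : Nontrivial V := Module.nontrivial_of_finrank_pos (R := κ) (by omega)
    obtain ⟨φ, hφ0, hφ⟩ := exists_inv_functional p hG ρ
    set H : Submodule κ V := LinearMap.ker φ with hH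
    have hHstab : ∀ (σ : G) (x : V), x ∈ H → ρ σ x ∈ H := by
      intro σ x hx
      rw [hH, LinearMap.mem_ker] at hx ⊢
      rw [hφ, hx]
    have hfr : Module.finrank κ H = n := by
      have := Module.Dual.finrank_ker_add_one_of_ne_zero hφ0
      rw [hH]
      omega
    obtain ⟨h, hspan, htri⟩ := ih H (restr ρ H hHstab) hfr
    obtain ⟨y, hy⟩ : ∃ y : V, φ y ≠ 0 := by
      by_contra hcon
      push Not at hcon
      exact hφ0 (LinearMap.ext hcon)
    have hHspan : ∀ x ∈ H, x ∈ Submodule.span κ (Set.range fun i => (h i : V)) := by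
      intro x hx
      have h1 : (⟨x, hx⟩ : H) ∈ Submodule.span κ (Set.range h) := by rw [hspan]; trivial
      have h2 : x ∈ Submodule.map H.subtype (Submodule.span κ (Set.range h)) := ⟨_, h1, rfl⟩
      rw [Submodule.map_span, ← Set.range_comp] at h2
      exact h2
    have hv0 : ∀ l : Fin n, (Fin.cons y (fun i => (h i : V)) : Fin (n + 1) → V) l.succ = (h l : V) :=
      fun l => by simp
    refine ⟨Fin.cons y (fun i => (h i : V)), ?_, ?_⟩
    · rw [eq_top_iff]
      intro z _
      have hz : z - (φ z / φ y) • y ∈ H := by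
        rw [hH, LinearMap.mem_ker, map_sub, map_smul, smul_eq_mul, div_mul_cancel₀ _ hy, sub_self]
      have hle : H ≤ Submodule.span κ (Set.range (Fin.cons y (fun i => (h i : V)) : Fin (n + 1) → V)) := by
        intro x hx
        refine Submodule.span_mono ?_ (hHspan x hx)
        rintro _ ⟨l, rfl⟩
        exact ⟨l.succ, hv0 l⟩
      have hy' : y ∈ Submodule.span κ (Set.range (Fin.cons y (fun i => (h i : V)) : Fin (n + 1) → V)) :=
        Submodule.subset_span ⟨0, by simp⟩
      have := Submodule.add_mem _ (hle hz) (Submodule.smul_mem _ (φ z / φ y) hy')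
      simpa using this
    · intro σ i
      refine Fin.cases ?_ (fun l => ?_) i
      · have h1 : ρ σ y - y ∈ H := by
          rw [hH, LinearMap.mem_ker, map_sub, hφ, sub_self]
        refine Submodule.span_mono ?_ (hHspan _ h1)
        rintro _ ⟨l, rfl⟩
        exact ⟨l.succ, Fin.succ_pos l, hv0 l⟩
      · rw [hv0]
        have h1 := htri σ l
        have h2 : ρ σ (h l : V) - (h l : V) ∈
            Submodule.map H.subtype (Submodule.span κ (h '' {j | l < j})) :=
          ⟨_, h1, rfl⟩
        rw [Submodule.map_span] at h2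
        refine Submodule.span_mono ?_ h2
        rintro _ ⟨_, ⟨j, hj, rfl⟩, rfl⟩
        exact ⟨j.succ, Fin.succ_lt_succ_iff.2 hj, hv0 j⟩

end aux

section main
open IsLocalRing

variable {A : Type u} [CommRing A] [IsLocalRing A] {G : Type v} [Group G] [MulSemiringAction G A]

theorem smul_mem_max (hres : ∀ (σ : G) (a : A), σ • a - a ∈ maximalIdeal A) (σ : G) {x : A}
    (hx : x ∈ maximalIdeal A) : σ • x ∈ maximalIdeal A := by
  have := Ideal.add_mem _ (hres σ x) hx
  simpa using this

/-- the map `x ↦ [σ x]` on the maximal ideal -/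
noncomputable def cotMap (hres : ∀ (σ : G) (a : A), σ • a - a ∈ maximalIdeal A) (σ : G) :
    maximalIdeal A →ₗ[A] CotangentSpace A where
  toFun x := (maximalIdeal A).toCotangent ⟨σ • (x : A), smul_mem_max hres σ x.2⟩
  map_add' x y := by
    rw [← map_add]
    congr 1
    ext
    simp [smul_add]
  map_smul' a x := by
    simp only [RingHom.id_apply]
    rw [← map_smul, Ideal.toCotangent_eq]
    have h1 : ((⟨σ • ((a • x : maximalIdeal A) : A), smul_mem_max hres σ (a • x).2⟩ :
        maximalIdeal A) : A) - ((a • (⟨σ • (x : A), smul_mem_max hres σ x.2⟩ : maximalIdeal A) :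
        maximalIdeal A) : A) = (σ • a - a) * (σ • (x : A)) := by
      simp only [Submodule.coe_smul, smul_eq_mul, smul_mul']
      ring
    rw [h1, pow_two]
    exact Ideal.mul_mem_mul (hres σ a) (smul_mem_max hres σ x.2)

theorem cotMap_mul (hres : ∀ (σ : G) (a : A), σ • a - a ∈ maximalIdeal A) (σ : G)
    (x y : maximalIdeal A) : cotMap hres σ (x * y) = 0 := by
  change (maximalIdeal A).toCotangent _ = 0
  rw [Ideal.toCotangent_eq_zero, pow_two]
  have : (σ • ((x * y : maximalIdeal A) : A)) = (σ • (x : A)) * (σ • (y : A)) := by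
    simp [smul_mul']
  change σ • ((x * y : maximalIdeal A) : A) ∈ _
  rw [this]
  exact Ideal.mul_mem_mul (smul_mem_max hres σ x.2) (smul_mem_max hres σ y.2)

/-- the induced `κ`-linear endomorphism of the cotangent space -/
noncomputable def cotEnd (hres : ∀ (σ : G) (a : A), σ • a - a ∈ maximalIdeal A) (σ : G) :
    CotangentSpace A →ₗ[ResidueField A] CotangentSpace A :=
  (Ideal.Cotangent.lift (cotMap hres σ) (cotMap_mul hres σ)).extendScalarsOfSurjective
    (IsLocalRing.residue_surjective (R := A))

theorem cotEnd_toCotangent (hres : ∀ (σ : G) (a : A), σ • a - a ∈ maximalIdeal A) (σ : G)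
    (x : maximalIdeal A) : cotEnd hres σ ((maximalIdeal A).toCotangent x) =
      (maximalIdeal A).toCotangent ⟨σ • (x : A), smul_mem_max hres σ x.2⟩ := rfl

/-- the representation on the cotangent space -/
noncomputable def cotRep (hres : ∀ (σ : G) (a : A), σ • a - a ∈ maximalIdeal A) :
    Representation (ResidueField A) G (CotangentSpace A) where
  toFun σ := cotEnd hres σ
  map_one' := by
    ext v
    obtain ⟨x, rfl⟩ := Ideal.toCotangent_surjective _ v
    rw [cotEnd_toCotangent]
    simp
  map_mul' σ τ := by
    ext v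
    obtain ⟨x, rfl⟩ := Ideal.toCotangent_surjective _ v
    rw [Module.End.mul_apply, cotEnd_toCotangent, cotEnd_toCotangent, cotEnd_toCotangent]
    simp [mul_smul]

theorem cotRep_toCotangent (hres : ∀ (σ : G) (a : A), σ • a - a ∈ maximalIdeal A) (σ : G)
    (x : maximalIdeal A) : cotRep hres σ ((maximalIdeal A).toCotangent x) =
      (maximalIdeal A).toCotangent ⟨σ • (x : A), smul_mem_max hres σ x.2⟩ := rfl


theorem charP_residue (p : ℕ) [Fact p.Prime] (A : Type u) [CommRing A] [IsLocalRing A] [CharP A p] :
    CharP (ResidueField A) p := by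
  obtain ⟨q, hq⟩ := CharP.exists (ResidueField A)
  have hdvd : q ∣ p := CharP.dvd_of_ringHom (IsLocalRing.residue A) p q
  have hq1 : q ≠ 1 := CharP.char_ne_one (ResidueField A) q
  have : q = p := ((Nat.dvd_prime (Fact.out : p.Prime)).1 hdvd).resolve_left hq1
  exact this ▸ hq

theorem main
    (p : ℕ) [Fact p.Prime] (A : Type u) [CommRing A] [IsRegularLocalRing A] [CharP A p]
    (G : Type v) [Group G] [Finite G] [MulSemiringAction G A] (hG : IsPGroup p G)
    (hres : ∀ (σ : G) (a : A), σ • a - a ∈ IsLocalRing.maximalIdeal A)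
    (n : ℕ) (hn : ringKrullDim A = n) :
    ∃ u : Fin n → A, ∀ τ : Fin n → G,
      Ideal.span (Set.range fun i => τ i • u i) = IsLocalRing.maximalIdeal A := by
  haveI : CharP (ResidueField A) p := charP_residue p A
  have hfr : Module.finrank (ResidueField A) (CotangentSpace A) = n := by
    have h1 := (IsRegularLocalRing.iff_finrank_cotangentSpace A).1 inferInstance
    rw [hn] at h1
    exact_mod_cast h1
  obtain ⟨v, hv, htri⟩ := exists_flag p hG n (CotangentSpace A) (cotRep hres) hfr
  choose u hu using fun i => Ideal.toCotangent_surjective _ (v i)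
  refine ⟨fun i => (u i : A), fun τ => ?_⟩
  obtain ⟨w, hwdef⟩ : ∃ w : Fin n → maximalIdeal A, ∀ i, (w i : A) = τ i • (u i : A) :=
    ⟨fun i => ⟨τ i • (u i : A), smul_mem_max hres (τ i) (u i).2⟩, fun i => rfl⟩
  have hw : ∀ i, (maximalIdeal A).toCotangent (w i) = cotRep hres (τ i) (v i) := by
    intro i
    rw [← hu i, cotRep_toCotangent]
    congr 1
    ext
    exact hwdef i
  obtain ⟨W, hWdef⟩ : ∃ W : Submodule (ResidueField A) (CotangentSpace A),
      W = Submodule.span (ResidueField A) (Set.range fun i => (maximalIdeal A).toCotangent (w i)) :=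
    ⟨_, rfl⟩
  have hwW : ∀ i, cotRep hres (τ i) (v i) ∈ W := by
    intro i
    rw [hWdef, ← hw i]
    exact Submodule.subset_span ⟨i, rfl⟩
  have hall : ∀ (k : ℕ) (i : Fin n), n - (i : ℕ) ≤ k → v i ∈ W := by
    intro k
    induction k with
    | zero =>
      intro i hi
      have := i.2
      omega
    | succ k ih =>
      intro i hi
      have h1 : cotRep hres (τ i) (v i) - v i ∈ W := by
        refine (Submodule.span_le.2 ?_) (htri (τ i) i)
        rintro _ ⟨j, hj, rfl⟩
        refine ih j ?_
        have : (i : ℕ) < j := hj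
        omega
      have := Submodule.sub_mem _ (hwW i) h1
      simpa using this
  have hW : W = ⊤ := by
    rw [eq_top_iff, ← hv, Submodule.span_le]
    rintro _ ⟨i, rfl⟩
    exact hall n i (by omega)
  have h2 : Submodule.span A (Set.range w) = ⊤ := by
    rw [← CotangentSpace.span_image_eq_top_iff, ← Set.range_comp, ← hW, hWdef]
    rfl
  have h3 := congrArg (Submodule.map (maximalIdeal A).subtype) h2
  rw [Submodule.map_span, Submodule.map_subtype_top, ← Set.range_comp] at h3
  refine Eq.trans ?_ h3
  change Submodule.span A _ = _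
  congr 2
  ext i
  exact (hwdef i).symm

end main

/-- Let `A` be a regular local ring of Krull dimension `n` and prime characteristic `p`, and let a
finite `p`-group `G` act on `A` by ring automorphisms inducing the identity on the residue field.
Then there is an admissible regular system of parameters: `u_1, …, u_n ∈ A` such that for every
choice `σ_1, …, σ_n ∈ G` the elements `σ_1 u_1, …, σ_n u_n` generate the maximal ideal. (The
published statement is for a complete regular local ring containing a field of representatives fixed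
by `G`; this row drops completeness and asks only that `G` act trivially on the residue field.) -/
theorem result
    (p : ℕ) [Fact p.Prime] (A : Type u) [CommRing A] [IsRegularLocalRing A] [CharP A p]
    (G : Type v) [Group G] [Finite G] [MulSemiringAction G A] (hG : IsPGroup p G)
    (hres : ∀ (σ : G) (a : A), σ • a - a ∈ IsLocalRing.maximalIdeal A)
    (n : ℕ) (hn : ringKrullDim A = n) :
    ∃ u : Fin n → A, ∀ τ : Fin n → G,
      Ideal.span (Set.range fun i => τ i • u i) = IsLocalRing.maximalIdeal A := by
  exact main p A G hG hres n hn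

end Groth.Agent.S15792
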