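import Groth.Statements.S15793
import Mathlib
import Groth.Agent.Lib.Lead.RLR1

set_option autoImplicit false
universe u v w
open WildQuot

namespace Groth.Agent.S15793

set_option linter.style.haveILetI false
set_option linter.unusedVariables false
set_option linter.unusedSectionVars false
open IsLocalRing

variable {A : Type u} [CommRing A] [IsLocalRing A]

/-- the key approximation step, abstractly: `B` a subring, with `A = B + 𝔪` and `𝔪 ⊆ B + 𝔪²`. -/
theorem approx_step (B : Subring A)
    (h0 : ∀ a : A, ∃ b ∈ B, a - b ∈ maximalIdeal A)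
    (h1 : ∀ g ∈ maximalIdeal A, ∃ b ∈ B, g - b ∈ maximalIdeal A ^ 2) :
    ∀ (N : ℕ), ∀ m ∈ maximalIdeal A ^ N, ∃ b ∈ B, m - b ∈ maximalIdeal A ^ (N + 1) := by
  intro N
  induction N with
  | zero =>
    intro m _
    obtain ⟨b, hb, hmb⟩ := h0 m
    exact ⟨b, hb, by simpa using hmb⟩
  | succ N ih =>
    intro m hm
    rw [pow_succ'] at hm
    refine Submodule.mul_induction_on hm ?_ ?_
    · intro g hg t ht
      obtain ⟨bg, hbg, hg'⟩ := h1 g hg
      obtain ⟨bt, hbt, ht'⟩ := ih t ht
      refine ⟨bg * bt, B.mul_mem hbg hbt, ?_⟩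
      have hbgm : bg ∈ maximalIdeal A := by
        have : bg = g - (g - bg) := by ring
        rw [this]
        exact Ideal.sub_mem _ hg (Ideal.pow_le_self (by norm_num) hg')
      have hbtm : bt ∈ maximalIdeal A ^ N := by
        have : bt = t - (t - bt) := by ring
        rw [this]
        exact Ideal.sub_mem _ ht (Ideal.pow_le_pow_right (Nat.le_succ N) ht')
      have e : g * t - bg * bt = bg * (t - bt) + (g - bg) * bt + (g - bg) * (t - bt) := by ring
      rw [e]
      have hpow : maximalIdeal A ^ (N + 1 + 1) = maximalIdeal A * maximalIdeal A ^ (N + 1) :=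
        pow_succ' _ _
      have hpow2 : maximalIdeal A ^ (N + 1 + 1) = maximalIdeal A ^ 2 * maximalIdeal A ^ N := by
        rw [← pow_add]; congr 1; omega
      refine Ideal.add_mem _ (Ideal.add_mem _ ?_ ?_) ?_
      · rw [hpow]; exact Ideal.mul_mem_mul hbgm ht'
      · rw [hpow2]; exact Ideal.mul_mem_mul hg' hbtm
      · rw [hpow]
        exact Ideal.mul_mem_mul (Ideal.pow_le_self (by norm_num) hg') ht'
    · intro x y ⟨bx, hbx, hx⟩ ⟨by', hby, hy⟩
      refine ⟨bx + by', B.add_mem hbx hby, ?_⟩
      have : x + y - (bx + by') = (x - bx) + (y - by') := by ring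
      rw [this]
      exact Ideal.add_mem _ hx hy

theorem approx (B : Subring A)
    (h0 : ∀ a : A, ∃ b ∈ B, a - b ∈ maximalIdeal A)
    (h1 : ∀ g ∈ maximalIdeal A, ∃ b ∈ B, g - b ∈ maximalIdeal A ^ 2) :
    ∀ (N : ℕ) (a : A), ∃ b ∈ B, a - b ∈ maximalIdeal A ^ N := by
  intro N
  induction N with
  | zero =>
    intro a
    exact ⟨0, B.zero_mem, by simp⟩
  | succ N ih =>
    intro a
    obtain ⟨b, hb, hab⟩ := ih a
    obtain ⟨b', hb', hab'⟩ := approx_step B h0 h1 N (a - b) hab
    refine ⟨b + b', B.add_mem hb hb', ?_⟩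
    have : a - (b + b') = a - b - b' := by ring
    rw [this]
    exact hab'


section Main

variable {G : Type w} [Group G] [MulSemiringAction G A]

theorem smul_mem_maximalIdeal (σ : G) {a : A} (ha : a ∈ maximalIdeal A) :
    σ • a ∈ maximalIdeal A := by
  rw [mem_maximalIdeal, mem_nonunits_iff] at ha ⊢
  intro hu
  apply ha
  have h1 : IsUnit (σ⁻¹ • (σ • a)) := by
    have := hu.map (MulSemiringAction.toRingHom G A σ⁻¹)
    exact this
  rwa [inv_smul_smul] at h1

theorem smul_mem_pow (σ : G) (N : ℕ) {a : A} (ha : a ∈ maximalIdeal A ^ N) :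
    σ • a ∈ maximalIdeal A ^ N := by
  have h1 : Ideal.map (MulSemiringAction.toRingHom G A σ) (maximalIdeal A) ≤ maximalIdeal A := by
    rw [Ideal.map_le_iff_le_comap]
    intro x hx
    exact smul_mem_maximalIdeal σ hx
  have h2 : Ideal.map (MulSemiringAction.toRingHom G A σ) (maximalIdeal A ^ N) ≤
      maximalIdeal A ^ N := by
    rw [Ideal.map_pow]
    exact Ideal.pow_right_mono h1 N
  exact h2 (Ideal.mem_map_of_mem _ ha)

/-- the subring of elements moved by `σ` within `J` -/
def fixSubring (σ : G) (J : Ideal A) : Subring A where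
  carrier := {a | σ • a - a ∈ J}
  mul_mem' {a b} ha hb := by
    show σ • (a * b) - a * b ∈ J
    have : σ • (a * b) - a * b = (σ • a) * (σ • b - b) + (σ • a - a) * b := by
      rw [smul_mul']; ring
    rw [this]
    exact Ideal.add_mem _ (Ideal.mul_mem_left _ _ hb) (Ideal.mul_mem_right _ _ ha)
  one_mem' := by
    show σ • (1 : A) - 1 ∈ J
    rw [smul_one, sub_self]; exact Ideal.zero_mem _
  add_mem' {a b} ha hb := by
    show σ • (a + b) - (a + b) ∈ J
    have : σ • (a + b) - (a + b) = (σ • a - a) + (σ • b - b) := by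
      rw [smul_add]; ring
    rw [this]
    exact Ideal.add_mem _ ha hb
  zero_mem' := by
    show σ • (0 : A) - 0 ∈ J
    rw [smul_zero, sub_self]; exact Ideal.zero_mem _
  neg_mem' {a} ha := by
    show σ • (-a) - (-a) ∈ J
    have : σ • (-a) - (-a) = -(σ • a - a) := by
      rw [smul_neg]; ring
    rw [this]
    exact J.neg_mem ha

theorem mem_fixSubring (σ : G) (J : Ideal A) (a : A) : a ∈ fixSubring σ J ↔ σ • a - a ∈ J :=
  Iff.rfl

end Main

theorem main (p : ℕ) [Fact p.Prime] (A : Type u) [CommRing A] [IsRegularLocalRing A]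
    (k : Type v) [Field k] [Algebra k A]
    (hk : Function.Surjective (IsLocalRing.residue A ∘ algebraMap k A))
    (G : Type w) [Group G] [Finite G] [MulSemiringAction G A] (hcard : Nat.card G = p)
    (hGk : ∀ (σ : G) (c : k), σ • algebraMap k A c = algebraMap k A c)
    (hram : ∀ P : Ideal A, P.IsPrime → P ≠ IsLocalRing.maximalIdeal A → P.inertia G = ⊥)
    (v : A) (hv : v ∈ IsLocalRing.maximalIdeal A) (hv2 : v ∉ IsLocalRing.maximalIdeal A ^ 2) :
    ∃ σ : G, σ • v ≠ v := by
  by_contra hcon
  push Not at hcon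
  have hG : 1 < Nat.card G := hcard ▸ (Fact.out : p.Prime).one_lt
  haveI : Nontrivial G := Finite.one_lt_card_iff_nontrivial.mp hG
  obtain ⟨σ, hσ⟩ : ∃ σ : G, σ ≠ 1 := exists_ne 1
  obtain ⟨n, y, hn, hspan⟩ := Groth.Agent.Lead.RLR.exists_generators_of_notMem_sq hv hv2
  have hy : ∀ i, y i ∈ maximalIdeal A := by
    intro i
    rw [← hspan]
    exact Ideal.subset_span (Set.mem_insert_of_mem _ ⟨i, rfl⟩)
  let J : Ideal A := Ideal.span (Set.range fun i => σ • y i - y i)
  have hJm : J ≤ maximalIdeal A := by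
    rw [Ideal.span_le]
    rintro _ ⟨i, rfl⟩
    exact Ideal.sub_mem _ (smul_mem_maximalIdeal σ (hy i)) (hy i)
  have hJtop : J ≠ ⊤ := fun h => (maximalIdeal.isMaximal A).ne_top (top_le_iff.mp (h ▸ hJm))
  -- a minimal prime over J
  obtain ⟨⟨P, hP⟩⟩ := Ideal.nonempty_minimalPrimes hJtop
  have hPprime : P.IsPrime := hP.1.1
  have hJP : J ≤ P := hP.1.2
  have hht : P.height ≤ n := by
    have h1 := Ideal.height_le_card_of_mem_minimalPrimes_span (Set.finite_range _) hP
    refine h1.trans ?_
    exact_mod_cast Groth.Agent.Lead.RLR.ncard_range_le _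
  have hdim : ringKrullDim A = (n + 1 : ℕ) := by
    rw [← IsRegularLocalRing.spanFinrank_maximalIdeal, hn]
  have hPne : P ≠ maximalIdeal A := by
    intro hPm
    have h2 : ((maximalIdeal A).height : WithBot ℕ∞) = ringKrullDim A :=
      IsLocalRing.maximalIdeal_height_eq_ringKrullDim
    rw [hdim, ← hPm] at h2
    have h3 : (P.height : WithBot ℕ∞) ≤ (n : ℕ∞) := by exact_mod_cast hht
    rw [h2] at h3
    have h4 : ((n + 1 : ℕ) : ℕ∞) ≤ (n : ℕ∞) := by exact_mod_cast h3
    have h5 : (n + 1 : ℕ) ≤ n := by exact_mod_cast h4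
    omega
  -- the subring B
  let B := fixSubring σ J
  have hkB : ∀ c : k, algebraMap k A c ∈ B := by
    intro c
    show σ • algebraMap k A c - algebraMap k A c ∈ J
    rw [hGk, sub_self]; exact Ideal.zero_mem _
  have hvB : v ∈ B := by
    show σ • v - v ∈ J
    rw [hcon, sub_self]; exact Ideal.zero_mem _
  have hyB : ∀ i, y i ∈ B := fun i => Ideal.subset_span ⟨i, rfl⟩
  have h0 : ∀ a : A, ∃ b ∈ B, a - b ∈ maximalIdeal A := by
    intro a
    obtain ⟨c, hc⟩ := hk (IsLocalRing.residue A a)
    refine ⟨algebraMap k A c, hkB c, ?_⟩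
    rw [← Ideal.Quotient.eq_zero_iff_mem (I := maximalIdeal A)]
    have : IsLocalRing.residue A (algebraMap k A c) = IsLocalRing.residue A a := hc
    show IsLocalRing.residue A (a - algebraMap k A c) = 0
    rw [map_sub, this, sub_self]
  have h1 : ∀ g ∈ maximalIdeal A, ∃ b ∈ B, g - b ∈ maximalIdeal A ^ 2 := by
    intro g hg
    rw [← hspan] at hg
    induction hg using Submodule.span_induction with
    | mem s hs =>
      refine ⟨s, ?_, by rw [sub_self]; exact Ideal.zero_mem _⟩
      rcases hs with rfl | ⟨i, rfl⟩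
      · exact hvB
      · exact hyB i
    | zero => exact ⟨0, B.zero_mem, by rw [sub_self]; exact Ideal.zero_mem _⟩
    | add x z _ _ hx hz =>
      obtain ⟨bx, hbx, hx'⟩ := hx
      obtain ⟨bz, hbz, hz'⟩ := hz
      refine ⟨bx + bz, B.add_mem hbx hbz, ?_⟩
      have : x + z - (bx + bz) = (x - bx) + (z - bz) := by ring
      rw [this]
      exact Ideal.add_mem _ hx' hz'
    | smul a x hxs hx =>
      obtain ⟨bx, hbx, hx'⟩ := hx
      obtain ⟨c, hc, hac⟩ := h0 a
      have hxm : x ∈ maximalIdeal A := by
        rw [← hspan]; exact hxs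
      have hbxm : bx ∈ maximalIdeal A := by
        have : bx = x - (x - bx) := by ring
        rw [this]
        exact Ideal.sub_mem _ hxm (Ideal.pow_le_self (by norm_num) hx')
      refine ⟨c * bx, B.mul_mem hc hbx, ?_⟩
      have : a • x - c * bx = (a - c) * bx + a * (x - bx) := by
        rw [smul_eq_mul]; ring
      rw [this]
      refine Ideal.add_mem _ ?_ (Ideal.mul_mem_left _ _ hx')
      rw [pow_two]
      exact Ideal.mul_mem_mul hac hbxm
  have happ := approx B h0 h1
  -- every σ a - a lies in J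
  have hall : ∀ a : A, σ • a - a ∈ J := by
    intro a
    have hmem : ∀ N : ℕ, σ • a - a ∈ J ⊔ maximalIdeal A ^ N := by
      intro N
      obtain ⟨b, hb, hab⟩ := happ N a
      have : σ • a - a = (σ • b - b) + (σ • (a - b) - (a - b)) := by
        rw [smul_sub]; ring
      rw [this]
      exact Ideal.add_mem _ (Ideal.mem_sup_left hb)
        (Ideal.mem_sup_right (Ideal.sub_mem _ (smul_mem_pow σ N hab) hab))
    have hK : (⨅ i : ℕ, maximalIdeal A ^ i • ⊤ : Submodule A (A ⧸ J)) = ⊥ :=
      Ideal.iInf_pow_smul_eq_bot_of_isLocalRing _ (maximalIdeal.isMaximal A).ne_top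
    have hq : (Ideal.Quotient.mk J (σ • a - a) : A ⧸ J) ∈
        (⨅ i : ℕ, maximalIdeal A ^ i • ⊤ : Submodule A (A ⧸ J)) := by
      rw [Submodule.mem_iInf]
      intro N
      obtain ⟨j, hj, m, hm, hjm⟩ := Submodule.mem_sup.mp (hmem N)
      rw [← hjm, map_add, Ideal.Quotient.eq_zero_iff_mem.mpr hj, zero_add]
      have : (Ideal.Quotient.mk J m : A ⧸ J) = m • (1 : A ⧸ J) := by
        rw [Algebra.smul_def, mul_one]; rfl
      rw [this]
      exact Submodule.smul_mem_smul hm Submodule.mem_top
    rw [hK, Submodule.mem_bot] at hq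
    exact Ideal.Quotient.eq_zero_iff_mem.mp hq
  have hin : σ ∈ P.inertia G := fun a => hJP (hall a)
  rw [hram P hPprime hPne, Subgroup.mem_bot] at hin
  exact hσ hin

/-- Let `A` be a complete regular local ring of Krull dimension at least `2` and prime characteristic
`p`, with maximal ideal `m`; let `k` be a field with a ring map `k → A` whose composite with `A →
A/m` is onto (a field of representatives); let `G` be a group of order `p` acting on `A` by ring
automorphisms that fix the image of `k`, ramified precisely at the origin: for every prime `P ≠ m`,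
the inertia subgroup of `P` (the elements of `G` fixing every element of `A` modulo `P`) is trivial.
Then no element of `m` outside `m ^ 2` is fixed by every element of `G`; in particular the action is
not linear in any regular system of parameters. -/
theorem result
    (p : ℕ) [Fact p.Prime] (A : Type u) [CommRing A] [IsRegularLocalRing A] [CharP A p]
    [IsAdicComplete (IsLocalRing.maximalIdeal A) A] (hdim : 2 ≤ ringKrullDim A)
    (k : Type v) [Field k] [Algebra k A]
    (hk : Function.Surjective (IsLocalRing.residue A ∘ algebraMap k A))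
    (G : Type w) [Group G] [Finite G] [MulSemiringAction G A] (hcard : Nat.card G = p)
    (hGk : ∀ (σ : G) (c : k), σ • algebraMap k A c = algebraMap k A c)
    (hram : ∀ P : Ideal A, P.IsPrime → P ≠ IsLocalRing.maximalIdeal A → P.inertia G = ⊥)
    (v : A) (hv : v ∈ IsLocalRing.maximalIdeal A) (hv2 : v ∉ IsLocalRing.maximalIdeal A ^ 2) :
    ∃ σ : G, σ • v ≠ v := by
  exact main p A k hk G hcard hGk hram v hv hv2

end Groth.Agent.S15793
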