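import Groth.Statements.S15795
import Mathlib

set_option autoImplicit false
universe u v
open WildQuot

namespace Groth.Agent.S15795

/-- Let `A` be a regular local ring of Krull dimension `n` with maximal ideal `m`, let a finite group
`G` act on `A` by ring automorphisms inducing the identity on the residue field, and let `u_1, …,
u_n` generate `m`. Suppose that for every `σ ∈ G` and every `i`, `σ u_i ∈ (u_1, …, u_i) + m ^ 2`,
i.e. the induced linear maps of `m / m ^ 2` are upper triangular in the basis given by the `u_i`.
Then the system `u` is admissible: for every choice `σ_1, …, σ_n ∈ G` the elements `σ_1 u_1, …, σ_n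
u_n` generate `m`. (The published statement is for a complete regular local ring containing a
`G`-fixed field of representatives; this row drops completeness and asks only that `G` act trivially
on the residue field.) -/
theorem result
    (A : Type u) [CommRing A] [IsRegularLocalRing A]
    (G : Type v) [Group G] [Finite G] [MulSemiringAction G A]
    (hres : ∀ (σ : G) (a : A), σ • a - a ∈ IsLocalRing.maximalIdeal A)
    (n : ℕ) (hn : ringKrullDim A = n) (u : Fin n → A)
    (hu : Ideal.span (Set.range u) = IsLocalRing.maximalIdeal A)
    (htri : ∀ (σ : G) (i : Fin n),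
      σ • u i ∈ Ideal.span (u '' {j | j ≤ i}) ⊔ IsLocalRing.maximalIdeal A ^ 2) :
    ∀ τ : Fin n → G,
      Ideal.span (Set.range fun i => τ i • u i) = IsLocalRing.maximalIdeal A := by
  intro τ
  set m := IsLocalRing.maximalIdeal A with hm
  have hfg : m.FG := IsNoetherian.noetherian m
  have hjac : m ≤ Ideal.jacobson ⊥ := IsLocalRing.maximalIdeal_le_jacobson ⊥
  have nak : ∀ S : Set A, m ≤ Ideal.span S ⊔ m ^ 2 → m ≤ Ideal.span S := by
    intro S h
    apply Submodule.le_of_le_smul_of_le_jacobson_bot hfg hjac
    rwa [smul_eq_mul, ← pow_two]
  have hm2 : m ^ 2 ≤ m := Ideal.pow_le_self (by norm_num)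
  have hσm : ∀ (σ : G) a, a ∈ m → σ • a ∈ m := fun σ a ha => by
    have := Ideal.add_mem _ (hres σ a) ha
    simpa using this
  have hσm2 : ∀ (σ : G) a, a ∈ m ^ 2 → σ • a ∈ m ^ 2 := by
    intro σ a ha
    have h1 : m ≤ Ideal.comap (MulSemiringAction.toRingHom G A σ) m := fun x hx => by
      simpa using hσm σ x hx
    have h2 := (Ideal.pow_right_mono h1 2).trans (Ideal.le_comap_pow _ 2)
    have := h2 ha
    simpa using this
  let W : ℕ → Ideal A := fun k => Ideal.span (u '' {j | j.val < k}) ⊔ m ^ 2
  have hWstab : ∀ k (σ : G) x, x ∈ W k → σ • x ∈ W k := by
    intro k σ x hx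
    have hle : W k ≤ Ideal.comap (MulSemiringAction.toRingHom G A σ) (W k) := by
      apply sup_le
      · rw [Ideal.span_le]
        rintro _ ⟨j, hj, rfl⟩
        show MulSemiringAction.toRingHom G A σ (u j) ∈ W k
        rw [MulSemiringAction.toRingHom_apply]
        have := htri σ j
        have hmono : Ideal.span (u '' {j' | j' ≤ j}) ⊔ m ^ 2 ≤ W k := by
          refine sup_le_sup_right (Ideal.span_mono ?_) _
          rintro _ ⟨j', hj', rfl⟩
          refine ⟨j', ?_, rfl⟩
          have h1 : j' ≤ j := hj'
          have h2 : j.val < k := hj
          show j'.val < k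
          exact lt_of_le_of_lt h1 h2
        exact hmono this
      · intro x hx
        show MulSemiringAction.toRingHom G A σ x ∈ W k
        rw [MulSemiringAction.toRingHom_apply]
        exact Ideal.mem_sup_right (hσm2 σ x hx)
    have := hle hx
    simpa using this
  let T : ℕ → Ideal A := fun k => Ideal.span ((fun i => τ i • u i) '' {j | j.val < k}) ⊔ m ^ 2
  have key : ∀ k ≤ n, T k = W k := by
    intro k
    induction k with
    | zero => intro _; simp [T, W]
    | succ k ih =>
      intro hk
      have ih' := ih (by omega)
      let i : Fin n := ⟨k, by omega⟩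
      have hset : {j : Fin n | j.val < k + 1} = insert i {j | j.val < k} := by
        ext j
        simp only [Set.mem_ofPred_eq, Set.mem_insert_iff, Fin.ext_iff, i]
        omega
      have hW : W (k + 1) = W k ⊔ Ideal.span {u i} := by
        simp only [W, hset, Set.image_insert_eq, Ideal.span_insert]
        rw [sup_comm (Ideal.span {u i}), sup_assoc, sup_assoc, sup_comm (Ideal.span {u i})]
      have hT : T (k + 1) = W k ⊔ Ideal.span {τ i • u i} := by
        rw [← ih']
        simp only [T, hset, Set.image_insert_eq, Ideal.span_insert]
        rw [sup_comm (Ideal.span {τ i • u i}), sup_assoc, sup_assoc,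
          sup_comm (Ideal.span {τ i • u i})]
      have hmem : τ i • u i ∈ W (k + 1) := by
        have := htri (τ i) i
        have hset2 : {j : Fin n | j ≤ i} = {j : Fin n | j.val < k + 1} := by
          ext j
          simp only [Set.mem_ofPred_eq, Fin.le_def, i]
          omega
        rw [hset2] at this
        exact this
      rw [hT, hW]
      apply le_antisymm
      · apply sup_le le_sup_left
        rw [Ideal.span_le, Set.singleton_subset_iff, ← hW]
        exact hmem
      · apply sup_le le_sup_left
        rw [Ideal.span_le, Set.singleton_subset_iff]
        rw [hW, Submodule.mem_sup] at hmem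
        obtain ⟨w, hw, z, hz, hwz⟩ := hmem
        rw [Ideal.mem_span_singleton'] at hz
        obtain ⟨c, rfl⟩ := hz
        by_cases hc : IsUnit c
        · obtain ⟨c', rfl⟩ := hc
          have : u i = ((c'⁻¹ : Aˣ) : A) * (τ i • u i) - ((c'⁻¹ : Aˣ) : A) * w := by
            rw [← hwz]
            have h1 : ((c'⁻¹ : Aˣ) : A) * (c' : A) = 1 := by simp
            linear_combination (-(u i)) * h1
          show u i ∈ W k ⊔ Ideal.span {τ i • u i}
          have hx : ((c'⁻¹ : Aˣ) : A) * (τ i • u i) - ((c'⁻¹ : Aˣ) : A) * w ∈
              W k ⊔ Ideal.span {τ i • u i} := by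
            apply Ideal.sub_mem
            · exact Ideal.mem_sup_right (Ideal.mul_mem_left _ _ (Ideal.mem_span_singleton_self _))
            · exact Ideal.mem_sup_left (Ideal.mul_mem_left _ _ hw)
          rwa [← this] at hx
        · exfalso
          have hcm : c ∈ m := hc
          have hui : u i ∈ m := by rw [← hu]; exact Ideal.subset_span ⟨i, rfl⟩
          have h1 : τ i • u i ∈ W k := by
            rw [← hwz]
            apply Ideal.add_mem _ hw
            apply Ideal.mem_sup_right
            rw [pow_two]
            exact Ideal.mul_mem_mul hcm hui
          have h2 : u i ∈ W k := by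
            have := hWstab k (τ i)⁻¹ _ h1
            simpa using this
          -- m generated by n - 1 elements
          have h3 : m ≤ Ideal.span (u '' {j | j ≠ i}) ⊔ m ^ 2 := by
            have h3' : Ideal.span (Set.range u) ≤ Ideal.span (u '' {j | j ≠ i}) ⊔ m ^ 2 := by
              rw [Ideal.span_le]
              rintro _ ⟨j, rfl⟩
              by_cases hji : j = i
              · rw [hji]
                have hmono : W k ≤ Ideal.span (u '' {j | j ≠ i}) ⊔ m ^ 2 := by
                  refine sup_le_sup_right (Ideal.span_mono ?_) _
                  rintro _ ⟨j', hj', rfl⟩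
                  refine ⟨j', ?_, rfl⟩
                  have : j'.val < k := hj'
                  intro h
                  rw [h] at this
                  simp [i] at this
                exact hmono h2
              · exact Ideal.mem_sup_left (Ideal.subset_span ⟨j, hji, rfl⟩)
            rwa [hu] at h3'
          have h4 : m = Ideal.span (u '' {j | j ≠ i}) := by
            apply le_antisymm (nak _ h3)
            rw [← hu]
            exact Ideal.span_mono (Set.image_subset_range _ _)
          have h5 : (Submodule.spanFinrank m : WithBot ℕ∞) = n := by
            rw [← hn]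
            exact IsRegularLocalRing.spanFinrank_maximalIdeal
          have h6 : Submodule.spanFinrank m ≤ n - 1 := by
            rw [h4]
            have hfin : (u '' {j | j ≠ i}).Finite := Set.toFinite _
            refine (Submodule.spanFinrank_span_le_ncard_of_finite hfin).trans ?_
            refine (Set.ncard_image_le (Set.toFinite _)).trans ?_
            have : {j : Fin n | j ≠ i} = ({i} : Set (Fin n))ᶜ := by
              ext j; simp
            rw [this, Set.ncard_compl, Set.ncard_singleton]
            simp
          have h7 : Submodule.spanFinrank m = n := by exact_mod_cast h5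
          omega
  have hfinal := key n le_rfl
  have hall : {j : Fin n | j.val < n} = Set.univ := by
    ext j; simp
  simp only [T, W, hall, Set.image_univ] at hfinal
  rw [hu] at hfinal
  have hle : Ideal.span (Set.range fun i => τ i • u i) ≤ m := by
    rw [Ideal.span_le]
    rintro _ ⟨i, rfl⟩
    apply hσm
    rw [← hu]; exact Ideal.subset_span ⟨i, rfl⟩
  apply le_antisymm hle
  apply nak
  rw [hfinal]
  exact le_sup_left

end Groth.Agent.S15795
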