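import Groth.Statements.S15797
import Groth.Agent.Lib.Helper17.RP1
import Groth.Agent.Lib.Helper9.RegLocExt

set_option autoImplicit false
universe u v
open WildQuot

namespace Groth.Agent.S15797

set_option linter.style.haveILetI false
set_option linter.unusedVariables false
set_option linter.unusedSectionVars false
open IsLocalRing
set_option linter.unusedVariables false
set_option linter.unusedSectionVars false
set_option linter.style.haveILetI false

section Split
variable {A : Type u} [CommRing A]

theorem length_split (I : Ideal A) (a b : A) (hreg : ∀ y, a * y ∈ I → y ∈ I) :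
    Module.length A (A ⧸ (I ⊔ Ideal.span {a * b})) =
      Module.length A (A ⧸ (I ⊔ Ideal.span {b})) +
        Module.length A (A ⧸ (I ⊔ Ideal.span {a})) := by
  have hle1 : I ⊔ Ideal.span {b} ≤
      Submodule.comap (LinearMap.mulLeft A a) (I ⊔ Ideal.span {a * b}) := by
    intro y hy
    rw [Submodule.mem_comap, LinearMap.mulLeft_apply]
    obtain ⟨p, hp, q, hq, rfl⟩ := Submodule.mem_sup.1 hy
    obtain ⟨r, rfl⟩ := Ideal.mem_span_singleton'.1 hq
    rw [mul_add]
    refine Submodule.add_mem _ (Ideal.mem_sup_left (I.mul_mem_left _ hp)) (Ideal.mem_sup_right ?_)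
    rw [Ideal.mem_span_singleton']
    exact ⟨r, by ring⟩
  have hle2 : I ⊔ Ideal.span {a * b} ≤
      Submodule.comap (LinearMap.id : A →ₗ[A] A) (I ⊔ Ideal.span {a}) := by
    rw [Submodule.comap_id]
    refine sup_le_sup le_rfl ?_
    rw [Ideal.span_singleton_le_span_singleton]
    exact Dvd.intro _ rfl
  refine Module.length_eq_add_of_exact
    (Submodule.mapQ (I ⊔ Ideal.span {b}) (I ⊔ Ideal.span {a * b}) (LinearMap.mulLeft A a) hle1)
    (Submodule.mapQ (I ⊔ Ideal.span {a * b}) (I ⊔ Ideal.span {a}) LinearMap.id hle2) ?_ ?_ ?_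
  · rw [← LinearMap.ker_eq_bot, LinearMap.ker_eq_bot']
    intro y hy
    obtain ⟨y, rfl⟩ := Submodule.Quotient.mk_surjective _ y
    rw [Submodule.mapQ_apply, Submodule.Quotient.mk_eq_zero, LinearMap.mulLeft_apply] at hy
    rw [Submodule.Quotient.mk_eq_zero]
    obtain ⟨p, hp, q, hq, hpq⟩ := Submodule.mem_sup.1 hy
    obtain ⟨r, rfl⟩ := Ideal.mem_span_singleton'.1 hq
    have h1 : a * (y - r * b) ∈ I := by
      have : a * (y - r * b) = p := by rw [mul_sub, ← hpq]; ring
      rw [this]; exact hp
    have h2 := hreg _ h1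
    have h3 : y = (y - r * b) + r * b := by ring
    rw [h3]
    exact Submodule.add_mem _ (Ideal.mem_sup_left h2)
      (Ideal.mem_sup_right (Ideal.mem_span_singleton'.2 ⟨r, rfl⟩))
  · intro y
    obtain ⟨y, rfl⟩ := Submodule.Quotient.mk_surjective _ y
    exact ⟨Submodule.Quotient.mk y, rfl⟩
  · intro y
    obtain ⟨y, rfl⟩ := Submodule.Quotient.mk_surjective _ y
    constructor
    · intro hy
      rw [Submodule.mapQ_apply, LinearMap.id_apply, Submodule.Quotient.mk_eq_zero] at hy
      obtain ⟨p, hp, q, hq, rfl⟩ := Submodule.mem_sup.1 hy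
      obtain ⟨r, rfl⟩ := Ideal.mem_span_singleton'.1 hq
      refine ⟨Submodule.Quotient.mk r, ?_⟩
      rw [Submodule.mapQ_apply, LinearMap.mulLeft_apply, ← sub_eq_zero,
        ← Submodule.Quotient.mk_sub, Submodule.Quotient.mk_eq_zero]
      have h1 : a * r - (p + r * a) = -p := by ring
      rw [h1]
      exact Ideal.mem_sup_left (I.neg_mem hp)
    · rintro ⟨z, hz⟩
      obtain ⟨z, rfl⟩ := Submodule.Quotient.mk_surjective _ z
      rw [← hz, Submodule.mapQ_apply, Submodule.mapQ_apply, LinearMap.id_apply,
        Submodule.Quotient.mk_eq_zero, LinearMap.mulLeft_apply]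
      exact Ideal.mem_sup_right (Ideal.mem_span_singleton'.2 ⟨z, mul_comm _ _⟩)

theorem span_update {n : ℕ} (x : Fin n → A) (i : Fin n) (y : A) :
    Ideal.span (Set.range (Function.update x i y)) =
      Ideal.span (x '' {j | j ≠ i}) ⊔ Ideal.span {y} := by
  rw [← Ideal.span_union]
  congr 1
  ext z
  constructor
  · rintro ⟨j, rfl⟩
    by_cases hj : j = i
    · subst hj
      right
      simp
    · left
      exact ⟨j, hj, by rw [Function.update_of_ne hj]⟩
  · rintro (⟨j, hj, rfl⟩ | hz)
    · exact ⟨j, by rw [Function.update_of_ne hj]⟩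
    · rw [Set.mem_singleton_iff] at hz
      subst hz
      exact ⟨i, by simp⟩

end Split

section Main
variable (A : Type u) [CommRing A] [IsRegularLocalRing A]
    (G : Type v) [Group G] [Fintype G] [MulSemiringAction G A]
    (n : ℕ) (hn : ringKrullDim A = n) (u : Fin n → A)
    (hu : Ideal.span (Set.range u) = IsLocalRing.maximalIdeal A)
    (hwa : ∀ τ : Fin n → G,
      IsLocalRing.maximalIdeal A ≤ (Ideal.span (Set.range fun i => τ i • u i)).radical)

include hu in
theorem smul_mem_max (σ : G) (i : Fin n) : σ • u i ∈ maximalIdeal A := by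
  have h1 : u i ∈ maximalIdeal A := by
    rw [← hu]
    exact Ideal.subset_span ⟨i, rfl⟩
  rw [IsLocalRing.mem_maximalIdeal, mem_nonunits_iff] at h1 ⊢
  intro h
  apply h1
  have h2 := h.map (MulSemiringAction.toRingHom G A σ⁻¹)
  rwa [MulSemiringAction.toRingHom_apply, inv_smul_smul] at h2

include hn in
theorem reg_of_rad (x : Fin n → A) (i : Fin n) (a : A)
    (hx : ∀ j, j ≠ i → x j ∈ maximalIdeal A) (ha : a ∈ maximalIdeal A)
    (hrad : maximalIdeal A ≤ (Ideal.span (x '' {j | j ≠ i}) ⊔ Ideal.span {a}).radical) :
    ∀ y, a * y ∈ Ideal.span (x '' {j | j ≠ i}) → y ∈ Ideal.span (x '' {j | j ≠ i}) := by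
  classical
  set rs : List A := ((Finset.univ.erase i).toList).map x with hrs
  have hset : {r | r ∈ rs} = x '' {j | j ≠ i} := by
    ext z
    simp [hrs]
  have hlen : rs.length + 1 = n := by
    rw [hrs, List.length_map, Finset.length_toList, Finset.card_erase_of_mem (Finset.mem_univ i),
      Finset.card_fin]
    have := i.pos
    omega
  intro y hy
  have hI : Ideal.ofList rs = Ideal.span (x '' {j | j ≠ i}) := by
    unfold Ideal.ofList
    rw [hset]
  rw [← hI] at hy ⊢
  refine Groth.Agent.Helper17.RP.mem_ofList_of_mul_mem Groth.Agent.Helper9.RegLocExt.isCM_self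
    rs a ?_ ha ?_ ?_ y hy
  · intro r hr
    have hr' : r ∈ x '' {j | j ≠ i} := by
      rw [← hset]
      exact hr
    obtain ⟨j, hj, rfl⟩ := hr'
    exact hx j hj
  · rw [hlen, hn]
  · rw [Ideal.ofList_append, Ideal.ofList_singleton, hI]
    exact hrad

/-- the partial norms -/
noncomputable def xS (S : Fin n → Finset G) (i : Fin n) : A := ∏ σ ∈ S i, σ • u i

include hn hu hwa in
theorem main_aux : ∀ (N : ℕ) (S : Fin n → Finset G), ∑ i, (S i).card ≤ N →
    ((∏ i, (S i).card : ℕ) : ℕ∞) ≤
      Module.length A (A ⧸ Ideal.span (Set.range (xS A G n u S))) := by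
  classical
  intro N
  induction N using Nat.strong_induction_on with
  | _ N ih =>
  intro S hS
  by_cases hA : ∃ i, S i = ∅
  · obtain ⟨i, hi⟩ := hA
    have h0 : ∏ i, (S i).card = 0 :=
      Finset.prod_eq_zero (Finset.mem_univ i) (by rw [hi, Finset.card_empty])
    rw [h0]
    exact zero_le
  push Not at hA
  have hne : ∀ i, (S i).Nonempty := fun i => hA i
  have hxmem : ∀ j, xS A G n u S j ∈ maximalIdeal A := by
    intro j
    obtain ⟨σ, hσ⟩ := hne j
    exact Ideal.prod_mem _ hσ (smul_mem_max A G n u hu σ j)
  by_cases hC : ∃ i, 2 ≤ (S i).card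
  · obtain ⟨i, hi⟩ := hC
    obtain ⟨σ, hσ⟩ := hne i
    set T := (S i).erase σ with hT
    have hTcard : T.card = (S i).card - 1 := Finset.card_erase_of_mem hσ
    set S1 := Function.update S i {σ} with hS1
    set S2 := Function.update S i T with hS2
    set a := σ • u i with ha
    set b := ∏ τ ∈ T, τ • u i with hb
    set x := xS A G n u S with hx
    have hxi : x i = a * b := (Finset.mul_prod_erase (S i) (fun τ => τ • u i) hσ).symm
    have hx0 : x = Function.update x i (a * b) := by
      rw [← hxi, Function.update_eq_self]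
    have hx1 : xS A G n u S1 = Function.update x i a := by
      funext j
      by_cases hj : j = i
      · subst hj
        simp [xS, hS1, ha]
      · simp [xS, hS1, hx, Function.update_of_ne hj]
    have hx2 : xS A G n u S2 = Function.update x i b := by
      funext j
      by_cases hj : j = i
      · subst hj
        simp [xS, hS2, hb]
      · simp [xS, hS2, hx, Function.update_of_ne hj]
    set I := Ideal.span (x '' {j | j ≠ i}) with hI
    have hreg : ∀ y, a * y ∈ I → y ∈ I := by
      apply reg_of_rad A n hn x i a (fun j _ => hxmem j) (smul_mem_max A G n u hu σ i)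
      rw [Ideal.radical_eq_sInf]
      apply le_sInf
      rintro P ⟨hP, hPprime⟩
      have hex : ∀ j, ∃ τ : G, τ • u j ∈ P := by
        intro j
        by_cases hj : j = i
        · subst hj
          exact ⟨σ, hP (Ideal.mem_sup_right (Ideal.subset_span rfl))⟩
        · have h1 : x j ∈ P := hP (Ideal.mem_sup_left (Ideal.subset_span ⟨j, hj, rfl⟩))
          obtain ⟨τ, hτ, hτP⟩ := (hPprime.prod_mem_iff).1 h1
          exact ⟨τ, hτP⟩
      choose τ hτ using hex
      have h2 : Ideal.span (Set.range fun j => τ j • u j) ≤ P := by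
        rw [Ideal.span_le]
        rintro _ ⟨j, rfl⟩
        exact hτ j
      exact (hwa τ).trans (hPprime.radical_le_iff.2 h2)
    have key := length_split I a b hreg
    rw [← span_update, ← span_update, ← span_update, ← hx0, ← hx1, ← hx2] at key
    rw [key]
    -- cardinalities
    set c : Fin n → ℕ := fun j => (S j).card with hc
    have hc1 : (fun j => (S1 j).card) = Function.update c i 1 := by
      funext j
      by_cases hj : j = i
      · subst hj
        simp [hS1]
      · simp [hS1, hc, Function.update_of_ne hj]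
    have hc2 : (fun j => (S2 j).card) = Function.update c i (c i - 1) := by
      funext j
      by_cases hj : j = i
      · subst hj
        simp [hS2, hTcard, hc]
      · simp [hS2, hc, Function.update_of_ne hj]
    have hsum : ∑ j, c j = c i + ∑ j ∈ Finset.univ \ {i}, c j :=
      Finset.sum_eq_add_sum_sdiff_singleton_of_mem (Finset.mem_univ i) c
    have hprod : ∏ j, c j = c i * ∏ j ∈ Finset.univ \ {i}, c j :=
      Finset.prod_eq_mul_prod_sdiff_singleton_of_mem (Finset.mem_univ i) c
    have hsum1 : ∑ j, (S1 j).card = 1 + ∑ j ∈ Finset.univ \ {i}, c j := by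
      have := congrArg (fun f => ∑ j, f j) hc1
      simp only at this
      rw [this, Finset.sum_update_of_mem (Finset.mem_univ i)]
    have hsum2 : ∑ j, (S2 j).card = (c i - 1) + ∑ j ∈ Finset.univ \ {i}, c j := by
      have := congrArg (fun f => ∑ j, f j) hc2
      simp only at this
      rw [this, Finset.sum_update_of_mem (Finset.mem_univ i)]
    have hprod1 : ∏ j, (S1 j).card = 1 * ∏ j ∈ Finset.univ \ {i}, c j := by
      have := congrArg (fun f => ∏ j, f j) hc1
      simp only at this
      rw [this, Finset.prod_update_of_mem (Finset.mem_univ i)]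
    have hprod2 : ∏ j, (S2 j).card = (c i - 1) * ∏ j ∈ Finset.univ \ {i}, c j := by
      have := congrArg (fun f => ∏ j, f j) hc2
      simp only at this
      rw [this, Finset.prod_update_of_mem (Finset.mem_univ i)]
    have hci : 2 ≤ c i := hi
    have hSc : ∑ j, c j ≤ N := hS
    have ih1 := ih (N - 1) (by omega) S1 (by rw [hsum1]; omega)
    have ih2 := ih (N - 1) (by omega) S2 (by rw [hsum2]; omega)
    set R := ∏ j ∈ Finset.univ \ {i}, c j with hR
    have hfin : (∏ j, (S j).card) = (c i - 1) * R + 1 * R := by
      change ∏ j, c j = _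
      rw [hprod, ← add_mul]
      congr 1
      omega
    rw [hfin, Nat.cast_add, ← hprod1, ← hprod2]
    exact add_le_add ih2 ih1
  · push Not at hC
    have hone : ∀ i, (S i).card = 1 := by
      intro i
      have h1 := hC i
      have h2 : 0 < (S i).card := Finset.card_pos.2 (hne i)
      omega
    have h1 : ∏ i, (S i).card = 1 := Finset.prod_eq_one (fun i _ => hone i)
    rw [h1, Nat.cast_one]
    have hJ : Ideal.span (Set.range (xS A G n u S)) ≤ maximalIdeal A := by
      rw [Ideal.span_le]
      rintro _ ⟨j, rfl⟩
      exact hxmem j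
    have hJne : Ideal.span (Set.range (xS A G n u S)) ≠ ⊤ := by
      intro h
      rw [h] at hJ
      exact (IsLocalRing.maximalIdeal.isMaximal A).ne_top (top_le_iff.1 hJ)
    haveI : Nontrivial (A ⧸ Ideal.span (Set.range (xS A G n u S))) :=
      Ideal.Quotient.nontrivial_iff.2 hJne
    rw [Order.one_le_iff_ne_zero]
    exact (Module.length_pos (R := A)
      (M := A ⧸ Ideal.span (Set.range (xS A G n u S)))).ne'

include hn hu hwa in
theorem main :
    ((Fintype.card G ^ n : ℕ) : ℕ∞) ≤
      Module.length A (A ⧸ Ideal.span (Set.range fun i => ∏ σ : G, σ • u i)) := by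
  have h := main_aux A G n hn u hu hwa (∑ i : Fin n, (Finset.univ : Finset G).card)
    (fun _ => Finset.univ) le_rfl
  have h1 : ∏ i : Fin n, (Finset.univ : Finset G).card = Fintype.card G ^ n := by
    rw [Finset.prod_const, Finset.card_univ, Finset.card_univ, Fintype.card_fin]
  rw [h1] at h
  exact h

end Main

/-- Let `A` be a regular local ring of Krull dimension `n` with maximal ideal `m` generated by `u_1, …,
u_n`, let a finite group `G` of order `g` act on `A` by ring automorphisms, and suppose `u` is
weakly admissible: for every choice `σ_1, …, σ_n ∈ G` the radical of `(σ_1 u_1, …, σ_n u_n)`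
contains `m`. With `x_i = ∏_{σ ∈ G} σ u_i` the norms, the length of `A / (x_1, …, x_n)` is at least
`g ^ n` (so the finite flat map from `k[[x_1, …, x_n]]` has degree at least `g ^ n`). (The published
statement is for a complete regular local ring containing a `G`-fixed field of representatives; this
row does not assume those.) -/
theorem result
    (A : Type u) [CommRing A] [IsRegularLocalRing A]
    (G : Type v) [Group G] [Fintype G] [MulSemiringAction G A]
    (n : ℕ) (hn : ringKrullDim A = n) (u : Fin n → A)
    (hu : Ideal.span (Set.range u) = IsLocalRing.maximalIdeal A)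
    (hwa : ∀ τ : Fin n → G,
      IsLocalRing.maximalIdeal A ≤ (Ideal.span (Set.range fun i => τ i • u i)).radical) :
    ((Fintype.card G ^ n : ℕ) : ℕ∞) ≤
      Module.length A (A ⧸ Ideal.span (Set.range fun i => ∏ σ : G, σ • u i)) := by
  exact main A G n hn u hu hwa

end Groth.Agent.S15797
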