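import Groth.Statements.S15811
import Mathlib

set_option autoImplicit false
universe u
open WildQuot

namespace Groth.Agent.S15811

/-- Let `R` be an integrally closed domain of prime characteristic `p` with fraction field `K`, and `α ∈
R`. Then `α ≠ 0` and the polynomial `T ^ p - α T` splits into linear factors over `K` — which says
that the finite flat group scheme `Spec R[T]/(T ^ p - α T)` of order `p` has constant generic fibre
(its `p` roots are then distinct) — if and only if `α = a ^ (p-1)` for some nonzero `a ∈ R`. (The
published statement is that the generic fibre of the finite flat group scheme of order `p` with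
parameters `α, β` satisfying `α β = 0`, whose underlying scheme is `Spec R[T]/(T ^ p - α T)`, is
constant if and only if `β = 0` and `α` is the `(p-1)`-th power of a nonzero element of `R`; this
row states the polynomial condition, in which `α ≠ 0` already forces `β = 0` over a domain.) -/
theorem result
    (p : ℕ) [Fact p.Prime] (R : Type u) [CommRing R] [IsDomain R] [IsIntegrallyClosed R]
    [CharP R p] (α : R) :
    (α ≠ 0 ∧ (Polynomial.map (algebraMap R (FractionRing R))
        (Polynomial.X ^ p - Polynomial.C α * Polynomial.X)).Splits) ↔
      ∃ a : R, a ≠ 0 ∧ α = a ^ (p - 1) := by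
  have hp : p.Prime := Fact.out
  have hp1 : 1 ≤ p - 1 := by have := hp.two_le; omega
  have hpp : p = (p - 1) + 1 := by omega
  have hinj : Function.Injective (algebraMap R (FractionRing R)) := IsFractionRing.injective R _
  have hmap : Polynomial.map (algebraMap R (FractionRing R))
      (Polynomial.X ^ p - Polynomial.C α * Polynomial.X)
      = Polynomial.X * (Polynomial.X ^ (p - 1) - Polynomial.C (algebraMap R (FractionRing R) α)) := by
    rw [Polynomial.map_sub, Polynomial.map_pow, Polynomial.map_mul, Polynomial.map_X, Polynomial.map_C]
    conv_lhs => rw [hpp, pow_succ]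
    ring
  rw [hmap, Polynomial.splits_X_mul]
  constructor
  · rintro ⟨hα, hs⟩
    have hdeg : (Polynomial.X ^ (p - 1) - Polynomial.C (algebraMap R (FractionRing R) α)).degree ≠ 0 := by
      rw [Polynomial.degree_X_pow_sub_C (by omega)]
      intro h
      have : ((p - 1 : ℕ) : WithBot ℕ) = ((0 : ℕ) : WithBot ℕ) := h
      have h2 : p - 1 = 0 := by exact_mod_cast this
      omega
    obtain ⟨b, hb⟩ := hs.exists_eval_eq_zero hdeg
    rw [Polynomial.eval_sub, Polynomial.eval_pow, Polynomial.eval_X, Polynomial.eval_C, sub_eq_zero] at hb
    have hint : IsIntegral R b := by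
      refine ⟨Polynomial.X ^ (p - 1) - Polynomial.C α, Polynomial.monic_X_pow_sub_C α (by omega), ?_⟩
      rw [Polynomial.eval₂_sub, Polynomial.eval₂_pow, Polynomial.eval₂_X, Polynomial.eval₂_C, hb, sub_self]
    obtain ⟨a, ha⟩ := IsIntegrallyClosed.algebraMap_eq_of_integral hint
    refine ⟨a, ?_, ?_⟩
    · rintro rfl
      rw [map_zero] at ha
      rw [← ha, zero_pow (by omega)] at hb
      exact hα (hinj (by rw [map_zero]; exact hb.symm))
    · apply hinj
      rw [map_pow, ha, hb]
  · rintro ⟨a, ha, rfl⟩
    refine ⟨pow_ne_zero _ ha, ?_⟩
    set a' := algebraMap R (FractionRing R) a with ha'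
    have ha'0 : a' ≠ 0 := by
      intro h
      apply ha
      apply hinj
      rw [map_zero]; exact h
    have hsplit : (Polynomial.X ^ p - Polynomial.X : Polynomial (FractionRing R)).Splits := by
      have h := (Subfield.splits_bot (FractionRing R) p).map (Subfield.subtype _)
      simpa using h
    have hXsplit : (Polynomial.X ^ (p - 1) - 1 : Polynomial (FractionRing R)).Splits := by
      have : (Polynomial.X ^ p - Polynomial.X : Polynomial (FractionRing R))
          = Polynomial.X * (Polynomial.X ^ (p - 1) - 1) := by
        conv_lhs => rw [hpp, pow_succ]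
        ring
      rw [this, Polynomial.splits_X_mul] at hsplit
      exact hsplit
    have hcomp := (hXsplit.comp_of_natDegree_le_one
      (g := Polynomial.C a'⁻¹ * Polynomial.X) (by
        rw [Polynomial.natDegree_C_mul_X _ (inv_ne_zero ha'0)])).C_mul (a' ^ (p - 1))
    have heq : Polynomial.C (a' ^ (p - 1)) *
        (Polynomial.X ^ (p - 1) - 1 : Polynomial (FractionRing R)).comp (Polynomial.C a'⁻¹ * Polynomial.X)
        = Polynomial.X ^ (p - 1) - Polynomial.C (algebraMap R (FractionRing R) (a ^ (p - 1))) := by
      rw [Polynomial.sub_comp, Polynomial.pow_comp, Polynomial.X_comp, Polynomial.one_comp, mul_pow,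
        ← Polynomial.C_pow, mul_sub, ← mul_assoc, ← Polynomial.C_mul, mul_one, map_pow, inv_pow,
        mul_inv_cancel₀ (pow_ne_zero _ ha'0), Polynomial.C_1, one_mul]
      simp only [map_pow]
      rfl
    rw [heq] at hcomp
    exact hcomp

end Groth.Agent.S15811
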