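import Groth.Statements.S15813
import Mathlib

set_option autoImplicit false
universe u
open WildQuot

namespace Groth.Agent.S15813

section aux
open PowerSeries
variable {k : Type u} [Field k]

/-- over a field, a power series is a unit iff its constant coefficient is nonzero -/
theorem isUnit_iff_cc (g : PowerSeries k) : IsUnit g ↔ constantCoeff g ≠ 0 := by
  rw [PowerSeries.isUnit_iff_constantCoeff, isUnit_iff_ne_zero]

theorem cc_aut_X (τ : PowerSeries k ≃ₐ[k] PowerSeries k) : constantCoeff (τ X) = 0 := by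
  by_contra h
  have hu : IsUnit (τ (X : PowerSeries k)) := (isUnit_iff_cc _).2 h
  have hX : IsUnit (X : PowerSeries k) := by
    have := hu.map τ.symm
    simpa using this
  have := (isUnit_iff_cc _).1 hX
  simp at this

/-- automorphisms preserve constant coefficients -/
theorem cc_aut (τ : PowerSeries k ≃ₐ[k] PowerSeries k) (g : PowerSeries k) :
    constantCoeff (τ g) = constantCoeff g := by
  conv_lhs => rw [eq_X_mul_shift_add_const g]
  rw [map_add, map_mul, map_add, map_mul, cc_aut_X, zero_mul, zero_add]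
  have : (C (constantCoeff g) : PowerSeries k) = algebraMap k (PowerSeries k) (constantCoeff g) := rfl
  rw [this, τ.commutes]
  simp

theorem order_aut_X (τ : PowerSeries k ≃ₐ[k] PowerSeries k) : order (τ X) = 1 := by
  have h1 : 1 ≤ order (τ (X : PowerSeries k)) :=
    one_le_order_iff_constCoeff_eq_zero.2 (cc_aut_X τ)
  have h2 : 1 ≤ order (τ.symm (X : PowerSeries k)) :=
    one_le_order_iff_constCoeff_eq_zero.2 (cc_aut_X τ.symm)
  -- τ.symm X = X * h
  obtain ⟨h, hh⟩ : (X : PowerSeries k) ∣ τ.symm X := by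
    rw [X_dvd_iff]; exact cc_aut_X τ.symm
  have h3 : (X : PowerSeries k) = τ X * τ h := by
    have := congrArg τ hh
    rw [map_mul, AlgEquiv.apply_symm_apply] at this
    exact this
  have h4 := congrArg order h3
  rw [order_mul, order_X] at h4
  apply le_antisymm _ h1
  rw [h4]
  exact le_self_add

/-- automorphisms preserve the order -/
theorem order_aut (τ : PowerSeries k ≃ₐ[k] PowerSeries k) (g : PowerSeries k) :
    order (τ g) = order g := by
  by_cases hg : g = 0
  · rw [hg, map_zero]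
  have h1 := X_pow_order_mul_divXPowOrder (f := g)
  have hu : IsUnit (divXPowOrder g) := by
    rw [isUnit_iff_cc, Ne, constantCoeff_divXPowOrder_eq_zero_iff]
    exact hg
  have h2 : τ g = (τ X) ^ g.order.toNat * τ (divXPowOrder g) := by
    conv_lhs => rw [← h1]
    rw [map_mul, map_pow]
  rw [h2, order_mul, order_pow, order_aut_X, order_zero_of_unit (hu.map τ), add_zero, nsmul_one,
    coe_toNat_order hg]

/-- the linear coefficient of an automorphism is multiplicative on series without constant term -/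
theorem coeff_one_aut (τ : PowerSeries k ≃ₐ[k] PowerSeries k) (g : PowerSeries k)
    (hg : constantCoeff g = 0) : coeff 1 (τ g) = coeff 1 (τ X) * coeff 1 g := by
  obtain ⟨h, rfl⟩ : (X : PowerSeries k) ∣ g := X_dvd_iff.2 hg
  obtain ⟨ρ, hρ⟩ : (X : PowerSeries k) ∣ τ X := X_dvd_iff.2 (cc_aut_X τ)
  rw [map_mul, hρ, mul_assoc]
  have e1 : ∀ φ : PowerSeries k, coeff 1 (X * φ) = constantCoeff φ := by
    intro φ
    have := coeff_succ_X_mul 0 φ
    simpa using this
  rw [e1, e1, e1, map_mul, cc_aut]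

theorem coeff_one_pow_aut (σ : PowerSeries k ≃ₐ[k] PowerSeries k) (i : ℕ) :
    coeff 1 ((σ ^ i) (X : PowerSeries k)) = (coeff 1 (σ X)) ^ i := by
  induction i with
  | zero => simp
  | succ i ih =>
    rw [pow_succ', AlgEquiv.mul_apply, coeff_one_aut σ _ (cc_aut_X (σ ^ i)), ih, pow_succ']

theorem coeff_one_eq_one (p : ℕ) [Fact p.Prime] [CharP k p] (σ : PowerSeries k ≃ₐ[k] PowerSeries k) (hσp : σ ^ p = 1) :
    coeff 1 (σ (X : PowerSeries k)) = 1 := by
  have h := coeff_one_pow_aut σ p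
  rw [hσp] at h
  have h1 : (coeff 1 (σ (X : PowerSeries k))) ^ p = 1 ^ p := by
    rw [one_pow, ← h]; simp
  exact frobenius_inj k p h1

/-- if `σ X = X ρ` and `ρ - 1` has order `m`, then `σ` is the identity modulo `X ^ (m + 1)` -/
theorem le_order_aut_sub (σ : PowerSeries k ≃ₐ[k] PowerSeries k) (ρ : PowerSeries k)
    (hρ : σ X = X * ρ) (m : ℕ) (hm : order (ρ - 1) = (m : ℕ∞)) :
    ∀ N : ℕ, N ≤ m + 1 → ∀ g : PowerSeries k, (N : ℕ∞) ≤ order (σ g - g) := by
  intro N
  induction N with
  | zero => intro _ g; simp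
  | succ N ih =>
    intro hN g
    have ihN := ih (by omega)
    have hg := eq_X_mul_shift_add_const g
    set g₁ : PowerSeries k := mk fun p => coeff (p + 1) g with hg₁
    have hC : σ (C (constantCoeff g) : PowerSeries k) = C (constantCoeff g) := by
      have : (C (constantCoeff g) : PowerSeries k) =
          algebraMap k (PowerSeries k) (constantCoeff g) := rfl
      rw [this, σ.commutes]
    have e : σ g - g = X * ((ρ - 1) * σ g₁ + (σ g₁ - g₁)) := by
      conv_lhs => rw [hg]
      rw [map_add, map_mul, hC, hρ]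
      ring
    rw [e, order_mul, order_X]
    have h1 : (N : ℕ∞) ≤ order ((ρ - 1) * σ g₁) := by
      rw [order_mul, hm]
      calc (N : ℕ∞) ≤ (m : ℕ∞) := by exact_mod_cast (by omega : N ≤ m)
        _ ≤ (m : ℕ∞) + order (σ g₁) := le_self_add
    have h2 : (N : ℕ∞) ≤ order ((ρ - 1) * σ g₁ + (σ g₁ - g₁)) :=
      (le_min h1 (ihN g₁)).trans (min_order_le_order_add _ _)
    calc ((N + 1 : ℕ) : ℕ∞) = 1 + (N : ℕ∞) := by push_cast; ring
      _ ≤ 1 + order ((ρ - 1) * σ g₁ + (σ g₁ - g₁)) := by gcongr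

/-- the key order computation -/
theorem order_aut_sub (p : ℕ) [Fact p.Prime] [CharP k p]
    (σ : PowerSeries k ≃ₐ[k] PowerSeries k) (ρ : PowerSeries k)
    (hρ : σ X = X * ρ) (hρ1 : constantCoeff ρ = 1) (m : ℕ) (hm : order (ρ - 1) = (m : ℕ∞))
    (μ : ℕ) (hpμ : ¬ p ∣ μ) (w : PowerSeries k) (hw : order w = (μ : ℕ∞)) :
    order (σ w - w) = ((μ + m : ℕ) : ℕ∞) := by
  have hw0 : w ≠ 0 := by
    intro h; rw [h, order_zero] at hw; exact ENat.top_ne_natCast _ hw
  have hμ' : w.order.toNat = μ := by rw [hw]; rfl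
  have h1 := X_pow_order_mul_divXPowOrder (f := w)
  rw [hμ'] at h1
  set ε := divXPowOrder w with hε
  have hu : IsUnit ε := by
    rw [isUnit_iff_cc, Ne, constantCoeff_divXPowOrder_eq_zero_iff]
    exact hw0
  have e : σ w - w = X ^ μ * ((ρ ^ μ - 1) * σ ε + (σ ε - ε)) := by
    conv_lhs => rw [← h1]
    rw [map_mul, map_pow, hρ]
    ring
  -- the geometric sum
  have hgeo : ρ ^ μ - 1 = (ρ - 1) * ∑ i ∈ Finset.range μ, ρ ^ i := (mul_geom_sum ρ μ).symm
  have hcc : constantCoeff (∑ i ∈ Finset.range μ, ρ ^ i) = (μ : k) := by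
    rw [map_sum]
    simp [hρ1]
  have hμk : (μ : k) ≠ 0 := by
    rw [Ne, CharP.cast_eq_zero_iff k p]
    exact hpμ
  have hsum : order (∑ i ∈ Finset.range μ, ρ ^ i) = 0 :=
    order_zero_of_unit ((isUnit_iff_cc _).2 (by rw [hcc]; exact hμk))
  have ho1 : order ((ρ ^ μ - 1) * σ ε) = (m : ℕ∞) := by
    rw [hgeo, order_mul, order_mul, hm, hsum, order_aut, order_zero_of_unit hu, add_zero, add_zero]
  have ho2 : ((m + 1 : ℕ) : ℕ∞) ≤ order (σ ε - ε) :=
    le_order_aut_sub σ ρ hρ m hm (m + 1) le_rfl ε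
  have hne : order ((ρ ^ μ - 1) * σ ε) ≠ order (σ ε - ε) := by
    rw [ho1]
    intro h
    rw [← h] at ho2
    exact absurd ho2 (by exact_mod_cast (by omega : ¬ m + 1 ≤ m))
  have ho3 : order ((ρ ^ μ - 1) * σ ε + (σ ε - ε)) = (m : ℕ∞) := by
    rw [order_add_of_order_ne _ _ hne, ho1]
    apply min_eq_left
    exact le_trans (by exact_mod_cast (by omega : m ≤ m + 1)) ho2
  rw [e, order_mul, order_X_pow, ho3]
  push_cast; rfl

theorem exists_order_eq (g : PowerSeries k) (hg : g ≠ 0) : ∃ n : ℕ, order g = (n : ℕ∞) :=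
  ⟨g.order.toNat, (coe_toNat_order hg).symm⟩

theorem le_order_sub (g h : PowerSeries k) : min (order g) (order h) ≤ order (g - h) := by
  rw [sub_eq_add_neg]
  have := min_order_le_order_add g (-h)
  rwa [order_neg] at this

theorem order_sub_of_lt (g h : PowerSeries k) (hlt : order g < order h) :
    order (g - h) = order g := by
  rw [sub_eq_add_neg, order_add_of_order_ne _ _ (by rw [order_neg]; exact hlt.ne), order_neg]
  exact min_eq_left hlt.le

/-- from the Artin–Schreier equation in the fraction field to an equation in the power series ring -/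
theorem exists_w (p : ℕ) [Fact p.Prime] (x f : PowerSeries k) (hx : order x = (p : ℕ∞))
    (hf0 : constantCoeff f ≠ 0) (μ : ℕ) (hμ : 0 < μ)
    (z : FractionRing (PowerSeries k))
    (hz : z ^ p - z = algebraMap (PowerSeries k) (FractionRing (PowerSeries k)) f /
      algebraMap (PowerSeries k) (FractionRing (PowerSeries k)) x ^ μ) :
    ∃ w : PowerSeries k, order w = (μ : ℕ∞) ∧ (1 - w ^ (p - 1)) * x ^ μ = f * w ^ p := by
  have hp := (Fact.out : p.Prime)
  have hp2 : 2 ≤ p := hp.two_le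
  obtain ⟨a, b, hb, rfl⟩ := IsFractionRing.div_surjective (A := PowerSeries k) z
  set φ := algebraMap (PowerSeries k) (FractionRing (PowerSeries k)) with hφ
  have hφinj : Function.Injective φ := IsFractionRing.injective _ _
  have hb0 : b ≠ 0 := nonZeroDivisors.ne_zero hb
  have hx0 : x ≠ 0 := by
    intro h; rw [h, order_zero] at hx; exact ENat.top_ne_natCast _ hx
  have hf : f ≠ 0 := by
    intro h; rw [h] at hf0; simp at hf0
  have hfo : order f = 0 := order_zero_of_unit ((isUnit_iff_cc f).2 hf0)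
  have hφb : φ b ≠ 0 := by rw [Ne, map_eq_zero_iff φ hφinj]; exact hb0
  have hφx : φ x ≠ 0 := by rw [Ne, map_eq_zero_iff φ hφinj]; exact hx0
  have hpp : p = (p - 1) + 1 := by omega
  -- the equation in the power series ring
  have E : (a ^ p - a * b ^ (p - 1)) * x ^ μ = f * b ^ p := by
    apply hφinj
    simp only [map_mul, map_sub, map_pow]
    have hbp : φ b ^ p = φ b ^ (p - 1) * φ b := by
      conv_lhs => rw [hpp, pow_succ]
    have h1 : φ a ^ p - φ a * φ b ^ (p - 1) = φ b ^ p * ((φ a / φ b) ^ p - φ a / φ b) := by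
      rw [div_pow, mul_sub, mul_div_cancel₀ _ (pow_ne_zero p hφb), hbp]
      field_simp
    rw [h1, hz]
    field_simp
  have ha0 : a ≠ 0 := by
    intro h
    rw [h, zero_pow hp.ne_zero, zero_mul, sub_zero, zero_mul] at E
    rcases mul_eq_zero.1 E.symm with h | h
    · exact hf h
    · exact hb0 ((pow_eq_zero_iff hp.ne_zero).1 h)
  have E' : a * (a ^ (p - 1) - b ^ (p - 1)) * x ^ μ = f * b ^ p := by
    rw [← E]; congr 1; rw [mul_sub, ← pow_succ', ← hpp]
  have hd0 : a ^ (p - 1) - b ^ (p - 1) ≠ 0 := by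
    intro h
    rw [h, mul_zero, zero_mul] at E'
    rcases mul_eq_zero.1 E'.symm with h | h
    · exact hf h
    · exact hb0 ((pow_eq_zero_iff hp.ne_zero).1 h)
  obtain ⟨α, hα⟩ := exists_order_eq a ha0
  obtain ⟨β, hβ⟩ := exists_order_eq b hb0
  obtain ⟨d, hd⟩ := exists_order_eq _ hd0
  have hord := congrArg order E'
  rw [order_mul, order_mul, order_mul, order_pow, order_pow, hα, hβ, hx, hfo, hd, zero_add] at hord
  have hord' : α + d + μ * p = p * β := by
    have : ((α + d + μ * p : ℕ) : ℕ∞) = ((p * β : ℕ) : ℕ∞) := by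
      push_cast
      simpa [nsmul_eq_mul] using hord
    exact_mod_cast this
  have hoa : order (a ^ (p - 1)) = (((p - 1) * α : ℕ) : ℕ∞) := by
    rw [order_pow, hα, nsmul_eq_mul]; push_cast; rfl
  have hob : order (b ^ (p - 1)) = (((p - 1) * β : ℕ) : ℕ∞) := by
    rw [order_pow, hβ, nsmul_eq_mul]; push_cast; rfl
  have hαβ : α < β := by
    by_contra hcon
    push Not at hcon
    have h1 : (((p - 1) * β : ℕ) : ℕ∞) ≤ (d : ℕ∞) := by
      rw [← hd]
      refine le_trans ?_ (le_order_sub _ _)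
      rw [hoa, hob]
      apply le_min
      · exact_mod_cast Nat.mul_le_mul_left _ hcon
      · exact le_rfl
    have h1' : (p - 1) * β ≤ d := by exact_mod_cast h1
    have h2 : p * β = (p - 1) * β + β := by
      conv_lhs => rw [hpp]
      ring
    have h3 : 0 < μ * p := Nat.mul_pos hμ hp.pos
    omega
  have hdα : d = (p - 1) * α := by
    have hlt : order (a ^ (p - 1)) < order (b ^ (p - 1)) := by
      rw [hoa, hob]
      exact_mod_cast Nat.mul_lt_mul_of_pos_left hαβ (by omega)
    have := order_sub_of_lt _ _ hlt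
    rw [hd, hoa] at this
    exact_mod_cast this
  have hβα : β = α + μ := by
    have h2 : p * α = (p - 1) * α + α := by
      conv_lhs => rw [hpp]
      ring
    have h3 : p * (α + μ) = p * β := by
      rw [mul_add, h2, ← hord', hdα]; ring
    exact (Nat.eq_of_mul_eq_mul_left hp.pos h3).symm
  -- the quotient
  have ha1 := X_pow_order_mul_divXPowOrder (f := a)
  have hb1 := X_pow_order_mul_divXPowOrder (f := b)
  have hαn : a.order.toNat = α := by rw [hα]; rfl
  have hβn : b.order.toNat = β := by rw [hβ]; rfl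
  rw [hαn] at ha1
  rw [hβn] at hb1
  have hua : IsUnit (divXPowOrder a) := by
    rw [isUnit_iff_cc, Ne, constantCoeff_divXPowOrder_eq_zero_iff]
    exact ha0
  obtain ⟨ua, hua'⟩ := hua
  obtain ⟨b', hb'⟩ : ∃ b' : PowerSeries k, b' = divXPowOrder b := ⟨_, rfl⟩
  rw [← hb'] at hb1
  rw [← hua'] at ha1
  obtain ⟨w, hw⟩ : ∃ w : PowerSeries k, w = (↑ua⁻¹ : PowerSeries k) * (X ^ μ * b') := ⟨_, rfl⟩
  have haw : a * w = b := by
    rw [← ha1, hw, ← hb1, hβα, pow_add]
    have : (↑ua : PowerSeries k) * ↑ua⁻¹ = 1 := Units.mul_inv ua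
    calc X ^ α * ↑ua * (↑ua⁻¹ * (X ^ μ * b'))
        = X ^ α * (↑ua * ↑ua⁻¹) * (X ^ μ * b') := by ring
      _ = X ^ α * X ^ μ * b' := by rw [this]; ring
  have hw0 : w ≠ 0 := by
    intro h
    rw [h, mul_zero] at haw
    exact hb0 haw.symm
  obtain ⟨ν, hν⟩ := exists_order_eq w hw0
  have hνμ : ν = μ := by
    have h := congrArg order haw
    rw [order_mul, hα, hβ, hν] at h
    have : α + ν = β := by exact_mod_cast h
    omega
  refine ⟨w, by rw [hν, hνμ], ?_⟩
  have hap : a ^ p ≠ 0 := pow_ne_zero p ha0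
  apply mul_left_cancel₀ hap
  rw [← haw] at E
  calc a ^ p * ((1 - w ^ (p - 1)) * x ^ μ)
      = (a ^ p - a * (a * w) ^ (p - 1)) * x ^ μ := by
        rw [mul_pow]
        have : a * (a ^ (p - 1) * w ^ (p - 1)) = a ^ p * w ^ (p - 1) := by
          rw [← mul_assoc, ← pow_succ', ← hpp]
        rw [this]; ring
    _ = f * (a * w) ^ p := E
    _ = a ^ p * (f * w ^ p) := by rw [mul_pow]; ring

theorem main (p : ℕ) [Fact p.Prime] [CharP k p]
    (σ : PowerSeries k ≃ₐ[k] PowerSeries k) (hσp : σ ^ p = 1)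
    (m : ℕ) (hm : (σ PowerSeries.X - PowerSeries.X).order = ((m + 1 : ℕ) : ℕ∞))
    (f : PowerSeries k) (hfσ : σ f = f) (hf0 : PowerSeries.constantCoeff f ≠ 0)
    (μ : ℕ) (hμ : 0 < μ) (hpμ : ¬ p ∣ μ)
    (z : FractionRing (PowerSeries k))
    (hz : z ^ p - z = algebraMap (PowerSeries k) (FractionRing (PowerSeries k)) f /
      algebraMap (PowerSeries k) (FractionRing (PowerSeries k))
        (∏ i ∈ Finset.range p, (σ ^ i) PowerSeries.X) ^ μ) :
    μ = m := by
  have hp := (Fact.out : p.Prime)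
  obtain ⟨ρ, hρ⟩ : (X : PowerSeries k) ∣ σ X := X_dvd_iff.2 (cc_aut_X σ)
  have hρ1 : constantCoeff ρ = 1 := by
    have h := coeff_one_eq_one p σ hσp
    rw [hρ] at h
    have e1 := coeff_succ_X_mul 0 ρ
    rw [zero_add] at e1
    rw [e1] at h
    simpa using h
  have hρ0 : ρ - 1 ≠ 0 := by
    intro h0
    have : σ X - X = 0 := by rw [hρ, sub_eq_zero.1 h0, mul_one, sub_self]
    rw [this, order_zero] at hm
    exact ENat.top_ne_natCast _ hm
  have hmρ : order (ρ - 1) = (m : ℕ∞) := by
    obtain ⟨m', hm'⟩ := exists_order_eq _ hρ0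
    have e : σ X - X = X * (ρ - 1) := by rw [hρ]; ring
    rw [e, order_mul, order_X, hm'] at hm
    have : 1 + m' = m + 1 := by exact_mod_cast hm
    rw [hm']
    exact_mod_cast (by omega : m' = m)
  obtain ⟨x, hxdef⟩ : ∃ x : PowerSeries k, x = ∏ i ∈ Finset.range p, (σ ^ i) PowerSeries.X :=
    ⟨_, rfl⟩
  rw [← hxdef] at hz
  have hxo : order x = (p : ℕ∞) := by
    rw [hxdef, order_prod]
    rw [Finset.sum_congr rfl (fun i _ => order_aut_X (σ ^ i))]
    simp
  have hx0 : x ≠ 0 := by
    intro h; rw [h, order_zero] at hxo; exact ENat.top_ne_natCast _ hxo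
  have hσx : σ x = x := by
    rw [hxdef, map_prod]
    have h1 : ∀ i, σ ((σ ^ i) (X : PowerSeries k)) = (σ ^ (i + 1)) X := by
      intro i; rw [pow_succ', AlgEquiv.mul_apply]
    simp only [h1]
    have h2 := Finset.prod_range_succ' (fun i => (σ ^ i) (X : PowerSeries k)) p
    have h3 := Finset.prod_range_succ (fun i => (σ ^ i) (X : PowerSeries k)) p
    rw [h3] at h2
    simp only [hσp, pow_zero, AlgEquiv.one_apply] at h2
    exact (mul_right_cancel₀ X_ne_zero h2).symm
  have hf : f ≠ 0 := by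
    intro h; rw [h] at hf0; simp at hf0
  obtain ⟨w, hwo, E₂⟩ := exists_w p x f hxo hf0 μ hμ z hz
  obtain ⟨q, hq⟩ : ∃ q, p = q + 1 := ⟨p - 1, by have := hp.two_le; omega⟩
  have hq1 : 1 ≤ q := by have := hp.two_le; omega
  have hpq : p - 1 = q := by omega
  rw [hpq] at E₂
  have E₃ : (1 - (σ w) ^ q) * x ^ μ = f * (σ w) ^ p := by
    have := congrArg σ E₂
    simpa [map_mul, map_sub, map_pow, hσx, hfσ] using this
  have key : (1 - w ^ q) * (σ w) ^ p = w ^ p * (1 - (σ w) ^ q) := by
    apply mul_left_cancel₀ (mul_ne_zero hf (pow_ne_zero μ hx0))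
    calc f * x ^ μ * ((1 - w ^ q) * σ w ^ p) = ((1 - w ^ q) * x ^ μ) * (f * σ w ^ p) := by ring
      _ = (f * w ^ p) * ((1 - σ w ^ q) * x ^ μ) := by rw [E₂, E₃]
      _ = f * x ^ μ * (w ^ p * (1 - σ w ^ q)) := by ring
  obtain ⟨n, hn⟩ : ∃ n : PowerSeries k, n = σ w - w := ⟨_, rfl⟩
  have hno : order n = ((μ + m : ℕ) : ℕ∞) := by
    rw [hn]; exact order_aut_sub p σ ρ hρ hρ1 m hmρ μ hpμ w hwo
  have hn0 : n ≠ 0 := by
    intro h; rw [h, order_zero] at hno; exact ENat.top_ne_natCast _ hno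
  haveI : CharP (PowerSeries k) p :=
    charP_of_injective_algebraMap (algebraMap k (PowerSeries k)).injective p
  have hnp : n ^ p = (w * σ w) ^ q * n := by
    have h1 : n ^ p = σ w ^ p - w ^ p := by rw [hn]; exact sub_pow_char _ _
    rw [h1, hn, mul_pow]
    rw [hq] at key ⊢
    linear_combination key
  have hnq : n ^ q = (w * σ w) ^ q := by
    apply mul_right_cancel₀ hn0
    rw [← pow_succ, ← hq, hnp]
  have h := congrArg order hnq
  rw [order_pow, order_pow, order_mul, order_aut, hwo, hno] at h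
  have h' : q * (μ + m) = q * (μ + μ) := by
    have : ((q * (μ + m) : ℕ) : ℕ∞) = ((q * (μ + μ) : ℕ) : ℕ∞) := by
      push_cast
      simpa [nsmul_eq_mul, mul_add] using h
    exact_mod_cast this
  have := Nat.eq_of_mul_eq_mul_left (by omega : 0 < q) h'
  omega

end aux

/-- Let `k` be a field of characteristic `p > 0`, `A = k[[u]]`, and `σ` a `k`-algebra automorphism of
`A` of order exactly `p`, with ramification break `m`: `σ u - u` has order `m + 1`. Let `x = ∏_{i <
p} σ^i u` be the norm of `u`, let `f ∈ A` be `σ`-invariant with nonzero constant term (a unit of the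
invariant ring `k[[x]]`), let `μ > 0` be prime to `p`, and let `z ∈ Frac(A)` satisfy the
Artin–Schreier equation `z ^ p - z = f / x ^ μ`. Then `μ = m`. (The published statement also records
that `Frac(A) = Frac(A^σ)(z)`; that follows from the equation since `p` does not divide `μ`, so it
is not repeated as a hypothesis.) -/
theorem result
    (p : ℕ) [Fact p.Prime] (k : Type u) [Field k] [CharP k p]
    (σ : PowerSeries k ≃ₐ[k] PowerSeries k) (hσp : σ ^ p = 1) (hσ1 : σ ≠ 1)
    (m : ℕ) (hm : (σ PowerSeries.X - PowerSeries.X).order = ((m + 1 : ℕ) : ℕ∞))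
    (f : PowerSeries k) (hfσ : σ f = f) (hf0 : PowerSeries.constantCoeff f ≠ 0)
    (μ : ℕ) (hμ : 0 < μ) (hpμ : ¬ p ∣ μ)
    (z : FractionRing (PowerSeries k))
    (hz : z ^ p - z = algebraMap (PowerSeries k) (FractionRing (PowerSeries k)) f /
      algebraMap (PowerSeries k) (FractionRing (PowerSeries k))
        (∏ i ∈ Finset.range p, (σ ^ i) PowerSeries.X) ^ μ) :
    μ = m := by
  exact main p σ hσp m hm f hfσ hf0 μ hμ hpμ z hz

end Groth.Agent.S15813
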