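import Groth.Statements.S15816
import Mathlib
import Groth.Agent.S15815
import Groth.Agent.S15821

set_option autoImplicit false
universe u
open CategoryTheory
open scoped TensorProduct
open Koszul

namespace Groth.Agent.S15816

set_option linter.style.haveILetI false
set_option linter.unusedVariables false
set_option linter.unusedSectionVars false
open CategoryTheory.Limits CochainComplex HomologicalComplex TensorProduct

variable {A : Type u} [CommRing A]

theorem range_eq_ker_of_isZero (K : CochainComplex (ModuleCat.{u} A) ℤ) (q : ℤ)
    (h : IsZero (K.homology q)) :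
    LinearMap.range (K.d (q - 1) q).hom = LinearMap.ker (K.d q (q + 1)).hom := by
  have h1 : K.ExactAt q := (HomologicalComplex.exactAt_iff_isZero_homology K q).mpr h
  have h2 : (K.sc' (q - 1) q (q + 1)).Exact :=
    (HomologicalComplex.exactAt_iff' K (q - 1) q (q + 1) (by simp) (by simp)).mp h1
  exact (ShortComplex.moduleCat_exact_iff_range_eq_ker _).mp h2

theorem comap_subtype_smul {M : Type u} [AddCommGroup M] [Module A M] (I : Ideal A)
    (Z : Submodule A M) : Submodule.comap Z.subtype (I • Z) = I • (⊤ : Submodule A Z) := by
  have h : Submodule.map Z.subtype (I • (⊤ : Submodule A Z)) = I • Z := by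
    rw [Submodule.map_smul'', Submodule.map_top, Submodule.range_subtype]
  rw [← h, Submodule.comap_map_eq_of_injective Z.injective_subtype]

theorem main (l : List A) (hl : RingTheory.Sequence.IsWeaklyRegular A l) (x : A)
    (hx : x ∈ nonZeroDivisors A) (q : ℤ) (hq : q < 0) :
    Nonempty ((Koszul.koszul A (l.map (fun f => x * f))).homology q ≅
      ModuleCat.of A (↥(LinearMap.ker ((Koszul.koszul A l).d q (q + 1)).hom) ⊗[A]
        (A ⧸ Ideal.span {x}))) := by
  obtain ⟨e1⟩ := Groth.Agent.S15815.result A l x hx q
  have hz : IsZero ((Koszul.koszul A l).homology q) := by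
    refine Groth.Agent.S15821.transfer (Groth.Agent.S15821.koszul_eq l)
      (fun K => IsZero (K.homology q)) ?_
    exact Groth.Agent.Helper21.KF.homology_isZero_of_weaklyRegular l A hl q hq.ne
  have hr := range_eq_ker_of_isZero _ q hz
  have heq : Submodule.comap (LinearMap.ker ((Koszul.koszul A l).d q (q + 1)).hom).subtype
      (Ideal.span {x} • LinearMap.range ((Koszul.koszul A l).d (q - 1) q).hom) =
      Ideal.span {x} • (⊤ : Submodule A ↥(LinearMap.ker ((Koszul.koszul A l).d q (q + 1)).hom)) := by
    rw [hr, comap_subtype_smul]
  have e2 := Submodule.quotEquivOfEq _ _ heq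
  have e3 := (TensorProduct.tensorQuotEquivQuotSMul
    (↥(LinearMap.ker ((Koszul.koszul A l).d q (q + 1)).hom)) (Ideal.span {x})).symm
  exact ⟨e1 ≪≫ (e2 ≪≫ₗ e3).toModuleIso⟩

/-- Let A be a commutative ring, f = (f_1, …, f_n) a sequence in A that is regular in the weak sense
(f_1 is a non-zero-divisor of A and each f_i is a non-zero-divisor modulo (f_1, …, f_{i-1})), with
Koszul complex K(f) and differentials ∂^q, and let x be a non-zero-divisor of A. Then for every
integer q < 0 the q-th cohomology module of the Koszul complex of (x f_1, …, x f_n) is isomorphic as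
an A-module to Ker(∂^q) ⊗_A A/(x) (existence of an A-linear isomorphism; mapping-cone model of the
Koszul complex). -/
theorem result (A : Type u) [CommRing A] (l : List A)
    (hl : RingTheory.Sequence.IsWeaklyRegular A l) (x : A) (hx : x ∈ nonZeroDivisors A) (q : ℤ) (hq : q < 0) :
    Nonempty ((Koszul.koszul A (l.map (fun f => x * f))).homology q ≅
      ModuleCat.of A (↥(LinearMap.ker ((Koszul.koszul A l).d q (q + 1)).hom) ⊗[A] (A ⧸ Ideal.span {x}))) := by
  exact main l hl x hx q hq

end Groth.Agent.S15816
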