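import Groth.Statements.S15818
import Mathlib

set_option autoImplicit false
universe u
open CategoryTheory
open Koszul

namespace Groth.Agent.S15818

theorem fmk {A : Type u} [CommRing A] {N : Type u} [AddCommGroup N] [Module A N]
    {P P' : Submodule A N} (H : P ≤ P') (x : N) :
    Submodule.factor H (Submodule.Quotient.mk x) = Submodule.Quotient.mk x := rfl

open CategoryTheory Limits in
theorem isPullback_factor {A : Type u} [CommRing A] {N : Type u} [AddCommGroup N] [Module A N]
    {P₁ P₂ P₃ P₄ : Submodule A N} (h12 : P₁ ≤ P₂) (h13 : P₁ ≤ P₃) (h24 : P₂ ≤ P₄)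
    (h34 : P₃ ≤ P₄) (hinj : P₂ ⊓ P₃ ≤ P₁) (hsurj : P₄ ≤ P₂ ⊔ P₃) :
    IsPullback (ModuleCat.ofHom (Submodule.factor h12)) (ModuleCat.ofHom (Submodule.factor h13))
      (ModuleCat.ofHom (Submodule.factor h24)) (ModuleCat.ofHom (Submodule.factor h34)) := by
  have key_comm : ∀ x : N ⧸ P₁, Submodule.factor h24 (Submodule.factor h12 x) =
      Submodule.factor h34 (Submodule.factor h13 x) := by
    intro x
    obtain ⟨a, rfl⟩ := Submodule.mkQ_surjective P₁ x
    simp only [Submodule.mkQ_apply, fmk]
  have key_inj : ∀ x y : N ⧸ P₁, Submodule.factor h12 x = Submodule.factor h12 y →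
      Submodule.factor h13 x = Submodule.factor h13 y → x = y := by
    intro x y e1 e2
    obtain ⟨a, rfl⟩ := Submodule.mkQ_surjective P₁ x
    obtain ⟨b, rfl⟩ := Submodule.mkQ_surjective P₁ y
    simp only [Submodule.mkQ_apply, fmk] at e1 e2 ⊢
    rw [Submodule.Quotient.eq] at e1 e2 ⊢
    exact hinj ⟨e1, e2⟩
  have key_surj : ∀ (x₂ : N ⧸ P₂) (x₃ : N ⧸ P₃),
      Submodule.factor h24 x₂ = Submodule.factor h34 x₃ →
      ∃ x₁ : N ⧸ P₁, Submodule.factor h12 x₁ = x₂ ∧ Submodule.factor h13 x₁ = x₃ := by
    intro x₂ x₃ e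
    obtain ⟨a, rfl⟩ := Submodule.mkQ_surjective P₂ x₂
    obtain ⟨b, rfl⟩ := Submodule.mkQ_surjective P₃ x₃
    simp only [Submodule.mkQ_apply, fmk] at e
    rw [Submodule.Quotient.eq] at e
    obtain ⟨p₂, hp₂, p₃, hp₃, hsum⟩ := Submodule.mem_sup.1 (hsurj e)
    refine ⟨P₁.mkQ (a - p₂), ?_, ?_⟩
    · simp only [Submodule.mkQ_apply, fmk]
      rw [Submodule.Quotient.eq]
      have : a - p₂ - a = -p₂ := by abel
      rw [this]; exact P₂.neg_mem hp₂
    · simp only [Submodule.mkQ_apply, fmk]
      rw [Submodule.Quotient.eq]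
      have : a - p₂ - b = p₃ := by
        have h5 : a - p₂ - b = (a - b) - p₂ := by abel
        rw [h5, ← hsum]; abel
      rw [this]; exact hp₃
  apply IsPullback.of_map_of_faithful (forget (ModuleCat.{u} A))
  rw [Limits.Types.isPullback_iff]
  refine ⟨?_, fun x y h => key_inj x y h.1 h.2, key_surj⟩
  ext x
  exact key_comm x

/-- Let A be a commutative ring, f = (f_1, …, f_n) a finite sequence in A with Koszul complex K = K(f)
(mapping-cone model) and differentials ∂, q an integer, Z = Ker(∂^q) and B = Im(∂^{q-1}), so B ⊆ Z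
inside K^q (this inclusion is carried as the hypothesis hBZ). Let x be a non-zero-divisor of A which
moreover acts injectively on the cohomology module Z/B (for Noetherian A this says that x lies in no
associated prime of Z/B, which is how the published statement phrases it; the published argument
uses exactly the injectivity). Then the commuting square of quotient projections with corners Z/xB
(top left; it is isomorphic to the q-th cohomology of the Koszul complex of (x f_1, …, x f_n)), Z/xZ
= Z ⊗ A/(x) (top right), Z/B (bottom left) and Z/(B + xZ) = (Z/B) ⊗ A/(x) (bottom right) is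
cartesian in the category of A-modules. All four corners are written as quotients of Z by the
preimages of the submodules xB, xZ, B, B + xZ of K^q. -/
theorem result (A : Type u) [CommRing A] (l : List A) (q : ℤ)
    (K : CochainComplex (ModuleCat.{u} A) ℤ) (hK : K = Koszul.koszul A l)
    (hBZ : LinearMap.range (K.d (q - 1) q).hom ≤ LinearMap.ker (K.d q (q + 1)).hom)
    (x : A) (hx : x ∈ nonZeroDivisors A)
    (hxH : IsSMulRegular (↥(LinearMap.ker (K.d q (q + 1)).hom) ⧸ Submodule.comap (LinearMap.ker (K.d q (q + 1)).hom).subtype (LinearMap.range (K.d (q - 1) q).hom)) x) :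
    IsPullback
      (ModuleCat.ofHom (Submodule.factor (Submodule.comap_mono (Submodule.smul_mono le_rfl hBZ) :
        Submodule.comap (LinearMap.ker (K.d q (q + 1)).hom).subtype (Ideal.span {x} • LinearMap.range (K.d (q - 1) q).hom) ≤
          Submodule.comap (LinearMap.ker (K.d q (q + 1)).hom).subtype (Ideal.span {x} • LinearMap.ker (K.d q (q + 1)).hom))))
      (ModuleCat.ofHom (Submodule.factor (Submodule.comap_mono (Submodule.smul_le_right) :
        Submodule.comap (LinearMap.ker (K.d q (q + 1)).hom).subtype (Ideal.span {x} • LinearMap.range (K.d (q - 1) q).hom) ≤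
          Submodule.comap (LinearMap.ker (K.d q (q + 1)).hom).subtype (LinearMap.range (K.d (q - 1) q).hom))))
      (ModuleCat.ofHom (Submodule.factor (Submodule.comap_mono le_sup_right :
        Submodule.comap (LinearMap.ker (K.d q (q + 1)).hom).subtype (Ideal.span {x} • LinearMap.ker (K.d q (q + 1)).hom) ≤
          Submodule.comap (LinearMap.ker (K.d q (q + 1)).hom).subtype (LinearMap.range (K.d (q - 1) q).hom ⊔ Ideal.span {x} • LinearMap.ker (K.d q (q + 1)).hom))))
      (ModuleCat.ofHom (Submodule.factor (Submodule.comap_mono le_sup_left :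
        Submodule.comap (LinearMap.ker (K.d q (q + 1)).hom).subtype (LinearMap.range (K.d (q - 1) q).hom) ≤
          Submodule.comap (LinearMap.ker (K.d q (q + 1)).hom).subtype (LinearMap.range (K.d (q - 1) q).hom ⊔ Ideal.span {x} • LinearMap.ker (K.d q (q + 1)).hom)))) := by
  subst hK
  apply isPullback_factor
  · -- injectivity: xZ ∩ B ≤ xB
    rintro ⟨z, hzZ⟩ ⟨h1, h2⟩
    simp only [Submodule.mem_comap, Submodule.subtype_apply] at h1 h2 ⊢
    rw [Submodule.ideal_span_singleton_smul] at h1 ⊢
    obtain ⟨z', hz', rfl⟩ := (Submodule.mem_smul_pointwise_iff_exists _ _ _).1 h1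
    refine (Submodule.mem_smul_pointwise_iff_exists _ _ _).2 ⟨z', ?_, rfl⟩
    -- class of z' in Z / comap B is killed by x
    have h3 : x • (Submodule.Quotient.mk (⟨z', hz'⟩ : ↥(LinearMap.ker ((Koszul.koszul A l).d q (q + 1)).hom)) :
        ↥(LinearMap.ker ((Koszul.koszul A l).d q (q + 1)).hom) ⧸
          Submodule.comap (LinearMap.ker ((Koszul.koszul A l).d q (q + 1)).hom).subtype
            (LinearMap.range ((Koszul.koszul A l).d (q - 1) q).hom)) = x • 0 := by
      rw [smul_zero, ← Submodule.Quotient.mk_smul, Submodule.Quotient.mk_eq_zero]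
      exact h2
    have h4 := hxH h3
    rw [Submodule.Quotient.mk_eq_zero] at h4
    exact h4
  · -- surjectivity
    rintro ⟨z, hzZ⟩ h
    simp only [Submodule.mem_comap, Submodule.subtype_apply] at h
    obtain ⟨b, hb, y, hy, hsum⟩ := Submodule.mem_sup.1 h
    have hyZ : y ∈ LinearMap.ker ((Koszul.koszul A l).d q (q + 1)).hom :=
      Submodule.smul_le_right hy
    refine Submodule.mem_sup.2 ⟨⟨y, hyZ⟩, ?_, ⟨b, hBZ hb⟩, ?_, ?_⟩
    · simpa only [Submodule.mem_comap, Submodule.subtype_apply] using hy
    · simpa only [Submodule.mem_comap, Submodule.subtype_apply] using hb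
    · apply Subtype.ext
      simp only [Submodule.coe_add]
      rw [add_comm]; exact hsum

end Groth.Agent.S15818
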