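import Groth.Statements.S1582
import Mathlib
import Groth.Agent.Lib.Helper18.GeomRedPts
import Groth.Agent.Lib.Helper4.GeomIrrSep


set_option autoImplicit false
universe u
open CategoryTheory CategoryTheory.Limits AlgebraicGeometry
open Variety

namespace Groth.Agent.S1582

/-- Let k be algebraically closed and X, Y varieties over k (integral, separated, of finite type). Then
the fibre product X ×_k Y is integral (and so again a variety over k). -/
theorem result (k : Type u) [Field k] [IsAlgClosed k] (X Y : Scheme.{u})
    (f : X ⟶ Spec (CommRingCat.of k)) (g : Y ⟶ Spec (CommRingCat.of k))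
    [IsIntegral X] [IsIntegral Y] [IsSeparated f] [IsSeparated g]
    [LocallyOfFiniteType f] [LocallyOfFiniteType g] [QuasiCompact f] [QuasiCompact g] :
    IsIntegral (pullback f g) := by
  haveI : JacobsonSpace X := LocallyOfFiniteType.jacobsonSpace f
  haveI : IrreducibleSpace X := inferInstance
  haveI hred : GeometricallyReduced f := by
    refine Groth.Agent.Helper18.GeomRedPts.geometricallyReduced_of_dense_ratPts f (closedPoints X)
      ?_ ?_
    · rw [dense_iff_closure_eq]
      exact closure_closedPoints
    · intro x hx
      exact ⟨pointOfClosedPoint f x hx, pointOfClosedPoint_comp f x hx,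
        pointOfClosedPoint_apply f x hx _⟩
  haveI hirr : GeometricallyIrreducible f :=
    Groth.Agent.Helper4.GeomIrrSep.geometricallyIrreducible_of_isSepClosed f
  haveI : GeometricallyIntegral f :=
    GeometricallyIntegral.of_geometricallyReduced_of_geometricallyIrreducible f
  haveI : IsLocallyNoetherian Y := LocallyOfFiniteType.isLocallyNoetherian g
  infer_instance

end Groth.Agent.S1582
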