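import Groth.Statements.S15828
import Mathlib
import Groth.Agent.Lib.Helper23.KoszTen2

set_option autoImplicit false
universe u
open CategoryTheory CategoryTheory.Limits MonoidalCategory
open Koszul

namespace Groth.Agent.S15828

set_option linter.style.haveILetI false
set_option linter.unusedVariables false
set_option linter.unusedSectionVars false
open HomologicalComplex CochainComplex HomComplex Groth.Agent.Helper23.KoszTen

variable {A : Type u} [CommRing A]

/-- mapping cones of endomorphisms conjugate under an isomorphism are isomorphic. -/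
noncomputable def coneIso {K L : CochainComplex (ModuleCat.{u} A) ℤ} (φ₁ : K ⟶ K) (φ₂ : L ⟶ L)
    (e : K ≅ L) (comm : φ₁ ≫ e.hom = e.hom ≫ φ₂) :
    mappingCone φ₁ ≅ mappingCone φ₂ where
  hom := mappingCone.map φ₁ φ₂ e.hom e.hom comm
  inv := mappingCone.map φ₂ φ₁ e.inv e.inv
    (by rw [← cancel_mono e.hom, Category.assoc, Category.assoc, e.inv_hom_id, Category.comp_id,
      comm, e.inv_hom_id_assoc])
  hom_inv_id := by
    rw [← mappingCone.map_comp]
    have h1 : e.hom ≫ e.inv = 𝟙 K := e.hom_inv_id
    simp only [h1]
    exact mappingCone.map_id _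
  inv_hom_id := by
    rw [← mappingCone.map_comp]
    have h1 : e.inv ≫ e.hom = 𝟙 L := e.inv_hom_id
    simp only [h1]
    exact mappingCone.map_id _

theorem smul_id_whiskerRight (x : A) (K L : DRing.Cx A) :
    (x • 𝟙 K) ▷ L = x • 𝟙 (K ⊗ L) := by
  apply HomologicalComplex.hom_ext
  intro n
  apply HomologicalComplex.mapBifunctor.hom_ext
  intro p q hpq
  have h := ι_mapBifunctorMap (x • 𝟙 K) (𝟙 L) (curriedTensor (ModuleCat.{u} A)) (ComplexShape.up ℤ)
    p q n hpq
  erw [h]
  simp only [HomologicalComplex.smul_f_apply, HomologicalComplex.id_f]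
  dsimp
  rw [MonoidalLinear.smul_whiskerRight]
  simp only [id_whiskerRight, MonoidalCategory.whiskerLeft_id, Category.id_comp, Linear.smul_comp]
  congr 1

theorem main (A : Type u) [CommRing A] (f g : List A) :
    Nonempty ((MonoidalCategoryStruct.tensorObj (C := DRing.Cx A) (Koszul.koszul A f) (Koszul.koszul A g)) ≅
      Koszul.koszul A (f ++ g)) := by
  induction f with
  | nil =>
    have e : Koszul.koszul A [] ≅ 𝟙_ (DRing.Cx A) := Iso.refl _
    exact ⟨whiskerRightIso e (Koszul.koszul A g) ≪≫ λ_ (Koszul.koszul A g)⟩
  | cons x l ih =>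
    obtain ⟨e⟩ := ih
    have e1 := coneTensorIso (Koszul.koszul A g) (x • 𝟙 (Koszul.koszul A l))
    have e2 : mappingCone ((x • 𝟙 (Koszul.koszul A l)) ▷ Koszul.koszul A g) ≅
        mappingCone (x • 𝟙 (Koszul.koszul A (l ++ g))) :=
      coneIso _ _ e (by
        rw [smul_id_whiskerRight, Linear.smul_comp, Linear.comp_smul, Category.id_comp,
          Category.comp_id])
    exact ⟨e1 ≪≫ e2⟩

/-- Let A be a commutative ring and f = (f_1, …, f_r), g = (g_1, …, g_s) finite sequences of elements of
A (Koszul complexes of free modules of finite rank with chosen bases). Then the tensor product of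
cochain complexes K(f) ⊗ K(g) is isomorphic to the Koszul complex K(f_1, …, f_r, g_1, …, g_s) of the
concatenated sequence (existence of an isomorphism of cochain complexes of A-modules; the Koszul
complexes are the iterated mapping-cone model and ⊗ is the tensor product of complexes). The second
assertion of the published statement, K(f, g) ≅ Cone(g : K(f) → K(f)) for a single element g, is the
defining recursion of the mapping-cone model and is not restated. -/
theorem result (A : Type u) [CommRing A] (f g : List A) :
    Nonempty ((MonoidalCategoryStruct.tensorObj (C := DRing.Cx A) (Koszul.koszul A f) (Koszul.koszul A g)) ≅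
      Koszul.koszul A (f ++ g)) := by
  exact main A f g

end Groth.Agent.S15828
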