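import Groth.Statements.S15832
import Mathlib

set_option autoImplicit false
universe u
open TopGrp

namespace Groth.Agent.S15832

theorem aux (T : Type u) [Group T] (τ : TopologicalSpace T) :
    @NonarchimedeanGroup T _ (TopologicalSpace.generateFrom
      {S : Set T | ∃ (Γ : @OpenSubgroup T _ τ) (x y : T), S = (fun g : T => x * g * y) '' (Γ : Set T)}) := by
  set G : Set (Set T) := {S : Set T | ∃ (Γ : @OpenSubgroup T _ τ) (x y : T),
    S = (fun g : T => x * g * y) '' (Γ : Set T)} with hG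
  letI τ' : TopologicalSpace T := TopologicalSpace.generateFrom G
  have hopen : ∀ (Γ : @OpenSubgroup T _ τ) (x y : T),
      IsOpen ((fun g : T => x * g * y) '' (Γ : Set T)) :=
    fun Γ x y => TopologicalSpace.isOpen_generateFrom_of_mem ⟨Γ, x, y, rfl⟩
  have hinv : Continuous (fun a : T => a⁻¹) := by
    apply continuous_generateFrom_iff.mpr
    rintro _ ⟨Γ, x, y, rfl⟩
    have : (fun a : T => a⁻¹) ⁻¹' ((fun g : T => x * g * y) '' (Γ : Set T))
        = (fun g : T => y⁻¹ * g * x⁻¹) '' (Γ : Set T) := by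
      ext a
      simp only [Set.mem_preimage, Set.mem_image, SetLike.mem_coe]
      constructor
      · rintro ⟨γ, hγ, h⟩
        refine ⟨γ⁻¹, inv_mem hγ, ?_⟩
        rw [← inv_inj, ← h]; group
      · rintro ⟨γ, hγ, rfl⟩
        exact ⟨γ⁻¹, inv_mem hγ, by group⟩
    rw [this]; exact hopen Γ _ _
  have hmul : Continuous (fun p : T × T => p.1 * p.2) := by
    apply continuous_generateFrom_iff.mpr
    rintro _ ⟨Γ, x, y, rfl⟩
    rw [isOpen_prod_iff]
    rintro a b ⟨γ, hγ, hab⟩
    refine ⟨(fun g => x * g * (x⁻¹ * a)) '' (Γ : Set T), (fun g => (b * y⁻¹) * g * y) '' (Γ : Set T),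
      hopen _ _ _, hopen _ _ _, ⟨1, one_mem _, by group⟩, ⟨1, one_mem _, by group⟩, ?_⟩
    rintro ⟨_, _⟩ ⟨⟨γ₁, hγ₁, rfl⟩, ⟨γ₂, hγ₂, rfl⟩⟩
    refine ⟨γ₁ * γ * γ₂, mul_mem (mul_mem hγ₁ hγ) hγ₂, ?_⟩
    have hab' : a * b = x * γ * y := hab.symm
    calc x * (γ₁ * γ * γ₂) * y = x * γ₁ * x⁻¹ * (x * γ * y) * y⁻¹ * γ₂ * y := by group
      _ = x * γ₁ * x⁻¹ * (a * b) * y⁻¹ * γ₂ * y := by rw [hab']
      _ = (x * γ₁ * (x⁻¹ * a)) * ((b * y⁻¹) * γ₂ * y) := by group
  have hgrp : ∀ S ∈ G, (1 : T) ∈ S →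
      (∀ g h, g ∈ S → h ∈ S → g * h ∈ S) ∧ (∀ g, g ∈ S → g⁻¹ ∈ S) := by
    rintro _ ⟨Γ, x, y, rfl⟩ ⟨γ₀, hγ₀, h0⟩
    have hyx : y * x = γ₀⁻¹ := by
      have h0' : x * γ₀ * y = 1 := h0
      have : y * x = γ₀⁻¹ * (x⁻¹ * (x * γ₀ * y)) * x := by group
      rw [this, h0']; group
    constructor
    · rintro _ _ ⟨γ₁, hγ₁, rfl⟩ ⟨γ₂, hγ₂, rfl⟩
      refine ⟨γ₁ * γ₀⁻¹ * γ₂, mul_mem (mul_mem hγ₁ (inv_mem hγ₀)) hγ₂, ?_⟩
      calc x * (γ₁ * γ₀⁻¹ * γ₂) * y = x * γ₁ * γ₀⁻¹ * γ₂ * y := by group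
        _ = x * γ₁ * (y * x) * γ₂ * y := by rw [hyx]
        _ = (x * γ₁ * y) * (x * γ₂ * y) := by group
    · rintro _ ⟨γ₁, hγ₁, rfl⟩
      refine ⟨γ₀ * γ₁⁻¹ * γ₀, mul_mem (mul_mem hγ₀ (inv_mem hγ₁)) hγ₀, ?_⟩
      have hγ0 : γ₀ = (y * x)⁻¹ := by rw [hyx, inv_inv]
      calc x * (γ₀ * γ₁⁻¹ * γ₀) * y = x * γ₀ * γ₁⁻¹ * γ₀ * y := by group
        _ = x * (y * x)⁻¹ * γ₁⁻¹ * (y * x)⁻¹ * y := by rw [← hγ0]
        _ = (x * γ₁ * y)⁻¹ := by group
  refine @NonarchimedeanGroup.mk T _ τ' (@IsTopologicalGroup.mk T τ' _ ⟨hmul⟩ ⟨hinv⟩) ?_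
  intro U hU
  have hbasis := TopologicalSpace.isTopologicalBasis_of_subbasis (rfl : τ' = TopologicalSpace.generateFrom G)
  obtain ⟨_, ⟨F, ⟨hFfin, hFsub⟩, rfl⟩, h1, hFU⟩ := hbasis.mem_nhds_iff.mp hU
  let V : Subgroup T :=
    { carrier := ⋂₀ F
      mul_mem' := by
        intro g h hg hh S hS
        exact (hgrp S (hFsub hS) (h1 S hS)).1 g h (hg S hS) (hh S hS)
      one_mem' := h1
      inv_mem' := by
        intro g hg S hS
        exact (hgrp S (hFsub hS) (h1 S hS)).2 g (hg S hS) }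
  refine ⟨⟨V, ?_⟩, hFU⟩
  exact hFfin.isOpen_sInter (fun S hS => TopologicalSpace.isOpen_generateFrom_of_mem (hFsub hS))

/-- For a group T with a topology, let B be the family of two-sided translates x Γ y, where Γ runs over
the subgroups of T open in the given topology and x, y over T; the topology generated by B makes T a
topological group in which every neighbourhood of the identity contains a subgroup open for that
topology. (The published statement is for the free topological product of two Noohi groups whose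
open subgroups form a basis of neighbourhoods of the identity; the argument uses only the group
structure and the chosen family of subgroups, so the row is stated for an arbitrary group with a
topology. The published conventions include Hausdorffness in the word topological group; this row
does not assert it, and the published argument does not prove it.) -/
theorem result (T : Type u) [Group T]
    [TopologicalSpace T] :
    @NonarchimedeanGroup T _ (TopologicalSpace.generateFrom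
      {S : Set T | ∃ (Γ : OpenSubgroup T) (x y : T), S = (fun g : T => x * g * y) '' (Γ : Set T)}) := by
  exact aux T _

end Groth.Agent.S15832
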