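import Groth.Statements.S15833
import Mathlib

set_option autoImplicit false
universe u
open EtBase

namespace Groth.Agent.S15833

open CategoryTheory CategoryTheory.Limits AlgebraicGeometry

theorem dirA {X X₀ Y : Scheme.{u}} (i : X₀ ⟶ X) (f : Y ⟶ X)
    (h : ValuativeCriterion f) : ValuativeCriterion (pullback.snd f i) := by
  intro S
  have w : (S.i₁ ≫ pullback.fst f i) ≫ f =
      Spec.map (CommRingCat.ofHom (algebraMap S.R S.K)) ≫ (S.i₂ ≫ i) := by
    rw [Category.assoc, pullback.condition, ← Category.assoc, S.commSq.w, Category.assoc]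
  let S' : ValuativeCommSq f :=
    { R := S.R, K := S.K, i₁ := S.i₁ ≫ pullback.fst f i, i₂ := S.i₂ ≫ i, commSq := ⟨w⟩ }
  obtain ⟨hU⟩ := h S'
  let l' := hU.default
  have hl1 : Spec.map (CommRingCat.ofHom (algebraMap S.R S.K)) ≫ l'.l = S.i₁ ≫ pullback.fst f i :=
    l'.fac_left
  have hl2 : l'.l ≫ f = S.i₂ ≫ i := l'.fac_right
  have hL1 : Spec.map (CommRingCat.ofHom (algebraMap S.R S.K)) ≫ pullback.lift l'.l S.i₂ hl2 =
      S.i₁ := by
    apply pullback.hom_ext
    · rw [Category.assoc, pullback.lift_fst, hl1]
    · rw [Category.assoc, pullback.lift_snd, S.commSq.w]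
  have hL2 : pullback.lift l'.l S.i₂ hl2 ≫ pullback.snd f i = S.i₂ := by
    rw [pullback.lift_snd]
  refine ⟨⟨⟨⟨pullback.lift l'.l S.i₂ hl2, hL1, hL2⟩⟩, ?_⟩⟩
  · intro m
    have hm1 : Spec.map (CommRingCat.ofHom (algebraMap S.R S.K)) ≫ m.l = S.i₁ := m.fac_left
    have hm2 : m.l ≫ pullback.snd f i = S.i₂ := m.fac_right
    let m' : S'.commSq.LiftStruct :=
      { l := m.l ≫ pullback.fst f i
        fac_left := by
          show Spec.map (CommRingCat.ofHom (algebraMap S.R S.K)) ≫ m.l ≫ pullback.fst f i = _
          rw [reassoc_of% hm1]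
        fac_right := by
          show (m.l ≫ pullback.fst f i) ≫ f = S.i₂ ≫ i
          rw [Category.assoc, pullback.condition, reassoc_of% hm2] }
    have hmm : m' = l' := hU.uniq m'
    have hmm' : m.l ≫ pullback.fst f i = l'.l := congrArg CommSq.LiftStruct.l hmm
    apply CommSq.LiftStruct.ext
    show m.l = pullback.lift l'.l S.i₂ hl2
    apply pullback.hom_ext
    · rw [pullback.lift_fst, hmm']
    · rw [pullback.lift_snd, hm2]

theorem dirB {X X₀ Y : Scheme.{u}} (i : X₀ ⟶ X)
    [IsClosedImmersion i] [Surjective i] (f : Y ⟶ X)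
    (h : ValuativeCriterion (pullback.snd f i)) : ValuativeCriterion f := by
  intro S
  have : IsIso (pullback.fst S.i₂ i) := isIso_of_isClosedImmersion_of_surjective _
  let j : Spec (.of S.R) ⟶ X₀ := inv (pullback.fst S.i₂ i) ≫ pullback.snd S.i₂ i
  have hj : j ≫ i = S.i₂ := by
    rw [Category.assoc, ← pullback.condition, IsIso.inv_hom_id_assoc]
  have w0 : S.i₁ ≫ f = (Spec.map (CommRingCat.ofHom (algebraMap S.R S.K)) ≫ j) ≫ i := by
    rw [Category.assoc, hj, S.commSq.w]
  have w : pullback.lift S.i₁ (Spec.map (CommRingCat.ofHom (algebraMap S.R S.K)) ≫ j) w0 ≫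
      pullback.snd f i = Spec.map (CommRingCat.ofHom (algebraMap S.R S.K)) ≫ j := by
    rw [pullback.lift_snd]
  let S' : ValuativeCommSq (pullback.snd f i) :=
    { R := S.R, K := S.K,
      i₁ := pullback.lift S.i₁ (Spec.map (CommRingCat.ofHom (algebraMap S.R S.K)) ≫ j) w0,
      i₂ := j, commSq := ⟨w⟩ }
  obtain ⟨hU⟩ := h S'
  let l' := hU.default
  have hl1 : Spec.map (CommRingCat.ofHom (algebraMap S.R S.K)) ≫ l'.l =
      pullback.lift S.i₁ (Spec.map (CommRingCat.ofHom (algebraMap S.R S.K)) ≫ j) w0 :=
    l'.fac_left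
  have hl2 : l'.l ≫ pullback.snd f i = j := l'.fac_right
  have hL1 : Spec.map (CommRingCat.ofHom (algebraMap S.R S.K)) ≫ l'.l ≫ pullback.fst f i =
      S.i₁ := by
    rw [reassoc_of% hl1, pullback.lift_fst]
  have hL2 : (l'.l ≫ pullback.fst f i) ≫ f = S.i₂ := by
    rw [Category.assoc, pullback.condition, reassoc_of% hl2, hj]
  refine ⟨⟨⟨⟨l'.l ≫ pullback.fst f i, hL1, hL2⟩⟩, ?_⟩⟩
  · intro m
    have hm1 : Spec.map (CommRingCat.ofHom (algebraMap S.R S.K)) ≫ m.l = S.i₁ := m.fac_left
    have hm2 : m.l ≫ f = S.i₂ := m.fac_right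
    let m' : S'.commSq.LiftStruct :=
      { l := pullback.lift m.l j (by rw [hm2, hj])
        fac_left := by
          show Spec.map (CommRingCat.ofHom (algebraMap S.R S.K)) ≫ pullback.lift m.l j _ = 
            pullback.lift S.i₁ (Spec.map (CommRingCat.ofHom (algebraMap S.R S.K)) ≫ j) w0
          apply pullback.hom_ext
          · rw [Category.assoc, pullback.lift_fst, pullback.lift_fst, hm1]
          · rw [Category.assoc, pullback.lift_snd, pullback.lift_snd]
        fac_right := by
          show pullback.lift m.l j _ ≫ pullback.snd f i = j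
          rw [pullback.lift_snd] }
    have hmm : m' = l' := hU.uniq m'
    have hmm' : pullback.lift m.l j (by rw [hm2, hj]) = l'.l := congrArg CommSq.LiftStruct.l hmm
    apply CommSq.LiftStruct.ext
    show m.l = l'.l ≫ pullback.fst f i
    rw [← hmm', pullback.lift_fst]

open CategoryTheory CategoryTheory.Limits AlgebraicGeometry in
/-- Let i : X₀ ⟶ X be a surjective closed immersion of schemes and f : Y ⟶ X a morphism. Then f
satisfies the valuative criterion (existence and uniqueness of a lift in every valuative square,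
over arbitrary valuation rings) if and only if its base change Y ×_X X₀ ⟶ X₀ does. (The published
statement takes X locally Noetherian and connected, X₀ the reduced closed subscheme with the same
underlying space and f étale, and combines this step with the equivalence between étale schemes over
X and over X₀ to identify the geometric coverings, i.e. the étale morphisms satisfying the valuative
criterion, of X and of X₀; the argument for this step uses only that X₀ ⟶ X is a surjective closed
immersion and that valuation rings are reduced.) -/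
theorem result {X X₀ Y : Scheme.{u}} (i : X₀ ⟶ X)
    [IsClosedImmersion i] [Surjective i] (f : Y ⟶ X) :
    ValuativeCriterion f ↔ ValuativeCriterion (pullback.snd f i) := by
  exact ⟨dirA i f, dirB i f⟩

end Groth.Agent.S15833
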