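import Groth.Statements.S15835
import Mathlib.Tactic
import Mathlib.Algebra.CharP.Invertible
import Mathlib.Algebra.Polynomial.Expand
import Mathlib.Algebra.CharP.Lemmas

set_option autoImplicit false
universe u
open SprIso

namespace Groth.Agent.S15835

/-- Over a commutative ring R of prime characteristic p, let n ≥ 1 and let p^m be the largest power of p
dividing n. The locus of n × n matrices with characteristic polynomial t^n is stable under adding a
scalar matrix a·1 with n·a = 0 exactly when a^(p^m) = 0: for X with characteristic polynomial t^n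
and such an a, the matrix X + a·1 has characteristic polynomial t^n if and only if a^(p^m) = 0.
(Stated on points with values in an arbitrary ring of characteristic p; the scheme-theoretic
assertion about the nilpotent scheme of SL_n is this statement for all such rings.) -/
theorem result (p : ℕ) [Fact p.Prime] (R : Type u) [CommRing R]
    [CharP R p] (n : ℕ) (hn : 0 < n) (X : Matrix (Fin n) (Fin n) R) (hX : X.charpoly = Polynomial.X ^ n)
    (a : R) (ha : (n : R) * a = 0) :
    (X + Matrix.scalar (Fin n) a).charpoly = Polynomial.X ^ n ↔ a ^ (p ^ padicValNat p n) = 0 := by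
  have hp : p.Prime := Fact.out
  obtain ⟨n', hn'⟩ : p ^ padicValNat p n ∣ n := pow_padicValNat_dvd
  have hn'p : ¬ p ∣ n' := by
    intro h
    obtain ⟨m, rfl⟩ := h
    have hd : p ^ (padicValNat p n + 1) ∣ n := ⟨m, by rw [pow_succ, mul_assoc]; exact hn'⟩
    exact pow_succ_padicValNat_not_dvd hn.ne' hd
  have hn'pos : 0 < n' := by
    rcases Nat.eq_zero_or_pos n' with h0 | h0
    · rw [h0, mul_zero] at hn'; omega
    · exact h0
  have hchar : (X + Matrix.scalar (Fin n) a).charpoly = (Polynomial.X - Polynomial.C a) ^ n := by
    have h := Matrix.charpoly_sub_scalar X (-a)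
    rw [map_neg, sub_neg_eq_add] at h
    rw [h, hX]
    simp [sub_eq_add_neg]
  rw [hchar]
  have hpow : (Polynomial.X - Polynomial.C a : Polynomial R) ^ n
      = Polynomial.expand R (p ^ padicValNat p n)
        ((Polynomial.X - Polynomial.C (a ^ (p ^ padicValNat p n))) ^ n') := by
    conv_lhs => rw [hn', pow_mul, sub_pow_char_pow]
    rw [map_pow, map_sub, Polynomial.expand_X, Polynomial.expand_C, Polynomial.C_pow]
  have hXn : (Polynomial.X : Polynomial R) ^ n
      = Polynomial.expand R (p ^ padicValNat p n) (Polynomial.X ^ n') := by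
    rw [map_pow, Polynomial.expand_X, ← pow_mul]
    conv_lhs => rw [hn']
  rw [hpow, hXn, Polynomial.expand_inj (pow_pos hp.pos _)]
  constructor
  · intro h
    obtain ⟨m, rfl⟩ : ∃ m, n' = m + 1 := ⟨n' - 1, by omega⟩
    have hc := congrArg (fun f => Polynomial.coeff f m) h
    beta_reduce at hc
    rw [sub_eq_add_neg, ← Polynomial.C_neg, Polynomial.coeff_X_add_C_pow, Polynomial.coeff_X_pow] at hc
    have h1 : m + 1 - m = 1 := by omega
    rw [h1, pow_one, if_neg (by omega), Nat.choose_succ_self_right] at hc
    have hu : IsUnit ((m + 1 : ℕ) : R) := (CharP.isUnit_natCast_iff hp).mpr hn'p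
    have := (hu.mul_left_eq_zero).mp hc
    exact neg_eq_zero.mp this
  · intro h
    rw [h, map_zero, sub_zero]

end Groth.Agent.S15835
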