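import Groth.Statements.S15837
import Groth.Agent.Lib.Helper18.RelBase7

set_option autoImplicit false
universe u
open CategoryTheory MonoidalCategory CartesianMonoidalCategory MonObj GrpObj AlgebraicGeometry
open SprIso

namespace Groth.Agent.S15837

/-- Let S be a scheme, G an S-group scheme of finite presentation acting on an S-scheme X which is
affine and of finite presentation over S, and Y a closed subscheme of X which is finite, flat and of
finite presentation over S. Then the functorial stabilizer of Y in G — whose points with values in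
an S-scheme T are the points g of G such that g acts as the identity on every point of Y with values
in a scheme over T — is represented by a closed subscheme of G whose inclusion is of finite
presentation. -/
theorem result (S : Scheme.{u}) (G X Y : Over S) [GrpObj G]
    [LocallyOfFinitePresentation G.hom] [QuasiCompact G.hom] [QuasiSeparated G.hom]
    [IsAffineHom X.hom] [LocallyOfFinitePresentation X.hom] (a : AlgGrp.Action G X)
    (i : Y ⟶ X) [IsClosedImmersion i.left] [IsFinite Y.hom] [Flat Y.hom] [LocallyOfFinitePresentation Y.hom] :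
    ∃ (Z : Over S) (j : Z ⟶ G), IsClosedImmersion j.left ∧ LocallyOfFinitePresentation j.left ∧
      ∀ (T : Over S) (g : T ⟶ G), (∃ z : T ⟶ Z, z ≫ j = g) ↔
        ∀ (T' : Over S) (t : T' ⟶ T) (y : T' ⟶ Y), lift (t ≫ g) (y ≫ i) ≫ a.act = y ≫ i := by
  haveI hcl : IsClosedImmersion (lift (𝟙 X) (𝟙 X)).left := by
    rw [Over.lift_left]
    exact inferInstanceAs (IsClosedImmersion (Limits.pullback.diagonal X.hom))
  haveI hft : LocallyOfFiniteType (fst X X).left := by
    rw [Over.fst_left]
    infer_instance
  haveI hfp : LocallyOfFinitePresentation (lift (𝟙 X) (𝟙 X)).left := by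
    refine Groth.Agent.Helper7.locallyOfFinitePresentation_of_comp _ (fst X X).left ?_ hft
    have e : (lift (𝟙 X) (𝟙 X)).left ≫ (fst X X).left = 𝟙 X.left := by
      rw [← Over.comp_left, lift_fst]
      rfl
    rw [e]
    infer_instance
  obtain ⟨Z, j, hj, hjfp, h⟩ := Groth.Agent.Helper18.RelBase.pts_closed_fp
    (Groth.Agent.Helper18.RelBase.locFreeFin_of_finite_flat_fp Y)
    (lift (lift (snd Y G) (fst Y G ≫ i) ≫ a.act) (fst Y G ≫ i)) (lift (𝟙 X) (𝟙 X))
  refine ⟨Z, j, hj, hjfp, ?_⟩
  intro T g
  rw [h]
  refine forall_congr' fun T' => forall_congr' fun t => forall_congr' fun y => ?_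
  constructor
  · rintro ⟨x', hx'⟩
    have h1 := congrArg (fun f => f ≫ fst X X) hx'
    have h2 := congrArg (fun f => f ≫ snd X X) hx'
    simp only [Category.assoc, lift_fst, lift_snd, Category.comp_id, lift_fst_assoc,
      lift_snd_assoc, comp_lift_assoc] at h1 h2
    exact h1.trans h2.symm
  · intro hx
    refine ⟨y ≫ i, ?_⟩
    apply CartesianMonoidalCategory.hom_ext
    · simp only [Category.assoc, lift_fst, lift_snd, Category.comp_id, lift_fst_assoc,
        lift_snd_assoc, comp_lift_assoc]
      exact hx
    · simp only [Category.assoc, lift_fst, lift_snd, Category.comp_id, lift_fst_assoc,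
        lift_snd_assoc, comp_lift_assoc]

end Groth.Agent.S15837
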