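import Groth.Statements.S15838
import Mathlib.LinearAlgebra.JordanChevalley

set_option autoImplicit false
universe u
open scoped TensorProduct
open SprIso

namespace Groth.Agent.S15838

/-- General linear group case: this is the case G = GL(V), to which the general case reduces along a
closed embedding. Let k be a perfect field and V a finite-dimensional k-vector space. If an
invertible endomorphism g of V has multiplicative Jordan decomposition g = t u (t semisimple, u
unipotent, t and u commuting), then the scheme-theoretic centralizer of g in GL(V) is the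
centralizer of u inside the centralizer of t: for every commutative k-algebra R, an R-linear
endomorphism h of R ⊗ V commutes with g_R if and only if it commutes with both t_R and u_R.
Likewise, if an endomorphism X of V has additive Jordan decomposition X = Y + N (Y semisimple, N
nilpotent, commuting), then h commutes with X_R if and only if it commutes with both Y_R and N_R. -/
theorem result (k : Type u) [Field k] [PerfectField k]
    (V : Type u) [AddCommGroup V] [Module k V] [FiniteDimensional k V]
    (R : Type u) [CommRing R] [Algebra k R] (h : Module.End R (R ⊗[k] V)) :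
    (∀ (g t u : Module.End k V), IsUnit g → t.IsSemisimple → IsNilpotent (u - 1) → Commute t u → g = t * u →
      (Commute h (g.baseChange R) ↔ Commute h (t.baseChange R) ∧ Commute h (u.baseChange R))) ∧
    (∀ (X Y N : Module.End k V), Y.IsSemisimple → IsNilpotent N → Commute Y N → X = Y + N →
      (Commute h (X.baseChange R) ↔ Commute h (Y.baseChange R) ∧ Commute h (N.baseChange R))) := by
  have hadd : ∀ (X Y N : Module.End k V), Y.IsSemisimple → IsNilpotent N → Commute Y N → X = Y + N →
      (Commute h (X.baseChange R) ↔ Commute h (Y.baseChange R) ∧ Commute h (N.baseChange R)) := by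
    intro X Y N hY hN hc hX
    constructor
    · intro hh
      obtain ⟨n₀, hn₀, s₀, hs₀, hn₀nil, hs₀ss, h₀⟩ := X.exists_isNilpotent_isSemisimple
      have hcXn : Commute X n₀ := Algebra.commute_of_mem_adjoin_self hn₀
      have hc₀ : Commute n₀ s₀ :=
        Algebra.commute_of_mem_adjoin_singleton_of_commute hs₀ hcXn.symm
      obtain ⟨hNn, hYs⟩ := Module.End.isNilpotent_isSemisimple_unique hN hY hn₀nil hs₀ss hc.symm hc₀
        (by rw [add_comm, ← hX, h₀])
      have key : ∀ y ∈ Algebra.adjoin k {X}, Commute h (y.baseChange R) := by
        intro y hy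
        have h1 : (Module.End.baseChangeHom k R V) y ∈
            Algebra.adjoin k {(Module.End.baseChangeHom k R V) X} := by
          rw [← Set.image_singleton, ← AlgHom.map_adjoin]
          exact ⟨y, hy, rfl⟩
        exact Algebra.commute_of_mem_adjoin_singleton_of_commute h1 hh
      exact ⟨hYs ▸ key s₀ hs₀, hNn ▸ key n₀ hn₀⟩
    · rintro ⟨h1, h2⟩
      rw [hX, LinearMap.baseChange_add]
      exact h1.add_right h2
  refine ⟨?_, hadd⟩
  intro g t u hg ht hu hc hgtu
  have hc1 : Commute t (u - 1) := hc.sub_right (Commute.one_right t)
  have hN : IsNilpotent (t * (u - 1)) := hc1.isNilpotent_mul_left hu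
  have hcN : Commute t (t * (u - 1)) := (Commute.refl t).mul_right hc1
  have hsum : g = t + t * (u - 1) := by rw [hgtu, mul_sub, mul_one, add_sub_cancel]
  have hiff := hadd g t (t * (u - 1)) ht hN hcN hsum
  constructor
  · intro hh
    have ht' := (hiff.1 hh).1
    refine ⟨ht', ?_⟩
    have htu : IsUnit t := ((hc.isUnit_mul_iff).1 (hgtu ▸ hg)).1
    have htR : IsUnit (t.baseChange R) := htu.map (Module.End.baseChangeHom k R V)
    obtain ⟨tu, htu'⟩ := htR
    have h3 : u.baseChange R = ((tu⁻¹ : (Module.End R (R ⊗[k] V))ˣ) : Module.End R (R ⊗[k] V)) *
        g.baseChange R := by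
      rw [hgtu, LinearMap.baseChange_mul, ← htu', ← mul_assoc, Units.inv_mul, one_mul]
    rw [h3]
    have ht'' : Commute h (tu : Module.End R (R ⊗[k] V)) := by rw [htu']; exact ht'
    exact (Commute.units_inv_right ht'').mul_right hh
  · rintro ⟨h1, h2⟩
    rw [hgtu, LinearMap.baseChange_mul]
    exact h1.mul_right h2

end Groth.Agent.S15838
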