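import Groth.Statements.S15839
import Groth.Agent.Lib.Helper7.FinPres

set_option autoImplicit false
universe u
open CategoryTheory MonoidalCategory CartesianMonoidalCategory MonObj GrpObj AlgebraicGeometry
open SprIso

namespace Groth.Agent.S15839

open CategoryTheory.Limits in
set_option backward.isDefEq.respectTransparency false in
theorem lfp_equalizer_ι_left {S : Scheme.{u}} {X Y : Over S} [LocallyOfFiniteType Y.hom]
    (f g : X ⟶ Y) : LocallyOfFinitePresentation (equalizer.ι f g).left := by
  have hd : LocallyOfFinitePresentation (pullback.diagonal Y.hom) := by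
    apply Groth.Agent.Helper7.locallyOfFinitePresentation_of_comp (pullback.diagonal Y.hom)
      (pullback.fst Y.hom Y.hom)
    · rw [pullback.diagonal_fst]; infer_instance
    · infer_instance
  refine MorphismProperty.of_isPullback
    ((Limits.isPullback_equalizer_prod f g).map (Over.forget _)).flip ?_
  rw [← MorphismProperty.cancel_right_of_respectsIso @LocallyOfFinitePresentation _
    (Over.prodLeftIsoPullback Y Y).hom]
  convert! hd
  ext1 <;> simp [← Over.comp_left]

/-- Let S be a scheme, G an S-group scheme which is affine and of finite presentation over S, and g a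
section of G over S. Then the centralizer of g — the subfunctor of G whose points with values in an
S-scheme T are the points x of G with x g_T = g_T x — is represented by a closed subscheme of G
whose inclusion is of finite presentation. -/
theorem result (S : Scheme.{u}) (G : Over S) [GrpObj G]
    [IsAffineHom G.hom] [LocallyOfFinitePresentation G.hom] (g : 𝟙_ (Over S) ⟶ G) :
    ∃ (Z : Over S) (j : Z ⟶ G), IsClosedImmersion j.left ∧ LocallyOfFinitePresentation j.left ∧
      ∀ (T : Over S) (x : T ⟶ G), (∃ z : T ⟶ Z, z ≫ j = x) ↔
        x * (toUnit T ≫ g) = (toUnit T ≫ g) * x := by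
  classical
  let φ : G ⟶ G := lift (𝟙 G) (toUnit G ≫ g) ≫ μ
  let ψ : G ⟶ G := lift (toUnit G ≫ g) (𝟙 G) ≫ μ
  have hsep : IsSeparated G.hom := inferInstance
  have hft : LocallyOfFiniteType G.hom := inferInstance
  refine ⟨Limits.equalizer φ ψ, Limits.equalizer.ι φ ψ, inferInstance,
    lfp_equalizer_ι_left φ ψ, ?_⟩
  intro T x
  have h0 : x ≫ toUnit G ≫ g = toUnit T ≫ g := by
    rw [← Category.assoc]; congr 1; exact toUnit_unique _ _
  have h1 : x ≫ φ = x * (toUnit T ≫ g) := by
    simp only [φ, Hom.mul_def]
    rw [← Category.assoc, comp_lift, Category.comp_id, h0]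
  have h2 : x ≫ ψ = (toUnit T ≫ g) * x := by
    simp only [ψ, Hom.mul_def]
    rw [← Category.assoc, comp_lift, Category.comp_id, h0]
  rw [← h1, ← h2]
  constructor
  · rintro ⟨z, rfl⟩
    rw [Category.assoc, Category.assoc, Limits.equalizer.condition]
  · intro h
    exact ⟨Limits.equalizer.lift x h, Limits.equalizer.lift_ι _ _⟩

end Groth.Agent.S15839
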