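import Groth.Statements.S15841

set_option autoImplicit false
universe u
open scoped TensorProduct
open SprIso

namespace Groth.Agent.S15841

/-- For a connected reductive group G with maximal torus T whose derived group is simply connected, and
a Coxeter element w (the product of the simple reflections, each once, in any order), an element of
Lie T = k ⊗ X_*(T) fixed by Ad(w) is killed by the differential of every simple root, i.e. lies in
the centre of Lie G. In root-datum form: let P be a root pairing over ℤ with character lattice M and
cocharacter lattice N, b a base, and suppose each simple coroot has a dual character ω_i in M with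
⟨ω_i, α_i^∨⟩ = 1 and ⟨ω_i, α_j^∨⟩ = 0 for every other simple j (the simply connected derived group
hypothesis). If l lists the simple roots without repetition, w^∨ is the composite of the
coreflections along l acting on N, k is a field and H in k ⊗ N satisfies w^∨_k H = H, then (α_i)_k H
= 0 for every simple root α_i, where (α_i)_k is the base change to k of the functional ⟨α_i, −⟩ on
N. (Stated for an arbitrary field k; the published setting is an algebraically closed field, and the
argument does not depend on k.) -/
theorem result {ι M N : Type u} [AddCommGroup M] [AddCommGroup N]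
    (P : RootPairing ι ℤ M N) (b : P.Base)
    (hsc : ∀ i ∈ b.support, ∃ ω : M, P.coroot' i ω = 1 ∧ ∀ j ∈ b.support, j ≠ i → P.coroot' j ω = 0)
    (l : List ι) (hl : l.Nodup) (hlb : ∀ i : ι, i ∈ l ↔ i ∈ b.support)
    (k : Type u) [Field k] (H : k ⊗[ℤ] N)
    (hH : ((l.map (fun i => ((P.coreflection i : N ≃ₗ[ℤ] N) : N →ₗ[ℤ] N))).prod).baseChange k H = H) :
    ∀ i ∈ b.support, (P.root' i).baseChange k H = 0 := by
  classical
  have I1 : ∀ (i : ι) (H : k ⊗[ℤ] N),
      (((P.coreflection i : N ≃ₗ[ℤ] N) : N →ₗ[ℤ] N).baseChange k) H =
        H - (TensorProduct.AlgebraTensorModule.rid ℤ k k ((P.root' i).baseChange k H)) •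
          ((1 : k) ⊗ₜ[ℤ] P.coroot i) := by
    intro i H
    induction H using TensorProduct.induction_on with
    | zero => simp
    | tmul a n =>
      rw [LinearMap.baseChange_tmul, LinearMap.baseChange_tmul, LinearEquiv.coe_coe,
        P.coreflection_apply, TensorProduct.tmul_sub]
      congr 1
      rw [TensorProduct.AlgebraTensorModule.rid_tmul, TensorProduct.tmul_smul,
        TensorProduct.smul_tmul', TensorProduct.smul_tmul', smul_eq_mul, mul_one]
    | add x y hx hy =>
      rw [map_add, hx, hy, map_add, map_add, add_smul]; abel
  have hω : ∀ (ω : M) (i : ι), (P.toLinearMap ω).baseChange k ((1 : k) ⊗ₜ[ℤ] P.coroot i) =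
      (1 : k) ⊗ₜ[ℤ] (P.coroot' i ω) := by
    intro ω i
    rw [LinearMap.baseChange_tmul]
    rfl
  have lemA : ∀ (l' : List ι) (ω : M), (∀ i ∈ l', P.coroot' i ω = 0) → ∀ H : k ⊗[ℤ] N,
      (P.toLinearMap ω).baseChange k
        (((l'.map (fun i => ((P.coreflection i : N ≃ₗ[ℤ] N) : N →ₗ[ℤ] N))).prod).baseChange k H) =
      (P.toLinearMap ω).baseChange k H := by
    intro l'
    induction l' with
    | nil =>
      intro ω _ H
      rw [List.map_nil, List.prod_nil, LinearMap.baseChange_one, Module.End.one_apply]
    | cons i l'' ih =>
      intro ω h H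
      rw [List.map_cons, List.prod_cons, LinearMap.baseChange_mul, Module.End.mul_apply, I1,
        map_sub, map_smul, hω, h i (List.mem_cons_self), TensorProduct.tmul_zero, smul_zero,
        sub_zero]
      exact ih ω (fun j hj => h j (List.mem_cons_of_mem _ hj)) H
  have lemB : ∀ (l : List ι), l.Nodup → (∀ i ∈ l, i ∈ b.support) → ∀ H : k ⊗[ℤ] N,
      ((l.map (fun i => ((P.coreflection i : N ≃ₗ[ℤ] N) : N →ₗ[ℤ] N))).prod).baseChange k H = H →
      ∀ i ∈ l, (P.root' i).baseChange k H = 0 := by
    intro l
    induction l with
    | nil => intro _ _ _ _ i hi; simp at hi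
    | cons i l' ih =>
      intro hnd hsup H hH
      rw [List.nodup_cons] at hnd
      obtain ⟨hil', hnd'⟩ := hnd
      obtain ⟨ω, hω1, hω0⟩ := hsc i (hsup i List.mem_cons_self)
      have hω0' : ∀ j ∈ l', P.coroot' j ω = 0 := fun j hj =>
        hω0 j (hsup j (List.mem_cons_of_mem _ hj)) (fun h => hil' (h ▸ hj))
      rw [List.map_cons, List.prod_cons, LinearMap.baseChange_mul, Module.End.mul_apply, I1] at hH
      have h1 := congrArg ((P.toLinearMap ω).baseChange k) hH
      rw [map_sub, map_smul, hω, hω1, lemA l' ω hω0' H, sub_eq_self] at h1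
      have h2 := congrArg (TensorProduct.AlgebraTensorModule.rid ℤ k k) h1
      rw [map_smul, TensorProduct.AlgebraTensorModule.rid_tmul, one_smul, smul_eq_mul, mul_one,
        map_zero] at h2
      rw [h2, zero_smul, sub_zero] at hH
      intro j hj
      rcases List.mem_cons.1 hj with rfl | hj'
      · rw [hH] at h2
        exact (TensorProduct.AlgebraTensorModule.rid ℤ k k).injective (by rw [h2, map_zero])
      · exact ih hnd' (fun j hj => hsup j (List.mem_cons_of_mem _ hj)) H hH j hj'
  intro i hi
  exact lemB l hl (fun i hi => (hlb i).1 hi) H hH i ((hlb i).2 hi)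

end Groth.Agent.S15841
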