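import Groth.Statements.S15842
import Groth.Agent.Lib.Helper23.CycVec

set_option autoImplicit false
universe u
open SprIso

namespace Groth.Agent.S15842

set_option linter.style.haveILetI false
set_option linter.unusedVariables false
set_option linter.unusedSectionVars false
open Polynomial Groth.Agent.Helper23.CycVec
set_option linter.unusedVariables false
set_option linter.style.haveILetI false

section
variable {B : Type u} [CommRing B] {n : ℕ}

theorem commute_aeval (x g : Matrix (Fin n) (Fin n) B) (h : x * g = g * x) (p : B[X]) :
    x * aeval g p = aeval g p * x := by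
  induction p using Polynomial.induction_on' with
  | add p q hp hq => rw [map_add, mul_add, add_mul, hp, hq]
  | monomial k b =>
    rw [← C_mul_X_pow_eq_monomial, map_mul, aeval_C, map_pow, aeval_X]
    have h1 : x * g ^ k = g ^ k * x := by
      induction k with
      | zero => simp
      | succ k ih => rw [pow_succ, ← mul_assoc, ih, mul_assoc, h, ← mul_assoc]
    rw [Algebra.algebraMap_eq_smul_one, smul_mul_assoc, one_mul, mul_smul_comm, smul_mul_assoc, h1]

theorem map_aeval_matrix {C : Type u} [CommRing C] (ψ : B →+* C) (g : Matrix (Fin n) (Fin n) B)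
    (p : B[X]) : (aeval g p).map ψ = aeval (g.map ψ) (p.map ψ) := by
  induction p using Polynomial.induction_on' with
  | add p q hp hq => rw [map_add, Polynomial.map_add, map_add, ← hp, ← hq, Matrix.map_add] <;> simp
  | monomial k b =>
    rw [← C_mul_X_pow_eq_monomial, map_mul, aeval_C, map_pow, aeval_X, Polynomial.map_mul,
      Polynomial.map_C, Polynomial.map_pow, Polynomial.map_X, map_mul, aeval_C, map_pow, aeval_X]
    have h1 : (g ^ k).map ψ = (g.map ψ) ^ k := (map_pow (RingHom.mapMatrix ψ) g k)
    rw [Algebra.algebraMap_eq_smul_one, Algebra.algebraMap_eq_smul_one, smul_mul_assoc, one_mul,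
      smul_mul_assoc, one_mul, ← h1]
    ext i j
    simp [Matrix.map_apply, Matrix.smul_apply]

end

section Local
variable {B : Type u} [CommRing B] [IsLocalRing B] {n : ℕ}

theorem mem_smul_top_of_forall_mem (u : Fin n → B) (hu : ∀ i, u i ∈ IsLocalRing.maximalIdeal B) :
    u ∈ IsLocalRing.maximalIdeal B • (⊤ : Submodule B (Fin n → B)) := by
  have : u = ∑ i, u i • (Pi.single i (1 : B) : Fin n → B) := by
    funext j
    simp [Finset.sum_apply, Pi.single_apply]
  rw [this]
  exact Submodule.sum_mem _ (fun i _ => Submodule.smul_mem_smul (hu i) Submodule.mem_top)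

/-- over a local ring, a matrix which is regular modulo the maximal ideal has a cyclic vector -/
theorem exists_cyclic_local (g : Matrix (Fin n) (Fin n) B)
    (hreg : Module.finrank (IsLocalRing.ResidueField B) (Subalgebra.centralizer (IsLocalRing.ResidueField B)
      ({g.map (IsLocalRing.residue B)} : Set (Matrix (Fin n) (Fin n) (IsLocalRing.ResidueField B)))) = n) :
    ∃ v : Fin n → B, ∀ w : Fin n → B, ∃ p : B[X], w = (aeval g p).mulVec v := by
  obtain ⟨vb, hvb⟩ := exists_cyclic_matrix n (g.map (IsLocalRing.residue B)) hreg
  have hsurj : Function.Surjective (IsLocalRing.residue B) := IsLocalRing.residue_surjective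
  choose v hv using fun i => hsurj (vb i)
  refine ⟨v, ?_⟩
  let Ev : B[X] →ₗ[B] (Fin n → B) :=
    { toFun := fun p => (aeval g p).mulVec v
      map_add' := fun p q => by rw [map_add, Matrix.add_mulVec]
      map_smul' := fun b p => by
        rw [map_smul, Matrix.smul_mulVec]
        rfl }
  have htop : (⊤ : Submodule B (Fin n → B)) ≤ LinearMap.range Ev := by
    apply Submodule.le_of_le_smul_of_le_jacobson_bot (I := IsLocalRing.maximalIdeal B)
      Module.Finite.fg_top (IsLocalRing.maximalIdeal_le_jacobson ⊥)
    intro w _
    obtain ⟨pb, hpb⟩ := hvb (fun i => IsLocalRing.residue B (w i))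
    obtain ⟨p, rfl⟩ := Polynomial.map_surjective _ hsurj pb
    have hdecomp : w = Ev p + (w - Ev p) := by abel
    rw [hdecomp]
    refine Submodule.add_mem_sup ⟨p, rfl⟩ (mem_smul_top_of_forall_mem _ ?_)
    intro i
    rw [← Ideal.Quotient.eq_zero_iff_mem]
    change IsLocalRing.residue B ((w - Ev p) i) = 0
    rw [Pi.sub_apply, map_sub, sub_eq_zero]
    have h1 : IsLocalRing.residue B (w i) = ((aeval (g.map (IsLocalRing.residue B))
        (Polynomial.map (IsLocalRing.residue B) p)).mulVec vb) i := congrFun hpb i
    rw [h1, ← map_aeval_matrix]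
    change _ = IsLocalRing.residue B ((aeval g p).mulVec v i)
    rw [Matrix.mulVec, dotProduct, Matrix.mulVec, dotProduct, map_sum]
    apply Finset.sum_congr rfl
    intro j _
    rw [map_mul, Matrix.map_apply, hv]
  intro w
  obtain ⟨p, hp⟩ := htop (Submodule.mem_top : w ∈ ⊤)
  exact ⟨p, hp.symm⟩

end Local

section Comm
variable {B : Type u} [CommRing B] {n : ℕ}

/-- anything commuting with a matrix having a cyclic vector is a polynomial in it -/
theorem eq_aeval_of_cyclic (g x : Matrix (Fin n) (Fin n) B) (v : Fin n → B)
    (hv : ∀ w : Fin n → B, ∃ p : B[X], w = (aeval g p).mulVec v) (hx : x * g = g * x) :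
    ∃ p : B[X], x = aeval g p := by
  obtain ⟨p, hp⟩ := hv (x.mulVec v)
  refine ⟨p, ?_⟩
  apply Matrix.toLin'.injective
  apply LinearMap.ext
  intro w
  obtain ⟨r, rfl⟩ := hv w
  rw [Matrix.toLin'_apply, Matrix.toLin'_apply, Matrix.mulVec_mulVec, Matrix.mulVec_mulVec,
    commute_aeval x g hx r, ← Matrix.mulVec_mulVec, hp, Matrix.mulVec_mulVec, ← map_mul, mul_comm,
    map_mul]

theorem comm_of_cyclic (g x y : Matrix (Fin n) (Fin n) B) (v : Fin n → B)
    (hv : ∀ w : Fin n → B, ∃ p : B[X], w = (aeval g p).mulVec v) (hx : x * g = g * x)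
    (hy : y * g = g * y) : x * y = y * x := by
  obtain ⟨p, rfl⟩ := eq_aeval_of_cyclic g x v hv hx
  obtain ⟨q, rfl⟩ := eq_aeval_of_cyclic g y v hv hy
  rw [← map_mul, mul_comm, map_mul]

end Comm

theorem main (A : Type u) [CommRing A] (n : ℕ)
    (g : Matrix (Fin n) (Fin n) A)
    (hreg : ∀ (K : Type u) [Field K] (φ : A →+* K),
      Module.finrank K (Subalgebra.centralizer K ({g.map φ} : Set (Matrix (Fin n) (Fin n) K))) = n)
    (B : Type u) [CommRing B] [Algebra A B] (x y : Matrix (Fin n) (Fin n) B)
    (hxg : x * g.map (algebraMap A B) = g.map (algebraMap A B) * x)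
    (hyg : y * g.map (algebraMap A B) = g.map (algebraMap A B) * y) :
    x * y = y * x := by
  rw [← sub_eq_zero]
  refine Matrix.ext (fun i j => ?_)
  rw [Matrix.zero_apply]
  apply eq_zero_of_localization
  intro J hJ
  haveI := hJ
  set ψ : B →+* Localization.AtPrime J := algebraMap B (Localization.AtPrime J) with hψ
  have hmap : ∀ a b : Matrix (Fin n) (Fin n) B, (a * b).map ψ = a.map ψ * b.map ψ :=
    fun a b => Matrix.map_mul
  have hreg' := hreg (IsLocalRing.ResidueField (Localization.AtPrime J))
    ((IsLocalRing.residue (Localization.AtPrime J)).comp (ψ.comp (algebraMap A B)))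
  have hgmap : g.map ((IsLocalRing.residue (Localization.AtPrime J)).comp (ψ.comp (algebraMap A B))) =
      ((g.map (algebraMap A B)).map ψ).map (IsLocalRing.residue (Localization.AtPrime J)) := by
    ext a b
    simp [Matrix.map_apply]
  rw [hgmap] at hreg'
  obtain ⟨v, hv⟩ := exists_cyclic_local ((g.map (algebraMap A B)).map ψ) hreg'
  have hx' : x.map ψ * (g.map (algebraMap A B)).map ψ = (g.map (algebraMap A B)).map ψ * x.map ψ := by
    rw [← hmap, ← hmap, hxg]
  have hy' : y.map ψ * (g.map (algebraMap A B)).map ψ = (g.map (algebraMap A B)).map ψ * y.map ψ := by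
    rw [← hmap, ← hmap, hyg]
  have hcomm := comm_of_cyclic _ _ _ v hv hx' hy'
  have h1 : ψ ((x * y - y * x) i j) = (x.map ψ * y.map ψ - y.map ψ * x.map ψ) i j := by
    rw [← hmap, ← hmap, Matrix.sub_apply, Matrix.sub_apply, map_sub, Matrix.map_apply,
      Matrix.map_apply]
  rw [h1, hcomm, sub_self, Matrix.zero_apply]

/-- General linear group case: this is the case G = GL_n (its derived group SL_n is simply connected and
every prime is good for it, so the hypotheses on the fundamental group and on the characteristic
that the general statement needs hold over every base, and strong regularity is regularity). Let A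
be a commutative ring and g an n × n matrix over A — a section of GL_n when invertible, or of its
Lie algebra gl_n = M_n in general, the centralizer being in both cases the invertible matrices
commuting with g — which is fiberwise regular, i.e. at every field-valued point A → K the commutant
of g_K in M_n(K) has dimension n, the rank of GL_n. Then the centralizer of g in GL_n is
commutative: for every commutative A-algebra B and all invertible x, y ∈ M_n(B) commuting with g_B,
x y = y x. -/
theorem result (A : Type u) [CommRing A] (n : ℕ)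
    (g : Matrix (Fin n) (Fin n) A)
    (hreg : ∀ (K : Type u) [Field K] (φ : A →+* K),
      Module.finrank K (Subalgebra.centralizer K ({g.map φ} : Set (Matrix (Fin n) (Fin n) K))) = n)
    (B : Type u) [CommRing B] [Algebra A B] (x y : Matrix (Fin n) (Fin n) B) (hx : IsUnit x) (hy : IsUnit y)
    (hxg : x * g.map (algebraMap A B) = g.map (algebraMap A B) * x)
    (hyg : y * g.map (algebraMap A B) = g.map (algebraMap A B) * y) :
    x * y = y * x := by
  exact main A n g hreg B x y hxg hyg

end Groth.Agent.S15842
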