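import Groth.Statements.S15843
import Groth.Agent.Lib.Helper23.CycVec
import Groth.Agent.Lib.Helper23.CycMat

set_option autoImplicit false
universe u
open SprIso

namespace Groth.Agent.S15843

set_option linter.style.haveILetI false
set_option linter.unusedVariables false
set_option linter.unusedSectionVars false
open Polynomial Groth.Agent.Helper23.CycVec Groth.Agent.Helper23.CycMat
set_option linter.unusedVariables false
set_option linter.unusedSectionVars false
set_option linter.style.haveILetI false

variable (A : Type u) [CommRing A] (n : ℕ) (g : Matrix (Fin n) (Fin n) A)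

/-- the relation ideal -/
noncomputable def relIdeal : Ideal (MvPolynomial (Fin n × Fin n) A) :=
  Ideal.span (Set.range fun ij : Fin n × Fin n =>
    (Matrix.mvPolynomialX (Fin n) (Fin n) A * g.map MvPolynomial.C -
      g.map MvPolynomial.C * Matrix.mvPolynomialX (Fin n) (Fin n) A :
        Matrix (Fin n) (Fin n) (MvPolynomial (Fin n × Fin n) A)) ij.1 ij.2)

/-- the coordinate ring of the commutant -/
abbrev R₁ : Type u := MvPolynomial (Fin n × Fin n) A ⧸ relIdeal A n g

/-- the universal commuting matrix -/
noncomputable def Xbar : Matrix (Fin n) (Fin n) (R₁ A n g) :=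
  (Matrix.mvPolynomialX (Fin n) (Fin n) A).map (Ideal.Quotient.mk (relIdeal A n g))

theorem map_C_mk : (g.map MvPolynomial.C).map (Ideal.Quotient.mk (relIdeal A n g)) =
    g.map (algebraMap A (R₁ A n g)) := by
  ext i j
  rfl

theorem Xbar_comm : Xbar A n g * g.map (algebraMap A (R₁ A n g)) =
    g.map (algebraMap A (R₁ A n g)) * Xbar A n g := by
  rw [← sub_eq_zero, ← map_C_mk]
  unfold Xbar
  rw [← Matrix.map_mul, ← Matrix.map_mul, ← Matrix.map_sub]
  · refine Matrix.ext (fun i j => ?_)
    rw [Matrix.map_apply, Matrix.zero_apply, Ideal.Quotient.eq_zero_iff_mem]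
    exact Ideal.subset_span ⟨(i, j), rfl⟩
  · intro a b; exact map_sub _ a b

variable {A n g}

/-- maps out of the coordinate ring of the commutant -/
noncomputable def liftR₁ {B : Type u} [CommRing B] [Algebra A B] (Y : Matrix (Fin n) (Fin n) B)
    (hY : Y * g.map (algebraMap A B) = g.map (algebraMap A B) * Y) : R₁ A n g →ₐ[A] B :=
  Ideal.Quotient.liftₐ (relIdeal A n g) (MvPolynomial.aeval fun p : Fin n × Fin n => Y p.1 p.2) (by
    intro a ha
    have hle : relIdeal A n g ≤ RingHom.ker (MvPolynomial.aeval (R := A)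
        fun p : Fin n × Fin n => Y p.1 p.2) := by
      unfold relIdeal
      rw [Ideal.span_le]
      rintro _ ⟨ij, rfl⟩
      rw [SetLike.mem_coe, RingHom.mem_ker]
      have h1 : (MvPolynomial.aeval (R := A) fun p : Fin n × Fin n => Y p.1 p.2).mapMatrix
          (Matrix.mvPolynomialX (Fin n) (Fin n) A * g.map MvPolynomial.C -
            g.map MvPolynomial.C * Matrix.mvPolynomialX (Fin n) (Fin n) A) = 0 := by
        rw [map_sub, map_mul, map_mul, Matrix.mvPolynomialX_mapMatrix_aeval]
        have h2 : (MvPolynomial.aeval (R := A) fun p : Fin n × Fin n => Y p.1 p.2).mapMatrix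
            (g.map MvPolynomial.C) = g.map (algebraMap A B) := by
          ext i j
          simp [AlgHom.mapMatrix_apply, Matrix.map_apply]
        rw [h2, hY, sub_self]
      have := congrFun (congrFun h1 ij.1) ij.2
      simpa [AlgHom.mapMatrix_apply, Matrix.map_apply] using this
    exact hle ha)

theorem liftR₁_mk {B : Type u} [CommRing B] [Algebra A B] (Y : Matrix (Fin n) (Fin n) B)
    (hY : Y * g.map (algebraMap A B) = g.map (algebraMap A B) * Y) (i j : Fin n) :
    liftR₁ Y hY (Ideal.Quotient.mk _ (MvPolynomial.X (i, j))) = Y i j := by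
  unfold liftR₁
  rw [Ideal.Quotient.liftₐ_apply, Ideal.Quotient.lift_mk]
  simp

theorem Xbar_map_liftR₁ {B : Type u} [CommRing B] [Algebra A B] (Y : Matrix (Fin n) (Fin n) B)
    (hY : Y * g.map (algebraMap A B) = g.map (algebraMap A B) * Y) :
    (Xbar A n g).map (liftR₁ Y hY) = Y := by
  ext i j
  rw [Matrix.map_apply]
  exact liftR₁_mk Y hY i j

section Span
variable (A n g)

theorem span_det_eq_top
    (hreg : ∀ (K : Type u) [Field K] (φ : A →+* K),
      Module.finrank K (Subalgebra.centralizer K ({g.map φ} : Set (Matrix (Fin n) (Fin n) K))) = n) :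
    Ideal.span (Set.range fun v : Fin n → A => (cycMat g v).det) = ⊤ := by
  by_contra hne
  obtain ⟨𝔪, h𝔪, hle⟩ := Ideal.exists_le_maximal _ hne
  haveI := h𝔪
  letI : Field (A ⧸ 𝔪) := Ideal.Quotient.field 𝔪
  have h1 := hreg (A ⧸ 𝔪) (Ideal.Quotient.mk 𝔪)
  obtain ⟨vb, hvb⟩ := exists_cyclic_matrix n (g.map (Ideal.Quotient.mk 𝔪)) h1
  have hunit := isUnit_det_of_cyclic _ vb hvb
  choose v hv using fun i => Ideal.Quotient.mk_surjective (I := 𝔪) (vb i)
  have h2 : (fun i => Ideal.Quotient.mk 𝔪 (v i)) = vb := funext hv
  rw [← h2, ← cycMat_map, ← RingHom.mapMatrix_apply, ← RingHom.map_det] at hunit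
  have h3 : (cycMat g v).det ∈ 𝔪 := hle (Ideal.subset_span ⟨v, rfl⟩)
  rw [Ideal.Quotient.eq_zero_iff_mem.2 h3] at hunit
  exact not_isUnit_zero hunit

end Span

section Iso
variable (A n g) (v : Fin n → A)

/-- the determinant of the cyclic matrix -/
noncomputable abbrev fdet : A := (cycMat g v).det

/-- the localized coordinate ring -/
abbrev Rf : Type u := Localization.Away (algebraMap A (R₁ A n g) (fdet A n g v))

/-- the localized polynomial ring -/
abbrev Tf : Type u := Localization.Away (MvPolynomial.C (fdet A n g v) : MvPolynomial (Fin n) A)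

noncomputable def tvar (k : Fin n) : Tf A n g v :=
  algebraMap (MvPolynomial (Fin n) A) (Tf A n g v) (MvPolynomial.X k)

noncomputable def Ymat : Matrix (Fin n) (Fin n) (Tf A n g v) :=
  ∑ k : Fin n, tvar A n g v k • (g.map (algebraMap A (Tf A n g v))) ^ (k : ℕ)

theorem Ymat_comm : Ymat A n g v * g.map (algebraMap A (Tf A n g v)) =
    g.map (algebraMap A (Tf A n g v)) * Ymat A n g v := by
  unfold Ymat
  rw [Finset.sum_mul, Finset.mul_sum]
  apply Finset.sum_congr rfl
  intro k _
  rw [Matrix.smul_mul, Matrix.mul_smul, ← pow_succ, ← pow_succ']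

noncomputable def β : R₁ A n g →ₐ[A] Tf A n g v := liftR₁ (Ymat A n g v) (Ymat_comm A n g v)

theorem algebraMap_f_Tf : algebraMap A (Tf A n g v) (fdet A n g v) =
    algebraMap (MvPolynomial (Fin n) A) (Tf A n g v) (MvPolynomial.C (fdet A n g v)) := by
  rw [IsScalarTower.algebraMap_apply A (MvPolynomial (Fin n) A) (Tf A n g v), MvPolynomial.algebraMap_eq]

theorem isUnit_f_Tf : IsUnit (algebraMap A (Tf A n g v) (fdet A n g v)) := by
  rw [algebraMap_f_Tf]
  exact IsLocalization.Away.algebraMap_isUnit _

theorem β_unit : ∀ y : Submonoid.powers (algebraMap A (R₁ A n g) (fdet A n g v)),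
    IsUnit (β A n g v y) := by
  rintro ⟨_, m, rfl⟩
  rw [map_pow, AlgHom.commutes]
  exact (isUnit_f_Tf A n g v).pow m

noncomputable def βf : Rf A n g v →ₐ[A] Tf A n g v :=
  IsLocalization.liftAlgHom (M := Submonoid.powers (algebraMap A (R₁ A n g) (fdet A n g v)))
    (f := β A n g v) (β_unit A n g v)

theorem βf_algebraMap (r : R₁ A n g) : βf A n g v (algebraMap _ _ r) = β A n g v r :=
  IsLocalization.lift_eq _ r


theorem algebraMap_f_Rf : algebraMap A (Rf A n g v) (fdet A n g v) =
    algebraMap (R₁ A n g) (Rf A n g v) (algebraMap A (R₁ A n g) (fdet A n g v)) := by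
  rw [IsScalarTower.algebraMap_apply A (R₁ A n g) (Rf A n g v)]

noncomputable def uinv : Rf A n g v :=
  IsLocalization.Away.invSelf (algebraMap A (R₁ A n g) (fdet A n g v))

theorem uinv_mul : uinv A n g v * algebraMap A (Rf A n g v) (fdet A n g v) = 1 := by
  rw [algebraMap_f_Rf, mul_comm]
  exact IsLocalization.Away.mul_invSelf _

noncomputable def XbarF : Matrix (Fin n) (Fin n) (Rf A n g v) :=
  (Xbar A n g).map (algebraMap (R₁ A n g) (Rf A n g v))

noncomputable def cvec (k : Fin n) : Rf A n g v :=
  coef (g.map (algebraMap A (Rf A n g v))) (fun i => algebraMap A (Rf A n g v) (v i))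
    (XbarF A n g v) k

noncomputable def α₀ : MvPolynomial (Fin n) A →ₐ[A] Rf A n g v :=
  MvPolynomial.aeval (fun k => uinv A n g v * cvec A n g v k)

theorem α₀_unit : ∀ y : Submonoid.powers
    (MvPolynomial.C (fdet A n g v) : MvPolynomial (Fin n) A), IsUnit (α₀ A n g v y) := by
  rintro ⟨_, m, rfl⟩
  rw [map_pow]
  refine IsUnit.pow m ?_
  rw [← MvPolynomial.algebraMap_eq, AlgHom.commutes]
  exact IsUnit.of_mul_eq_one _ (by rw [mul_comm]; exact uinv_mul A n g v)

noncomputable def α : Tf A n g v →ₐ[A] Rf A n g v :=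
  IsLocalization.liftAlgHom (M := Submonoid.powers
    (MvPolynomial.C (fdet A n g v) : MvPolynomial (Fin n) A))
    (f := α₀ A n g v) (α₀_unit A n g v)

theorem α_algebraMap (r : MvPolynomial (Fin n) A) : α A n g v (algebraMap _ _ r) = α₀ A n g v r :=
  IsLocalization.lift_eq _ r

theorem α_tvar (k : Fin n) : α A n g v (tvar A n g v k) = uinv A n g v * cvec A n g v k := by
  unfold tvar
  rw [α_algebraMap]
  unfold α₀
  rw [MvPolynomial.aeval_X]

theorem cycMat_det_map (C : Type u) [CommRing C] [Algebra A C] :
    (cycMat (g.map (algebraMap A C)) (fun i => algebraMap A C (v i))).det =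
      algebraMap A C (fdet A n g v) := by
  rw [← cycMat_map, ← RingHom.mapMatrix_apply, ← RingHom.map_det]

theorem map_sum_smul_pow {S T : Type u} [CommRing S] [CommRing T] (φ : S →+* T) (t : Fin n → S)
    (G : Matrix (Fin n) (Fin n) S) :
    (∑ k : Fin n, t k • G ^ (k : ℕ)).map φ = ∑ k : Fin n, φ (t k) • (G.map φ) ^ (k : ℕ) := by
  refine Matrix.ext (fun i j => ?_)
  rw [Matrix.map_apply, Matrix.sum_apply, Matrix.sum_apply, map_sum]
  apply Finset.sum_congr rfl
  intro k _
  have h1 : (G ^ (k : ℕ)).map φ = (G.map φ) ^ (k : ℕ) := map_pow (RingHom.mapMatrix φ) G k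
  rw [Matrix.smul_apply, Matrix.smul_apply, smul_eq_mul, smul_eq_mul, map_mul, ← h1,
    Matrix.map_apply]

theorem map_g_βf : (g.map (algebraMap A (Rf A n g v))).map (βf A n g v) =
    g.map (algebraMap A (Tf A n g v)) := by
  refine Matrix.ext (fun i j => ?_)
  rw [Matrix.map_apply, Matrix.map_apply, Matrix.map_apply, AlgHom.commutes]

theorem map_g_α : (g.map (algebraMap A (Tf A n g v))).map (α A n g v) =
    g.map (algebraMap A (Rf A n g v)) := by
  refine Matrix.ext (fun i j => ?_)
  rw [Matrix.map_apply, Matrix.map_apply, Matrix.map_apply, AlgHom.commutes]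

theorem XbarF_map_βf : (XbarF A n g v).map (βf A n g v) = Ymat A n g v := by
  unfold XbarF
  rw [Matrix.map_map]
  have h : (βf A n g v) ∘ (algebraMap (R₁ A n g) (Rf A n g v)) = β A n g v := by
    funext r
    exact βf_algebraMap A n g v r
  rw [h]
  exact Xbar_map_liftR₁ _ _

theorem βf_cvec (k : Fin n) : βf A n g v (cvec A n g v k) =
    algebraMap A (Tf A n g v) (fdet A n g v) * tvar A n g v k := by
  unfold cvec
  have h1 := coef_map (βf A n g v : Rf A n g v →+* Tf A n g v)
    (g.map (algebraMap A (Rf A n g v))) (fun i => algebraMap A (Rf A n g v) (v i))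
    (XbarF A n g v) k
  have h2 : (g.map (algebraMap A (Rf A n g v))).map
      ((βf A n g v : Rf A n g v →+* Tf A n g v)) = g.map (algebraMap A (Tf A n g v)) :=
    map_g_βf A n g v
  have h3 : (XbarF A n g v).map ((βf A n g v : Rf A n g v →+* Tf A n g v)) = Ymat A n g v :=
    XbarF_map_βf A n g v
  have h4 : (fun i => (βf A n g v : Rf A n g v →+* Tf A n g v)
      (algebraMap A (Rf A n g v) (v i))) = fun i => algebraMap A (Tf A n g v) (v i) := by
    funext i
    exact AlgHom.commutes (βf A n g v) (v i)
  rw [h2, h3, h4] at h1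
  have h5 : (βf A n g v) (coef (g.map (algebraMap A (Rf A n g v)))
      (fun i => algebraMap A (Rf A n g v) (v i)) (XbarF A n g v) k) =
      coef (g.map (algebraMap A (Tf A n g v))) (fun i => algebraMap A (Tf A n g v) (v i))
        (Ymat A n g v) k := h1
  rw [h5]
  unfold Ymat
  rw [coef_sum, cycMat_det_map, Pi.smul_apply, smul_eq_mul]

theorem I1 : (βf A n g v).comp (α A n g v) = AlgHom.id A (Tf A n g v) := by
  apply IsLocalization.algHom_ext (Submonoid.powers
    (MvPolynomial.C (fdet A n g v) : MvPolynomial (Fin n) A))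
  apply MvPolynomial.algHom_ext
  intro k
  change βf A n g v (α A n g v (tvar A n g v k)) = tvar A n g v k
  rw [α_tvar, map_mul, βf_cvec, ← mul_assoc]
  have h : βf A n g v (uinv A n g v) * algebraMap A (Tf A n g v) (fdet A n g v) = 1 := by
    rw [← AlgHom.commutes (βf A n g v), ← map_mul, uinv_mul, map_one]
  rw [h, one_mul]

theorem XbarF_comm : XbarF A n g v * g.map (algebraMap A (Rf A n g v)) =
    g.map (algebraMap A (Rf A n g v)) * XbarF A n g v := by
  have h := congrArg (fun M => M.map (algebraMap (R₁ A n g) (Rf A n g v))) (Xbar_comm A n g)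
  simp only [Matrix.map_mul] at h
  have h2 : (g.map (algebraMap A (R₁ A n g))).map (algebraMap (R₁ A n g) (Rf A n g v)) =
      g.map (algebraMap A (Rf A n g v)) := by
    refine Matrix.ext (fun i j => ?_)
    rw [Matrix.map_apply, Matrix.map_apply, Matrix.map_apply,
      ← IsScalarTower.algebraMap_apply A (R₁ A n g) (Rf A n g v)]
  rw [h2] at h
  exact h

theorem XbarF_eq : XbarF A n g v =
    ∑ k : Fin n, (uinv A n g v * cvec A n g v k) • (g.map (algebraMap A (Rf A n g v))) ^ (k : ℕ) := by
  have h := det_smul_eq (g.map (algebraMap A (Rf A n g v)))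
    (fun i => algebraMap A (Rf A n g v) (v i)) (XbarF A n g v) (XbarF_comm A n g v)
  rw [cycMat_det_map] at h
  have h2 := congrArg (fun M => uinv A n g v • (uinv A n g v • M)) h
  simp only [smul_smul] at h2
  have e1 : uinv A n g v * (uinv A n g v * (algebraMap A (Rf A n g v) (fdet A n g v) *
      algebraMap A (Rf A n g v) (fdet A n g v))) = 1 := by
    have := uinv_mul A n g v
    calc _ = (uinv A n g v * algebraMap A (Rf A n g v) (fdet A n g v)) *
        (uinv A n g v * algebraMap A (Rf A n g v) (fdet A n g v)) := by ring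
      _ = 1 := by rw [this, one_mul]
  have e2 : uinv A n g v * (uinv A n g v * algebraMap A (Rf A n g v) (fdet A n g v)) =
      uinv A n g v := by
    rw [uinv_mul, mul_one]
  rw [e1, e2, one_smul] at h2
  rw [h2, Finset.smul_sum]
  apply Finset.sum_congr rfl
  intro k _
  rw [smul_smul]
  rfl

theorem Ymat_map_α : (Ymat A n g v).map (α A n g v) = XbarF A n g v := by
  unfold Ymat
  have h := map_sum_smul_pow n (α A n g v : Tf A n g v →+* Rf A n g v) (tvar A n g v)
    (g.map (algebraMap A (Tf A n g v)))
  have h2 : (g.map (algebraMap A (Tf A n g v))).map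
      ((α A n g v : Tf A n g v →+* Rf A n g v)) = g.map (algebraMap A (Rf A n g v)) :=
    map_g_α A n g v
  rw [h2] at h
  rw [XbarF_eq]
  refine h.trans ?_
  apply Finset.sum_congr rfl
  intro k _
  congr 1
  exact α_tvar A n g v k

theorem I2 : (α A n g v).comp (βf A n g v) = AlgHom.id A (Rf A n g v) := by
  apply IsLocalization.algHom_ext (Submonoid.powers (algebraMap A (R₁ A n g) (fdet A n g v)))
  apply Ideal.Quotient.algHom_ext
  apply MvPolynomial.algHom_ext
  rintro ⟨i, j⟩
  change α A n g v (βf A n g v (algebraMap (R₁ A n g) (Rf A n g v)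
    (Ideal.Quotient.mk _ (MvPolynomial.X (i, j))))) =
    algebraMap (R₁ A n g) (Rf A n g v) (Ideal.Quotient.mk _ (MvPolynomial.X (i, j)))
  rw [βf_algebraMap]
  unfold β
  rw [liftR₁_mk]
  have h := congrFun (congrFun (Ymat_map_α A n g v) i) j
  rw [Matrix.map_apply] at h
  rw [h]
  unfold XbarF Xbar
  rw [Matrix.map_apply, Matrix.map_apply]
  rfl

noncomputable def isoRT : Rf A n g v ≃ₐ[A] Tf A n g v :=
  AlgEquiv.ofAlgHom (βf A n g v) (α A n g v) (I1 A n g v) (I2 A n g v)

theorem flat_Tf : Module.Flat A (Tf A n g v) := by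
  haveI : Module.Flat (MvPolynomial (Fin n) A) (Tf A n g v) := inferInstance
  exact Module.Flat.trans A (MvPolynomial (Fin n) A) (Tf A n g v)

theorem flat_Rf : Module.Flat A (Rf A n g v) :=
  Module.Flat.of_linearEquiv (isoRT A n g v).toLinearEquiv

end Iso

section Final
variable (A n g)

theorem flat_R₁
    (hreg : ∀ (K : Type u) [Field K] (φ : A →+* K),
      Module.finrank K (Subalgebra.centralizer K ({g.map φ} : Set (Matrix (Fin n) (Fin n) K))) = n) :
    Module.Flat A (R₁ A n g) := by
  have spn := span_det_eq_top A n g hreg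
  haveI inst : ∀ r : (Set.range fun v : Fin n → A => (cycMat g v).det),
      IsLocalizedModule.Away r.1
        ((IsScalarTower.toAlgHom A (R₁ A n g)
          (Localization.Away (algebraMap A (R₁ A n g) r.1))).toLinearMap) := by
    intro r
    change IsLocalizedModule (Submonoid.powers r.1) _
    rw [isLocalizedModule_iff_isLocalization, Algebra.algebraMapSubmonoid_powers]
    infer_instance
  refine Module.flat_of_isLocalized_span (R := A) A (R₁ A n g)
    (Set.range fun v : Fin n → A => (cycMat g v).det) spn
    (fun r => Localization.Away (algebraMap A (R₁ A n g) r.1))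
    (fun r => (IsScalarTower.toAlgHom A (R₁ A n g)
          (Localization.Away (algebraMap A (R₁ A n g) r.1))).toLinearMap) ?_
  rintro ⟨_, v, rfl⟩
  exact flat_Rf A n g v

theorem main
    (hreg : ∀ (K : Type u) [Field K] (φ : A →+* K),
      Module.finrank K (Subalgebra.centralizer K ({g.map φ} : Set (Matrix (Fin n) (Fin n) K))) = n) :
    Module.Flat A (Localization.Away
      (Ideal.Quotient.mk (relIdeal A n g) (Matrix.mvPolynomialX (Fin n) (Fin n) A).det)) := by
  haveI := flat_R₁ A n g hreg
  infer_instance

end Final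

/-- The flatness assertion, for a section of the group and equally for a section of its Lie algebra, in
the case G = GL_n (its derived group SL_n is simply connected and every prime is good for it, so the
hypotheses on the fundamental group and on the characteristic that the general statement needs hold
over every base, and strong regularity is regularity). Let A be a commutative ring and g an n × n
matrix over A — a section of GL_n when invertible, of its Lie algebra gl_n in general; in both cases
the centralizer in GL_n is the scheme of invertible matrices commuting with g — which is fiberwise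
regular (at every field-valued point A → K the commutant of g_K in M_n(K) has dimension n). Then the
centralizer Z_{GL_n}(g) is flat over A; concretely, with X the generic n × n matrix over A[x_ij],
the ring obtained from A[x_ij] by dividing by the entries of X g − g X and inverting det X is a flat
A-module. -/
theorem result (A : Type u) [CommRing A] (n : ℕ)
    (g : Matrix (Fin n) (Fin n) A)
    (hreg : ∀ (K : Type u) [Field K] (φ : A →+* K),
      Module.finrank K (Subalgebra.centralizer K ({g.map φ} : Set (Matrix (Fin n) (Fin n) K))) = n) :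
    Module.Flat A (Localization.Away
      (Ideal.Quotient.mk (Ideal.span (Set.range fun ij : Fin n × Fin n =>
        (Matrix.mvPolynomialX (Fin n) (Fin n) A * g.map MvPolynomial.C -
          g.map MvPolynomial.C * Matrix.mvPolynomialX (Fin n) (Fin n) A :
            Matrix (Fin n) (Fin n) (MvPolynomial (Fin n × Fin n) A)) ij.1 ij.2))
        (Matrix.mvPolynomialX (Fin n) (Fin n) A).det)) := by
  exact main A n g hreg

end Groth.Agent.S15843
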