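import Groth.Statements.S15844
import Groth.Agent.S15843

set_option autoImplicit false
universe u
open SprIso

namespace Groth.Agent.S15844

set_option linter.style.haveILetI false
set_option linter.unusedVariables false
set_option linter.unusedSectionVars false
open Polynomial Groth.Agent.Helper23.CycVec Groth.Agent.Helper23.CycMat
set_option linter.unusedVariables false
set_option linter.unusedSectionVars false
set_option linter.style.haveILetI false

variable (A : Type u) [CommRing A] (n : ℕ)

/-- anything commuting with a fiberwise regular `g` commutes with everything commuting with `g` -/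
theorem commute_of_regular (g Y : Matrix (Fin n) (Fin n) A)
    (hreg : ∀ (K : Type u) [Field K] (φ : A →+* K),
      Module.finrank K (Subalgebra.centralizer K ({g.map φ} : Set (Matrix (Fin n) (Fin n) K))) = n)
    (hYg : Y * g = g * Y)
    (B : Type u) [CommRing B] [Algebra A B] (x : Matrix (Fin n) (Fin n) B)
    (hx : x * g.map (algebraMap A B) = g.map (algebraMap A B) * x) :
    x * Y.map (algebraMap A B) = Y.map (algebraMap A B) * x := by
  have hspan := Groth.Agent.S15843.span_det_eq_top A n g hreg
  have hspan2 := Ideal.span_pow_eq_top _ hspan 2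
  set Z : Matrix (Fin n) (Fin n) B := x * Y.map (algebraMap A B) - Y.map (algebraMap A B) * x
    with hZ
  -- the annihilator ideal of Z
  have hker : (LinearMap.ker (LinearMap.toSpanSingleton A (Matrix (Fin n) (Fin n) B) Z)) = ⊤ := by
    rw [eq_top_iff, ← hspan2, Ideal.span_le]
    rintro _ ⟨_, ⟨v, rfl⟩, rfl⟩
    rw [SetLike.mem_coe, LinearMap.mem_ker, LinearMap.toSpanSingleton_apply]
    -- the key identity over A
    have h1 := det_smul_eq g v Y hYg
    set f := (cycMat g v).det with hf
    -- map to B
    have h2 : ((cycMat g v).det • (cycMat g v).det • Y).map (algebraMap A B) =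
        ((cycMat g v).det • ∑ k : Fin n, coef g v Y k • g ^ (k : ℕ)).map (algebraMap A B) :=
      congrArg (fun M : Matrix (Fin n) (Fin n) A => M.map (algebraMap A B)) h1
    set gB := g.map (algebraMap A B) with hgB
    set YB := Y.map (algebraMap A B) with hYB
    set W : Matrix (Fin n) (Fin n) B :=
      ∑ k : Fin n, algebraMap A B (coef g v Y k) • gB ^ (k : ℕ) with hW
    have hmapsmul : ∀ (c : A) (M : Matrix (Fin n) (Fin n) A),
        (c • M).map (algebraMap A B) = c • M.map (algebraMap A B) := by
      intro c M
      refine Matrix.ext (fun i j => ?_)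
      rw [Matrix.map_apply, Matrix.smul_apply, Matrix.smul_apply, Matrix.map_apply,
        smul_eq_mul, map_mul, Algebra.smul_def]
    have hWmap : (∑ k : Fin n, coef g v Y k • g ^ (k : ℕ)).map (algebraMap A B) = W := by
      rw [hW]
      refine Matrix.ext (fun i j => ?_)
      rw [Matrix.map_apply, Matrix.sum_apply, Matrix.sum_apply, map_sum]
      apply Finset.sum_congr rfl
      intro k _
      have hpow : (g ^ (k : ℕ)).map (algebraMap A B) = gB ^ (k : ℕ) :=
        map_pow (RingHom.mapMatrix (algebraMap A B)) g k
      rw [Matrix.smul_apply, Matrix.smul_apply, smul_eq_mul, smul_eq_mul, map_mul, ← hpow,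
        Matrix.map_apply]
    rw [hmapsmul, hmapsmul, hmapsmul, hWmap] at h2
    -- x commutes with W
    have hxW : x * W = W * x := by
      rw [hW, Finset.mul_sum, Finset.sum_mul]
      apply Finset.sum_congr rfl
      intro k _
      rw [Matrix.mul_smul, Matrix.smul_mul, commute_pow hx]
    have h2' : f • f • YB = f • W := h2
    have e1 : x * (f • f • YB) = (f ^ 2) • (x * YB) := by
      rw [Matrix.mul_smul, Matrix.mul_smul, smul_smul, pow_two]
    have e2 : (f • f • YB) * x = (f ^ 2) • (YB * x) := by
      rw [Matrix.smul_mul, Matrix.smul_mul, smul_smul, pow_two]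
    have h3 : f ^ 2 • Z = 0 := by
      rw [hZ, smul_sub, ← e1, ← e2, h2', Matrix.mul_smul, Matrix.smul_mul, hxW, sub_self]
    exact h3
  have h1 : (1 : A) ∈ LinearMap.ker (LinearMap.toSpanSingleton A (Matrix (Fin n) (Fin n) B) Z) := by
    rw [hker]
    exact Submodule.mem_top
  rw [LinearMap.mem_ker, LinearMap.toSpanSingleton_apply, one_smul] at h1
  exact sub_eq_zero.1 h1

theorem main (u X : Matrix (Fin n) (Fin n) A)
    (hureg : ∀ (K : Type u) [Field K] (φ : A →+* K),
      Module.finrank K (Subalgebra.centralizer K ({u.map φ} : Set (Matrix (Fin n) (Fin n) K))) = n)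
    (hXreg : ∀ (K : Type u) [Field K] (φ : A →+* K),
      Module.finrank K (Subalgebra.centralizer K ({X.map φ} : Set (Matrix (Fin n) (Fin n) K))) = n)
    (hXu : X * u = u * X)
    (B : Type u) [CommRing B] [Algebra A B] (x : Matrix (Fin n) (Fin n) B) :
    x * u.map (algebraMap A B) = u.map (algebraMap A B) * x ↔
      x * X.map (algebraMap A B) = X.map (algebraMap A B) * x :=
  ⟨fun h => commute_of_regular A n u X hureg hXu B x h,
   fun h => commute_of_regular A n X u hXreg hXu.symm B x h⟩

/-- General linear group case: this is the case G = GL_n (derived group SL_n simply connected, all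
primes good). Let A be a commutative ring, u an n × n matrix over A with characteristic polynomial
(t − 1)^n (a section of the unipotent scheme) and X one with characteristic polynomial t^n (a
section of the nilpotent scheme), both fiberwise regular — at every field-valued point A → K the
commutant in M_n(K) has dimension n — and suppose X commutes with u (X lies in the Lie algebra of
the centralizer of u). Then Z(u) = Z(X) inside GL_n: for every commutative A-algebra B and every
invertible x ∈ M_n(B), x commutes with u_B if and only if x commutes with X_B. -/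
theorem result (A : Type u) [CommRing A] (n : ℕ)
    (u X : Matrix (Fin n) (Fin n) A)
    (hu : u.charpoly = (Polynomial.X - 1) ^ n) (hX : X.charpoly = Polynomial.X ^ n)
    (hureg : ∀ (K : Type u) [Field K] (φ : A →+* K),
      Module.finrank K (Subalgebra.centralizer K ({u.map φ} : Set (Matrix (Fin n) (Fin n) K))) = n)
    (hXreg : ∀ (K : Type u) [Field K] (φ : A →+* K),
      Module.finrank K (Subalgebra.centralizer K ({X.map φ} : Set (Matrix (Fin n) (Fin n) K))) = n)
    (hXu : X * u = u * X)
    (B : Type u) [CommRing B] [Algebra A B] (x : Matrix (Fin n) (Fin n) B) (hx : IsUnit x) :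
    x * u.map (algebraMap A B) = u.map (algebraMap A B) * x ↔
      x * X.map (algebraMap A B) = X.map (algebraMap A B) * x := by
  exact main A n u X hureg hXreg hXu B x

end Groth.Agent.S15844
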