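import Groth.Statements.S15845
import Mathlib.Tactic

set_option autoImplicit false
universe u
open SprIso

namespace Groth.Agent.S15845

/-- General linear group case: this is the case G = GL_n with its upper-triangular Borel subgroup B
(derived group SL_n simply connected, all primes good, so the hypotheses on the characteristic
hold), together with the companion statement for a regular nilpotent element of Lie B. Let k be a
field and u an n × n upper-triangular matrix over k whose diagonal entries are all equal and whose
superdiagonal entries u_{i,i+1} are all non-zero — for diagonal 1 this is a regular unipotent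
element of B(k), for diagonal 0 a regular nilpotent element of Lie B. Then the centralizer of u in
GL_n is contained in B and is the product of the centre with the centralizer in the unipotent
radical: for every commutative k-algebra R and every invertible x ∈ M_n(R) commuting with u_R, x is
upper triangular and its diagonal entries are all equal. (The smoothness of the centralizer in the
unipotent radical, also part of the published statement, is not stated here.) -/
theorem result (k : Type u) [Field k] (n : ℕ)
    (u : Matrix (Fin n) (Fin n) k) (htri : ∀ i j : Fin n, j < i → u i j = 0) (hdiag : ∀ i j : Fin n, u i i = u j j)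
    (hreg : ∀ (i j : Fin n), j.val = i.val + 1 → u i j ≠ 0)
    (R : Type u) [CommRing R] [Algebra k R] (x : Matrix (Fin n) (Fin n) R) (hx : IsUnit x)
    (hxu : x * u.map (algebraMap k R) = u.map (algebraMap k R) * x) :
    (∀ i j : Fin n, j < i → x i j = 0) ∧ (∀ i j : Fin n, x i i = x j j) := by
  have hentry : ∀ i j : Fin n, ∑ l, x i l * algebraMap k R (u l j) = ∑ l, algebraMap k R (u i l) * x l j := by
    intro i j
    have := congrFun (congrFun hxu i) j
    simpa [Matrix.mul_apply, Matrix.map_apply] using this
  have htriang : ∀ (m : ℕ) (i j : Fin n), j < i → j.val * (n + 1) + (n - i.val) = m → x i j = 0 := by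
    intro m
    induction m using Nat.strong_induction_on with
    | _ m ih =>
      intro i j hji hm
      have hjiv : j.val < i.val := Fin.lt_def.mp hji
      have hin : i.val < n := i.isLt
      set i' : Fin n := ⟨i.val - 1, by omega⟩ with hi'
      have hi'v : i'.val = i.val - 1 := rfl
      have hi'i : i.val = i'.val + 1 := by rw [hi'v]; omega
      have hji' : j ≤ i' := by rw [Fin.le_def, hi'v]; omega
      have hi'lt : i' < i := by rw [Fin.lt_def, hi'v]; omega
      have hE := hentry i' j
      have hL : ∑ l, x i' l * algebraMap k R (u l j) = x i' j * algebraMap k R (u j j) := by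
        apply Finset.sum_eq_single j
        · intro l _ hlj
          rcases lt_or_gt_of_ne hlj with h | h
          · have hlv : l.val < j.val := Fin.lt_def.mp h
            have hmeasure : l.val * (n + 1) + (n - i'.val) < m := by
              rw [← hm, hi'v]
              have : l.val * (n + 1) + (n + 1) ≤ j.val * (n + 1) := by nlinarith
              omega
            have : x i' l = 0 := ih _ hmeasure i' l (lt_of_lt_of_le h hji') rfl
            rw [this, zero_mul]
          · rw [htri l j h, map_zero, mul_zero]
        · intro h; exact absurd (Finset.mem_univ j) h
      have hR : ∑ l, algebraMap k R (u i' l) * x l j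
          = algebraMap k R (u i' i') * x i' j + algebraMap k R (u i' i) * x i j := by
        apply Finset.sum_eq_add i' i hi'lt.ne
        · rintro l _ ⟨hl1, hl2⟩
          rcases lt_or_gt_of_ne hl1 with h | h
          · rw [htri i' l h, map_zero, zero_mul]
          · have hlv : i'.val < l.val := Fin.lt_def.mp h
            have hlne : l.val ≠ i.val := fun he => hl2 (Fin.ext he)
            have hil : i < l := by rw [Fin.lt_def]; omega
            have hilv : i.val < l.val := Fin.lt_def.mp hil
            have hln : l.val < n := l.isLt
            have hmeasure : j.val * (n + 1) + (n - l.val) < m := by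
              rw [← hm]; omega
            have : x l j = 0 := ih _ hmeasure l j (lt_trans hji hil) rfl
            rw [this, mul_zero]
        · intro h; exact absurd (Finset.mem_univ _) h
        · intro h; exact absurd (Finset.mem_univ _) h
      rw [hL, hR, hdiag j i'] at hE
      have h0 : algebraMap k R (u i' i) * x i j = 0 := by linear_combination -hE
      have hunit : IsUnit (algebraMap k R (u i' i)) :=
        (IsUnit.mk0 _ (hreg i' i hi'i)).map (algebraMap k R)
      exact (hunit.mul_right_eq_zero).mp h0
  have htr : ∀ i j : Fin n, j < i → x i j = 0 := fun i j h => htriang _ i j h rfl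
  refine ⟨htr, ?_⟩
  have hstep : ∀ i i2 : Fin n, i2.val = i.val + 1 → x i i = x i2 i2 := by
    intro i i2 hi2
    have hii2 : i < i2 := by rw [Fin.lt_def]; omega
    have hE := hentry i i2
    have hL : ∑ l, x i l * algebraMap k R (u l i2)
        = x i i * algebraMap k R (u i i2) + x i i2 * algebraMap k R (u i2 i2) := by
      apply Finset.sum_eq_add i i2 hii2.ne
      · rintro l _ ⟨hl1, hl2⟩
        rcases lt_or_gt_of_ne hl1 with h | h
        · rw [htr i l h, zero_mul]
        · have hlv : i.val < l.val := Fin.lt_def.mp h
          have hlne : l.val ≠ i2.val := fun he => hl2 (Fin.ext he)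
          have h2 : i2 < l := by rw [Fin.lt_def]; omega
          rw [htri l i2 h2, map_zero, mul_zero]
      · intro h; exact absurd (Finset.mem_univ _) h
      · intro h; exact absurd (Finset.mem_univ _) h
    have hR : ∑ l, algebraMap k R (u i l) * x l i2
        = algebraMap k R (u i i) * x i i2 + algebraMap k R (u i i2) * x i2 i2 := by
      apply Finset.sum_eq_add i i2 hii2.ne
      · rintro l _ ⟨hl1, hl2⟩
        rcases lt_or_gt_of_ne hl1 with h | h
        · rw [htri i l h, map_zero, zero_mul]
        · have hlv : i.val < l.val := Fin.lt_def.mp h
          have hlne : l.val ≠ i2.val := fun he => hl2 (Fin.ext he)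
          have h2 : i2 < l := by rw [Fin.lt_def]; omega
          rw [htr l i2 h2, mul_zero]
      · intro h; exact absurd (Finset.mem_univ _) h
      · intro h; exact absurd (Finset.mem_univ _) h
    rw [hL, hR, hdiag i2 i] at hE
    have h0 : algebraMap k R (u i i2) * (x i i - x i2 i2) = 0 := by linear_combination hE
    have hunit : IsUnit (algebraMap k R (u i i2)) :=
      (IsUnit.mk0 _ (hreg i i2 hi2)).map (algebraMap k R)
    exact sub_eq_zero.mp ((hunit.mul_right_eq_zero).mp h0)
  have hall : ∀ (a : ℕ) (ha : a < n) (h0 : 0 < n), x ⟨a, ha⟩ ⟨a, ha⟩ = x ⟨0, h0⟩ ⟨0, h0⟩ := by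
    intro a
    induction a with
    | zero => intro _ _; rfl
    | succ a ih =>
      intro ha h0
      rw [← ih (by omega) h0]
      exact (hstep ⟨a, by omega⟩ ⟨a + 1, ha⟩ rfl).symm
  intro i j
  have h0 : 0 < n := Fin.pos i
  rw [show i = ⟨i.val, i.isLt⟩ from rfl, show j = ⟨j.val, j.isLt⟩ from rfl, hall i.val i.isLt h0, hall j.val j.isLt h0]

end Groth.Agent.S15845
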