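import Groth.Statements.S15848
import Groth.Agent.Lib.Lead.PushTF
import Groth.Agent.Lib.Helper4.SmoothRegSch
import Groth.Agent.Lib.Helper28.CurveFlat

set_option autoImplicit false
universe u
open CategoryTheory CategoryTheory.Limits AlgebraicGeometry
open Surf

namespace Groth.Agent.S15848

/-- Let k be an algebraically closed field of characteristic zero and S a smooth surface over k (an
integral k-scheme, smooth over k, of dimension two). Let j : C → S be a closed immersion with C
integral of dimension one, M a coherent O_C-module whose stalks are torsion-free modules over the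
local rings of C, F a finite locally free O_S-module and f : F → j_*M an epimorphism of O_S-modules.
Then the kernel of f, the elementary transformation of F along f, is a finite locally free
O_S-module. (The published setting takes S projective; the argument is local on S and projectivity
is not assumed here.) -/
theorem result
    (k : Type u) [Field k] [IsAlgClosed k] [CharZero k]
    (S : Scheme.{u}) [S.Over (Spec (CommRingCat.of k))] [IsIntegral S]
    [Smooth (S ↘ Spec (CommRingCat.of k))] (hdim : topologicalKrullDim S = 2)
    (C : Scheme.{u}) (j : C ⟶ S) [IsClosedImmersion j] [IsIntegral C]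
    (hC : topologicalKrullDim C = 1)
    (M : C.Modules) (hM : Coh.IsCoh M) (hMtf : TorSh.IsTorsionFree M)
    (F : S.Modules) (hF : FlatMod.IsFinLocFree F)
    (f : F ⟶ (Coh.push j).obj M) [Epi f] :
    FlatMod.IsFinLocFree (kernel f) := by
  haveI : IsLocallyNoetherian S :=
    LocallyOfFiniteType.isLocallyNoetherian (S ↘ Spec (CommRingCat.of k))
  haveI : M.IsQuasicoherent := hM.1
  haveI : SheafOfModules.IsFiniteType (R := C.ringCatSheaf) M := hM.2
  have hreg : ∀ x : S, IsRegularLocalRing (S.presheaf.stalk x) := fun x =>
    Groth.Agent.Helper4.SmoothRegSch.isRegularLocalRing_stalk k (S ↘ Spec (CommRingCat.of k)) x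
  have hd : ∀ x : S, ringKrullDim (S.presheaf.stalk x) ≤ 2 := fun x =>
    (Groth.Agent.Helper28.CurveFlat.ringKrullDim_stalk_le S x).trans hdim.le
  haveI hNq : ((Scheme.Modules.pushforward j).obj M).IsQuasicoherent :=
    Groth.Agent.Helper13.QCohPush.isQuasicoherent_pushforward j M
  haveI hNft : SheafOfModules.IsFiniteType (R := S.ringCatSheaf)
      ((Scheme.Modules.pushforward j).obj M) :=
    (Groth.Agent.Helper13.PushFinite.isFiniteType_pushforward_iff j M).1 hM.2
  have hN : Coh.IsCoh ((Coh.push j).obj M) := ⟨hNq, hNft⟩
  have hC' : ∃ c' : C, c' ≠ genericPoint C := by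
    by_contra hcon
    push Not at hcon
    haveI : Subsingleton C := ⟨fun a b => (hcon a).trans (hcon b).symm⟩
    have h0 := topologicalKrullDim_zero_of_discreteTopology C
    rw [hC] at h0
    exact absurd h0 (by decide)
  exact Groth.Agent.Lead.KerFree.isFinLocFree_kernel hreg hd F _ hF hN f
    (fun s hs => Groth.Agent.Lead.PushTF.one_le_depth_stalk_push j hC' hd M hMtf s hs)

end Groth.Agent.S15848
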