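import Groth.Statements.S15883
import Mathlib

set_option autoImplicit false
universe u
open CategoryTheory AlgebraicGeometry Opposite
open BMCoh

namespace Groth.Agent.S15883

section aux

variable {V : ObjectProperty Scheme.{u}} [BMCoh.IsConstructible V] {R : Type u} [CommRing R]
  {A : BMCoh.Coefs R} (T : BMCoh.TheoryOn V R A)

theorem relCodim_eq_zero {X W : BMCoh.Obj V} (f : X ⟶ W) : relCodim X.scheme W.scheme = 0 := by
  unfold relCodim
  rw [f.dim_eq]
  ring

/-- push then pull along the same closed-open immersion is the identity -/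
theorem push_pull_self {Y W : BMCoh.Obj V} (iY : Y ⟶ W) [IsProper iY.hom] (M : A.Cat) (i n : ℤ)
    (hi : i = i + 2 * relCodim Y.scheme W.scheme) (hn : n = n + relCodim Y.scheme W.scheme) :
    T.push iY.hom M i n i n hi hn ≫ T.pull iY M i n = 𝟙 _ := by
  haveI : Mono iY.hom := inferInstance
  have hpb : IsPullback (𝟙 Y : Y ⟶ Y).hom (𝟙 Y.scheme) iY.hom iY.hom :=
    IsKernelPair.id_of_mono iY.hom
  have h0 : relCodim Y.scheme Y.scheme = 0 := by unfold relCodim; ring
  have := T.push_pull iY.hom (𝟙 Y.scheme) iY (𝟙 Y) hpb M i n i n hi hn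
    (by rw [h0]; ring) (by rw [h0]; ring)
  rw [this, T.push_id]
  simp

theorem main (V : ObjectProperty Scheme.{u}) [BMCoh.IsConstructible V] (R : Type u) [CommRing R]
    (A : BMCoh.Coefs R) (T : BMCoh.TheoryOn V R A) {X Y W : BMCoh.Obj V} (iX : X ⟶ W) (iY : Y ⟶ W)
    (h : Set.range iX.hom = (Set.range iY.hom)ᶜ) (M : A.Cat) (i n : ℤ) :
    Function.Bijective (fun a : T.gp W M i n =>
      ((T.pull iX M i n).hom a, (T.pull iY M i n).hom a)) := by
  obtain ⟨i0, rfl⟩ : ∃ i0, i = i0 + 1 := ⟨i - 1, by ring⟩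
  have h' : Set.range iY.hom = (Set.range iX.hom)ᶜ := by rw [h, compl_compl]
  have hXc : IsClosed (Set.range iX.hom) := by
    rw [h]
    exact iY.hom.isOpenEmbedding.isOpen_range.isClosed_compl
  have hYc : IsClosed (Set.range iY.hom) := by
    rw [h']
    exact iX.hom.isOpenEmbedding.isOpen_range.isClosed_compl
  haveI : IsClosedImmersion iX.hom := IsClosedImmersion.of_isPreimmersion _ hXc
  haveI : IsClosedImmersion iY.hom := IsClosedImmersion.of_isPreimmersion _ hYc
  have cX : relCodim X.scheme W.scheme = 0 := relCodim_eq_zero iX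
  have cY : relCodim Y.scheme W.scheme = 0 := relCodim_eq_zero iY
  -- the two decompositions
  let D : Decomp W := ⟨Y, X, iY.hom, inferInstance, iX, h⟩
  let D' : Decomp W := ⟨X, Y, iX.hom, inferInstance, iY, h'⟩
  have hiX : i0 + 1 = i0 + 1 + 2 * relCodim X.scheme W.scheme := by rw [cX]; ring
  have hnX : n = n + relCodim X.scheme W.scheme := by rw [cX]; ring
  have hiY : i0 + 1 = i0 + 1 + 2 * relCodim Y.scheme W.scheme := by rw [cY]; ring
  have hnY : n = n + relCodim Y.scheme W.scheme := by rw [cY]; ring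
  -- exactness: push iY then pull iX
  have eY : Function.Exact (T.push iY.hom M (i0 + 1) n (i0 + 1) n hiY hnY).hom
      (T.pull iX M (i0 + 1) n).hom :=
    T.exact_push_pull D M i0 n (i0 + 1) n hiY hnY
  have eX : Function.Exact (T.push iX.hom M (i0 + 1) n (i0 + 1) n hiX hnX).hom
      (T.pull iY M (i0 + 1) n).hom :=
    T.exact_push_pull D' M i0 n (i0 + 1) n hiX hnX
  have sY := push_pull_self T iY M (i0 + 1) n hiY hnY
  have sX := push_pull_self T iX M (i0 + 1) n hiX hnX
  have sY' : ∀ b, (T.pull iY M (i0 + 1) n).hom ((T.push iY.hom M (i0 + 1) n (i0 + 1) n hiY hnY).hom b)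
      = b := fun b => by
    have := congrArg (fun f => f.hom b) sY
    simpa using this
  have sX' : ∀ b, (T.pull iX M (i0 + 1) n).hom ((T.push iX.hom M (i0 + 1) n (i0 + 1) n hiX hnX).hom b)
      = b := fun b => by
    have := congrArg (fun f => f.hom b) sX
    simpa using this
  have zY : ∀ b, (T.pull iX M (i0 + 1) n).hom ((T.push iY.hom M (i0 + 1) n (i0 + 1) n hiY hnY).hom b)
      = 0 := fun b => (eY _).2 ⟨b, rfl⟩
  have zX : ∀ b, (T.pull iY M (i0 + 1) n).hom ((T.push iX.hom M (i0 + 1) n (i0 + 1) n hiX hnX).hom b)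
      = 0 := fun b => (eX _).2 ⟨b, rfl⟩
  constructor
  · have key : ∀ a : T.gp W M (i0 + 1) n, (T.pull iX M (i0 + 1) n).hom a = 0 →
        (T.pull iY M (i0 + 1) n).hom a = 0 → a = 0 := by
      intro a ha1 ha2
      obtain ⟨b, rfl⟩ := (eY a).1 ha1
      rw [sY'] at ha2
      rw [ha2, map_zero]
    intro a a' haa
    have h1 : (T.pull iX M (i0 + 1) n).hom a = (T.pull iX M (i0 + 1) n).hom a' :=
      congrArg Prod.fst haa
    have h2 : (T.pull iY M (i0 + 1) n).hom a = (T.pull iY M (i0 + 1) n).hom a' :=
      congrArg Prod.snd haa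
    have := key (a - a') (by rw [map_sub, h1, sub_self]) (by rw [map_sub, h2, sub_self])
    exact sub_eq_zero.1 this
  · rintro ⟨x, y⟩
    refine ⟨(T.push iX.hom M (i0 + 1) n (i0 + 1) n hiX hnX).hom x +
      (T.push iY.hom M (i0 + 1) n (i0 + 1) n hiY hnY).hom y, ?_⟩
    simp only [map_add, sX', sY', zX, zY, add_zero, zero_add]

end aux

/-- Let T be a twisted Borel–Moore cohomology theory with coefficients in A (a full subcategory of
R-modules containing R) on a constructible class V of Noetherian schemes, and let i_X : X → W and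
i_Y : Y → W be morphisms of V — open immersions with dim X = dim W = dim Y — whose images are
complementary in W, so that W is the disjoint union of X and Y. Then for every coefficient module M
and all integers i, n the map H^i(W, M(n)) → H^i(X, M(n)) × H^i(Y, M(n)) whose components are the
restriction maps along i_X and i_Y is bijective. -/
theorem result (V : ObjectProperty Scheme.{u}) [BMCoh.IsConstructible V] (R : Type u) [CommRing R] (A : BMCoh.Coefs R) (T : BMCoh.TheoryOn V R A) {X Y W : BMCoh.Obj V} (iX : X ⟶ W) (iY : Y ⟶ W) (h : Set.range iX.hom = (Set.range iY.hom)ᶜ) (M : A.Cat) (i n : ℤ) : Function.Bijective (fun a : T.gp W M i n => ((T.pull iX M i n).hom a, (T.pull iY M i n).hom a)) := by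
  exact main V R A T iX iY h M i n

end Groth.Agent.S15883
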