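import Groth.Statements.S15884
import Groth.Agent.Lib.Helper23.BMLib2
import Mathlib

set_option autoImplicit false
universe u
open CategoryTheory AlgebraicGeometry Opposite
open BMCoh

namespace Groth.Agent.S15884

open Groth.Agent.Helper23.BMLib1 Groth.Agent.Helper23.BMLib2
open CategoryTheory.Limits TopologicalSpace

section cat
universe v₁ u₁ v₂ u₂
variable {J : Type u₁} [Category.{v₁} J] {C : Type u₂} [Category.{v₂} C]

theorem isIso_of_cocone {G : J ⥤ C} {D : Cocone G} (hD : IsColimit D) (P : C)
    (φ : ∀ U : J, P ⟶ G.obj U) [iso : ∀ U, IsIso (φ U)]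
    (hφ : ∀ (U U' : J) (f : U ⟶ U'), φ U ≫ G.map f = φ U') (t : J)
    (ht : ∀ U : J, Nonempty (t ⟶ U)) : IsIso (φ t ≫ D.ι.app t) := by
  let s : Cocone G :=
    { pt := P
      ι :=
        { app := fun U => inv (φ U)
          naturality := by
            intro U U' f
            dsimp
            rw [Category.comp_id, IsIso.comp_inv_eq, IsIso.eq_inv_comp]
            exact hφ U U' f } }
  have hw : ∀ U : J, φ t ≫ D.ι.app t = φ U ≫ D.ι.app U := by
    intro U
    obtain ⟨f⟩ := ht U
    rw [← hφ t U f, Category.assoc, D.w]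
  refine ⟨hD.desc s, ?_, ?_⟩
  · rw [Category.assoc, hD.fac]
    exact IsIso.hom_inv_id _
  · apply hD.hom_ext
    intro U
    rw [← Category.assoc, hD.fac, hw U]
    dsimp
    rw [Category.comp_id]
    exact IsIso.inv_hom_id_assoc _ _

end cat

section aux
variable {V : ObjectProperty Scheme.{u}} [IsConstructible V] {R : Type u} [CommRing R]
  {A : Coefs R}

theorem toFj_bijective (T : TheoryOn V R A) (X : Obj V) (M : A.Cat) (j : ℕ) (i n : ℤ)
    (hj : i ≤ 2 * (j : ℤ)) : Function.Bijective ((T.toFj X j i n).app M).hom := by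
  obtain ⟨k, rfl⟩ : ∃ k, i = k + 1 := ⟨i - 1, by ring⟩
  have bij : ∀ U : Idx X (ContainsFj X j),
      Function.Bijective (T.pull (X.resι U.1 U.2.2) M (k + 1) n).hom := by
    intro U
    apply pull_bijective_of_codim T (X.resι U.1 U.2.2) (j + 1) _ M k n (by push_cast; omega)
    intro x hx
    have hx' : x ∉ U.1 := by
      intro h
      apply hx
      change x ∈ Set.range U.1.ι
      rw [Scheme.Opens.range_ι]
      exact h
    by_contra hlt
    exact hx' (U.2.1 x (by omega))
  let F := (idxDiag X (ContainsFj X j)).op ⋙ T.H (k + 1) n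
  let G := F ⋙ (evaluation _ _).obj M
  let D : Cocone G := ((evaluation _ _).obj M).mapCocone (colimit.cocone F)
  have hD : IsColimit D := isColimitOfPreserves ((evaluation _ _).obj M) (colimit.isColimit F)
  let φ : ∀ U : (Idx X (ContainsFj X j))ᵒᵖ, T.gp X M (k + 1) n ⟶ G.obj U :=
    fun U => T.pull (X.resι U.unop.1 U.unop.2.2) M (k + 1) n
  haveI iso : ∀ U, IsIso (φ U) :=
    fun U => (ConcreteCategory.isIso_iff_bijective _).2 (bij U.unop)
  have hφ : ∀ (U U' : (Idx X (ContainsFj X j))ᵒᵖ) (f : U ⟶ U'), φ U ≫ G.map f = φ U' := by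
    intro U U' f
    change T.pull (X.resι U.unop.1 U.unop.2.2) M (k + 1) n ≫
      T.pull (X.resLE f.unop.le (U'.unop.2.2.trans U.unop.2.2.symm)) M (k + 1) n = _
    rw [← pull_comp, resLE_resι]
  let top : Idx X (ContainsFj X j) := ⟨⊤, fun _ _ => trivial, dim_top X.scheme⟩
  have htoFj : (T.toFj X j (k + 1) n).app M = φ (op top) ≫ D.ι.app (op top) := rfl
  haveI : IsIso ((T.toFj X j (k + 1) n).app M) := by
    rw [htoFj]
    exact isIso_of_cocone hD _ φ hφ (op top)
      (fun U => ⟨(homOfLE (show U.unop ≤ top from le_top (a := U.unop.1))).op⟩)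
  exact ConcreteCategory.bijective_of_isIso _

end aux

/-- Let T be a twisted Borel–Moore cohomology theory with coefficients in A on a constructible class V
of Noetherian schemes, X an object of V, M a coefficient module, i and n integers and j a natural
number with i ≤ 2j (that is, j is at least the ceiling of i/2). Then the canonical map H^i(X, M(n))
→ H^i(F_jX, M(n)), to the colimit of H^i(U, M(n)) over the open subschemes U of X that contain every
point of codimension at most j (codimension of a point = dim X minus the dimension of its closure),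
is bijective. -/
theorem result (V : ObjectProperty Scheme.{u}) [BMCoh.IsConstructible V] (R : Type u) [CommRing R] (A : BMCoh.Coefs R) (T : BMCoh.TheoryOn V R A) (X : BMCoh.Obj V) (M : A.Cat) (j : ℕ) (i n : ℤ) (hj : i ≤ 2 * (j : ℤ)) : Function.Bijective ((T.toFj X j i n).app M).hom := by
  exact toFj_bijective T X M j i n hj

end Groth.Agent.S15884
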