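import Groth.Statements.S15889
import Mathlib

set_option autoImplicit false
universe u
open Versch

namespace Groth.Agent.S15889

section aux

theorem charP_of_cast_eq_zero (p : ℕ) [Fact p.Prime] (W : Type*) [Ring W] [Nontrivial W]
    (h : (p : W) = 0) : CharP W p := by
  obtain ⟨q, hq⟩ := CharP.exists W
  have hdvd : q ∣ p := (CharP.cast_eq_zero_iff W q p).1 h
  have hq1 : q ≠ 1 := CharP.char_ne_one W q
  have : q = p := ((Nat.dvd_prime (Fact.out : p.Prime)).1 hdvd).resolve_left hq1
  exact this ▸ hq

theorem sum_pow_char' (p : ℕ) [Fact p.Prime] (W : Type*) [CommRing W] (h : (p : W) = 0)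
    {ι : Type*} (s : Finset ι) (f : ι → W) : (∑ i ∈ s, f i) ^ p = ∑ i ∈ s, f i ^ p := by
  by_cases hW : Subsingleton W
  · exact Subsingleton.elim _ _
  · haveI : Nontrivial W := not_subsingleton_iff_nontrivial.1 hW
    haveI := charP_of_cast_eq_zero p W h
    exact sum_pow_char p s f

variable (R : Type u) [CommRing R] (A : Type u) [CommRing A] [Algebra R A]
  [Module.Finite R A] [Module.Projective R A]

theorem exists_dual_basis : ∃ (n : ℕ) (e : Fin n → A) (φ : Fin n → (A →ₗ[R] R)),
    ∀ a : A, a = ∑ i, φ i a • e i := by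
  obtain ⟨n, f, g, -, -, hfg⟩ := Module.Finite.exists_comp_eq_id_of_projective R A
  refine ⟨n, fun i => f (Pi.single i 1), fun i => LinearMap.proj i ∘ₗ g, fun a => ?_⟩
  have h1 : f (g a) = a := by
    have := congrArg (fun h => h a) hfg
    simpa using this
  have h2 : g a = ∑ i, (g a i) • (Pi.single i 1 : Fin n → R) := by
    ext j
    simp [Finset.sum_apply, Pi.single_apply]
  conv_lhs => rw [← h1, h2]
  simp [map_sum]

end aux

section main

variable (p : ℕ) [Fact p.Prime] (R : Type u) [CommRing R] [CharP R p]
  (A : Type u) [CommRing A] [HopfAlgebra R A] [Coalgebra.IsCocomm R A]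
  [Module.Finite R A] [Module.Projective R A]

omit [Fact p.Prime] [CharP R p] [Coalgebra.IsCocomm R A] [Module.Finite R A]
  [Module.Projective R A] in
theorem dual_expand {n : ℕ} (e : Fin n → A) (φ : Fin n → (A →ₗ[R] R))
    (he : ∀ a : A, a = ∑ i, φ i a • e i) (x : CartDual.D R A) :
    x = ∑ i, (x (e i)) • (WithConv.toConv (φ i) : CartDual.D R A) := by
  apply WithConv.ofConv_injective
  apply LinearMap.ext
  intro a
  conv_lhs => rw [he a]
  simp [map_sum, CartDual.coe_apply, mul_comm]

theorem dual_pow_expand {n : ℕ} (e : Fin n → A) (φ : Fin n → (A →ₗ[R] R))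
    (he : ∀ a : A, a = ∑ i, φ i a • e i) (x : CartDual.D R A) :
    x ^ p = ∑ i, (x (e i)) ^ p • (WithConv.toConv (φ i) : CartDual.D R A) ^ p := by
  conv_lhs => rw [dual_expand R A e φ he x]
  rw [sum_pow_char' p (CartDual.D R A) (CharP.cast_eq_zero _ p)]
  refine Finset.sum_congr rfl fun i _ => ?_
  rw [smul_pow]

theorem v_eq {n : ℕ} (e : Fin n → A) (φ : Fin n → (A →ₗ[R] R))
    (he : ∀ a : A, a = ∑ i, φ i a • e i) (v : A →+* FrobAlg.BaseChange p R A)
    (hv : Versch.IsVerschiebung p R A v) (a : A) :
    v a = ∑ i, e i ⊗ₜ[R]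
      FrobAlg.toTwist p R (((WithConv.toConv (φ i) : CartDual.D R A) ^ p) a) := by
  rw [isVerschiebung_iff] at hv
  apply evTw_injective p R A
  intro x
  rw [hv a x, map_sum]
  simp only [evTw_tmul']
  rw [dual_pow_expand p R A e φ he x]
  simp [CartDual.coe_apply, map_sum, map_mul]

omit [Coalgebra.IsCocomm R A] [Module.Finite R A] [Module.Projective R A] in
theorem relFrob_tmul [CharP A p] (b : A) (s : FrobAlg.Twist p R) :
    FrobAlg.relFrob p R A (b ⊗ₜ s) = b ^ p * algebraMap R A ((FrobAlg.toTwist p R).symm s) := by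
  simp [FrobAlg.relFrob, FrobAlg.frobHom, FrobAlg.inclHom, Algebra.TensorProduct.lift_tmul]
  rfl

/-- the map `D → Hom(A, A)` -/
noncomputable def liftD (x : CartDual.D R A) : WithConv (A →ₗ[R] A) :=
  WithConv.toConv ((Algebra.linearMap R A) ∘ₗ x.ofConv)

omit [Fact p.Prime] [CharP R p] [Coalgebra.IsCocomm R A] [Module.Finite R A]
  [Module.Projective R A] in
theorem liftD_mul (x y : CartDual.D R A) : liftD R A (x * y) = liftD R A x * liftD R A y := by
  apply WithConv.ofConv_injective
  exact LinearMap.algHom_comp_convMul_distrib (Algebra.ofId R A) x y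

omit [Fact p.Prime] [CharP R p] [Coalgebra.IsCocomm R A] [Module.Finite R A]
  [Module.Projective R A] in
theorem liftD_one : liftD R A 1 = 1 := by
  apply WithConv.ofConv_injective
  apply LinearMap.ext
  intro a
  simp [liftD, LinearMap.convOne_def]

omit [Fact p.Prime] [CharP R p] [Coalgebra.IsCocomm R A] [Module.Finite R A]
  [Module.Projective R A] in
theorem liftD_pow (x : CartDual.D R A) (k : ℕ) : liftD R A (x ^ k) = liftD R A x ^ k := by
  induction k with
  | zero => rw [pow_zero, pow_zero, liftD_one]
  | succ k ih => rw [pow_succ, pow_succ, liftD_mul, ih]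

omit [Fact p.Prime] [CharP R p] [Coalgebra.IsCocomm R A] [Module.Finite R A]
  [Module.Projective R A] in
theorem id_expand {n : ℕ} (e : Fin n → A) (φ : Fin n → (A →ₗ[R] R))
    (he : ∀ a : A, a = ∑ i, φ i a • e i) :
    (WithConv.toConv (LinearMap.id : A →ₗ[R] A)) =
      ∑ i, e i • liftD R A (WithConv.toConv (φ i)) := by
  apply WithConv.ofConv_injective
  apply LinearMap.ext
  intro a
  conv_lhs => rw [WithConv.ofConv_toConv, LinearMap.id_apply, he a]
  simp only [liftD, WithConv.ofConv_sum, WithConv.ofConv_smul, WithConv.ofConv_toConv,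
    LinearMap.sum_apply, LinearMap.smul_apply, LinearMap.comp_apply, Algebra.linearMap_apply,
    smul_eq_mul]
  refine Finset.sum_congr rfl fun i _ => ?_
  rw [Algebra.smul_def, mul_comm]

theorem main [CharP A p] (v : A →+* FrobAlg.BaseChange p R A)
    (hv : Versch.IsVerschiebung p R A v) :
    (FrobAlg.relFrob p R A).comp v = (SGA3b.powConv R A p).toRingHom := by
  obtain ⟨n, e, φ, he⟩ := exists_dual_basis R A
  apply RingHom.ext
  intro a
  rw [RingHom.comp_apply, v_eq p R A e φ he v hv a, map_sum]
  simp only [relFrob_tmul, RingEquiv.symm_apply_apply]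
  have hpow : WithConv.toConv (SGA3b.powConv R A p).toLinearMap =
      (WithConv.toConv (LinearMap.id : A →ₗ[R] A)) ^ p := by
    unfold SGA3b.powConv
    exact AlgHom.toLinearMap_convPow (WithConv.toConv (AlgHom.id R A)) p
  have h1 : (SGA3b.powConv R A p).toRingHom a =
      (WithConv.toConv (SGA3b.powConv R A p).toLinearMap) a := rfl
  have hp0 : ((p : ℕ) : WithConv (A →ₗ[R] A)) = 0 := by
    rw [← map_natCast (algebraMap R (WithConv (A →ₗ[R] A))) p, CharP.cast_eq_zero, map_zero]
  rw [h1, hpow, id_expand R A e φ he, sum_pow_char' p _ hp0]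
  simp only [smul_pow, ← liftD_pow]
  simp only [liftD, WithConv.ofConv_sum, WithConv.ofConv_smul, WithConv.ofConv_toConv,
    LinearMap.sum_apply, LinearMap.smul_apply, LinearMap.comp_apply, Algebra.linearMap_apply,
    smul_eq_mul]

end main

/-- Let p be a prime, R a commutative ring of characteristic p and A a commutative and cocommutative
Hopf algebra over R which is finitely generated and projective as an R-module, of characteristic p
(a finite locally free commutative group scheme G = Spec A over S = Spec R). Let v : A → A ⊗_R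
R^(Frob) be the comorphism of the Verschiebung V : G^(p) → G, i.e. the ring map whose transpose
under the canonical pairing is the relative Frobenius of the dual Hopf algebra. Then the composite
of the relative Frobenius comorphism A^(p) → A with v is the p-th convolution power of the identity
of A: V ∘ F = [p] is multiplication by p on G. (The published notes work over a Noetherian base
ring; the row allows any commutative base ring of characteristic p.) -/
theorem result (p : ℕ) [Fact p.Prime] (R : Type u) [CommRing R] [CharP R p]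
    (A : Type u) [CommRing A] [HopfAlgebra R A] [Coalgebra.IsCocomm R A] [Module.Finite R A] [Module.Projective R A]
    [CharP A p] (v : A →+* FrobAlg.BaseChange p R A) (hv : Versch.IsVerschiebung p R A v) :
    (FrobAlg.relFrob p R A).comp v = (SGA3b.powConv R A p).toRingHom := by
  exact main p R A v hv

end Groth.Agent.S15889
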