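import Groth.Statements.S15890
import Groth.Agent.Lib.Helper23.VerschLib
import Mathlib

set_option autoImplicit false
universe u v
open Versch

namespace Groth.Agent.S15890

section aux
open scoped TensorProduct
open Groth.Agent.Helper23.VerschLib

variable (p : ℕ) [Fact p.Prime] (k : Type u) [Field k] [CharP k p]
  (A : Type v) [CommRing A] [HopfAlgebra k A] [Coalgebra.IsCocomm k A] [FiniteDimensional k A]

/-- (a) -/
theorem v_injective_of_span (v : A →+* FrobAlg.BaseChange p k A)
    (hv : Versch.IsVerschiebung p k A v)
    (h : Submodule.span k (Set.range fun x : CartDual.D k A => x ^ p) = ⊤) :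
    Function.Injective v := by
  rw [isVerschiebung_iff] at hv
  rw [injective_iff_map_eq_zero]
  intro a ha
  have h1 : ∀ x : CartDual.D k A, (x ^ p) a = 0 := by
    intro x
    have := hv a x
    rw [ha, map_zero] at this
    exact (FrobAlg.toTwist p k).injective (by rw [← this, map_zero])
  have h2 : ∀ y : CartDual.D k A, y a = 0 := by
    intro y
    have hy : y ∈ Submodule.span k (Set.range fun x : CartDual.D k A => x ^ p) := by
      rw [h]; trivial
    induction hy using Submodule.span_induction with
    | mem y hy =>
      obtain ⟨x, rfl⟩ := hy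
      exact h1 x
    | zero => rfl
    | add y z _ _ hy hz =>
      rw [CartDual.coe_apply] at hy hz ⊢
      rw [WithConv.ofConv_add, LinearMap.add_apply, hy, hz, add_zero]
    | smul c y _ hy =>
      rw [CartDual.coe_apply] at hy ⊢
      rw [WithConv.ofConv_smul, LinearMap.smul_apply, hy, smul_zero]
  rw [← Module.forall_dual_apply_eq_zero_iff k a]
  intro φ
  exact h2 (WithConv.toConv φ)

/-- (b) -/
theorem span_of_v_injective (v : A →+* FrobAlg.BaseChange p k A)
    (hv : Versch.IsVerschiebung p k A v) (hinj : Function.Injective v) :
    Submodule.span k (Set.range fun x : CartDual.D k A => x ^ p) = ⊤ := by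
  rw [isVerschiebung_iff] at hv
  by_contra hne
  set W : Submodule k (Module.Dual k A) :=
    (Submodule.span k (Set.range fun x : CartDual.D k A => x ^ p)).map
      (CartDual.toDual k A).toLinearMap with hW
  have hW' : W ≠ ⊤ := by
    intro h
    apply hne
    rw [eq_top_iff]
    intro y _
    have : (CartDual.toDual k A) y ∈ W := by rw [h]; trivial
    obtain ⟨y', hy', hyy⟩ := this
    have : y' = y := (CartDual.toDual k A).injective hyy
    rwa [this] at hy'
  have hco : W.dualCoannihilator ≠ ⊥ := by
    intro h
    apply hW'
    rw [← Subspace.dualCoannihilator_dualAnnihilator_eq (W := W), h,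
      Submodule.dualAnnihilator_bot]
  obtain ⟨a, ha, ha0⟩ := Submodule.exists_mem_ne_zero_of_ne_bot hco
  rw [Submodule.mem_dualCoannihilator] at ha
  apply ha0
  apply hinj
  rw [map_zero]
  apply evTw_injective p k A
  intro x
  rw [hv a x, map_zero]
  have : (x ^ p) a = 0 := by
    have := ha ((CartDual.toDual k A) (x ^ p))
      ⟨x ^ p, Submodule.subset_span ⟨x, rfl⟩, rfl⟩
    exact this
  rw [this, map_zero]

/-- (c) -/
theorem v_surjective_of_injective (v : A →+* FrobAlg.BaseChange p k A)
    (hv : Versch.IsVerschiebung p k A v) (hinj : Function.Injective v) :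
    Function.Surjective v := by
  let b := Module.finBasis k A
  have he : ∀ a : A, a = ∑ i, (b.coord i) a • b i := fun a => (b.sum_repr a).symm
  let c : A →ₗ[k] (Fin (Module.finrank k A) → k) :=
    LinearMap.pi fun i => ((WithConv.toConv (b.coord i) : CartDual.D k A) ^ p).ofConv
  have hvc : ∀ a, v a = ∑ i, b i ⊗ₜ[k] FrobAlg.toTwist p k (c a i) :=
    v_eq p k A b (fun i => b.coord i) he v hv
  have hcinj : Function.Injective c := by
    intro a a' h
    apply hinj
    rw [hvc, hvc, h]
  have hcsurj : Function.Surjective c :=
    (LinearMap.injective_iff_surjective_of_finrank_eq_finrank (by simp)).1 hcinj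
  intro z
  have hz : ∃ t : Fin (Module.finrank k A) → FrobAlg.Twist p k, z = ∑ i, b i ⊗ₜ[k] t i := by
    induction z using TensorProduct.induction_on with
    | zero => exact ⟨0, by simp⟩
    | tmul a s =>
      refine ⟨fun i => (b.coord i) a • s, ?_⟩
      conv_lhs => rw [he a]
      rw [TensorProduct.sum_tmul]
      refine Finset.sum_congr rfl fun i _ => ?_
      rw [TensorProduct.smul_tmul]
    | add x y hx hy =>
      obtain ⟨t, rfl⟩ := hx
      obtain ⟨t', rfl⟩ := hy
      exact ⟨t + t', by simp [TensorProduct.tmul_add, Finset.sum_add_distrib]⟩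
  obtain ⟨t, rfl⟩ := hz
  obtain ⟨a, ha⟩ := hcsurj (fun i => (FrobAlg.toTwist p k).symm (t i))
  refine ⟨a, ?_⟩
  rw [hvc, ha]
  simp

theorem main (v : A →+* FrobAlg.BaseChange p k A) (hv : Versch.IsVerschiebung p k A v) :
    Algebra.Etale k (CartDual.D k A) ↔ Function.Bijective v := by
  constructor
  · intro h
    have hs := span_eq_top_of_etale p k (CartDual.D k A)
    have hi := v_injective_of_span p k A v hv hs
    exact ⟨hi, v_surjective_of_injective p k A v hv hi⟩
  · intro h
    exact etale_of_span_eq_top p k (CartDual.D k A) (span_of_v_injective p k A v hv h.1)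

end aux

/-- Let p be a prime, k a field of characteristic p and A a finite-dimensional commutative and
cocommutative Hopf algebra over k (a finite commutative k-group scheme G = Spec A), and let v : A →
A ⊗_k k^(Frob) be the comorphism of the Verschiebung V : G^(p) → G (the ring map whose transpose
under the canonical pairing is the relative Frobenius of the dual Hopf algebra). Then G is
multiplicative, i.e. the dual Hopf algebra Hom_k(A, k) of the Cartier dual G^D is étale over k, if
and only if v is bijective, i.e. V is an isomorphism. -/
theorem result (p : ℕ) [Fact p.Prime] (k : Type u) [Field k] [CharP k p]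
    (A : Type v) [CommRing A] [HopfAlgebra k A] [Coalgebra.IsCocomm k A] [FiniteDimensional k A]
    (v : A →+* FrobAlg.BaseChange p k A) (hv : Versch.IsVerschiebung p k A v) :
    Algebra.Etale k (CartDual.D k A) ↔ Function.Bijective v := by
  exact main p k A v hv

end Groth.Agent.S15890
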