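import Groth.Statements.S15893

set_option autoImplicit false
universe u v w
open CartDual

namespace Groth.Agent.S15893

theorem eval_bijective (R : Type u) [CommRing R] (A : Type v) [CommRing A] [HopfAlgebra R A]
    [Module.Finite R A] [Module.Projective R A] :
    Function.Bijective (CartDual.eval R A) := by
  constructor
  · intro a a' h
    rw [← sub_eq_zero, ← Module.forall_dual_apply_eq_zero_iff R]
    intro φ
    have h1 := congrArg (fun ξ => ξ (WithConv.toConv φ)) h
    simp only [CartDual.eval_apply] at h1
    rw [map_sub, sub_eq_zero]
    exact h1
  · intro ξ
    let ζ : Module.Dual R (Module.Dual R A) := ξ.ofConv ∘ₗ (CartDual.toDual R A).symm.toLinearMap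
    refine ⟨(Module.evalEquiv R A).symm ζ, ?_⟩
    apply WithConv.ext
    apply LinearMap.ext
    intro x
    show x.ofConv ((Module.evalEquiv R A).symm ζ) = ξ.ofConv x
    rw [Module.apply_evalEquiv_symm_apply]
    rfl

theorem exists_inv (R : Type u) [CommRing R] (B : Type w) [CommRing B] [HopfAlgebra R B]
    [Module.Finite R B] [Module.Projective R B] :
    ∃ g : CartDual.D R (CartDual.D R B) →ₐc[R] B, ∀ ξ, CartDual.eval R B (g ξ) = ξ := by
  let eB := @BialgEquiv.ofBijective R B (CartDual.D R (CartDual.D R B)) _ _ _ _ _ (CartDual.eval R B)
    (eval_bijective R B)
  exact ⟨(eB.symm : CartDual.D R (CartDual.D R B) →ₐc[R] B), fun ξ => eB.apply_symm_apply ξ⟩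

/-- Let R be a commutative ring and A, B commutative and cocommutative Hopf algebras over R, each
finitely generated and projective as an R-module (finite locally free commutative group schemes G =
Spec A, H = Spec B over Spec R). Then Cartier duality is a fully faithful contravariant functor: the
map sending a bialgebra homomorphism f : A → B (a homomorphism of group schemes H → G) to its
transpose between the dual Hopf algebras, Hom_R(B, R) → Hom_R(A, R) (the dual homomorphism G^D →
H^D), is a bijection between bialgebra homomorphisms A → B and bialgebra homomorphisms Hom_R(B, R) →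
Hom_R(A, R). (The published statement also asserts that the canonical map to the double dual is an
isomorphism, which makes duality an involutory anti-equivalence; that part is not restated here. The
published notes work over a Noetherian base ring; the row allows any commutative base ring.) -/
theorem result (R : Type u) [CommRing R] (A : Type v) (B : Type w)
    [CommRing A] [HopfAlgebra R A] [Coalgebra.IsCocomm R A] [Module.Finite R A] [Module.Projective R A]
    [CommRing B] [HopfAlgebra R B] [Coalgebra.IsCocomm R B] [Module.Finite R B] [Module.Projective R B] :
    Function.Bijective (fun f : A →ₐc[R] B => CartDual.transpose R f) := by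
  constructor
  · intro f f' h
    apply DFunLike.ext
    intro a
    rw [← sub_eq_zero, ← Module.forall_dual_apply_eq_zero_iff R]
    intro φ
    have h1 := congrArg (fun g => g (WithConv.toConv φ) a) h
    simp only [CartDual.transpose_apply] at h1
    rw [map_sub, sub_eq_zero]
    exact h1
  · intro φ
    obtain ⟨g, hg⟩ := exists_inv R B
    let f : A →ₐc[R] B := g.comp ((CartDual.transpose R φ).comp (CartDual.eval R A))
    refine ⟨f, ?_⟩
    apply DFunLike.ext
    intro x
    apply WithConv.ext
    apply LinearMap.ext
    intro a
    show x (f a) = (φ x) a
    have h1 : CartDual.eval R B (f a) = CartDual.transpose R φ (CartDual.eval R A a) :=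
      hg _
    have h2 := congrArg (fun ξ => ξ x) h1
    simpa using h2

end Groth.Agent.S15893
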