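import Groth.Statements.S15895
import Groth.Prelude.Def_CartDual2
import Mathlib.Algebra.CharP.Lemmas

set_option autoImplicit false
universe u
open scoped TensorProduct
open Versch

namespace Groth.Agent.S15895

theorem pow_p_groupAlgebra (p : ℕ) [Fact p.Prime] (R : Type u) [CommRing R] [CharP R p]
    (a : MonoidAlgebra R (Multiplicative (ZMod p))) :
    a ^ p = MonoidAlgebra.single 1 ((Coalgebra.counit (R := R) a) ^ p) := by
  have hinj : Function.Injective (algebraMap R (MonoidAlgebra R (Multiplicative (ZMod p)))) := by
    intro r s h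
    have := congrArg (fun f => Coalgebra.counit (R := R) f) h
    simpa using this
  have : CharP (MonoidAlgebra R (Multiplicative (ZMod p))) p := charP_of_injective_algebraMap hinj p
  induction a using MonoidAlgebra.induction_linear with
  | zero => simp [zero_pow (Fact.out : p.Prime).ne_zero]
  | add f g hf hg =>
    rw [add_pow_char, hf, hg, map_add, add_pow_char, MonoidAlgebra.single_add]
  | single g c =>
    rw [MonoidAlgebra.single_pow, MonoidAlgebra.counit_single]
    congr 1
    apply Multiplicative.toAdd.injective
    simp

theorem eval_surj (R : Type u) [CommRing R] (A : Type u) [CommRing A] [HopfAlgebra R A]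
    [Module.Finite R A] [Module.Projective R A] (ξ : CartDual.D R (CartDual.D R A)) :
    ∃ a : A, CartDual.eval R A a = ξ := by
  let ζ : Module.Dual R (Module.Dual R A) := ξ.ofConv ∘ₗ (CartDual.toDual R A).symm.toLinearMap
  refine ⟨(Module.evalEquiv R A).symm ζ, ?_⟩
  apply WithConv.ext
  apply LinearMap.ext
  intro x
  show x.ofConv ((Module.evalEquiv R A).symm ζ) = ξ.ofConv x
  rw [Module.apply_evalEquiv_symm_apply]
  rfl

/-- Let p be a prime, R a commutative ring of characteristic p and B = Hom_R(R[ℤ/p], R) the dual Hopf
algebra of the group algebra of the cyclic group of order p: the Hopf algebra of the constant group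
scheme ℤ/p over Spec R (the Cartier dual of μ_p). Let v : B → B ⊗_R R^(Frob) be the comorphism of
the Verschiebung V : (ℤ/p)^(p) → ℤ/p (the ring map whose transpose under the canonical pairing is
the relative Frobenius of the dual Hopf algebra of B). Then V is the trivial homomorphism: v is the
composite of the counit ε : B → R, the identity of underlying rings R → R^(Frob) and the inclusion
of the twisted factor R^(Frob) → B ⊗_R R^(Frob), i.e. v(b) = 1 ⊗ ε(b). -/
theorem result (p : ℕ) [Fact p.Prime] (R : Type u) [CommRing R]
    [CharP R p] (v : CartDual.D R (MonoidAlgebra R (Multiplicative (ZMod p))) →+* FrobAlg.BaseChange p R (CartDual.D R (MonoidAlgebra R (Multiplicative (ZMod p)))))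
    (hv : Versch.IsVerschiebung p R (CartDual.D R (MonoidAlgebra R (Multiplicative (ZMod p)))) v) :
    v = ((Algebra.TensorProduct.includeRight (R := R) (A := CartDual.D R (MonoidAlgebra R (Multiplicative (ZMod p))))
            (B := FrobAlg.Twist p R)).toRingHom.comp (FrobAlg.toTwist p R).toRingHom).comp
          (Bialgebra.counitAlgHom R (CartDual.D R (MonoidAlgebra R (Multiplicative (ZMod p))))).toRingHom := by
  apply RingHom.ext
  intro b
  apply Versch.evTw_injective p R (CartDual.D R (MonoidAlgebra R (Multiplicative (ZMod p))))
  intro ξ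
  have h1 := (Versch.isVerschiebung_iff p R _ v).mp hv b ξ
  refine h1.trans ?_
  have h2 : (((Algebra.TensorProduct.includeRight (R := R) (A := CartDual.D R (MonoidAlgebra R (Multiplicative (ZMod p))))
            (B := FrobAlg.Twist p R)).toRingHom.comp (FrobAlg.toTwist p R).toRingHom).comp
          (Bialgebra.counitAlgHom R (CartDual.D R (MonoidAlgebra R (Multiplicative (ZMod p))))).toRingHom) b =
      (1 : CartDual.D R (MonoidAlgebra R (Multiplicative (ZMod p)))) ⊗ₜ[R] FrobAlg.toTwist p R (b 1) := rfl
  rw [h2, Versch.evTw_tmul', ← map_mul]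
  congr 1
  obtain ⟨a, rfl⟩ := eval_surj R (MonoidAlgebra R (Multiplicative (ZMod p))) ξ
  rw [← map_pow, CartDual.eval_apply, CartDual.eval_apply, pow_p_groupAlgebra]
  have h3 : (1 : CartDual.D R (MonoidAlgebra R (Multiplicative (ZMod p)))) a = Coalgebra.counit (R := R) a := by
    rw [LinearMap.convOne_apply]; rfl
  rw [h3]
  have h4 : (MonoidAlgebra.single (1 : Multiplicative (ZMod p)) ((Coalgebra.counit (R := R) a) ^ p) :
      MonoidAlgebra R (Multiplicative (ZMod p))) = ((Coalgebra.counit (R := R) a) ^ p) • 1 := by
    rw [MonoidAlgebra.one_def, MonoidAlgebra.smul_single, smul_eq_mul, mul_one]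
  rw [h4, map_smul, smul_eq_mul]

end Groth.Agent.S15895
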