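import Groth.Statements.S15896
import Groth.Agent.Lib.Helper6.UnitComp2
import Groth.Agent.Lib.Helper6.QuotBialg

set_option autoImplicit false
universe u
open scoped TensorProduct
open Hopf

namespace Groth.Agent.S15896

/-- Let R be a henselian Noetherian local ring and A a commutative and cocommutative Hopf algebra over R
which is finitely generated and projective as an R-module (a finite flat commutative R-group G =
Spec A). Let e ∈ A be an idempotent with ε(e) = 1 such that the ideal (1 − e) is a Hopf ideal and A⁰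
= A/(1 − e) is a local ring, projective over R, with cocommutative quotient structure (G⁰ = Spec A⁰
is the connected component of the unit section). Let B = Hom_R(A⁰, R) be the dual Hopf algebra (the
Cartier dual (G⁰)^D) and e' ∈ B an idempotent with ε(e') = 1 and B/(1 − e') local (the unit
component of (G⁰)^D). Say that x ∈ B is invariant when (id ⊗ (multiplication by e'))(Δ x) = x ⊗ e',
i.e. x is invariant under translation by the unit component of (G⁰)^D, so that the invariant
elements form the Hopf algebra of the maximal étale quotient of (G⁰)^D; the ideal in A⁰ of the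
closed subgroup G_μ ⊆ G⁰ ⊆ G consists of the elements annihilated by every invariant x (G_μ is the
Cartier dual of the étale quotient of (G⁰)^D, a connected multiplicative subgroup of G). Then G_μ is
the largest connected multiplicative closed subgroup of G: for every Hopf ideal J of A such that A/J
is a local ring, projective over R, cocommutative, and has étale dual Hopf algebra Hom_R(A/J, R) (H
= Spec A/J a connected closed subgroup with étale Cartier dual), every a ∈ A whose image in A⁰ is
annihilated by all invariant x lies in J, i.e. H ⊆ G_μ. -/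
theorem result (R : Type u) [CommRing R]
    [HenselianLocalRing R] [IsNoetherianRing R] (A : Type u) [CommRing A] [HopfAlgebra R A] [Coalgebra.IsCocomm R A]
    [Module.Finite R A] [Module.Projective R A] (e : A) (he : IsIdempotentElem e)
    (hε : Bialgebra.counitAlgHom R A e = 1) [(Ideal.span ({1 - e} : Set A)).IsHopfIdeal R] [IsLocalRing (A ⧸ Ideal.span ({1 - e} : Set A))]
    [Module.Projective R (A ⧸ Ideal.span ({1 - e} : Set A))] [Coalgebra.IsCocomm R (A ⧸ Ideal.span ({1 - e} : Set A))]
    (e' : CartDual.D R (A ⧸ Ideal.span ({1 - e} : Set A))) (he' : IsIdempotentElem e')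
    (hε' : Bialgebra.counitAlgHom R (CartDual.D R (A ⧸ Ideal.span ({1 - e} : Set A))) e' = 1)
    [IsLocalRing (CartDual.D R (A ⧸ Ideal.span ({1 - e} : Set A)) ⧸ Ideal.span ({1 - e'} : Set (CartDual.D R (A ⧸ Ideal.span ({1 - e} : Set A)))))]
    (J : Ideal A) [J.IsHopfIdeal R] [IsLocalRing (A ⧸ J)] [Module.Projective R (A ⧸ J)]
    [Coalgebra.IsCocomm R (A ⧸ J)] [Algebra.Etale R (CartDual.D R (A ⧸ J))]
    (a : A) (ha : ∀ x : CartDual.D R (A ⧸ Ideal.span ({1 - e} : Set A)), LinearMap.lTensor (CartDual.D R (A ⧸ Ideal.span ({1 - e} : Set A))) (LinearMap.mulLeft R e') (Coalgebra.comul (R := R) x) = x ⊗ₜ[R] e' → x (Ideal.Quotient.mk (Ideal.span ({1 - e} : Set A)) a) = 0) :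
    a ∈ J := by
  classical
  -- Step 1: the unit component contains the connected subgroup `H = Spec (A/J)`
  have hmkJe : Ideal.Quotient.mk J e = 1 := by
    rcases Groth.Agent.Lib.Helper6.UnitComp.idem_eq_zero_or_one _
      (he.map (Ideal.Quotient.mk J)) with h0 | h1
    · exfalso
      have h2 : CoalgebraStruct.counit (R := R) (Ideal.Quotient.mk J e) = (1 : R) := by
        rw [Bialgebra.Quotient.counit_mk]; exact hε
      rw [h0, map_zero] at h2
      exact zero_ne_one h2
    · exact h1
  have hIJ : ∀ b ∈ Ideal.span ({1 - e} : Set A), (BialgHom.id R A) b ∈ J := by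
    have hle : Ideal.span ({1 - e} : Set A) ≤ J := by
      rw [Ideal.span_le, Set.singleton_subset_iff, SetLike.mem_coe,
        ← Ideal.Quotient.eq_zero_iff_mem, map_sub, map_one, hmkJe, sub_self]
    exact fun b hb => hle hb
  let π : (A ⧸ Ideal.span ({1 - e} : Set A)) →ₐc[R] (A ⧸ J) :=
    Groth.Agent.Helper6.QuotBialg.quotMap (BialgHom.id R A) _ J hIJ
  let ι : CartDual.D R (A ⧸ J) →ₐc[R] CartDual.D R (A ⧸ Ideal.span ({1 - e} : Set A)) :=
    CartDual.transpose R π
  -- Step 2: the étale algebra `C = D(A/J)` maps to the local ring `L` through the counit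
  let εL := Groth.Agent.Lib.Helper6.UnitComp.counitBar e' hε'
  let φ₁ : CartDual.D R (A ⧸ J) →ₐ[R]
      (CartDual.D R (A ⧸ Ideal.span ({1 - e} : Set A)) ⧸ Ideal.span ({1 - e'} : Set _)) :=
    (Ideal.Quotient.mkₐ R _).comp (ι : CartDual.D R (A ⧸ J) →ₐ[R] _)
  let φ₂ : CartDual.D R (A ⧸ J) →ₐ[R]
      (CartDual.D R (A ⧸ Ideal.span ({1 - e} : Set A)) ⧸ Ideal.span ({1 - e'} : Set _)) :=
    (Algebra.ofId R _).comp (Bialgebra.counitAlgHom R (CartDual.D R (A ⧸ J)))
  haveI hN0 : IsNoetherianRing (CartDual.D R (A ⧸ Ideal.span ({1 - e} : Set A))) :=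
    IsNoetherianRing.of_finite R _
  have hne : RingHom.ker εL ≠ ⊤ := by
    intro htop
    have h1 : (1 : CartDual.D R (A ⧸ Ideal.span ({1 - e} : Set A)) ⧸
        Ideal.span ({1 - e'} : Set _)) ∈ RingHom.ker εL := by rw [htop]; trivial
    rw [RingHom.mem_ker, map_one] at h1
    exact one_ne_zero h1
  have hφ : φ₁ = φ₂ := by
    refine Algebra.FormallyUnramified.ext_of_iInf (I := RingHom.ker εL)
      (Ideal.iInf_pow_eq_bot_of_isLocalRing _ hne) (fun w => ?_)
    rw [Ideal.Quotient.eq, RingHom.mem_ker, map_sub, sub_eq_zero]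
    have h1 : εL (φ₁ w) = Bialgebra.counitAlgHom R (CartDual.D R (A ⧸ J)) w := by
      show Bialgebra.counitAlgHom R _ (ι w) = _
      exact CoalgHomClass.counit_comp_apply ι w
    have h2 : εL (φ₂ w) = Bialgebra.counitAlgHom R (CartDual.D R (A ⧸ J)) w :=
      εL.commutes _
    exact h1.trans h2.symm
  have hkey : ∀ w : CartDual.D R (A ⧸ J),
      e' * ι w = (Bialgebra.counitAlgHom R (CartDual.D R (A ⧸ J)) w) • e' := by
    intro w
    have h1 : φ₁ w = φ₂ w := by rw [hφ]
    have h2 : ι w - algebraMap R _ (Bialgebra.counitAlgHom R (CartDual.D R (A ⧸ J)) w) ∈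
        Ideal.span ({1 - e'} : Set (CartDual.D R (A ⧸ Ideal.span ({1 - e} : Set A)))) := by
      rw [← Ideal.Quotient.eq]
      exact h1
    have h3 := Groth.Agent.Helper6.UnitComp2.mul_eq_zero_of_mem he' h2
    rw [sub_mul, sub_eq_zero] at h3
    rw [mul_comm, h3, Algebra.smul_def]
  -- Step 3: every `ι z` is invariant
  have hF : ∀ t : CartDual.D R (A ⧸ J) ⊗[R] CartDual.D R (A ⧸ J),
      LinearMap.lTensor (CartDual.D R (A ⧸ Ideal.span ({1 - e} : Set A))) (LinearMap.mulLeft R e')
        (TensorProduct.map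
          (ι : CartDual.D R (A ⧸ J) →ₗ[R] CartDual.D R (A ⧸ Ideal.span ({1 - e} : Set A)))
          (ι : CartDual.D R (A ⧸ J) →ₗ[R] CartDual.D R (A ⧸ Ideal.span ({1 - e} : Set A))) t) =
      (ι (TensorProduct.rid R _ (LinearMap.lTensor _
        (CoalgebraStruct.counit (R := R) (A := CartDual.D R (A ⧸ J))) t))) ⊗ₜ[R] e' := by
    intro t
    induction t using TensorProduct.induction_on with
    | zero => simp
    | tmul u w =>
      simp only [TensorProduct.map_tmul, LinearMap.lTensor_tmul, LinearMap.mulLeft_apply,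
        TensorProduct.rid_tmul]
      have h1 : ((ι : CartDual.D R (A ⧸ J) →ₗ[R] CartDual.D R (A ⧸ Ideal.span ({1 - e} : Set A))) w)
          = ι w := rfl
      have h2 : ((ι : CartDual.D R (A ⧸ J) →ₗ[R] CartDual.D R (A ⧸ Ideal.span ({1 - e} : Set A))) u)
          = ι u := rfl
      rw [h1, h2, hkey w, map_smul, TensorProduct.smul_tmul]
      rfl
    | add t₁ t₂ h₁ h₂ => simp only [map_add, h₁, h₂, TensorProduct.add_tmul]
  have hinv : ∀ z : CartDual.D R (A ⧸ J),
      LinearMap.lTensor (CartDual.D R (A ⧸ Ideal.span ({1 - e} : Set A))) (LinearMap.mulLeft R e')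
        (Coalgebra.comul (R := R) (ι z)) = (ι z) ⊗ₜ[R] e' := by
    intro z
    have hΔ : TensorProduct.map
        (ι : CartDual.D R (A ⧸ J) →ₗ[R] CartDual.D R (A ⧸ Ideal.span ({1 - e} : Set A)))
        (ι : CartDual.D R (A ⧸ J) →ₗ[R] CartDual.D R (A ⧸ Ideal.span ({1 - e} : Set A)))
        (Coalgebra.comul (R := R) z) = Coalgebra.comul (R := R) (ι z) :=
      CoalgHomClass.map_comp_comul_apply ι z
    rw [← hΔ, hF, Coalgebra.lTensor_counit_comul, TensorProduct.rid_tmul, one_smul]
  -- Step 4: all linear forms vanish on the class of `a`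
  have hzero : ∀ z : CartDual.D R (A ⧸ J), z (Ideal.Quotient.mk J a) = 0 := by
    intro z
    exact ha (ι z) (hinv z)
  have hmk : Ideal.Quotient.mk J a = 0 := by
    apply (Module.bijective_dual_eval R (A ⧸ J)).injective
    rw [map_zero]
    refine LinearMap.ext fun f => ?_
    exact hzero (WithConv.toConv f)
  exact Ideal.Quotient.eq_zero_iff_mem.1 hmk

end Groth.Agent.S15896
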