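import Groth.Statements.S15905
import Mathlib

set_option autoImplicit false
open Surf

namespace Groth.Agent.S15905

section aux
open W4c3severiratdp

/-- number of integer tuples of length `k` with entries in `[-B, B]`, sum `rs`, square-sum `rq` -/
def cnt (B : ℕ) : ℕ → ℤ → ℤ → ℕ
  | 0, rs, rq => if rs = 0 ∧ rq = 0 then 1 else 0
  | k + 1, rs, rq => ∑ j ∈ Finset.range (2 * B + 1),
      if rq - ((j : ℤ) - B) * ((j : ℤ) - B) < 0 ∨
        (k : ℤ) * (rq - ((j : ℤ) - B) * ((j : ℤ) - B)) < (rs - ((j : ℤ) - B)) * (rs - ((j : ℤ) - B)) ∨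
        rq - ((j : ℤ) - B) * ((j : ℤ) - B) < rs - ((j : ℤ) - B) ∨
        rq - ((j : ℤ) - B) * ((j : ℤ) - B) < -(rs - ((j : ℤ) - B))
      then 0 else cnt B k (rs - ((j : ℤ) - B)) (rq - ((j : ℤ) - B) * ((j : ℤ) - B))

def total (δ : ℕ) : ℕ :=
  ∑ j ∈ Finset.range 23, cnt 11 δ (3 * ((j : ℤ) - 11) - 2) (((j : ℤ) - 11) * ((j : ℤ) - 11))

theorem t2 : total 2 = 2 := by decide +kernel
theorem t3 : total 3 = 3 := by decide +kernel
theorem t4 : total 4 = 5 := by decide +kernel
theorem t5 : total 5 = 10 := by decide +kernel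
theorem t6 : total 6 = 27 := by decide +kernel
theorem t7 : total 7 = 126 := by decide +kernel
theorem t8 : total 8 = 2160 := by decide +kernel

/-- the solution set as a finset -/
noncomputable def S (B k : ℕ) (rs rq : ℤ) : Finset (Fin k → ℤ) :=
  (Fintype.piFinset fun _ : Fin k => Finset.Icc (-(B : ℤ)) B).filter
    fun f => ∑ i, f i = rs ∧ ∑ i, f i * f i = rq

theorem card_fiber (k : ℕ) (T : Finset ℤ) (P : ℤ → (Fin k → ℤ) → Prop)
    [∀ b g, Decidable (P b g)] :
    ((Fintype.piFinset fun _ : Fin (k + 1) => T).filter (fun f => P (f 0) (Fin.tail f))).card =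
      ∑ b ∈ T, ((Fintype.piFinset fun _ : Fin k => T).filter (fun g => P b g)).card := by
  rw [Finset.card_eq_sum_card_fiberwise (f := fun f : Fin (k + 1) → ℤ => f 0) (t := T)]
  · apply Finset.sum_congr rfl
    intro b hb
    apply Finset.card_bij (fun f _ => Fin.tail f)
    · intro f hf
      simp only [Finset.mem_filter, Fintype.mem_piFinset] at hf ⊢
      obtain ⟨⟨h1, h2⟩, h3⟩ := hf
      exact ⟨fun i => h1 i.succ, h3 ▸ h2⟩
    · intro f hf g hg hfg
      simp only [Finset.mem_filter] at hf hg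
      rw [← Fin.cons_self_tail f, ← Fin.cons_self_tail g, hfg, hf.2, hg.2]
    · intro g hg
      simp only [Finset.mem_filter, Fintype.mem_piFinset] at hg
      refine ⟨Fin.cons b g, ?_, Fin.tail_cons _ _⟩
      simp only [Finset.mem_filter, Fintype.mem_piFinset, Fin.cons_zero, Fin.tail_cons]
      refine ⟨⟨fun i => ?_, hg.2⟩, trivial⟩
      refine Fin.cases ?_ (fun j => ?_) i
      · rw [Fin.cons_zero]; exact hb
      · rw [Fin.cons_succ]; exact hg.1 j
  · intro f hf
    have hf' := Finset.mem_coe.mp hf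
    simp only [Finset.mem_filter, Fintype.mem_piFinset] at hf'
    exact hf'.1 0

theorem S_succ_card (B k : ℕ) (rs rq : ℤ) :
    (S B (k + 1) rs rq).card = ∑ b ∈ Finset.Icc (-(B : ℤ)) B, (S B k (rs - b) (rq - b * b)).card := by
  have := card_fiber k (Finset.Icc (-(B : ℤ)) B)
    (fun b g => b + ∑ i, g i = rs ∧ b * b + ∑ i, g i * g i = rq)
  unfold S
  simp only [Fin.sum_univ_succ]
  refine this.trans (Finset.sum_congr rfl fun b _ => ?_)
  congr 1
  apply Finset.filter_congr
  intro g _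
  constructor
  · rintro ⟨h1, h2⟩; exact ⟨by linarith, by linarith⟩
  · rintro ⟨h1, h2⟩; exact ⟨by linarith, by linarith⟩


theorem S_empty (B k : ℕ) (rs rq : ℤ)
    (h : rq < 0 ∨ (k : ℤ) * rq < rs * rs ∨ rq < rs ∨ rq < -rs) : S B k rs rq = ∅ := by
  rw [Finset.eq_empty_iff_forall_notMem]
  intro f hf
  simp only [S, Finset.mem_filter] at hf
  obtain ⟨-, h1, h2⟩ := hf
  have hq0 : 0 ≤ ∑ i, f i * f i := Finset.sum_nonneg fun i _ => mul_self_nonneg _
  have cs := sq_sum_le_card_mul_sum_sq (s := (Finset.univ : Finset (Fin k))) (f := f)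
  simp only [Finset.card_univ, Fintype.card_fin] at cs
  have hsq : ∑ i, f i ^ 2 = ∑ i, f i * f i := Finset.sum_congr rfl fun i _ => by ring
  rw [hsq, h1, h2] at cs
  have hle1 : ∑ i, f i ≤ ∑ i, f i * f i := Finset.sum_le_sum fun i _ => by
    have := Int.le_self_sq (f i); nlinarith
  have hle2 : -∑ i, f i ≤ ∑ i, f i * f i := by
    rw [← Finset.sum_neg_distrib]
    exact Finset.sum_le_sum fun i _ => by
      have := Int.le_self_sq (-f i); nlinarith
  rw [h1, h2] at hle1 hle2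
  rw [h2] at hq0
  rcases h with h | h | h | h
  · linarith
  · nlinarith
  · linarith
  · linarith

theorem sum_Icc_eq (B : ℕ) (g : ℤ → ℕ) :
    ∑ b ∈ Finset.Icc (-(B : ℤ)) B, g b = ∑ j ∈ Finset.range (2 * B + 1), g ((j : ℤ) - B) := by
  symm
  apply Finset.sum_nbij' (fun j : ℕ => (j : ℤ) - B) (fun b : ℤ => (b + B).toNat)
  · intro j hj
    simp only [Finset.mem_range, Finset.mem_Icc] at hj ⊢
    constructor <;> omega
  · intro b hb
    simp only [Finset.mem_range, Finset.mem_Icc] at hb ⊢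
    omega
  · intro j hj
    simp
  · intro b hb
    simp only [Finset.mem_Icc] at hb
    have : 0 ≤ b + B := by omega
    rw [Int.toNat_of_nonneg this]
    ring
  · intro j _
    rfl

theorem cnt_spec (B : ℕ) : ∀ (k : ℕ) (rs rq : ℤ), (S B k rs rq).card = cnt B k rs rq := by
  intro k
  induction k with
  | zero =>
    intro rs rq
    simp only [S, cnt, Finset.univ_eq_empty, Finset.sum_empty]
    by_cases h : rs = 0 ∧ rq = 0
    · rw [if_pos h]
      obtain ⟨rfl, rfl⟩ := h
      simp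
    · rw [if_neg h]
      rw [Finset.card_eq_zero, Finset.filter_eq_empty_iff]
      intro f _ hf
      exact h ⟨hf.1.symm, hf.2.symm⟩
  | succ k ih =>
    intro rs rq
    rw [S_succ_card, sum_Icc_eq, cnt]
    apply Finset.sum_congr rfl
    intro j _
    split_ifs with hp
    · rw [S_empty B k _ _ hp, Finset.card_empty]
    · exact ih _ _


theorem canon_zero (δ : ℕ) : canon δ 0 = -3 := rfl

theorem canon_succ (δ : ℕ) (i : Fin δ) : canon δ i.succ = -1 := rfl

theorem conic_iff {δ : ℕ} (v : DP δ) : IsConic v ↔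
    (v 0 * v 0 = ∑ i : Fin δ, v i.succ * v i.succ) ∧ (∑ i : Fin δ, v i.succ = 3 * v 0 - 2) := by
  unfold IsConic form
  simp only [canon_zero, canon_succ, neg_mul, one_mul, Finset.sum_neg_distrib, sub_neg_eq_add]
  constructor
  · rintro ⟨h1, h2⟩
    exact ⟨by linarith, by linarith⟩
  · rintro ⟨h1, h2⟩
    exact ⟨by linarith, by linarith⟩

theorem bounds {δ : ℕ} (hδ : δ ≤ 8) (v : DP δ) (hv : IsConic v) :
    ∀ i : Fin (δ + 1), v i ∈ Finset.Icc (-((11 : ℕ) : ℤ)) (11 : ℕ) := by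
  obtain ⟨h1, h2⟩ := (conic_iff v).mp hv
  have cs := sq_sum_le_card_mul_sum_sq (s := (Finset.univ : Finset (Fin δ)))
    (f := fun i => v i.succ)
  simp only [Finset.card_univ, Fintype.card_fin] at cs
  have hsq : ∑ i : Fin δ, v i.succ ^ 2 = v 0 * v 0 := by
    rw [h1]; exact Finset.sum_congr rfl fun i _ => by ring
  rw [h2, hsq] at cs
  have hδ' : (δ : ℤ) ≤ 8 := by exact_mod_cast hδ
  have hnn : 0 ≤ v 0 * v 0 := mul_self_nonneg _
  have cs' : (3 * v 0 - 2) ^ 2 ≤ 8 * (v 0 * v 0) := by nlinarith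
  have ha1 : 1 ≤ v 0 := by nlinarith
  have ha2 : v 0 ≤ 11 := by nlinarith
  intro i
  simp only [Finset.mem_Icc, Nat.cast_ofNat]
  refine Fin.cases ?_ (fun j => ?_) i
  · constructor <;> linarith
  · have hj : v j.succ * v j.succ ≤ ∑ i : Fin δ, v i.succ * v i.succ :=
      Finset.single_le_sum (f := fun i : Fin δ => v i.succ * v i.succ)
        (fun i _ => mul_self_nonneg _) (Finset.mem_univ j)
    rw [← h1] at hj
    constructor <;> nlinarith

/-- the conic classes as a finset -/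
noncomputable def F (δ : ℕ) : Finset (Fin (δ + 1) → ℤ) :=
  (Fintype.piFinset fun _ : Fin (δ + 1) => Finset.Icc (-((11 : ℕ) : ℤ)) (11 : ℕ)).filter
    fun v => (v 0 * v 0 = ∑ i : Fin δ, Fin.tail v i * Fin.tail v i) ∧
      (∑ i : Fin δ, Fin.tail v i = 3 * v 0 - 2)

theorem F_card (δ : ℕ) : (F δ).card = total δ := by
  have := card_fiber δ (Finset.Icc (-((11 : ℕ) : ℤ)) (11 : ℕ))
    (fun a g => (a * a = ∑ i : Fin δ, g i * g i) ∧ (∑ i : Fin δ, g i = 3 * a - 2))
  unfold F
  rw [this, sum_Icc_eq, total]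
  apply Finset.sum_congr rfl
  intro j _
  rw [← cnt_spec, S]
  simp only [Nat.cast_ofNat]
  congr 1
  apply Finset.filter_congr
  intro g _
  constructor
  · rintro ⟨h1, h2⟩; exact ⟨h2, h1.symm⟩
  · rintro ⟨h1, h2⟩; exact ⟨h2.symm, h1⟩

theorem conic_eq (δ : ℕ) (hδ : δ ≤ 8) : {v : DP δ | IsConic v} = ↑(F δ) := by
  ext v
  simp only [Set.mem_ofPred_eq, F, Finset.coe_filter, Fintype.mem_piFinset]
  rw [conic_iff]
  constructor
  · intro h
    exact ⟨bounds hδ v ((conic_iff v).mpr h), h⟩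
  · intro h
    exact h.2

theorem ncard_eq (δ : ℕ) (hδ : δ ≤ 8) : {v : DP δ | IsConic v}.ncard = total δ := by
  rw [conic_eq δ hδ, Set.ncard_coe_finset, F_card]


theorem main :
    {v : DP 8 | IsConic v}.ncard = 2160 ∧ {v : DP 7 | IsConic v}.ncard = 126 ∧
      {v : DP 6 | IsConic v}.ncard = 27 ∧ {v : DP 5 | IsConic v}.ncard = 10 ∧
      {v : DP 4 | IsConic v}.ncard = 5 ∧ {v : DP 3 | IsConic v}.ncard = 3 ∧
      {v : DP 2 | IsConic v}.ncard = 2 := by
  refine ⟨?_, ?_, ?_, ?_, ?_, ?_, ?_⟩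
  · rw [ncard_eq 8 (by norm_num), t8]
  · rw [ncard_eq 7 (by norm_num), t7]
  · rw [ncard_eq 6 (by norm_num), t6]
  · rw [ncard_eq 5 (by norm_num), t5]
  · rw [ncard_eq 4 (by norm_num), t4]
  · rw [ncard_eq 3 (by norm_num), t3]
  · rw [ncard_eq 2 (by norm_num), t2]

end aux

open W4c3severiratdp in
/-- Work in the lattice of vectors (a; b_1, …, b_δ), standing for divisor classes a ℓ − Σ b_i e_i on the
blow-up of the projective plane at δ points written in a standard basis, with intersection form a a'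
− Σ b_i b_i' and canonical class K = (−3; −1, …, −1); a conic class is a class Q with Q·Q = 0 and
K·Q = −2. Then the number of conic classes is 2160 for δ = 8, 126 for δ = 7, 27 for δ = 6, 10 for δ
= 5, 5 for δ = 4, 3 for δ = 3 and 2 for δ = 2. -/
theorem result :
    {v : DP 8 | IsConic v}.ncard = 2160 ∧ {v : DP 7 | IsConic v}.ncard = 126 ∧
      {v : DP 6 | IsConic v}.ncard = 27 ∧ {v : DP 5 | IsConic v}.ncard = 10 ∧
      {v : DP 4 | IsConic v}.ncard = 5 ∧ {v : DP 3 | IsConic v}.ncard = 3 ∧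
      {v : DP 2 | IsConic v}.ncard = 2 := by
  exact main

end Groth.Agent.S15905
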