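import Groth.Statements.S15906
import Mathlib

set_option autoImplicit false
open Surf

namespace Groth.Agent.S15906

section aux
open W4c3severiratdp

/-- the list of the fifteen sorted conic classes for δ = 8 -/
def L15 : List (ℕ × List ℕ) :=
  [(1, [1, 0, 0, 0, 0, 0, 0, 0]),
   (2, [1, 1, 1, 1, 0, 0, 0, 0]),
   (3, [2, 1, 1, 1, 1, 1, 0, 0]),
   (4, [2, 2, 2, 1, 1, 1, 1, 0]),
   (4, [3, 1, 1, 1, 1, 1, 1, 1]),
   (5, [2, 2, 2, 2, 2, 2, 1, 0]),
   (5, [3, 2, 2, 2, 1, 1, 1, 1]),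
   (6, [3, 3, 2, 2, 2, 2, 1, 1]),
   (7, [3, 3, 3, 3, 2, 2, 2, 1]),
   (7, [4, 3, 2, 2, 2, 2, 2, 2]),
   (8, [4, 3, 3, 3, 3, 2, 2, 2]),
   (8, [3, 3, 3, 3, 3, 3, 3, 1]),
   (9, [4, 4, 3, 3, 3, 3, 3, 2]),
   (10, [4, 4, 4, 4, 3, 3, 3, 3]),
   (11, [4, 4, 4, 4, 4, 4, 4, 3])]

/-- search: `k` entries remaining, each `≤ m`; partial sum `s`, partial squares `q`,
chosen entries `acc` (reverse order). -/
def Srch (a : ℕ) : ℕ → ℕ → ℕ → ℕ → List ℕ → Prop
  | 0, _, s, q, acc => s + 2 = 3 * a → q = a ^ 2 → (a, acc.reverse) ∈ L15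
  | k + 1, m, s, q, acc => ∀ c < m + 1, (s + c + 2 ≤ 3 * a → q + c ^ 2 ≤ a ^ 2 →
      3 * a ≤ s + c + k * c + 2 → Srch a k c (s + c) (q + c ^ 2) (c :: acc))

instance Srch.dec (a : ℕ) : ∀ k m s q acc, Decidable (Srch a k m s q acc)
  | 0, _, s, q, acc => by unfold Srch; infer_instance
  | k + 1, m, s, q, acc => by
      unfold Srch
      have := fun c => Srch.dec a k c (s + c) (q + c ^ 2) (c :: acc)
      infer_instance

theorem srch_all : ∀ a < 12, Srch a 8 a 0 0 [] := by decide +kernel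

theorem canon_zero (δ : ℕ) : canon δ 0 = -3 := rfl

theorem canon_succ (δ : ℕ) (i : Fin δ) : canon δ i.succ = -1 := rfl

theorem conic_iff {δ : ℕ} (v : DP δ) : IsConic v ↔
    (v 0 * v 0 = ∑ i : Fin δ, v i.succ * v i.succ) ∧ (∑ i : Fin δ, v i.succ = 3 * v 0 - 2) := by
  unfold IsConic form
  simp only [canon_zero, canon_succ, neg_mul, one_mul, Finset.sum_neg_distrib, sub_neg_eq_add]
  constructor
  · rintro ⟨h1, h2⟩
    exact ⟨by linarith, by linarith⟩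
  · rintro ⟨h1, h2⟩
    exact ⟨by linarith, by linarith⟩

/-- the key classification of sorted natural solutions -/
theorem sorted_mem (A c0 c1 c2 c3 c4 c5 c6 c7 : ℕ) (hA : A < 12) (h0 : c0 ≤ A)
    (h1 : c1 ≤ c0) (h2 : c2 ≤ c1) (h3 : c3 ≤ c2) (h4 : c4 ≤ c3) (h5 : c5 ≤ c4) (h6 : c6 ≤ c5)
    (h7 : c7 ≤ c6) (hs : c0 + c1 + c2 + c3 + c4 + c5 + c6 + c7 + 2 = 3 * A)
    (hq : c0 ^ 2 + c1 ^ 2 + c2 ^ 2 + c3 ^ 2 + c4 ^ 2 + c5 ^ 2 + c6 ^ 2 + c7 ^ 2 = A ^ 2) :
    (A, [c0, c1, c2, c3, c4, c5, c6, c7]) ∈ L15 := by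
  have h := srch_all A hA
  simp only [Srch] at h
  have := h c0 (by omega) (by omega) (by nlinarith) (by omega)
    c1 (by omega) (by omega) (by nlinarith) (by omega)
    c2 (by omega) (by omega) (by nlinarith) (by omega)
    c3 (by omega) (by omega) (by nlinarith) (by omega)
    c4 (by omega) (by omega) (by nlinarith) (by omega)
    c5 (by omega) (by omega) (by nlinarith) (by omega)
    c6 (by omega) (by omega) (by nlinarith) (by omega)
    c7 (by omega) (by omega) (by nlinarith) (by omega) (by omega) (by nlinarith)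
  simpa using this


/-- Cauchy–Schwarz gives the bounds. -/
theorem bounds (v : DP 8) (hv : IsConic v) :
    1 ≤ v 0 ∧ v 0 ≤ 11 ∧ ∀ j : Fin 8, 0 ≤ v j.succ ∧ v j.succ ≤ v 0 := by
  obtain ⟨h1, h2⟩ := (conic_iff v).mp hv
  have cs := sq_sum_le_card_mul_sum_sq (s := (Finset.univ : Finset (Fin 8)))
    (f := fun i => v i.succ)
  simp only [Finset.card_univ, Fintype.card_fin, Nat.cast_ofNat] at cs
  have hsq : ∑ i : Fin 8, v i.succ ^ 2 = v 0 * v 0 := by
    rw [h1]; exact Finset.sum_congr rfl fun i _ => by ring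
  rw [h2, hsq] at cs
  have ha1 : 1 ≤ v 0 := by nlinarith
  have ha2 : v 0 ≤ 11 := by nlinarith
  refine ⟨ha1, ha2, fun j => ?_⟩
  have e1 := Finset.add_sum_erase Finset.univ (fun i : Fin 8 => v i.succ) (Finset.mem_univ j)
  have e2 := Finset.add_sum_erase Finset.univ (fun i : Fin 8 => v i.succ ^ 2) (Finset.mem_univ j)
  have cs' := sq_sum_le_card_mul_sum_sq (s := (Finset.univ : Finset (Fin 8)).erase j)
    (f := fun i => v i.succ)
  rw [Finset.card_erase_of_mem (Finset.mem_univ j)] at cs'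
  simp only [Finset.card_univ, Fintype.card_fin, Nat.add_one_sub_one, Nat.cast_ofNat] at cs'
  rw [h2] at e1
  rw [hsq] at e2
  have hnn : ∀ i ∈ (Finset.univ : Finset (Fin 8)).erase j, 0 ≤ v i.succ ^ 2 :=
    fun i _ => sq_nonneg _
  have hsn := Finset.sum_nonneg hnn
  have hS : ∑ x ∈ Finset.univ.erase j, v x.succ = 3 * v 0 - 2 - v j.succ := by linarith
  have hQ : ∑ x ∈ Finset.univ.erase j, v x.succ ^ 2 = v 0 * v 0 - v j.succ ^ 2 := by linarith
  rw [hS, hQ] at cs'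
  rw [hQ] at hsn
  constructor
  · by_contra hneg
    push Not at hneg
    have k1 : 0 ≤ v 0 * (-v j.succ - 1) := mul_nonneg (by linarith) (by linarith)
    have k2 : 0 ≤ (-v j.succ - 1) * (-v j.succ) := mul_nonneg (by linarith) (by linarith)
    nlinarith [sq_nonneg (2 * v 0 - 3)]
  · nlinarith


theorem sum8 (f : Fin 8 → ℤ) : ∑ i : Fin 8, f i = f 0 + f 1 + f 2 + f 3 + f 4 + f 5 + f 6 + f 7 :=
  Fin.sum_univ_eight f

theorem forward (v : DP 8) (hv : IsConic v) :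
    ∃ t ∈ L15, ∃ σ : Equiv.Perm (Fin 8), v 0 = (t.1 : ℤ) ∧
      ∀ i : Fin 8, v (σ i).succ = ((t.2.getD i 0 : ℕ) : ℤ) := by
  obtain ⟨h1, h2⟩ := (conic_iff v).mp hv
  obtain ⟨ha1, ha2, hb⟩ := bounds v hv
  set b : Fin 8 → ℤ := fun i => v i.succ with hbdef
  let σ : Equiv.Perm (Fin 8) := Fin.revPerm.trans (Tuple.sort b)
  have hanti : ∀ i j : Fin 8, i ≤ j → b (σ j) ≤ b (σ i) := by
    intro i j hij
    have := Tuple.monotone_sort b (Fin.rev_le_rev.mpr hij)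
    simpa [σ] using this
  -- sums over the permuted tuple
  have hs : ∑ i : Fin 8, b (σ i) = 3 * v 0 - 2 := by
    rw [← h2]; exact Equiv.sum_comp σ b
  have hq : ∑ i : Fin 8, b (σ i) * b (σ i) = v 0 * v 0 := by
    rw [h1]; exact Equiv.sum_comp σ (fun i => b i * b i)
  rw [sum8] at hs hq
  have hnn : ∀ i : Fin 8, 0 ≤ b (σ i) := fun i => (hb (σ i)).1
  have hle : ∀ i : Fin 8, b (σ i) ≤ v 0 := fun i => (hb (σ i)).2
  -- natural number versions
  obtain ⟨A, hA⟩ := Int.eq_ofNat_of_zero_le (by linarith : 0 ≤ v 0)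
  have hC : ∀ i : Fin 8, ∃ c : ℕ, b (σ i) = c := fun i => Int.eq_ofNat_of_zero_le (hnn i)
  choose C hCe using hC
  have hmem := sorted_mem A (C 0) (C 1) (C 2) (C 3) (C 4) (C 5) (C 6) (C 7)
    (by omega) (by have := hle 0; rw [hCe, hA] at this; exact_mod_cast this)
    (by have := hanti 0 1 (by decide); rw [hCe, hCe] at this; exact_mod_cast this)
    (by have := hanti 1 2 (by decide); rw [hCe, hCe] at this; exact_mod_cast this)
    (by have := hanti 2 3 (by decide); rw [hCe, hCe] at this; exact_mod_cast this)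
    (by have := hanti 3 4 (by decide); rw [hCe, hCe] at this; exact_mod_cast this)
    (by have := hanti 4 5 (by decide); rw [hCe, hCe] at this; exact_mod_cast this)
    (by have := hanti 5 6 (by decide); rw [hCe, hCe] at this; exact_mod_cast this)
    (by have := hanti 6 7 (by decide); rw [hCe, hCe] at this; exact_mod_cast this)
    (by
      have : ((C 0 + C 1 + C 2 + C 3 + C 4 + C 5 + C 6 + C 7 + 2 : ℕ) : ℤ) = ((3 * A : ℕ) : ℤ) := by
        push_cast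
        rw [← hCe, ← hCe, ← hCe, ← hCe, ← hCe, ← hCe, ← hCe, ← hCe, ← hA]
        linarith
      exact_mod_cast this)
    (by
      have : ((C 0 ^ 2 + C 1 ^ 2 + C 2 ^ 2 + C 3 ^ 2 + C 4 ^ 2 + C 5 ^ 2 + C 6 ^ 2 + C 7 ^ 2 : ℕ) : ℤ)
          = ((A ^ 2 : ℕ) : ℤ) := by
        push_cast
        rw [← hCe, ← hCe, ← hCe, ← hCe, ← hCe, ← hCe, ← hCe, ← hCe, ← hA]
        linarith
      exact_mod_cast this)
  refine ⟨_, hmem, σ, hA, ?_⟩
  intro i
  change b (σ i) = _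
  rw [hCe]
  fin_cases i <;> rfl


/-- convert a list entry to a vector -/
def toVec (t : ℕ × List ℕ) : DP 8 := Fin.cons (t.1 : ℤ) (fun i : Fin 8 => ((t.2.getD i 0 : ℕ) : ℤ))

theorem backward (v t : DP 8) (ht : IsConic t) (σ : Equiv.Perm (Fin 8)) (h0 : v 0 = t 0)
    (hi : ∀ i : Fin 8, v (σ i).succ = t i.succ) : IsConic v := by
  rw [conic_iff] at ht ⊢
  obtain ⟨h1, h2⟩ := ht
  constructor
  · rw [h0, h1, ← Equiv.sum_comp σ (fun i => v i.succ * v i.succ)]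
    exact Finset.sum_congr rfl fun i _ => by rw [hi]
  · rw [h0, ← h2, ← Equiv.sum_comp σ (fun i => v i.succ)]
    exact Finset.sum_congr rfl fun i _ => by rw [hi]

theorem main (v : DP 8) :
    IsConic v ↔
      ∃ t ∈ ({![1, 1, 0, 0, 0, 0, 0, 0, 0],
        ![2, 1, 1, 1, 1, 0, 0, 0, 0],
        ![3, 2, 1, 1, 1, 1, 1, 0, 0],
        ![4, 2, 2, 2, 1, 1, 1, 1, 0],
        ![4, 3, 1, 1, 1, 1, 1, 1, 1],
        ![5, 2, 2, 2, 2, 2, 2, 1, 0],
        ![5, 3, 2, 2, 2, 1, 1, 1, 1],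
        ![6, 3, 3, 2, 2, 2, 2, 1, 1],
        ![7, 3, 3, 3, 3, 2, 2, 2, 1],
        ![7, 4, 3, 2, 2, 2, 2, 2, 2],
        ![8, 4, 3, 3, 3, 3, 2, 2, 2],
        ![8, 3, 3, 3, 3, 3, 3, 3, 1],
        ![9, 4, 4, 3, 3, 3, 3, 3, 2],
        ![10, 4, 4, 4, 4, 3, 3, 3, 3],
        ![11, 4, 4, 4, 4, 4, 4, 4, 3]} : Set (DP 8)),
        ∃ σ : Equiv.Perm (Fin 8), v 0 = t 0 ∧ ∀ i : Fin 8, v (σ i).succ = t i.succ := by
  constructor
  · intro hv
    obtain ⟨t, ht, σ, h0, hi⟩ := forward v hv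
    refine ⟨toVec t, ?_, σ, by simpa [toVec] using h0, fun i => by simpa [toVec] using hi i⟩
    simp only [Set.mem_insert_iff, Set.mem_singleton_iff]
    fin_cases ht <;> decide
  · rintro ⟨t, ht, σ, h0, hi⟩
    refine backward v t ?_ σ h0 hi
    simp only [Set.mem_insert_iff, Set.mem_singleton_iff] at ht
    rcases ht with rfl | rfl | rfl | rfl | rfl | rfl | rfl | rfl | rfl | rfl | rfl | rfl | rfl |
      rfl | rfl <;> (unfold IsConic; decide +kernel)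

end aux

open W4c3severiratdp in
/-- Work in the lattice of vectors (a; b_1, …, b_δ), standing for divisor classes a ℓ − Σ b_i e_i on the
blow-up of the projective plane at δ points written in a standard basis, with intersection form a a'
− Σ b_i b_i' and canonical class K = (−3; −1, …, −1); a conic class is a class Q with Q·Q = 0 and
K·Q = −2, an exceptional class (the class of a (−1)-curve) is a class E with E·E = −1 and K·E = −1,
and the Weyl group W_δ is the group of additive automorphisms of the lattice preserving the form and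
fixing K. For δ = 8, a class (a; b_1, …, b_8) is a conic class if and only if, up to a permutation
of b_1, …, b_8, it is one of the fifteen vectors (1; 1, 0, 0, 0, 0, 0, 0, 0), (2; 1, 1, 1, 1, 0, 0,
0, 0), (3; 2, 1, 1, 1, 1, 1, 0, 0), (4; 2, 2, 2, 1, 1, 1, 1, 0), (4; 3, 1, 1, 1, 1, 1, 1, 1), (5; 2,
2, 2, 2, 2, 2, 1, 0), (5; 3, 2, 2, 2, 1, 1, 1, 1), (6; 3, 3, 2, 2, 2, 2, 1, 1), (7; 3, 3, 3, 3, 2,
2, 2, 1), (7; 4, 3, 2, 2, 2, 2, 2, 2), (8; 4, 3, 3, 3, 3, 2, 2, 2), (8; 3, 3, 3, 3, 3, 3, 3, 1), (9;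
4, 4, 3, 3, 3, 3, 3, 2), (10; 4, 4, 4, 4, 3, 3, 3, 3), (11; 4, 4, 4, 4, 4, 4, 4, 3). (One line of
the published table is illegible in the available copy; the fifteen vectors here are the complete
solution set of the two defining equations a² = Σ b_i², 3a − Σ b_i = 2.) -/
theorem result (v : DP 8) :
    IsConic v ↔
      ∃ t ∈ ({![1, 1, 0, 0, 0, 0, 0, 0, 0],
        ![2, 1, 1, 1, 1, 0, 0, 0, 0],
        ![3, 2, 1, 1, 1, 1, 1, 0, 0],
        ![4, 2, 2, 2, 1, 1, 1, 1, 0],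
        ![4, 3, 1, 1, 1, 1, 1, 1, 1],
        ![5, 2, 2, 2, 2, 2, 2, 1, 0],
        ![5, 3, 2, 2, 2, 1, 1, 1, 1],
        ![6, 3, 3, 2, 2, 2, 2, 1, 1],
        ![7, 3, 3, 3, 3, 2, 2, 2, 1],
        ![7, 4, 3, 2, 2, 2, 2, 2, 2],
        ![8, 4, 3, 3, 3, 3, 2, 2, 2],
        ![8, 3, 3, 3, 3, 3, 3, 3, 1],
        ![9, 4, 4, 3, 3, 3, 3, 3, 2],
        ![10, 4, 4, 4, 4, 3, 3, 3, 3],
        ![11, 4, 4, 4, 4, 4, 4, 4, 3]} : Set (DP 8)),
        ∃ σ : Equiv.Perm (Fin 8), v 0 = t 0 ∧ ∀ i : Fin 8, v (σ i).succ = t i.succ := by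
  exact main v

end Groth.Agent.S15906
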