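import Groth.Statements.S15907
import Mathlib
import Groth.Agent.Lib.Helper23.DPPair

set_option autoImplicit false
open Surf

namespace Groth.Agent.S15907

section aux
open W4c3severiratdp Groth.Agent.Helper23.DPLat Groth.Agent.Helper23.DPPair

theorem main (δ : ℕ) (h2 : 2 ≤ δ) (h8 : δ ≤ 8)
    (v₁ v₂ w₁ w₂ : DP δ) (hv₁ : IsConic v₁) (hv₂ : IsConic v₂) (hw₁ : IsConic w₁) (hw₂ : IsConic w₂)
    (heq : form v₁ v₂ = form w₁ w₂) (hexc : ¬ (δ = 8 ∧ form v₁ v₂ = 4)) :
    ∃ g : DP δ ≃ₗ[ℤ] DP δ, IsWeyl g ∧ g v₁ = w₁ ∧ g v₂ = w₂ := by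
  obtain ⟨d, rfl⟩ : ∃ d, δ = d + 1 := ⟨δ - 1, by omega⟩
  obtain ⟨Q, A, C, hrel, hA, hC, hmem, hn⟩ := pair_normal d h2 h8 v₁ v₂ hv₁ hv₂
  obtain ⟨Q', A', C', hrel', hA', hC', hmem', hn'⟩ := pair_normal d h2 h8 w₁ w₂ hw₁ hw₂
  have hh : ∀ (C : Fin (d + 1) → ℕ), (List.ofFn C).headI = C 0 := fun C => by
    rw [List.ofFn_succ]; rfl
  have key := D2 (d + 1) (by omega) h2 (A, List.ofFn C) hmem (A', List.ofFn C') hmem'
    (by
      simp only [hh]
      have : (A : ℤ) - C 0 = (A' : ℤ) - C' 0 := by rw [← hn, ← hn', heq]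
      omega)
    (by
      simp only [hh]
      rintro ⟨h1, h3⟩
      apply hexc
      refine ⟨h1, ?_⟩
      rw [hn, h3]
      push_cast
      ring)
  rw [Prod.mk.injEq] at key
  obtain ⟨hAA, hCC⟩ := key
  have hCC' : C = C' := List.ofFn_injective hCC
  have hQQ : Q = Q' := by
    funext i
    refine Fin.cases ?_ (fun j => ?_) i
    · rw [hA, hA', hAA]
    · rw [hC, hC', hCC']
  rw [← hQQ] at hrel'
  exact hrel.trans hrel'.symm

end aux

open W4c3severiratdp in
/-- Work in the lattice of vectors (a; b_1, …, b_δ), standing for divisor classes a ℓ − Σ b_i e_i on the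
blow-up of the projective plane at δ points written in a standard basis, with intersection form a a'
− Σ b_i b_i' and canonical class K = (−3; −1, …, −1); a conic class is a class Q with Q·Q = 0 and
K·Q = −2, an exceptional class (the class of a (−1)-curve) is a class E with E·E = −1 and K·E = −1,
and the Weyl group W_δ is the group of additive automorphisms of the lattice preserving the form and
fixing K. For 2 ≤ δ ≤ 8 the intersection product Q_1·Q_2 determines the W_δ-orbit of an ordered pair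
(Q_1, Q_2) of conic classes, the only exception being δ = 8 with Q_1·Q_2 = 4: if (Q_1, Q_2) and
(Q_1', Q_2') are ordered pairs of conic classes with Q_1·Q_2 = Q_1'·Q_2', and not both δ = 8 and
Q_1·Q_2 = 4, then some element of W_δ carries Q_1 to Q_1' and Q_2 to Q_2'. -/
theorem result (δ : ℕ) (h2 : 2 ≤ δ) (h8 : δ ≤ 8)
    (v₁ v₂ w₁ w₂ : DP δ) (hv₁ : IsConic v₁) (hv₂ : IsConic v₂) (hw₁ : IsConic w₁) (hw₂ : IsConic w₂)
    (heq : form v₁ v₂ = form w₁ w₂) (hexc : ¬ (δ = 8 ∧ form v₁ v₂ = 4)) :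
    ∃ g : DP δ ≃ₗ[ℤ] DP δ, IsWeyl g ∧ g v₁ = w₁ ∧ g v₂ = w₂ := by
  exact main δ h2 h8 v₁ v₂ w₁ w₂ hv₁ hv₂ hw₁ hw₂ heq hexc

end Groth.Agent.S15907
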