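import Groth.Statements.S15908
import Mathlib
import Groth.Agent.Lib.Helper23.DPPair

set_option autoImplicit false
open Surf

namespace Groth.Agent.S15908

section aux
open W4c3severiratdp Groth.Agent.Helper23.DPLat Groth.Agent.Helper23.DPPair

def p₁ : DP 8 := ![1, 1, 0, 0, 0, 0, 0, 0, 0]
def p₂ : DP 8 := ![4, 0, 2, 2, 2, 1, 1, 1, 1]
def q₂ : DP 8 := ![5, 1, 2, 2, 2, 2, 2, 2, 0]

theorem p₁_eq : p₁ = Q0 7 := by
  unfold p₁ Q0
  decide +kernel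

theorem hp₁ : IsConic p₁ := by unfold IsConic p₁; decide +kernel
theorem hp₂ : IsConic p₂ := by unfold IsConic p₂; decide +kernel
theorem hq₂ : IsConic q₂ := by unfold IsConic q₂; decide +kernel
theorem hpp : form p₁ p₂ = 4 := by unfold p₁ p₂; decide +kernel
theorem hpq : form p₁ q₂ = 4 := by unfold p₁ q₂; decide +kernel

theorem not_conj : ¬ ∃ g : DP 8 ≃ₗ[ℤ] DP 8, IsWeyl g ∧ g p₁ = p₁ ∧ g p₂ = q₂ := by
  rintro ⟨g, -, h1, h2⟩
  let w : DP 8 := ![3, 1, 1, 1, 1, 1, 1, 1, 0]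
  have hsum : p₁ + q₂ = (2 : ℤ) • w := by
    unfold p₁ q₂
    decide +kernel
  have : g (p₁ + p₂) = (2 : ℤ) • w := by rw [map_add, h1, h2, hsum]
  have h3 : p₁ + p₂ = (2 : ℤ) • g.symm w := by
    rw [← map_smul, ← this, LinearEquiv.symm_apply_apply]
  have h4 := congrFun h3 0
  have h5 : (p₁ + p₂) 0 = 5 := by unfold p₁ p₂; decide +kernel
  rw [h5, Pi.smul_apply, smul_eq_mul] at h4
  omega

theorem L1_four : ∀ x ∈ L1 8, x.1 = x.2.headI + 4 →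
    x = (4, [0, 2, 2, 2, 1, 1, 1, 1]) ∨ x = (5, [1, 2, 2, 2, 2, 2, 2, 0]) := by
  decide +kernel

theorem vec_eq (Q : DP 8) (A : ℕ) (C : Fin 8 → ℕ) (hA : Q 0 = A) (hC : ∀ i, Q i.succ = C i)
    (l : List ℕ) (h : List.ofFn C = l) :
    Q = Fin.cons (A : ℤ) (fun i : Fin 8 => ((l.getD i 0 : ℕ) : ℤ)) := by
  funext i
  refine Fin.cases ?_ (fun j => ?_) i
  · rw [hA]; rfl
  · rw [hC, Fin.cons_succ, ← h]
    congr 1
    rw [List.getD_eq_getElem?_getD, List.getElem?_ofFn]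
    simp [j.isLt]

theorem main :
    ∃ p₁ p₂ q₁ q₂ : DP 8, IsConic p₁ ∧ IsConic p₂ ∧ IsConic q₁ ∧ IsConic q₂ ∧ form p₁ p₂ = 4 ∧ form q₁ q₂ = 4 ∧
      (¬ ∃ g : DP 8 ≃ₗ[ℤ] DP 8, IsWeyl g ∧ g p₁ = q₁ ∧ g p₂ = q₂) ∧
      ∀ v₁ v₂ : DP 8, IsConic v₁ → IsConic v₂ → form v₁ v₂ = 4 →
        ∃ g : DP 8 ≃ₗ[ℤ] DP 8, IsWeyl g ∧ ((g v₁ = p₁ ∧ g v₂ = p₂) ∨ (g v₁ = q₁ ∧ g v₂ = q₂)) := by
  refine ⟨p₁, p₂, p₁, q₂, hp₁, hp₂, hp₁, hq₂, hpp, hpq, not_conj, ?_⟩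
  intro v₁ v₂ hv₁ hv₂ hn
  obtain ⟨Q, A, C, ⟨g, hg, hg1, hg2⟩, hA, hC, hmem, hform⟩ :=
    pair_normal 7 (by norm_num) (by norm_num) v₁ v₂ hv₁ hv₂
  have hh : (List.ofFn C).headI = C 0 := by rw [List.ofFn_succ]; rfl
  have hcase := L1_four (A, List.ofFn C) hmem (by
    simp only [hh]
    rw [hn] at hform
    omega)
  refine ⟨g, hg, ?_⟩
  rw [hg1, hg2, ← p₁_eq]
  rcases hcase with h | h
  · left
    rw [Prod.mk.injEq] at h
    refine ⟨rfl, ?_⟩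
    rw [vec_eq Q A C hA hC _ h.2, h.1]
    unfold p₂
    decide +kernel
  · right
    rw [Prod.mk.injEq] at h
    refine ⟨rfl, ?_⟩
    rw [vec_eq Q A C hA hC _ h.2, h.1]
    unfold q₂
    decide +kernel

end aux

open W4c3severiratdp in
/-- Work in the lattice of vectors (a; b_1, …, b_δ), standing for divisor classes a ℓ − Σ b_i e_i on the
blow-up of the projective plane at δ points written in a standard basis, with intersection form a a'
− Σ b_i b_i' and canonical class K = (−3; −1, …, −1); a conic class is a class Q with Q·Q = 0 and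
K·Q = −2, an exceptional class (the class of a (−1)-curve) is a class E with E·E = −1 and K·E = −1,
and the Weyl group W_δ is the group of additive automorphisms of the lattice preserving the form and
fixing K. For δ = 8 the ordered pairs (Q_1, Q_2) of conic classes with Q_1·Q_2 = 4 form exactly two
W_8-orbits: there are two such pairs that no element of W_8 carries one to the other, and every such
pair is carried by an element of W_8 to one of these two. -/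
theorem result :
    ∃ p₁ p₂ q₁ q₂ : DP 8, IsConic p₁ ∧ IsConic p₂ ∧ IsConic q₁ ∧ IsConic q₂ ∧ form p₁ p₂ = 4 ∧ form q₁ q₂ = 4 ∧
      (¬ ∃ g : DP 8 ≃ₗ[ℤ] DP 8, IsWeyl g ∧ g p₁ = q₁ ∧ g p₂ = q₂) ∧
      ∀ v₁ v₂ : DP 8, IsConic v₁ → IsConic v₂ → form v₁ v₂ = 4 →
        ∃ g : DP 8 ≃ₗ[ℤ] DP 8, IsWeyl g ∧ ((g v₁ = p₁ ∧ g v₂ = p₂) ∨ (g v₁ = q₁ ∧ g v₂ = q₂)) := by
  exact main

end Groth.Agent.S15908
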