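import Groth.Statements.S15909
import Mathlib
import Groth.Agent.Lib.Helper23.ExcPair

set_option autoImplicit false
open Surf

namespace Groth.Agent.S15909

section aux
open W4c3severiratdp Groth.Agent.Helper23.DPLat Groth.Agent.Helper23.ExcLat
  Groth.Agent.Helper23.ExcPair

theorem main (L L₁ L₂ : DP 8) (hL : IsExc L) (hL₁ : IsExc L₁) (hL₂ : IsExc L₂)
    (h : form L₁ L = form L₂ L) :
    ∃ g : DP 8 ≃ₗ[ℤ] DP 8, IsWeyl g ∧ g L = L ∧ g L₁ = L₂ := by
  obtain ⟨g₀, hg₀, -, hg₀L⟩ := to_e1 L hL
  have h' : form (g₀ L₁) (e1 7) = form (g₀ L₂) (e1 7) := by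
    rw [← hg₀L, hg₀.1, hg₀.1, h]
  obtain ⟨k, hk, hfix, hk12⟩ := stab1_unique (g₀ L₁) (g₀ L₂) (isWeyl_exc hg₀ hL₁)
    (isWeyl_exc hg₀ hL₂) h'
  refine ⟨(g₀.trans k).trans g₀.symm, isWeyl_trans (isWeyl_trans hg₀ hk) (isWeyl_symm hg₀), ?_, ?_⟩
  · simp only [LinearEquiv.trans_apply]
    rw [hg₀L, hfix _ rfl, ← hg₀L, LinearEquiv.symm_apply_apply]
  · simp only [LinearEquiv.trans_apply]
    rw [hk12, LinearEquiv.symm_apply_apply]

end aux

open W4c3severiratdp in
/-- Work in the lattice of vectors (a; b_1, …, b_δ), standing for divisor classes a ℓ − Σ b_i e_i on the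
blow-up of the projective plane at δ points written in a standard basis, with intersection form a a'
− Σ b_i b_i' and canonical class K = (−3; −1, …, −1); a conic class is a class Q with Q·Q = 0 and
K·Q = −2, an exceptional class (the class of a (−1)-curve) is a class E with E·E = −1 and K·E = −1,
and the Weyl group W_δ is the group of additive automorphisms of the lattice preserving the form and
fixing K. Let δ = 8 (a del Pezzo surface of degree one) and let L be an exceptional class. If L_1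
and L_2 are exceptional classes with L_1·L = L_2·L, then L_1 and L_2 lie in the same orbit of the
stabilizer of L in W_8. -/
theorem result (L L₁ L₂ : DP 8) (hL : IsExc L) (hL₁ : IsExc L₁)
    (hL₂ : IsExc L₂) (h : form L₁ L = form L₂ L) :
    ∃ g : DP 8 ≃ₗ[ℤ] DP 8, IsWeyl g ∧ g L = L ∧ g L₁ = L₂ := by
  exact main L L₁ L₂ hL hL₁ hL₂ h

end Groth.Agent.S15909
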