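import Groth.Statements.S15910
import Mathlib
import Groth.Agent.Lib.Helper23.ExcPair

set_option autoImplicit false
open Surf

namespace Groth.Agent.S15910

section aux
open W4c3severiratdp Groth.Agent.Helper23.DPLat Groth.Agent.Helper23.ExcLat
  Groth.Agent.Helper23.ExcPair

def E : DP 8 := ![0, -1, 0, 0, 0, 0, 0, 0, 0]
def E2 : DP 8 := ![0, 0, -1, 0, 0, 0, 0, 0, 0]
def T : DP 8 := ![6, 1, 2, 2, 2, 2, 2, 2, 2]
def R0 : DP 8 := ![0, 0, 0, 0, 0, 0, 0, 0, -1]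
def R1 : DP 8 := ![1, 1, 1, 0, 0, 0, 0, 0, 0]
def R01 : DP 8 := ![1, 0, 1, 1, 0, 0, 0, 0, 0]

/-- the four canonical triples for the base class `e₁` -/
def ρ : Fin 4 → Fin 3 → DP 8 :=
  ![![E, E, ![6, 3, 2, 2, 2, 2, 2, 2, 2]],
    ![E, R0, ![6, 2, 2, 2, 2, 2, 2, 2, 3]],
    ![E, R1, ![5, 1, 1, 2, 2, 2, 2, 2, 2]],
    ![E2, R01, ![5, 1, 2, 1, 2, 2, 2, 2, 2]]]

theorem E_eq : e1 7 = E := by unfold e1 E; decide +kernel
theorem E2_eq : e2 6 = E2 := by unfold e2 E2; decide +kernel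
theorem T_eq : E - 2 • canon 8 = T := by unfold E T canon; decide +kernel

theorem ρ_exc : ∀ j i, IsExc (ρ j i) := by
  unfold IsExc ρ E E2 R0 R1 R01; decide +kernel

theorem ρ_sum : ∀ j, ρ j 0 + ρ j 1 + ρ j 2 = T := by
  unfold ρ E E2 R0 R1 R01 T; decide +kernel

theorem ρ_inv : ∀ j, ∑ i, (form (ρ j i) E) ^ 2 = ![11, 5, 3, 1] j := by
  unfold ρ E E2 R0 R1 R01; decide +kernel

theorem hE : IsExc E := by unfold IsExc E; decide +kernel
theorem hE2 : IsExc E2 := by unfold IsExc E2; decide +kernel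
theorem hR0 : IsExc R0 := by unfold IsExc R0; decide +kernel
theorem hR1 : IsExc R1 := by unfold IsExc R1; decide +kernel
theorem hR01 : IsExc R01 := by unfold IsExc R01; decide +kernel
theorem fEE : form E E = -1 := by unfold E; decide +kernel
theorem fR0E : form R0 E = 0 := by unfold R0 E; decide +kernel
theorem fR1E : form R1 E = 1 := by unfold R1 E; decide +kernel
theorem fE2E : form E2 E = 0 := by unfold E2 E; decide +kernel
theorem fR01E : form R01 E = 0 := by unfold R01 E; decide +kernel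
theorem fR01E2 : form R01 E2 = 1 := by unfold R01 E2; decide +kernel
theorem fTE : form T E = 1 := by unfold T E; decide +kernel
theorem fTT : form T T = 7 := by unfold T; decide +kernel


theorem form_canon_exc (u : DP 8) (hu : IsExc u) : form (canon 8) u = -1 := hu.2

theorem form_T (u : DP 8) (hu : IsExc u) : form T u = form u E + 2 := by
  have hT : T = E + (-1 : ℤ) • canon 8 + (-1 : ℤ) • canon 8 := by
    rw [← T_eq, two_nsmul]; simp only [neg_smul, one_smul]; abel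
  rw [hT, form_add_left, form_add_left, form_smul_left, form_canon_exc u hu, form_comm E u]
  norm_num
  ring

theorem pair_form (u₀ u₁ u₂ : DP 8) (h₀ : IsExc u₀) (h₁ : IsExc u₁) (h₂ : IsExc u₂)
    (hsum : u₀ + u₁ + u₂ = T) : form u₀ u₁ = 1 + form u₀ E + form u₁ E := by
  have hu₂ : u₂ = T + (-1 : ℤ) • u₀ + (-1 : ℤ) • u₁ := by
    rw [← hsum]; simp only [neg_smul, one_smul]; abel
  have h := h₂.1
  rw [hu₂] at h
  simp only [form_add_left, form_add_right, form_smul_left, form_smul_right] at h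
  rw [form_comm u₀ T, form_comm u₁ T, form_T u₀ h₀, form_T u₁ h₁, fTT, h₀.1, h₁.1,
    form_comm u₁ u₀] at h
  linarith

theorem weyl_T (k : DP 8 ≃ₗ[ℤ] DP 8) (hk : IsWeyl k) (hkE : k E = E) : k T = T := by
  rw [← T_eq, two_nsmul, map_sub, map_add, hkE, hk.2]

theorem ρ_two (j : Fin 4) : ρ j 2 = T - ρ j 0 - ρ j 1 := by
  rw [← ρ_sum j]; abel

/-- the case where the first member of the triple is `E` itself -/
theorem caseA (s0 s1 s2 : DP 8) (h0 : IsExc s0) (h1 : IsExc s1)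
    (hsum : s0 + s1 + s2 = T) (hn0 : form s0 E = -1) (j : Fin 4) (hj0 : ρ j 0 = E)
    (hn1 : form s1 E = form (ρ j 1) E) :
    ∃ k : DP 8 ≃ₗ[ℤ] DP 8, IsWeyl k ∧ k E = E ∧ k s0 = ρ j 0 ∧ k s1 = ρ j 1 ∧ k s2 = ρ j 2 := by
  have hs0 : s0 = E := by
    obtain ⟨k, hk, hfix, hks⟩ := stab1_unique s0 E h0 hE (by rw [E_eq, hn0, fEE])
    have hkE : k E = E := by rw [← E_eq]; exact hfix _ rfl
    have : k s0 = k E := by rw [hks, hkE]
    exact k.injective this
  obtain ⟨k, hk, hfix, hks⟩ := stab1_unique s1 (ρ j 1) h1 (ρ_exc j 1) (by rw [E_eq]; exact hn1)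
  have hkE : k E = E := by rw [← E_eq]; exact hfix _ rfl
  refine ⟨k, hk, hkE, ?_, hks, ?_⟩
  · rw [hs0, hkE, hj0]
  · have hs2 : s2 = T - s0 - s1 := by rw [← hsum]; abel
    rw [hs2, map_sub, map_sub, weyl_T k hk hkE, hs0, hkE, hks, ρ_two, hj0]

theorem caseB (s0 s1 s2 : DP 8) (h0 : IsExc s0) (h1 : IsExc s1) (h2 : IsExc s2)
    (hsum : s0 + s1 + s2 = T) (hn0 : form s0 E = 0) (hn1 : form s1 E = 0) :
    ∃ k : DP 8 ≃ₗ[ℤ] DP 8, IsWeyl k ∧ k E = E ∧ k s0 = ρ 3 0 ∧ k s1 = ρ 3 1 ∧ k s2 = ρ 3 2 := by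
  obtain ⟨k₁, hk₁, hfix₁, hks₁⟩ := stab1_unique s0 E2 h0 hE2 (by rw [E_eq, hn0, fE2E])
  have hk₁E : k₁ E = E := by rw [← E_eq]; exact hfix₁ _ rfl
  have hpf := pair_form s0 s1 s2 h0 h1 h2 hsum
  rw [hn0, hn1] at hpf
  have hu1E : form (k₁ s1) E = 0 := by
    rw [← hk₁E, hk₁.1, hn1]
  have hu1E2 : form (k₁ s1) E2 = 1 := by
    rw [← hks₁, hk₁.1, form_comm, hpf]; norm_num
  obtain ⟨k₂, hk₂, hfix₂, hks₂⟩ := stab2_unique (k₁ s1) R01 (isWeyl_exc hk₁ h1) hR01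
    (by rw [E_eq, hu1E, fR01E]) (by rw [E2_eq, hu1E2, fR01E2])
  have hk₂E : k₂ E = E := by rw [← E_eq]; exact hfix₂ _ (Set.mem_insert _ _)
  have hk₂E2 : k₂ E2 = E2 := by rw [← E2_eq]; exact hfix₂ _ (Set.mem_insert_of_mem _ rfl)
  have hkE : (k₁.trans k₂) E = E := by rw [LinearEquiv.trans_apply, hk₁E, hk₂E]
  have hk := isWeyl_trans hk₁ hk₂
  have e0 : (k₁.trans k₂) s0 = ρ 3 0 := by
    rw [LinearEquiv.trans_apply, hks₁, hk₂E2]; rfl
  have e1' : (k₁.trans k₂) s1 = ρ 3 1 := by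
    rw [LinearEquiv.trans_apply, hks₂]; rfl
  refine ⟨k₁.trans k₂, hk, hkE, e0, e1', ?_⟩
  have hs2 : s2 = T - s0 - s1 := by rw [← hsum]; abel
  rw [hs2, map_sub, map_sub, weyl_T _ hk hkE, e0, e1', ρ_two]


theorem triple_E (t : Fin 3 → DP 8) (ht : ∀ i, IsExc (t i)) (hsum : t 0 + t 1 + t 2 = T) :
    ∃ j, ∃ k : DP 8 ≃ₗ[ℤ] DP 8, IsWeyl k ∧ k E = E ∧
      ∃ σ : Equiv.Perm (Fin 3), ∀ i, k (t (σ i)) = ρ j i := by
  let n : Fin 3 → ℤ := fun i => form (t i) E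
  let σ : Equiv.Perm (Fin 3) := Tuple.sort n
  have hmono : Monotone (n ∘ σ) := Tuple.monotone_sort n
  have hb : ∀ i, -1 ≤ n i ∧ n i ≤ 3 := fun i => by
    have := form_e1_mem (t i) (ht i)
    rw [E_eq] at this
    exact this
  have hsum' : t (σ 0) + t (σ 1) + t (σ 2) = T := by
    rw [← hsum]
    have h1 := Equiv.sum_comp σ t
    rw [Fin.sum_univ_three, Fin.sum_univ_three] at h1
    exact h1
  have hnsum : n (σ 0) + n (σ 1) + n (σ 2) = 1 := by
    have := congrArg (fun v => form v E) hsum'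
    simp only [form_add_left, fTE] at this
    exact this
  have h01 : n (σ 0) ≤ n (σ 1) := hmono (by decide)
  have h12 : n (σ 1) ≤ n (σ 2) := hmono (by decide)
  have hb0 := hb (σ 0)
  have hb1 := hb (σ 1)
  have hb2 := hb (σ 2)
  have hcases : (n (σ 0) = -1 ∧ n (σ 1) = -1) ∨ (n (σ 0) = -1 ∧ n (σ 1) = 0) ∨
      (n (σ 0) = -1 ∧ n (σ 1) = 1) ∨ (n (σ 0) = 0 ∧ n (σ 1) = 0) := by omega
  rcases hcases with ⟨c0, c1⟩ | ⟨c0, c1⟩ | ⟨c0, c1⟩ | ⟨c0, c1⟩
  · obtain ⟨k, hk, hkE, e0, e1', e2'⟩ := caseA (t (σ 0)) (t (σ 1)) (t (σ 2)) (ht _) (ht _) hsum' c0 0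
      rfl (by rw [show form (t (σ 1)) E = -1 from c1]; exact fEE.symm)
    refine ⟨0, k, hk, hkE, σ, fun i => ?_⟩
    fin_cases i
    · exact e0
    · exact e1'
    · exact e2'
  · obtain ⟨k, hk, hkE, e0, e1', e2'⟩ := caseA (t (σ 0)) (t (σ 1)) (t (σ 2)) (ht _) (ht _) hsum' c0 1
      rfl (by rw [show form (t (σ 1)) E = 0 from c1]; exact fR0E.symm)
    refine ⟨1, k, hk, hkE, σ, fun i => ?_⟩
    fin_cases i
    · exact e0
    · exact e1'
    · exact e2'
  · obtain ⟨k, hk, hkE, e0, e1', e2'⟩ := caseA (t (σ 0)) (t (σ 1)) (t (σ 2)) (ht _) (ht _) hsum' c0 2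
      rfl (by rw [show form (t (σ 1)) E = 1 from c1]; exact fR1E.symm)
    refine ⟨2, k, hk, hkE, σ, fun i => ?_⟩
    fin_cases i
    · exact e0
    · exact e1'
    · exact e2'
  · obtain ⟨k, hk, hkE, e0, e1', e2'⟩ := caseB (t (σ 0)) (t (σ 1)) (t (σ 2)) (ht _) (ht _) (ht _)
      hsum' c0 c1
    refine ⟨3, k, hk, hkE, σ, fun i => ?_⟩
    fin_cases i
    · exact e0
    · exact e1'
    · exact e2'

theorem main (L : DP 8) (hL : IsExc L) :
    ∃ r : Fin 4 → (Fin 3 → DP 8),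
      (∀ j, (∀ i, IsExc (r j i)) ∧ r j 0 + r j 1 + r j 2 = L - 2 • canon 8) ∧
      (∀ j j', (∃ g : DP 8 ≃ₗ[ℤ] DP 8, IsWeyl g ∧ g L = L ∧ ∃ σ : Equiv.Perm (Fin 3), ∀ i, g (r j (σ i)) = r j' i) → j = j') ∧
      ∀ t : Fin 3 → DP 8, (∀ i, IsExc (t i)) → t 0 + t 1 + t 2 = L - 2 • canon 8 →
        ∃ j, ∃ g : DP 8 ≃ₗ[ℤ] DP 8, IsWeyl g ∧ g L = L ∧ ∃ σ : Equiv.Perm (Fin 3), ∀ i, g (t (σ i)) = r j i := by
  obtain ⟨g₀, hg₀, -, hg₀L⟩ := to_e1 L hL
  rw [E_eq] at hg₀L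
  have hg₀' := isWeyl_symm hg₀
  have hsL : g₀.symm E = L := by rw [← hg₀L, LinearEquiv.symm_apply_apply]
  have hT' : g₀.symm T = L - 2 • canon 8 := by
    rw [← T_eq, two_nsmul, map_sub, map_add, hsL, hg₀'.2]
  have hT'' : g₀ (L - 2 • canon 8) = T := by
    rw [← hT', LinearEquiv.apply_symm_apply]
  refine ⟨fun j i => g₀.symm (ρ j i), ?_, ?_, ?_⟩
  · intro j
    refine ⟨fun i => isWeyl_exc hg₀' (ρ_exc j i), ?_⟩
    rw [← map_add, ← map_add, ρ_sum, hT']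
  · rintro j j' ⟨g, hg, hgL, σ, hσ⟩
    have hinv : ∀ j : Fin 4, ∑ i, (form (g₀.symm (ρ j i)) L) ^ 2 = ![11, 5, 3, 1] j := by
      intro j
      rw [← ρ_inv j]
      refine Finset.sum_congr rfl fun i _ => ?_
      rw [← hsL, hg₀'.1]
    have h1 : ∑ i, (form (g₀.symm (ρ j' i)) L) ^ 2 = ∑ i, (form (g₀.symm (ρ j i)) L) ^ 2 := by
      rw [← Equiv.sum_comp σ (fun i => (form (g₀.symm (ρ j i)) L) ^ 2)]
      refine Finset.sum_congr rfl fun i _ => ?_
      have hσi : g (g₀.symm (ρ j (σ i))) = g₀.symm (ρ j' i) := hσ i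
      rw [← hσi]
      conv_lhs => rw [← hgL]
      rw [hg.1]
    rw [hinv, hinv] at h1
    revert h1
    fin_cases j <;> fin_cases j' <;> simp
  · intro t ht hsum
    have ht' : ∀ i, IsExc (g₀ (t i)) := fun i => isWeyl_exc hg₀ (ht i)
    have hsum' : g₀ (t 0) + g₀ (t 1) + g₀ (t 2) = T := by
      rw [← map_add, ← map_add, hsum, hT'']
    obtain ⟨j, k, hk, hkE, σ, hσ⟩ := triple_E (fun i => g₀ (t i)) ht' hsum'
    refine ⟨j, (g₀.trans k).trans g₀.symm, isWeyl_trans (isWeyl_trans hg₀ hk) hg₀', ?_, σ, ?_⟩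
    · simp only [LinearEquiv.trans_apply]
      rw [hg₀L, hkE, hsL]
    · intro i
      simp only [LinearEquiv.trans_apply]
      rw [hσ i]

end aux

open W4c3severiratdp in
/-- Work in the lattice of vectors (a; b_1, …, b_δ), standing for divisor classes a ℓ − Σ b_i e_i on the
blow-up of the projective plane at δ points written in a standard basis, with intersection form a a'
− Σ b_i b_i' and canonical class K = (−3; −1, …, −1); a conic class is a class Q with Q·Q = 0 and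
K·Q = −2, an exceptional class (the class of a (−1)-curve) is a class E with E·E = −1 and K·E = −1,
and the Weyl group W_δ is the group of additive automorphisms of the lattice preserving the form and
fixing K. Let δ = 8 and let L be an exceptional class. Let B be the set of unordered triples {λ_1,
λ_2, λ_3} of exceptional classes (repetitions allowed) with λ_1 + λ_2 + λ_3 = −2K + L. Then the
stabilizer of L in W_8 has exactly four orbits on B. Triples are written as maps Fin 3 → lattice and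
compared up to reordering: there are four members of B, no two of which are identified by an element
of the stabilizer followed by a reordering, and every member of B is so identified with one of the
four. -/
theorem result (L : DP 8) (hL : IsExc L) :
    ∃ r : Fin 4 → (Fin 3 → DP 8),
      (∀ j, (∀ i, IsExc (r j i)) ∧ r j 0 + r j 1 + r j 2 = L - 2 • canon 8) ∧
      (∀ j j', (∃ g : DP 8 ≃ₗ[ℤ] DP 8, IsWeyl g ∧ g L = L ∧ ∃ σ : Equiv.Perm (Fin 3), ∀ i, g (r j (σ i)) = r j' i) → j = j') ∧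
      ∀ t : Fin 3 → DP 8, (∀ i, IsExc (t i)) → t 0 + t 1 + t 2 = L - 2 • canon 8 →
        ∃ j, ∃ g : DP 8 ≃ₗ[ℤ] DP 8, IsWeyl g ∧ g L = L ∧ ∃ σ : Equiv.Perm (Fin 3), ∀ i, g (t (σ i)) = r j i := by
  exact main L hL

end Groth.Agent.S15910
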