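import Groth.Statements.S15939
import Mathlib
import Groth.Agent.S0218
-- import your own Groth.Agent.* helpers here

set_option autoImplicit false
universe u
open CAlg

namespace Groth.Agent.S15939

section
open Polynomial Groth.Agent.S0218

variable {κ A : Type u} [Field κ] [CommRing A] [Algebra κ A]

/-- final part: an element `y ∉ κ` with `y² = c y` gives the structure -/
lemma final (hne : (⊥ : Subalgebra κ A) ≠ ⊤) (hs : ∀ S : Subalgebra κ A, S = ⊥ ∨ S = ⊤)
    (y : A) (hy : y ∉ (⊥ : Subalgebra κ A)) (c : κ) (hc : y * y = c • y) :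
    Nonempty (A ≃ₐ[κ] DualNumber κ) ∨ Nonempty (A ≃ₐ[κ] (κ × κ)) := by
  by_cases hc0 : c = 0
  · left
    rw [hc0, zero_smul] at hc
    let φ : DualNumber κ →ₐ[κ] A :=
      DualNumber.lift ⟨(Algebra.ofId κ A, y), hc, fun a => Commute.all _ _⟩
    refine equiv_of_algHom hs φ ?_ y hy ⟨DualNumber.eps, DualNumber.lift_apply_eps _⟩
    rw [injective_iff_map_eq_zero]
    intro z hz
    have hz' : φ z = z.fst • (1 : A) + z.snd • y := by
      show DualNumber.lift _ z = _
      rw [DualNumber.lift_apply_apply]
      simp [Algebra.ofId_apply, Algebra.algebraMap_eq_smul_one]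
    rw [hz'] at hz
    obtain ⟨h1, h2⟩ := lin_indep hne y hy _ _ hz
    exact TrivSqZeroExt.ext h1 h2
  · right
    set e : A := c⁻¹ • y with he
    have hee : e * e = e := by
      rw [he, smul_mul_smul_comm, hc, smul_smul, mul_assoc, inv_mul_cancel₀ hc0, mul_one]
    have hey : e ∉ (⊥ : Subalgebra κ A) := by
      intro hmem
      apply hy
      have : y = c • e := by rw [he, smul_smul, mul_inv_cancel₀ hc0, one_smul]
      rw [this]
      exact Subalgebra.smul_mem _ hmem c
    let ψ : (κ × κ) →ₗ[κ] A :=
      LinearMap.coprod (LinearMap.toSpanSingleton κ A (1 - e)) (LinearMap.toSpanSingleton κ A e)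
    have hψ : ∀ p : κ × κ, ψ p = p.1 • (1 - e) + p.2 • e := fun p => by
      simp [ψ, LinearMap.coprod_apply]
    have h1e : (1 - e) * (1 - e) = 1 - e := by
      rw [mul_sub, mul_one, sub_mul, one_mul, hee, sub_self, sub_zero]
    have h1e' : (1 - e) * e = 0 := by rw [sub_mul, one_mul, hee, sub_self]
    let φ : (κ × κ) →ₐ[κ] A := AlgHom.ofLinearMap ψ (by
      rw [hψ]; simp) (by
      intro p q
      rw [hψ, hψ, hψ]
      simp only [Prod.fst_mul, Prod.snd_mul, add_mul, mul_add, smul_mul_smul_comm, h1e, h1e', hee,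
        mul_comm e (1 - e), smul_zero, add_zero, zero_add])
    refine equiv_of_algHom hs φ ?_ e hey ⟨(0, 1), ?_⟩
    · rw [injective_iff_map_eq_zero]
      intro z hz
      have hz' : φ z = z.1 • (1 : A) + (z.2 - z.1) • e := by
        show ψ z = _
        rw [hψ, smul_sub, sub_smul]
        abel
      rw [hz'] at hz
      obtain ⟨h1, h2⟩ := lin_indep hne e hey _ _ hz
      rw [h1, sub_zero] at h2
      exact Prod.ext h1 h2
    · show ψ (0, 1) = e
      rw [hψ]; simp

/-- non-field case: find `y` -/
lemma exists_y_of_not_isField (hne : (⊥ : Subalgebra κ A) ≠ ⊤)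
    (hs : ∀ S : Subalgebra κ A, S = ⊥ ∨ S = ⊤) [IsArtinianRing A] (hF : ¬ IsField A) :
    ∃ y : A, y ∉ (⊥ : Subalgebra κ A) ∧ ∃ c : κ, y * y = c • y := by
  haveI := nontrivial_of_ne hne
  have hinj : Function.Injective (algebraMap κ A) := (algebraMap κ A).injective
  -- a nonzero nonunit
  obtain ⟨x, hx0, hxu⟩ : ∃ x : A, x ≠ 0 ∧ ∀ b, x * b ≠ 1 := by
    by_contra hcon
    push Not at hcon
    exact hF ⟨exists_pair_ne A, mul_comm, fun {a} ha => hcon a ha⟩
  -- stabilisation
  obtain ⟨n, hn⟩ := IsArtinian.monotone_stabilizes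
    (⟨fun n => Ideal.span {x ^ (n + 1)}, fun a b hab => by
      show Ideal.span {x ^ (b + 1)} ≤ Ideal.span {x ^ (a + 1)}
      rw [Ideal.span_singleton_le_span_singleton]
      exact pow_dvd_pow x (by omega)⟩ : ℕ →o (Ideal A)ᵒᵈ)
  have h1 : x ^ (n + 1) ∈ Ideal.span {x ^ (n + 1 + 1)} := by
    have := hn (n + 1) (by omega)
    have h2 : Ideal.span {x ^ (n + 1)} = Ideal.span {x ^ (n + 1 + 1)} := this
    rw [← h2]
    exact Ideal.mem_span_singleton_self _
  obtain ⟨b, hb⟩ := Ideal.mem_span_singleton'.mp h1
  set N := n + 1 with hN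
  have h : x ^ N = x ^ (N + 1) * b := by rw [← hb]; ring
  have hk : ∀ k : ℕ, x ^ N = x ^ (N + k) * b ^ k := by
    intro k
    induction k with
    | zero => simp
    | succ k ih =>
      calc x ^ N = x ^ (N + k) * b ^ k := ih
        _ = x ^ k * x ^ N * b ^ k := by rw [pow_add]; ring
        _ = x ^ k * (x ^ (N + 1) * b) * b ^ k := by rw [← h]
        _ = x ^ (N + (k + 1)) * b ^ (k + 1) := by ring
  have he : (x ^ N * b ^ N) * (x ^ N * b ^ N) = x ^ N * b ^ N := by
    have := hk N
    calc (x ^ N * b ^ N) * (x ^ N * b ^ N) = (x ^ (N + N) * b ^ N) * b ^ N := by ring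
      _ = x ^ N * b ^ N := by rw [← this]
  by_cases hemem : x ^ N * b ^ N ∈ (⊥ : Subalgebra κ A)
  · obtain ⟨c₀, hc₀⟩ := Algebra.mem_bot.mp hemem
    have hc₀' : c₀ * c₀ = c₀ := by
      apply hinj
      rw [map_mul, hc₀, he]
    have hc01 : c₀ = 0 ∨ c₀ = 1 := by
      rcases eq_or_ne c₀ 0 with h0 | h0
      · left; exact h0
      · right; exact mul_left_cancel₀ h0 (by rw [hc₀', mul_one])
    rcases hc01 with h0 | h1'
    · -- nilpotent case
      have hxN : x ^ N = 0 := by
        have h3 : x ^ N = x ^ N * (x ^ N * b ^ N) := by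
          calc x ^ N = x ^ (N + N) * b ^ N := hk N
            _ = x ^ N * (x ^ N * b ^ N) := by ring
        rw [h3, ← hc₀, h0, map_zero, mul_zero]
      have hex : ∃ m, x ^ m = 0 := ⟨N, hxN⟩
      classical
      set m := Nat.find hex with hm
      have hm0 : x ^ m = 0 := Nat.find_spec hex
      have hm2 : 2 ≤ m := by
        by_contra hlt
        have : m = 0 ∨ m = 1 := by omega
        rcases this with h | h
        · rw [h, pow_zero] at hm0; exact one_ne_zero hm0
        · rw [h, pow_one] at hm0; exact hx0 hm0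
      have hy0 : x ^ (m - 1) ≠ 0 := Nat.find_min hex (by omega)
      refine ⟨x ^ (m - 1), ?_, 0, ?_⟩
      · intro hmem
        obtain ⟨c, hc⟩ := Algebra.mem_bot.mp hmem
        have : c = 0 := by
          by_contra hcne
          have hu : IsUnit (x ^ (m - 1)) := by
            rw [← hc]; exact (IsUnit.mk0 c hcne).map (algebraMap κ A)
          have : IsUnit (x ^ m) := by
            have : x ^ m = x ^ (m - 1) * x := by rw [← pow_succ]; congr 1; omega
            have hxu' : IsUnit x := by
              have h3 : x ^ (m - 1) = x * x ^ (m - 2) := by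
                rw [← pow_succ']; congr 1; omega
              rw [h3] at hu
              exact isUnit_of_mul_isUnit_left hu
            exact hxu'.pow m
          rw [hm0] at this
          exact not_isUnit_zero this
        rw [this, map_zero] at hc
        exact hy0 hc.symm
      · rw [zero_smul, ← pow_add]
        have : m - 1 + (m - 1) = m + (m - 2) := by omega
        rw [this, pow_add, hm0, zero_mul]
    · exfalso
      have : x * (x ^ n * b ^ N) = 1 := by
        have h2 : x ^ N * b ^ N = 1 := by rw [← hc₀, h1', map_one]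
        rw [← h2, hN]; ring
      exact hxu _ this
  · exact ⟨x ^ N * b ^ N, hemem, 1, by rw [he, one_smul]⟩

/-- field case -/
lemma field_case (hne : (⊥ : Subalgebra κ A) ≠ ⊤)
    (hs : ∀ S : Subalgebra κ A, S = ⊥ ∨ S = ⊤) (hF : IsField A) :
    Algebra.IsSeparable κ A ∨
        ∃ (p : ℕ) (a : κ), p.Prime ∧ CharP κ p ∧ (∀ b : κ, b ^ p ≠ a) ∧
          Nonempty (A ≃ₐ[κ] AdjoinRoot (X ^ p - C a)) := by
  letI : Field A := hF.toField
  haveI : Algebra.IsAlgebraic κ A := ⟨fun x => (isIntegral_of_simple hs x).isAlgebraic⟩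
  rcases hs (separableClosure κ A).toSubalgebra with hbot | htop
  · right
    have hS : separableClosure κ A = ⊥ := by
      apply IntermediateField.toSubalgebra_injective
      rw [hbot, IntermediateField.bot_toSubalgebra]
    haveI : IsPurelyInseparable κ A := separableClosure.eq_bot_iff.mp hS
    obtain ⟨x, hx⟩ : ∃ x : A, x ∉ (⊥ : Subalgebra κ A) := by
      by_contra hcon
      push Not at hcon
      exact hne (le_antisymm bot_le fun a _ => hcon a)
    have hx' : x ∉ (algebraMap κ A).range := fun h => hx (Algebra.mem_bot.mpr h)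
    obtain ⟨q, hq⟩ := ExpChar.exists κ
    rcases hq with _ | ⟨hprime⟩
    · exfalso
      obtain ⟨n, hn⟩ := IsPurelyInseparable.pow_mem κ 1 x
      rw [one_pow, pow_one] at hn
      exact hx' hn
    · rename_i hchar
      haveI : ExpChar κ q := ExpChar.prime hprime
      have hex := IsPurelyInseparable.pow_mem κ q x
      classical
      set n := Nat.find hex with hn
      have hn0 : n ≠ 0 := by
        intro h0
        have := Nat.find_spec hex
        rw [← hn, h0, pow_zero, pow_one] at this
        exact hx' this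
      set z := x ^ q ^ (n - 1) with hz
      have hz' : z ∉ (algebraMap κ A).range := Nat.find_min hex (by omega)
      obtain ⟨a, ha⟩ : z ^ q ∈ (algebraMap κ A).range := by
        have := Nat.find_spec hex
        rw [← hn] at this
        have e : z ^ q = x ^ q ^ n := by
          rw [hz, ← pow_mul, ← pow_succ]; congr 2; omega
        rw [e]; exact this
      haveI : CharP A q := charP_of_injective_algebraMap (algebraMap κ A).injective q
      haveI : Fact q.Prime := ⟨hprime⟩
      have hap : ∀ b : κ, b ^ q ≠ a := by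
        intro b hb
        apply hz'
        have : (z - algebraMap κ A b) ^ q = 0 := by
          rw [sub_pow_char, ← map_pow, hb, ha, sub_self]
        have h0 := pow_eq_zero_iff (hprime.ne_zero) |>.mp this
        exact ⟨b, (sub_eq_zero.mp h0).symm⟩
      refine ⟨q, a, hprime, hchar, hap, ?_⟩
      have hirr := X_pow_sub_C_irreducible_of_prime hprime hap
      haveI : Fact (Irreducible (X ^ q - C a)) := ⟨hirr⟩
      let φ : AdjoinRoot (X ^ q - C a) →ₐ[κ] A :=
        AdjoinRoot.liftAlgHom (X ^ q - C a) (Algebra.ofId κ A) z (by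
          simp only [eval₂_sub, eval₂_pow, eval₂_X, eval₂_C]
          have e : ((Algebra.ofId κ A : κ →ₐ[κ] A) : κ →+* A) a = algebraMap κ A a := rfl
          rw [e, ha, sub_self])
      have hzbot : z ∉ (⊥ : Subalgebra κ A) := fun h => hz' (Algebra.mem_bot.mp h)
      exact equiv_of_algHom hs φ (φ : AdjoinRoot (X ^ q - C a) →+* A).injective z hzbot
        ⟨AdjoinRoot.root _, AdjoinRoot.liftAlgHom_root _ _ _ _⟩
  · left
    have hS : separableClosure κ A = ⊤ := by
      apply IntermediateField.toSubalgebra_injective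
      rw [htop, IntermediateField.top_toSubalgebra]
    exact (separableClosure.eq_top_iff κ A).mp hS

theorem main (κ A : Type u) [Field κ] [CommRing A] [Algebra κ A]
    (h : IsSimpleOrder (Subalgebra κ A)) :
    FiniteDimensional κ A ∧
    (Nonempty (A ≃ₐ[κ] DualNumber κ) ∨ Nonempty (A ≃ₐ[κ] (κ × κ)) ∨
      (IsField A ∧ (Algebra.IsSeparable κ A ∨
        ∃ (p : ℕ) (a : κ), p.Prime ∧ CharP κ p ∧ (∀ b : κ, b ^ p ≠ a) ∧
          Nonempty (A ≃ₐ[κ] AdjoinRoot (X ^ p - C a))))) := by
  have hne : (⊥ : Subalgebra κ A) ≠ ⊤ := bot_ne_top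
  have hs : ∀ S : Subalgebra κ A, S = ⊥ ∨ S = ⊤ := fun S => eq_bot_or_eq_top S
  have hfin : FiniteDimensional κ A := by
    obtain ⟨x, hx⟩ : ∃ x : A, x ∉ (⊥ : Subalgebra κ A) := by
      by_contra hcon
      push Not at hcon
      exact hne (le_antisymm bot_le fun a _ => hcon a)
    have hadj : Algebra.adjoin κ {x} = ⊤ := by
      rcases hs (Algebra.adjoin κ {x}) with h1 | h1
      · exact absurd (h1 ▸ Algebra.subset_adjoin (Set.mem_singleton x)) hx
      · exact h1
    have h1 : Module.Finite κ (Algebra.adjoin κ {x}) :=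
      Algebra.finite_adjoin_simple_of_isIntegral (isIntegral_of_simple hs x)
    rw [hadj] at h1
    exact Module.Finite.equiv (Subalgebra.topEquiv : (⊤ : Subalgebra κ A) ≃ₐ[κ] A).toLinearEquiv
  refine ⟨hfin, ?_⟩
  by_cases hF : IsField A
  · right; right
    exact ⟨hF, field_case hne hs hF⟩
  · haveI : IsArtinianRing A := IsArtinianRing.of_finite κ A
    obtain ⟨y, hy, c, hc⟩ := exists_y_of_not_isField hne hs hF
    rcases final hne hs y hy c hc with h1 | h1
    · left; exact h1
    · right; left; exact h1

end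

open Polynomial in
/-- Let κ be a field and A a commutative κ-algebra whose only κ-subalgebras are the image of κ and A
itself, these two being different. Then A is finite-dimensional over κ, and A is isomorphic as a
κ-algebra to the dual numbers over κ, or to κ × κ, or A is a field which is either separable over κ
or isomorphic to κ[X]/(X^p - a) with p the (positive) characteristic of κ and a an element of κ that
is not a p-th power. (The published statement also records that these four cases exclude one
another; that part is not restated.) -/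
theorem result (κ A : Type u) [Field κ] [CommRing A] [Algebra κ A]
    (h : IsSimpleOrder (Subalgebra κ A)) :
    FiniteDimensional κ A ∧
    (Nonempty (A ≃ₐ[κ] DualNumber κ) ∨ Nonempty (A ≃ₐ[κ] (κ × κ)) ∨
      (IsField A ∧ (Algebra.IsSeparable κ A ∨
        ∃ (p : ℕ) (a : κ), p.Prime ∧ CharP κ p ∧ (∀ b : κ, b ^ p ≠ a) ∧
          Nonempty (A ≃ₐ[κ] AdjoinRoot (X ^ p - C a))))) := by
  exact Groth.Agent.S15939.main κ A h

end Groth.Agent.S15939
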