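import Groth.Statements.S15957
import Groth.Agent.Lib.Helper7.NeronCrit5
import Groth.Agent.Lib.Helper7.NeronExt3

set_option autoImplicit false
universe u
open Neron

namespace Groth.Agent.S15957

open CategoryTheory AlgebraicGeometry in
/-- (ii) ⇒ (i): let R be a discrete valuation ring with field of fractions K and G a smooth separated
group scheme over Spec R. Suppose that for every local extension R ⊆ R' of discrete valuation rings
of ramification index one (the maximal ideal of R generates that of R' and the residue field
extension is separable, i.e. geometrically reduced) with R' strictly Henselian, and K' the fraction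
field of R', every K'-valued point of G over R extends to an R'-valued point. Then G is a Néron
lft-model of its generic fibre: for every smooth scheme Y over Spec R, restriction to generic fibres
is a bijection from morphisms Y → G over R onto morphisms Y_K → G_K over K. (The published statement
is the equivalence of this criterion, of the Néron lft property, and of a third intermediate
criterion; only this implication is stated.) -/
theorem result
    (R : Type u) [CommRing R] [IsDomain R] [IsDiscreteValuationRing R]
    (G : Over (Spec (CommRingCat.of R))) [GrpObj G] [Smooth G.hom] [IsSeparated G.hom]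
    (h : ∀ (R' : Type u) [CommRing R'] [IsDomain R'] [IsDiscreteValuationRing R'] [Algebra R R']
        [IsLocalHom (algebraMap R R')] [HenselianLocalRing R'] [IsSepClosed (IsLocalRing.ResidueField R')],
      (IsLocalRing.maximalIdeal R).map (algebraMap R R') = IsLocalRing.maximalIdeal R' →
      Algebra.IsGeometricallyReduced (IsLocalRing.ResidueField R) (IsLocalRing.ResidueField R') →
      ∀ x : Spec (CommRingCat.of (FractionRing R')) ⟶ G.left,
        x ≫ G.hom = Spec.map (CommRingCat.ofHom ((algebraMap R' (FractionRing R')).comp (algebraMap R R'))) →
        ∃ y : Spec (CommRingCat.of R') ⟶ G.left, y ≫ G.hom = Spec.map (CommRingCat.ofHom (algebraMap R R')) ∧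
          Spec.map (CommRingCat.ofHom (algebraMap R' (FractionRing R'))) ≫ y = x) :
    ∀ Y : Over (Spec (CommRingCat.of R)), Smooth Y.hom →
      Function.Bijective (fun g : Y ⟶ G => (Neron.genericFibre R).map g) := by
  intro Y hY
  have : Smooth Y.hom := hY
  have : Flat Y.hom := inferInstance
  have hyp : Groth.Agent.Helper7.NeronCrit.Hyp R G.hom := h
  obtain ⟨adj, hadj⟩ : ∃ adj : Over.map (Neron.genPt R) ⊣ Over.pullback (Neron.genPt R),
      adj = Over.mapPullbackAdj (Neron.genPt R) := ⟨_, rfl⟩
  have hεl : (adj.counit.app Y).left = Limits.pullback.fst Y.hom (Neron.genPt R) := by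
    rw [hadj]
    exact Groth.Agent.Helper7.NeronExt.counit_left (Neron.genPt R) Y
  show Function.Bijective (fun g : Y ⟶ G => (Over.pullback (Neron.genPt R)).map g)
  rw [← Groth.Agent.Helper7.NeronExt.bijective_counit_comp_iff adj]
  constructor
  · intro g₁ g₂ hg
    dsimp only at hg
    have : IsSchemeTheoreticallyDominant (adj.counit.app Y).left := by
      rw [hεl]
      infer_instance
    ext
    refine Groth.Agent.Helper14.Ner.ext_of_isSchemeTheoreticallyDominant G.hom ?_
      (adj.counit.app Y).left ?_
    · rw [Over.w g₁, Over.w g₂]
    · rw [← Over.comp_left, ← Over.comp_left, hg]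
  · intro u'
    dsimp only
    have : GrpObj (Over.mk G.hom) := ‹GrpObj G›
    have hu₀ : u'.left ≫ G.hom = Limits.pullback.fst Y.hom (Neron.genPt R) ≫ Y.hom := by
      rw [Over.w u']
      show Limits.pullback.snd Y.hom (Neron.genPt R) ≫ Neron.genPt R = _
      exact Limits.pullback.condition.symm
    obtain ⟨g₀, hg1, hg2⟩ := Groth.Agent.Helper7.NeronCrit.extend R Y.hom G.hom hyp u'.left hu₀
    refine ⟨Over.homMk g₀ hg1, ?_⟩
    ext
    rw [Over.comp_left, hεl]
    exact hg2

end Groth.Agent.S15957
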