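import Groth.Statements.S15987
import Mathlib.Tactic.Ring
import Mathlib.Tactic.Abel

set_option autoImplicit false
universe u v
open Deform

namespace Groth.Agent.S15987

open TrivSqZeroExt

variable (k : Type u) [Field k] (A : Type u) [CommRing A] [Algebra k A]

noncomputable def derOfAut (φ : DualNumber A ≃ₐ[k] DualNumber A)
    (h1 : ∀ x, (φ x).fst = x.fst) : Derivation k A A where
  toFun a := (φ (inl a : DualNumber A)).snd
  map_add' a b := by
    rw [inl_add, map_add, snd_add]
  map_smul' c a := by
    simp only [RingHom.id_apply]
    rw [← snd_smul, ← map_smul, ← inl_smul]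
  map_one_eq_zero' := by
    change (φ (inl 1 : DualNumber A)).snd = 0
    rw [inl_one, map_one, snd_one]
  leibniz' a b := by
    change (φ (inl (a * b) : DualNumber A)).snd =
      a • (φ (inl b : DualNumber A)).snd + b • (φ (inl a : DualNumber A)).snd
    rw [inl_mul, map_mul, DualNumber.snd_mul, h1, h1, fst_inl, fst_inl, smul_eq_mul, smul_eq_mul]
    ring

noncomputable def autOfDer (D : Derivation k A A) : DualNumber A ≃ₐ[k] DualNumber A where
  toFun x := inl x.fst + inr (x.snd + D x.fst)
  invFun x := inl x.fst + inr (x.snd - D x.fst)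
  left_inv x := by
    apply TrivSqZeroExt.ext <;> simp
  right_inv x := by
    apply TrivSqZeroExt.ext <;> simp
  map_mul' x y := by
    apply TrivSqZeroExt.ext
    · simp
    · simp only [snd_add, snd_inl, snd_inr, zero_add, DualNumber.snd_mul, fst_mul, fst_add,
        fst_inl, fst_inr, add_zero, Derivation.leibniz, smul_eq_mul]
      ring
  map_add' x y := by
    apply TrivSqZeroExt.ext
    · simp
    · simp only [snd_add, snd_inl, snd_inr, zero_add, fst_add, map_add]
      abel
  commutes' c := by
    apply TrivSqZeroExt.ext
    · simp [algebraMap_eq_inl']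
    · simp [algebraMap_eq_inl']

theorem autOfDer_apply (D : Derivation k A A) (x : DualNumber A) :
    autOfDer k A D x = inl x.fst + inr (x.snd + D x.fst) := rfl

open TrivSqZeroExt in
/-- Let k be a field, A a commutative k-algebra and q_i : A → k (i ∈ ι) k-algebra maps (marked k-points
of Spec A). The k-algebra automorphisms φ of the ring of dual numbers A[ε] that fix ε (so are
k[ε]-linear), are the identity modulo ε, and satisfy q_i((φ x)_ε) = q_i(x_ε) for all i and x
(compatibility with the trivial lifts A[ε] → k[ε] of the marked points) are in bijection with the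
k-derivations D : A → A such that q_i ∘ D = 0 for every i, the bijection sending φ to a ↦ (φ(a))_ε.
(The source identifies the right-hand side with the global vector fields vanishing at the marked
points; the condition the computation yields is q_i ∘ D = 0, which is the same for Spec A smooth
over k but is weaker in general, e.g. for A = k[x]/(x^2) with 2 invertible in k.) -/
theorem result
    (k : Type u) [Field k] (A : Type u) [CommRing A] [Algebra k A] {ι : Type v} (q : ι → (A →ₐ[k] k)) :
    ∃ e : {φ : DualNumber A ≃ₐ[k] DualNumber A //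
            φ DualNumber.eps = DualNumber.eps ∧ (∀ x, (φ x).fst = x.fst) ∧
              ∀ i x, q i (φ x).snd = q i x.snd} ≃
          {D : Derivation k A A // ∀ i a, q i (D a) = 0},
      ∀ φ (a : A), (e φ).1 a = (φ.1 (inl a : DualNumber A)).snd := by
  classical
  refine ⟨{
    toFun := fun φ => ⟨derOfAut k A φ.1 φ.2.2.1, ?_⟩
    invFun := fun D => ⟨autOfDer k A D.1, ?_, ?_, ?_⟩
    left_inv := ?_
    right_inv := ?_ }, ?_⟩
  · intro i a
    have := φ.2.2.2 i (TrivSqZeroExt.inl a)
    rw [TrivSqZeroExt.snd_inl, map_zero] at this
    exact this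
  · rw [autOfDer_apply]
    apply TrivSqZeroExt.ext <;> simp
  · intro x
    rw [autOfDer_apply]
    simp
  · intro i x
    rw [autOfDer_apply]
    simp [D.2 i]
  · rintro ⟨φ, h1, h2, h3⟩
    apply Subtype.ext
    apply AlgEquiv.ext
    intro x
    change autOfDer k A (derOfAut k A φ h2) x = φ x
    rw [autOfDer_apply]
    have hx : x = TrivSqZeroExt.inl x.fst + TrivSqZeroExt.inl x.snd * DualNumber.eps := by
      apply TrivSqZeroExt.ext <;> simp [DualNumber.snd_mul]
    have hφx : φ x = φ (TrivSqZeroExt.inl x.fst) + φ (TrivSqZeroExt.inl x.snd) * DualNumber.eps := by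
      conv_lhs => rw [hx]
      rw [map_add, map_mul, h1]
    apply TrivSqZeroExt.ext
    · simp [h2]
    · rw [hφx]
      simp only [TrivSqZeroExt.snd_add, TrivSqZeroExt.snd_inl, TrivSqZeroExt.snd_inr, zero_add,
        DualNumber.snd_mul, h2, TrivSqZeroExt.fst_inl, DualNumber.snd_eps, DualNumber.fst_eps,
        mul_one, mul_zero, add_zero]
      rw [add_comm]
      rfl
  · rintro ⟨D, hD⟩
    apply Subtype.ext
    apply Derivation.ext
    intro a
    change (autOfDer k A D (TrivSqZeroExt.inl a)).snd = D a
    rw [autOfDer_apply]
    simp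
  · intro φ a
    rfl

end Groth.Agent.S15987
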