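import Groth.Statements.S16014
import Mathlib.Algebra.Order.Interval.Finset.SuccPred
import Mathlib.Algebra.BigOperators.Intervals
import Mathlib.Algebra.BigOperators.Ring.Finset
import Mathlib.Tactic.Ring
import Mathlib.Tactic.Linarith
import Mathlib.Data.Int.SuccPred

set_option autoImplicit false
universe u
open W4c3ghconstell

namespace Groth.Agent.S16014

theorem key_nat (g : ℤ → ℚ) (M : ℤ) : ∀ k : ℕ,
    ∑ n ∈ Finset.Icc (M + 1 - k) M, (n : ℚ) * g n =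
      ∑ n ∈ Finset.Icc (M + 1 - k + 1) M, (∑ m ∈ Finset.Icc n M, g m) +
        ((M + 1 - k : ℤ) : ℚ) * ∑ m ∈ Finset.Icc (M + 1 - k) M, g m := by
  intro k
  induction k with
  | zero =>
    have h1 : Finset.Icc (M + 1 - ((0 : ℕ) : ℤ)) M = ∅ := Finset.Icc_eq_empty (by simp)
    have h2 : Finset.Icc (M + 1 - ((0 : ℕ) : ℤ) + 1) M = ∅ := Finset.Icc_eq_empty (by push_cast; omega)
    rw [h1, h2]
    simp
  | succ k ih =>
    set a : ℤ := M + 1 - k with ha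
    have ha' : M + 1 - ((k + 1 : ℕ) : ℤ) = a - 1 := by push_cast; omega
    rw [ha']
    have hle : a - 1 ≤ M := by omega
    have hcons : ∀ f : ℤ → ℚ, ∑ n ∈ Finset.Icc (a - 1) M, f n = f (a - 1) + ∑ n ∈ Finset.Icc a M, f n := by
      intro f
      have h3 : a - 1 + 1 = a := by omega
      rw [← Finset.add_sum_Ioc_eq_sum_Icc hle, ← Finset.Icc_add_one_left_eq_Ioc, h3]
    have hS : ∑ n ∈ Finset.Icc a M, (∑ m ∈ Finset.Icc n M, g m) =
        (∑ m ∈ Finset.Icc a M, g m) + ∑ n ∈ Finset.Icc (a + 1) M, (∑ m ∈ Finset.Icc n M, g m) := by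
      rcases le_or_gt a M with h | h
      · rw [← Finset.add_sum_Ioc_eq_sum_Icc h, ← Finset.Icc_add_one_left_eq_Ioc]
      · have h1 : Finset.Icc a M = ∅ := Finset.Icc_eq_empty (by omega)
        have h2 : Finset.Icc (a + 1) M = ∅ := Finset.Icc_eq_empty (by omega)
        rw [h1, h2]
        simp
    have h3 : a - 1 + 1 = a := by omega
    rw [hcons, hcons g, h3, hS, ih]
    push_cast
    ring

theorem key (g : ℤ → ℚ) (M a : ℤ) :
    ∑ n ∈ Finset.Icc a M, (n : ℚ) * g n =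
      ∑ n ∈ Finset.Icc (a + 1) M, (∑ m ∈ Finset.Icc n M, g m) +
        (a : ℚ) * ∑ m ∈ Finset.Icc a M, g m := by
  rcases le_or_gt a (M + 1) with h | h
  · have := key_nat g M (M + 1 - a).toNat
    have h1 : M + 1 - ((M + 1 - a).toNat : ℤ) = a := by
      rw [Int.toNat_of_nonneg (by omega)]
      omega
    rw [h1] at this
    exact this
  · have h1 : Finset.Icc a M = ∅ := Finset.Icc_eq_empty (by omega)
    have h2 : Finset.Icc (a + 1) M = ∅ := Finset.Icc_eq_empty (by omega)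
    rw [h1, h2]
    simp

/-- Let B = ⊕_{n ∈ ℤ} ⊕_τ B^n_τ be a bigraded finite-dimensional vector space, τ running over a finite
index set, with B^n = 0 for n < −N and for n > M (N, M integers); put d(n, τ) = dim B^n_τ. For
rational numbers φ_τ write φ(C) = Σ_τ φ_τ dim C_τ for a τ-graded piece C, and let B^{≥n} = ⊕_{m ≥ n}
B^m, so that dim B^{≥n}_τ = Σ_{n ≤ m ≤ M} d(m, τ). Then Σ_{−N ≤ n ≤ M} n · φ(B^n) = Σ_{−N+1 ≤ n ≤ M}
φ(B^{≥n}) − N · φ(B). (Stated directly on the dimension function d.) -/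
theorem result {τ : Type u} [Fintype τ] (d : ℤ → τ → ℕ) (φ : τ → ℚ) (N M : ℤ)
    (hN : ∀ n, n < -N → d n = 0) (hM : ∀ n, M < n → d n = 0) :
    ∑ n ∈ Finset.Icc (-N) M, (n : ℚ) * (∑ t, φ t * (d n t : ℚ)) =
      ∑ n ∈ Finset.Icc (-N + 1) M, (∑ t, φ t * (∑ m ∈ Finset.Icc n M, (d m t : ℚ))) -
        (N : ℚ) * (∑ t, φ t * (∑ m ∈ Finset.Icc (-N) M, (d m t : ℚ))) := by
  have hk : ∀ t, ∑ n ∈ Finset.Icc (-N) M, (n : ℚ) * (d n t : ℚ) =
      ∑ n ∈ Finset.Icc (-N + 1) M, (∑ m ∈ Finset.Icc n M, (d m t : ℚ)) +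
        ((-N : ℤ) : ℚ) * ∑ m ∈ Finset.Icc (-N) M, (d m t : ℚ) := fun t => key (fun m => (d m t : ℚ)) M (-N)
  have hL : ∑ n ∈ Finset.Icc (-N) M, (n : ℚ) * (∑ t, φ t * (d n t : ℚ)) =
      ∑ t, φ t * ∑ n ∈ Finset.Icc (-N) M, (n : ℚ) * (d n t : ℚ) := by
    simp only [Finset.mul_sum]
    rw [Finset.sum_comm]
    refine Finset.sum_congr rfl (fun t _ => Finset.sum_congr rfl (fun n _ => by ring))
  have hR : ∑ n ∈ Finset.Icc (-N + 1) M, (∑ t, φ t * (∑ m ∈ Finset.Icc n M, (d m t : ℚ))) =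
      ∑ t, φ t * ∑ n ∈ Finset.Icc (-N + 1) M, (∑ m ∈ Finset.Icc n M, (d m t : ℚ)) := by
    rw [Finset.sum_comm]
    refine Finset.sum_congr rfl (fun t _ => ?_)
    rw [Finset.mul_sum]
  rw [hL, hR, Finset.mul_sum, ← Finset.sum_sub_distrib]
  refine Finset.sum_congr rfl (fun t _ => ?_)
  rw [hk t]
  push_cast
  ring

end Groth.Agent.S16014
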