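import Groth.Statements.S16015
import Mathlib.RingTheory.Finiteness.Projective
import Mathlib.LinearAlgebra.TensorProduct.RightExactness
import Mathlib.LinearAlgebra.Pi
import Mathlib.RingTheory.Ideal.Quotient.Operations

set_option autoImplicit false
universe u v w
open W4c3ghconstell

namespace Groth.Agent.S16015

/-- Let B be a commutative ring, E a B-module, F a finitely generated projective B-module and β : E → F
a B-linear map. Then there is a unique ideal I of B such that for every commutative B-algebra C the
base change β_C : C ⊗ E → C ⊗ F is zero if and only if the structure map B → C kills I. (The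
published statement is for a homomorphism of modules on a scheme T into a locally free module and
produces a closed subscheme T₀ through which a morphism factors exactly when the pulled-back
homomorphism vanishes; this row is the case of an affine T with affine test schemes and F of finite
rank, to which it reduces.) -/
theorem result {B : Type u} [CommRing B]
    {E : Type v} [AddCommGroup E] [Module B E]
    {F : Type w} [AddCommGroup F] [Module B F] [Module.Finite B F] [Module.Projective B F]
    (β : E →ₗ[B] F) :
    ∃! I : Ideal B, ∀ (C : Type u) [CommRing C] [Algebra B C],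
      LinearMap.baseChange C β = 0 ↔ I ≤ RingHom.ker (algebraMap B C) := by
  classical
  obtain ⟨n, f, g, -, -, hfg⟩ := Module.Finite.exists_comp_eq_id_of_projective B F
  set I : Ideal B := Ideal.span {b : B | ∃ (e : E) (i : Fin n), b = g (β e) i} with hI
  have hprop : ∀ (C : Type u) [CommRing C] [Algebra B C],
      LinearMap.baseChange C β = 0 ↔ I ≤ RingHom.ker (algebraMap B C) := by
    intro C _ _
    constructor
    · intro h0
      rw [hI, Ideal.span_le]
      rintro b ⟨e, i, rfl⟩
      rw [SetLike.mem_coe, RingHom.mem_ker]
      let φ : F →ₗ[B] B := (LinearMap.proj i) ∘ₗ g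
      let Φ : TensorProduct B C F →ₗ[B] C :=
        (TensorProduct.rid B C).toLinearMap ∘ₗ (LinearMap.lTensor C φ)
      have h1 : Φ ((1 : C) ⊗ₜ[B] β e) = algebraMap B C (g (β e) i) := by
        simp only [Φ, φ, LinearMap.comp_apply, LinearMap.lTensor_tmul, LinearEquiv.coe_coe,
          TensorProduct.rid_tmul, LinearMap.proj_apply]
        rw [Algebra.algebraMap_eq_smul_one]
      have h2 : (1 : C) ⊗ₜ[B] β e = LinearMap.baseChange C β ((1 : C) ⊗ₜ[B] e) := by
        rw [LinearMap.baseChange_tmul]
      rw [← h1, h2, h0]
      simp
    · intro hle
      apply LinearMap.ext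
      intro x
      induction x using TensorProduct.induction_on with
      | zero => simp
      | add x y hx hy => rw [map_add, hx, hy]; simp
      | tmul c e =>
        rw [LinearMap.baseChange_tmul, LinearMap.zero_apply]
        have h3 : β e = f (g (β e)) := by
          have := LinearMap.congr_fun hfg (β e)
          simpa using this.symm
        rw [h3, LinearMap.pi_apply_eq_sum_univ f (g (β e)), TensorProduct.tmul_sum]
        apply Finset.sum_eq_zero
        intro i _
        rw [TensorProduct.tmul_smul, TensorProduct.smul_tmul']
        have : g (β e) i ∈ I := Ideal.subset_span ⟨e, i, rfl⟩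
        have h4 := hle this
        rw [RingHom.mem_ker] at h4
        rw [Algebra.smul_def, h4, zero_mul, TensorProduct.zero_tmul]
  refine ⟨I, hprop, ?_⟩
  intro I' hI'
  have key : ∀ (J J' : Ideal B), (∀ (C : Type u) [CommRing C] [Algebra B C],
      LinearMap.baseChange C β = 0 ↔ J ≤ RingHom.ker (algebraMap B C)) →
      (∀ (C : Type u) [CommRing C] [Algebra B C],
      LinearMap.baseChange C β = 0 ↔ J' ≤ RingHom.ker (algebraMap B C)) → J' ≤ J := by
    intro J J' hJ hJ'
    have h5 : J ≤ RingHom.ker (algebraMap B (B ⧸ J)) := by
      rw [Ideal.Quotient.algebraMap_eq, Ideal.mk_ker]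
    have h6 := (hJ' (B ⧸ J)).mp ((hJ (B ⧸ J)).mpr h5)
    rwa [Ideal.Quotient.algebraMap_eq, Ideal.mk_ker] at h6
  exact le_antisymm (key I I' hprop hI') (key I' I hI' hprop)

end Groth.Agent.S16015
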