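import Groth.Statements.S16016
import Mathlib.LinearAlgebra.Span.Basic
import Mathlib.Tactic.FinCases
import Mathlib.Tactic.LinearCombination
import Mathlib.Tactic.FieldSimp

set_option autoImplicit false
universe u
open W4c3ghconstell

namespace Groth.Agent.S16016

theorem entry_formula (k : Type*) [Field k] (A : Matrix (Fin 3 ⊕ Fin 3) (Fin 3 ⊕ Fin 3) k) (i j : Fin 3 ⊕ Fin 3) :
   ((A.transpose * Matrix.fromBlocks (0 : Matrix (Fin 3) (Fin 3) k) 1 1 0 +
        Matrix.fromBlocks (0 : Matrix (Fin 3) (Fin 3) k) 1 1 0 * A) : Matrix (Fin 3 ⊕ Fin 3) (Fin 3 ⊕ Fin 3) k) i j = A (Sum.swap j) i + A (Sum.swap i) j := by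
  rcases i with i | i <;> rcases j with j | j <;>
  simp [Matrix.add_apply, Matrix.mul_apply, Fintype.sum_sum_type, Matrix.fromBlocks_apply₁₁,
    Matrix.fromBlocks_apply₁₂, Matrix.fromBlocks_apply₂₁, Matrix.fromBlocks_apply₂₂, Matrix.one_apply]

theorem range_iff (k : Type*) [Field k] (A : Matrix (Fin 3 ⊕ Fin 3) (Fin 3 ⊕ Fin 3) k) :
    LinearMap.range (Matrix.mulVecLin A.transpose) ≤
        Submodule.span k {Pi.single (Sum.inl 0 : Fin 3 ⊕ Fin 3) (1 : k), Pi.single (Sum.inl 1 : Fin 3 ⊕ Fin 3) (1 : k)} ↔
    ∀ i j, j ≠ Sum.inl 0 → j ≠ Sum.inl 1 → A i j = 0 := by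
  constructor
  · intro h i j hj0 hj1
    have hmem : A.transpose.mulVecLin (Pi.single i 1) ∈ LinearMap.range (Matrix.mulVecLin A.transpose) :=
      LinearMap.mem_range_self _ _
    have h2 := h hmem
    rw [Submodule.mem_span_pair] at h2
    obtain ⟨α, β, hαβ⟩ := h2
    have h3 := congrFun hαβ j
    simp only [Matrix.mulVecLin_apply, Matrix.mulVec_single_one, Pi.add_apply, Pi.smul_apply,
      smul_eq_mul] at h3
    rw [Pi.single_eq_of_ne hj0, Pi.single_eq_of_ne hj1] at h3
    simp only [mul_zero, add_zero] at h3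
    rw [← Matrix.transpose_apply A j i]
    exact h3.symm
  · intro h
    rintro _ ⟨v, rfl⟩
    rw [Submodule.mem_span_pair]
    refine ⟨(A.transpose.mulVecLin v) (Sum.inl 0), (A.transpose.mulVecLin v) (Sum.inl 1), ?_⟩
    ext j
    by_cases hj0 : j = Sum.inl 0
    · subst hj0
      simp
    · by_cases hj1 : j = Sum.inl 1
      · subst hj1
        simp
      · simp only [Pi.add_apply, Pi.smul_apply, smul_eq_mul, Pi.single_eq_of_ne hj0,
          Pi.single_eq_of_ne hj1, mul_zero, add_zero, Matrix.mulVecLin_apply]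
        rw [Matrix.mulVec, dotProduct]
        symm
        apply Finset.sum_eq_zero
        intro i _
        rw [Matrix.transpose_apply, h i j hj0 hj1, zero_mul]

/-- Let k be a field with 2 ≠ 0, index k⁶ by two copies of {0,1,2} (basis vectors p₁, p₂, p₃ in the
first copy and p₄, p₅, p₆ in the second), let Q be the symmetric matrix with blocks ((0, 1), (1,
0)), so that the form it defines pairs pᵢ with pᵢ₊₃, and let W₀ be the span of p₁ and p₂. Then a 6 ×
6 matrix A satisfies AᵀQ + QA = 0 (A lies in the orthogonal Lie algebra of Q) and has the image of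
Aᵀ contained in W₀ if and only if A = a · (E₄₂ − E₅₁) for some scalar a, where Eᵢⱼ is the matrix
unit. (The lemma in the source concludes that the set of such A inside a certain nilpotent orbit
closure of this Lie algebra is one-dimensional; this row is the computation its proof performs,
which determines all such A in the Lie algebra. Characteristic 2 is excluded: there E₁₄ᵀ also
qualifies.) -/
theorem result (k : Type u) [Field k] (h2 : (2 : k) ≠ 0)
    (A : Matrix (Fin 3 ⊕ Fin 3) (Fin 3 ⊕ Fin 3) k) :
    (A.transpose * Matrix.fromBlocks (0 : Matrix (Fin 3) (Fin 3) k) 1 1 0 +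
        Matrix.fromBlocks (0 : Matrix (Fin 3) (Fin 3) k) 1 1 0 * A = 0 ∧
      LinearMap.range (Matrix.mulVecLin A.transpose) ≤
        Submodule.span k {Pi.single (Sum.inl 0 : Fin 3 ⊕ Fin 3) (1 : k), Pi.single (Sum.inl 1 : Fin 3 ⊕ Fin 3) (1 : k)}) ↔
    ∃ a : k, A = a • (Matrix.single (Sum.inr 0) (Sum.inl 1) (1 : k) - Matrix.single (Sum.inr 1) (Sum.inl 0) (1 : k)) := by
  rw [range_iff]
  constructor
  · rintro ⟨hM, hsupp⟩
    have hM' : ∀ i j, A (Sum.swap j) i + A (Sum.swap i) j = 0 := by
      intro i j
      rw [← entry_formula k A i j, hM]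
      rfl
    have L1 : ∀ x y, A (Sum.inl x) (Sum.inl y) = 0 := by
      intro x y
      have := hM' (Sum.inr x) (Sum.inl y)
      simp only [Sum.swap_inl, Sum.swap_inr] at this
      rw [hsupp (Sum.inr y) (Sum.inr x) (by simp) (by simp), zero_add] at this
      exact this
    have L2 : ∀ x y, A (Sum.inl x) (Sum.inr y) = 0 := fun x y => hsupp _ _ (by simp) (by simp)
    have L3 : ∀ x y, A (Sum.inr x) (Sum.inr y) = 0 := fun x y => hsupp _ _ (by simp) (by simp)
    have L4 : ∀ x y, A (Sum.inr y) (Sum.inl x) + A (Sum.inr x) (Sum.inl y) = 0 := by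
      intro x y
      have := hM' (Sum.inl x) (Sum.inl y)
      simpa using this
    have L5 : ∀ x, A (Sum.inr x) (Sum.inl 2) = 0 := fun x => hsupp _ _ (by decide) (by decide)
    have L6 : ∀ y, A (Sum.inr 2) (Sum.inl y) = 0 := by
      intro y
      have := L4 2 y
      rw [L5, zero_add] at this
      exact this
    have L7 : ∀ x, A (Sum.inr x) (Sum.inl x) = 0 := by
      intro x
      have := L4 x x
      have h3 : (2 : k) * A (Sum.inr x) (Sum.inl x) = 0 := by linear_combination this
      rcases mul_eq_zero.mp h3 with h | h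
      · exact absurd h h2
      · exact h
    refine ⟨A (Sum.inr 0) (Sum.inl 1), ?_⟩
    ext i j
    rcases i with x | x <;> rcases j with y | y
    · rw [L1]; simp [Matrix.single_apply]
    · rw [L2]; simp [Matrix.single_apply]
    · have h10 := L4 0 1
      fin_cases x <;> fin_cases y <;>
        simp [Matrix.single_apply, L5, L6, L7] <;> linear_combination h10
    · rw [L3]; simp [Matrix.single_apply]
  · rintro ⟨a, rfl⟩
    constructor
    · ext i j
      rw [entry_formula]
      rcases i with x | x <;> rcases j with y | y <;> fin_cases x <;> fin_cases y <;>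
        simp [Matrix.single_apply]
    · intro i j hj0 hj1
      simp only [Matrix.smul_apply, Matrix.sub_apply, Matrix.single_apply, smul_eq_mul]
      rw [if_neg (fun h => hj1 h.2.symm), if_neg (fun h => hj0 h.2.symm)]
      simp

end Groth.Agent.S16016
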