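import Groth.Statements.S16017
import Mathlib.Topology.Algebra.InfiniteSum.Real
import Mathlib.Analysis.Normed.Group.InfiniteSum
import Mathlib.Topology.Algebra.Order.LiminfLimsup
import Mathlib.Analysis.Normed.Field.Lemmas
import Mathlib.Analysis.Normed.Module.FiniteDimension

set_option autoImplicit false
universe u
open W4c3ghconstell

namespace Groth.Agent.S16017

/-- Let ι index the irreducible representations, θ : ι → ℚ a weight negative at only finitely many
indices (the finite set D₋), h h' : ι → ℕ with h' ≤ h pointwise (the isotypic dimensions of an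
object and of a sub-object) and Σ_i θ_i h_i summable. For a finite set D of indices put S_D = Σ_{i ∉
D} θ_i h_i, d = #(D ∖ D₋), and θ̃_D = Σ_{i ∈ D} θ_i h'_i + (S_D / d) · Σ_{i ∈ D ∖ D₋} h'_i / h_i,
the modified weight attached to the parameters chosen for D (for D ⊇ D₋ the first sum is the
negative part plus the part over D ∖ D₋). Then θ̃_D tends to Σ_i θ_i h'_i as D grows through the
finite subsets of ι. (Here D runs over all finite sets of indices and a quotient by zero is zero;
the source lets D run over the finite subsets of the locus θ ≠ 0 containing D₋, and the same tail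
estimate gives both.) -/
theorem result {ι : Type u} [DecidableEq ι] (θ : ι → ℚ) (h h' : ι → ℕ)
    (hle : ∀ i, h' i ≤ h i) (hfin : {i | θ i < 0}.Finite)
    (hsum : Summable (fun i => (θ i : ℝ) * (h i : ℝ))) :
    Filter.Tendsto
      (fun D : Finset ι =>
        (∑ i ∈ D, (θ i : ℝ) * (h' i : ℝ)) +
          ((∑' i, if i ∈ D then (0 : ℝ) else (θ i : ℝ) * (h i : ℝ)) / ((D \ hfin.toFinset).card : ℝ)) *
            ∑ i ∈ D \ hfin.toFinset, ((h' i : ℝ) / (h i : ℝ)))
      Filter.atTop (nhds (∑' i, (θ i : ℝ) * (h' i : ℝ))) := by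
  classical
  set f : ι → ℝ := fun i => (θ i : ℝ) * (h i : ℝ) with hf
  set f' : ι → ℝ := fun i => (θ i : ℝ) * (h' i : ℝ) with hf'
  have hsum' : Summable f' := by
    apply Summable.of_norm_bounded (g := fun i => ‖f i‖) (summable_norm_iff.mpr hsum)
    intro i
    simp only [hf, hf', norm_mul]
    apply mul_le_mul_of_nonneg_left _ (norm_nonneg _)
    simp only [Real.norm_natCast]
    exact_mod_cast hle i
  have hT : ∀ D : Finset ι, (∑' i, if i ∈ D then (0 : ℝ) else f i) = (∑' i, f i) - ∑ i ∈ D, f i := by
    intro D
    have h1 : (∑' i, (if i ∈ D then f i else 0)) = ∑ i ∈ D, f i := by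
      rw [tsum_eq_sum (s := D)]
      · apply Finset.sum_congr rfl
        intro i hi
        simp [hi]
      · intro i hi
        simp [hi]
    have hs2 : Summable (fun i => if i ∈ D then f i else 0) := by
      apply summable_of_ne_finset_zero (s := D)
      intro i hi
      simp [hi]
    have h2 : (fun i => if i ∈ D then (0 : ℝ) else f i) = fun i => f i - (if i ∈ D then f i else 0) := by
      ext i
      split_ifs <;> simp
    rw [h2, hsum.tsum_sub hs2, h1]
  have hT0 : Filter.Tendsto (fun D : Finset ι => ∑' i, if i ∈ D then (0 : ℝ) else f i)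
      Filter.atTop (nhds 0) := by
    have := (tendsto_const_nhds (x := ∑' i, f i)).sub hsum.hasSum
    rw [sub_self] at this
    refine this.congr ?_
    intro D
    rw [hT]
  have hmain : Filter.Tendsto (fun D : Finset ι =>
      ((∑' i, if i ∈ D then (0 : ℝ) else f i) / ((D \ hfin.toFinset).card : ℝ)) *
            ∑ i ∈ D \ hfin.toFinset, ((h' i : ℝ) / (h i : ℝ))) Filter.atTop (nhds 0) := by
    have hT0' : Filter.Tendsto (fun D : Finset ι => ‖∑' i, if i ∈ D then (0 : ℝ) else f i‖)
        Filter.atTop (nhds 0) := by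
      have := hT0.norm
      rwa [norm_zero] at this
    apply squeeze_zero_norm _ hT0'
    intro D
    set c : ℝ := ((D \ hfin.toFinset).card : ℝ) with hc
    set S : ℝ := ∑ i ∈ D \ hfin.toFinset, ((h' i : ℝ) / (h i : ℝ)) with hS
    set T : ℝ := ∑' i, if i ∈ D then (0 : ℝ) else f i with hTdef
    have hc0 : 0 ≤ c := Nat.cast_nonneg _
    have hS0 : 0 ≤ S := Finset.sum_nonneg fun i _ => div_nonneg (Nat.cast_nonneg _) (Nat.cast_nonneg _)
    have hSc : S ≤ c := by
      have : S ≤ (D \ hfin.toFinset).card • (1 : ℝ) := by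
        apply Finset.sum_le_card_nsmul
        intro i _
        apply div_le_one_of_le₀ _ (Nat.cast_nonneg _)
        exact_mod_cast hle i
      simpa using this
    rw [norm_mul, norm_div, Real.norm_of_nonneg hc0, Real.norm_of_nonneg hS0, div_mul_eq_mul_div,
      mul_div_assoc]
    have : S / c ≤ 1 := div_le_one_of_le₀ hSc hc0
    calc ‖T‖ * (S / c) ≤ ‖T‖ * 1 := mul_le_mul_of_nonneg_left this (norm_nonneg _)
      _ = ‖T‖ := mul_one _
  have h3 : Filter.Tendsto (fun D : Finset ι => ∑ i ∈ D, f' i) Filter.atTop (nhds (∑' i, f' i)) :=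
    hsum'.hasSum
  have := Filter.Tendsto.add h3 hmain
  rw [add_zero] at this
  exact this

end Groth.Agent.S16017
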