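import Groth.Statements.S16023
import Mathlib
import Groth.Prelude.Def_CechEdge
import Groth.Agent.Lib.Helper24.CechInj

set_option autoImplicit false
universe u
open CategoryTheory CategoryTheory.Limits Opposite
open CechEdge

namespace Groth.Agent.S16023


open Groth.Agent.Helper24.CechEv Groth.Agent.Helper24.CechDelta Groth.Agent.Helper24.CechEff
  Groth.Agent.Helper24.CechH Groth.Agent.Helper24.CechEdgeLib Groth.Agent.Helper24.CechInj

theorem edge_one_injective {C : Type u} [SmallCategory C] [HasPullbacks C]
    (J : GrothendieckTopology C) {U : C} {ι : Type u} (Y : ι → Over U)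
    (e : ∀ (P : Cᵒᵖ ⥤ AddCommGrpCat.{u}) (p : ℕ), CohCx.cechH P Y p →+ CohSite.HU (CechEdge.shf J P) p U)
    (he : CechEdge.IsEdge J Y e) (F : Sheaf J AddCommGrpCat.{u}) :
    Function.Injective (e F.obj 1) := by
  have := Groth.Agent.Helper24.DeltaChase.injective_succ (Groth.Agent.S16020.homOfEdge J Y e he)
    (sesP (Injective.ι F)) (sesP_shortExact (Injective.ι F)) 0
    (isZero_cech_of_injective Y (Injective.under F).obj 0)
    (edge_zero_bijective J Y e he (Injective.under F)).2
    (edge_zero_injective_coker J Y e he (Injective.ι F))
  exact this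

/-- On a small site with fibre products, for a family of objects over U carrying an edge family (in
particular it covers U) and an abelian sheaf F, the comparison map from the degree-1 Cech cohomology
of F with respect to the family to H^1(U, F) is injective. -/
theorem result {C : Type u} [SmallCategory C] [HasPullbacks C]
    (J : GrothendieckTopology C) {U : C} {ι : Type u} (Y : ι → Over U)
    (e : ∀ (P : Cᵒᵖ ⥤ AddCommGrpCat.{u}) (p : ℕ), CohCx.cechH P Y p →+ CohSite.HU (CechEdge.shf J P) p U)
    (he : CechEdge.IsEdge J Y e) (F : Sheaf J AddCommGrpCat.{u}) :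
    Function.Injective (CechEdge.edgeSh e F 1) := by
  unfold CechEdge.edgeSh
  exact (Groth.Agent.S16020.HUmap_injective_of_isIso J
    ((sheafificationAdjunction J AddCommGrpCat.{u}).counit.app F) 1 U).comp
    (edge_one_injective J Y e he F)

end Groth.Agent.S16023
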