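import Groth.Statements.S16030

set_option autoImplicit false
universe u
open CAlg

namespace Groth.Agent.S16030

/-- For a finite set F of points of the spectrum of a commutative ring A and an open subset U containing
F, some basic open D(a) contains F and is contained in U. -/
theorem result
    (A : Type u) [CommRing A] (F : Set (PrimeSpectrum A)) (hF : F.Finite)
    (U : TopologicalSpace.Opens (PrimeSpectrum A)) (hFU : F ⊆ (U : Set (PrimeSpectrum A))) :
    ∃ a : A, F ⊆ (PrimeSpectrum.basicOpen a : Set (PrimeSpectrum A)) ∧ PrimeSpectrum.basicOpen a ≤ U := by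
  classical
  rcases F.eq_empty_or_nonempty with hFe | ⟨p₀, hp₀⟩
  · refine ⟨0, by simp [hFe], ?_⟩
    intro q hq
    rw [PrimeSpectrum.mem_basicOpen] at hq
    exact absurd (zero_mem _) hq
  obtain ⟨I, hI⟩ := (PrimeSpectrum.isClosed_iff_zeroLocus_ideal _).mp (isClosed_compl_iff.mpr U.2)
  have hmem : ∀ q : PrimeSpectrum A, q ∈ (U : Set (PrimeSpectrum A)) ↔ ¬ (I ≤ q.asIdeal) := by
    intro q
    have : q ∈ ((U : Set (PrimeSpectrum A))ᶜ) ↔ q ∈ PrimeSpectrum.zeroLocus (I : Set A) := by
      show q ∈ U.carrierᶜ ↔ _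
      rw [hI]
    rw [Set.mem_compl_iff, PrimeSpectrum.mem_zeroLocus, SetLike.coe_subset_coe] at this
    tauto
  let s : Finset (PrimeSpectrum A) := hF.toFinset
  have hnot : ¬ ((I : Set A) ⊆ ⋃ i ∈ (↑s : Set (PrimeSpectrum A)), (i.asIdeal : Set A)) := by
    intro hsub
    have h1 := (Ideal.subset_union_prime (f := fun i : PrimeSpectrum A => i.asIdeal) (s := s)
      p₀ p₀ (fun i _ _ _ => i.isPrime)).mp hsub
    obtain ⟨i, his, hi⟩ := h1
    have hiF : i ∈ F := by simpa [s] using his
    exact (hmem i).mp (hFU hiF) hi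
  rw [Set.not_subset] at hnot
  obtain ⟨a, haI, hanot⟩ := hnot
  refine ⟨a, ?_, ?_⟩
  · intro q hq
    show q ∈ PrimeSpectrum.basicOpen a
    rw [PrimeSpectrum.mem_basicOpen]
    intro haq
    apply hanot
    simp only [Set.mem_iUnion]
    exact ⟨q, by simpa [s] using hq, haq⟩
  · intro q hq
    rw [PrimeSpectrum.mem_basicOpen] at hq
    show q ∈ (U : Set (PrimeSpectrum A))
    rw [hmem]
    intro hle
    exact hq (hle haI)

end Groth.Agent.S16030
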