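import Groth.Statements.S16048
import Groth.Agent.Lib.Helper18.Schl.PSMiniversal

set_option autoImplicit false
universe u v
open CategoryTheory
open ArtFun

namespace Groth.Agent.S16048

/-- Let Λ be a complete local Noetherian ring with residue field k and F a functor on Artinian local
Λ-algebras with residue field k which admits a hull. A family ξ of F over a complete local
Noetherian Λ-algebra R with residue field k such that R is isomorphic over Λ to a power series ring
Λ[[t_1, …, t_n]] and the induced map on tangent spaces h_R(k[ε]) → F(k[ε]) is bijective is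
miniversal. (The source states this for the deformation functor of a rational double point over the
Witt vectors of an algebraically closed field, with the Kodaira–Spencer map as the tangent map and
the existence of a hull taken from Schlessinger's criteria; the argument uses only the existence of
a hull, so the hull is carried as a hypothesis and Λ is any complete local Noetherian ring with
residue field k.) -/
theorem result {Λ : Type u} {k : Type u}
    [CommRing Λ] [Field k] [Algebra Λ k] [IsNoetherianRing Λ] [Module.Finite Λ k]
    [IsLocalRing Λ] [IsAdicComplete (IsLocalRing.maximalIdeal Λ) Λ]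
    (hk : Function.Surjective (algebraMap Λ k))
    {F : ArtFun.Art Λ k ⥤ Type v} (hF : ArtFun.HasHull F)
    (R : ArtFun.CRing Λ k) (n : ℕ) (e : R.carrier ≃ₐ[Λ] MvPowerSeries (Fin n) Λ)
    (ξ : ArtFun.Family R.carrier R.res F)
    (hξ : Function.Bijective (ArtFun.TangentSpace.ofFamily ξ)) :
    ArtFun.IsMiniversal ξ := by
  obtain ⟨H⟩ := hF
  have hξ' : Function.Bijective (ξ.app (ArtFun.Art.dual Λ k)) := hξ
  have h0 : ArtFun.H0 F := Groth.Agent.Helper18.h0_of_tangent_surjective ξ hξ'.2
  have hsurj₀ := fun A => Groth.Agent.Helper18.surjective_app_of_isVersal h0 H.family H.miniversal.1 A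
  obtain ⟨u, hu, hux⟩ := Groth.Agent.Helper18.exists_along_eq_of_isVersal H.family H.miniversal.1
    hsurj₀ R ξ
  have hsm := Groth.Agent.Helper18.homSmooth_of_equiv hk n R e
  have htan : Function.Surjective (fun w : ArtFun.HomSet R.carrier R.res (ArtFun.Art.dual Λ k) =>
      Groth.Agent.Helper18.HomSet.pre u hu w) := by
    intro d
    obtain ⟨w, hw⟩ := hξ'.2 (H.family.app _ d)
    refine ⟨w, ?_⟩
    apply H.miniversal.2.1
    change H.family.app _ (Groth.Agent.Helper18.HomSet.pre u hu w) = H.family.app _ d
    rw [← Groth.Agent.Helper18.along_app, hux, hw]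
  refine ⟨?_, hξ'⟩
  rw [← hux]
  exact Groth.Agent.Helper18.isVersal_along_of_smooth H.family H.miniversal.1 u hu hsm htan


end Groth.Agent.S16048
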