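import Groth.Statements.S16051
import Mathlib

set_option autoImplicit false
universe u
open LieAlg

namespace Groth.Agent.S16051


open Matrix

section
variable {O : Type u} [CommRing O] {n : ℕ}

/-- total accessor with integer indices -/
def acc (Z : Matrix (Fin (n + 1)) (Fin (n + 1)) O) (r s : ℤ) : O :=
  if h : (0 ≤ r ∧ r ≤ n) ∧ (0 ≤ s ∧ s ≤ n) then Z ⟨r.toNat, by omega⟩ ⟨s.toNat, by omega⟩ else 0

theorem acc_fin (Z : Matrix (Fin (n + 1)) (Fin (n + 1)) O) (i j : Fin (n + 1)) :
    acc Z ((i : ℕ) : ℤ) ((j : ℕ) : ℤ) = Z i j := by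
  unfold acc
  rw [dif_pos ⟨⟨by omega, by have := i.2; omega⟩, ⟨by omega, by have := j.2; omega⟩⟩]
  congr <;> simp

theorem acc_nat (Z : Matrix (Fin (n + 1)) (Fin (n + 1)) O) (a b : ℕ) (ha : a ≤ n) (hb : b ≤ n) :
    acc Z (a : ℤ) (b : ℤ) = Z ⟨a, by omega⟩ ⟨b, by omega⟩ :=
  acc_fin Z ⟨a, by omega⟩ ⟨b, by omega⟩

theorem acc_out (Z : Matrix (Fin (n + 1)) (Fin (n + 1)) O) (r s : ℤ)
    (h : ¬ ((0 ≤ r ∧ r ≤ n) ∧ (0 ≤ s ∧ s ≤ n))) : acc Z r s = 0 := by
  unfold acc; rw [dif_neg h]

theorem acc_add (Z Z' : Matrix (Fin (n + 1)) (Fin (n + 1)) O) (r s : ℤ) :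
    acc (Z + Z') r s = acc Z r s + acc Z' r s := by
  unfold acc; split_ifs <;> simp

theorem acc_smul (c : O) (Z : Matrix (Fin (n + 1)) (Fin (n + 1)) O) (r s : ℤ) :
    acc (c • Z) r s = c * acc Z r s := by
  unfold acc; split_ifs <;> simp

theorem acc_sub (Z Z' : Matrix (Fin (n + 1)) (Fin (n + 1)) O) (r s : ℤ) :
    acc (Z - Z') r s = acc Z r s - acc Z' r s := by
  unfold acc; split_ifs <;> simp

/-- block part -/
def blk (Z : Matrix (Fin (n + 1)) (Fin (n + 1)) O) (r s : ℤ) : O :=
  if r < n ∧ s < n then acc Z r s else 0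

/-- diagonal sums through (n-1, j) -/
def dsum (Z : Matrix (Fin (n + 1)) (Fin (n + 1)) O) (j : ℤ) : O :=
  ∑ t ∈ Finset.range n, blk Z (n - 1 - t) (j - t)

/-- commutator formula -/
theorem comm_acc (X Y : Matrix (Fin (n + 1)) (Fin (n + 1)) O)
    (hx : ∀ i j : Fin (n + 1), X i j = if j.val = i.val + 1 ∧ j.val < n then 1 else 0)
    (r s : ℤ) (hr : 0 ≤ r ∧ r ≤ n) (hs : 0 ≤ s ∧ s ≤ n) :
    acc (X * Y - Y * X) r s =
      (if r + 1 < n then acc Y (r + 1) s else 0) -
        (if 1 ≤ s ∧ s < n then acc Y r (s - 1) else 0) := by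
  obtain ⟨a, rfl⟩ := Int.eq_ofNat_of_zero_le hr.1
  obtain ⟨b, rfl⟩ := Int.eq_ofNat_of_zero_le hs.1
  have ha : a ≤ n := by omega
  have hb : b ≤ n := by omega
  rw [acc_nat _ a b ha hb, Matrix.sub_apply, Matrix.mul_apply, Matrix.mul_apply]
  congr 1
  · by_cases h : (a : ℤ) + 1 < n
    · rw [if_pos h]
      have h' : a + 1 < n := by omega
      rw [Finset.sum_eq_single (⟨a + 1, by omega⟩ : Fin (n + 1))]
      · rw [hx]; simp only [true_and, if_pos h', one_mul]
        have := acc_nat Y (a + 1) b (by omega) hb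
        push_cast at this
        rw [this]
      · intro k _ hk
        rw [hx]
        have : ¬ (k.val = a + 1 ∧ k.val < n) := by
          rintro ⟨h1, _⟩; exact hk (Fin.ext h1)
        simp [this]
      · intro h; exact absurd (Finset.mem_univ _) h
    · rw [if_neg h]
      apply Finset.sum_eq_zero
      intro k _
      rw [hx]
      have : ¬ (k.val = a + 1 ∧ k.val < n) := by
        rintro ⟨h1, h2⟩; apply h; omega
      simp [this]
  · by_cases h : 1 ≤ (b : ℤ) ∧ (b : ℤ) < n
    · rw [if_pos h]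
      have h' : 1 ≤ b ∧ b < n := by omega
      rw [Finset.sum_eq_single (⟨b - 1, by omega⟩ : Fin (n + 1))]
      · rw [hx]
        have : (b = b - 1 + 1 ∧ b < n) := by omega
        simp only [if_pos this, mul_one]
        have := acc_nat Y a (b - 1) ha (by omega)
        rw [Nat.cast_sub h'.1] at this
        push_cast at this
        rw [this]
      · intro k _ hk
        rw [hx]
        have : ¬ (b = k.val + 1 ∧ b < n) := by
          rintro ⟨h1, _⟩; apply hk; apply Fin.ext; simp; omega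
        simp [this]
      · intro h; exact absurd (Finset.mem_univ _) h
    · rw [if_neg h]
      apply Finset.sum_eq_zero
      intro k _
      rw [hx]
      have : ¬ (b = k.val + 1 ∧ b < n) := by
        rintro ⟨h1, h2⟩; apply h; omega
      simp [this]

theorem blk_comm (X Y : Matrix (Fin (n + 1)) (Fin (n + 1)) O)
    (hx : ∀ i j : Fin (n + 1), X i j = if j.val = i.val + 1 ∧ j.val < n then 1 else 0)
    (r s : ℤ) (hr : 0 ≤ r ∧ r < n) (hs : s < n) :
    blk (X * Y - Y * X) r s = blk Y (r + 1) s - blk Y r (s - 1) := by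
  unfold blk
  rw [if_pos ⟨hr.2, hs⟩]
  by_cases h0 : 0 ≤ s
  · rw [comm_acc X Y hx r s ⟨hr.1, by omega⟩ ⟨h0, by omega⟩]
    congr 1
    · by_cases h : r + 1 < n
      · rw [if_pos h, if_pos ⟨h, hs⟩]
      · rw [if_neg h, if_neg (fun hh => h hh.1)]
    · have e2 : (if r < n ∧ s - 1 < n then acc Y r (s - 1) else 0) = acc Y r (s - 1) :=
        if_pos ⟨hr.2, by omega⟩
      rw [e2]
      by_cases h : 1 ≤ s
      · rw [if_pos ⟨h, hs⟩]
      · rw [if_neg (fun hh => h hh.1), acc_out]; omega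
  · rw [acc_out _ r s (by omega), acc_out _ (r + 1) s (by omega), acc_out _ r (s - 1) (by omega)]
    simp

theorem dsum_comm (X Y : Matrix (Fin (n + 1)) (Fin (n + 1)) O)
    (hx : ∀ i j : Fin (n + 1), X i j = if j.val = i.val + 1 ∧ j.val < n then 1 else 0)
    (j : ℤ) (hj : j < n) : dsum (X * Y - Y * X) j = 0 := by
  unfold dsum
  have : ∀ t ∈ Finset.range n, blk (X * Y - Y * X) (n - 1 - t) (j - t) =
      (fun t : ℕ => blk Y (n - t) (j - t)) t - (fun t : ℕ => blk Y (n - t) (j - t)) (t + 1) := by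
    intro t ht
    rw [Finset.mem_range] at ht
    rw [blk_comm X Y hx _ _ ⟨by omega, by omega⟩ (by omega)]
    simp only [Nat.cast_add, Nat.cast_one]
    congr 2 <;> ring
  rw [Finset.sum_congr rfl this, Finset.sum_range_sub']
  simp only [Nat.cast_zero, sub_zero, sub_self]
  unfold blk
  rw [if_neg (by omega), acc_out _ 0 (j - n) (by omega)]
  simp

/-- the invariants, on all matrices -/
def PhiM : Matrix (Fin (n + 1)) (Fin (n + 1)) O →ₗ[O] (Fin n → O) × O × O where
  toFun Z := (fun j => dsum Z ((j : ℕ) : ℤ), acc Z (n - 1) n, acc Z n 0)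
  map_add' Z Z' := by
    ext j
    · simp [dsum, blk, acc_add, Finset.sum_add_distrib, ← Finset.sum_add_distrib]
      apply Finset.sum_congr rfl; intro t _; split_ifs <;> simp
    · simp [acc_add]
    · simp [acc_add]
  map_smul' c Z := by
    ext j
    · simp [dsum, blk, acc_smul, Finset.mul_sum]
    · simp [acc_smul]
    · simp [acc_smul]

theorem PhiM_comm (X Y : Matrix (Fin (n + 1)) (Fin (n + 1)) O) (hn : 1 ≤ n)
    (hx : ∀ i j : Fin (n + 1), X i j = if j.val = i.val + 1 ∧ j.val < n then 1 else 0) :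
    PhiM (X * Y - Y * X) = 0 := by
  ext j
  · simp only [PhiM, LinearMap.coe_mk, AddHom.coe_mk, Prod.fst_zero, Pi.zero_apply]
    exact dsum_comm X Y hx _ (by have := j.2; omega)
  · simp only [PhiM, LinearMap.coe_mk, AddHom.coe_mk, Prod.snd_zero, Prod.fst_zero]
    rw [comm_acc X Y hx _ _ ⟨by omega, by omega⟩ ⟨by omega, by omega⟩]
    rw [if_neg (by omega), if_neg (by omega)]; simp
  · simp only [PhiM, LinearMap.coe_mk, AddHom.coe_mk, Prod.snd_zero]
    rw [comm_acc X Y hx _ _ ⟨by omega, by omega⟩ ⟨by omega, by omega⟩]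
    rw [if_neg (by omega), if_neg (by omega)]; simp

/-- the solution operator -/
def yfun (Z : Matrix (Fin (n + 1)) (Fin (n + 1)) O) (r s : ℤ) : O :=
  if r < n ∧ s < n then ∑ t ∈ Finset.range n, blk Z (r - 1 - t) (s - t)
  else if r < n ∧ s = n then acc Z (r - 1) n
  else if r = n ∧ s + 1 < n then - acc Z n (s + 1)
  else 0

def Y0 (Z : Matrix (Fin (n + 1)) (Fin (n + 1)) O) : Matrix (Fin (n + 1)) (Fin (n + 1)) O :=
  Matrix.of fun i j => yfun Z ((i : ℕ) : ℤ) ((j : ℕ) : ℤ)

theorem acc_Y0 (Z : Matrix (Fin (n + 1)) (Fin (n + 1)) O) (r s : ℤ)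
    (hr : 0 ≤ r ∧ r ≤ n) (hs : 0 ≤ s ∧ s ≤ n) : acc (Y0 Z) r s = yfun Z r s := by
  obtain ⟨a, rfl⟩ := Int.eq_ofNat_of_zero_le hr.1
  obtain ⟨b, rfl⟩ := Int.eq_ofNat_of_zero_le hs.1
  rw [acc_nat _ a b (by omega) (by omega)]
  rfl

theorem trace_eq (Z : Matrix (Fin (n + 1)) (Fin (n + 1)) O) :
    Matrix.trace Z = dsum Z (n - 1) + acc Z n n := by
  rw [Matrix.trace, Fin.sum_univ_castSucc]
  congr 1
  · unfold dsum
    rw [← Finset.sum_range_reflect, Finset.sum_range]
    apply Finset.sum_congr rfl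
    intro i _
    have hi := i.2
    unfold blk
    have e1 : ((n : ℤ) - 1 - ((n - 1 - (i : ℕ) : ℕ) : ℤ)) = ((i : ℕ) : ℤ) := by
      rw [Nat.cast_sub (by omega), Nat.cast_sub (by omega)]; push_cast; ring
    rw [e1, if_pos ⟨by omega, by omega⟩]
    have := acc_nat Z i i (by omega) (by omega)
    rw [this]
    rfl
  · have := acc_nat Z n n le_rfl le_rfl
    rw [this]; rfl

theorem solve (X Z : Matrix (Fin (n + 1)) (Fin (n + 1)) O) (hn : 1 ≤ n)
    (hx : ∀ i j : Fin (n + 1), X i j = if j.val = i.val + 1 ∧ j.val < n then 1 else 0)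
    (hZ : PhiM Z = 0) (htr : Matrix.trace Z = 0) :
    X * Y0 Z - Y0 Z * X = Z := by
  have hd : ∀ j : ℕ, j < n → dsum Z (j : ℤ) = 0 := by
    intro j hj
    have := congrArg (fun p => p.1 ⟨j, hj⟩) hZ
    simpa [PhiM] using this
  have hu : acc Z (n - 1) n = 0 := by
    have := congrArg (fun p => p.2.1) hZ
    simpa [PhiM] using this
  have hw : acc Z n 0 = 0 := by
    have := congrArg (fun p => p.2.2) hZ
    simpa [PhiM] using this
  have hc : acc Z n n = 0 := by
    have h1 := trace_eq Z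
    have h2 := hd (n - 1) (by omega)
    rw [Nat.cast_sub hn] at h2
    push_cast at h2
    rw [htr, h2, zero_add] at h1
    exact h1.symm
  ext i j
  rw [← acc_fin (X * Y0 Z - Y0 Z * X) i j, ← acc_fin Z i j]
  have hi := i.2
  have hj := j.2
  set r : ℤ := ((i : ℕ) : ℤ) with hr
  set s : ℤ := ((j : ℕ) : ℤ) with hs
  have hr0 : 0 ≤ r := by omega
  have hs0 : 0 ≤ s := by omega
  have hrn : r ≤ n := by omega
  have hsn : s ≤ n := by omega
  rw [comm_acc X (Y0 Z) hx r s ⟨hr0, hrn⟩ ⟨hs0, hsn⟩]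
  by_cases hrlt : r < n
  · by_cases hslt : s < n
    · -- block case
      have t1 : (if r + 1 < (n : ℤ) then acc (Y0 Z) (r + 1) s else 0) =
          ∑ t ∈ Finset.range n, (fun t : ℕ => blk Z (r - t) (s - t)) t := by
        by_cases h : r + 1 < n
        · rw [if_pos h, acc_Y0 _ _ _ ⟨by omega, by omega⟩ ⟨hs0, hsn⟩, yfun, if_pos ⟨h, hslt⟩]
          apply Finset.sum_congr rfl; intro t _; congr 1; ring
        · rw [if_neg h]
          have hrr : r = n - 1 := by omega
          have := hd j.val (by omega)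
          rw [← hs] at this
          rw [← this, dsum, hrr]
      have t2 : (if 1 ≤ s ∧ s < (n : ℤ) then acc (Y0 Z) r (s - 1) else 0) =
          ∑ t ∈ Finset.range n, (fun t : ℕ => blk Z (r - t) (s - t)) (t + 1) := by
        by_cases h : 1 ≤ s
        · rw [if_pos ⟨h, hslt⟩, acc_Y0 _ _ _ ⟨hr0, hrn⟩ ⟨by omega, by omega⟩, yfun,
            if_pos ⟨hrlt, by omega⟩]
          apply Finset.sum_congr rfl; intro t _
          simp only [Nat.cast_add, Nat.cast_one]
          congr 1 <;> ring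
        · rw [if_neg (fun hh => h hh.1)]
          symm
          apply Finset.sum_eq_zero
          intro t _
          simp only [Nat.cast_add, Nat.cast_one]
          unfold blk
          rw [acc_out _ _ _ (by omega)]
          simp
      rw [t1, t2, ← Finset.sum_sub_distrib, Finset.sum_range_sub']
      simp only [Nat.cast_zero, sub_zero]
      unfold blk
      rw [if_pos ⟨hrlt, hslt⟩, acc_out _ (r - n) (s - n) (by omega)]
      simp
    · -- last column
      have hsn' : s = n := by omega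
      rw [if_neg (by omega : ¬ (1 ≤ s ∧ s < n)), sub_zero]
      by_cases h : r + 1 < n
      · rw [if_pos h, acc_Y0 _ _ _ ⟨by omega, by omega⟩ ⟨hs0, hsn⟩, yfun,
          if_neg (by omega), if_pos ⟨h, hsn'⟩, hsn']
        congr 1; ring
      · rw [if_neg h]
        have hrr : r = n - 1 := by omega
        rw [hrr, hsn', hu]
  · have hrn' : r = n := by omega
    rw [if_neg (by omega : ¬ (r + 1 < n)), zero_sub]
    by_cases hslt : s < n
    · by_cases h : 1 ≤ s
      · rw [if_pos ⟨h, hslt⟩, acc_Y0 _ _ _ ⟨hr0, hrn⟩ ⟨by omega, by omega⟩, yfun,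
          if_neg (by omega), if_neg (by omega), if_pos ⟨hrn', by omega⟩, hrn']
        simp
      · rw [if_neg (fun hh => h hh.1)]
        have : s = 0 := by omega
        rw [hrn', this, hw]; simp
    · have hsn' : s = n := by omega
      rw [if_neg (by omega), hrn', hsn', hc]; simp
end

section Surj
variable {O : Type u} [CommRing O] {n : ℕ}

/-- total version of the parameter vector -/
def tz (t : Fin n → O) (a : ℤ) : O :=
  if h : 0 ≤ a ∧ a < n then t ⟨a.toNat, by omega⟩ else 0

theorem tz_nat (t : Fin n → O) (j : Fin n) : tz t ((j : ℕ) : ℤ) = t j := by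
  unfold tz
  rw [dif_pos ⟨by omega, by have := j.2; omega⟩]
  congr

def zfun (t : Fin n → O) (u w : O) (r s : ℤ) : O :=
  if s = 0 ∧ r < n then tz t (n - 1 - r)
  else if r = n - 1 ∧ s = n then u
  else if r = n ∧ s = 0 then w
  else if r = n ∧ s = n then - tz t (n - 1)
  else 0

def Zs (t : Fin n → O) (u w : O) : Matrix (Fin (n + 1)) (Fin (n + 1)) O :=
  Matrix.of fun i j => zfun t u w ((i : ℕ) : ℤ) ((j : ℕ) : ℤ)

theorem acc_Zs (t : Fin n → O) (u w : O) (r s : ℤ)
    (hr : 0 ≤ r ∧ r ≤ n) (hs : 0 ≤ s ∧ s ≤ n) : acc (Zs t u w) r s = zfun t u w r s := by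
  obtain ⟨a, rfl⟩ := Int.eq_ofNat_of_zero_le hr.1
  obtain ⟨b, rfl⟩ := Int.eq_ofNat_of_zero_le hs.1
  rw [acc_nat _ a b (by omega) (by omega)]
  rfl

theorem dsum_Zs (t : Fin n → O) (u w : O) (j : ℕ) (hj : j < n) :
    dsum (Zs t u w) (j : ℤ) = tz t j := by
  unfold dsum
  rw [Finset.sum_eq_single j]
  · unfold blk
    rw [if_pos ⟨by omega, by omega⟩, acc_Zs _ _ _ _ _ ⟨by omega, by omega⟩ ⟨by omega, by omega⟩,
      zfun, if_pos ⟨by omega, by omega⟩]
    congr 1; ring
  · intro b hb hbj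
    rw [Finset.mem_range] at hb
    unfold blk
    by_cases h0 : (0 : ℤ) ≤ (j : ℤ) - b
    · rw [if_pos ⟨by omega, by omega⟩,
        acc_Zs _ _ _ _ _ ⟨by omega, by omega⟩ ⟨by omega, by omega⟩, zfun,
        if_neg (by omega), if_neg (by omega), if_neg (by omega), if_neg (by omega)]
    · rw [acc_out _ _ _ (by omega)]; simp
  · intro h; exact absurd (Finset.mem_range.mpr hj) h

theorem PhiM_Zs (t : Fin n → O) (u w : O) (hn : 1 ≤ n) : PhiM (Zs t u w) = (t, u, w) := by
  ext j
  · simp only [PhiM, LinearMap.coe_mk, AddHom.coe_mk]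
    rw [dsum_Zs t u w j j.2, tz_nat]
  · simp only [PhiM, LinearMap.coe_mk, AddHom.coe_mk]
    rw [acc_Zs _ _ _ _ _ ⟨by omega, by omega⟩ ⟨by omega, by omega⟩, zfun,
      if_neg (by omega), if_pos ⟨rfl, rfl⟩]
  · simp only [PhiM, LinearMap.coe_mk, AddHom.coe_mk]
    rw [acc_Zs _ _ _ _ _ ⟨by omega, by omega⟩ ⟨by omega, by omega⟩, zfun,
      if_neg (by omega), if_neg (by omega), if_pos ⟨rfl, rfl⟩]

theorem trace_Zs (t : Fin n → O) (u w : O) (hn : 1 ≤ n) : Matrix.trace (Zs t u w) = 0 := by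
  rw [trace_eq]
  have := dsum_Zs t u w (n - 1) (by omega)
  rw [Nat.cast_sub hn] at this
  push_cast at this
  rw [this, acc_Zs _ _ _ _ _ ⟨by omega, by omega⟩ ⟨by omega, by omega⟩, zfun,
    if_neg (by omega), if_neg (by omega), if_neg (by omega), if_pos ⟨rfl, rfl⟩]
  simp

end Surj

attribute [local instance 100] LieRing.ofAssociativeRing

/-- Let O be a discrete valuation ring of characteristic zero with residue field of characteristic p,
let 1 ≤ n with n + 1 < p (type A_n with p above the Coxeter number), and let x ∈ sl_{n+1}(O) be the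
standard subregular nilpotent element, the matrix with entries x_{i,i+1} = 1 for i + 1 < n and 0
elsewhere (one Jordan block of size n and one of size 1; in the source this is the sum of the root
vectors of the first n − 1 simple roots, completed there to an sl₂-triple). Then the quotient of
sl_{n+1}(O) by the image of ad_x is a free O-module of rank n + 2. (The source works over a complete
such ring with algebraically closed residue field; completeness and algebraic closedness are not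
used for this statement.) -/
theorem result (O : Type u) [CommRing O] [IsDomain O] [IsDiscreteValuationRing O]
    [CharZero O] (p : ℕ) [Fact p.Prime] [CharP (IsLocalRing.ResidueField O) p]
    (n : ℕ) (hn : 1 ≤ n) (hp : n + 1 < p)
    (x : LieAlgebra.SpecialLinear.sl (Fin (n + 1)) O)
    (hx : ∀ i j : Fin (n + 1), (x : Matrix (Fin (n + 1)) (Fin (n + 1)) O) i j =
      if j.val = i.val + 1 ∧ j.val < n then 1 else 0) :
    Module.Free O (LieAlgebra.SpecialLinear.sl (Fin (n + 1)) O ⧸
        LinearMap.range (LieAlgebra.ad O (LieAlgebra.SpecialLinear.sl (Fin (n + 1)) O) x)) ∧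
      Module.finrank O (LieAlgebra.SpecialLinear.sl (Fin (n + 1)) O ⧸
        LinearMap.range (LieAlgebra.ad O (LieAlgebra.SpecialLinear.sl (Fin (n + 1)) O) x)) = n + 2 := by
  classical
  let Φ : (LieAlgebra.SpecialLinear.sl (Fin (n + 1)) O) →ₗ[O] (Fin n → O) × O × O := PhiM ∘ₗ ((LieAlgebra.SpecialLinear.sl (Fin (n + 1)) O).incl : (LieAlgebra.SpecialLinear.sl (Fin (n + 1)) O) →ₗ[O] Matrix (Fin (n + 1)) (Fin (n + 1)) O)
  have hΦ : ∀ z : (LieAlgebra.SpecialLinear.sl (Fin (n + 1)) O), Φ z = PhiM (z : Matrix (Fin (n + 1)) (Fin (n + 1)) O) := fun z => rfl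
  have hmem : ∀ Z : Matrix (Fin (n + 1)) (Fin (n + 1)) O, Matrix.trace Z = 0 → Z ∈ (LieAlgebra.SpecialLinear.sl (Fin (n + 1)) O) := by
    intro Z hZ
    show Z ∈ LinearMap.ker (Matrix.traceLinearMap (Fin (n + 1)) O O)
    rw [LinearMap.mem_ker]; exact hZ
  have htr : ∀ z : (LieAlgebra.SpecialLinear.sl (Fin (n + 1)) O), Matrix.trace (z : Matrix (Fin (n + 1)) (Fin (n + 1)) O) = 0 := by
    intro z
    have : (z : Matrix (Fin (n + 1)) (Fin (n + 1)) O) ∈
        LinearMap.ker (Matrix.traceLinearMap (Fin (n + 1)) O O) := z.2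
    rw [LinearMap.mem_ker] at this; exact this
  have hsurj : Function.Surjective Φ := by
    rintro ⟨t, u, w⟩
    refine ⟨⟨Zs t u w, hmem _ (trace_Zs t u w hn)⟩, ?_⟩
    rw [hΦ]; exact PhiM_Zs t u w hn
  have hker : LinearMap.ker Φ = LinearMap.range (LieAlgebra.ad O (LieAlgebra.SpecialLinear.sl (Fin (n + 1)) O) x) := by
    apply le_antisymm
    · intro z hz
      rw [LinearMap.mem_ker, hΦ] at hz
      have hsol := solve (x : Matrix (Fin (n + 1)) (Fin (n + 1)) O) z hn hx hz (htr z)
      set E : Matrix (Fin (n + 1)) (Fin (n + 1)) O := Matrix.single (Fin.last n) (Fin.last n) 1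
        with hE
      have hxE : (x : Matrix (Fin (n + 1)) (Fin (n + 1)) O) * E = 0 := by
        ext i j
        rw [Matrix.mul_apply]
        apply Finset.sum_eq_zero
        intro k _
        by_cases hk : k = Fin.last n
        · subst hk
          rw [hx]; simp
        · rw [hE, Matrix.single_apply, if_neg (by rintro ⟨h1, _⟩; exact hk h1.symm), mul_zero]
      have hEx : E * (x : Matrix (Fin (n + 1)) (Fin (n + 1)) O) = 0 := by
        ext i j
        rw [Matrix.mul_apply]
        apply Finset.sum_eq_zero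
        intro k _
        by_cases hk : k = Fin.last n
        · subst hk
          rw [hx]
          have := j.2
          simp; intro h; omega
        · rw [hE, Matrix.single_apply, if_neg (by rintro ⟨_, h1⟩; exact hk h1.symm), zero_mul]
      set c := Matrix.trace (Y0 (z : Matrix (Fin (n + 1)) (Fin (n + 1)) O)) with hc
      have hY : Y0 (z : Matrix (Fin (n + 1)) (Fin (n + 1)) O) - c • E ∈ (LieAlgebra.SpecialLinear.sl (Fin (n + 1)) O) := by
        apply hmem
        rw [Matrix.trace_sub, Matrix.trace_smul, hE, Matrix.trace_single_eq_same]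
        simp [hc]
      refine ⟨⟨_, hY⟩, ?_⟩
      rw [LieAlgebra.ad_apply]
      apply Subtype.ext
      rw [LieAlgebra.SpecialLinear.sl_bracket]
      simp only [mul_sub, sub_mul, Matrix.mul_smul, Matrix.smul_mul, hxE, hEx, smul_zero, sub_zero]
      exact hsol
    · rintro _ ⟨y, rfl⟩
      rw [LinearMap.mem_ker, hΦ, LieAlgebra.ad_apply, LieAlgebra.SpecialLinear.sl_bracket]
      exact PhiM_comm _ _ hn hx
  let e : ((LieAlgebra.SpecialLinear.sl (Fin (n + 1)) O) ⧸ LinearMap.range (LieAlgebra.ad O (LieAlgebra.SpecialLinear.sl (Fin (n + 1)) O) x)) ≃ₗ[O] (Fin n → O) × O × O :=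
    (Submodule.quotEquivOfEq _ _ hker.symm).trans (Φ.quotKerEquivOfSurjective hsurj)
  refine ⟨Module.Free.of_equiv e.symm, ?_⟩
  rw [LinearEquiv.finrank_eq e, Module.finrank_prod, Module.finrank_prod, Module.finrank_fin_fun,
    Module.finrank_self]

end Groth.Agent.S16051
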