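import Groth.Statements.S16052
import Groth.Agent.Lib.Helper20.TameK1
import Groth.Agent.Lib.Helper20.TameK4
import Groth.Agent.Lib.Helper20.TameK5

set_option autoImplicit false
universe u
open Polynomial
open CAlg

namespace Groth.Agent.S16052


theorem result (O : Type u) [CommRing O] [IsDomain O]
    [IsDiscreteValuationRing O] [HenselianLocalRing O] [CharZero O] [IsAlgClosed (IsLocalRing.ResidueField O)]
    (p : ℕ) [Fact p.Prime] [CharP (IsLocalRing.ResidueField O) p]
    (ϖ : O) (hϖ : Irreducible ϖ) (m : ℕ) (r b : Fin m → ℕ) (v : Fin m → Oˣ)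
    (hr : ∀ i, 1 ≤ r i) (hb : ∀ i, 1 ≤ b i) (hrb : ∀ i, Nat.Coprime (r i) (b i)) (hp : ∑ i, r i < p) :
    Module.finrank (FractionRing O)
        (∏ i, (X ^ (r i) - C (algebraMap O (FractionRing O) ((v i : O) * ϖ ^ (b i))))).SplittingField =
      Finset.univ.lcm r := by
  classical
  have hinjK : Function.Injective (algebraMap O (FractionRing O)) :=
    IsFractionRing.injective O (FractionRing O)
  obtain ⟨N, hNdef⟩ : ∃ N, N = Finset.univ.lcm r := ⟨_, rfl⟩
  rw [← hNdef]
  have hdiv : ∀ i, r i ∣ N := fun i => hNdef ▸ Finset.dvd_lcm (Finset.mem_univ i)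
  have hNpos : 0 < N := by
    have h1 : N ∣ ∏ i, r i := by
      rw [hNdef]
      exact Finset.lcm_dvd (fun i _ => Finset.dvd_prod_of_mem r (Finset.mem_univ i))
    have h2 : ∏ i, r i ≠ 0 := Finset.prod_ne_zero_iff.mpr (fun i _ => by have := hr i; omega)
    rcases Nat.eq_zero_or_pos N with h0 | h0
    · rw [h0, zero_dvd_iff] at h1
      exact absurd h1 h2
    · exact h0
  have hri_lt : ∀ i, r i < p := fun i =>
    lt_of_le_of_lt (Finset.single_le_sum (f := r) (fun _ _ => Nat.zero_le _) (Finset.mem_univ i)) hp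
  have hpr : ∀ i, ¬ p ∣ r i := by
    intro i h
    have := Nat.le_of_dvd (hr i) h
    have := hri_lt i
    omega
  have hu : ∀ i, ∃ u : O, u ^ r i = (v i : O) ∧ IsUnit u := fun i =>
    Groth.Agent.Helper20.TameK.exists_pow_eq_of_isUnit O p (by have := hr i; omega) (hpr i)
      (v i) (v i).isUnit
  choose u hu1 hu2 using hu
  have hζ : ∀ i, (primitiveRoots (r i) (FractionRing O)).Nonempty := by
    intro i
    obtain ⟨ζ, hζ⟩ := Groth.Agent.Helper20.TameK.exists_isPrimitiveRoot O p
      (n := r i) (by have := hr i; omega) (hpr i)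
    exact ⟨algebraMap O (FractionRing O) ζ,
      (mem_primitiveRoots (hr i)).mpr (hζ.map_of_injective hinjK)⟩
  obtain ⟨δ, hδ⟩ := IsAlgClosed.exists_pow_nat_eq
    (algebraMap (FractionRing O) (AlgebraicClosure (FractionRing O))
      (algebraMap O (FractionRing O) ϖ)) hNpos
  have hadj := Groth.Agent.Helper20.TameK.adjoin_rootSet_eq (K := FractionRing O)
    (M := AlgebraicClosure (FractionRing O)) r b (fun i => N / r i) N hr
    (fun i => Nat.mul_div_cancel' (hdiv i)) (algebraMap O (FractionRing O) ϖ)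
    (by rw [Ne, map_eq_zero_iff _ hinjK]; exact hϖ.ne_zero)
    (fun i => algebraMap O (FractionRing O) (u i))
    (fun i => algebraMap O (FractionRing O) ((v i : O) * ϖ ^ (b i)))
    (fun i => by rw [Ne, map_eq_zero_iff _ hinjK]; exact (hu2 i).ne_zero)
    (fun i => by rw [← hu1 i]; simp only [map_mul, map_pow])
    hζ
    (fun g hg hgi => Groth.Agent.Helper20.TameK.gcd_lemma r b hr hrb g (hNdef ▸ hg)
      (fun i => hNdef ▸ hgi i))
    δ hδ
  have hsp : IsSplittingField (FractionRing O)
      (IntermediateField.adjoin (FractionRing O)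
        ((∏ i, (X ^ (r i) - C (algebraMap O (FractionRing O) ((v i : O) * ϖ ^ (b i)))) :
          (FractionRing O)[X]).rootSet (AlgebraicClosure (FractionRing O))))
      (∏ i, (X ^ (r i) - C (algebraMap O (FractionRing O) ((v i : O) * ϖ ^ (b i))))) :=
    IntermediateField.adjoin_rootSet_isSplittingField (IsAlgClosed.splits _)
  have e1 := IsSplittingField.algEquiv (IntermediateField.adjoin (FractionRing O)
        ((∏ i, (X ^ (r i) - C (algebraMap O (FractionRing O) ((v i : O) * ϖ ^ (b i)))) :
          (FractionRing O)[X]).rootSet (AlgebraicClosure (FractionRing O))))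
      (∏ i, (X ^ (r i) - C (algebraMap O (FractionRing O) ((v i : O) * ϖ ^ (b i)))))
  rw [← e1.toLinearEquiv.finrank_eq, hadj]
  have hirr := Groth.Agent.Helper20.TameK.irreducible_X_pow_sub_C_of_irreducible O
    (FractionRing O) ϖ hϖ N hNpos
  have hint : IsIntegral (FractionRing O) δ := Algebra.IsIntegral.isIntegral δ
  have hmin : X ^ N - C (algebraMap O (FractionRing O) ϖ) = minpoly (FractionRing O) δ :=
    minpoly.eq_of_irreducible_of_monic hirr (by simp [hδ]) (monic_X_pow_sub_C _ hNpos.ne')
  rw [IntermediateField.adjoin.finrank hint, ← hmin, natDegree_X_pow_sub_C]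

end Groth.Agent.S16052
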