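import Groth.Statements.S16053
import Groth.Agent.Lib.Helper20.TameK1
import Groth.Agent.Lib.Helper20.TameK2
import Groth.Agent.Lib.Helper20.TameK3

set_option autoImplicit false
universe u
open Polynomial
open CAlg

namespace Groth.Agent.S16053


theorem result (O : Type u) [CommRing O] [IsDomain O]
    [IsDiscreteValuationRing O] [HenselianLocalRing O] [CharZero O] [IsAlgClosed (IsLocalRing.ResidueField O)]
    (p : ℕ) [Fact p.Prime] [CharP (IsLocalRing.ResidueField O) p]
    (f : O[X]) (hmon : f.Monic) (e : ℕ) (hdeg : f.natDegree = e) (he : 1 ≤ e) (hep : e < p)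
    (hf : f.IsEisensteinAt (IsLocalRing.maximalIdeal O)) :
    Module.finrank (FractionRing O) (f.map (algebraMap O (FractionRing O))).SplittingField = e ∧
      IsCyclic (f.map (algebraMap O (FractionRing O))).Gal := by
  classical
  obtain ⟨e', rfl⟩ : ∃ e', e = e' + 1 := ⟨e - 1, by omega⟩
  have hinjK : Function.Injective (algebraMap O (FractionRing O)) :=
    IsFractionRing.injective O (FractionRing O)
  have hmonK : (f.map (algebraMap O (FractionRing O))).Monic := hmon.map _
  have hdegK : (f.map (algebraMap O (FractionRing O))).natDegree = e' + 1 := by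
    rw [hmon.natDegree_map, hdeg]
  have hprime : (IsLocalRing.maximalIdeal O).IsPrime := inferInstance
  have hirr : Irreducible f := hf.irreducible hprime hmon.isPrimitive (by omega)
  have hirrK : Irreducible (f.map (algebraMap O (FractionRing O))) :=
    (hmon.irreducible_iff_irreducible_map_fraction_map (K := FractionRing O)).mp hirr
  have hsplits := SplittingField.splits (f.map (algebraMap O (FractionRing O)))
  obtain ⟨α, hα⟩ := Splits.exists_eval_eq_zero hsplits (by
    rw [degree_map]
    exact (natDegree_pos_iff_degree_pos.mp (by rw [hdegK]; omega)).ne')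
  have hαK : aeval α (f.map (algebraMap O (FractionRing O))) = 0 := by
    rw [aeval_def, ← eval_map]; exact hα
  have hαO : aeval α f = 0 := by
    rw [← aeval_map_algebraMap (FractionRing O)]; exact hαK
  have hpe : ¬ p ∣ e' + 1 := by
    intro h
    have := Nat.le_of_dvd (Nat.succ_pos e') h
    omega
  have heu : IsUnit ((e' + 1 : ℕ) : O) := Groth.Agent.Helper20.TameK.isUnit_natCast O p hpe
  have hinjL : Function.Injective
      (algebraMap O (f.map (algebraMap O (FractionRing O))).SplittingField) := by
    rw [IsScalarTower.algebraMap_eq O (FractionRing O)]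
    exact (algebraMap (FractionRing O) _).injective.comp hinjK
  obtain ⟨β, hβmem, hβ⟩ := Groth.Agent.Helper20.TameK.exists_mem_adjoin_pow_eq O _ hinjL f hmon hf
    e' hdeg heu α hαO
  -- the Kummer polynomial
  have ham : f.coeff 0 ∈ IsLocalRing.maximalIdeal O := hf.mem (by omega)
  have hEis : (X ^ (e' + 1) - C (-(f.coeff 0)) : O[X]).IsEisensteinAt
      (IsLocalRing.maximalIdeal O) := by
    refine ⟨?_, ?_, ?_⟩
    · rw [(monic_X_pow_sub_C _ (Nat.succ_ne_zero e')).leadingCoeff]
      exact fun h => (Ideal.ne_top_iff_one _).mp hprime.ne_top h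
    · intro n hn
      rw [natDegree_X_pow_sub_C] at hn
      rw [coeff_sub, coeff_X_pow, coeff_C, if_neg (by omega)]
      by_cases h0 : n = 0
      · rw [if_pos h0, zero_sub, neg_neg]; exact ham
      · rw [if_neg h0, sub_zero]; exact Ideal.zero_mem _
    · rw [coeff_sub, coeff_X_pow, coeff_C, if_neg (by omega), if_pos rfl, zero_sub, neg_neg]
      exact hf.notMem
  have hKirr0 : Irreducible (X ^ (e' + 1) - C (-(f.coeff 0)) : O[X]) :=
    hEis.irreducible hprime (monic_X_pow_sub_C _ (Nat.succ_ne_zero e')).isPrimitive
      (by rw [natDegree_X_pow_sub_C]; omega)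
  have hKirr : Irreducible (X ^ (e' + 1) - C (algebraMap O (FractionRing O) (-(f.coeff 0))) :
      (FractionRing O)[X]) := by
    have h1 := ((monic_X_pow_sub_C (-(f.coeff 0))
      (Nat.succ_ne_zero e')).irreducible_iff_irreducible_map_fraction_map
      (K := FractionRing O)).mp hKirr0
    simpa using h1
  obtain ⟨ζ, hζ⟩ := Groth.Agent.Helper20.TameK.exists_isPrimitiveRoot O p (Nat.succ_ne_zero e') hpe
  have hprim : (primitiveRoots (e' + 1) (FractionRing O)).Nonempty :=
    ⟨algebraMap O (FractionRing O) ζ,
      (mem_primitiveRoots (Nat.succ_pos e')).mpr (hζ.map_of_injective hinjK)⟩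
  have hβ' : β ^ (e' + 1) = algebraMap (FractionRing O) _
      (algebraMap O (FractionRing O) (-(f.coeff 0))) := by
    rw [hβ, ← IsScalarTower.algebraMap_apply]
  have hβα : β ∈ IntermediateField.adjoin (FractionRing O) {α} := by
    have hle : Algebra.adjoin O {α} ≤
        ((IntermediateField.adjoin (FractionRing O) {α}).toSubalgebra).restrictScalars O := by
      apply Algebra.adjoin_le
      rw [Set.singleton_subset_iff]
      exact IntermediateField.mem_adjoin_simple_self (FractionRing O) α
    exact hle hβmem
  obtain ⟨htop, hfin⟩ := Groth.Agent.Helper20.TameK.kummer_core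
    (f.map (algebraMap O (FractionRing O))) hirrK hmonK (e' + 1) (Nat.succ_pos e') hdegK hprim
    (algebraMap O (FractionRing O) (-(f.coeff 0))) hKirr α β hαK hβ' hβα
  refine ⟨hfin, ?_⟩
  have hK : (primitiveRoots (Module.finrank (FractionRing O)
      (f.map (algebraMap O (FractionRing O))).SplittingField) (FractionRing O)).Nonempty := by
    rw [hfin]; exact hprim
  have h2 := (isCyclic_tfae (FractionRing O)
    (f.map (algebraMap O (FractionRing O))).SplittingField hK).out 0 2
  have h3 := h2.mpr
    ⟨β, ⟨algebraMap O (FractionRing O) (-(f.coeff 0)), by rw [hfin, hβ']⟩, htop⟩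
  exact h3.2

end Groth.Agent.S16053
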