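import Mathlib
import Groth.Statements.S16071
import Groth.Agent.Lib.Helper19.AlphaP.Dual

set_option autoImplicit false
universe u
open CartDual

namespace Groth.Agent.S16071

/-- Let p be a prime, R a commutative ring of characteristic p and A = R[X]/(X^p) the Hopf algebra of
α_p over Spec R, with X primitive. Then the Cartier dual of α_p is again α_p: there is a bialgebra
isomorphism e from the dual Hopf algebra Hom_R(A, R), with the transposed structure maps, to A,
whose inverse sends X to the linear form dual to X with respect to the basis 1, X, …, X^{p-1} of A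
(so e⁻¹(X) takes the value 1 on X and 0 on the other powers X^i, i < p). (Any commutative base ring
of characteristic p is allowed.) -/
theorem result (p : ℕ) [Fact p.Prime] (R : Type u) [CommRing R] [CharP R p] :
    ∃ e : CartDual.D R (AlphaP.A p R) ≃ₐc[R] AlphaP.A p R,
      ∀ i : ℕ, i < p → (e.symm (AlphaP.x p R)) (AlphaP.x p R ^ i) = if i = 1 then 1 else 0 := by
  obtain ⟨e, he⟩ := Groth.Agent.Helper19.AlphaPDual.exists_equiv p R
  refine ⟨e, fun i hi => ?_⟩
  rw [he, Groth.Agent.Helper19.AlphaPDual.phi_x, Groth.Agent.Helper19.AlphaPDual.e1_apply p R i hi]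

end Groth.Agent.S16071
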