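import Groth.Statements.S16072

set_option autoImplicit false
universe u
open Hopf

namespace Groth.Agent.S16072

theorem no_algEquiv_of_nilpotent {R : Type u} [CommRing R] [Nontrivial R]
    {G : Type*} [Fintype G] [DecidableEq G] {B : Type*} [CommRing B] [Algebra R B]
    (ℓ : B →ₗ[R] R) (b : B) (hb : IsNilpotent b) (hℓ : ℓ b = 1)
    (e : ConstGrp.F R G ≃ₐ[R] B) : False := by
  set y : ConstGrp.F R G := e.symm b with hy
  have hynil : IsNilpotent y := hb.map e.symm
  have hyg : ∀ g, IsNilpotent (y g) := fun g => by
    have := hynil.map (ConstGrp.ev R g)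
    simpa using this
  have hb' : b = ∑ g : G, y g • e (ConstGrp.e R g) := by
    have h1 : e y = b := by simp [hy]
    rw [← h1]
    conv_lhs => rw [ConstGrp.eq_sum_smul_e y]
    simp [map_sum, map_smul]
  have h2 : IsNilpotent (ℓ b) := by
    rw [hb', map_sum]
    have hmem : ∀ g ∈ (Finset.univ : Finset G), ℓ (y g • e (ConstGrp.e R g)) ∈ nilradical R := by
      intro g _
      rw [map_smul, smul_eq_mul]
      exact (nilradical R).mul_mem_right _ ((mem_nilradical).mpr (hyg g))
    exact mem_nilradical.mp (Ideal.sum_mem _ hmem)
  rw [hℓ] at h2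
  exact not_isNilpotent_one h2

/-- Let p be a prime and R a commutative ring of characteristic p (p = 0 in R, R nonzero). Then the
constant group scheme ℤ/p and the group scheme μ_p of p-th roots of unity over Spec R are not
isomorphic: there is no R-bialgebra isomorphism between the Hopf algebra Maps(ℤ/p, R) of functions
on the cyclic group of order p and the group algebra R[ℤ/p]. (Any nonzero commutative base ring of
characteristic p is allowed. The published statement allows any ring R with p·R = 0; over the zero
ring both Hopf algebras are the zero ring and hence isomorphic, so R is assumed nonzero here.) -/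
theorem result (p : ℕ) [Fact p.Prime] (R : Type u) [CommRing R]
    [CharP R p] :
    IsEmpty (ConstGrp.F R (Multiplicative (ZMod p)) ≃ₐc[R] MonoidAlgebra R (Multiplicative (ZMod p))) := by
  have : Nontrivial R := CharP.nontrivial_of_char_ne_one (R := R) (v := p) (Fact.out : p.Prime).ne_one
  refine ⟨fun e => ?_⟩
  have : Fact (1 < p) := ⟨(Fact.out : p.Prime).one_lt⟩
  let g : Multiplicative (ZMod p) := Multiplicative.ofAdd 1
  have hg1 : g ≠ 1 := by
    intro h
    have : (1 : ZMod p) = 0 := by
      have := congrArg Multiplicative.toAdd h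
      simpa [g] using this
    exact one_ne_zero this
  have hgp : g ^ p = 1 := by
    have : (p : ℕ) • (1 : ZMod p) = 0 := by simp
    change Multiplicative.ofAdd ((p : ℕ) • (1 : ZMod p)) = 1
    rw [this]; rfl
  let b : MonoidAlgebra R (Multiplicative (ZMod p)) := MonoidAlgebra.single g 1 - 1
  let ℓ : MonoidAlgebra R (Multiplicative (ZMod p)) →ₗ[R] R :=
    (Finsupp.lapply g) ∘ₗ (MonoidAlgebra.coeffLinearEquiv R).toLinearMap
  have hℓ' : ∀ z, ℓ z = z.coeff g := fun z => rfl
  have : CharP (MonoidAlgebra R (Multiplicative (ZMod p))) p :=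
    charP_of_injective_algebraMap (R := R) (A := MonoidAlgebra R (Multiplicative (ZMod p)))
      (by
        intro a c hac
        have := congrArg (fun f => f.coeff 1) hac
        simpa [MonoidAlgebra.coe_algebraMap] using this) p
  have hb : IsNilpotent b := by
    refine ⟨p, ?_⟩
    change (MonoidAlgebra.single g (1 : R) - 1) ^ p = 0
    rw [sub_pow_char, MonoidAlgebra.single_pow, hgp, one_pow, one_pow]
    exact sub_self _
  have hℓ : ℓ b = 1 := by
    rw [hℓ']
    change (MonoidAlgebra.single g (1 : R) - 1 : MonoidAlgebra R (Multiplicative (ZMod p))).coeff g = 1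
    rw [MonoidAlgebra.one_def]
    simp [MonoidAlgebra.coeff_single, Finsupp.single_apply, hg1, Ne.symm hg1]
  exact no_algEquiv_of_nilpotent ℓ b hb hℓ (e : ConstGrp.F R (Multiplicative (ZMod p)) ≃ₐ[R] MonoidAlgebra R (Multiplicative (ZMod p)))

end Groth.Agent.S16072
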