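import Groth.Statements.S16073

set_option autoImplicit false
universe u
open Hopf

namespace Groth.Agent.S16073

theorem no_algEquiv_of_nilpotent {R : Type u} [CommRing R] [Nontrivial R]
    {G : Type*} [Fintype G] [DecidableEq G] {B : Type*} [CommRing B] [Algebra R B]
    (ℓ : B →ₗ[R] R) (b : B) (hb : IsNilpotent b) (hℓ : ℓ b = 1)
    (e : ConstGrp.F R G ≃ₐ[R] B) : False := by
  set y : ConstGrp.F R G := e.symm b with hy
  have hynil : IsNilpotent y := hb.map e.symm
  have hyg : ∀ g, IsNilpotent (y g) := fun g => by
    have := hynil.map (ConstGrp.ev R g)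
    simpa using this
  have hb' : b = ∑ g : G, y g • e (ConstGrp.e R g) := by
    have h1 : e y = b := by simp [hy]
    rw [← h1]
    conv_lhs => rw [ConstGrp.eq_sum_smul_e y]
    simp [map_sum, map_smul]
  have h2 : IsNilpotent (ℓ b) := by
    rw [hb', map_sum]
    have hmem : ∀ g ∈ (Finset.univ : Finset G), ℓ (y g • e (ConstGrp.e R g)) ∈ nilradical R := by
      intro g _
      rw [map_smul, smul_eq_mul]
      exact (nilradical R).mul_mem_right _ ((mem_nilradical).mpr (hyg g))
    exact mem_nilradical.mp (Ideal.sum_mem _ hmem)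
  rw [hℓ] at h2
  exact not_isNilpotent_one h2

/-- Let p be a prime and R a commutative ring of characteristic p (p = 0 in R, R nonzero). Then the
constant group scheme ℤ/p and α_p over Spec R are not isomorphic: there is no R-bialgebra
isomorphism between the Hopf algebra Maps(ℤ/p, R) of functions on the cyclic group of order p and
the Hopf algebra R[X]/(X^p) of α_p (X primitive). (Any nonzero commutative base ring of
characteristic p is allowed. The published statement allows any ring R with p·R = 0; over the zero
ring both Hopf algebras are the zero ring and hence isomorphic, so R is assumed nonzero here.) -/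
theorem result (p : ℕ) [Fact p.Prime] (R : Type u) [CommRing R] [CharP R p] :
    IsEmpty (ConstGrp.F R (Multiplicative (ZMod p)) ≃ₐc[R] AlphaP.A p R) := by
  have : Nontrivial R := CharP.nontrivial_of_char_ne_one (R := R) (v := p) (Fact.out : p.Prime).ne_one
  refine ⟨fun e => ?_⟩
  have hp1 : 1 < p := (Fact.out : p.Prime).one_lt
  let ℓ : AlphaP.A p R →ₗ[R] R := (AlphaP.basis p R).coord ⟨1, hp1⟩
  have hb : IsNilpotent (AlphaP.x p R) := ⟨p, AlphaP.x_pow p R⟩
  have hℓ : ℓ (AlphaP.x p R) = 1 := by
    have h1 : AlphaP.x p R = AlphaP.basis p R ⟨1, hp1⟩ := by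
      rw [AlphaP.basis_apply]; simp
    change (AlphaP.basis p R).coord ⟨1, hp1⟩ (AlphaP.x p R) = 1
    rw [h1, Module.Basis.coord_apply, Module.Basis.repr_self, Finsupp.single_eq_same]
  exact no_algEquiv_of_nilpotent ℓ _ hb hℓ (e : ConstGrp.F R (Multiplicative (ZMod p)) ≃ₐ[R] AlphaP.A p R)

end Groth.Agent.S16073
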