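import Groth.Statements.S16074
import Mathlib.RingTheory.Coalgebra.MonoidAlgebra

set_option autoImplicit false
universe u
open Hopf

namespace Groth.Agent.S16074

open TensorProduct in
/-- coefficient functional on `R[G] ⊗ R[G]`. -/
noncomputable def LL (R : Type u) [CommRing R] (G : Type*) [Monoid G] (g h : G) :
    MonoidAlgebra R G ⊗[R] MonoidAlgebra R G →ₗ[R] R :=
  LinearMap.mul' R R ∘ₗ TensorProduct.map
    ((Finsupp.lapply g) ∘ₗ (MonoidAlgebra.coeffLinearEquiv R).toLinearMap)
    ((Finsupp.lapply h) ∘ₗ (MonoidAlgebra.coeffLinearEquiv R).toLinearMap)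

open TensorProduct in
theorem LL_tmul {R : Type u} [CommRing R] {G : Type*} [Monoid G] (g h : G)
    (a b : MonoidAlgebra R G) : LL R G g h (a ⊗ₜ[R] b) = a.coeff g * b.coeff h := rfl

theorem LL_comul {R : Type u} [CommRing R] {G : Type*} [Monoid G] [DecidableEq G] (g h : G)
    (z : MonoidAlgebra R G) :
    LL R G g h (Coalgebra.comul (R := R) z) = if g = h then z.coeff g else 0 := by
  induction z using MonoidAlgebra.induction_linear with
  | zero => simp
  | add x y hx hy =>
    rw [map_add, map_add, hx, hy]
    split_ifs <;> simp
  | single m r =>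
    rw [MonoidAlgebra.comul_single, CommSemiring.comul_apply, TensorProduct.map_tmul, LL_tmul]
    simp only [MonoidAlgebra.lsingle_apply, MonoidAlgebra.coeff_single, Finsupp.single_apply]
    split_ifs <;> simp_all

/-- Let p be a prime and R a commutative ring of characteristic p (p = 0 in R, R nonzero). Then μ_p and
α_p over Spec R are not isomorphic: there is no R-bialgebra isomorphism between the group algebra
R[ℤ/p] of the cyclic group of order p (group elements group-like) and the Hopf algebra R[X]/(X^p) of
α_p (X primitive), although the underlying R-algebras R[ℤ/p] = R[Y]/(Y^p) and R[X]/(X^p) are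
isomorphic. (Any nonzero commutative base ring of characteristic p is allowed. The published
statement allows any ring R with p·R = 0; over the zero ring both Hopf algebras are the zero ring
and hence isomorphic, so R is assumed nonzero here.) -/
theorem result (p : ℕ) [Fact p.Prime] (R : Type u) [CommRing R] [CharP R p] :
    IsEmpty (MonoidAlgebra R (Multiplicative (ZMod p)) ≃ₐc[R] AlphaP.A p R) := by
  classical
  have : Nontrivial R := CharP.nontrivial_of_char_ne_one (R := R) (v := p) (Fact.out : p.Prime).ne_one
  refine ⟨fun e => ?_⟩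
  have hp1 : 1 < p := (Fact.out : p.Prime).one_lt
  -- x ≠ 0
  have hx0 : AlphaP.x p R ≠ 0 := by
    intro h0
    have h1 : AlphaP.x p R = AlphaP.basis p R ⟨1, hp1⟩ := by
      rw [AlphaP.basis_apply]; simp
    have : (AlphaP.basis p R).coord ⟨1, hp1⟩ (AlphaP.x p R) = 1 := by
      rw [h1, Module.Basis.coord_apply, Module.Basis.repr_self, Finsupp.single_eq_same]
    rw [h0, map_zero] at this
    exact zero_ne_one this
  set y := e.symm (AlphaP.x p R) with hy
  have hprim : Coalgebra.comul (R := R) y = y ⊗ₜ[R] 1 + 1 ⊗ₜ[R] y := by
    have := CoalgHomClass.map_comp_comul_apply e.symm (AlphaP.x p R)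
    rw [AlphaP.comul_x, map_add, TensorProduct.map_tmul, TensorProduct.map_tmul] at this
    rw [hy, ← this]
    simp
  have hcoeff : ∀ g, y.coeff g = 0 := by
    intro g
    have h1 := LL_comul g g y
    rw [hprim, map_add, LL_tmul, LL_tmul, if_pos rfl] at h1
    by_cases hg : g = 1
    · subst hg
      simp only [MonoidAlgebra.coeff_one_one, mul_one, one_mul] at h1
      have : y.coeff 1 + y.coeff 1 = y.coeff 1 + 0 := by rw [add_zero]; exact h1
      exact add_left_cancel this
    · have h0 : (1 : MonoidAlgebra R (Multiplicative (ZMod p))).coeff g = 0 := by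
        rw [MonoidAlgebra.one_def, MonoidAlgebra.coeff_single, Finsupp.single_apply, if_neg (Ne.symm hg)]
      rw [h0, mul_zero, zero_mul, add_zero] at h1
      exact h1.symm
  have hy0 : y = 0 := by
    apply MonoidAlgebra.coeff_injective
    ext g
    simpa using hcoeff g
  apply hx0
  have := congrArg e hy0
  rw [hy, e.apply_symm_apply, map_zero] at this
  exact this

end Groth.Agent.S16074
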