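import Groth.Statements.S16075
import Mathlib.Algebra.CharP.Invertible

set_option autoImplicit false
universe u
open Hopf

namespace Groth.Agent.S16075

open TensorProduct

section
variable (p : ℕ) [hp : Fact p.Prime] (T : Type u) [CommRing T] [CharP T p]

noncomputable def co [Nontrivial T] (j : Fin p) : AlphaP.A p T →ₗ[T] T := (AlphaP.basis p T).coord j

omit hp [CharP T p] in
theorem co_x_pow [Nontrivial T] (j : Fin p) (m : ℕ) (hm : m < p) :
    co p T j (AlphaP.x p T ^ m) = if m = j then 1 else 0 := by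
  have : AlphaP.x p T ^ m = AlphaP.basis p T ⟨m, hm⟩ := by rw [AlphaP.basis_apply]
  rw [this, co, Module.Basis.coord_apply, Module.Basis.repr_self, Finsupp.single_apply]
  simp [Fin.ext_iff]

noncomputable def LA [Nontrivial T] (j k : Fin p) : AlphaP.A p T ⊗[T] AlphaP.A p T →ₗ[T] T :=
  LinearMap.mul' T T ∘ₗ TensorProduct.map (co p T j) (co p T k)

omit hp [CharP T p] in
theorem LA_tmul [Nontrivial T] (j k : Fin p) (a b : AlphaP.A p T) :
    LA p T j k (a ⊗ₜ[T] b) = co p T j a * co p T k b := rfl

theorem comul_x_pow (n : ℕ) : Coalgebra.comul (R := T) (AlphaP.x p T ^ n) =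
    ∑ m ∈ Finset.range (n + 1), (n.choose m : T) • ((AlphaP.x p T ^ m) ⊗ₜ[T] (AlphaP.x p T ^ (n - m))) := by
  have h1 : Coalgebra.comul (R := T) (AlphaP.x p T ^ n) =
      (Bialgebra.comulAlgHom T (AlphaP.A p T)) (AlphaP.x p T ^ n) := rfl
  rw [h1, map_pow]
  have h2 : (Bialgebra.comulAlgHom T (AlphaP.A p T)) (AlphaP.x p T) =
      AlphaP.x p T ⊗ₜ[T] 1 + 1 ⊗ₜ[T] AlphaP.x p T := AlphaP.comul_x p T
  rw [h2, add_pow]
  refine Finset.sum_congr rfl fun m _ => ?_
  rw [Algebra.TensorProduct.tmul_pow, Algebra.TensorProduct.tmul_pow, one_pow, one_pow,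
    Algebra.TensorProduct.tmul_mul_tmul, mul_one, one_mul, mul_comm, Algebra.smul_def, map_natCast]

theorem LA_comul_x_pow [Nontrivial T] (i : ℕ) (hi2 : 2 ≤ i) (hip : i < p) (n : ℕ) (hn : n < p) :
    LA p T ⟨1, by omega⟩ ⟨i - 1, by omega⟩ (Coalgebra.comul (R := T) (AlphaP.x p T ^ n)) =
      if n = i then (i : T) else 0 := by
  rw [comul_x_pow, map_sum]
  by_cases hni : n = i
  · subst hni
    rw [if_pos rfl, Finset.sum_eq_single 1]
    · rw [map_smul, LA_tmul, co_x_pow _ _ _ _ (by omega), co_x_pow _ _ _ _ (by omega)]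
      simp
    · intro m hm hm1
      rw [map_smul, LA_tmul, co_x_pow _ _ _ _ (by simp at hm; omega)]
      simp [hm1]
    · intro h
      simp at h
      omega
  · rw [if_neg hni]
    refine Finset.sum_eq_zero fun m hm => ?_
    simp only [Finset.mem_range] at hm
    rw [map_smul, LA_tmul, co_x_pow _ _ _ _ (by omega), co_x_pow _ _ _ _ (by omega)]
    by_cases hm1 : m = 1
    · subst hm1
      have : ¬ (n - 1 = i - 1) := by omega
      simp [this]
    · simp [hm1]

theorem primitive_coeff [Nontrivial T] (z : AlphaP.A p T)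
    (hz : Coalgebra.comul (R := T) z = z ⊗ₜ[T] 1 + 1 ⊗ₜ[T] z) (i : ℕ) (hi2 : 2 ≤ i) (hip : i < p) :
    (AlphaP.basis p T).repr z ⟨i, hip⟩ = 0 := by
  have hzsum : z = ∑ n : Fin p, (AlphaP.basis p T).repr z n • AlphaP.x p T ^ (n : ℕ) := by
    conv_lhs => rw [← (AlphaP.basis p T).sum_repr z]
    refine Finset.sum_congr rfl fun n _ => ?_
    rw [AlphaP.basis_apply]
  have h1 : LA p T ⟨1, by omega⟩ ⟨i - 1, by omega⟩ (Coalgebra.comul (R := T) z) =
      (AlphaP.basis p T).repr z ⟨i, hip⟩ * (i : T) := by
    conv_lhs => rw [hzsum]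
    rw [map_sum, map_sum]
    rw [Finset.sum_eq_single ⟨i, hip⟩]
    · rw [map_smul, map_smul, LA_comul_x_pow p T i hi2 hip _ (by simp [hip])]
      simp
    · intro n _ hn
      rw [map_smul, map_smul, LA_comul_x_pow p T i hi2 hip _ n.2]
      have : ¬ ((n : ℕ) = i) := fun h => hn (Fin.ext h)
      simp [this]
    · intro h; exact absurd (Finset.mem_univ _) h
  have h2 : LA p T ⟨1, by omega⟩ ⟨i - 1, by omega⟩ (z ⊗ₜ[T] 1 + 1 ⊗ₜ[T] z) = 0 := by
    rw [map_add, LA_tmul, LA_tmul]
    have e1 : (1 : AlphaP.A p T) = AlphaP.x p T ^ 0 := (pow_zero _).symm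
    rw [e1, co_x_pow _ _ _ _ (by omega), co_x_pow _ _ _ _ (by omega)]
    have : ¬ (0 = i - 1) := by omega
    simp [this]
  rw [hz, h2] at h1
  have hu : IsUnit (i : T) := (CharP.isUnit_natCast_iff (R := T) (p := p) hp.out).mpr (by
    intro hdvd
    have := Nat.le_of_dvd (by omega) hdvd
    omega)
  exact (hu.mul_left_eq_zero).mp h1.symm

end

/-- Let p be a prime, T a commutative ring of characteristic p (p = 0 in T, T nonzero) and A =
T[X]/(X^p) the Hopf algebra of α_p over Spec T, with X primitive. Then the endomorphisms of the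
T-group α_{p,T} are exactly the scalings: every T-bialgebra endomorphism f of A has f(X) = λ·X for a
unique λ ∈ T, and for every λ ∈ T there is a T-bialgebra endomorphism f of A with f(X) = λ·X. So the
endomorphisms of α_{p,T} correspond bijectively to the elements of T. (Only this bijection is
stated; that it turns addition and composition of endomorphisms into addition and multiplication in
T, and its naturality in T, are not stated here. The zero ring, allowed as T in the published
statement, is excluded by the characteristic hypothesis here.) -/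
theorem result (p : ℕ) [Fact p.Prime] (T : Type u) [CommRing T] [CharP T p] :
    (∀ f : AlphaP.A p T →ₐc[T] AlphaP.A p T, ∃! c : T, f (AlphaP.x p T) = c • AlphaP.x p T) ∧
      (∀ c : T, ∃ f : AlphaP.A p T →ₐc[T] AlphaP.A p T, f (AlphaP.x p T) = c • AlphaP.x p T) := by
  have hnt : Nontrivial T := CharP.nontrivial_of_char_ne_one (R := T) (v := p) (Fact.out : p.Prime).ne_one
  have hp1 : 1 < p := (Fact.out : p.Prime).one_lt
  have hp0 : 0 < p := by omega
  constructor
  · intro f
    set z := f (AlphaP.x p T) with hzdef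
    have hz : Coalgebra.comul (R := T) z = z ⊗ₜ[T] 1 + 1 ⊗ₜ[T] z := by
      have := CoalgHomClass.map_comp_comul_apply f (AlphaP.x p T)
      rw [AlphaP.comul_x, map_add, TensorProduct.map_tmul, TensorProduct.map_tmul] at this
      rw [hzdef, ← this]
      simp
    have hcz : Coalgebra.counit (R := T) z = 0 := by
      have := CoalgHomClass.counit_comp_apply f (AlphaP.x p T)
      rw [AlphaP.counit_x] at this
      exact this
    have hzsum : z = ∑ n : Fin p, (AlphaP.basis p T).repr z n • AlphaP.x p T ^ (n : ℕ) := by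
      conv_lhs => rw [← (AlphaP.basis p T).sum_repr z]
      refine Finset.sum_congr rfl fun n _ => ?_
      rw [AlphaP.basis_apply]
    have hcx : ∀ n : ℕ, Coalgebra.counit (R := T) (AlphaP.x p T ^ n) = if n = 0 then (1 : T) else 0 := by
      intro n
      have : Coalgebra.counit (R := T) (AlphaP.x p T ^ n) =
          (Bialgebra.counitAlgHom T (AlphaP.A p T)) (AlphaP.x p T ^ n) := rfl
      rw [this, map_pow]
      have : (Bialgebra.counitAlgHom T (AlphaP.A p T)) (AlphaP.x p T) = 0 := AlphaP.counit_x p T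
      rw [this]
      by_cases hn : n = 0
      · simp [hn]
      · simp [hn]
    have h0 : (AlphaP.basis p T).repr z ⟨0, hp0⟩ = 0 := by
      have h := hcz
      rw [hzsum, map_sum, Finset.sum_eq_single ⟨0, hp0⟩] at h
      · rw [map_smul, hcx] at h
        simpa using h
      · intro n _ hn
        rw [map_smul, hcx]
        have : ¬ ((n : ℕ) = 0) := fun h => hn (Fin.ext h)
        simp [this]
      · intro h; exact absurd (Finset.mem_univ _) h
    have hz1 : z = (AlphaP.basis p T).repr z ⟨1, hp1⟩ • AlphaP.x p T := by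
      conv_lhs => rw [hzsum]
      rw [Finset.sum_eq_single ⟨1, hp1⟩]
      · simp
      · intro n _ hn
        by_cases hn0 : (n : ℕ) = 0
        · have : n = ⟨0, hp0⟩ := Fin.ext hn0
          rw [this, h0, zero_smul]
        · have hn1 : (n : ℕ) ≠ 1 := fun h => hn (Fin.ext h)
          have := primitive_coeff p T z hz n (by omega) n.2
          rw [this, zero_smul]
      · intro h; exact absurd (Finset.mem_univ _) h
    refine ⟨_, hz1, ?_⟩
    intro c hc
    have := congrArg (fun w => (AlphaP.basis p T).repr w ⟨1, hp1⟩) hc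
    simp only [map_smul] at this
    have hx1 : (AlphaP.basis p T).repr (AlphaP.x p T) ⟨1, hp1⟩ = 1 := by
      have h1 : AlphaP.x p T = AlphaP.basis p T ⟨1, hp1⟩ := by
        rw [AlphaP.basis_apply]; simp
      rw [h1, Module.Basis.repr_self, Finsupp.single_eq_same]
    rw [Finsupp.smul_apply, hx1, smul_eq_mul, mul_one] at this
    exact this.symm
  · intro c
    have hcp : (c • AlphaP.x p T) ^ p = 0 := by
      rw [smul_pow, AlphaP.x_pow, smul_zero]
    let φ : AlphaP.A p T →ₐ[T] AlphaP.A p T := AlphaP.lift p T (c • AlphaP.x p T) hcp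
    have hφ : φ (AlphaP.x p T) = c • AlphaP.x p T := AlphaP.lift_x _ _
    refine ⟨BialgHom.ofAlgHom φ ?_ ?_, ?_⟩
    · apply AlphaP.algHom_ext
      rw [AlgHom.comp_apply, hφ, map_smul]
      have : (Bialgebra.counitAlgHom T (AlphaP.A p T)) (AlphaP.x p T) = 0 := AlphaP.counit_x p T
      rw [this, smul_zero]
    · apply AlphaP.algHom_ext
      rw [AlgHom.comp_apply, AlgHom.comp_apply, hφ, map_smul]
      have : (Bialgebra.comulAlgHom T (AlphaP.A p T)) (AlphaP.x p T) =
        AlphaP.x p T ⊗ₜ[T] 1 + 1 ⊗ₜ[T] AlphaP.x p T := AlphaP.comul_x p T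
      rw [this, map_add, Algebra.TensorProduct.map_tmul, Algebra.TensorProduct.map_tmul, hφ, map_one,
        smul_add, TensorProduct.smul_tmul', TensorProduct.tmul_smul]
    · exact hφ

end Groth.Agent.S16075
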