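import Groth.Statements.S16077
import Mathlib

set_option autoImplicit false
universe u
open CAlg

namespace Groth.Agent.S16077


open MvPolynomial

section Trunc
variable {k : Type u} [Field k] {ι : Type} [Fintype ι] [DecidableEq ι]

/-- the truncation ideal -/
noncomputable def II (n : ι → ℕ) : Ideal (MvPolynomial ι k) :=
  Ideal.span (Set.range fun i : ι => (X i : MvPolynomial ι k) ^ n i)

theorem mem_II (n : ι → ℕ) (g : MvPolynomial ι k) :
    g ∈ II (k := k) n ↔ ∀ m ∈ g.support, ∃ i, n i ≤ m i := by
  have h1 : (Set.range fun i : ι => (X i : MvPolynomial ι k) ^ n i) =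
      (fun s => monomial s (1 : k)) '' (Set.range fun i : ι => Finsupp.single i (n i)) := by
    ext y
    simp only [Set.mem_range, Set.mem_image, exists_exists_eq_and, X_pow_eq_monomial]
  rw [II, h1, mem_ideal_span_monomial_image]
  constructor
  · intro h m hm
    obtain ⟨_, ⟨i, rfl⟩, hi⟩ := h m hm
    refine ⟨i, ?_⟩
    simpa using hi i
  · intro h m hm
    obtain ⟨i, hi⟩ := h m hm
    refine ⟨_, ⟨i, rfl⟩, ?_⟩
    intro t
    by_cases ht : t = i
    · subst ht; simpa using hi
    · simp [Finsupp.single_apply, Ne.symm ht]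

/-- exponent vector attached to a bounded function, scaled by `q` -/
noncomputable def mexp (q : ℕ) (N : ι → ℕ) (a : (i : ι) → Fin (N i)) : ι →₀ ℕ :=
  Finsupp.equivFunOnFinite.symm fun i => q * (a i : ℕ)

@[simp] theorem mexp_apply (q : ℕ) (N : ι → ℕ) (a : (i : ι) → Fin (N i)) (i : ι) :
    mexp q N a i = q * (a i : ℕ) := rfl

theorem mexp_inj (q : ℕ) (hq : 0 < q) (N : ι → ℕ) : Function.Injective (mexp (ι := ι) q N) := by
  intro a b h
  funext i
  have := congrArg (fun m => m i) h
  simp only [mexp_apply] at this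
  exact Fin.ext (Nat.eq_of_mul_eq_mul_left hq this)

/-- the candidate basis of the span of `q`-th powers -/
noncomputable def vv (n : ι → ℕ) (q : ℕ) (N : ι → ℕ) (a : (i : ι) → Fin (N i)) :
    MvPolynomial ι k ⧸ II (k := k) n :=
  Ideal.Quotient.mk _ (monomial (mexp q N a) 1)

theorem mk_smul' (n : ι → ℕ) (c : k) (x : MvPolynomial ι k) :
    c • (Ideal.Quotient.mk (II (k := k) n) x) = Ideal.Quotient.mk (II (k := k) n) (c • x) :=
  (map_smul (Ideal.Quotient.mkₐ k (II (k := k) n)) c x).symm

theorem vv_linindep (n : ι → ℕ) (q : ℕ) (hq : 0 < q) (N : ι → ℕ)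
    (hN : ∀ i t, t < N i → q * t < n i) :
    LinearIndependent k (vv (k := k) n q N) := by
  rw [Fintype.linearIndependent_iff]
  intro c hc a₀
  by_contra hne
  have h1 : (∑ a, c a • vv (k := k) n q N a) =
      Ideal.Quotient.mk (II (k := k) n) (∑ a, monomial (mexp q N a) (c a)) := by
    rw [map_sum]
    apply Finset.sum_congr rfl
    intro a _
    rw [vv, mk_smul', smul_monomial, smul_eq_mul, mul_one]
  rw [h1, Ideal.Quotient.eq_zero_iff_mem, mem_II] at hc
  have hco : coeff (mexp q N a₀) (∑ a, monomial (mexp q N a) (c a)) = c a₀ := by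
    rw [coeff_sum, Finset.sum_eq_single a₀]
    · simp
    · intro b _ hb
      rw [coeff_monomial, if_neg]
      intro h; exact hb (mexp_inj q hq N h)
    · intro h; exact absurd (Finset.mem_univ _) h
  obtain ⟨i, hi⟩ := hc (mexp q N a₀) (by rw [mem_support_iff, hco]; exact hne)
  have := hN i (a₀ i) (a₀ i).2
  simp only [mexp_apply] at hi
  omega

/-- the span of `q`-th powers -/
noncomputable def WW (n : ι → ℕ) (q : ℕ) : Submodule k (MvPolynomial ι k ⧸ II (k := k) n) :=
  Submodule.span k (Set.range fun b : MvPolynomial ι k ⧸ II (k := k) n => b ^ q)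

theorem WW_eq (p : ℕ) [Fact p.Prime] [CharP k p] (n : ι → ℕ) (j : ℕ) (N : ι → ℕ)
    (hN : ∀ i t, t < N i ↔ p ^ j * t < n i) :
    WW (k := k) n (p ^ j) = Submodule.span k (Set.range (vv (k := k) n (p ^ j) N)) := by
  apply le_antisymm
  · apply Submodule.span_le.mpr
    rintro _ ⟨b, rfl⟩
    obtain ⟨f, rfl⟩ := Ideal.Quotient.mk_surjective b
    show (Ideal.Quotient.mk (II (k := k) n) f) ^ (p ^ j) ∈ _
    rw [← map_pow]
    induction f using MvPolynomial.induction_on' with
    | monomial m c =>
      rw [monomial_pow]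
      have : monomial ((p ^ j) • m) (c ^ p ^ j) = (c ^ p ^ j) • monomial ((p ^ j) • m) (1 : k) := by
        rw [smul_monomial, smul_eq_mul, mul_one]
      rw [this, ← mk_smul']
      apply Submodule.smul_mem
      by_cases hm : ∀ i, m i < N i
      · apply Submodule.subset_span
        refine ⟨fun i => ⟨m i, hm i⟩, ?_⟩
        rw [vv]
        have : mexp (p ^ j) N (fun i => ⟨m i, hm i⟩) = (p ^ j) • m := by
          apply Finsupp.ext; intro i; simp
        rw [this]
      · push Not at hm
        obtain ⟨i, hi⟩ := hm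
        have : Ideal.Quotient.mk (II (k := k) n) (monomial ((p ^ j) • m) (1 : k)) = 0 := by
          rw [Ideal.Quotient.eq_zero_iff_mem, mem_II]
          intro m' hm'
          have : m' = (p ^ j) • m := by
            rw [mem_support_iff, coeff_monomial] at hm'
            by_contra h
            exact hm' (if_neg (Ne.symm h))
          subst this
          refine ⟨i, ?_⟩
          have := (hN i (m i)).not.mp (by omega)
          simp only [Finsupp.coe_smul, Pi.smul_apply, smul_eq_mul]
          omega
        rw [this]; exact Submodule.zero_mem _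
    | add f g hf hg =>
      rw [add_pow_char_pow, map_add]
      exact Submodule.add_mem _ hf hg
  · apply Submodule.span_le.mpr
    rintro _ ⟨a, rfl⟩
    apply Submodule.subset_span
    refine ⟨Ideal.Quotient.mk _ (monomial (Finsupp.equivFunOnFinite.symm fun i => (a i : ℕ)) 1), ?_⟩
    show (Ideal.Quotient.mk (II (k := k) n) _) ^ (p ^ j) = _
    rw [← map_pow, monomial_pow, one_pow, vv]
    have : mexp (p ^ j) N a = (p ^ j) • (Finsupp.equivFunOnFinite.symm fun i => (a i : ℕ)) := by
      apply Finsupp.ext; intro i; simp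
    rw [this]

theorem finrank_WW (p : ℕ) [Fact p.Prime] [CharP k p] (n : ι → ℕ) (j : ℕ) (N : ι → ℕ)
    (hN : ∀ i t, t < N i ↔ p ^ j * t < n i) :
    Module.finrank k (WW (k := k) n (p ^ j)) = ∏ i, N i := by
  rw [WW_eq p n j N hN, finrank_span_eq_card
    (vv_linindep n (p ^ j) (pow_pos (Fact.out : p.Prime).pos j) N (fun i t ht => (hN i t).mp ht))]
  simp
end Trunc

theorem hN_pow (p : ℕ) (hp : 2 ≤ p) (e j t : ℕ) : t < p ^ (e - j) ↔ p ^ j * t < p ^ e := by
  have hpos : 0 < p ^ j := pow_pos (by omega) j
  by_cases h : j ≤ e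
  · have : p ^ e = p ^ j * p ^ (e - j) := by rw [← pow_add]; congr 1; omega
    rw [this]
    exact (Nat.mul_lt_mul_left hpos).symm
  · push Not at h
    have h0 : e - j = 0 := by omega
    rw [h0, pow_zero]
    have hlt : p ^ e < p ^ j := Nat.pow_lt_pow_right (by omega) h
    constructor
    · intro ht
      have : t = 0 := by omega
      subst this
      rw [mul_zero]; exact pow_pos (by omega) e
    · intro ht
      by_contra hcon
      have : 1 ≤ t := by omega
      have : p ^ j ≤ p ^ j * t := Nat.le_mul_of_pos_right _ (by omega)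
      omega

theorem comb (r s : ℕ) (e : Fin r → ℕ) (f : Fin s → ℕ) (he : ∀ i, 1 ≤ e i) (hf : ∀ j, 1 ≤ f j)
    (hS : ∀ j : ℕ, ∑ i, (e i - j) = ∑ i, (f i - j)) :
    ∃ σ : Fin r ≃ Fin s, ∀ i : Fin r, f (σ i) = e i := by
  classical
  -- counting functions
  have step : ∀ (t : ℕ) (g : Fin t → ℕ) (j : ℕ),
      ∑ i, (g i - j) = ∑ i, (g i - (j + 1)) + ∑ i, (if j < g i then 1 else 0) := by
    intro t g j
    rw [← Finset.sum_add_distrib]
    apply Finset.sum_congr rfl
    intro i _
    split_ifs <;> omega
  have hc : ∀ j : ℕ, ∑ i, (if j < e i then 1 else 0) = ∑ i, (if j < f i then 1 else 0) := by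
    intro j
    have h1 := step r e j
    have h2 := step s f j
    have h3 := hS j
    have h4 := hS (j + 1)
    omega
  have step2 : ∀ (t : ℕ) (g : Fin t → ℕ) (v : ℕ),
      ∑ i, (if g i = v + 1 then 1 else 0) + ∑ i, (if v + 1 < g i then 1 else 0) =
        ∑ i, (if v < g i then 1 else 0) := by
    intro t g v
    rw [← Finset.sum_add_distrib]
    apply Finset.sum_congr rfl
    intro i _
    split_ifs <;> omega
  have hcount : ∀ v : ℕ, ∑ i, (if e i = v then 1 else 0) = ∑ i, (if f i = v then 1 else 0) := by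
    intro v
    cases v with
    | zero =>
      rw [Finset.sum_eq_zero, Finset.sum_eq_zero]
      · intro i _; have := hf i; rw [if_neg (by omega)]
      · intro i _; have := he i; rw [if_neg (by omega)]
    | succ v =>
      have h1 := step2 r e v
      have h2 := step2 s f v
      have h3 := hc v
      have h4 := hc (v + 1)
      omega
  have hcard : ∀ v : ℕ, Fintype.card {i // e i = v} = Fintype.card {i // f i = v} := by
    intro v
    rw [Fintype.card_subtype, Fintype.card_subtype, Finset.card_filter, Finset.card_filter]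
    exact hcount v
  refine ⟨Equiv.ofFiberEquiv (f := e) (g := f) (fun v => Fintype.equivOfCardEq (hcard v)), ?_⟩
  intro i
  exact Equiv.ofFiberEquiv_map _ i

/-- Let k be a perfect field of characteristic p > 0 and let e_1, …, e_r ≥ 1 and f_1, …, f_s ≥ 1 be
natural numbers. If the k-algebras k[X_1, …, X_r]/(X_i^{p^{e_i}} : 1 ≤ i ≤ r) and k[X_1, …,
X_s]/(X_j^{p^{f_j}} : 1 ≤ j ≤ s) are isomorphic, then r = s and (f_j) is a permutation of (e_i):
there is a bijection σ between the index sets with f_{σ(i)} = e_i. Such truncated polynomial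
algebras are the coordinate rings of the connected finite k-group schemes, and the row says that the
number of variables and the exponents are invariants of the group, indeed of its algebra. (Only this
invariance is stated here; the existence of such a presentation for every connected finite k-group
is a separate statement.) -/
theorem result (p : ℕ) [Fact p.Prime] (k : Type u) [Field k]
    [CharP k p] [PerfectField k] (r s : ℕ) (e : Fin r → ℕ) (f : Fin s → ℕ) (he : ∀ i, 1 ≤ e i) (hf : ∀ j, 1 ≤ f j)
    (φ : (MvPolynomial (Fin r) k ⧸ Ideal.span (Set.range fun i : Fin r => (MvPolynomial.X i : MvPolynomial (Fin r) k) ^ p ^ e i)) ≃ₐ[k]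
      (MvPolynomial (Fin s) k ⧸ Ideal.span (Set.range fun j : Fin s => (MvPolynomial.X j : MvPolynomial (Fin s) k) ^ p ^ f j))) :
    ∃ σ : Fin r ≃ Fin s, ∀ i : Fin r, f (σ i) = e i := by
  have hp2 : 2 ≤ p := (Fact.out : p.Prime).two_le
  apply comb r s e f he hf
  intro j
  have hA := finrank_WW (k := k) p (fun i : Fin r => p ^ e i) j (fun i => p ^ (e i - j))
    (fun i t => hN_pow p hp2 (e i) j t)
  have hB := finrank_WW (k := k) p (fun i : Fin s => p ^ f i) j (fun i => p ^ (f i - j))
    (fun i t => hN_pow p hp2 (f i) j t)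
  have φ' : (MvPolynomial (Fin r) k ⧸ II (k := k) (fun i : Fin r => p ^ e i)) ≃ₐ[k]
      (MvPolynomial (Fin s) k ⧸ II (k := k) (fun i : Fin s => p ^ f i)) := φ
  have hmap : Submodule.map φ'.toLinearEquiv.toLinearMap
      (WW (k := k) (fun i : Fin r => p ^ e i) (p ^ j)) =
      WW (k := k) (fun i : Fin s => p ^ f i) (p ^ j) := by
    rw [WW, WW, Submodule.map_span]
    congr 1
    ext y
    constructor
    · rintro ⟨_, ⟨b, rfl⟩, rfl⟩
      exact ⟨φ' b, (map_pow φ' b _).symm⟩
    · rintro ⟨b, rfl⟩
      refine ⟨_, ⟨φ'.symm b, rfl⟩, ?_⟩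
      show φ' ((φ'.symm b) ^ p ^ j) = b ^ p ^ j
      rw [map_pow, AlgEquiv.apply_symm_apply]
  have hfr := LinearEquiv.finrank_map_eq φ'.toLinearEquiv
    (WW (k := k) (fun i : Fin r => p ^ e i) (p ^ j))
  rw [hmap, hA, hB, Finset.prod_pow_eq_pow_sum, Finset.prod_pow_eq_pow_sum] at hfr
  exact (Nat.pow_right_injective hp2 hfr).symm

end Groth.Agent.S16077
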