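import Groth.Statements.S16078
import Groth.Agent.Lib.Helper6.UnitComp2

set_option autoImplicit false
universe u
open scoped TensorProduct
open Hopf

namespace Groth.Agent.S16078

/-- Let R be a henselian Noetherian local ring, A and A'' commutative Hopf algebras over R which are
finite and flat as R-modules, and A'' → A an R-algebra homomorphism compatible with
comultiplications and counits making A faithfully flat over A'' (a faithfully flat homomorphism π :
G → G'' of finite flat R-groups); let J ⊆ A be the ideal generated by the image of the augmentation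
ideal of A'' (G' = Spec A/J = ker π, so that 1 → G' → G → G'' → 1 is exact). Let e ∈ A and e'' ∈ A''
be idempotents with ε(e) = 1, ε(e'') = 1 and A/(1 − e), A''/(1 − e'') local rings (the unit
components G⁰ and G''⁰), and let e' ∈ A be an element whose image in A/J is an idempotent, with
ε(e') = 1 and A/(J + (1 − e')) local (so G'⁰ = Spec (A/J)/(1 − e') is the unit component of G').
Suppose g : A''/(1 − e'') → A/(1 − e) is the ring homomorphism induced by A'' → A (the restriction
π⁰ : G⁰ → G''⁰ of π, which exists because G⁰ is connected). Then g is faithfully flat, and e ≡ e'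
modulo J, i.e. J + (1 − e) = J + (1 − e') and the kernel of π⁰, which is cut out in G⁰ by J, is
exactly G'⁰: the sequence 1 → G'⁰ → G⁰ → G''⁰ → 1 is exact. (The published statement also asserts
exactness of the maximal étale quotient G ↦ G^ét, not stated here.) -/
theorem result (R : Type u) [CommRing R] [HenselianLocalRing R]
    [IsNoetherianRing R] (A A'' : Type u) [CommRing A] [HopfAlgebra R A] [Module.Finite R A] [Module.Flat R A]
    [CommRing A''] [HopfAlgebra R A''] [Module.Finite R A''] [Module.Flat R A'']
    [Algebra A'' A] [IsScalarTower R A'' A] [Module.FaithfullyFlat A'' A]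
    (hΔ : (Bialgebra.comulAlgHom R A).comp (IsScalarTower.toAlgHom R A'' A) =
      (Algebra.TensorProduct.map (IsScalarTower.toAlgHom R A'' A) (IsScalarTower.toAlgHom R A'' A)).comp
        (Bialgebra.comulAlgHom R A''))
    (hε : (Bialgebra.counitAlgHom R A).comp (IsScalarTower.toAlgHom R A'' A) = Bialgebra.counitAlgHom R A'')
    (e : A) (he : IsIdempotentElem e) (heε : Bialgebra.counitAlgHom R A e = 1)
    [IsLocalRing (A ⧸ Ideal.span ({1 - e} : Set A))]
    (e'' : A'') (he'' : IsIdempotentElem e'') (he''ε : Bialgebra.counitAlgHom R A'' e'' = 1)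
    [IsLocalRing (A'' ⧸ Ideal.span ({1 - e''} : Set A''))]
    (e' : A) (he' : IsIdempotentElem (Ideal.Quotient.mk ((RingHom.ker (Bialgebra.counitAlgHom R A'')).map (algebraMap A'' A)) e'))
    (he'ε : Bialgebra.counitAlgHom R A e' = 1)
    [IsLocalRing (A ⧸ (((RingHom.ker (Bialgebra.counitAlgHom R A'')).map (algebraMap A'' A)) ⊔ Ideal.span ({1 - e'} : Set A)))]
    (g : (A'' ⧸ Ideal.span ({1 - e''} : Set A'')) →+* (A ⧸ Ideal.span ({1 - e} : Set A)))
    (hg : g.comp (Ideal.Quotient.mk (Ideal.span ({1 - e''} : Set A''))) =
      (Ideal.Quotient.mk (Ideal.span ({1 - e} : Set A))).comp (algebraMap A'' A)) :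
    g.FaithfullyFlat ∧
      Ideal.Quotient.mk ((RingHom.ker (Bialgebra.counitAlgHom R A'')).map (algebraMap A'' A)) e = Ideal.Quotient.mk ((RingHom.ker (Bialgebra.counitAlgHom R A'')).map (algebraMap A'' A)) e' := by
  classical
  -- the counit kills J
  have hεalg : ∀ a'' : A'', Bialgebra.counitAlgHom R A (algebraMap A'' A a'') =
      Bialgebra.counitAlgHom R A'' a'' := by
    intro a''
    have := congrArg (fun f => f a'') hε
    exact this
  have hεJ : ∀ a ∈ (RingHom.ker (Bialgebra.counitAlgHom R A'')).map (algebraMap A'' A),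
      (Bialgebra.counitAlgHom R A : A →+* R) a = 0 := by
    have hle : (RingHom.ker (Bialgebra.counitAlgHom R A'')).map (algebraMap A'' A) ≤
        RingHom.ker (Bialgebra.counitAlgHom R A : A →+* R) := by
      rw [Ideal.map_le_iff_le_comap]
      intro a'' ha''
      rw [Ideal.mem_comap, RingHom.mem_ker]
      show Bialgebra.counitAlgHom R A (algebraMap A'' A a'') = 0
      rw [hεalg]
      exact ha''
    exact fun a ha => hle ha
  refine ⟨?_, ?_⟩
  · -- faithful flatness of g
    letI alg : Algebra (A'' ⧸ Ideal.span ({1 - e''} : Set A'')) (A ⧸ Ideal.span ({1 - e} : Set A)) :=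
      g.toAlgebra
    show Module.FaithfullyFlat (A'' ⧸ Ideal.span ({1 - e''} : Set A''))
      (A ⧸ Ideal.span ({1 - e} : Set A))
    haveI hlocA : IsLocalization (Submonoid.powers e) (A ⧸ Ideal.span ({1 - e} : Set A)) :=
      IsLocalization.Away.quotient_of_isIdempotentElem he
    haveI hlocA'' : IsLocalization (Submonoid.powers e'') (A'' ⧸ Ideal.span ({1 - e''} : Set A'')) :=
      IsLocalization.Away.quotient_of_isIdempotentElem he''
    haveI hfl1 : Module.Flat A (A ⧸ Ideal.span ({1 - e} : Set A)) :=
      IsLocalization.flat _ (Submonoid.powers e)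
    haveI hfl2 : Module.Flat A'' (A ⧸ Ideal.span ({1 - e} : Set A)) :=
      Module.Flat.trans A'' A _
    haveI htower : IsScalarTower A'' (A'' ⧸ Ideal.span ({1 - e''} : Set A''))
        (A ⧸ Ideal.span ({1 - e} : Set A)) := by
      refine IsScalarTower.of_algebraMap_eq fun a'' => ?_
      have := congrArg (fun f => f a'') hg
      exact this.symm
    haveI hfl3 : Module.Flat (A'' ⧸ Ideal.span ({1 - e''} : Set A''))
        (A ⧸ Ideal.span ({1 - e} : Set A)) :=
      (Module.flat_iff_of_isLocalization (A'' ⧸ Ideal.span ({1 - e''} : Set A''))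
        (Submonoid.powers e'') (A ⧸ Ideal.span ({1 - e} : Set A))).2 hfl2
    -- g is local
    let εbar : (A ⧸ Ideal.span ({1 - e} : Set A)) →+* R :=
      (Groth.Agent.Lib.Helper6.UnitComp.counitBar e heε : _ →+* R)
    let εbar'' : (A'' ⧸ Ideal.span ({1 - e''} : Set A'')) →+* R :=
      (Groth.Agent.Lib.Helper6.UnitComp.counitBar e'' he''ε : _ →+* R)
    have hcomp : εbar.comp g = εbar'' := by
      refine Ideal.Quotient.ringHom_ext (RingHom.ext fun a'' => ?_)
      have h1 : g (Ideal.Quotient.mk _ a'') = Ideal.Quotient.mk _ (algebraMap A'' A a'') :=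
        congrArg (fun f => f a'') hg
      show εbar (g (Ideal.Quotient.mk _ a'')) = εbar'' (Ideal.Quotient.mk _ a'')
      rw [h1]
      exact hεalg a''
    have hsurj : Function.Surjective εbar'' := by
      intro r
      refine ⟨algebraMap R _ r, ?_⟩
      exact (Groth.Agent.Lib.Helper6.UnitComp.counitBar e'' he''ε).commutes r
    haveI hloc1 : IsLocalHom (εbar.comp g) := by
      rw [hcomp]
      exact IsLocalHom.of_surjective εbar'' hsurj
    haveI hloc2 : IsLocalHom g := isLocalHom_of_comp g εbar
    haveI hloc3 : IsLocalHom (algebraMap (A'' ⧸ Ideal.span ({1 - e''} : Set A''))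
        (A ⧸ Ideal.span ({1 - e} : Set A))) := hloc2
    exact Module.FaithfullyFlat.of_flat_of_isLocalHom
  · -- e ≡ e' mod J
    have hmke : IsIdempotentElem (Ideal.Quotient.mk
        ((RingHom.ker (Bialgebra.counitAlgHom R A'')).map (algebraMap A'' A)) e) := he.map _
    haveI hlocal : IsLocalRing (A ⧸ ((RingHom.ker (Bialgebra.counitAlgHom R A'')).map
        (algebraMap A'' A) ⊔ Ideal.span ({1 - e} : Set A))) := by
      haveI : Nontrivial (A ⧸ ((RingHom.ker (Bialgebra.counitAlgHom R A'')).map
          (algebraMap A'' A) ⊔ Ideal.span ({1 - e} : Set A))) := by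
        rw [Ideal.Quotient.nontrivial_iff]
        intro htop
        have hle : (RingHom.ker (Bialgebra.counitAlgHom R A'')).map (algebraMap A'' A) ⊔
            Ideal.span ({1 - e} : Set A) ≤ RingHom.ker (Bialgebra.counitAlgHom R A : A →+* R) := by
          refine sup_le (fun a ha => hεJ a ha) ?_
          exact Groth.Agent.Lib.Helper6.UnitComp.span_le_ker e heε
        rw [htop, top_le_iff] at hle
        have h1 : (1 : A) ∈ RingHom.ker (Bialgebra.counitAlgHom R A : A →+* R) := by
          rw [hle]; trivial
        rw [RingHom.mem_ker, map_one] at h1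
        exact one_ne_zero h1
      exact IsLocalRing.of_surjective'
        (Ideal.Quotient.factor (le_sup_right :
          Ideal.span ({1 - e} : Set A) ≤ (RingHom.ker (Bialgebra.counitAlgHom R A'')).map
            (algebraMap A'' A) ⊔ Ideal.span ({1 - e} : Set A)))
        (Ideal.Quotient.factor_surjective _)
    exact Groth.Agent.Helper6.UnitComp2.mk_eq_of_local _ e e' hmke he'
      (Bialgebra.counitAlgHom R A : A →+* R) hεJ heε he'ε

end Groth.Agent.S16078
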