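import Groth.Statements.S16079
import Groth.Agent.Lib.Helper6.UnitComp2
import Groth.Agent.Lib.Helper6.QuotBialg

set_option autoImplicit false
universe u
open scoped TensorProduct
open Hopf

namespace Groth.Agent.S16079

/-- Let R be a henselian Noetherian local ring, A and B commutative and cocommutative Hopf algebras over
R which are finitely generated and projective as R-modules (finite flat commutative R-groups G =
Spec A and H = Spec B), and ψ : B → A an R-bialgebra homomorphism (a homomorphism φ : G → H). Let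
e_A ∈ A be an idempotent with ε(e_A) = 1 such that (1 − e_A) is a Hopf ideal and A⁰ = A/(1 − e_A) is
local, R-projective and cocommutative (the unit component G⁰), and let e'_A be an idempotent of the
dual Hopf algebra Hom_R(A⁰, R) with ε(e'_A) = 1 and local quotient by (1 − e'_A) (the unit component
of the Cartier dual (G⁰)^D); similarly e_B, B⁰ = B/(1 − e_B) and e'_B for H. Call a linear form x on
A⁰ invariant when (id ⊗ multiplication by e'_A)(Δx) = x ⊗ e'_A, i.e. x is invariant under
translation by the unit component of (G⁰)^D and so lies in the Hopf algebra of its étale quotient;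
the elements of A⁰ annihilated by all invariant x form the ideal of G_μ ⊆ G⁰ ⊆ G, the largest
connected multiplicative closed subgroup of G; likewise for B and H_μ. Then the filtration G_μ ⊆ G⁰
⊆ G is respected by φ at the G_μ step: φ maps G_μ into H_μ, i.e. for every b ∈ B whose image in B⁰
is annihilated by all invariant linear forms on B⁰ (b in the ideal of H_μ), the image of ψ(b) in A⁰
is annihilated by all invariant linear forms on A⁰ (ψ(b) in the ideal of G_μ). (That φ maps G⁰ into
H⁰ is the universal property of the unit component and is not restated.) -/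
theorem result (R : Type u) [CommRing R]
    [HenselianLocalRing R] [IsNoetherianRing R] (A B : Type u) [CommRing A] [HopfAlgebra R A] [Coalgebra.IsCocomm R A]
    [Module.Finite R A] [Module.Projective R A] [CommRing B] [HopfAlgebra R B] [Coalgebra.IsCocomm R B]
    [Module.Finite R B] [Module.Projective R B] (ψ : B →ₐc[R] A)
    (eA : A) (heA : IsIdempotentElem eA) (heAε : Bialgebra.counitAlgHom R A eA = 1)
    [(Ideal.span ({1 - eA} : Set A)).IsHopfIdeal R] [IsLocalRing (A ⧸ Ideal.span ({1 - eA} : Set A))] [Module.Projective R (A ⧸ Ideal.span ({1 - eA} : Set A))] [Coalgebra.IsCocomm R (A ⧸ Ideal.span ({1 - eA} : Set A))]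
    (fA : CartDual.D R (A ⧸ Ideal.span ({1 - eA} : Set A))) (hfA : IsIdempotentElem fA)
    (hfAε : Bialgebra.counitAlgHom R (CartDual.D R (A ⧸ Ideal.span ({1 - eA} : Set A))) fA = 1)
    [IsLocalRing (CartDual.D R (A ⧸ Ideal.span ({1 - eA} : Set A)) ⧸ Ideal.span ({1 - fA} : Set (CartDual.D R (A ⧸ Ideal.span ({1 - eA} : Set A)))))]
    (eB : B) (heB : IsIdempotentElem eB) (heBε : Bialgebra.counitAlgHom R B eB = 1)
    [(Ideal.span ({1 - eB} : Set B)).IsHopfIdeal R] [IsLocalRing (B ⧸ Ideal.span ({1 - eB} : Set B))] [Module.Projective R (B ⧸ Ideal.span ({1 - eB} : Set B))] [Coalgebra.IsCocomm R (B ⧸ Ideal.span ({1 - eB} : Set B))]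
    (fB : CartDual.D R (B ⧸ Ideal.span ({1 - eB} : Set B))) (hfB : IsIdempotentElem fB)
    (hfBε : Bialgebra.counitAlgHom R (CartDual.D R (B ⧸ Ideal.span ({1 - eB} : Set B))) fB = 1)
    [IsLocalRing (CartDual.D R (B ⧸ Ideal.span ({1 - eB} : Set B)) ⧸ Ideal.span ({1 - fB} : Set (CartDual.D R (B ⧸ Ideal.span ({1 - eB} : Set B)))))]
    (b : B) (hb : ∀ y : CartDual.D R (B ⧸ Ideal.span ({1 - eB} : Set B)), LinearMap.lTensor (CartDual.D R (B ⧸ Ideal.span ({1 - eB} : Set B))) (LinearMap.mulLeft R fB) (Coalgebra.comul (R := R) y) = y ⊗ₜ[R] fB → y (Ideal.Quotient.mk (Ideal.span ({1 - eB} : Set B)) b) = 0)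
    (x : CartDual.D R (A ⧸ Ideal.span ({1 - eA} : Set A))) (hx : LinearMap.lTensor (CartDual.D R (A ⧸ Ideal.span ({1 - eA} : Set A))) (LinearMap.mulLeft R fA) (Coalgebra.comul (R := R) x) = x ⊗ₜ[R] fA) :
    x (Ideal.Quotient.mk (Ideal.span ({1 - eA} : Set A)) (ψ b)) = 0 := by
  classical
  -- ψ maps the ideal of the unit component of H into that of G
  have hεψ : Bialgebra.counitAlgHom R A (ψ eB) = 1 := by
    have h1 : Bialgebra.counitAlgHom R A (ψ eB) = Bialgebra.counitAlgHom R B eB :=
      CoalgHomClass.counit_comp_apply ψ eB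
    rw [h1, heBε]
  have hψ : ∀ b ∈ Ideal.span ({1 - eB} : Set B), ψ b ∈ Ideal.span ({1 - eA} : Set A) := by
    have hle : Ideal.span ({1 - eB} : Set B) ≤
        (Ideal.span ({1 - eA} : Set A)).comap (ψ : B →ₐ[R] A) := by
      rw [Ideal.span_le, Set.singleton_subset_iff, SetLike.mem_coe, Ideal.mem_comap, map_sub,
        map_one]
      exact Groth.Agent.Helper6.UnitComp2.one_sub_mem_of_local heA (heB.map (ψ : B →ₐ[R] A))
        (Bialgebra.counitAlgHom R A : A →+* R) heAε hεψ
    exact fun b hb => hle hb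
  let ψ0 : (B ⧸ Ideal.span ({1 - eB} : Set B)) →ₐc[R] (A ⧸ Ideal.span ({1 - eA} : Set A)) :=
    Groth.Agent.Helper6.QuotBialg.quotMap ψ _ _ hψ
  let T : CartDual.D R (A ⧸ Ideal.span ({1 - eA} : Set A)) →ₐc[R]
      CartDual.D R (B ⧸ Ideal.span ({1 - eB} : Set B)) := CartDual.transpose R ψ0
  -- `fB ≤ T fA`
  have hεT : Bialgebra.counitAlgHom R (CartDual.D R (B ⧸ Ideal.span ({1 - eB} : Set B))) (T fA) = 1 := by
    have h1 : Bialgebra.counitAlgHom R (CartDual.D R (B ⧸ Ideal.span ({1 - eB} : Set B))) (T fA) =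
        Bialgebra.counitAlgHom R (CartDual.D R (A ⧸ Ideal.span ({1 - eA} : Set A))) fA :=
      CoalgHomClass.counit_comp_apply T fA
    rw [h1, hfAε]
  have hfBT : fB * T fA = fB :=
    Groth.Agent.Helper6.UnitComp2.mul_eq_of_local hfB (hfA.map T)
      (Bialgebra.counitAlgHom R (CartDual.D R (B ⧸ Ideal.span ({1 - eB} : Set B))) :
        CartDual.D R (B ⧸ Ideal.span ({1 - eB} : Set B)) →+* R) hfBε hεT
  -- transport of the invariance condition
  have hkey : ∀ z : CartDual.D R (A ⧸ Ideal.span ({1 - eA} : Set A)) ⊗[R]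
      CartDual.D R (A ⧸ Ideal.span ({1 - eA} : Set A)),
      TensorProduct.map (T : CartDual.D R (A ⧸ Ideal.span ({1 - eA} : Set A)) →ₗ[R] CartDual.D R (B ⧸ Ideal.span ({1 - eB} : Set B))) (T : CartDual.D R (A ⧸ Ideal.span ({1 - eA} : Set A)) →ₗ[R] CartDual.D R (B ⧸ Ideal.span ({1 - eB} : Set B)))
        (LinearMap.lTensor _ (LinearMap.mulLeft R fA) z) =
      LinearMap.lTensor _ (LinearMap.mulLeft R (T fA))
        (TensorProduct.map (T : CartDual.D R (A ⧸ Ideal.span ({1 - eA} : Set A)) →ₗ[R] CartDual.D R (B ⧸ Ideal.span ({1 - eB} : Set B))) (T : CartDual.D R (A ⧸ Ideal.span ({1 - eA} : Set A)) →ₗ[R] CartDual.D R (B ⧸ Ideal.span ({1 - eB} : Set B))) z) := by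
    intro z
    induction z using TensorProduct.induction_on with
    | zero => simp
    | tmul u v =>
      simp only [LinearMap.lTensor_tmul, TensorProduct.map_tmul, LinearMap.mulLeft_apply]
      congr 1
      exact map_mul T fA v
    | add z₁ z₂ h₁ h₂ => simp only [map_add, h₁, h₂]
  have hΔ : TensorProduct.map (T : CartDual.D R (A ⧸ Ideal.span ({1 - eA} : Set A)) →ₗ[R] CartDual.D R (B ⧸ Ideal.span ({1 - eB} : Set B))) (T : CartDual.D R (A ⧸ Ideal.span ({1 - eA} : Set A)) →ₗ[R] CartDual.D R (B ⧸ Ideal.span ({1 - eB} : Set B))) (Coalgebra.comul (R := R) x) =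
      Coalgebra.comul (R := R) (T x) := CoalgHomClass.map_comp_comul_apply T x
  have h1 := congrArg (TensorProduct.map (T : CartDual.D R (A ⧸ Ideal.span ({1 - eA} : Set A)) →ₗ[R] CartDual.D R (B ⧸ Ideal.span ({1 - eB} : Set B))) (T : CartDual.D R (A ⧸ Ideal.span ({1 - eA} : Set A)) →ₗ[R] CartDual.D R (B ⧸ Ideal.span ({1 - eB} : Set B)))) hx
  rw [hkey, hΔ, TensorProduct.map_tmul] at h1
  have h2 := congrArg (LinearMap.lTensor (CartDual.D R (B ⧸ Ideal.span ({1 - eB} : Set B)))
    (LinearMap.mulLeft R fB)) h1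
  rw [← LinearMap.lTensor_comp_apply, ← LinearMap.mulLeft_mul, LinearMap.lTensor_tmul,
    LinearMap.mulLeft_apply] at h2
  have hTx : ((T : CartDual.D R (A ⧸ Ideal.span ({1 - eA} : Set A)) →ₗ[R] CartDual.D R (B ⧸ Ideal.span ({1 - eB} : Set B))) x) = T x := rfl
  have hTf : ((T : CartDual.D R (A ⧸ Ideal.span ({1 - eA} : Set A)) →ₗ[R] CartDual.D R (B ⧸ Ideal.span ({1 - eB} : Set B))) fA) = T fA := rfl
  rw [hTx, hTf, hfBT] at h2
  have h3 := hb (T x) h2
  exact h3

end Groth.Agent.S16079
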