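import Groth.Statements.S1608
import Mathlib
import Groth.Agent.S9687
import Groth.Agent.Lib.Helper14.AffSpEquidim2
import Groth.Agent.Lib.Helper14.FibreClosure
import Groth.Agent.Lib.Helper15.FibDim0
import Groth.Agent.Lib.Helper16.Sch.QFBaseChange
import Groth.Agent.Lib.Helper16.Sch.SmoothLocusBC3
-- import your own Groth.Agent.* helpers here

set_option autoImplicit false
universe u
open CategoryTheory CategoryTheory.Limits AlgebraicGeometry
open Variety

namespace Groth.Agent.S1608

open Groth.Agent.Helper14 in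
theorem qf_of_dim_le_one {X' Y' : Scheme.{u}} [IsLocallyNoetherian Y'] (f' : X' ⟶ Y')
    [LocallyOfFiniteType f'] (hdim : ∀ s : Y', ringKrullDim (Y'.presheaf.stalk s) ≤ 1)
    (hmax : ∀ ξ : X', (∀ ξ' : X', ξ' ⤳ ξ → ξ' = ξ) → f'.QuasiFiniteAt ξ) (x' : X') :
    f'.QuasiFiniteAt x' := by
  obtain ⟨z, n, hzx, hfz, hzmax, hn, hfd⟩ := EquidimAt.exists_maximal_trdeg_eq_fibreDimAt f' x'
  rw [← Groth.Agent.Helper15.FibDim.fibreDimAt_eq_zero_iff_quasiFiniteAt, hfd]
  have hkey := Groth.Agent.S9687.result f' z n 0 hn (by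
    intro ξ hξ hξz
    have hξmax := AffSpEquidim.maximal_of_closure_mem_irreducibleComponents ξ hξ
    have h0 := AffSpEquidim.trdeg_eq_zero_of_quasiFiniteAt f' ξ (hmax ξ hξmax)
    change @Algebra.trdeg (Y'.residueField (f' ξ)) (X'.residueField ξ) _ _
      (f'.residueFieldMap ξ).hom.toAlgebra ≤ ((0 : ℕ) : Cardinal)
    rw [h0]
    simp)
  by_contra hne
  have hn1 : 1 ≤ n := by
    rcases Nat.eq_zero_or_pos n with h | h
    · exact absurd (by rw [h]; rfl) hne
    · exact h
  have h1 : ringKrullDim (X'.presheaf.stalk z) + (n : ℕ) ≤ 1 := by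
    refine hkey.trans ?_
    have := hdim (f' z)
    simpa using this
  have hnn : (0 : WithBot ℕ∞) ≤ ringKrullDim (X'.presheaf.stalk z) :=
    ringKrullDim_nonneg_of_nontrivial
  have h2 : ringKrullDim (X'.presheaf.stalk z) = 0 := by
    obtain ⟨m, hm⟩ : ∃ m : ℕ∞, ringKrullDim (X'.presheaf.stalk z) = m := by
      cases h : ringKrullDim (X'.presheaf.stalk z) with
      | bot => rw [h] at hnn; exact absurd hnn (by simp)
      | coe m => exact ⟨m, rfl⟩
    rw [hm] at h1 ⊢
    have h1' : m + (n : ℕ∞) ≤ 1 := by exact_mod_cast h1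
    have hm0 : m = 0 := by
      by_contra hm0
      have h5 : 1 ≤ m := Order.one_le_iff_pos.mpr (pos_iff_ne_zero.mpr hm0)
      have h6 : (1 : ℕ∞) + 1 ≤ m + n := add_le_add h5 (by exact_mod_cast hn1)
      have h7 := h6.trans h1'
      exact absurd ((ENat.add_one_le_iff ENat.one_ne_top).mp h7) (lt_irrefl _)
    rw [hm0]
    rfl
  have hzmax' := AffSpEquidim.maximal_of_stalk_dim_zero z h2
  have h0 := AffSpEquidim.trdeg_eq_zero_of_quasiFiniteAt f' z (hmax z hzmax')
  rw [h0] at hn
  have : n = 0 := by exact_mod_cast hn.symm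
  omega

/-- Let f : X → Y be locally of finite type, and let y ∈ Y be a point whose local ring is Noetherian of
dimension at most one. Suppose f is quasi-finite at the generic point of each irreducible component
of X. Then f is quasi-finite at each point x of X with f(x) = y. -/
theorem result {X Y : Scheme.{u}} (f : X ⟶ Y) [LocallyOfFiniteType f]
    (y : Y) [IsNoetherianRing (Y.presheaf.stalk y)] (hy : ringKrullDim (Y.presheaf.stalk y) ≤ 1)
    (hgen : ∀ Z ∈ irreducibleComponents (X : Type u), ∀ η : X, IsGenericPoint η Z → f.QuasiFiniteAt η)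
    (x : X) (hx : f.base x = y) : f.QuasiFiniteAt x := by
  classical
  open Groth.Agent.Helper14 in
  subst hx
  set g := Y.fromSpecStalk (f x) with hg
  haveI : IsLocallyNoetherian (Spec (Y.presheaf.stalk (f x))) := inferInstance
  have hsq : IsPullback (Limits.pullback.fst f g) (Limits.pullback.snd f g) f g :=
    IsPullback.of_hasPullback f g
  haveI : LocallyOfFiniteType (Limits.pullback.snd f g) :=
    MorphismProperty.pullback_snd _ _ inferInstance
  -- a point of the pullback over x
  obtain ⟨x', hx', -⟩ := Scheme.Pullback.exists_preimage_pullback (f := f) (g := g) x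
    (IsLocalRing.closedPoint (Y.presheaf.stalk (f x)))
    (by rw [hg, Scheme.fromSpecStalk_closedPoint])
  rw [← hx']
  refine Groth.Agent.Helper16.QFBC.qf_of_qf_pullback f g _ _ hsq x' ?_
  refine qf_of_dim_le_one (Limits.pullback.snd f g) ?_ ?_ x'
  · intro s
    have hT : IsAffineOpen (⊤ : (Spec (Y.presheaf.stalk (f x))).Opens) := isAffineOpen_top _
    rw [ResFieldBridge.ringKrullDim_stalk hT s trivial]
    haveI := (hT.primeIdealOf ⟨s, trivial⟩).isPrime
    refine (Ideal.height_le_ringKrullDim_of_ne_top Ideal.IsPrime.ne_top').trans ?_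
    rw [ringKrullDim_eq_of_ringEquiv
      (Scheme.ΓSpecIso (Y.presheaf.stalk (f x))).commRingCatIsoToRingEquiv]
    exact hy
  · intro ξ' hξ'
    refine Groth.Agent.Helper16.QFBC.qf_of_pullback f g _ _ hsq ξ' ?_
    haveI : Flat g := Groth.Agent.Helper16.SmoothLocusBC.flat_fromSpecStalk Y (f x)
    haveI : Flat (Limits.pullback.fst f g) := MorphismProperty.pullback_fst _ _ inferInstance
    have hgen' : GeneralizingMap (Limits.pullback.fst f g) := Flat.generalizingMap _
    have hmax : ∀ ξ₁ : X, ξ₁ ⤳ (Limits.pullback.fst f g) ξ' → ξ₁ = (Limits.pullback.fst f g) ξ' := by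
      intro ξ₁ h1
      obtain ⟨ξ₁', h2, h3⟩ := hgen' h1
      rw [← h3, hξ' ξ₁' h2]
    have hcomp := FibreClosure.closure_mem_irreducibleComponents_of_maximal _ hmax
    exact hgen _ hcomp _ isGenericPoint_closure

end Groth.Agent.S1608
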