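import Groth.Statements.S16082
import Mathlib

set_option autoImplicit false
universe u
open CategoryTheory CategoryTheory.Limits AlgebraicGeometry TopologicalSpace
open SDiv

namespace Groth.Agent.S16082


open RefHull

theorem main (X : Scheme.{u}) [IsIntegral X] (F G : X.Modules) (hGt : TorSh.IsTorsionFree G) :
    TorSh.IsTorsionFree (RefHull.homSh F G) := by
  intro x
  constructor
  intro a ha
  -- reduce to `a • θ = 0 → θ = 0`
  suffices h : ∀ θ : (homSh F G).presheaf.stalk x, a • θ = 0 → θ = 0 by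
    intro θ₁ θ₂ h12
    have h12' : a • θ₁ = a • θ₂ := h12
    have := h (θ₁ - θ₂) (by rw [smul_sub, h12', sub_self])
    exact sub_eq_zero.mp this
  intro θ hθ
  have ha0 : a ≠ 0 := ha.ne_zero
  obtain ⟨Ua, hxa, r, rfl⟩ := TopCat.Presheaf.exists_germ_eq X.presheaf a
  obtain ⟨Ut, hxt, g, rfl⟩ := TopCat.Presheaf.exists_germ_eq (homSh F G).presheaf θ
  -- restrict to the intersection
  obtain ⟨U, hU⟩ : ∃ U : X.Opens, U = Ua ⊓ Ut := ⟨_, rfl⟩
  have hxU : x ∈ U := hU ▸ ⟨hxa, hxt⟩
  have ia : U ⟶ Ua := homOfLE (hU ▸ inf_le_left)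
  have it : U ⟶ Ut := homOfLE (hU ▸ inf_le_right)
  rw [← TopCat.Presheaf.germ_res_apply X.presheaf ia x hxU,
    ← TopCat.Presheaf.germ_res_apply (homSh F G).presheaf it x hxU] at hθ
  rw [← TopCat.Presheaf.germ_res_apply X.presheaf ia x hxU] at ha0
  rw [← TopCat.Presheaf.germ_res_apply (homSh F G).presheaf it x hxU]
  generalize (X.presheaf.map ia.op) r = r' at hθ ha0
  generalize ((homSh F G).presheaf.map it.op) g = g' at hθ ⊢
  rw [← Mero.germ_smul] at hθ
  have hθ' : (homSh F G).presheaf.germ U x hxU (r' • g') =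
      (homSh F G).presheaf.germ U x hxU 0 := by rw [hθ, map_zero]
  obtain ⟨W, hxW, i₁, i₂, hW⟩ := TopCat.Presheaf.germ_eq (homSh F G).presheaf x hxU hxU _ _ hθ'
  have hr' : r' ≠ 0 := by
    intro h0
    apply ha0
    rw [h0, map_zero]
  -- `g'` vanishes on `W`
  have hgW : (homSh F G).presheaf.map i₁.op g' = 0 := by
    apply Subtype.ext
    funext y
    have hy : X.presheaf.germ U y.1 (i₁.le y.2) r' • g'.1 ⟨y.1, i₁.le y.2⟩ = 0 :=
      congrArg (fun s : Γ(homSh F G, W) => s.1 y) hW
    change g'.1 ⟨y.1, i₁.le y.2⟩ = 0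
    have hry : X.presheaf.germ U y.1 (i₁.le y.2) r' ≠ 0 := by
      intro h0
      apply hr'
      apply germ_injective_of_isIntegral X y.1 (i₁.le y.2)
      rw [h0, map_zero]
    apply LinearMap.ext
    intro v
    have hyv := LinearMap.congr_fun hy v
    have hreg : IsRegular (X.presheaf.germ U y.1 (i₁.le y.2) r') := IsRegular.of_ne_zero hry
    have := (hGt y.1).isSMulRegular hreg
    apply this
    change X.presheaf.germ U y.1 (i₁.le y.2) r' • (g'.1 ⟨y.1, i₁.le y.2⟩ v) = _ • (0 : G.presheaf.stalk y.1)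
    rw [smul_zero]
    exact hyv
  rw [← TopCat.Presheaf.germ_res_apply (homSh F G).presheaf i₁ x hxW, hgW, map_zero]

/-- Let X be an integral scheme and F, G quasi-coherent O_X-modules with F of finite presentation and G
torsion free (every stalk G_x is a torsion-free module over the domain O_{X,x}). Then every stalk of
the sheaf Hom 𝓗om_{O_X}(F, G) is torsion free as well. -/
theorem result (X : Scheme.{u}) [IsIntegral X] (F G : X.Modules) (hF : Coh.IsQCoh F)
    (hFp : CohB1.IsFP F) (hG : Coh.IsQCoh G) (hGt : TorSh.IsTorsionFree G) :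
    TorSh.IsTorsionFree (RefHull.homSh F G) := by
  exact main X F G hGt

end Groth.Agent.S16082
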