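import Groth.Statements.S16104
import Mathlib.RingTheory.Ideal.KrullsHeightTheorem
import Mathlib.RingTheory.Nakayama
import Mathlib.RingTheory.HopkinsLevitzki

set_option autoImplicit false
universe u v
open LunaSt

namespace Groth.Agent.S16104

theorem len_quot_ker {A C : Type*} [CommRing A] [CommRing C] (ψ : A →+* C)
    (hψ : Function.Surjective ψ) :
    Module.length A (A ⧸ RingHom.ker ψ) = Module.length C C := by
  letI := ψ.toAlgebra
  have h1 : Module.length A C = Module.length C C :=
    Module.length_eq_of_surjective (S := A) (R := C) (M := C) hψ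
  rw [← h1]
  have e : (A ⧸ LinearMap.ker (Algebra.linearMap A C)) ≃ₗ[A] C :=
    LinearMap.quotKerEquivOfSurjective (Algebra.linearMap A C) hψ
  have hk : LinearMap.ker (Algebra.linearMap A C) = RingHom.ker ψ := by
    ext x; simp [RingHom.mem_ker, RingHom.algebraMap_toAlgebra]
  rw [← hk]
  exact e.length_eq

theorem len_quot_self {B : Type*} [CommRing B] (J : Ideal B) :
    Module.length B (B ⧸ J) = Module.length (B ⧸ J) (B ⧸ J) :=
  Module.length_eq_of_surjective (S := B) (R := B ⧸ J) (M := B ⧸ J) Ideal.Quotient.mk_surjective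

theorem artinian_quot_pow (A : Type*) [CommRing A] [IsLocalRing A] [IsNoetherianRing A] (n : ℕ) :
    IsArtinianRing (A ⧸ IsLocalRing.maximalIdeal A ^ (n + 1)) := by
  apply IsLocalRing.quotient_artinian_of_mem_minimalPrimes_of_isLocalRing
  rw [Ideal.minimalPrimes, Set.mem_ofPred]
  refine ⟨⟨inferInstance, Ideal.pow_le_self (by omega)⟩, ?_⟩
  rintro q ⟨hq, hq2⟩ _
  exact hq.le_of_pow_le hq2

theorem len_quot_pow_ne_top (A : Type*) [CommRing A] [IsLocalRing A] [IsNoetherianRing A] (n : ℕ) :
    Module.length A (A ⧸ IsLocalRing.maximalIdeal A ^ (n + 1)) ≠ ⊤ := by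
  rw [len_quot_self]
  have := artinian_quot_pow A n
  exact Module.length_ne_top

theorem approx_step {A B : Type*} [CommRing A] [CommRing B] (φ : A →+* B) (M : Ideal B)
    (h0 : ∀ b : B, ∃ a : A, b - φ a ∈ M) (I : Ideal A) :
    ∀ c ∈ Ideal.map φ I, ∃ a ∈ I, c - φ a ∈ M * Ideal.map φ I := by
  intro c hc
  unfold Ideal.map at hc
  induction hc using Submodule.span_induction with
  | mem x hx =>
    obtain ⟨a, ha, rfl⟩ := hx
    exact ⟨a, ha, by simp⟩
  | zero => exact ⟨0, I.zero_mem, by simp⟩
  | add x y _ _ hx hy =>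
    obtain ⟨a, ha, hxa⟩ := hx
    obtain ⟨a', ha', hya⟩ := hy
    refine ⟨a + a', I.add_mem ha ha', ?_⟩
    have : x + y - φ (a + a') = (x - φ a) + (y - φ a') := by rw [map_add]; ring
    rw [this]
    exact Ideal.add_mem _ hxa hya
  | smul r x _ hx =>
    obtain ⟨a, ha, hxa⟩ := hx
    obtain ⟨a', ha'⟩ := h0 r
    refine ⟨a' * a, I.mul_mem_left _ ha, ?_⟩
    have : r • x - φ (a' * a) = r * (x - φ a) + (r - φ a') * φ a := by
      rw [map_mul, smul_eq_mul]; ring
    rw [this]
    refine Ideal.add_mem _ (Ideal.mul_mem_left _ _ hxa) ?_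
    exact Ideal.mul_mem_mul ha' (Ideal.mem_map_of_mem φ ha)

/-- Case of local rings. Let φ : A → B be a local homomorphism of Noetherian local rings whose composite
A → B/m_B² is surjective (the first infinitesimal neighbourhoods give a closed immersion), and
assume that A/m_A^(n+1) and B/m_B^(n+1) have the same length for every n (the associated graded
modules of the two maximal ideals have pieces of the same dimension over the common residue field).
Then for every n the composite A → B/m_B^(n+1) is surjective with kernel m_A^(n+1): φ identifies all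
infinitesimal neighbourhoods. (The published statement is for a pointed morphism of Noetherian local
algebraic stacks; its proof reduces to this case of local rings.) -/
theorem result
    (A : Type u) (B : Type v) [CommRing A] [CommRing B] [IsLocalRing A] [IsLocalRing B]
    [IsNoetherianRing A] [IsNoetherianRing B] (φ : A →+* B) [IsLocalHom φ]
    (h1 : Function.Surjective ((Ideal.Quotient.mk (IsLocalRing.maximalIdeal B ^ 2)).comp φ))
    (hlen : ∀ n : ℕ, Module.length A (A ⧸ IsLocalRing.maximalIdeal A ^ (n + 1)) =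
      Module.length B (B ⧸ IsLocalRing.maximalIdeal B ^ (n + 1))) (n : ℕ) :
    Function.Surjective ((Ideal.Quotient.mk (IsLocalRing.maximalIdeal B ^ (n + 1))).comp φ) ∧
      RingHom.ker ((Ideal.Quotient.mk (IsLocalRing.maximalIdeal B ^ (n + 1))).comp φ) =
        IsLocalRing.maximalIdeal A ^ (n + 1) := by
  classical
  set mA := IsLocalRing.maximalIdeal A with hmA
  set mB := IsLocalRing.maximalIdeal B with hmB
  -- step 0: every b is approximated mod m_B
  have h0 : ∀ b : B, ∃ a : A, b - φ a ∈ mB := by
    intro b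
    obtain ⟨a, ha⟩ := h1 (Ideal.Quotient.mk _ b)
    refine ⟨a, ?_⟩
    have : (Ideal.Quotient.mk (mB ^ 2)) (b - φ a) = 0 := by
      rw [map_sub]; simp only [RingHom.comp_apply] at ha; rw [ha]; simp
    rw [Ideal.Quotient.eq_zero_iff_mem] at this
    exact Ideal.pow_le_self (by norm_num) this
  -- step 1: m_B = map φ m_A
  have hmap : Ideal.map φ mA = mB := by
    apply le_antisymm
    · rw [Ideal.map_le_iff_le_comap]
      intro a ha
      rw [Ideal.mem_comap]
      rw [hmA, IsLocalRing.mem_maximalIdeal, mem_nonunits_iff] at ha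
      rw [hmB, IsLocalRing.mem_maximalIdeal, mem_nonunits_iff]
      intro hu
      exact ha (isUnit_of_map_unit φ a hu)
    · apply Submodule.le_of_le_smul_of_le_jacobson_bot (I := mB)
        (IsNoetherian.noetherian _)
      · exact IsLocalRing.maximalIdeal_le_jacobson _
      · intro b hb
        obtain ⟨a, ha⟩ := h1 (Ideal.Quotient.mk _ b)
        have h2 : (Ideal.Quotient.mk (mB ^ 2)) (b - φ a) = 0 := by
          rw [map_sub]; simp only [RingHom.comp_apply] at ha; rw [ha]; simp
        rw [Ideal.Quotient.eq_zero_iff_mem] at h2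
        have h3 : φ a ∈ mB := by
          have : φ a = b - (b - φ a) := by ring
          rw [this]
          exact Ideal.sub_mem _ hb (Ideal.pow_le_self (by norm_num) h2)
        have h4 : a ∈ mA := by
          rw [hmA, IsLocalRing.mem_maximalIdeal, mem_nonunits_iff]
          intro hu
          rw [hmB, IsLocalRing.mem_maximalIdeal, mem_nonunits_iff] at h3
          exact h3 (hu.map φ)
        have : b = φ a + (b - φ a) := by ring
        rw [this]
        refine Submodule.add_mem_sup (Ideal.mem_map_of_mem φ h4) ?_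
        rw [smul_eq_mul, ← pow_two]
        exact h2
  have hmappow : ∀ k, Ideal.map φ (mA ^ k) = mB ^ k := by
    intro k; rw [Ideal.map_pow, hmap]
  -- step 2: surjectivity
  have hsurj : ∀ n : ℕ, ∀ b : B, ∃ a : A, b - φ a ∈ mB ^ (n + 1) := by
    intro n
    induction n with
    | zero => intro b; simpa using h0 b
    | succ n ih =>
      intro b
      obtain ⟨a, ha⟩ := ih b
      rw [← hmappow] at ha
      obtain ⟨a', _, ha'2⟩ := approx_step φ mB h0 _ _ ha
      refine ⟨a + a', ?_⟩
      rw [hmappow, ← pow_succ'] at ha'2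
      have : b - φ (a + a') = b - φ a - φ a' := by rw [map_add]; ring
      rw [this]; exact ha'2
  have hs : Function.Surjective ((Ideal.Quotient.mk (mB ^ (n + 1))).comp φ) := by
    intro y
    obtain ⟨b, rfl⟩ := Ideal.Quotient.mk_surjective y
    obtain ⟨a, ha⟩ := hsurj n b
    refine ⟨a, ?_⟩
    simp only [RingHom.comp_apply]
    rw [eq_comm, Ideal.Quotient.eq]
    exact ha
  refine ⟨hs, ?_⟩
  -- step 3: kernel
  have hle : mA ^ (n + 1) ≤ RingHom.ker ((Ideal.Quotient.mk (mB ^ (n + 1))).comp φ) := by
    intro a ha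
    rw [RingHom.mem_ker, RingHom.comp_apply, Ideal.Quotient.eq_zero_iff_mem, ← hmappow]
    exact Ideal.mem_map_of_mem φ ha
  by_contra hne
  have hlt : mA ^ (n + 1) < RingHom.ker ((Ideal.Quotient.mk (mB ^ (n + 1))).comp φ) :=
    lt_of_le_of_ne hle (Ne.symm hne)
  have hlenK : Module.length A (A ⧸ RingHom.ker ((Ideal.Quotient.mk (mB ^ (n + 1))).comp φ))
      = Module.length A (A ⧸ mA ^ (n + 1)) := by
    rw [len_quot_ker _ hs, ← len_quot_self, hlen n]
  have hfin := len_quot_pow_ne_top A n
  rw [Module.length_quotient, Module.length_quotient] at hlenK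
  rw [Module.length_quotient] at hfin
  have := Order.coheight_strictAnti hlt (by rw [hlenK]; exact lt_top_iff_ne_top.mpr hfin)
  rw [hlenK] at this
  exact lt_irrefl _ this

end Groth.Agent.S16104
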