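import Groth.Statements.S16105
import Mathlib
import Groth.Agent.Lib.Helper22.Integ
import Groth.Agent.Lib.Helper22.Chev

set_option autoImplicit false
universe u v w w'
open LunaSt

namespace Groth.Agent.S16105

/-- The key claim of its proof. Let k be a field and H a commutative Hopf algebra of finite type over k
all of whose finite-dimensional comodules are semisimple (a linearly reductive affine group G = Spec
H). Let A be a Noetherian commutative k-algebra with a coaction of H that is an algebra map (an
action of G on Spec A), let m be a maximal ideal of A stable under the coaction (for instance the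
ideal of a closed point fixed by G), and assume that the ring of invariants A^G is a Noetherian
local ring, complete with respect to its maximal ideal. Let M be a finite A-module with a compatible
H-coaction (a coherent G-module on Spec A). Then (i) an invariant element of M which lies in m^n M
for every n is zero, and (ii) for every sequence of invariants x_0, x_1, … with x_(n+1) − x_n ∈ m^n
M there is an invariant x with x − x_n ∈ m^n M for all n. In other words M^G → lim_n M^G/(m^n M)^G
is bijective: the m-adic filtration and the filtration by powers of the maximal ideal of A^G induce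
the same topology on M^G. (The ring of invariants is assumed Noetherian here; this also follows from
linear reductivity.) -/
theorem result
    (k : Type u) [Field k] (H : Type v) [CommRing H] [HopfAlgebra k H] [Algebra.FiniteType k H]
    (hG : HopfRep.IsLinearlyReductive k H)
    (A : Type w) [CommRing A] [Algebra k A] [IsNoetherianRing A]
    [HopfRep.Comod k H A] [GLin.IsCoactAlg k H A]
    (m : Ideal A) [m.IsMaximal] (hm : HopfRep.IsSubcomod (k := k) (A := H) (m.restrictScalars k))
    [IsLocalRing ↥(GLin.invariants k H A)] [IsNoetherianRing ↥(GLin.invariants k H A)]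
    [IsAdicComplete (IsLocalRing.maximalIdeal ↥(GLin.invariants k H A)) ↥(GLin.invariants k H A)]
    (M : Type w') [AddCommGroup M] [Module k M] [Module A M] [IsScalarTower k A M] [Module.Finite A M]
    [HopfRep.Comod k H M] [TameAct.IsHopfMod k H A M] :
    (∀ x ∈ HopfRep.fixedPts k H M, (∀ n : ℕ, x ∈ (m ^ n • ⊤ : Submodule A M)) → x = 0) ∧
      ∀ x : ℕ → M, (∀ n, x n ∈ HopfRep.fixedPts k H M) →
        (∀ n, x (n + 1) - x n ∈ (m ^ n • ⊤ : Submodule A M)) →
          ∃ y ∈ HopfRep.fixedPts k H M, ∀ n, y - x n ∈ (m ^ n • ⊤ : Submodule A M) := by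
  classical
  obtain ⟨I, hI⟩ := Groth.Agent.Helper22.Integ.exists_isInt hG
  haveI hAA : TameAct.IsHopfMod k H A A := Groth.Agent.Helper19.HopfLib.isHopfMod_self k H A
  have hEinv : ∀ a : A, Groth.Agent.Helper22.Integ.E I A A a ∈ GLin.invariants k H A := fun a =>
    (GLin.mem_invariants_iff k H A _).2 (Groth.Agent.Helper22.Integ.E_mem A A hI a)
  have hm_ne : m ≠ ⊤ := Ideal.IsMaximal.ne_top ‹_›
  have step1 : ∀ c ∈ m, (⟨Groth.Agent.Helper22.Integ.E I A A c, hEinv c⟩ :
      ↥(GLin.invariants k H A)) ∈ IsLocalRing.maximalIdeal ↥(GLin.invariants k H A) := by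
    intro c hc
    rw [IsLocalRing.mem_maximalIdeal, mem_nonunits_iff]
    intro hu
    obtain ⟨e', he'⟩ := hu.exists_right_inv
    apply hm_ne
    rw [Ideal.eq_top_iff_one]
    have h1 : Groth.Agent.Helper22.Integ.E I A A c * (e' : A) = 1 := congrArg Subtype.val he'
    rw [← h1]
    exact m.mul_mem_right _ (Groth.Agent.Helper22.Integ.E_mem_ideal A m hm c hc)
  have step2 : ∀ a : ↥(GLin.invariants k H A),
      a ∈ IsLocalRing.maximalIdeal ↥(GLin.invariants k H A) → (a : A) ∈ m := by
    intro a ha
    by_contra hnot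
    obtain ⟨b, c, hc, hbc⟩ := Ideal.IsMaximal.exists_inv ‹m.IsMaximal› hnot
    have h1 : Groth.Agent.Helper22.Integ.E I A A 1 = 1 :=
      Groth.Agent.Helper22.Integ.E_of_mem A A hI 1 (by
        change HopfRep.Comod.coact (k := k) (A := H) (1 : A) = (1 : A) ⊗ₜ[k] (1 : H)
        rw [GLin.IsCoactAlg.coact_one (k := k) (A := H) (R := A), Algebra.TensorProduct.one_def])
    have h2 : Groth.Agent.Helper22.Integ.E I A A (b * a + c) =
        (a : A) * Groth.Agent.Helper22.Integ.E I A A b + Groth.Agent.Helper22.Integ.E I A A c := by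
      rw [map_add, mul_comm b, Groth.Agent.Helper22.Integ.E_mul_of_mem A (a : A) a.2 b]
    rw [hbc, h1] at h2
    have h3 : (1 : ↥(GLin.invariants k H A)) =
        a * ⟨Groth.Agent.Helper22.Integ.E I A A b, hEinv b⟩ +
          ⟨Groth.Agent.Helper22.Integ.E I A A c, hEinv c⟩ := Subtype.ext h2
    have h4 : (1 : ↥(GLin.invariants k H A)) ∈
        IsLocalRing.maximalIdeal ↥(GLin.invariants k H A) := by
      rw [h3]
      exact Ideal.add_mem _ (Ideal.mul_mem_right _ _ ha) (step1 c hc)
    exact (IsLocalRing.maximalIdeal.isMaximal _).ne_top ((Ideal.eq_top_iff_one _).2 h4)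
  have step3 : ∀ (Q₀ : Submodule ↥(GLin.invariants k H A) M) (x : M),
      x ∈ HopfRep.fixedPts k H M → ∀ r ∈ m,
      Groth.Agent.Helper22.Integ.E I A M (x - r • x) ∈ Q₀ → x ∈ Q₀ := by
    intro Q₀ x hx r hr hE
    rw [map_sub, Groth.Agent.Helper22.Integ.E_of_mem A M hI x hx,
      Groth.Agent.Helper22.Integ.E_smul_of_mem A M r x hx] at hE
    have hu : IsUnit (1 - (⟨Groth.Agent.Helper22.Integ.E I A A r, hEinv r⟩ :
        ↥(GLin.invariants k H A))) :=
      IsLocalRing.isUnit_one_sub_self_of_mem_nonunits _
        ((IsLocalRing.mem_maximalIdeal _).1 (step1 r hr))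
    have h1 : (1 - (⟨Groth.Agent.Helper22.Integ.E I A A r, hEinv r⟩ :
        ↥(GLin.invariants k H A))) • x ∈ Q₀ := by
      have h0 : (1 - (⟨Groth.Agent.Helper22.Integ.E I A A r, hEinv r⟩ :
          ↥(GLin.invariants k H A))) • x = x - Groth.Agent.Helper22.Integ.E I A A r • x := by
        rw [sub_smul, one_smul]; rfl
      rw [h0]; exact hE
    obtain ⟨u, hu'⟩ := hu
    have h2 : x = (↑u⁻¹ : ↥(GLin.invariants k H A)) •
        ((1 - (⟨Groth.Agent.Helper22.Integ.E I A A r, hEinv r⟩ :
          ↥(GLin.invariants k H A))) • x) := by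
      rw [← hu', smul_smul, Units.inv_mul, one_smul]
    rw [h2]
    exact Q₀.smul_mem _ h1
  refine ⟨?_, ?_⟩
  · intro x hx hxn
    obtain ⟨r, hr, hxr⟩ := Groth.Agent.Helper22.Chev.krull_mod m (⊥ : Submodule A M) x
      (fun N => Submodule.mem_sup_left (hxn N))
    have h0 : x - r • x = 0 := (Submodule.mem_bot A).1 hxr
    have h1 := step3 ⊥ x hx r hr (by rw [h0, map_zero]; exact Submodule.zero_mem _)
    exact (Submodule.mem_bot _).1 h1
  · intro x hxfix hxc
    let V : Submodule ↥(GLin.invariants k H A) M := Groth.Agent.Helper22.Integ.fixedSub k H A M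
    haveI : Module.Finite ↥(GLin.invariants k H A) V :=
      Module.Finite.iff_fg.mpr (Groth.Agent.Helper22.Integ.fixedSub_fg A M hI)
    let G : ℕ → Submodule ↥(GLin.invariants k H A) V := fun N =>
      Submodule.comap V.subtype
        ((m ^ N • ⊤ : Submodule A M).restrictScalars ↥(GLin.invariants k H A))
    have hGmem : ∀ N (w : V), w ∈ G N ↔ (w : M) ∈ (m ^ N • ⊤ : Submodule A M) :=
      fun N w => Iff.rfl
    have hG : Antitone G := by
      intro a b hab w hw
      rw [hGmem] at hw ⊢
      exact Submodule.smul_mono_left (Ideal.pow_le_pow_right hab) hw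
    have hpow : ∀ t (c : ↥(GLin.invariants k H A)),
        c ∈ IsLocalRing.maximalIdeal ↥(GLin.invariants k H A) ^ t → (c : A) ∈ m ^ t := by
      intro t c hc
      have h1 : IsLocalRing.maximalIdeal ↥(GLin.invariants k H A) ≤
          Ideal.comap (algebraMap ↥(GLin.invariants k H A) A) m := fun a ha => step2 a ha
      have h2 := (Ideal.pow_right_mono h1 t).trans (Ideal.le_comap_pow _ t)
      exact h2 hc
    have hdag : ∀ t, (IsLocalRing.maximalIdeal ↥(GLin.invariants k H A) ^ t • ⊤ :
        Submodule ↥(GLin.invariants k H A) V) ≤ G t := by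
      intro t
      rw [Submodule.smul_le]
      intro c hc w _
      rw [hGmem]
      exact Submodule.smul_mem_smul (hpow t c hc) Submodule.mem_top
    have hstar : ∀ (n : ℕ) (w : V),
        (∀ N, w ∈ G N ⊔ (IsLocalRing.maximalIdeal ↥(GLin.invariants k H A) ^ n • ⊤ :
          Submodule ↥(GLin.invariants k H A) V)) →
        w ∈ (IsLocalRing.maximalIdeal ↥(GLin.invariants k H A) ^ n • ⊤ :
          Submodule ↥(GLin.invariants k H A) V) := by
      intro n w hw
      let Q : Submodule ↥(GLin.invariants k H A) M :=
        (IsLocalRing.maximalIdeal ↥(GLin.invariants k H A) ^ n • ⊤ :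
          Submodule ↥(GLin.invariants k H A) V).map V.subtype
      have hQV : ∀ q ∈ Q, q ∈ HopfRep.fixedPts k H M := by
        rintro q ⟨q', -, rfl⟩
        exact q'.2
      have ha : ∀ N, (w : M) ∈ (m ^ N • ⊤ : Submodule A M) ⊔ Submodule.span A (Q : Set M) := by
        intro N
        obtain ⟨g, hg, q, hq, hgq⟩ := Submodule.mem_sup.mp (hw N)
        rw [← hgq, Submodule.coe_add]
        exact Submodule.add_mem_sup ((hGmem N g).1 hg) (Submodule.subset_span ⟨q, hq, rfl⟩)
      obtain ⟨r, hr, hwr⟩ := Groth.Agent.Helper22.Chev.krull_mod m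
        (Submodule.span A (Q : Set M)) (w : M) ha
      have hc : ∀ p ∈ Submodule.span A (Q : Set M), ∀ a : A,
          Groth.Agent.Helper22.Integ.E I A M (a • p) ∈ Q := by
        intro p hp
        induction hp using Submodule.span_induction with
        | mem q hq =>
          intro a
          rw [Groth.Agent.Helper22.Integ.E_smul_of_mem A M a q (hQV q hq)]
          exact Q.smul_mem ⟨_, hEinv a⟩ hq
        | zero => intro a; rw [smul_zero, map_zero]; exact Q.zero_mem
        | add p₁ p₂ _ _ h₁ h₂ => intro a; rw [smul_add, map_add]; exact Q.add_mem (h₁ a) (h₂ a)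
        | smul b p _ h => intro a; rw [smul_smul]; exact h (a * b)
      have h5 : (w : M) ∈ Q := step3 Q w w.2 r hr (by
        have h6 := hc _ hwr 1
        rwa [one_smul] at h6)
      obtain ⟨w', hw', hww'⟩ := h5
      have h7 : w' = w := Subtype.ext hww'
      rw [← h7]; exact hw'
    obtain ⟨y, hy⟩ := Groth.Agent.Helper22.Chev.chev G hG hdag hstar
      (fun n => (⟨x n, hxfix n⟩ : V)) (fun j => by rw [hGmem]; exact hxc j)
    exact ⟨y, y.2, fun n => (hGmem n _).1 (hy n)⟩

end Groth.Agent.S16105
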