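import Groth.Statements.S16124
-- import your own Groth.Agent.* helpers here
import Groth.Agent.Lib.Helper13.SemiLocal5

set_option autoImplicit false
universe u
open CategoryTheory MonoidalCategory CartesianMonoidalCategory MonObj GrpObj AlgebraicGeometry CategoryTheory.Limits
open AlgGrp

namespace Groth.Agent.S16124

/-- Over an algebraically closed field k, let X be a quasi-projective variety (a reduced separated
k-scheme, quasi-projective over k) with an action of a finite group Γ by k-automorphisms. Then X is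
covered by Γ-stable affine open subschemes: every point x of X lies in an affine open U with σ⁻¹(U)
= U for every σ in Γ. -/
theorem result (k : Type u) [Field k] [IsAlgClosed k]
    (X : Over (Spec (CommRingCat.of k))) [IsReduced X.left] [IsSeparated X.hom] (hX : RelProj.IsQuasiProjective X.hom)
    (Γgrp : Type u) [Group Γgrp] [Finite Γgrp] (ρ : Γgrp →* Aut X.left)
    (hρ : ∀ σ : Γgrp, (ρ σ).hom ≫ X.hom = X.hom) (x : ↥X.left) :
    ∃ U : X.left.Opens, x ∈ U ∧ IsAffineOpen U ∧ ∀ σ : Γgrp, (ρ σ).hom ⁻¹ᵁ U = U := by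
  classical
  obtain ⟨-, -, L, -, hL⟩ := hX
  set T : X.left.Opens := X.hom ⁻¹ᵁ (⊤ : (Spec (CommRingCat.of k)).Opens) with hT
  have hLT : CohB1.IsAmple (L.restrict T.ι) := hL ⟨⊤, isAffineOpen_top _⟩
  haveI : Fintype Γgrp := Fintype.ofFinite Γgrp
  have hmem : ∀ y : X.left, y ∈ T := fun y => trivial
  let Z : Finset T.toScheme :=
    Finset.univ.image (fun σ : Γgrp => (⟨(ρ σ).hom x, hmem _⟩ : T.toScheme))
  obtain ⟨n, s, h1, -, h3⟩ :=
    Groth.Agent.Helper13.SemiLocal.exists_affine_genLocus_finite_of_isAmple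
      (L.restrict T.ι) hLT ⊤ Z (fun _ _ => trivial)
  set U₀ : X.left.Opens := T.ι ''ᵁ (CohB1.genLocus _ s) with hU₀
  have hU₀a : IsAffineOpen U₀ := h3.image_of_isOpenImmersion T.ι
  have hxU₀ : ∀ σ : Γgrp, (ρ σ).hom x ∈ U₀ := by
    intro σ
    exact ⟨⟨(ρ σ).hom x, hmem _⟩, h1 _ (Finset.mem_image.2 ⟨σ, Finset.mem_univ _, rfl⟩), rfl⟩
  haveI : IsSeparated (terminal.from X.left) := by
    rw [show terminal.from X.left = X.hom ≫ terminal.from (Spec (CommRingCat.of k)) from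
      Subsingleton.elim _ _]
    infer_instance
  have hmemU : ∀ y : X.left, y ∈ (⨅ σ : Γgrp, (ρ σ).hom ⁻¹ᵁ U₀) ↔
      ∀ σ : Γgrp, (ρ σ).hom y ∈ U₀ := by
    intro y
    rw [← SetLike.mem_coe, TopologicalSpace.Opens.coe_iInf, Set.mem_iInter]
    rfl
  refine ⟨⨅ σ : Γgrp, (ρ σ).hom ⁻¹ᵁ U₀, (hmemU x).2 hxU₀, ?_, ?_⟩
  · exact IsAffineOpen.iInf (fun σ => hU₀a.preimage_of_isIso (ρ σ).hom)
  · intro τ
    refine SetLike.ext (fun y => ?_)
    rw [show y ∈ (ρ τ).hom ⁻¹ᵁ (⨅ σ : Γgrp, (ρ σ).hom ⁻¹ᵁ U₀) ↔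
      (ρ τ).hom y ∈ (⨅ σ : Γgrp, (ρ σ).hom ⁻¹ᵁ U₀) from Iff.rfl, hmemU, hmemU]
    refine (Equiv.mulRight τ).forall_congr (fun σ => ?_)
    rw [show (ρ ((Equiv.mulRight τ) σ)).hom = (ρ τ).hom ≫ (ρ σ).hom from by
      rw [Equiv.coe_mulRight, map_mul]; rfl]
    rfl

end Groth.Agent.S16124
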