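import Groth.Statements.S16133
import Groth.Agent.Lib.Helper18.AssocBun6
import Groth.Agent.Lib.Helper18.GrpFppf
import Groth.Agent.Lib.Helper18.RedProd
import Groth.Agent.Lib.Helper18.FpqcCov2
import Groth.Agent.Lib.Helper7.Geom2

set_option autoImplicit false
universe u
open CategoryTheory MonoidalCategory CartesianMonoidalCategory MonObj GrpObj AlgebraicGeometry CategoryTheory.Limits
open AlgGrp

namespace Groth.Agent.S16133

/-- Over an algebraically closed field k, let G be an algebraic group (a smooth k-group scheme of finite
type), f : X → Y a principal G-bundle between varieties (X, Y reduced separated k-schemes of finite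
type; σ the action on X; f flat and surjective with the square σ, p₂, f, f cartesian), and Z an
affine variety with an action τ of G. Then the associated fibre bundle X ×^G Z → Y exists: there are
a variety W (reduced, separated, of finite type over k), a morphism φ : X × Z → W which is invariant
for the diagonal action g · (x, z) = (g · x, g · z), and a morphism ψ : W → Y such that the square
formed by p₁ : X × Z → X, φ, f and ψ is cartesian. (The published statement covers every
G-quasi-projective Z; affine G-varieties are G-quasi-projective, and only that case is stated here.) -/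
theorem result (k : Type u) [Field k] [IsAlgClosed k]
    (G X Y Z : Over (Spec (CommRingCat.of k))) [GrpObj G] [Smooth G.hom] [QuasiCompact G.hom]
    [IsReduced X.left] [IsSeparated X.hom] [LocallyOfFiniteType X.hom] [QuasiCompact X.hom]
    [IsReduced Y.left] [IsSeparated Y.hom] [LocallyOfFiniteType Y.hom] [QuasiCompact Y.hom]
    [IsReduced Z.left] [IsAffine Z.left] [LocallyOfFiniteType Z.hom]
    (a : AlgGrp.Action G X) (f : X ⟶ Y) [Flat f.left] [Surjective f.left]
    (hsq : IsPullback a.act.left (snd G X).left f.left f.left) (b : AlgGrp.Action G Z) :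
    ∃ (W : Over (Spec (CommRingCat.of k))) (φ : X ⊗ Z ⟶ W) (ψ : W ⟶ Y),
      IsReduced W.left ∧ IsSeparated W.hom ∧ LocallyOfFiniteType W.hom ∧ QuasiCompact W.hom ∧
      lift ((G ◁ fst X Z) ≫ a.act) ((G ◁ snd X Z) ≫ b.act) ≫ φ = snd G (X ⊗ Z) ≫ φ ∧
      IsPullback (fst X Z).left φ.left f.left ψ.left := by
  haveI : QuasiCompact f.left := Groth.Agent.Helper18.GrpFppf.quasiCompact_left f
  have hcart : IsPullback a.act (snd G X) f f :=
    IsPullback.of_map_of_faithful (Over.forget _) hsq
  have hcov : Groth.Agent.Helper18.FpqcDesc.IsCov f.left := f.left.singleton_mem_fpqcPrecoverage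
  have hloc : NonAbH1.IsLocallyTrivialFor Scheme.fpqcPrecoverage
      (Over.mk f.left : Over Y.left) :=
    ⟨Presieve.singleton f.left, hcov, by
      rintro S' g ⟨⟩
      exact ⟨𝟙 _, Category.id_comp _⟩⟩
  haveI : IsAffineHom Z.hom := inferInstance
  obtain ⟨c⟩ := Groth.Agent.Helper18.AssocBun.exists_assocBun a f hcart b hloc
  have hpb := Groth.Agent.Helper18.AssocBun.isPullback_piL a f hcart b c
  haveI := Groth.Agent.Helper21.AffDesc.affine.{u}
  have hfstA : IsAffineHom (fst X Z).left := by
    change IsAffineHom (pullback.fst X.hom Z.hom)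
    exact MorphismProperty.pullback_fst (P := @IsAffineHom) _ _ inferInstance
  have hfstL : LocallyOfFiniteType (fst X Z).left := by
    change LocallyOfFiniteType (pullback.fst X.hom Z.hom)
    exact MorphismProperty.pullback_fst (P := @LocallyOfFiniteType) _ _ inferInstance
  haveI hUA : IsAffineHom c.U.hom :=
    Groth.Agent.Helper18.FpqcDesc.descends @IsAffineHom hcov.genFpqc hpb hfstA
  haveI hUL : LocallyOfFiniteType c.U.hom :=
    Groth.Agent.Helper18.FpqcDesc.descends @LocallyOfFiniteType hcov.genFpqc hpb hfstL
  haveI : Flat (Groth.Agent.Helper18.AssocBun.piL a f hcart b c) :=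
    MorphismProperty.of_isPullback (P := @Flat) hpb inferInstance
  haveI : Surjective (Groth.Agent.Helper18.AssocBun.piL a f hcart b c) :=
    MorphismProperty.of_isPullback (P := @Surjective) hpb inferInstance
  haveI : IsReduced (X ⊗ Z).left := by
    change IsReduced (pullback X.hom Z.hom)
    exact Groth.Agent.Helper18.RedProd.isReduced_pullback k X.hom Z.hom
  refine ⟨Groth.Agent.Helper18.AssocBun.W a f hcart b c,
    Groth.Agent.Helper18.AssocBun.piO a f hcart b c,
    Groth.Agent.Helper18.AssocBun.rmap a f hcart b c, ?_, ?_, ?_, ?_, ?_, hpb⟩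
  · change IsReduced c.U.left
    exact Groth.Agent.Helper7.isReduced_of_flat_surjective
      (Groth.Agent.Helper18.AssocBun.piL a f hcart b c)
  · change IsSeparated (c.U.hom ≫ Y.hom)
    infer_instance
  · change LocallyOfFiniteType (c.U.hom ≫ Y.hom)
    infer_instance
  · change QuasiCompact (c.U.hom ≫ Y.hom)
    infer_instance
  · exact Groth.Agent.Helper18.AssocBun.inv_piO a f hcart b c

end Groth.Agent.S16133
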