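import Groth.Statements.S16137
import Groth.Agent.Lib.Helper20.VBMap9
import Groth.Agent.Lib.Helper20.VBMap7

set_option autoImplicit false
universe u
open CategoryTheory CategoryTheory.Limits AlgebraicGeometry
open VBCurve

namespace Groth.Agent.S16137


theorem result (k : Type u) [Field k] [IsAlgClosed k] [CharZero k]
    (X : Scheme.{u}) [X.Over (Spec (CommRingCat.of k))]
    [IsProper (X ↘ Spec (CommRingCat.of k))] [Smooth (X ↘ Spec (CommRingCat.of k))]
    [GeometricallyConnected (X ↘ Spec (CommRingCat.of k))] (hdim : topologicalKrullDim ↥X = 1)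
    (hg : 2 ≤ Curv2.genus k X)
    (T : ShortComplex X.Modules) (hT : T.ShortExact)
    (r : ℕ) (hr : 0 < r) (hE : FlatMod.IsFinLocFreeOfRank r T.X₂)
    (hst : ModFun.IsSlopeStable k X T.X₂ r)
    (φ : T.X₃ ⟶ T.X₁) : φ = 0 := by
  have hint : IsIntegral X := Groth.Agent.Helper20.VBMap.isIntegral_of_geomConn k X
  have hψ : (T.g ≫ φ ≫ T.f) ≫ (T.g ≫ φ ≫ T.f) = 0 := by
    simp only [Category.assoc]
    rw [T.zero_assoc]
    simp
  have h0 := Groth.Agent.Helper20.VBMap.eq_zero_of_sq_zero_of_stable k hdim r T.X₂ hE hst _ hψ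
  have := hT.epi_g
  have := hT.mono_f
  rw [← cancel_epi T.g, ← cancel_mono T.f]
  simpa using h0

end Groth.Agent.S16137
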