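import Groth.Statements.S1615
import Mathlib

set_option autoImplicit false
universe u
open CategoryTheory CategoryTheory.Limits AlgebraicGeometry
open Constr

namespace Groth.Agent.S1615

/-- For a graded ring A, quasi-compactness of Proj A is equivalent to the existence of finitely many
homogeneous elements of positive degree generating an ideal whose radical contains the irrelevant
ideal A_+. -/
theorem result {R A : Type u} [CommRing R] [CommRing A] [Algebra R A] (𝒜 : ℕ → Submodule R A) [GradedAlgebra 𝒜] :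
    CompactSpace ↥(Proj 𝒜) ↔ ∃ s : Finset A, (∀ f ∈ s, ∃ d : ℕ, 0 < d ∧ f ∈ 𝒜 d) ∧
      (HomogeneousIdeal.irrelevant 𝒜).toIdeal ≤ (Ideal.span (s : Set A)).radical := by
  classical
  constructor
  · intro hc
    -- cover by basic opens of homogeneous elements of positive degree
    let ι := {f : A // ∃ d : ℕ, 0 < d ∧ f ∈ 𝒜 d}
    have hcover : (Set.univ : Set (Proj 𝒜)) ⊆ ⋃ f : ι, (Proj.basicOpen 𝒜 f.1 : Set (Proj 𝒜)) := by
      intro x _
      have hx := x.not_irrelevant_le
      rw [SetLike.not_le_iff_exists] at hx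
      obtain ⟨a, ha, hax⟩ := hx
      rw [HomogeneousIdeal.mem_irrelevant_iff] at ha
      -- some component of a is not in x
      have : ∃ i : ℕ, GradedRing.proj 𝒜 i a ∉ x.asHomogeneousIdeal := by
        by_contra hall
        push Not at hall
        apply hax
        rw [← DirectSum.sum_support_decompose 𝒜 a]
        refine Ideal.sum_mem _ fun i _ => ?_
        exact hall i
      obtain ⟨i, hi⟩ := this
      have hi0 : 0 < i := by
        rcases Nat.eq_zero_or_pos i with h0 | h0
        · exfalso; apply hi; rw [h0, ha]; exact zero_mem _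
        · exact h0
      refine Set.mem_iUnion.mpr ⟨⟨GradedRing.proj 𝒜 i a, i, hi0, ?_⟩, hi⟩
      exact SetLike.coe_mem _
    obtain ⟨t, ht⟩ := isCompact_univ.elim_finite_subcover
      (fun f : ι => (Proj.basicOpen 𝒜 f.1 : Set (Proj 𝒜)))
      (fun f => (Proj.basicOpen 𝒜 f.1).isOpen) hcover
    refine ⟨t.image Subtype.val, ?_, ?_⟩
    · intro f hf
      obtain ⟨g, -, rfl⟩ := Finset.mem_image.mp hf
      exact g.2
    · rw [Ideal.radical_eq_sInf]
      refine le_sInf ?_
      rintro p ⟨hsp, hp⟩
      by_contra hle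
      have hq : (p.homogeneousCore 𝒜).toIdeal.IsPrime := hp.homogeneousCore
      have hnot : ¬ HomogeneousIdeal.irrelevant 𝒜 ≤ p.homogeneousCore 𝒜 := by
        intro h
        exact hle (le_trans h (Ideal.toIdeal_homogeneousCore_le 𝒜 p))
      let x : Proj 𝒜 := ⟨p.homogeneousCore 𝒜, hq, hnot⟩
      obtain ⟨_, ⟨f, rfl⟩, hf⟩ := ht (Set.mem_univ x)
      simp only [Set.mem_iUnion] at hf
      obtain ⟨hft, hfx⟩ := hf
      apply hfx
      show f.1 ∈ (p.homogeneousCore 𝒜).toIdeal
      obtain ⟨d, -, hd⟩ := f.2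
      refine Ideal.mem_homogeneousCore_of_homogeneous_of_mem ⟨d, hd⟩ ?_
      exact hsp (Ideal.subset_span (Finset.mem_image_of_mem _ hft))
  · rintro ⟨s, hs, hle⟩
    have hcover : (Set.univ : Set (Proj 𝒜)) = ⋃ f ∈ s, (Proj.basicOpen 𝒜 f : Set (Proj 𝒜)) := by
      refine (Set.eq_univ_of_forall fun x => ?_).symm
      by_contra hx
      simp only [Set.mem_iUnion, not_exists] at hx
      apply x.not_irrelevant_le
      have h1 : Ideal.span (s : Set A) ≤ x.asHomogeneousIdeal.toIdeal := by
        rw [Ideal.span_le]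
        intro f hf
        by_contra hfx
        exact hx f hf hfx
      have h2 : (Ideal.span (s : Set A)).radical ≤ x.asHomogeneousIdeal.toIdeal :=
        (Ideal.IsPrime.radical_le_iff x.isPrime).mpr h1
      exact fun a ha => h2 (hle ha)
    refine ⟨?_⟩
    rw [hcover]
    refine s.isCompact_biUnion fun f hf => ?_
    obtain ⟨d, hd0, hd⟩ := hs f hf
    exact (Proj.isAffineOpen_basicOpen 𝒜 f hd hd0).isCompact

end Groth.Agent.S1615
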