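import Groth.Statements.S16152
import Mathlib

set_option autoImplicit false
universe u
open WGauss

namespace Groth.Agent.S16152


open MvPolynomial

section
variable {k : Type u} [Field k] {ι : Type} [Fintype ι] [DecidableEq ι]

/-- the weighted Wronskian tuple -/
noncomputable def Wr (a b : ℕ) (σ τ : MvPolynomial ι k) : ι → MvPolynomial ι k :=
  fun i => (b : k) • (τ * pderiv i σ) - (a : k) • (σ * pderiv i τ)

omit [Fintype ι] in
theorem exp_eq (α β : ι →₀ ℕ) (i : ι) (h : α i ≠ 0) :
    β + (α - Finsupp.single i 1) = α + β - Finsupp.single i 1 := by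
  apply Finsupp.ext
  intro l
  by_cases hl : l = i
  · subst hl
    simp only [Finsupp.coe_add, Finsupp.coe_tsub, Pi.add_apply, Pi.sub_apply,
      Finsupp.single_eq_same]
    omega
  · simp only [Finsupp.coe_add, Finsupp.coe_tsub, Pi.add_apply, Pi.sub_apply,
      Finsupp.single_apply, if_neg (Ne.symm hl)]
    omega

omit [Fintype ι] in
theorem mono_mul_pderiv (α β : ι →₀ ℕ) (i : ι) :
    (monomial β (1:k)) * pderiv i (monomial α (1:k)) =
      monomial (α + β - Finsupp.single i 1) (α i : k) := by
  rw [pderiv_monomial, monomial_mul]
  by_cases h : α i = 0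
  · simp [h]
  · rw [exp_eq α β i h]
    simp

omit [Fintype ι] in
theorem Wr_monomial (a b : ℕ) (α β : ι →₀ ℕ) (i : ι) :
    Wr a b (monomial α (1:k)) (monomial β 1) i =
      monomial (α + β - Finsupp.single i 1) ((b:k) * (α i : k) - (a:k) * (β i : k)) := by
  unfold Wr
  rw [mono_mul_pderiv, mono_mul_pderiv, smul_monomial, smul_monomial, add_comm β α,
    map_sub]
  simp [smul_eq_mul]

/-- elementary Koszul tuple -/
noncomputable def El (γ : ι →₀ ℕ) (i j : ι) : ι → MvPolynomial ι k :=
  fun l => monomial (γ - Finsupp.single l 1)
    ((if l = i then (1:k) else 0) - (if l = j then (1:k) else 0))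

/-- the target span -/
noncomputable def Sp (a b e : ℕ) : Submodule k (ι → MvPolynomial ι k) :=
  Submodule.span k
      {g : ι → MvPolynomial ι k |
        ∃ σ τ : MvPolynomial ι k, σ.IsHomogeneous (a * e) ∧ τ.IsHomogeneous (b * e) ∧
          g = fun i => (b : k) • (τ * pderiv i σ) - (a : k) • (σ * pderiv i τ)}

omit [Fintype ι] [DecidableEq ι] in
theorem Wr_mem (a b e : ℕ) (α β : ι →₀ ℕ) (hα : α.degree = a * e) (hβ : β.degree = b * e) :
    Wr a b (monomial α (1:k)) (monomial β 1) ∈ Sp (k := k) (ι := ι) a b e :=
  Submodule.subset_span ⟨_, _, isHomogeneous_monomial _ hα, isHomogeneous_monomial _ hβ, rfl⟩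

omit [Fintype ι] in
theorem El_mem [CharZero k] (a b e : ℕ) (he : 0 < e) (ha : 0 < a) (hb : 0 < b)
    (γ : ι →₀ ℕ) (i j : ι) (hij : i ≠ j)
    (hi : γ i ≠ 0) (hj : γ j ≠ 0) (hγ : γ.degree = (a + b) * e) :
    El (k := k) γ i j ∈ Sp (k := k) (ι := ι) a b e := by
  -- μ = γ - e_i - e_j
  obtain ⟨μ, hμ⟩ : ∃ μ : ι →₀ ℕ, γ = μ + Finsupp.single i 1 + Finsupp.single j 1 := by
    refine ⟨γ - Finsupp.single i 1 - Finsupp.single j 1, ?_⟩
    apply Finsupp.ext
    intro l
    by_cases hl : l = i
    · subst hl
      simp [Finsupp.single_apply, hij]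
      omega
    · by_cases hl' : l = j
      · subst hl'
        simp [Finsupp.single_apply, Ne.symm hl]
        omega
      · simp [Finsupp.single_apply, Ne.symm hl, Ne.symm hl']
  have hμd : μ.degree + 2 = (a + b) * e := by
    rw [← hγ, hμ]; simp [map_add]
  have hae : 1 ≤ a * e := Nat.mul_pos ha he
  have hbe : 1 ≤ b * e := Nat.mul_pos hb he
  have hsum : (a + b) * e = a * e + b * e := by ring
  obtain ⟨α', hα'le, hα'd⟩ := Finsupp.exists_le_degree_eq μ (a * e - 1) (by omega)
  obtain ⟨δ, rfl⟩ := le_iff_exists_add.mp hα'le
  have hδd : δ.degree = b * e - 1 := by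
    rw [map_add] at hμd; omega
  have h1 := Wr_mem (k := k) a b e (α' + Finsupp.single i 1) (δ + Finsupp.single j 1)
    (by simp [map_add, hα'd]; omega) (by simp [map_add, hδd]; omega)
  have h2 := Wr_mem (k := k) a b e (α' + Finsupp.single j 1) (δ + Finsupp.single i 1)
    (by simp [map_add, hα'd]; omega) (by simp [map_add, hδd]; omega)
  have hab : ((a:k) + (b:k)) ≠ 0 := by
    have : ((a + b : ℕ) : k) ≠ 0 := Nat.cast_ne_zero.mpr (by omega)
    simpa using this
  have key : El (k := k) γ i j = ((a:k) + (b:k))⁻¹ •
      (Wr a b (monomial (α' + Finsupp.single i 1) (1:k)) (monomial (δ + Finsupp.single j 1) 1) -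
       Wr a b (monomial (α' + Finsupp.single j 1) (1:k)) (monomial (δ + Finsupp.single i 1) 1)) := by
    funext l
    simp only [Pi.smul_apply, Pi.sub_apply, Wr_monomial]
    have e1 : α' + Finsupp.single i 1 + (δ + Finsupp.single j 1) = γ := by rw [hμ]; abel
    have e2 : α' + Finsupp.single j 1 + (δ + Finsupp.single i 1) = γ := by rw [hμ]; abel
    rw [e1, e2, ← map_sub, smul_monomial, El]
    congr 1
    rw [smul_eq_mul, eq_comm, inv_mul_eq_iff_eq_mul₀ hab]
    simp only [Finsupp.coe_add, Pi.add_apply, Finsupp.single_apply, Nat.cast_add]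
    by_cases hl : l = i
    · subst hl
      simp [hij, Ne.symm hij]
      ring
    · by_cases hl' : l = j
      · subst hl'
        simp [hij, Ne.symm hij]
        ring
      · simp [hl, hl', Ne.symm hl, Ne.symm hl']
  rw [key]
  exact Submodule.smul_mem _ _ (Submodule.sub_mem _ h1 h2)

/-- the support measure -/
noncomputable def meas (f : ι → MvPolynomial ι k) : ℕ := ∑ l, (f l).support.card

theorem euler_El (γ : ι →₀ ℕ) (i j : ι) (hij : i ≠ j) (hi : γ i ≠ 0) (hj : γ j ≠ 0) :
    ∑ l, X l * El (k := k) γ i j l = 0 := by
  have h : ∀ l, X l * El (k := k) γ i j l =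
      (if l = i then monomial γ (1:k) else 0) - (if l = j then monomial γ (1:k) else 0) := by
    intro l
    unfold El
    rw [X, monomial_mul, one_mul]
    by_cases hl : l = i
    · subst hl
      have : Finsupp.single l 1 + (γ - Finsupp.single l 1) = γ := by
        apply Finsupp.ext; intro t
        by_cases ht : t = l
        · subst ht; simp; omega
        · simp [Finsupp.single_apply, Ne.symm ht]
      simp [hij, this]
    · by_cases hl' : l = j
      · subst hl'
        have : Finsupp.single l 1 + (γ - Finsupp.single l 1) = γ := by
          apply Finsupp.ext; intro t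
          by_cases ht : t = l
          · subst ht; simp; omega
          · simp [Finsupp.single_apply, Ne.symm ht]
        simp [hl, this]
      · simp [hl, hl']
  simp_rw [h]
  rw [Finset.sum_sub_distrib]
  simp

theorem El_homog (γ : ι →₀ ℕ) (i j : ι) (N : ℕ) (hγ : γ.degree = N)
    (hi : γ i ≠ 0) (hj : γ j ≠ 0) (l : ι) :
    (El (k := k) γ i j l).IsHomogeneous (N - 1) := by
  unfold El
  by_cases hl : l = i ∨ l = j
  · apply isHomogeneous_monomial
    have hl0 : γ l ≠ 0 := by rcases hl with rfl | rfl <;> assumption
    have : γ = (γ - Finsupp.single l 1) + Finsupp.single l 1 := by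
      apply Finsupp.ext; intro t
      by_cases ht : t = l
      · subst ht; simp; omega
      · simp [Finsupp.single_apply, Ne.symm ht]
    have h2 : γ.degree = (γ - Finsupp.single l 1).degree + 1 := by
      conv_lhs => rw [this]
      simp [map_add]
    omega
  · push Not at hl
    simp [hl.1, hl.2]
    exact isHomogeneous_zero _ _ _

theorem main [CharZero k] (a b e : ℕ) (he : 0 < e) (ha : 0 < a) (hb : 0 < b) :
    ∀ (M : ℕ) (f : ι → MvPolynomial ι k), meas f ≤ M →
      (∀ i, (f i).IsHomogeneous ((a + b) * e - 1)) → ∑ i, X i * f i = 0 →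
      f ∈ Sp (k := k) (ι := ι) a b e := by
  intro M
  induction M with
  | zero =>
    intro f hM _ _
    have : f = 0 := by
      funext l
      have h0 : (f l).support.card = 0 := by
        have := Finset.single_le_sum (f := fun l => (f l).support.card)
          (fun _ _ => Nat.zero_le _) (Finset.mem_univ l)
        unfold meas at hM
        omega
      simpa using h0
    rw [this]; exact Submodule.zero_mem _
  | succ M ih =>
    intro f hM hf hE
    by_cases hzero : f = 0
    · rw [hzero]; exact Submodule.zero_mem _
    -- pick a nonzero coefficient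
    obtain ⟨i, hi0⟩ : ∃ i, f i ≠ 0 := by
      by_contra hcon
      push Not at hcon
      exact hzero (funext hcon)
    obtain ⟨m, hm⟩ := (MvPolynomial.ne_zero_iff).mp hi0
    set c := coeff m (f i) with hc
    set γ := m + Finsupp.single i 1 with hγdef
    have hN : 2 ≤ (a + b) * e := by
      have : (a + b) * e = a * e + b * e := by ring
      have := Nat.mul_pos ha he
      have := Nat.mul_pos hb he
      omega
    have hmdeg : m.degree = (a + b) * e - 1 := by
      have := hf i hm
      rw [Finsupp.degree_eq_weight_one]; exact this
    have hγdeg : γ.degree = (a + b) * e := by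
      simp [hγdef, map_add, hmdeg]; omega
    have hγi : γ i ≠ 0 := by simp [hγdef]
    have hγm : γ - Finsupp.single i 1 = m := by simp [hγdef]
    -- Euler coefficient at γ
    have hco : ∑ l, (if l ∈ γ.support then coeff (γ - Finsupp.single l 1) (f l) else 0) = 0 := by
      have := congrArg (coeff γ) hE
      rw [coeff_sum] at this
      simpa [coeff_X_mul'] using this
    obtain ⟨j, hji, hjs, hjc⟩ : ∃ j, j ≠ i ∧ j ∈ γ.support ∧
        coeff (γ - Finsupp.single j 1) (f j) ≠ 0 := by
      by_contra hcon
      push Not at hcon
      rw [Finset.sum_eq_single i] at hco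
      · rw [if_pos (Finsupp.mem_support_iff.mpr hγi), hγm] at hco
        exact hm hco
      · intro l _ hl
        by_cases hls : l ∈ γ.support
        · rw [if_pos hls]; exact hcon l hl hls
        · rw [if_neg hls]
      · intro h; exact absurd (Finset.mem_univ i) h
    have hγj : γ j ≠ 0 := Finsupp.mem_support_iff.mp hjs
    have hij : i ≠ j := Ne.symm hji
    set f' : ι → MvPolynomial ι k := f - c • El γ i j with hf'
    have hElmem := El_mem (k := k) a b e he ha hb γ i j hij hγi hγj hγdeg
    have hf'mem : f' ∈ Sp (k := k) (ι := ι) a b e := by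
      apply ih
      · -- measure decreases
        have hsub : ∀ l, (f' l).support ⊆ (f l).support := by
          intro l t ht
          rw [mem_support_iff] at ht ⊢
          intro h0
          apply ht
          simp only [hf', Pi.sub_apply, Pi.smul_apply, coeff_sub, coeff_smul, h0, El,
            coeff_monomial, smul_eq_mul, zero_sub, neg_eq_zero]
          by_cases hli : l = i
          · subst hli
            by_cases hte : γ - Finsupp.single l 1 = t
            · rw [hγm] at hte; subst hte; exact absurd h0 hm
            · simp [hte]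
          · by_cases hlj : l = j
            · subst hlj
              by_cases hte : γ - Finsupp.single l 1 = t
              · subst hte; exact absurd h0 hjc
              · simp [hte]
            · simp [hli, hlj]
        have hstrict : (f' i).support ⊂ (f i).support := by
          refine Finset.ssubset_iff_subset_ne.mpr ⟨hsub i, ?_⟩
          intro heq
          have hmem : m ∈ (f' i).support := by rw [heq]; exact mem_support_iff.mpr hm
          rw [mem_support_iff] at hmem
          apply hmem
          simp [hf', El, hγm, hij, hc]
        have : meas f' < meas f := by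
          unfold meas
          apply Finset.sum_lt_sum
          · intro l _; exact Finset.card_le_card (hsub l)
          · exact ⟨i, Finset.mem_univ i, Finset.card_lt_card hstrict⟩
        omega
      · intro l
        simp only [hf', Pi.sub_apply, Pi.smul_apply]
        exact (hf l).sub ((homogeneousSubmodule ι k _).smul_mem c (El_homog γ i j _ hγdeg hγi hγj l))
      · simp only [hf', Pi.sub_apply, Pi.smul_apply, mul_sub, Finset.sum_sub_distrib, hE, zero_sub,
          neg_eq_zero, mul_smul_comm]
        rw [← Finset.smul_sum, euler_El γ i j hij hγi hγj, smul_zero]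
    have : f = f' + c • El γ i j := by simp [hf']
    rw [this]
    exact Submodule.add_mem _ hf'mem (Submodule.smul_mem _ _ hElmem)
end

open MvPolynomial in

open MvPolynomial in
/-- Over a field k of characteristic zero, for e, a, b positive integers with a < b, the weighted
Gaussian map of the line bundle O(e) on projective n-space is surjective. Concretely, identifying
global sections of O(m) with homogeneous polynomials of degree m in X_0, ..., X_n and global
sections of the twisted cotangent sheaf Omega^1(t) with the (n+1)-tuples of homogeneous polynomials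
of degree t - 1 killed by the Euler map (f_i) to sum_i X_i f_i, every such tuple with t = (a+b)e is
a k-linear combination of the tuples (b tau (d sigma / d X_i) - a sigma (d tau / d X_i))_i with
sigma homogeneous of degree ae and tau homogeneous of degree be. (The source works over the complex
numbers; the statement is one of linear algebra and is given here over any field of characteristic
zero.) -/
theorem result
    (k : Type u) [Field k] [CharZero k] (n e a b : ℕ) (he : 0 < e) (ha : 0 < a) (hab : a < b)
    (f : Fin (n + 1) → MvPolynomial (Fin (n + 1)) k)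
    (hf : ∀ i, (f i).IsHomogeneous ((a + b) * e - 1))
    (hEuler : ∑ i, X i * f i = 0) :
    f ∈ Submodule.span k
      {g : Fin (n + 1) → MvPolynomial (Fin (n + 1)) k |
        ∃ σ τ : MvPolynomial (Fin (n + 1)) k, σ.IsHomogeneous (a * e) ∧ τ.IsHomogeneous (b * e) ∧
          g = fun i => (b : k) • (τ * pderiv i σ) - (a : k) • (σ * pderiv i τ)} := by
  exact main (k := k) (ι := Fin (n + 1)) a b e he ha (by omega) _ f le_rfl hf hEuler

end Groth.Agent.S16152
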