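import Groth.Statements.S16156
import Mathlib.Tactic.Linarith
import Mathlib.Tactic.Ring
import Mathlib.Tactic.Positivity

set_option autoImplicit false
universe u
open MukaiVec

namespace Groth.Agent.S16156

theorem caseA (n r d χ p q h : ℤ) (hn : 0 < n) (hr : 2 ≤ r) (hd : 0 < d) (hχ : χ < 0) (hp : 0 ≤ p)
    (hk2b : d * h - r * q - χ * p ≤ 2)
    (hβ : 0 ≤ χ * h - 2 * n * d * q) (hα : 2 * n * d * p - r * h < 0) : False := by
  have hnd : 0 < n * d := mul_pos hn hd
  have hndp : 0 ≤ 2 * n * d * p := by positivity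
  have hpos : 0 < h := by
    by_contra hh0
    push Not at hh0
    have : r * h ≤ 0 := mul_nonpos_of_nonneg_of_nonpos (by linarith) hh0
    linarith
  have hχh : χ * h < 0 := mul_neg_of_neg_of_pos hχ hpos
  have hq : q < 0 := by
    by_contra hq
    push Not at hq
    have : 0 ≤ 2 * n * d * q := by positivity
    linarith
  have hdh : 1 ≤ d * h := by
    have : 1 * 1 ≤ d * h := mul_le_mul (by linarith) (by linarith) (by norm_num) (by linarith)
    linarith
  have hrq : 2 ≤ r * (-q) := by
    have : 2 * 1 ≤ r * (-q) := mul_le_mul hr (by linarith) (by norm_num) (by linarith)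
    linarith
  have hχp : 0 ≤ (-χ) * p := mul_nonneg (by linarith) hp
  linarith

theorem caseB1 (n r d χ p q h : ℤ) (hn : 0 < n) (hr : 2 ≤ r) (hd : 0 < d) (hχ : χ < 0) (hp : 0 ≤ p)
    (hodge' : 4 * n * p * q ≤ h * h)
    (hk2a : -2 ≤ d * h - r * q - χ * p)
    (hα : 0 ≤ 2 * n * d * p - r * h) (hβ : χ * h - 2 * n * d * q < 0) (hneg : h < 0) : False := by
  have hnd : 0 < n * d := mul_pos hn hd
  have hχh : 0 < χ * h := mul_pos_of_neg_of_neg hχ hneg
  have hq : 0 < q := by
    by_contra hq
    push Not at hq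
    have : n * d * q ≤ 0 := mul_nonpos_of_nonneg_of_nonpos hnd.le hq
    linarith
  have hdh : d * h ≤ -1 := by
    have : 1 * 1 ≤ d * (-h) := mul_le_mul (by linarith) (by linarith) (by norm_num) (by linarith)
    linarith
  have hrq : 2 ≤ r * q := by
    have : 2 * 1 ≤ r * q := mul_le_mul hr (by linarith) (by norm_num) (by linarith)
    linarith
  rcases eq_or_lt_of_le hp with hp0 | hp0
  · rw [← hp0] at hk2a
    linarith
  · have h1 : (-χ) * (h * h) < 2 * n * d * q * (-h) := by
      have : (χ * h - 2 * n * d * q) * (-h) < 0 := mul_neg_of_neg_of_pos hβ (by linarith)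
      linarith
    have h2 : 4 * n * p * q * (-χ) ≤ (-χ) * (h * h) := by
      have := mul_le_mul_of_nonneg_left hodge' (by linarith : (0 : ℤ) ≤ -χ)
      linarith
    have h3 : 2 * p * (-χ) * (2 * n * q) < d * (-h) * (2 * n * q) := by linarith
    have hnq : 0 < 2 * n * q := by positivity
    have h4 : 2 * p * (-χ) < d * (-h) := lt_of_mul_lt_mul_right h3 hnq.le
    have hpχ : 1 ≤ p * (-χ) := by
      have : 1 * 1 ≤ p * (-χ) := mul_le_mul (by linarith) (by linarith) (by norm_num) (by linarith)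
      linarith
    linarith

theorem caseB2 (n r d χ p q : ℤ) (hn : 0 < n) (hr : 2 ≤ r) (hd : 0 < d) (hp : 0 ≤ p)
    (hodge' : 4 * n * p * q ≤ 0 * 0)
    (hk2a : -2 ≤ d * 0 - r * q - χ * p)
    (hβ : χ * 0 - 2 * n * d * q < 0) : r = 2 ∧ p = 0 := by
  have hnd : 0 < n * d := mul_pos hn hd
  have hq : 0 < q := by
    by_contra hq
    push Not at hq
    have : n * d * q ≤ 0 := mul_nonpos_of_nonneg_of_nonpos hnd.le hq
    linarith
  have hp0 : p = 0 := by
    rcases eq_or_lt_of_le hp with hp0 | hp0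
    · exact hp0.symm
    · exfalso
      have : 0 < n * p * q := by positivity
      linarith
  rw [hp0] at hk2a
  have hrq : r * q ≤ 2 := by linarith
  have : r * 1 ≤ r * q := mul_le_mul_of_nonneg_left (by linarith) (by linarith)
  exact ⟨by linarith, hp0⟩

theorem caseB3 (n r d χ p q h : ℤ) (hn : 0 < n) (hr : 2 ≤ r) (hd : 0 < d) (hχ : χ < 0) (hp : 0 ≤ p)
    (hodge' : 4 * n * p * q ≤ h * h)
    (hk2b : d * h - r * q - χ * p ≤ 2)
    (hα : 0 ≤ 2 * n * d * p - r * h) (hpos : 0 < h) :
    d = 1 ∧ χ = -1 ∧ h = 1 ∧ q = 0 := by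
  have hnd : 0 < n * d := mul_pos hn hd
  have hp0 : 0 < p := by
    by_contra hp0
    push Not at hp0
    have : p = 0 := le_antisymm hp0 hp
    rw [this] at hα
    have : 0 < r * h := mul_pos (by linarith) hpos
    linarith
  have hdh : 1 ≤ d * h := by
    have : 1 * 1 ≤ d * h := mul_le_mul (by linarith) (by linarith) (by norm_num) (by linarith)
    linarith
  have hχp : 1 ≤ (-χ) * p := by
    have : 1 * 1 ≤ (-χ) * p := mul_le_mul (by linarith) (by linarith) (by norm_num) (by linarith)
    linarith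
  rcases le_or_gt q 0 with hq | hq
  · have hrq : 0 ≤ r * (-q) := mul_nonneg (by linarith) (by linarith)
    have hd1 : d * h = 1 := by linarith
    have hχp1 : (-χ) * p = 1 := by linarith
    have hrq0 : r * (-q) = 0 := by linarith
    have hq0 : q = 0 := by
      rcases mul_eq_zero.mp hrq0 with h' | h'
      · omega
      · omega
    have hd1' : d = 1 := by
      have : d * 1 ≤ d * h := mul_le_mul_of_nonneg_left (by linarith) (by linarith)
      linarith
    have hh1 : h = 1 := by
      rw [hd1', one_mul] at hd1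
      exact hd1
    have hχ1 : χ = -1 := by
      have : (-χ) * 1 ≤ (-χ) * p := mul_le_mul_of_nonneg_left (by linarith) (by linarith)
      linarith
    exact ⟨hd1', hχ1, hh1, hq0⟩
  · exfalso
    have h1 : r * (h * h) ≤ 2 * n * d * p * h := by
      have := mul_nonneg hα hpos.le
      linarith
    have h2 : 4 * n * p * q * r ≤ r * (h * h) := by
      have := mul_le_mul_of_nonneg_left hodge' (by linarith : (0 : ℤ) ≤ r)
      linarith
    have h3 : 2 * q * r * (2 * n * p) ≤ d * h * (2 * n * p) := by linarith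
    have hnp : 0 < 2 * n * p := by positivity
    have h4 : 2 * q * r ≤ d * h := le_of_mul_le_mul_right h3 hnp
    have hqr : 2 ≤ q * r := by
      have : 1 * 2 ≤ q * r := mul_le_mul (by linarith) hr (by norm_num) (by linarith)
      linarith
    linarith

/-- Let N be an abelian group with a symmetric integer-valued bilinear form and H an element with H·H =
2n for some n > 0 such that every x with x·H = 0 satisfies x·x ≤ 0 (the Hodge index inequality). Fix
integers r ≥ 2, d > 0 and χ < 0 (a Mukai vector v = (r, dH, χ)) and an isotropic Mukai vector u =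
(p, η, q), p ≥ 0, η ∈ N, η·η = 2pq, whose pairing ⟨v, u⟩ = d(H·η) − rq − χp has absolute value 1 or
2. Exclude the case d = 1, χ = −1, H·η = 1, η·η = 0, and when r = 2 also the case p = 0, H·η = 0.
Then the pairings of u∨ = (p, −η, q) with w₀ = (0, rH, −2nd) and with w₁ = (2nd, −χH, 0) are both
non-negative or both negative: 2ndp − r(H·η) ≥ 0 holds if and only if χ(H·η) − 2ndq ≥ 0 holds. -/
theorem result
    (N : Type u) [AddCommGroup N] (B : LinearMap.BilinForm ℤ N) (hB : ∀ x y : N, B x y = B y x)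
    (H : N) (n : ℤ) (hn : 0 < n) (hH : B H H = 2 * n) (hodge : ∀ x : N, B x H = 0 → B x x ≤ 0)
    (r d χ p q : ℤ) (η : N) (hr : 2 ≤ r) (hd : 0 < d) (hχ : χ < 0) (hp : 0 ≤ p)
    (hiso : B η η = 2 * p * q)
    (hvu : 1 ≤ |d * B H η - r * q - χ * p| ∧ |d * B H η - r * q - χ * p| ≤ 2)
    (hexc : ¬ (d = 1 ∧ χ = -1 ∧ B H η = 1 ∧ B η η = 0))
    (hr2 : r = 2 → ¬ (p = 0 ∧ B H η = 0)) :
    (0 ≤ 2 * n * d * p - r * B H η ↔ 0 ≤ χ * B H η - 2 * n * d * q) := by
  set h : ℤ := B H η with hh
  have hx0 : B ((2 * n) • η - h • H) H = 0 := by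
    simp only [map_sub, map_smul, LinearMap.sub_apply, LinearMap.smul_apply, smul_eq_mul]
    rw [hB η H, hH, ← hh]
    ring
  have hx1 := hodge _ hx0
  have hexp : B ((2 * n) • η - h • H) ((2 * n) • η - h • H) = 8 * n * n * p * q - 2 * n * (h * h) := by
    simp only [map_sub, map_smul, LinearMap.sub_apply, LinearMap.smul_apply, smul_eq_mul]
    rw [hB η H, hH, ← hh, hiso]
    ring
  rw [hexp] at hx1
  have hodge' : 4 * n * p * q ≤ h * h := by
    have : 2 * n * (4 * n * p * q) ≤ 2 * n * (h * h) := by linarith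
    exact le_of_mul_le_mul_left this (by linarith)
  obtain ⟨hk1, hk2⟩ := hvu
  obtain ⟨hk2a, hk2b⟩ := abs_le.mp hk2
  constructor
  · intro hα
    by_contra hβ
    push Not at hβ
    rcases lt_trichotomy h 0 with hneg | hzero | hpos
    · exact caseB1 n r d χ p q h hn hr hd hχ hp hodge' hk2a hα hβ hneg
    · rw [hzero] at hβ hodge' hk2a
      obtain ⟨hr2', hp0⟩ := caseB2 n r d χ p q hn hr hd hp hodge' hk2a hβ
      exact hr2 hr2' ⟨hp0, hzero⟩
    · obtain ⟨h1, h2, h3, h4⟩ := caseB3 n r d χ p q h hn hr hd hχ hp hodge' hk2b hα hpos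
      refine hexc ⟨h1, h2, h3, ?_⟩
      rw [hiso, h4]; ring
  · intro hβ
    by_contra hα
    push Not at hα
    exact caseA n r d χ p q h hn hr hd hχ hp hk2b hβ hα

end Groth.Agent.S16156
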