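import Mathlib
import Groth.Statements.S16158
import Groth.Agent.Lib.Helper19.Decomp.Bound

set_option autoImplicit false
universe u v w
open MadRed

namespace Groth.Agent.S16158

/-- Let R be a commutative Noetherian ring and M a finitely generated R-module. Then there is a natural
number n such that in every decomposition of M as an internal direct sum of a family of submodules,
at most n of the summands are nonzero (the nonzero summands are indexed by a finite set of size at
most n). -/
theorem result (R : Type u) [CommRing R] [IsNoetherianRing R]
    (M : Type v) [AddCommGroup M] [Module R M] [Module.Finite R M] :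
    ∃ n : ℕ, ∀ (ι : Type w) [DecidableEq ι] (N : ι → Submodule R M), DirectSum.IsInternal N →
      ∃ s : Finset ι, s.card ≤ n ∧ ∀ i, N i ≠ ⊥ → i ∈ s := by
  classical
  obtain ⟨n, hn⟩ := Groth.Agent.Helper19.DecompBound.exists_bound R M
  refine ⟨n, ?_⟩
  intro ι _ N hN
  have hind : iSupIndep N := hN.submodule_iSupIndep
  have hSfin : {i | N i ≠ ⊥}.Finite := by
    by_contra hinf
    obtain ⟨t, hts, htc⟩ := (Set.not_finite.mp hinf).exists_subset_card_eq (n + 1)
    have := hn ι N hind t (fun i hi => hts hi)
    omega
  refine ⟨hSfin.toFinset, hn ι N hind _ (fun i hi => hSfin.mem_toFinset.mp hi), ?_⟩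
  intro i hi
  exact hSfin.mem_toFinset.mpr hi

end Groth.Agent.S16158
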