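import Groth.Statements.S16159
import Mathlib.LinearAlgebra.Eigenspace.Minpoly
import Mathlib.LinearAlgebra.DFinsupp
import Mathlib.RingTheory.Noetherian.Basic
import Mathlib.Tactic

set_option autoImplicit false
universe u v w x
open MadRed

namespace Groth.Agent.S16159

open Module.End Polynomial

section LemmaA

variable {k : Type*} {M : Type*} [Field k] [AddCommGroup M] [Module k M]

theorem aeval_mem_of_stable (g : Module.End k M) (p : Submodule k M) (hp : ∀ x ∈ p, g x ∈ p)
    (P : k[X]) : ∀ x ∈ p, aeval g P x ∈ p := by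
  have hpow : ∀ n : ℕ, ∀ x ∈ p, (g ^ n) x ∈ p := by
    intro n
    induction n with
    | zero => intro x hx; simpa using hx
    | succ n ih =>
      intro x hx
      rw [pow_succ, Module.End.mul_apply]
      exact ih _ (hp x hx)
  induction P using Polynomial.induction_on' with
  | add P Q hP hQ =>
    intro x hx
    rw [map_add, LinearMap.add_apply]
    exact p.add_mem (hP x hx) (hQ x hx)
  | monomial n a =>
    intro x hx
    rw [aeval_monomial, Module.End.mul_apply, Module.algebraMap_end_apply]
    exact p.smul_mem _ (hpow n x hx)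

theorem exists_poly_component (g : Module.End k M) (m : k →₀ M)
    (hm : ∀ ν, m ν ∈ eigenspace g ν) (μ : k) :
    ∃ P : k[X], aeval g P (m.sum fun _ x => x) = m μ := by
  classical
  obtain ⟨P₀, hP₀⟩ : ∃ P₀ : k[X], P₀ = ∏ ν ∈ m.support.erase μ, (X - C ν) := ⟨_, rfl⟩
  have hc : P₀.eval μ ≠ 0 := by
    rw [hP₀, eval_prod, Finset.prod_ne_zero_iff]
    intro ν hν
    rw [eval_sub, eval_X, eval_C, sub_ne_zero]
    exact (Finset.mem_erase.mp hν).1.symm
  refine ⟨C (P₀.eval μ)⁻¹ * P₀, ?_⟩
  rw [Finsupp.sum, map_sum]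
  have hterm : ∀ ν, aeval g (C (P₀.eval μ)⁻¹ * P₀) (m ν) =
      ((P₀.eval μ)⁻¹ * P₀.eval ν) • m ν := by
    intro ν
    rw [aeval_apply_of_mem_apply_eq_smul (mem_eigenspace_iff.mp (hm ν)), eval_mul, eval_C]
  rw [Finset.sum_eq_single μ]
  · rw [hterm, inv_mul_cancel₀ hc, one_smul]
  · intro ν hν hνμ
    rw [hterm]
    have : P₀.eval ν = 0 := by
      rw [hP₀, eval_prod]
      apply Finset.prod_eq_zero (Finset.mem_erase.mpr ⟨hνμ, hν⟩)
      rw [eval_sub, eval_X, eval_C, sub_self]
    rw [this, mul_zero, zero_smul]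
  · intro hμ
    rw [Finsupp.notMem_support_iff.mp hμ, map_zero]

/-- components of an element of a stable subspace stay in the subspace -/
theorem component_mem (g : Module.End k M) (p : Submodule k M) (hp : ∀ x ∈ p, g x ∈ p)
    (m : k →₀ M) (hm : ∀ ν, m ν ∈ eigenspace g ν) (hsum : (m.sum fun _ x => x) ∈ p) (μ : k) :
    m μ ∈ p := by
  obtain ⟨P, hP⟩ := exists_poly_component g m hm μ
  rw [← hP]
  exact aeval_mem_of_stable g p hp P _ hsum

theorem eq_zero_of_eigen_of_range (g : Module.End k M) (hg : ⨆ μ : k, eigenspace g μ = ⊤) (μ : k)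
    (x y : M) (hx : g x = μ • x) (hxy : x = g y - μ • y) : x = 0 := by
  classical
  have hy : y ∈ ⨆ μ : k, eigenspace g μ := by rw [hg]; trivial
  obtain ⟨m, hm, hsum⟩ := (Submodule.mem_iSup_iff_exists_finsupp _ _).mp hy
  have hdisj := (eigenspaces_iSupIndep g) μ
  rw [Submodule.disjoint_def] at hdisj
  apply hdisj x (mem_eigenspace_iff.mpr hx)
  rw [hxy, ← hsum, Finsupp.sum, map_sum, Finset.smul_sum, ← Finset.sum_sub_distrib]
  apply Submodule.sum_mem
  intro ν _
  by_cases hνμ : ν = μ
  · rw [hνμ, mem_eigenspace_iff.mp (hm μ), sub_self]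
    exact Submodule.zero_mem _
  · apply Submodule.mem_iSup_of_mem ν
    apply Submodule.mem_iSup_of_mem hνμ
    rw [mem_eigenspace_iff.mp (hm ν), ← sub_smul]
    exact Submodule.smul_mem _ _ (hm ν)

end LemmaA

theorem noeth_diag {k : Type*} {R : Type*} {M : Type*} {ι : Type*} [Field k] [CommRing R]
    [Algebra k R] [AddCommGroup M] [Module R M] [Module k M] [IsScalarTower k R M]
    [IsNoetherian R M]
    (f : ι → Module.End R M) (hcomm : ∀ i j, Commute (f i) (f j))
    (hdiag : ∀ i, ⨆ μ : k, eigenspace ((f i).restrictScalars k) μ = ⊤) :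
    ⨆ χ : ι → k, ⨅ i, eigenspace ((f i).restrictScalars k) (χ i) = ⊤ := by
  classical
  obtain ⟨Z, hZ⟩ : ∃ Z : Submodule k M,
    Z = ⨆ χ : ι → k, ⨅ i, eigenspace ((f i).restrictScalars k) (χ i) := ⟨_, rfl⟩
  rw [← hZ]
  have key : ∀ C : Submodule R M, ∀ U : Submodule R M, (∀ j, ∀ u ∈ U, f j u ∈ U) →
      Disjoint U C → ∀ u ∈ U, u ∈ Z := by
    intro C
    refine IsNoetherian.induction (P := fun C => ∀ U : Submodule R M,
      (∀ j, ∀ u ∈ U, f j u ∈ U) → Disjoint U C → ∀ u ∈ U, u ∈ Z) ?_ C
    intro C ih U hU hdisj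
    by_cases hA : ∀ i, ∃ μ : k, ∀ u ∈ U, f i u = μ • u
    · choose χ hχ using hA
      intro u hu
      rw [hZ]
      apply Submodule.mem_iSup_of_mem χ
      rw [Submodule.mem_iInf]
      intro i
      rw [mem_eigenspace_iff]
      exact hχ i u hu
    · push Not at hA
      obtain ⟨i, hi⟩ := hA
      intro u hu
      have hu' : u ∈ ⨆ μ : k, eigenspace ((f i).restrictScalars k) μ := by rw [hdiag]; trivial
      obtain ⟨m, hm, hsum⟩ := (Submodule.mem_iSup_iff_exists_finsupp _ _).mp hu'
      rw [← hsum, Finsupp.sum]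
      apply Submodule.sum_mem
      intro μ _
      have hmU : m μ ∈ U := by
        have := component_mem ((f i).restrictScalars k) (U.restrictScalars k)
          (fun x hx => hU i x hx) m hm (by rw [hsum]; exact hu) μ
        exact this
      -- the pieces
      obtain ⟨a, ha⟩ : ∃ a : R, a = algebraMap k R μ := ⟨_, rfl⟩
      have hasmul : ∀ x : M, a • x = μ • x := fun x => by rw [ha, algebraMap_smul]
      obtain ⟨Uμ, hUμ⟩ : ∃ Uμ : Submodule R M, Uμ = U ⊓ eigenspace (f i) a := ⟨_, rfl⟩
      obtain ⟨U', hU'⟩ : ∃ U' : Submodule R M, U' = U.map (f i - a • (1 : Module.End R M)) :=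
        ⟨_, rfl⟩
      have hU'le : U' ≤ U := by
        rw [hU']
        rintro _ ⟨y, hy, rfl⟩
        rw [LinearMap.sub_apply, LinearMap.smul_apply, Module.End.one_apply]
        exact U.sub_mem (hU i y hy) (U.smul_mem a hy)
      apply ih (C ⊔ U') ?_ Uμ ?_ ?_ (m μ) ?_
      · -- strictly bigger
        obtain ⟨u₀, hu₀, hne⟩ := hi μ
        show C < C ⊔ U'
        rw [SetLike.lt_iff_le_and_exists]
        refine ⟨le_sup_left, f i u₀ - a • u₀, ?_, ?_⟩
        · apply Submodule.mem_sup_right
          rw [hU']
          exact ⟨u₀, hu₀, by rw [LinearMap.sub_apply, LinearMap.smul_apply, Module.End.one_apply]⟩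
        · intro hC
          have hUmem : f i u₀ - a • u₀ ∈ U := U.sub_mem (hU i u₀ hu₀) (U.smul_mem a hu₀)
          have := (Submodule.disjoint_def.mp hdisj) _ hUmem hC
          rw [sub_eq_zero, hasmul] at this
          exact hne this
      · -- stable
        intro j x hx
        rw [hUμ] at hx ⊢
        refine ⟨hU j x hx.1, ?_⟩
        apply mem_eigenspace_iff.mpr
        have h1 : f i x = a • x := mem_eigenspace_iff.mp hx.2
        have h2 : f i (f j x) = f j (f i x) := by
          have := (hcomm i j).eq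
          exact DFunLike.congr_fun this x
        rw [h2, h1, map_smul]
      · -- disjoint
        rw [Submodule.disjoint_def]
        intro x hx hx2
        rw [hUμ] at hx
        obtain ⟨c, hc, y', hy', rfl⟩ := Submodule.mem_sup.mp hx2
        have hcU : c ∈ U := by
          have : c = (c + y') - y' := by abel
          rw [this]
          exact U.sub_mem hx.1 (hU'le hy')
        have hc0 : c = 0 := (Submodule.disjoint_def.mp hdisj) c hcU hc
        rw [hc0, zero_add] at hx ⊢
        rw [hU'] at hy'
        obtain ⟨y, hy, rfl⟩ := hy'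
        apply eq_zero_of_eigen_of_range ((f i).restrictScalars k) (hdiag i) μ _ y
        · have h1 := mem_eigenspace_iff.mp hx.2
          rw [hasmul] at h1
          exact h1
        · rw [LinearMap.sub_apply, LinearMap.smul_apply, Module.End.one_apply, hasmul]
          rfl
      · rw [hUμ]
        refine ⟨hmU, ?_⟩
        apply mem_eigenspace_iff.mpr
        rw [hasmul]
        exact mem_eigenspace_iff.mp (hm μ)
  rw [eq_top_iff]
  intro u _
  exact key ⊥ ⊤ (fun _ _ _ => Submodule.mem_top) disjoint_bot_right u Submodule.mem_top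

/-- Let k be a field, R a commutative Noetherian k-algebra and V an R-module, viewed also as a k-vector
space through k → R. Let (f_i) be a family of pairwise commuting R-linear endomorphisms of V such
that each f_i, as a k-linear map, is diagonalizable over k (its eigenspaces span V), and such that
every vector of V lies in a finitely generated R-submodule stable under every f_i. Then the family
is simultaneously diagonalizable over k: the common eigenspaces ⨅_i Eig(f_i, χ(i)), over all
assignments χ of eigenvalues in k, span V. The source states this for the endomorphisms given by an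
abelian group acting R-linearly; the row takes any commuting family, which is what the argument
uses, and neither k algebraically closed nor of characteristic zero is needed. -/
theorem result
    (k : Type u) [Field k] (R : Type v) [CommRing R] [Algebra k R] [IsNoetherianRing R]
    (V : Type w) [AddCommGroup V] [Module R V] [Module k V] [IsScalarTower k R V]
    (ι : Type x) (f : ι → Module.End R V)
    (hcomm : ∀ i j, Commute (f i) (f j))
    (hdiag : ∀ i, ⨆ μ : k, Module.End.eigenspace ((f i).restrictScalars k) μ = ⊤)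
    (hfin : ∀ v : V, ∃ W : Submodule R V, v ∈ W ∧ W.FG ∧ ∀ i, ∀ w ∈ W, f i w ∈ W) :
    ⨆ χ : ι → k, ⨅ i, Module.End.eigenspace ((f i).restrictScalars k) (χ i) = ⊤ := by
  classical
  rw [eq_top_iff]
  intro v _
  obtain ⟨W, hvW, hWfg, hWst⟩ := hfin v
  haveI : IsNoetherian R ↥W := isNoetherian_of_fg_of_noetherian W hWfg
  -- restricted maps
  let g : ι → Module.End R ↥W := fun i => (f i).restrict (fun w hw => hWst i w hw)
  have hgapp : ∀ i (w : ↥W), ((g i) w : V) = f i w.1 := fun i w => rfl
  have hgcomm : ∀ i j, Commute (g i) (g j) := by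
    intro i j
    show g i * g j = g j * g i
    ext w
    show f i (f j w.1) = f j (f i w.1)
    exact DFunLike.congr_fun (hcomm i j).eq w.1
  have hgdiag : ∀ i, ⨆ μ : k, Module.End.eigenspace ((g i).restrictScalars k) μ = ⊤ := by
    intro i
    rw [eq_top_iff]
    intro w _
    have hw' : w.1 ∈ ⨆ μ : k, Module.End.eigenspace ((f i).restrictScalars k) μ := by
      rw [hdiag]; trivial
    obtain ⟨m, hm, hsum⟩ := (Submodule.mem_iSup_iff_exists_finsupp _ _).mp hw'
    have hmW : ∀ μ, m μ ∈ W := fun μ =>
      component_mem ((f i).restrictScalars k) (W.restrictScalars k)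
        (fun x hx => hWst i x hx) m hm (by rw [hsum]; exact w.2) μ
    have hw : w = ∑ μ ∈ m.support, (⟨m μ, hmW μ⟩ : ↥W) := by
      apply Subtype.ext
      rw [Submodule.coe_sum, ← hsum, Finsupp.sum]
    rw [hw]
    apply Submodule.sum_mem
    intro μ _
    apply Submodule.mem_iSup_of_mem μ
    apply Module.End.mem_eigenspace_iff.mpr
    apply Subtype.ext
    exact Module.End.mem_eigenspace_iff.mp (hm μ)
  have hmain := noeth_diag (k := k) g hgcomm hgdiag
  have hv : (⟨v, hvW⟩ : ↥W) ∈ ⨆ χ : ι → k, ⨅ i,
      Module.End.eigenspace ((g i).restrictScalars k) (χ i) := by rw [hmain]; trivial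
  -- push forward
  let φ : ↥W →ₗ[k] V := W.subtype.restrictScalars k
  have hle : (⨆ χ : ι → k, ⨅ i,
      Module.End.eigenspace ((g i).restrictScalars k) (χ i)).map φ ≤
      ⨆ χ : ι → k, ⨅ i, Module.End.eigenspace ((f i).restrictScalars k) (χ i) := by
    rw [Submodule.map_iSup]
    apply iSup_le
    intro χ
    refine le_trans ?_ (le_iSup _ χ)
    rintro _ ⟨x, hx, rfl⟩
    rw [Submodule.mem_iInf]
    intro i
    have hxi := (Submodule.mem_iInf _).mp hx i
    apply Module.End.mem_eigenspace_iff.mpr
    have := Module.End.mem_eigenspace_iff.mp hxi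
    exact congrArg Subtype.val this
  exact hle ⟨⟨v, hvW⟩, hv, rfl⟩

end Groth.Agent.S16159
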