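import Groth.Statements.S16160
import Groth.Agent.S16159
import Groth.Agent.Lib.Helper12.Subcoalg
import Mathlib.RingTheory.Bialgebra.Convolution
import Mathlib.Tactic

set_option autoImplicit false
universe u v w
open scoped TensorProduct
open MadRed

namespace Groth.Agent.S16160

open TensorProduct MadRed WithConv

section Aux

variable (k : Type u) [Field k] (A : Type v) [CommRing A] [Bialgebra k A] (R : Type w) [CommRing R]
  [Algebra k R]

theorem translAux_repr (g : A →ₐ[k] R) (a : A) {ι : Type*} (repr : Coalgebra.Repr k a ι) :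
    translAux k A R g a = ∑ i ∈ repr.index, g (repr.right i) ⊗ₜ[k] repr.left i := by
  unfold translAux
  simp only [AlgHom.coe_comp, Function.comp_apply, Bialgebra.comulAlgHom_apply]
  rw [← repr.eq]
  simp [map_sum]

theorem ptAct_tmul (g : A →ₐ[k] R) (r : R) (a : A) :
    ptAct k A R g (r ⊗ₜ[k] a) = r • translAux k A R g a := by
  unfold ptAct
  rw [Algebra.TensorProduct.lift_tmul, Algebra.TensorProduct.includeLeft_apply, Algebra.smul_def,
    Algebra.TensorProduct.algebraMap_apply]
  rfl

theorem conv_apply_repr (g h : A →ₐ[k] R) (a : A) {ι : Type*} (repr : Coalgebra.Repr k a ι) :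
    (ofConv (toConv g * toConv h)) a = ∑ i ∈ repr.index, g (repr.left i) * h (repr.right i) := by
  have := AlgHom.convMul_apply (toConv g) (toConv h) a
  rw [← repr.eq] at this
  simp only [map_sum, Algebra.TensorProduct.lift_tmul] at this
  exact this

theorem ptAct_comp (g h : A →ₐ[k] R) :
    (ptAct k A R g).comp (ptAct k A R h) = ptAct k A R (ofConv (toConv g * toConv h)) := by
  apply Algebra.TensorProduct.ext
  · ext
  · ext a
    simp only [AlgHom.coe_comp, AlgHom.coe_restrictScalars', Function.comp_apply,
      Algebra.TensorProduct.includeRight_apply]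
    rw [ptAct_tmul, ptAct_tmul, one_smul, one_smul]
    let repr := Coalgebra.Repr.arbitrary k a
    let a₁ := fun i => Coalgebra.Repr.arbitrary k (repr.left i)
    let a₂ := fun i => Coalgebra.Repr.arbitrary k (repr.right i)
    rw [translAux_repr k A R h a repr, map_sum, translAux_repr k A R _ a repr]
    let Ψ : A ⊗[k] (A ⊗[k] A) →ₗ[k] R ⊗[k] A :=
      (TensorProduct.comm k A R).toLinearMap ∘ₗ LinearMap.lTensor A
        (LinearMap.mul' k R ∘ₗ TensorProduct.map g.toLinearMap h.toLinearMap)
    have hΨ : ∀ x y z, Ψ (x ⊗ₜ (y ⊗ₜ z)) = (g y * h z) ⊗ₜ x := by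
      intro x y z
      simp [Ψ]
    have key := congrArg Ψ (Coalgebra.sum_tmul_tmul_eq repr a₁ a₂)
    simp only [map_sum, hΨ] at key
    have lhs : ∀ i, (ptAct k A R g) (h (repr.right i) ⊗ₜ[k] repr.left i) =
        ∑ j ∈ (a₁ i).index, (g ((a₁ i).right j) * h (repr.right i)) ⊗ₜ[k] (a₁ i).left j := by
      intro i
      rw [ptAct_tmul, translAux_repr k A R g _ (a₁ i), Finset.smul_sum]
      apply Finset.sum_congr rfl
      intro j _
      rw [TensorProduct.smul_tmul', smul_eq_mul, mul_comm]
    have rhs : ∀ i, (ofConv (toConv g * toConv h)) (repr.right i) ⊗ₜ[k] repr.left i =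
        ∑ j ∈ (a₂ i).index, (g ((a₂ i).left j) * h ((a₂ i).right j)) ⊗ₜ[k] repr.left i := by
      intro i
      rw [conv_apply_repr k A R g h _ (a₂ i), TensorProduct.sum_tmul]
    simp only [lhs, rhs]
    exact key

/-- the `R`-submodule of `R ⊗ A` spanned by `1 ⊗ B`. -/
noncomputable def WB (B : Submodule k A) : Submodule R (R ⊗[k] A) :=
  LinearMap.range (LinearMap.baseChange R B.subtype)

theorem WB_mono {B B' : Submodule k A} (h : B ≤ B') : WB k A R B ≤ WB k A R B' := by
  rintro _ ⟨x, rfl⟩
  refine ⟨LinearMap.baseChange R (Submodule.inclusion h) x, ?_⟩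
  rw [← LinearMap.comp_apply, ← LinearMap.baseChange_comp]
  rfl

theorem WB_fg (B : Submodule k A) [Module.Finite k B] : (WB k A R B).FG := by
  unfold WB
  rw [LinearMap.range_eq_map]
  exact Submodule.FG.map _ Module.Finite.fg_top

theorem tmul_mem_WB (B : Submodule k A) (r : R) (b : A) (hb : b ∈ B) : r ⊗ₜ[k] b ∈ WB k A R B :=
  ⟨r ⊗ₜ[k] ⟨b, hb⟩, by simp⟩

theorem WB_stable (B : Submodule k A) (hB : Groth.Agent.Helper12.IsSubcoalg B) (g : A →ₐ[k] R) :
    ∀ w ∈ WB k A R B, ptAct k A R g w ∈ WB k A R B := by
  rintro _ ⟨x, rfl⟩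
  induction x using TensorProduct.induction_on with
  | zero => simp
  | add x y hx hy => rw [map_add, map_add]; exact Submodule.add_mem _ hx hy
  | tmul r b =>
    rw [LinearMap.baseChange_tmul, ptAct_tmul]
    apply Submodule.smul_mem
    obtain ⟨y, hy⟩ := hB b.1 b.2
    have h1 : translAux k A R g b.1 =
        ((Algebra.TensorProduct.map g (AlgHom.id k A)).toLinearMap ∘ₗ
          (TensorProduct.comm k A A).toLinearMap) (Coalgebra.comul (R := k) b.1) := rfl
    have inner : ∀ y : ↥B ⊗[k] ↥B,
        ((Algebra.TensorProduct.map g (AlgHom.id k A)).toLinearMap ∘ₗ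
          (TensorProduct.comm k A A).toLinearMap) (TensorProduct.map B.subtype B.subtype y) ∈
          WB k A R B := by
      intro y
      induction y using TensorProduct.induction_on with
      | zero => simp
      | add y z hy hz => rw [map_add, map_add]; exact Submodule.add_mem _ hy hz
      | tmul b' b'' =>
        simp only [TensorProduct.map_tmul, Submodule.subtype_apply, LinearMap.comp_apply,
          LinearEquiv.coe_coe, TensorProduct.comm_tmul, AlgHom.toLinearMap_apply,
          Algebra.TensorProduct.map_tmul, AlgHom.id_apply]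
        exact tmul_mem_WB k A R B _ _ b'.2
    rw [Submodule.subtype_apply, h1, ← hy]
    exact inner y

theorem exists_WB (v : R ⊗[k] A) :
    ∃ B : Submodule k A, Module.Finite k B ∧ Groth.Agent.Helper12.IsSubcoalg B ∧
      v ∈ WB k A R B := by
  induction v using TensorProduct.induction_on with
  | zero => exact ⟨⊥, inferInstance, Groth.Agent.Helper12.isSubcoalg_bot, Submodule.zero_mem _⟩
  | tmul r a =>
    obtain ⟨B, hB, haB, hsub⟩ := Groth.Agent.Helper12.exists_finite_subcoalg_mem (k := k) a
    exact ⟨B, hB, hsub, tmul_mem_WB k A R B r a haB⟩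
  | add x y hx hy =>
    obtain ⟨B₁, hB₁, hs₁, hx₁⟩ := hx
    obtain ⟨B₂, hB₂, hs₂, hy₂⟩ := hy
    refine ⟨B₁ ⊔ B₂, inferInstance, Groth.Agent.Helper12.isSubcoalg_sup hs₁ hs₂, ?_⟩
    exact Submodule.add_mem _ (WB_mono k A R le_sup_left hx₁) (WB_mono k A R le_sup_right hy₂)

end Aux

/-- Let k be a field, G = Spec A an affine k-group with A a commutative Hopf algebra over k, and R a
commutative Noetherian k-algebra, so that R ⊗ A is the coordinate ring of the base change G_R and
the k-algebra maps A → R are its R-valued points. Let H be a set of R-valued points which pairwise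
commute for the convolution product of G(R) (the case of an abelian subgroup of G(R)). If every g in
H is diagonalizable over k on R ⊗ A, meaning that the eigenspaces of right translation by g, for
eigenvalues in k, span R ⊗ A, then H is simultaneously diagonalizable over k on R ⊗ A: the common
eigenspaces of the right translations by all g in H span R ⊗ A. The standing assumptions of the
source at this point (k algebraically closed of characteristic zero, G reductive) are not used. -/
theorem result (k : Type u) [Field k]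
    (A : Type v) [CommRing A] [HopfAlgebra k A] (R : Type w) [CommRing R] [Algebra k R]
    [IsNoetherianRing R] (H : Set (A →ₐ[k] R))
    (hcomm : ∀ g ∈ H, ∀ h ∈ H,
      WithConv.toConv g * WithConv.toConv h = WithConv.toConv h * WithConv.toConv g)
    (hdiag : ∀ g ∈ H, ⨆ μ : k,
      Module.End.eigenspace (((MadRed.ptAct k A R g).toLinearMap).restrictScalars k) μ = ⊤) :
    ⨆ χ : H → k, ⨅ g : H,
      Module.End.eigenspace (((MadRed.ptAct k A R g.1).toLinearMap).restrictScalars k) (χ g) = ⊤ := by
  refine Groth.Agent.S16159.result k R (TensorProduct k R A) H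
    (fun g => (MadRed.ptAct k A R g.1).toLinearMap) ?_ ?_ ?_
  · intro g h
    show (MadRed.ptAct k A R g.1).toLinearMap * (MadRed.ptAct k A R h.1).toLinearMap =
      (MadRed.ptAct k A R h.1).toLinearMap * (MadRed.ptAct k A R g.1).toLinearMap
    have h1 := ptAct_comp k A R g.1 h.1
    have h2 := ptAct_comp k A R h.1 g.1
    rw [hcomm g.1 g.2 h.1 h.2, ← h2] at h1
    have := congrArg AlgHom.toLinearMap h1
    exact this
  · intro g
    exact hdiag g.1 g.2
  · intro v
    obtain ⟨B, hB, hsub, hv⟩ := exists_WB k A R v
    exact ⟨WB k A R B, hv, WB_fg k A R B, fun g w hw => WB_stable k A R B hsub g.1 w hw⟩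

end Groth.Agent.S16160
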