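import Groth.Statements.S16161
import Mathlib.FieldTheory.Separable
import Mathlib.RingTheory.Polynomial.Basic
import Mathlib.Algebra.Polynomial.Splits

set_option autoImplicit false
universe u v
open MadRed

namespace Groth.Agent.S16161

open Polynomial in
theorem ker_aeval_prod_eq_iSup {K V : Type*} [Field K] [AddCommGroup V] [Module K V]
    (f : Module.End K V) (s : Finset K) :
    LinearMap.ker (aeval f (∏ a ∈ s, (X - C a))) = ⨆ a ∈ s, Module.End.eigenspace f a := by
  classical
  induction s using Finset.induction_on with
  | empty =>
    simp only [Finset.prod_empty, map_one, Finset.notMem_empty, iSup_false, iSup_bot]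
    rw [LinearMap.ker_eq_bot]
    exact fun x y h => h
  | insert a s ha ih =>
    rw [Finset.prod_insert ha, ← sup_ker_aeval_eq_ker_aeval_mul_of_coprime, ih, Finset.iSup_insert]
    · congr 1
      rw [Module.End.eigenspace_def]
      congr 1
      simp [Algebra.algebraMap_eq_smul_one]
    · apply IsCoprime.prod_right
      intro b hb
      apply Polynomial.isCoprime_X_sub_C_of_isUnit_sub
      apply IsUnit.mk0
      intro h
      rw [sub_eq_zero] at h
      subst h
      exact ha hb

/-- Let k be an algebraically closed field of characteristic zero and R a reduced finitely generated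
commutative k-algebra whose spectrum is connected (R has no idempotents besides 0 and 1); let W =
R^n be a free R-module of finite rank and g an R-linear endomorphism of W of finite order, g^m = 1
with m > 0 (an element of finite order of GL(W)(R)). Then the action of g on W is diagonalizable
over k: viewing g as a k-linear map, its eigenspaces for eigenvalues in k span W. The source also
assumes that g is diagonalizable over k on every fibre W ⊗ k(x), x a point of Spec R; for g of
finite order this holds automatically (k is algebraically closed of characteristic zero), as the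
source itself notes, so that hypothesis is omitted. -/
theorem result
    (k : Type u) [Field k] [IsAlgClosed k] [CharZero k]
    (R : Type v) [CommRing R] [Algebra k R] [IsReduced R] [Algebra.FiniteType k R]
    (hconn : ∀ e : R, IsIdempotentElem e → e = 0 ∨ e = 1)
    (n : ℕ) (g : Module.End R (Fin n → R)) (m : ℕ) (hm : 0 < m) (hg : g ^ m = 1) :
    ⨆ μ : k, Module.End.eigenspace (g.restrictScalars k) μ = ⊤ := by
  classical
  set f : Module.End k (Fin n → R) := g.restrictScalars k with hf
  have hfm : f ^ m = 1 := by
    apply LinearMap.ext
    intro v
    have h1 : ∀ j : ℕ, (f ^ j) v = (g ^ j) v := by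
      intro j
      induction j with
      | zero => simp
      | succ j ih => rw [pow_succ', pow_succ', Module.End.mul_apply, Module.End.mul_apply, ih]; rfl
    rw [h1, hg]
    rfl
  have hm0 : (m : k) ≠ 0 := by exact_mod_cast hm.ne'
  have hsep : (Polynomial.X ^ m - 1 : Polynomial k).Separable :=
    Polynomial.X_pow_sub_one_separable_iff.mpr hm0
  have hmonic : (Polynomial.X ^ m - 1 : Polynomial k).Monic := Polynomial.monic_X_pow_sub_C 1 hm.ne'
  have hsplit := IsAlgClosed.splits (Polynomial.X ^ m - 1 : Polynomial k)
  have hprod := hsplit.eq_prod_roots_of_monic hmonic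
  have hnd := Polynomial.nodup_roots hsep
  set s : Finset k := ⟨(Polynomial.X ^ m - 1 : Polynomial k).roots, hnd⟩ with hs
  have hprod' : (Polynomial.X ^ m - 1 : Polynomial k) = ∏ a ∈ s, (Polynomial.X - Polynomial.C a) := by
    rw [hprod]
    rfl
  have hker := ker_aeval_prod_eq_iSup f s
  rw [← hprod'] at hker
  have hzero : Polynomial.aeval f (Polynomial.X ^ m - 1 : Polynomial k) = 0 := by
    simp [hfm]
  rw [hzero, LinearMap.ker_zero] at hker
  rw [eq_top_iff, hker]
  apply iSup_le
  intro a
  apply iSup_le
  intro _
  exact le_iSup (fun μ => Module.End.eigenspace f μ) a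

end Groth.Agent.S16161
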