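import Groth.Statements.S16162
import Mathlib.AlgebraicGeometry.PullbackCarrier
import Mathlib.AlgebraicGeometry.Morphisms.UniversallyOpen
import Mathlib.CategoryTheory.Monoidal.Cartesian.Over

set_option autoImplicit false
open CategoryTheory MonoidalCategory CartesianMonoidalCategory MonObj GrpObj AlgebraicGeometry
universe u
open MadRed

namespace Groth.Agent.S16162

/-- Let S be a scheme, G a group scheme over S, and X an S-scheme with an action of G making X → S a
principal G-bundle (a torsor in the representable fppf sense: X → S surjective, flat and locally of
finite presentation, and G ×_S X → X ×_S X, (g, x) ↦ (g·x, x), an isomorphism). Let P be a closed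
subset of X stable under the action: the action map sends into P every point of G ×_S X whose second
projection lies in P. Then the image of P in S is closed, and P is the full preimage of its image.
(The source works with varieties over the complex numbers and an affine algebraic group; the
assertion holds over any base. Its second assertion, that P → image is again a principal bundle for
the induced reduced structures, then comes from base change and is not part of this row.) -/
theorem result {S : Scheme.{u}}
    {G X : Over S} [GrpObj G] (a : AlgGrp.Action G X) (ha : RedSub.IsTorsor a)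
    (P : Set X.left) (hP : IsClosed P)
    (hstab : ∀ w : (G ⊗ X).left, (snd G X).left.base w ∈ P → a.act.left.base w ∈ P) :
    IsClosed (X.hom.base '' P) ∧ X.hom.base ⁻¹' (X.hom.base '' P) = P := by
  obtain ⟨hsurj, hflat, hlfp, hiso⟩ := ha
  have hsat : X.hom.base ⁻¹' (X.hom.base '' P) = P := by
    apply Set.Subset.antisymm
    · rintro x ⟨p, hp, hpx⟩
      obtain ⟨z, hz1, hz2⟩ :=
        Scheme.Pullback.exists_preimage_pullback (f := X.hom) (g := X.hom) x p hpx.symm
      let φ : G ⊗ X ⟶ X ⊗ X := lift a.act (snd G X)
      let z' : (X ⊗ X).left := z
      let w : (G ⊗ X).left := (inv φ).left.base z'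
      have hw : φ.left.base w = z' := by
        show ((inv φ).left ≫ φ.left).base z' = z'
        rw [← Over.comp_left, IsIso.inv_hom_id]
        rfl
      have h1 : a.act.left.base w = x := by
        have e : φ ≫ fst X X = a.act := lift_fst _ _
        rw [← e, Over.comp_left, Scheme.Hom.comp_base]
        show (fst X X).left.base (φ.left.base w) = x
        rw [hw]
        exact hz1
      have h2 : (snd G X).left.base w = p := by
        have e : φ ≫ snd X X = snd G X := lift_snd _ _
        rw [← e, Over.comp_left, Scheme.Hom.comp_base]
        show (snd X X).left.base (φ.left.base w) = p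
        rw [hw]
        exact hz2
      rw [← h1]
      apply hstab
      rw [h2]
      exact hp
    · exact Set.subset_preimage_image _ _
  refine ⟨?_, hsat⟩
  have hopen : IsOpenMap X.hom.base := X.hom.isOpenMap
  have hsurj' : Function.Surjective X.hom.base := hsurj.surj
  rw [← isOpen_compl_iff]
  have : (X.hom.base '' P)ᶜ = X.hom.base '' Pᶜ := by
    apply Set.Subset.antisymm
    · intro s hs
      obtain ⟨x, rfl⟩ := hsurj' s
      refine ⟨x, ?_, rfl⟩
      intro hxP
      exact hs ⟨x, hxP, rfl⟩
    · rintro _ ⟨x, hx, rfl⟩ ⟨p, hp, hpx⟩
      apply hx
      rw [← hsat]
      exact ⟨p, hp, hpx⟩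
  rw [this]
  exact hopen _ hP.isOpen_compl

end Groth.Agent.S16162
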