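import Groth.Statements.S16164
import Mathlib.Tactic.Ring
import Mathlib.Tactic.Linarith

set_option autoImplicit false
open Neron

namespace Groth.Agent.S16164

open Matrix in
theorem symm_dot {κ : Type} [Fintype κ] (Ψ : Matrix κ κ ℤ) (h : Ψ.IsSymm) (u v : κ → ℤ) :
    u ⬝ᵥ Ψ.mulVec v = v ⬝ᵥ Ψ.mulVec u := by
  rw [Matrix.dotProduct_mulVec, ← Matrix.mulVec_transpose, h.eq, dotProduct_comm]

open Matrix in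
theorem q_add {κ : Type} [Fintype κ] (Ψ : Matrix κ κ ℤ) (h : Ψ.IsSymm) (u v : κ → ℤ) :
    (u + v) ⬝ᵥ Ψ.mulVec (u + v) =
      u ⬝ᵥ Ψ.mulVec u + 2 * (u ⬝ᵥ Ψ.mulVec v) + v ⬝ᵥ Ψ.mulVec v := by
  rw [Matrix.mulVec_add, add_dotProduct, dotProduct_add, dotProduct_add, symm_dot Ψ h v u]
  ring

open Matrix in
theorem q_nonneg {κ : Type} [Fintype κ] (Ψ : Matrix κ κ ℤ)
    (hpos : ∀ y : κ → ℤ, y ≠ 0 → 0 < y ⬝ᵥ Ψ.mulVec y) (y : κ → ℤ) : 0 ≤ y ⬝ᵥ Ψ.mulVec y := by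
  by_cases hy : y = 0
  · subst hy; simp
  · exact (hpos y hy).le

open Matrix in
theorem eq_zero_of_q {κ : Type} [Fintype κ] (Ψ : Matrix κ κ ℤ)
    (hpos : ∀ y : κ → ℤ, y ≠ 0 → 0 < y ⬝ᵥ Ψ.mulVec y) (y : κ → ℤ)
    (h : y ⬝ᵥ Ψ.mulVec y ≤ 0) : y = 0 := by
  by_contra hy
  exact absurd (hpos y hy) (not_lt.mpr h)

open Matrix in
/-- The core argument, phrased with pairs. -/
theorem core {ι κ₁ κ₂ : Type} [Fintype ι] [Fintype κ₁] [Fintype κ₂]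
    (P : Matrix κ₁ ι ℤ) (Q : Matrix κ₂ ι ℤ)
    (hP : Function.Surjective P.mulVec)
    (Ψ₁ : Matrix κ₁ κ₁ ℤ) (Ψ₂ : Matrix κ₂ κ₂ ℤ) (hΨ₁ : Ψ₁.IsSymm) (hΨ₂ : Ψ₂.IsSymm)
    (hΨ₁pos : ∀ y : κ₁ → ℤ, y ≠ 0 → 0 < y ⬝ᵥ Ψ₁.mulVec y)
    (hΨ₂pos : ∀ y : κ₂ → ℤ, y ≠ 0 → 0 < y ⬝ᵥ Ψ₂.mulVec y)
    (L : (κ₁ → ℤ) → (κ₂ → ℤ) → Prop)
    (hL : ∀ l₁ l₂, L l₁ l₂ ↔ ∀ x : ι → ℤ,
      (P.mulVec x) ⬝ᵥ Ψ₁.mulVec l₁ + (Q.mulVec x) ⬝ᵥ Ψ₂.mulVec l₂ = 0)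
    (hF1 : ∀ (y₁ : κ₁ → ℤ) (y₂ : κ₂ → ℤ), ∃ x : ι → ℤ, L (y₁ - P.mulVec x) (y₂ - Q.mulVec x)) :
    ∀ (n : ℕ) (l₁ : κ₁ → ℤ) (l₂ : κ₂ → ℤ), L l₁ l₂ →
      l₁ ⬝ᵥ Ψ₁.mulVec l₁ + l₂ ⬝ᵥ Ψ₂.mulVec l₂ ≤ n → l₁ = 0 := by
  intro n
  induction n using Nat.strong_induction_on with
  | _ n ih =>
    intro l₁ l₂ hl hq
    -- case l₂ = 0 handled uniformly below
    obtain ⟨x, hx⟩ := hF1 l₁ 0
    set m₁ := l₁ - P.mulVec x with hm₁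
    set m₂ := (0 : κ₂ → ℤ) - Q.mulVec x with hm₂
    have hmL := (hL m₁ m₂).mp hx x
    have e1 : l₁ = P.mulVec x + m₁ := by rw [hm₁]; abel
    have e2 : (0 : κ₂ → ℤ) = Q.mulVec x + m₂ := by rw [hm₂]; abel
    have hq1 : l₁ ⬝ᵥ Ψ₁.mulVec l₁ = (P.mulVec x) ⬝ᵥ Ψ₁.mulVec (P.mulVec x) +
        2 * ((P.mulVec x) ⬝ᵥ Ψ₁.mulVec m₁) + m₁ ⬝ᵥ Ψ₁.mulVec m₁ := by
      conv_lhs => rw [e1]
      exact q_add Ψ₁ hΨ₁ _ _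
    have hq2 : (0 : ℤ) = (Q.mulVec x) ⬝ᵥ Ψ₂.mulVec (Q.mulVec x) +
        2 * ((Q.mulVec x) ⬝ᵥ Ψ₂.mulVec m₂) + m₂ ⬝ᵥ Ψ₂.mulVec m₂ := by
      have := q_add Ψ₂ hΨ₂ (Q.mulVec x) m₂
      rw [← e2] at this
      simpa using this
    have hn1 := q_nonneg Ψ₁ hΨ₁pos (P.mulVec x)
    have hn2 := q_nonneg Ψ₂ hΨ₂pos (Q.mulVec x)
    have hn3 := q_nonneg Ψ₂ hΨ₂pos l₂
    have hn4 := q_nonneg Ψ₁ hΨ₁pos m₁
    have hn5 := q_nonneg Ψ₂ hΨ₂pos m₂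
    -- q(m) ≤ q₁(l₁)
    have hqm : m₁ ⬝ᵥ Ψ₁.mulVec m₁ + m₂ ⬝ᵥ Ψ₂.mulVec m₂ ≤ l₁ ⬝ᵥ Ψ₁.mulVec l₁ := by
      linarith
    by_cases hl2 : l₂ = 0
    · -- then use surjectivity of P
      subst hl2
      obtain ⟨x', hx'⟩ := hP l₁
      have := (hL l₁ 0).mp hl x'
      rw [hx'] at this
      simp only [Matrix.mulVec_zero, dotProduct_zero, add_zero] at this
      exact eq_zero_of_q Ψ₁ hΨ₁pos l₁ this.le
    · have hpos2 := hΨ₂pos l₂ hl2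
      -- q(m) < q(l) ≤ n
      have hlt : m₁ ⬝ᵥ Ψ₁.mulVec m₁ + m₂ ⬝ᵥ Ψ₂.mulVec m₂ < n := by linarith
      have hnn : 0 ≤ m₁ ⬝ᵥ Ψ₁.mulVec m₁ + m₂ ⬝ᵥ Ψ₂.mulVec m₂ := by linarith
      have hm1 : m₁ = 0 := by
        have hk : (m₁ ⬝ᵥ Ψ₁.mulVec m₁ + m₂ ⬝ᵥ Ψ₂.mulVec m₂).toNat < n := by
          omega
        exact ih _ hk m₁ m₂ hx (by
          rw [Int.toNat_of_nonneg hnn])
      have hl1 : l₁ = P.mulVec x := by rw [e1, hm1, add_zero]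
      have hm1q : m₁ ⬝ᵥ Ψ₁.mulVec m₁ = 0 := by rw [hm1]; simp
      have hQx : Q.mulVec x = 0 := by
        apply eq_zero_of_q Ψ₂ hΨ₂pos
        have hq' : l₁ ⬝ᵥ Ψ₁.mulVec l₁ = (P.mulVec x) ⬝ᵥ Ψ₁.mulVec (P.mulVec x) := by rw [← hl1]
        linarith
      have := (hL l₁ l₂).mp hl x
      rw [hQx, ← hl1] at this
      simp only [zero_dotProduct, add_zero] at this
      exact eq_zero_of_q Ψ₁ hΨ₁pos l₁ this.le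

/-- Let X, Y₁, Y₂ be finitely generated free abelian groups with chosen bases, so that homomorphisms are
integer matrices acting on column vectors and each group is identified with its dual; let P : X → Y₁
and Q : X → Y₂ be surjective with A = (P over Q) : X → Y₁ ⊕ Y₂ injective, and let Ψ₁, Ψ₂ be
symmetric positive-definite integer matrices on Y₁ and Y₂, Ψ their block-diagonal sum. If the image
of Aᵀ Ψ : Y₁ ⊕ Y₂ → X coincides with the image of Aᵀ Ψ A : X → X (the reverse inclusion always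
holds), then A is bijective. (In the source X, Y₁, Y₂ are character groups of maximal tori, P and Q
specialization maps, Ψ₁ and Ψ₂ monodromy pairings, and the hypothesis expresses that two groups of
components coincide.) -/
theorem result
    {ι κ₁ κ₂ : Type} [Fintype ι] [Fintype κ₁] [Fintype κ₂]
    (P : Matrix κ₁ ι ℤ) (Q : Matrix κ₂ ι ℤ)
    (hP : Function.Surjective P.mulVec) (hQ : Function.Surjective Q.mulVec)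
    (hA : Function.Injective (Matrix.fromRows P Q).mulVec)
    (Ψ₁ : Matrix κ₁ κ₁ ℤ) (Ψ₂ : Matrix κ₂ κ₂ ℤ) (hΨ₁ : Ψ₁.IsSymm) (hΨ₂ : Ψ₂.IsSymm)
    (hΨ₁pos : ∀ y : κ₁ → ℤ, y ≠ 0 → 0 < y ⬝ᵥ Ψ₁.mulVec y)
    (hΨ₂pos : ∀ y : κ₂ → ℤ, y ≠ 0 → 0 < y ⬝ᵥ Ψ₂.mulVec y)
    (himage : LinearMap.range ((Matrix.fromRows P Q).transpose * Matrix.fromBlocks Ψ₁ 0 0 Ψ₂).mulVecLin =
      LinearMap.range ((Matrix.fromRows P Q).transpose * Matrix.fromBlocks Ψ₁ 0 0 Ψ₂ * Matrix.fromRows P Q).mulVecLin) :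
    Function.Bijective (Matrix.fromRows P Q).mulVec := by
  classical
  let L : (κ₁ → ℤ) → (κ₂ → ℤ) → Prop := fun l₁ l₂ => ∀ x : ι → ℤ,
    (P.mulVec x) ⬝ᵥ Ψ₁.mulVec l₁ + (Q.mulVec x) ⬝ᵥ Ψ₂.mulVec l₂ = 0
  have hLdef : ∀ l₁ l₂, L l₁ l₂ ↔ ∀ x : ι → ℤ,
      (P.mulVec x) ⬝ᵥ Ψ₁.mulVec l₁ + (Q.mulVec x) ⬝ᵥ Ψ₂.mulVec l₂ = 0 := fun _ _ => Iff.rfl
  have hF1 : ∀ (y₁ : κ₁ → ℤ) (y₂ : κ₂ → ℤ), ∃ x : ι → ℤ, L (y₁ - P.mulVec x) (y₂ - Q.mulVec x) := by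
    intro y₁ y₂
    have hmem : ((Matrix.fromRows P Q).transpose * Matrix.fromBlocks Ψ₁ 0 0 Ψ₂).mulVecLin (Sum.elim y₁ y₂) ∈
        LinearMap.range ((Matrix.fromRows P Q).transpose * Matrix.fromBlocks Ψ₁ 0 0 Ψ₂ * Matrix.fromRows P Q).mulVecLin := by
      rw [← himage]; exact LinearMap.mem_range_self _ _
    obtain ⟨x, hx⟩ := hmem
    refine ⟨x, fun x' => ?_⟩
    have h1 := congrArg (fun v => x' ⬝ᵥ v) hx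
    simp only [Matrix.mulVecLin_apply, ← Matrix.mulVec_mulVec, Matrix.dotProduct_mulVec,
      Matrix.vecMul_transpose] at h1
    simp only [Matrix.fromRows_mulVec, Matrix.fromBlocks_mulVec, Matrix.zero_mulVec, add_zero, zero_add,
      ← Matrix.dotProduct_mulVec, sumElim_dotProduct_sumElim, Sum.elim_comp_inl, Sum.elim_comp_inr] at h1
    simp only [Matrix.mulVec_sub, dotProduct_sub]
    linarith
  have hF1' : ∀ (y₂ : κ₂ → ℤ) (y₁ : κ₁ → ℤ), ∃ x : ι → ℤ,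
      (fun l₂ l₁ => L l₁ l₂) (y₂ - Q.mulVec x) (y₁ - P.mulVec x) := fun y₂ y₁ => hF1 y₁ y₂
  have hLdef' : ∀ l₂ l₁, (fun l₂ l₁ => L l₁ l₂) l₂ l₁ ↔ ∀ x : ι → ℤ,
      (Q.mulVec x) ⬝ᵥ Ψ₂.mulVec l₂ + (P.mulVec x) ⬝ᵥ Ψ₁.mulVec l₁ = 0 := by
    intro l₂ l₁
    simp only [L]
    exact forall_congr' fun x => by rw [add_comm]
  refine ⟨hA, ?_⟩
  intro y
  obtain ⟨x, hx⟩ := hF1 (y ∘ Sum.inl) (y ∘ Sum.inr)
  have hq1 := q_nonneg Ψ₁ hΨ₁pos (y ∘ Sum.inl - P.mulVec x)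
  have hq2 := q_nonneg Ψ₂ hΨ₂pos (y ∘ Sum.inr - Q.mulVec x)
  have h1 := core P Q hP Ψ₁ Ψ₂ hΨ₁ hΨ₂ hΨ₁pos hΨ₂pos L hLdef hF1 _ _ _ hx
    (le_of_eq (Int.toNat_of_nonneg (add_nonneg hq1 hq2)).symm)
  have h2 := core Q P hQ Ψ₂ Ψ₁ hΨ₂ hΨ₁ hΨ₂pos hΨ₁pos (fun l₂ l₁ => L l₁ l₂) hLdef' hF1' _ _ _ hx
    (le_of_eq (Int.toNat_of_nonneg (add_nonneg hq2 hq1)).symm)
  refine ⟨x, ?_⟩
  rw [Matrix.fromRows_mulVec]
  funext i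
  cases i with
  | inl i => 
    have := congrFun h1 i
    simp only [Pi.sub_apply, Function.comp_apply, Pi.zero_apply] at this
    simp only [Sum.elim_inl]
    linarith
  | inr i =>
    have := congrFun h2 i
    simp only [Pi.sub_apply, Function.comp_apply, Pi.zero_apply] at this
    simp only [Sum.elim_inr]
    linarith

end Groth.Agent.S16164
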