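import Groth.Statements.S1617
import Mathlib
import Groth.Agent.Lib.Helper14.LocalDimSch
import Groth.Agent.Lib.Helper14.FieldSchemeBridge
-- import your own Groth.Agent.* helpers here

set_option autoImplicit false
universe u
open CategoryTheory CategoryTheory.Limits AlgebraicGeometry
open Variety

namespace Groth.Agent.S1617

/-- Let X be locally of finite type over a field k and x a closed point. Then the local dimension of X
at x (infimum of the dimensions of open neighbourhoods) equals the Krull dimension of the local ring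
at x. -/
theorem result (k : Type u) [Field k] (X : Scheme.{u}) [X.Over (Spec (CommRingCat.of k))] [LocallyOfFiniteType (X ↘ (Spec (CommRingCat.of k)))] (x : X) (hx : IsClosed ({x} : Set X)) :
    FlatMor.localDim X x = ringKrullDim (X.presheaf.stalk x) := by
  obtain ⟨W, hW, hxW, -⟩ :=
    exists_isAffineOpen_mem_and_subset (X := X) (x := x) (U := ⊤) trivial
  letI alg : Algebra k Γ(X, W) := (Groth.Agent.Helper14.FieldSchemeBridge.kU k X W).toAlgebra
  have halg : algebraMap k Γ(X, W) = Groth.Agent.Helper14.FieldSchemeBridge.kU k X W := rfl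
  haveI : Algebra.FiniteType k Γ(X, W) :=
    Groth.Agent.Helper14.FieldSchemeBridge.kU_finiteType k X hW
  haveI hpp : (hW.primeIdealOf ⟨x, hxW⟩).asIdeal.IsPrime := (hW.primeIdealOf ⟨x, hxW⟩).isPrime
  haveI : (hW.primeIdealOf ⟨x, hxW⟩).asIdeal.LiesOver (⊥ : Ideal k) :=
    Groth.Agent.Helper14.FieldSchemeBridge.liesOver_bot k _
  have hmax : (hW.primeIdealOf ⟨x, hxW⟩).asIdeal.IsMaximal := by
    rw [← PrimeSpectrum.isClosed_singleton_iff_isMaximal]
    have hpre : hW.fromSpec ⁻¹' {x} = {hW.primeIdealOf ⟨x, hxW⟩} := by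
      ext y
      simp only [Set.mem_preimage, Set.mem_singleton_iff]
      constructor
      · intro h
        apply hW.fromSpec.isOpenEmbedding.injective
        rw [h]
        exact (hW.fromSpec_primeIdealOf ⟨x, hxW⟩).symm
      · rintro rfl
        exact hW.fromSpec_primeIdealOf ⟨x, hxW⟩
    have h2 := hx.preimage hW.fromSpec.continuous
    rw [hpre] at h2
    exact h2
  have h0 : Algebra.trdeg k (Γ(X, W) ⧸ (hW.primeIdealOf ⟨x, hxW⟩).asIdeal) = ((0 : ℕ) : Cardinal) := by
    rw [Groth.Agent.Helper14.LocalDimAlg.trdeg_quotient_maximal]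
    simp
  have ha : @Algebra.trdeg k (X.residueField x) _ _ (Curv2.resAlgebra k X x) = ((0 : ℕ) : Cardinal) := by
    rw [Groth.Agent.Helper14.FieldSchemeBridge.trdeg_resAlgebra_eq k X hW x hxW halg _ rfl,
      Groth.Agent.Helper14.FieldSchemeBridge.trdeg_quotient_base]
    exact h0
  rw [Groth.Agent.Helper14.LocalDimSch.localDim_eq k X x 0 ha]
  simp

end Groth.Agent.S1617
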