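import Groth.Statements.S16170
import Mathlib.Tactic.NoncommRing
import Mathlib.Tactic.Linarith
import Mathlib.Data.Matrix.Basic
import Mathlib.LinearAlgebra.Matrix.ToLin

set_option autoImplicit false
open Neron

namespace Groth.Agent.S16170

section
variable {ι : Type} [Fintype ι] [DecidableEq ι]

def MPos (X : Matrix ι ι ℤ) : Prop := ∀ v : ι → ℤ, 0 ≤ v ⬝ᵥ X.mulVec v

theorem conj_apply (A X : Matrix ι ι ℤ) (v : ι → ℤ) :
    v ⬝ᵥ (A.transpose * X * A).mulVec v = (A.mulVec v) ⬝ᵥ X.mulVec (A.mulVec v) := by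
  rw [← Matrix.mulVec_mulVec, ← Matrix.mulVec_mulVec, Matrix.dotProduct_mulVec,
    Matrix.vecMul_transpose]

theorem MPos.conj {X : Matrix ι ι ℤ} (h : MPos X) (A : Matrix ι ι ℤ) :
    MPos (A.transpose * X * A) := by
  intro v
  rw [conj_apply]
  exact h _

theorem MPos.add {X Y : Matrix ι ι ℤ} (hX : MPos X) (hY : MPos Y) : MPos (X + Y) := by
  intro v
  rw [Matrix.add_mulVec, dotProduct_add]
  exact add_nonneg (hX v) (hY v)

theorem MPos.smul4 {X : Matrix ι ι ℤ} (hX : MPos X) : MPos ((4 : ℤ) • X) := by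
  intro v
  rw [Matrix.smul_mulVec, dotProduct_smul]
  have := hX v
  simp only [smul_eq_mul]
  linarith

/-- `A` is self-adjoint for `S`. -/
def SA (S A : Matrix ι ι ℤ) : Prop := A.transpose * S = S * A

theorem pos_sandwich {S A Y : Matrix ι ι ℤ} (hA : SA S A) (hY : MPos (S * Y)) :
    MPos (S * (A * Y * A)) := by
  have : S * (A * Y * A) = A.transpose * (S * Y) * A := by
    rw [← Matrix.mul_assoc A.transpose, hA]
    simp only [Matrix.mul_assoc]
  rw [this]
  exact hY.conj A

end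

/-- Let M and N be symmetric positive-semidefinite integer matrices on the same finite index set whose
sum M + N is positive definite, and let χ₁, χ₂ be integer matrices with χ₁ + χ₂ = 1 and M χ₂ = N χ₁.
Then χ₁ and χ₂ are idempotent. (In the intended application M = Pᵀ Ψ₁ P and N = Qᵀ Ψ₂ Q for
surjective integer matrices P, Q and positive-definite Ψ₁, Ψ₂.) -/
theorem result
    {ι : Type} [Fintype ι] [DecidableEq ι]
    (M N χ₁ χ₂ : Matrix ι ι ℤ) (hM : M.IsSymm) (hN : N.IsSymm)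
    (hMpos : ∀ v : ι → ℤ, 0 ≤ v ⬝ᵥ M.mulVec v) (hNpos : ∀ v : ι → ℤ, 0 ≤ v ⬝ᵥ N.mulVec v)
    (hpos : ∀ v : ι → ℤ, v ≠ 0 → 0 < v ⬝ᵥ (M + N).mulVec v)
    (hsum : χ₁ + χ₂ = 1) (hrel : M * χ₂ = N * χ₁) :
    χ₁ * χ₁ = χ₁ ∧ χ₂ * χ₂ = χ₂ := by
  classical
  obtain rfl : χ₂ = 1 - χ₁ := by rw [← hsum]; abel
  obtain ⟨c, hc⟩ : ∃ c, c = χ₁ := ⟨_, rfl⟩
  subst hc
  obtain ⟨S, hS⟩ : ∃ S, S = M + N := ⟨_, rfl⟩
  rw [← hS] at hpos
  have hSsymm : S.transpose = S := by
    rw [hS, Matrix.transpose_add, hM.eq, hN.eq]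
  have hMS : M = S * c := by
    have h1 : M * (1 - c) = N * c := hrel
    rw [hS, Matrix.add_mul, ← h1]
    noncomm_ring
  have hNS : N = S * (1 - c) := by
    have : N = S - M := by rw [hS]; abel
    rw [this, hMS]
    noncomm_ring
  have sa_c : SA S c := by
    unfold SA
    have h1 : (S * c).transpose = S * c := by rw [← hMS]; exact hM.eq
    rw [Matrix.transpose_mul, hSsymm] at h1
    exact h1
  have sa_1c : SA S (1 - c) := by
    unfold SA at sa_c ⊢
    rw [Matrix.transpose_sub, Matrix.transpose_one, Matrix.sub_mul, Matrix.mul_sub, sa_c]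
    simp
  have posS : MPos S := by
    intro v
    by_cases hv : v = 0
    · subst hv; simp
    · exact (hpos v hv).le
  have posS1 : MPos (S * 1) := by rw [Matrix.mul_one]; exact posS
  have posM : MPos (S * c) := by rw [← hMS]; exact hMpos
  have posN : MPos (S * (1 - c)) := by rw [← hNS]; exact hNpos
  obtain ⟨E, hE⟩ : ∃ E, E = c * (1 - c) := ⟨_, rfl⟩
  obtain ⟨G, hG⟩ : ∃ G, G = (1 - c) - c := ⟨_, rfl⟩
  obtain ⟨F, hF⟩ : ∃ F, F = G * 1 * G := ⟨_, rfl⟩
  have sa_G : SA S G := by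
    unfold SA at sa_c sa_1c ⊢
    rw [hG, Matrix.transpose_sub, Matrix.sub_mul, Matrix.mul_sub, sa_c, sa_1c]
  have sa_E : SA S E := by
    unfold SA at sa_c sa_1c ⊢
    rw [hE, Matrix.transpose_mul, Matrix.mul_assoc, sa_c, ← Matrix.mul_assoc, sa_1c, Matrix.mul_assoc]
    congr 1
    noncomm_ring
  have sa_F : SA S F := by
    unfold SA at sa_G ⊢
    rw [hF, Matrix.mul_one, Matrix.transpose_mul, Matrix.mul_assoc, sa_G, ← Matrix.mul_assoc, sa_G,
      Matrix.mul_assoc]
  have posE : MPos (S * E) := by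
    have h1 := pos_sandwich sa_c posN
    have h2 := pos_sandwich sa_1c posM
    have h3 := h1.add h2
    have : S * (c * (1 - c) * c) + S * ((1 - c) * c * (1 - c)) = S * E := by
      rw [← Matrix.mul_add, hE]
      congr 1
      noncomm_ring
    rwa [this] at h3
  have posF : MPos (S * F) := by rw [hF]; exact pos_sandwich sa_G posS1
  have hFE : F = 1 - (4 : ℤ) • E := by
    rw [hF, hG, hE]
    noncomm_ring
  have posEF : MPos (S * (E - (4 : ℤ) • (E * E))) := by
    have h1 := (pos_sandwich sa_E posF).smul4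
    have h2 := pos_sandwich sa_F posE
    have h3 := h1.add h2
    have : (4 : ℤ) • (S * (E * F * E)) + S * (F * E * F) = S * (E - (4 : ℤ) • (E * E)) := by
      rw [← Matrix.mul_smul, ← Matrix.mul_add, hFE]
      congr 1
      rw [hE]
      noncomm_ring
    rwa [this] at h3
  -- quantitative bounds
  have hq : ∀ v : ι → ℤ, 16 * ((E.mulVec v) ⬝ᵥ S.mulVec (E.mulVec v)) ≤ v ⬝ᵥ S.mulVec v := by
    intro v
    have h1 := posEF v
    have h2 := posF v
    have e1 : S * (E - (4 : ℤ) • (E * E)) = S * E - (4 : ℤ) • (E.transpose * S * E) := by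
      unfold SA at sa_E
      rw [sa_E, Matrix.mul_sub, Matrix.mul_smul, Matrix.mul_assoc]
    rw [e1, Matrix.sub_mulVec, Matrix.smul_mulVec, dotProduct_sub, dotProduct_smul, conj_apply,
      smul_eq_mul] at h1
    rw [hFE, Matrix.mul_sub, Matrix.mul_one, Matrix.mul_smul, Matrix.sub_mulVec, Matrix.smul_mulVec,
      dotProduct_sub, dotProduct_smul, smul_eq_mul] at h2
    linarith
  have hEv : ∀ (n : ℕ) (v : ι → ℤ), ((E.mulVec v) ⬝ᵥ S.mulVec (E.mulVec v)).toNat = n →
      E.mulVec v = 0 := by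
    intro n
    induction n using Nat.strong_induction_on with
    | _ n ih =>
      intro v hn
      obtain ⟨y, hy⟩ : ∃ y, y = E.mulVec v := ⟨_, rfl⟩
      rw [← hy]
      by_contra hy0
      have hqy : 0 < y ⬝ᵥ S.mulVec y := hpos y hy0
      have h16 := hq y
      have hlt : ((E.mulVec y) ⬝ᵥ S.mulVec (E.mulVec y)).toNat < n := by
        rw [← hn, ← hy]
        have h0 := posS (E.mulVec y)
        omega
      have hEy : E.mulVec y = 0 := ih _ hlt y rfl
      have : y ⬝ᵥ S.mulVec y = 0 := by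
        have e2 : y ⬝ᵥ S.mulVec y = v ⬝ᵥ (E.transpose * S * E).mulVec v := by
          rw [conj_apply, ← hy]
        unfold SA at sa_E
        rw [e2, sa_E, Matrix.mul_assoc, ← Matrix.mulVec_mulVec, ← Matrix.mulVec_mulVec, ← hy,
          hEy]
        simp
      omega
  have hE0 : E = 0 := by
    apply Matrix.toLin'.injective
    apply LinearMap.ext
    intro v
    rw [Matrix.toLin'_apply, hEv _ v rfl]
    simp
  constructor
  · have : c * c = c - E := by rw [hE]; noncomm_ring
    rw [this, hE0, sub_zero]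
  · have : (1 - c) * (1 - c) = (1 - c) - E := by rw [hE]; noncomm_ring
    rw [this, hE0, sub_zero]

end Groth.Agent.S16170
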