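import Groth.Statements.S16174
import Mathlib.Algebra.Polynomial.Taylor
import Mathlib.Tactic.Ring
import Mathlib.RingTheory.Polynomial.Basic
import Mathlib.RingTheory.Ideal.BigOperators
import Mathlib.Tactic.Linarith
import Mathlib.RingTheory.LocalRing.Basic

set_option autoImplicit false
universe u
open Hensel

namespace Groth.Agent.S16174

open Polynomial IsLocalRing

/-- If `V` is Henselian local, `S` local, and every element of `𝔪_S` is the image of an element
of `𝔪_V`, then `S` is Henselian. -/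
theorem henselian_of_lift {V S : Type*} [CommRing V] [CommRing S] [hV : HenselianLocalRing V]
    [IsLocalRing S] (φ : V →+* S)
    (hP : ∀ b ∈ maximalIdeal S, ∃ β ∈ maximalIdeal V, φ β = b) : HenselianLocalRing S := by
  refine { is_henselian := ?_ }
  intro f hf a₀ h₁ h₂
  -- translate
  set g := taylor a₀ f with hg
  have hgm : g.Monic := by rw [hg, Monic, leadingCoeff_taylor]; exact hf
  have hc0 : g.coeff 0 = f.eval a₀ := taylor_coeff_zero _ _
  have hc1 : g.coeff 1 = f.derivative.eval a₀ := taylor_coeff_one _ _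
  -- it suffices to find a root of g in the maximal ideal
  suffices hx : ∃ x ∈ maximalIdeal S, g.eval x = 0 by
    obtain ⟨x, hxm, hx0⟩ := hx
    refine ⟨x + a₀, ?_, by simpa using hxm⟩
    rw [IsRoot, ← taylor_eval, ← hg, hx0]
  set c₀ := g.coeff 0 with hc₀
  have hc₀m : c₀ ∈ maximalIdeal S := by rw [hc0]; exact h₁
  obtain ⟨u, hu⟩ : ∃ u : S, g.coeff 1 * u = 1 := by
    rw [hc1]; exact h₂.exists_right_inv
  -- degree at least one
  obtain ⟨m, hm⟩ : ∃ m, g.natDegree = m + 1 := by
    rcases Nat.eq_zero_or_pos g.natDegree with h0 | hpos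
    · exfalso
      have : g = 1 := by
        rw [eq_C_of_natDegree_eq_zero h0, ← h0]
        have := hgm.coeff_natDegree
        rw [this]; simp
      have : c₀ = 1 := by rw [hc₀, this]; simp
      rw [this] at hc₀m
      exact (maximalIdeal.isMaximal S).ne_top ((Ideal.eq_top_iff_one _).mpr hc₀m)
    · exact ⟨g.natDegree - 1, by omega⟩
  -- the coefficients b_j
  have hb : ∀ j : ℕ, ∃ β ∈ maximalIdeal V, φ β = g.coeff (j + 2) * c₀ ^ (j + 1) * u ^ (j + 2) := by
    intro j
    apply hP
    rw [pow_succ]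
    have : g.coeff (j + 2) * (c₀ ^ j * c₀) * u ^ (j + 2) = c₀ * (g.coeff (j + 2) * c₀ ^ j * u ^ (j + 2)) := by
      ring
    rw [this]
    exact Ideal.mul_mem_right _ _ hc₀m
  choose β hβm hβ using hb
  -- the polynomial over V
  set G : V[X] := ∑ j ∈ Finset.range m, C (β j) * X ^ (m - 1 - j) with hG
  set F : V[X] := (X + 1) * X ^ m + G with hF
  have hGdeg : G.degree < ((m + 1 : ℕ) : WithBot ℕ) := by
    rw [hG]
    refine (degree_sum_le _ _).trans_lt ?_
    rw [Finset.sup_lt_iff (WithBot.bot_lt_coe _)]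
    intro j hj
    refine (degree_C_mul_X_pow_le _ _).trans_lt ?_
    rw [Nat.cast_lt]
    omega
  have hFm : F.Monic := by
    have h1 : ((X + 1 : V[X]) * X ^ m).Monic := by
      simpa using (monic_X_add_C (1 : V)).mul (monic_X_pow m)
    have hd : ((X + 1 : V[X]) * X ^ m).degree = ((m + 1 : ℕ) : WithBot ℕ) := by
      nontriviality V
      rw [(monic_X_pow m).degree_mul, degree_X_pow]
      have : (X + 1 : V[X]).degree = 1 := by
        have := degree_X_add_C (1 : V)
        simpa using this
      rw [this]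
      push_cast
      ring
    exact h1.add_of_left (by rw [hd]; exact hGdeg)
  -- G has coefficients in the maximal ideal
  have hGmem : G ∈ (maximalIdeal V).map (C : V →+* V[X]) := by
    rw [hG]
    refine Ideal.sum_mem _ fun j _ => Ideal.mul_mem_right _ _ (Ideal.mem_map_of_mem _ (hβm j))
  have heval_mem : ∀ (Q : V[X]), Q ∈ (maximalIdeal V).map (C : V →+* V[X]) → ∀ a : V,
      Q.eval a ∈ maximalIdeal V := by
    intro Q hQ a
    have : (Ideal.map (C : V →+* V[X]) (maximalIdeal V)).map (evalRingHom a) ≤ maximalIdeal V := by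
      rw [Ideal.map_map]
      have : (evalRingHom a).comp (C : V →+* V[X]) = RingHom.id V := by
        ext; simp
      rw [this, Ideal.map_id]
    exact this (Ideal.mem_map_of_mem (evalRingHom a) hQ)
  have hderiv_mem : derivative G ∈ (maximalIdeal V).map (C : V →+* V[X]) := by
    rw [Ideal.mem_map_C_iff] at hGmem ⊢
    intro n
    rw [coeff_derivative]
    exact Ideal.mul_mem_right _ _ (hGmem _)
  -- apply Henselianity at -1
  have hF1 : F.eval (-1) ∈ maximalIdeal V := by
    rw [hF, eval_add, eval_mul]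
    simp only [eval_add, eval_X, eval_one, neg_add_cancel, zero_mul, zero_add]
    exact heval_mem G hGmem _
  have hF2 : IsUnit (F.derivative.eval (-1)) := by
    rw [hF, derivative_add, derivative_mul, eval_add, eval_add, eval_mul, eval_mul]
    simp only [derivative_add, derivative_X, derivative_one, add_zero, eval_one, one_mul,
      eval_add, eval_X, neg_add_cancel, zero_mul]
    have hm1 : eval (-1) (derivative G) ∈ maximalIdeal V := heval_mem _ hderiv_mem _
    have hu1 : IsUnit (eval (-1 : V) (X ^ m)) := by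
      rw [eval_pow, eval_X]
      exact (isUnit_one.neg).pow m
    by_contra hnu
    have : eval (-1 : V) (X ^ m) ∈ maximalIdeal V := by
      have h3 := (mem_maximalIdeal _).mpr hnu
      have := (maximalIdeal V).sub_mem h3 hm1
      simpa using this
    exact (mem_maximalIdeal _).mp this hu1
  obtain ⟨z, hz0, hz1⟩ := hV.is_henselian F hFm (-1) hF1 hF2
  have hzu : IsUnit z := by
    by_contra hnu
    have h3 := (mem_maximalIdeal _).mpr hnu
    have := (maximalIdeal V).sub_mem hz1 h3
    rw [sub_neg_eq_add, add_sub_cancel_left] at this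
    exact (maximalIdeal.isMaximal V).ne_top ((Ideal.eq_top_iff_one _).mpr this)
  obtain ⟨z', hz'⟩ := hzu.exists_right_inv
  obtain ⟨Z, hZ⟩ : ∃ Z, Z = φ z := ⟨_, rfl⟩
  obtain ⟨w, hw⟩ : ∃ w, w = φ z' := ⟨_, rfl⟩
  have hZw : Z * w = 1 := by rw [hZ, hw, ← map_mul, hz', map_one]
  refine ⟨c₀ * u * w, Ideal.mul_mem_right _ _ (Ideal.mul_mem_right _ _ hc₀m), ?_⟩
  -- evaluate
  have hFz : φ (F.eval z) = (Z + 1) * Z ^ m + ∑ j ∈ Finset.range m,
      (g.coeff (j + 2) * c₀ ^ (j + 1) * u ^ (j + 2)) * Z ^ (m - 1 - j) := by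
    rw [hF, hG]
    simp only [eval_add, eval_mul, eval_pow, eval_X, eval_one, eval_finsetSum, eval_C, map_add,
      map_mul, map_pow, map_one, map_sum, hβ, ← hZ]
  rw [IsRoot] at hz0
  rw [hz0, map_zero] at hFz
  have hgx : g.eval (c₀ * u * w) = c₀ * (1 + w + ∑ j ∈ Finset.range m,
      (g.coeff (j + 2) * c₀ ^ (j + 1) * u ^ (j + 2)) * w ^ (j + 2)) := by
    rw [eval_eq_sum_range, hm, Finset.sum_range_succ', Finset.sum_range_succ']
    have hlead : g.coeff (m + 1) = 1 := by rw [← hm]; exact hgm.coeff_natDegree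
    simp only [pow_zero, mul_one, pow_one, zero_add]
    rw [mul_add, mul_add, Finset.mul_sum]
    have e1 : g.coeff 1 * (c₀ * u * w) = c₀ * w := by
      calc g.coeff 1 * (c₀ * u * w) = (g.coeff 1 * u) * (c₀ * w) := by ring
        _ = c₀ * w := by rw [hu, one_mul]
    rw [e1, ← hc₀]
    have e2 : ∀ j ∈ Finset.range m, g.coeff (j + 1 + 1) * (c₀ * u * w) ^ (j + 1 + 1) =
        c₀ * (g.coeff (j + 2) * c₀ ^ (j + 1) * u ^ (j + 2) * w ^ (j + 2)) := by
      intro j _
      ring
    rw [Finset.sum_congr rfl e2]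
    ring
  rw [hgx]
  have key : Z ^ (m + 1) * (1 + w + ∑ j ∈ Finset.range m,
      (g.coeff (j + 2) * c₀ ^ (j + 1) * u ^ (j + 2)) * w ^ (j + 2)) = 0 := by
    rw [hFz, mul_add, mul_add, Finset.mul_sum]
    have e1 : Z ^ (m + 1) * w = Z ^ m := by
      rw [pow_succ, mul_assoc, hZw, mul_one]
    have e2 : ∀ j ∈ Finset.range m, Z ^ (m + 1) * (g.coeff (j + 2) * c₀ ^ (j + 1) * u ^ (j + 2) * w ^ (j + 2)) =
        g.coeff (j + 2) * c₀ ^ (j + 1) * u ^ (j + 2) * Z ^ (m - 1 - j) := by
      intro j hj
      have hj' := Finset.mem_range.mp hj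
      have : m + 1 = (m - 1 - j) + (j + 2) := by omega
      have hpow : Z ^ (m + 1) * w ^ (j + 2) = Z ^ (m - 1 - j) * (Z * w) ^ (j + 2) := by
        rw [mul_pow, ← mul_assoc, ← pow_add, ← this]
      calc Z ^ (m + 1) * (g.coeff (j + 2) * c₀ ^ (j + 1) * u ^ (j + 2) * w ^ (j + 2))
          = g.coeff (j + 2) * c₀ ^ (j + 1) * u ^ (j + 2) * (Z ^ (m + 1) * w ^ (j + 2)) := by ring
        _ = g.coeff (j + 2) * c₀ ^ (j + 1) * u ^ (j + 2) * (Z ^ (m - 1 - j) * (Z * w) ^ (j + 2)) := by
            rw [hpow]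
        _ = _ := by rw [hZw, one_pow, mul_one]
    rw [e1, Finset.sum_congr rfl e2]
    ring
  have hZu : IsUnit (Z ^ (m + 1)) := (IsUnit.of_mul_eq_one _ hZw).pow _
  rw [hZu.mul_right_eq_zero] at key
  rw [key, mul_zero]

/-- Let V be a Henselian valuation ring and p a prime ideal of V. Then the local rings V_p (localisation
at p) and V/p are Henselian. (Both are again valuation rings, which is elementary and not restated.) -/
theorem result (V : Type u) [CommRing V]
    [IsDomain V] [ValuationRing V] [HenselianLocalRing V] (p : Ideal V) [p.IsPrime] :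
    HenselianLocalRing (Localization.AtPrime p) ∧ HenselianLocalRing (V ⧸ p) := by
  constructor
  · -- localisation
    apply henselian_of_lift (algebraMap V (Localization.AtPrime p))
    intro b hb
    obtain ⟨x, s, rfl⟩ := IsLocalization.exists_mk'_eq p.primeCompl b
    rw [IsLocalization.AtPrime.mk'_mem_maximal_iff (Localization.AtPrime p) p] at hb
    obtain ⟨c, hc | hc⟩ := PreValuationRing.cond x (s : V)
    · exfalso
      exact s.2 (hc ▸ Ideal.mul_mem_right _ _ hb)
    · have hcp : c ∈ p := by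
        rcases (Ideal.IsPrime.mem_or_mem inferInstance (hc ▸ hb : (s : V) * c ∈ p)) with h | h
        · exact absurd h s.2
        · exact h
      refine ⟨c, IsLocalRing.le_maximalIdeal (Ideal.IsPrime.ne_top inferInstance) hcp, ?_⟩
      rw [eq_comm, IsLocalization.mk'_eq_iff_eq_mul, ← map_mul, ← hc, mul_comm]
  · -- quotient
    haveI : IsLocalRing (V ⧸ p) :=
      IsLocalRing.of_surjective' (Ideal.Quotient.mk p) Ideal.Quotient.mk_surjective
    apply henselian_of_lift (Ideal.Quotient.mk p)
    intro b hb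
    obtain ⟨v, rfl⟩ := Ideal.Quotient.mk_surjective b
    refine ⟨v, ?_, rfl⟩
    rw [IsLocalRing.mem_maximalIdeal, mem_nonunits_iff] at hb ⊢
    exact fun hv => hb (hv.map _)

end Groth.Agent.S16174
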