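import Groth.Statements.S16187
import Mathlib
import Groth.Agent.Lib.Helper10.Fitting
import Groth.Agent.Lib.Helper10.FittingC
import Groth.Agent.Lib.Helper16.Alg.FittImmA
import Groth.Agent.Lib.Helper2.FittLI2
import Groth.Agent.Lib.Helper29.MxA
import Groth.Agent.Lib.Helper28.FittExt
import Groth.Agent.S15821
-- import your own Groth.Agent.* helpers here

set_option autoImplicit false
universe u
open CategoryTheory
open Fitt

namespace Groth.Agent.S16187

section
open CategoryTheory Groth.Agent.Lib.Helper10.Fitting MvPolynomial

theorem fitt_of_relMod {R : Type u} [CommRing R] {M : Type u} [AddCommGroup M] [Module R M] {c r : ℕ}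
    (x : Fin r → M) (hx : Submodule.span R (Set.range x) = ⊤)
    (J : Matrix (Fin c) (Fin r) R) (hcr : c ≤ r)
    (hrel : Submodule.span R (Set.range J) = relMod x) :
    Fitt.ideal R M (r - c) =
      Ideal.span {d | ∃ g : Fin c → Fin r, d = (J.submatrix id g).det} := by
  rw [fitt_eq_Jo x hx, Jo_eq_span_of_relMod_span x (r - c) (Set.range J) hrel]
  exact Groth.Agent.Helper29.MxA.mx1 hcr J

/-- relation module of the differentials of the generators is spanned by the Jacobian rows -/
theorem relMod_eq {k B : Type u} [CommRing k] [CommRing B] [Algebra k B] {r c : ℕ}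
    (G : Algebra.Generators k B (Fin r)) (a : Fin c → MvPolynomial (Fin r) k)
    (hker : Ideal.span (Set.range a) = G.ker) :
    Submodule.span B (Set.range (fun i : Fin c =>
      (fun j : Fin r => MvPolynomial.aeval G.val (MvPolynomial.pderiv j (a i))))) =
      relMod (fun j => KaehlerDifferential.D k B (G.val j)) := by
  apply le_antisymm
  · refine Submodule.span_le.2 ?_
    rintro _ ⟨i, rfl⟩
    rw [SetLike.mem_coe, mem_relMod, Groth.Agent.Helper16.FittImm.isRel_D_val_iff]
    exact ⟨a i, hker.le (Ideal.subset_span ⟨i, rfl⟩), rfl⟩
  · intro v hv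
    rw [mem_relMod, Groth.Agent.Helper16.FittImm.isRel_D_val_iff] at hv
    obtain ⟨f, hf, rfl⟩ := hv
    rw [← hker] at hf
    have key : ∀ f ∈ Ideal.span (Set.range a), MvPolynomial.aeval G.val f = 0 ∧
        (fun j : Fin r => MvPolynomial.aeval G.val (MvPolynomial.pderiv j f)) ∈
        Submodule.span B (Set.range (fun i : Fin c =>
          (fun j : Fin r => MvPolynomial.aeval G.val (MvPolynomial.pderiv j (a i))))) := by
      intro f hf
      refine Submodule.span_induction (p := fun f _ => MvPolynomial.aeval G.val f = 0 ∧
        (fun j : Fin r => MvPolynomial.aeval G.val (MvPolynomial.pderiv j f)) ∈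
        Submodule.span B (Set.range (fun i : Fin c =>
          (fun j : Fin r => MvPolynomial.aeval G.val (MvPolynomial.pderiv j (a i))))))
        ?_ ?_ ?_ ?_ hf
      · rintro _ ⟨i, rfl⟩
        refine ⟨?_, Submodule.subset_span ⟨i, rfl⟩⟩
        have : a i ∈ G.ker := hker.le (Ideal.subset_span ⟨i, rfl⟩)
        have h2 := RingHom.mem_ker.mp this
        exact (Algebra.Generators.algebraMap_apply G (a i)).symm.trans h2
      · refine ⟨map_zero _, ?_⟩
        simp only [map_zero]
        exact Submodule.zero_mem _
      · rintro x y _ _ ⟨hx0, hx⟩ ⟨hy0, hy⟩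
        refine ⟨by rw [map_add, hx0, hy0, add_zero], ?_⟩
        have : (fun j : Fin r => MvPolynomial.aeval G.val (MvPolynomial.pderiv j (x + y))) =
            (fun j : Fin r => MvPolynomial.aeval G.val (MvPolynomial.pderiv j x)) +
            (fun j : Fin r => MvPolynomial.aeval G.val (MvPolynomial.pderiv j y)) := by
          funext j; simp
        rw [this]
        exact Submodule.add_mem _ hx hy
      · rintro g x _ ⟨hx0, hx⟩
        refine ⟨by rw [smul_eq_mul, map_mul, hx0, mul_zero], ?_⟩
        have : (fun j : Fin r => MvPolynomial.aeval G.val (MvPolynomial.pderiv j (g • x))) =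
            (MvPolynomial.aeval G.val g) •
            (fun j : Fin r => MvPolynomial.aeval G.val (MvPolynomial.pderiv j x)) := by
          funext j
          rw [smul_eq_mul, Derivation.leibniz, map_add, smul_eq_mul, smul_eq_mul, map_mul, map_mul,
            hx0, zero_mul, add_zero, Pi.smul_apply, smul_eq_mul]
        rw [this]
        exact Submodule.smul_mem _ _ hx
    exact (key f hf).2

theorem main (k : Type u) [Field k] [IsAlgClosed k] (r c : ℕ)
    (B : Type u) [CommRing B] [Algebra k B] [IsReduced B]
    (φ : MvPolynomial (Fin r) k →ₐ[k] B) (hφ : Function.Surjective φ)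
    (a : Fin c → MvPolynomial (Fin r) k)
    (ha : RingTheory.Sequence.IsRegular (MvPolynomial (Fin r) k) (List.ofFn a))
    (hker : RingHom.ker φ.toRingHom = Ideal.span (Set.range a)) :
    Fitt.ideal B (KaehlerDifferential k B) (r - c) =
      Fitt.ideal B (Abelian.Ext.{u} (ModuleCat.of B (KaehlerDifferential k B)) (ModuleCat.of B B) 1) 0 := by
  classical
  haveI : Nontrivial B := by
    by_contra hB
    rw [not_nontrivial_iff_subsingleton] at hB
    apply ha.top_ne_smul
    have h1 : Ideal.span (Set.range a) = ⊤ := by
      rw [← hker, Ideal.eq_top_iff_one, RingHom.mem_ker]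
      exact Subsingleton.elim _ _
    have h2 : Ideal.ofList (List.ofFn a) = ⊤ := by
      rw [Ideal.ofList, ← h1]
      congr 1
      ext x
      simp [List.mem_ofFn]
    rw [h2]
    simp
  have hφeq : MvPolynomial.aeval (fun j => φ (X j)) = φ := by
    apply MvPolynomial.algHom_ext
    intro j
    simp
  have hsurj : Function.Surjective (MvPolynomial.aeval (R := k) (fun j : Fin r => φ (X j))) := by
    rw [hφeq]
    exact hφ
  let G : Algebra.Generators k B (Fin r) :=
    Algebra.Generators.ofSurjective (fun j => φ (X j)) hsurj
  have hGker : Ideal.span (Set.range a) = G.ker := by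
    rw [← hker]
    ext f
    have h1 : f ∈ G.ker ↔ MvPolynomial.aeval G.val f = 0 :=
      ⟨fun h => (Algebra.Generators.algebraMap_apply G f).symm.trans (RingHom.mem_ker.mp h),
        fun h => RingHom.mem_ker.mpr ((Algebra.Generators.algebraMap_apply G f).trans h)⟩
    rw [h1, RingHom.mem_ker]
    change φ f = 0 ↔ MvPolynomial.aeval (fun j => φ (X j)) f = 0
    rw [hφeq]
  have hKR : LCI.IsKoszulRegularSeq (MvPolynomial (Fin r) k) (List.ofFn a) :=
    (Groth.Agent.S15821.result _ _ ha.toIsWeaklyRegular).1
  have hLI := Groth.Agent.Helper2.FittLI.jac_linearIndependent G a hGker hKR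
  have hrel := relMod_eq G a hGker
  have hx := Groth.Agent.Helper16.FittImm.span_D_val G
  have hcr : c ≤ r := by
    have := hLI.fintype_card_le_finrank
    simpa using this
  let J : Matrix (Fin c) (Fin r) B :=
    fun i j => MvPolynomial.aeval G.val (MvPolynomial.pderiv j (a i))
  have e1 : Fitt.ideal B (KaehlerDifferential k B) (r - c) =
      Ideal.span {d | ∃ g : Fin c → Fin r, d = (J.submatrix id g).det} :=
    fitt_of_relMod _ hx J hcr hrel
  have e2 : Fitt.ideal B (Abelian.Ext.{u} (ModuleCat.of B (KaehlerDifferential k B))
      (ModuleCat.of B B) 1) 0 =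
      Ideal.span {d | ∃ g : Fin c → Fin r, d = (J.submatrix id g).det} :=
    Groth.Agent.Helper28.FittExt.fitt_ext_one _ hx J hLI hrel
  rw [e1, e2]

end

/-- Let k be an algebraically closed field and let B be a reduced k-algebra presented as k[T_1, …,
T_r]/(a_1, …, a_c) with a_1, …, a_c a regular sequence in the polynomial ring, so that Spec B is a
reduced complete intersection of dimension d = r - c. Then the d-th Fitting ideal of Ω_{B/k} equals
the 0-th Fitting ideal of the B-module T^1 = Ext^1_B(Ω_{B/k}, B). (The source states the equality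
Fitt_d of the formal sheaf of differentials = Fitt_0 of T^1 for a flat morphism 𝔛 → Spf k[[t]] of
locally Noetherian formal schemes that is a local complete intersection of relative dimension d and
has reduced closed fibre, and obtains it on affine charts from a two-term free resolution of the
differentials given by the conormal sequence; stated here is that chart computation on the closed
fibre, for a global complete intersection in affine r-space.) -/
theorem result
    (k : Type u) [Field k] [IsAlgClosed k] (r c : ℕ)
    (B : Type u) [CommRing B] [Algebra k B] [IsReduced B]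
    (φ : MvPolynomial (Fin r) k →ₐ[k] B) (hφ : Function.Surjective φ)
    (a : Fin c → MvPolynomial (Fin r) k)
    (ha : RingTheory.Sequence.IsRegular (MvPolynomial (Fin r) k) (List.ofFn a))
    (hker : RingHom.ker φ.toRingHom = Ideal.span (Set.range a)) :
    Fitt.ideal B (KaehlerDifferential k B) (r - c) =
      Fitt.ideal B (Abelian.Ext.{u} (ModuleCat.of B (KaehlerDifferential k B)) (ModuleCat.of B B) 1) 0 := by
  exact Groth.Agent.S16187.main k r c B φ hφ a ha hker

end Groth.Agent.S16187
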