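import Groth.Statements.S16188
import Mathlib.AlgebraicGeometry.IdealSheaf.Functorial
import Mathlib.RingTheory.Ideal.Quotient.Nilpotent

set_option autoImplicit false
universe u
open CategoryTheory AlgebraicGeometry TopologicalSpace
open SchMor

namespace Groth.Agent.S16188

/-- Let f : X → Y be a morphism of schemes with X reduced and irreducible. Then f factors through an
irreducible component of Y carrying its reduced closed-subscheme structure: there are an irreducible
component Z of Y and a morphism g from X to the closed subscheme of Y cut out by the vanishing ideal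
sheaf of Z with g followed by the inclusion equal to f; that closed subscheme is integral. -/
theorem result
    {X Y : Scheme.{u}} (f : X ⟶ Y) [IsReduced X] [IrreducibleSpace X] :
    ∃ (Z : Closeds Y) (_ : (Z : Set Y) ∈ irreducibleComponents Y)
      (_ : IsIntegral (Scheme.IdealSheafData.vanishingIdeal Z).subscheme)
      (g : X ⟶ (Scheme.IdealSheafData.vanishingIdeal Z).subscheme),
      g ≫ (Scheme.IdealSheafData.vanishingIdeal Z).subschemeι = f := by
  classical
  have hirr : IsIrreducible (closure (Set.range f)) := by
    apply IsIrreducible.closure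
    have := (IrreducibleSpace.isIrreducible_univ X).image f f.continuous.continuousOn
    rwa [Set.image_univ] at this
  obtain ⟨Z₀, hZ₀, hsub⟩ := exists_mem_irreducibleComponents_subset_of_isIrreducible _ hirr
  have hZ₀cl : IsClosed Z₀ := isClosed_of_mem_irreducibleComponents Z₀ hZ₀
  obtain ⟨Z, hZ⟩ : ∃ Z : Closeds Y, (Z : Set Y) = Z₀ := ⟨⟨Z₀, hZ₀cl⟩, rfl⟩
  obtain ⟨I, hI⟩ : ∃ I : Y.IdealSheafData, I = Scheme.IdealSheafData.vanishingIdeal Z := ⟨_, rfl⟩
  have hsupp : (I.support : Set Y) = Z₀ := by
    rw [hI, Scheme.IdealSheafData.coe_support_vanishingIdeal, hZ]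
  -- reduced
  have hred : IsReduced I.subscheme := by
    haveI : ∀ U, IsReduced (I.subschemeCover.openCover.X U) := by
      intro U
      show IsReduced (Spec (.of (Γ(Y, U.1) ⧸ I.ideal U)))
      have : _root_.IsReduced (Γ(Y, U.1) ⧸ I.ideal U) := by
        rw [← Ideal.isRadical_iff_quotient_reduced, hI,
          Scheme.IdealSheafData.vanishingIdeal_ideal]
        exact PrimeSpectrum.isRadical_vanishingIdeal _
      infer_instance
    exact IsReduced.of_openCover _ I.subschemeCover.openCover
  -- irreducible
  have hirrS : IrreducibleSpace I.subscheme := by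
    have e : I.subscheme ≃ₜ Set.range I.subschemeι := I.subschemeι.isEmbedding.toHomeomorph
    rw [e.irreducibleSpace_iff]
    apply Subtype.irreducibleSpace
    rw [Scheme.IdealSheafData.range_subschemeι, hsupp]
    exact hZ₀.1
  have hint : IsIntegral I.subscheme := isIntegral_of_irreducibleSpace_of_isReduced _
  have hle : I ≤ f.ker := by
    have h1 : f.ker = Scheme.IdealSheafData.vanishingIdeal
        (Closeds.closure (f '' ((⊤ : Closeds X) : Set X))) := by
      rw [← Scheme.IdealSheafData.map_vanishingIdeal, Scheme.IdealSheafData.vanishingIdeal_top,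
        Scheme.nilradical_eq_bot, Scheme.IdealSheafData.map_bot]
    rw [h1, hI]
    apply Scheme.IdealSheafData.vanishingIdeal_antimono
    rw [← SetLike.coe_subset_coe, Closeds.coe_closure, hZ, Closeds.coe_top, Set.image_univ]
    exact hsub
  subst hI
  refine ⟨Z, hZ ▸ hZ₀, hint, f.toImage ≫ Scheme.IdealSheafData.inclusion hle, ?_⟩
  rw [Category.assoc, Scheme.IdealSheafData.inclusion_subschemeι]
  exact Scheme.Hom.toImage_imageι f

end Groth.Agent.S16188
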