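import Groth.Statements.S9686
import Groth.Agent.S9687
-- import your own Groth.Agent.* helpers here

set_option autoImplicit false
universe u
open CategoryTheory CategoryTheory.Limits AlgebraicGeometry
open Mor

namespace Groth.Agent.S9686

theorem topDim_eq {X : AlgebraicGeometry.Scheme.{u}} : topologicalKrullDim X = Order.krullDim X := by
  unfold topologicalKrullDim
  exact Order.krullDim_eq_of_orderIso irreducibleSetEquivPoints

theorem stalk_le {X : AlgebraicGeometry.Scheme.{u}} (x : X) :
    ringKrullDim (X.presheaf.stalk x) ≤ topologicalKrullDim X := by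
  rw [AlgebraicGeometry.ringKrullDim_stalk_eq_coheight, topDim_eq]
  exact Order.coheight_le_krullDim x

/-- Let Y be locally Noetherian and f : X ⟶ Y locally of finite type. If E bounds the transcendence
degree of κ(ξ) over κ(f ξ) for every generic point ξ of an irreducible component of X, then dim X ≤
dim Y + E. (The published bound is the supremum of these transcendence degrees; the statement with
any upper bound E is equivalent.) -/
theorem result {X Y : Scheme.{u}} [IsLocallyNoetherian Y]
    (f : X ⟶ Y) [LocallyOfFiniteType f] (E : ℕ)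
    (hE : ∀ ξ : X, closure {ξ} ∈ irreducibleComponents ↥X →
      letI := (f.residueFieldMap ξ).hom.toAlgebra
      Algebra.trdeg (Y.residueField (f.base ξ)) (X.residueField ξ) ≤ E) :
    topologicalKrullDim ↥X ≤ topologicalKrullDim ↥Y + E := by
  rw [topDim_eq (X := X), Order.krullDim_eq_iSup_coheight]
  refine iSup_le fun x => ?_
  rw [← AlgebraicGeometry.ringKrullDim_stalk_eq_coheight]
  obtain ⟨n, hn⟩ := Groth.Agent.Helper14.ResFieldBridge.exists_nat_trdeg_residueField f x
  have key := Groth.Agent.S9687.result f x n E hn (fun ξ hξ _ => hE ξ hξ)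
  have h1 : ringKrullDim (X.presheaf.stalk x) ≤ ringKrullDim (X.presheaf.stalk x) + (n : WithBot ℕ∞) := by
    have : (0 : WithBot ℕ∞) ≤ (n : WithBot ℕ∞) := by exact_mod_cast Nat.zero_le n
    calc ringKrullDim (X.presheaf.stalk x) = ringKrullDim (X.presheaf.stalk x) + 0 := (add_zero _).symm
      _ ≤ _ := by gcongr
  refine h1.trans (key.trans ?_)
  gcongr
  exact stalk_le _

end Groth.Agent.S9686
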