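import Groth.Statements.S1619
import Groth.Agent.Lib.Helper14.FieldSchemeBridge
import Groth.Agent.Lib.Helper14.DimIneqGen
import Groth.Agent.S9686
import Groth.Agent.S2680
-- import your own Groth.Agent.* helpers here

set_option autoImplicit false
universe u
open CategoryTheory CategoryTheory.Limits AlgebraicGeometry
attribute [local instance] Curv2.stalkAlgebra Curv2.resAlgebra
open Variety

namespace Groth.Agent.S1619

/-- Let X be irreducible and locally of finite type over a field k, with generic point ξ. If the residue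
field of ξ has transcendence degree n over k then X has Krull dimension n. -/
theorem result (k : Type u) [Field k] (X : Scheme.{u}) [X.Over (Spec (CommRingCat.of k))] [LocallyOfFiniteType (X ↘ (Spec (CommRingCat.of k)))] [IrreducibleSpace X]
    (n : ℕ) (hn : Algebra.trdeg k (X.residueField (genericPoint X)) = n) : topologicalKrullDim X = n := by
  classical
  have hnz : ∀ z : X, z = genericPoint X → Algebra.trdeg k (X.residueField z) = n := by
    rintro z rfl; exact hn
  -- upper bound
  have hupper : ∀ x : X, ringKrullDim (X.presheaf.stalk x) ≤ (n : WithBot ℕ∞) := by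
    intro x
    obtain ⟨U, hU, hxU, -⟩ :=
      exists_isAffineOpen_mem_and_subset (X := X) (x := x) (U := ⊤) trivial
    letI alg : Algebra k Γ(X, U) := (Groth.Agent.Helper14.FieldSchemeBridge.kU k X U).toAlgebra
    have halg : algebraMap k Γ(X, U) = Groth.Agent.Helper14.FieldSchemeBridge.kU k X U := rfl
    haveI : Algebra.FiniteType k Γ(X, U) :=
      Groth.Agent.Helper14.FieldSchemeBridge.kU_finiteType k X hU
    let q : Ideal Γ(X, U) := (hU.primeIdealOf ⟨x, hxU⟩).asIdeal
    haveI : q.IsPrime := (hU.primeIdealOf ⟨x, hxU⟩).isPrime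
    haveI : q.LiesOver (⊥ : Ideal k) := Groth.Agent.Helper14.FieldSchemeBridge.liesOver_bot k q
    have hE' : ∀ (Q : Ideal Γ(X, U)) [Q.IsPrime], Q ∈ minimalPrimes Γ(X, U) → Q ≤ q →
        Algebra.trdeg (k ⧸ Q.under k) (Γ(X, U) ⧸ Q) ≤ (n : Cardinal.{u}) := by
      intro Q hQp hQmin _
      let y : PrimeSpectrum Γ(X, U) := ⟨Q, hQp⟩
      have hξU : hU.fromSpec y ∈ U := Groth.Agent.Helper14.ResFieldBridge.fromSpec_mem hU y
      have hξy : hU.primeIdealOf ⟨hU.fromSpec y, hξU⟩ = y :=
        Groth.Agent.Helper14.ResFieldBridge.primeIdealOf_fromSpec hU y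
      have hcomp := Groth.Agent.Helper14.ResFieldBridge.closure_mem_irreducibleComponents hU y hQmin
      rw [irreducibleComponents_eq_singleton, Set.mem_singleton_iff] at hcomp
      have hgen : hU.fromSpec y = genericPoint X := by
        have h1 : IsGenericPoint (hU.fromSpec y) (⊤ : Set X) := hcomp
        exact ((genericPoint_spec X).eq h1).symm
      have h2 := hnz _ hgen
      rw [Groth.Agent.Helper14.FieldSchemeBridge.trdeg_resAlgebra_eq' k X hU (hU.fromSpec y) hξU
        halg Q (Q.under k) (by rw [hξy])] at h2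
      exact le_of_eq h2
    have key := Groth.Agent.Helper14.DimIneqGen.height_add_trdeg_le k Γ(X, U) q (⊥ : Ideal k)
      (n : Cardinal.{u}) hE'
    rw [Ideal.height_bot] at key
    have h3 : (q.height : Cardinal.{u}) ≤ ((n : ℕ∞) : Cardinal.{u}) := by
      refine le_self_add.trans (key.trans ?_)
      simp
    have h4 : q.height ≤ (n : ℕ∞) := by exact_mod_cast h3
    rw [Groth.Agent.Helper14.ResFieldBridge.ringKrullDim_stalk hU x hxU]
    exact_mod_cast h4
  -- lower bound
  have hlower : ∃ x : X, (n : WithBot ℕ∞) ≤ ringKrullDim (X.presheaf.stalk x) := by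
    obtain ⟨U, hU, hxU, -⟩ :=
      exists_isAffineOpen_mem_and_subset (X := X) (x := genericPoint X) (U := ⊤) trivial
    letI alg : Algebra k Γ(X, U) := (Groth.Agent.Helper14.FieldSchemeBridge.kU k X U).toAlgebra
    have halg : algebraMap k Γ(X, U) = Groth.Agent.Helper14.FieldSchemeBridge.kU k X U := rfl
    haveI : Algebra.FiniteType k Γ(X, U) :=
      Groth.Agent.Helper14.FieldSchemeBridge.kU_finiteType k X hU
    let Q : Ideal Γ(X, U) := (hU.primeIdealOf ⟨genericPoint X, hxU⟩).asIdeal
    haveI : Q.IsPrime := (hU.primeIdealOf ⟨genericPoint X, hxU⟩).isPrime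
    haveI : Q.LiesOver (⊥ : Ideal k) := Groth.Agent.Helper14.FieldSchemeBridge.liesOver_bot k Q
    have h1 := hn
    rw [Groth.Agent.Helper14.FieldSchemeBridge.trdeg_resAlgebra_eq k X hU (genericPoint X) hxU
      halg Q rfl, Groth.Agent.Helper14.FieldSchemeBridge.trdeg_quotient_base] at h1
    haveI : Algebra.FiniteType k (Γ(X, U) ⧸ Q) := inferInstance
    obtain ⟨mbar, hmbar⟩ := Ideal.exists_maximal (Γ(X, U) ⧸ Q)
    haveI := hmbar
    have h2 := Groth.Agent.S2680.height_maximal k (Γ(X, U) ⧸ Q) mbar
    rw [h1] at h2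
    have h3 : mbar.height = (n : ℕ∞) := by
      have : (mbar.height : Cardinal.{u}) = ((n : ℕ∞) : Cardinal.{u}) := by rw [h2]; simp
      exact_mod_cast this
    let m : Ideal Γ(X, U) := mbar.comap (Ideal.Quotient.mk Q)
    haveI : m.IsPrime := Ideal.comap_isPrime _ _
    have h4 : mbar.height ≤ m.height :=
      Groth.Agent.Helper14.DimIneq.height_le_height_comap (Ideal.Quotient.mk Q)
        Ideal.Quotient.mk_surjective mbar
    let ym : PrimeSpectrum Γ(X, U) := ⟨m, inferInstance⟩
    refine ⟨hU.fromSpec ym, ?_⟩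
    have hwU := Groth.Agent.Helper14.ResFieldBridge.fromSpec_mem hU ym
    rw [Groth.Agent.Helper14.ResFieldBridge.ringKrullDim_stalk hU _ hwU,
      Groth.Agent.Helper14.ResFieldBridge.primeIdealOf_fromSpec hU ym]
    change (n : WithBot ℕ∞) ≤ ((m.height : ℕ∞) : WithBot ℕ∞)
    rw [h3] at h4
    exact_mod_cast h4
  apply le_antisymm
  · rw [Groth.Agent.S9686.topDim_eq (X := X), Order.krullDim_eq_iSup_coheight]
    refine iSup_le fun x => ?_
    rw [← AlgebraicGeometry.ringKrullDim_stalk_eq_coheight]
    exact hupper x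
  · obtain ⟨x, hx⟩ := hlower
    exact hx.trans (Groth.Agent.S9686.stalk_le x)

end Groth.Agent.S1619
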