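import Groth.Statements.S16194
-- import your own Groth.Agent.* helpers here

set_option autoImplicit false
universe u
open DivAlg

namespace Groth.Agent.S16194

/-- In an associative unital ring R, not necessarily commutative, every element r of the Jacobson
radical (the set of elements lying in every maximal left ideal) is quasiregular, i.e. 1 - r is a
two-sided unit. -/
theorem result {R : Type u} [Ring R] (r : R)
    (hr : r ∈ Ring.jacobson R) : IsUnit (1 - r) := by
  have key : ∀ x : R, x ∈ Ring.jacobson R → ∃ s : R, s * (1 - x) = 1 := by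
    intro x hx
    by_contra hcon
    have hne : Ideal.span {1 - x} ≠ (⊤ : Ideal R) := by
      intro htop
      apply hcon
      have h1 : (1 : R) ∈ Ideal.span {1 - x} := by rw [htop]; trivial
      obtain ⟨s, hs⟩ := Ideal.mem_span_singleton'.mp h1
      exact ⟨s, hs⟩
    obtain ⟨m, hm, hle⟩ := Ideal.exists_le_maximal _ hne
    have hxm : x ∈ m := Ring.jacobson_le_of_isMaximal m hx
    have h1x : 1 - x ∈ m := hle (Ideal.subset_span rfl)
    have : (1 : R) ∈ m := by
      have := m.add_mem h1x hxm
      simpa using this
    exact hm.ne_top ((Ideal.eq_top_iff_one m).mpr this)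
  obtain ⟨s, hs⟩ := key r hr
  have hs' : 1 - s = -(s * r) := by
    have : s - s * r = 1 := by rw [← hs, mul_sub, mul_one]
    rw [← this]; abel
  have hsJ : 1 - s ∈ Ring.jacobson R := by
    rw [hs']
    exact (Ring.jacobson R).neg_mem ((Ring.jacobson R).mul_mem_left s hr)
  obtain ⟨t, ht⟩ := key (1 - s) hsJ
  have ht' : t * s = 1 := by simpa using ht
  have hts : t = 1 - r := by
    calc t = t * (s * (1 - r)) := by rw [hs, mul_one]
      _ = (t * s) * (1 - r) := by rw [mul_assoc]
      _ = 1 - r := by rw [ht', one_mul]
  have hrs : (1 - r) * s = 1 := by rw [← hts]; exact ht'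
  exact ⟨⟨1 - r, s, hrs, hs⟩, rfl⟩

end Groth.Agent.S16194
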