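import Groth.Statements.S16195

set_option autoImplicit false
universe u v w
open DivAlg

namespace Groth.Agent.S16195

/-- Let R be a ring (associative, unital, not necessarily commutative) and M, N left R-modules. For an
R-module P write BiEnd_R(P) for the ring of endomorphisms of P that are linear over the ring
End_R(P), which acts on P through evaluation. Then every T in BiEnd_R(M × N) preserves the two
summands and is induced by a pair (T₁, T₂) with T₁ in BiEnd_R(M) and T₂ in BiEnd_R(N). -/
theorem result {R : Type u} [Ring R] (M : Type v) (N : Type w)
    [AddCommGroup M] [Module R M] [AddCommGroup N] [Module R N]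
    (T : Module.End (Module.End R (M × N)) (M × N)) :
    ∃ (T₁ : Module.End (Module.End R M) M) (T₂ : Module.End (Module.End R N) N),
      ∀ (m : M) (n : N), T (m, n) = (T₁ m, T₂ n) := by
  have key1 : ∀ (f : Module.End R M) (m : M),
      T (f m, 0) = (f (T (m, 0)).1, 0) := by
    intro f m
    have := T.map_smul (LinearMap.prodMap f (0 : N →ₗ[R] N)) (m, 0)
    simpa [Module.End.smul_def] using this
  have key2 : ∀ (f : Module.End R N) (n : N),
      T (0, f n) = (0, f (T (0, n)).2) := by
    intro f n
    have := T.map_smul (LinearMap.prodMap (0 : M →ₗ[R] M) f) (0, n)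
    simpa [Module.End.smul_def] using this
  refine ⟨{ toFun := fun m => (T (m, 0)).1
            map_add' := ?_
            map_smul' := ?_ },
          { toFun := fun n => (T (0, n)).2
            map_add' := ?_
            map_smul' := ?_ }, ?_⟩
  · intro m m'
    have : ((m + m', 0) : M × N) = (m, 0) + (m', 0) := by simp
    rw [this, map_add]
    rfl
  · intro f m
    show (T (f m, 0)).1 = f (T (m, 0)).1
    rw [key1]
  · intro n n'
    have : ((0, n + n') : M × N) = (0, n) + (0, n') := by simp
    rw [this, map_add]
    rfl
  · intro f n
    show (T (0, f n)).2 = f (T (0, n)).2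
    rw [key2]
  · intro m n
    have h1 := key1 LinearMap.id m
    have h2 := key2 LinearMap.id n
    simp only [LinearMap.id_coe, id_eq] at h1 h2
    have : ((m, n) : M × N) = (m, 0) + (0, n) := by simp
    rw [this, map_add, h1, h2]
    simp

end Groth.Agent.S16195
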