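import Groth.Statements.S16197

set_option autoImplicit false
universe u v w
open DivAlg

namespace Groth.Agent.S16197

/-- Let R be a ring (associative, unital, not necessarily commutative) and M a left R-module which is a
generator, used here only through the existence of an R-linear surjection from a direct sum of
copies of M, indexed by an arbitrary type, onto R. Then some finite power M^n decomposes as R × Q
for a submodule Q of M^n. (The published statement is an equivalence; this row states only the
implication from the existence of such a surjection to the splitting.) -/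
theorem result {R : Type u} [Ring R] (M : Type v)
    [AddCommGroup M] [Module R M]
    (hgen : ∃ (ι : Type w) (f : (ι →₀ M) →ₗ[R] R), Function.Surjective f) :
    ∃ (n : ℕ) (Q : Submodule R (Fin n → M)), Nonempty ((Fin n → M) ≃ₗ[R] (R × Q)) := by
  classical
  obtain ⟨ι, f, hf⟩ := hgen
  obtain ⟨v, hv⟩ := hf 1
  let s := v.support
  let n := s.card
  let e : Fin n ≃ s := s.equivFin.symm
  let L : (Fin n → M) →ₗ[R] (ι →₀ M) :=
    ∑ k : Fin n, (Finsupp.lsingle (R := R) (M := M) (e k : ι)) ∘ₗ (LinearMap.proj k)
  let g : (Fin n → M) →ₗ[R] R := f ∘ₗ L
  let w₀ : Fin n → M := fun k => v (e k)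
  have hL : L w₀ = v := by
    simp only [L, w₀, LinearMap.sum_apply, LinearMap.comp_apply, LinearMap.proj_apply, Finsupp.lsingle_apply]
    rw [Fintype.sum_equiv e (fun k => Finsupp.single (e k : ι) (v (e k))) (fun x : s => Finsupp.single (x : ι) (v x)) (fun _ => rfl)]
    rw [Finset.sum_coe_sort s (fun x => Finsupp.single x (v x))]
    exact v.sum_single
  have hg : g w₀ = 1 := by
    show f (L w₀) = 1
    rw [hL, hv]
  let σ : R →ₗ[R] (Fin n → M) := LinearMap.toSpanSingleton R _ w₀
  have hgσ : ∀ r, g (σ r) = r := by
    intro r
    simp [σ, hg]
  refine ⟨n, LinearMap.ker g, ⟨?_⟩⟩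
  exact
    { toFun := fun w => (g w, ⟨w - σ (g w), by simp [LinearMap.mem_ker, hgσ]⟩)
      map_add' := by
        intro w w'
        ext <;> simp [add_sub_add_comm]
      map_smul' := by
        intro r w
        ext
        · simp
        · simp [smul_sub, σ, mul_smul]
      invFun := fun q => σ q.1 + q.2
      left_inv := by
        intro w
        simp
      right_inv := by
        rintro ⟨r, q, hq⟩
        have hq' : g q = 0 := hq
        ext <;> simp [hgσ, hq'] }

end Groth.Agent.S16197
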