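import Groth.Statements.S16199
import Mathlib

set_option autoImplicit false
universe u
open DivAlg

namespace Groth.Agent.S16199


open Matrix TensorProduct

section Bwd
variable {R : Type u} [CommRing R] {n : ℕ}
  (φ : Matrix (Fin n) (Fin n) R ≃ₐ[R] Matrix (Fin n) (Fin n) R)

/-- images of matrix units -/
noncomputable def F (i j : Fin n) : Matrix (Fin n) (Fin n) R := φ (Matrix.single i j 1)

lemma F_mul (i j k l : Fin n) : F φ i j * F φ k l = if j = k then F φ i l else 0 := by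
  unfold F
  rw [← map_mul]; split_ifs with h
  · subst h; rw [Matrix.single_mul_single_same, mul_one]
  · rw [Matrix.single_mul_single_of_ne (h := h), map_zero]

lemma F_mul_same (i j l : Fin n) : F φ i j * F φ j l = F φ i l := by
  rw [F_mul, if_pos rfl]

lemma F_sum : ∑ i, F φ i i = 1 := by
  unfold F
  rw [← map_sum, Matrix.sum_single_one, map_one]

lemma corner (i0 : Fin n) (M : Matrix (Fin n) (Fin n) R) :
    F φ i0 i0 * M * F φ i0 i0 = (φ.symm M i0 i0) • F φ i0 i0 := by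
  unfold F
  have : M = φ (φ.symm M) := (φ.apply_symm_apply M).symm
  conv_lhs => rw [this]
  rw [← map_mul, ← map_mul, Matrix.single_mul_mul_single, one_mul, mul_one, ← map_smul,
    Matrix.smul_single, smul_eq_mul, mul_one]

lemma mul_single_col (a : Matrix (Fin n) (Fin n) R) (j i0 : Fin n) :
    a * Matrix.single j i0 (1 : R) = ∑ i, a i j • Matrix.single i i0 (1 : R) := by
  ext p q
  simp only [Matrix.mul_apply, Matrix.single_apply, Matrix.sum_apply, Matrix.smul_apply, smul_eq_mul]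
  by_cases hq : i0 = q
  · subst hq; simp
  · simp [hq]

lemma phi_mul_F (a : Matrix (Fin n) (Fin n) R) (j i0 : Fin n) :
    φ a * F φ j i0 = ∑ i, a i j • F φ i i0 := by
  unfold F
  rw [← map_mul, mul_single_col, map_sum]
  simp only [map_smul]


variable (i0 : Fin n)

/-- `N = f V`, `f = φ(e₀₀)`. -/
noncomputable def NN : Submodule R (Fin n → R) := LinearMap.range (Matrix.mulVecLin (F φ i0 i0))
/-- `N' = V^T f`. -/
noncomputable def NN' : Submodule R (Fin n → R) := LinearMap.range (Matrix.vecMulLinear (F φ i0 i0))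

lemma mem_NN {v : Fin n → R} : v ∈ NN φ i0 ↔ F φ i0 i0 *ᵥ v = v := by
  constructor
  · rintro ⟨w, rfl⟩
    simp only [Matrix.mulVecLin_apply, Matrix.mulVec_mulVec, F_mul_same]
  · intro h; exact ⟨v, h⟩

lemma mem_NN' {w : Fin n → R} : w ∈ NN' φ i0 ↔ w ᵥ* F φ i0 i0 = w := by
  constructor
  · rintro ⟨v, rfl⟩
    simp only [Matrix.vecMulLinear_apply, Matrix.vecMul_vecMul, F_mul_same]
  · intro h; exact ⟨w, h⟩

/-- dot product pairing -/
noncomputable def mu : NN' φ i0 →ₗ[R] NN φ i0 →ₗ[R] R :=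
  LinearMap.mk₂ R (fun w v => (w : Fin n → R) ⬝ᵥ (v : Fin n → R))
    (by intros; simp [add_dotProduct]) (by intros; simp)
    (by intros; simp [dotProduct_add]) (by intros; simp)

lemma mu_apply (w : NN' φ i0) (v : NN φ i0) : mu φ i0 w v = (w : Fin n → R) ⬝ᵥ (v : Fin n → R) := rfl

/-- scalar `c` with `v wᵀ = c f`. -/
lemma exists_scalar (v : NN φ i0) (y : NN' φ i0) :
    ∃ c : R, Matrix.vecMulVec (v : Fin n → R) (y : Fin n → R) = c • F φ i0 i0 := by
  refine ⟨φ.symm (Matrix.vecMulVec (v : Fin n → R) (y : Fin n → R)) i0 i0, ?_⟩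
  rw [← corner, Matrix.mul_vecMulVec, Matrix.vecMulVec_mul, (mem_NN φ i0).1 v.2, (mem_NN' φ i0).1 y.2]

noncomputable def yk (k : Fin n) : NN' φ i0 :=
  ⟨(Pi.single i0 1 ᵥ* F φ k i0) ᵥ* F φ i0 i0, ⟨_, rfl⟩⟩
noncomputable def xk (k : Fin n) : NN φ i0 :=
  ⟨F φ i0 i0 *ᵥ (F φ i0 k *ᵥ Pi.single i0 1), ⟨_, rfl⟩⟩

lemma sum_mu : ∑ k, mu φ i0 (yk φ i0 k) (xk φ i0 k) = 1 := by
  simp only [mu_apply, yk, xk]
  have : ∀ k, ((Pi.single i0 (1:R) ᵥ* F φ k i0) ᵥ* F φ i0 i0) ⬝ᵥ (F φ i0 i0 *ᵥ (F φ i0 k *ᵥ Pi.single i0 1))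
      = F φ k k i0 i0 := by
    intro k
    rw [Matrix.vecMul_vecMul, Matrix.mulVec_mulVec, Matrix.dotProduct_mulVec, Matrix.vecMul_vecMul,
      F_mul_same, F_mul_same, F_mul_same, Matrix.single_one_vecMul, _root_.dotProduct_single_one]
    rfl
  simp only [this]
  have := congrFun (congrFun (F_sum φ) i0) i0
  rw [Matrix.sum_apply] at this
  rw [this, Matrix.one_apply_eq]


noncomputable def ss : NN' φ i0 ⊗[R] NN φ i0 := ∑ k, yk φ i0 k ⊗ₜ[R] xk φ i0 k

lemma lift_ss : TensorProduct.lift (mu φ i0) (ss φ i0) = 1 := by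
  simp only [ss, map_sum, TensorProduct.lift.tmul]
  exact sum_mu φ i0

lemma tmul_eq (w : NN' φ i0) (v : NN φ i0) :
    w ⊗ₜ[R] v = mu φ i0 w v • ss φ i0 := by
  have h1 : w ⊗ₜ[R] v = ∑ k, (mu φ i0 (yk φ i0 k) (xk φ i0 k)) • (w ⊗ₜ[R] v) := by
    rw [← Finset.sum_smul, sum_mu, one_smul]
  rw [h1, ss, Finset.smul_sum]
  refine Finset.sum_congr rfl fun k _ => ?_
  obtain ⟨c, hc⟩ := exists_scalar φ i0 v (yk φ i0 k)
  have e1 : c • xk φ i0 k = mu φ i0 (yk φ i0 k) (xk φ i0 k) • v := by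
    apply Subtype.ext
    have : (c • F φ i0 i0) *ᵥ (xk φ i0 k : Fin n → R) = c • (xk φ i0 k : Fin n → R) := by
      rw [Matrix.smul_mulVec, (mem_NN φ i0).1 (xk φ i0 k).2]
    rw [Submodule.coe_smul, ← this, ← hc, Matrix.vecMulVec_mulVec, op_smul_eq_smul]
    rfl
  have e2 : c • w = mu φ i0 w v • yk φ i0 k := by
    apply Subtype.ext
    have : (w : Fin n → R) ᵥ* (c • F φ i0 i0) = c • (w : Fin n → R) := by
      rw [Matrix.vecMul_smul, (mem_NN' φ i0).1 w.2]
    rw [Submodule.coe_smul, ← this, ← hc, Matrix.vecMul_vecMulVec]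
    rfl
  rw [← TensorProduct.tmul_smul, ← e1, TensorProduct.tmul_smul, TensorProduct.smul_tmul', e2,
    ← TensorProduct.smul_tmul']

lemma eq_lift_smul (t : NN' φ i0 ⊗[R] NN φ i0) :
    t = TensorProduct.lift (mu φ i0) t • ss φ i0 := by
  induction t using TensorProduct.induction_on with
  | zero => simp
  | tmul w v => rw [TensorProduct.lift.tmul]; exact tmul_eq φ i0 w v
  | add a b ha hb => rw [map_add, add_smul, ← ha, ← hb]

lemma lift_bijective : Function.Bijective (TensorProduct.lift (mu φ i0)) := by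
  constructor
  · intro t t' h
    rw [eq_lift_smul φ i0 t, eq_lift_smul φ i0 t', h]
  · intro c
    exact ⟨c • ss φ i0, by rw [map_smul, lift_ss, smul_eq_mul, mul_one]⟩

lemma NN_invertible : Module.Invertible R (NN φ i0) :=
  Module.Invertible.right (LinearEquiv.ofBijective _ (lift_bijective φ i0))


/-- `N^n ≃ V`. -/
noncomputable def psi : (Fin n → NN φ i0) ≃ₗ[R] (Fin n → R) where
  toFun x := ∑ i, F φ i i0 *ᵥ (x i : Fin n → R)
  map_add' x y := by
    simp only [Pi.add_apply, Submodule.coe_add, Matrix.mulVec_add, Finset.sum_add_distrib]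
  map_smul' c x := by
    simp only [Pi.smul_apply, Submodule.coe_smul, Matrix.mulVec_smul, Finset.smul_sum,
      RingHom.id_apply]
  invFun v := fun i => ⟨F φ i0 i *ᵥ v, (mem_NN φ i0).2 (by rw [Matrix.mulVec_mulVec, F_mul_same])⟩
  left_inv x := by
    funext j
    apply Subtype.ext
    simp only [Matrix.mulVec_sum, Matrix.mulVec_mulVec, F_mul]
    rw [Finset.sum_eq_single j]
    · rw [if_pos rfl, (mem_NN φ i0).1 (x j).2]
    · intro b _ hb
      rw [if_neg (Ne.symm hb), Matrix.zero_mulVec]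
    · intro h; exact absurd (Finset.mem_univ j) h
  right_inv v := by
    simp only [Matrix.mulVec_mulVec, F_mul_same]
    rw [← Matrix.sum_mulVec, F_sum, Matrix.one_mulVec]

lemma psi_apply (x : Fin n → NN φ i0) : psi φ i0 x = ∑ i, F φ i i0 *ᵥ (x i : Fin n → R) := rfl

theorem bwd_main (g : R ≃ₗ[R] NN φ i0) :
    ∃ P : GL (Fin n) R, ∀ A : Matrix (Fin n) (Fin n) R, φ A = P.1 * A * (P⁻¹).1 := by
  let e : (Fin n → R) ≃ₗ[R] (Fin n → R) := (LinearEquiv.piCongrRight fun _ => g) ≪≫ₗ psi φ i0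
  let P : Matrix (Fin n) (Fin n) R := LinearMap.toMatrix' e.toLinearMap
  let Q : Matrix (Fin n) (Fin n) R := LinearMap.toMatrix' e.symm.toLinearMap
  have hPQ : P * Q = 1 := by
    rw [← LinearMap.toMatrix'_comp]; simp
  have hQP : Q * P = 1 := by
    rw [← LinearMap.toMatrix'_comp]; simp
  have hint : ∀ a : Matrix (Fin n) (Fin n) R, φ a * P = P * a := by
    intro a
    have h1 : φ a = LinearMap.toMatrix' (Matrix.toLin' (φ a)) := (LinearMap.toMatrix'_toLin' _).symm
    have h2 : a = LinearMap.toMatrix' (Matrix.toLin' a) := (LinearMap.toMatrix'_toLin' _).symm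
    rw [h1]
    conv_rhs => rw [h2]
    rw [← LinearMap.toMatrix'_comp, ← LinearMap.toMatrix'_comp]
    congr 1
    refine (Pi.basisFun R (Fin n)).ext fun j => ?_
    have he : ∀ c : Fin n → R, e c = ∑ i, F φ i i0 *ᵥ ((g (c i) : NN φ i0) : Fin n → R) := by
      intro c; rfl
    simp only [LinearMap.comp_apply, LinearEquiv.coe_coe, Matrix.toLin'_apply, he,
      Pi.basisFun_apply]
    rw [Matrix.mulVec_sum]
    have hg : ∀ c : R, ((g c : NN φ i0) : Fin n → R) = c • ((g 1 : NN φ i0) : Fin n → R) := by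
      intro c
      rw [← Submodule.coe_smul, ← map_smul, smul_eq_mul, mul_one]
    rw [Finset.sum_eq_single j]
    · rw [Pi.single_eq_same, Matrix.mulVec_mulVec, phi_mul_F, Matrix.sum_mulVec]
      refine Finset.sum_congr rfl fun i _ => ?_
      rw [Matrix.mulVec_single_one, Matrix.col_apply, hg (a i j), Matrix.mulVec_smul,
        Matrix.smul_mulVec]
    · intro b _ hb
      rw [Pi.single_eq_of_ne hb, map_zero, Submodule.coe_zero, Matrix.mulVec_zero,
        Matrix.mulVec_zero]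
    · intro h; exact absurd (Finset.mem_univ j) h
  exact ⟨⟨P, Q, hPQ, hQP⟩, fun A => by
    show φ A = P * A * Q
    rw [← hint, Matrix.mul_assoc, hPQ, Matrix.mul_one]⟩


theorem bwd (hn : 1 ≤ n)
    (H : ∀ (N : Type u) [AddCommGroup N] [Module R N] [Module.Invertible R N],
        Nonempty ((Fin n → N) ≃ₗ[R] (Fin n → R)) → Module.Free R N) :
    ∃ P : GL (Fin n) R, ∀ A : Matrix (Fin n) (Fin n) R, φ A = P.1 * A * (P⁻¹).1 := by
  let i0 : Fin n := ⟨0, hn⟩
  have := NN_invertible φ i0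
  have : Module.Free R (NN φ i0) := H _ ⟨psi φ i0⟩
  obtain ⟨g⟩ := (Module.Invertible.free_iff_linearEquiv (R := R) (M := NN φ i0)).mp inferInstance
  exact bwd_main φ i0 g.symm

end Bwd

section Fwd
variable {R : Type u} [CommRing R] {n : ℕ}
  (N : Type u) [AddCommGroup N] [Module R N] [Module.Invertible R N]

/-- `M_n(R) ≃ End_R(N^n)`. -/
lemma lsmul_bijective :
    Function.Bijective (Algebra.lsmul R R N : R →ₐ[R] Module.End R N) := by
  have : ⇑(Algebra.lsmul R R N : R →ₐ[R] Module.End R N) =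
      ⇑(Module.toModuleEnd R (S := R) N) := by
    ext r x; rfl
  rw [this]
  exact Module.Invertible.toModuleEnd_bijective R N

noncomputable def Phi : Matrix (Fin n) (Fin n) R ≃ₐ[R] Module.End R (Fin n → N) :=
  ((AlgEquiv.ofBijective (Algebra.lsmul R R N : R →ₐ[R] Module.End R N)
      (lsmul_bijective N)).mapMatrix).trans
    (endVecAlgEquivMatrixEnd (Fin n) R R N).symm

lemma Phi_apply (a : Matrix (Fin n) (Fin n) R) (x : Fin n → N) (i : Fin n) :
    Phi N a x i = ∑ j, a i j • x j := by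
  simp [Phi]


theorem fwd (hn : 1 ≤ n)
    (H : ∀ φ : Matrix (Fin n) (Fin n) R ≃ₐ[R] Matrix (Fin n) (Fin n) R,
        ∃ P : GL (Fin n) R, ∀ A : Matrix (Fin n) (Fin n) R, φ A = P.1 * A * (P⁻¹).1)
    (ψ : (Fin n → N) ≃ₗ[R] (Fin n → R)) : Module.Free R N := by
  let i0 : Fin n := ⟨0, hn⟩
  let φ : Matrix (Fin n) (Fin n) R ≃ₐ[R] Matrix (Fin n) (Fin n) R :=
    ((Phi N).trans (ψ.conjAlgEquiv R)).trans (Matrix.toLinAlgEquiv' (R := R) (n := Fin n)).symm
  obtain ⟨P, hP⟩ := H φ
  have hPP : (P⁻¹).1 * P.1 = 1 := by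
    rw [← Units.val_mul, inv_mul_cancel, Units.val_one]
  have hPP' : P.1 * (P⁻¹).1 = 1 := by
    rw [← Units.val_mul, mul_inv_cancel, Units.val_one]
  have h3 : ∀ a x, φ a *ᵥ ψ x = ψ (Phi N a x) := by
    intro a x
    have h1 : Matrix.toLin' (φ a) = ψ.toLinearMap ∘ₗ Phi N a ∘ₗ ψ.symm.toLinearMap := by
      show Matrix.toLinAlgEquiv' (Matrix.toLinAlgEquiv'.symm _) = _
      rw [AlgEquiv.apply_symm_apply]
      rfl
    have := congrArg (fun f => f (ψ x)) h1
    simpa using this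
  have key : ∀ a x, (P⁻¹).1 *ᵥ ψ (Phi N a x) = a *ᵥ ((P⁻¹).1 *ᵥ ψ x) := by
    intro a x
    rw [← h3, hP a, Matrix.mulVec_mulVec, Matrix.mulVec_mulVec, ← Matrix.mul_assoc,
      ← Matrix.mul_assoc, hPP, Matrix.one_mul]
  have hE : ∀ x : Fin n → N, Phi N (Matrix.single i0 i0 (1:R)) x = Pi.single i0 (x i0) := by
    intro x; funext i
    rw [Phi_apply]
    by_cases hi : i = i0
    · rw [hi, Pi.single_eq_same, Finset.sum_eq_single i0]
      · simp
      · intro b _ hb; simp [hb.symm]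
      · intro h; exact absurd (Finset.mem_univ i0) h
    · rw [Pi.single_eq_of_ne hi]
      refine Finset.sum_eq_zero fun j _ => ?_
      simp [Ne.symm hi]
  have hE' : ∀ z : Fin n → R, Matrix.single i0 i0 (1:R) *ᵥ z = Pi.single i0 (z i0) := by
    intro z
    rw [Matrix.single_mulVec]
    simp only [one_mul]
    rfl
  let g : N →ₗ[R] R :=
    { toFun := fun y => ((P⁻¹).1 *ᵥ ψ (Pi.single i0 y)) i0
      map_add' := fun y y' => by simp [Pi.single_add, Matrix.mulVec_add]
      map_smul' := fun c y => by simp [Pi.single_smul, Matrix.mulVec_smul] }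
  have hsurj : Function.Surjective g := by
    intro c
    refine ⟨(ψ.symm (P.1 *ᵥ Pi.single i0 c)) i0, ?_⟩
    show ((P⁻¹).1 *ᵥ ψ (Pi.single i0 ((ψ.symm (P.1 *ᵥ Pi.single i0 c)) i0))) i0 = c
    have hcancel : ∀ v : Fin n → R, (P⁻¹).1 *ᵥ (P.1 *ᵥ v) = v := by
      intro v; rw [Matrix.mulVec_mulVec, hPP, Matrix.one_mulVec]
    rw [← hE, key, ψ.apply_symm_apply, hcancel, hE']
    simp
  have hbij : Function.Bijective g := Module.Invertible.bijective_of_surjective hsurj
  exact Module.Free.of_equiv (LinearEquiv.ofBijective g hbij).symm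

end Fwd

theorem main {R : Type u} [CommRing R] (n : ℕ)
    (hn : 1 ≤ n) :
    (∀ φ : Matrix (Fin n) (Fin n) R ≃ₐ[R] Matrix (Fin n) (Fin n) R,
        ∃ P : GL (Fin n) R, ∀ A : Matrix (Fin n) (Fin n) R, φ A = P.1 * A * (P⁻¹).1) ↔
      (∀ (N : Type u) [AddCommGroup N] [Module R N] [Module.Invertible R N],
        Nonempty ((Fin n → N) ≃ₗ[R] (Fin n → R)) → Module.Free R N) := by
  constructor
  · intro H N _ _ _ ⟨ψ⟩
    exact fwd N hn H ψ
  · intro H φ
    exact bwd φ hn H

/-- Let R be a commutative ring and n ≥ 1. The natural map from GL_n(R) to the R-algebra automorphisms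
of M_n(R) is surjective (every automorphism is inner) if and only if Pic_(n)(R) = 0, i.e. every
invertible R-module N with N^n ≅ R^n is free. (For n = 0 the left side holds trivially while the
right side fails whenever Pic(R) ≠ 0, so this row assumes n ≥ 1, which the published statement
leaves implicit; invertible modules are quantified in the universe of R, which loses nothing since
every invertible module is finitely generated.) -/
theorem result {R : Type u} [CommRing R] (n : ℕ)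
    (hn : 1 ≤ n) :
    (∀ φ : Matrix (Fin n) (Fin n) R ≃ₐ[R] Matrix (Fin n) (Fin n) R,
        ∃ P : GL (Fin n) R, ∀ A : Matrix (Fin n) (Fin n) R, φ A = P.1 * A * (P⁻¹).1) ↔
      (∀ (N : Type u) [AddCommGroup N] [Module R N] [Module.Invertible R N],
        Nonempty ((Fin n → N) ≃ₗ[R] (Fin n → R)) → Module.Free R N) := by
  exact main n hn

end Groth.Agent.S16199
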