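import Groth.Statements.S1620
import Groth.Agent.Lib.Helper14.FieldSchemeBridge
import Groth.Agent.Lib.Helper14.GenFibFormula
import Groth.Agent.Lib.Helper14.CatenaryRing
-- import your own Groth.Agent.* helpers here

set_option autoImplicit false
universe u
open CategoryTheory CategoryTheory.Limits AlgebraicGeometry
attribute [local instance] Curv2.stalkAlgebra Curv2.resAlgebra
open Variety

namespace Groth.Agent.S1620

/-- Let X be locally of finite type over a field k and x ⤳ x' an immediate specialisation (x ≠ x' and no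
point strictly in between). If the residue field of x' has transcendence degree n over k then the
residue field of x has transcendence degree n + 1. -/
theorem result (k : Type u) [Field k] (X : Scheme.{u}) [X.Over (Spec (CommRingCat.of k))] [LocallyOfFiniteType (X ↘ (Spec (CommRingCat.of k)))] (x x' : X) (hne : x ≠ x') (hsp : x ⤳ x')
    (himm : ∀ y : X, x ⤳ y → y ⤳ x' → y = x ∨ y = x')
    (n : ℕ) (hn : Algebra.trdeg k (X.residueField x') = n) : Algebra.trdeg k (X.residueField x) = n + 1 := by
  classical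
  obtain ⟨U, hU, hx'U, -⟩ :=
    exists_isAffineOpen_mem_and_subset (X := X) (x := x') (U := ⊤) trivial
  have hxU : x ∈ U := hsp.mem_open U.isOpen hx'U
  letI alg : Algebra k Γ(X, U) := (Groth.Agent.Helper14.FieldSchemeBridge.kU k X U).toAlgebra
  have halg : algebraMap k Γ(X, U) = Groth.Agent.Helper14.FieldSchemeBridge.kU k X U := rfl
  haveI : Algebra.FiniteType k Γ(X, U) :=
    Groth.Agent.Helper14.FieldSchemeBridge.kU_finiteType k X hU
  let q : Ideal Γ(X, U) := (hU.primeIdealOf ⟨x, hxU⟩).asIdeal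
  let q' : Ideal Γ(X, U) := (hU.primeIdealOf ⟨x', hx'U⟩).asIdeal
  haveI : q.IsPrime := (hU.primeIdealOf ⟨x, hxU⟩).isPrime
  haveI : q'.IsPrime := (hU.primeIdealOf ⟨x', hx'U⟩).isPrime
  haveI : q.LiesOver (⊥ : Ideal k) := Groth.Agent.Helper14.FieldSchemeBridge.liesOver_bot k q
  haveI : q'.LiesOver (⊥ : Ideal k) := Groth.Agent.Helper14.FieldSchemeBridge.liesOver_bot k q'
  have hle : hU.primeIdealOf ⟨x, hxU⟩ ≤ hU.primeIdealOf ⟨x', hx'U⟩ := by
    rw [← Groth.Agent.Helper14.ResFieldBridge.specializes_fromSpec_iff hU,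
      hU.fromSpec_primeIdealOf ⟨x, hxU⟩, hU.fromSpec_primeIdealOf ⟨x', hx'U⟩]
    exact hsp
  have hneq : hU.primeIdealOf ⟨x, hxU⟩ ≠ hU.primeIdealOf ⟨x', hx'U⟩ := by
    intro h1
    apply hne
    have h2 := hU.fromSpec_primeIdealOf ⟨x, hxU⟩
    rw [h1, hU.fromSpec_primeIdealOf ⟨x', hx'U⟩] at h2
    exact h2.symm
  have hcov : hU.primeIdealOf ⟨x, hxU⟩ ⋖ hU.primeIdealOf ⟨x', hx'U⟩ := by
    refine ⟨lt_of_le_of_ne hle hneq, fun r h1 h2 => ?_⟩
    have s1 : x ⤳ hU.fromSpec r := by
      have e1 := hU.fromSpec_primeIdealOf ⟨x, hxU⟩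
      have := (Groth.Agent.Helper14.ResFieldBridge.specializes_fromSpec_iff hU _ r).mpr h1.le
      rwa [e1] at this
    have s2 : hU.fromSpec r ⤳ x' := by
      have e1 := hU.fromSpec_primeIdealOf ⟨x', hx'U⟩
      have := (Groth.Agent.Helper14.ResFieldBridge.specializes_fromSpec_iff hU r _).mpr h2.le
      rwa [e1] at this
    rcases himm _ s1 s2 with h3 | h3
    · have h4 := Groth.Agent.Helper14.ResFieldBridge.primeIdealOf_fromSpec hU r
      have h5 : hU.primeIdealOf ⟨x, hxU⟩ = r := by
        rw [← h4]; congr 1; exact Subtype.ext h3.symm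
      exact h1.ne h5
    · have h4 := Groth.Agent.Helper14.ResFieldBridge.primeIdealOf_fromSpec hU r
      have h5 : hU.primeIdealOf ⟨x', hx'U⟩ = r := by
        rw [← h4]; congr 1; exact Subtype.ext h3.symm
      exact h2.ne h5.symm
  obtain ⟨hQp, hQlo, hcomap, htr⟩ :=
    Groth.Agent.Helper14.GenFibFormula.quotient_setup k Γ(X, U) (⊥ : Ideal k) q q' hle
  haveI := hQp
  haveI := hQlo
  haveI : Algebra.FiniteType k (Γ(X, U) ⧸ q) := inferInstance
  haveI : Algebra.FiniteType (k ⧸ (⊥ : Ideal k)) (Γ(X, U) ⧸ q) :=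
    Algebra.FiniteType.of_restrictScalars_finiteType k _ _
  have key := Groth.Agent.Helper14.GenFibFormula.height_add_trdeg_eq (k ⧸ (⊥ : Ideal k))
    (Γ(X, U) ⧸ q) (q'.map (Ideal.Quotient.mk q))
  rw [← htr] at key
  -- the height of `q'/q` is one
  have hφ : Function.Surjective (Ideal.Quotient.mk q) := Ideal.Quotient.mk_surjective
  have hQne : q'.map (Ideal.Quotient.mk q) ≠ ⊥ := by
    intro h
    rw [h, ← RingHom.ker_eq_comap_bot, Ideal.mk_ker] at hcomap
    exact hneq (PrimeSpectrum.ext hcomap)
  have hht : (q'.map (Ideal.Quotient.mk q)).height = 1 := by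
    refine le_antisymm ?_ ?_
    · have h1 : (q'.map (Ideal.Quotient.mk q)).height ≤ ((1 : ℕ) : ℕ∞) := by
        rw [Ideal.height_le_iff]
        intro r hr hrQ
        have hr0 : r = ⊥ := by
          by_contra hr0
          have hqr : q < r.comap (Ideal.Quotient.mk q) := by
            refine lt_of_le_of_ne ?_ ?_
            · intro z hz
              rw [Ideal.mem_comap, Ideal.Quotient.eq_zero_iff_mem.mpr hz]
              exact zero_mem _
            · intro h
              apply hr0
              rw [eq_bot_iff]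
              intro z hz
              obtain ⟨z, rfl⟩ := hφ z
              rw [Ideal.mem_bot, Ideal.Quotient.eq_zero_iff_mem, h]
              exact hz
          have hrq' : r.comap (Ideal.Quotient.mk q) < q' := by
            rw [← hcomap]
            exact lt_of_le_of_ne (Ideal.comap_mono hrQ.le) (fun h =>
              hrQ.ne (Ideal.comap_injective_of_surjective _ hφ h))
          exact hcov.2 (c := ⟨r.comap (Ideal.Quotient.mk q), inferInstance⟩) hqr hrq'
        rw [hr0, Ideal.height_bot]
        exact_mod_cast zero_lt_one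
      exact_mod_cast h1
    · rw [Order.one_le_iff_ne_zero, Ne, Ideal.height_eq_zero_iff_eq_bot]
      exact hQne
  rw [hht] at key
  rw [Groth.Agent.Helper14.FieldSchemeBridge.trdeg_resAlgebra_eq k X hU x' hx'U halg q' rfl] at hn
  rw [Groth.Agent.Helper14.FieldSchemeBridge.trdeg_resAlgebra_eq k X hU x hxU halg q rfl, ← key, hn]
  simp [add_comm]

end Groth.Agent.S1620
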