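import Groth.Statements.S16200
import Mathlib

set_option autoImplicit false
universe u v
open DivAlg

namespace Groth.Agent.S16200


open CommRing Pic TensorProduct

section Coprime
variable {R : Type u} [CommRing R]

/-- comaximal ideals: `I × J ≃ (I ⊓ J) × R`. -/
noncomputable def coprimeEquiv (I J : Ideal R) (a₀ b₀ : R) (ha : a₀ ∈ I) (hb : b₀ ∈ J)
    (h : a₀ + b₀ = 1) : (I × J) ≃ₗ[R] (↥(I ⊓ J) × R) where
  toFun p := (⟨p.1.1 * b₀ - p.2.1 * a₀,
    ⟨I.sub_mem (I.mul_mem_right _ p.1.2) (I.mul_mem_left _ ha),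
     J.sub_mem (J.mul_mem_left _ hb) (J.mul_mem_right _ p.2.2)⟩⟩, p.1.1 + p.2.1)
  invFun q := (⟨q.1.1 + q.2 * a₀, I.add_mem q.1.2.1 (I.mul_mem_left _ ha)⟩,
    ⟨-q.1.1 + q.2 * b₀, J.add_mem (J.neg_mem q.1.2.2) (J.mul_mem_left _ hb)⟩)
  map_add' p q := by
    ext
    · simp; ring
    · simp; ring
  map_smul' c p := by
    ext
    · simp; ring
    · simp; ring
  left_inv p := by
    obtain ⟨⟨a, ha'⟩, ⟨b, hb'⟩⟩ := p
    ext
    · simp only
      linear_combination (a) * h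
    · simp only
      linear_combination (b) * h
  right_inv q := by
    obtain ⟨⟨c, hc⟩, r⟩ := q
    ext
    · simp only
      linear_combination (c) * h
    · simp only
      linear_combination (r) * h

end Coprime

section Ded
variable {R : Type u} [CommRing R] [IsDedekindDomain R]

/-- Steinitz statement. -/
def St (a b : Pic R) : Prop := Nonempty ((a × b) ≃ₗ[R] (R × (a * b : Pic R)))

omit [IsDedekindDomain R] in
lemma one_equiv : Nonempty ((1 : Pic R) ≃ₗ[R] R) := mk_eq_one_iff.mp mk_eq_self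

lemma St_one (b : Pic R) : St 1 b := by
  obtain ⟨e⟩ := one_equiv (R := R)
  obtain ⟨f⟩ := ext_iff.mp (one_mul b)
  exact ⟨e.prodCongr f.symm⟩

lemma ideal_ne_bot (I : Ideal R) [Module.Invertible R I] : I ≠ ⊥ := by
  rintro rfl
  have : (1 : R) = 0 := by
    apply (FaithfulSMul.eq_of_smul_eq_smul (M := R) (α := (⊥ : Ideal R)))
    intro x
    exact Subsingleton.elim _ _
  exact one_ne_zero this

theorem St_all (a b : Pic R) : St a b := by
  obtain ⟨I, ⟨eI⟩⟩ := Module.Invertible.exists_linearEquiv_ideal R a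
  obtain ⟨J, ⟨eJ⟩⟩ := Module.Invertible.exists_linearEquiv_ideal R (b⁻¹ : Pic R)
  have invI : Module.Invertible R I := .congr eI
  have invJ : Module.Invertible R J := .congr eJ
  have hI0 : I ≠ ⊥ := ideal_ne_bot I
  have hJ0 : J ≠ ⊥ := ideal_ne_bot J
  obtain ⟨c, hc⟩ := IsDedekindDomain.exists_sup_span_eq (I := I * J) (J := J) Ideal.mul_le_right
    (mul_ne_zero hI0 hJ0)
  have hcJ : Ideal.span {c} ≤ J := by rw [← hc]; exact le_sup_right
  obtain ⟨K', hK'⟩ := Ideal.dvd_iff_le.mpr hcJ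
  have hsup : I ⊔ K' = ⊤ := by
    have : J * (I ⊔ K') = J * ⊤ := by
      rw [Ideal.mul_sup, ← hK', mul_comm J I, hc, Ideal.mul_top]
    exact mul_left_cancel₀ hJ0 this
  have hIa : Pic.mk R I = a := mk_eq_iff.mpr ⟨eI.symm⟩
  by_cases hc0 : c = 0
  · have hK0 : K' = ⊥ := by
      rw [hc0, Ideal.span_singleton_zero] at hK'
      rcases mul_eq_zero.mp hK'.symm with h | h
      · exact absurd h hJ0
      · exact h
    rw [hK0, sup_bot_eq] at hsup
    have : a = 1 := by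
      rw [← hIa, mk_eq_one_iff]
      exact ⟨LinearEquiv.ofEq _ _ hsup ≪≫ₗ Submodule.topEquiv⟩
    rw [this]
    exact St_one b
  · have e1 : J ⊗[R] K' ≃ₗ[R] ↥(J * K') :=
      (Submodule.LinearDisjoint.of_right_le_one_of_flat (M := J) (N := K')
        (le_top.trans Ideal.one_eq_top.ge)).mulMap
    have e2 : ↥(J * K') ≃ₗ[R] R :=
      LinearEquiv.ofEq _ _ hK'.symm ≪≫ₗ (LinearEquiv.toSpanNonzeroSingleton R R c hc0).symm
    have invK : Module.Invertible R K' := .right (e1 ≪≫ₗ e2)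
    have hKb : Pic.mk R K' = b := by
      have h1 : Pic.mk R J * Pic.mk R K' = 1 := by
        rw [← mk_tensor, mk_eq_one_iff]; exact ⟨e1 ≪≫ₗ e2⟩
      have h2 : Pic.mk R J = b⁻¹ := mk_eq_iff.mpr ⟨eJ.symm⟩
      rw [h2] at h1
      exact (inv_mul_eq_one.mp h1).symm
    have e3 : I ⊗[R] K' ≃ₗ[R] ↥(I * K') :=
      (Submodule.LinearDisjoint.of_right_le_one_of_flat (M := I) (N := K')
        (le_top.trans Ideal.one_eq_top.ge)).mulMap
    have hinf : I ⊓ K' = I * K' :=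
      (Ideal.mul_eq_inf_of_isCoprime (Ideal.isCoprime_iff_sup_eq.mpr hsup)).symm
    have hab : Pic.mk R (I ⊗[R] K') = a * b := by rw [mk_tensor, hIa, hKb]
    obtain ⟨a₀, ha₀, b₀, hb₀, hab₀⟩ := Submodule.mem_sup.mp ((Ideal.eq_top_iff_one _).mp hsup)
    exact ⟨(eI.prodCongr (mk_eq_iff.mp hKb).some.symm) ≪≫ₗ coprimeEquiv I K' a₀ b₀ ha₀ hb₀ hab₀ ≪≫ₗ
      (LinearEquiv.prodComm R _ _) ≪≫ₗ ((LinearEquiv.refl R R).prodCongr
        (LinearEquiv.ofEq _ _ hinf ≪≫ₗ e3.symm ≪≫ₗ (mk_eq_iff.mp hab).some))⟩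


theorem pow_equiv (a : Pic R) :
    ∀ k : ℕ, Nonempty ((Fin (k+1) → a) ≃ₗ[R] ((Fin k → R) × (a^(k+1) : Pic R)))
  | 0 => by
    obtain ⟨f⟩ := ext_iff.mp (pow_one a)
    exact ⟨LinearEquiv.funUnique (Fin 1) R a ≪≫ₗ f.symm ≪≫ₗ
      (LinearEquiv.uniqueProd (R := R) (M := (a^(0+1) : Pic R)) (M₂ := Fin 0 → R)).symm⟩
  | k+1 => by
    obtain ⟨ih⟩ := pow_equiv a k
    obtain ⟨st⟩ := St_all a (a^(k+1))
    obtain ⟨f⟩ := ext_iff.mp (pow_succ' a (k+1))
    refine ⟨(Fin.consLinearEquiv R (fun _ : Fin (k+1+1) => (a : Type u))).symm ≪≫ₗ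
      ((LinearEquiv.refl R a).prodCongr ih) ≪≫ₗ
      (LinearEquiv.prodAssoc R a (Fin k → R) (a^(k+1) : Pic R)).symm ≪≫ₗ
      ((LinearEquiv.prodComm R a (Fin k → R)).prodCongr (LinearEquiv.refl R _)) ≪≫ₗ
      (LinearEquiv.prodAssoc R (Fin k → R) a (a^(k+1) : Pic R)) ≪≫ₗ
      ((LinearEquiv.refl R (Fin k → R)).prodCongr (st ≪≫ₗ
        (LinearEquiv.refl R R).prodCongr f.symm)) ≪≫ₗ
      (LinearEquiv.prodAssoc R (Fin k → R) R (a^(k+1+1) : Pic R)).symm ≪≫ₗ
      (((LinearEquiv.prodComm R (Fin k → R) R) ≪≫ₗ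
        Fin.consLinearEquiv R (fun _ : Fin (k+1) => R)).prodCongr (LinearEquiv.refl R _))⟩

end Ded

theorem main {R : Type u} [CommRing R]
    [IsDedekindDomain R] (N : Type v) [AddCommGroup N] [Module R N] [Module.Invertible R N]
    (n : ℕ) (h : CommRing.Pic.mk R N ^ n = 1) :
    Nonempty ((Fin n → N) ≃ₗ[R] (Fin n → R)) := by
  cases n with
  | zero => exact ⟨LinearEquiv.ofSubsingleton _ _⟩
  | succ k =>
    obtain ⟨e⟩ := pow_equiv (Pic.mk R N) k
    obtain ⟨f⟩ := ext_iff.mp h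
    obtain ⟨g⟩ := one_equiv (R := R)
    exact ⟨(LinearEquiv.piCongrRight fun _ => (mk.linearEquiv R N).symm) ≪≫ₗ e ≪≫ₗ
      ((LinearEquiv.refl R (Fin k → R)).prodCongr (f ≪≫ₗ g)) ≪≫ₗ
      (LinearEquiv.prodComm R (Fin k → R) R) ≪≫ₗ
        Fin.consLinearEquiv R (fun _ : Fin (k+1) => R)⟩

/-- Let R be a Dedekind domain, N an invertible R-module and n a natural number with [N]^n = 1 in
Pic(R). Then the direct sum N^n is isomorphic to R^n; thus over a Dedekind domain the invertible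
modules N with N^n ≅ R^n are exactly the n-torsion classes of Pic(R), the other inclusion holding
over any commutative ring. -/
theorem result {R : Type u} [CommRing R]
    [IsDedekindDomain R] (N : Type v) [AddCommGroup N] [Module R N] [Module.Invertible R N]
    (n : ℕ) (h : CommRing.Pic.mk R N ^ n = 1) :
    Nonempty ((Fin n → N) ≃ₗ[R] (Fin n → R)) := by
  exact main N n h

end Groth.Agent.S16200
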