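import Groth.Statements.S16201
import Groth.Agent.Lib.Helper18.MaxPtImage

set_option autoImplicit false
open CategoryTheory AlgebraicGeometry
open Variety

namespace Groth.Agent.S16201

/-- Let f : Y → Z be a morphism of schemes of finite type over ℂ, with Z irreducible. Suppose that the
general fibre of f is irreducible, in the sense that there is a nonempty open subset V of Z such
that the fibre of f over every closed point of V is an irreducible topological space, and that each
irreducible component of Y has dense image in Z. Then Y is irreducible. (The published statement is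
for a morphism of projective varieties; only finiteness of type over the field is used, and the row
is stated in that generality.) -/
theorem result
    (Y Z : Scheme.{0}) (g : Z ⟶ Spec (CommRingCat.of ℂ)) (f : Y ⟶ Z)
    [LocallyOfFiniteType g] [QuasiCompact g] [LocallyOfFiniteType f] [QuasiCompact f]
    [IrreducibleSpace Z]
    (hgen : ∃ V : Z.Opens, (V : Set Z).Nonempty ∧
      ∀ z ∈ V, IsClosed ({z} : Set Z) → IsIrreducible (f.base ⁻¹' {z}))
    (hdom : ∀ W ∈ irreducibleComponents Y, Dense (f.base '' W)) :
    IrreducibleSpace Y := by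
  classical
  haveI : IsLocallyNoetherian Z := LocallyOfFiniteType.isLocallyNoetherian g
  haveI : CompactSpace Z := QuasiCompact.compactSpace_of_compactSpace g
  haveI : IsNoetherian Z := ⟨⟩
  haveI : IsLocallyNoetherian Y := LocallyOfFiniteType.isLocallyNoetherian f
  haveI : CompactSpace Y := QuasiCompact.compactSpace_of_compactSpace f
  haveI : IsNoetherian Y := ⟨⟩
  haveI : JacobsonSpace Z := LocallyOfFiniteType.jacobsonSpace g
  haveI : TopologicalSpace.NoetherianSpace Y := inferInstance
  haveI : TopologicalSpace.NoetherianSpace Z := inferInstance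
  obtain ⟨V, hVne, hV⟩ := hgen
  set C : Set Z := (V : Set Z) ∩ closedPoints Z with hC
  have hCd : Dense C := by
    have h1 : closure C = closure (V : Set Z) :=
      JacobsonSpace.closure_inter_closedPoints_eq_closure V.isOpen.isLocallyClosed
    have h2 : Dense (V : Set Z) := V.isOpen.dense hVne
    intro z
    rw [h1]
    exact h2 z
  have hfin : (irreducibleComponents Y).Finite := TopologicalSpace.NoetherianSpace.finite_irreducibleComponents
  have hfib : ∀ z ∈ C, ∃ W ∈ irreducibleComponents Y, f.base ⁻¹' {z} ⊆ W := by
    intro z hz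
    have hirr := hV z hz.1 hz.2
    obtain ⟨W, hW, hsub⟩ := isIrreducible_iff_sUnion_isClosed.mp hirr hfin.toFinset
      (fun W hW => isClosed_of_mem_irreducibleComponents W (hfin.mem_toFinset.mp hW))
      (by rw [Set.Finite.coe_toFinset, sUnion_irreducibleComponents]; exact Set.subset_univ _)
    exact ⟨W, hfin.mem_toFinset.mp hW, hsub⟩
  let CW : Set Y → Set Z := fun W => {z | z ∈ C ∧ f.base ⁻¹' {z} ⊆ W}
  have hcov : (Set.univ : Set Z) ⊆ ⋃₀ ↑(hfin.toFinset.image (fun W => closure (CW W))) := by
    intro z _
    have hz : z ∈ closure C := hCd z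
    have hCsub : C ⊆ ⋃ W ∈ hfin.toFinset, CW W := by
      intro c hc
      obtain ⟨W, hW, hsub⟩ := hfib c hc
      simp only [Set.mem_iUnion, exists_prop]
      exact ⟨W, hfin.mem_toFinset.mpr hW, hc, hsub⟩
    have h3 := closure_mono hCsub hz
    rw [Finset.closure_biUnion] at h3
    simp only [Set.mem_iUnion, exists_prop] at h3
    obtain ⟨W, hW, hzW⟩ := h3
    exact ⟨closure (CW W), Finset.mem_coe.mpr (Finset.mem_image_of_mem _ hW), hzW⟩
  have hZirr : IsIrreducible (Set.univ : Set Z) := IrreducibleSpace.isIrreducible_univ Z
  obtain ⟨T, hT, hTsub⟩ := isIrreducible_iff_sUnion_isClosed.mp hZirr _ (by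
    intro T hT
    obtain ⟨W, -, rfl⟩ := Finset.mem_image.mp hT
    exact isClosed_closure) hcov
  obtain ⟨W₁, hW₁, rfl⟩ := Finset.mem_image.mp hT
  have hW₁' : W₁ ∈ irreducibleComponents Y := hfin.mem_toFinset.mp hW₁
  have hC1d : Dense (CW W₁) := fun z => hTsub (Set.mem_univ z)
  have hall : ∀ W ∈ irreducibleComponents Y, W ⊆ W₁ := by
    intro W hW
    by_contra hnot
    have hWcl : IsClosed W := isClosed_of_mem_irreducibleComponents W hW
    have hW1cl : IsClosed W₁ := isClosed_of_mem_irreducibleComponents W₁ hW₁'
    have hOcl : W ⊆ closure (W ∩ W₁ᶜ) := by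
      have hWirr : IsIrreducible W := hW.1
      have hsub : W ⊆ closure (W ∩ W₁ᶜ) ∪ W₁ := by
        intro y hy
        by_cases hy1 : y ∈ W₁
        · exact Or.inr hy1
        · exact Or.inl (subset_closure ⟨hy, hy1⟩)
      rcases (isPreirreducible_iff_isClosed_union_isClosed.mp hWirr.isPreirreducible) _ _
        isClosed_closure hW1cl hsub with h | h
      · exact h
      · exact absurd h hnot
    have himd : Dense (f.base '' (W ∩ W₁ᶜ)) := by
      have h1 : Dense (f.base '' W) := hdom W hW
      intro z
      have hz := h1 z
      have h2 : f.base '' W ⊆ closure (f.base '' (W ∩ W₁ᶜ)) :=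
        (Set.image_mono hOcl).trans (image_closure_subset_closure_image f.continuous)
      exact closure_minimal h2 isClosed_closure hz
    have hOc : Topology.IsConstructible (W ∩ W₁ᶜ) := by
      have hcW : Topology.IsConstructible W := by
        have h5 : Topology.IsConstructible Wᶜ :=
          (TopologicalSpace.NoetherianSpace.isCompact Wᶜ).isConstructible hWcl.isOpen_compl
        exact Topology.isConstructible_compl.1 h5
      have hcW1 : Topology.IsConstructible W₁ᶜ :=
        (TopologicalSpace.NoetherianSpace.isCompact _).isConstructible hW1cl.isOpen_compl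
      exact hcW.inter hcW1
    have himc : Topology.IsConstructible (f.base '' (W ∩ W₁ᶜ)) := f.isConstructible_image hOc
    obtain ⟨U, hUo, hUne, hUsub⟩ :=
      Groth.Agent.Helper18.MaxPtImage.exists_isOpen_subset_of_isConstructible_of_dense _ himc himd
    obtain ⟨z, hzU, hzC⟩ := hC1d.inter_open_nonempty U hUo hUne
    obtain ⟨o, hoO, hoz⟩ := hUsub hzU
    have h6 : o ∈ W₁ := hzC.2 (show o ∈ f.base ⁻¹' {z} from hoz)
    exact hoO.2 h6
  have huniv : (Set.univ : Set Y) = W₁ := by
    apply Set.Subset.antisymm
    · rw [← sUnion_irreducibleComponents]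
      exact Set.sUnion_subset hall
    · exact Set.subset_univ _
  have h7 : IsIrreducible (Set.univ : Set Y) := huniv ▸ hW₁'.1
  exact (irreducibleSpace_def Y).2 h7

end Groth.Agent.S16201
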