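import Groth.Statements.S16206
import Mathlib

set_option autoImplicit false
open RatCurv

namespace Groth.Agent.S16206


open W4c3cyccovratcurv SimpleGraph

lemma conicAdj_symm {k : ℕ} : ∀ T₁ T₂ : MarkedTree k, ConicAdj T₁ T₂ → ConicAdj T₂ T₁ := by
  rintro T₁ T₂ ⟨u₁, w₁, u₂, w₂, h₁, h₂, φ, hu, hm⟩
  refine ⟨u₂, w₂, u₁, w₁, h₂, h₁, φ.symm, ?_, ?_⟩
  · rw [← hu]; exact φ.symm_apply_apply _
  · intro i; rw [← hm i]; exact φ.symm_apply_apply _

/-- one step with same vertex set, same contracted graph and marks -/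
lemma conicAdj_of_eq {k n : ℕ} (G G' : SimpleGraph (Fin n)) (hG : G.IsTree) (hG' : G'.IsTree)
    (m m' : Fin k → Fin n) (u w : Fin n)
    (h : G.Adj u w) (h' : G'.Adj u w) (hc : contract G u w = contract G' u w)
    (hm : ∀ i, contractMark m u w h.ne i = contractMark m' u w h'.ne i) :
    ConicAdj ⟨n, G, hG, m⟩ ⟨n, G', hG', m'⟩ :=
  ⟨u, w, u, w, h, h', ⟨Equiv.refl _, by intro a b; simp [hc]⟩, rfl, fun i => hm i⟩

lemma reachable_of_adj_reachable {V : Type*} {G G' : SimpleGraph V}
    (h : ∀ a b, G.Adj a b → G'.Reachable a b) {a b : V} (hab : G.Reachable a b) :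
    G'.Reachable a b := by
  obtain ⟨p⟩ := hab
  induction p with
  | nil => exact Reachable.refl _
  | cons hadj p ih => exact (h _ _ hadj).trans ih

/-- the reattached graph -/
def reattach {V : Type*} (G : SimpleGraph V) (u w x : V) : SimpleGraph V :=
  G.deleteEdges {s(w, x)} ⊔ edge u x

lemma reattach_adj {V : Type*} (G : SimpleGraph V) (u w x a b : V) :
    (reattach G u w x).Adj a b ↔
      (G.Adj a b ∧ s(a, b) ≠ s(w, x)) ∨ ((a = u ∧ b = x ∨ a = x ∧ b = u) ∧ a ≠ b) := by
  simp [reattach, deleteEdges_adj, edge_adj]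

lemma reattach_isTree {V : Type*} (G : SimpleGraph V) (hG : G.IsTree) {u w x : V}
    (huw : G.Adj u w) (hwx : G.Adj w x) (hux : u ≠ x) : (reattach G u w x).IsTree := by
  have hHuw : (G.deleteEdges {s(w, x)}).Adj u w := by
    rw [deleteEdges_adj]
    refine ⟨huw, ?_⟩
    simp only [Set.mem_singleton_iff, Sym2.eq_iff, not_or, not_and]
    exact ⟨fun h => absurd h huw.ne, fun h _ => hux h⟩
  have hbr : ¬ (G.deleteEdges {s(w, x)}).Reachable w x :=
    isBridge_iff.mp (isAcyclic_iff_forall_adj_isBridge.mp hG.isAcyclic hwx)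
  have hnr : ¬ (G.deleteEdges {s(w, x)}).Reachable u x := fun h =>
    hbr (hHuw.symm.reachable.trans h)
  have hac : (reattach G u w x).IsAcyclic :=
    IsAcyclic.sup_edge_of_not_reachable hnr (hG.isAcyclic.anti (deleteEdges_le _))
  have hux' : (reattach G u w x).Adj u x := by
    rw [reattach_adj]; right; exact ⟨Or.inl ⟨rfl, rfl⟩, hux⟩
  have huw' : (reattach G u w x).Adj u w := by
    exact (le_sup_left : G.deleteEdges {s(w, x)} ≤ reattach G u w x) hHuw
  have hconn : ∀ a b, G.Adj a b → (reattach G u w x).Reachable a b := by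
    intro a b hab
    by_cases hs : s(a, b) = s(w, x)
    · have hwx' : (reattach G u w x).Reachable w x := huw'.symm.reachable.trans hux'.reachable
      rw [Sym2.eq_iff] at hs
      rcases hs with ⟨rfl, rfl⟩ | ⟨rfl, rfl⟩
      · exact hwx'
      · exact hwx'.symm
    · apply Adj.reachable
      rw [reattach_adj]; left; exact ⟨hab, hs⟩
  have : Nonempty V := hG.connected.nonempty
  refine ⟨⟨fun a b => ?_⟩, hac⟩
  exact reachable_of_adj_reachable hconn (hG.connected.preconnected a b)

lemma star_adj_iff {m : ℕ} (G : SimpleGraph (Fin (m+1))) (hG : G.IsTree)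
    (h : ∀ v, v ≠ 0 → G.Adj 0 v) (a b : Fin (m+1)) :
    G.Adj a b ↔ (a = 0 ∧ b ≠ 0) ∨ (b = 0 ∧ a ≠ 0) := by
  constructor
  · intro hab
    by_cases ha : a = 0
    · left; exact ⟨ha, fun hb => hab.ne (ha.trans hb.symm)⟩
    by_cases hb : b = 0
    · right; exact ⟨hb, ha⟩
    exfalso
    have hbr : ¬ (G.deleteEdges {s(a, b)}).Reachable a b :=
      isBridge_iff.mp (isAcyclic_iff_forall_adj_isBridge.mp hG.isAcyclic hab)
    apply hbr
    have h1 : (G.deleteEdges {s(a, b)}).Adj 0 a := by
      rw [deleteEdges_adj]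
      refine ⟨h a ha, ?_⟩
      simp only [Set.mem_singleton_iff, Sym2.eq_iff, not_or, not_and]
      exact ⟨fun h0 => absurd h0.symm ha, fun h0 => absurd h0.symm hb⟩
    have h2 : (G.deleteEdges {s(a, b)}).Adj 0 b := by
      rw [deleteEdges_adj]
      refine ⟨h b hb, ?_⟩
      simp only [Set.mem_singleton_iff, Sym2.eq_iff, not_or, not_and]
      exact ⟨fun h0 => absurd h0.symm ha, fun h0 => absurd h0.symm hb⟩
    exact h1.symm.reachable.trans h2.reachable
  · rintro (⟨rfl, hb⟩ | ⟨rfl, ha⟩)
    · exact h b hb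
    · exact (h a ha).symm

lemma contract_reattach {m : ℕ} (G : SimpleGraph (Fin (m+1))) {w x : Fin (m+1)}
    (h0w : G.Adj 0 w) (hwx : G.Adj w x) (hx0 : x ≠ 0) (h0x : ¬ G.Adj 0 x) :
    contract G 0 w = contract (reattach G 0 w x) 0 w := by
  have hw0 : w ≠ 0 := h0w.ne'
  have hxw : x ≠ w := hwx.ne'
  have F1 : ∀ a b : Fin (m+1), a ≠ w → b ≠ w → a ≠ b →
      ((reattach G 0 w x).Adj a b ↔ G.Adj a b ∨ (a = 0 ∧ b = x) ∨ (a = x ∧ b = 0)) := by
    intro a b ha hb hab
    rw [reattach_adj]
    simp only [Sym2.eq_iff, ne_eq, not_or, not_and]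
    constructor
    · rintro (⟨h, -⟩ | ⟨h, -⟩)
      · exact Or.inl h
      · exact Or.inr h
    · rintro (h | h)
      · exact Or.inl ⟨h, fun h1 => absurd h1 ha, fun _ h2 => hb h2⟩
      · exact Or.inr ⟨h, hab⟩
  have F2 : ∀ b, b ≠ w → ((reattach G 0 w x).Adj w b ↔ G.Adj w b ∧ b ≠ x) := by
    intro b hb
    rw [reattach_adj]
    simp only [Sym2.eq_iff, ne_eq, not_or, not_and]
    constructor
    · rintro (⟨h, h1, -⟩ | ⟨(⟨h1, -⟩ | ⟨h1, -⟩), -⟩)
      · exact ⟨h, h1 trivial⟩
      · exact absurd h1 hw0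
      · exact absurd h1.symm hxw
    · rintro ⟨h, hbx⟩
      exact Or.inl ⟨h, fun _ => hbx, fun h1 => absurd h1.symm hxw⟩
  ext ⟨a, ha⟩ ⟨b, hb⟩
  simp only [contract, fromRel_adj, ne_eq, Subtype.mk.injEq]
  by_cases hab : a = b
  · simp [hab]
  · rw [F1 a b ha hb hab, F1 b a hb ha (Ne.symm hab), F2 b hb, F2 a ha]
    by_cases hbx : b = x
    · subst hbx
      tauto
    · by_cases hax : a = x
      · subst hax
        tauto
      · tauto

open Classical in
lemma to_star {k m : ℕ} : ∀ (N : ℕ) (G : SimpleGraph (Fin (m+1))) (hG : G.IsTree)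
    (mk : Fin k → Fin (m+1)),
    (Finset.univ.filter (fun v : Fin (m+1) => v ≠ 0 ∧ ¬ G.Adj 0 v)).card +
      (Finset.univ.filter (fun i => mk i ≠ 0)).card = N →
    ∃ (G' : SimpleGraph (Fin (m+1))) (hG' : G'.IsTree), (∀ v, v ≠ 0 → G'.Adj 0 v) ∧
      Relation.ReflTransGen ConicAdj ⟨m+1, G, hG, mk⟩ ⟨m+1, G', hG', fun _ => 0⟩ := by
  intro N
  induction N using Nat.strong_induction_on with
  | _ N ih =>
  intro G hG mk hN
  by_cases hA : ∃ v : Fin (m+1), v ≠ 0 ∧ ¬ G.Adj 0 v
  · -- shape step
    obtain ⟨v, hv0, hv⟩ := hA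
    obtain ⟨p⟩ := hG.connected.preconnected 0 v
    obtain ⟨d, -, hd1, hd2⟩ := p.exists_boundary_dart {y | y = 0 ∨ G.Adj 0 y} (Or.inl rfl)
      (by simp only [Set.mem_ofPred_eq, not_or]; exact ⟨hv0, hv⟩)
    obtain ⟨⟨w, x⟩, hwx⟩ := d
    simp only [Set.mem_ofPred_eq, not_or] at hd1 hd2
    change G.Adj w x at hwx
    obtain ⟨hx0, h0x⟩ := hd2
    have h0w : G.Adj 0 w := by
      rcases hd1 with rfl | h
      · exact absurd hwx h0x
      · exact h
    have hT' : (reattach G 0 w x).IsTree := reattach_isTree G hG h0w hwx (Ne.symm hx0)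
    have h0w' : (reattach G 0 w x).Adj 0 w := by
      rw [reattach_adj]; left
      refine ⟨h0w, ?_⟩
      simp only [ne_eq, Sym2.eq_iff, not_or, not_and]
      exact ⟨fun h1 => absurd h1.symm h0w.ne', fun h1 => absurd h1.symm hx0⟩
    have hstep : ConicAdj ⟨m+1, G, hG, mk⟩ ⟨m+1, reattach G 0 w x, hT', mk⟩ :=
      conicAdj_of_eq G _ hG hT' mk mk 0 w h0w h0w' (contract_reattach G h0w hwx hx0 h0x)
        (fun i => rfl)
    have hadj' : ∀ y, (reattach G 0 w x).Adj 0 y ↔ G.Adj 0 y ∨ y = x := by
      intro y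
      rw [reattach_adj]
      simp only [ne_eq, Sym2.eq_iff, not_or, not_and]
      constructor
      · rintro (⟨h, -⟩ | ⟨(⟨-, h⟩ | ⟨h, -⟩), -⟩)
        · exact Or.inl h
        · exact Or.inr h
        · exact absurd h.symm hx0
      · rintro (h | rfl)
        · exact Or.inl ⟨h, fun h1 => absurd h1.symm h0w.ne', fun h1 => absurd h1.symm hx0⟩
        · exact Or.inr ⟨Or.inl ⟨trivial, rfl⟩, Ne.symm hx0⟩
    have hlt : (Finset.univ.filter (fun v : Fin (m+1) => v ≠ 0 ∧ ¬ (reattach G 0 w x).Adj 0 v)).card <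
        (Finset.univ.filter (fun v : Fin (m+1) => v ≠ 0 ∧ ¬ G.Adj 0 v)).card := by
      apply Finset.card_lt_card
      rw [Finset.ssubset_iff_of_subset]
      · refine ⟨x, ?_, ?_⟩
        · simp only [Finset.mem_filter, Finset.mem_univ, true_and]; exact ⟨hx0, h0x⟩
        · simp only [Finset.mem_filter, Finset.mem_univ, true_and, hadj', not_or, not_and, not_not]
          intro _ _; trivial
      · intro y
        simp only [Finset.mem_filter, Finset.mem_univ, true_and, hadj', not_or]
        rintro ⟨h1, h2, -⟩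
        exact ⟨h1, h2⟩
    obtain ⟨G', hG', hstar, hrel⟩ := ih _ (by omega) (reattach G 0 w x) hT' mk rfl
    exact ⟨G', hG', hstar, Relation.ReflTransGen.head hstep hrel⟩
  · push Not at hA
    by_cases hB : ∃ i, mk i ≠ 0
    · -- mark step
      obtain ⟨i, hi⟩ := hB
      have h0w : G.Adj 0 (mk i) := hA (mk i) hi
      have hstep : ConicAdj ⟨m+1, G, hG, mk⟩ ⟨m+1, G, hG, Function.update mk i 0⟩ := by
        refine conicAdj_of_eq G G hG hG mk _ 0 (mk i) h0w h0w rfl ?_
        intro j
        unfold contractMark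
        by_cases hji : j = i
        · subst hji
          simp [h0w.ne]
        · simp [Function.update_of_ne hji]
      have hlt : (Finset.univ.filter (fun j => Function.update mk i 0 j ≠ 0)).card <
          (Finset.univ.filter (fun j => mk j ≠ 0)).card := by
        apply Finset.card_lt_card
        rw [Finset.ssubset_iff_of_subset]
        · refine ⟨i, ?_, ?_⟩
          · simp only [Finset.mem_filter, Finset.mem_univ, true_and]; exact hi
          · simp
        · intro j
          simp only [Finset.mem_filter, Finset.mem_univ, true_and]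
          by_cases hji : j = i
          · subst hji; simp
          · simp [Function.update_of_ne hji]
      obtain ⟨G', hG', hstar, hrel⟩ := ih _ (by omega) G hG (Function.update mk i 0) rfl
      exact ⟨G', hG', hstar, Relation.ReflTransGen.head hstep hrel⟩
    · push Not at hB
      have : mk = fun _ => 0 := funext hB
      subst this
      exact ⟨G, hG, hA, Relation.ReflTransGen.refl⟩

/-- Let G₁ and G₂ be dual graphs of linear trees of the same total degree e and with k marked points
each, that is finite trees with e vertices, every vertex of degree one, together with a list of k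
marked vertices (repetitions allowed). Then a finite chain of conic deformations leads from G₁ to
G₂. Here a conic deformation of such a graph is the marked graph obtained by contracting one edge
(the contracted vertex being the unique vertex of degree two), two marked trees are one step apart
when they have isomorphic conic deformations, the isomorphism matching the contracted vertices and
the i-th marked vertices, and the conclusion is that G₁ and G₂ are related by the
reflexive-transitive closure of this one-step relation. -/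
theorem result (k : ℕ) (T₁ T₂ : W4c3cyccovratcurv.MarkedTree k)
    (h : T₁.n = T₂.n) :
    Relation.ReflTransGen W4c3cyccovratcurv.ConicAdj T₁ T₂ := by
  obtain ⟨n₁, G₁, hG₁, m₁⟩ := T₁
  obtain ⟨n₂, G₂, hG₂, m₂⟩ := T₂
  simp only at h
  subst h
  have hne : Nonempty (Fin n₁) := hG₁.connected.nonempty
  obtain ⟨m, rfl⟩ : ∃ m, n₁ = m + 1 := by
    have := Fin.pos_iff_nonempty.mpr hne
    exact ⟨n₁ - 1, by omega⟩
  obtain ⟨G₁', hG₁', hs₁, hr₁⟩ := to_star _ G₁ hG₁ m₁ rfl
  obtain ⟨G₂', hG₂', hs₂, hr₂⟩ := to_star _ G₂ hG₂ m₂ rfl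
  have : G₁' = G₂' := by
    ext a b
    rw [star_adj_iff G₁' hG₁' hs₁, star_adj_iff G₂' hG₂' hs₂]
  subst this
  refine hr₁.trans ?_
  have hsymm : ∀ A B : MarkedTree k, Relation.ReflTransGen ConicAdj A B →
      Relation.ReflTransGen ConicAdj B A := by
    intro A B hAB
    induction hAB with
    | refl => exact Relation.ReflTransGen.refl
    | tail _ hbc ih => exact Relation.ReflTransGen.head (conicAdj_symm _ _ hbc) ih
  exact hsymm _ _ hr₂

end Groth.Agent.S16206
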