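import Groth.Statements.S16211
import Mathlib.Algebra.Algebra.Hom
import Mathlib.RingTheory.Ideal.Quotient.Operations
import Mathlib.Algebra.BigOperators.Group.Finset.Basic
import Mathlib.Tactic.LinearCombination

set_option autoImplicit false
universe u v
open InvTh

namespace Groth.Agent.S16211

theorem avg_shift {R B ι : Type*} [CommRing R] [CommRing B] [Algebra R B] [Fintype ι]
    (u : R) (hu : u * (Fintype.card ι : R) = 1) (c : B) (γ : ι → B) :
    u • ∑ i, (c + γ i) = c + u • ∑ i, γ i := by
  rw [Finset.sum_add_distrib, Finset.sum_const, Finset.card_univ, smul_add,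
    ← Nat.cast_smul_eq_nsmul R, smul_smul, hu, one_smul]

theorem avg_mul {R B ι : Type*} [CommRing R] [CommRing B] [Algebra R B] [Fintype ι]
    (u : R) (hu : u * (Fintype.card ι : R) = 1) (J : Ideal B) (hJ : ∀ s ∈ J, ∀ t ∈ J, s * t = 0)
    (x y : B) (α β : ι → B) (hα : ∀ i, α i ∈ J) (hβ : ∀ i, β i ∈ J) :
    u • ∑ i, (x + α i) * (y + β i) = (u • ∑ i, (x + α i)) * (u • ∑ i, (y + β i)) := by
  have hA : u • ∑ i, α i ∈ J := J.smul_of_tower_mem u (J.sum_mem fun i _ => hα i)
  have hB : u • ∑ i, β i ∈ J := J.smul_of_tower_mem u (J.sum_mem fun i _ => hβ i)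
  rw [avg_shift u hu x α, avg_shift u hu y β]
  have h1 : ∀ i, (x + α i) * (y + β i) = x * y + (x * β i + y * α i) := by
    intro i
    have := hJ _ (hα i) _ (hβ i)
    linear_combination this
  simp_rw [h1]
  rw [avg_shift u hu (x * y), Finset.sum_add_distrib, smul_add, ← Finset.mul_sum, ← Finset.mul_sum,
    ← mul_smul_comm, ← mul_smul_comm]
  have := hJ _ hA _ hB
  linear_combination -this

/-- Let R be a commutative ring, O a formally smooth R-algebra and G a finite group whose order is
invertible in R, acting on O by R-algebra automorphisms. Then the largest quotient algebra of O on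
which G acts trivially, namely the quotient of O by the ideal generated by all g • f - f (the
coordinate ring of the subscheme of G-fixed points of Spec O), is again formally smooth over R:
invariant homomorphisms lift along square-zero extensions. The published statement is about a scheme
X smooth and of finite presentation over the base and concludes that its fixed-point scheme is
smooth; this row, the affine step of its proof, assumes only that O is formally smooth over R and
concludes only formal smoothness. -/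
theorem result (R : Type u) [CommRing R]
    (O : Type u) [CommRing O] [Algebra R O] [Algebra.FormallySmooth R O]
    (G : Type v) [Group G] [Finite G] [MulSemiringAction G O] [SMulCommClass G R O]
    (hG : IsUnit (Nat.card G : R)) :
    Algebra.FormallySmooth R (O ⧸ Ideal.span {x : O | ∃ (g : G) (f : O), x = g • f - f}) := by
  classical
  haveI : Fintype G := Fintype.ofFinite G
  obtain ⟨u, hu⟩ : ∃ u : R, u * (Fintype.card G : R) = 1 := by
    rw [Nat.card_eq_fintype_card] at hG
    obtain ⟨v, hv⟩ := hG.exists_left_inv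
    exact ⟨v, hv⟩
  set I₀ : Ideal O := Ideal.span {x : O | ∃ (g : G) (f : O), x = g • f - f} with hI₀
  apply Algebra.FormallySmooth.of_comp_surjective
  intro B _ _ J hJ2 φ
  have hJ : ∀ s ∈ J, ∀ t ∈ J, s * t = 0 := by
    intro s hs t ht
    have : s * t ∈ J ^ 2 := by rw [pow_two]; exact Ideal.mul_mem_mul hs ht
    rw [hJ2] at this
    exact this
  obtain ⟨ψ, hψ⟩ := Algebra.FormallySmooth.comp_surjective R O J hJ2
    (φ.comp (Ideal.Quotient.mkₐ R I₀))
  have hψ' : ∀ a : O, Ideal.Quotient.mk J (ψ a) = φ (Ideal.Quotient.mk I₀ a) := by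
    intro a
    exact AlgHom.congr_fun hψ a
  have hinv : ∀ (g : G) (a : O), Ideal.Quotient.mk I₀ (g • a) = Ideal.Quotient.mk I₀ a := by
    intro g a
    rw [Ideal.Quotient.eq]
    exact Ideal.subset_span ⟨g, a, rfl⟩
  have hD : ∀ (g : G) (a : O), ψ (g • a) - ψ a ∈ J := by
    intro g a
    rw [← Ideal.Quotient.eq, hψ', hψ', hinv]
  let L : O →ₗ[R] B := u • ∑ g : G, (ψ.comp (MulSemiringAction.toAlgHom R O g)).toLinearMap
  have hL : ∀ a : O, L a = u • ∑ g : G, ψ (g • a) := by
    intro a
    simp [L, LinearMap.sum_apply]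
  have hL' : ∀ a : O, L a = u • ∑ g : G, (ψ a + (ψ (g • a) - ψ a)) := by
    intro a
    rw [hL]
    congr 1
    apply Finset.sum_congr rfl
    intro g _
    ring
  have hone : L 1 = 1 := by
    rw [hL]
    simp only [smul_one, map_one, Finset.sum_const, Finset.card_univ]
    rw [← Nat.cast_smul_eq_nsmul R, smul_smul, hu, one_smul]
  have hmul : ∀ a b : O, L (a * b) = L a * L b := by
    intro a b
    rw [hL' a, hL' b, ← avg_mul u hu J hJ (ψ a) (ψ b) _ _ (fun g => hD g a) (fun g => hD g b), hL]
    congr 1
    apply Finset.sum_congr rfl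
    intro g _
    rw [smul_mul', map_mul]
    ring
  let ψ' : O →ₐ[R] B := AlgHom.ofLinearMap L hone hmul
  have hψ'L : ∀ a, ψ' a = L a := fun a => rfl
  have hGinv : ∀ (h : G) (a : O), ψ' (h • a) = ψ' a := by
    intro h a
    rw [hψ'L, hψ'L, hL, hL]
    congr 1
    apply Fintype.sum_equiv (Equiv.mulRight h)
    intro g
    simp [mul_smul]
  have hkill : ∀ a ∈ I₀, ψ' a = 0 := by
    intro a ha
    induction ha using Submodule.span_induction with
    | mem x hx =>
      obtain ⟨g, f, rfl⟩ := hx
      rw [map_sub, hGinv, sub_self]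
    | zero => exact map_zero _
    | add x y _ _ hx hy => rw [map_add, hx, hy, add_zero]
    | smul c x _ hx => rw [smul_eq_mul, map_mul, hx, mul_zero]
  refine ⟨Ideal.Quotient.liftₐ I₀ ψ' hkill, ?_⟩
  apply Ideal.Quotient.algHom_ext
  apply AlgHom.ext
  intro a
  simp only [AlgHom.comp_apply, Ideal.Quotient.mkₐ_eq_mk, Ideal.Quotient.liftₐ_apply,
    Ideal.Quotient.lift_mk]
  change Ideal.Quotient.mk J (ψ' a) = φ (Ideal.Quotient.mk I₀ a)
  rw [hψ'L, hL' a, avg_shift u hu]
  rw [map_add, hψ']
  have : u • ∑ g : G, (ψ (g • a) - ψ a) ∈ J :=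
    J.smul_of_tower_mem u (J.sum_mem fun g _ => hD g a)
  rw [Ideal.Quotient.eq_zero_iff_mem.mpr this, add_zero]

end Groth.Agent.S16211
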