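import Groth.Statements.S16220
import Mathlib.RingTheory.WittVector.Identities
import Mathlib.RingTheory.Finiteness.Projective
import Mathlib.RingTheory.Ideal.Operations
import Mathlib.RingTheory.Ideal.Quotient.Operations
import Mathlib.Algebra.Module.Submodule.Pointwise

set_option autoImplicit false
universe u v
open Disp

namespace Groth.Agent.S16220

theorem witt_p_nzd (p : ℕ) [Fact p.Prime] (k : Type*) [CommRing k] [CharP k p] [PerfectRing k p]
    (x : WittVector p k) (hx : (p : WittVector p k) * x = 0) : x = 0 := by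
  rw [mul_comm, ← WittVector.verschiebung_frobenius] at hx
  have h1 := (map_eq_zero_iff _ (WittVector.verschiebung_injective p k)).mp hx
  exact (map_eq_zero_iff _ (WittVector.frobenius_bijective p k).injective).mp h1

theorem mem_pM_iff {W M : Type*} [CommRing W] [AddCommGroup M] [Module W M] (π : W) (x : M) :
    x ∈ Ideal.span {π} • (⊤ : Submodule W M) ↔ ∃ z : M, π • z = x := by
  rw [Submodule.ideal_span_singleton_smul, Submodule.mem_smul_pointwise_iff_exists]
  simp

theorem core_comap {W M : Type*} [CommRing W] [AddCommGroup M] [Module W M] (π : W)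
    {σ₁ σ₂ : W →+* W} (hσ₁ : σ₁ π = π)
    (hp : ∀ w : M, π • w = 0 → w ∈ Ideal.span {π} • (⊤ : Submodule W M))
    (A : M →ₛₗ[σ₁] M) (B : M →ₛₗ[σ₂] M) (hAB : ∀ m, A (B m) = π • m) (hBA : ∀ m, B (A m) = π • m) :
    (Ideal.span {π} • (⊤ : Submodule W M)).comap A =
      Submodule.span W (Set.range B) ⊔ Ideal.span {π} • (⊤ : Submodule W M) := by
  apply le_antisymm
  · intro x hx
    rw [Submodule.mem_comap, mem_pM_iff] at hx
    obtain ⟨z, hz⟩ := hx
    have h1 : A (x - B z) = 0 := by rw [map_sub, hAB, hz, sub_self]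
    have h2 : π • (x - B z) = 0 := by rw [← hBA, h1, map_zero]
    have h3 := hp _ h2
    have : x = B z + (x - B z) := by abel
    rw [this]
    exact Submodule.add_mem_sup (Submodule.subset_span ⟨z, rfl⟩) h3
  · apply sup_le
    · rw [Submodule.span_le]
      rintro _ ⟨m, rfl⟩
      rw [SetLike.mem_coe, Submodule.mem_comap, hAB, mem_pM_iff]
      exact ⟨m, rfl⟩
    · intro x hx
      rw [mem_pM_iff] at hx
      obtain ⟨z, rfl⟩ := hx
      rw [Submodule.mem_comap, map_smulₛₗ, hσ₁, mem_pM_iff]
      exact ⟨A z, rfl⟩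

theorem ptors_mem {W : Type*} [CommRing W] (π : W) (hnzd : ∀ x : W, π * x = 0 → x = 0) (n : ℕ) (hn : 2 ≤ n)
    (M : Type*) [AddCommGroup M] [Module W M] [Module (W ⧸ Ideal.span {π ^ n}) M]
    [IsScalarTower W (W ⧸ Ideal.span {π ^ n}) M]
    [Module.Finite (W ⧸ Ideal.span {π ^ n}) M] [Module.Projective (W ⧸ Ideal.span {π ^ n}) M]
    (w : M) (hw : π • w = 0) : w ∈ Ideal.span {π} • (⊤ : Submodule W M) := by
  classical
  obtain ⟨m, f, g, -, -, hfg⟩ :=
    Module.Finite.exists_comp_eq_id_of_projective (W ⧸ Ideal.span {π ^ n}) M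
  have hcoord : ∀ c : W ⧸ Ideal.span {π ^ n}, (Ideal.Quotient.mk _ π) * c = 0 →
      ∃ d : W ⧸ Ideal.span {π ^ n}, c = (Ideal.Quotient.mk _ π) * d := by
    intro c hc
    obtain ⟨a, rfl⟩ := Ideal.Quotient.mk_surjective c
    rw [← map_mul, Ideal.Quotient.eq_zero_iff_mem, Ideal.mem_span_singleton'] at hc
    obtain ⟨b, hb⟩ := hc
    obtain ⟨n', rfl⟩ : ∃ n', n = n' + 2 := ⟨n - 2, by omega⟩
    have h1 : π * (a - b * π ^ (n' + 1)) = 0 := by
      rw [mul_sub, ← hb]; ring
    have h2 := hnzd _ h1
    rw [sub_eq_zero] at h2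
    refine ⟨Ideal.Quotient.mk _ (b * π ^ n'), ?_⟩
    rw [← map_mul, h2]
    congr 1
    ring
  have hsm : ∀ z : M, (Ideal.Quotient.mk (Ideal.span {π ^ n}) π) • z = π • z := by
    intro z
    rw [← Ideal.Quotient.algebraMap_eq, algebraMap_smul]
  have hgw : (Ideal.Quotient.mk (Ideal.span {π ^ n}) π) • g w = 0 := by
    rw [← map_smul, hsm, hw, map_zero]
  have hd : ∀ j, ∃ d : W ⧸ Ideal.span {π ^ n}, g w j = (Ideal.Quotient.mk _ π) * d := by
    intro j
    apply hcoord
    have := congrFun hgw j
    simpa using this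
  choose d hd using hd
  have h3 : g w = (Ideal.Quotient.mk (Ideal.span {π ^ n}) π) • d := by
    ext j
    rw [hd j]
    rfl
  have h4 : w = f (g w) := by
    have := LinearMap.congr_fun hfg w
    simpa using this.symm
  rw [mem_pM_iff]
  refine ⟨f d, ?_⟩
  rw [h4, h3, map_smul, hsm]

/-- Let p be a prime and k a perfect ring of characteristic p, so that the Frobenius σ of W = W(k) is
bijective, W has no p-torsion and W/p^n W = W_n(k) (the ideal p^n W is the kernel of the truncation
to length n). Let n ≥ 2 and let M be a truncated Dieudonné module of level n over k: a W-module on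
which W acts through W/p^n W, finitely generated and projective over W/p^n W, with a σ-semilinear F
: M → M and a σ⁻¹-semilinear V : M → M such that FV = VF = p. Then on M/pM the kernel of F is the
image of V and the kernel of V is the image of F; stated inside M: the preimage of pM under F is VM
+ pM, and the preimage of pM under V is FM + pM. -/
theorem result (p : ℕ) [Fact p.Prime] (k : Type u) [CommRing k]
    [CharP k p] [PerfectRing k p] (n : ℕ) (hn : 2 ≤ n)
    (M : Type v) [AddCommGroup M] [Module (WittVector p k) M]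
    [Module (WittVector p k ⧸ Ideal.span {(p : WittVector p k) ^ n}) M] [IsScalarTower (WittVector p k) (WittVector p k ⧸ Ideal.span {(p : WittVector p k) ^ n}) M]
    [Module.Finite (WittVector p k ⧸ Ideal.span {(p : WittVector p k) ^ n}) M] [Module.Projective (WittVector p k ⧸ Ideal.span {(p : WittVector p k) ^ n}) M]
    (F : M →ₛₗ[(WittVector.frobenius : WittVector p k →+* WittVector p k)] M)
    (V : M →ₛₗ[((WittVector.frobeniusEquiv p k).symm : WittVector p k →+* WittVector p k)] M)
    (hFV : ∀ m : M, F (V m) = (p : WittVector p k) • m) (hVF : ∀ m : M, V (F m) = (p : WittVector p k) • m) :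
    (Ideal.span {(p : WittVector p k)} • (⊤ : Submodule (WittVector p k) M)).comap F =
        Submodule.span (WittVector p k) (Set.range V) ⊔ Ideal.span {(p : WittVector p k)} • (⊤ : Submodule (WittVector p k) M) ∧
      (Ideal.span {(p : WittVector p k)} • (⊤ : Submodule (WittVector p k) M)).comap V =
        Submodule.span (WittVector p k) (Set.range F) ⊔ Ideal.span {(p : WittVector p k)} • (⊤ : Submodule (WittVector p k) M) := by
  have hp := ptors_mem (p : WittVector p k) (witt_p_nzd p k) n hn M
  have hσ₁ : (WittVector.frobenius : WittVector p k →+* WittVector p k) (p : WittVector p k) = p :=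
    map_natCast _ _
  have hσ₂ : ((WittVector.frobeniusEquiv p k).symm : WittVector p k →+* WittVector p k)
      (p : WittVector p k) = p := map_natCast _ _
  exact ⟨core_comap _ hσ₁ hp F V hFV hVF, core_comap _ hσ₂ hp V F hVF hFV⟩

end Groth.Agent.S16220
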