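import Groth.Statements.S16223
import Groth.Agent.Lib.Helper24.WittDescent
import Mathlib

set_option autoImplicit false
open CategoryTheory Opposite
universe u
open CAlg

namespace Groth.Agent.S16223


open W4c3truncdispsmooth TensorProduct ModuleCat ChangeOfRings
open Groth.Agent.Helper24.WittDescent

section Main
variable (p : ℕ) [Fact p.Prime] (n : ℕ)
variable (R R' : Type u) [CommRing R] [CommRing R'] [Algebra R R'] [Module.FaithfullyFlat R R']
  (M N : ModuleCat.{u} (TruncatedWittVector p n R))

set_option backward.isDefEq.respectTransparency false in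
theorem inj_part [Module.Flat (TruncatedWittVector p n R) N] :
    Function.Injective (fun φ : M ⟶ N =>
      ((W4c3truncdispsmooth.wittModPF.{u} p n).toDescentData
        (fun _ : PUnit.{u + 1} => (CommRingCat.ofHom (algebraMap R R')).op)).map φ) := by
  intro φ φ' hφ
  have h1 := congrArg (fun Ψ => Pseudofunctor.DescentData.Hom.hom Ψ PUnit.unit) hφ
  have h2 : (extendScalars (WittGrp.truncMap p n (algebraMap R R'))).map φ =
      (extendScalars (WittGrp.truncMap p n (algebraMap R R'))).map φ' := h1
  apply ModuleCat.hom_ext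
  apply LinearMap.ext
  intro m
  have h3 := congrArg (fun k => k.hom (pt (WittGrp.truncMap p n (algebraMap R R')) M 1 m)) h2
  simp only [map_pt] at h3
  exact G1 (WittGrp.truncMap p n (algebraMap R R')) (W_inj p n R R') N h3

set_option backward.isDefEq.respectTransparency false in
theorem surj_part [Module.Flat (TruncatedWittVector p n R) N] :
    Function.Surjective (fun φ : M ⟶ N =>
      ((W4c3truncdispsmooth.wittModPF.{u} p n).toDescentData
        (fun _ : PUnit.{u + 1} => (CommRingCat.ofHom (algebraMap R R')).op)).map φ) := by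
  intro Ψ
  have e₁ : CommRingCat.ofHom (algebraMap R R') ≫
      CommRingCat.ofHom (Algebra.TensorProduct.includeLeftRingHom : R' →+* R' ⊗[R] R') =
      CommRingCat.ofHom (algebraMap R (R' ⊗[R] R')) := by
    ext x
    rfl
  have e₂ : CommRingCat.ofHom (algebraMap R R') ≫
      CommRingCat.ofHom ((Algebra.TensorProduct.includeRight : R' →ₐ[R] R' ⊗[R] R') :
        R' →+* R' ⊗[R] R') =
      CommRingCat.ofHom (algebraMap R (R' ⊗[R] R')) := by
    ext x
    exact (Algebra.TensorProduct.includeRight : R' →ₐ[R] R' ⊗[R] R').commutes x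
  have hq₁ : (CommRingCat.ofHom (algebraMap R R')).op.op.toLoc ≫
      (CommRingCat.ofHom (Algebra.TensorProduct.includeLeftRingHom : R' →+* R' ⊗[R] R')).op.op.toLoc =
      (CommRingCat.ofHom (algebraMap R (R' ⊗[R] R'))).op.op.toLoc := by
    rw [← e₁]; rfl
  have hq₂ : (CommRingCat.ofHom (algebraMap R R')).op.op.toLoc ≫
      (CommRingCat.ofHom ((Algebra.TensorProduct.includeRight : R' →ₐ[R] R' ⊗[R] R') :
        R' →+* R' ⊗[R] R')).op.op.toLoc =
      (CommRingCat.ofHom (algebraMap R (R' ⊗[R] R'))).op.op.toLoc := by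
    rw [← e₂]; rfl
  obtain ⟨hΨ, c1M, c1M', c2M, c1N, c1N', c2N, c2N', hhΨ, hc1M, hc2M, hc1N, hc2N,
      e1M, e1N, e2N, e2N', hcomm', hmapφ⟩ :=
    comm_general_B (wittModPF.{u} p n) (CommRingCat.ofHom (algebraMap R R'))
      (CommRingCat.ofHom (Algebra.TensorProduct.includeLeftRingHom : R' →+* R' ⊗[R] R'))
      (CommRingCat.ofHom ((Algebra.TensorProduct.includeRight : R' →ₐ[R] R' ⊗[R] R') :
        R' →+* R' ⊗[R] R'))
      (CommRingCat.ofHom (algebraMap R (R' ⊗[R] R'))) e₁ e₂ hq₁ hq₂ M N Ψ
  have κ1M := kappa_gen' p n _ _ _ _ _ _ e₁ hq₁ M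
  rw [← hc1M] at κ1M
  have κ2M := kappa_gen' p n _ _ _ _ _ _ e₂ hq₂ M
  rw [← hc2M] at κ2M
  have κ1N := kappa_gen' p n _ _ _ _ _ _ e₁ hq₁ N
  rw [← hc1N] at κ1N
  have κ2N := kappa_gen' p n _ _ _ _ _ _ e₂ hq₂ N
  rw [← hc2N] at κ2N
  clear hc1M hc2M hc1N hc2N
  obtain ⟨φ, hφ⟩ := core (WittGrp.truncMap p n (algebraMap R R'))
    (WittGrp.truncMap p n (algebraMap R (R' ⊗[R] R')))
    (WittGrp.truncMap p n (Algebra.TensorProduct.includeLeftRingHom : R' →+* R' ⊗[R] R'))
    (WittGrp.truncMap p n ((Algebra.TensorProduct.includeRight : R' →ₐ[R] R' ⊗[R] R') :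
          R' →+* R' ⊗[R] R'))
    (W_comp₁ p n R R') (W_comp₂ p n R R') (W_inj p n R R') (fun b hb => W_ex p n R R' b hb) M N
    hΨ c1M c1M' c2M c1N c1N' c2N c2N' e1M e1N e2N e2N' κ1M κ2M κ1N κ2N hcomm'
  refine ⟨φ, ?_⟩
  apply Pseudofunctor.DescentData.hom_ext
  intro i
  cases i
  exact (hmapφ φ).trans (hφ.trans hhΨ)

end Main

/-- Let p be a prime, n a natural number, and R → R' a faithfully flat homomorphism of commutative rings
in which p is nilpotent; write W_n for truncated Witt vectors of length n. A descent datum of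
W_n(R')-modules relative to R → R' is a W_n(R')-module M' with, for every ring T and every pair of
maps R' ⇉ T agreeing on R, an isomorphism between the two base changes of M' to W_n(T), natural in T
and satisfying the cocycle condition (equivalently an isomorphism over W_n(R' ⊗_R R') with the
cocycle condition over W_n(R' ⊗_R R' ⊗_R R')); base change W_n(R') ⊗_{W_n(R)} M of a W_n(R)-module M
carries the canonical such datum. Then for finitely generated projective W_n(R)-modules M and N, the
map sending a W_n(R)-linear map M → N to the induced morphism of canonical descent data is bijective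
(the functor to descent data is fully faithful on such modules). -/
theorem result (p : ℕ) [Fact p.Prime] (n : ℕ)
    (R R' : Type u) [CommRing R] [CommRing R'] [Algebra R R'] [Module.FaithfullyFlat R R']
    (hp : IsNilpotent (p : R))
    (M N : ModuleCat.{u} (TruncatedWittVector p n R))
    [Module.Finite (TruncatedWittVector p n R) M] [Module.Projective (TruncatedWittVector p n R) M]
    [Module.Finite (TruncatedWittVector p n R) N] [Module.Projective (TruncatedWittVector p n R) N] :
    Function.Bijective (fun φ : M ⟶ N =>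
      ((W4c3truncdispsmooth.wittModPF.{u} p n).toDescentData (fun _ : PUnit.{u + 1} => (CommRingCat.ofHom (algebraMap R R')).op)).map φ) := by
  exact ⟨inj_part p n R R' M N, surj_part p n R R' M N⟩

end Groth.Agent.S16223
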