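import Groth.Statements.S16225
import Mathlib

set_option autoImplicit false
open scoped TensorProduct
universe u v
open CAlg

namespace Groth.Agent.S16225


theorem descent_of_exact {A B Cc : Type*} [CommRing A] [CommRing B] [CommRing Cc] [Algebra A B]
    [Algebra A Cc] (ψ₁ ψ₂ : B →ₐ[A] Cc) (hinj : Function.Injective (algebraMap A B))
    (hex : ∀ y : B, ψ₁ y = ψ₂ y → y ∈ Set.range (algebraMap A B))
    (M : Type*) [AddCommGroup M] [Module A M] [Module.Flat A M] :
    Function.Injective (fun m : M => m ⊗ₜ[A] (1 : B)) ∧
      ∀ x : M ⊗[A] B, LinearMap.lTensor M ψ₁.toLinearMap x = LinearMap.lTensor M ψ₂.toLinearMap x →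
        x ∈ Set.range (fun m : M => m ⊗ₜ[A] (1 : B)) := by
  have hfun : (fun m : M => m ⊗ₜ[A] (1 : B)) =
      fun m => (Algebra.linearMap A B).lTensor M ((TensorProduct.rid A M).symm m) := by
    funext m
    simp
  have hexact : Function.Exact (Algebra.linearMap A B) (ψ₁.toLinearMap - ψ₂.toLinearMap) := by
    intro y
    constructor
    · intro hy
      rw [LinearMap.sub_apply, sub_eq_zero] at hy
      exact hex y hy
    · rintro ⟨a, rfl⟩
      simp
  have hexact' := Module.Flat.lTensor_exact M hexact
  constructor
  · rw [hfun]
    exact (Module.Flat.lTensor_preserves_injective_linearMap (M := M) (Algebra.linearMap A B)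
      hinj).comp (TensorProduct.rid A M).symm.injective
  · intro x hx
    have h0 : (ψ₁.toLinearMap - ψ₂.toLinearMap).lTensor M x = 0 := by
      rw [LinearMap.lTensor_sub, LinearMap.sub_apply, hx, sub_self]
    obtain ⟨y, rfl⟩ := (hexact' x).1 h0
    rw [hfun]
    exact ⟨TensorProduct.rid A M y, by simp⟩

/-- Let p be a prime, n a natural number and R → R' a faithfully flat homomorphism of commutative rings
in which p is nilpotent. Regard W_n(R') and W_n(R' ⊗_R R') as W_n(R)-algebras through the
componentwise maps induced by R → R' and R → R' ⊗_R R', and let ψ₁, ψ₂ : W_n(R') → W_n(R' ⊗_R R') be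
the componentwise maps induced by the two inclusions of R' (these are W_n(R)-algebra maps). Then for
every flat W_n(R)-module M the sequence 0 → M → M ⊗_{W_n(R)} W_n(R') ⇉ M ⊗_{W_n(R)} W_n(R' ⊗_R R')
is exact: m ↦ m ⊗ 1 is injective and its image is the equalizer of id ⊗ ψ₁ and id ⊗ ψ₂. (This is the
beginning, in degrees 0 and 1, of a complex continued by the higher tensor powers of R', which the
published proof asserts to be exact throughout; W_n(R) → W_n(R') is not flat in general, so this is
not faithfully flat descent.) -/
theorem result (p : ℕ) [Fact p.Prime] (n : ℕ)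
    (R R' : Type u) [CommRing R] [CommRing R'] [Algebra R R'] [Module.FaithfullyFlat R R']
    (hp : IsNilpotent (p : R))
    [Algebra (TruncatedWittVector p n R) (TruncatedWittVector p n R')]
    (h₁ : algebraMap (TruncatedWittVector p n R) (TruncatedWittVector p n R') = WittGrp.truncMap p n (algebraMap R R'))
    [Algebra (TruncatedWittVector p n R) (TruncatedWittVector p n (TensorProduct R R' R'))]
    (h₂ : algebraMap (TruncatedWittVector p n R) (TruncatedWittVector p n (TensorProduct R R' R')) =
      WittGrp.truncMap p n (algebraMap R (TensorProduct R R' R')))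
    (ψ₁ ψ₂ : TruncatedWittVector p n R' →ₐ[TruncatedWittVector p n R] TruncatedWittVector p n (TensorProduct R R' R'))
    (hψ₁ : (ψ₁ : TruncatedWittVector p n R' →+* TruncatedWittVector p n (TensorProduct R R' R')) =
      WittGrp.truncMap p n (Algebra.TensorProduct.includeLeftRingHom : R' →+* TensorProduct R R' R'))
    (hψ₂ : (ψ₂ : TruncatedWittVector p n R' →+* TruncatedWittVector p n (TensorProduct R R' R')) =
      WittGrp.truncMap p n ((Algebra.TensorProduct.includeRight : R' →ₐ[R] TensorProduct R R' R') : R' →+* TensorProduct R R' R'))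
    (M : Type v) [AddCommGroup M] [Module (TruncatedWittVector p n R) M] [Module.Flat (TruncatedWittVector p n R) M] :
    Function.Injective (fun m : M => m ⊗ₜ[TruncatedWittVector p n R] (1 : TruncatedWittVector p n R')) ∧
      ∀ x : M ⊗[TruncatedWittVector p n R] TruncatedWittVector p n R',
        LinearMap.lTensor M ψ₁.toLinearMap x = LinearMap.lTensor M ψ₂.toLinearMap x →
          x ∈ Set.range (fun m : M => m ⊗ₜ[TruncatedWittVector p n R] (1 : TruncatedWittVector p n R')) := by
  apply descent_of_exact ψ₁ ψ₂
  · -- injectivity of W_n(R) → W_n(R')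
    rw [h₁]
    intro a b hab
    apply TruncatedWittVector.ext
    intro i
    have := congrArg (fun z => z.coeff i) hab
    simp only [WittGrp.coeff_truncMap] at this
    exact FaithfulSMul.algebraMap_injective R R' this
  · intro y hy
    have h1 : ∀ z, ψ₁ z = WittGrp.truncMap p n
        (Algebra.TensorProduct.includeLeftRingHom : R' →+* TensorProduct R R' R') z := by
      intro z
      rw [← hψ₁]
      rfl
    have h2 : ∀ z, ψ₂ z = WittGrp.truncMap p n
        ((Algebra.TensorProduct.includeRight : R' →ₐ[R] TensorProduct R R' R') :
          R' →+* TensorProduct R R' R') z := by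
      intro z
      rw [← hψ₂]
      rfl
    rw [h1, h2] at hy
    have heff := Algebra.IsEffective.of_faithfullyFlat R R'
    have hcoef : ∀ i : Fin n, ∃ r : R, algebraMap R R' r = y.coeff i := by
      intro i
      have := congrArg (fun z => z.coeff i) hy
      simp only [WittGrp.coeff_truncMap] at this
      have h3 : Algebra.TensorProduct.includeLeftSubRight R R' (y.coeff i) = 0 := by
        rw [Algebra.TensorProduct.includeLeftSubRight_apply, sub_eq_zero]
        exact this
      obtain ⟨r, hr⟩ := (heff (y.coeff i)).1 h3
      exact ⟨r, hr⟩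
    choose r hr using hcoef
    refine ⟨TruncatedWittVector.mk p r, ?_⟩
    rw [h₁]
    apply TruncatedWittVector.ext
    intro i
    rw [WittGrp.coeff_truncMap, TruncatedWittVector.coeff_mk, hr]

end Groth.Agent.S16225
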