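import Groth.Statements.S1623
import Mathlib
import Groth.Agent.Lib.Helper28.BlowCover
import Groth.Agent.Lib.Lead.RLR2
import Groth.Agent.S0010

set_option autoImplicit false
universe u
open CategoryTheory CategoryTheory.Limits AlgebraicGeometry
open Resolve

namespace Groth.Agent.S1623

/-- Let A be a regular local ring of dimension two and b : X → Spec A a blowing up in the maximal ideal.
For every quasi-coherent O_X-module F and every p ≥ 2, H^p(X, F) = 0. -/
theorem result (A : Type u) [CommRing A] [IsRegularLocalRing A] (hA : ringKrullDim A = 2)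
    (X : Scheme.{u}) (b : X ⟶ Spec (CommRingCat.of A)) (hb : BlowUp.IsBlowUp b (Curv2.idealSheaf A (IsLocalRing.maximalIdeal A)))
    (F : X.Modules) (hF : Coh.IsQCoh F) (p : ℕ) (hp : 2 ≤ p) : Subsingleton (Coh.HH X F p) := by
  haveI := hF
  have hA' : ringKrullDim A = ((2 : ℕ) : WithBot ℕ∞) := hA
  have hrank : (IsLocalRing.maximalIdeal A).spanFinrank = 2 :=
    Groth.Agent.Lead.RLR.spanFinrank_maximalIdeal_eq_of_dim hA'
  have hfg : (IsLocalRing.maximalIdeal A).FG := IsNoetherian.noetherian _
  obtain ⟨s, hcard, hspan⟩ := Submodule.FG.exists_span_finset_card_eq_spanFinrank hfg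
  rw [hrank] at hcard
  obtain ⟨xs, hxsdef⟩ : ∃ xs : Fin 2 → A,
      xs = fun i => ((Finset.equivFinOfCardEq hcard).symm i : A) := ⟨_, rfl⟩
  have hxsrange : Set.range xs = (s : Set A) := by
    apply Set.eq_of_subset_of_subset
    · rintro _ ⟨i, rfl⟩
      rw [hxsdef]
      exact ((Finset.equivFinOfCardEq hcard).symm i).2
    · intro r hr
      refine ⟨Finset.equivFinOfCardEq hcard ⟨r, hr⟩, ?_⟩
      rw [hxsdef]
      simp
  have hxsspan : Ideal.span (Set.range xs) = IsLocalRing.maximalIdeal A := by
    rw [hxsrange]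
    exact hspan
  have hb' : BlowUp.IsBlowUp b
      (Groth.Agent.Helper28.BlowUpProj.𝓘 (IsLocalRing.maximalIdeal A)) := hb
  obtain ⟨U, hU, hcov⟩ := Groth.Agent.Helper28.BlowCover.exists_affine_cover
    (IsLocalRing.maximalIdeal A) xs hxsspan b hb'
  exact Groth.Agent.S0010.result X 2 U hU hcov
    (Groth.Agent.Helper28.BlowCover.isAffineOpen_inf_of_isBlowUp
      (IsLocalRing.maximalIdeal A) b hb') F p hp

end Groth.Agent.S1623
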