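import Groth.Statements.S16233
import Mathlib.RingTheory.AlgebraTower
import Mathlib.Tactic

set_option autoImplicit false
open NCTr

namespace Groth.Agent.S16233

theorem mk_mul_comm {A : Type*} [Ring A] (x y : A) :
    (QuotientAddGroup.mk (x * y) : NCTr.Abel A) = QuotientAddGroup.mk (y * x) := by
  rw [QuotientAddGroup.eq]
  apply AddSubgroup.subset_closure
  exact ⟨y, x, by abel⟩

theorem hsTrace_indep {A : Type*} [Ring A] {E : Type*} [AddCommGroup E] [Module A E]
    {κ κ' : Type*} [Fintype κ] [Fintype κ'] (c : Module.Basis κ A E) (d : Module.Basis κ' A E)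
    (u : E →ₗ[A] E) : NCTr.hsTrace c u = NCTr.hsTrace d u := by
  have h1 : ∀ i, c.repr (u (c i)) i = ∑ j, d.repr (c i) j * c.repr (u (d j)) i := by
    intro i
    conv_lhs => rw [← d.sum_repr (c i)]
    rw [map_sum, map_sum, Finsupp.finsetSum_apply]
    refine Finset.sum_congr rfl fun j _ => ?_
    rw [map_smul, map_smul, Finsupp.smul_apply, smul_eq_mul]
  have h2 : ∀ j, d.repr (u (d j)) j = ∑ i, c.repr (u (d j)) i * d.repr (c i) j := by
    intro j
    conv_lhs => rw [← c.sum_repr (u (d j))]
    rw [map_sum, Finsupp.finsetSum_apply]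
    refine Finset.sum_congr rfl fun i _ => ?_
    rw [map_smul, Finsupp.smul_apply, smul_eq_mul]
  unfold NCTr.hsTrace
  simp_rw [h1, h2]
  have : ∀ (s : Finset κ') (f : κ' → A),
      (QuotientAddGroup.mk (∑ j ∈ s, f j) : NCTr.Abel A) = ∑ j ∈ s, QuotientAddGroup.mk (f j) :=
    fun s f => map_sum (QuotientAddGroup.mk' (NCTr.commutatorSubgroup A)) f s
  have h' : ∀ (s : Finset κ) (f : κ → A),
      (QuotientAddGroup.mk (∑ j ∈ s, f j) : NCTr.Abel A) = ∑ j ∈ s, QuotientAddGroup.mk (f j) :=
    fun s f => map_sum (QuotientAddGroup.mk' (NCTr.commutatorSubgroup A)) f s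
  simp_rw [this, h']
  rw [Finset.sum_comm]
  refine Finset.sum_congr rfl fun j _ => Finset.sum_congr rfl fun i _ => ?_
  exact mk_mul_comm _ _

/-- Let Λ be a ring, not necessarily commutative, G a finite group, P a left Λ[G]-module with a finite
Λ[G]-basis b, regarded also as a Λ-module by restriction of scalars and equipped with any finite
Λ-basis c, and u a Λ[G]-linear endomorphism of P with diagonal matrix entries u_ii = (b.repr (u (b
i))) i in Λ[G]. Then the trace of u as a Λ-linear endomorphism, taken in Λ modulo additive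
commutators with respect to c, equals |G| times the class of the sum over i of the coefficients of
the identity element of G in the u_ii (that sum of coefficients is the value at the identity class
of the Λ[G]-trace of u, the G-trace of u). The source states this for P finitely generated
projective over Λ[G]; this row is the free case. -/
theorem result
    (Λ : Type*) [Ring Λ] (G : Type*) [Group G] [Fintype G]
    (P : Type*) [AddCommGroup P] [Module Λ P] [Module (MonoidAlgebra Λ G) P]
    [IsScalarTower Λ (MonoidAlgebra Λ G) P]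
    {ι κ : Type*} [Fintype ι] [Fintype κ]
    (b : Module.Basis ι (MonoidAlgebra Λ G) P) (c : Module.Basis κ Λ P)
    (u : P →ₗ[MonoidAlgebra Λ G] P) :
    NCTr.hsTrace c (u.restrictScalars Λ) =
      Fintype.card G • ∑ i, (QuotientAddGroup.mk ((b.repr (u (b i)) i).coeff 1) : NCTr.Abel Λ) := by
  classical
  rw [hsTrace_indep c ((MonoidAlgebra.basis G Λ).smulTower b)]
  unfold NCTr.hsTrace
  rw [Fintype.sum_prod_type]
  have key : ∀ (g : G) (i : ι),
      ((MonoidAlgebra.basis G Λ).smulTower b).repr
        ((u.restrictScalars Λ) (((MonoidAlgebra.basis G Λ).smulTower b) (g, i))) (g, i) =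
        (b.repr (u (b i)) i).coeff 1 := by
    intro g i
    rw [Module.Basis.smulTower_repr_mk, Module.Basis.smulTower_apply]
    simp only [LinearMap.coe_restrictScalars, MonoidAlgebra.basis_apply, map_smul,
      Finsupp.smul_apply, smul_eq_mul]
    show ((MonoidAlgebra.single g (1:Λ)) * (b.repr (u (b i)) i)).coeff g = _
    rw [MonoidAlgebra.coeff_single_mul_apply]
    simp
  simp_rw [key]
  rw [Finset.sum_const, Finset.card_univ]

end Groth.Agent.S16233
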