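import Groth.Statements.S16234
import Mathlib.RingTheory.HopkinsLevitzki
import Mathlib.RingTheory.KrullDimension.Basic
import Mathlib.Algebra.Module.Torsion.Basic
import Mathlib.RingTheory.Artinian.Module

set_option autoImplicit false
universe u v
open CAlg

namespace Groth.Agent.S16234

/-- For a finitely generated module M over a Noetherian commutative ring A, every prime ideal in the
support of M is a maximal ideal if and only if M has finite length. -/
theorem result (A : Type u) [CommRing A] [IsNoetherianRing A]
    (M : Type v) [AddCommGroup M] [Module A M] [Module.Finite A M] :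
    (∀ p ∈ Module.support A M, p.asIdeal.IsMaximal) ↔ IsFiniteLength A M := by
  classical
  set I := Module.annihilator A M with hI
  letI : Module (A ⧸ I) M := Module.quotientAnnihilator
  haveI : IsScalarTower A (A ⧸ I) M := (Module.isTorsionBySet_annihilator A M).isScalarTower
  rw [Module.support_eq_zeroLocus]
  constructor
  · intro h
    haveI : IsNoetherianRing (A ⧸ I) := isNoetherianRing_of_surjective A (A ⧸ I) (Ideal.Quotient.mk I) Ideal.Quotient.mk_surjective
    haveI : IsArtinianRing (A ⧸ I) := by
      rw [isArtinianRing_iff_krullDimLE_zero, Ring.krullDimLE_zero_iff]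
      intro J hJ
      have hJc : (J.comap (Ideal.Quotient.mk I)).IsPrime := Ideal.comap_isPrime _ J
      have hIle : I ≤ J.comap (Ideal.Quotient.mk I) := by
        intro a ha
        rw [Ideal.mem_comap, Ideal.Quotient.eq_zero_iff_mem.mpr ha]
        exact J.zero_mem
      have hmax := h ⟨J.comap (Ideal.Quotient.mk I), hJc⟩ (by
        rw [PrimeSpectrum.mem_zeroLocus]; exact hIle)
      have : J = (J.comap (Ideal.Quotient.mk I)).map (Ideal.Quotient.mk I) :=
        (Ideal.map_comap_of_surjective _ Ideal.Quotient.mk_surjective J).symm
      rw [this]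
      have hJp : J.IsPrime := hJ
      rcases Ideal.map_eq_top_or_isMaximal_of_surjective (Ideal.Quotient.mk I) Ideal.Quotient.mk_surjective hmax with h1 | h1
      · exfalso
        rw [← this] at h1
        exact hJp.ne_top h1
      · exact h1
    haveI : Module.Finite (A ⧸ I) M := @Module.Finite.of_restrictScalars_finite A (A ⧸ I) M _ _ _ _ _ _ _ inferInstance
    have hfl : IsFiniteLength (A ⧸ I) M := ((IsArtinianRing.tfae (A ⧸ I) M).out 0 3).mp this
    rw [isFiniteLength_iff_isNoetherian_isArtinian] at hfl ⊢
    haveI := hfl.2
    exact ⟨inferInstance, isArtinian_of_surjective_algebraMap (R := A ⧸ I) (S := A)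
      Ideal.Quotient.mk_surjective⟩
  · intro hfl p hp
    rw [isFiniteLength_iff_isNoetherian_isArtinian] at hfl
    haveI := hfl.2
    obtain ⟨s, hs⟩ := (Module.Finite.fg_top : (⊤ : Submodule A M).FG)
    -- embedding A/I → (s → M)
    let φ : A →ₗ[A] (s → M) := LinearMap.pi fun m => LinearMap.toSpanSingleton A M (m : M)
    have hker : LinearMap.ker φ = I := by
      ext a
      rw [LinearMap.mem_ker]
      constructor
      · intro ha
        rw [hI, Module.mem_annihilator]
        intro m
        have hm : m ∈ Submodule.span A (s : Set M) := by rw [hs]; trivial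
        induction hm using Submodule.span_induction with
        | mem x hx =>
          have := congrFun ha ⟨x, hx⟩
          simpa [φ] using this
        | zero => simp
        | add x y _ _ hx hy => rw [smul_add, hx, hy, add_zero]
        | smul c x _ hx => rw [smul_comm, hx, smul_zero]
      · intro ha
        ext m
        simp only [φ, LinearMap.pi_apply, LinearMap.toSpanSingleton_apply, Pi.zero_apply]
        exact Module.mem_annihilator.mp ha _
    let ψ : (A ⧸ I) →ₗ[A] (s → M) := I.liftQ φ (le_of_eq hker.symm)
    have hψ : Function.Injective ψ := by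
      rw [← LinearMap.ker_eq_bot]
      exact Submodule.ker_liftQ_eq_bot _ _ _ (le_of_eq hker)
    haveI : IsArtinian A (A ⧸ I) := isArtinian_of_injective ψ hψ
    haveI : IsArtinianRing (A ⧸ I) := isArtinian_of_tower A (inferInstance : IsArtinian A (A ⧸ I))
    rw [PrimeSpectrum.mem_zeroLocus] at hp
    have hIp : I ≤ p.asIdeal := hp
    have hprime : (p.asIdeal.map (Ideal.Quotient.mk I)).IsPrime :=
      Ideal.map_isPrime_of_surjective Ideal.Quotient.mk_surjective (by rw [Ideal.mk_ker]; exact hIp)
    have hmax : (p.asIdeal.map (Ideal.Quotient.mk I)).IsMaximal := IsArtinianRing.isMaximal_of_isPrime _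
    have : p.asIdeal = (p.asIdeal.map (Ideal.Quotient.mk I)).comap (Ideal.Quotient.mk I) := by
      rw [Ideal.comap_map_of_surjective _ Ideal.Quotient.mk_surjective, ← RingHom.ker_eq_comap_bot,
        Ideal.mk_ker, sup_eq_left.mpr hIp]
    rw [this]
    exact Ideal.comap_isMaximal_of_surjective _ Ideal.Quotient.mk_surjective

end Groth.Agent.S16234
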