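import Groth.Statements.S16235
import Mathlib.RingTheory.KrullDimension.Regular
import Mathlib.RingTheory.Regular.Flat
import Mathlib.RingTheory.Ideal.KrullsHeightTheorem

set_option autoImplicit false
universe u
open CAlg

namespace Groth.Agent.S16235

/-- Let A be a Noetherian commutative ring and x_1, …, x_r a regular sequence on A (each x_i a
non-zero-divisor on A/(x_1, …, x_{i-1})) generating an ideal I ≠ A. Then the height of I, the
infimum of the heights of the minimal primes over I, equals r. -/
theorem result (A : Type u) [CommRing A] [IsNoetherianRing A]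
    (r : ℕ) (x : Fin r → A) (hx : RingTheory.Sequence.IsWeaklyRegular A (List.ofFn x))
    (hI : Ideal.span (Set.range x) ≠ ⊤) :
    (Ideal.span (Set.range x)).height = r := by
  classical
  set I := Ideal.span (Set.range x) with hIdef
  apply le_antisymm
  · -- upper bound via Krull's height theorem
    obtain ⟨p, hp⟩ := Ideal.nonempty_minimalPrimes hI
    haveI : p.IsPrime := hp.1.1
    calc I.height ≤ p.height := Ideal.height_mono hp.1.2
      _ ≤ ((Set.range x).ncard : ℕ∞) :=
        Ideal.height_le_card_of_mem_minimalPrimes_span (Set.finite_range x) hp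
      _ ≤ r := by
        have h1 : (Set.range x).ncard ≤ (Set.univ : Set (Fin r)).ncard := by
          rw [← Set.image_univ]
          exact Set.ncard_image_le Set.finite_univ
        have h2 : (Set.univ : Set (Fin r)).ncard = r := by
          rw [Set.ncard_univ]; simp
        rw [h2] at h1
        exact_mod_cast h1
  · rw [Ideal.height_eq_inf_minimalPrimes]
    apply le_iInf₂
    intro p hp
    haveI : p.IsPrime := hp.1.1
    have hIp : I ≤ p := hp.1.2
    have hmem : ∀ a ∈ List.ofFn x, a ∈ p := by
      intro a ha
      rw [List.mem_ofFn] at ha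
      obtain ⟨i, rfl⟩ := ha
      exact hIp (Ideal.subset_span ⟨i, rfl⟩)
    have hreg := hx.isRegular_of_isLocalization_of_mem (Localization.AtPrime p) p hmem
    haveI : IsLocalRing (Localization.AtPrime p) := inferInstance
    have hdim := ringKrullDim_add_length_eq_ringKrullDim_of_isRegular _ hreg
    rw [IsLocalization.AtPrime.ringKrullDim_eq_height p (Localization.AtPrime p)] at hdim
    have hnt : Nontrivial (Localization.AtPrime p ⧸
        Ideal.ofList ((List.ofFn x).map (algebraMap A (Localization.AtPrime p)))) := by
      apply Ideal.Quotient.nontrivial_iff.mpr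
      intro htop
      apply hreg.2
      rw [htop]
      simp
    have h0 : (0 : WithBot ℕ∞) ≤ ringKrullDim (Localization.AtPrime p ⧸
        Ideal.ofList ((List.ofFn x).map (algebraMap A (Localization.AtPrime p)))) :=
      ringKrullDim_nonneg_of_nontrivial
    have hlen : ((List.ofFn x).map (algebraMap A (Localization.AtPrime p))).length = r := by simp
    rw [hlen] at hdim
    have h1 : ((r : ℕ∞) : WithBot ℕ∞) ≤ (p.height : WithBot ℕ∞) := by
      rw [← hdim]
      calc ((r : ℕ∞) : WithBot ℕ∞) = 0 + ((r : ℕ) : WithBot ℕ∞) := by simp
        _ ≤ _ := by gcongr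
    exact_mod_cast h1

end Groth.Agent.S16235
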