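import Groth.Statements.S16244
import Mathlib.RingTheory.RootsOfUnity.AlgebraicallyClosed
import Mathlib.RingTheory.RootsOfUnity.EnoughRootsOfUnity
import Mathlib.Tactic

set_option autoImplicit false
universe u
open Curves

namespace Groth.Agent.S16244

open WeierstrassCurve

theorem mem_stab_iff {k : Type u} [Field k] (h2 : (2 : k) ≠ 0) (h3 : (3 : k) ≠ 0)
    (W : WeierstrassCurve k) [W.IsShortNF] (C : VariableChange k) :
    C ∈ MulAction.stabilizer (VariableChange k) W ↔
      C.r = 0 ∧ C.s = 0 ∧ C.t = 0 ∧ ((C.u⁻¹ : kˣ) : k) ^ 4 * W.a₄ = W.a₄ ∧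
        ((C.u⁻¹ : kˣ) : k) ^ 6 * W.a₆ = W.a₆ := by
  rw [MulAction.mem_stabilizer_iff]
  have hu : ((C.u⁻¹ : kˣ) : k) ≠ 0 := Units.ne_zero _
  constructor
  · intro h
    have e1 := congrArg WeierstrassCurve.a₁ h
    have e2 := congrArg WeierstrassCurve.a₂ h
    have e3 := congrArg WeierstrassCurve.a₃ h
    have e4 := congrArg WeierstrassCurve.a₄ h
    have e6 := congrArg WeierstrassCurve.a₆ h
    rw [variableChange_a₁] at e1
    rw [variableChange_a₂] at e2
    rw [variableChange_a₃] at e3
    rw [variableChange_a₄] at e4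
    rw [variableChange_a₆] at e6
    simp only [a₁_of_isShortNF, a₂_of_isShortNF, a₃_of_isShortNF] at e1 e2 e3 e4 e6
    have hs : C.s = 0 := by
      rcases mul_eq_zero.mp e1 with h | h
      · exact absurd h hu
      · have : 2 * C.s = 0 := by linear_combination h
        rcases mul_eq_zero.mp this with h | h
        · exact absurd h h2
        · exact h
    rw [hs] at e2
    have hr : C.r = 0 := by
      rcases mul_eq_zero.mp e2 with h | h
      · exact absurd (pow_eq_zero_iff (by norm_num) |>.mp h) hu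
      · have : 3 * C.r = 0 := by linear_combination h
        rcases mul_eq_zero.mp this with h | h
        · exact absurd h h3
        · exact h
    rw [hr] at e3
    have ht : C.t = 0 := by
      rcases mul_eq_zero.mp e3 with h | h
      · exact absurd (pow_eq_zero_iff (by norm_num) |>.mp h) hu
      · have : 2 * C.t = 0 := by linear_combination h
        rcases mul_eq_zero.mp this with h | h
        · exact absurd h h2
        · exact h
    rw [hs, hr, ht] at e4
    rw [hr, ht] at e6
    refine ⟨hr, hs, ht, ?_, ?_⟩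
    · linear_combination e4
    · linear_combination e6
  · rintro ⟨hr, hs, ht, e4, e6⟩
    ext
    · rw [variableChange_a₁, hs, a₁_of_isShortNF]; ring
    · rw [variableChange_a₂, hs, hr, a₁_of_isShortNF, a₂_of_isShortNF]; ring
    · rw [variableChange_a₃, hr, ht, a₁_of_isShortNF, a₃_of_isShortNF]; ring
    · rw [variableChange_a₄, hr, hs, ht, a₁_of_isShortNF, a₂_of_isShortNF, a₃_of_isShortNF]
      linear_combination e4
    · rw [variableChange_a₆, hr, ht, a₁_of_isShortNF, a₂_of_isShortNF, a₃_of_isShortNF]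
      linear_combination e6

/-- the stabilizer is the group of `n`-th roots of unity when the conditions reduce to `u^n = 1`. -/
noncomputable def stabEquiv {k : Type u} [Field k] (h2 : (2 : k) ≠ 0) (h3 : (3 : k) ≠ 0)
    (W : WeierstrassCurve k) [W.IsShortNF] (n : ℕ)
    (hn : ∀ u : kˣ, (((u⁻¹ : kˣ) : k) ^ 4 * W.a₄ = W.a₄ ∧ ((u⁻¹ : kˣ) : k) ^ 6 * W.a₆ = W.a₆) ↔
      u ^ n = 1) :
    ↥(MulAction.stabilizer (VariableChange k) W) ≃* ↥(rootsOfUnity n k) where
  toFun C := ⟨C.1.u, by
    rw [mem_rootsOfUnity]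
    have := (mem_stab_iff h2 h3 W C.1).mp C.2
    exact (hn C.1.u).mp ⟨this.2.2.2.1, this.2.2.2.2⟩⟩
  invFun u := ⟨⟨u.1, 0, 0, 0⟩, by
    rw [mem_stab_iff h2 h3 W]
    have := (hn u.1).mpr ((mem_rootsOfUnity _ _).mp u.2)
    exact ⟨rfl, rfl, rfl, this.1, this.2⟩⟩
  left_inv C := by
    have := (mem_stab_iff h2 h3 W C.1).mp C.2
    apply Subtype.ext
    ext
    · rfl
    · exact this.1.symm
    · exact this.2.1.symm
    · exact this.2.2.1.symm
  right_inv u := rfl
  map_mul' C C' := rfl

/-- Let k be an algebraically closed field in which 2 and 3 are nonzero, and W a short Weierstrass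
equation y² = x³ + a₄x + a₆ over k with nonzero discriminant. The admissible changes of variables
(u, r, s, t) that fix W form a cyclic group, of order 6 when a₄ = 0, of order 4 when a₆ = 0, and of
order 2 when a₄ and a₆ are both nonzero. (The published statement says the automorphism group of the
elliptic curve is cyclic of order 2, 4 or 6; the automorphisms are rendered here as the changes of
variables preserving the equation, and the case distinction is the one the computation gives.) -/
theorem result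
    (k : Type u) [Field k] [IsAlgClosed k] (h2 : (2 : k) ≠ 0) (h3 : (3 : k) ≠ 0)
    (W : WeierstrassCurve k) [W.IsShortNF] (hΔ : W.Δ ≠ 0) :
    IsCyclic ↥(MulAction.stabilizer (WeierstrassCurve.VariableChange k) W) ∧
      (W.a₄ = 0 → Nat.card ↥(MulAction.stabilizer (WeierstrassCurve.VariableChange k) W) = 6) ∧
      (W.a₆ = 0 → Nat.card ↥(MulAction.stabilizer (WeierstrassCurve.VariableChange k) W) = 4) ∧
      (W.a₄ ≠ 0 → W.a₆ ≠ 0 → Nat.card ↥(MulAction.stabilizer (WeierstrassCurve.VariableChange k) W) = 2) := by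
  have hΔ' : 4 * W.a₄ ^ 3 + 27 * W.a₆ ^ 2 ≠ 0 := by
    intro h
    apply hΔ
    rw [WeierstrassCurve.Δ_of_isShortNF, h, mul_zero]
  have key : ∀ (n : ℕ) [NeZero (n : k)],
      (∀ u : kˣ, (((u⁻¹ : kˣ) : k) ^ 4 * W.a₄ = W.a₄ ∧ ((u⁻¹ : kˣ) : k) ^ 6 * W.a₆ = W.a₆) ↔
        u ^ n = 1) →
      IsCyclic ↥(MulAction.stabilizer (WeierstrassCurve.VariableChange k) W) ∧
        Nat.card ↥(MulAction.stabilizer (WeierstrassCurve.VariableChange k) W) = n := by
    intro n _ hn
    have : NeZero n := .of_neZero_natCast k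
    let e := stabEquiv h2 h3 W n hn
    refine ⟨isCyclic_of_surjective e.symm e.symm.surjective, ?_⟩
    rw [Nat.card_congr e.toEquiv]
    exact HasEnoughRootsOfUnity.natCard_rootsOfUnity k n
  -- helper: inverse power equations
  have hinv : ∀ (u : kˣ) (m : ℕ), ((u⁻¹ : kˣ) : k) ^ m = 1 ↔ u ^ m = 1 := by
    intro u m
    rw [← Units.val_pow_eq_pow_val, Units.val_eq_one, inv_pow, inv_eq_one]
  have h6 : ((6 : ℕ) : k) ≠ 0 := by
    have : ((6 : ℕ) : k) = 2 * 3 := by norm_num
    rw [this]; exact mul_ne_zero h2 h3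
  have h4 : ((4 : ℕ) : k) ≠ 0 := by
    have : ((4 : ℕ) : k) = 2 * 2 := by norm_num
    rw [this]; exact mul_ne_zero h2 h2
  have h2' : ((2 : ℕ) : k) ≠ 0 := by
    have : ((2 : ℕ) : k) = 2 := by norm_num
    rw [this]; exact h2
  by_cases ha4 : W.a₄ = 0
  · have ha6 : W.a₆ ≠ 0 := by
      intro h; apply hΔ'; rw [ha4, h]; ring
    have : NeZero ((6 : ℕ) : k) := ⟨h6⟩
    have k6 := key 6 (by
      intro u
      rw [ha4, mul_zero, ← hinv u 6]
      constructor
      · rintro ⟨-, h⟩
        exact mul_right_cancel₀ ha6 (by rw [h, one_mul])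
      · intro h
        exact ⟨rfl, by rw [h, one_mul]⟩)
    exact ⟨k6.1, fun _ => k6.2, fun h => absurd h ha6, fun h => absurd ha4 h⟩
  · by_cases ha6 : W.a₆ = 0
    · have : NeZero ((4 : ℕ) : k) := ⟨h4⟩
      have k4 := key 4 (by
        intro u
        rw [ha6, mul_zero, ← hinv u 4]
        constructor
        · rintro ⟨h, -⟩
          exact mul_right_cancel₀ ha4 (by rw [h, one_mul])
        · intro h
          exact ⟨by rw [h, one_mul], rfl⟩)
      exact ⟨k4.1, fun h => absurd h ha4, fun _ => k4.2, fun _ h => absurd ha6 h⟩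
    · have : NeZero ((2 : ℕ) : k) := ⟨h2'⟩
      have k2 := key 2 (by
        intro u
        rw [← hinv u 2]
        constructor
        · rintro ⟨h4e, h6e⟩
          have e4 : ((u⁻¹ : kˣ) : k) ^ 4 = 1 := mul_right_cancel₀ ha4 (by rw [h4e, one_mul])
          have e6 : ((u⁻¹ : kˣ) : k) ^ 6 = 1 := mul_right_cancel₀ ha6 (by rw [h6e, one_mul])
          have : ((u⁻¹ : kˣ) : k) ^ 6 = ((u⁻¹ : kˣ) : k) ^ 4 * ((u⁻¹ : kˣ) : k) ^ 2 := by ring
          rw [e6, e4, one_mul] at this
          exact this.symm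
        · intro h
          have e4 : ((u⁻¹ : kˣ) : k) ^ 4 = 1 := by
            have : ((u⁻¹ : kˣ) : k) ^ 4 = (((u⁻¹ : kˣ) : k) ^ 2) ^ 2 := by ring
            rw [this, h, one_pow]
          have e6 : ((u⁻¹ : kˣ) : k) ^ 6 = 1 := by
            have : ((u⁻¹ : kˣ) : k) ^ 6 = (((u⁻¹ : kˣ) : k) ^ 2) ^ 3 := by ring
            rw [this, h, one_pow]
          exact ⟨by rw [e4, one_mul], by rw [e6, one_mul]⟩)
      exact ⟨k2.1, fun h => absurd h ha4, fun h => absurd h ha6, fun _ _ => k2.2⟩

end Groth.Agent.S16244
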