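import Groth.Statements.S16251
import Groth.Agent.S0140
import Groth.Agent.S0141
import Groth.Agent.S0132
import Groth.Agent.S0131

set_option autoImplicit false
open CategoryTheory CategoryTheory.Limits AlgebraicGeometry Opposite
universe u
open EtPBC

namespace Groth.Agent.S16251

section helpers
open Groth.Agent.Helper10.LcStrata

section Abstract

universe w v' u'

variable {𝒞 : Type u'} [Category.{v'} 𝒞] [Abelian 𝒞] {A : Type w} [CommRing A] [Linear A 𝒞]

lemma epi_of_isQuot {I : Ideal A} {X Q : 𝒞} (p : X ⟶ Q) (hp : ARSys.IsQuot I p) : Epi p := by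
  constructor
  intro Z g h hgh
  have hk : ARSys.HomKilledBy I (p ≫ g) := by
    intro a ha
    have := hp.1 a ha
    calc a • (p ≫ g) = p ≫ (a • 𝟙 Q) ≫ g := by simp
      _ = 0 := by rw [this]; simp
  obtain ⟨ψ, -, hu⟩ := hp.2 Z (p ≫ g) hk
  rw [hu g rfl, hu h hgh.symm]

/-- the step of an adic system for a principal ideal: the kernel of `X_{n+1} ⟶ X_n` is a quotient
of `X_0`. -/
theorem exists_epi_kernel (a : A) (X : ARSys.PS 𝒞) (hX : ARSys.IsAdic (Ideal.span {a}) X) (n : ℕ) :
    Epi (ARSys.tr X (Nat.le_succ n)) ∧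
    ∃ k : X.obj (op 0) ⟶ kernel (ARSys.tr X (Nat.le_succ n)), Epi k := by
  set J := Ideal.span {a} with hJ
  set p := ARSys.tr X (Nat.le_succ n) with hp_def
  have hp : ARSys.IsQuot (J ^ (n + 1)) p := hX.2 n (n + 1) (Nat.le_succ n)
  set q₀ := ARSys.tr X (Nat.zero_le (n + 1)) with hq_def
  have hq₀ : ARSys.IsQuot (J ^ (0 + 1)) q₀ := hX.2 0 (n + 1) (Nat.zero_le _)
  have hpe : Epi p := epi_of_isQuot p hp
  have hqe : Epi q₀ := epi_of_isQuot q₀ hq₀
  refine ⟨hpe, ?_⟩
  let μ : X.obj (op (n + 1)) ⟶ X.obj (op (n + 1)) := a ^ (n + 1) • 𝟙 _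
  have hkill : ARSys.KilledBy (J ^ (n + 1 + 1)) (X.obj (op (n + 1))) := hX.1 (n + 1)
  have h1 : ARSys.HomKilledBy (J ^ (0 + 1)) μ := by
    intro b hb
    rw [zero_add, pow_one, hJ, Ideal.mem_span_singleton'] at hb
    obtain ⟨c, rfl⟩ := hb
    have h2 : a ^ (n + 1 + 1) ∈ J ^ (n + 1 + 1) := Ideal.pow_mem_pow (Ideal.mem_span_singleton_self a) _
    have h3 := hkill _ h2
    calc (c * a) • μ = c • ((a ^ (n + 1 + 1)) • 𝟙 (X.obj (op (n + 1)))) := by
          simp only [μ, smul_smul]
          congr 1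
          ring
      _ = 0 := by rw [h3, smul_zero]
  obtain ⟨ψ₀, hψ₀, -⟩ := hq₀.2 _ μ h1
  have hμp : μ ≫ p = 0 := by
    have h2 : a ^ (n + 1) ∈ J ^ (n + 1) := Ideal.pow_mem_pow (Ideal.mem_span_singleton_self a) _
    have h3 := hp.1 _ h2
    calc μ ≫ p = p ≫ (a ^ (n + 1) • 𝟙 _) := by simp [μ]
      _ = 0 := by rw [h3, comp_zero]
  have hψp : ψ₀ ≫ p = 0 := by
    rw [← cancel_epi q₀, ← Category.assoc, hψ₀, hμp, comp_zero]
  let k := kernel.lift p ψ₀ hψp
  refine ⟨k, ?_⟩
  -- the cokernel of μ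
  have hπk : ARSys.HomKilledBy (J ^ (n + 1)) (cokernel.π μ) := by
    intro b hb
    rw [hJ, Ideal.span_singleton_pow, Ideal.mem_span_singleton'] at hb
    obtain ⟨c, rfl⟩ := hb
    calc (c * a ^ (n + 1)) • cokernel.π μ = c • (μ ≫ cokernel.π μ) := by
          simp only [μ, Linear.smul_comp, Category.id_comp, smul_smul]
      _ = 0 := by rw [cokernel.condition, smul_zero]
  obtain ⟨ψ, hψ, -⟩ := hp.2 _ (cokernel.π μ) hπk
  have hιπ : kernel.ι p ≫ cokernel.π μ = 0 := by
    rw [← hψ, ← Category.assoc, kernel.condition, zero_comp]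
  rw [epi_iff_surjective_up_to_refinements]
  intro A₀ x
  have hex : (ShortComplex.mk μ (cokernel.π μ) (cokernel.condition μ)).Exact :=
    ShortComplex.exact_cokernel μ
  rw [ShortComplex.exact_iff_exact_up_to_refinements] at hex
  obtain ⟨A', π', hπ', z, hz⟩ := hex (x ≫ kernel.ι p) (by
    dsimp
    rw [Category.assoc, hιπ, comp_zero])
  dsimp at z hz
  refine ⟨A', π', hπ', z ≫ q₀, ?_⟩
  rw [← cancel_mono (kernel.ι p), Category.assoc, hz, Category.assoc, Category.assoc,
    kernel.lift_ι, hψ₀]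

end Abstract

/-- subsheaves of constructible sheaves are constructible, locally Noetherian version. -/
theorem sub_constructible (X : Scheme.{u}) [IsLocallyNoetherian X]
    {F G : EtCoh.Ab X} (ι : G ⟶ F) [Mono ι] (hF : EtPBC.IsConstructible F) :
    EtPBC.IsConstructible G := by
  rw [Groth.Agent.S8527.result]
  intro x
  obtain ⟨V₁, T₁, g₁, hg₁, hxV₁, hr₁, hl₁⟩ := (Groth.Agent.S8527.result F).1 hF x
  have : IsLocallyNoetherian T₁ := LocallyOfFiniteType.isLocallyNoetherian g₁
  obtain ⟨t₀, ht₀x⟩ : x ∈ Set.range g₁ := by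
    rw [hr₁]
    exact ⟨hxV₁, subset_closure rfl⟩
  have hgen : ∀ u : Set T₁, IsOpen u → u.Nonempty → t₀ ∈ u := by
    rintro u hu ⟨t, ht⟩
    obtain ⟨u', hu', rfl⟩ := g₁.isEmbedding.isInducing.isOpen_iff.1 hu
    have h1 : g₁ t ∈ closure {x} := by
      have : g₁ t ∈ Set.range g₁ := ⟨t, rfl⟩
      rw [hr₁] at this
      exact this.2
    obtain ⟨z, hz, hzx⟩ := mem_closure_iff.1 h1 u' hu' ht
    rw [Set.mem_singleton_iff] at hzx
    show g₁ t₀ ∈ u'
    rw [ht₀x, ← hzx]
    exact hz
  have hpfl : PreservesFiniteLimits (EtCoh.pull g₁) := Groth.Agent.S0101.result g₁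
  have : Mono ((EtCoh.pull g₁).map ι) := inferInstance
  obtain ⟨T', ht₀, hflc⟩ := Groth.Agent.S0140.generic_sub_flc t₀ hgen ((EtCoh.pull g₁).map ι) hl₁
  obtain ⟨O, hO, hOT'⟩ := g₁.isEmbedding.isInducing.isOpen_iff.1 T'.isOpen
  refine ⟨⟨O, hO⟩ ⊓ V₁, T', T'.ι ≫ g₁, inferInstance, ⟨?_, hxV₁⟩, ?_, ?_⟩
  · have : t₀ ∈ g₁ ⁻¹' O := by
      rw [hOT']
      exact ht₀
    rw [← ht₀x]
    exact this
  · rw [Scheme.Hom.comp_base, TopCat.coe_comp, Set.range_comp, Scheme.Opens.range_ι, ← hOT',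
      Set.image_preimage_eq_inter_range]
    have hr₁' : Set.range g₁ = (V₁ : Set X) ∩ closure {x} := hr₁
    rw [hr₁']
    ext z
    simp only [Set.mem_inter_iff, TopologicalSpace.Opens.coe_inf, TopologicalSpace.Opens.coe_mk]
    tauto
  · exact isFLC_of_iso ((EtCore.pullComp T'.ι g₁).app G).symm hflc

/-- quotients of constructible sheaves are constructible, locally Noetherian version. -/
theorem quot_constructible (X : Scheme.{u}) [IsLocallyNoetherian X]
    {F Q : EtCoh.Ab X} (π : F ⟶ Q) [Epi π] (hF : EtPBC.IsConstructible F) :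
    EtPBC.IsConstructible Q := by
  have hK : EtPBC.IsConstructible (kernel π) := sub_constructible X (kernel.ι π) hF
  have hC := (Groth.Agent.S0131.main (kernel.ι π) hK hF).2
  have hcok := Abelian.epiIsCokernelOfKernel (f := π) _ (limit.isLimit _)
  let e : cokernel (kernel.ι π) ≅ Q :=
    IsColimit.coconePointUniqueUpToIso (colimit.isColimit _) hcok
  exact Groth.Agent.S0141.isConstructible_of_iso e hC

theorem main (ℓ : ℕ)
    (X : Scheme.{u}) [IsLocallyNoetherian X]
    (F : ARSys.PS (EtCoh.Ab X)) (hF : ARSys.IsAdic (Ideal.span {(ℓ : ℤ)}) F)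
    (h0 : EtPBC.IsConstructible (F.obj (op 0))) (n : ℕ) :
    EtPBC.IsConstructible (F.obj (op n)) := by
  induction n with
  | zero => exact h0
  | succ n ih =>
    obtain ⟨hpe, k, hk⟩ := exists_epi_kernel (ℓ : ℤ) F hF n
    have hK : EtPBC.IsConstructible (kernel (ARSys.tr F (Nat.le_succ n))) :=
      quot_constructible X k h0
    let S : ShortComplex (EtCoh.Ab X) :=
      ShortComplex.mk (kernel.ι (ARSys.tr F (Nat.le_succ n))) (ARSys.tr F (Nat.le_succ n))
        (kernel.condition _)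
    have hS : S.ShortExact :=
      { exact := ShortComplex.exact_kernel _
        mono_f := inferInstanceAs (Mono (kernel.ι _))
        epi_g := hpe }
    exact Groth.Agent.S0132.main S hS hK ih

end helpers

/-- Let ℓ be a prime, X a locally Noetherian scheme and F = (F_n) an ℓ-adic projective system of abelian
sheaves on the small étale site of X, indexed from 0 (so ℓ^(n+1) F_n = 0 and, for n ≤ m, the
transition map F_m ⟶ F_n is a quotient map modulo ℓ^(n+1)). If the first member F_0 is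
constructible, then every member F_n is constructible. (The converse is trivial. The published
statement indexes the system from 1, with ℓ^n killing the n-th member; the statement here indexes it
from 0.) -/
theorem result (ℓ : ℕ) [Fact ℓ.Prime]
    (X : Scheme.{u}) [IsLocallyNoetherian X]
    (F : ARSys.PS (EtCoh.Ab X)) (hF : ARSys.IsAdic (Ideal.span {(ℓ : ℤ)}) F)
    (h0 : EtPBC.IsConstructible (F.obj (op 0))) (n : ℕ) :
    EtPBC.IsConstructible (F.obj (op n)) := by
  exact main ℓ X F hF h0 n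

end Groth.Agent.S16251
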