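import Groth.Statements.S16259
import Groth.Agent.Lib.Helper20.BinomODE

set_option autoImplicit false
open W4c3wronskmg

namespace Groth.Agent.S16259


open Polynomial in
theorem result
    (k : Type*) [Field k] [CharZero k] (i j n : ℕ) (hi : 0 < i) (hj : 0 < j) (c : k) (hc0 : c ≠ 0) (hc1 : c ≠ 1) :
    Polynomial.rootMultiplicity c
      (∑ l ∈ Finset.range (n + 1),
        Polynomial.C (((i.choose l) * (j.choose (n - l)) : ℕ) : k) * Polynomial.X ^ (n - l)) ≤ 1 := by
  exact Groth.Agent.Lib.Helper20.BinomODE.main i j n c hc0 hc1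

end Groth.Agent.S16259
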