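import Groth.Statements.S16261
import Mathlib.Tactic
import Mathlib.Algebra.Polynomial.Derivative
import Mathlib.Algebra.Polynomial.Monic
import Mathlib.Algebra.Polynomial.Degree.Support
import Mathlib.Algebra.Polynomial.Degree.Lemmas
import Mathlib.Algebra.Polynomial.Degree.Domain
import Mathlib.Algebra.Polynomial.RingDivision
import Mathlib.RingTheory.Polynomial.Basic
import Mathlib.LinearAlgebra.FiniteDimensional.Basic

set_option autoImplicit false
open W4c3wronskmg

namespace Groth.Agent.S16261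

open Polynomial

theorem exists_N_B {k : Type*} [Field k] [CharZero k] (s : ℕ) (B : k[X])
    (hB : B ∈ degreeLT k s) :
    ∃ N ∈ degreeLT k s, X * derivative N - C (s : k) * N = B := by
  classical
  refine ⟨∑ l ∈ Finset.range s, C (coeff B l / ((l : k) - s)) * X ^ l, ?_, ?_⟩
  · apply Submodule.sum_mem
    intro l hl
    rw [mem_degreeLT]
    refine lt_of_le_of_lt (degree_C_mul_X_pow_le _ _) ?_
    exact_mod_cast Finset.mem_range.mp hl
  · have hnat : B = ∑ l ∈ Finset.range s, monomial l (coeff B l) := by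
      by_cases hs : s = 0
      · subst hs
        rw [mem_degreeLT] at hB
        have : B = 0 := by
          by_contra h0
          rw [degree_eq_natDegree h0] at hB
          have : B.natDegree < 0 := by exact_mod_cast hB
          omega
        simp [this]
      · apply as_sum_range'
        rw [mem_degreeLT] at hB
        by_cases h0 : B = 0
        · rw [h0, natDegree_zero]; omega
        · rw [degree_eq_natDegree h0] at hB
          exact_mod_cast hB
    conv_rhs => rw [hnat]
    rw [derivative_sum, Finset.mul_sum, Finset.mul_sum, ← Finset.sum_sub_distrib]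
    apply Finset.sum_congr rfl
    intro l hl
    have hl' : l < s := Finset.mem_range.mp hl
    have hne : ((l : k) - s) ≠ 0 := by
      rw [sub_ne_zero]
      exact_mod_cast (Nat.ne_of_lt hl')
    rw [← C_mul_X_pow_eq_monomial, derivative_C_mul, derivative_X_pow]
    have key : coeff B l = coeff B l / ((l : k) - s) * ((l : k) - s) := by
      field_simp
    conv_rhs => rw [key]
    rcases l with _ | l
    · simp; ring
    · simp only [Nat.add_sub_cancel, map_mul, map_sub, map_natCast, pow_succ]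
      ring

theorem exists_N_A {k : Type*} [Field k] [CharZero k] (b : ℕ) (A : k[X])
    (hA : A ∈ degreeLT k b) :
    ∃ N ∈ degreeLT k b, (X - 1) * derivative N - C (b : k) * N = A := by
  have hcomp : ∀ (P : k[X]) (r : k), P ∈ degreeLT k b → P.comp (X + C r) ∈ degreeLT k b := by
    intro P r hP
    rw [mem_degreeLT] at hP ⊢
    by_cases h0 : P = 0
    · rw [h0, zero_comp]; exact hP.trans_le' (by rw [h0])
    · have h1 : P.comp (X + C r) ≠ 0 := by
        intro h
        apply h0
        have := congrArg (fun f => f.comp (X - C r)) h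
        simpa [comp_assoc] using this
      rw [degree_eq_natDegree h0] at hP
      rw [degree_eq_natDegree h1, natDegree_comp, natDegree_X_add_C, mul_one]
      exact hP
  obtain ⟨N, hN, hNeq⟩ := exists_N_B b (A.comp (X + C 1)) (hcomp A 1 hA)
  refine ⟨N.comp (X + C (-1)), hcomp N (-1) hN, ?_⟩
  have := congrArg (fun f => f.comp (X + C (-1))) hNeq
  simp only [sub_comp, mul_comp, X_comp, C_comp, comp_assoc, add_comp, map_neg, map_one, one_comp] at this
  rw [derivative_comp]
  simp only [map_neg, map_one, derivative_add, derivative_X, derivative_one,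
    neg_zero, add_zero, one_mul]
  have h2 : A.comp (X + -1 + 1) = A := by
    rw [neg_add_cancel_right, comp_X]
  rw [h2] at this
  rw [← this]
  ring

theorem coeff_top {k : Type*} [Field k] (r : k) (n : ℕ) :
    ((X - C r) ^ (n + 1)).coeff (n + 1) = 1 := by
  have : (X - C r : k[X]) = X + C (-r) := by rw [map_neg, sub_eq_add_neg]
  rw [this, coeff_X_add_C_pow]
  simp

theorem coeff_next {k : Type*} [Field k] (r : k) (n : ℕ) :
    ((X - C r) ^ (n + 1)).coeff n = -r * (n + 1) := by
  have : (X - C r : k[X]) = X + C (-r) := by rw [map_neg, sub_eq_add_neg]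
  rw [this, coeff_X_add_C_pow]
  simp [Nat.choose_succ_self_right]

theorem special {k : Type*} [Field k] [CharZero k] (r₁ r₂ : k) (hr : r₁ ≠ r₂) (m n : ℕ)
    (A B : k[X]) (c : k) (hA : A ∈ degreeLT k n) (hB : B ∈ degreeLT k m)
    (h : (X - C r₁) ^ (m + n + 2) = (X - C r₁) ^ (m + 1) * A + (X - C r₂) ^ (n + 1) * B +
      C c * ((X - C r₁) ^ (m + 1) * (X - C r₂) ^ (n + 1))) : False := by
  have hcop : IsCoprime ((X - C r₁) ^ (m + 1)) ((X - C r₂) ^ (n + 1)) := by
    apply IsCoprime.pow
    apply isCoprime_X_sub_C_of_isUnit_sub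
    exact (sub_ne_zero.mpr hr).isUnit
  have h1 : (X - C r₁) ^ (m + 1) ∣ (X - C r₂) ^ (n + 1) * B := by
    refine ⟨(X - C r₁) ^ (n + 1) - A - C c * (X - C r₂) ^ (n + 1), ?_⟩
    have : (X - C r₁) ^ (m + n + 2) = (X - C r₁) ^ (m + 1) * (X - C r₁) ^ (n + 1) := by
      rw [← pow_add]; congr 1; ring
    rw [this] at h
    linear_combination -h
  have h2 : (X - C r₁) ^ (m + 1) ∣ B := hcop.dvd_of_dvd_mul_left h1
  have hB0 : B = 0 := by
    apply eq_zero_of_dvd_of_degree_lt h2
    rw [mem_degreeLT] at hB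
    refine hB.trans ?_
    rw [degree_pow, degree_X_sub_C]
    simp
    exact_mod_cast Nat.lt_succ_self m
  rw [hB0, mul_zero, add_zero] at h
  have h3 : (X - C r₁) ^ (n + 1) - C c * (X - C r₂) ^ (n + 1) = A := by
    have : (X - C r₁) ^ (m + n + 2) = (X - C r₁) ^ (m + 1) * (X - C r₁) ^ (n + 1) := by
      rw [← pow_add]; congr 1; ring
    rw [this] at h
    have hne : (X - C r₁) ^ (m + 1) ≠ 0 := pow_ne_zero _ (X_sub_C_ne_zero r₁)
    apply mul_left_cancel₀ hne
    linear_combination h
  rw [mem_degreeLT] at hA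
  have c1 : A.coeff (n + 1) = 0 :=
    coeff_eq_zero_of_degree_lt (hA.trans (by exact_mod_cast Nat.lt_succ_self n))
  have c2 : A.coeff n = 0 := coeff_eq_zero_of_degree_lt hA
  rw [← h3, coeff_sub, coeff_C_mul, coeff_top, coeff_top] at c1
  rw [← h3, coeff_sub, coeff_C_mul, coeff_next, coeff_next] at c2
  have hc : c = 1 := by linear_combination -c1
  rw [hc] at c2
  have h4 : ((n : k) + 1) * (r₂ - r₁) = 0 := by linear_combination c2
  rcases mul_eq_zero.mp h4 with h5 | h5
  · exact (Nat.cast_add_one_ne_zero n) h5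
  · exact hr (sub_eq_zero.mp h5).symm

theorem ode_contra {k : Type*} [Field k] [CharZero k] (s b j : ℕ) (q : k) (hq0 : q ≠ 0)
    (hq1 : q ≠ 1) (N₂ : k[X]) (hdeg : N₂ ∈ degreeLT k j) (hroot : N₂.eval q = 0)
    (hD : X * (X - 1) * derivative N₂ - (C (s : k) * (X - 1) + C (b : k) * X) * N₂ =
      (X - C q) ^ j) : False := by
  by_cases h0 : N₂ = 0
  · rw [h0] at hD
    simp at hD
    exact pow_ne_zero j (X_sub_C_ne_zero q) hD.symm
  obtain ⟨R, hR, hndvd⟩ := exists_eq_pow_rootMultiplicity_mul_and_not_dvd N₂ h0 q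
  obtain ⟨t, ht⟩ : ∃ t, t = rootMultiplicity q N₂ := ⟨_, rfl⟩
  rw [← ht] at hR
  have htpos : 0 < t := by rw [ht]; exact (rootMultiplicity_pos h0).mpr hroot
  have hRne : R ≠ 0 := by
    rintro rfl
    rw [mul_zero] at hR
    exact h0 hR
  have htlt : t < j := by
    rw [mem_degreeLT, degree_eq_natDegree h0] at hdeg
    have h1 : N₂.natDegree < j := by exact_mod_cast hdeg
    have h2 : N₂.natDegree = t + R.natDegree := by
      rw [hR, natDegree_mul (pow_ne_zero _ (X_sub_C_ne_zero q)) hRne, natDegree_pow,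
        natDegree_X_sub_C, mul_one]
    omega
  obtain ⟨t', rfl⟩ := Nat.exists_eq_succ_of_ne_zero (Nat.pos_iff_ne_zero.mp htpos)
  obtain ⟨d, hd⟩ : ∃ d, j = t' + (d + 1) := ⟨j - t' - 1, by omega⟩
  rw [hR, derivative_mul, derivative_X_sub_C_pow, hd, pow_add] at hD
  simp only [Nat.succ_eq_add_one, Nat.add_sub_cancel] at hD
  have hcancel : C ((t' + 1 : ℕ) : k) * (X * (X - 1) * R) +
      (X - C q) * (X * (X - 1) * derivative R - (C (s : k) * (X - 1) + C (b : k) * X) * R) =
      (X - C q) ^ (d + 1) := by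
    apply mul_left_cancel₀ (pow_ne_zero t' (X_sub_C_ne_zero q))
    rw [← hD]
    ring
  have hev := congrArg (eval q) hcancel
  simp only [eval_add, eval_mul, eval_sub, eval_X, eval_C, eval_one, eval_pow, sub_self, zero_mul,
    add_zero, zero_pow (Nat.succ_ne_zero d)] at hev
  have hR0 : eval q R = 0 := by
    have h1 : ((t' + 1 : ℕ) : k) ≠ 0 := Nat.cast_ne_zero.mpr (Nat.succ_ne_zero t')
    have h2 : q - 1 ≠ 0 := sub_ne_zero.mpr hq1
    rcases mul_eq_zero.mp hev with h | h
    · exact absurd h h1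
    · rcases mul_eq_zero.mp h with h | h
      · rcases mul_eq_zero.mp h with h | h
        · exact absurd h hq0
        · exact absurd h h2
      · exact h
  exact hndvd (dvd_iff_isRoot.mpr hR0)

theorem x_der_pow {k : Type*} [Field k] (s : ℕ) :
    (X : k[X]) * derivative (X ^ s) = C (s : k) * X ^ s := by
  rw [derivative_X_pow]
  rcases s with _ | s
  · simp
  · simp only [Nat.add_sub_cancel, pow_succ]; ring

theorem x1_der_pow {k : Type*} [Field k] (b : ℕ) :
    ((X : k[X]) - 1) * derivative ((X - 1) ^ b) = C (b : k) * (X - 1) ^ b := by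
  have h1 : ((X : k[X]) - 1) = X - C 1 := by rw [map_one]
  rw [h1, derivative_X_sub_C_pow]
  rcases b with _ | b
  · simp
  · simp only [Nat.add_sub_cancel, pow_succ]; ring

theorem mul_mem_degreeLT {k : Type*} [Field k] (P Q : k[X]) (m n : ℕ) (hP : P.natDegree ≤ m)
    (hQ : Q ∈ degreeLT k n) : P * Q ∈ degreeLT k (m + n) := by
  rw [mem_degreeLT] at hQ ⊢
  by_cases h0 : Q = 0
  · rw [h0, mul_zero, degree_zero]; exact WithBot.bot_lt_coe _
  by_cases hP0 : P = 0
  · rw [hP0, zero_mul, degree_zero]; exact WithBot.bot_lt_coe _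
  rw [degree_eq_natDegree h0] at hQ
  have hQ' : Q.natDegree < n := by exact_mod_cast hQ
  rw [degree_eq_natDegree (mul_ne_zero hP0 h0), natDegree_mul hP0 h0]
  have : P.natDegree + Q.natDegree < m + n := by omega
  exact_mod_cast this

theorem core_general {k : Type*} [Field k] [CharZero k] (s b : ℕ) (q : k) (hq0 : q ≠ 0)
    (hq1 : q ≠ 1) (A B₁ : k[X]) (c : k) (hA : A ∈ degreeLT k b) (hB : B₁ ∈ degreeLT k s)
    (h : (X - C q) ^ (s + b + 2) = X ^ (s + 1) * A + (X - 1) ^ (b + 1) * B₁ +
      C c * (X ^ (s + 1) * (X - 1) ^ (b + 1))) : False := by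
  obtain ⟨NA, hNA, eA⟩ := exists_N_A b A hA
  obtain ⟨NB, hNB, eB⟩ := exists_N_B s B₁ hB
  have xs := x_der_pow (k := k) s
  have xb := x1_der_pow (k := k) b
  have xb1 := x1_der_pow (k := k) (b + 1)
  obtain ⟨N, hN⟩ : ∃ N : k[X], N = X ^ s * (NA + C c * (X - 1) ^ (b + 1)) + (X - 1) ^ b * NB :=
    ⟨_, rfl⟩
  obtain ⟨K, hK⟩ : ∃ K : k[X], K = X ^ s * (X - 1) ^ b := ⟨_, rfl⟩
  have hDN : X * (X - 1) * derivative N - (C (s : k) * (X - 1) + C (b : k) * X) * N =
      (X - C q) ^ (s + b + 2) := by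
    rw [h, hN]
    simp only [derivative_add, derivative_mul, derivative_C, zero_mul, zero_add]
    push_cast at xb1
    simp only [map_add, map_one] at xb1
    linear_combination (X - 1) * (NA + C c * (X - 1) ^ (b + 1)) * xs + X ^ (s + 1) * C c * xb1 +
      X * NB * xb + X ^ (s + 1) * eA + (X - 1) ^ (b + 1) * eB
  have hDK : X * (X - 1) * derivative K - (C (s : k) * (X - 1) + C (b : k) * X) * K = 0 := by
    rw [hK]
    simp only [derivative_mul]
    linear_combination (X - 1) ^ (b + 1) * xs + X ^ (s + 1) * xb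
  have hKq : eval q K ≠ 0 := by
    rw [hK]
    simp only [eval_mul, eval_pow, eval_X, eval_sub, eval_one]
    exact mul_ne_zero (pow_ne_zero _ hq0) (pow_ne_zero _ (sub_ne_zero.mpr hq1))
  have hNdeg : N ∈ degreeLT k (s + b + 2) := by
    rw [hN]
    have hle : degreeLT k (s + b) ≤ degreeLT k (s + b + 2) := degreeLT_mono (by omega)
    have h1 : ((X : k[X]) - 1).natDegree = 1 := by
      have := natDegree_X_sub_C (1 : k); simpa using this
    refine Submodule.add_mem _ ?_ ?_
    · rw [mul_add]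
      refine Submodule.add_mem _ ?_ ?_
      · apply hle
        exact mul_mem_degreeLT _ _ s b (by rw [natDegree_X_pow]) hNA
      · rw [mem_degreeLT]
        have : (X ^ s * (C c * (X - 1) ^ (b + 1)) : k[X]).natDegree ≤ s + b + 1 := by
          refine natDegree_mul_le.trans ?_
          rw [natDegree_X_pow]
          have h2 : (C c * (X - 1) ^ (b + 1) : k[X]).natDegree ≤ b + 1 := by
            refine natDegree_C_mul_le _ _ |>.trans ?_
            refine natDegree_pow_le.trans ?_
            rw [h1, mul_one]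
          omega
        refine lt_of_le_of_lt (degree_le_of_natDegree_le this) ?_
        exact_mod_cast (by omega : s + b + 1 < s + b + 2)
    · apply hle
      rw [add_comm s b]
      refine mul_mem_degreeLT _ _ b s ?_ hNB
      refine natDegree_pow_le.trans ?_
      rw [h1, mul_one]
  have hKdeg : K ∈ degreeLT k (s + b + 2) := by
    rw [hK, mem_degreeLT]
    have h1 : ((X : k[X]) - 1).natDegree = 1 := by
      have := natDegree_X_sub_C (1 : k); simpa using this
    have : (X ^ s * (X - 1) ^ b : k[X]).natDegree ≤ s + b := by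
      refine natDegree_mul_le.trans ?_
      rw [natDegree_X_pow]
      have := natDegree_pow_le (p := (X : k[X]) - 1) (n := b)
      rw [h1, mul_one] at this
      omega
    refine lt_of_le_of_lt (degree_le_of_natDegree_le this) ?_
    exact_mod_cast (by omega : s + b < s + b + 2)
  obtain ⟨lam, hlam⟩ : ∃ lam : k, lam = eval q N / eval q K := ⟨_, rfl⟩
  apply ode_contra s b (s + b + 2) q hq0 hq1 (N - C lam * K)
  · exact Submodule.sub_mem _ hNdeg (by
      rw [← smul_eq_C_mul]; exact Submodule.smul_mem _ _ hKdeg)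
  · rw [eval_sub, eval_mul, eval_C, hlam]
    field_simp
    ring
  · simp only [derivative_sub, derivative_mul, derivative_C, zero_mul, zero_add]
    linear_combination hDN - C lam * hDK


theorem core {k : Type*} [Field k] [CharZero k] (s b : ℕ) (q : k)
    (A B₁ : k[X]) (c : k) (hA : A ∈ degreeLT k b) (hB : B₁ ∈ degreeLT k s)
    (h : (X - C q) ^ (s + b + 2) = X ^ (s + 1) * A + (X - 1) ^ (b + 1) * B₁ +
      C c * (X ^ (s + 1) * (X - 1) ^ (b + 1))) : False := by
  by_cases hq0 : q = 0
  · subst hq0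
    apply special (0 : k) 1 zero_ne_one s b A B₁ c hA hB
    simp only [map_zero, sub_zero, map_one] at h ⊢
    exact h
  by_cases hq1 : q = 1
  · subst hq1
    apply special (1 : k) 0 one_ne_zero b s B₁ A c hB hA
    simp only [map_zero, sub_zero, map_one] at h ⊢
    rw [add_comm b s, h]
    ring
  exact core_general s b q hq0 hq1 A B₁ c hA hB h

theorem memV {k : Type*} [Field k] (a b : ℕ) (f : k[X])
    (hf : f ∈ ((Ideal.span {(X : k[X]) ^ (a + 1)}).restrictScalars k ⊓ degreeLE k ↑(a + b)) ⊔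
      ((Ideal.span {((X : k[X]) - 1) ^ (b + 1)}).restrictScalars k ⊓ degreeLE k ↑(a + b)) ⊔
      Submodule.span k {(X : k[X]) ^ (a + 1) * (X - 1) ^ (b + 1)}) :
    ∃ A ∈ degreeLT k b, ∃ B ∈ degreeLT k a, ∃ c : k,
      f = X ^ (a + 1) * A + (X - 1) ^ (b + 1) * B + C c * (X ^ (a + 1) * (X - 1) ^ (b + 1)) := by
  obtain ⟨y, hy, z, hz, rfl⟩ := Submodule.mem_sup.mp hf
  obtain ⟨y₁, hy₁, y₂, hy₂, rfl⟩ := Submodule.mem_sup.mp hy
  obtain ⟨c, rfl⟩ := Submodule.mem_span_singleton.mp hz
  obtain ⟨h1a, h1b⟩ := hy₁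
  obtain ⟨h2a, h2b⟩ := hy₂
  have h1a' : y₁ ∈ Ideal.span {(X : k[X]) ^ (a + 1)} := h1a
  have h2a' : y₂ ∈ Ideal.span {((X : k[X]) - 1) ^ (b + 1)} := h2a
  have h1b' : y₁ ∈ degreeLE k ↑(a + b) := h1b
  have h2b' : y₂ ∈ degreeLE k ↑(a + b) := h2b
  obtain ⟨A, rfl⟩ := Ideal.mem_span_singleton.mp h1a'
  obtain ⟨B, rfl⟩ := Ideal.mem_span_singleton.mp h2a'
  rw [mem_degreeLE] at h1b' h2b'
  have hx1 : ((X : k[X]) - 1) ≠ 0 := by
    have := X_sub_C_ne_zero (1 : k); simpa using this
  have hn1 : ((X : k[X]) - 1).natDegree = 1 := by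
    have := natDegree_X_sub_C (1 : k); simpa using this
  refine ⟨A, ?_, B, ?_, c, ?_⟩
  · rw [mem_degreeLT]
    by_cases h0 : A = 0
    · rw [h0, degree_zero]; exact WithBot.bot_lt_coe _
    · rw [degree_eq_natDegree (mul_ne_zero (pow_ne_zero _ X_ne_zero) h0),
        natDegree_mul (pow_ne_zero _ X_ne_zero) h0, natDegree_X_pow] at h1b'
      rw [degree_eq_natDegree h0]
      have : a + 1 + A.natDegree ≤ a + b := by exact_mod_cast h1b'
      have : A.natDegree < b := by omega
      exact_mod_cast this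
  · rw [mem_degreeLT]
    by_cases h0 : B = 0
    · rw [h0, degree_zero]; exact WithBot.bot_lt_coe _
    · rw [degree_eq_natDegree (mul_ne_zero (pow_ne_zero _ hx1) h0),
        natDegree_mul (pow_ne_zero _ hx1) h0, natDegree_pow, hn1, mul_one] at h2b'
      rw [degree_eq_natDegree h0]
      have : b + 1 + B.natDegree ≤ a + b := by exact_mod_cast h2b'
      have : B.natDegree < a := by omega
      exact_mod_cast this
  · rw [smul_eq_C_mul]

open Polynomial in
/-- With `k` of characteristic zero, `a, b, i` positive, `i ≤ a + b`, `j = a + b + 2 - i` and `V ⊆ k[X]`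
the linear system of the first assertion (marked points `A = 0`, `B = 1`, `C = ∞`; `V` spanned by
the multiples of `X^(a+1)` of degree at most `a+b`, the multiples of `(X-1)^(b+1)` of degree at most
`a+b`, and `X^(a+1) (X-1)^(b+1)`): if the point `P` is put at `A` and `Q = q` is any point other
than `C`, and both `dim V(-iA-jQ) ≥ 1` and `dim V(-(i-1)A-(j-1)Q) ≥ 2` hold, then `i ≥ a + 1`. (The
published statement is over the complex numbers.) -/
theorem result
    (k : Type*) [Field k] [CharZero k] (a b i j : ℕ) (ha : 0 < a) (hb : 0 < b) (hi : 0 < i) (hiab : i ≤ a + b)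
    (hj : i + j = a + b + 2)
    (V : Submodule k (Polynomial k))
    (hV : V = ((Ideal.span {(X : Polynomial k) ^ (a + 1)}).restrictScalars k ⊓ Polynomial.degreeLE k ↑(a + b)) ⊔
      ((Ideal.span {((X : Polynomial k) - 1) ^ (b + 1)}).restrictScalars k ⊓ Polynomial.degreeLE k ↑(a + b)) ⊔
      Submodule.span k {(X : Polynomial k) ^ (a + 1) * (X - 1) ^ (b + 1)})
    (q : k)
    (h1 : 1 ≤ Module.finrank k ↥(V ⊓ (Ideal.span {(X : Polynomial k) ^ i * (X - C q) ^ j}).restrictScalars k))
    (h2 : 2 ≤ Module.finrank k ↥(V ⊓ (Ideal.span {(X : Polynomial k) ^ (i - 1) * (X - C q) ^ (j - 1)}).restrictScalars k)) :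
    a + 1 ≤ i := by
  classical
  subst hV
  by_contra hlt
  have hia : i ≤ a := by omega
  obtain ⟨s, hs⟩ : ∃ s, a = i + s := Nat.exists_eq_add_of_le hia
  have hjs : j = s + b + 2 := by omega
  -- a nonzero element
  obtain ⟨T, hT⟩ : ∃ T : Submodule k k[X], T =
      (((Ideal.span {(X : Polynomial k) ^ (a + 1)}).restrictScalars k ⊓ Polynomial.degreeLE k ↑(a + b)) ⊔
      ((Ideal.span {((X : Polynomial k) - 1) ^ (b + 1)}).restrictScalars k ⊓ Polynomial.degreeLE k ↑(a + b)) ⊔
      Submodule.span k {(X : Polynomial k) ^ (a + 1) * (X - 1) ^ (b + 1)}) ⊓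
      (Ideal.span {(X : Polynomial k) ^ i * (X - C q) ^ j}).restrictScalars k := ⟨_, rfl⟩
  rw [← hT] at h1
  have hTne : T ≠ ⊥ := by
    intro h0
    rw [h0, finrank_bot] at h1
    omega
  obtain ⟨f, hfT, hf0⟩ := Submodule.exists_mem_ne_zero_of_ne_bot hTne
  rw [hT] at hfT
  obtain ⟨hfV, hfS⟩ := hfT
  have hfS' : f ∈ Ideal.span {(X : Polynomial k) ^ i * (X - C q) ^ j} := hfS
  obtain ⟨g, hg⟩ := Ideal.mem_span_singleton.mp hfS'
  have hg0 : g ≠ 0 := by
    rintro rfl
    rw [mul_zero] at hg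
    exact hf0 hg
  obtain ⟨A, hA, B, hB, c, hrep⟩ := memV a b f hfV
  have hx1 : ((X : k[X]) - 1) ≠ 0 := by
    have := X_sub_C_ne_zero (1 : k); simpa using this
  have hn1 : ((X : k[X]) - 1).natDegree = 1 := by
    have := natDegree_X_sub_C (1 : k); simpa using this
  -- degree of f
  have hfdeg : f.natDegree ≤ a + b + 2 := by
    have hA' : (X ^ (a + 1) * A : k[X]).natDegree ≤ a + b + 2 := by
      by_cases h0 : A = 0
      · rw [h0, mul_zero, natDegree_zero]; omega
      · rw [mem_degreeLT, degree_eq_natDegree h0] at hA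
        have : A.natDegree < b := by exact_mod_cast hA
        rw [natDegree_mul (pow_ne_zero _ X_ne_zero) h0, natDegree_X_pow]
        omega
    have hB' : ((X - 1) ^ (b + 1) * B : k[X]).natDegree ≤ a + b + 2 := by
      by_cases h0 : B = 0
      · rw [h0, mul_zero, natDegree_zero]; omega
      · rw [mem_degreeLT, degree_eq_natDegree h0] at hB
        have : B.natDegree < a := by exact_mod_cast hB
        rw [natDegree_mul (pow_ne_zero _ hx1) h0, natDegree_pow, hn1]
        omega
    have hC' : (C c * (X ^ (a + 1) * (X - 1) ^ (b + 1)) : k[X]).natDegree ≤ a + b + 2 := by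
      refine (natDegree_C_mul_le _ _).trans ?_
      refine natDegree_mul_le.trans ?_
      rw [natDegree_X_pow]
      have := natDegree_pow_le (p := (X : k[X]) - 1) (n := b + 1)
      rw [hn1] at this
      omega
    rw [hrep]
    exact (natDegree_add_le_of_degree_le ((natDegree_add_le_of_degree_le hA' hB')) hC')
  have hgdeg : g.natDegree = 0 := by
    have hne1 : (X : k[X]) ^ i * (X - C q) ^ j ≠ 0 :=
      mul_ne_zero (pow_ne_zero _ X_ne_zero) (pow_ne_zero _ (X_sub_C_ne_zero q))
    rw [hg, natDegree_mul hne1 hg0, natDegree_mul (pow_ne_zero _ X_ne_zero)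
      (pow_ne_zero _ (X_sub_C_ne_zero q)), natDegree_X_pow, natDegree_pow,
      natDegree_X_sub_C] at hfdeg
    omega
  obtain ⟨γ, hγ⟩ : ∃ γ : k, g = C γ := ⟨_, eq_C_of_natDegree_eq_zero hgdeg⟩
  have hγ0 : γ ≠ 0 := by
    rintro rfl
    rw [map_zero] at hγ
    exact hg0 hγ
  -- the monomial itself is in V
  have hF0 : (X : k[X]) ^ i * (X - C q) ^ j ∈
      ((Ideal.span {(X : Polynomial k) ^ (a + 1)}).restrictScalars k ⊓ Polynomial.degreeLE k ↑(a + b)) ⊔
      ((Ideal.span {((X : Polynomial k) - 1) ^ (b + 1)}).restrictScalars k ⊓ Polynomial.degreeLE k ↑(a + b)) ⊔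
      Submodule.span k {(X : Polynomial k) ^ (a + 1) * (X - 1) ^ (b + 1)} := by
    have : (X : k[X]) ^ i * (X - C q) ^ j = γ⁻¹ • f := by
      rw [hg, hγ, smul_eq_C_mul]
      have : C γ⁻¹ * C γ = (1 : k[X]) := by rw [← C_mul, inv_mul_cancel₀ hγ0, C_1]
      calc (X : k[X]) ^ i * (X - C q) ^ j = (X ^ i * (X - C q) ^ j) * (C γ⁻¹ * C γ) := by
            rw [this, mul_one]
        _ = _ := by ring
    rw [this]
    exact Submodule.smul_mem _ _ hfV
  obtain ⟨A, hA, B, hB, c, hrep⟩ := memV a b _ hF0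
  -- X^i divides B
  have hpow : (X : k[X]) ^ (a + 1) = X ^ i * X ^ (s + 1) := by
    rw [← pow_add]; congr 1; omega
  have hcop : IsCoprime ((X : k[X]) ^ i) ((X - 1) ^ (b + 1)) := by
    apply IsCoprime.pow
    have := isCoprime_X_sub_C_of_isUnit_sub (R := k) (a := 0) (b := 1)
      (by rw [zero_sub]; exact (neg_ne_zero.mpr one_ne_zero).isUnit)
    simpa using this
  have hdvd : (X : k[X]) ^ i ∣ (X - 1) ^ (b + 1) * B := by
    refine ⟨(X - C q) ^ j - X ^ (s + 1) * A - C c * (X ^ (s + 1) * (X - 1) ^ (b + 1)), ?_⟩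
    rw [hpow] at hrep
    linear_combination -hrep
  obtain ⟨B₁, rfl⟩ := hcop.dvd_of_dvd_mul_left hdvd
  have hB₁ : B₁ ∈ degreeLT k s := by
    rw [mem_degreeLT]
    by_cases h0 : B₁ = 0
    · rw [h0, degree_zero]; exact WithBot.bot_lt_coe _
    · rw [mem_degreeLT, degree_eq_natDegree (mul_ne_zero (pow_ne_zero _ X_ne_zero) h0),
        natDegree_mul (pow_ne_zero _ X_ne_zero) h0, natDegree_X_pow] at hB
      rw [degree_eq_natDegree h0]
      have : i + B₁.natDegree < a := by exact_mod_cast hB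
      have : B₁.natDegree < s := by omega
      exact_mod_cast this
  apply core s b q A B₁ c hA hB₁
  rw [← hjs]
  apply mul_left_cancel₀ (pow_ne_zero i (X_ne_zero (R := k)))
  rw [hrep, hpow]
  ring

end Groth.Agent.S16261
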