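import Groth.Statements.S16263
import Mathlib.LinearAlgebra.FiniteDimensional.Lemmas
import Mathlib.Algebra.Polynomial.Degree.SmallDegree
import Mathlib.Algebra.Polynomial.Eval.SMul
import Mathlib.Tactic

set_option autoImplicit false
open W4c3wronskmg

namespace Groth.Agent.S16263

open Polynomial

theorem finrank_inf_ker_lt {k : Type*} {M : Type*} [Field k] [AddCommGroup M] [Module k M]
    (W : Submodule k M) [FiniteDimensional k ↥W] (l : M →ₗ[k] k) (w : M) (hw : w ∈ W)
    (hl : l w ≠ 0) : Module.finrank k ↥(W ⊓ LinearMap.ker l) < Module.finrank k ↥W := by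
  apply Submodule.finrank_lt_finrank_of_lt
  refine lt_of_le_of_ne inf_le_left (fun h => hl ?_)
  have h2 : w ∈ W ⊓ LinearMap.ker l := by rw [h]; exact hw
  exact h2.2

theorem memV_imp {k : Type*} [Field k] (a : ℕ) (f : k[X])
    (hf : f ∈ Submodule.span k {(1 : k[X])} ⊔
      ((Ideal.span {(X : k[X]) * (X + 1)}).restrictScalars k ⊓ Polynomial.degreeLE k ↑(a + 1))) :
    f.degree ≤ ↑(a + 1) ∧ f.eval 0 = f.eval (-1) := by
  obtain ⟨y, hy, z, hz, rfl⟩ := Submodule.mem_sup.mp hf
  obtain ⟨c, rfl⟩ := Submodule.mem_span_singleton.mp hy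
  obtain ⟨hz1, hz2⟩ := hz
  have hz1' : z ∈ Ideal.span {(X : k[X]) * (X + 1)} := hz1
  have hz2' : z ∈ Polynomial.degreeLE k ↑(a + 1) := hz2
  clear hz2
  obtain ⟨h, rfl⟩ := Ideal.mem_span_singleton.mp hz1'
  have hz2 := Polynomial.mem_degreeLE.mp hz2'
  constructor
  · refine (Polynomial.degree_add_le _ _).trans (max_le ?_ hz2)
    rw [Polynomial.smul_eq_C_mul, mul_one]
    exact Polynomial.degree_C_le.trans (by exact_mod_cast Nat.zero_le _)
  · simp

/-- the functional `f ↦ f(0) - f(-1)`. -/
noncomputable def lam (k : Type*) [Field k] : k[X] →ₗ[k] k :=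
  Polynomial.leval 0 - Polynomial.leval (-1)

theorem lam_apply {k : Type*} [Field k] (f : k[X]) : lam k f = f.eval 0 - f.eval (-1) := rfl

open Polynomial in
/-- Let `k` be a field of characteristic zero and `a` a positive integer. On the projective line with `A
= 0`, `B = -1`, `C = ∞`, the `(a+1)`-dimensional system `V = H⁰(ω((1+a)C)) ⊕ H⁰(ω(A+B)) ⊆
H⁰(ω((1+a)C + A + B)) ≅ H⁰(O(a+1))` is, in the affine coordinate, the space of polynomials `c + X
(X+1) F` with `c` a constant and `deg F ≤ a - 1`. Then `V` has no special ramification point (no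
point of weight at least two): since the members have degree at most `a + 1`, this says that for
every point `p` of the affine line at most a one-dimensional subspace of `V` is divisible by
`(X-p)^a`, and at `C` that at most a one-dimensional subspace has degree at most one (degree less
than two). (The published statement carries two further positive integers `i, j` with `i + j = a -
1`, used only in its second assertion, and is over the complex numbers.) -/
theorem result
    (k : Type*) [Field k] [CharZero k] (a : ℕ) (ha : 0 < a)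
    (V : Submodule k (Polynomial k))
    (hV : V = Submodule.span k {(1 : Polynomial k)} ⊔
      ((Ideal.span {(X : Polynomial k) * (X + 1)}).restrictScalars k ⊓ Polynomial.degreeLE k ↑(a + 1))) :
    (∀ p : k, Module.finrank k ↥(V ⊓ (Ideal.span {(X - C p) ^ a}).restrictScalars k) ≤ 1) ∧
      Module.finrank k ↥(V ⊓ Polynomial.degreeLT k 2) ≤ 1 := by
  classical
  subst hV
  constructor
  · intro p
    obtain ⟨u, hu⟩ : ∃ u : k[X], u = (X - C p) ^ a := ⟨_, rfl⟩
    rw [← hu]
    obtain ⟨W, hW⟩ : ∃ W : Submodule k k[X], W = Submodule.span k {u, u * X} := ⟨_, rfl⟩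
    haveI : FiniteDimensional k ↥W := by
      rw [hW]; exact FiniteDimensional.span_of_finite k (Set.toFinite _)
    have hWfin : Module.finrank k ↥W ≤ 2 := by
      have := finrank_span_finset_le_card (R := k) ({u, u * X} : Finset k[X])
      rw [Finset.coe_pair] at this
      rw [hW]
      exact this.trans Finset.card_le_two
    have hle : (Submodule.span k {(1 : k[X])} ⊔
        ((Ideal.span {(X : k[X]) * (X + 1)}).restrictScalars k ⊓ Polynomial.degreeLE k ↑(a + 1))) ⊓
        (Ideal.span {u}).restrictScalars k ≤ W ⊓ LinearMap.ker (lam k) := by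
      rintro f ⟨hfV, hfS⟩
      obtain ⟨hdeg, hev⟩ := memV_imp a f hfV
      have hfS' : f ∈ Ideal.span {u} := hfS
      obtain ⟨g, rfl⟩ := Ideal.mem_span_singleton.mp hfS'
      refine ⟨?_, ?_⟩
      · show u * g ∈ W
        by_cases hg : g = 0
        · rw [hg, mul_zero]; exact Submodule.zero_mem _
        · have hdg : g.degree ≤ 1 := by
            rw [hu, Polynomial.degree_mul, Polynomial.degree_pow, Polynomial.degree_X_sub_C] at hdeg
            rw [Polynomial.degree_eq_natDegree hg] at hdeg ⊢
            have h1 : ((a + g.natDegree : ℕ) : WithBot ℕ) ≤ ((a + 1 : ℕ) : WithBot ℕ) := by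
              simpa using hdeg
            have h2 : a + g.natDegree ≤ a + 1 := by exact_mod_cast h1
            have h3 : g.natDegree ≤ 1 := by omega
            exact_mod_cast h3
          rw [Polynomial.eq_X_add_C_of_degree_le_one hdg]
          rw [hW, Submodule.mem_span_pair]
          refine ⟨g.coeff 0, g.coeff 1, ?_⟩
          rw [Polynomial.smul_eq_C_mul, Polynomial.smul_eq_C_mul]
          ring
      · show u * g ∈ LinearMap.ker (lam k)
        rw [LinearMap.mem_ker, lam_apply, hev, sub_self]
    have hne : ∃ w ∈ W, lam k w ≠ 0 := by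
      by_contra hcon
      push Not at hcon
      have h1 := hcon u (by rw [hW]; exact Submodule.subset_span (by simp))
      have h2 := hcon (u * X) (by rw [hW]; exact Submodule.subset_span (by simp))
      rw [lam_apply] at h1 h2
      simp only [hu, eval_mul, eval_pow, eval_sub, eval_X, eval_C, mul_zero, zero_sub] at h1 h2
      have h3 : (-1 - p) ^ a = 0 := by simpa using h2
      have h4 : -1 - p = 0 := pow_eq_zero_iff (Nat.pos_iff_ne_zero.mp ha) |>.mp h3
      have h5 : p = -1 := by linear_combination -h4
      rw [h3, sub_zero, h5] at h1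
      simp at h1
    obtain ⟨w, hw, hlw⟩ := hne
    have h6 := finrank_inf_ker_lt W (lam k) w hw hlw
    have h7 := Submodule.finrank_mono hle
    omega
  · have hle : (Submodule.span k {(1 : k[X])} ⊔
        ((Ideal.span {(X : k[X]) * (X + 1)}).restrictScalars k ⊓ Polynomial.degreeLE k ↑(a + 1))) ⊓
        Polynomial.degreeLT k 2 ≤ Submodule.span k {(1 : k[X])} := by
      rintro f ⟨hfV, hfS⟩
      obtain ⟨hdeg, hev⟩ := memV_imp a f hfV
      have hfS' : f ∈ Polynomial.degreeLT k 2 := hfS
      rw [Polynomial.mem_degreeLT] at hfS'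
      have hd1 : f.degree ≤ 1 := by
        by_cases hf0 : f = 0
        · rw [hf0, Polynomial.degree_zero]; exact bot_le
        · rw [Polynomial.degree_eq_natDegree hf0] at hfS' ⊢
          have : f.natDegree < 2 := by exact_mod_cast hfS'
          have : f.natDegree ≤ 1 := by omega
          exact_mod_cast this
      have hf := Polynomial.eq_X_add_C_of_degree_le_one hd1
      rw [hf] at hev
      simp at hev
      rw [hev, map_zero, zero_mul, zero_add] at hf
      rw [hf, Submodule.mem_span_singleton]
      exact ⟨f.coeff 0, by rw [Polynomial.smul_eq_C_mul, mul_one]⟩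
    have h7 := Submodule.finrank_mono hle
    have h8 := finrank_span_finset_le_card (R := k) ({(1 : k[X])} : Finset k[X])
    rw [Finset.coe_singleton, Finset.card_singleton] at h8
    exact h7.trans h8

end Groth.Agent.S16263
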