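import Groth.Statements.S16264
import Groth.Agent.S16263

set_option autoImplicit false
open W4c3wronskmg

namespace Groth.Agent.S16264

open Polynomial

theorem finrank_degreeLT (k : Type*) [Field k] (n : ℕ) :
    Module.finrank k ↥(Polynomial.degreeLT k n) = n := by
  rw [(Polynomial.degreeLTEquiv k n).finrank_eq, Module.finrank_fin_fun]

instance finite_degreeLT (k : Type*) [Field k] (n : ℕ) :
    Module.Finite k ↥(Polynomial.degreeLT k n) :=
  Module.Finite.equiv (Polynomial.degreeLTEquiv k n).symm

theorem degree_mul_le_of {k : Type*} [Field k] (h g : k[X]) (m : ℕ) (hh : h.natDegree + 2 ≤ m)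
    (hg : g ∈ Polynomial.degreeLT k 3) : (h * g).degree ≤ (m : WithBot ℕ) := by
  rw [Polynomial.mem_degreeLT] at hg
  by_cases hg0 : g = 0
  · rw [hg0, mul_zero, Polynomial.degree_zero]; exact bot_le
  apply Polynomial.degree_le_of_natDegree_le
  refine Polynomial.natDegree_mul_le.trans ?_
  rw [Polynomial.degree_eq_natDegree hg0] at hg
  have : g.natDegree < 3 := by exact_mod_cast hg
  omega

theorem big {k : Type*} [Field k] (a : ℕ) (h : k[X]) (hdvd : (X : k[X]) * (X + 1) ∣ h) (hne : h ≠ 0)
    (hdeg : h.natDegree + 2 ≤ a + 1) :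
    3 ≤ Module.finrank k ↥((Submodule.span k {(1 : k[X])} ⊔
      ((Ideal.span {(X : k[X]) * (X + 1)}).restrictScalars k ⊓ Polynomial.degreeLE k ↑(a + 1))) ⊓
      (Ideal.span {h}).restrictScalars k) := by
  obtain ⟨T, hT⟩ : ∃ T : Submodule k k[X], T = (Submodule.span k {(1 : k[X])} ⊔
      ((Ideal.span {(X : k[X]) * (X + 1)}).restrictScalars k ⊓ Polynomial.degreeLE k ↑(a + 1))) ⊓
      (Ideal.span {h}).restrictScalars k := ⟨_, rfl⟩
  rw [← hT]
  have hTle : T ≤ Polynomial.degreeLT k (a + 2) := by
    rw [hT]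
    rintro f ⟨hfV, -⟩
    have := (Groth.Agent.S16263.memV_imp a f hfV).1
    rw [Polynomial.mem_degreeLT]
    refine lt_of_le_of_lt this ?_
    exact_mod_cast Nat.lt_succ_self _
  haveI : Module.Finite k ↥T := by
    have e := Submodule.comapSubtypeEquivOfLe hTle
    exact Module.Finite.equiv e
  have hmem : ∀ g : ↥(Polynomial.degreeLT k 3), h * g.1 ∈ T := by
    intro g
    rw [hT]
    refine ⟨Submodule.mem_sup_right ⟨?_, ?_⟩, ?_⟩
    · show h * g.1 ∈ Ideal.span {(X : k[X]) * (X + 1)}
      exact Ideal.mem_span_singleton.mpr (Dvd.dvd.mul_right hdvd _)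
    · show h * g.1 ∈ Polynomial.degreeLE k ↑(a + 1)
      rw [Polynomial.mem_degreeLE]
      exact degree_mul_le_of h g.1 (a + 1) hdeg g.2
    · show h * g.1 ∈ Ideal.span {h}
      exact Ideal.mem_span_singleton.mpr (dvd_mul_right _ _)
  let φ : ↥(Polynomial.degreeLT k 3) →ₗ[k] ↥T :=
    LinearMap.codRestrict T ((LinearMap.mulLeft k h).comp (Polynomial.degreeLT k 3).subtype) hmem
  have hinj : Function.Injective φ := by
    intro g₁ g₂ h12
    have h3 : h * g₁.1 = h * g₂.1 := congrArg Subtype.val h12
    exact Subtype.ext (mul_left_cancel₀ hne h3)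
  have := LinearMap.finrank_le_finrank_of_injective hinj
  rwa [finrank_degreeLT] at this

open Polynomial in
/-- Let `k` be a field of characteristic zero and `a, i, j` positive integers with `i + j = a - 1`. With
`A = 0`, `B = -1`, `C = ∞` on the projective line and `V` the `(a+1)`-dimensional system of
polynomials `c + X (X+1) F`, `deg F ≤ a - 1` (that is, `H⁰(ω((1+a)C)) ⊕ H⁰(ω(A+B)) ⊆ H⁰(O(a+1))`),
the pairs of points `(P, Q) = (p, q)` of the affine line with `dim V(-iP-jQ) ≥ 3`, i.e. with at
least a three-dimensional subspace of `V` divisible by `(X-p)^i (X-q)^j`, are exactly `(A, B)` and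
`(B, A)`. (Here `P, Q` range over the points other than `C`; when one of them is `C` the dimension
is at most two for degree reasons. The published statement is over the complex numbers.) -/
theorem result
    (k : Type*) [Field k] [CharZero k] (a i j : ℕ) (hi : 0 < i) (hj : 0 < j) (hij : i + j + 1 = a)
    (V : Submodule k (Polynomial k))
    (hV : V = Submodule.span k {(1 : Polynomial k)} ⊔
      ((Ideal.span {(X : Polynomial k) * (X + 1)}).restrictScalars k ⊓ Polynomial.degreeLE k ↑(a + 1)))
    (p q : k) :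
    3 ≤ Module.finrank k ↥(V ⊓ (Ideal.span {(X - C p) ^ i * (X - C q) ^ j}).restrictScalars k) ↔
      (p = 0 ∧ q = -1) ∨ (p = -1 ∧ q = 0) := by
  classical
  subst hV
  obtain ⟨h, hh⟩ : ∃ h : k[X], h = (X - C p) ^ i * (X - C q) ^ j := ⟨_, rfl⟩
  rw [← hh]
  have hne : h ≠ 0 := by
    rw [hh]
    exact mul_ne_zero (pow_ne_zero _ (Polynomial.X_sub_C_ne_zero p))
      (pow_ne_zero _ (Polynomial.X_sub_C_ne_zero q))
  have hnat : h.natDegree = i + j := by
    rw [hh, Polynomial.natDegree_mul (pow_ne_zero _ (Polynomial.X_sub_C_ne_zero p))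
      (pow_ne_zero _ (Polynomial.X_sub_C_ne_zero q)), Polynomial.natDegree_pow,
      Polynomial.natDegree_pow, Polynomial.natDegree_X_sub_C, Polynomial.natDegree_X_sub_C]
    ring
  have hdeg : h.natDegree + 2 ≤ a + 1 := by omega
  constructor
  · intro h3
    obtain ⟨W, hW⟩ : ∃ W : Submodule k k[X],
      W = (Polynomial.degreeLT k 3).map (LinearMap.mulLeft k h) := ⟨_, rfl⟩
    have hWfin : Module.finrank k ↥W ≤ 3 := by
      rw [hW]
      have := Submodule.finrank_map_le (LinearMap.mulLeft k h) (Polynomial.degreeLT k 3)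
      rwa [finrank_degreeLT] at this
    haveI : FiniteDimensional k ↥W := by
      rw [hW]
      infer_instance
    have hle : (Submodule.span k {(1 : k[X])} ⊔
        ((Ideal.span {(X : k[X]) * (X + 1)}).restrictScalars k ⊓ Polynomial.degreeLE k ↑(a + 1))) ⊓
        (Ideal.span {h}).restrictScalars k ≤ W ⊓ LinearMap.ker (Groth.Agent.S16263.lam k) := by
      rintro f ⟨hfV, hfS⟩
      obtain ⟨hdegf, hev⟩ := Groth.Agent.S16263.memV_imp a f hfV
      have hfS' : f ∈ Ideal.span {h} := hfS
      obtain ⟨g, rfl⟩ := Ideal.mem_span_singleton.mp hfS'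
      refine ⟨?_, ?_⟩
      · show h * g ∈ W
        rw [hW]
        refine ⟨g, ?_, rfl⟩
        show g ∈ Polynomial.degreeLT k 3
        rw [Polynomial.mem_degreeLT]
        by_cases hg : g = 0
        · rw [hg, Polynomial.degree_zero]; exact WithBot.bot_lt_coe _
        · rw [Polynomial.degree_eq_natDegree (mul_ne_zero hne hg),
            Polynomial.natDegree_mul hne hg, hnat] at hdegf
          rw [Polynomial.degree_eq_natDegree hg]
          have h2 : i + j + g.natDegree ≤ a + 1 := by exact_mod_cast hdegf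
          have h3 : g.natDegree < 3 := by omega
          exact_mod_cast h3
      · show h * g ∈ LinearMap.ker (Groth.Agent.S16263.lam k)
        rw [LinearMap.mem_ker, Groth.Agent.S16263.lam_apply, hev, sub_self]
    have hall : ∀ w ∈ W, Groth.Agent.S16263.lam k w = 0 := by
      by_contra hcon
      push Not at hcon
      obtain ⟨w, hw, hlw⟩ := hcon
      have h6 := Groth.Agent.S16263.finrank_inf_ker_lt W (Groth.Agent.S16263.lam k) w hw hlw
      have h7 := Submodule.finrank_mono hle
      omega
    have m1 : h * 1 ∈ W := by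
      rw [hW]
      refine ⟨1, ?_, rfl⟩
      show (1 : k[X]) ∈ Polynomial.degreeLT k 3
      rw [Polynomial.mem_degreeLT, Polynomial.degree_one]
      exact_mod_cast (by norm_num : (0 : ℕ) < 3)
    have m2 : h * X ∈ W := by
      rw [hW]
      refine ⟨X, ?_, rfl⟩
      show (X : k[X]) ∈ Polynomial.degreeLT k 3
      rw [Polynomial.mem_degreeLT, Polynomial.degree_X]
      exact_mod_cast (by norm_num : (1 : ℕ) < 3)
    have e1 := hall _ m1
    have e2 := hall _ m2
    rw [Groth.Agent.S16263.lam_apply] at e1 e2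
    simp only [hh, eval_mul, eval_pow, eval_sub, eval_X, eval_C, mul_one, mul_zero,
      zero_sub] at e1 e2
    have e3 : (-1 - p) ^ i * (-1 - q) ^ j = 0 := by simpa using e2
    rw [e3, sub_zero] at e1
    have c1 : p = 0 ∨ q = 0 := by
      rcases mul_eq_zero.mp e1 with h1 | h1
      · left; simpa using pow_eq_zero_iff (Nat.pos_iff_ne_zero.mp hi) |>.mp h1
      · right; simpa using pow_eq_zero_iff (Nat.pos_iff_ne_zero.mp hj) |>.mp h1
    have c2 : p = -1 ∨ q = -1 := by
      rcases mul_eq_zero.mp e3 with h1 | h1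
      · left
        have := pow_eq_zero_iff (Nat.pos_iff_ne_zero.mp hi) |>.mp h1
        linear_combination -this
      · right
        have := pow_eq_zero_iff (Nat.pos_iff_ne_zero.mp hj) |>.mp h1
        linear_combination -this
    have h01 : (0 : k) ≠ -1 := by
      intro h0
      have : (1 : k) = 0 := by linear_combination h0
      exact one_ne_zero this
    rcases c1 with rfl | rfl <;> rcases c2 with h2 | h2
    · exact absurd h2 h01
    · exact Or.inl ⟨rfl, h2⟩
    · exact Or.inr ⟨h2, rfl⟩
    · exact absurd h2 h01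
  · intro hpq
    apply big a h ?_ hne hdeg
    obtain ⟨i', rfl⟩ := Nat.exists_eq_succ_of_ne_zero (Nat.pos_iff_ne_zero.mp hi)
    obtain ⟨j', rfl⟩ := Nat.exists_eq_succ_of_ne_zero (Nat.pos_iff_ne_zero.mp hj)
    rcases hpq with ⟨rfl, rfl⟩ | ⟨rfl, rfl⟩
    · rw [hh]
      refine ⟨X ^ i' * (X + 1) ^ j', ?_⟩
      simp only [map_zero, sub_zero, map_neg, map_one, sub_neg_eq_add, Nat.succ_eq_add_one, pow_succ]
      ring
    · rw [hh]
      refine ⟨(X + 1) ^ i' * X ^ j', ?_⟩
      simp only [map_zero, sub_zero, map_neg, map_one, sub_neg_eq_add, Nat.succ_eq_add_one, pow_succ]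
      ring

end Groth.Agent.S16264
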