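import Groth.Statements.S16262
import Groth.Agent.S16264
import Mathlib.Algebra.Polynomial.Derivative
import Mathlib.Algebra.Polynomial.Monic

set_option autoImplicit false
open W4c3wronskmg

namespace Groth.Agent.S16262

open Polynomial

theorem ode {k : Type*} [Field k] (i m : ℕ) (q : k) :
    ((X : k[X]) + 1) * (X - C q) * derivative ((X + 1) ^ i * (X - C q) ^ m) =
      (C (i : k) * (X - C q) + C (m : k) * (X + 1)) * ((X + 1) ^ i * (X - C q) ^ m) := by
  have h1 : derivative ((X : k[X]) + 1) = 1 := by
    have := derivative_X_add_C (1 : k)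
    simpa using this
  rw [derivative_mul, derivative_pow, derivative_pow, derivative_X_sub_C, h1]
  rcases i with _ | i <;> rcases m with _ | m
  · simp
  · simp [pow_succ]; ring
  · simp [pow_succ]; ring
  · simp [pow_succ]; ring

theorem coeff_X_mul_derivative {k : Type*} [Field k] (P : k[X]) (n : ℕ) :
    coeff (X * derivative P) n = n * coeff P n := by
  rcases n with _ | n
  · simp
  · rw [coeff_X_mul, coeff_derivative]
    push_cast
    ring

theorem recur {k : Type*} [Field k] (i m : ℕ) (q : k) (n : ℕ) :
    let P : k[X] := (X + 1) ^ i * (X - C q) ^ m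
    (n : k) * coeff P n + (1 - q) * ((n + 1 : ℕ) : k) * coeff P (n + 1)
        - q * ((n + 2 : ℕ) : k) * coeff P (n + 2) =
      ((i : k) + m) * coeff P n + ((m : k) - i * q) * coeff P (n + 1) := by
  intro P
  have E := ode i m q
  have E2 : X * (X * derivative P) + C (1 - q) * (X * derivative P) - C q * derivative P =
      C ((i : k) + m) * (X * P) + C ((m : k) - i * q) * P := by
    have : X * (X * derivative P) + C (1 - q) * (X * derivative P) - C q * derivative P =
        ((X : k[X]) + 1) * (X - C q) * derivative P := by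
      simp only [map_sub, map_one]; ring
    rw [this, E]
    simp only [map_sub, map_add, map_mul, map_natCast]
    ring
  have E3 := congrArg (fun f => coeff f (n + 1)) E2
  simp only [coeff_add, coeff_sub, coeff_C_mul, coeff_X_mul, coeff_X_mul_derivative,
    coeff_derivative] at E3
  push_cast at E3 ⊢
  linear_combination E3

theorem no_two_zeros {k : Type*} [Field k] [CharZero k] (i m : ℕ) (q : k) (hq : q ≠ 0) (s : ℕ)
    (hs : s ≤ i + m)
    (h0 : coeff ((X + 1 : k[X]) ^ i * (X - C q) ^ m) s = 0)
    (h1 : coeff ((X + 1 : k[X]) ^ i * (X - C q) ^ m) (s + 1) = 0) : False := by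
  obtain ⟨P, hP⟩ : ∃ P : k[X], P = (X + 1) ^ i * (X - C q) ^ m := ⟨_, rfl⟩
  rw [← hP] at h0 h1
  have hall : ∀ t : ℕ, coeff P (s + t) = 0 ∧ coeff P (s + t + 1) = 0 := by
    intro t
    induction t with
    | zero => exact ⟨h0, h1⟩
    | succ t ih =>
      refine ⟨ih.2, ?_⟩
      have R := recur i m q (s + t)
      simp only at R
      rw [← hP, ih.1, ih.2] at R
      simp only [mul_zero, zero_add, add_zero, zero_sub, neg_eq_zero] at R
      have hne : ((s + t + 2 : ℕ) : k) ≠ 0 := Nat.cast_ne_zero.mpr (by omega)
      rcases mul_eq_zero.mp R with h | h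
      · rcases mul_eq_zero.mp h with h | h
        · exact absurd h hq
        · exact absurd h hne
      · exact h
  have hmonic : P.Monic := by
    rw [hP]
    have h1 : ((X : k[X]) + 1).Monic := by
      have := monic_X_add_C (1 : k)
      simpa using this
    exact (h1.pow i).mul ((monic_X_sub_C q).pow m)
  have hnat : P.natDegree = i + m := by
    have h1 : ((X : k[X]) + 1).Monic := by
      have := monic_X_add_C (1 : k)
      simpa using this
    have h2 : ((X : k[X]) + 1).natDegree = 1 := by
      have := natDegree_X_add_C (1 : k)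
      simpa using this
    rw [hP, ((h1.pow i).natDegree_mul ((monic_X_sub_C q).pow m)), h1.natDegree_pow,
      (monic_X_sub_C q).natDegree_pow, h2, natDegree_X_sub_C]
    ring
  have hlead : coeff P (i + m) = 1 := by
    rw [← hnat]; exact hmonic.coeff_natDegree
  obtain ⟨t, ht⟩ := Nat.exists_eq_add_of_le hs
  rw [ht, (hall t).1] at hlead
  exact zero_ne_one hlead

open Polynomial in
/-- Let `k` be a field of characteristic zero and `a, b, i` positive integers with `i < a + b`. On the
projective line with `A = 0`, `B = ∞`, `P = -1`, the system `V_{a,b} = H⁰(ω((1+a)A)) ⊕ H⁰(ω((1+b)B))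
⊆ H⁰(O(a+b))` is the space of polynomials of degree at most `a+b` with vanishing coefficient of
`X^a`, and `V = V_{a,b}(-iP)` (divided by `(X+1)^i`) is the space of `G` of degree at most `a+b-i`
such that the coefficient of `X^a` in `(X+1)^i G` vanishes; it is a linear system of dimension and
degree `a+b-i`. Then no point of the projective line other than `A` and `B` is a special
ramification point of `V` (a point of weight at least two); for such a system a point `q` of the
affine line is special exactly when two independent members are divisible by `(X-q)^(a+b-i-1)`, so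
the statement is that this fails for every `q ≠ 0`. (The published statement does not except `A` and
`B`, but `A` has weight `max(b-i, 0)` in `V`, which is `2` for `a = 1, b = 3, i = 1`: there `X^3`
and `X^2` both lie in `V`. It is stated over the complex numbers.) -/
theorem result
    (k : Type*) [Field k] [CharZero k] (a b i : ℕ) (ha : 0 < a) (hb : 0 < b) (hi : 0 < i) (hiab : i < a + b)
    (V : Submodule k (Polynomial k))
    (hV : V = Polynomial.degreeLE k ↑(a + b - i) ⊓
      LinearMap.ker ((Polynomial.lcoeff k a).comp (LinearMap.mulLeft k (((X : Polynomial k) + 1) ^ i))))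
    (q : k) (hq : q ≠ 0) :
    Module.finrank k ↥(V ⊓ (Ideal.span {(X - C q) ^ (a + b - i - 1)}).restrictScalars k) ≤ 1 := by
  classical
  subst hV
  obtain ⟨m, hm⟩ : ∃ m : ℕ, m = a + b - i - 1 := ⟨_, rfl⟩
  rw [← hm]
  have hm1 : a + b - i = m + 1 := by omega
  rw [hm1]
  obtain ⟨u, hu⟩ : ∃ u : k[X], u = (X - C q) ^ m := ⟨_, rfl⟩
  rw [← hu]
  have hune : u ≠ 0 := by rw [hu]; exact pow_ne_zero _ (Polynomial.X_sub_C_ne_zero q)
  have hunat : u.natDegree = m := by
    rw [hu, Polynomial.natDegree_pow, Polynomial.natDegree_X_sub_C, mul_one]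
  obtain ⟨μ, hμ⟩ : ∃ μ : k[X] →ₗ[k] k,
    μ = (Polynomial.lcoeff k a).comp (LinearMap.mulLeft k (((X : Polynomial k) + 1) ^ i)) := ⟨_, rfl⟩
  rw [← hμ]
  have hμapp : ∀ f : k[X], μ f = coeff ((X + 1) ^ i * f) a := fun f => by rw [hμ]; rfl
  obtain ⟨W, hW⟩ : ∃ W : Submodule k k[X],
    W = (Polynomial.degreeLT k 2).map (LinearMap.mulLeft k u) := ⟨_, rfl⟩
  have hWfin : Module.finrank k ↥W ≤ 2 := by
    rw [hW]
    have := Submodule.finrank_map_le (LinearMap.mulLeft k u) (Polynomial.degreeLT k 2)
    rwa [Groth.Agent.S16264.finrank_degreeLT] at this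
  haveI : FiniteDimensional k ↥W := by
    rw [hW]
    infer_instance
  have hle : (Polynomial.degreeLE k ↑(m + 1) ⊓ LinearMap.ker μ) ⊓
      (Ideal.span {u}).restrictScalars k ≤ W ⊓ LinearMap.ker μ := by
    rintro f ⟨⟨hfd, hfk⟩, hfS⟩
    have hfd' : f ∈ Polynomial.degreeLE k ↑(m + 1) := hfd
    rw [Polynomial.mem_degreeLE] at hfd'
    have hfS' : f ∈ Ideal.span {u} := hfS
    obtain ⟨g, rfl⟩ := Ideal.mem_span_singleton.mp hfS'
    refine ⟨?_, hfk⟩
    show u * g ∈ W
    rw [hW]
    refine ⟨g, ?_, rfl⟩
    show g ∈ Polynomial.degreeLT k 2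
    rw [Polynomial.mem_degreeLT]
    by_cases hg : g = 0
    · rw [hg, Polynomial.degree_zero]; exact WithBot.bot_lt_coe _
    · rw [Polynomial.degree_eq_natDegree (mul_ne_zero hune hg),
        Polynomial.natDegree_mul hune hg, hunat] at hfd'
      rw [Polynomial.degree_eq_natDegree hg]
      have h2 : m + g.natDegree ≤ m + 1 := by exact_mod_cast hfd'
      have h3 : g.natDegree < 2 := by omega
      exact_mod_cast h3
  have hne : ∃ w ∈ W, μ w ≠ 0 := by
    by_contra hcon
    push Not at hcon
    have m1 : u * 1 ∈ W := by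
      rw [hW]
      refine ⟨1, ?_, rfl⟩
      show (1 : k[X]) ∈ Polynomial.degreeLT k 2
      rw [Polynomial.mem_degreeLT, Polynomial.degree_one]
      exact_mod_cast (by norm_num : (0 : ℕ) < 2)
    have m2 : u * X ∈ W := by
      rw [hW]
      refine ⟨X, ?_, rfl⟩
      show (X : k[X]) ∈ Polynomial.degreeLT k 2
      rw [Polynomial.mem_degreeLT, Polynomial.degree_X]
      exact_mod_cast (by norm_num : (1 : ℕ) < 2)
    have e1 := hcon _ m1
    have e2 := hcon _ m2
    rw [hμapp] at e1 e2
    obtain ⟨a', rfl⟩ := Nat.exists_eq_succ_of_ne_zero (Nat.pos_iff_ne_zero.mp ha)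
    rw [mul_one, hu] at e1
    rw [← mul_assoc, Polynomial.coeff_mul_X, hu] at e2
    exact no_two_zeros i m q hq a' (by omega) e2 e1
  obtain ⟨w, hw, hlw⟩ := hne
  have h6 := Groth.Agent.S16263.finrank_inf_ker_lt W μ w hw hlw
  have h7 := Submodule.finrank_mono hle
  omega

end Groth.Agent.S16262
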