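import Groth.Statements.S16265
-- import your own Groth.Agent.* helpers here
import Groth.Agent.Lib.Helper27.FilA

set_option autoImplicit false
open FunFld

namespace Groth.Agent.S16265

/-- Let `K/k` be a function field of one variable over an algebraically closed field `k` of
characteristic zero (the function field of a smooth projective curve), `D` a divisor and `V ⊆ L(D)`
a linear system of dimension `r + 1`; write `V(-mP-nQ) = V ∩ L(D - mP - nQ)` for the members
vanishing to the indicated orders. Assume `V` has no special ramification point, i.e. no place of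
weight at least two: for every place `R`, `dim V(-rR) ≤ 1` and `V(-(r+2)R) = 0`. Let `P ≠ Q` be
places and `a, b ≥ 1` with `a + b = r + 1` (so that `V(-aP)` and `V(-bQ)` have dimensions `b` and
`a`). Then the following are equivalent: (1) the system `V(-aP)` has weight at least two at `Q`,
that is `dim V(-aP-(b-1)Q) ≥ 2` or `dim V(-aP-(b+1)Q) ≥ 1`, and the system `V(-bQ)` has weight at
least two at `P`, that is `dim V(-(a-1)P-bQ) ≥ 2` or `dim V(-(a+1)P-bQ) ≥ 1`; (2) one of (a) `dim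
V(-(a+1)P-(b+1)Q) ≥ 1`, (b) `dim V(-(a-1)P-(b-1)Q) ≥ 3`, (c) `dim V(-aP-(b+1)Q) ≥ 1` and `dim
V(-(a-1)P-bQ) ≥ 2`, (d) `dim V(-(a+1)P-bQ) ≥ 1` and `dim V(-aP-(b-1)Q) ≥ 2`. (The published
statement is for a smooth curve over the complex numbers.) -/
theorem result
    (k K : Type*) [Field k] [IsAlgClosed k] [CharZero k] [Field K] [Algebra k K]
    (hK : FunFld.IsFunctionField k K) (D : FunFld.Divisor k K)
    (V : Submodule k K) (hVD : V ≤ FunFld.L D) (r : ℕ) (hr : Module.finrank k ↥V = r + 1)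
    (hns : ∀ R : FunFld.Place k K,
      Module.finrank k ↥(V ⊓ FunFld.L (D - Finsupp.single R (r : ℤ))) ≤ 1 ∧
        V ⊓ FunFld.L (D - Finsupp.single R ((r : ℤ) + 2)) = ⊥)
    (P Q : FunFld.Place k K) (hPQ : P ≠ Q) (a b : ℕ) (ha : 1 ≤ a) (hb : 1 ≤ b) (hab : a + b = r + 1) :
    ((2 ≤ Module.finrank k ↥(V ⊓ FunFld.L (D - Finsupp.single P (a : ℤ) - Finsupp.single Q ((b : ℤ) - 1 : ℤ))) ∨
        1 ≤ Module.finrank k ↥(V ⊓ FunFld.L (D - Finsupp.single P (a : ℤ) - Finsupp.single Q ((b : ℤ) + 1 : ℤ)))) ∧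
      (2 ≤ Module.finrank k ↥(V ⊓ FunFld.L (D - Finsupp.single P ((a : ℤ) - 1 : ℤ) - Finsupp.single Q (b : ℤ))) ∨
        1 ≤ Module.finrank k ↥(V ⊓ FunFld.L (D - Finsupp.single P ((a : ℤ) + 1 : ℤ) - Finsupp.single Q (b : ℤ))))) ↔
    (1 ≤ Module.finrank k ↥(V ⊓ FunFld.L (D - Finsupp.single P ((a : ℤ) + 1 : ℤ) - Finsupp.single Q ((b : ℤ) + 1 : ℤ))) ∨
      3 ≤ Module.finrank k ↥(V ⊓ FunFld.L (D - Finsupp.single P ((a : ℤ) - 1 : ℤ) - Finsupp.single Q ((b : ℤ) - 1 : ℤ))) ∨
      (1 ≤ Module.finrank k ↥(V ⊓ FunFld.L (D - Finsupp.single P (a : ℤ) - Finsupp.single Q ((b : ℤ) + 1 : ℤ))) ∧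
        2 ≤ Module.finrank k ↥(V ⊓ FunFld.L (D - Finsupp.single P ((a : ℤ) - 1 : ℤ) - Finsupp.single Q (b : ℤ)))) ∨
      (1 ≤ Module.finrank k ↥(V ⊓ FunFld.L (D - Finsupp.single P ((a : ℤ) + 1 : ℤ) - Finsupp.single Q (b : ℤ))) ∧
        2 ≤ Module.finrank k ↥(V ⊓ FunFld.L (D - Finsupp.single P (a : ℤ) - Finsupp.single Q ((b : ℤ) - 1 : ℤ))))) := by
  classical
  haveI : Module.Finite k V := Module.finite_of_finrank_pos (by rw [hr]; omega)
  set W : ℤ → ℤ → Submodule k K := fun m n =>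
    V ⊓ FunFld.L (D - Finsupp.single P m - Finsupp.single Q n) with hW
  haveI : ∀ m n, FiniteDimensional k (W m n) := fun m n =>
    Submodule.finiteDimensional_inf_left V _
  have hdiv1 : ∀ m n : ℤ, D - Finsupp.single P (m + 1) - Finsupp.single Q n =
      (D - Finsupp.single P m - Finsupp.single Q n) - Finsupp.single P 1 := by
    intro m n; rw [Finsupp.single_add]; abel
  have hdiv2 : ∀ m n : ℤ, D - Finsupp.single P m - Finsupp.single Q (n + 1) =
      (D - Finsupp.single P m - Finsupp.single Q n) - Finsupp.single Q 1 := by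
    intro m n; rw [Finsupp.single_add]; abel
  have hle : ∀ (E : FunFld.Divisor k K) (R : FunFld.Place k K), E - Finsupp.single R 1 ≤ E :=
    fun E R => sub_le_self _ (Groth.Agent.Helper16.FF.single_nonneg R (by norm_num))
  have hM1 : ∀ m n, W (m + 1) n ≤ W m n := fun m n =>
    inf_le_inf_left V (by rw [hdiv1]; exact Groth.Agent.Helper16.FF.L_mono (hle _ P))
  have hM2 : ∀ m n, W m (n + 1) ≤ W m n := fun m n =>
    inf_le_inf_left V (by rw [hdiv2]; exact Groth.Agent.Helper16.FF.L_mono (hle _ Q))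
  have hD1 : ∀ m n, Module.finrank k (W m n) ≤ Module.finrank k (W (m + 1) n) + 1 := by
    intro m n
    obtain ⟨d, hd, h⟩ := Groth.Agent.Helper27.Fil.hasRelDim_L_sub_single hK
      (D - Finsupp.single P m - Finsupp.single Q n) P
    have := Groth.Agent.Helper27.Fil.finrank_inf_le _ _ V
      (Groth.Agent.Helper16.FF.L_mono (hle _ P)) h
    show Module.finrank k ↥(V ⊓ FunFld.L (D - Finsupp.single P m - Finsupp.single Q n)) ≤
      Module.finrank k ↥(V ⊓ FunFld.L (D - Finsupp.single P (m + 1) - Finsupp.single Q n)) + 1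
    rw [hdiv1]; omega
  have hD2 : ∀ m n, Module.finrank k (W m n) ≤ Module.finrank k (W m (n + 1)) + 1 := by
    intro m n
    obtain ⟨d, hd, h⟩ := Groth.Agent.Helper27.Fil.hasRelDim_L_sub_single hK
      (D - Finsupp.single P m - Finsupp.single Q n) Q
    have := Groth.Agent.Helper27.Fil.finrank_inf_le _ _ V
      (Groth.Agent.Helper16.FF.L_mono (hle _ Q)) h
    show Module.finrank k ↥(V ⊓ FunFld.L (D - Finsupp.single P m - Finsupp.single Q n)) ≤
      Module.finrank k ↥(V ⊓ FunFld.L (D - Finsupp.single P m - Finsupp.single Q (n + 1))) + 1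
    rw [hdiv2]; omega
  have hI : ∀ m n, W (m + 1) n ⊓ W m (n + 1) = W (m + 1) (n + 1) := by
    intro m n
    refine le_antisymm ?_ (le_inf (hM2 (m + 1) n) (hM1 m (n + 1)))
    rintro x ⟨⟨hV, h1⟩, ⟨-, h2⟩⟩
    refine ⟨hV, fun R => ?_⟩
    by_cases hRP : R = P
    · refine (h1 R).trans ?_
      rw [WithZero.exp_le_exp]
      simp only [Finsupp.sub_apply, Finsupp.single_apply]
      have : ¬ (Q = R) := by rw [hRP]; exact fun h => hPQ h.symm
      simp only [if_neg this]
      exact le_rfl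
    · refine (h2 R).trans ?_
      rw [WithZero.exp_le_exp]
      simp only [Finsupp.sub_apply, Finsupp.single_apply]
      have : ¬ (P = R) := fun h => hRP h.symm
      simp only [if_neg this]
      exact le_rfl
  exact Groth.Agent.Helper27.Fil.biflt W hM1 hM2 hD1 hD2 hI a b

end Groth.Agent.S16265
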