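import Groth.Statements.S16266
-- import your own Groth.Agent.* helpers here
import Mathlib

set_option autoImplicit false
open FunFld

namespace Groth.Agent.S16266

/-- Let `K/k` be a function field of one variable over an algebraically closed field `k` of
characteristic zero, `D` a divisor, `V ⊆ L(D)` a linear system of dimension `r + 1` with `r ≥ 1`,
and `P` a place with `V' = V(-P) = V ∩ L(D - P) ≠ V`, an `r`-dimensional system in `L(D - P)`.
Assume that neither `V` nor `V'` has a special ramification point (a place of weight at least two):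
for every place `R`, `dim V ∩ L(D - rR) ≤ 1`, `V ∩ L(D - (r+2)R) = 0`, `dim V' ∩ L(D - P - (r-1)R) ≤
1` and `V' ∩ L(D - P - (r+1)R) = 0`. Then no place `Q ≠ P` is a ramification point of both `V` and
`V'`: for no such `Q` are both `V ∩ L(D - (r+1)Q)` and `V' ∩ L(D - P - rQ)` nonzero. (The published
statement is for a smooth curve over the complex numbers.) -/
theorem result
    (k K : Type*) [Field k] [IsAlgClosed k] [CharZero k] [Field K] [Algebra k K]
    (hK : FunFld.IsFunctionField k K) (D : FunFld.Divisor k K)
    (V : Submodule k K) (hVD : V ≤ FunFld.L D) (r : ℕ) (hr : Module.finrank k ↥V = r + 1) (hr1 : 1 ≤ r)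
    (P : FunFld.Place k K) (hP : V ⊓ FunFld.L (D - Finsupp.single P 1) ≠ V)
    (hns : ∀ R : FunFld.Place k K,
      Module.finrank k ↥(V ⊓ FunFld.L (D - Finsupp.single R (r : ℤ))) ≤ 1 ∧
        V ⊓ FunFld.L (D - Finsupp.single R ((r : ℤ) + 2)) = ⊥)
    (hns' : ∀ R : FunFld.Place k K,
      Module.finrank k ↥(V ⊓ FunFld.L (D - Finsupp.single P 1 - Finsupp.single R ((r : ℤ) - 1))) ≤ 1 ∧
        V ⊓ FunFld.L (D - Finsupp.single P 1 - Finsupp.single R ((r : ℤ) + 1)) = ⊥)
    (Q : FunFld.Place k K) (hQP : Q ≠ P) :
    ¬ (V ⊓ FunFld.L (D - Finsupp.single Q ((r : ℤ) + 1)) ≠ ⊥ ∧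
       V ⊓ FunFld.L (D - Finsupp.single P 1 - Finsupp.single Q (r : ℤ)) ≠ ⊥) := by
  classical
  rintro ⟨h1, h2⟩
  haveI : Module.Finite k V := Module.finite_of_finrank_pos (by rw [hr]; omega)
  set W := V ⊓ FunFld.L (D - Finsupp.single Q (r : ℤ)) with hW
  set A := V ⊓ FunFld.L (D - Finsupp.single Q ((r : ℤ) + 1)) with hA
  set B := V ⊓ FunFld.L (D - Finsupp.single P 1 - Finsupp.single Q (r : ℤ)) with hB
  have hAW : A ≤ W := by
    refine inf_le_inf_left V ?_
    intro x hx R
    refine (hx R).trans ?_
    rw [WithZero.exp_le_exp, Finsupp.sub_apply, Finsupp.sub_apply, Finsupp.single_apply,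
      Finsupp.single_apply]
    split_ifs <;> omega
  have hBW : B ≤ W := by
    refine inf_le_inf_left V ?_
    intro x hx R
    refine (hx R).trans ?_
    rw [WithZero.exp_le_exp, Finsupp.sub_apply, Finsupp.sub_apply, Finsupp.sub_apply,
      Finsupp.single_apply, Finsupp.single_apply]
    split_ifs <;> omega
  haveI : Module.Finite k W := Module.Finite.of_injective (Submodule.inclusion inf_le_left)
    (Submodule.inclusion_injective _)
  have hWd : Module.finrank k W ≤ 1 := (hns Q).1
  have hAeq : A = W := by
    refine Submodule.eq_of_le_of_finrank_le hAW ?_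
    have : 0 < Module.finrank k A := by
      haveI : Module.Finite k A := Module.Finite.of_injective (Submodule.inclusion hAW)
        (Submodule.inclusion_injective _)
      rw [Module.finrank_pos_iff]
      exact (Submodule.nontrivial_iff_ne_bot).2 h1
    omega
  have hBeq : B = W := by
    refine Submodule.eq_of_le_of_finrank_le hBW ?_
    have : 0 < Module.finrank k B := by
      haveI : Module.Finite k B := Module.Finite.of_injective (Submodule.inclusion hBW)
        (Submodule.inclusion_injective _)
      rw [Module.finrank_pos_iff]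
      exact (Submodule.nontrivial_iff_ne_bot).2 h2
    omega
  have hbot := (hns' Q).2
  have hle : A ⊓ B ≤ V ⊓ FunFld.L (D - Finsupp.single P 1 - Finsupp.single Q ((r : ℤ) + 1)) := by
    rintro x ⟨⟨hxV, hxA⟩, ⟨-, hxB⟩⟩
    refine ⟨hxV, ?_⟩
    intro R
    by_cases hRQ : R = Q
    · refine (hxA R).trans ?_
      rw [WithZero.exp_le_exp]
      simp only [Finsupp.sub_apply, Finsupp.single_apply]
      have : ¬ (P = R) := by rw [hRQ]; exact fun h => hQP h.symm
      rw [if_neg this]
      omega
    · refine (hxB R).trans ?_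
      rw [WithZero.exp_le_exp]
      simp only [Finsupp.sub_apply, Finsupp.single_apply]
      have : ¬ (Q = R) := fun h => hRQ h.symm
      simp only [if_neg this]
      exact le_rfl
  rw [hbot, hAeq, hBeq, inf_idem, le_bot_iff] at hle
  exact h1 (hAeq.trans hle)

end Groth.Agent.S16266
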