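import Groth.Statements.S16268
import Mathlib

set_option autoImplicit false
universe u w
open CategoryTheory CategoryTheory.Limits AlgebraicGeometry Opposite
open EtCore

namespace Groth.Agent.S16268



lemma galois_sheaf {C : Type*} [Category C] {T Y : C} (hT : IsTerminal T) [HasBinaryProduct Y Y]
    {G : Type*} [Group G] (σ : G →* Aut Y) (P : Cᵒᵖ ⥤ Type w)
    (hP : Function.Injective (fun s : P.obj (op (Y ⨯ Y)) =>
      fun g : G => P.map (prod.lift (𝟙 Y) (σ g).hom).op s)) :
    Presieve.IsSheafFor P (Presieve.singleton (hT.from Y)) ↔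
      (Function.Injective (P.map (hT.from Y).op) ∧
        Set.range (P.map (hT.from Y).op) = {s | ∀ g : G, P.map (σ g).hom.op s = s}) := by
  rw [Presieve.isSheafFor_singleton]
  have key : ∀ x : P.obj (op Y),
      (∀ {Z : C} (p₁ p₂ : Z ⟶ Y), p₁ ≫ hT.from Y = p₂ ≫ hT.from Y →
        P.map p₁.op x = P.map p₂.op x) ↔ ∀ g : G, P.map (σ g).hom.op x = x := by
    intro x
    constructor
    · intro h g
      have := h (σ g).hom (𝟙 Y) (hT.hom_ext _ _)
      simpa using this
    · intro h Z p₁ p₂ _
      have h2 : P.map (prod.fst : Y ⨯ Y ⟶ Y).op x = P.map (prod.snd : Y ⨯ Y ⟶ Y).op x := by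
        apply hP
        funext g
        simp only [← Functor.map_comp_apply, ← op_comp, prod.lift_fst, prod.lift_snd]
        rw [h g]; simp
      have e1 : P.map p₁.op x = P.map (prod.lift p₁ p₂).op (P.map (prod.fst : Y ⨯ Y ⟶ Y).op x) := by
        rw [← Functor.map_comp_apply, ← op_comp, prod.lift_fst]
      have e2 : P.map p₂.op x = P.map (prod.lift p₁ p₂).op (P.map (prod.snd : Y ⨯ Y ⟶ Y).op x) := by
        rw [← Functor.map_comp_apply, ← op_comp, prod.lift_snd]
      rw [e1, e2, h2]
  constructor
  · intro h
    have himg : ∀ t, ∀ g : G, P.map (σ g).hom.op (P.map (hT.from Y).op t) = P.map (hT.from Y).op t := by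
      intro t g
      rw [← Functor.map_comp_apply, ← op_comp, hT.hom_ext ((σ g).hom ≫ hT.from Y) (hT.from Y)]
    refine ⟨?_, ?_⟩
    · intro t t' htt
      exact (h _ ((key _).mpr (himg t))).unique rfl htt.symm
    · ext s
      constructor
      · rintro ⟨t, rfl⟩
        exact himg t
      · intro hs
        obtain ⟨t, ht, -⟩ := h s ((key s).mpr hs)
        exact ⟨t, ht⟩
  · rintro ⟨hinj, hrange⟩ x hx
    have hx' : x ∈ {s | ∀ g : G, P.map (σ g).hom.op s = s} := (key x).mp hx
    rw [← hrange] at hx'
    obtain ⟨t, ht⟩ := hx'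
    exact ⟨t, ht, fun t' ht' => hinj (ht'.trans ht.symm)⟩

/-- Let X be a scheme, Y an etale X-scheme with Y -> X surjective, and G a finite group acting on Y by
X-automorphisms such that the morphisms (id, g) : Y -> Y x_X Y exhibit Y x_X Y as the coproduct of
copies of Y indexed by G (Y -> X is a Galois covering with group G). Let P be a presheaf of sets on
the small etale site of X which takes this coproduct to a product: s |-> (g |-> (id, g)^* s) is a
bijection from P(Y x_X Y) onto the G-indexed families in P(Y). Then P satisfies the sheaf condition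
for the covering consisting of the single morphism Y -> X if and only if the restriction P(X) ->
P(Y) is injective and its image is the set of G-invariant elements of P(Y). -/
theorem result (X : Scheme.{u})
    (Y : X.Etale) (hY : Function.Surjective Y.hom.base)
    {G : Type u} [Group G] [Finite G] (σ : G →* Aut Y)
    (hgal : Nonempty (IsColimit (Cofan.mk (Y ⨯ Y) (fun g : G => prod.lift (𝟙 Y) (σ g).hom))))
    (P : X.Etaleᵒᵖ ⥤ Type w)
    (hP : Function.Bijective (fun s : P.obj (op (Y ⨯ Y)) => fun g : G => P.map (prod.lift (𝟙 Y) (σ g).hom).op s)) :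
    Presieve.IsSheafFor P (Presieve.singleton ((EtCore.topIsTerminal X).from Y)) ↔
      (Function.Injective (P.map ((EtCore.topIsTerminal X).from Y).op) ∧
        Set.range (P.map ((EtCore.topIsTerminal X).from Y).op) = {s | ∀ g : G, P.map (σ g).hom.op s = s}) := by
  exact galois_sheaf (EtCore.topIsTerminal X) σ P hP.1

end Groth.Agent.S16268
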