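import Groth.Statements.S16269
import Groth.Agent.S16268
import Mathlib

set_option autoImplicit false
universe u w
open CategoryTheory CategoryTheory.Limits AlgebraicGeometry Opposite
open EtCore

namespace Groth.Agent.S16269


set_option backward.isDefEq.respectTransparency.types false in
/-- A colimit cofan in the small étale site is jointly surjective. -/
lemma jointly_surj {X : Scheme.{u}} {W : X.Etale} {ι : Type*} {Z : ι → X.Etale} (f : ∀ i, Z i ⟶ W)
    (h : IsColimit (Cofan.mk W f)) : ⋃ i, Set.range (f i).left = Set.univ := by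
  classical
  obtain ⟨U, hU⟩ : ∃ U : W.left.Opens, (U : Set W.left) = ⋃ i, Set.range (f i).left :=
    ⟨⟨⋃ i, Set.range (f i).left,
      isOpen_iUnion fun i => (f i).left.isOpenMap.isOpen_range⟩, rfl⟩
  let WU : X.Etale := Scheme.Etale.mk (U.ι ≫ W.hom)
  let j : WU ⟶ W := MorphismProperty.Over.homMk U.ι rfl trivial
  have hr : ∀ i, Set.range (f i).left ⊆ Set.range U.ι := by
    intro i
    rw [Scheme.Opens.range_ι, hU]
    exact Set.subset_iUnion (fun i => Set.range (f i).left) i
  let fl : ∀ i, (Z i).left ⟶ (U : Scheme.{u}) := fun i => IsOpenImmersion.lift U.ι (f i).left (hr i)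
  have hfl : ∀ i, fl i ≫ U.ι = (f i).left := fun i => IsOpenImmersion.lift_fac _ _ _
  let f' : ∀ i, Z i ⟶ WU := fun i => MorphismProperty.Over.homMk (fl i) (by
    show fl i ≫ U.ι ≫ W.hom = (Z i).hom
    rw [← Category.assoc, hfl]; exact MorphismProperty.Over.w (f i)) trivial
  have hf' : ∀ i, f' i ≫ j = f i := by
    intro i
    apply MorphismProperty.Over.Hom.ext
    exact hfl i
  let r : W ⟶ WU := h.desc (Cofan.mk WU f')
  have hr' : ∀ i, f i ≫ r = f' i := fun i => h.fac (Cofan.mk WU f') ⟨i⟩
  have hid : r ≫ j = 𝟙 W := by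
    apply h.hom_ext
    rintro ⟨i⟩
    show f i ≫ r ≫ j = f i ≫ 𝟙 W
    rw [← Category.assoc, hr', hf', Category.comp_id]
  have hid' : r.left ≫ U.ι = 𝟙 W.left := by
    have := congrArg (fun φ => φ.left) hid
    exact this
  ext x
  simp only [Set.mem_univ, iff_true]
  have hx : U.ι (r.left x) = x := by
    have := congrArg (fun φ : W.left ⟶ W.left => φ x) hid'
    exact this
  have : x ∈ Set.range U.ι := ⟨_, hx⟩
  rw [Scheme.Opens.range_ι, hU] at this
  exact this

set_option backward.isDefEq.respectTransparency.types false in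
theorem main (X : Scheme.{u})
    (Y : X.Etale) (hY : Function.Surjective Y.hom.base)
    {G : Type u} [Group G] [Finite G] (σ : G →* Aut Y)
    (hgal : Nonempty (IsColimit (Cofan.mk (Y ⨯ Y) (fun g : G => prod.lift (𝟙 Y) (σ g).hom))))
    (F : EtCoh.Ab X) :
    Function.Injective (F.obj.map ((EtCore.topIsTerminal X).from Y).op) ∧
      Set.range (F.obj.map ((EtCore.topIsTerminal X).from Y).op) =
        {s : EtCoh.sect F Y | ∀ g : G, F.obj.map (σ g).hom.op s = s} := by
  obtain ⟨hc⟩ := hgal
  obtain ⟨P, hPdef⟩ : ∃ P : X.Etaleᵒᵖ ⥤ Type (u+1), P = F.obj ⋙ forget AddCommGrpCat := ⟨_, rfl⟩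
  have hPsheaf : Presieve.IsSheaf X.smallEtaleTopology P := by
    rw [hPdef, ← isSheaf_iff_isSheaf_of_type]
    exact (Presheaf.isSheaf_iff_isSheaf_forget _ _ (forget AddCommGrpCat)).mp F.property
  -- the singleton cover
  have hcov1 : Sieve.ofArrows (fun _ : PUnit.{1} => Y) (fun _ => (EtCore.topIsTerminal X).from Y) ∈
      X.smallEtaleTopology (EtCoh.top X) := by
    rw [Scheme.ofArrows_mem_smallEtaleTopology_iff]
    ext x
    simp only [Set.mem_iUnion, Set.mem_range, Set.mem_univ, iff_true]
    have hleft : ((EtCore.topIsTerminal X).from Y).left = Y.hom := by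
      have := MorphismProperty.Over.w ((EtCore.topIsTerminal X).from Y)
      exact (Category.comp_id _).symm.trans this
    obtain ⟨y, hy⟩ := hY x
    exact ⟨⟨⟩, y, by rw [hleft]; exact hy⟩
  have h1 : Presieve.IsSheafFor P (Presieve.singleton ((EtCore.topIsTerminal X).from Y)) := by
    have := hPsheaf _ hcov1
    rw [Sieve.ofArrows, ← Presieve.isSheafFor_iff_generate, Presieve.ofArrows_pUnit] at this
    exact this
  -- the Galois cover of Y × Y
  have hcov2 : Sieve.ofArrows (fun _ : G => Y) (fun g : G => prod.lift (𝟙 Y) (σ g).hom) ∈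
      X.smallEtaleTopology (Y ⨯ Y) := by
    rw [Scheme.ofArrows_mem_smallEtaleTopology_iff]
    exact jointly_surj _ hc
  have hP : Function.Injective (fun s : P.obj (op (Y ⨯ Y)) =>
      fun g : G => P.map (prod.lift (𝟙 Y) (σ g).hom).op s) := by
    intro s t hst
    apply (hPsheaf.isSeparated _ hcov2).ext
    rintro Z f ⟨Z', a, b, ⟨g⟩, rfl⟩
    have := congrFun hst g
    simp only at this
    rw [op_comp, Functor.map_comp_apply, Functor.map_comp_apply, this]
  have := (Groth.Agent.S16268.galois_sheaf (EtCore.topIsTerminal X) σ P hP).mp h1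
  subst hPdef
  exact this

/-- Let X be a scheme, Y an etale X-scheme with Y -> X surjective, and G a finite group acting on Y by
X-automorphisms such that the morphisms (id, g) : Y -> Y x_X Y exhibit Y x_X Y as the coproduct of
copies of Y indexed by G (a Galois covering with group G). For an abelian sheaf F on the small etale
site of X, the restriction map F(X) -> F(Y) is injective and its image is the set of sections of F
over Y fixed by every element of G. -/
theorem result (X : Scheme.{u})
    (Y : X.Etale) (hY : Function.Surjective Y.hom.base)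
    {G : Type u} [Group G] [Finite G] (σ : G →* Aut Y)
    (hgal : Nonempty (IsColimit (Cofan.mk (Y ⨯ Y) (fun g : G => prod.lift (𝟙 Y) (σ g).hom))))
    (F : EtCoh.Ab X) :
    Function.Injective (F.obj.map ((EtCore.topIsTerminal X).from Y).op) ∧
      Set.range (F.obj.map ((EtCore.topIsTerminal X).from Y).op) =
        {s : EtCoh.sect F Y | ∀ g : G, F.obj.map (σ g).hom.op s = s} := by
  exact main X Y hY σ hgal F

end Groth.Agent.S16269
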