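import Groth.Statements.S16272

set_option autoImplicit false
universe w' w v u
open CategoryTheory
open NonAbH1

namespace Groth.Agent.S16272

open CategoryTheory Opposite

section
variable {C : Type u} [Category.{v} C] {J : GrothendieckTopology C} {G : Sheaf J GrpCat.{w}}

theorem map_comp_apply' (P : NonAbH1.GSheaf G) {T T' X : C} (φ : T ⟶ T') (b : T' ⟶ X)
    (s : P.P.obj.obj (op X)) :
    P.P.obj.map (φ ≫ b).op s = P.P.obj.map φ.op (P.P.obj.map b.op s) := by
  rw [op_comp, Functor.map_comp]
  rfl

/-- the cocycle cut out by a family of sections of a pseudo-torsor. -/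
noncomputable def cocycleOf (P : NonAbH1.GSheaf G) (pt : P.IsPseudoTorsor) {I : Type w'} (U : I → C)
    (s : ∀ i, P.P.obj.obj (op (U i))) : PresheafOfGroups.OneCocycle G.obj U where
  ev i j T a b := (pt (op T) (P.P.obj.map b.op (s j)) (P.P.obj.map a.op (s i))).exists.choose
  ev_precomp i j T T' φ a b := by
    apply (pt (op T) (P.P.obj.map (φ ≫ b).op (s j)) (P.P.obj.map (φ ≫ a).op (s i))).unique
    · rw [map_comp_apply', map_comp_apply', ← P.map_smul,
        (pt (op T') (P.P.obj.map b.op (s j)) (P.P.obj.map a.op (s i))).exists.choose_spec]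
    · exact (pt (op T) (P.P.obj.map (φ ≫ b).op (s j))
        (P.P.obj.map (φ ≫ a).op (s i))).exists.choose_spec
  ev_trans i j k T a b c := by
    apply (pt (op T) (P.P.obj.map c.op (s k)) (P.P.obj.map a.op (s i))).unique
    · rw [P.mul_smul,
        (pt (op T) (P.P.obj.map c.op (s k)) (P.P.obj.map b.op (s j))).exists.choose_spec,
        (pt (op T) (P.P.obj.map b.op (s j)) (P.P.obj.map a.op (s i))).exists.choose_spec]
    · exact (pt (op T) (P.P.obj.map c.op (s k)) (P.P.obj.map a.op (s i))).exists.choose_spec

theorem cocycleOf_spec (P : NonAbH1.GSheaf G) (pt : P.IsPseudoTorsor) {I : Type w'} (U : I → C)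
    (s : ∀ i, P.P.obj.obj (op (U i))) : P.IsCocycleOf U s (cocycleOf P pt U s) := by
  intro i j T a b
  exact (pt (op T) (P.P.obj.map b.op (s j)) (P.P.obj.map a.op (s i))).exists.choose_spec

theorem class_eq_of_isCocycleOf (P : NonAbH1.GSheaf G) (pt : P.IsPseudoTorsor) {I : Type w'}
    (U : I → C) (s s' : ∀ i, P.P.obj.obj (op (U i))) (γ γ' : PresheafOfGroups.OneCocycle G.obj U)
    (h : P.IsCocycleOf U s γ) (h' : P.IsCocycleOf U s' γ') : γ'.class = γ.class := by
  apply Quot.sound
  refine ⟨fun i => (pt (op (U i)) (s' i) (s i)).exists.choose, ?_⟩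
  have hα : ∀ i, P.smul ((pt (op (U i)) (s' i) (s i)).exists.choose) (s' i) = s i :=
    fun i => (pt (op (U i)) (s' i) (s i)).exists.choose_spec
  intro i j T a b
  apply (pt (op T) (P.P.obj.map b.op (s' j)) (P.P.obj.map a.op (s i))).unique
  · rw [P.mul_smul, h' i j a b, ← P.map_smul, hα]
  · rw [P.mul_smul, ← P.map_smul, hα, h i j a b]

end

/-- The class map is well defined: let C be a category with a Grothendieck topology J, G a sheaf of
groups and U a family of objects. A G-torsor P with a section over every U_i has exactly one Cech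
class on U: choosing sections s_i of P over the U_i cuts out a 1-cocycle of G on U, and its class in
the Cech cohomology set H^1(U, G) does not depend on the choice. (The published statement is for an
etale covering of a scheme; this row is stated for any family of objects of any site.) -/
theorem result {C : Type u} [Category.{v} C]
    {J : GrothendieckTopology C} {G : Sheaf J GrpCat.{w}} (P : NonAbH1.Torsor G)
    {I : Type w'} (U : I → C) (hP : P.TrivialisedBy U) :
    ∃! c : PresheafOfGroups.H1 G.obj U, P.HasCechClass U c := by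
  classical
  have pt := P.isTorsor.1
  refine ⟨(cocycleOf P.toGSheaf pt U (fun i => (hP i).some)).class,
    ⟨fun i => (hP i).some, _, cocycleOf_spec P.toGSheaf pt U _, rfl⟩, ?_⟩
  rintro c ⟨s', γ', h', rfl⟩
  exact class_eq_of_isCocycleOf P.toGSheaf pt U _ s' _ γ' (cocycleOf_spec P.toGSheaf pt U _) h'

end Groth.Agent.S16272
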