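import Groth.Statements.S16283
import Groth.Agent.Lib.Helper24.RelExt1
import Groth.Agent.Lib.Helper24.GSSExt

set_option autoImplicit false
universe u
open CategoryTheory CategoryTheory.Limits AlgebraicGeometry ZeroObject
open Coherent

namespace Groth.Agent.S16283

/-- Let f : X → Y and g : Y → Z be morphisms of schemes, h = g ∘ f, and F, G O_X-modules. For a morphism
u out of X write Ext^b_u(F, -) for the b-th right derived functor of the left exact functor G ↦ u_*
Hom_{O_X}(F, G) from O_X-modules. Then there is an E₂ spectral sequence of O_Z-modules with E₂^{a,b}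
≅ R^a g_*(Ext^b_f(F, G)) for a, b ≥ 0 (and 0 otherwise), bounded, abutting with finite filtrations
to Ext^n_h(F, G) (n ≥ 0; 0 for n < 0). (Stated for schemes, the published statement being for ringed
spaces. Existence only: the E₂ identifications and the abutment are some isomorphisms. The internal
Hom functor of F, injective resolutions on X and Y and additivity of the composite functors are the
stated instance hypotheses, all true.) -/
theorem result (X Y Z : Scheme.{u}) (f : X ⟶ Y) (g : Y ⟶ Z)
    (F G : X.Modules)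
    [ModSite.HasSheafHom (O := X.sheaf) F] [HasInjectiveResolutions (ModSite.Mod X.sheaf)] [HasInjectiveResolutions Y.Modules]
    [(ModSite.sheafHom (O := X.sheaf) F ⋙ Scheme.Modules.pushforward f).Additive]
    [(ModSite.sheafHom (O := X.sheaf) F ⋙ Scheme.Modules.pushforward (f ≫ g)).Additive] :
    ∃ (E : E₂CohomologicalSpectralSequence Z.Modules)
      (a : SpSeq.Abutment E (fun n : ℤ =>
        if 0 ≤ n then ((ModSite.sheafHom (O := X.sheaf) F ⋙ Scheme.Modules.pushforward (f ≫ g)).rightDerived n.toNat).obj G else (0 : Z.Modules))),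
      (∀ n : ℤ, a.IsFinite n) ∧ SpSeq.IsBounded E ∧
      ∀ p q : ℤ, Nonempty ((E.page 2 le_rfl).X (p, q) ≅
        (if 0 ≤ p ∧ 0 ≤ q then (Coh.Rpush g p.toNat).obj (((ModSite.sheafHom (O := X.sheaf) F ⋙ Scheme.Modules.pushforward f).rightDerived q.toNat).obj G)
          else (0 : Z.Modules))) := by
  haveI : EnoughInjectives Y.Modules := by
    refine ⟨fun M => ?_⟩
    let I : InjectiveResolution M := (HasInjectiveResolution.out (Z := M)).some
    exact ⟨{ J := I.cocomplex.X 0
             injective := I.injective 0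
             f := (I.ι.f 0 : M ⟶ I.cocomplex.X 0)
             mono := inferInstanceAs (Mono (I.ι.f 0)) }⟩
  haveI : EnoughInjectives (ModSite.Mod X.sheaf) := by
    refine ⟨fun M => ?_⟩
    let I : InjectiveResolution M := (HasInjectiveResolution.out (Z := M)).some
    exact ⟨{ J := I.cocomplex.X 0
             injective := I.injective 0
             f := (I.ι.f 0 : M ⟶ I.cocomplex.X 0)
             mono := inferInstanceAs (Mono (I.ι.f 0)) }⟩
  haveI : HasDerivedCategory.{u + 1} Y.Modules := HasDerivedCategory.standard _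
  let T : ModSite.Mod X.sheaf ⥤ Y.Modules :=
    ModSite.sheafHom (O := X.sheaf) F ⋙ Scheme.Modules.pushforward f
  let S : Y.Modules ⥤ Z.Modules := Scheme.Modules.pushforward g
  haveI : T.Additive := inferInstanceAs
    ((ModSite.sheafHom (O := X.sheaf) F ⋙ Scheme.Modules.pushforward f).Additive)
  refine Groth.Agent.Helper24.GSS.exists_grothendieck_spectralSequence' S T ?_ G _ _ ?_ ?_ ?_ ?_
  · intro Q hQ q hq
    obtain ⟨k, rfl⟩ : ∃ k, q = k + 1 := ⟨q - 1, by omega⟩
    exact Groth.Agent.Helper24.RelExt.isZero_Rpush_push_sheafHom f g F Q k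
  · intro n
    have hn : (0 : ℤ) ≤ (n : ℤ) := by positivity
    simp only [if_pos hn, Int.toNat_natCast]
    let e₀ : T ⋙ S ≅ ModSite.sheafHom (O := X.sheaf) F ⋙ Scheme.Modules.pushforward (f ≫ g) :=
      Functor.associator _ _ _ ≪≫ Functor.isoWhiskerLeft _ (Scheme.Modules.pushforwardComp f g)
    obtain ⟨e1⟩ := Groth.Agent.Helper24.GSS.nonempty_rightDerived_iso_of_iso _ _ e₀ n
    exact ⟨e1.app G⟩
  · intro n hn
    simp only [if_neg (not_le.2 hn)]
    exact isZero_zero _
  · intro p q
    have hpq : (0 : ℤ) ≤ (p : ℤ) ∧ (0 : ℤ) ≤ (q : ℤ) := ⟨by positivity, by positivity⟩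
    simp only [if_pos hpq, Int.toNat_natCast]
    exact ⟨Iso.refl _⟩
  · intro p q hpq
    have : ¬ ((0 : ℤ) ≤ p ∧ (0 : ℤ) ≤ q) := fun h => by lia
    simp only [if_neg this]
    exact isZero_zero _

end Groth.Agent.S16283
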