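import Groth.Statements.S16288
import Groth.Agent.Lib.Helper4.DRank

set_option autoImplicit false
universe u
open CategoryTheory
open FlatCx

namespace Groth.Agent.S16288

open TensorProduct in
/-- fibre dimension of the cokernel of `P.d i j` at `x`. -/
noncomputable def cok {A : Type u} [CommRing A] {ι : Type} {c : ComplexShape ι}
    (P : HomologicalComplex (ModuleCat.{u} A) c) (i j : ι) (x : PrimeSpectrum A) : ℕ :=
  Module.finrank x.asIdeal.ResidueField (x.asIdeal.ResidueField ⊗[A]
    (P.X j ⧸ LinearMap.range (P.d i j).hom))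

open TensorProduct in
/-- fibre dimension of `P.X i` at `x`. -/
noncomputable def fib {A : Type u} [CommRing A] {ι : Type} {c : ComplexShape ι}
    (P : HomologicalComplex (ModuleCat.{u} A) c) (i : ι) (x : PrimeSpectrum A) : ℕ :=
  Module.finrank x.asIdeal.ResidueField (x.asIdeal.ResidueField ⊗[A] P.X i)

theorem dRank_add' {A : Type u} [CommRing A] {ι : Type} {c : ComplexShape ι}
    (P : HomologicalComplex (ModuleCat.{u} A) c) (hfin : ∀ i, Module.Finite A (P.X i))
    (i j k : ι) (hij : c.Rel i j) (hjk : c.Rel j k) (x : PrimeSpectrum A) :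
    CohIII.dRank P j x + fib P k x = cok P i j x + cok P j k x := by
  have h1 := c.prev_eq' hij
  have h2 := c.next_eq' hjk
  subst h1 h2
  exact Groth.Agent.Helper4.DRank.dRank_add P hfin j x

theorem cok_le {A : Type u} [CommRing A] {ι : Type} {c : ComplexShape ι}
    (P : HomologicalComplex (ModuleCat.{u} A) c) (hfin : ∀ i, Module.Finite A (P.X i))
    (i j : ι) (z : PrimeSpectrum A) :
    ∀ᶠ x in nhds z, cok P i j x ≤ cok P i j z := by
  have := hfin j
  obtain ⟨U, hU, hz, h⟩ := Groth.Agent.Helper4.DRank.exists_nhd_fibDim_le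
    (P.X j ⧸ LinearMap.range (P.d i j).hom) z
  filter_upwards [hU.mem_nhds hz] with y hy
  exact h y hy

theorem fib_eq {A : Type u} [CommRing A] [IsNoetherianRing A] {ι : Type} {c : ComplexShape ι}
    (P : HomologicalComplex (ModuleCat.{u} A) c)
    (hP : ∀ i, Module.Finite A (P.X i) ∧ Module.Flat A (P.X i))
    (i : ι) (z : PrimeSpectrum A) :
    ∀ᶠ x in nhds z, fib P i x = fib P i z := by
  have := (hP i).1
  have := (hP i).2
  have : Module.FinitePresentation A (P.X i) := Module.finitePresentation_of_finite A _
  have hlc : IsLocallyConstant (Module.rankAtStalk (R := A) (P.X i)) :=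
    Module.isLocallyConstant_rankAtStalk
  have hopen := hlc.isOpen_fiber (Module.rankAtStalk (P.X i) z)
  filter_upwards [hopen.mem_nhds (show z ∈ _ from rfl)] with y hy
  have ry := Module.rankAtStalk_eq (M := P.X i) y
  have rz := Module.rankAtStalk_eq (M := P.X i) z
  have hy' : Module.rankAtStalk (P.X i) y = Module.rankAtStalk (P.X i) z := hy
  unfold fib
  rw [← ry, ← rz, hy']

/-- Let A be a Noetherian ring and P a chain complex of finitely generated flat A-modules, and for p and
a point x of Spec A let d_p(x) = dim_{k(x)} H_p(P ⊗_A k(x)). Fix p and a point z. If d_{p-1} and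
d_{p+1} are constant on some neighbourhood of z, then d_p is constant on some neighbourhood of z.
(The published assertion concerns the function y ↦ dim H^p(X_y, F_y) for a coherent sheaf F flat
over a projective morphism of Noetherian schemes X → Y: if it is not constant near a point, then the
functions for p - 1 and p + 1 are not both constant near that point. Stated here is the
corresponding property for any chain complex of finitely generated flat modules over a Noetherian
ring, from which the published form follows by applying it to a finite complex of such modules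
computing the cohomology of the fibres.) -/
theorem result {A : Type u} [CommRing A] [IsNoetherianRing A]
    (P : ChainComplex (ModuleCat.{u} A) ℤ) (hP : ∀ i, Module.Finite A (P.X i) ∧ Module.Flat A (P.X i))
    (p : ℤ) (z : PrimeSpectrum A)
    (hlo : ∀ᶠ x in nhds z, CohIII.dRank P (p - 1) x = CohIII.dRank P (p - 1) z)
    (hhi : ∀ᶠ x in nhds z, CohIII.dRank P (p + 1) x = CohIII.dRank P (p + 1) z) :
    ∀ᶠ x in nhds z, CohIII.dRank P p x = CohIII.dRank P p z := by
  have hfin : ∀ i, Module.Finite A (P.X i) := fun i => (hP i).1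
  have r1 : (ComplexShape.down ℤ).Rel (p + 1 + 1) (p + 1) := by simp
  have r2 : (ComplexShape.down ℤ).Rel (p + 1) p := by simp
  have r3 : (ComplexShape.down ℤ).Rel p (p - 1) := by simp
  have r4 : (ComplexShape.down ℤ).Rel (p - 1) (p - 1 - 1) := by simp
  filter_upwards [hlo, hhi, cok_le P hfin (p + 1 + 1) (p + 1) z, cok_le P hfin (p + 1) p z,
    cok_le P hfin p (p - 1) z, cok_le P hfin (p - 1) (p - 1 - 1) z,
    fib_eq P hP p z, fib_eq P hP (p - 1) z, fib_eq P hP (p - 1 - 1) z] with x h1 h2 c1 c2 c3 c4 f1 f2 f3
  have a1 := dRank_add' P hfin _ _ _ r1 r2 x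
  have a2 := dRank_add' P hfin _ _ _ r2 r3 x
  have a3 := dRank_add' P hfin _ _ _ r3 r4 x
  have b1 := dRank_add' P hfin _ _ _ r1 r2 z
  have b2 := dRank_add' P hfin _ _ _ r2 r3 z
  have b3 := dRank_add' P hfin _ _ _ r3 r4 z
  omega

end Groth.Agent.S16288
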