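import Groth.Statements.S16312
import Mathlib.Algebra.Module.ZLattice.Basic
import Mathlib.Topology.Algebra.IsUniformGroup.Basic

set_option autoImplicit false
universe u
open W4c3irrattreebun

namespace Groth.Agent.S16312

/-- Let N be a closed cone in real n-space, f a function continuous on N, positive at the nonzero points
of N and homogeneous of degree one under scaling by nonnegative reals, and Λ a discrete additive
subgroup. Then for every real c the set of points H of Λ lying in N with f(H) ≤ c is finite. (The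
published statement takes Λ to be a lattice; this row allows any discrete additive subgroup.) -/
theorem result (n : ℕ)
    (N : Set (EuclideanSpace ℝ (Fin n))) (hN : IsClosed N)
    (hcone : ∀ x ∈ N, ∀ r : ℝ, 0 ≤ r → r • x ∈ N)
    (f : EuclideanSpace ℝ (Fin n) → ℝ) (hf : ContinuousOn f N)
    (hpos : ∀ x ∈ N, x ≠ 0 → 0 < f x)
    (hhom : ∀ x ∈ N, ∀ r : ℝ, 0 ≤ r → f (r • x) = r * f x)
    (Λ : Submodule ℤ (EuclideanSpace ℝ (Fin n))) [DiscreteTopology Λ] (c : ℝ) :
    ({x : EuclideanSpace ℝ (Fin n) | x ∈ N ∧ f x ≤ c} ∩ (Λ : Set (EuclideanSpace ℝ (Fin n)))).Finite := by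
  classical
  -- the discrete subgroup is closed
  have hΛc : IsClosed (Λ : Set (EuclideanSpace ℝ (Fin n))) := by
    have : DiscreteTopology Λ.toAddSubgroup := inferInstanceAs (DiscreteTopology Λ)
    rw [← Submodule.coe_toAddSubgroup]
    exact AddSubgroup.isClosed_of_discrete
  have hΛd : IsDiscrete (Λ : Set (EuclideanSpace ℝ (Fin n))) := DiscreteTopology.isDiscrete
  -- it suffices to bound the set
  suffices hb : Bornology.IsBounded {x : EuclideanSpace ℝ (Fin n) | x ∈ N ∧ f x ≤ c} from
    Metric.finite_isBounded_inter_isClosed hΛd hb hΛc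
  set K : Set (EuclideanSpace ℝ (Fin n)) := N ∩ Metric.sphere 0 1 with hK
  have hKc : IsCompact K := (isCompact_sphere 0 1).inter_left hN
  by_cases hKe : K.Nonempty
  · obtain ⟨u₀, hu₀K, hu₀⟩ := hKc.exists_isMinOn hKe (hf.mono Set.inter_subset_left)
    have hm : 0 < f u₀ := by
      apply hpos u₀ hu₀K.1
      intro h0
      have : ‖u₀‖ = 1 := by simpa using hu₀K.2
      rw [h0, norm_zero] at this
      exact zero_ne_one this
    refine (Metric.isBounded_closedBall (x := (0 : EuclideanSpace ℝ (Fin n))) (r := c / f u₀)).subset ?_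
    rintro x ⟨hxN, hxc⟩
    rw [mem_closedBall_zero_iff]
    by_cases hx0 : x = 0
    · rw [hx0, norm_zero]
      have hf0 : f 0 = 0 := by
        have := hhom x hxN 0 le_rfl
        rw [zero_smul, zero_mul] at this
        exact this
      rw [hx0, hf0] at hxc
      exact div_nonneg hxc hm.le
    · have hnx : 0 < ‖x‖ := norm_pos_iff.mpr hx0
      set u := ‖x‖⁻¹ • x with hu
      have huN : u ∈ N := hcone x hxN _ (inv_nonneg.mpr hnx.le)
      have hu1 : ‖u‖ = 1 := by
        rw [hu, norm_smul, norm_inv, norm_norm, inv_mul_cancel₀ hnx.ne']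
      have huK : u ∈ K := ⟨huN, by simpa using hu1⟩
      have hxu : x = ‖x‖ • u := by
        rw [hu, smul_smul, mul_inv_cancel₀ hnx.ne', one_smul]
      have hfx : f x = ‖x‖ * f u := by
        conv_lhs => rw [hxu]
        exact hhom u huN _ hnx.le
      have hmin : f u₀ ≤ f u := hu₀ huK
      rw [le_div_iff₀ hm]
      calc ‖x‖ * f u₀ ≤ ‖x‖ * f u := mul_le_mul_of_nonneg_left hmin hnx.le
        _ = f x := hfx.symm
        _ ≤ c := hxc
  · -- N ⊆ {0}
    refine (Metric.isBounded_closedBall (x := (0 : EuclideanSpace ℝ (Fin n))) (r := 0)).subset ?_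
    rintro x ⟨hxN, _⟩
    rw [mem_closedBall_zero_iff]
    by_contra hx
    push_neg at hx
    have hnx : 0 < ‖x‖ := hx
    apply hKe
    refine ⟨‖x‖⁻¹ • x, hcone x hxN _ (inv_nonneg.mpr hnx.le), ?_⟩
    simp only [mem_sphere_iff_norm, sub_zero]
    rw [norm_smul, norm_inv, norm_norm, inv_mul_cancel₀ hnx.ne']

end Groth.Agent.S16312
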