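import Groth.Statements.S16321
import Groth.Agent.Lib.Helper23.GrSyzCmp

set_option autoImplicit false
universe u
open GrSyz

namespace Groth.Agent.S16321

set_option linter.style.haveILetI false
set_option linter.unusedVariables false
set_option linter.unusedSectionVars false
open GrSyz MvPolynomial DirectSum
open Groth.Agent.Helper23.GrSyzCmp Groth.Agent.Helper23.GrSyzHilb Groth.Agent.Helper23.GrSyzLib
theorem card_le_of_mul_eq_one {K : Type*} [Field K] {m n : Type*} [Fintype m] [Fintype n]
    [DecidableEq m] [DecidableEq n]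
    (A : Matrix n m K) (B : Matrix m n K) (h : B * A = 1) : Fintype.card m ≤ Fintype.card n := by
  have h1 : (B * A).rank = Fintype.card m := by rw [h, Matrix.rank_one]
  have h2 : (B * A).rank ≤ A.rank := Matrix.rank_mul_le_right B A
  have h3 : A.rank ≤ Fintype.card n := Matrix.rank_le_card_height A
  omega

theorem betti_le {k : Type u} [Field k] {σ : Type}
    {M : Type u} [AddCommGroup M] [Module k M] [Module (MvPolynomial σ k) M]
    {ℳ : ℤ → Submodule k M} [DirectSum.Decomposition ℳ] [SetLike.GradedSMul (stdGr k σ) ℳ]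
    (F F' : FreeRes (stdGr k σ) ℳ)
    (hF : F.IsMinimal (irrel (stdGr k σ)).toIdeal) (i : ℕ) (j : ℤ) :
    F.betti i j ≤ F'.betti i j := by
  classical
  obtain ⟨Φ⟩ := exists_comp F F'
  obtain ⟨Ψ⟩ := exists_comp F' F
  have hmem := entries_mem F (irrel (stdGr k σ)).toIdeal hF (fun i => Ψ.φ i * Φ.φ i - 1)
    (by
      intro v
      rw [Matrix.sub_mulVec, Matrix.one_mulVec, map_sub, ← Matrix.mulVec_mulVec, Ψ.aug, Φ.aug,
        sub_self])
    (by
      intro i
      rw [Matrix.mul_sub, Matrix.mul_one, ← Matrix.mul_assoc, Ψ.comm i, Matrix.mul_assoc, Φ.comm i,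
        Matrix.sub_mul, Matrix.one_mul, Matrix.mul_assoc])
  -- reduce mod 𝔪
  let A : Matrix (Fin (F'.rk i)) (Fin (F.rk i)) k := fun a b => constantCoeff (Φ.φ i a b)
  let B : Matrix (Fin (F.rk i)) (Fin (F'.rk i)) k := fun b a => constantCoeff (Ψ.φ i b a)
  have hBA : B * A = 1 := by
    refine Matrix.ext (fun b b' => ?_)
    have h0 := constantCoeff_eq_zero_of_mem_irrel k σ (hmem i b b')
    rw [Matrix.sub_apply, map_sub, Matrix.mul_apply, map_sum, sub_eq_zero] at h0
    rw [Matrix.mul_apply]
    simp only [A, B]
    simp only [map_mul] at h0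
    rw [h0, Matrix.one_apply, Matrix.one_apply]
    split_ifs <;> simp
  have hA : ∀ a b, A a b ≠ 0 → F'.deg i a = F.deg i b := by
    intro a b hab
    have := deg_eq_zero_of_constantCoeff_ne_zero (Φ.gr i a b) hab
    omega
  -- restrict to the degree-`j` blocks
  let S := {b : Fin (F.rk i) // F.deg i b = j}
  let S' := {a : Fin (F'.rk i) // F'.deg i a = j}
  let A' : Matrix S' S k := fun a b => A a.1 b.1
  let B' : Matrix S S' k := fun b a => B b.1 a.1
  have hBA' : B' * A' = 1 := by
    refine Matrix.ext (fun b b' => ?_)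
    have h1 := congrFun (congrFun hBA b.1) b'.1
    rw [Matrix.mul_apply] at h1 ⊢
    have h2 : ∑ a : S', B' b a * A' a b' =
        ∑ a ∈ Finset.univ.filter (fun a => F'.deg i a = j), B b.1 a * A a b'.1 :=
      (Finset.sum_subtype (Finset.univ.filter fun a => F'.deg i a = j) (by simp)
        (fun a => B b.1 a * A a b'.1)).symm
    have h3 : ∑ a ∈ Finset.univ.filter (fun a => F'.deg i a = j), B b.1 a * A a b'.1 =
        ∑ a : Fin (F'.rk i), B b.1 a * A a b'.1 := by
      apply Finset.sum_subset (Finset.filter_subset _ _)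
      intro a _ ha
      rw [Finset.mem_filter] at ha
      have : A a b'.1 = 0 := by
        by_contra hne
        exact ha ⟨Finset.mem_univ _, (hA a b'.1 hne).trans b'.2⟩
      rw [this, mul_zero]
    rw [h2, h3, h1, Matrix.one_apply, Matrix.one_apply]
    by_cases hb : b = b'
    · rw [if_pos hb, if_pos (congrArg Subtype.val hb)]
    · rw [if_neg hb, if_neg (fun h => hb (Subtype.ext h))]
  have hcard := card_le_of_mul_eq_one A' B' hBA'
  rw [Fintype.card_subtype, Fintype.card_subtype] at hcard
  exact hcard

open GrSyz in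
theorem main (k : Type u) [Field k] [IsAlgClosed k] [CharZero k] (n : ℕ)
    (M : Type u) [AddCommGroup M] [Module k M] [Module (MvPolynomial (Fin (n + 1)) k) M]
    [IsScalarTower k (MvPolynomial (Fin (n + 1)) k) M] [Module.Finite (MvPolynomial (Fin (n + 1)) k) M]
    (ℳ : ℤ → Submodule k M) [DirectSum.Decomposition ℳ] [SetLike.GradedSMul (GrSyz.stdGr k (Fin (n + 1))) ℳ]
    (F F' : GrSyz.FreeRes (GrSyz.stdGr k (Fin (n + 1))) ℳ)
    (hF : F.IsMinimal (GrSyz.irrel (GrSyz.stdGr k (Fin (n + 1)))).toIdeal)
    (hF' : F'.IsMinimal (GrSyz.irrel (GrSyz.stdGr k (Fin (n + 1)))).toIdeal) (i : ℕ) (j : ℤ) :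
    F.betti i j = F'.betti i j :=
  le_antisymm (betti_le F F' hF i j) (betti_le F' F hF' i j)

/-- Let k be an algebraically closed field of characteristic zero, S = k[x_0, …, x_n] graded by degree,
𝔪 = (x_0, …, x_n) its irrelevant ideal and M a finitely generated ℤ-graded S-module. Then any two
minimal graded free resolutions F, F′ of M (by free modules of finite rank with homogeneous bases,
every matrix entry of every differential lying in 𝔪) have the same graded Betti numbers: for all i
and j, the number of basis vectors of F_i of degree j equals the number of basis vectors of F′_i of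
degree j. (The published statement says that any two minimal resolutions are isomorphic as complexes
over the identity of M; this row states only the resulting equality of graded Betti numbers, which
is the consequence the text itself draws.) -/
theorem result (k : Type u) [Field k] [IsAlgClosed k] [CharZero k] (n : ℕ)
    (M : Type u) [AddCommGroup M] [Module k M] [Module (MvPolynomial (Fin (n + 1)) k) M]
    [IsScalarTower k (MvPolynomial (Fin (n + 1)) k) M] [Module.Finite (MvPolynomial (Fin (n + 1)) k) M]
    (ℳ : ℤ → Submodule k M) [DirectSum.Decomposition ℳ] [SetLike.GradedSMul (GrSyz.stdGr k (Fin (n + 1))) ℳ]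
    (F F' : GrSyz.FreeRes (GrSyz.stdGr k (Fin (n + 1))) ℳ)
    (hF : F.IsMinimal (GrSyz.irrel (GrSyz.stdGr k (Fin (n + 1)))).toIdeal)
    (hF' : F'.IsMinimal (GrSyz.irrel (GrSyz.stdGr k (Fin (n + 1)))).toIdeal) (i : ℕ) (j : ℤ) :
    F.betti i j = F'.betti i j := by
  exact main k n M ℳ F F' hF hF' i j

end Groth.Agent.S16321
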