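import Groth.Statements.S16324
import Groth.Agent.Lib.Helper23.Reg9
import Groth.Agent.Lib.Helper23.GrSyzHilb

set_option autoImplicit false
universe u
open GrSyz

namespace Groth.Agent.S16324

set_option linter.style.haveILetI false
set_option linter.unusedVariables false
set_option linter.unusedSectionVars false
open GrSyz MvPolynomial DirectSum Polynomial
open Groth.Agent.Helper23.GrSyzHilb Groth.Agent.Helper23.GrSyzLib

theorem descPochhammer_eval_neg_one (r : ℕ) :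
    (descPochhammer ℚ r).eval (-1) = (-1) ^ r * (r.factorial : ℚ) := by
  induction r with
  | zero => simp
  | succ r ih =>
    rw [descPochhammer_succ_right, Polynomial.eval_mul, ih, Polynomial.eval_sub, Polynomial.eval_X,
      Polynomial.eval_natCast, Nat.factorial_succ]
    push_cast
    ring

section

variable {k : Type u} [Field k] {r : ℕ}
  {M : Type u} [AddCommGroup M] [Module k M] [Module (MvPolynomial (Fin (r + 1)) k) M]
  [IsScalarTower k (MvPolynomial (Fin (r + 1)) k) M]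
  {ℳ : ℤ → Submodule k M} [DirectSum.Decomposition ℳ]
  [SetLike.GradedSMul (stdGr k (Fin (r + 1))) ℳ]
  (F : FreeRes (stdGr k (Fin (r + 1))) ℳ)

/-- the Hilbert polynomial read off a resolution of length `≤ m` -/
noncomputable def hilbPoly (m : ℕ) : Polynomial ℚ :=
  ∑ i ∈ Finset.range (m + 1), Polynomial.C ((-1 : ℚ) ^ i) * ∑ b : Fin (F.rk i),
    Polynomial.C (1 / (r.factorial : ℚ)) *
      (descPochhammer ℚ r).comp (Polynomial.X + Polynomial.C ((r : ℚ) - (F.deg i b : ℚ)))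

theorem eval_hilbPoly (m : ℕ) (d : ℤ) :
    (hilbPoly F m).eval (d : ℚ) = ∑ i ∈ Finset.range (m + 1), (-1 : ℚ) ^ i * ∑ b : Fin (F.rk i),
      (descPochhammer ℚ r).eval ((d : ℚ) + ((r : ℚ) - (F.deg i b : ℚ))) / (r.factorial : ℚ) := by
  unfold hilbPoly
  rw [Polynomial.eval_finsetSum]
  apply Finset.sum_congr rfl
  intro i _
  rw [Polynomial.eval_mul, Polynomial.eval_C, Polynomial.eval_finsetSum]
  congr 1
  apply Finset.sum_congr rfl
  intro b _
  rw [Polynomial.eval_mul, Polynomial.eval_C, Polynomial.eval_comp, Polynomial.eval_add,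
    Polynomial.eval_X, Polynomial.eval_C]
  ring

/-- the Hilbert function minus the Hilbert polynomial, termwise -/
theorem finrank_sub_eval (m : ℕ) (hF : F.HasLengthLE m) (d : ℤ) :
    ((Module.finrank k ↥(ℳ d) : ℤ) : ℚ) - (hilbPoly F m).eval (d : ℚ) =
      ∑ i ∈ Finset.range (m + 1), (-1 : ℚ) ^ i * ∑ b : Fin (F.rk i),
        ((((if F.deg i b ≤ d then ((Nat.choose (r + (d - F.deg i b).toNat) r : ℕ) : ℤ) else 0 : ℤ)) : ℚ)
          - (descPochhammer ℚ r).eval ((d : ℚ) + ((r : ℚ) - (F.deg i b : ℚ))) / (r.factorial : ℚ)) := by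
  rw [hilbert_function F m hF d, eval_hilbPoly]
  push_cast
  rw [← Finset.sum_sub_distrib]
  apply Finset.sum_congr rfl
  intro i _
  rw [← mul_sub, ← Finset.sum_sub_distrib]

theorem eval_hilbPoly_eq (m : ℕ) (hF : F.HasLengthLE m) (d : ℤ)
    (hd : ∀ (i : ℕ) (b : Fin (F.rk i)), F.deg i b - (r : ℤ) ≤ d) :
    ((Module.finrank k ↥(ℳ d) : ℤ) : ℚ) = (hilbPoly F m).eval (d : ℚ) := by
  rw [← sub_eq_zero, finrank_sub_eval F m hF d]
  apply Finset.sum_eq_zero
  intro i _
  rw [Finset.sum_eq_zero, mul_zero]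
  intro b _
  rw [sub_eq_zero]
  exact choose_eq_descPochhammer r (F.deg i b) d (hd i b)

/-- the defect of the Hilbert function at `d = ρ + ℓ - r - 1` counts the generators of `F_ℓ` of
degree `ρ + ℓ` -/
theorem finrank_sub_eval_top (ℓ : ℕ) (hℓ : F.HasLengthLE ℓ) (ρ : ℤ) (hρ : F.IsGenLE ρ) :
    ((Module.finrank k ↥(ℳ (ρ + ℓ - r - 1)) : ℤ) : ℚ) -
        (hilbPoly F ℓ).eval ((ρ + ℓ - r - 1 : ℤ) : ℚ) =
      (-1 : ℚ) ^ ℓ * (-((-1 : ℚ) ^ r) * (F.betti ℓ (ρ + ℓ) : ℚ)) := by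
  rw [finrank_sub_eval F ℓ hℓ]
  rw [Finset.sum_eq_single ℓ]
  · congr 1
    have hterm : ∀ b : Fin (F.rk ℓ),
        ((((if F.deg ℓ b ≤ ρ + ℓ - r - 1 then
            ((Nat.choose (r + ((ρ + ℓ - r - 1) - F.deg ℓ b).toNat) r : ℕ) : ℤ) else 0 : ℤ)) : ℚ)
          - (descPochhammer ℚ r).eval (((ρ + ℓ - r - 1 : ℤ) : ℚ) + ((r : ℚ) - (F.deg ℓ b : ℚ))) /
              (r.factorial : ℚ)) = if F.deg ℓ b = ρ + ℓ then -((-1 : ℚ) ^ r) else 0 := by
      intro b
      by_cases hb : F.deg ℓ b = ρ + ℓ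
      · rw [if_pos hb, if_neg (by omega), hb]
        have : ((ρ + ℓ - r - 1 : ℤ) : ℚ) + ((r : ℚ) - ((ρ + ℓ : ℤ) : ℚ)) = -1 := by
          push_cast; ring
        rw [this, descPochhammer_eval_neg_one]
        have hfac : (r.factorial : ℚ) ≠ 0 := by exact_mod_cast Nat.factorial_ne_zero r
        push_cast
        field_simp
        ring
      · rw [if_neg hb, sub_eq_zero]
        apply choose_eq_descPochhammer
        have := hρ ℓ b
        omega
    rw [Finset.sum_congr rfl (fun b _ => hterm b), Finset.sum_ite, Finset.sum_const_zero, add_zero,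
      Finset.sum_const, nsmul_eq_mul, mul_comm]
    rfl
  · intro i hi hne
    rw [Finset.sum_eq_zero, mul_zero]
    intro b _
    rw [sub_eq_zero]
    apply choose_eq_descPochhammer
    have := hρ i b
    have : i < ℓ := by
      have := Finset.mem_range.mp hi
      omega
    omega
  · intro h
    exact absurd (Finset.mem_range.mpr (Nat.lt_succ_self ℓ)) h

end

open GrSyz in
theorem main (k : Type u) [Field k] [IsAlgClosed k] [CharZero k] (n : ℕ)
    (M : Type u) [AddCommGroup M] [Module k M] [Module (MvPolynomial (Fin (n + 1)) k) M]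
    [IsScalarTower k (MvPolynomial (Fin (n + 1)) k) M] [Module.Finite (MvPolynomial (Fin (n + 1)) k) M]
    (ℳ : ℤ → Submodule k M) [DirectSum.Decomposition ℳ] [SetLike.GradedSMul (GrSyz.stdGr k (Fin (n + 1))) ℳ]
    (hCM : Module.supportDim (MvPolynomial (Fin (n + 1)) k) M = ((LocCoh.idealDepth (GrSyz.irrel (GrSyz.stdGr k (Fin (n + 1)))).toIdeal M : ℕ∞) : WithBot ℕ∞))
    (F : GrSyz.FreeRes (GrSyz.stdGr k (Fin (n + 1))) ℳ) (hF : F.IsMinimal (GrSyz.irrel (GrSyz.stdGr k (Fin (n + 1)))).toIdeal)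
    (ℓ : ℕ) (hℓ : F.HasLengthLE ℓ) (hℓ' : F.rk ℓ ≠ 0)
    (ρ : ℤ) (hρ : F.IsGenLE ρ) (hρ' : ∃ (i : ℕ) (b : Fin (F.rk i)), F.deg i b = ρ + i)
    (P : Polynomial ℚ) (hP : ∃ d₁ : ℤ, ∀ d : ℤ, d₁ ≤ d → ((Module.finrank k ↥(ℳ d) : ℤ) : ℚ) = P.eval (d : ℚ)) :
    ((Module.finrank k ↥(ℳ (ρ + ℓ - n - 1)) : ℤ) : ℚ) ≠ P.eval ((ρ + ℓ - n - 1 : ℤ) : ℚ) := by
  obtain ⟨d₁, hd₁⟩ := hP
  -- `P` is the Hilbert polynomial of the resolution
  have hPQ : P = hilbPoly F ℓ := by
    apply Polynomial.eq_of_infinite_eval_eq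
    let D : ℤ := max d₁ (ρ + ℓ)
    refine Set.infinite_of_injective_forall_mem (f := fun j : ℕ => (((D + j : ℤ)) : ℚ)) ?_ ?_
    · intro a b hab
      simp only at hab
      have : (D + a : ℤ) = D + b := by exact_mod_cast hab
      omega
    · intro j
      simp only [Set.mem_ofPred_eq]
      rw [← hd₁ (D + j) (by have := le_max_left d₁ (ρ + ℓ); omega)]
      apply eval_hilbPoly_eq F ℓ hℓ
      intro i b
      have h1 := hρ i b
      have h2 : i ≤ ℓ := by
        by_contra hlt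
        have := hℓ i (by omega)
        have := b.2
        omega
      have := le_max_right d₁ (ρ + ℓ)
      omega
  obtain ⟨b, hb⟩ := Groth.Agent.Helper23.Reg.exists_top_deg_of_CM F hCM hF ℓ hℓ hℓ' ρ hρ hρ'
  have hpos : 0 < F.betti ℓ (ρ + ℓ) := by
    unfold FreeRes.betti
    rw [Finset.card_pos]
    exact ⟨b, Finset.mem_filter.mpr ⟨Finset.mem_univ _, hb⟩⟩
  rw [hPQ]
  intro heq
  have hdiff := finrank_sub_eval_top F ℓ hℓ ρ hρ
  rw [heq, sub_self] at hdiff
  have hne : (-1 : ℚ) ^ ℓ * (-((-1 : ℚ) ^ n) * (F.betti ℓ (ρ + ℓ) : ℚ)) ≠ 0 := by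
    have h1 : (-1 : ℚ) ^ ℓ ≠ 0 := pow_ne_zero _ (by norm_num)
    have h2 : (-1 : ℚ) ^ n ≠ 0 := pow_ne_zero _ (by norm_num)
    have h3 : (F.betti ℓ (ρ + ℓ) : ℚ) ≠ 0 := by exact_mod_cast hpos.ne'
    exact mul_ne_zero h1 (mul_ne_zero (neg_ne_zero.mpr h2) h3)
  exact hne hdiff.symm

/-- Let k be an algebraically closed field of characteristic zero, S = k[x_0, …, x_n] graded by degree,
𝔪 = (x_0, …, x_n), and M a finitely generated ℤ-graded S-module which is Cohen–Macaulay: the Krull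
dimension of its support equals its 𝔪-depth. Let F be a minimal graded free resolution of M of
length exactly ℓ (F_ℓ ≠ 0, F_i = 0 for i > ℓ; so ℓ = pd M) and let ρ be its regularity: every basis
vector of F_i has degree at most ρ + i, with equality for some i and some basis vector (so ρ = reg
M). Let P be the Hilbert polynomial of M, i.e. a polynomial over ℚ with dim_k M_d = P(d) for all
sufficiently large d. Then dim_k M_d ≠ P(d) for d = ρ + ℓ − n − 1: the bound d ≥ reg M + pd M − n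
beyond which the Hilbert function agrees with the Hilbert polynomial is sharp for Cohen–Macaulay
modules. (Part (1) of the published statement, the agreement for d ≥ reg M + pd M − n, follows from
the agreement for d at least the largest generator degree minus n and is not restated.) -/
theorem result (k : Type u) [Field k] [IsAlgClosed k] [CharZero k] (n : ℕ)
    (M : Type u) [AddCommGroup M] [Module k M] [Module (MvPolynomial (Fin (n + 1)) k) M]
    [IsScalarTower k (MvPolynomial (Fin (n + 1)) k) M] [Module.Finite (MvPolynomial (Fin (n + 1)) k) M]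
    (ℳ : ℤ → Submodule k M) [DirectSum.Decomposition ℳ] [SetLike.GradedSMul (GrSyz.stdGr k (Fin (n + 1))) ℳ]
    (hCM : Module.supportDim (MvPolynomial (Fin (n + 1)) k) M = ((LocCoh.idealDepth (GrSyz.irrel (GrSyz.stdGr k (Fin (n + 1)))).toIdeal M : ℕ∞) : WithBot ℕ∞))
    (F : GrSyz.FreeRes (GrSyz.stdGr k (Fin (n + 1))) ℳ) (hF : F.IsMinimal (GrSyz.irrel (GrSyz.stdGr k (Fin (n + 1)))).toIdeal)
    (ℓ : ℕ) (hℓ : F.HasLengthLE ℓ) (hℓ' : F.rk ℓ ≠ 0)
    (ρ : ℤ) (hρ : F.IsGenLE ρ) (hρ' : ∃ (i : ℕ) (b : Fin (F.rk i)), F.deg i b = ρ + i)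
    (P : Polynomial ℚ) (hP : ∃ d₁ : ℤ, ∀ d : ℤ, d₁ ≤ d → ((Module.finrank k ↥(ℳ d) : ℤ) : ℚ) = P.eval (d : ℚ)) :
    ((Module.finrank k ↥(ℳ (ρ + ℓ - n - 1)) : ℤ) : ℚ) ≠ P.eval ((ρ + ℓ - n - 1 : ℤ) : ℚ) := by
  exact main k n M ℳ hCM F hF ℓ hℓ hℓ' ρ hρ hρ' P hP

end Groth.Agent.S16324
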