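import Groth.Statements.S16325
import Groth.Agent.Lib.Helper24.ModHomology

set_option autoImplicit false
universe u v
open CategoryTheory
open W4c3biextchow

namespace Groth.Agent.S16325

/-- Let f : C ⟶ D be a chain map of ℕ-indexed chain complexes of modules over a ring R, and consider the
functor it induces between the groupoids attached to C and D (objects: degree-0 elements; morphisms
a ⟶ b: degree-1 elements with boundary b - a, modulo boundaries of degree-2 elements). This functor
is faithful if and only if f is injective on homology in degree 1. (The published statement is for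
complexes of abelian groups; this row allows modules over any ring R.) -/
theorem result
    (R : Type u) [Ring R] (C D : ChainComplex (ModuleCat.{v} R) ℕ) (f : C ⟶ D) :
    (W4c3biextchow.cxFunctor f).Faithful ↔ Mono (HomologicalComplex.homologyMap f 1) := by
  rw [Groth.Agent.Helper24.ModHomology.mono_homologyMap_iff' f 2 1 0 (by simp) (by simp)]
  constructor
  · intro hF z hz hw
    let a : Obj C := ⟨0⟩
    let φ : a ⟶ a := ⟨Submodule.Quotient.mk z, by rw [delta_mk, hz]; simp⟩
    let ψ : a ⟶ a := 𝟙 a
    have hmap : (cxFunctor f).map φ = (cxFunctor f).map ψ := by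
      apply Hom.ext
      rw [cxFunctor_map_cl, cxFunctor_map_cl]
      change q1Map f (Submodule.Quotient.mk z) = q1Map f 0
      rw [q1Map_mk, map_zero, Submodule.Quotient.mk_eq_zero]
      obtain ⟨w, hw⟩ := hw
      exact ⟨w, hw⟩
    have := hF.map_injective hmap
    have h2 : (Submodule.Quotient.mk z : Q1 C) = 0 := congrArg Hom.cl this
    rw [Submodule.Quotient.mk_eq_zero] at h2
    obtain ⟨w', hw'⟩ := h2
    exact ⟨w', hw'⟩
  · intro h
    refine ⟨fun {a b} φ ψ hmap => ?_⟩
    apply Hom.ext
    have h1 : q1Map f (φ : Hom C a b).cl = q1Map f (ψ : Hom C a b).cl := by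
      have := congrArg Hom.cl hmap
      simpa using this
    have hd : delta C ((φ : Hom C a b).cl - (ψ : Hom C a b).cl) = 0 := by
      rw [map_sub, Hom.delta_cl, Hom.delta_cl, sub_self]
    have hq : q1Map f ((φ : Hom C a b).cl - (ψ : Hom C a b).cl) = 0 := by
      rw [map_sub, h1, sub_self]
    rw [← sub_eq_zero]
    generalize (φ : Hom C a b).cl - (ψ : Hom C a b).cl = u at hd hq
    induction u using Submodule.Quotient.induction_on with
    | H z =>
      rw [delta_mk] at hd
      rw [q1Map_mk, Submodule.Quotient.mk_eq_zero] at hq
      obtain ⟨w, hw⟩ := hq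
      obtain ⟨w', hw'⟩ := h z hd ⟨w, hw⟩
      rw [Submodule.Quotient.mk_eq_zero]
      exact ⟨w', hw'⟩

end Groth.Agent.S16325
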