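import Groth.Statements.S16326
import Groth.Agent.Lib.Helper24.ModHomology

set_option autoImplicit false
universe u v
open CategoryTheory
open W4c3biextchow

namespace Groth.Agent.S16326

/-- Let f : C ⟶ D be a chain map of ℕ-indexed chain complexes of modules over a ring R, and consider the
functor it induces between the groupoids attached to C and D (objects: degree-0 elements; morphisms
a ⟶ b: degree-1 elements with boundary b - a, modulo boundaries of degree-2 elements). This functor
is full if and only if f is surjective on homology in degree 1 and injective on homology in degree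
0. (The published statement is for complexes of abelian groups; this row allows modules over any
ring R.) -/
theorem result
    (R : Type u) [Ring R] (C D : ChainComplex (ModuleCat.{v} R) ℕ) (f : C ⟶ D) :
    (W4c3biextchow.cxFunctor f).Full ↔
      Epi (HomologicalComplex.homologyMap f 1) ∧ Mono (HomologicalComplex.homologyMap f 0) := by
  rw [Groth.Agent.Helper24.ModHomology.epi_homologyMap_iff' f 2 1 0 (by simp) (by simp),
    Groth.Agent.Helper24.ModHomology.mono_homologyMap_iff' f 1 0 0 (by simp) (by simp)]
  constructor
  · intro hF
    constructor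
    · intro z hz
      let a : Obj C := ⟨0⟩
      let g : (cxFunctor f).obj a ⟶ (cxFunctor f).obj a :=
        ⟨Submodule.Quotient.mk z, by rw [delta_mk, hz]; simp⟩
      obtain ⟨φ, hφ⟩ := hF.map_surjective g
      have hcl : q1Map f (φ : Hom C a a).cl = Submodule.Quotient.mk z := by
        have := congrArg Hom.cl hφ
        simpa using this
      have hd := (φ : Hom C a a).delta_cl
      generalize (φ : Hom C a a).cl = u at hd hcl
      induction u using Submodule.Quotient.induction_on with
      | H z' =>
        rw [delta_mk] at hd
        refine ⟨z', by rw [hd]; simp, ?_⟩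
        rw [q1Map_mk] at hcl
        have h3 : (Submodule.Quotient.mk (z - (f.f 1).hom z') : Q1 D) = 0 := by
          rw [Submodule.Quotient.mk_sub, hcl, sub_self]
        rw [Submodule.Quotient.mk_eq_zero] at h3
        obtain ⟨w, hw⟩ := h3
        exact ⟨w, hw⟩
    · intro z _ hw
      obtain ⟨w, hw⟩ := hw
      let a : Obj C := ⟨0⟩
      let b : Obj C := ⟨z⟩
      let g : (cxFunctor f).obj a ⟶ (cxFunctor f).obj b :=
        ⟨Submodule.Quotient.mk w, by rw [delta_mk, hw]; simp [a, b]⟩
      obtain ⟨φ, hφ⟩ := hF.map_surjective g
      have hd := (φ : Hom C a b).delta_cl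
      generalize (φ : Hom C a b).cl = u at hd
      induction u using Submodule.Quotient.induction_on with
      | H w' =>
        rw [delta_mk] at hd
        exact ⟨w', by rw [hd]; simp [a, b]⟩
  · rintro ⟨hepi, hmono⟩
    refine ⟨fun {a b} g => ?_⟩
    have hd := (g : Hom D _ _).delta_cl
    obtain ⟨w, hw⟩ : ∃ w, (g : Hom D _ _).cl = Submodule.Quotient.mk w :=
      ⟨_, (Submodule.Quotient.mk_surjective _ _).choose_spec.symm⟩
    rw [hw, delta_mk] at hd
    simp only [cxFunctor_obj_pt] at hd
    obtain ⟨w', hw'⟩ := hmono (b.pt - a.pt) (by simp) ⟨w, by rw [hd, map_sub]⟩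
    have hcomm : (D.d 1 0).hom ((f.f 1).hom w') = (f.f 0).hom ((C.d 1 0).hom w') := by
      have h := congrArg (fun φ => φ.hom w') (f.comm 1 0)
      simpa only [ModuleCat.hom_comp, LinearMap.comp_apply] using h
    obtain ⟨z', hz', v, hv⟩ := hepi (w - (f.f 1).hom w') (by
      rw [map_sub, hd, hcomm, hw', map_sub, sub_self])
    refine ⟨⟨Submodule.Quotient.mk (w' + z'), by rw [delta_mk, map_add, hw', hz', add_zero]⟩, ?_⟩
    apply Hom.ext
    rw [cxFunctor_map_cl, hw]
    change q1Map f (Submodule.Quotient.mk (w' + z')) = _
    rw [q1Map_mk]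
    symm
    rw [← sub_eq_zero, ← Submodule.Quotient.mk_sub, Submodule.Quotient.mk_eq_zero]
    refine ⟨v, ?_⟩
    rw [hv, map_add]
    abel

end Groth.Agent.S16326
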