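import Groth.Statements.S16328
import Groth.Agent.Lib.Helper24.AcyclicContract
import Mathlib

set_option autoImplicit false
universe v
open CategoryTheory
open W4c3biextchow

namespace Groth.Agent.S16328


open Groth.Agent.Helper24.AcyclicContract

/-- Let f : A' ⟶ A and p : A ⟶ A'' be chain maps of ℕ-indexed chain complexes of free abelian groups
forming a short exact sequence in every degree (f injective, p surjective, image of f equal to the
kernel of p), and assume f is a quasi-isomorphism. Then there is a chain map h : A'' ⟶ A such that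
in every degree q the map (a'', a') ↦ h(a'') + f(a') is a bijection from A''_q × A'_q onto A_q, so
that A is the direct sum of the subcomplexes f(A') and h(A''). (The source allows complexes indexed
by all integers; stated here for complexes in non-negative degrees.) -/
theorem result
    (A' A A'' : ChainComplex (ModuleCat.{v} ℤ) ℕ) (f : A' ⟶ A) (p : A ⟶ A'')
    [∀ q, Module.Free ℤ (A'.X q)] [∀ q, Module.Free ℤ (A.X q)] [∀ q, Module.Free ℤ (A''.X q)]
    (hf : ∀ q, Function.Injective (f.f q).hom) (hp : ∀ q, Function.Surjective (p.f q).hom)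
    (hfp : ∀ q, Function.Exact (f.f q).hom (p.f q).hom) [QuasiIso f] :
    ∃ h : A'' ⟶ A, ∀ q : ℕ,
      Function.Bijective (fun x : A''.X q × A'.X q => (h.f q).hom x.1 + (f.f q).hom x.2) := by
  have hzero : f ≫ p = 0 := by
    ext q x
    exact (hfp q _).mpr ⟨x, rfl⟩
  have hS : (ShortComplex.mk f p hzero).ShortExact := by
    apply HomologicalComplex.shortExact_of_degreewise_shortExact
    intro i
    exact ModuleCat.shortComplex_shortExact _ (hfp i) (hf i) (hp i)
  have hac : A''.Acyclic := hS.acyclic_X₃ inferInstance
  have hproj : ∀ n, Projective ((ShortComplex.mk f p hzero).X₃.X n) := fun n => by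
    show Projective (A''.X n)
    infer_instance
  obtain ⟨h, hh⟩ := exists_section (ShortComplex.mk f p hzero) hS hac
  change h ≫ p = 𝟙 A'' at hh
  refine ⟨h, fun q => ?_⟩
  have hhq : ∀ x : A''.X q, (p.f q).hom ((h.f q).hom x) = x := fun x => by
    have := congrArg (fun φ => (φ.f q).hom x) hh
    simpa using this
  have hpf : ∀ x : A'.X q, (p.f q).hom ((f.f q).hom x) = 0 := fun x => (hfp q _).mpr ⟨x, rfl⟩
  constructor
  · rintro ⟨x₁, y₁⟩ ⟨x₂, y₂⟩ hxy
    simp only at hxy
    have h1 := congrArg (p.f q).hom hxy
    rw [map_add, map_add, hhq, hhq, hpf, hpf, add_zero, add_zero] at h1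
    subst h1
    have h2 : (f.f q).hom y₁ = (f.f q).hom y₂ := add_left_cancel hxy
    rw [hf q h2]
  · intro a
    have : (p.f q).hom (a - (h.f q).hom ((p.f q).hom a)) = 0 := by
      rw [map_sub, hhq, sub_self]
    obtain ⟨y, hy⟩ := (hfp q _).mp this
    exact ⟨((p.f q).hom a, y), by simp only; rw [hy]; abel⟩

end Groth.Agent.S16328
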