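import Groth.Statements.S16330
import Groth.Agent.Lib.Helper24.AcyclicContract
import Mathlib

set_option autoImplicit false
universe v
open CategoryTheory
open W4c3biextchow

namespace Groth.Agent.S16330


open Groth.Agent.Helper24.AcyclicContract

/-- a homotopy from a contraction of the middle complex -/
noncomputable def homotopyOfFactor {C : Type*} [Category C] [Preadditive C] {ι : Type*}
    {c : ComplexShape ι} {A Q A' : HomologicalComplex C c} (p : A ⟶ Q) (gbar : Q ⟶ A')
    (h : Homotopy (𝟙 Q) 0) (g₁ g₂ : A ⟶ A') (hg : p ≫ gbar = g₁ - g₂) : Homotopy g₁ g₂ where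
  hom i j := p.f i ≫ h.hom i j ≫ gbar.f j
  zero i j hij := by rw [h.zero i j hij]; simp
  comm i := by
    have e1 : (dNext i fun i j => p.f i ≫ h.hom i j ≫ gbar.f j) =
        p.f i ≫ dNext i h.hom ≫ gbar.f i := by
      rw [dNext_comp_left p (fun i j => h.hom i j ≫ gbar.f j), dNext_comp_right]
    have e2 : (prevD i fun i j => p.f i ≫ h.hom i j ≫ gbar.f j) =
        p.f i ≫ prevD i h.hom ≫ gbar.f i := by
      rw [prevD_comp_left p (fun i j => h.hom i j ≫ gbar.f j), prevD_comp_right]
    rw [e1, e2]
    have e3 := h.comm i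
    simp only [HomologicalComplex.zero_f, add_zero, HomologicalComplex.id_f] at e3
    have e4 : p.f i ≫ gbar.f i = g₁.f i - g₂.f i := by
      rw [← HomologicalComplex.comp_f, hg]; rfl
    rw [← Preadditive.comp_add, ← Preadditive.add_comp, ← e3, Category.id_comp, e4]
    abel

/-- Let f : A' ⟶ A be a chain map of ℕ-indexed chain complexes of free abelian groups which is injective
in every degree, whose degreewise quotients A_q / f(A'_q) are free abelian groups, and which is a
quasi-isomorphism. Then any two chain maps g₁, g₂ : A ⟶ A' with f ≫ g₁ = f ≫ g₂ = 𝟙 differ by a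
null-homotopic map: there is a chain homotopy between g₁ and g₂ all of whose components vanish on
the image of f (so g₁ - g₂ factors through the quotient complex A / A', and the homotopy does too).
(The source allows complexes indexed by all integers; stated here for complexes in non-negative
degrees.) -/
theorem result
    (A' A : ChainComplex (ModuleCat.{v} ℤ) ℕ) (f : A' ⟶ A)
    [∀ q, Module.Free ℤ (A'.X q)] [∀ q, Module.Free ℤ (A.X q)]
    (hf : ∀ q, Function.Injective (f.f q).hom)
    (hq : ∀ q, Module.Free ℤ ((A.X q) ⧸ LinearMap.range (f.f q).hom)) [QuasiIso f]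
    (g₁ g₂ : A ⟶ A') (h₁ : f ≫ g₁ = 𝟙 A') (h₂ : f ≫ g₂ = 𝟙 A') :
    ∃ H : Homotopy g₁ g₂, ∀ i j : ℕ, f.f i ≫ H.hom i j = 0 := by
  have hac := acyclic f hf
  have hproj : ∀ n, Projective ((Qc f).X n) := fun n => by
    have := free_Qc_int f n (hq n)
    infer_instance
  have hkill : f ≫ (g₁ - g₂) = 0 := by rw [Preadditive.comp_sub, h₁, h₂, sub_self]
  refine ⟨homotopyOfFactor (πc f) (descQc f (g₁ - g₂) hkill) (homotopyIdZero (Qc f) hac) g₁ g₂
    (πc_descQc f _ hkill), ?_⟩
  intro i j
  show f.f i ≫ (πc f).f i ≫ _ = 0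
  rw [← Category.assoc, ← HomologicalComplex.comp_f, f_πc]
  simp

end Groth.Agent.S16330
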