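import Groth.Statements.S16331
import Mathlib

set_option autoImplicit false
universe v
open CategoryTheory
open W4c3biextchow

namespace Groth.Agent.S16331


section
universe u
variable {R : Type u} [Ring R] {A' A : ChainComplex (ModuleCat.{v} R) ℕ} (f : A' ⟶ A)

lemma range_le_comap (i j : ℕ) :
    LinearMap.range (f.f i).hom ≤ (LinearMap.range (f.f j).hom).comap (A.d i j).hom := by
  rintro _ ⟨x, rfl⟩
  refine ⟨(A'.d i j).hom x, ?_⟩
  have h := congrArg (fun φ => φ.hom x) (f.comm i j)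
  simpa only [ModuleCat.hom_comp, LinearMap.comp_apply] using h.symm

/-- the quotient complex -/
noncomputable def Qc : ChainComplex (ModuleCat.{v} R) ℕ where
  X q := ModuleCat.of R (A.X q ⧸ LinearMap.range (f.f q).hom)
  d i j := ModuleCat.ofHom ((LinearMap.range (f.f i).hom).mapQ (LinearMap.range (f.f j).hom)
    (A.d i j).hom (range_le_comap f i j))
  shape i j h := by
    ext x
    simp [A.shape i j h]
  d_comp_d' i j k _ _ := by
    ext x
    have h : (A.d i j ≫ A.d j k).hom x = 0 := by rw [A.d_comp_d]; simp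
    simp only [ModuleCat.hom_comp, LinearMap.comp_apply] at h
    simp [h]

/-- the projection chain map -/
noncomputable def πc : A ⟶ Qc f where
  f q := ModuleCat.ofHom (LinearMap.range (f.f q).hom).mkQ
  comm' i j _ := by
    ext x
    rfl

lemma f_πc : f ≫ πc f = 0 := by
  ext q x
  show (LinearMap.range (f.f q).hom).mkQ ((f.f q).hom x) = 0
  simp

lemma shortExact (hf : ∀ q, Function.Injective (f.f q).hom) :
    (ShortComplex.mk f (πc f) (f_πc f)).ShortExact := by
  apply HomologicalComplex.shortExact_of_degreewise_shortExact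
  intro i
  apply ModuleCat.shortComplex_shortExact
  · intro x
    constructor
    · intro h
      exact (Submodule.Quotient.mk_eq_zero _).mp h
    · rintro ⟨y, rfl⟩
      exact (Submodule.Quotient.mk_eq_zero _).mpr ⟨y, rfl⟩
  · exact hf i
  · exact Submodule.mkQ_surjective _

lemma acyclic (hf : ∀ q, Function.Injective (f.f q).hom) [QuasiIso f] : (Qc f).Acyclic :=
  (shortExact f hf).acyclic_X₃ inferInstance

lemma surj_d10 {K : ChainComplex (ModuleCat.{v} R) ℕ} (hK : K.ExactAt 0) :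
    Function.Surjective (K.d 1 0).hom := by
  rw [K.exactAt_iff' 1 0 0 (by simp) (by simp), ShortComplex.moduleCat_exact_iff] at hK
  intro x
  obtain ⟨y, hy⟩ := hK x (by
    show (K.d 0 0).hom x = 0
    rw [K.shape 0 0 (by simp)]; rfl)
  exact ⟨y, hy⟩

lemma exact_d21 {K : ChainComplex (ModuleCat.{v} R) ℕ} (hK : K.ExactAt 1) (x : K.X 1)
    (hx : (K.d 1 0).hom x = 0) : ∃ z : K.X 2, (K.d 2 1).hom z = x := by
  rw [K.exactAt_iff' 2 1 0 (by simp) (by simp), ShortComplex.moduleCat_exact_iff] at hK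
  obtain ⟨y, hy⟩ := hK x hx
  exact ⟨y, hy⟩

lemma d_d_apply (K : ChainComplex (ModuleCat.{v} R) ℕ) (i j k : ℕ) (x : K.X i) :
    (K.d j k).hom ((K.d i j).hom x) = 0 := by
  have h : (K.d i j ≫ K.d j k).hom x = 0 := by rw [K.d_comp_d]; simp
  simpa only [ModuleCat.hom_comp, LinearMap.comp_apply] using h

lemma exists_contr {K : ChainComplex (ModuleCat.{v} R) ℕ} (h0 : K.ExactAt 0) (h1 : K.ExactAt 1)
    [Module.Projective R (K.X 0)] [Module.Projective R (K.X 1)] :
    ∃ (t₀ : K.X 0 →ₗ[R] K.X 1) (t₁ : K.X 1 →ₗ[R] K.X 2),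
      (∀ x, (K.d 1 0).hom (t₀ x) = x) ∧
      (∀ x, (K.d 2 1).hom (t₁ x) + t₀ ((K.d 1 0).hom x) = x) := by
  obtain ⟨t₀, ht₀⟩ := Module.projective_lifting_property (K.d 1 0).hom LinearMap.id (surj_d10 h0)
  have ht₀' : ∀ x, (K.d 1 0).hom (t₀ x) = x := fun x => by
    have := congrArg (fun φ => φ x) ht₀
    simpa using this
  let φ : K.X 1 →ₗ[R] K.X 1 := LinearMap.id - t₀ ∘ₗ (K.d 1 0).hom
  have hφ : ∀ x, φ x ∈ LinearMap.ker (K.d 1 0).hom := by
    intro x
    simp only [φ, LinearMap.mem_ker, LinearMap.sub_apply, LinearMap.id_apply,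
      LinearMap.comp_apply, map_sub, ht₀', sub_self]
  let ψ : K.X 2 →ₗ[R] LinearMap.ker (K.d 1 0).hom :=
    (K.d 2 1).hom.codRestrict _ (fun x => by
      rw [LinearMap.mem_ker]; exact d_d_apply K 2 1 0 x)
  have hψ : Function.Surjective ψ := by
    rintro ⟨x, hx⟩
    obtain ⟨z, hz⟩ := exact_d21 h1 x hx
    exact ⟨z, Subtype.ext hz⟩
  obtain ⟨t₁, ht₁⟩ := Module.projective_lifting_property ψ (φ.codRestrict _ hφ) hψ
  refine ⟨t₀, t₁, ht₀', fun x => ?_⟩
  have := congrArg (fun χ => (χ x : K.X 1)) ht₁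
  simp only [LinearMap.comp_apply, LinearMap.codRestrict_apply, ψ, φ, LinearMap.sub_apply,
    LinearMap.id_apply] at this
  rw [this]; abel

end

/-- every morphism of the groupoid is invertible -/
def isoOfHom {R : Type*} [Ring R] {C : ChainComplex (ModuleCat.{v} R) ℕ} {a b : Obj C}
    (φ : a ⟶ b) : a ≅ b where
  hom := φ
  inv := ⟨-(φ : Hom C a b).cl, by rw [map_neg, (φ : Hom C a b).delta_cl]; abel⟩
  hom_inv_id := Hom.ext (by simp)
  inv_hom_id := Hom.ext (by simp)

lemma comm_apply {R : Type*} [Ring R] {C D : ChainComplex (ModuleCat.{v} R) ℕ} (φ : C ⟶ D)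
    (i j : ℕ) (x : C.X i) : (D.d i j).hom ((φ.f i).hom x) = (φ.f j).hom ((C.d i j).hom x) := by
  have h := congrArg (fun ψ => ψ.hom x) (φ.comm i j)
  simpa only [ModuleCat.hom_comp, LinearMap.comp_apply] using h

theorem main {R : Type*} [Ring R]
    (A' A B : ChainComplex (ModuleCat.{v} R) ℕ) (f : A' ⟶ A) (h' : A' ⟶ B)
    (hf : ∀ q, Function.Injective (f.f q).hom)
    [Module.Projective R ((Qc f).X 0)] [Module.Projective R ((Qc f).X 1)] [QuasiIso f]
    (g₁ g₂ : A ⟶ A') (h₁ : f ≫ g₁ = 𝟙 A') (h₂ : f ≫ g₂ = 𝟙 A') :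
    ∃ N : W4c3biextchow.cxFunctor (g₁ ≫ h') ≅ W4c3biextchow.cxFunctor (g₂ ≫ h'),
      ∀ a : W4c3biextchow.Obj A',
        (N.hom.app ((W4c3biextchow.cxFunctor f).obj a) : W4c3biextchow.Hom B _ _).cl = 0 := by
  have hac := acyclic f hf
  obtain ⟨t₀, t₁, ht₀, ht₁⟩ := exists_contr (hac 0) (hac 1)
  -- the difference map
  have hkill : ∀ q (x : A'.X q), (g₁.f q).hom ((f.f q).hom x) - (g₂.f q).hom ((f.f q).hom x) = 0 := by
    intro q x
    have e1 := congrArg (fun φ => (φ.f q).hom x) h₁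
    have e2 := congrArg (fun φ => (φ.f q).hom x) h₂
    simp only [HomologicalComplex.comp_f, ModuleCat.hom_comp, LinearMap.comp_apply,
      HomologicalComplex.id_f, ModuleCat.hom_id, LinearMap.id_apply] at e1 e2
    rw [e1, e2, sub_self]
  let gb : ∀ q, (Qc f).X q →ₗ[R] A'.X q := fun q =>
    (LinearMap.range (f.f q).hom).liftQ ((g₁.f q).hom - (g₂.f q).hom) (by
      rintro _ ⟨x, rfl⟩
      rw [LinearMap.mem_ker, LinearMap.sub_apply]
      exact hkill q x)
  have hgb : ∀ q (x : A.X q), gb q (((πc f).f q).hom x) = (g₁.f q).hom x - (g₂.f q).hom x :=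
    fun q x => rfl
  have hπ : ∀ q, Function.Surjective ((πc f).f q).hom := fun q => Submodule.mkQ_surjective _
  have hgbd : ∀ i j (y : (Qc f).X i),
      (A'.d i j).hom (gb i y) = gb j (((Qc f).d i j).hom y) := by
    intro i j y
    obtain ⟨x, rfl⟩ := hπ i y
    rw [comm_apply (πc f), hgb, hgb, map_sub, comm_apply g₁, comm_apply g₂]
  let s₀ : (Qc f).X 0 →ₗ[R] A'.X 1 := gb 1 ∘ₗ t₀
  let s₁ : (Qc f).X 1 →ₗ[R] A'.X 2 := gb 2 ∘ₗ t₁
  have K0 : ∀ a : A.X 0, (A'.d 1 0).hom (s₀ (((πc f).f 0).hom a)) =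
      (g₁.f 0).hom a - (g₂.f 0).hom a := by
    intro a
    show (A'.d 1 0).hom (gb 1 (t₀ _)) = _
    rw [hgbd, ht₀, hgb]
  have K1 : ∀ c : A.X 1, (g₁.f 1).hom c - (g₂.f 1).hom c =
      (A'.d 2 1).hom (s₁ (((πc f).f 1).hom c)) + s₀ (((πc f).f 0).hom ((A.d 1 0).hom c)) := by
    intro c
    show _ = (A'.d 2 1).hom (gb 2 (t₁ _)) + gb 1 (t₀ _)
    rw [hgbd, ← comm_apply (πc f), ← map_add, ht₁, hgb]
  let cmp : ∀ a : Obj A, (cxFunctor (g₁ ≫ h')).obj a ⟶ (cxFunctor (g₂ ≫ h')).obj a := fun a =>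
    ⟨Submodule.Quotient.mk (-(h'.f 1).hom (s₀ (((πc f).f 0).hom a.pt))), by
      rw [delta_mk, map_neg, comm_apply h', K0]
      simp only [cxFunctor_obj_pt, HomologicalComplex.comp_f, ModuleCat.hom_comp,
        LinearMap.comp_apply, map_sub]
      abel⟩
  refine ⟨NatIso.ofComponents (fun a => isoOfHom (cmp a)) ?_, ?_⟩
  · intro a b φ
    apply Hom.ext
    obtain ⟨c, hc⟩ := Submodule.Quotient.mk_surjective _ (φ : Hom A a b).cl
    have hd : (A.d 1 0).hom c = b.pt - a.pt := by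
      have := (φ : Hom A a b).delta_cl
      rw [← hc, delta_mk] at this; exact this
    show q1Map (g₁ ≫ h') (φ : Hom A a b).cl + Submodule.Quotient.mk _ =
      Submodule.Quotient.mk _ + q1Map (g₂ ≫ h') (φ : Hom A a b).cl
    rw [← hc, q1Map_mk, q1Map_mk, ← Submodule.Quotient.mk_add, ← Submodule.Quotient.mk_add,
      Submodule.Quotient.eq]
    refine ⟨(h'.f 2).hom (s₁ (((πc f).f 1).hom c)), ?_⟩
    rw [comm_apply h']
    have e := K1 c
    rw [hd, map_sub, map_sub] at e
    simp only [HomologicalComplex.comp_f, ModuleCat.hom_comp, LinearMap.comp_apply]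
    have e2 : (A'.d 2 1).hom (s₁ (((πc f).f 1).hom c)) = (g₁.f 1).hom c - (g₂.f 1).hom c -
        (s₀ (((πc f).f 0).hom b.pt) - s₀ (((πc f).f 0).hom a.pt)) := by
      rw [e]; abel
    rw [e2]
    simp only [map_sub]
    abel
  · intro a'
    show Submodule.Quotient.mk (-(h'.f 1).hom (s₀ (((πc f).f 0).hom ((f.f 0).hom a'.pt)))) = 0
    have : ((πc f).f 0).hom ((f.f 0).hom a'.pt) = 0 :=
      (Submodule.Quotient.mk_eq_zero _).mpr ⟨_, rfl⟩
    rw [this]; simp

/-- Let f : A' ⟶ A be a chain map of ℕ-indexed chain complexes of free abelian groups which is injective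
in every degree, with free degreewise quotients A_q / f(A'_q), and a quasi-isomorphism; let h' : A'
⟶ B be a chain map to another complex of free abelian groups and g₁, g₂ : A ⟶ A' two chain maps with
f ≫ g₁ = f ≫ g₂ = 𝟙. Consider the functors induced by g₁ ≫ h' and g₂ ≫ h' between the groupoids
attached to A and B (objects: degree-0 elements; morphisms a ⟶ b: degree-1 elements with boundary b
- a, modulo boundaries of degree-2 elements). Then there is a natural isomorphism between these two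
functors whose component at every object of the form f(a'), a' a degree-0 element of A', is the zero
class, i.e. the identity morphism of h'(a'). -/
theorem result
    (A' A B : ChainComplex (ModuleCat.{v} ℤ) ℕ) (f : A' ⟶ A) (h' : A' ⟶ B)
    [∀ q, Module.Free ℤ (A'.X q)] [∀ q, Module.Free ℤ (A.X q)] [∀ q, Module.Free ℤ (B.X q)]
    (hf : ∀ q, Function.Injective (f.f q).hom)
    (hq : ∀ q, Module.Free ℤ ((A.X q) ⧸ LinearMap.range (f.f q).hom)) [QuasiIso f]
    (g₁ g₂ : A ⟶ A') (h₁ : f ≫ g₁ = 𝟙 A') (h₂ : f ≫ g₂ = 𝟙 A') :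
    ∃ N : W4c3biextchow.cxFunctor (g₁ ≫ h') ≅ W4c3biextchow.cxFunctor (g₂ ≫ h'),
      ∀ a : W4c3biextchow.Obj A',
        (N.hom.app ((W4c3biextchow.cxFunctor f).obj a) : W4c3biextchow.Hom B _ _).cl = 0 := by
  have hfree : ∀ q, Module.Free ℤ ((Qc f).X q) := fun q => by
    show @Module.Free ℤ (A.X q ⧸ LinearMap.range (f.f q).hom) _ _ (Submodule.Quotient.module _)
    have e : Submodule.Quotient.module (LinearMap.range (f.f q).hom) =
      AddCommGroup.toIntModule (A.X q ⧸ LinearMap.range (f.f q).hom) := Subsingleton.elim _ _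
    rw [e]
    exact hq q
  have := hfree 0
  have := hfree 1
  exact main A' A B f h' hf g₁ g₂ h₁ h₂

end Groth.Agent.S16331
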