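import Groth.Statements.S16332
import Mathlib
import Groth.Agent.Lib.Helper24.ModHomology
import Groth.Agent.Lib.Helper24.TensorLow
import Groth.Agent.Lib.Helper24.TensorChase

set_option autoImplicit false
universe v
open CategoryTheory MonoidalCategory
open W4c3biextchow

namespace Groth.Agent.S16332


open Groth.Agent.Helper24.ModHomology Groth.Agent.Helper24.TensorLow
  Groth.Agent.Helper24.TensorChase

lemma app {R : Type v} [CommRing R] {M N : ModuleCat.{v} R} {f g : M ⟶ N} (h : f = g) (x : M) :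
    f.hom x = g.hom x := by rw [h]

lemma capp {R : Type v} [CommRing R] {M N Q : ModuleCat.{v} R} (f : M ⟶ N) (g : N ⟶ Q) (x : M) :
    (f ≫ g).hom x = g.hom (f.hom x) := rfl

/-- Concrete consequences of `π : P ⟶ G[0]` being a quasi-isomorphism. -/
lemma quasiIso_conseq (R : Type v) [CommRing R] (P : ChainComplex (ModuleCat.{v} R) ℕ)
    (G : ModuleCat.{v} R)
    (π : P ⟶ (ChainComplex.single₀ (ModuleCat.{v} R)).obj G) [QuasiIso π] :
    Function.Surjective (π.f 0).hom ∧ Function.Exact (P.d 1 0).hom (π.f 0).hom ∧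
      Function.Exact (P.d 2 1).hom (P.d 1 0).hom := by
  have hsub : ∀ j, Subsingleton (((ChainComplex.single₀ (ModuleCat.{v} R)).obj G).X (j + 1)) :=
    fun j => ModuleCat.subsingleton_of_isZero
      (HomologicalComplex.isZero_single_obj_X _ _ _ _ (by simp))
  have hd : ∀ i j, ((ChainComplex.single₀ (ModuleCat.{v} R)).obj G).d i j = 0 :=
    fun i j => HomologicalComplex.single_obj_d _ _ _ _ _
  have hiso : ∀ i, IsIso (HomologicalComplex.homologyMap π i) := fun i => inferInstance
  have hm0 : Mono (HomologicalComplex.homologyMap π 0) := inferInstance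
  have he0 : Epi (HomologicalComplex.homologyMap π 0) := inferInstance
  have hm1 : Mono (HomologicalComplex.homologyMap π 1) := inferInstance
  rw [mono_homologyMap_iff' π 1 0 0 (by simp) (by simp)] at hm0
  rw [epi_homologyMap_iff' π 1 0 0 (by simp) (by simp)] at he0
  rw [mono_homologyMap_iff' π 2 1 0 (by simp) (by simp)] at hm1
  refine ⟨?_, ?_, ?_⟩
  · intro z
    obtain ⟨z', _, w, hw⟩ := he0 z (by rw [hd]; rfl)
    refine ⟨z', ?_⟩
    rw [hd] at hw
    have : (0 : _) = z - (π.f 0).hom z' := hw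
    exact (sub_eq_zero.mp this.symm).symm
  · intro y
    constructor
    · intro hy
      obtain ⟨w', hw'⟩ := hm0 y (by rw [HomologicalComplex.shape _ _ _ (by simp)]; rfl)
        ⟨0, by rw [hy, map_zero]⟩
      exact ⟨w', hw'⟩
    · rintro ⟨x, rfl⟩
      have := app (π.comm 1 0) x
      rw [hd, Limits.comp_zero] at this
      exact this.symm
  · intro y
    constructor
    · intro hy
      haveI := hsub 0
      obtain ⟨w', hw'⟩ := hm1 y hy ⟨0, Subsingleton.elim _ _⟩
      exact ⟨w', hw'⟩
    · rintro ⟨x, rfl⟩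
      exact app (P.d_comp_d 2 1 0) x

/-- Let R be a commutative ring, C an ℕ-indexed chain complex of R-modules whose degree-0 term C_0 is a
free R-module, G an R-module, and π : P ⟶ G[0] a quasi-isomorphism from an ℕ-indexed chain complex P
of free R-modules onto G placed in degree 0 (a free resolution of G), so that the tensor product of
complexes C ⊗ P represents the derived tensor product of C and G. Then the map induced by π on first
homology, H_1(C ⊗ P) → H_1(C ⊗ G[0]), is an isomorphism: in degree 1 the derived and the plain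
tensor product with G have the same homology. (The published statement is over the integers, for
complexes vanishing in negative degrees with C_0 free abelian; this row allows any commutative ring
R and R-modules in the same universe as R.) -/
theorem result
    (R : Type v) [CommRing R] (C P : ChainComplex (ModuleCat.{v} R) ℕ) (G : ModuleCat.{v} R)
    [Module.Free R (C.X 0)] [∀ q, Module.Free R (P.X q)]
    (π : P ⟶ (ChainComplex.single₀ (ModuleCat.{v} R)).obj G) [QuasiIso π] :
    IsIso (HomologicalComplex.homologyMap (C ◁ π) 1) := by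
  obtain ⟨hQ0, hQ1, hQ2⟩ := quasiIso_conseq R P G π
  have hcc : (C.d 1 0).hom ∘ₗ (C.d 2 1).hom = 0 := by
    ext x
    exact app (C.d_comp_d 2 1 0) x
  -- decompositions in the target complex
  have hdec1 : ∀ z : (C ⊗ (ChainComplex.single₀ (ModuleCat.{v} R)).obj G).X 1,
      z = (ι C ((ChainComplex.single₀ (ModuleCat.{v} R)).obj G) 1 0 1 rfl).hom
        ((pr C ((ChainComplex.single₀ (ModuleCat.{v} R)).obj G) 1 0 1).hom z) := by
    intro z
    have h := decomp1_apply C ((ChainComplex.single₀ (ModuleCat.{v} R)).obj G) z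
    rw [ι_single₀_succ_apply C G 0 0 1 rfl, zero_add] at h
    exact h
  have hdec2 : ∀ z : (C ⊗ (ChainComplex.single₀ (ModuleCat.{v} R)).obj G).X 2,
      z = (ι C ((ChainComplex.single₀ (ModuleCat.{v} R)).obj G) 2 0 2 rfl).hom
        ((pr C ((ChainComplex.single₀ (ModuleCat.{v} R)).obj G) 2 0 2).hom z) := by
    intro z
    have h := decomp2_apply C ((ChainComplex.single₀ (ModuleCat.{v} R)).obj G) z
    rw [ι_single₀_succ_apply C G 0 1 2 rfl, ι_single₀_succ_apply C G 1 0 2 rfl, zero_add,
      zero_add] at h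
    exact h
  have hmono : Mono (HomologicalComplex.homologyMap (C ◁ π) 1) := by
    rw [mono_homologyMap_iff' (C ◁ π) 2 1 0 (by simp) (by simp)]
    intro z hz ⟨w, hw⟩
    have hzz := decomp1_apply C P z
    have hvw : ((P.d 1 0).hom.lTensor (C.X 0)) ((pr C P 0 1 1).hom z) +
        ((C.d 1 0).hom.rTensor (P.X 0)) ((pr C P 1 0 1).hom z) = 0 := by
      have h1 := congrArg ((C ⊗ P).d 1 0).hom hzz
      rw [hz, map_add, d_ι_zero_succ_apply C P 0 0 rfl, d_ι_succ_zero_apply C P 0 0 rfl,
        ← map_add] at h1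
      have h2 := congrArg (pr C P 0 0 0).hom h1
      rw [map_zero, pr_ι_apply] at h2
      exact h2.symm
    have hww := hdec2 w
    have hu : ((C.d 2 1).hom.rTensor (((ChainComplex.single₀ (ModuleCat.{v} R)).obj G).X 0))
        ((pr C ((ChainComplex.single₀ (ModuleCat.{v} R)).obj G) 2 0 2).hom w) =
        ((π.f 0).hom.lTensor (C.X 1)) ((pr C P 1 0 1).hom z) := by
      have h1 := d_ι_succ_zero_apply C ((ChainComplex.single₀ (ModuleCat.{v} R)).obj G) 1 1 rfl
        ((pr C ((ChainComplex.single₀ (ModuleCat.{v} R)).obj G) 2 0 2).hom w)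
      rw [← hww, hw] at h1
      have h2 := congrArg ((C ◁ π).f 1).hom hzz
      rw [map_add, whiskerLeft_ι_apply, whiskerLeft_ι_apply,
        ι_single₀_succ_apply C G 0 0 1 rfl, zero_add] at h2
      rw [h2] at h1
      have h3 := congrArg (pr C ((ChainComplex.single₀ (ModuleCat.{v} R)).obj G) 1 0 1).hom h1
      rw [pr_ι_apply, pr_ι_apply] at h3
      exact h3.symm
    obtain ⟨s, t, u', hv, hw₁⟩ := chase_inj (C.d 1 0).hom (C.d 2 1).hom (P.d 1 0).hom (P.d 2 1).hom
      (π.f 0).hom hcc hQ0 hQ1 hQ2 _ _ hvw _ hu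
    refine ⟨(ι C P 0 2 2 rfl).hom s + (ι C P 1 1 2 rfl).hom t + (ι C P 2 0 2 rfl).hom u', ?_⟩
    rw [map_add, map_add, d_ι_zero_succ_apply C P 1 1 rfl, d_ι_succ_succ_apply C P 0 0 1 rfl,
      d_ι_succ_zero_apply C P 1 1 rfl]
    conv_rhs => rw [hzz, hv, hw₁]
    simp only [map_add, map_neg, zero_add, pow_one, Units.neg_smul, one_smul]
    abel
  have hepi : Epi (HomologicalComplex.homologyMap (C ◁ π) 1) := by
    rw [epi_homologyMap_iff' (C ◁ π) 2 1 0 (by simp) (by simp)]
    intro z hz
    have hzz := hdec1 z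
    have hcyc : ((C.d 1 0).hom.rTensor (((ChainComplex.single₀ (ModuleCat.{v} R)).obj G).X 0))
        ((pr C ((ChainComplex.single₀ (ModuleCat.{v} R)).obj G) 1 0 1).hom z) = 0 := by
      have h1 := d_ι_succ_zero_apply C ((ChainComplex.single₀ (ModuleCat.{v} R)).obj G) 0 0 rfl
        ((pr C ((ChainComplex.single₀ (ModuleCat.{v} R)).obj G) 1 0 1).hom z)
      rw [← hzz, hz] at h1
      have h2 := congrArg (pr C ((ChainComplex.single₀ (ModuleCat.{v} R)).obj G) 0 0 0).hom h1
      rw [map_zero, pr_ι_apply] at h2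
      exact h2.symm
    obtain ⟨v, w, hvw, hw⟩ := chase_surj (C.d 1 0).hom (P.d 1 0).hom (π.f 0).hom hQ0 hQ1 _ hcyc
    refine ⟨(ι C P 0 1 1 rfl).hom v + (ι C P 1 0 1 rfl).hom w, ?_, 0, ?_⟩
    · rw [map_add, d_ι_zero_succ_apply C P 0 0 rfl, d_ι_succ_zero_apply C P 0 0 rfl, ← map_add,
        hvw, map_zero]
    · rw [map_zero, map_add, whiskerLeft_ι_apply, whiskerLeft_ι_apply,
        ι_single₀_succ_apply C G 0 0 1 rfl, zero_add, hw, ← hzz, sub_self]
  exact isIso_of_mono_of_epi _

end Groth.Agent.S16332
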