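import Groth.Statements.S16335
import Mathlib.Algebra.BigOperators.GroupWithZero.Action
import Mathlib.Algebra.Module.BigOperators
import Mathlib.LinearAlgebra.TensorProduct.RightExactness
import Mathlib.Tactic.Ring

set_option autoImplicit false
universe u v w w'
open TensorProduct
open InvTh

namespace Groth.Agent.S16335

/-- Let `R` be a commutative ring with an action of a finite group `Γ` by ring automorphisms such that
the order of `Γ` is invertible in `R`, and let `A → R` be injective with image exactly the
invariants `R^Γ`, the action being `A`-linear. Then for every commutative `A`-algebra `S`, with `Γ`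
acting on `S ⊗_A R` through the factor `R`, the map `S → S ⊗_A R`, `s ↦ s ⊗ 1`, is injective and its
image is exactly the set of `Γ`-fixed elements: `S ≅ (S ⊗_A R)^Γ`. No flatness of `S` over `A` is
assumed; the invertibility of the order of `Γ` replaces it. This is the affine statement that for a
tame quotient the coarse space commutes with arbitrary base change. (The published lemma is the
statement that the coarse moduli space of a tame Deligne–Mumford stack commutes with arbitrary base
change, whose proof reduces to this ring statement. The published lemma also asserts the analogous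
statement for the reduced fibre product when the base-change scheme is reduced; that clause is not
part of this row.) -/
theorem result
    (A : Type u) [CommRing A] (R : Type v) [CommRing R] [Algebra A R]
    (Γ : Type w) [Group Γ] [Finite Γ] [MulSemiringAction Γ R] [SMulCommClass Γ A R]
    [Algebra.IsInvariant A R Γ] (hinj : Function.Injective (algebraMap A R))
    (hΓ : IsUnit (Nat.card Γ : R))
    (S : Type w') [CommRing S] [Algebra A S] :
    Function.Injective (fun s : S => s ⊗ₜ[A] (1 : R)) ∧
      ∀ x : S ⊗[A] R,
        (∀ γ : Γ, Algebra.TensorProduct.map (AlgHom.id A S) (MulSemiringAction.toAlgHom A R γ) x = x) →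
          x ∈ Set.range (fun s : S => s ⊗ₜ[A] (1 : R)) := by
  classical
  cases nonempty_fintype Γ
  rw [Nat.card_eq_fintype_card] at hΓ
  obtain ⟨c, hc⟩ := hΓ.exists_left_inv
  -- c is invariant
  have hcfix : ∀ γ : Γ, γ • c = c := by
    intro γ
    have h1 : (γ • c) * (Fintype.card Γ : R) = 1 := by
      have : γ • (c * (Fintype.card Γ : R)) = 1 := by rw [hc, smul_one]
      rw [smul_mul'] at this
      have h3 : γ • (Fintype.card Γ : R) = (Fintype.card Γ : R) := map_natCast (MulSemiringAction.toRingHom Γ R γ) _
      rwa [h3] at this
    calc γ • c = (γ • c) * (c * (Fintype.card Γ : R)) := by rw [hc, mul_one]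
      _ = ((γ • c) * (Fintype.card Γ : R)) * c := by ring
      _ = c := by rw [h1, one_mul]
  obtain ⟨a, ha⟩ := Algebra.IsInvariant.isInvariant (A := A) (G := Γ) c hcfix
  have hac : a * (Fintype.card Γ : A) = 1 := by
    apply hinj
    rw [map_mul, ha, map_natCast, hc, map_one]
  let avg : R →ₗ[A] R := a • ∑ γ : Γ, (MulSemiringAction.toAlgHom A R γ).toLinearMap
  have havg : ∀ r, avg r = algebraMap A R a * ∑ γ : Γ, γ • r := by
    intro r
    simp [avg, LinearMap.sum_apply, LinearMap.smul_apply, Algebra.smul_def, Finset.mul_sum]
  have havgfix : ∀ r (γ' : Γ), γ' • avg r = avg r := by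
    intro r γ'
    rw [havg, smul_mul', ha, hcfix, Finset.smul_sum]
    congr 1
    exact Fintype.sum_equiv (Equiv.mulLeft γ') _ _ (fun γ => by simp [mul_smul])
  have hrange : ∀ r, avg r ∈ LinearMap.range (Algebra.linearMap A R) := by
    intro r
    obtain ⟨b, hb⟩ := Algebra.IsInvariant.isInvariant (A := A) (G := Γ) (avg r) (havgfix r)
    exact ⟨b, hb⟩
  let e := LinearEquiv.ofInjective (Algebra.linearMap A R) hinj
  let ρ : R →ₗ[A] A := e.symm.toLinearMap ∘ₗ (avg.codRestrict _ hrange)
  have hρ : (Algebra.linearMap A R) ∘ₗ ρ = avg := by
    ext r
    simp only [LinearMap.coe_comp, Function.comp_apply, ρ, LinearEquiv.coe_coe]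
    have := congrArg Subtype.val (e.apply_symm_apply (avg.codRestrict _ hrange r))
    exact this
  have hρ1 : ρ 1 = 1 := by
    apply hinj
    have := LinearMap.congr_fun hρ 1
    simp only [LinearMap.coe_comp, Function.comp_apply, Algebra.linearMap_apply] at this
    rw [this, havg]
    simp only [smul_one, Finset.sum_const, Finset.card_univ, nsmul_eq_mul, mul_one, map_one]
    rw [← map_natCast (algebraMap A R), ← map_mul, hac, map_one]
  constructor
  · intro s t hst
    have h := congrArg (fun z => TensorProduct.rid A S (LinearMap.lTensor S ρ z)) hst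
    simpa [hρ1] using h
  · intro x hx
    have hx' : ∀ γ : Γ, LinearMap.lTensor S (MulSemiringAction.toAlgHom A R γ).toLinearMap x = x := by
      intro γ
      exact hx γ
    have h1 : LinearMap.lTensor S avg x = x := by
      have : LinearMap.lTensor S avg = a • ∑ γ : Γ, LinearMap.lTensor S (MulSemiringAction.toAlgHom A R γ).toLinearMap := by
        have := map_smul (LinearMap.lTensorHom (R := A) S (N := R) (P := R)) a (∑ γ : Γ, (MulSemiringAction.toAlgHom A R γ).toLinearMap)
        rw [map_sum] at this
        exact this
      rw [this, LinearMap.smul_apply, LinearMap.sum_apply]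
      simp only [hx', Finset.sum_const, Finset.card_univ]
      rw [← Nat.cast_smul_eq_nsmul A, smul_smul, hac, one_smul]
    rw [← hρ, LinearMap.lTensor_comp] at h1
    refine ⟨TensorProduct.rid A S (LinearMap.lTensor S ρ x), ?_⟩
    have h2 : LinearMap.lTensor S ρ x = (TensorProduct.rid A S (LinearMap.lTensor S ρ x)) ⊗ₜ[A] (1 : A) := by
      have := (TensorProduct.rid A S).symm_apply_apply (LinearMap.lTensor S ρ x)
      rw [TensorProduct.rid_symm_apply] at this
      exact this.symm
    conv_rhs => rw [← h1]
    rw [LinearMap.comp_apply, h2]
    simp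

end Groth.Agent.S16335
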