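import Groth.Statements.S16337
import Mathlib.Algebra.BigOperators.GroupWithZero.Action
import Mathlib.Algebra.Module.BigOperators
import Mathlib.Algebra.Module.LinearMap.Basic

set_option autoImplicit false
universe u v w
open InvTh

namespace Groth.Agent.S16337

/-- Let `A` be a commutative ring, `Γ` a finite group whose order is invertible in `A`, `M` an
`A`-module with an `A`-linear action of `Γ`, and `I` an ideal of `A`. Then reduction modulo `I`
induces a bijection `M^Γ / I·M^Γ ≅ (M / IM)^Γ`: (a) an element of `M` fixed by `Γ` modulo `IM` is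
congruent modulo `IM` to a `Γ`-fixed element, and (b) a `Γ`-fixed element lying in `IM` lies in
`I·M^Γ`, where `M^Γ` is the submodule of `Γ`-fixed elements. (The published lemma says that
push-forward to the coarse space of a tame stack over a complete local base commutes with reduction
modulo powers of the maximal ideal; this row is the module statement its proof establishes, for an
arbitrary ideal.) -/
theorem result
    (A : Type u) [CommRing A] (Γ : Type v) [Group Γ] [Finite Γ] (hΓ : IsUnit (Nat.card Γ : A))
    (M : Type w) [AddCommGroup M] [Module A M] [DistribMulAction Γ M] [SMulCommClass Γ A M]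
    (I : Ideal A) :
    (∀ x : M, (∀ γ : Γ, γ • x - x ∈ I • (⊤ : Submodule A M)) →
        ∃ y : M, (∀ γ : Γ, γ • y = y) ∧ x - y ∈ I • (⊤ : Submodule A M)) ∧
      ∀ y : M, (∀ γ : Γ, γ • y = y) → y ∈ I • (⊤ : Submodule A M) →
        y ∈ I • Submodule.span A {m : M | ∀ γ : Γ, γ • m = m} := by
  classical
  cases nonempty_fintype Γ
  obtain ⟨c, hc⟩ := hΓ.exists_left_inv
  rw [Nat.card_eq_fintype_card] at hc
  let π : M →ₗ[A] M := c • ∑ γ : Γ, DistribSMul.toLinearMap A M γ
  have hπ : ∀ m, π m = c • ∑ γ : Γ, γ • m := by
    intro m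
    simp [π, LinearMap.sum_apply, LinearMap.smul_apply]
  have hfix : ∀ m (γ' : Γ), γ' • π m = π m := by
    intro m γ'
    rw [hπ, smul_comm, Finset.smul_sum]
    congr 1
    exact Fintype.sum_equiv (Equiv.mulLeft γ') _ _ (fun γ => by simp [mul_smul])
  have hid : ∀ y : M, (∀ γ : Γ, γ • y = y) → π y = y := by
    intro y hy
    rw [hπ]
    simp only [hy, Finset.sum_const, Finset.card_univ]
    rw [← Nat.cast_smul_eq_nsmul A, smul_smul, hc, one_smul]
  constructor
  · intro x hx
    refine ⟨π x, hfix x, ?_⟩
    have : x - π x = c • ∑ γ : Γ, (x - γ • x) := by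
      rw [hπ, Finset.sum_sub_distrib, smul_sub]
      simp only [Finset.sum_const, Finset.card_univ]
      rw [← Nat.cast_smul_eq_nsmul A, smul_smul, hc, one_smul]
    rw [this]
    refine Submodule.smul_mem _ _ (Submodule.sum_mem _ (fun γ _ => ?_))
    have := hx γ
    rw [← neg_sub]
    exact Submodule.neg_mem _ this
  · intro y hy hyI
    have h1 : π y ∈ Submodule.map π (I • (⊤ : Submodule A M)) := Submodule.mem_map_of_mem hyI
    rw [Submodule.map_smul''] at h1
    rw [hid y hy] at h1
    refine Submodule.smul_mono (le_refl I) ?_ h1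
    rintro _ ⟨m, -, rfl⟩
    exact Submodule.subset_span (fun γ => hfix m γ)

end Groth.Agent.S16337
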