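import Groth.Statements.S16343
import Mathlib.Algebra.Category.Grp.Injective
import Mathlib.Data.Nat.Factorization.Induction
import Mathlib.RingTheory.Coprime.Lemmas
import Mathlib.GroupTheory.Divisible
import Mathlib.Algebra.Module.Injective

set_option autoImplicit false
open KatoHom

namespace Groth.Agent.S16343

theorem split_PQ (P : Set ℕ) : ∀ n : ℕ, 0 < n → ∃ n₁ n₂ : ℕ, n = n₁ * n₂ ∧
    (0 < n₁ ∧ ∀ p : ℕ, p.Prime → p ∣ n₁ → p ∈ P) ∧ (0 < n₂ ∧ ∀ p : ℕ, p.Prime → p ∣ n₂ → p ∉ P) := by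
  classical
  intro n
  induction n using induction_on_primes with
  | zero => intro h; exact absurd h (lt_irrefl 0)
  | one =>
    intro _
    exact ⟨1, 1, rfl, ⟨Nat.one_pos, fun p hp h => absurd (Nat.dvd_one.mp h) hp.ne_one⟩,
      ⟨Nat.one_pos, fun p hp h => absurd (Nat.dvd_one.mp h) hp.ne_one⟩⟩
  | prime_mul p a hp ih =>
    intro hpa
    have ha : 0 < a := Nat.pos_of_mul_pos_left hpa
    obtain ⟨a₁, a₂, rfl, h1, h2⟩ := ih ha
    by_cases hpP : p ∈ P
    · refine ⟨p * a₁, a₂, by ring, ⟨Nat.mul_pos hp.pos h1.1, ?_⟩, h2⟩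
      intro q hq hqd
      rcases (Nat.Prime.dvd_mul hq).mp hqd with h | h
      · rw [(Nat.prime_dvd_prime_iff_eq hq hp).mp h]; exact hpP
      · exact h1.2 q hq h
    · refine ⟨a₁, p * a₂, by ring, h1, ⟨Nat.mul_pos hp.pos h2.1, ?_⟩⟩
      intro q hq hqd
      rcases (Nat.Prime.dvd_mul hq).mp hqd with h | h
      · rw [(Nat.prime_dvd_prime_iff_eq hq hp).mp h]; exact hpP
      · exact h2.2 q hq h

theorem coprime_PQ (P : Set ℕ) {n m : ℕ} (hn : ∀ p : ℕ, p.Prime → p ∣ n → p ∈ P)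
    (hm : ∀ p : ℕ, p.Prime → p ∣ m → p ∉ P) : IsCoprime (n : ℤ) (m : ℤ) :=
  Nat.isCoprime_iff_coprime.mpr (Nat.coprime_of_dvd fun k hk hkn hkm => (hm k hk hkm) (hn k hk hkn))

theorem zcomb {G : Type*} [AddCommGroup G] (x : G) (a b : ℕ) (h : IsCoprime (a : ℤ) (b : ℤ)) :
    ∃ u v : ℤ, x = a • (u • x) + b • (v • x) := by
  obtain ⟨u, v, huv⟩ := h
  refine ⟨u, v, ?_⟩
  rw [← natCast_zsmul (u • x), ← natCast_zsmul (v • x), smul_smul, smul_smul, ← add_smul,
    mul_comm (a : ℤ), mul_comm (b : ℤ), huv, one_smul]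

theorem div_PN {A : Type*} [AddCommGroup A] (P : Set ℕ) (D : AddSubgroup A)
    (hD : ∀ ℓ ∈ P, ∀ x ∈ D, ∃ y ∈ D, ℓ • y = x) :
    ∀ n : ℕ, (0 < n ∧ ∀ p : ℕ, p.Prime → p ∣ n → p ∈ P) → ∀ x ∈ D, ∃ y ∈ D, n • y = x := by
  intro n
  induction n using induction_on_primes with
  | zero => intro h; exact absurd h.1 (lt_irrefl 0)
  | one => intro _ x hx; exact ⟨x, hx, one_nsmul x⟩
  | prime_mul p a hp ih =>
    intro hpa x hx
    have ha : 0 < a := Nat.pos_of_mul_pos_left hpa.1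
    have hpP : p ∈ P := hpa.2 p hp (dvd_mul_right p a)
    obtain ⟨y₁, hy₁, e₁⟩ := hD p hpP x hx
    obtain ⟨y₂, hy₂, e₂⟩ := ih ⟨ha, fun q hq hqa => hpa.2 q hq (dvd_mul_of_dvd_right hqa p)⟩ y₁ hy₁
    exact ⟨y₂, hy₂, by rw [mul_smul, e₂, e₁]⟩

/-- Let P be a set of primes and π : A → T a surjection of abelian groups whose kernel is ℓ-divisible
for every ℓ ∈ P, with T a torsion group; let T(P) be the subgroup of elements of T killed by a
positive integer all of whose prime factors lie in P, and T' the subgroup of elements killed by a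
positive integer none of whose prime factors lies in P. Then the preimage π⁻¹(T') is ℓ-divisible for
every ℓ ∈ P, and π has a section s over T(P) for which (d, t) ↦ d + s(t) is a bijection from π⁻¹(T')
× T(P) onto A, so that A is the direct sum of π⁻¹(T') and a copy of T(P). (The decomposition is
expressed through a section of π over T(P).) -/
theorem result
    {A T : Type*} [AddCommGroup A] [AddCommGroup T] (P : Set ℕ) (hP : ∀ p ∈ P, p.Prime)
    (π : A →+ T) (hπ : Function.Surjective π) (hT : ∀ t : T, ∃ n : ℕ, 0 < n ∧ n • t = 0)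
    (hD : ∀ ℓ ∈ P, ∀ x ∈ π.ker, ∃ y ∈ π.ker, ℓ • y = x)
    (TP T' : AddSubgroup T)
    (hTP : ∀ t, t ∈ TP ↔ ∃ n : ℕ, 0 < n ∧ (∀ p : ℕ, p.Prime → p ∣ n → p ∈ P) ∧ n • t = 0)
    (hT' : ∀ t, t ∈ T' ↔ ∃ n : ℕ, 0 < n ∧ (∀ p : ℕ, p.Prime → p ∣ n → p ∉ P) ∧ n • t = 0) :
    (∀ ℓ ∈ P, ∀ x ∈ T'.comap π, ∃ y ∈ T'.comap π, ℓ • y = x) ∧
    ∃ s : TP →+ A, (∀ t : TP, π (s t) = (t : T)) ∧
      Function.Bijective (fun q : (T'.comap π) × TP => (q.1 : A) + s q.2) := by
  classical
  set D : AddSubgroup A := π.ker with hDdef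
  have hDmem : ∀ x, x ∈ D ↔ π x = 0 := fun x => AddMonoidHom.mem_ker
  have hdivPN := div_PN P D hD
  -- TP ∩ T' = 0
  have hcap : ∀ t, t ∈ TP → t ∈ T' → t = 0 := by
    intro t h1 h2
    obtain ⟨n, hn0, hnP, hn⟩ := (hTP t).mp h1
    obtain ⟨m, hm0, hmP, hm⟩ := (hT' t).mp h2
    obtain ⟨u, v, huv⟩ := zcomb t n m (coprime_PQ P hnP hmP)
    rw [huv, ← smul_comm u, ← smul_comm v, hn, hm, smul_zero, smul_zero, add_zero]
  constructor
  · -- part 1
    intro ℓ hℓ x hx
    rw [AddSubgroup.mem_comap] at hx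
    obtain ⟨n, hn0, hnP, hn⟩ := (hT' _).mp hx
    have hcop : IsCoprime (ℓ : ℤ) (n : ℤ) := by
      apply Nat.isCoprime_iff_coprime.mpr
      apply Nat.coprime_of_dvd
      intro k hk hkl hkn
      have : k = ℓ := (Nat.prime_dvd_prime_iff_eq hk (hP ℓ hℓ)).mp hkl
      subst this
      exact hnP k hk hkn hℓ
    obtain ⟨u, v, huv⟩ := zcomb (π x) ℓ n hcop
    rw [← smul_comm v, hn, smul_zero, add_zero] at huv
    have ht' : u • π x ∈ T' := T'.zsmul_mem hx u
    obtain ⟨a, ha⟩ := hπ (u • π x)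
    have hxa : x - ℓ • a ∈ D := by
      rw [hDmem, map_sub, map_nsmul, ha, ← huv, sub_self]
    obtain ⟨y, hy, hye⟩ := hD ℓ hℓ _ hxa
    refine ⟨a + y, ?_, ?_⟩
    · rw [AddSubgroup.mem_comap, map_add, (hDmem y).mp hy, add_zero, ha]
      exact ht'
    · rw [smul_add, hye]; abel
  · -- part 2
    let AS : AddSubgroup A :=
      { carrier := {a | ∃ n : ℕ, 0 < n ∧ (∀ p : ℕ, p.Prime → p ∣ n → p ∈ P) ∧ n • a = 0}
        add_mem' := by
          rintro a b ⟨n, hn0, hnP, hn⟩ ⟨m, hm0, hmP, hm⟩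
          refine ⟨n * m, Nat.mul_pos hn0 hm0, ?_, ?_⟩
          · intro p hp hpd
            rcases (Nat.Prime.dvd_mul hp).mp hpd with h | h
            · exact hnP p hp h
            · exact hmP p hp h
          · rw [smul_add, mul_comm, mul_smul, hn, smul_zero, mul_comm, mul_smul, hm, smul_zero,
              add_zero]
        zero_mem' := ⟨1, Nat.one_pos, fun p hp h => absurd (Nat.dvd_one.mp h) hp.ne_one, smul_zero _⟩
        neg_mem' := by
          rintro a ⟨n, hn0, hnP, hn⟩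
          exact ⟨n, hn0, hnP, by rw [smul_neg, hn, neg_zero]⟩ }
    have hAS : ∀ a, a ∈ AS ↔ ∃ n : ℕ, 0 < n ∧ (∀ p : ℕ, p.Prime → p ∣ n → p ∈ P) ∧ n • a = 0 :=
      fun a => Iff.rfl
    -- 2a
    have h2a : ∀ t ∈ TP, ∃ a ∈ AS, π a = t := by
      intro t ht
      obtain ⟨n, hn0, hnP, hn⟩ := (hTP t).mp ht
      obtain ⟨a₀, ha₀⟩ := hπ t
      have h1 : n • a₀ ∈ D := by rw [hDmem, map_nsmul, ha₀, hn]
      obtain ⟨d, hd, hde⟩ := hdivPN n ⟨hn0, hnP⟩ _ h1
      refine ⟨a₀ - d, ⟨n, hn0, hnP, by rw [smul_sub, hde, sub_self]⟩, ?_⟩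
      rw [map_sub, (hDmem d).mp hd, sub_zero, ha₀]
    have hASTP : ∀ a ∈ AS, π a ∈ TP := by
      rintro a ⟨n, hn0, hnP, hn⟩
      exact (hTP _).mpr ⟨n, hn0, hnP, by rw [← map_nsmul, hn, map_zero]⟩
    set DS : AddSubgroup A := D ⊓ AS with hDS
    -- DS divisible by naturals
    have hDSdiv : ∀ n : ℕ, n ≠ 0 → ∀ d ∈ DS, ∃ d' ∈ DS, n • d' = d := by
      intro n
      induction n using induction_on_primes with
      | zero => intro h; exact absurd rfl h
      | one => intro _ d hd; exact ⟨d, hd, one_nsmul d⟩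
      | prime_mul q a hq ih =>
        intro hqa d hd
        have ha : a ≠ 0 := fun h => hqa (by rw [h, mul_zero])
        have hstep : ∃ d₁ ∈ DS, q • d₁ = d := by
          obtain ⟨hdD, m, hm0, hmP, hm⟩ := hd
          by_cases hqP : q ∈ P
          · obtain ⟨d₁, hd₁, e₁⟩ := hD q hqP d hdD
            refine ⟨d₁, ⟨hd₁, m * q, Nat.mul_pos hm0 hq.pos, ?_, ?_⟩, e₁⟩
            · intro p hp hpd
              rcases (Nat.Prime.dvd_mul hp).mp hpd with h | h
              · exact hmP p hp h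
              · rw [(Nat.prime_dvd_prime_iff_eq hp hq).mp h]; exact hqP
            · rw [mul_smul, e₁, hm]
          · have hcop : IsCoprime (q : ℤ) (m : ℤ) := by
              apply Nat.isCoprime_iff_coprime.mpr
              apply Nat.coprime_of_dvd
              intro k hk hkq hkm
              have : k = q := (Nat.prime_dvd_prime_iff_eq hk hq).mp hkq
              subst this
              exact hqP (hmP k hk hkm)
            obtain ⟨u, v, huv⟩ := zcomb d q m hcop
            rw [← smul_comm v, hm, smul_zero, add_zero] at huv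
            refine ⟨u • d, ⟨D.zsmul_mem hdD u, m, hm0, hmP, ?_⟩, huv.symm⟩
            rw [← smul_comm u, hm, smul_zero]
        obtain ⟨d₁, hd₁, e₁⟩ := hstep
        obtain ⟨d₂, hd₂, e₂⟩ := ih ha d₁ hd₁
        exact ⟨d₂, hd₂, by rw [mul_smul, e₂, e₁]⟩
    haveI : DivisibleBy DS ℤ := by
      apply divisibleByOfSMulRightSurj
      intro n hn d
      have hnat : n.natAbs ≠ 0 := Int.natAbs_ne_zero.mpr hn
      obtain ⟨d', hd', e⟩ := hDSdiv n.natAbs hnat d.1 d.2
      rcases Int.natAbs_eq n with h | h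
      · refine ⟨⟨d', hd'⟩, ?_⟩
        apply Subtype.ext
        simp only [AddSubgroup.coe_zsmul]
        rw [h, natCast_zsmul, e]
      · refine ⟨-⟨d', hd'⟩, ?_⟩
        apply Subtype.ext
        simp only [AddSubgroup.coe_zsmul, AddSubgroup.coe_neg]
        rw [h, neg_smul, smul_neg, neg_neg, natCast_zsmul, e]
    have hDSle : DS ≤ AS := inf_le_right
    obtain ⟨r, hr⟩ := (Module.Baer.of_divisible DS).extension_property_addMonoidHom
      (AddSubgroup.inclusion hDSle) (AddSubgroup.inclusion_injective hDSle) (AddMonoidHom.id DS)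
    have hr' : ∀ d : DS, r (AddSubgroup.inclusion hDSle d) = d := fun d =>
      DFunLike.congr_fun hr d
    let σ : AS →+ A := AS.subtype - DS.subtype.comp r
    have hσ : ∀ a : AS, σ a = (a : A) - ((r a : DS) : A) := fun a => rfl
    have hπσ : ∀ a : AS, π (σ a) = π a := by
      intro a
      rw [hσ, map_sub, (hDmem _).mp (r a).2.1, sub_zero]
    let πAS : AS →+ TP := (π.comp AS.subtype).codRestrict TP (fun a => hASTP a.1 a.2)
    have hπAS : ∀ a : AS, ((πAS a : TP) : T) = π a := fun a => rfl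
    have hπASsurj : Function.Surjective πAS := by
      rintro ⟨t, ht⟩
      obtain ⟨a, ha, hat⟩ := h2a t ht
      exact ⟨⟨a, ha⟩, Subtype.ext hat⟩
    have hker : πAS.ker ≤ σ.ker := by
      intro a ha
      rw [AddMonoidHom.mem_ker] at ha ⊢
      have h0 : π a = 0 := by rw [← hπAS, ha]; rfl
      have haDS : (a : A) ∈ DS := ⟨(hDmem _).mpr h0, a.2⟩
      have := hr' ⟨a, haDS⟩
      have h2 : AddSubgroup.inclusion hDSle ⟨(a : A), haDS⟩ = a := Subtype.ext rfl
      rw [h2] at this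
      rw [hσ, this, sub_self]
    let s : TP →+ A := πAS.liftOfRightInverse (Function.surjInv hπASsurj)
      (Function.rightInverse_surjInv hπASsurj) ⟨σ, hker⟩
    have hs : ∀ a : AS, s (πAS a) = σ a := fun a =>
      AddMonoidHom.liftOfRightInverse_comp_apply _ _ _ ⟨σ, hker⟩ a
    have hπs : ∀ t : TP, π (s t) = (t : T) := by
      intro t
      obtain ⟨a, rfl⟩ := hπASsurj t
      rw [hs, hπσ, hπAS]
    refine ⟨s, hπs, ?_, ?_⟩
    · -- injective
      rintro ⟨d₁, t₁⟩ ⟨d₂, t₂⟩ h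
      simp only at h
      have h1 := congrArg π h
      rw [map_add, map_add, hπs, hπs] at h1
      have h2 : ((t₁ - t₂ : TP) : T) = π d₂ - π d₁ := by
        rw [AddSubgroup.coe_sub]
        have : (t₁ : T) = π d₂ + t₂ - π d₁ := by rw [← h1]; abel
        rw [this]; abel
      have h3 : ((t₁ - t₂ : TP) : T) = 0 := by
        apply hcap _ (t₁ - t₂).2
        rw [h2]
        exact T'.sub_mem d₂.2 d₁.2
      have h4 : t₁ = t₂ := by
        have : t₁ - t₂ = 0 := Subtype.ext h3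
        exact sub_eq_zero.mp this
      subst h4
      have h5 : (d₁ : A) = d₂ := add_right_cancel h
      rw [Subtype.ext h5]
    · -- surjective
      intro a
      obtain ⟨n, hn0, hn⟩ := hT (π a)
      obtain ⟨n₁, n₂, rfl, ⟨h10, h1P⟩, ⟨h20, h2P⟩⟩ := split_PQ P n hn0
      obtain ⟨u, v, huv⟩ := zcomb (π a) n₁ n₂ (coprime_PQ P h1P h2P)
      have htP : n₂ • (v • π a) ∈ TP := by
        rw [hTP]
        refine ⟨n₁, h10, h1P, ?_⟩
        rw [← mul_smul, ← smul_comm v, hn, smul_zero]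
      have ht' : n₁ • (u • π a) ∈ T' := by
        rw [hT']
        refine ⟨n₂, h20, h2P, ?_⟩
        rw [← mul_smul, mul_comm, ← smul_comm u, hn, smul_zero]
      set t : TP := ⟨n₂ • (v • π a), htP⟩ with ht
      have hd : a - s t ∈ T'.comap π := by
        rw [AddSubgroup.mem_comap, map_sub, hπs]
        have : π a - (t : T) = n₁ • (u • π a) := by
          conv_lhs => rw [huv]
          simp [ht]
        rw [this]
        exact ht'
      refine ⟨(⟨a - s t, hd⟩, t), ?_⟩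
      simp

end Groth.Agent.S16343
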