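import Groth.Statements.S16344
import Mathlib.Topology.Compactness.Compact
import Mathlib.Topology.Separation.Hausdorff
import Mathlib.Data.Finset.Order
import Mathlib.Topology.Algebra.Monoid
import Mathlib.Topology.Constructions

set_option autoImplicit false
universe u v
open IdeleMod

namespace Groth.Agent.S16344

theorem inv_lim_nonempty {ι : Type u} [Preorder ι] [IsDirected ι (· ≤ ·)]
    (G : ι → Type v) [∀ i, TopologicalSpace (G i)] [∀ i, CompactSpace (G i)] [∀ i, T2Space (G i)]
    (f : ∀ ⦃i j : ι⦄, i ≤ j → (G j → G i)) (hf : ∀ i j (h : i ≤ j), Continuous (f h))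
    (hcomp : ∀ i j k (hij : i ≤ j) (hjk : j ≤ k) (x : G k), f hij (f hjk x) = f (hij.trans hjk) x)
    (C : ∀ i, Set (G i)) (hCc : ∀ i, IsClosed (C i)) (hCn : ∀ i, (C i).Nonempty)
    (hCf : ∀ i j (h : i ≤ j), ∀ z ∈ C j, f h z ∈ C i) :
    ∃ z : ∀ i, G i, (∀ i j (h : i ≤ j), f h (z j) = z i) ∧ ∀ i, z i ∈ C i := by
  classical
  rcases isEmpty_or_nonempty ι with hι | hι
  · exact ⟨fun i => (hι.false i).elim, fun i => (hι.false i).elim, fun i => (hι.false i).elim⟩
  let I := ι ⊕ {p : ι × ι // p.1 ≤ p.2}
  let t : I → Set (∀ i, G i) := fun a =>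
    match a with
    | Sum.inl i => {z | z i ∈ C i}
    | Sum.inr p => {z | f p.2 (z p.1.2) = z p.1.1}
  have htc : ∀ a, IsClosed (t a) := by
    intro a
    rcases a with i | p
    · exact (hCc i).preimage (continuous_apply i)
    · exact isClosed_eq ((hf _ _ p.2).comp (continuous_apply p.1.2)) (continuous_apply p.1.1)
  have hfin : ∀ u : Finset I, (Set.univ ∩ ⋂ a ∈ u, t a).Nonempty := by
    intro u
    let F : Finset ι := u.biUnion fun a =>
      match a with
      | Sum.inl i => {i}
      | Sum.inr p => {p.1.1, p.1.2}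
    obtain ⟨k, hk⟩ := Finset.exists_le F
    obtain ⟨c, hc⟩ := hCn k
    choose d hd using hCn
    let z : ∀ i, G i := fun i => if h : i ≤ k then f h c else d i
    have hzC : ∀ i, z i ∈ C i := by
      intro i
      simp only [z]
      split_ifs with h
      · exact hCf i k h c hc
      · exact hd i
    refine ⟨z, Set.mem_univ _, ?_⟩
    simp only [Set.mem_iInter]
    intro a ha
    rcases a with i | p
    · exact hzC i
    · have h1 : p.1.1 ≤ k := hk _ (Finset.mem_biUnion.mpr ⟨_, ha, by simp⟩)
      have h2 : p.1.2 ≤ k := hk _ (Finset.mem_biUnion.mpr ⟨_, ha, by simp⟩)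
      change f p.2 (z p.1.2) = z p.1.1
      simp only [z, dif_pos h1, dif_pos h2]
      rw [hcomp]
  obtain ⟨z, -, hz⟩ := isCompact_univ.inter_iInter_nonempty t htc hfin
  rw [Set.mem_iInter] at hz
  refine ⟨z, ?_, ?_⟩
  · intro i j h
    exact hz (Sum.inr ⟨(i, j), h⟩)
  · intro i
    exact hz (Sum.inl i)

/-- Let (G_i) be an inverse system, indexed by a directed preorder, of compact Hausdorff topological
abelian groups with continuous surjective transition maps, let G be its limit (the group of
compatible families) and let m be a natural number. Then the canonical map G/mG → lim G_i/mG_i is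
bijective: a compatible family that lies in mG_i at every index is m times a compatible family
(injectivity), and every family that is compatible modulo m agrees modulo m, index by index, with a
compatible family (surjectivity). -/
theorem result
    {ι : Type u} [Preorder ι] [IsDirected ι (· ≤ ·)]
    (G : ι → Type v) [∀ i, AddCommGroup (G i)] [∀ i, TopologicalSpace (G i)]
    [∀ i, IsTopologicalAddGroup (G i)] [∀ i, CompactSpace (G i)] [∀ i, T2Space (G i)]
    (f : ∀ ⦃i j : ι⦄, i ≤ j → (G j →+ G i)) (hf : ∀ i j (h : i ≤ j), Continuous (f h))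
    (hid : ∀ i (x : G i), f (le_refl i) x = x)
    (hcomp : ∀ i j k (hij : i ≤ j) (hjk : j ≤ k) (x : G k), f hij (f hjk x) = f (hij.trans hjk) x)
    (hsurj : ∀ i j (h : i ≤ j), Function.Surjective (f h)) (m : ℕ) :
    (∀ x : ∀ i, G i, (∀ i j (h : i ≤ j), f h (x j) = x i) → (∀ i, ∃ y : G i, m • y = x i) →
        ∃ z : ∀ i, G i, (∀ i j (h : i ≤ j), f h (z j) = z i) ∧ ∀ i, m • z i = x i) ∧
    (∀ y : ∀ i, G i, (∀ i j (h : i ≤ j), ∃ w : G i, f h (y j) - y i = m • w) →
        ∃ x : ∀ i, G i, (∀ i j (h : i ≤ j), f h (x j) = x i) ∧ ∀ i, ∃ w : G i, x i - y i = m • w) := by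
  have hfa : ∀ i j (h : i ≤ j), Continuous (fun x => f h x) := fun i j h => hf i j h
  constructor
  · intro x hx hdiv
    obtain ⟨z, hz1, hz2⟩ := inv_lim_nonempty G (fun i j h => ⇑(f h)) hf hcomp
      (fun i => {z | m • z = x i})
      (fun i => isClosed_eq (continuous_nsmul m) continuous_const)
      (fun i => hdiv i)
      (fun i j h z hz => by
        simp only [Set.mem_setOf_eq] at hz ⊢
        rw [← map_nsmul, hz, hx])
    exact ⟨z, hz1, hz2⟩
  · intro y hy
    obtain ⟨x, hx1, hx2⟩ := inv_lim_nonempty G (fun i j h => ⇑(f h)) hf hcomp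
      (fun i => Set.range (fun w : G i => y i + m • w))
      (fun i => (isCompact_range ((continuous_const).add (continuous_nsmul m))).isClosed)
      (fun i => ⟨y i + m • 0, 0, rfl⟩)
      (fun i j h z hz => by
        obtain ⟨w, rfl⟩ := hz
        obtain ⟨w', hw'⟩ := hy i j h
        refine ⟨w' + f h w, ?_⟩
        simp only
        rw [map_add, map_nsmul, smul_add, ← add_assoc, ← hw']
        abel)
    refine ⟨x, hx1, ?_⟩
    intro i
    obtain ⟨w, hw⟩ := hx2 i
    exact ⟨w, by rw [← hw]; simp⟩

end Groth.Agent.S16344
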