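import Groth.Statements.S16346
import Mathlib.Data.Nat.Factorization.Induction
import Mathlib.Algebra.Module.NatInt

set_option autoImplicit false
universe u v
open KatoHom

namespace Groth.Agent.S16346

theorem div_PN {A : Type*} [AddCommGroup A] (P : Set ℕ) (D : AddSubgroup A)
    (hD : ∀ ℓ ∈ P, ∀ x ∈ D, ∃ y ∈ D, ℓ • y = x) :
    ∀ n : ℕ, (0 < n ∧ ∀ p : ℕ, p.Prime → p ∣ n → p ∈ P) → ∀ x ∈ D, ∃ y ∈ D, n • y = x := by
  intro n
  induction n using induction_on_primes with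
  | zero => intro h; exact absurd h.1 (lt_irrefl 0)
  | one => intro _ x hx; exact ⟨x, hx, one_nsmul x⟩
  | prime_mul p a hp ih =>
    intro hpa x hx
    have ha : 0 < a := Nat.pos_of_mul_pos_left hpa.1
    have hpP : p ∈ P := hpa.2 p hp (dvd_mul_right p a)
    obtain ⟨y₁, hy₁, e₁⟩ := hD p hpP x hx
    obtain ⟨y₂, hy₂, e₂⟩ := ih ⟨ha, fun q hq hqa => hpa.2 q hq (dvd_mul_of_dvd_right hqa p)⟩ y₁ hy₁
    exact ⟨y₂, hy₂, by rw [mul_smul, e₂, e₁]⟩

/-- Let P be a set of primes and I_P the set of positive integers all of whose prime factors lie in P.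
Let A be an abelian group, (B_n)_{n ∈ I_P} an inverse system of abelian groups with transition maps
B_n → B_m for m ∣ n, and φ_n : A → B_n homomorphisms vanishing on nA and compatible with the
transition maps, so that they induce φ̂ : Â → B̂ on the limits Â = lim A/nA and B̂ = lim B_n (limits
taken as compatible families). Suppose some N ∈ I_P kills the torsion subgroup of B̂ and kills the
kernel of φ̂ (the latter meaning: a compatible family of residues (a_n) with φ_n(a_n) = 0 for all n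
has N a_n ∈ nA for all n). Then the subgroup ⋂_{n ∈ I_P} nA is ℓ-divisible for every ℓ ∈ P, and it
contains every subgroup of A that is ℓ-divisible for all ℓ ∈ P; that is, it is the largest
P-divisible subgroup of A. -/
theorem result
    {A : Type u} [AddCommGroup A] (P : Set ℕ) (hP : ∀ p ∈ P, p.Prime)
    (IP : Set ℕ) (hIP : ∀ n, n ∈ IP ↔ 0 < n ∧ ∀ p : ℕ, p.Prime → p ∣ n → p ∈ P)
    (B : IP → Type v) [∀ n, AddCommGroup (B n)]
    (g : ∀ ⦃m n : IP⦄, (m : ℕ) ∣ (n : ℕ) → (B n →+ B m))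
    (hgid : ∀ (n : IP) (b : B n), g (dvd_refl (n : ℕ)) b = b)
    (hgcomp : ∀ (k m n : IP) (hkm : (k : ℕ) ∣ (m : ℕ)) (hmn : (m : ℕ) ∣ (n : ℕ)) (b : B n),
      g hkm (g hmn b) = g (hkm.trans hmn) b)
    (φ : ∀ n : IP, A →+ B n) (hφ : ∀ (n : IP) (a : A), φ n ((n : ℕ) • a) = 0)
    (hφg : ∀ (m n : IP) (h : (m : ℕ) ∣ (n : ℕ)) (a : A), g h (φ n a) = φ m a)
    (N : ℕ) (hN : N ∈ IP)
    (htor : ∀ b : ∀ n : IP, B n, (∀ (m n : IP) (h : (m : ℕ) ∣ (n : ℕ)), g h (b n) = b m) →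
      (∃ k : ℕ, 0 < k ∧ ∀ n, k • b n = 0) → ∀ n, N • b n = 0)
    (hker : ∀ a : IP → A, (∀ m n : IP, (m : ℕ) ∣ (n : ℕ) → ∃ c : A, a n - a m = (m : ℕ) • c) →
      (∀ n, φ n (a n) = 0) → ∀ n : IP, ∃ c : A, N • a n = (n : ℕ) • c) :
    (∀ ℓ ∈ P, ∀ x : A, (∀ n ∈ IP, ∃ y : A, x = n • y) →
        ∃ y : A, (∀ n ∈ IP, ∃ z : A, y = n • z) ∧ ℓ • y = x) ∧
    (∀ H : AddSubgroup A, (∀ ℓ ∈ P, ∀ x ∈ H, ∃ y ∈ H, ℓ • y = x) →
        ∀ x ∈ H, ∀ n ∈ IP, ∃ y : A, x = n • y) := by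
  have hmulIP : ∀ a b, a ∈ IP → b ∈ IP → a * b ∈ IP := by
    intro a b ha hb
    rw [hIP] at ha hb ⊢
    refine ⟨Nat.mul_pos ha.1 hb.1, ?_⟩
    intro p hp hpd
    rcases (Nat.Prime.dvd_mul hp).mp hpd with h | h
    · exact ha.2 p hp h
    · exact hb.2 p hp h
  have hprimeIP : ∀ ℓ ∈ P, ℓ ∈ IP := by
    intro ℓ hℓ
    rw [hIP]
    refine ⟨(hP ℓ hℓ).pos, ?_⟩
    intro p hp hpd
    rw [(Nat.prime_dvd_prime_iff_eq hp (hP ℓ hℓ)).mp hpd]
    exact hℓ
  constructor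
  · intro ℓ hℓ x hx
    have hk : ℓ * (N * N) ∈ IP := hmulIP _ _ (hprimeIP ℓ hℓ) (hmulIP _ _ hN hN)
    obtain ⟨w, hw⟩ := hx _ hk
    have hφx : ∀ n : IP, φ n x = 0 := by
      intro n
      obtain ⟨y', hy'⟩ := hx n n.2
      rw [hy', hφ]
    have h1 : ∀ n : IP, N • φ n w = 0 := by
      apply htor (fun n => φ n w)
      · intro m n h
        exact hφg m n h w
      · refine ⟨ℓ * (N * N), ((hIP _).mp hk).1, ?_⟩
        intro n
        rw [← map_nsmul, ← hw, hφx]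
    have h2 := hker (fun _ => N • w) (fun m n _ => ⟨0, by simp⟩) (fun n => by
      rw [map_nsmul, h1])
    refine ⟨N • (N • w), ?_, ?_⟩
    · intro n hn
      obtain ⟨c, hc⟩ := h2 ⟨n, hn⟩
      exact ⟨c, hc⟩
    · rw [hw, mul_smul, mul_smul]
  · intro H hH x hx n hn
    obtain ⟨y, _, hy⟩ := div_PN P H hH n ((hIP n).mp hn) x hx
    exact ⟨y, hy.symm⟩

end Groth.Agent.S16346
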