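import Groth.Statements.S16353
import Mathlib.Tactic

set_option autoImplicit false
universe u
open DegLoci

namespace Groth.Agent.S16353

open MvPolynomial

/-- the falling-factorial coefficient. -/
noncomputable def P (k : Type*) [CommSemiring k] {σ : Type*} (β α : σ →₀ ℕ) : k :=
  ((β.support.prod fun i => Nat.descFactorial (β i) (α i) : ℕ) : k)

theorem coeff_contract {k : Type*} [CommSemiring k] {σ : Type*}
    (D G : MvPolynomial σ k) (γ : σ →₀ ℕ) :
    coeff γ (W4c3degenlocivb.contract D G) =
      ∑ α ∈ D.support, coeff α D * coeff (α + γ) G * P k (α + γ) α := by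
  classical
  unfold W4c3degenlocivb.contract
  rw [coeff_sum]
  refine Finset.sum_congr rfl fun α hα => ?_
  rw [coeff_sum]
  have : ∀ β ∈ G.support,
      coeff γ (if α ≤ β then monomial (β - α)
        (coeff α D * coeff β G * ((β.support.prod fun i => Nat.descFactorial (β i) (α i) : ℕ) : k))
        else 0) = if β = α + γ then coeff α D * coeff β G * P k β α else 0 := by
    intro β _
    split_ifs with h1 h2 h2
    · rw [coeff_monomial, if_pos]
      · rfl
      · subst h2; simp
    · rw [coeff_monomial, if_neg]
      intro h
      apply h2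
      rw [← h]
      exact (add_tsub_cancel_of_le h1).symm
    · exfalso
      apply h1
      subst h2
      exact le_self_add
    · simp
  rw [Finset.sum_congr rfl this, Finset.sum_ite_eq']
  split_ifs with h
  · rfl
  · rw [notMem_support_iff.mp h]; simp

theorem fact_identity {σ : Type*} (α δ : σ →₀ ℕ) :
    ((α + δ).support.prod fun i => Nat.descFactorial ((α + δ) i) (α i)) *
      (δ.support.prod fun i => Nat.descFactorial (δ i) (δ i)) =
    (α.support.prod fun i => (α i).factorial) *
      ((δ + α).support.prod fun i => Nat.descFactorial ((δ + α) i) (δ i)) := by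
  classical
  have h1 : (δ.support.prod fun i => Nat.descFactorial (δ i) (δ i)) =
      (α + δ).support.prod fun i => Nat.descFactorial (δ i) (δ i) := by
    apply Finset.prod_subset
    · intro i hi
      rw [Finsupp.mem_support_iff] at hi ⊢
      rw [Finsupp.add_apply]; omega
    · intro i _ hi
      rw [Finsupp.notMem_support_iff] at hi
      rw [hi]; rfl
  have h2 : (α.support.prod fun i => (α i).factorial) =
      (α + δ).support.prod fun i => (α i).factorial := by
    apply Finset.prod_subset
    · intro i hi
      rw [Finsupp.mem_support_iff] at hi ⊢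
      rw [Finsupp.add_apply]; omega
    · intro i _ hi
      rw [Finsupp.notMem_support_iff] at hi
      rw [hi]; rfl
  rw [h1, h2, add_comm δ α, ← Finset.prod_mul_distrib, ← Finset.prod_mul_distrib]
  refine Finset.prod_congr rfl fun i _ => ?_
  rw [Finsupp.add_apply, Nat.descFactorial_self]
  have e1 := Nat.factorial_mul_descFactorial (n := α i + δ i) (k := α i) (by omega)
  have e2 := Nat.factorial_mul_descFactorial (n := α i + δ i) (k := δ i) (by omega)
  rw [Nat.add_sub_cancel_left] at e1
  rw [Nat.add_sub_cancel] at e2
  rw [mul_comm, e1, e2]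

/-- Let k be a field of characteristic zero, R = k[y_0, …, y_{m−1}] acting on S = k[∂_0, …, ∂_{m−1}] by
apolarity (y_i acts as the derivative with respect to ∂_i), F ∈ S homogeneous of degree e and d ≤ e.
Then the degree-d part of the apolar ideal of F is the orthogonal complement of the partial
derivatives of F of order e − d: a homogeneous D ∈ R_d satisfies D(F) = 0 if and only if D(y^α(F)) =
0 for every multi-index α with |α| = e − d (each D(y^α(F)) being a constant, the value of the
apolarity pairing of D with y^α(F)). -/
theorem result (k : Type u) [Field k] [CharZero k] (m : ℕ)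
    (F : MvPolynomial (Fin m) k) (e : ℕ) (hF : F.IsHomogeneous e) (d : ℕ) (hd : d ≤ e)
    (D : MvPolynomial (Fin m) k) (hD : D.IsHomogeneous d) :
    W4c3degenlocivb.contract D F = 0 ↔
      ∀ α : Fin m →₀ ℕ, α.degree = e - d → W4c3degenlocivb.contract D (W4c3degenlocivb.contract (MvPolynomial.monomial α 1) F) = 0 := by
  classical
  have hGhom : ∀ γ : Fin m →₀ ℕ, γ.degree ≠ e - d →
      coeff γ (W4c3degenlocivb.contract D F) = 0 := by
    intro γ hγ
    rw [coeff_contract]
    apply Finset.sum_eq_zero
    intro α hα
    have hαd : α.degree = d := by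
      by_contra h
      exact (mem_support_iff.mp hα) (hD.coeff_eq_zero h)
    have : coeff (α + γ) F = 0 := hF.coeff_eq_zero (by rw [map_add, hαd]; omega)
    rw [this]; simp
  have key : ∀ (α γ' : Fin m →₀ ℕ),
      coeff γ' (W4c3degenlocivb.contract D (W4c3degenlocivb.contract (monomial α 1) F)) =
        ∑ δ ∈ D.support, coeff δ D * (coeff (α + (δ + γ')) F * P k (α + (δ + γ')) α) *
          P k (δ + γ') δ := by
    intro α γ'
    rw [coeff_contract]
    refine Finset.sum_congr rfl fun δ _ => ?_
    rw [coeff_contract, support_monomial, if_neg one_ne_zero, Finset.sum_singleton,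
      coeff_monomial, if_pos rfl, one_mul]
  have key0 : ∀ (α : Fin m →₀ ℕ),
      coeff 0 (W4c3degenlocivb.contract D (W4c3degenlocivb.contract (monomial α 1) F)) =
        ((α.support.prod fun i => (α i).factorial : ℕ) : k) *
          coeff α (W4c3degenlocivb.contract D F) := by
    intro α
    rw [key, coeff_contract, Finset.mul_sum]
    refine Finset.sum_congr rfl fun δ _ => ?_
    rw [add_zero]
    have := congrArg (Nat.cast (R := k)) (fact_identity α δ)
    rw [Nat.cast_mul, Nat.cast_mul] at this
    unfold P
    rw [add_comm δ α] at this ⊢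
    linear_combination (coeff δ D * coeff (α + δ) F) * this
  have hfac : ∀ (α : Fin m →₀ ℕ), ((α.support.prod fun i => (α i).factorial : ℕ) : k) ≠ 0 := by
    intro α
    rw [Nat.cast_ne_zero]
    exact Finset.prod_ne_zero_iff.mpr fun i _ => Nat.factorial_ne_zero _
  constructor
  · intro h0 α hα
    ext γ'
    rw [coeff_zero]
    by_cases hγ' : γ' = 0
    · subst hγ'
      rw [key0, h0, coeff_zero, mul_zero]
    · rw [key]
      apply Finset.sum_eq_zero
      intro δ hδ
      have hδd : δ.degree = d := by
        by_contra h
        exact (mem_support_iff.mp hδ) (hD.coeff_eq_zero h)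
      have hγd : γ'.degree ≠ 0 := by
        rw [Ne, Finsupp.degree_eq_zero_iff]; exact hγ'
      have : coeff (α + (δ + γ')) F = 0 :=
        hF.coeff_eq_zero (by rw [map_add, map_add, hδd, hα]; omega)
      rw [this]; simp
  · intro h
    ext γ
    rw [coeff_zero]
    by_cases hγ : γ.degree = e - d
    · have h1 := congrArg (coeff 0) (h γ hγ)
      rw [key0, coeff_zero] at h1
      exact (mul_eq_zero.mp h1).resolve_left (hfac γ)
    · exact hGhom γ hγ

end Groth.Agent.S16353
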