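import Groth.Statements.S16355
import Mathlib
import Groth.Prelude.Def_W4c3degenlocivbPfaff

set_option autoImplicit false
universe u
open DegLoci

namespace Groth.Agent.S16355


open W4c3degenlocivb MvPolynomial

/-- The Pfaffian commutes with ring homomorphisms. -/
theorem pf_map {R S : Type*} [CommRing R] [CommRing S] (f : R →+* S) :
    ∀ (n : ℕ) (T : Matrix (Fin n) (Fin n) R), pf n (T.map f) = f (pf n T)
  | 0, _ => by simp [pf]
  | 1, _ => by simp [pf]
  | n + 2, T => by
      simp only [pf, map_sum, map_mul, map_pow, map_neg, map_one]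
      refine Finset.sum_congr rfl fun j _ => ?_
      rw [← pf_map f n]
      rfl

/-- The Pfaffian of a `2m × 2m` matrix of linear forms is a form of degree `m`. -/
theorem pf_homog {k σ : Type*} [CommRing k] :
    ∀ (n : ℕ) (T : Matrix (Fin n) (Fin n) (MvPolynomial σ k))
      (_ : ∀ a b, (T a b).IsHomogeneous 1) (m : ℕ) (_ : n = 2 * m), (pf n T).IsHomogeneous m
  | 0, T, hT, m, hm => by
      obtain rfl : m = 0 := by omega
      simp only [pf]
      exact isHomogeneous_one _ _
  | 1, T, hT, m, hm => by omega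
  | n + 2, T, hT, m, hm => by
      obtain ⟨m', rfl⟩ : ∃ m', m = m' + 1 := ⟨m - 1, by omega⟩
      simp only [pf]
      apply IsHomogeneous.sum
      intro j _
      have h1 : ((-1 : MvPolynomial σ k) ^ ((j : ℕ) + 1)).IsHomogeneous 0 := by
        have : ((-1 : MvPolynomial σ k) ^ ((j : ℕ) + 1)) = C ((-1 : k) ^ ((j : ℕ) + 1)) := by
          simp
        rw [this]
        exact isHomogeneous_C _ _
      have h2 := (h1.mul (hT (Fin.last (n + 1)) (Fin.castSucc j))).mul
        (pf_homog n (T.submatrix (Fin.castSucc ∘ j.succAbove) (Fin.castSucc ∘ j.succAbove))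
          (fun a b => hT _ _) m' (by omega))
      have e : 0 + 1 + m' = m' + 1 := by omega
      rw [e] at h2
      exact h2


/-- A "gapped tridiagonal" alternating matrix: rows/columns are labelled by `e 0 < e 1 < …`, and
the entry at labels `(p, p + 1)` is `x p`. -/
def tri {R : Type*} [CommRing R] (x : ℕ → R) (e : ℕ → ℕ) (n : ℕ) : Matrix (Fin n) (Fin n) R :=
  Matrix.of fun a b => if e b = e a + 1 then x (e a) else if e a = e b + 1 then - x (e b) else 0

theorem pf_tri {R : Type*} [CommRing R] (x : ℕ → R) (e : ℕ → ℕ) (he : StrictMono e) :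
    ∀ m : ℕ, pf (2 * m) (tri x e (2 * m)) =
      ∏ t ∈ Finset.range m, (if e (2 * t + 1) = e (2 * t) + 1 then x (e (2 * t)) else 0)
  | 0 => by simp [pf]
  | m + 1 => by
      have h2 : 2 * (m + 1) = 2 * m + 2 := by ring
      show pf (2 * m + 2) (tri x e (2 * m + 2)) = _
      rw [Finset.prod_range_succ, ← pf_tri x e he m]
      simp only [pf]
      rw [Finset.sum_eq_single (Fin.last (2 * m))]
      · have hsub : (tri x e (2 * m + 2)).submatrix (Fin.castSucc ∘ (Fin.last (2 * m)).succAbove)
            (Fin.castSucc ∘ (Fin.last (2 * m)).succAbove) = tri x e (2 * m) := by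
          ext a b
          simp [tri, Fin.succAbove_last]
        rw [hsub]
        have hent : tri x e (2 * m + 2) (Fin.last (2 * m + 1)) (Fin.castSucc (Fin.last (2 * m))) =
            if e (2 * m + 1) = e (2 * m) + 1 then - x (e (2 * m)) else 0 := by
          have hlt : e (2 * m) < e (2 * m + 1) := he (by omega)
          simp only [tri, Matrix.of_apply, Fin.val_last, Fin.val_castSucc]
          rw [if_neg (by omega)]
        rw [hent]
        have hsign : ((-1 : R) ^ (((Fin.last (2 * m) : Fin (2 * m + 1)) : ℕ) + 1)) = -1 := by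
          rw [Fin.val_last, pow_succ, pow_mul]; simp
        rw [hsign]
        split_ifs <;> ring
      · intro j _ hj
        have hjlt : (j : ℕ) < 2 * m := by
          have := j.2
          have : (j : ℕ) ≠ 2 * m := fun h => hj (Fin.ext (by simp [h]))
          omega
        have h1 : e (j : ℕ) < e (2 * m) := he hjlt
        have h2' : e (2 * m) < e (2 * m + 1) := he (by omega)
        have hent : tri x e (2 * m + 2) (Fin.last (2 * m + 1)) (Fin.castSucc j) = 0 := by
          simp only [tri, Matrix.of_apply, Fin.val_last, Fin.val_castSucc]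
          rw [if_neg (by omega), if_neg (by omega)]
        rw [hent]; ring
      · intro h; exact absurd (Finset.mem_univ _) h


section LinAlg

variable {k : Type u} [Field k]

/-- The exponent vector of `y₀^m y₁^(r-m)`. -/
noncomputable def mono (r m : ℕ) : Fin 2 →₀ ℕ := Finsupp.single 0 m + Finsupp.single 1 (r - m)

lemma mono_zero (r m : ℕ) : mono r m 0 = m := by simp [mono]
lemma mono_one (r m : ℕ) : mono r m 1 = r - m := by simp [mono]

lemma eq_mono (r : ℕ) (d : Fin 2 →₀ ℕ) (hd : d.degree = r) : d = mono r (d 0) := by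
  rw [Finsupp.degree_eq_sum, Fin.sum_univ_two] at hd
  ext i
  fin_cases i
  · simp [mono_zero]
  · show d 1 = mono r (d 0) 1
    rw [mono_one]; omega

lemma eq_zero_of_coeff_mono (r : ℕ) (p : MvPolynomial (Fin 2) k) (hp : p.IsHomogeneous r)
    (h : ∀ m, m ≤ r → coeff (mono r m) p = 0) : p = 0 := by
  ext d
  rw [coeff_zero]
  by_contra hne
  have hd : d.degree = r := by
    have := hp hne
    rw [Finsupp.degree_eq_weight_one]
    exact this
  have hle : d 0 ≤ r := by
    rw [Finsupp.degree_eq_sum, Fin.sum_univ_two] at hd; omega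
  apply hne
  rw [eq_mono r d hd]
  exact h _ hle

theorem span_of_det_ne_zero (r : ℕ) (F : Fin (r + 1) → MvPolynomial (Fin 2) k)
    (hF : ∀ s, (F s).IsHomogeneous r)
    (hdet : (Matrix.of fun s m : Fin (r + 1) => coeff (mono r m) (F s)).det ≠ 0)
    (G : MvPolynomial (Fin 2) k) (hG : G.IsHomogeneous r) :
    G ∈ Submodule.span k (Set.range F) := by
  set A : Matrix (Fin (r + 1)) (Fin (r + 1)) k :=
    Matrix.of fun s m : Fin (r + 1) => coeff (mono r m) (F s) with hA
  have hAu : IsUnit A.det := isUnit_iff_ne_zero.mpr hdet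
  let g : Fin (r + 1) → k := fun m => coeff (mono r m) G
  let lam : Fin (r + 1) → k := Matrix.vecMul g A⁻¹
  have hlam : Matrix.vecMul lam A = g := by
    rw [Matrix.vecMul_vecMul, Matrix.nonsing_inv_mul A hAu, Matrix.vecMul_one]
  have hzero : G - ∑ s, lam s • F s = 0 := by
    apply eq_zero_of_coeff_mono r
    · refine hG.sub (IsHomogeneous.sum _ _ _ fun s _ => ?_)
      rw [smul_eq_C_mul]
      have := (isHomogeneous_C (Fin 2) (lam s)).mul (hF s)
      rwa [zero_add] at this
    · intro m hm
      have h1 := congrFun hlam ⟨m, by omega⟩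
      simp only [Matrix.vecMul, dotProduct, hA, Matrix.of_apply, g] at h1
      rw [coeff_sub, coeff_sum]
      simp only [coeff_smul, smul_eq_mul]
      rw [h1, sub_self]
  have : G = ∑ s, lam s • F s := sub_eq_zero.mp hzero
  rw [this]
  exact Submodule.sum_mem _ fun s _ => Submodule.smul_mem _ _ (Submodule.subset_span ⟨s, rfl⟩)

end LinAlg


section Main

variable (k : Type u) [Field k] (r : ℕ)

/-- The matrix of linear forms attached to a coefficient array. -/
noncomputable def Nmat (c : Fin (2 * r + 1) → Fin (2 * r + 1) → Fin 2 → k) :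
    Matrix (Fin (2 * r + 1)) (Fin (2 * r + 1)) (MvPolynomial (Fin 2) k) :=
  Matrix.of fun a b => ∑ l : Fin 2, C (c a b l) * X l

/-- The generic matrix of linear forms. -/
noncomputable def Ngen : Matrix (Fin (2 * r + 1)) (Fin (2 * r + 1))
    (MvPolynomial (Fin 2) (MvPolynomial (Fin (2 * r + 1) × Fin (2 * r + 1) × Fin 2) k)) :=
  Matrix.of fun a b => ∑ l : Fin 2, C (X (a, b, l)) * X l

/-- The generic sub-Pfaffians. -/
noncomputable def PF (i : Fin (2 * r + 1)) :
    MvPolynomial (Fin 2) (MvPolynomial (Fin (2 * r + 1) × Fin (2 * r + 1) × Fin 2) k) :=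
  pf (2 * r) ((Ngen k r).submatrix i.succAbove i.succAbove)

/-- The determinant of the coefficient matrix of the even-indexed sub-Pfaffians. -/
noncomputable def Phi : MvPolynomial (Fin (2 * r + 1) × Fin (2 * r + 1) × Fin 2) k :=
  (Matrix.of fun s m : Fin (r + 1) =>
    coeff (mono r m) (PF k r ⟨2 * (s : ℕ), by have := s.2; omega⟩)).det

variable {k r}

lemma pf_eq (c : Fin (2 * r + 1) → Fin (2 * r + 1) → Fin 2 → k) (i : Fin (2 * r + 1)) :
    pf (2 * r) ((Nmat k r c).submatrix i.succAbove i.succAbove) =
      MvPolynomial.map (eval fun p => c p.1 p.2.1 p.2.2) (PF k r i) := by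
  unfold PF
  rw [← pf_map]
  congr 1
  ext a b
  simp [Nmat, Ngen, map_sum]

lemma eval_Phi (c : Fin (2 * r + 1) → Fin (2 * r + 1) → Fin 2 → k) :
    eval (fun p => c p.1 p.2.1 p.2.2) (Phi k r) =
      (Matrix.of fun s m : Fin (r + 1) => coeff (mono r m)
        (pf (2 * r) ((Nmat k r c).submatrix
          (⟨2 * (s : ℕ), by have := s.2; omega⟩ : Fin (2 * r + 1)).succAbove
          (⟨2 * (s : ℕ), by have := s.2; omega⟩ : Fin (2 * r + 1)).succAbove))).det := by
  unfold Phi
  rw [RingHom.map_det]
  congr 1
  ext s m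
  simp only [RingHom.mapMatrix_apply, Matrix.map_apply, Matrix.of_apply]
  rw [pf_eq, coeff_map]


/-- The special coefficient array: a tridiagonal matrix with `y₀, y₁, y₀, y₁, …` above the
diagonal. -/
def c₀ (k : Type u) [Field k] (r : ℕ) : Fin (2 * r + 1) → Fin (2 * r + 1) → Fin 2 → k :=
  fun a b l =>
    if (b : ℕ) = (a : ℕ) + 1 then (if (l : ℕ) = (a : ℕ) % 2 then 1 else 0)
    else if (a : ℕ) = (b : ℕ) + 1 then (if (l : ℕ) = (b : ℕ) % 2 then -1 else 0) else 0

lemma c₀_antisymm (a b : Fin (2 * r + 1)) (l : Fin 2) : c₀ k r b a l = - c₀ k r a b l := by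
  unfold c₀
  by_cases h1 : (b : ℕ) = (a : ℕ) + 1
  · rw [if_pos h1, if_neg (by omega), if_pos h1]
    split_ifs <;> simp
  · by_cases h2 : (a : ℕ) = (b : ℕ) + 1
    · rw [if_neg h1, if_pos h2, if_pos h2]
      split_ifs <;> simp
    · rw [if_neg h1, if_neg h2, if_neg h2, if_neg h1]; simp

/-- `y₀` at even positions, `y₁` at odd positions. -/
noncomputable def xs (k : Type u) [Field k] : ℕ → MvPolynomial (Fin 2) k :=
  fun p => if p % 2 = 0 then X 0 else X 1

/-- The labels remaining after deleting `i`. -/
def es (i : ℕ) : ℕ → ℕ := fun a => if a < i then a else a + 1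

lemma es_strictMono (i : ℕ) : StrictMono (es i) := by
  intro a b hab
  unfold es
  split_ifs <;> omega

lemma Nmat_c₀ (a b : Fin (2 * r + 1)) :
    Nmat k r (c₀ k r) a b = if (b : ℕ) = (a : ℕ) + 1 then xs k a
      else if (a : ℕ) = (b : ℕ) + 1 then - xs k b else 0 := by
  simp only [Nmat, Matrix.of_apply, Fin.sum_univ_two, c₀, xs]
  by_cases h1 : (b : ℕ) = (a : ℕ) + 1
  · simp only [if_pos h1]
    rcases Nat.mod_two_eq_zero_or_one (a : ℕ) with h | h <;> simp [h]
  · by_cases h2 : (a : ℕ) = (b : ℕ) + 1
    · simp only [if_neg h1, if_pos h2]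
      rcases Nat.mod_two_eq_zero_or_one (b : ℕ) with h | h <;> simp [h]
    · simp [if_neg h1, if_neg h2]

lemma submatrix_c₀ (i : Fin (2 * r + 1)) :
    (Nmat k r (c₀ k r)).submatrix i.succAbove i.succAbove = tri (xs k) (es i) (2 * r) := by
  have hval : ∀ a : Fin (2 * r), ((i.succAbove a : Fin (2 * r + 1)) : ℕ) = es i a := by
    intro a
    unfold es
    by_cases h : (a : ℕ) < (i : ℕ)
    · rw [if_pos h, Fin.succAbove_of_castSucc_lt _ _ (by simpa [Fin.lt_def] using h)]
      rfl
    · rw [if_neg h, Fin.succAbove_of_le_castSucc _ _ (by simpa [Fin.le_def] using not_lt.mp h)]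
      rfl
  ext a b
  simp only [Matrix.submatrix_apply, Nmat_c₀, tri, Matrix.of_apply, hval]

lemma pf_c₀ (s : ℕ) (hs : s ≤ r) :
    pf (2 * r) (tri (xs k) (es (2 * s)) (2 * r)) = monomial (mono r s) (1 : k) := by
  rw [pf_tri _ _ (es_strictMono _)]
  have h1 : ∀ t ∈ Finset.range r,
      (if es (2 * s) (2 * t + 1) = es (2 * s) (2 * t) + 1 then xs k (es (2 * s) (2 * t)) else 0) =
      if t < s then (X 0 : MvPolynomial (Fin 2) k) else X 1 := by
    intro t _
    unfold es xs
    by_cases h : t < s
    · rw [if_pos (by omega : 2 * t + 1 < 2 * s), if_pos (by omega : 2 * t < 2 * s), if_pos rfl,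
        if_pos (by omega), if_pos h]
    · rw [if_neg (by omega : ¬ 2 * t + 1 < 2 * s), if_neg (by omega : ¬ 2 * t < 2 * s),
        if_pos rfl, if_neg (by omega), if_neg h]
  rw [Finset.prod_congr rfl h1, Finset.prod_ite, Finset.prod_const, Finset.prod_const]
  have hc1 : (Finset.filter (fun t => t < s) (Finset.range r)).card = s := by
    have : Finset.filter (fun t => t < s) (Finset.range r) = Finset.range s := by
      ext t; simp; omega
    rw [this, Finset.card_range]
  have hc2 : (Finset.filter (fun t => ¬ t < s) (Finset.range r)).card = r - s := by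
    have h := Finset.card_filter_add_card_filter_not (s := Finset.range r) (fun t => t < s)
    rw [hc1, Finset.card_range] at h
    omega
  rw [hc1, hc2, mono, monomial_add_single, X_pow_eq_monomial]

end Main


lemma mono_injective (r : ℕ) {m m' : ℕ} (h : mono r m = mono r m') : m = m' := by
  have := congrArg (fun d => d 0) h
  simpa [mono_zero] using this

/-- Let k be an algebraically closed field of characteristic zero and n = 2r + 1 ≥ 3 odd. For a general
n × n alternating matrix N of linear forms in k[y_0, y_1], the n principal sub-Pfaffians of size n −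
1 (delete row i and column i, take the Pfaffian) span the whole space k[y_0, y_1]_r of binary forms
of degree r. Here such matrices are parametrised by antisymmetric coefficient arrays c (entry (i, j)
of N is Σ_l c_{i j l} y_l with c_{j i l} = −c_{i j l}), and 'general' means: outside the zero set of
some polynomial Φ in the coefficients which does not vanish at every antisymmetric array. -/
theorem result (k : Type u) [Field k] [IsAlgClosed k] [CharZero k]
    (r : ℕ) (hr : 1 ≤ r) :
    ∃ Φ : MvPolynomial (Fin (2 * r + 1) × Fin (2 * r + 1) × Fin 2) k,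
      (∃ c : Fin (2 * r + 1) → Fin (2 * r + 1) → Fin 2 → k, (∀ i j l, c j i l = -c i j l) ∧
        MvPolynomial.eval (fun p => c p.1 p.2.1 p.2.2) Φ ≠ 0) ∧
      ∀ c : Fin (2 * r + 1) → Fin (2 * r + 1) → Fin 2 → k, (∀ i j l, c j i l = -c i j l) →
        MvPolynomial.eval (fun p => c p.1 p.2.1 p.2.2) Φ ≠ 0 →
        Submodule.span k (Set.range fun i : Fin (2 * r + 1) =>
            W4c3degenlocivb.pf (2 * r) ((Matrix.of fun a b => ∑ l : Fin 2, MvPolynomial.C (c a b l) * MvPolynomial.X l).submatrix i.succAbove i.succAbove)) =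
          MvPolynomial.homogeneousSubmodule (Fin 2) k r := by
  refine ⟨Phi k r, ⟨c₀ k r, fun i j l => c₀_antisymm i j l, ?_⟩, ?_⟩
  · rw [eval_Phi]
    have : (Matrix.of fun s m : Fin (r + 1) => coeff (mono r m)
        (pf (2 * r) ((Nmat k r (c₀ k r)).submatrix
          (⟨2 * (s : ℕ), by have := s.2; omega⟩ : Fin (2 * r + 1)).succAbove
          (⟨2 * (s : ℕ), by have := s.2; omega⟩ : Fin (2 * r + 1)).succAbove))) =
        (1 : Matrix (Fin (r + 1)) (Fin (r + 1)) k) := by
      ext s m
      rw [Matrix.of_apply, submatrix_c₀, pf_c₀ _ (by have := s.2; omega), coeff_monomial,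
        Matrix.one_apply]
      by_cases h : s = m
      · subst h; simp
      · rw [if_neg h, if_neg]
        intro h'
        exact h (Fin.ext (mono_injective r h'))
    rw [this, Matrix.det_one]
    exact one_ne_zero
  · intro c _ hc
    rw [eval_Phi] at hc
    apply le_antisymm
    · rw [Submodule.span_le]
      rintro _ ⟨i, rfl⟩
      rw [SetLike.mem_coe, mem_homogeneousSubmodule]
      refine pf_homog _ _ (fun a b => ?_) r rfl
      simp only [Matrix.submatrix_apply, Matrix.of_apply]
      exact IsHomogeneous.sum _ _ _ fun l _ => isHomogeneous_C_mul_X _ _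
    · intro G hG
      rw [mem_homogeneousSubmodule] at hG
      have h1 := span_of_det_ne_zero r
        (fun s : Fin (r + 1) => pf (2 * r) ((Nmat k r c).submatrix
          (⟨2 * (s : ℕ), by have := s.2; omega⟩ : Fin (2 * r + 1)).succAbove
          (⟨2 * (s : ℕ), by have := s.2; omega⟩ : Fin (2 * r + 1)).succAbove))
        (fun s => by
          refine pf_homog _ _ (fun a b => ?_) r rfl
          simp only [Matrix.submatrix_apply, Nmat, Matrix.of_apply]
          exact IsHomogeneous.sum _ _ _ fun l _ => isHomogeneous_C_mul_X _ _) hc G hG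
      refine Submodule.span_mono ?_ h1
      rintro _ ⟨s, rfl⟩
      exact ⟨⟨2 * (s : ℕ), by have := s.2; omega⟩, rfl⟩

end Groth.Agent.S16355
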