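import Groth.Statements.S16356
import Mathlib.RingTheory.WittVector.DiscreteValuationRing
import Mathlib.Algebra.CharP.Lemmas

set_option autoImplicit false
universe u
open OrdAV

namespace Groth.Agent.S16356

open WittVector in
theorem add_pow_expand {R : Type*} [CommRing R] (y : R) (e : ℕ) :
    ∃ c : R, (1 + y) ^ e = 1 + e * y + y ^ 2 * c := by
  induction e with
  | zero => exact ⟨0, by simp⟩
  | succ e ih =>
    obtain ⟨c, hc⟩ := ih
    refine ⟨e + c + y * c, ?_⟩
    rw [pow_succ, hc]
    push_cast
    ring

theorem cc_eq {p : ℕ} [Fact p.Prime] {k : Type*} [CommRing k] (z : WittVector p k) :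
    WittVector.constantCoeff z = z.coeff 0 := rfl

theorem witt_p_case (p : ℕ) [hp : Fact p.Prime] (hp2 : p ≠ 2)
    (k : Type*) [Field k] [CharP k p] [PerfectRing k p]
    (y : WittVector p k) (hy0 : y.coeff 0 = 0) (hy : (1 + y) ^ p = 1) : y = 0 := by
  by_contra hne
  obtain ⟨m, b, hb, hyb⟩ := WittVector.exists_eq_pow_p_mul y hne
  have hm : m ≠ 0 := by
    rintro rfl
    rw [pow_zero, one_mul] at hyb
    rw [hyb] at hy0
    exact hb hy0
  obtain ⟨m', rfl⟩ := Nat.exists_eq_succ_of_ne_zero hm
  set v : WittVector p k := (p : WittVector p k) ^ m' * b with hv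
  have hyv : y = (p : WittVector p k) * v := by rw [hyb, hv, pow_succ']; ring
  have hp3 : 3 ≤ p := by
    have := hp.out.two_le
    omega
  have hexp := add_pow_prime_eq hp.out (1 : WittVector p k) y
  set r : WittVector p k := ∑ k_1 ∈ Finset.Ioo 0 p,
    (1 : WittVector p k) ^ (k_1 - 1) * y ^ (p - k_1 - 1) * ↑(p.choose k_1 / p) with hr
  have hr0 : r.coeff 0 = 1 := by
    rw [← cc_eq, hr, map_sum]
    rw [Finset.sum_eq_single (p - 1)]
    · have h1 : p - (p - 1) - 1 = 0 := by omega
      have h2 : p.choose (p - 1) / p = 1 := by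
        rw [Nat.choose_symm_of_eq_add (by omega : p = (p - 1) + 1), Nat.choose_one_right]
        exact Nat.div_self hp.out.pos
      rw [h1, h2]
      simp
    · intro j hj hjne
      rw [Finset.mem_Ioo] at hj
      have : p - j - 1 ≠ 0 := by omega
      rw [map_mul, map_mul, map_pow, map_pow, cc_eq y, hy0, zero_pow this]
      simp
    · intro hnot
      exfalso
      apply hnot
      rw [Finset.mem_Ioo]
      omega
  rw [hy] at hexp
  have h2 : y * (y ^ (p - 1) + (p : WittVector p k) * r) = 0 := by
    have : y ^ p = y * y ^ (p - 1) := by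
      rw [← pow_succ']
      congr 1
      omega
    have h3 : (1 : WittVector p k) = 1 ^ p + y ^ p + ↑p * 1 * y * r := hexp
    rw [one_pow, this] at h3
    linear_combination -h3
  rcases mul_eq_zero.mp h2 with h | h
  · exact hne h
  · have h4 : y ^ (p - 1) = (p : WittVector p k) * ((p : WittVector p k) ^ (p - 2) * v ^ (p - 1)) := by
      rw [hyv, mul_pow, ← mul_assoc, ← pow_succ']
      congr 2
      omega
    rw [h4, ← mul_add] at h
    rcases mul_eq_zero.mp h with h5 | h5
    · exact WittVector.p_nonzero p k h5
    · have h6 := congrArg (fun z => WittVector.constantCoeff z) h5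
      simp only [map_add, map_mul, map_pow, map_zero] at h6
      have hpz : WittVector.constantCoeff (p : WittVector p k) = 0 := by
        rw [cc_eq]; exact WittVector.coeff_p_zero p k
      have : p - 2 ≠ 0 := by omega
      rw [hpz, zero_pow this, zero_mul, zero_add, cc_eq, hr0] at h6
      exact one_ne_zero h6

/-- For an odd prime p and a perfect field k of characteristic p, a root of unity in the ring of Witt
vectors W(k) whose residue in k is 1 is itself 1: if x ^ n = 1 with n ≥ 1 and the zeroth Witt
component of x is 1, then x = 1. (For p = 2 this fails: -1 in W(F_2).) -/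
theorem result (p : ℕ) [Fact p.Prime] (hp : p ≠ 2)
    (k : Type u) [Field k] [CharP k p] [PerfectRing k p]
    (x : WittVector p k) (n : ℕ) (hn : 0 < n) (hx : x ^ n = 1) (h0 : x.coeff 0 = 1) : x = 1 := by
  induction n using Nat.strong_induction_on generalizing x with
  | _ n ih =>
    by_cases hpn : p ∣ n
    · obtain ⟨n₁, rfl⟩ := hpn
      have hn1 : 0 < n₁ := Nat.pos_of_mul_pos_left hn
      have hz : (x ^ n₁) ^ p = 1 := by rw [← pow_mul, mul_comm]; exact hx
      have hz0 : (x ^ n₁).coeff 0 = 1 := by
        rw [← cc_eq, map_pow, cc_eq, h0, one_pow]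
      have hy0 : (x ^ n₁ - 1).coeff 0 = 0 := by
        rw [← cc_eq, map_sub, map_one, cc_eq, hz0, sub_self]
      have := witt_p_case p hp k (x ^ n₁ - 1) hy0 (by rw [add_sub_cancel]; exact hz)
      have hx1 : x ^ n₁ = 1 := by rwa [sub_eq_zero] at this
      have hlt : n₁ < p * n₁ := by
        have := (Fact.out : p.Prime).two_le
        nlinarith
      exact ih n₁ hlt x hn1 hx1 h0
    · set y := x - 1 with hy
      have hxy : x = 1 + y := by rw [hy]; ring
      have hy0 : y.coeff 0 = 0 := by
        rw [hy, ← cc_eq, map_sub, map_one, cc_eq, h0, sub_self]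
      obtain ⟨c, hc⟩ := add_pow_expand y n
      rw [← hxy, hx] at hc
      have h2 : y * ((n : WittVector p k) + y * c) = 0 := by linear_combination -hc
      rcases mul_eq_zero.mp h2 with h | h
      · rw [hxy, h, add_zero]
      · exfalso
        have h6 := congrArg (fun z => WittVector.constantCoeff z) h
        simp only [map_add, map_mul, map_natCast, map_zero] at h6
        rw [cc_eq, hy0, zero_mul, add_zero] at h6
        have := (CharP.cast_eq_zero_iff k p n).mp h6
        exact hpn this

end Groth.Agent.S16356
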