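import Groth.Statements.S16357
import Mathlib.Algebra.Polynomial.Reverse
import Mathlib.Algebra.Polynomial.Lifts
import Mathlib.Algebra.Field.Subfield.Basic
import Mathlib.Algebra.BigOperators.NatAntidiagonal
import Mathlib.Tactic.FieldSimp
import Mathlib.Tactic.Ring

set_option autoImplicit false
universe u
open OrdAV

namespace Groth.Agent.S16357

/-- Over a field L of characteristic zero, a monic polynomial h whose square has rational coefficients
has rational coefficients itself. -/
theorem result (L : Type u) [Field L] [CharZero L]
    (h : Polynomial L) (hm : h.Monic) (f : Polynomial ℚ)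
    (hf : h ^ 2 = Polynomial.map (algebraMap ℚ L) f) :
    ∃ g : Polynomial ℚ, Polynomial.map (algebraMap ℚ L) g = h := by
  classical
  set n := h.natDegree with hn
  set r := Polynomial.reflect n h with hr
  let K : Subfield L := (algebraMap ℚ L).fieldRange
  have hr0 : r.coeff 0 = 1 := by
    rw [hr, Polynomial.coeff_reflect, Polynomial.revAt_zero]
    exact hm
  have hrr : r * r = Polynomial.map (algebraMap ℚ L) (Polynomial.reflect (n + n) f) := by
    rw [hr, ← Polynomial.reflect_mul h h (le_refl _) (le_refl _), ← pow_two, hf, Polynomial.reflect_map]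
  have hG : ∀ k, (r * r).coeff k ∈ K := by
    intro k
    rw [hrr, Polynomial.coeff_map]
    exact ⟨_, rfl⟩
  have h2 : (2 : L) ∈ K := ⟨2, by simp⟩
  have h2ne : (2 : L) ≠ 0 := two_ne_zero
  have key : ∀ k, r.coeff k ∈ K := by
    intro k
    induction k using Nat.strong_induction_on with
    | _ k ih =>
      rcases k with _ | _ | m
      · rw [hr0]; exact K.one_mem
      · have := hG 1
        rw [Polynomial.coeff_mul, Finset.Nat.sum_antidiagonal_succ] at this
        simp only [Finset.Nat.antidiagonal_zero, Finset.sum_singleton, hr0, one_mul, mul_one, zero_add] at this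
        have h3 : r.coeff 1 = (r.coeff 1 + r.coeff 1) / 2 := by field_simp; ring
        rw [h3]
        exact K.div_mem this h2
      · have := hG (m + 2)
        rw [Polynomial.coeff_mul, Finset.Nat.sum_antidiagonal_succ, Finset.Nat.sum_antidiagonal_succ'] at this
        simp only [hr0, one_mul, mul_one] at this
        have hS : ∑ p ∈ Finset.antidiagonal m, r.coeff (p.1 + 1) * r.coeff (p.2 + 1) ∈ K := by
          refine K.sum_mem (fun p hp => ?_)
          rw [Finset.mem_antidiagonal] at hp
          exact K.mul_mem (ih _ (by omega)) (ih _ (by omega))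
        have h3 : r.coeff (m + 1 + 1) =
            ((r.coeff (m + 1 + 1) + (r.coeff (m + 1 + 1) +
              ∑ p ∈ Finset.antidiagonal m, r.coeff (p.1 + 1) * r.coeff (p.2 + 1))) -
              ∑ p ∈ Finset.antidiagonal m, r.coeff (p.1 + 1) * r.coeff (p.2 + 1)) / 2 := by
          field_simp; ring
        rw [h3]
        exact K.div_mem (K.sub_mem this hS) h2
  have hlift : h ∈ Polynomial.lifts (algebraMap ℚ L) := by
    rw [Polynomial.lifts_iff_coeff_lifts]
    intro i
    have := key (Polynomial.revAt n i)
    rw [hr, Polynomial.coeff_reflect, Polynomial.revAt_invol] at this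
    exact this
  exact (Polynomial.mem_lifts h).mp hlift

end Groth.Agent.S16357
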