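import Groth.Statements.S16358
import Mathlib.RingTheory.WittVector.DiscreteValuationRing
import Mathlib.LinearAlgebra.FreeModule.PID
import Mathlib.Algebra.Module.Torsion.Free
import Mathlib.Algebra.Module.Projective

set_option autoImplicit false
universe u v w
open OrdAV

namespace Groth.Agent.S16358

/-- Let k be a perfect field of characteristic p > 0 and W = W(k); let M be a finitely generated free
W-module on which a finite group G acts W-linearly, with invariant submodule M^G. Then the map
(W/pW) ⊗ M^G → (W/pW) ⊗ M induced by the inclusion is injective. Since M^G is free, this implies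
rank_W M^G ≤ dim_k (M/pM)^G; the published statement is that inequality, and this row states the
stronger injectivity. -/
theorem result (p : ℕ) [Fact p.Prime]
    (k : Type u) [Field k] [CharP k p] [PerfectRing k p]
    (M : Type v) [AddCommGroup M] [Module (WittVector p k) M]
    [Module.Free (WittVector p k) M] [Module.Finite (WittVector p k) M]
    (G : Type w) [Group G] [Finite G] (ρ : Representation (WittVector p k) G M) :
    Function.Injective
      (LinearMap.lTensor (WittVector p k ⧸ Ideal.span {(p : WittVector p k)}) ρ.invariants.subtype) := by
  classical
  set W := WittVector p k with hW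
  set N : Submodule W M := ρ.invariants with hN
  haveI : Module.IsTorsionFree W M := inferInstance
  haveI : Module.IsTorsionFree W (M ⧸ N) := by
    apply Module.IsTorsionFree.of_smul_eq_zero
    intro c q hq
    by_cases hc : c = 0
    · exact Or.inl hc
    · right
      obtain ⟨m, rfl⟩ := Submodule.Quotient.mk_surjective N q
      rw [← Submodule.Quotient.mk_smul, Submodule.Quotient.mk_eq_zero] at hq
      rw [Submodule.Quotient.mk_eq_zero]
      rw [hN, Representation.mem_invariants] at hq ⊢
      intro g
      have h1 := hq g
      rw [map_smul] at h1
      have h2 : c • (ρ g m - m) = 0 := by rw [smul_sub, h1, sub_self]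
      rcases smul_eq_zero.mp h2 with h | h
      · exact absurd h hc
      · exact sub_eq_zero.mp h
  haveI : Module.Finite W (M ⧸ N) := inferInstance
  haveI : Module.Free W (M ⧸ N) := Module.free_of_finite_type_torsion_free'
  obtain ⟨s, hs⟩ := Module.projective_lifting_property N.mkQ LinearMap.id N.mkQ_surjective
  have hmem : ∀ m : M, m - s (N.mkQ m) ∈ N := by
    intro m
    rw [← Submodule.Quotient.mk_eq_zero, Submodule.Quotient.mk_sub]
    have := LinearMap.congr_fun hs (N.mkQ m)
    simp only [LinearMap.comp_apply, LinearMap.id_apply] at this
    rw [← Submodule.mkQ_apply, ← Submodule.mkQ_apply, this, sub_self]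
  let r : M →ₗ[W] N := LinearMap.codRestrict N (LinearMap.id - s ∘ₗ N.mkQ) (by
    intro m
    simpa using hmem m)
  have hr : r ∘ₗ N.subtype = LinearMap.id := by
    apply LinearMap.ext
    intro n
    apply Subtype.ext
    simp only [r, LinearMap.comp_apply, LinearMap.codRestrict_apply, LinearMap.sub_apply,
      LinearMap.id_apply, Submodule.subtype_apply, Submodule.mkQ_apply]
    rw [(Submodule.Quotient.mk_eq_zero N).mpr n.2, map_zero, sub_zero]
  apply Function.LeftInverse.injective (g := LinearMap.lTensor _ r)
  intro x
  rw [← LinearMap.comp_apply, ← LinearMap.lTensor_comp, hr, LinearMap.lTensor_id, LinearMap.id_apply]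

end Groth.Agent.S16358
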