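import Groth.Statements.S16361
import Mathlib

set_option autoImplicit false
universe v u
open CategoryTheory CategoryTheory.Limits
open FibCat

namespace Groth.Agent.S16361



universe v₁ u₁ v₂ u₂ v₃ u₃

section
variable {A : Type u₁} [Category.{v₁} A] {B : Type u₂} [Category.{v₂} B] (p : A ⥤ B)

/-- plain form of strong cartesianity of `φ` over its image -/
lemma sc_iff {y x : A} (φ : y ⟶ x) :
    p.IsStronglyCartesian (p.map φ) φ ↔
      ∀ {z : A} (ψ : z ⟶ x) (g : p.obj z ⟶ p.obj y), g ≫ p.map φ = p.map ψ →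
        ∃! χ : z ⟶ y, p.map χ = g ∧ χ ≫ φ = ψ := by
  constructor
  · intro hsc z ψ g hg
    have : p.IsHomLift (g ≫ p.map φ) ψ := by rw [hg]; infer_instance
    obtain ⟨χ, ⟨h1, h2⟩, huniq⟩ := hsc.universal_property' g ψ
    refine ⟨χ, ⟨(IsHomLift.eq_of_isHomLift p g χ).symm, h2⟩, ?_⟩
    rintro χ' ⟨h1', h2'⟩
    exact huniq χ' ⟨by rw [← h1']; infer_instance, h2'⟩
  · intro H
    refine { toIsHomLift := inferInstance, universal_property' := ?_ }
    intro z g ψ hlift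
    have hg : g ≫ p.map φ = p.map ψ := IsHomLift.eq_of_isHomLift p _ ψ
    obtain ⟨χ, ⟨h1, h2⟩, hu⟩ := H ψ g hg
    refine ⟨χ, ⟨by rw [← h1]; infer_instance, h2⟩, ?_⟩
    rintro χ' ⟨h1', h2'⟩
    exact hu χ' ⟨(IsHomLift.eq_of_isHomLift p g χ').symm, h2'⟩

end

section Comp
variable {A : Type u₁} [Category.{v₁} A] {B : Type u₂} [Category.{v₂} B]
  {C : Type u₃} [Category.{v₃} C] (p : A ⥤ B) (q : B ⥤ C)

lemma isFibGrpd_comp (hp : IsFibGrpd p) (hq : IsFibGrpd q) : IsFibGrpd (p ⋙ q) := by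
  constructor
  · intro x V f
    obtain ⟨b, φb, h1⟩ := hq.exists_lift (x := p.obj x) f
    obtain ⟨y, φ, h2⟩ := hp.exists_lift (x := x) φb
    obtain rfl := IsHomLift.domain_eq p φb φ
    obtain rfl := IsHomLift.eq_of_isHomLift p φb φ
    refine ⟨y, φ, ?_⟩
    exact IsHomLift.of_fac _ f φ (IsHomLift.domain_eq q f (p.map φ))
      (IsHomLift.codomain_eq q f (p.map φ)) (IsHomLift.fac q f (p.map φ))
  · intro y x φ
    rw [sc_iff]
    intro z ψ g hg
    obtain ⟨χ', ⟨h1, h2⟩, hu'⟩ := (sc_iff q (p.map φ)).mp (hq.isStronglyCartesian (p.map φ))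
      (p.map ψ) g hg
    obtain ⟨χ, ⟨h3, h4⟩, hu⟩ := (sc_iff p φ).mp (hp.isStronglyCartesian φ) ψ χ' h2
    refine ⟨χ, ⟨?_, h4⟩, ?_⟩
    · rw [Functor.comp_map, h3, h1]
    · rintro χ₂ ⟨h5, h6⟩
      apply hu
      refine ⟨hu' _ ⟨h5, ?_⟩, h6⟩
      rw [← p.map_comp, h6]

end Comp

section Pull
variable {S : Type u₁} [Category.{v₁} S] {X : Type u₂} [Category.{v₂} X]
    {Y : Type u₃} [Category.{v₃} Y] (πX : X ⥤ S) (F : Y ⥤ X)

open CategoricalPullback

lemma isFibGrpd_π₂ (hX : IsFibGrpd πX) (hY : IsFibGrpd (F ⋙ πX)) :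
    IsFibGrpd (CategoricalPullback.π₂ F (𝟭 X)) := by
  constructor
  · intro a V f₀
    -- a = (y, x, φ), f : V ⟶ x
    obtain ⟨f, hff⟩ : ∃ f : V ⟶ a.snd, f = f₀ := ⟨f₀, rfl⟩
    obtain ⟨y', u, hu⟩ := hY.exists_lift (x := a.fst) (πX.map (f ≫ a.iso.inv))
    have hdom : πX.obj (F.obj y') = πX.obj V :=
      IsHomLift.domain_eq (F ⋙ πX) (πX.map (f ≫ a.iso.inv)) u
    have hfac := IsHomLift.fac (F ⋙ πX) (πX.map (f ≫ a.iso.inv)) u
    obtain ⟨χ, ⟨hχ1, hχ2⟩, -⟩ := (sc_iff πX (F.map u)).mp (hX.isStronglyCartesian (F.map u))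
      (f ≫ a.iso.inv) (eqToHom hdom.symm) (by
        rw [hfac]; simp)
    have hiso1 : IsIso (πX.map χ) := by rw [hχ1]; infer_instance
    have hsc := hX.isStronglyCartesian χ
    have hiso : IsIso χ := Functor.IsStronglyCartesian.isIso_of_base_isIso πX (πX.map χ) χ
    have hw : F.map u ≫ a.iso.hom = inv χ ≫ f := by
      rw [IsIso.eq_inv_comp, ← Category.assoc, hχ2, Category.assoc, Iso.inv_hom_id,
        Category.comp_id]
    let b : F ⊡ (𝟭 X) := ⟨y', V, (asIso χ).symm⟩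
    let β : b ⟶ a := ⟨u, f, hw⟩
    refine ⟨b, β, ?_⟩
    rw [← hff]
    exact IsHomLift.map _ β
  · intro b a β
    rw [sc_iff]
    intro c ψ g₀ hg
    obtain ⟨g, hgg⟩ : ∃ g : c.snd ⟶ b.snd, g = g₀ := ⟨g₀, rfl⟩
    have hg' : g ≫ β.snd = ψ.snd := by rw [hgg]; exact hg
    -- d : F y'' ⟶ F y'
    obtain ⟨d, hd⟩ : ∃ d : F.obj c.fst ⟶ F.obj b.fst, d = c.iso.hom ≫ g ≫ b.iso.inv := ⟨_, rfl⟩
    have hβw : β.snd ≫ a.iso.inv = b.iso.inv ≫ F.map β.fst := β.w'
    have hψw : ψ.snd ≫ a.iso.inv = c.iso.inv ≫ F.map ψ.fst := ψ.w'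
    have hdu : d ≫ F.map β.fst = F.map ψ.fst := by
      rw [hd, Category.assoc, Category.assoc, ← hβw, ← Category.assoc g, hg', hψw,
        Iso.hom_inv_id_assoc]
    obtain ⟨cc, ⟨hc1, hc2⟩, hcu⟩ := (sc_iff (F ⋙ πX) β.fst).mp (hY.isStronglyCartesian β.fst)
      ψ.fst (πX.map d) (by
        rw [Functor.comp_map, ← πX.map_comp, hdu]; rfl)
    have hXu := (sc_iff πX (F.map β.fst)).mp (hX.isStronglyCartesian (F.map β.fst))
      (F.map ψ.fst) (πX.map d) (by rw [← πX.map_comp, hdu])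
    have hFcc : F.map cc = d :=
      hXu.unique ⟨hc1, by rw [← F.map_comp, hc2]⟩ ⟨rfl, hdu⟩
    have hw : F.map cc ≫ b.iso.hom = c.iso.hom ≫ g := by
      rw [hFcc, hd, Category.assoc, Category.assoc, Iso.inv_hom_id, Category.comp_id]
    let χ : c ⟶ b := ⟨cc, g, hw⟩
    refine ⟨χ, ⟨hgg, ?_⟩, ?_⟩
    · ext
      · exact hc2
      · exact hg'
    · rintro χ' ⟨h1, h2⟩
      have h1' : χ'.snd = g := by rw [hgg]; exact h1
      have hw' : F.map χ'.fst ≫ b.iso.hom = c.iso.hom ≫ χ'.snd := χ'.w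
      have hFχ' : F.map χ'.fst = d := by
        rw [hd, ← h1', ← Category.assoc, ← hw', Category.assoc, Iso.hom_inv_id, Category.comp_id]
      have hfst : χ'.fst = cc := by
        apply hcu
        refine ⟨?_, ?_⟩
        · rw [Functor.comp_map, hFχ']
        · rw [← h2]; rfl
      ext
      · exact hfst
      · exact h1'

end Pull

/-- Let S be a category, π_X : X ⥤ S and π_Y : Y ⥤ S be fibred in groupoids, and F : Y ⥤ X a functor
with F ⋙ π_X = π_Y. Consider the category of triples (y, x, φ) with φ : F y ≅ x an arbitrary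
isomorphism of X and morphisms the compatible pairs of morphisms (the categorical pullback of F and
the identity of X; the isomorphism φ is not required to lie over an identity of S). Its projection
to X is fibred in groupoids over X, and the composite of that projection with π_X is fibred in
groupoids over S. (The published statement also asserts that y ↦ (y, F y, id) and (y, x, φ) ↦ y form
an equivalence over S; that is not asserted here.) -/
theorem result {S : Type u} [Category.{v} S] {X : Type u} [Category.{v} X]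
    {Y : Type u} [Category.{v} Y] (πX : X ⥤ S) (πY : Y ⥤ S) (hX : FibCat.IsFibGrpd πX) (hY : FibCat.IsFibGrpd πY)
    (F : Y ⥤ X) (hF : F ⋙ πX = πY) :
    FibCat.IsFibGrpd (CategoricalPullback.π₂ F (𝟭 X)) ∧
      FibCat.IsFibGrpd (CategoricalPullback.π₂ F (𝟭 X) ⋙ πX) := by
  subst hF
  have h1 := isFibGrpd_π₂ πX F hX hY
  exact ⟨h1, isFibGrpd_comp _ _ h1 hX⟩

end Groth.Agent.S16361
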