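import Groth.Statements.S16362
import Mathlib.RingTheory.Polynomial.Basic
import Mathlib.Algebra.Polynomial.Degree.Lemmas
import Mathlib.Algebra.BigOperators.Intervals
import Mathlib.Tactic.FieldSimp
import Mathlib.Tactic.LinearCombination

set_option autoImplicit false
universe u
open MovLem

namespace Groth.Agent.S16362

theorem frac_key {K : Type*} [Field K] (Z V : K) (hV : V ≠ 0) {j N : ℕ} (h : j ≤ N) :
    (Z / V) ^ j * V ^ N = Z ^ j * V ^ (N - j) := by
  obtain ⟨m, rfl⟩ := Nat.exists_eq_add_of_le h
  rw [Nat.add_sub_cancel_left, div_pow, pow_add]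
  field_simp

/-- Let A be a commutative ring, p a prime ideal of A, and ζ, u elements of A with u not in p. Then the
quotient of the classes of ζ and u in the fraction field of the domain A ⧸ p is integral over A ⧸ p
if and only if there exist a natural number N and elements a_1, …, a_N of A such that ζ^N + a_1
ζ^(N-1) u + ⋯ + a_N u^N lies in p; equivalently, some binary form of degree N with coefficients in
A, monic in the first variable, evaluated at (ζ, u), lies in p. -/
theorem result
    {A : Type u} [CommRing A] (p : Ideal A) [p.IsPrime] (ζ u : A) (hu : u ∉ p) :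
    IsIntegral (A ⧸ p)
        (algebraMap (A ⧸ p) (FractionRing (A ⧸ p)) (Ideal.Quotient.mk p ζ) /
          algebraMap (A ⧸ p) (FractionRing (A ⧸ p)) (Ideal.Quotient.mk p u)) ↔
      ∃ (N : ℕ) (a : ℕ → A),
        ζ ^ N + ∑ i ∈ Finset.Icc 1 N, a i * ζ ^ (N - i) * u ^ i ∈ p := by
  classical
  set D := A ⧸ p with hD
  set K := FractionRing D with hK
  set z : D := Ideal.Quotient.mk p ζ with hz
  set v : D := Ideal.Quotient.mk p u with hv
  have hv0 : v ≠ 0 := by
    rw [hv, Ne, Ideal.Quotient.eq_zero_iff_mem]
    exact hu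
  have hV0 : algebraMap D K v ≠ 0 := by
    intro h
    exact hv0 ((IsFractionRing.injective D K) (by rw [h, map_zero]))
  set Z := algebraMap D K z with hZ
  set V := algebraMap D K v with hV
  constructor
  · rintro ⟨P, hmonic, hP⟩
    set N := P.natDegree with hN
    rw [Polynomial.eval₂_eq_sum_range] at hP
    have h1 : ∑ j ∈ Finset.range (N + 1), algebraMap D K (P.coeff j * z ^ j * v ^ (N - j)) = 0 := by
      have h2 : (∑ j ∈ Finset.range (N + 1), algebraMap D K (P.coeff j) * (Z / V) ^ j) * V ^ N = 0 := by
        rw [hP, zero_mul]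
      rw [Finset.sum_mul] at h2
      rw [← h2]
      apply Finset.sum_congr rfl
      intro j hj
      rw [Finset.mem_range] at hj
      rw [mul_assoc (algebraMap D K (P.coeff j)), frac_key Z V hV0 (by omega : j ≤ N), map_mul, map_mul,
        map_pow, map_pow, mul_assoc]
    rw [← map_sum] at h1
    have h3 : ∑ j ∈ Finset.range (N + 1), P.coeff j * z ^ j * v ^ (N - j) = 0 :=
      (IsFractionRing.injective D K) (by rw [h1, map_zero])
    rw [Finset.sum_range_succ, hmonic.coeff_natDegree, Nat.sub_self, pow_zero, one_mul, mul_one] at h3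
    choose a' ha' using fun j => Ideal.Quotient.mk_surjective (P.coeff j)
    refine ⟨N, fun i => a' (N - i), ?_⟩
    rw [← Ideal.Quotient.eq_zero_iff_mem, map_add, map_pow, map_sum]
    rw [← h3, add_comm]
    congr 1
    have h4 : ∀ i ∈ Finset.Icc 1 N, Ideal.Quotient.mk p (a' (N - i) * ζ ^ (N - i) * u ^ i) =
        (fun j => P.coeff j * z ^ j * v ^ (N - j)) (N - i) := by
      intro i hi
      rw [Finset.mem_Icc] at hi
      simp only [map_mul, map_pow, ha']
      congr 2
      omega
    rw [Finset.sum_congr rfl h4]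
    have h5 : Finset.Icc 1 N = Finset.Ico 1 (N + 1) := by
      ext i; simp [Finset.mem_Icc, Finset.mem_Ico, Nat.lt_succ_iff]
    rw [h5, Finset.sum_Ico_reflect (fun j => P.coeff j * z ^ j * v ^ (N - j)) 1 (le_refl (N + 1)),
      Nat.sub_self, Nat.add_sub_cancel, Finset.range_eq_Ico]
  · rintro ⟨N, a, ha⟩
    rw [← Ideal.Quotient.eq_zero_iff_mem, map_add, map_pow, map_sum] at ha
    have hNpos : N ≠ 0 := by
      rintro rfl
      simp at ha
    set P : Polynomial D := Polynomial.X ^ N +
      ∑ i ∈ Finset.Icc 1 N, Polynomial.C (Ideal.Quotient.mk p (a i)) * Polynomial.X ^ (N - i) with hPdef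
    have hdeg : (∑ i ∈ Finset.Icc 1 N,
        Polynomial.C (Ideal.Quotient.mk p (a i)) * Polynomial.X ^ (N - i) : Polynomial D).degree < N := by
      apply (Polynomial.degree_sum_le _ _).trans_lt
      rw [Finset.sup_lt_iff (WithBot.bot_lt_coe _)]
      intro i hi
      rw [Finset.mem_Icc] at hi
      apply (Polynomial.degree_C_mul_X_pow_le _ _).trans_lt
      exact_mod_cast (by omega : N - i < N)
    refine ⟨P, Polynomial.monic_X_pow_add hdeg, ?_⟩
    have h2 : Polynomial.eval₂ (algebraMap D K) (Z / V) P * V ^ N = 0 := by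
      rw [hPdef, Polynomial.eval₂_add, Polynomial.eval₂_pow, Polynomial.eval₂_X,
        Polynomial.eval₂_finsetSum, add_mul, Finset.sum_mul, frac_key Z V hV0 (le_refl N),
        Nat.sub_self, pow_zero, mul_one]
      have h3 := congrArg (algebraMap D K) ha
      rw [map_add, map_sum, map_zero, map_pow] at h3
      rw [← h3]
      congr 1
      apply Finset.sum_congr rfl
      intro i hi
      rw [Finset.mem_Icc] at hi
      rw [Polynomial.eval₂_mul, Polynomial.eval₂_C, Polynomial.eval₂_pow, Polynomial.eval₂_X,
        mul_assoc, frac_key Z V hV0 (by omega : N - i ≤ N)]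
      have : N - (N - i) = i := by omega
      rw [this]
      simp only [map_mul, map_pow]
      ring
    rcases mul_eq_zero.mp h2 with h | h
    · exact h
    · exact absurd (pow_eq_zero_iff hNpos |>.mp h) hV0

end Groth.Agent.S16362
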