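import Groth.Statements.S16368
import Mathlib

set_option autoImplicit false
universe u v
open TensorProduct
open FrobAlg

namespace Groth.Agent.S16368



open IsLocalRing Function

lemma exists_min_gens (R : Type u) [CommRing R] [IsLocalRing R] (M : Type v) [AddCommGroup M]
    [Module R M] [Module.Finite R M] :
    ∃ (n : ℕ) (v : Fin n → M), Submodule.span R (Set.range v) = ⊤ ∧
      ∀ x : Fin n → R, ∑ i, x i • v i = 0 → ∀ i, x i ∈ maximalIdeal R := by
  let b := Module.finBasis (ResidueField R) ((ResidueField R) ⊗[R] M)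
  have hsurj : Function.Surjective (TensorProduct.mk R (ResidueField R) M 1) :=
    TensorProduct.mk_surjective R M (ResidueField R) Ideal.Quotient.mk_surjective
  choose v hv using fun i => hsurj (b i)
  refine ⟨_, v, IsLocalRing.span_eq_top_of_tmul_eq_basis v b hv, ?_⟩
  intro x hx i
  have h1 : ∑ i, (residue R (x i)) • b i = 0 := by
    have := congrArg (TensorProduct.mk R (ResidueField R) M 1) hx
    simp only [map_sum, map_smul, hv, map_zero] at this
    rw [← this]
    refine Finset.sum_congr rfl fun i _ => ?_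
    exact algebraMap_smul (ResidueField R) (x i) (b i)
  have h2 := Fintype.linearIndependent_iff.mp b.linearIndependent _ h1 i
  exact (residue_eq_zero_iff _).mp h2

lemma mem_smul_top_of_coords {R : Type u} [CommRing R] {n : ℕ} (J : Ideal R) (x : Fin n → R)
    (h : ∀ i, x i ∈ J) : x ∈ J • (⊤ : Submodule R (Fin n → R)) := by
  classical
  rw [pi_eq_sum_univ x]
  exact Submodule.sum_mem _ fun i _ => Submodule.smul_mem_smul (h i) Submodule.mem_top

lemma coord_mem_of_two_surj {R : Type u} {M : Type v} [CommRing R] [IsLocalRing R]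
    [AddCommGroup M] [Module R M] {n : ℕ}
    (π ψ : (Fin n → R) →ₗ[R] M) (hπ : Surjective π) (hψ : Surjective ψ)
    (hπm : ∀ x ∈ LinearMap.ker π, ∀ i, x i ∈ maximalIdeal R)
    (J : Ideal R) (hJ : ∀ x ∈ LinearMap.ker ψ, ∀ i, x i ∈ J) :
    ∀ x ∈ LinearMap.ker π, ∀ i, x i ∈ J := by
  classical
  obtain ⟨P, hP⟩ : ∃ P : (Fin n → R) →ₗ[R] (Fin n → R), π ∘ₗ P = ψ :=
    Module.projective_lifting_property π ψ hπ
  have hPsurj : LinearMap.range P = ⊤ := by
    apply top_le_iff.mp
    apply Submodule.le_of_le_smul_of_le_jacobson_bot (I := maximalIdeal R) Module.Finite.fg_top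
      (IsLocalRing.maximalIdeal_le_jacobson ⊥)
    intro x _
    obtain ⟨y, hy⟩ := hψ (π x)
    have hk : x - P y ∈ LinearMap.ker π := by
      rw [LinearMap.mem_ker, map_sub, ← hy, ← hP, LinearMap.comp_apply, sub_self]
    rw [Submodule.mem_sup]
    exact ⟨P y, ⟨y, rfl⟩, x - P y, mem_smul_top_of_coords _ _ (hπm _ hk), by abel⟩
  intro x hx i
  obtain ⟨y, rfl⟩ := LinearMap.range_eq_top.mp hPsurj x
  have hy : y ∈ LinearMap.ker ψ := by
    rw [LinearMap.mem_ker, ← hP]; exact hx
  rw [LinearMap.pi_apply_eq_sum_univ P y]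
  simp only [Finset.sum_apply, Pi.smul_apply, smul_eq_mul]
  exact J.sum_mem fun j _ => J.mul_mem_right _ (hJ y hy j)

/-- Let R be a local ring of prime characteristic p and M a finitely presented R-module. Write R' for R
regarded as an R-algebra through its Frobenius a ↦ a^p, so that R' ⊗_R M is the pull-back of M along
the absolute Frobenius of Spec R, an R'-module. If this pull-back is isomorphic to M — there is a
bijective map e : R' ⊗_R M → M, additive and semilinear for the identification R' = R — then M is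
free. -/
theorem result
    (p : ℕ) [Fact p.Prime] (R : Type u) [CommRing R] [IsLocalRing R] [CharP R p]
    (M : Type v) [AddCommGroup M] [Module R M] [Module.FinitePresentation R M]
    (e : (FrobAlg.Twist p R ⊗[R] M) →ₛₗ[((FrobAlg.toTwist p R).symm : FrobAlg.Twist p R →+* R)] M)
    (he : Function.Bijective e) :
    Module.Free R M := by
  classical
  obtain ⟨n, v, hvspan, hvmin⟩ := exists_min_gens R M
  obtain ⟨π, hπdef⟩ : ∃ π, π = Fintype.linearCombination R v := ⟨_, rfl⟩
  have hπ : Surjective π := by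
    rw [← LinearMap.range_eq_top, hπdef, Fintype.range_linearCombination]; exact hvspan
  obtain ⟨K, hKdef⟩ : ∃ K, K = LinearMap.ker π := ⟨_, rfl⟩
  have hKfg : K.FG := hKdef ▸ Module.FinitePresentation.fg_ker π hπ
  obtain ⟨I, hIdef⟩ : ∃ I : Ideal R, I = ⨆ i : Fin n, K.map (LinearMap.proj i) := ⟨_, rfl⟩
  have hIfg : I.FG := hIdef ▸ Submodule.fg_iSup _ fun i => hKfg.map _
  have hKI : ∀ x ∈ K, ∀ i, x i ∈ I := fun x hx i => by
    rw [hIdef]
    exact (le_iSup (fun i : Fin n => K.map (LinearMap.proj i)) i) (Submodule.mem_map_of_mem hx)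
  have hKm : ∀ x ∈ K, ∀ i, x i ∈ maximalIdeal R := fun x hx => hvmin x (by
    rw [hKdef, LinearMap.mem_ker, hπdef, Fintype.linearCombination_apply] at hx; exact hx)
  have hIm : I ≤ maximalIdeal R := by
    rw [hIdef]
    refine iSup_le fun i => ?_
    rintro _ ⟨x, hx, rfl⟩; exact hKm x hx i
  -- notation
  obtain ⟨τ, hτ⟩ : ∃ τ : R ≃+* Twist p R, τ = toTwist p R := ⟨_, rfl⟩
  have hsmulT : ∀ (r : R) (a : Twist p R), r • a = τ (r ^ p) * a := by
    intro r a
    rw [Algebra.smul_def, algebraMap_twist, hτ]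
  have he_smul : ∀ (a : Twist p R) (t : Twist p R ⊗[R] M), e (a • t) = τ.symm a • e t := by
    intro a t
    rw [hτ]; exact e.map_smulₛₗ a t
  -- the second presentation
  obtain ⟨ψ, hψdef⟩ : ∃ ψ, ψ = Fintype.linearCombination R (fun i => e ((1 : Twist p R) ⊗ₜ[R] v i)) :=
    ⟨_, rfl⟩
  have hψapply : ∀ x : Fin n → R, ψ x = e (∑ i, τ (x i) ⊗ₜ[R] v i) := by
    intro x
    rw [hψdef, Fintype.linearCombination_apply, map_sum]
    refine Finset.sum_congr rfl fun i _ => ?_
    have : τ (x i) ⊗ₜ[R] v i = τ (x i) • ((1 : Twist p R) ⊗ₜ[R] v i) := by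
      rw [TensorProduct.smul_tmul', smul_eq_mul, mul_one]
    rw [this, he_smul, RingEquiv.symm_apply_apply]
  have hrep : ∀ t : Twist p R ⊗[R] M, ∃ a : Fin n → Twist p R, t = ∑ i, a i ⊗ₜ[R] v i := by
    intro t
    induction t using TensorProduct.induction_on with
    | zero => exact ⟨0, by simp⟩
    | tmul a m =>
      obtain ⟨c, rfl⟩ := hπ m
      refine ⟨fun i => c i • a, ?_⟩
      rw [hπdef, Fintype.linearCombination_apply, TensorProduct.tmul_sum]
      refine Finset.sum_congr rfl fun i _ => ?_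
      rw [TensorProduct.tmul_smul, TensorProduct.smul_tmul']
    | add t₁ t₂ h₁ h₂ =>
      obtain ⟨a₁, rfl⟩ := h₁
      obtain ⟨a₂, rfl⟩ := h₂
      exact ⟨a₁ + a₂, by simp [TensorProduct.add_tmul, Finset.sum_add_distrib]⟩
  have hψ : Surjective ψ := by
    intro y
    obtain ⟨t, rfl⟩ := he.2 y
    obtain ⟨a, rfl⟩ := hrep t
    refine ⟨fun i => τ.symm (a i), ?_⟩
    rw [hψapply]
    simp only [RingEquiv.apply_symm_apply]
  -- kernel of ψ
  have hJ : ∀ x ∈ LinearMap.ker ψ, ∀ i, x i ∈ maximalIdeal R * I := by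
    intro x hx j
    rw [LinearMap.mem_ker, hψapply] at hx
    have hx0 : ∑ i, τ (x i) ⊗ₜ[R] v i = 0 := he.1 (by rw [hx, map_zero])
    obtain ⟨y, hydef⟩ : ∃ y : Twist p R ⊗[R] (Fin n → R),
        y = ∑ i, τ (x i) ⊗ₜ[R] (Pi.single i (1 : R)) := ⟨_, rfl⟩
    have hy0 : (LinearMap.lTensor (Twist p R) π) y = 0 := by
      rw [hydef, map_sum, ← hx0]
      refine Finset.sum_congr rfl fun i _ => ?_
      rw [LinearMap.lTensor_tmul, hπdef, Fintype.linearCombination_apply_single, one_smul]
    have hex := lTensor_exact (Twist p R) (LinearMap.exact_subtype_ker_map π) hπ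
    obtain ⟨s, hs⟩ := (hex y).mp hy0
    -- coordinates
    have hA : ∀ s : Twist p R ⊗[R] (LinearMap.ker π), ∀ j,
        τ.symm (TensorProduct.piScalarRight R (Twist p R) (Twist p R) (Fin n)
          (LinearMap.lTensor (Twist p R) (LinearMap.ker π).subtype s) j) ∈ maximalIdeal R * I := by
      intro s j
      induction s using TensorProduct.induction_on with
      | zero => simp
      | tmul a k =>
        rw [LinearMap.lTensor_tmul, TensorProduct.piScalarRight_apply,
          TensorProduct.piScalarRightHom_tmul]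
        have hkK : (k : Fin n → R) ∈ K := hKdef ▸ k.2
        have hkI := hKI _ hkK j
        have hkm := hKm _ hkK j
        change τ.symm (((k : Fin n → R) j) • a) ∈ _
        rw [hsmulT, map_mul, RingEquiv.symm_apply_apply]
        have hp : p = (p - 1) + 1 := (Nat.succ_pred_eq_of_pos (Fact.out : p.Prime).pos).symm
        rw [hp, pow_succ, mul_assoc]
        refine Ideal.mul_mem_mul ?_ (I.mul_mem_right _ hkI)
        exact Ideal.pow_mem_of_mem _ hkm _ (Nat.sub_pos_of_lt (Fact.out : p.Prime).one_lt)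
      | add t₁ t₂ h₁ h₂ =>
        rw [map_add, map_add, Pi.add_apply, map_add]
        exact Ideal.add_mem _ h₁ h₂
    have hB : TensorProduct.piScalarRight R (Twist p R) (Twist p R) (Fin n) y j = τ (x j) := by
      rw [hydef, map_sum, Finset.sum_apply]
      rw [Finset.sum_eq_single j]
      · rw [TensorProduct.piScalarRight_apply, TensorProduct.piScalarRightHom_tmul]
        simp
      · intro i _ hij
        rw [TensorProduct.piScalarRight_apply, TensorProduct.piScalarRightHom_tmul]
        simp [hij.symm]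
      · intro h; exact absurd (Finset.mem_univ j) h
    have := hA s j
    rw [hs, hB, RingEquiv.symm_apply_apply] at this
    exact this
  have hfin := coord_mem_of_two_surj π ψ hπ hψ (hKdef ▸ hKm) _ hJ
  have hI_le : I ≤ maximalIdeal R • I := by
    rw [hIdef]
    refine iSup_le fun i => ?_
    rintro _ ⟨x, hx, rfl⟩
    rw [← hIdef]
    exact hfin x (hKdef ▸ hx) i
  have hI0 : I = ⊥ := Submodule.eq_bot_of_le_smul_of_le_jacobson_bot (maximalIdeal R) I hIfg hI_le
    (maximalIdeal_le_jacobson ⊥)
  have hK0 : LinearMap.ker π = ⊥ := by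
    rw [eq_bot_iff]
    intro x hx
    rw [Submodule.mem_bot]
    funext i
    have := hKI x (hKdef ▸ hx) i
    rw [hI0] at this
    exact this
  exact Module.Free.of_equiv (LinearEquiv.ofBijective π ⟨LinearMap.ker_eq_bot.mp hK0, hπ⟩)

end Groth.Agent.S16368
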