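import Groth.Statements.S16370

set_option autoImplicit false
universe u
open CategoryTheory AlgebraicGeometry Opposite
open FrobSch

namespace Groth.Agent.S16370

/-- (ii) ⇒ (iii): let X be a reduced scheme of prime characteristic p, φ the p-th power map on the sheaf
of additive groups underlying O_X (a monomorphism, X being reduced) and B its cokernel in abelian
sheaves. If H^i(X, B) = 0 for all i ≥ 0, then the endomorphism of H^i(X, O_X) induced by φ — the
Hasse–Witt operation — is bijective for all i. (The source has X normal and proper over a perfect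
field; only reducedness enters this implication.) -/
theorem result
    (p : ℕ) [Fact p.Prime] (X : Scheme.{u}) [IsReduced X] (hp : (p : Γ(X, ⊤)) = 0)
    (φ : Coh.toAb (Coh.structureModule X) ⟶ Coh.toAb (Coh.structureModule X))
    (hφ : ∀ (U : X.Opens) (t : Γ(X, U)), φ.hom.app (op U) t = t ^ p)
    (hB : ∀ i : ℕ, Subsingleton (Sheaf.H (Limits.cokernel φ) i))
    (i : ℕ) : Function.Bijective (Sheaf.H.map φ i) := by
  have hmono : Mono φ := by
    have : Mono φ.hom := by
      have : ∀ U, Mono (φ.hom.app U) := by
        intro U
        rw [AddCommGrpCat.mono_iff_injective]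
        rw [injective_iff_map_eq_zero]
        intro a ha
        obtain ⟨U⟩ := U
        let a' : Γ(X, U) := a
        have h1 := hφ U a'
        have h2 : a' ^ p = 0 := by
          rw [← h1]; exact ha
        exact IsReduced.eq_zero a' ⟨p, h2⟩
      exact NatTrans.mono_of_mono_app _
    exact Sheaf.Hom.mono_of_presheaf_mono _ _ φ
  have hS : (ShortComplex.mk φ (Limits.cokernel.π φ) (Limits.cokernel.condition φ)).ShortExact :=
    { exact := ShortComplex.exact_cokernel φ
      mono_f := hmono
      epi_g := inferInstance }
  constructor
  · rw [injective_iff_map_eq_zero]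
    intro x hx
    cases i with
    | zero =>
      exact (Abelian.Ext.postcomp_mk₀_injective_of_mono _ φ) (hx.trans (map_zero _).symm)
    | succ n =>
      obtain ⟨x₃, rfl⟩ := Abelian.Ext.covariant_sequence_exact₁ _ hS x hx rfl
      have : x₃ = 0 := (hB n).elim _ _
      rw [this, Abelian.Ext.zero_comp]
  · intro y
    obtain ⟨x, hx⟩ := Abelian.Ext.covariant_sequence_exact₂ _ hS y ((hB i).elim _ _)
    exact ⟨x, hx⟩

end Groth.Agent.S16370
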