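import Groth.Statements.S16372
import Mathlib

set_option autoImplicit false
universe u
open FrobAlg

namespace Groth.Agent.S16372



open WittVector

lemma mul_shift (p : ℕ) [hp : Fact p.Prime] (m : ℕ) (R : Type u) [CommRing R] (hpR : (p : R) = 0)
    (y : TruncatedWittVector p (m + 1) R) (x : TruncatedWittVector p m R) :
    y * WittGrp.shift p (Nat.le_succ m) x =
      WittGrp.shift p (Nat.le_succ m)
        (WittGrp.frob p m hpR (TruncatedWittVector.truncate (Nat.le_succ m) y) * x) := by
  rcases subsingleton_or_nontrivial R with hR | hR
  · exact TruncatedWittVector.ext fun i => Subsingleton.elim _ _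
  · have : CharP R p := (CharP.charP_iff_prime_eq_zero hp.out).mpr hpR
    obtain ⟨Y, rfl⟩ := WittVector.truncate_surjective p (m + 1) R y
    obtain ⟨X, rfl⟩ := WittVector.truncate_surjective p m R x
    rw [TruncatedWittVector.truncate_wittVector_truncate, WittGrp.frob_truncate, ← map_mul,
      WittGrp.shift_truncate, WittGrp.shift_truncate, ← map_mul]
    have h1 : m.succ - m = 1 := by omega
    rw [h1, Function.iterate_one, mul_comm (frobenius Y) X,
      verschiebung_mul_frobenius, mul_comm]

/-- Let p be a prime, m ≥ 1 and R a commutative ring with p = 0 in R. A quasi-F-splitting of level m on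
R is an additive map σ from the truncated Witt vectors W_m(R) to R with σ(1) = 1 and σ(F(x)·y) =
x₀·σ(y) for all x, y, where F raises every component to the p-th power and x₀ is the first
component. Then the image of ker σ under the shift V : W_m(R) → W_{m+1}(R) is an ideal of
W_{m+1}(R): it is stable under multiplication by arbitrary elements. (Stated for a ring; the source
has a scheme over the prime field and its structure sheaf.) -/
theorem result
    (p : ℕ) [Fact p.Prime] (m : ℕ) (hm : 0 < m) (R : Type u) [CommRing R] (hp : (p : R) = 0)
    (σ : TruncatedWittVector p m R →+ R) (h1 : σ 1 = 1)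
    (hF : ∀ x y : TruncatedWittVector p m R, σ (WittGrp.frob p m hp x * y) = x.coeff ⟨0, hm⟩ * σ y)
    (y : TruncatedWittVector p (m + 1) R) (x : TruncatedWittVector p m R) (hx : σ x = 0) :
    ∃ x' : TruncatedWittVector p m R, σ x' = 0 ∧
      y * WittGrp.shift p (Nat.le_succ m) x = WittGrp.shift p (Nat.le_succ m) x' := by
  refine ⟨WittGrp.frob p m hp (TruncatedWittVector.truncate (Nat.le_succ m) y) * x, ?_, mul_shift p m R hp y x⟩
  rw [hF, hx, mul_zero]

end Groth.Agent.S16372
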