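import Groth.Statements.S16373
import Groth.Agent.S16372
import Mathlib

set_option autoImplicit false
universe u
open FrobAlg

namespace Groth.Agent.S16373



open WittVector

section
variable (p : ℕ) [hp : Fact p.Prime] (m : ℕ) (R : Type u) [CommRing R] (hpR : (p : R) = 0)

lemma p_mul (w : TruncatedWittVector p (m + 1) R) :
    (p : TruncatedWittVector p (m + 1) R) * w =
      WittGrp.shift p (Nat.le_succ m)
        (WittGrp.frob p m hpR (TruncatedWittVector.truncate (Nat.le_succ m) w)) := by
  rcases subsingleton_or_nontrivial R with hR | hR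
  · exact TruncatedWittVector.ext fun i => Subsingleton.elim _ _
  · have : CharP R p := (CharP.charP_iff_prime_eq_zero hp.out).mpr hpR
    obtain ⟨W, rfl⟩ := WittVector.truncate_surjective p (m + 1) R w
    rw [TruncatedWittVector.truncate_wittVector_truncate, WittGrp.frob_truncate,
      WittGrp.shift_truncate, ← map_natCast (WittVector.truncate (p := p) (R := R) (m + 1)) p,
      ← map_mul]
    have h1 : m.succ - m = 1 := by omega
    rw [h1, Function.iterate_one, verschiebung_frobenius, mul_comm]

lemma coeff_shift_zero (x : TruncatedWittVector p m R) :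
    (WittGrp.shift p (Nat.le_succ m) x).coeff 0 = 0 := by
  rw [WittGrp.coeff_shift]
  simp

lemma coeff_shift_succ (x : TruncatedWittVector p m R) (i : Fin m) :
    (WittGrp.shift p (Nat.le_succ m) x).coeff i.succ = x.coeff i := by
  rw [WittGrp.coeff_shift]
  have h1 : m.succ - m = 1 := by omega
  rw [dif_pos (by rw [h1]; simp)]
  congr 1
  ext
  simp [h1]

lemma shift_injective : Function.Injective (WittGrp.shift p (Nat.le_succ m) :
    TruncatedWittVector p m R → TruncatedWittVector p (m + 1) R) := by
  intro x y hxy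
  ext i
  have := congrArg (fun w => TruncatedWittVector.coeff i.succ w) hxy
  simp only [coeff_shift_succ] at this
  exact this

lemma exists_shift_of_coeff_zero (w : TruncatedWittVector p (m + 1) R) (hw : w.coeff 0 = 0) :
    ∃ x : TruncatedWittVector p m R, w = WittGrp.shift p (Nat.le_succ m) x := by
  refine ⟨TruncatedWittVector.mk p fun i => w.coeff i.succ, ?_⟩
  ext i
  refine Fin.cases ?_ (fun j => ?_) i
  · rw [hw, coeff_shift_zero]
  · rw [coeff_shift_succ, TruncatedWittVector.coeff_mk]

end

/-- Let p be a prime, m ≥ 1, R a commutative ring with p = 0 in R and σ : W_m(R) → R a quasi-F-splitting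
of level m (additive, σ(1) = 1, σ(F(x)·y) = x₀·σ(y) with F the componentwise p-th power). Let I ⊆
W_{m+1}(R) be the ideal generated by the shifts V(x) of the x with σ(x) = 0, and Q = W_{m+1}(R)/I.
Then Q is a flat lifting of R modulo p²: an element of Q lies in pQ exactly when the first Witt
component of a representative vanishes (so Q/pQ is R through the first component), and an element of
Q is killed by p exactly when it lies in pQ. (Stated for a ring; the source has a scheme over the
prime field. For m = 1 this is the lifting attached to a Frobenius splitting.) -/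
theorem result
    (p : ℕ) [Fact p.Prime] (m : ℕ) (hm : 0 < m) (R : Type u) [CommRing R] (hp : (p : R) = 0)
    (σ : TruncatedWittVector p m R →+ R) (h1 : σ 1 = 1)
    (hF : ∀ x y : TruncatedWittVector p m R, σ (WittGrp.frob p m hp x * y) = x.coeff ⟨0, hm⟩ * σ y)
    (I : Ideal (TruncatedWittVector p (m + 1) R))
    (hI : I = Ideal.span (WittGrp.shift p (Nat.le_succ m) '' {x : TruncatedWittVector p m R | σ x = 0})) :
    (∀ w : TruncatedWittVector p (m + 1) R,
        Ideal.Quotient.mk I w ∈ Ideal.span ({(p : TruncatedWittVector p (m + 1) R ⧸ I)} : Set _) ↔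
          w.coeff 0 = 0) ∧
    (∀ q : TruncatedWittVector p (m + 1) R ⧸ I,
        (p : TruncatedWittVector p (m + 1) R ⧸ I) * q = 0 ↔
          q ∈ Ideal.span ({(p : TruncatedWittVector p (m + 1) R ⧸ I)} : Set _)) := by
  -- description of I
  have hImem : ∀ w, w ∈ I ↔ ∃ x, σ x = 0 ∧ w = WittGrp.shift p (Nat.le_succ m) x := by
    intro w
    constructor
    · intro hw
      rw [hI] at hw
      induction hw using Submodule.span_induction with
      | mem w hw =>
        obtain ⟨x, hx, rfl⟩ := hw
        exact ⟨x, hx, rfl⟩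
      | zero => exact ⟨0, map_zero σ, (map_zero _).symm⟩
      | add a b _ _ ha hb =>
        obtain ⟨x, hx, rfl⟩ := ha
        obtain ⟨y, hy, rfl⟩ := hb
        exact ⟨x + y, by rw [map_add, hx, hy, add_zero], (map_add _ _ _).symm⟩
      | smul y a _ ha =>
        obtain ⟨x, hx, rfl⟩ := ha
        refine ⟨_, ?_, Groth.Agent.S16372.mul_shift p m R hp y x⟩
        rw [hF, hx, mul_zero]
    · rintro ⟨x, hx, rfl⟩
      rw [hI]
      exact Ideal.subset_span ⟨x, hx, rfl⟩
  have hσF : ∀ z : TruncatedWittVector p m R, σ (WittGrp.frob p m hp z) = z.coeff ⟨0, hm⟩ := by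
    intro z
    have := hF z 1
    rwa [mul_one, h1, mul_one] at this
  have htr0 : ∀ w : TruncatedWittVector p (m + 1) R,
      (TruncatedWittVector.truncate (Nat.le_succ m) w).coeff ⟨0, hm⟩ = w.coeff 0 := by
    intro w
    rw [TruncatedWittVector.coeff_truncate]
    rfl
  have part1 : ∀ w : TruncatedWittVector p (m + 1) R,
        Ideal.Quotient.mk I w ∈ Ideal.span ({(p : TruncatedWittVector p (m + 1) R ⧸ I)} : Set _) ↔
          w.coeff 0 = 0 := by
    intro w
    rw [Ideal.mem_span_singleton']
    constructor
    · rintro ⟨a, ha⟩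
      obtain ⟨u, rfl⟩ := Ideal.Quotient.mk_surjective a
      rw [← map_natCast (Ideal.Quotient.mk I) p, ← map_mul, Ideal.Quotient.eq, hImem] at ha
      obtain ⟨x, hx, hux⟩ := ha
      have : w = u * p - WittGrp.shift p (Nat.le_succ m) x := by rw [← hux]; ring
      rw [this, mul_comm, p_mul p m R hp, ← map_sub, coeff_shift_zero]
    · intro hw
      obtain ⟨x, rfl⟩ := exists_shift_of_coeff_zero p m R w hw
      obtain ⟨u, hu⟩ := TruncatedWittVector.truncate_surjective (p := p) (R := R) (Nat.le_succ m)
        (TruncatedWittVector.mk p fun _ => σ x)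
      refine ⟨Ideal.Quotient.mk I u, ?_⟩
      rw [← map_natCast (Ideal.Quotient.mk I) p, ← map_mul, Ideal.Quotient.eq, hImem, mul_comm,
        p_mul p m R hp, ← map_sub]
      refine ⟨_, ?_, rfl⟩
      rw [map_sub, hσF, hu, TruncatedWittVector.coeff_mk, sub_self]
  refine ⟨part1, ?_⟩
  intro q
  obtain ⟨w, rfl⟩ := Ideal.Quotient.mk_surjective q
  constructor
  · intro h
    rw [part1]
    rw [← map_natCast (Ideal.Quotient.mk I) p, ← map_mul, Ideal.Quotient.eq_zero_iff_mem, hImem,
      p_mul p m R hp] at h
    obtain ⟨x, hx, hwx⟩ := h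
    have := shift_injective p m R hwx
    rw [← htr0, ← hσF, this, hx]
  · intro h
    rw [Ideal.mem_span_singleton'] at h
    obtain ⟨a, ha⟩ := h
    obtain ⟨u, rfl⟩ := Ideal.Quotient.mk_surjective a
    rw [← ha, ← map_natCast (Ideal.Quotient.mk I) p, ← map_mul, ← map_mul,
      Ideal.Quotient.eq_zero_iff_mem, hImem, p_mul p m R hp]
    refine ⟨_, ?_, rfl⟩
    rw [map_mul, map_natCast, map_mul, map_natCast, mul_comm, ← nsmul_eq_mul, map_nsmul,
      nsmul_eq_mul, hp, zero_mul]

end Groth.Agent.S16373
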