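import Groth.Statements.S1638
import Mathlib.RingTheory.Flat.Basic
import Mathlib.RingTheory.TensorProduct.Maps
import Mathlib.LinearAlgebra.Basis.VectorSpace
import Mathlib.RingTheory.Flat.Basic

set_option autoImplicit false
universe u
open Brauer

namespace Groth.Agent.S1638

/-- Let A and A' be algebras over a field k with subalgebras B ⊆ A and B' ⊆ A' having centralizers C and
C'. Then the centralizer of the image of B ⊗ B' in A ⊗_k A' is the image of C ⊗_k C'. -/
theorem result (k : Type u) [Field k] (A A' : Type u) [Ring A] [Ring A'] [Algebra k A] [Algebra k A']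
    (B : Subalgebra k A) (B' : Subalgebra k A') :
    Subalgebra.centralizer k ((Algebra.TensorProduct.map B.val B'.val).range : Set (TensorProduct k A A')) =
      (Algebra.TensorProduct.map (Subalgebra.centralizer k (B : Set A)).val (Subalgebra.centralizer k (B' : Set A')).val).range := by
  classical
  set C := Subalgebra.centralizer k (B : Set A) with hC
  set C' := Subalgebra.centralizer k (B' : Set A') with hC'
  -- Step 1
  have h1 : Subalgebra.centralizer k
      ((Algebra.TensorProduct.map B.val B'.val).range : Set (TensorProduct k A A')) =
      (Algebra.TensorProduct.map C.val (AlgHom.id k A')).range ⊓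
        (Algebra.TensorProduct.map (AlgHom.id k A) C'.val).range := by
    rw [Algebra.TensorProduct.map_range, Subalgebra.centralizer_coe_sup,
      ← Subalgebra.centralizer_coe_image_includeLeft_eq_center_tensorProduct k A A' (B : Set A),
      ← Subalgebra.centralizer_coe_image_includeRight_eq_center_tensorProduct k A A'
        (B' : Set A')]
    congr 2
    · ext x; simp
    · ext x; simp
  rw [h1]
  have hinj : Function.Injective (Algebra.TensorProduct.map C.val (AlgHom.id k A')) := by
    have : (⇑(Algebra.TensorProduct.map C.val (AlgHom.id k A')) :
        TensorProduct k C A' → TensorProduct k A A') =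
        ⇑(LinearMap.rTensor A' C.val.toLinearMap) := by
      funext x
      induction x using TensorProduct.induction_on with
      | zero => simp
      | tmul a b => simp
      | add x y hx hy => rw [map_add, map_add, hx, hy]
    rw [this]
    exact Module.Flat.rTensor_preserves_injective_linearMap _ Subtype.val_injective
  apply le_antisymm
  · rintro z ⟨⟨w, rfl⟩, hz2⟩
    rw [SetLike.mem_coe,
      ← Subalgebra.centralizer_coe_image_includeRight_eq_center_tensorProduct k A A'
        (B' : Set A'), Subalgebra.mem_centralizer_iff] at hz2
    have hw : w ∈ Subalgebra.centralizer k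
        ((Algebra.TensorProduct.includeRight : A' →ₐ[k] TensorProduct k C A') '' (B' : Set A')) := by
      rw [Subalgebra.mem_centralizer_iff]
      rintro _ ⟨b', hb', rfl⟩
      apply hinj
      rw [map_mul, map_mul]
      have := hz2 (Algebra.TensorProduct.includeRight b') ⟨b', hb', rfl⟩
      simpa using this
    rw [Subalgebra.centralizer_coe_image_includeRight_eq_center_tensorProduct k C A'
      (B' : Set A')] at hw
    obtain ⟨v, rfl⟩ := hw
    refine ⟨v, ?_⟩
    have := Algebra.TensorProduct.map_comp C.val (AlgHom.id k C) (AlgHom.id k A') C'.val
    rw [AlgHom.comp_id, AlgHom.id_comp] at this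
    rw [this]
    rfl
  · rintro _ ⟨v, rfl⟩
    refine ⟨⟨Algebra.TensorProduct.map (AlgHom.id k C) C'.val v, ?_⟩,
      ⟨Algebra.TensorProduct.map C.val (AlgHom.id k C') v, ?_⟩⟩
    · have := Algebra.TensorProduct.map_comp C.val (AlgHom.id k C) (AlgHom.id k A') C'.val
      rw [AlgHom.comp_id, AlgHom.id_comp] at this
      rw [this]
      rfl
    · have := Algebra.TensorProduct.map_comp (AlgHom.id k A) C.val C'.val (AlgHom.id k C')
      rw [AlgHom.comp_id, AlgHom.id_comp] at this
      rw [this]
      rfl

end Groth.Agent.S1638
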