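import Groth.Statements.S16390
import Mathlib

set_option autoImplicit false
open AbVar

namespace Groth.Agent.S16390


open Polynomial

/-- discriminant negative -/
lemma disc_neg (p r : ℕ) (hp : 2 ≤ p) (hr : 2 < r) : (p : ℝ) ^ 2 < 4 * (p : ℝ) ^ r := by
  have h1 : (p : ℝ) ^ 2 ≤ (p : ℝ) ^ r := by
    apply pow_le_pow_right₀
    · exact_mod_cast (by omega : 1 ≤ p)
    · omega
  have h2 : (0 : ℝ) < (p : ℝ) ^ r := by positivity
  linarith

lemma no_real_root (p r : ℕ) (hp : 2 ≤ p) (hr : 2 < r) (x : ℝ) :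
    x ^ 2 - (p : ℝ) * x + (p : ℝ) ^ r ≠ 0 := by
  intro h
  have := disc_neg p r hp hr
  nlinarith [sq_nonneg (2 * x - p)]

lemma part1 (p r : ℕ) (hp : 2 ≤ p) (hr : 2 < r) :
    Irreducible (X ^ 2 - C (p : ℚ) * X + C ((p : ℚ) ^ r) : ℚ[X]) := by
  have hdeg : (X ^ 2 - C (p : ℚ) * X + C ((p : ℚ) ^ r) : ℚ[X]).natDegree = 2 := by
    compute_degree!
  have hmon : (X ^ 2 - C (p : ℚ) * X + C ((p : ℚ) ^ r) : ℚ[X]).Monic := by
    monicity!
  rw [Polynomial.Monic.irreducible_iff_roots_eq_zero_of_degree_le_three hmon (by omega) (by omega)]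
  rw [Multiset.eq_zero_iff_forall_notMem]
  intro x hx
  rw [mem_roots hmon.ne_zero] at hx
  have h : x ^ 2 - (p : ℚ) * x + (p : ℚ) ^ r = 0 := by
    simpa using hx
  apply no_real_root p r hp hr (x : ℝ)
  have := congrArg (fun q : ℚ => (q : ℝ)) h
  simpa using this

lemma part2 (p r : ℕ) (hp : 2 ≤ p) (hr : 2 < r) (π : ℂ)
    (h : π ^ 2 - (p : ℂ) * π + (p : ℂ) ^ r = 0) : ‖π‖ = Real.sqrt ((p : ℝ) ^ r) := by
  have hre := congrArg Complex.re h
  have him := congrArg Complex.im h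
  have hpr : ((p : ℂ) ^ r) = (((p : ℝ) ^ r : ℝ) : ℂ) := by push_cast; rfl
  rw [hpr] at hre him
  simp only [Complex.add_re, Complex.sub_re, Complex.mul_re, Complex.natCast_re, Complex.natCast_im,
    Complex.ofReal_re, Complex.zero_re, sq, Complex.add_im, Complex.sub_im, Complex.mul_im,
    Complex.ofReal_im, Complex.zero_im, zero_mul, sub_zero, add_zero] at hre him
  have hd := disc_neg p r hp hr
  set x := π.re
  set y := π.im
  set q := (p : ℝ) ^ r
  have hy : y ≠ 0 := by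
    intro hy
    rw [hy] at hre
    simp only [mul_zero, sub_zero] at hre
    exact no_real_root p r hp hr x (by rw [sq]; exact hre)
  have hx : 2 * x = p := by
    have : y * (2 * x - p) = 0 := by linarith
    rcases mul_eq_zero.mp this with h | h
    · exact absurd h hy
    · linarith
  have hq : x ^ 2 + y ^ 2 = q := by nlinarith
  have : ‖π‖ = Real.sqrt (x ^ 2 + y ^ 2) := by
    rw [Complex.norm_eq_sqrt_sq_add_sq]
  rw [this, hq]

lemma hensel_root (p r : ℕ) [Fact p.Prime] (hr : 2 < r) :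
    ∃ z : ℤ_[p], z ^ 2 - z + (p : ℤ_[p]) ^ (r - 2) = 0 ∧ ‖z‖ < 1 := by
  let F : ℤ_[p][X] := X ^ 2 - X + C ((p : ℤ_[p]) ^ (r - 2))
  have hF0 : aeval (0 : ℤ_[p]) F = (p : ℤ_[p]) ^ (r - 2) := by
    simp [F]
  have hF'0 : aeval (0 : ℤ_[p]) (derivative F) = -1 := by
    simp only [F, derivative_add, derivative_sub, derivative_X_pow, derivative_X, derivative_C]
    simp
  have hnorm : ‖aeval (0 : ℤ_[p]) F‖ < ‖aeval (0 : ℤ_[p]) (derivative F)‖ ^ 2 := by
    rw [hF0, hF'0, norm_neg, norm_one, one_pow, norm_pow, PadicInt.norm_p]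
    have hp1 : (1 : ℝ) < p := by exact_mod_cast (Fact.out : p.Prime).one_lt
    have : ((p : ℝ)⁻¹) ^ (r - 2) < 1 := by
      apply pow_lt_one₀ (by positivity) (inv_lt_one_of_one_lt₀ hp1) (by omega)
    exact this
  obtain ⟨z, hz, hz2, -, -⟩ := hensels_lemma hnorm
  refine ⟨z, ?_, ?_⟩
  · have : aeval z F = z ^ 2 - z + (p : ℤ_[p]) ^ (r - 2) := by simp [F]
    rw [← this]; exact hz
  · rw [hF'0, norm_neg, norm_one, sub_zero] at hz2
    exact hz2

lemma val_of_norm_one (p : ℕ) [Fact p.Prime] (x : ℚ_[p]) (hx : ‖x‖ = 1) : x.valuation = 0 := by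
  have hx0 : x ≠ 0 := by
    intro h; rw [h, norm_zero] at hx; exact zero_ne_one hx
  have h := Padic.norm_eq_zpow_neg_valuation hx0
  rw [hx] at h
  have hp1 : (1 : ℝ) < p := by exact_mod_cast (Fact.out : p.Prime).one_lt
  have := zpow_right_injective₀ (by positivity) hp1.ne' (h.symm.trans (zpow_zero (p : ℝ)).symm)
  simpa using this

lemma part3 (p r : ℕ) [Fact p.Prime] (hr : 2 < r) :
    ∃ a b : ℚ_[p], a ≠ b ∧ a ^ 2 - (p : ℚ_[p]) * a + (p : ℚ_[p]) ^ r = 0 ∧
        b ^ 2 - (p : ℚ_[p]) * b + (p : ℚ_[p]) ^ r = 0 ∧ a.valuation = 1 ∧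
        b.valuation = (r : ℤ) - 1 := by
  obtain ⟨z, hz, hzn⟩ := hensel_root p r hr
  set zq : ℚ_[p] := (z : ℚ_[p]) with hzq
  have hp0 : (p : ℚ_[p]) ≠ 0 := by
    exact_mod_cast (Fact.out : p.Prime).ne_zero
  have hzq_eq : zq ^ 2 - zq + (p : ℚ_[p]) ^ (r - 2) = 0 := by
    have := congrArg (fun t : ℤ_[p] => (t : ℚ_[p])) hz
    simpa using this
  have hnzq : ‖zq‖ < 1 := by
    rw [hzq, ← PadicInt.norm_def]; exact hzn
  have hn1 : ‖1 - zq‖ = 1 := by
    have hne : ‖(1 : ℚ_[p])‖ ≠ ‖-zq‖ := by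
      rw [norm_one, norm_neg]; exact hnzq.ne'
    rw [sub_eq_add_neg, Padic.add_eq_max_of_ne hne, norm_one, norm_neg]
    exact max_eq_left hnzq.le
  have hv1 : (1 - zq).valuation = 0 := val_of_norm_one p _ hn1
  have hprod : zq * (1 - zq) = (p : ℚ_[p]) ^ (r - 2) := by linear_combination (-1 : ℚ_[p]) * hzq_eq
  have hpow0 : (p : ℚ_[p]) ^ (r - 2) ≠ 0 := pow_ne_zero _ hp0
  have hzq0 : zq ≠ 0 := by
    intro h; rw [h, zero_mul] at hprod; exact hpow0 hprod.symm
  have h1zq0 : 1 - zq ≠ 0 := by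
    intro h; rw [h, mul_zero] at hprod; exact hpow0 hprod.symm
  have hvz : zq.valuation = (r : ℤ) - 2 := by
    have := congrArg Padic.valuation hprod
    rw [Padic.valuation_mul hzq0 h1zq0, hv1, add_zero, Padic.valuation_pow, Padic.valuation_p,
      mul_one] at this
    rw [this]; push_cast [Nat.cast_sub (by omega : 2 ≤ r)]; ring
  have hpr : (p : ℚ_[p]) ^ r = (p : ℚ_[p]) ^ 2 * (p : ℚ_[p]) ^ (r - 2) := by
    rw [← pow_add]; congr 1; omega
  have hva : ((p : ℚ_[p]) * (1 - zq)).valuation = 1 := by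
    rw [Padic.valuation_mul hp0 h1zq0, Padic.valuation_p, hv1, add_zero]
  have hvb : ((p : ℚ_[p]) * zq).valuation = (r : ℤ) - 1 := by
    rw [Padic.valuation_mul hp0 hzq0, Padic.valuation_p, hvz]; ring
  refine ⟨(p : ℚ_[p]) * (1 - zq), (p : ℚ_[p]) * zq, ?_, ?_, ?_, hva, hvb⟩
  · intro h
    have := congrArg Padic.valuation h
    rw [hva, hvb] at this
    have : (r : ℤ) = 2 := by linarith
    have : r = 2 := by exact_mod_cast this
    omega
  · rw [hpr]; linear_combination (p : ℚ_[p]) ^ 2 * hzq_eq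
  · rw [hpr]; linear_combination (p : ℚ_[p]) ^ 2 * hzq_eq

/-- Let p be a prime number, r > 2 and q = p^r. The polynomial x² − p x + q is irreducible over ℚ, each
of its complex roots has absolute value √q (so its roots are Weil q-numbers), and it has two
distinct roots in ℚ_p, of p-adic valuations 1 and r − 1. The published lemma also computes the index
of the endomorphism algebra of the simple abelian variety attached to a root; this row does not
state that part. -/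
theorem result (p r : ℕ) [Fact p.Prime] (hr : 2 < r) :
    Irreducible (Polynomial.X ^ 2 - Polynomial.C (p : ℚ) * Polynomial.X + Polynomial.C ((p : ℚ) ^ r)) ∧
      (∀ π : ℂ, π ^ 2 - (p : ℂ) * π + (p : ℂ) ^ r = 0 → ‖π‖ = Real.sqrt ((p : ℝ) ^ r)) ∧
      ∃ a b : ℚ_[p], a ≠ b ∧ a ^ 2 - (p : ℚ_[p]) * a + (p : ℚ_[p]) ^ r = 0 ∧
        b ^ 2 - (p : ℚ_[p]) * b + (p : ℚ_[p]) ^ r = 0 ∧ a.valuation = 1 ∧ b.valuation = (r : ℤ) - 1 := by
  exact ⟨part1 p r (Fact.out : p.Prime).two_le hr, part2 p r (Fact.out : p.Prime).two_le hr,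
    part3 p r hr⟩

end Groth.Agent.S16390
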