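import Groth.Statements.S16394
import Groth.Agent.Lib.Helper18.AVJointMono

set_option autoImplicit false
universe u
open CategoryTheory MonoidalCategory CartesianMonoidalCategory MonObj GrpObj AlgebraicGeometry
open AbVar

namespace Groth.Agent.S16394

/-- (b₁) ⇒ (c₁): let k be a finite field and X, A abelian varieties over k (proper, geometrically
integral commutative group schemes over k). Suppose the common kernel of all homomorphisms X → A is
trivial: every T-valued point of X over k that is sent to the unit by every homomorphism X → A is
the unit point (this is condition (b₁) for the trivial subgroup). Then there are finitely many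
homomorphisms ψ_1, …, ψ_n : X → A which are jointly monomorphic on T-valued points — two T-valued
points of X with the same image under every ψ_i are equal — so that (ψ_i) is an injective
homomorphism X → A^n. The published statement restricts X and A to abelian varieties whose Frobenius
is killed by a fixed polynomial; this row has no such restriction. -/
theorem result
    (k : Type u) [Field k] [Finite k] (X A : Over (Spec (CommRingCat.of k))) [GrpObj X] [IsCommMonObj X] [IsProper X.hom] [GeometricallyIntegral X.hom]
    [GrpObj A] [IsCommMonObj A] [IsProper A.hom] [GeometricallyIntegral A.hom]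
    (hsep : ∀ (T : Over (Spec (CommRingCat.of k))) (x : T ⟶ X), (∀ f : EndAV.Hom X A, x ≫ f.toHom = 1) → x = 1) :
    ∃ (n : ℕ) (ψ : Fin n → EndAV.Hom X A), ∀ (T : Over (Spec (CommRingCat.of k))) (x y : T ⟶ X),
      (∀ i, x ≫ (ψ i).toHom = y ≫ (ψ i).toHom) → x = y := by
  haveI : IsLocallyNoetherian X.left := LocallyOfFiniteType.isLocallyNoetherian X.hom
  haveI : CompactSpace X.left := by
    have : QuasiCompact X.hom := inferInstance
    exact (quasiCompact_iff_compactSpace (f := X.hom)).mp this
  haveI : AlgebraicGeometry.IsNoetherian X.left := {}
  haveI : IsClosedImmersion η[A].left :=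
    (Groth.Agent.Helper18.GrpSchOm.isSeparated_iff A).mp inferInstance
  obtain ⟨n, ψ, hψ, hmono⟩ := Groth.Agent.Helper18.AVJointMono.exists_finite_jointly_mono
    (X := X) (A := A) (Set.range (fun φ : EndAV.Hom X A => φ.toHom))
    (by rintro _ ⟨φ, rfl⟩; infer_instance)
    (fun T x hx => hsep T x (fun f => hx _ ⟨f, rfl⟩))
  choose φ hφ using hψ
  refine ⟨n, φ, fun T x y hxy => hmono T x y (fun i => ?_)⟩
  have h1 : (φ i).toHom = ψ i := hφ i
  rw [← h1]
  exact hxy i

end Groth.Agent.S16394
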