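import Groth.Statements.S16396
import Mathlib.Tactic.FieldSimp
import Mathlib.Tactic.Ring
import Mathlib.Algebra.Polynomial.Degree.Lemmas

set_option autoImplicit false
universe u
open CAlg

namespace Groth.Agent.S16396

open Polynomial in
/-- the constant term of an element of `B` is in `B`. -/
theorem const_mem (A : Type u) [CommRing A] [Algebra ℚ A] (B : Subalgebra ℚ A[X])
    (hX : (X : A[X]) ∈ B) (hD : ∀ P ∈ B, Polynomial.derivative P ∈ B) :
    ∀ (n : ℕ) (Q : A[X]), Q ∈ B → Q.natDegree ≤ n → C (Q.coeff 0) ∈ B := by
  intro n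
  induction n with
  | zero =>
    intro Q hQ hdeg
    have : Q = C (Q.coeff 0) := Polynomial.eq_C_of_natDegree_le_zero hdeg
    rw [← this]; exact hQ
  | succ n ih =>
    intro Q hQ hdeg
    let Q' : A[X] := Q - ((1 : ℚ) / ((n : ℚ) + 1)) • (X * Polynomial.derivative Q)
    have hQ' : Q' ∈ B := B.sub_mem hQ (B.smul_mem (B.mul_mem hX (hD Q hQ)) _)
    have hcoeff : ∀ i, Q'.coeff i = Q.coeff i - ((1 : ℚ) / ((n : ℚ) + 1)) • ((i : A) * Q.coeff i) := by
      intro i
      simp only [Q', coeff_sub, coeff_smul]
      congr 2
      cases i with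
      | zero => simp
      | succ i =>
        rw [coeff_X_mul, coeff_derivative]
        push_cast
        ring
    have hdeg' : Q'.natDegree ≤ n := by
      rw [Polynomial.natDegree_le_iff_coeff_eq_zero]
      intro i hi
      rw [hcoeff]
      by_cases hi' : i = n + 1
      · subst hi'
        have h1 : ((1 : ℚ) / ((n : ℚ) + 1)) • (((n + 1 : ℕ) : A) * Q.coeff (n + 1)) = Q.coeff (n + 1) := by
          have h2 : (((n + 1 : ℕ) : A) * Q.coeff (n + 1)) = ((n : ℚ) + 1) • Q.coeff (n + 1) := by
            rw [Algebra.smul_def]
            congr 1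
            simp
          rw [h2, smul_smul]
          have : (1 : ℚ) / ((n : ℚ) + 1) * ((n : ℚ) + 1) = 1 := by
            field_simp
          rw [this, one_smul]
        rw [h1, sub_self]
      · have : Q.coeff i = 0 := Polynomial.coeff_eq_zero_of_natDegree_lt (by omega)
        rw [this]; simp
    have h0 : Q'.coeff 0 = Q.coeff 0 := by
      rw [hcoeff]; simp
    rw [← h0]
    exact ih Q' hQ' hdeg'

open Polynomial in
/-- For a commutative ℚ-algebra A, a ℚ-subalgebra B of the polynomial algebra A[X] that contains X and
is closed under d/dX consists exactly of the polynomials each of whose coefficients is the value at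
0 of some element of B; in other words B = ev(B)[X], with ev the evaluation at 0. -/
theorem result
    (A : Type u) [CommRing A] [Algebra ℚ A] (B : Subalgebra ℚ A[X])
    (hX : (X : A[X]) ∈ B) (hD : ∀ P ∈ B, Polynomial.derivative P ∈ B) (P : A[X]) :
    P ∈ B ↔ ∀ i : ℕ, ∃ Q ∈ B, Polynomial.eval 0 Q = P.coeff i := by
  constructor
  · intro hP i
    refine ⟨((1 : ℚ) / (i.factorial : ℚ)) • (Polynomial.derivative^[i] P), ?_, ?_⟩
    · apply B.smul_mem
      have : ∀ k, Polynomial.derivative^[k] P ∈ B := by
        intro k
        induction k with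
        | zero => exact hP
        | succ k ih => rw [Function.iterate_succ_apply']; exact hD _ ih
      exact this i
    · rw [← Polynomial.coeff_zero_eq_eval_zero, Polynomial.coeff_smul, Polynomial.coeff_iterate_derivative,
        zero_add, Nat.descFactorial_self]
      rw [nsmul_eq_mul]
      have h2 : ((i.factorial : A) * P.coeff i) = (i.factorial : ℚ) • P.coeff i := by
        rw [Algebra.smul_def]
        congr 1
        simp
      rw [h2, smul_smul]
      have : (1 : ℚ) / (i.factorial : ℚ) * (i.factorial : ℚ) = 1 := by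
        have : (i.factorial : ℚ) ≠ 0 := by exact_mod_cast i.factorial_ne_zero
        field_simp
      rw [this, one_smul]
  · intro h
    rw [Polynomial.as_sum_range_C_mul_X_pow P]
    refine B.sum_mem fun i _ => ?_
    obtain ⟨Q, hQ, hQe⟩ := h i
    refine B.mul_mem ?_ (B.pow_mem hX i)
    rw [← hQe, ← Polynomial.coeff_zero_eq_eval_zero]
    exact const_mem A B hX hD Q.natDegree Q hQ le_rfl

end Groth.Agent.S16396
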