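import Groth.Statements.S16397
import Groth.Agent.Lib.Helper20.TautJ4

set_option autoImplicit false
open W4c3tautjacobian

namespace Groth.Agent.S16397


theorem result
    (g : ℕ) (hg : 1 ≤ g) (n : ℕ) (β : W4c3tautjacobian.RelRing g)
    (hβ : MvPolynomial.IsWeightedHomogeneous (W4c3tautjacobian.wt g) β ((2 * g, n) : ℕ × ℕ)) :
    (W4c3tautjacobian.F g)^[g + 1] (W4c3tautjacobian.E g β) = 0 := by
  have h1 := Groth.Agent.Helper20.TautJ.isWH_w1_of_isWH_wt g hβ
  exact Groth.Agent.Helper20.TautJ.main g hg (by simpa using h1)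

end Groth.Agent.S16397
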