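import Groth.Statements.S16398
import Groth.Agent.Lib.Helper20.TautJ6

set_option autoImplicit false
open W4c3tautjacobian

namespace Groth.Agent.S16398


theorem result
    (g : ℕ) (hg : 1 ≤ g) (n : ℕ) (hn : 3 * n ≤ 2 * g) (P : W4c3tautjacobian.RelRing g)
    (hP : P ∈ W4c3tautjacobian.relIdeal g)
    (hhom : MvPolynomial.IsWeightedHomogeneous (W4c3tautjacobian.wt g) P ((0, n) : ℕ × ℕ)) :
    P = 0 := by
  exact Groth.Agent.Helper20.TautJ.eq_zero_of_mem_relIdeal g hg n hn P hP hhom

end Groth.Agent.S16398
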