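import Groth.Statements.S16399
import Groth.Agent.Lib.Helper20.TautJ10

set_option autoImplicit false
open W4c3tautjacobian

namespace Groth.Agent.S16399


theorem result
    (g : ℕ) (hg : 1 ≤ g) (i : ℕ) :
    ∃ q ∈ Algebra.adjoin ℚ (W4c3tautjacobian.lowGens g),
      W4c3tautjacobian.xv g 0 (2 * (i : ℤ)) - q ∈ W4c3tautjacobian.relIdeal g := by
  exact (Groth.Agent.Helper20.TautJ.mem_Bsub g).mp (Groth.Agent.Helper20.TautJ.xv_mem_Bsub g i)

end Groth.Agent.S16399
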