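import Groth.Statements.S16400
import Mathlib.LinearAlgebra.Matrix.Rank
import Mathlib.LinearAlgebra.LinearIndependent.Lemmas
import Mathlib.LinearAlgebra.FiniteDimensional.Basic

set_option autoImplicit false
universe u v
open CAlgX

namespace Groth.Agent.S16400

theorem L1' {K : Type u} [Field K] {R : Type*} {C : Type*} [Fintype R] [Fintype C] [DecidableEq C]
    (M : Matrix R C K) :
    ∃ S : Finset C, Function.Injective (M.submatrix id (Subtype.val : ↥S → C)).mulVecLin ∧
      LinearMap.range (M.submatrix id (Subtype.val : ↥S → C)).mulVecLin =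
        LinearMap.range M.mulVecLin := by
  classical
  obtain ⟨b, -, -, hsp, hli⟩ := exists_linearIndepOn_extension (K := K) (v := M.col)
    (s := (∅ : Set C)) (t := Set.univ) (linearIndepOn_empty _ _) (Set.empty_subset _)
  have hS : ((b.toFinset : Finset C) : Set C) = b := Set.coe_toFinset b
  have hli' : LinearIndepOn K M.col ((b.toFinset : Finset C) : Set C) := by rw [hS]; exact hli
  have hli'' : LinearIndependent K (fun j : ↥(b.toFinset) => M.col j.val) := hli'
  refine ⟨b.toFinset, ?_, ?_⟩
  · rw [← LinearMap.ker_eq_bot, LinearMap.ker_eq_bot']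
    intro x hx
    rw [Matrix.mulVecLin_apply, Matrix.mulVec_eq_sum] at hx
    have h2 := Fintype.linearIndependent_iff.mp hli'' x
    funext j
    apply h2
    rw [← hx]
    apply Finset.sum_congr rfl
    intro j _
    rw [op_smul_eq_smul]
    rfl
  · rw [Matrix.range_mulVecLin, Matrix.range_mulVecLin]
    apply le_antisymm
    · apply Submodule.span_mono
      rintro _ ⟨j, rfl⟩
      exact ⟨j.val, rfl⟩
    · rw [Submodule.span_le]
      rintro _ ⟨j, rfl⟩
      have h3 := hsp ⟨j, Set.mem_univ _, rfl⟩
      refine Submodule.span_mono ?_ h3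
      rintro _ ⟨i, hi, rfl⟩
      exact ⟨⟨i, by rw [Set.mem_toFinset]; exact hi⟩, rfl⟩

theorem L1 {K : Type u} [Field K] {R : Type*} {C : Type*} [Fintype R] [Fintype C] [DecidableEq C]
    (M : Matrix R C K) (h : Function.Surjective M.mulVecLin) :
    ∃ S : Finset C, Function.Bijective (M.submatrix id (Subtype.val : ↥S → C)).mulVecLin := by
  obtain ⟨S, hinj, hr⟩ := L1' M
  refine ⟨S, hinj, ?_⟩
  rw [← LinearMap.range_eq_top, hr, LinearMap.range_eq_top]
  exact h

theorem L2 {K : Type u} [Field K] {R : Type*} {C : Type*} [Fintype R] [Fintype C] [DecidableEq C]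
    [DecidableEq R]
    (M : Matrix R C K) (h : Function.Injective M.mulVecLin) :
    ∃ S : Finset R, Function.Bijective (M.submatrix (Subtype.val : ↥S → R) id).mulVecLin := by
  have hrank : M.rank = Fintype.card C := by
    unfold Matrix.rank
    rw [LinearMap.finrank_range_of_inj h, Module.finrank_fintype_fun_eq_card]
  have hsurj : Function.Surjective (Matrix.mulVecLin M.transpose) := by
    rw [← LinearMap.range_eq_top]
    apply Submodule.eq_top_of_finrank_eq
    rw [Module.finrank_fintype_fun_eq_card, ← hrank, ← Matrix.rank_transpose M]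
    rfl
  obtain ⟨S, hS⟩ := L1 (Matrix.transpose M) hsurj
  refine ⟨S, ?_⟩
  have hcard : Fintype.card ↥S = Fintype.card C := by
    have e := LinearEquiv.ofBijective _ hS
    have := e.finrank_eq
    rwa [Module.finrank_fintype_fun_eq_card, Module.finrank_fintype_fun_eq_card] at this
  have hrankN : (M.transpose.submatrix id (Subtype.val : ↥S → R)).rank = Fintype.card C := by
    unfold Matrix.rank
    rw [LinearMap.range_eq_top.mpr hS.2, finrank_top, Module.finrank_fintype_fun_eq_card]
  have hT : (M.transpose.submatrix id (Subtype.val : ↥S → R)).transpose = M.submatrix (Subtype.val : ↥S → R) id := by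
    rw [Matrix.transpose_submatrix, Matrix.transpose_transpose]
  have hs2 : Function.Surjective (M.submatrix (Subtype.val : ↥S → R) id).mulVecLin := by
    rw [← LinearMap.range_eq_top]
    apply Submodule.eq_top_of_finrank_eq
    rw [Module.finrank_fintype_fun_eq_card, hcard, ← hrankN, ← Matrix.rank_transpose, hT]
    rfl
  have hdim : Module.finrank K (C → K) = Module.finrank K (↥S → K) := by
    rw [Module.finrank_fintype_fun_eq_card, Module.finrank_fintype_fun_eq_card, hcard]
  exact ⟨(LinearMap.injective_iff_surjective_of_finrank_eq_finrank hdim).mpr hs2, hs2⟩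

/-- Let K be a field, N a finite index set and A a square matrix over K indexed by N whose linear map on
column vectors has kernel equal to its range (so A composed with A is zero and the three-term
sequence it defines is exact in the middle). Then there are subsets N₁₂, N₂₁, N₃₁ of N such that the
block of A with rows in N₃₁ and columns in N₂₁, and the block of A with rows outside N₂₁ and columns
in N₁₂, both act bijectively on column vectors. (In the original setting K is the prime field and
middle exactness is supplied by the Cartier isomorphism; here exactness is the hypothesis and K is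
any field.) -/
theorem result
    {K : Type u} [Field K] {N : Type v} [Fintype N] [DecidableEq N]
    (A : Matrix N N K)
    (hA : LinearMap.ker A.mulVecLin = LinearMap.range A.mulVecLin) :
    ∃ N₁₂ N₂₁ N₃₁ : Finset N,
      Function.Bijective (A.submatrix (Subtype.val : ↥N₃₁ → N) (Subtype.val : ↥N₂₁ → N)).mulVecLin ∧
      Function.Bijective
        (A.submatrix (Subtype.val : {x : N // x ∉ N₂₁} → N) (Subtype.val : ↥N₁₂ → N)).mulVecLin := by
  classical
  obtain ⟨N₂₁, hinj, hrange⟩ := L1' A
  obtain ⟨N₃₁, h1⟩ := L2 (A.submatrix id (Subtype.val : ↥N₂₁ → N)) hinj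
  -- key vanishing statement
  have key : ∀ x : ↥N₂₁ → K,
      (∀ i : N, i ∉ N₂₁ → (A.submatrix id (Subtype.val : ↥N₂₁ → N)).mulVecLin x i = 0) → x = 0 := by
    intro x hx
    set w := (A.submatrix id (Subtype.val : ↥N₂₁ → N)).mulVecLin x with hw
    have hwr : w ∈ LinearMap.range A.mulVecLin := by
      rw [← hrange]; exact ⟨x, rfl⟩
    have hwk : A.mulVecLin w = 0 := by
      rw [← hA] at hwr; exact hwr
    have h2 : (A.submatrix id (Subtype.val : ↥N₂₁ → N)).mulVecLin (fun j => w j.val) = 0 := by
      rw [← hwk]
      funext i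
      simp only [Matrix.mulVecLin_apply, Matrix.mulVec, dotProduct, Matrix.submatrix_apply, id]
      rw [Finset.sum_coe_sort N₂₁ (fun j => A i j * w j)]
      apply Finset.sum_subset (Finset.subset_univ _)
      intro j _ hj
      rw [hx j hj, mul_zero]
    have h3 : (fun j : ↥N₂₁ => w j.val) = 0 := by
      apply hinj
      rw [h2, map_zero]
    have hw0 : w = 0 := by
      funext i
      by_cases hi : i ∈ N₂₁
      · exact congrFun h3 ⟨i, hi⟩
      · exact hx i hi
    apply hinj
    rw [← hw, hw0, map_zero]
  -- dimension count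
  have hcard : Fintype.card N = N₂₁.card + N₂₁.card := by
    have h4 := LinearMap.finrank_range_add_finrank_ker A.mulVecLin
    rw [hA, ← hrange, LinearMap.finrank_range_of_inj hinj, Module.finrank_fintype_fun_eq_card,
      Module.finrank_fintype_fun_eq_card, Fintype.card_coe] at h4
    exact h4.symm
  have hcard2 : Fintype.card {x : N // x ∉ N₂₁} = N₂₁.card := by
    rw [Fintype.card_subtype_compl, Fintype.card_coe, hcard]
    omega
  -- the composite
  let π : (N → K) →ₗ[K] ({x : N // x ∉ N₂₁} → K) := LinearMap.funLeft K K Subtype.val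
  let g : (↥N₂₁ → K) →ₗ[K] ({x : N // x ∉ N₂₁} → K) :=
    π ∘ₗ (A.submatrix id (Subtype.val : ↥N₂₁ → N)).mulVecLin
  have hginj : Function.Injective g := by
    rw [← LinearMap.ker_eq_bot, LinearMap.ker_eq_bot']
    intro x hx
    apply key
    intro i hi
    exact congrFun hx ⟨i, hi⟩
  have hdim : Module.finrank K (↥N₂₁ → K) = Module.finrank K ({x : N // x ∉ N₂₁} → K) := by
    rw [Module.finrank_fintype_fun_eq_card, Module.finrank_fintype_fun_eq_card, hcard2,
      Fintype.card_coe]
  have hgsurj : Function.Surjective g :=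
    (LinearMap.injective_iff_surjective_of_finrank_eq_finrank hdim).mp hginj
  have hBsurj : Function.Surjective
      (A.submatrix (Subtype.val : {x : N // x ∉ N₂₁} → N) id).mulVecLin := by
    intro y
    obtain ⟨x, rfl⟩ := hgsurj y
    have : (A.submatrix id (Subtype.val : ↥N₂₁ → N)).mulVecLin x ∈ LinearMap.range A.mulVecLin := by
      rw [← hrange]; exact ⟨x, rfl⟩
    obtain ⟨u, hu⟩ := this
    refine ⟨u, ?_⟩
    show _ = π ((A.submatrix id (Subtype.val : ↥N₂₁ → N)).mulVecLin x)
    rw [← hu]
    rfl
  obtain ⟨N₁₂, h2⟩ := L1 _ hBsurj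
  exact ⟨N₁₂, N₂₁, N₃₁, h1, h2⟩

end Groth.Agent.S16400
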