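import Groth.Statements.S16401

set_option autoImplicit false
universe u v
open CAlgX

namespace Groth.Agent.S16401

section
variable {R : Type u} [CommRing R] {ι : Type v} [AddCommGroup ι]
    (E : ι → AddSubgroup R) (h0 : E 0 = ⊤)
    (hmul : ∀ a b : ι, ∀ x ∈ E a, ∀ y ∈ E b, x * y ∈ E (a + b))

include h0 hmul in
theorem prod_mem {κ : Type*} [DecidableEq κ] (s : Finset κ) (a : κ → ι) (x : κ → R)
    (hx : ∀ k ∈ s, x k ∈ E (a k)) : ∏ k ∈ s, x k ∈ E (∑ k ∈ s, a k) := by
  induction s using Finset.induction_on with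
  | empty => simp [h0]
  | insert k s hk ih =>
    rw [Finset.prod_insert hk, Finset.sum_insert hk]
    exact hmul _ _ _ (hx k (Finset.mem_insert_self k s)) _
      (ih fun k' hk' => hx k' (Finset.mem_insert_of_mem hk'))

include h0 hmul in
theorem sum_mul_mem {r : ℕ} (c : ι) (a : Fin r → ι) (M : Fin r → R) (u : Fin r → R)
    (hM : ∀ j, M j ∈ E (c - a j)) (hu : ∀ j, u j ∈ E (a j)) : ∑ j, M j * u j ∈ E c := by
  refine (E c).sum_mem fun j _ => ?_
  have := hmul _ _ _ (hM j) _ (hu j)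
  rwa [sub_add_cancel] at this

include h0 hmul in
theorem adjugate_mem {r : ℕ} (wβ wγ : Fin r → ι) (hsum : ∑ j, wβ j = ∑ i, wγ i)
    (ϑ : Matrix (Fin r) (Fin r) R) (hϑ : ∀ i j, ϑ i j ∈ E (wγ i - wβ j)) (i j : Fin r) :
    ϑ.adjugate i j ∈ E (wβ i - wγ j) := by
  classical
  rw [Matrix.adjugate_apply, Matrix.det_apply]
  refine (E _).sum_mem fun σ _ => ?_
  refine (E _).zsmul_mem ?_ _
  by_cases hσ : σ i = j
  · -- the product
    have h1 : ∏ k, (ϑ.updateRow j (Pi.single i 1)) (σ k) k =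
        ∏ k ∈ Finset.univ.erase i, ϑ (σ k) k := by
      rw [← Finset.mul_prod_erase Finset.univ _ (Finset.mem_univ i)]
      have : (ϑ.updateRow j (Pi.single i 1)) (σ i) i = 1 := by
        rw [hσ, Matrix.updateRow_self, Pi.single_eq_same]
      rw [this, one_mul]
      refine Finset.prod_congr rfl fun k hk => ?_
      have hk' : k ≠ i := Finset.ne_of_mem_erase hk
      have : σ k ≠ j := by
        intro h
        apply hk'
        apply σ.injective
        rw [h, hσ]
      rw [Matrix.updateRow_ne this]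
    rw [h1]
    have h2 := prod_mem E h0 hmul (Finset.univ.erase i) (fun k => wγ (σ k) - wβ k)
      (fun k => ϑ (σ k) k) (fun k _ => hϑ (σ k) k)
    have h3 : ∑ k ∈ Finset.univ.erase i, (wγ (σ k) - wβ k) = wβ i - wγ j := by
      have e1 : ∑ k ∈ Finset.univ.erase i, (wγ (σ k) - wβ k) =
          ∑ k, (wγ (σ k) - wβ k) - (wγ (σ i) - wβ i) := by
        rw [← Finset.add_sum_erase Finset.univ _ (Finset.mem_univ i)]
        abel
      rw [e1, Finset.sum_sub_distrib, Equiv.sum_comp σ wγ, hsum, hσ]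
      abel
    rw [h3] at h2
    exact h2
  · -- product is zero
    have : ∏ k, (ϑ.updateRow j (Pi.single i 1)) (σ k) k = 0 := by
      apply Finset.prod_eq_zero (Finset.mem_univ (σ.symm j))
      rw [Equiv.apply_symm_apply, Matrix.updateRow_self, Pi.single_apply, if_neg]
      intro h
      apply hσ
      rw [← h, Equiv.apply_symm_apply]
    rw [this]
    exact (E _).zero_mem

end

/-- Let R be a commutative ring and (E_a), a ∈ ι, a family of additive subgroups of R indexed by an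
additive commutative group ι, with E_0 = R and E_a · E_b ⊆ E_{a+b}. Let β, γ : Fin r → ι be weight
vectors with Σ_j β_j = Σ_i γ_i, and let ϑ be an r × r matrix over R with ϑ_{ij} ∈ E_{γ_i − β_j} for
all i, j and with unit determinant. Then a column vector u satisfies u_j ∈ E_{β_j} for every j if
and only if (ϑ u)_i ∈ E_{γ_i} for every i; since ϑ is invertible this says that ϑ maps the box Π_j
E_{β_j} bijectively onto the box Π_i E_{γ_i}. -/
theorem result
    {R : Type u} [CommRing R] {ι : Type v} [AddCommGroup ι]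
    (E : ι → AddSubgroup R) (h0 : E 0 = ⊤)
    (hmul : ∀ a b : ι, ∀ x ∈ E a, ∀ y ∈ E b, x * y ∈ E (a + b))
    {r : ℕ} (wβ wγ : Fin r → ι) (hsum : ∑ j, wβ j = ∑ i, wγ i)
    (ϑ : Matrix (Fin r) (Fin r) R) (hϑ : ∀ i j, ϑ i j ∈ E (wγ i - wβ j))
    (hdet : IsUnit ϑ.det) (u : Fin r → R) :
    (∀ j, u j ∈ E (wβ j)) ↔ ∀ i, ϑ.mulVec u i ∈ E (wγ i) := by
  constructor
  · intro hu i
    rw [Matrix.mulVec, dotProduct]
    exact sum_mul_mem E h0 hmul (wγ i) wβ (fun j => ϑ i j) u (fun j => hϑ i j) hu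
  · intro hv j
    obtain ⟨d, hd⟩ := hdet
    have hinv : (↑d⁻¹ : R) * ϑ.det = 1 := by rw [← hd]; exact d.inv_mul
    have h1 : u = (↑d⁻¹ : R) • ϑ.adjugate.mulVec (ϑ.mulVec u) := by
      rw [Matrix.mulVec_mulVec, Matrix.adjugate_mul, Matrix.smul_mulVec, Matrix.one_mulVec,
        smul_smul, hinv, one_smul]
    rw [h1, Pi.smul_apply, smul_eq_mul]
    have h2 : ϑ.adjugate.mulVec (ϑ.mulVec u) j ∈ E (wβ j) := by
      rw [Matrix.mulVec, dotProduct]
      exact sum_mul_mem E h0 hmul (wβ j) wγ (fun i => ϑ.adjugate j i) (ϑ.mulVec u)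
        (fun i => adjugate_mem E h0 hmul wβ wγ hsum ϑ hϑ j i) hv
    have h3 := hmul 0 (wβ j) (↑d⁻¹ : R) (by rw [h0]; trivial) _ h2
    rwa [zero_add] at h3

end Groth.Agent.S16401
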