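import Groth.Statements.S16404
import Groth.Agent.Lib.Helper24.ArtinMono

set_option autoImplicit false
universe u
open SymBasis

namespace Groth.Agent.S16404

open Groth.Agent.Helper13.Artin Groth.Agent.Helper24.ArtinMono

/-- `z` is congruent modulo `I` to a combination of the basis monomials with coefficients in `J` -/
def PJ {R : Type u} [CommRing R] (n : ℕ) (a : Fin n → R) (J : Ideal R)
    (z : MvPolynomial (Fin n) R) : Prop :=
  ∃ j : Idx n → R, (∀ d, j d ∈ J) ∧
    z - (∑ d : Idx n, MvPolynomial.C (j d) * mono R n d) ∈ Ia R n a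

theorem PJ_of_mem {R : Type u} [CommRing R] (n : ℕ) (a : Fin n → R) (J : Ideal R)
    (z : MvPolynomial (Fin n) R) (hz : z ∈ Ia R n a) : PJ n a J z := by
  refine ⟨fun _ => 0, fun _ => J.zero_mem, ?_⟩
  simpa using hz

theorem PJ_add {R : Type u} [CommRing R] (n : ℕ) (a : Fin n → R) (J : Ideal R)
    (z w : MvPolynomial (Fin n) R) (hz : PJ n a J z) (hw : PJ n a J w) : PJ n a J (z + w) := by
  obtain ⟨j, hj, h1⟩ := hz
  obtain ⟨j', hj', h2⟩ := hw
  refine ⟨fun d => j d + j' d, fun d => J.add_mem (hj d) (hj' d), ?_⟩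
  have : z + w - ∑ d : Idx n, MvPolynomial.C (j d + j' d) * mono R n d =
      (z - ∑ d : Idx n, MvPolynomial.C (j d) * mono R n d) +
        (w - ∑ d : Idx n, MvPolynomial.C (j' d) * mono R n d) := by
    simp only [map_add, add_mul, Finset.sum_add_distrib]
    ring
  rw [this]
  exact Ideal.add_mem _ h1 h2

theorem PJ_mul {R : Type u} [CommRing R] (n : ℕ) (a : Fin n → R) (J : Ideal R)
    (g : MvPolynomial (Fin n) R) (c₀ : R) (hc : c₀ ∈ J) : PJ n a J (g * MvPolynomial.C c₀) := by
  obtain ⟨γ, hγ⟩ := (quot_bijective R n a (mono R n) (monoBasis R n)).2 (Ideal.Quotient.mk _ g)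
  simp only at hγ
  rw [Ideal.Quotient.eq] at hγ
  refine ⟨fun d => c₀ * γ d, fun d => J.mul_mem_right _ hc, ?_⟩
  have : g * MvPolynomial.C c₀ - ∑ d : Idx n, MvPolynomial.C (c₀ * γ d) * mono R n d =
      -(MvPolynomial.C c₀) * ((∑ d : Idx n, MvPolynomial.C (γ d) * mono R n d) - g) := by
    simp only [map_mul, Finset.mul_sum]
    rw [mul_sub, Finset.mul_sum]
    have : ∀ d : Idx n, -MvPolynomial.C c₀ * (MvPolynomial.C (γ d) * mono R n d) =
        -(MvPolynomial.C c₀ * MvPolynomial.C (γ d) * mono R n d) := fun d => by ring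
    simp only [this, Finset.sum_neg_distrib]
    ring
  rw [this]
  exact Ideal.mul_mem_left _ _ hγ

theorem PJ_of_mem_map {R : Type u} [CommRing R] (n : ℕ) (a : Fin n → R) (J : Ideal R)
    (z : MvPolynomial (Fin n) R)
    (hz : z ∈ Ideal.map (MvPolynomial.C : R →+* MvPolynomial (Fin n) R) J) : PJ n a J z := by
  classical
  unfold Ideal.map at hz
  obtain ⟨f, t, ht, -, rfl⟩ := Submodule.mem_span_iff_exists_finset_subset.mp hz
  apply Finset.sum_induction _ (PJ n a J) (PJ_add n a J)
  · exact PJ_of_mem n a J 0 (Ideal.zero_mem _)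
  · intro s hs
    obtain ⟨c₀, hc₀, rfl⟩ := ht hs
    rw [smul_eq_mul]
    exact PJ_mul n a J _ c₀ hc₀

theorem main_iff {R : Type u} [CommRing R] (n : ℕ) (a : Fin n → R) (J : Ideal R)
    (x : MvPolynomial (Fin n) R) :
    x ∈ Ia R n a ⊔ Ideal.map (MvPolynomial.C : R →+* MvPolynomial (Fin n) R) J ↔ PJ n a J x := by
  constructor
  · intro hx
    obtain ⟨y, hy, z, hz, rfl⟩ := Submodule.mem_sup.mp hx
    exact PJ_add n a J y z (PJ_of_mem n a J y hy) (PJ_of_mem_map n a J z hz)
  · rintro ⟨j, hj, h⟩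
    have : x = (x - ∑ d : Idx n, MvPolynomial.C (j d) * mono R n d) +
        ∑ d : Idx n, MvPolynomial.C (j d) * mono R n d := by ring
    rw [this]
    refine Submodule.add_mem _ (Submodule.mem_sup_left h) (Submodule.mem_sup_right ?_)
    apply Ideal.sum_mem
    intro d _
    exact Ideal.mul_mem_right _ _ (Ideal.mem_map_of_mem _ (hj d))

/-- Let R be a commutative ring and a_1, …, a_n ∈ R with n ≥ 2; write I for the ideal of R[t_1, …, t_n]
generated by the elements e_i(t) − a_i (e_i the i-th elementary symmetric polynomial), so that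
R[t_1, …, t_n]/I is the base change R ⊗ ℤ[t_1, …, t_n] over ℤ[c_1, …, c_n] (c_i ↦ a_i on one side,
c_i ↦ e_i(t) on the other). For an ideal J of R, a polynomial x lies in I + J·R[t], i.e. its class
lies in the extension of J to R[t]/I, if and only if x ≡ Σ_d j_d t^d mod I for some family (j_d) of
elements of J indexed by the exponent vectors d with 0 ≤ d_i ≤ n − i. With the companion uniqueness
statement this says the extension of J is the direct sum of the submodules t^d · J. The published
statement takes R positively graded over ℤ[c_1, …, c_n]; this row takes any commutative ring R with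
chosen elements a_1, …, a_n. -/
theorem result {R : Type u} [CommRing R] (n : ℕ) (hn : 2 ≤ n)
    (a : Fin n → R) (J : Ideal R) (x : MvPolynomial (Fin n) R) :
    x ∈ Ideal.span (Set.range fun i : Fin n => MvPolynomial.esymm (Fin n) R ((i : ℕ) + 1) - MvPolynomial.C (a i))
        ⊔ Ideal.map (MvPolynomial.C : R →+* MvPolynomial (Fin n) R) J
    ↔ ∃ j : (Π i : Fin n, Fin (n - (i : ℕ))) → R, (∀ d : (Π i : Fin n, Fin (n - (i : ℕ))), j d ∈ J) ∧
        x - (∑ d : (Π i : Fin n, Fin (n - (i : ℕ))), MvPolynomial.C (j d) * ∏ i : Fin n, MvPolynomial.X i ^ ((d i : ℕ)))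
          ∈ Ideal.span (Set.range fun i : Fin n => MvPolynomial.esymm (Fin n) R ((i : ℕ) + 1) - MvPolynomial.C (a i)) := by
  exact main_iff n a J x

end Groth.Agent.S16404
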