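import Groth.Statements.S16405
import Mathlib.Algebra.MonoidAlgebra.MapDomain
import Mathlib.Data.Finsupp.Basic
import Mathlib.Algebra.BigOperators.Finsupp.Basic

set_option autoImplicit false
universe u v
open InvQ

namespace Groth.Agent.S16405

theorem finsupp_bijOn {α β M : Type*} [AddCommMonoid M] (f : α → β) (S : Set α) (T : Set β)
    (hbij : Set.BijOn f S T) :
    Set.BijOn (Finsupp.mapDomain (M := M) f) {x : α →₀ M | (x.support : Set α) ⊆ S}
      {y : β →₀ M | (y.support : Set β) ⊆ T} := by
  classical
  refine ⟨?_, ?_, ?_⟩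
  · intro x hx
    simp only [Set.mem_setOf_eq] at hx ⊢
    intro b hb
    have := Finsupp.mapDomain_support hb
    rw [Finset.mem_image] at this
    obtain ⟨a, ha, rfl⟩ := this
    exact hbij.mapsTo (hx ha)
  · exact Finsupp.mapDomain_injOn S hbij.injOn
  · intro y hy
    simp only [Set.mem_setOf_eq] at hy
    have hch : ∀ b : y.support, ∃ a ∈ S, f a = b.1 := fun b => hbij.surjOn (hy b.2)
    choose g hgS hgf using hch
    refine ⟨∑ b ∈ y.support.attach, Finsupp.single (g b) (y b.1), ?_, ?_⟩
    · simp only [Set.mem_setOf_eq]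
      intro a ha
      have h1 := Finsupp.support_finset_sum (s := y.support.attach)
        (f := fun b => Finsupp.single (g b) (y b.1)) ha
      rw [Finset.mem_biUnion] at h1
      obtain ⟨b, _, hb⟩ := h1
      have h2 := Finsupp.support_single_subset hb
      rw [Finset.mem_singleton] at h2
      rw [h2]
      exact hgS b
    · rw [Finsupp.mapDomain_finset_sum]
      simp only [Finsupp.mapDomain_single, hgf]
      rw [Finset.sum_attach y.support (fun b => Finsupp.single b (y b))]
      exact Finsupp.sum_single y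

/-- In weight form. Let b : L → ℤ^r be an injective homomorphism of abelian groups (the case in view: L
the character group of a maximal torus T of a semisimple group over ℂ and b the map dual to the
surjection of the rank-r split torus T' onto T that sends the i-th coordinate cocharacter to the
primitive generator of the i-th ray of the Weyl chamber; only the injectivity of b is used, and ℂ is
replaced by any commutative ring k). Grade the monoid algebra k[L × ℕ^r] (the coordinate ring of T ×
𝔸^r) by ℤ^r, the monomial (w, n) having weight b(w) + n (the weights of the T'-action u·(t, v) =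
(b^∨(u) t, u v)), and grade k[ℕ^r] by ℤ^r/b(L), the monomial n having weight the class of n (the
weights of the action on 𝔸^r of the diagonalizable kernel Z of T' → T, a finite group in the case in
view). For a diagonalizable group acting on an affine scheme the ring of invariants is the
weight-zero part, so the two weight-zero parts are the coordinate rings of the quotients (T ×
𝔸^r)//T' and 𝔸^r//Z. The statement: the algebra map k[L × ℕ^r] → k[ℕ^r] induced by the projection L
× ℕ^r → ℕ^r (restriction to the slice 1 × 𝔸^r) maps the weight-zero part of k[L × ℕ^r] bijectively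
onto the weight-zero part of k[ℕ^r]; hence it induces an isomorphism of k-algebras between them. -/
theorem result
    (k : Type u) [CommRing k] (r : ℕ) (L : Type v) [AddCommGroup L]
    (b : L →+ (Fin r → ℤ)) (hb : Function.Injective b) :
    Set.BijOn
      (AddMonoidAlgebra.mapDomainAlgHom k k (AddMonoidHom.snd L (Fin r → ℕ)))
      (AddMonoidAlgebra.gradeBy k
        (b.comp (AddMonoidHom.fst L (Fin r → ℕ)) +
          (AddMonoidHom.compLeft (Nat.castAddMonoidHom ℤ) (Fin r)).comp (AddMonoidHom.snd L (Fin r → ℕ))) 0 :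
        Set (AddMonoidAlgebra k (L × (Fin r → ℕ))))
      (AddMonoidAlgebra.gradeBy k
        ((QuotientAddGroup.mk' b.range).comp (AddMonoidHom.compLeft (Nat.castAddMonoidHom ℤ) (Fin r))) 0 :
        Set (AddMonoidAlgebra k (Fin r → ℕ))) := by
  classical
  set F₁ : L × (Fin r → ℕ) →+ (Fin r → ℤ) := b.comp (AddMonoidHom.fst L (Fin r → ℕ)) +
          (AddMonoidHom.compLeft (Nat.castAddMonoidHom ℤ) (Fin r)).comp (AddMonoidHom.snd L (Fin r → ℕ)) with hF₁
  set F₂ : (Fin r → ℕ) →+ (Fin r → ℤ) ⧸ b.range :=
    (QuotientAddGroup.mk' b.range).comp (AddMonoidHom.compLeft (Nat.castAddMonoidHom ℤ) (Fin r)) with hF₂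
  have hF₁a : ∀ w n, F₁ (w, n) = b w + (AddMonoidHom.compLeft (Nat.castAddMonoidHom ℤ) (Fin r)) n := by
    intro w n
    rfl
  have hbij : Set.BijOn (Prod.snd : L × (Fin r → ℕ) → (Fin r → ℕ)) (F₁ ⁻¹' {0}) (F₂ ⁻¹' {0}) := by
    refine ⟨?_, ?_, ?_⟩
    · rintro ⟨w, n⟩ h
      simp only [Set.mem_preimage, Set.mem_singleton_iff] at h ⊢
      rw [hF₁a] at h
      rw [hF₂, AddMonoidHom.comp_apply, QuotientAddGroup.mk'_apply, QuotientAddGroup.eq_zero_iff]
      refine ⟨-w, ?_⟩
      rw [map_neg]
      exact neg_eq_of_add_eq_zero_right h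
    · rintro ⟨w, n⟩ h ⟨w', n'⟩ h' hnn
      simp only [Set.mem_preimage, Set.mem_singleton_iff] at h h'
      rw [hF₁a] at h h'
      simp only at hnn
      subst hnn
      have : b w = b w' := by
        have e1 := eq_neg_of_add_eq_zero_left h
        have e2 := eq_neg_of_add_eq_zero_left h'
        rw [e1, e2]
      rw [hb this]
    · intro n h
      simp only [Set.mem_preimage, Set.mem_singleton_iff] at h
      rw [hF₂, AddMonoidHom.comp_apply, QuotientAddGroup.mk'_apply, QuotientAddGroup.eq_zero_iff] at h
      obtain ⟨w, hw⟩ := h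
      refine ⟨(-w, n), ?_, rfl⟩
      simp only [Set.mem_preimage, Set.mem_singleton_iff]
      rw [hF₁a, map_neg, hw, neg_add_cancel]
  have key := finsupp_bijOn (M := k) Prod.snd _ _ hbij
  refine ⟨?_, ?_, ?_⟩
  · intro x hx
    have hx' : x.coeff ∈ {x : L × (Fin r → ℕ) →₀ k | (x.support : Set _) ⊆ F₁ ⁻¹' {0}} := hx
    exact key.mapsTo hx'
  · intro x hx y hy hxy
    have hx' : x.coeff ∈ {x : L × (Fin r → ℕ) →₀ k | (x.support : Set _) ⊆ F₁ ⁻¹' {0}} := hx
    have hy' : y.coeff ∈ {x : L × (Fin r → ℕ) →₀ k | (x.support : Set _) ⊆ F₁ ⁻¹' {0}} := hy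
    have h3 : Finsupp.mapDomain Prod.snd x.coeff = Finsupp.mapDomain Prod.snd y.coeff :=
      congrArg AddMonoidAlgebra.coeff hxy
    exact AddMonoidAlgebra.coeff_injective (key.injOn hx' hy' h3)
  · intro y hy
    have hy' : y.coeff ∈ {y : (Fin r → ℕ) →₀ k | (y.support : Set _) ⊆ F₂ ⁻¹' {0}} := hy
    obtain ⟨x, hx, hxy⟩ := key.surjOn hy'
    refine ⟨AddMonoidAlgebra.ofCoeff x, hx, ?_⟩
    apply AddMonoidAlgebra.coeff_injective
    exact hxy

end Groth.Agent.S16405
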