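import Groth.Statements.S16408
import Mathlib.CategoryTheory.Shift.Adjunction
import Mathlib.CategoryTheory.Adjunction.Additive

set_option autoImplicit false
universe v u
open CategoryTheory CategoryTheory.Limits CategoryTheory.Pretriangulated
open W4c3perfectstacks W4c3perfectstacks.MVSq

namespace Groth.Agent.S16408

section
open CategoryTheory CategoryTheory.Limits CategoryTheory.Pretriangulated

section A
variable {S S' : Type u} [Category.{v} S] [Category.{v} S']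
  [HasShift S ℤ] [HasShift S' ℤ]

/-- Any map `X⟦1⟧ ⟶ G Y` factors through the shift of the unit of the adjunction `F ⊣ G`, when `F`
commutes with shifts. -/
theorem factor_shift_unit {F : S ⥤ S'} {G : S' ⥤ S} (adj : F ⊣ G) [F.CommShift ℤ]
    (X : S) (Y : S') (s : X⟦(1 : ℤ)⟧ ⟶ G.obj Y) :
    ∃ s₂ : (G.obj (F.obj X))⟦(1 : ℤ)⟧ ⟶ G.obj Y, s = (adj.unit.app X)⟦(1 : ℤ)⟧' ≫ s₂ := by
  let E := (shiftEquiv S (1 : ℤ)).toAdjunction
  let c : (G.obj Y)⟦(-1 : ℤ)⟧ ≅ G.obj (Y⟦(-1 : ℤ)⟧) :=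
    ((Adjunction.RightAdjointCommShift.iso adj (-1 : ℤ)).app Y).symm
  let sb : X ⟶ (G.obj Y)⟦(-1 : ℤ)⟧ := E.homEquiv _ _ s
  let s' : F.obj X ⟶ Y⟦(-1 : ℤ)⟧ := (adj.homEquiv _ _).symm (sb ≫ c.hom)
  have h1 : sb ≫ c.hom = adj.unit.app X ≫ G.map s' := by
    have := (adj.homEquiv _ _).apply_symm_apply (sb ≫ c.hom)
    rw [Adjunction.homEquiv_unit] at this
    exact this.symm
  have h2 : sb = adj.unit.app X ≫ (G.map s' ≫ c.inv) := by
    rw [← Category.assoc, ← h1, Category.assoc, Iso.hom_inv_id, Category.comp_id]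
  refine ⟨(E.homEquiv _ _).symm (G.map s' ≫ c.inv), ?_⟩
  have h3 : s = (E.homEquiv _ _).symm sb := ((E.homEquiv _ _).symm_apply_apply s).symm
  rw [h3, h2]
  exact Adjunction.homEquiv_naturality_left_symm E (adj.unit.app X) (G.map s' ≫ c.inv)

end A

section B
variable {C : Type u} [Category.{v} C] [Preadditive C] [HasZeroObject C] [HasShift C ℤ]
  [∀ n : ℤ, (shiftFunctor C n).Additive] [Pretriangulated C]

theorem conn_natural (T₁ T₂ : Triangle C) (h₁ : T₁ ∈ distTriang C) (h₂ : T₂ ∈ distTriang C)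
    (φ : T₁.obj₁ ⟶ T₂.obj₁) (a : T₁.obj₂ ⟶ T₂.obj₂) (z : T₁.obj₃ ⟶ T₂.obj₃)
    (c1 : T₁.mor₁ ≫ a = φ ≫ T₂.mor₁) (c2 : T₁.mor₂ ≫ z = a ≫ T₂.mor₂)
    (hv : ∀ s : T₁.obj₁⟦(1 : ℤ)⟧ ⟶ T₂.obj₃, T₁.mor₃ ≫ s = 0) :
    T₁.mor₃ ≫ φ⟦(1 : ℤ)⟧' = z ≫ T₂.mor₃ := by
  obtain ⟨w, hw1, hw2⟩ := complete_distinguished_triangle_morphism T₁ T₂ h₁ h₂ φ a c1
  have h3 : T₁.mor₂ ≫ (w - z) = 0 := by
    rw [Preadditive.comp_sub, hw1, c2, sub_self]
  obtain ⟨s, hs⟩ := Triangle.yoneda_exact₃ T₁ h₁ (w - z) h3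
  have h7 : w - z = 0 := by rw [hs, hv]
  have h8 : w = z := sub_eq_zero.mp h7
  rw [← h8]
  exact hw2

theorem vanish_of_unit {S' : Type u} [Category.{v} S'] [HasShift S' ℤ]
    {F : C ⥤ S'} {G : S' ⥤ C} (adj : F ⊣ G) [F.CommShift ℤ]
    (T : Triangle C) (hT : T ∈ distTriang C) (Y : S') (b : T.obj₂ ⟶ G.obj (F.obj T.obj₁))
    (hb : T.mor₁ ≫ b = adj.unit.app T.obj₁) (s : T.obj₁⟦(1 : ℤ)⟧ ⟶ G.obj Y) :
    T.mor₃ ≫ s = 0 := by
  obtain ⟨s₂, rfl⟩ := factor_shift_unit adj T.obj₁ Y s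
  rw [← hb, Functor.map_comp, ← Category.assoc, ← Category.assoc,
    comp_distTriang_mor_zero₃₁ T hT, zero_comp, zero_comp]

end B

section D
variable {C : Type u} [Category.{v} C] [Preadditive C] [HasBinaryBiproducts C]

theorem lift_map_comm {X₁ X₂ A₁ B₁ A₂ B₂ : C} (a₁ : X₁ ⟶ A₁) (b₁ : X₁ ⟶ B₁) (a₂ : X₂ ⟶ A₂)
    (b₂ : X₂ ⟶ B₂) (φ : X₁ ⟶ X₂) (x : A₁ ⟶ A₂) (y : B₁ ⟶ B₂) (hx : a₁ ≫ x = φ ≫ a₂)
    (hy : b₁ ≫ y = φ ≫ b₂) : biprod.lift a₁ b₁ ≫ biprod.map x y = φ ≫ biprod.lift a₂ b₂ := by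
  apply biprod.hom_ext <;> simp [hx, hy]

theorem desc_map_comm {A₁ B₁ A₂ B₂ Z₁ Z₂ : C} (u₁ : A₁ ⟶ Z₁) (v₁ : B₁ ⟶ Z₁) (u₂ : A₂ ⟶ Z₂)
    (v₂ : B₂ ⟶ Z₂) (z : Z₁ ⟶ Z₂) (x : A₁ ⟶ A₂) (y : B₁ ⟶ B₂) (hx : u₁ ≫ z = x ≫ u₂)
    (hy : v₁ ≫ z = y ≫ v₂) : biprod.desc u₁ v₁ ≫ z = biprod.map x y ≫ biprod.desc u₂ v₂ := by
  apply biprod.hom_ext' <;> simp [hx, hy]

theorem neg_comm {A B A' B' : C} (f : A ⟶ B) (g : B ⟶ B') (h : A ⟶ A') (k : A' ⟶ B')
    (H : f ≫ g = h ≫ k) : (-f) ≫ g = h ≫ (-k) := by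
  rw [Preadditive.neg_comp, Preadditive.comp_neg, H]

theorem map2_comm {D E : Type u} [Category.{v} D] [Category.{v} E] (F : C ⥤ D) (G : D ⥤ E)
    {A B A' B' : C} (f : A ⟶ B) (g : B ⟶ B') (h : A ⟶ A') (k : A' ⟶ B')
    (H : f ≫ g = h ≫ k) : G.map (F.map f) ≫ G.map (F.map g) = G.map (F.map h) ≫ G.map (F.map k) := by
  rw [← Functor.map_comp, ← Functor.map_comp, H, Functor.map_comp, Functor.map_comp]

end D

end

/-- In a Mayer–Vietoris square of triangulated categories (single-square form), the connecting maps of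
the Mayer–Vietoris triangles are natural: for a morphism φ : N₁ ⟶ N₂ over X and connecting maps d₁,
d₂ making the two Mayer–Vietoris triangles (first map the two units, second map (unit of f at j_*
j^* N, minus f_* f^* of the unit of j)) distinguished, the square formed by d₁, d₂, φ⟦1⟧ and f_* f^*
j_* j^* φ commutes. (The four categories are taken in common universes.) -/
theorem result
    (S S' R R' : Type u) [Category.{v} S] [Category.{v} S'] [Category.{v} R] [Category.{v} R']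
    [Preadditive S] [Preadditive S'] [Preadditive R] [Preadditive R']
    [HasZeroObject S] [HasZeroObject S'] [HasZeroObject R] [HasZeroObject R']
    [HasShift S ℤ] [HasShift S' ℤ] [HasShift R ℤ] [HasShift R' ℤ]
    [∀ n : ℤ, (shiftFunctor S n).Additive] [∀ n : ℤ, (shiftFunctor S' n).Additive]
    [∀ n : ℤ, (shiftFunctor R n).Additive] [∀ n : ℤ, (shiftFunctor R' n).Additive]
    [Pretriangulated S] [Pretriangulated S'] [Pretriangulated R] [Pretriangulated R']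
    [IsTriangulated S] [IsTriangulated S'] [IsTriangulated R] [IsTriangulated R']
    (q : W4c3perfectstacks.MVSq S S' R R')
    [q.jst.CommShift ℤ] [q.fst.CommShift ℤ] [q.jpst.CommShift ℤ] [q.gst.CommShift ℤ]
    [q.jst.IsTriangulated] [q.fst.IsTriangulated] [q.jpst.IsTriangulated] [q.gst.IsTriangulated]
    (hq : q.IsMV) (N₁ N₂ : S) (φ : N₁ ⟶ N₂)
    (d₁ : q.fls.obj (q.fst.obj (q.jls.obj (q.jst.obj N₁))) ⟶ N₁⟦(1 : ℤ)⟧)
    (d₂ : q.fls.obj (q.fst.obj (q.jls.obj (q.jst.obj N₂))) ⟶ N₂⟦(1 : ℤ)⟧)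
    (h₁ : Triangle.mk (biprod.lift (q.adjJ.unit.app N₁) (q.adjF.unit.app N₁))
        (biprod.desc (q.adjF.unit.app (q.jls.obj (q.jst.obj N₁)))
          (-(q.fls.map (q.fst.map (q.adjJ.unit.app N₁))))) d₁ ∈ distTriang S)
    (h₂ : Triangle.mk (biprod.lift (q.adjJ.unit.app N₂) (q.adjF.unit.app N₂))
        (biprod.desc (q.adjF.unit.app (q.jls.obj (q.jst.obj N₂)))
          (-(q.fls.map (q.fst.map (q.adjJ.unit.app N₂))))) d₂ ∈ distTriang S) :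
    d₁ ≫ (shiftFunctor S (1 : ℤ)).map φ = q.fls.map (q.fst.map (q.jls.map (q.jst.map φ))) ≫ d₂ := by
  haveI : q.fls.Additive := q.adjF.right_adjoint_additive
  have hJ : q.adjJ.unit.app N₁ ≫ q.jls.map (q.jst.map φ) = φ ≫ q.adjJ.unit.app N₂ :=
    (q.adjJ.unit.naturality φ).symm
  have hF : q.adjF.unit.app N₁ ≫ q.fls.map (q.fst.map φ) = φ ≫ q.adjF.unit.app N₂ :=
    (q.adjF.unit.naturality φ).symm
  refine conn_natural _ _ h₁ h₂ φ
    (biprod.map (q.jls.map (q.jst.map φ)) (q.fls.map (q.fst.map φ)))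
    (q.fls.map (q.fst.map (q.jls.map (q.jst.map φ)))) ?_ ?_ ?_
  · exact lift_map_comm _ _ _ _ φ _ _ hJ hF
  · refine desc_map_comm _ _ _ _ _ _ _ ?_ ?_
    · exact (q.adjF.unit.naturality (q.jls.map (q.jst.map φ))).symm
    · exact neg_comm _ _ _ _ (map2_comm q.fst q.fls _ _ _ _ hJ)
  · intro s
    exact vanish_of_unit q.adjF _ h₁ _ biprod.snd (biprod.lift_snd _ _) s

end Groth.Agent.S16408
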