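import Groth.Statements.S16407
import Groth.Agent.S16408
import Mathlib.CategoryTheory.Shift.Adjunction
import Mathlib.CategoryTheory.Adjunction.Additive
import Mathlib.CategoryTheory.Triangulated.Adjunction
import Mathlib.CategoryTheory.Triangulated.Triangulated

set_option autoImplicit false
universe v u
open CategoryTheory CategoryTheory.Limits CategoryTheory.Pretriangulated
open W4c3perfectstacks W4c3perfectstacks.MVSq

namespace Groth.Agent.S16407


section HC
variable {C : Type u} [Category.{v} C] [Preadditive C] [HasZeroObject C] [HasShift C ℤ]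
  [∀ n : ℤ, (shiftFunctor C n).Additive] [Pretriangulated C] [IsTriangulated C]

/-- split triangle `B → J ⊞ B → J →0→ B[1]`, rotated. -/
lemma split_rot (J B : C) :
    Triangle.mk (biprod.fst : J ⊞ B ⟶ J) (0 : J ⟶ B⟦(1 : ℤ)⟧)
      (-(biprod.inr : B ⟶ J ⊞ B)⟦(1 : ℤ)⟧') ∈ distTriang C := by
  have h1 : Triangle.mk (biprod.inr : B ⟶ J ⊞ B) (biprod.fst : J ⊞ B ⟶ J) (0 : J ⟶ B⟦(1 : ℤ)⟧)
      ∈ distTriang C := by
    refine isomorphic_distinguished _ (binaryBiproductTriangle_distinguished B J) _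
      (Triangle.isoMk _ _ (Iso.refl _) (biprod.braiding J B) (Iso.refl _) ?_ ?_ ?_)
    · change (biprod.inr : B ⟶ J ⊞ B) ≫ (biprod.braiding J B).hom =
        𝟙 B ≫ (biprod.inl : B ⟶ B ⊞ J)
      rw [Category.id_comp]
      apply biprod.hom_ext <;> simp
    · change (biprod.fst : J ⊞ B ⟶ J) ≫ 𝟙 J = (biprod.braiding J B).hom ≫ (biprod.snd : B ⊞ J ⟶ J)
      rw [Category.comp_id]
      simp
    · change (0 : J ⟶ B⟦(1 : ℤ)⟧) ≫ (𝟙 B)⟦(1 : ℤ)⟧' = 𝟙 J ≫ (0 : J ⟶ B⟦(1 : ℤ)⟧)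
      rw [zero_comp, comp_zero]
  exact rot_of_distTriang _ h1


/-- `-𝟙` as an isomorphism. -/
def negIso (X : C) : X ≅ X where
  hom := -𝟙 X
  inv := -𝟙 X
  hom_inv_id := by simp
  inv_hom_id := by simp

theorem hc {K N J K' B Cc : C} (k : K ⟶ N) (a : N ⟶ J) (δ : J ⟶ K⟦(1 : ℤ)⟧)
    (k' : K' ⟶ B) (a' : B ⟶ Cc) (δ' : Cc ⟶ K'⟦(1 : ℤ)⟧)
    (h₁ : Triangle.mk k a δ ∈ distTriang C) (h₂ : Triangle.mk k' a' δ' ∈ distTriang C)
    (u : K ⟶ K') (hu : IsIso u) (v : N ⟶ B) (w : J ⟶ Cc)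
    (c1 : k ≫ v = u ≫ k') (c2 : a ≫ w = v ≫ a')
    (hv : ∀ t : K⟦(1 : ℤ)⟧ ⟶ Cc, t = 0) :
    ∃ d : Cc ⟶ N⟦(1 : ℤ)⟧,
      Triangle.mk (biprod.lift a v) (biprod.desc w (-a')) d ∈ distTriang C := by
  obtain ⟨C', β', d', hT⟩ := distinguished_cocone_triangle (biprod.lift a v)
  have hsplit := split_rot J B
  have hrot : Triangle.mk a δ (-k⟦(1 : ℤ)⟧') ∈ distTriang C := rot_of_distTriang _ h₁
  have oct := Triangulated.someOctahedron (biprod.lift_fst a v) hT hsplit hrot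
  -- m₃ = (k ≫ v)[1]
  have hm₃ : oct.m₃ = (k ≫ v)⟦(1 : ℤ)⟧' := by
    have h4 := oct.comm₄
    have := congrArg (· ≫ (biprod.snd : J ⊞ B ⟶ B)⟦(1 : ℤ)⟧') h4
    simp only [Category.assoc, Preadditive.neg_comp, Preadditive.comp_neg, ← Functor.map_comp,
      biprod.lift_snd, biprod.inr_snd, neg_inj] at this
    rw [CategoryTheory.Functor.map_id, Category.comp_id] at this
    exact this.symm
  -- T₃ := (k ≫ v, -(inr ≫ β'), m₁) distinguished
  have hT₃ : Triangle.mk (k ≫ v) (-(biprod.inr ≫ β')) oct.m₁ ∈ distTriang C := by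
    rw [rotate_distinguished_triangle, rotate_distinguished_triangle]
    refine isomorphic_distinguished _ oct.mem _
      (Triangle.isoMk _ _ (Iso.refl C') (Iso.refl (K⟦(1 : ℤ)⟧)) (negIso (B⟦(1 : ℤ)⟧)) ?_ ?_ ?_)
    · change oct.m₁ ≫ 𝟙 _ = 𝟙 _ ≫ oct.m₁
      rw [Category.comp_id, Category.id_comp]
    · change (-(k ≫ v)⟦(1 : ℤ)⟧') ≫ (-𝟙 _) = 𝟙 _ ≫ oct.m₃
      rw [hm₃]; simp
    · change (-(-(biprod.inr ≫ β'))⟦(1 : ℤ)⟧') ≫ (𝟙 C')⟦(1 : ℤ)⟧' =
        (-𝟙 _) ≫ ((-(biprod.inr : B ⟶ J ⊞ B)⟦(1 : ℤ)⟧') ≫ β'⟦(1 : ℤ)⟧')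
      simp
  -- T₂' := (u ≫ k', a', δ' ≫ (inv u)[1]) distinguished
  have hT₂' : Triangle.mk (k ≫ v) a' (δ' ≫ (inv u)⟦(1 : ℤ)⟧') ∈ distTriang C := by
    let eu : K ≅ K' := asIso u
    refine isomorphic_distinguished _ h₂ _
      (Triangle.isoMk _ _ eu (Iso.refl B) (Iso.refl Cc) ?_ ?_ ?_)
    · change (k ≫ v) ≫ 𝟙 B = u ≫ k'
      rw [Category.comp_id, c1]
    · change a' ≫ 𝟙 Cc = 𝟙 B ≫ a'
      rw [Category.comp_id, Category.id_comp]
    · change (δ' ≫ (inv u)⟦(1 : ℤ)⟧') ≫ u⟦(1 : ℤ)⟧' = 𝟙 Cc ≫ δ'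
      rw [Category.assoc, ← CategoryTheory.Functor.map_comp, IsIso.inv_hom_id,
        CategoryTheory.Functor.map_id, Category.comp_id, Category.id_comp]
  -- comparison θ : C' ≅ Cc
  obtain ⟨θ, hθ1, hθ2⟩ : ∃ θ : C' ⟶ Cc, (-(biprod.inr ≫ β')) ≫ θ = 𝟙 B ≫ a' ∧
      oct.m₁ ≫ (𝟙 K)⟦(1 : ℤ)⟧' = θ ≫ (δ' ≫ (inv u)⟦(1 : ℤ)⟧') :=
    complete_distinguished_triangle_morphism _ _ hT₃ hT₂' (𝟙 K) (𝟙 B)
      (by change (k ≫ v) ≫ 𝟙 B = 𝟙 K ≫ (k ≫ v); rw [Category.comp_id, Category.id_comp])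
  have hθiso : IsIso θ := by
    let φ : Triangle.mk (k ≫ v) (-(biprod.inr ≫ β')) oct.m₁ ⟶
        Triangle.mk (k ≫ v) a' (δ' ≫ (inv u)⟦(1 : ℤ)⟧') :=
      { hom₁ := 𝟙 K
        hom₂ := 𝟙 B
        hom₃ := θ
        comm₁ := by
          change (k ≫ v) ≫ 𝟙 B = 𝟙 K ≫ (k ≫ v); rw [Category.comp_id, Category.id_comp]
        comm₂ := hθ1
        comm₃ := hθ2 }
    exact isIso₃_of_isIso₁₂ φ hT₃ hT₂' (by change IsIso (𝟙 K); infer_instance)
      (by change IsIso (𝟙 B); infer_instance)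
  -- B-component
  have hB : biprod.inr ≫ β' ≫ θ = -a' := by
    rw [Category.id_comp, Preadditive.neg_comp, Category.assoc] at hθ1
    rw [← hθ1, neg_neg]
  -- J-component
  have hαβ : biprod.lift a v ≫ β' = 0 := comp_distTriang_mor_zero₁₂ _ hT
  have hJ : biprod.inl ≫ β' ≫ θ = w := by
    have h1 : a ≫ (biprod.inl ≫ β' ≫ θ) = a ≫ w := by
      have h2 : biprod.lift a v = a ≫ biprod.inl + v ≫ biprod.inr := by
        apply biprod.hom_ext <;> simp
      have h3 : (a ≫ biprod.inl + v ≫ biprod.inr) ≫ β' ≫ θ = 0 := by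
        rw [← h2, ← Category.assoc, hαβ, zero_comp]
      rw [Preadditive.add_comp, Category.assoc, Category.assoc, hB, Preadditive.comp_neg] at h3
      rw [c2]
      exact eq_of_sub_eq_zero (by rw [sub_eq_add_neg]; exact h3)
    have h4 : a ≫ (biprod.inl ≫ β' ≫ θ - w) = 0 := by
      rw [Preadditive.comp_sub, h1, sub_self]
    obtain ⟨t, ht⟩ : ∃ t : K⟦(1 : ℤ)⟧ ⟶ Cc, biprod.inl ≫ β' ≫ θ - w = δ ≫ t :=
      Triangle.yoneda_exact₃ _ h₁ (biprod.inl ≫ β' ≫ θ - w) h4
    rw [hv t, comp_zero] at ht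
    exact eq_of_sub_eq_zero ht
  have hβ : β' ≫ θ = biprod.desc w (-a') := by
    apply biprod.hom_ext'
    · rw [hJ, biprod.inl_desc]
    · rw [hB, biprod.inr_desc]
  refine ⟨inv θ ≫ d', isomorphic_distinguished _ hT _
    (Triangle.isoMk _ _ (Iso.refl N) (Iso.refl (J ⊞ B)) (asIso θ).symm ?_ ?_ ?_)⟩
  · change biprod.lift a v ≫ 𝟙 _ = 𝟙 N ≫ biprod.lift a v
    rw [Category.comp_id, Category.id_comp]
  · change biprod.desc w (-a') ≫ inv θ = 𝟙 _ ≫ β'
    rw [← hβ, Category.assoc, IsIso.hom_inv_id, Category.comp_id, Category.id_comp]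
  · change (inv θ ≫ d') ≫ (𝟙 N)⟦(1 : ℤ)⟧' = inv θ ≫ d'
    rw [CategoryTheory.Functor.map_id, Category.comp_id]

end HC

section MV
variable {S S' R R' : Type u} [Category.{v} S] [Category.{v} S'] [Category.{v} R] [Category.{v} R']
    [Preadditive S] [Preadditive S'] [Preadditive R] [Preadditive R']
    [HasZeroObject S] [HasZeroObject S'] [HasZeroObject R] [HasZeroObject R']
    [HasShift S ℤ] [HasShift S' ℤ] [HasShift R ℤ] [HasShift R' ℤ]
    [∀ n : ℤ, (shiftFunctor S n).Additive] [∀ n : ℤ, (shiftFunctor S' n).Additive]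
    [∀ n : ℤ, (shiftFunctor R n).Additive] [∀ n : ℤ, (shiftFunctor R' n).Additive]
    [Pretriangulated S] [Pretriangulated S'] [Pretriangulated R] [Pretriangulated R']
    [IsTriangulated S] [IsTriangulated S'] [IsTriangulated R] [IsTriangulated R']
    (q : W4c3perfectstacks.MVSq S S' R R')
    [q.jst.CommShift ℤ] [q.fst.CommShift ℤ] [q.jpst.CommShift ℤ] [q.gst.CommShift ℤ]
    [q.jst.IsTriangulated] [q.fst.IsTriangulated] [q.jpst.IsTriangulated] [q.gst.IsTriangulated]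

include q in
omit [IsTriangulated S] [IsTriangulated S'] [IsTriangulated R] [IsTriangulated R'] in
/-- `j^*` of the unit of `j` is invertible. -/
lemma isIso_jst_unit (hq : q.IsMV) (N : S) : IsIso (q.jst.map (q.adjJ.unit.app N)) := by
  have := hq.isIso_counitJ
  have : IsIso (q.adjJ.counit.app (q.jst.obj N)) := inferInstance
  have h := q.adjJ.left_triangle_components N
  have : IsIso (q.jst.map (q.adjJ.unit.app N) ≫ q.adjJ.counit.app (q.jst.obj N)) := by
    rw [h]; exact IsIso.id _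
  exact IsIso.of_isIso_comp_right _ (q.adjJ.counit.app (q.jst.obj N))

omit [IsTriangulated S] [IsTriangulated S'] [IsTriangulated R] [IsTriangulated R'] in
/-- vanishing of maps from objects killed by `j^*` into `f_* f^* j_* P`. -/
lemma vanish (hq : q.IsMV) (K : S) (hK : IsZero (q.jst.obj K)) (P : R)
    (t : K ⟶ q.fls.obj (q.fst.obj (q.jls.obj P))) : t = 0 := by
  have := hq.isIso_bc2App P
  have hz : IsZero (q.jpst.obj (q.fst.obj K)) :=
    IsZero.of_iso (q.gst.map_isZero hK) (q.e.app K).symm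
  have : q.jpls.Additive := q.adjJp.right_adjoint_additive
  have : q.fls.Additive := q.adjF.right_adjoint_additive
  obtain ⟨t', ht'⟩ : ∃ t', t' = (q.adjF.homEquiv _ _).symm t := ⟨_, rfl⟩
  have h2 : t' ≫ q.bc2App P = 0 := by
    have h := (q.adjJp.homEquiv _ _).apply_symm_apply (t' ≫ q.bc2App P)
    rw [hz.eq_of_src ((q.adjJp.homEquiv _ _).symm (t' ≫ q.bc2App P)) 0,
      Adjunction.homEquiv_unit, CategoryTheory.Functor.map_zero, comp_zero] at h
    exact h.symm
  have h3 : t' = 0 := by rw [← cancel_mono (q.bc2App P), h2, zero_comp]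
  have h := (q.adjF.homEquiv _ _).apply_symm_apply t
  rw [← ht', h3, Adjunction.homEquiv_unit, CategoryTheory.Functor.map_zero, comp_zero] at h
  exact h.symm


theorem exists_d (hq : q.IsMV) (N : S) :
    ∃ d : q.fls.obj (q.fst.obj (q.jls.obj (q.jst.obj N))) ⟶ N⟦(1 : ℤ)⟧,
      Triangle.mk (biprod.lift (q.adjJ.unit.app N) (q.adjF.unit.app N))
        (biprod.desc (q.adjF.unit.app (q.jls.obj (q.jst.obj N)))
          (-(q.fls.map (q.fst.map (q.adjJ.unit.app N))))) d ∈ distTriang S := by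
  let _ := q.adjF.rightAdjointCommShift ℤ
  have := q.adjF.commShift_of_leftAdjoint ℤ
  have : q.fls.IsTriangulated := q.adjF.isTriangulated_rightAdjoint
  obtain ⟨K, k, δ, h₁⟩ := distinguished_cocone_triangle₁ (q.adjJ.unit.app N)
  have hK : IsZero (q.jst.obj K) := by
    have hT := q.jst.map_distinguished _ h₁
    have := isIso_jst_unit q hq N
    exact (Triangle.isZero₁_iff_isIso₂ _ hT).mpr this
  let u : K ⟶ q.fls.obj (q.fst.obj K) := q.adjF.unit.app K
  have hu : IsIso u := hq.isIso_unitF K hK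
  have h₂ := q.fls.map_distinguished _ (q.fst.map_distinguished _ h₁)
  have hv : ∀ t : K⟦(1 : ℤ)⟧ ⟶ q.fls.obj (q.fst.obj (q.jls.obj (q.jst.obj N))), t = 0 := by
    intro t
    refine vanish q hq _ ?_ _ t
    exact IsZero.of_iso ((shiftFunctor R (1 : ℤ)).map_isZero hK)
      ((q.jst.commShiftIso (1 : ℤ)).app K)
  exact hc k (q.adjJ.unit.app N) δ _ _ _ h₁ h₂ u hu (q.adjF.unit.app N)
    (q.adjF.unit.app (q.jls.obj (q.jst.obj N)))
    (q.adjF.unit.naturality k) (q.adjF.unit.naturality (q.adjJ.unit.app N)) hv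

end MV

/-- The Mayer–Vietoris triangle. In a Mayer–Vietoris square of triangulated categories (single-square
form: triangulated pullbacks with right adjoints, fully faithful j_*-type pushforwards, invertible
base-change and exchange maps, and the pullback along X' → X restricting to an equivalence between
the kernels of the two open restrictions), for every object N of the category attached to X there is
exactly one morphism d making N ⟶ j_* j^* N ⊞ f_* f^* N ⟶ f_* f^* j_* j^* N ⟶ N⟦1⟧ distinguished,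
where the first map has the two units as components and the second is (unit of f at j_* j^* N, minus
f_* f^* of the unit of j). (The four categories are taken in common universes.) -/
theorem result
    (S S' R R' : Type u) [Category.{v} S] [Category.{v} S'] [Category.{v} R] [Category.{v} R']
    [Preadditive S] [Preadditive S'] [Preadditive R] [Preadditive R']
    [HasZeroObject S] [HasZeroObject S'] [HasZeroObject R] [HasZeroObject R']
    [HasShift S ℤ] [HasShift S' ℤ] [HasShift R ℤ] [HasShift R' ℤ]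
    [∀ n : ℤ, (shiftFunctor S n).Additive] [∀ n : ℤ, (shiftFunctor S' n).Additive]
    [∀ n : ℤ, (shiftFunctor R n).Additive] [∀ n : ℤ, (shiftFunctor R' n).Additive]
    [Pretriangulated S] [Pretriangulated S'] [Pretriangulated R] [Pretriangulated R']
    [IsTriangulated S] [IsTriangulated S'] [IsTriangulated R] [IsTriangulated R']
    (q : W4c3perfectstacks.MVSq S S' R R')
    [q.jst.CommShift ℤ] [q.fst.CommShift ℤ] [q.jpst.CommShift ℤ] [q.gst.CommShift ℤ]
    [q.jst.IsTriangulated] [q.fst.IsTriangulated] [q.jpst.IsTriangulated] [q.gst.IsTriangulated]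
    (hq : q.IsMV) (N : S) :
    ∃! d : q.fls.obj (q.fst.obj (q.jls.obj (q.jst.obj N))) ⟶ N⟦(1 : ℤ)⟧,
      Triangle.mk (biprod.lift (q.adjJ.unit.app N) (q.adjF.unit.app N))
        (biprod.desc (q.adjF.unit.app (q.jls.obj (q.jst.obj N)))
          (-(q.fls.map (q.fst.map (q.adjJ.unit.app N))))) d ∈ distTriang S := by
  obtain ⟨d, hd⟩ := exists_d q hq N
  refine ⟨d, hd, fun d' hd' => ?_⟩
  have h := Groth.Agent.S16408.result S S' R R' q hq N N (𝟙 N) d' d hd' hd
  simpa using h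

end Groth.Agent.S16407
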