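import Groth.Statements.S16409
import Mathlib.CategoryTheory.Shift.Adjunction
import Mathlib.CategoryTheory.Adjunction.Additive

set_option autoImplicit false
universe v u
open CategoryTheory CategoryTheory.Limits CategoryTheory.Pretriangulated
open W4c3perfectstacks W4c3perfectstacks.MVSq

namespace Groth.Agent.S16409

/-- In a Mayer–Vietoris square of triangulated categories (single-square form), let M be an object over
X' whose restriction to U' is zero and let N be any object over X. Then the pullback functor along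
X' → X is bijective on morphisms f_* M ⟶ N; since the counit f^* f_* M ⟶ M is invertible for such M,
composing with its inverse gives a bijection Hom(f_* M, N) ≃ Hom(M, f^* N). (The four categories are
taken in common universes.) -/
theorem result
    (S S' R R' : Type u) [Category.{v} S] [Category.{v} S'] [Category.{v} R] [Category.{v} R']
    [Preadditive S] [Preadditive S'] [Preadditive R] [Preadditive R']
    [HasZeroObject S] [HasZeroObject S'] [HasZeroObject R] [HasZeroObject R']
    [HasShift S ℤ] [HasShift S' ℤ] [HasShift R ℤ] [HasShift R' ℤ]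
    [∀ n : ℤ, (shiftFunctor S n).Additive] [∀ n : ℤ, (shiftFunctor S' n).Additive]
    [∀ n : ℤ, (shiftFunctor R n).Additive] [∀ n : ℤ, (shiftFunctor R' n).Additive]
    [Pretriangulated S] [Pretriangulated S'] [Pretriangulated R] [Pretriangulated R']
    [IsTriangulated S] [IsTriangulated S'] [IsTriangulated R] [IsTriangulated R']
    (q : W4c3perfectstacks.MVSq S S' R R')
    [q.jst.CommShift ℤ] [q.fst.CommShift ℤ] [q.jpst.CommShift ℤ] [q.gst.CommShift ℤ]
    [q.jst.IsTriangulated] [q.fst.IsTriangulated] [q.jpst.IsTriangulated] [q.gst.IsTriangulated]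
    (hq : q.IsMV) (M : S') (hM : IsZero (q.jpst.obj M)) (N : S) :
    Function.Bijective (fun g : q.fls.obj M ⟶ N => q.fst.map g) := by
  haveI : q.fls.Additive := q.adjF.right_adjoint_additive
  haveI : q.gls.Additive := q.adjG.right_adjoint_additive
  haveI := hq.isIso_counitJ
  haveI := hq.isIso_counitF M hM
  -- j^* f_* M = 0
  have hz1 : IsZero (q.jst.obj (q.fls.obj M)) := by
    haveI := hq.isIso_bcApp M
    exact IsZero.of_iso (q.gls.map_isZero hM) (asIso (q.bcApp M))
  -- j'^* f^* f_* M = 0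
  have hz2 : IsZero (q.jpst.obj (q.fst.obj (q.fls.obj M))) :=
    IsZero.of_iso hM (q.jpst.mapIso (asIso (q.adjF.counit.app M)))
  -- vanishing lemmas
  have V1 : ∀ (P : R) (g : q.fls.obj M ⟶ q.jls.obj P), g = 0 := by
    intro P g
    apply (q.adjJ.homEquiv _ _).symm.injective
    exact hz1.eq_of_src _ _
  have VL : ∀ (X : S') (_ : IsZero (q.jpst.obj X)) (P : R) (h : X ⟶ q.fst.obj (q.jls.obj P)),
      h = 0 := by
    intro X hX P h
    haveI := hq.isIso_bc2App P
    have h1 : h ≫ q.bc2App P = 0 := by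
      apply (q.adjJp.homEquiv _ _).symm.injective
      exact hX.eq_of_src _ _
    have : h = (h ≫ q.bc2App P) ≫ inv (q.bc2App P) := by simp
    rw [this, h1, zero_comp]
  have hz3 : IsZero (q.jpst.obj ((q.fst.obj (q.fls.obj M))⟦(1 : ℤ)⟧)) := by
    refine IsZero.of_iso ?_ ((q.jpst.commShiftIso (1 : ℤ)).app _)
    exact (shiftFunctor R' (1 : ℤ)).map_isZero hz2
  -- the triangle
  obtain ⟨N₁, ι, δ, hT⟩ := distinguished_cocone_triangle₁ (q.adjJ.unit.app N)
  set T := Triangle.mk ι (q.adjJ.unit.app N) δ with hTdef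
  have hιη : ι ≫ q.adjJ.unit.app N = 0 := comp_distTriang_mor_zero₁₂ T hT
  -- j^* N₁ = 0
  have hzN₁ : IsZero (q.jst.obj N₁) := by
    have hjT := q.jst.map_distinguished T hT
    have hiso : IsIso (q.jst.map (q.adjJ.unit.app N)) := by
      have h1 : q.jst.map (q.adjJ.unit.app N) ≫ q.adjJ.counit.app (q.jst.obj N) = 𝟙 _ :=
        q.adjJ.left_triangle_components N
      haveI : IsIso (q.adjJ.counit.app (q.jst.obj N)) := inferInstance
      haveI : IsIso (q.jst.map (q.adjJ.unit.app N) ≫ q.adjJ.counit.app (q.jst.obj N)) := by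
        rw [h1]; infer_instance
      exact IsIso.of_isIso_comp_right (q.jst.map (q.adjJ.unit.app N)) (q.adjJ.counit.app (q.jst.obj N))
    exact Triangle.isZero₁_of_isIso₂ _ hjT hiso
  haveI := hq.isIso_unitF N₁ hzN₁
  have hfT := q.fst.map_distinguished T hT
  -- unit naturality
  have hunit : ∀ (g₁ : q.fls.obj M ⟶ N₁),
      q.adjF.homEquiv _ _ (q.fst.map g₁) = g₁ ≫ q.adjF.unit.app N₁ := by
    intro g₁
    rw [Adjunction.homEquiv_unit]
    exact (q.adjF.unit.naturality g₁).symm
  constructor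
  · -- injectivity
    intro g g' hgg
    rw [← sub_eq_zero]
    have hg0 : q.fst.map (g - g') = 0 := by
      rw [Functor.map_sub]; exact sub_eq_zero.mpr hgg
    generalize g - g' = d at hg0
    obtain ⟨(g₁ : q.fls.obj M ⟶ N₁), rfl⟩ := Triangle.coyoneda_exact₂ T hT d (V1 _ _)
    -- f^* g₁ = 0
    have h2 : q.fst.map g₁ = 0 := by
      have h3 : (q.fst.map g₁)⟦(1 : ℤ)⟧' ≫ (q.fst.mapTriangle.obj T).mor₁⟦(1 : ℤ)⟧' = 0 := by
        rw [← Functor.map_comp]
        change ((q.fst.map g₁) ≫ q.fst.map ι)⟦(1 : ℤ)⟧' = 0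
        have hg0' : q.fst.map (g₁ ≫ ι) = 0 := hg0
        rw [← Functor.map_comp, hg0', Functor.map_zero]
      obtain ⟨k, hk⟩ := Triangle.coyoneda_exact₁ _ hfT _ h3
      have hk0 : k = 0 := VL _ hz3 _ k
      rw [hk0, zero_comp] at hk
      exact (shiftFunctor S' (1 : ℤ)).map_injective (hk.trans (Functor.map_zero _ _ _).symm)
    have h4 : g₁ ≫ q.adjF.unit.app N₁ = 0 := by
      rw [← hunit, h2]
      rw [Adjunction.homEquiv_unit, Functor.map_zero, comp_zero]
    have h5 : g₁ = 0 := by
      have : g₁ = (g₁ ≫ q.adjF.unit.app N₁) ≫ inv (q.adjF.unit.app N₁) := by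
        rw [Category.assoc, IsIso.hom_inv_id, Category.comp_id]
      rw [this, h4]
      exact zero_comp
    rw [h5]
    exact zero_comp
  · -- surjectivity
    intro h
    have h1 : h ≫ (q.fst.mapTriangle.obj T).mor₂ = 0 := VL _ hz2 _ _
    obtain ⟨(h₁ : q.fst.obj (q.fls.obj M) ⟶ q.fst.obj N₁), hh₁⟩ :=
      Triangle.coyoneda_exact₂ _ hfT h h1
    let g₁ : q.fls.obj M ⟶ N₁ := q.adjF.homEquiv _ _ h₁ ≫ inv (q.adjF.unit.app N₁)
    have hg₁ : q.fst.map g₁ = h₁ := by
      apply (q.adjF.homEquiv _ _).injective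
      rw [hunit]
      simp [g₁]
    refine ⟨g₁ ≫ ι, ?_⟩
    change q.fst.map (g₁ ≫ ι) = h
    rw [Functor.map_comp, hg₁, hh₁]
    rfl

end Groth.Agent.S16409
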