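import Groth.Statements.S16410
import Groth.Agent.S16407

set_option autoImplicit false
universe v u
open CategoryTheory CategoryTheory.Limits CategoryTheory.Pretriangulated
open W4c3perfectstacks W4c3perfectstacks.MVSq

namespace Groth.Agent.S16410


section L1
variable {C : Type u} [Category.{v} C] [Preadditive C] [HasZeroObject C] [HasShift C ℤ]
  [∀ n : ℤ, (shiftFunctor C n).Additive] [Pretriangulated C]

/-- In a distinguished triangle `X → Y → Z` with `Y = A ⊕ B` such that `B → Z` is invertible, the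
component `X → A` is invertible. -/
theorem isIso_comp_proj {X Y Z A B : C} (a : X ⟶ Y) (b : Y ⟶ Z) (d : Z ⟶ X⟦(1 : ℤ)⟧)
    (hT : Triangle.mk a b d ∈ distTriang C) (iA : A ⟶ Y) (iB : B ⟶ Y) (pA : Y ⟶ A) (pB : Y ⟶ B)
    (h1 : iA ≫ pA = 𝟙 A) (h4 : iB ≫ pA = 0)
    (h5 : pA ≫ iA + pB ≫ iB = 𝟙 Y) (hs : IsIso (iB ≫ b)) : IsIso (a ≫ pA) := by
  let φ : Y ⟶ A ⊞ Z := biprod.lift pA b
  let r : Z ⟶ Y := inv (iB ≫ b) ≫ iB
  let ψ : A ⊞ Z ⟶ Y := biprod.fst ≫ iA + biprod.snd ≫ r - biprod.fst ≫ iA ≫ b ≫ r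
  have hbr : iB ≫ b ≫ r = iB := by
    change iB ≫ b ≫ inv (iB ≫ b) ≫ iB = iB
    rw [← Category.assoc, ← Category.assoc, IsIso.hom_inv_id, Category.id_comp]
  have hrb : r ≫ b = 𝟙 Z := by
    change (inv (iB ≫ b) ≫ iB) ≫ b = 𝟙 Z
    rw [Category.assoc, IsIso.inv_hom_id]
  have hrp : r ≫ pA = 0 := by
    change (inv (iB ≫ b) ≫ iB) ≫ pA = 0
    rw [Category.assoc, h4, comp_zero]
  have hb : b ≫ r - pA ≫ iA ≫ b ≫ r = pB ≫ iB := by
    have h : b ≫ r = (pA ≫ iA + pB ≫ iB) ≫ b ≫ r := by rw [h5, Category.id_comp]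
    rw [Preadditive.add_comp, Category.assoc, Category.assoc, hbr] at h
    rw [sub_eq_iff_eq_add']; exact h
  have hφψ : φ ≫ ψ = 𝟙 Y := by
    change biprod.lift pA b ≫ (biprod.fst ≫ iA + biprod.snd ≫ r - biprod.fst ≫ iA ≫ b ≫ r) = 𝟙 Y
    rw [Preadditive.comp_sub, Preadditive.comp_add, biprod.lift_fst_assoc, biprod.lift_snd_assoc,
      biprod.lift_fst_assoc, add_sub_assoc, hb]
    exact h5
  have hψφ : ψ ≫ φ = 𝟙 _ := by
    change (biprod.fst ≫ iA + biprod.snd ≫ r - biprod.fst ≫ iA ≫ b ≫ r) ≫ biprod.lift pA b = 𝟙 _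
    apply biprod.hom_ext
    · rw [Category.assoc, biprod.lift_fst, Preadditive.sub_comp, Preadditive.add_comp]
      simp only [Category.assoc, h1, hrp, Category.comp_id, comp_zero, add_zero, sub_zero,
        Category.id_comp]
    · rw [Category.assoc, biprod.lift_snd, Preadditive.sub_comp, Preadditive.add_comp]
      simp only [Category.assoc, hrb, Category.comp_id, Category.id_comp]
      abel
  let Φ : Triangle.mk a b d ⟶ binaryBiproductTriangle A Z :=
    { hom₁ := a ≫ pA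
      hom₂ := φ
      hom₃ := 𝟙 Z
      comm₁ := by
        change a ≫ φ = (a ≫ pA) ≫ biprod.inl
        apply biprod.hom_ext
        · simp [φ]
        · simp only [φ, Category.assoc, biprod.lift_snd, biprod.inl_snd, comp_zero]
          exact comp_distTriang_mor_zero₁₂ _ hT
      comm₂ := by
        change b ≫ 𝟙 Z = φ ≫ biprod.snd
        simp [φ]
      comm₃ := by
        change d ≫ (a ≫ pA)⟦(1 : ℤ)⟧' = 𝟙 Z ≫ 0
        rw [CategoryTheory.Functor.map_comp, ← Category.assoc]
        have := comp_distTriang_mor_zero₃₁ _ hT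
        change d ≫ a⟦(1 : ℤ)⟧' = 0 at this
        rw [this, zero_comp, comp_zero] }
  have h2 : IsIso Φ.hom₂ := ⟨ψ, hφψ, hψφ⟩
  have h3 : IsIso Φ.hom₃ := by change IsIso (𝟙 Z); infer_instance
  exact isIso₁_of_isIso₂₃ Φ hT (binaryBiproductTriangle_distinguished A Z) h2 h3

end L1

section Neg
variable {C : Type u} [Category.{v} C] [Preadditive C]

lemma isIso_neg {X Y : C} (f : X ⟶ Y) (hf : IsIso f) : IsIso (-f) :=
  ⟨-inv f, by simp, by simp⟩

lemma lift_map_eq [HasBinaryBiproducts C] {X A B A' B' : C} (f : X ⟶ A) (g : X ⟶ B)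
    (x : A ⟶ A') (y : B ⟶ B') (a : X ⟶ A' ⊞ B') (h1 : f ≫ x = a ≫ biprod.fst)
    (h2 : g ≫ y = a ≫ biprod.snd) : biprod.lift f g ≫ biprod.map x y = a := by
  apply biprod.hom_ext <;> simp [h1, h2]

lemma isIso_of_biprod_map [HasBinaryBiproducts C] {A A' B B' : C} (x : A ⟶ A') (y : B ⟶ B')
    (h : IsIso (biprod.map x y)) : IsIso y := by
  refine ⟨biprod.inr ≫ inv (biprod.map x y) ≫ biprod.snd, ?_, ?_⟩
  · have h1 : y ≫ biprod.inr = biprod.inr ≫ biprod.map x y := by simp
    rw [← Category.assoc, h1, Category.assoc, IsIso.hom_inv_id_assoc, biprod.inr_snd]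
  · have h1 : biprod.snd ≫ y = biprod.map x y ≫ biprod.snd := by simp
    rw [Category.assoc, Category.assoc, h1, IsIso.inv_hom_id_assoc, biprod.inr_snd]

end Neg

section MV
variable {S S' R R' : Type u} [Category.{v} S] [Category.{v} S'] [Category.{v} R] [Category.{v} R']
    [Preadditive S] [Preadditive S'] [Preadditive R] [Preadditive R']
    [HasZeroObject S] [HasZeroObject S'] [HasZeroObject R] [HasZeroObject R']
    [HasShift S ℤ] [HasShift S' ℤ] [HasShift R ℤ] [HasShift R' ℤ]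
    [∀ n : ℤ, (shiftFunctor S n).Additive] [∀ n : ℤ, (shiftFunctor S' n).Additive]
    [∀ n : ℤ, (shiftFunctor R n).Additive] [∀ n : ℤ, (shiftFunctor R' n).Additive]
    [Pretriangulated S] [Pretriangulated S'] [Pretriangulated R] [Pretriangulated R']
    [IsTriangulated S] [IsTriangulated S'] [IsTriangulated R] [IsTriangulated R']
    (q : W4c3perfectstacks.MVSq S S' R R')
    [q.jst.CommShift ℤ] [q.fst.CommShift ℤ] [q.jpst.CommShift ℤ] [q.gst.CommShift ℤ]
    [q.jst.IsTriangulated] [q.fst.IsTriangulated] [q.jpst.IsTriangulated] [q.gst.IsTriangulated]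

/-- naturality of the base change map -/
lemma bcApp_natural {M M' : S'} (m : M ⟶ M') :
    q.jst.map (q.fls.map m) ≫ q.bcApp M' = q.bcApp M ≫ q.gls.map (q.jpst.map m) := by
  unfold MVSq.bcApp
  have h1 := q.adjG.unit.naturality (q.jst.map (q.fls.map m))
  have h2 := q.e.hom.naturality (q.fls.map m)
  have h3 := q.adjF.counit.naturality m
  simp only [Functor.id_obj, Functor.comp_obj, Functor.id_map, Functor.comp_map] at h1 h2 h3
  rw [← Category.assoc, h1, Category.assoc, Category.assoc, Category.assoc]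
  congr 1
  rw [← q.gls.map_comp, ← q.gls.map_comp, ← q.gls.map_comp, ← q.gls.map_comp]
  congr 1
  rw [← Category.assoc, h2, Category.assoc, ← q.jpst.map_comp, ← q.jpst.map_comp,
    h3]

/-- `j'^*` of the unit of `j'` is invertible. -/
lemma isIso_jpst_unit (hq : q.IsMV) (M : S') : IsIso (q.jpst.map (q.adjJp.unit.app M)) := by
  have := hq.isIso_counitJp
  have : IsIso (q.adjJp.counit.app (q.jpst.obj M)) := inferInstance
  have h := q.adjJp.left_triangle_components M
  have : IsIso (q.jpst.map (q.adjJp.unit.app M) ≫ q.adjJp.counit.app (q.jpst.obj M)) := by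
    rw [h]; exact IsIso.id _
  exact IsIso.of_isIso_comp_right _ (q.adjJp.counit.app (q.jpst.obj M))

lemma isIso_jst_fls_of (hq : q.IsMV) {M M' : S'} (m : M ⟶ M') (h : IsIso (q.jpst.map m)) :
    IsIso (q.jst.map (q.fls.map m)) := by
  have h1 := hq.isIso_bcApp M
  have h2 := hq.isIso_bcApp M'
  have h3 : IsIso (q.jst.map (q.fls.map m) ≫ q.bcApp M') := by
    rw [bcApp_natural]; infer_instance
  exact IsIso.of_isIso_comp_right _ (q.bcApp M')


section Glue
variable (hq : q.IsMV) (NU : R) (N' : S') (δ : q.jpst.obj N' ≅ q.gst.obj NU) (N : S)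
    (a : N ⟶ q.jls.obj NU ⊞ q.fls.obj N')
    (d : q.fls.obj (q.jpls.obj (q.gst.obj NU)) ⟶ N⟦(1 : ℤ)⟧)
    (β : q.jls.obj NU ⊞ q.fls.obj N' ⟶ q.fls.obj (q.jpls.obj (q.gst.obj NU)))
    (hβ : β = biprod.desc (q.adjF.unit.app (q.jls.obj NU) ≫ q.fls.map (q.bc2App NU))
        (-(q.fls.map (q.adjJp.unit.app N' ≫ q.jpls.map δ.hom))))
    (hT : Triangle.mk a β d ∈ distTriang S)

include hq in
lemma isIso_jpst_psi : IsIso (q.jpst.map (q.adjJp.unit.app N' ≫ q.jpls.map δ.hom)) := by
  rw [CategoryTheory.Functor.map_comp]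
  have := isIso_jpst_unit q hq N'
  infer_instance

include hq hT hβ in
theorem part1 : IsIso ((q.adjJ.homEquiv N NU).symm (a ≫ biprod.fst)) := by
  have : q.fls.Additive := q.adjF.right_adjoint_additive
  have h1 := isIso_jst_fls_of q hq _ (isIso_jpst_psi q hq NU N' δ)
  have hT' := q.jst.map_distinguished _ hT
  have key : IsIso (q.jst.map a ≫ q.jst.map biprod.fst) := by
    refine isIso_comp_proj (q.jst.map a) _ _ hT' (q.jst.map biprod.inl)
      (q.jst.map biprod.inr) (q.jst.map biprod.fst) (q.jst.map biprod.snd) ?_ ?_ ?_ ?_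
    · rw [← CategoryTheory.Functor.map_comp, biprod.inl_fst, CategoryTheory.Functor.map_id]
    · rw [← CategoryTheory.Functor.map_comp, biprod.inr_fst, CategoryTheory.Functor.map_zero]
    · rw [← CategoryTheory.Functor.map_comp, ← CategoryTheory.Functor.map_comp,
        ← CategoryTheory.Functor.map_add, biprod.total, CategoryTheory.Functor.map_id]
    · change IsIso (q.jst.map biprod.inr ≫ q.jst.map β)
      rw [← CategoryTheory.Functor.map_comp, hβ, biprod.inr_desc, CategoryTheory.Functor.map_neg]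
      exact isIso_neg _ h1
  rw [Adjunction.homEquiv_counit, CategoryTheory.Functor.map_comp]
  have := hq.isIso_counitJ
  infer_instance


include hβ hT in
/-- key equation `f^*(a₁) ≫ bc2 = ã₂ ≫ ψ`. -/
lemma key_eq :
    q.fst.map (a ≫ biprod.fst) ≫ q.bc2App NU =
      (q.adjF.homEquiv N N').symm (a ≫ biprod.snd) ≫
        (q.adjJp.unit.app N' ≫ q.jpls.map δ.hom) := by
  have : q.fls.Additive := q.adjF.right_adjoint_additive
  have h0 : a ≫ β = 0 := comp_distTriang_mor_zero₁₂ _ hT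
  have h1 : (a ≫ biprod.fst) ≫ (q.adjF.unit.app (q.jls.obj NU) ≫ q.fls.map (q.bc2App NU)) =
      (a ≫ biprod.snd) ≫ q.fls.map (q.adjJp.unit.app N' ≫ q.jpls.map δ.hom) := by
    have h2 : a ≫ β = a ≫ (biprod.fst ≫ biprod.inl + biprod.snd ≫ biprod.inr) ≫ β := by
      rw [biprod.total, Category.id_comp]
    rw [h2, hβ] at h0
    simp only [Preadditive.add_comp, Preadditive.comp_add, Category.assoc, biprod.inl_desc,
      biprod.inr_desc, Preadditive.comp_neg] at h0
    rw [← sub_eq_zero, sub_eq_add_neg]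
    simpa only [Category.assoc] using h0
  apply (q.adjF.homEquiv _ _).injective
  have hR : q.adjF.homEquiv _ _ ((q.adjF.homEquiv N N').symm (a ≫ biprod.snd) ≫
      (q.adjJp.unit.app N' ≫ q.jpls.map δ.hom)) =
      (a ≫ biprod.snd) ≫ q.fls.map (q.adjJp.unit.app N' ≫ q.jpls.map δ.hom) := by
    rw [Adjunction.homEquiv_naturality_right, Equiv.apply_symm_apply]
  rw [hR, ← h1, Adjunction.homEquiv_unit, CategoryTheory.Functor.map_comp]
  have h3 := q.adjF.unit.naturality (a ≫ biprod.fst)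
  simp only [Functor.id_obj, Functor.comp_obj, Functor.id_map, Functor.comp_map] at h3
  rw [← Category.assoc, ← h3, Category.assoc]


include hq hβ hT in
/-- `j^*(a₁)` is invertible. -/
lemma isIso_jst_a1 : IsIso (q.jst.map (a ≫ biprod.fst)) := by
  have h := part1 q hq NU N' δ N a d β hβ hT
  rw [Adjunction.homEquiv_counit] at h
  have := hq.isIso_counitJ
  exact IsIso.of_isIso_comp_right _ (q.adjJ.counit.app NU)

include hq hβ hT in
/-- (2a) `j'^*(ã₂)` is invertible. -/
lemma part2a : IsIso (q.jpst.map ((q.adjF.homEquiv N N').symm (a ≫ biprod.snd))) := by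
  have hpsi := isIso_jpst_psi q hq NU N' δ
  have h1 := isIso_jst_a1 q hq NU N' δ N a d β hβ hT
  have h2 : IsIso (q.jpst.map (q.fst.map (a ≫ biprod.fst))) := by
    have hn := q.e.hom.naturality (a ≫ biprod.fst)
    simp only [Functor.comp_obj, Functor.comp_map] at hn
    have h3 : IsIso (q.e.hom.app N ≫ q.jpst.map (q.fst.map (a ≫ biprod.fst))) := by
      rw [← hn]; infer_instance
    exact IsIso.of_isIso_comp_left (q.e.hom.app N) _
  have h4 := hq.isIso_bc2App NU
  have hk : q.jpst.map (q.fst.map (a ≫ biprod.fst)) ≫ q.jpst.map (q.bc2App NU) =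
      q.jpst.map ((q.adjF.homEquiv N N').symm (a ≫ biprod.snd)) ≫
        q.jpst.map (q.adjJp.unit.app N' ≫ q.jpls.map δ.hom) := by
    rw [← CategoryTheory.Functor.map_comp, key_eq q NU N' δ N a d β hβ hT,
      CategoryTheory.Functor.map_comp]
  have h5 : IsIso (q.jpst.map ((q.adjF.homEquiv N N').symm (a ≫ biprod.snd)) ≫
      q.jpst.map (q.adjJp.unit.app N' ≫ q.jpls.map δ.hom)) := by
    rw [← hk]; infer_instance
  exact IsIso.of_isIso_comp_right _ (q.jpst.map (q.adjJp.unit.app N' ≫ q.jpls.map δ.hom))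


include hq hβ hT in
/-- (2b) `f_*(ã₂)` is invertible. -/
lemma part2b : IsIso (q.fls.map ((q.adjF.homEquiv N N').symm (a ≫ biprod.snd))) := by
  have : q.fls.Additive := q.adjF.right_adjoint_additive
  obtain ⟨dMV, hMV⟩ := Groth.Agent.S16407.exists_d q hq N
  obtain ⟨a1t, ha1t⟩ : ∃ x, x = (q.adjJ.homEquiv N NU).symm (a ≫ biprod.fst) := ⟨_, rfl⟩
  obtain ⟨a2t, ha2t⟩ : ∃ x, x = (q.adjF.homEquiv N N').symm (a ≫ biprod.snd) := ⟨_, rfl⟩
  have hiso1 : IsIso a1t := by rw [ha1t]; exact part1 q hq NU N' δ N a d β hβ hT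
  have e1 : q.adjJ.unit.app N ≫ q.jls.map a1t = a ≫ biprod.fst := by
    have h := (q.adjJ.homEquiv N NU).apply_symm_apply (a ≫ biprod.fst)
    rw [Adjunction.homEquiv_unit] at h
    rw [ha1t]; exact h
  have e2 : q.adjF.unit.app N ≫ q.fls.map a2t = a ≫ biprod.snd := by
    have h := (q.adjF.homEquiv N N').apply_symm_apply (a ≫ biprod.snd)
    rw [Adjunction.homEquiv_unit] at h
    rw [ha2t]; exact h
  have hk : q.fst.map (a ≫ biprod.fst) ≫ q.bc2App NU =
      a2t ≫ (q.adjJp.unit.app N' ≫ q.jpls.map δ.hom) := by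
    rw [ha2t]; exact key_eq q NU N' δ N a d β hβ hT
  rw [← ha2t]
  -- the comparison maps
  let μ : q.jls.obj (q.jst.obj N) ⊞ q.fls.obj (q.fst.obj N) ⟶ q.jls.obj NU ⊞ q.fls.obj N' :=
    biprod.map (q.jls.map a1t) (q.fls.map a2t)
  let w₃ : q.fls.obj (q.fst.obj (q.jls.obj (q.jst.obj N))) ⟶ q.fls.obj (q.jpls.obj (q.gst.obj NU)) :=
    q.fls.map (q.fst.map (q.jls.map a1t) ≫ q.bc2App NU)
  have c1 : biprod.lift (q.adjJ.unit.app N) (q.adjF.unit.app N) ≫ μ = 𝟙 N ≫ a := by
    rw [Category.id_comp]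
    exact lift_map_eq _ _ _ _ _ e1 e2
  have c2 : biprod.desc (q.adjF.unit.app (q.jls.obj (q.jst.obj N)))
      (-(q.fls.map (q.fst.map (q.adjJ.unit.app N)))) ≫ w₃ = μ ≫ β := by
    rw [hβ]
    refine Groth.Agent.S16408.desc_map_comm _ _ _ _ _ _ _ ?_ ?_
    · have hn := q.adjF.unit.naturality (q.jls.map a1t)
      simp only [Functor.id_obj, Functor.comp_obj, Functor.id_map, Functor.comp_map] at hn
      change q.adjF.unit.app (q.jls.obj (q.jst.obj N)) ≫
        q.fls.map (q.fst.map (q.jls.map a1t) ≫ q.bc2App NU) = _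
      rw [CategoryTheory.Functor.map_comp, ← Category.assoc, ← hn, Category.assoc]
    · change (-(q.fls.map (q.fst.map (q.adjJ.unit.app N)))) ≫
        q.fls.map (q.fst.map (q.jls.map a1t) ≫ q.bc2App NU) = _
      rw [Preadditive.neg_comp, Preadditive.comp_neg, ← CategoryTheory.Functor.map_comp,
        ← CategoryTheory.Functor.map_comp, ← Category.assoc, ← CategoryTheory.Functor.map_comp, e1, hk]
  obtain ⟨w', hw1, hw2⟩ : ∃ w' : q.fls.obj (q.fst.obj (q.jls.obj (q.jst.obj N))) ⟶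
      q.fls.obj (q.jpls.obj (q.gst.obj NU)),
      biprod.desc (q.adjF.unit.app (q.jls.obj (q.jst.obj N)))
        (-(q.fls.map (q.fst.map (q.adjJ.unit.app N)))) ≫ w' = μ ≫ β ∧
      dMV ≫ (𝟙 N)⟦(1 : ℤ)⟧' = w' ≫ d :=
    complete_distinguished_triangle_morphism _ _ hMV hT (𝟙 N) μ c1
  have hw : w' = w₃ := by
    have h3 : biprod.desc (q.adjF.unit.app (q.jls.obj (q.jst.obj N)))
        (-(q.fls.map (q.fst.map (q.adjJ.unit.app N)))) ≫ (w' - w₃) = 0 := by
      rw [Preadditive.comp_sub, hw1, c2, sub_self]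
    obtain ⟨s, hs⟩ : ∃ s : N⟦(1 : ℤ)⟧ ⟶ q.fls.obj (q.jpls.obj (q.gst.obj NU)),
        w' - w₃ = dMV ≫ s := Triangle.yoneda_exact₃ _ hMV (w' - w₃) h3
    have hv : dMV ≫ s = 0 :=
      Groth.Agent.S16408.vanish_of_unit q.adjF _ hMV _ biprod.snd (biprod.lift_snd _ _) s
    rw [hv] at hs
    exact sub_eq_zero.mp hs
  rw [hw] at hw1 hw2
  have hw₃iso : IsIso w₃ := by
    have := hq.isIso_bc2App NU
    change IsIso (q.fls.map (q.fst.map (q.jls.map a1t) ≫ q.bc2App NU))
    infer_instance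
  let Φ : Triangle.mk (biprod.lift (q.adjJ.unit.app N) (q.adjF.unit.app N))
        (biprod.desc (q.adjF.unit.app (q.jls.obj (q.jst.obj N)))
          (-(q.fls.map (q.fst.map (q.adjJ.unit.app N))))) dMV ⟶ Triangle.mk a β d :=
    { hom₁ := 𝟙 N
      hom₂ := μ
      hom₃ := w₃
      comm₁ := c1
      comm₂ := hw1
      comm₃ := hw2 }
  have hμ : IsIso μ := isIso₂_of_isIso₁₃ Φ hMV hT (by change IsIso (𝟙 N); infer_instance) hw₃iso
  exact isIso_of_biprod_map _ _ hμ


include hq hβ hT in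
theorem part2 : IsIso ((q.adjF.homEquiv N N').symm (a ≫ biprod.snd)) := by
  let _ := q.adjF.rightAdjointCommShift ℤ
  have := q.adjF.commShift_of_leftAdjoint ℤ
  have : q.fls.IsTriangulated := q.adjF.isTriangulated_rightAdjoint
  have h2a := part2a q hq NU N' δ N a d β hβ hT
  have h2b := part2b q hq NU N' δ N a d β hβ hT
  obtain ⟨Z', p, r, hZ⟩ := distinguished_cocone_triangle ((q.adjF.homEquiv N N').symm (a ≫ biprod.snd))
  have hz1 : IsZero (q.jpst.obj Z') :=
    (Triangle.isZero₃_iff_isIso₁ _ (q.jpst.map_distinguished _ hZ)).mpr h2a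
  have hz2 : IsZero (q.fls.obj Z') :=
    (Triangle.isZero₃_iff_isIso₁ _ (q.fls.map_distinguished _ hZ)).mpr h2b
  have hc := hq.isIso_counitF Z' hz1
  have hz : IsZero Z' := IsZero.of_iso (q.fst.map_isZero hz2) (asIso (q.adjF.counit.app Z')).symm
  exact (Triangle.isZero₃_iff_isIso₁ _ hZ).mp hz

end Glue

end MV

/-- Glueing along a Mayer–Vietoris square of triangulated categories (single-square form). Given N_U
over U, N' over X' and an isomorphism δ between the restriction of N' to U' and the pullback of N_U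
to U', let N over X be the third vertex of a distinguished triangle N ⟶ j_* N_U ⊞ f_* N' ⟶ f_* j'_*
g^* N_U ⟶ N⟦1⟧ whose middle map has components (unit of f at j_* N_U followed by f_* of the exchange
map f^* j_* N_U ⟶ j'_* g^* N_U) and (minus f_* of: unit of j' at N' followed by j'_* δ). Then the
maps j^* N ⟶ N_U and f^* N ⟶ N' adjoint to the two components of the first arrow are isomorphisms.
(Equivalently, the third vertex may be taken to be f_* f^* j_* N_U, identified with f_* j'_* g^* N_U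
through the invertible exchange map; the four categories are taken in common universes.) -/
theorem result
    (S S' R R' : Type u) [Category.{v} S] [Category.{v} S'] [Category.{v} R] [Category.{v} R']
    [Preadditive S] [Preadditive S'] [Preadditive R] [Preadditive R']
    [HasZeroObject S] [HasZeroObject S'] [HasZeroObject R] [HasZeroObject R']
    [HasShift S ℤ] [HasShift S' ℤ] [HasShift R ℤ] [HasShift R' ℤ]
    [∀ n : ℤ, (shiftFunctor S n).Additive] [∀ n : ℤ, (shiftFunctor S' n).Additive]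
    [∀ n : ℤ, (shiftFunctor R n).Additive] [∀ n : ℤ, (shiftFunctor R' n).Additive]
    [Pretriangulated S] [Pretriangulated S'] [Pretriangulated R] [Pretriangulated R']
    [IsTriangulated S] [IsTriangulated S'] [IsTriangulated R] [IsTriangulated R']
    (q : W4c3perfectstacks.MVSq S S' R R')
    [q.jst.CommShift ℤ] [q.fst.CommShift ℤ] [q.jpst.CommShift ℤ] [q.gst.CommShift ℤ]
    [q.jst.IsTriangulated] [q.fst.IsTriangulated] [q.jpst.IsTriangulated] [q.gst.IsTriangulated]
    (hq : q.IsMV) (NU : R) (N' : S') (δ : q.jpst.obj N' ≅ q.gst.obj NU) (N : S)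
    (a : N ⟶ q.jls.obj NU ⊞ q.fls.obj N')
    (d : q.fls.obj (q.jpls.obj (q.gst.obj NU)) ⟶ N⟦(1 : ℤ)⟧)
    (hT : Triangle.mk a
      (biprod.desc (q.adjF.unit.app (q.jls.obj NU) ≫ q.fls.map (q.bc2App NU))
        (-(q.fls.map (q.adjJp.unit.app N' ≫ q.jpls.map δ.hom)))) d ∈ distTriang S) :
    IsIso ((q.adjJ.homEquiv N NU).symm (a ≫ biprod.fst)) ∧
      IsIso ((q.adjF.homEquiv N N').symm (a ≫ biprod.snd)) := by
  exact ⟨part1 q hq NU N' δ N a d _ rfl hT, part2 q hq NU N' δ N a d _ rfl hT⟩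

end Groth.Agent.S16410
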