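import Groth.Statements.S16411
import Mathlib
import Groth.Prelude.Def_W4c3perfectstacksMV
import Groth.Prelude.Def_CohDer
import Groth.Agent.S0475
import Groth.Agent.S16407
import Groth.Agent.S16408

set_option autoImplicit false
universe v u
open CategoryTheory CategoryTheory.Limits CategoryTheory.Pretriangulated
open W4c3perfectstacks W4c3perfectstacks.MVSq

namespace Groth.Agent.S16411


open Groth.Agent.Helper2.Brown

section Proj

variable {C : Type u} [Category.{v} C] [Preadditive C] [HasCoproducts.{v} C]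
variable {ι : Type v} (X : ι → C)

open Classical in
/-- `r_s = 1 - Σ_{i∈s} π_i ι_i`, the projection away from the finite part `s`. -/
noncomputable def r (s : Finset ι) : (∐ X) ⟶ (∐ X) :=
  𝟙 _ - ∑ i ∈ s, Sigma.π X i ≫ Sigma.ι X i

lemma ι_r (s : Finset ι) (i : ι) (hi : i ∈ s) : Sigma.ι X i ≫ r X s = 0 := by
  classical
  unfold r
  rw [Preadditive.comp_sub, Category.comp_id, Preadditive.comp_sum, sub_eq_zero]
  rw [Finset.sum_eq_single i]
  · rw [← Category.assoc, Sigma.ι_π_eq_id, Category.id_comp]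
  · intro j _ hj
    rw [← Category.assoc, Sigma.ι_π_of_ne _ (Ne.symm hj), zero_comp]
  · intro h
    exact absurd hi h

lemma r_r (s t : Finset ι) (h : s ⊆ t) : r X s ≫ r X t = r X t := by
  classical
  conv_lhs => rw [r, Preadditive.sub_comp, Category.id_comp, Preadditive.sum_comp]
  rw [sub_eq_self]
  refine Finset.sum_eq_zero fun i hi => ?_
  rw [Category.assoc, ι_r X t i (h hi), comp_zero]

open Classical in
lemma eq_sum_of_comp_r {K : C} (g : K ⟶ ∐ X) (s : Finset ι) (h : g ≫ r X s = 0) :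
    g = ∑ i ∈ s, (g ≫ Sigma.π X i) ≫ Sigma.ι X i := by
  classical
  unfold r at h
  rw [Preadditive.comp_sub, Category.comp_id, sub_eq_zero, Preadditive.comp_sum] at h
  conv_lhs => rw [h]
  refine Finset.sum_congr rfl fun i _ => ?_
  rw [Category.assoc]

end Proj

section Transfer

variable {C D' : Type u} [Category.{v} C] [Category.{v} D'] [Preadditive C] [Preadditive D']
  [HasCoproducts.{v} C] [HasCoproducts.{v} D']

lemma transfer (F : C ⥤ D') [F.PreservesZeroMorphisms] {ι : Type v}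
    [PreservesColimitsOfShape (Discrete ι) F] (K' : D') (hK : FinFactor K') (X : ι → C)
    (k : K' ⟶ F.obj (∐ X)) : ∃ s : Finset ι, k ≫ F.map (r X s) = 0 := by
  have hc : IsColimit (Cofan.mk (F.obj (∐ X)) (fun j => F.map (Sigma.ι X j)) :
      Cofan (fun j => F.obj (X j))) :=
    isColimitCofanMkObjOfIsColimit F X _ (coproductIsCoproduct X)
  let e : (∐ (fun j => F.obj (X j))) ≅ F.obj (∐ X) :=
    (coproductIsCoproduct _).coconePointUniqueUpToIso hc
  have he : ∀ j, Sigma.ι (fun j => F.obj (X j)) j ≫ e.hom = F.map (Sigma.ι X j) := fun j =>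
    IsColimit.comp_coconePointUniqueUpToIso_hom (coproductIsCoproduct _) hc ⟨j⟩
  obtain ⟨s, c, hc'⟩ := hK ι (fun j => F.obj (X j)) (k ≫ e.inv)
  refine ⟨s, ?_⟩
  have h1 : k = ∑ j ∈ s, c j ≫ F.map (Sigma.ι X j) := by
    have : k = (k ≫ e.inv) ≫ e.hom := by
      rw [Category.assoc, e.inv_hom_id]
      exact (Category.comp_id _).symm
    rw [this, hc', Preadditive.sum_comp]
    refine Finset.sum_congr rfl (fun j _ => ?_)
    rw [Category.assoc, he]
  rw [h1, Preadditive.sum_comp]
  refine Finset.sum_eq_zero fun j hj => ?_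
  rw [Category.assoc, ← F.map_comp, ι_r X s j hj, F.map_zero, comp_zero]

lemma finFactor_of_iso {K K' : C} (e : K ≅ K') (h : FinFactor K) : FinFactor K' := by
  intro ι Z g
  obtain ⟨s, c, hc⟩ := h ι Z (e.hom ≫ g)
  refine ⟨s, fun i => e.inv ≫ c i, ?_⟩
  have : g = e.inv ≫ (e.hom ≫ g) := by rw [e.inv_hom_id_assoc]
  rw [this, hc, Preadditive.comp_sum]
  refine Finset.sum_congr rfl (fun i _ => ?_)
  rw [Category.assoc]

end Transfer

section MV

variable {S S' R R' : Type u} [Category.{v} S] [Category.{v} S'] [Category.{v} R] [Category.{v} R']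
variable (q : W4c3perfectstacks.MVSq S S' R R')

/-- naturality of the exchange map -/
lemma bc2App_natural {P P' : R} (m : P ⟶ P') :
    q.fst.map (q.jls.map m) ≫ q.bc2App P' = q.bc2App P ≫ q.jpls.map (q.gst.map m) := by
  unfold MVSq.bc2App
  have h1 := q.adjJp.unit.naturality (q.fst.map (q.jls.map m))
  have h2 := q.e.inv.naturality (q.jls.map m)
  have h3 := q.adjJ.counit.naturality m
  simp only [Functor.id_obj, Functor.comp_obj, Functor.id_map, Functor.comp_map] at h1 h2 h3
  rw [← Category.assoc, h1, Category.assoc, Category.assoc, Category.assoc]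
  congr 1
  rw [← q.jpls.map_comp, ← q.jpls.map_comp, ← q.jpls.map_comp, ← q.jpls.map_comp]
  congr 1
  rw [← Category.assoc, h2, Category.assoc, ← q.gst.map_comp, ← q.gst.map_comp, h3]

variable [Preadditive S] [Preadditive S'] [Preadditive R] [Preadditive R']

/-- transport of a map `h : K ⟶ f_* f^* j_* j^* M` to `j'^* f^* K ⟶ g^* j^* M`. -/
noncomputable def tr (K M : S) (h : K ⟶ q.fls.obj (q.fst.obj (q.jls.obj (q.jst.obj M)))) :
    q.jpst.obj (q.fst.obj K) ⟶ q.gst.obj (q.jst.obj M) :=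
  (q.adjJp.homEquiv _ _).symm ((q.adjF.homEquiv _ _).symm h ≫ q.bc2App (q.jst.obj M))

lemma tr_natural (K M M' : S) (h : K ⟶ q.fls.obj (q.fst.obj (q.jls.obj (q.jst.obj M))))
    (ρ : M ⟶ M') :
    tr q K M' (h ≫ q.fls.map (q.fst.map (q.jls.map (q.jst.map ρ)))) =
      tr q K M h ≫ q.gst.map (q.jst.map ρ) := by
  unfold tr
  rw [Adjunction.homEquiv_naturality_right_symm, Category.assoc, bc2App_natural,
    ← Category.assoc, Adjunction.homEquiv_naturality_right_symm]

lemma eq_zero_of_tr (hq : q.IsMV) (K M : S)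
    (h : K ⟶ q.fls.obj (q.fst.obj (q.jls.obj (q.jst.obj M)))) (h0 : tr q K M h = 0) : h = 0 := by
  have : q.jpls.IsRightAdjoint := q.adjJp.isRightAdjoint
  have : q.fls.IsRightAdjoint := q.adjF.isRightAdjoint
  unfold tr at h0
  have h1 : (q.adjF.homEquiv _ _).symm h ≫ q.bc2App (q.jst.obj M) = 0 := by
    have := congrArg (q.adjJp.homEquiv _ _) h0
    rw [Equiv.apply_symm_apply] at this
    rw [this]
    simp [Adjunction.homEquiv_unit]
  have : IsIso (q.bc2App (q.jst.obj M)) := hq.isIso_bc2App _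
  have h2 : (q.adjF.homEquiv _ _).symm h = 0 := by
    have := congrArg (· ≫ inv (q.bc2App (q.jst.obj M))) h1
    simpa using this
  have := congrArg (q.adjF.homEquiv _ _) h2
  rw [Equiv.apply_symm_apply] at this
  rw [this]
  simp [Adjunction.homEquiv_unit]

end MV

/-- In a Mayer–Vietoris square of triangulated categories with small coproducts (single-square form), an
object over X whose restrictions to U, to X' and to U' are compact is compact. (The four categories
are taken in common universes; coproducts are indexed by types in the morphism universe.) -/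
theorem result
    (S S' R R' : Type u) [Category.{v} S] [Category.{v} S'] [Category.{v} R] [Category.{v} R']
    [Preadditive S] [Preadditive S'] [Preadditive R] [Preadditive R']
    [HasZeroObject S] [HasZeroObject S'] [HasZeroObject R] [HasZeroObject R']
    [HasShift S ℤ] [HasShift S' ℤ] [HasShift R ℤ] [HasShift R' ℤ]
    [∀ n : ℤ, (shiftFunctor S n).Additive] [∀ n : ℤ, (shiftFunctor S' n).Additive]
    [∀ n : ℤ, (shiftFunctor R n).Additive] [∀ n : ℤ, (shiftFunctor R' n).Additive]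
    [Pretriangulated S] [Pretriangulated S'] [Pretriangulated R] [Pretriangulated R']
    [IsTriangulated S] [IsTriangulated S'] [IsTriangulated R] [IsTriangulated R']
    (q : W4c3perfectstacks.MVSq S S' R R')
    [q.jst.CommShift ℤ] [q.fst.CommShift ℤ] [q.jpst.CommShift ℤ] [q.gst.CommShift ℤ]
    [q.jst.IsTriangulated] [q.fst.IsTriangulated] [q.jpst.IsTriangulated] [q.gst.IsTriangulated]
    (hq : q.IsMV)
    [HasCoproducts.{v} S] [HasCoproducts.{v} S'] [HasCoproducts.{v} R] [HasCoproducts.{v} R']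
    (N : S) (hU : CohDer.IsCompactObject (q.jst.obj N)) (hX' : CohDer.IsCompactObject (q.fst.obj N))
    (hU' : CohDer.IsCompactObject (q.gst.obj (q.jst.obj N))) :
    CohDer.IsCompactObject N := by
  classical
  apply S0475.isCompactObject_of_finFactor
  intro ι X g
  have : HasColimitsOfShape (Discrete ℕ) R' :=
    hasColimitsOfShape_of_equivalence (Discrete.equivalence Equiv.ulift.{v, 0})
  have : q.jst.IsLeftAdjoint := q.adjJ.isLeftAdjoint
  have : q.fst.IsLeftAdjoint := q.adjF.isLeftAdjoint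
  have : q.gst.IsLeftAdjoint := q.adjG.isLeftAdjoint
  have : q.jls.IsRightAdjoint := q.adjJ.isRightAdjoint
  have : q.fls.IsRightAdjoint := q.adjF.isRightAdjoint
  have : PreservesColimitsOfSize.{v, v} q.jst := q.adjJ.leftAdjoint_preservesColimits
  have : PreservesColimitsOfSize.{v, v} q.fst := q.adjF.leftAdjoint_preservesColimits
  have : PreservesColimitsOfSize.{v, v} q.gst := q.adjG.leftAdjoint_preservesColimits
  -- step 1: restrictions to U and X'
  obtain ⟨s₁, hs₁⟩ := transfer q.jst _ (finFactor_of_isCompactObject _ hU) X (q.jst.map g)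
  obtain ⟨s₂, hs₂⟩ := transfer q.fst _ (finFactor_of_isCompactObject _ hX') X (q.fst.map g)
  have hj : q.jst.map (g ≫ r X (s₁ ∪ s₂)) = 0 := by
    have : g ≫ r X (s₁ ∪ s₂) = (g ≫ r X s₁) ≫ r X (s₁ ∪ s₂) := by
      rw [Category.assoc, r_r X s₁ _ Finset.subset_union_left]
    rw [this, Functor.map_comp, Functor.map_comp, hs₁, zero_comp]
  have hf : q.fst.map (g ≫ r X (s₁ ∪ s₂)) = 0 := by
    have : g ≫ r X (s₁ ∪ s₂) = (g ≫ r X s₂) ≫ r X (s₁ ∪ s₂) := by
      rw [Category.assoc, r_r X s₂ _ Finset.subset_union_right]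
    rw [this, Functor.map_comp, Functor.map_comp, hs₂, zero_comp]
  obtain ⟨g', hg'⟩ : ∃ g', g' = g ≫ r X (s₁ ∪ s₂) := ⟨_, rfl⟩
  rw [← hg'] at hj hf
  -- step 2: g' factors through the connecting map
  obtain ⟨d, hd⟩ := S16407.exists_d q hq (∐ X)
  have ha : g' ≫ biprod.lift (q.adjJ.unit.app (∐ X)) (q.adjF.unit.app (∐ X)) = 0 := by
    apply biprod.hom_ext
    · rw [Category.assoc, biprod.lift_fst, zero_comp]
      have := q.adjJ.unit.naturality g'
      simp only [Functor.id_obj, Functor.comp_obj, Functor.id_map, Functor.comp_map] at this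
      rw [this, hj, Functor.map_zero, comp_zero]
    · rw [Category.assoc, biprod.lift_snd, zero_comp]
      have := q.adjF.unit.naturality g'
      simp only [Functor.id_obj, Functor.comp_obj, Functor.id_map, Functor.comp_map] at this
      rw [this, hf, Functor.map_zero, comp_zero]
  obtain ⟨h, hh⟩ : ∃ h : N⟦(1 : ℤ)⟧ ⟶ q.fls.obj (q.fst.obj (q.jls.obj (q.jst.obj (∐ X)))),
      g'⟦(1 : ℤ)⟧' = h ≫ d := Triangle.coyoneda_exact₁ _ hd (g'⟦(1 : ℤ)⟧') (by
    show g'⟦(1 : ℤ)⟧' ≫ (biprod.lift (q.adjJ.unit.app (∐ X)) (q.adjF.unit.app (∐ X)))⟦(1 : ℤ)⟧' = 0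
    rw [← Functor.map_comp, ha, Functor.map_zero])
  -- step 3: compactness over U'
  have hFF : FinFactor (q.jpst.obj (q.fst.obj (N⟦(1 : ℤ)⟧))) := by
    have h1 : FinFactor ((q.gst.obj (q.jst.obj N))⟦(1 : ℤ)⟧) :=
      finFactor_shift _ (finFactor_of_isCompactObject _ hU') 1
    have e1 : (q.gst.obj (q.jst.obj N))⟦(1 : ℤ)⟧ ≅ q.gst.obj ((q.jst.obj N)⟦(1 : ℤ)⟧) :=
      ((q.gst.commShiftIso (1 : ℤ)).app _).symm
    have e2 : q.gst.obj ((q.jst.obj N)⟦(1 : ℤ)⟧) ≅ q.gst.obj (q.jst.obj (N⟦(1 : ℤ)⟧)) :=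
      q.gst.mapIso ((q.jst.commShiftIso (1 : ℤ)).app _).symm
    have e3 : q.gst.obj (q.jst.obj (N⟦(1 : ℤ)⟧)) ≅ q.jpst.obj (q.fst.obj (N⟦(1 : ℤ)⟧)) :=
      q.e.app _
    exact finFactor_of_iso (e1 ≪≫ e2 ≪≫ e3) h1
  obtain ⟨s₃, hs₃⟩ := transfer (q.jst ⋙ q.gst) _ hFF X (tr q _ _ h)
  have hh3 : h ≫ q.fls.map (q.fst.map (q.jls.map (q.jst.map (r X s₃)))) = 0 := by
    apply eq_zero_of_tr q hq
    rw [tr_natural]
    exact hs₃
  have hg3 : g' ≫ r X s₃ = 0 := by
    apply (shiftFunctor S (1 : ℤ)).map_injective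
    rw [Functor.map_comp, Functor.map_zero, hh, Category.assoc,
      S16408.result S S' R R' q hq (∐ X) (∐ X) (r X s₃) d d hd hd, ← Category.assoc, hh3,
      zero_comp]
  have hg'' : g ≫ r X (s₁ ∪ s₂) ≫ r X s₃ = 0 := by
    rw [← Category.assoc, ← hg']; exact hg3
  have hfin : g ≫ r X ((s₁ ∪ s₂) ∪ s₃) = 0 := by
    have e1 : r X (s₁ ∪ s₂) ≫ (r X s₃ ≫ r X ((s₁ ∪ s₂) ∪ s₃)) = r X ((s₁ ∪ s₂) ∪ s₃) := by
      rw [r_r X s₃ _ Finset.subset_union_right, r_r X (s₁ ∪ s₂) _ Finset.subset_union_left]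
    rw [← e1, ← Category.assoc, ← Category.assoc, Category.assoc g, hg'', zero_comp]
  exact ⟨_, _, eq_sum_of_comp_r X g _ hfin⟩

end Groth.Agent.S16411
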