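import Groth.Statements.S16414
import Mathlib.Tactic.Linarith
import Mathlib.Tactic.Ring

set_option autoImplicit false
open Dieud

namespace Groth.Agent.S16414

/-- Let μ be a rational number with 0 < μ ≤ 1 and i an integer, and put f(i,j) = max(−i−j, −j, 0) for
integers j. Then min over all integers j of f(i,j) + jμ exists and equals max(−iμ, 0). -/
theorem result (μ : ℚ) (hμ0 : 0 < μ) (hμ1 : μ ≤ 1) (i : ℤ) :
    IsLeast (Set.range fun j : ℤ => ((max (max (-i - j) (-j)) 0 : ℤ) : ℚ) + (j : ℚ) * μ)
      (max (-(i : ℚ) * μ) 0) := by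
  constructor
  · rcases le_or_gt 0 i with hi | hi
    · refine ⟨0, ?_⟩
      have h1 : max (max (-i - 0) (-0)) (0 : ℤ) = 0 := by omega
      have hi' : (0 : ℚ) ≤ (i : ℚ) := by exact_mod_cast hi
      have h2 : max (-(i : ℚ) * μ) 0 = 0 := by
        apply max_eq_right
        nlinarith
      simp only [h1, h2]
      simp
    · refine ⟨-i, ?_⟩
      have h1 : max (max (-i - -i) (- -i)) (0 : ℤ) = 0 := by omega
      have hi' : (i : ℚ) < 0 := by exact_mod_cast hi
      have h2 : max (-(i : ℚ) * μ) 0 = -(i : ℚ) * μ := by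
        apply max_eq_left
        nlinarith
      simp only [h1, h2]
      push_cast
      ring
  · rintro _ ⟨j, rfl⟩
    show _ ≤ ((max (max (-i - j) (-j)) 0 : ℤ) : ℚ) + (j : ℚ) * μ
    set f : ℤ := max (max (-i - j) (-j)) 0 with hf
    have f1 : -i - j ≤ f := by omega
    have f2 : -j ≤ f := by omega
    have f3 : 0 ≤ f := by omega
    have f1' : -(i : ℚ) - j ≤ f := by exact_mod_cast f1
    have f2' : -(j : ℚ) ≤ f := by exact_mod_cast f2
    have f3' : (0 : ℚ) ≤ f := by exact_mod_cast f3
    apply max_le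
    · rcases le_or_gt 0 ((i : ℚ) + j) with h | h
      · nlinarith
      · nlinarith
    · rcases le_or_gt 0 (j : ℚ) with h | h
      · nlinarith
      · nlinarith

end Groth.Agent.S16414
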