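import Groth.Statements.S16416
import Mathlib.LinearAlgebra.Span.Basic

set_option autoImplicit false
universe u v w
open Dieud

namespace Groth.Agent.S16416

/-- For a prime p and a perfect field k of characteristic p, write W = W(k) for the ring of Witt vectors
and σ for its Frobenius; let M and N be free W-modules of finite rank, each with additive maps F
(σ-semilinear) and V (with V(σ(a)m) = aV(m)) satisfying FV = VF = p, and H = Hom_W(M, N). On H the
operator F acts through h ↦ F ∘ h ∘ V, and V acts partially: V·h is the W-linear map h' with h'(V m)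
= V(h(m)) for all m, when it exists. Let H₁ be the largest W-submodule of H stable under both (it
contains every submodule stable under both). Then H₁ ∩ V·H = V·H₁: if y ∈ H and V·y exists and lies
in H₁, then y ∈ H₁, so that H₁/VH₁ → H/(H ∩ VH) is injective. (The published statement is for the
Cartier modules of two p-divisible formal groups over k, every slope of the first below every slope
of the second; only the structure just listed is used, so connectedness and the slope condition are
not assumed.) -/
theorem result
    (p : ℕ) [Fact p.Prime] (k : Type u) [Field k] [CharP k p] [PerfectRing k p]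
    (M : Type v) [AddCommGroup M] [Module (WittVector p k) M]
    [Module.Free (WittVector p k) M] [Module.Finite (WittVector p k) M]
    (N : Type w) [AddCommGroup N] [Module (WittVector p k) N]
    [Module.Free (WittVector p k) N] [Module.Finite (WittVector p k) N]
    (FM VM : M →+ M) (FN VN : N →+ N)
    (hFM : ∀ (a : WittVector p k) (m : M), FM (a • m) = WittVector.frobenius a • FM m)
    (hVM : ∀ (a : WittVector p k) (m : M), VM (WittVector.frobenius a • m) = a • VM m)
    (hFVM : ∀ m : M, FM (VM m) = (p : WittVector p k) • m)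
    (hVFM : ∀ m : M, VM (FM m) = (p : WittVector p k) • m)
    (hFN : ∀ (a : WittVector p k) (n : N), FN (a • n) = WittVector.frobenius a • FN n)
    (hVN : ∀ (a : WittVector p k) (n : N), VN (WittVector.frobenius a • n) = a • VN n)
    (hFVN : ∀ n : N, FN (VN n) = (p : WittVector p k) • n)
    (hVFN : ∀ n : N, VN (FN n) = (p : WittVector p k) • n)
    (H₁ : Submodule (WittVector p k) (M →ₗ[WittVector p k] N))
    (hF : ∀ h ∈ H₁, ∃ h' ∈ H₁, ∀ m : M, h' m = FN (h (VM m)))
    (hV : ∀ h ∈ H₁, ∃ h' ∈ H₁, ∀ m : M, h' (VM m) = VN (h m))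
    (hmax : ∀ S : Submodule (WittVector p k) (M →ₗ[WittVector p k] N),
      (∀ h ∈ S, ∃ h' ∈ S, ∀ m : M, h' m = FN (h (VM m))) →
      (∀ h ∈ S, ∃ h' ∈ S, ∀ m : M, h' (VM m) = VN (h m)) → S ≤ H₁)
    (y : M →ₗ[WittVector p k] N) (x : M →ₗ[WittVector p k] N) (hx : x ∈ H₁)
    (hxy : ∀ m : M, x (VM m) = VN (y m)) :
    y ∈ H₁ := by
  classical
  set W := WittVector p k with hW
  have hσ := WittVector.frobenius_bijective p k
  -- VM is semilinear for the inverse of Frobenius
  have hVM' : ∀ (a : W) (m : M), VM (a • m) = (Function.surjInv hσ.surjective a) • VM m := by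
    intro a m
    have h1 := hVM (Function.surjInv hσ.surjective a) m
    rw [Function.surjInv_eq hσ.surjective a] at h1
    exact h1
  have hVN' : ∀ (a : W) (n : N), VN (a • n) = (Function.surjInv hσ.surjective a) • VN n := by
    intro a n
    have h1 := hVN (Function.surjInv hσ.surjective a) n
    rw [Function.surjInv_eq hσ.surjective a] at h1
    exact h1
  -- the F-operator on Hom
  let Fop : (M →ₗ[W] N) → (M →ₗ[W] N) := fun h =>
    { toFun := fun m => FN (h (VM m))
      map_add' := fun m m' => by rw [map_add, map_add, map_add]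
      map_smul' := fun a m => by
        simp only [RingHom.id_apply]
        rw [hVM', map_smul, hFN, Function.surjInv_eq hσ.surjective a] }
  have hFop_apply : ∀ h m, Fop h m = FN (h (VM m)) := fun h m => rfl
  have hFop_add : ∀ h h', Fop (h + h') = Fop h + Fop h' := by
    intro h h'
    ext m
    simp only [hFop_apply, LinearMap.add_apply, map_add]
  have hFop_smul : ∀ (a : W) h, Fop (a • h) = WittVector.frobenius a • Fop h := by
    intro a h
    ext m
    simp only [hFop_apply, LinearMap.smul_apply, hFN]
  set S : Submodule W (M →ₗ[W] N) := H₁ ⊔ Submodule.span W (Set.range fun i : ℕ => Fop^[i] y) with hS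
  have hH₁S : H₁ ≤ S := le_sup_left
  have hgenS : ∀ i, Fop^[i] y ∈ S := fun i => le_sup_right (a := H₁) (Submodule.subset_span ⟨i, rfl⟩)
  have hFH₁ : ∀ h ∈ H₁, Fop h ∈ H₁ := by
    intro h hh
    obtain ⟨h', hh', e⟩ := hF h hh
    have : h' = Fop h := by
      ext m
      rw [e, hFop_apply]
    rw [← this]
    exact hh'
  have hSF : ∀ h ∈ S, Fop h ∈ S := by
    intro h hh
    rw [hS, Submodule.mem_sup] at hh
    obtain ⟨h₁, hh₁, h₂, hh₂, rfl⟩ := hh
    rw [hFop_add]
    refine S.add_mem (hH₁S (hFH₁ h₁ hh₁)) ?_
    induction hh₂ using Submodule.span_induction with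
    | mem z hz =>
      obtain ⟨i, rfl⟩ := hz
      have : Fop (Fop^[i] y) = Fop^[i + 1] y := by
        rw [Function.iterate_succ_apply']
      rw [this]
      exact hgenS (i + 1)
    | zero =>
      have : Fop 0 = 0 := by
        ext m
        simp [hFop_apply]
      rw [this]
      exact S.zero_mem
    | add z z' _ _ hz hz' =>
      rw [hFop_add]
      exact S.add_mem hz hz'
    | smul a z _ hz =>
      rw [hFop_smul]
      exact S.smul_mem _ hz
  have hSV : ∀ h ∈ S, ∃ h' ∈ S, ∀ m : M, h' (VM m) = VN (h m) := by
    intro h hh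
    rw [hS, Submodule.mem_sup] at hh
    obtain ⟨h₁, hh₁, h₂, hh₂, rfl⟩ := hh
    obtain ⟨h₁', hh₁', e₁⟩ := hV h₁ hh₁
    have key : ∃ h₂' ∈ S, ∀ m : M, h₂' (VM m) = VN (h₂ m) := by
      induction hh₂ using Submodule.span_induction with
      | mem z hz =>
        obtain ⟨i, rfl⟩ := hz
        cases i with
        | zero =>
          exact ⟨x, hH₁S hx, fun m => by simpa using hxy m⟩
        | succ i =>
          refine ⟨(p : W) • Fop^[i] y, S.smul_mem _ (hgenS i), ?_⟩
          intro m
          change ((p : W) • Fop^[i] y) (VM m) = VN ((Fop^[i + 1] y) m)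
          rw [Function.iterate_succ_apply', hFop_apply, hVFN, LinearMap.smul_apply]
      | zero =>
        exact ⟨0, S.zero_mem, fun m => by simp⟩
      | add z z' _ _ hz hz' =>
        obtain ⟨w, hw, ew⟩ := hz
        obtain ⟨w', hw', ew'⟩ := hz'
        refine ⟨w + w', S.add_mem hw hw', fun m => ?_⟩
        rw [LinearMap.add_apply, LinearMap.add_apply, ew, ew', map_add]
      | smul a z _ hz =>
        obtain ⟨w, hw, ew⟩ := hz
        refine ⟨(Function.surjInv hσ.surjective a) • w, S.smul_mem _ hw, fun m => ?_⟩
        rw [LinearMap.smul_apply, LinearMap.smul_apply, ew, hVN']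
    obtain ⟨h₂', hh₂', e₂⟩ := key
    refine ⟨h₁' + h₂', S.add_mem (hH₁S hh₁') hh₂', fun m => ?_⟩
    rw [LinearMap.add_apply, LinearMap.add_apply, e₁, e₂, map_add]
  have hSle := hmax S (fun h hh => ⟨Fop h, hSF h hh, fun m => rfl⟩) hSV
  exact hSle (by simpa using hgenS 0)

end Groth.Agent.S16416
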