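import Groth.Statements.S16418
import Mathlib.RingTheory.WittVector.DiscreteValuationRing
import Mathlib.RingTheory.Noetherian.Basic
import Mathlib.RingTheory.PrincipalIdealDomain
import Mathlib.LinearAlgebra.Span.Basic

set_option autoImplicit false
universe u v
open Dieud

namespace Groth.Agent.S16418

/-- Step of the proof: for a prime p and a perfect field k of characteristic p, write W = W(k) and σ for
its Frobenius; let M be a W-module with additive maps F (σ-semilinear) and V (with V(σ(a)m) = aV(m))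
such that FV = VF = p, V is injective, ⋂_n V^n M = 0 and M/VM is finitely generated over W. Put M₁ =
{x ∈ M : for every n there is m with V^m x ∈ F^n M} and M₂ = {x ∈ M : F^n x = 0 for some n}. Then M₂
is killed by a single power of F, and F is injective on M₁. (The published text makes these
assertions inside a proof, for the V-reduced Cartier module of a connected smooth formal group of
finite dimension over k; only the listed structure is used, and V-adic completeness is not needed.) -/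
theorem result
    (p : ℕ) [Fact p.Prime] (k : Type u) [Field k] [CharP k p] [PerfectRing k p]
    (M : Type v) [AddCommGroup M] [Module (WittVector p k) M]
    (F V : M →+ M)
    (hF : ∀ (a : WittVector p k) (m : M), F (a • m) = WittVector.frobenius a • F m)
    (hV : ∀ (a : WittVector p k) (m : M), V (WittVector.frobenius a • m) = a • V m)
    (hFV : ∀ m : M, F (V m) = (p : WittVector p k) • m)
    (hVF : ∀ m : M, V (F m) = (p : WittVector p k) • m)
    (hVinj : Function.Injective V)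
    (hsep : ∀ x : M, (∀ n : ℕ, ∃ y : M, x = (⇑V)^[n] y) → x = 0)
    (hfin : Module.Finite (WittVector p k) (M ⧸ Submodule.span (WittVector p k) (Set.range V))) :
    (∃ c : ℕ, ∀ x : M, (∃ n : ℕ, (⇑F)^[n] x = 0) → (⇑F)^[c] x = 0) ∧
    (∀ x : M, (∀ n : ℕ, ∃ (m : ℕ) (y : M), (⇑V)^[m] x = (⇑F)^[n] y) → F x = 0 → x = 0) := by
  classical
  set W := WittVector p k with hW
  -- F and V commute
  have hcomm : Function.Commute (⇑F) (⇑V) := fun m => by rw [hFV, hVF]
  have hFnV : ∀ (n : ℕ) (y : M), (⇑F)^[n] (V y) = V ((⇑F)^[n] y) := fun n y =>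
    (hcomm.iterate_left n).eq y
  have hFVn : ∀ (n : ℕ) (y : M), F ((⇑V)^[n] y) = (⇑V)^[n] (F y) := fun n y =>
    (hcomm.iterate_right n).eq y
  have hFn_add : ∀ (n : ℕ) (x y : M), (⇑F)^[n] (x + y) = (⇑F)^[n] x + (⇑F)^[n] y :=
    fun n x y => iterate_map_add F n x y
  have hFn_zero : ∀ n : ℕ, (⇑F)^[n] (0 : M) = 0 := fun n => iterate_map_zero F n
  have hFn_smul : ∀ (n : ℕ) (a : W) (x : M), (⇑F)^[n] x = 0 → (⇑F)^[n] (a • x) = 0 := by
    intro n
    induction n with
    | zero => intro a x hx; simp only [Function.iterate_zero, id_eq] at hx ⊢; rw [hx, smul_zero]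
    | succ n ih =>
      intro a x hx
      rw [Function.iterate_succ_apply] at hx ⊢
      rw [hF]
      exact ih _ _ hx
  have hFn_mono : ∀ (n c : ℕ) (x : M), n ≤ c → (⇑F)^[n] x = 0 → (⇑F)^[c] x = 0 := by
    intro n c x hnc hx
    obtain ⟨d, rfl⟩ := Nat.exists_eq_add_of_le hnc
    rw [add_comm, Function.iterate_add_apply, hx, hFn_zero]
  -- M₂ as a submodule
  let M₂ : Submodule W M :=
    { carrier := {x | ∃ n : ℕ, (⇑F)^[n] x = 0}
      add_mem' := by
        rintro x y ⟨n, hn⟩ ⟨n', hn'⟩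
        refine ⟨max n n', ?_⟩
        rw [hFn_add, hFn_mono n _ x (le_max_left _ _) hn, hFn_mono n' _ y (le_max_right _ _) hn',
          add_zero]
      zero_mem' := ⟨0, rfl⟩
      smul_mem' := by
        rintro a x ⟨n, hn⟩
        exact ⟨n, hFn_smul n a x hn⟩ }
  have hM₂ : ∀ x, x ∈ M₂ ↔ ∃ n : ℕ, (⇑F)^[n] x = 0 := fun x => Iff.rfl
  set VMs : Submodule W M := Submodule.span W (Set.range V) with hVMs
  have hVMs_mem : ∀ x ∈ VMs, ∃ y, x = V y := by
    intro x hx
    induction hx using Submodule.span_induction with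
    | mem z hz => obtain ⟨y, rfl⟩ := hz; exact ⟨y, rfl⟩
    | zero => exact ⟨0, (map_zero V).symm⟩
    | add z z' _ _ hz hz' =>
      obtain ⟨y, rfl⟩ := hz
      obtain ⟨y', rfl⟩ := hz'
      exact ⟨y + y', (map_add V y y').symm⟩
    | smul a z _ hz =>
      obtain ⟨y, rfl⟩ := hz
      exact ⟨WittVector.frobenius a • y, (hV a y).symm⟩
  -- (b)
  have hb : ∀ y, V y ∈ M₂ → y ∈ M₂ := by
    rintro y ⟨n, hn⟩
    refine ⟨n, hVinj ?_⟩
    rw [← hFnV, hn, map_zero]
  -- finite generation
  haveI : IsNoetherianRing W := inferInstance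
  haveI : Module.Finite W (M ⧸ VMs) := hfin
  haveI : IsNoetherian W (M ⧸ VMs) := isNoetherian_of_isNoetherianRing_of_finite W (M ⧸ VMs)
  obtain ⟨T, hT⟩ : (M₂.map VMs.mkQ).FG := IsNoetherian.noetherian _
  have hTmem : ∀ q ∈ T, ∃ x ∈ M₂, VMs.mkQ x = q := by
    intro q hq
    have : q ∈ M₂.map VMs.mkQ := by rw [← hT]; exact Submodule.subset_span hq
    exact this
  choose! xq hxq₁ hxq₂ using hTmem
  have hnq : ∀ q ∈ T, ∃ n : ℕ, (⇑F)^[n] (xq q) = 0 := fun q hq => hxq₁ q hq
  choose! nq hnq using hnq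
  set c := T.sup nq with hc
  have hcq : ∀ q ∈ T, (⇑F)^[c] (xq q) = 0 := fun q hq =>
    hFn_mono (nq q) c _ (Finset.le_sup hq) (hnq q hq)
  set t : Set M := xq '' (T : Set (M ⧸ VMs)) with ht
  have hspan_c : ∀ u ∈ Submodule.span W t, (⇑F)^[c] u = 0 := by
    intro u hu
    induction hu using Submodule.span_induction with
    | mem z hz => obtain ⟨q, hq, rfl⟩ := hz; exact hcq q hq
    | zero => exact hFn_zero c
    | add z z' _ _ hz hz' => rw [hFn_add, hz, hz', add_zero]
    | smul a z _ hz => exact hFn_smul c a z hz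
  have hdecomp : ∀ x ∈ M₂, ∃ u ∈ Submodule.span W t, ∃ y ∈ M₂, x = u + V y := by
    intro x hx
    have h1 : VMs.mkQ x ∈ (Submodule.span W t).map VMs.mkQ := by
      rw [Submodule.map_span, ht, ← Set.image_comp]
      have h2 : Set.image (⇑VMs.mkQ ∘ xq) (T : Set (M ⧸ VMs)) = (T : Set (M ⧸ VMs)) := by
        ext q
        constructor
        · rintro ⟨q', hq', rfl⟩
          rw [Function.comp_apply, hxq₂ q' hq']
          exact hq'
        · intro hq
          exact ⟨q, hq, hxq₂ q hq⟩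
      rw [h2, hT]
      exact Submodule.mem_map_of_mem hx
    obtain ⟨u, hu, hux⟩ := h1
    have h3 : x - u ∈ VMs := by
      rw [← Submodule.Quotient.mk_eq_zero, Submodule.Quotient.mk_sub]
      change VMs.mkQ x - VMs.mkQ u = 0
      rw [hux, sub_self]
    obtain ⟨y, hy⟩ := hVMs_mem _ h3
    have huM₂ : u ∈ M₂ := ⟨c, hspan_c u hu⟩
    refine ⟨u, hu, y, hb y ?_, ?_⟩
    · rw [← hy]
      exact M₂.sub_mem hx huM₂
    · rw [← hy]; abel
  have hmain : ∀ (N : ℕ) (x : M), x ∈ M₂ → ∃ z, (⇑F)^[c] x = (⇑V)^[N] z := by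
    intro N
    induction N with
    | zero => intro x _; exact ⟨(⇑F)^[c] x, rfl⟩
    | succ N ih =>
      intro x hx
      obtain ⟨u, hu, y, hy, rfl⟩ := hdecomp x hx
      obtain ⟨z, hz⟩ := ih y hy
      refine ⟨z, ?_⟩
      rw [hFn_add, hspan_c u hu, zero_add, hFnV, hz, Function.iterate_succ_apply']
  have part1 : ∀ x : M, (∃ n : ℕ, (⇑F)^[n] x = 0) → (⇑F)^[c] x = 0 := by
    intro x hx
    apply hsep
    intro N
    obtain ⟨z, hz⟩ := hmain N x hx
    exact ⟨z, hz⟩
  refine ⟨⟨c, part1⟩, ?_⟩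
  intro x hx hFx
  obtain ⟨m, y, hmy⟩ := hx (c + 1)
  have h1 : F ((⇑V)^[m] x) = 0 := by rw [hFVn, hFx, iterate_map_zero]
  have h2 : (⇑F)^[c + 2] y = 0 := by
    rw [Function.iterate_succ_apply', ← hmy, h1]
  have h3 := part1 y ⟨c + 2, h2⟩
  have h4 : (⇑V)^[m] x = 0 := by
    rw [hmy, Function.iterate_succ_apply', h3, map_zero]
  exact (hVinj.iterate m) (by rw [h4, iterate_map_zero])

end Groth.Agent.S16418
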