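import Groth.Statements.S16420
import Mathlib

set_option autoImplicit false
universe u v
open CAlg

namespace Groth.Agent.S16420


open TensorProduct

section General

variable {R : Type u} [CommRing R]
variable {A B C : Type v} [AddCommGroup A] [Module R A] [AddCommGroup B] [Module R B]
  [AddCommGroup C] [Module R C]

lemma exists_retraction (f : A →ₗ[R] B) (g : B →ₗ[R] C) (hf : Function.Injective f)
    (hg : Function.Surjective g) (hfg : Function.Exact f g) [Module.Projective R C] :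
    ∃ r : B →ₗ[R] A, r ∘ₗ f = LinearMap.id := by
  obtain ⟨s, hs⟩ := Module.projective_lifting_property g LinearMap.id hg
  have h := (hfg.split_tfae hf hg).out 0 1
  exact h.mp ⟨s, hs⟩

lemma mem_smul_of_retraction (𝔫 : Ideal R) (f : A →ₗ[R] B) (r : B →ₗ[R] A)
    (hr : r ∘ₗ f = LinearMap.id) (a : A) (ha : f a ∈ 𝔫 • (⊤ : Submodule R B)) :
    a ∈ 𝔫 • (⊤ : Submodule R A) := by
  have h1 : r (f a) ∈ Submodule.map r (𝔫 • (⊤ : Submodule R B)) := Submodule.mem_map_of_mem ha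
  rw [Submodule.map_smul''] at h1
  have h2 : r (f a) = a := LinearMap.congr_fun hr a
  rw [h2] at h1
  exact Submodule.smul_mono le_rfl le_top h1

lemma mem_smul_of_free_quotient (𝔫 : Ideal R) (P : Submodule R B) [Module.Free R (B ⧸ P)]
    (x : B) (hx : x ∈ P) (hx' : x ∈ 𝔫 • (⊤ : Submodule R B)) : x ∈ 𝔫 • P := by
  obtain ⟨r, hr⟩ := exists_retraction P.subtype P.mkQ P.injective_subtype
    (Submodule.mkQ_surjective P) (LinearMap.exact_subtype_mkQ P)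
  have h1 := mem_smul_of_retraction 𝔫 P.subtype r hr ⟨x, hx⟩ hx'
  have h2 : P.subtype ⟨x, hx⟩ ∈ Submodule.map P.subtype (𝔫 • (⊤ : Submodule R P)) :=
    Submodule.mem_map_of_mem h1
  rw [Submodule.map_smul'', Submodule.map_subtype_top] at h2
  exact h2

/-- Membership of `1 ⊗ x` in the base change of a submodule to `R ⧸ 𝔫`. -/
lemma one_tmul_mem_baseChange_iff (𝔫 : Ideal R) (p : Submodule R B) (x : B) :
    (1 : R ⧸ 𝔫) ⊗ₜ[R] x ∈ p.baseChange (R ⧸ 𝔫) ↔ x ∈ p ⊔ 𝔫 • (⊤ : Submodule R B) := by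
  constructor
  · intro h
    let ψ : (R ⧸ 𝔫) ⊗[R] B →ₗ[R] B ⧸ (p ⊔ 𝔫 • (⊤ : Submodule R B)) :=
      (Submodule.mapQ (𝔫 • (⊤ : Submodule R B)) (p ⊔ 𝔫 • (⊤ : Submodule R B)) LinearMap.id
        (by rw [Submodule.comap_id]; exact le_sup_right)) ∘ₗ
        (TensorProduct.quotTensorEquivQuotSMul B 𝔫).toLinearMap
    have hψ : ∀ (a : R) (y : B), ψ (Ideal.Quotient.mk 𝔫 a ⊗ₜ[R] y) =
        Submodule.Quotient.mk (a • y) := by
      intro a y
      simp [ψ]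
    have hker : ∀ z ∈ p.baseChange (R ⧸ 𝔫), ψ z = 0 := by
      rintro z ⟨w, rfl⟩
      induction w using TensorProduct.induction_on with
      | zero => simp
      | tmul a m =>
        obtain ⟨a, rfl⟩ := Ideal.Quotient.mk_surjective a
        rw [LinearMap.baseChange_tmul, hψ, Submodule.Quotient.mk_eq_zero]
        exact Submodule.mem_sup_left (p.smul_mem a m.2)
      | add w w' hw hw' => rw [map_add, map_add, hw, hw', add_zero]
    have h1 := hker _ h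
    rw [← map_one (Ideal.Quotient.mk 𝔫), hψ, one_smul, Submodule.Quotient.mk_eq_zero] at h1
    exact h1
  · intro h
    obtain ⟨y, hy, z, hz, rfl⟩ := Submodule.mem_sup.mp h
    rw [TensorProduct.tmul_add]
    have hz0 : (1 : R ⧸ 𝔫) ⊗ₜ[R] z = 0 := by
      refine Submodule.smul_induction_on hz ?_ ?_
      · intro a ha m _
        rw [← TensorProduct.smul_tmul, Algebra.smul_def, mul_one]
        have : algebraMap R (R ⧸ 𝔫) a = 0 := Ideal.Quotient.eq_zero_iff_mem.mpr ha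
        rw [this, TensorProduct.zero_tmul]
      · intro m m' hm hm'
        rw [TensorProduct.tmul_add, hm, hm', add_zero]
    rw [hz0, add_zero]
    exact Submodule.tmul_mem_baseChange_of_mem 1 hy

lemma baseChange_le_of_le_sup (𝔫 : Ideal R) (p p' : Submodule R B)
    (h : p ≤ p' ⊔ 𝔫 • (⊤ : Submodule R B)) :
    p.baseChange (R ⧸ 𝔫) ≤ p'.baseChange (R ⧸ 𝔫) := by
  rw [Submodule.baseChange_eq_span, Submodule.span_le]
  rintro _ ⟨m, hm, rfl⟩
  exact (one_tmul_mem_baseChange_iff 𝔫 p' m).mpr (h hm)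

lemma le_sup_of_baseChange_le (𝔫 : Ideal R) (p p' : Submodule R B)
    (h : p.baseChange (R ⧸ 𝔫) ≤ p'.baseChange (R ⧸ 𝔫)) :
    p ≤ p' ⊔ 𝔫 • (⊤ : Submodule R B) := by
  intro x hx
  exact (one_tmul_mem_baseChange_iff 𝔫 p' x).mp (h (Submodule.tmul_mem_baseChange_of_mem 1 hx))

end General


section Main

variable {R : Type u} [CommRing R] {H₁ H H₂ : Type v}
  [AddCommGroup H₁] [Module R H₁] [AddCommGroup H] [Module R H] [AddCommGroup H₂] [Module R H₂]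
  (f : H₁ →ₗ[R] H) (g : H →ₗ[R] H₂)

/-- The unipotent automorphism `x ↦ x + f (u (g x))`. -/
def phi (u : H₂ →ₗ[R] H₁) : H →ₗ[R] H := LinearMap.id + f ∘ₗ u ∘ₗ g

lemma phi_apply (u : H₂ →ₗ[R] H₁) (x : H) : phi f g u x = x + f (u (g x)) := rfl

variable {f g}

lemma g_phi (hfg : Function.Exact f g) (u : H₂ →ₗ[R] H₁) (x : H) : g (phi f g u x) = g x := by
  rw [phi_apply, map_add, hfg.apply_apply_eq_zero, add_zero]

lemma phi_phi_neg (hfg : Function.Exact f g) (u : H₂ →ₗ[R] H₁) (x : H) :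
    phi f g u (phi f g (-u) x) = x := by
  rw [phi_apply, g_phi hfg, phi_apply]
  simp

lemma phi_neg_phi (hfg : Function.Exact f g) (u : H₂ →ₗ[R] H₁) (x : H) :
    phi f g (-u) (phi f g u x) = x := by
  have := phi_phi_neg hfg (-u) x
  rwa [neg_neg] at this

/-- `phi` as a linear equivalence. -/
def phiEquiv (hfg : Function.Exact f g) (u : H₂ →ₗ[R] H₁) : H ≃ₗ[R] H :=
  LinearEquiv.ofLinear (phi f g u) (phi f g (-u))
    (LinearMap.ext (phi_phi_neg hfg u)) (LinearMap.ext (phi_neg_phi hfg u))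

lemma f_mem_smul (𝔫 : Ideal R) (h : H₁) (hh : h ∈ 𝔫 • (⊤ : Submodule R H₁)) :
    f h ∈ 𝔫 • (⊤ : Submodule R H) := by
  have h1 : f h ∈ Submodule.map f (𝔫 • (⊤ : Submodule R H₁)) := Submodule.mem_map_of_mem hh
  rw [Submodule.map_smul''] at h1
  exact Submodule.smul_mono le_rfl le_top h1

/-- Part (1): the translate again lies in `L`. -/
theorem part1 (hfg : Function.Exact f g) (F₁ : Submodule R H₁) (F₂ : Submodule R H₂)
    (𝔫 : Ideal R) (Fb : Submodule (R ⧸ 𝔫) ((R ⧸ 𝔫) ⊗[R] H)) (F : Submodule R H)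
    (hF : (∃ C : Submodule R H, IsCompl F C) ∧ F ⊓ LinearMap.range f = Submodule.map f F₁ ∧
      Submodule.baseChange (R ⧸ 𝔫) F = Fb ∧ Submodule.map g F = F₂)
    (u : H₂ →ₗ[R] H₁) (hu : ∀ y : H₂, u y ∈ 𝔫 • (⊤ : Submodule R H₁)) :
    (∃ C : Submodule R H, IsCompl (Submodule.map (phi f g u) F) C) ∧
      Submodule.map (phi f g u) F ⊓ LinearMap.range f = Submodule.map f F₁ ∧
      Submodule.baseChange (R ⧸ 𝔫) (Submodule.map (phi f g u) F) = Fb ∧
      Submodule.map g (Submodule.map (phi f g u) F) = F₂ := by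
  obtain ⟨⟨C, hC⟩, hF1, hFb, hF2⟩ := hF
  have hF1le : Submodule.map f F₁ ≤ F := hF1 ▸ inf_le_left
  refine ⟨⟨Submodule.map (phi f g u) C, ?_⟩, ?_, ?_, ?_⟩
  · have := (Submodule.orderIsoMapComap (phiEquiv hfg u)).isCompl_iff.mp hC
    exact this
  · apply le_antisymm
    · rintro _ ⟨⟨x, hx, rfl⟩, ⟨h, hh⟩⟩
      have hgx : g x = 0 := by
        have := g_phi hfg u x
        rw [← hh, hfg.apply_apply_eq_zero] at this
        exact this.symm
      have hxx : phi f g u x = x := by rw [phi_apply, hgx, map_zero, map_zero, add_zero]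
      rw [hxx]
      have hxr : x ∈ LinearMap.range f := (hfg x).mp hgx
      have : x ∈ F ⊓ LinearMap.range f := ⟨hx, hxr⟩
      rwa [hF1] at this
    · rintro _ ⟨h, hh, rfl⟩
      refine ⟨⟨f h, hF1le ⟨h, hh, rfl⟩, ?_⟩, ⟨h, rfl⟩⟩
      rw [phi_apply, hfg.apply_apply_eq_zero, map_zero, map_zero, add_zero]
  · rw [← hFb]
    apply le_antisymm
    · apply baseChange_le_of_le_sup
      rintro _ ⟨x, hx, rfl⟩
      rw [phi_apply]
      exact Submodule.add_mem_sup hx (f_mem_smul 𝔫 _ (hu _))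
    · apply baseChange_le_of_le_sup
      intro x hx
      have : x = phi f g u x + (-(f (u (g x)))) := by rw [phi_apply]; abel
      rw [this]
      exact Submodule.add_mem_sup ⟨x, hx, rfl⟩
        (Submodule.neg_mem _ (f_mem_smul 𝔫 _ (hu _)))
  · rw [← hF2]
    ext y
    constructor
    · rintro ⟨_, ⟨x, hx, rfl⟩, rfl⟩
      exact ⟨x, hx, (g_phi hfg u x).symm⟩
    · rintro ⟨x, hx, rfl⟩
      exact ⟨phi f g u x, ⟨x, hx, rfl⟩, g_phi hfg u x⟩

/-- Part (2): when the translate equals `F`. -/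
theorem part2 (hf : Function.Injective f) (hfg : Function.Exact f g)
    (F₁ : Submodule R H₁) (F₂ : Submodule R H₂) [Module.Free R (H₁ ⧸ F₁)]
    (𝔫 : Ideal R) (F : Submodule R H)
    (hF1 : F ⊓ LinearMap.range f = Submodule.map f F₁) (hF2 : Submodule.map g F = F₂)
    (u : H₂ →ₗ[R] H₁) (hu : ∀ y : H₂, u y ∈ 𝔫 • (⊤ : Submodule R H₁)) :
    Submodule.map (phi f g u) F = F ↔ ∀ y ∈ F₂, u y ∈ 𝔫 • F₁ := by
  have hF1le : Submodule.map f F₁ ≤ F := hF1 ▸ inf_le_left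
  constructor
  · intro h y hy
    rw [← hF2] at hy
    obtain ⟨x, hx, rfl⟩ := hy
    have h1 : phi f g u x ∈ F := h ▸ ⟨x, hx, rfl⟩
    have h2 : f (u (g x)) ∈ F := by
      have : f (u (g x)) = phi f g u x - x := by rw [phi_apply]; abel
      rw [this]
      exact F.sub_mem h1 hx
    have h3 : f (u (g x)) ∈ F ⊓ LinearMap.range f := ⟨h2, ⟨_, rfl⟩⟩
    rw [hF1] at h3
    obtain ⟨h', hh', he⟩ := h3
    have : h' = u (g x) := hf he
    rw [this] at hh'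
    exact mem_smul_of_free_quotient 𝔫 F₁ _ hh' (hu _)
  · intro h
    have hle : ∀ v : H₂ →ₗ[R] H₁, (∀ y ∈ F₂, v y ∈ 𝔫 • F₁) →
        Submodule.map (phi f g v) F ≤ F := by
      rintro v hv _ ⟨x, hx, rfl⟩
      rw [phi_apply]
      have hgx : g x ∈ F₂ := hF2 ▸ ⟨x, hx, rfl⟩
      have h1 : v (g x) ∈ F₁ := Submodule.smul_le_right (hv _ hgx)
      exact F.add_mem hx (hF1le ⟨_, h1, rfl⟩)
    apply le_antisymm (hle u h)
    intro x hx
    have h1 : phi f g (-u) x ∈ F := hle (-u) (fun y hy => by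
      rw [LinearMap.neg_apply]; exact Submodule.neg_mem _ (h y hy)) ⟨x, hx, rfl⟩
    exact ⟨_, h1, phi_phi_neg hfg u x⟩

lemma g_mem_smul (𝔫 : Ideal R) (h : H) (hh : h ∈ 𝔫 • (⊤ : Submodule R H)) :
    g h ∈ 𝔫 • (⊤ : Submodule R H₂) := by
  have h1 : g h ∈ Submodule.map g (𝔫 • (⊤ : Submodule R H)) := Submodule.mem_map_of_mem hh
  rw [Submodule.map_smul''] at h1
  exact Submodule.smul_mono le_rfl le_top h1

/-- Part (3): transitivity. -/
theorem part3 (hf : Function.Injective f) (hg : Function.Surjective g)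
    (hfg : Function.Exact f g) [Module.Free R H₂]
    (F₁ : Submodule R H₁) (F₂ : Submodule R H₂) [Module.Free R (H₂ ⧸ F₂)]
    (𝔫 : Ideal R) (Fb : Submodule (R ⧸ 𝔫) ((R ⧸ 𝔫) ⊗[R] H)) (F F' : Submodule R H)
    (hF : F ⊓ LinearMap.range f = Submodule.map f F₁ ∧
      Submodule.baseChange (R ⧸ 𝔫) F = Fb ∧ Submodule.map g F = F₂)
    (hF' : F' ⊓ LinearMap.range f = Submodule.map f F₁ ∧
      Submodule.baseChange (R ⧸ 𝔫) F' = Fb ∧ Submodule.map g F' = F₂) :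
    ∃ u : H₂ →ₗ[R] H₁, (∀ y : H₂, u y ∈ 𝔫 • (⊤ : Submodule R H₁)) ∧
      F' = Submodule.map (phi f g u) F := by
  obtain ⟨hF1, hFb, hF2⟩ := hF
  obtain ⟨hF'1, hF'b, hF'2⟩ := hF'
  have hF1le : Submodule.map f F₁ ≤ F := hF1 ▸ inf_le_left
  have hF'1le : Submodule.map f F₁ ≤ F' := hF'1 ▸ inf_le_left
  obtain ⟨rf, hrf⟩ := exists_retraction f g hf hg hfg
  obtain ⟨π₂, hπ₂⟩ := exists_retraction F₂.subtype F₂.mkQ F₂.injective_subtype
    (Submodule.mkQ_surjective F₂) (LinearMap.exact_subtype_mkQ F₂)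
  have hproj : Module.Projective R F₂ := Module.Projective.of_split F₂.subtype π₂ hπ₂
  have hsup : F ≤ F' ⊔ 𝔫 • (⊤ : Submodule R H) :=
    le_sup_of_baseChange_le 𝔫 F F' (by rw [hFb, hF'b])
  -- elements of `F` and `F'` with the same image under `g` differ by elements of `f F₁`
  have hdiff : ∀ x ∈ F, ∀ x₀ ∈ F, g x = g x₀ → x - x₀ ∈ Submodule.map f F₁ := by
    intro x hx x₀ hx₀ hg'
    rw [← hF1]
    refine ⟨F.sub_mem hx hx₀, (hfg _).mp ?_⟩
    rw [map_sub, hg', sub_self]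
  have hdiff' : ∀ x ∈ F', ∀ x₀ ∈ F', g x = g x₀ → x - x₀ ∈ Submodule.map f F₁ := by
    intro x hx x₀ hx₀ hg'
    rw [← hF'1]
    refine ⟨F'.sub_mem hx hx₀, (hfg _).mp ?_⟩
    rw [map_sub, hg', sub_self]
  -- the correspondence
  let T : Submodule R (F₂ × H₁) :=
    { carrier := {p | p.2 ∈ 𝔫 • (⊤ : Submodule R H₁) ∧
        ∃ x ∈ F, g x = (p.1 : H₂) ∧ x + f p.2 ∈ F'}
      add_mem' := by
        rintro p q ⟨hp, x, hx, hxp, hxp'⟩ ⟨hq, x', hx', hxq, hxq'⟩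
        refine ⟨Submodule.add_mem _ hp hq, x + x', F.add_mem hx hx', ?_, ?_⟩
        · rw [map_add, hxp, hxq]; rfl
        · have : x + x' + f (p + q).2 = (x + f p.2) + (x' + f q.2) := by
            rw [Prod.snd_add, map_add]; abel
          rw [this]
          exact F'.add_mem hxp' hxq'
      zero_mem' := ⟨Submodule.zero_mem _, 0, F.zero_mem, by simp, by simp⟩
      smul_mem' := by
        rintro c p ⟨hp, x, hx, hxp, hxp'⟩
        refine ⟨Submodule.smul_mem _ c hp, c • x, F.smul_mem c hx, ?_, ?_⟩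
        · rw [map_smul, hxp]; rfl
        · have : c • x + f (c • p).2 = c • (x + f p.2) := by
            rw [Prod.smul_snd, map_smul, smul_add]
          rw [this]
          exact F'.smul_mem c hxp' }
  have hTsurj : Function.Surjective ((LinearMap.fst R F₂ H₁) ∘ₗ T.subtype) := by
    rintro ⟨y, hy⟩
    have hy' := hy
    rw [← hF2] at hy'
    obtain ⟨x, hx, hgx⟩ := hy'
    obtain ⟨x2, hx2, n, hn, hxn⟩ := Submodule.mem_sup.mp (hsup hx)
    have hgn : g n ∈ 𝔫 • F₂ := by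
      apply mem_smul_of_free_quotient 𝔫 F₂ _ _ (g_mem_smul 𝔫 n hn)
      have : g n = y - g x2 := by rw [← hgx, ← hxn, map_add]; abel
      rw [this]
      exact F₂.sub_mem hy (hF'2 ▸ ⟨x2, hx2, rfl⟩)
    rw [← hF'2, ← Submodule.map_smul''] at hgn
    obtain ⟨x3, hx3, hgx3⟩ := hgn
    have hx3F' : x3 ∈ F' := Submodule.smul_le_right hx3
    have hx3n : x3 ∈ 𝔫 • (⊤ : Submodule R H) := Submodule.smul_mono le_rfl le_top hx3
    have hker : g (x3 - n) = 0 := by rw [map_sub, hgx3, sub_self]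
    obtain ⟨h, hh⟩ := (hfg _).mp hker
    have hhn : h ∈ 𝔫 • (⊤ : Submodule R H₁) := by
      apply mem_smul_of_retraction 𝔫 f rf hrf
      rw [hh]
      exact Submodule.sub_mem _ hx3n hn
    refine ⟨⟨(⟨y, hy⟩, h), hhn, x, hx, hgx, ?_⟩, rfl⟩
    have : x + f h = x2 + x3 := by rw [hh, ← hxn]; abel
    show x + f h ∈ F'
    rw [this]
    exact F'.add_mem hx2 hx3F'
  obtain ⟨s, hs⟩ := Module.projective_lifting_property
    ((LinearMap.fst R F₂ H₁) ∘ₗ T.subtype) LinearMap.id hTsurj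
  let u₀ : F₂ →ₗ[R] H₁ := (LinearMap.snd R F₂ H₁) ∘ₗ T.subtype ∘ₗ s
  have hs1 : ∀ y : F₂, ((s y : F₂ × H₁)).1 = y := fun y => LinearMap.congr_fun hs y
  have hu₀ : ∀ y : F₂, u₀ y ∈ 𝔫 • (⊤ : Submodule R H₁) ∧
      ∃ x ∈ F, g x = (y : H₂) ∧ x + f (u₀ y) ∈ F' := by
    intro y
    obtain ⟨h1, x, hx, h2, h3⟩ := (s y).2
    rw [hs1 y] at h2
    exact ⟨h1, x, hx, h2, h3⟩
  have hπ₂' : ∀ y : F₂, π₂ (y : H₂) = y := fun y => LinearMap.congr_fun hπ₂ y
  refine ⟨u₀ ∘ₗ π₂, fun y => (hu₀ _).1, ?_⟩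
  have hle : Submodule.map (phi f g (u₀ ∘ₗ π₂)) F ≤ F' := by
    rintro _ ⟨x, hx, rfl⟩
    have hgx : g x ∈ F₂ := hF2 ▸ ⟨x, hx, rfl⟩
    obtain ⟨-, x₀, hx₀, hgx₀, hx₀'⟩ := hu₀ ⟨g x, hgx⟩
    rw [phi_apply, LinearMap.comp_apply, hπ₂' ⟨g x, hgx⟩]
    have h1 : x - x₀ ∈ F' := hF'1le (hdiff x hx x₀ hx₀ hgx₀.symm)
    have : x + f (u₀ ⟨g x, hgx⟩) = (x₀ + f (u₀ ⟨g x, hgx⟩)) + (x - x₀) := by abel
    rw [this]
    exact F'.add_mem hx₀' h1
  apply le_antisymm _ hle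
  intro x' hx'
  have hgx' : g x' ∈ F₂ := hF'2 ▸ ⟨x', hx', rfl⟩
  rw [← hF2] at hgx'
  obtain ⟨x, hx, hgx⟩ := hgx'
  have hz : phi f g (u₀ ∘ₗ π₂) x ∈ Submodule.map (phi f g (u₀ ∘ₗ π₂)) F := ⟨x, hx, rfl⟩
  have hzF' := hle hz
  have h1 : x' - phi f g (u₀ ∘ₗ π₂) x ∈ Submodule.map f F₁ :=
    hdiff' x' hx' _ hzF' (by rw [g_phi hfg, hgx])
  have h2 : Submodule.map f F₁ ≤ Submodule.map (phi f g (u₀ ∘ₗ π₂)) F := by
    rintro _ ⟨h, hh, rfl⟩
    refine ⟨f h, hF1le ⟨h, hh, rfl⟩, ?_⟩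
    rw [phi_apply, hfg.apply_apply_eq_zero, map_zero, map_zero, add_zero]
  have : x' = phi f g (u₀ ∘ₗ π₂) x + (x' - phi f g (u₀ ∘ₗ π₂) x) := by abel
  rw [this]
  exact Submodule.add_mem _ hz (h2 h1)

end Main


open TensorProduct in

open TensorProduct in
/-- For a commutative local Artinian ring R and an exact sequence 0 → H₁ → H → H₂ → 0 of finite free
R-modules, let F₁ ⊆ H₁ and F₂ ⊆ H₂ be submodules with free quotients, 𝔫 an ideal of R of square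
zero, R̄ = R/𝔫, and F̄ ⊆ H̄ = R̄ ⊗ H an R̄-submodule with free quotient meeting the image of R̄ ⊗ H₁
in the image of R̄ ⊗ F₁ and mapping onto the image of R̄ ⊗ F₂; let L be the set of direct summands F
of H with F ∩ H₁ = F₁, with image F̄ in H̄ and with image F₂ in H₂. Then L is a torsor under
Hom_R(F₂, 𝔫(H₁/F₁)), acting as follows: an R-linear u : H₂ → H₁ with u(H₂) ⊆ 𝔫H₁ moves F ∈ L to the
image of F under x ↦ x + f(u(g(x))). Precisely, for F ∈ L: (1) that image again lies in L; (2) it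
equals F if and only if u(F₂) ⊆ 𝔫F₁; (3) every F' ∈ L is obtained from F in this way for some such
u. (The published statement phrases the torsor under the R̄-linear maps from F̄₂ to 𝔫 ⊗ (H̄₁/F̄₁), a
group identified with the maps u as above modulo those with u(F₂) ⊆ 𝔫F₁, and describes the action
through a lift F₂ → 𝔫 ⊗ H₁ composed with F → F/F₁ ≅ F₂; restricted to F this is x ↦ f(u(g(x))).) -/
theorem result
    (R : Type u) [CommRing R] [IsArtinianRing R] [IsLocalRing R]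
    (H₁ : Type v) (H : Type v) (H₂ : Type v)
    [AddCommGroup H₁] [Module R H₁] [AddCommGroup H] [Module R H] [AddCommGroup H₂] [Module R H₂]
    [Module.Free R H₁] [Module.Finite R H₁] [Module.Free R H] [Module.Finite R H]
    [Module.Free R H₂] [Module.Finite R H₂]
    (f : H₁ →ₗ[R] H) (g : H →ₗ[R] H₂) (hf : Function.Injective f) (hg : Function.Surjective g)
    (hfg : Function.Exact f g)
    (F₁ : Submodule R H₁) (F₂ : Submodule R H₂) [Module.Free R (H₁ ⧸ F₁)] [Module.Free R (H₂ ⧸ F₂)]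
    (𝔫 : Ideal R) (hn : 𝔫 * 𝔫 = ⊥)
    (Fb : Submodule (R ⧸ 𝔫) ((R ⧸ 𝔫) ⊗[R] H))
    [Module.Free (R ⧸ 𝔫) (((R ⧸ 𝔫) ⊗[R] H) ⧸ Fb)]
    (h1 : Fb ⊓ LinearMap.range (f.baseChange (R ⧸ 𝔫)) =
      Submodule.map (f.baseChange (R ⧸ 𝔫)) (F₁.baseChange (R ⧸ 𝔫)))
    (h2 : Submodule.map (g.baseChange (R ⧸ 𝔫)) Fb = F₂.baseChange (R ⧸ 𝔫))
    (F F' : Submodule R H)
    (hF : (∃ C : Submodule R H, IsCompl (F) C) ∧
      (F) ⊓ LinearMap.range f = Submodule.map f F₁ ∧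
      Submodule.baseChange (R ⧸ 𝔫) (F) = Fb ∧ Submodule.map g (F) = F₂)
    (hF' : (∃ C : Submodule R H, IsCompl (F') C) ∧
      (F') ⊓ LinearMap.range f = Submodule.map f F₁ ∧
      Submodule.baseChange (R ⧸ 𝔫) (F') = Fb ∧ Submodule.map g (F') = F₂) :
    (∀ u : H₂ →ₗ[R] H₁, (∀ y : H₂, u y ∈ 𝔫 • (⊤ : Submodule R H₁)) →
      (∃ C : Submodule R H, IsCompl (Submodule.map (LinearMap.id + f ∘ₗ u ∘ₗ g) F) C) ∧
      (Submodule.map (LinearMap.id + f ∘ₗ u ∘ₗ g) F) ⊓ LinearMap.range f = Submodule.map f F₁ ∧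
      Submodule.baseChange (R ⧸ 𝔫) (Submodule.map (LinearMap.id + f ∘ₗ u ∘ₗ g) F) = Fb ∧ Submodule.map g (Submodule.map (LinearMap.id + f ∘ₗ u ∘ₗ g) F) = F₂) ∧
    (∀ u : H₂ →ₗ[R] H₁, (∀ y : H₂, u y ∈ 𝔫 • (⊤ : Submodule R H₁)) →
      (Submodule.map (LinearMap.id + f ∘ₗ u ∘ₗ g) F = F ↔ ∀ y ∈ F₂, u y ∈ 𝔫 • F₁)) ∧
    (∃ u : H₂ →ₗ[R] H₁, (∀ y : H₂, u y ∈ 𝔫 • (⊤ : Submodule R H₁)) ∧
      F' = Submodule.map (LinearMap.id + f ∘ₗ u ∘ₗ g) F) := by
  refine ⟨fun u hu => part1 hfg F₁ F₂ 𝔫 Fb F hF u hu,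
    fun u hu => part2 hf hfg F₁ F₂ 𝔫 F hF.2.1 hF.2.2.2 u hu,
    part3 hf hg hfg F₁ F₂ 𝔫 Fb F F' hF.2 hF'.2⟩

end Groth.Agent.S16420
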