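import Groth.Statements.S16419
import Mathlib
import Groth.Agent.S16420

set_option autoImplicit false
universe u v
open CAlg

namespace Groth.Agent.S16419


open TensorProduct

lemma exists_one_tmul {R : Type u} [CommRing R] (𝔫 : Ideal R) {B : Type v} [AddCommGroup B]
    [Module R B] (z : (R ⧸ 𝔫) ⊗[R] B) : ∃ h : B, (1 : R ⧸ 𝔫) ⊗ₜ[R] h = z := by
  induction z using TensorProduct.induction_on with
  | zero => exact ⟨0, by simp⟩
  | tmul a m =>
    obtain ⟨a, rfl⟩ := Ideal.Quotient.mk_surjective a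
    refine ⟨a • m, ?_⟩
    rw [← TensorProduct.smul_tmul, Algebra.smul_def, mul_one]; rfl
  | add w w' hw hw' =>
    obtain ⟨h, rfl⟩ := hw
    obtain ⟨h', rfl⟩ := hw'
    exact ⟨h + h', TensorProduct.tmul_add _ _ _⟩

lemma one_tmul_eq_zero_iff {R : Type u} [CommRing R] (𝔫 : Ideal R) {B : Type v} [AddCommGroup B]
    [Module R B] (x : B) :
    (1 : R ⧸ 𝔫) ⊗ₜ[R] x = 0 ↔ x ∈ 𝔫 • (⊤ : Submodule R B) := by
  have := S16420.one_tmul_mem_baseChange_iff 𝔫 (⊥ : Submodule R B) x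
  rw [Submodule.baseChange_bot, Submodule.mem_bot, bot_sup_eq] at this
  exact this

open TensorProduct in
/-- For a commutative local Artinian ring R and an exact sequence 0 → H₁ → H → H₂ → 0 of finite free
R-modules, let F₁ ⊆ H₁ and F₂ ⊆ H₂ be submodules with H₁/F₁ and H₂/F₂ free; let 𝔫 be an ideal of R
of square zero, R̄ = R/𝔫, and F̄ an R̄-submodule of H̄ = R̄ ⊗ H with free quotient such that F̄
meets the image of R̄ ⊗ H₁ in the image of R̄ ⊗ F₁ and the image of F̄ in R̄ ⊗ H₂ is the image of R̄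
⊗ F₂. Then there is a direct summand F of H with F ∩ H₁ = F₁, whose image in H̄ is F̄ and whose
image in H₂ is F₂. -/
theorem result
    (R : Type u) [CommRing R] [IsArtinianRing R] [IsLocalRing R]
    (H₁ : Type v) (H : Type v) (H₂ : Type v)
    [AddCommGroup H₁] [Module R H₁] [AddCommGroup H] [Module R H] [AddCommGroup H₂] [Module R H₂]
    [Module.Free R H₁] [Module.Finite R H₁] [Module.Free R H] [Module.Finite R H]
    [Module.Free R H₂] [Module.Finite R H₂]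
    (f : H₁ →ₗ[R] H) (g : H →ₗ[R] H₂) (hf : Function.Injective f) (hg : Function.Surjective g)
    (hfg : Function.Exact f g)
    (F₁ : Submodule R H₁) (F₂ : Submodule R H₂) [Module.Free R (H₁ ⧸ F₁)] [Module.Free R (H₂ ⧸ F₂)]
    (𝔫 : Ideal R) (hn : 𝔫 * 𝔫 = ⊥)
    (Fb : Submodule (R ⧸ 𝔫) ((R ⧸ 𝔫) ⊗[R] H))
    [Module.Free (R ⧸ 𝔫) (((R ⧸ 𝔫) ⊗[R] H) ⧸ Fb)]
    (h1 : Fb ⊓ LinearMap.range (f.baseChange (R ⧸ 𝔫)) =
      Submodule.map (f.baseChange (R ⧸ 𝔫)) (F₁.baseChange (R ⧸ 𝔫)))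
    (h2 : Submodule.map (g.baseChange (R ⧸ 𝔫)) Fb = F₂.baseChange (R ⧸ 𝔫)) :
    ∃ F : Submodule R H, (∃ C : Submodule R H, IsCompl F C) ∧
      F ⊓ LinearMap.range f = Submodule.map f F₁ ∧
      F.baseChange (R ⧸ 𝔫) = Fb ∧ Submodule.map g F = F₂ := by
  classical
  obtain ⟨r₁, hr₁⟩ := S16420.exists_retraction F₁.subtype F₁.mkQ F₁.injective_subtype
    (Submodule.mkQ_surjective F₁) (LinearMap.exact_subtype_mkQ F₁)
  obtain ⟨r₂, hr₂⟩ := S16420.exists_retraction F₂.subtype F₂.mkQ F₂.injective_subtype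
    (Submodule.mkQ_surjective F₂) (LinearMap.exact_subtype_mkQ F₂)
  obtain ⟨rf, hrf⟩ := S16420.exists_retraction f g hf hg hfg
  obtain ⟨sg, hsg⟩ := Module.projective_lifting_property g LinearMap.id hg
  have hC₁ : IsCompl F₁ (LinearMap.ker r₁) :=
    LinearMap.isCompl_of_proj (fun x => LinearMap.congr_fun hr₁ x)
  have hC₂ : IsCompl F₂ (LinearMap.ker r₂) :=
    LinearMap.isCompl_of_proj (fun x => LinearMap.congr_fun hr₂ x)
  have : Module.Projective R F₂ := Module.Projective.of_split F₂.subtype r₂ hr₂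
  have hfb : Function.Injective (f.baseChange (R ⧸ 𝔫)) := by
    have : (rf.baseChange (R ⧸ 𝔫)) ∘ₗ (f.baseChange (R ⧸ 𝔫)) = LinearMap.id := by
      rw [← LinearMap.baseChange_comp, hrf, LinearMap.baseChange_id]
    exact Function.LeftInverse.injective (LinearMap.congr_fun this)
  have hmap : (𝔫 • (⊤ : Submodule R H₂)) = Submodule.map g (𝔫 • (⊤ : Submodule R H)) := by
    rw [Submodule.map_smul'', Submodule.map_top, LinearMap.range_eq_top.mpr hg]
  -- the submodule P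
  let P : Submodule R H := Submodule.comap g F₂ ⊓
    Submodule.comap (TensorProduct.mk R (R ⧸ 𝔫) H 1) (Fb.restrictScalars R)
  have hP : ∀ h, h ∈ P ↔ g h ∈ F₂ ∧ (1 : R ⧸ 𝔫) ⊗ₜ[R] h ∈ Fb := fun h => Iff.rfl
  let gP : P →ₗ[R] F₂ := (g.domRestrict P).codRestrict F₂ (fun x => ((hP x.1).mp x.2).1)
  have hgP : Function.Surjective gP := by
    rintro ⟨y, hy⟩
    have h1y : (1 : R ⧸ 𝔫) ⊗ₜ[R] y ∈ F₂.baseChange (R ⧸ 𝔫) :=
      Submodule.tmul_mem_baseChange_of_mem 1 hy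
    rw [← h2] at h1y
    obtain ⟨z, hz, hzy⟩ := h1y
    obtain ⟨h, rfl⟩ := exists_one_tmul 𝔫 z
    rw [LinearMap.baseChange_tmul] at hzy
    have h0 : (1 : R ⧸ 𝔫) ⊗ₜ[R] (g h - y) = 0 := by rw [TensorProduct.tmul_sub, hzy, sub_self]
    rw [one_tmul_eq_zero_iff, hmap] at h0
    obtain ⟨n, hn', hgn⟩ := h0
    have hn0 : (1 : R ⧸ 𝔫) ⊗ₜ[R] n = 0 := (one_tmul_eq_zero_iff 𝔫 n).mpr hn'
    have hgy : g (h - n) = y := by rw [map_sub, hgn]; abel
    refine ⟨⟨h - n, (hP _).mpr ⟨?_, ?_⟩⟩, ?_⟩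
    · rw [hgy]; exact hy
    · rw [TensorProduct.tmul_sub, hn0, sub_zero]; exact hz
    · exact Subtype.ext hgy
  obtain ⟨ℓ₀, hℓ₀⟩ := Module.projective_lifting_property gP LinearMap.id hgP
  let ℓ : F₂ →ₗ[R] H := P.subtype ∘ₗ ℓ₀
  have hgℓ : ∀ b : F₂, g (ℓ b) = b := by
    intro b
    have := LinearMap.congr_fun hℓ₀ b
    exact congrArg Subtype.val this
  have hℓFb : ∀ b : F₂, (1 : R ⧸ 𝔫) ⊗ₜ[R] (ℓ b) ∈ Fb := fun b => ((hP _).mp (ℓ₀ b).2).2
  have hfF₁ : ∀ a ∈ F₁, (1 : R ⧸ 𝔫) ⊗ₜ[R] (f a) ∈ Fb := by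
    intro a ha
    have : (f.baseChange (R ⧸ 𝔫)) ((1 : R ⧸ 𝔫) ⊗ₜ[R] a) ∈
        Submodule.map (f.baseChange (R ⧸ 𝔫)) (F₁.baseChange (R ⧸ 𝔫)) :=
      Submodule.mem_map_of_mem (Submodule.tmul_mem_baseChange_of_mem 1 ha)
    rw [← h1, LinearMap.baseChange_tmul] at this
    exact this.1
  refine ⟨Submodule.map f F₁ ⊔ LinearMap.range ℓ, ?_, ?_, ?_, ?_⟩
  · -- complement
    refine ⟨Submodule.map f (LinearMap.ker r₁) ⊔ Submodule.map sg (LinearMap.ker r₂), ?_⟩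
    have hgsg : ∀ y, g (sg y) = y := fun y => LinearMap.congr_fun hsg y
    constructor
    · rw [Submodule.disjoint_def]
      intro x hx hx'
      obtain ⟨_, ⟨a, ha, rfl⟩, _, ⟨b, rfl⟩, rfl⟩ := Submodule.mem_sup.mp hx
      obtain ⟨_, ⟨c, hc, rfl⟩, _, ⟨d, hd, rfl⟩, hcd⟩ := Submodule.mem_sup.mp hx'
      have hg' := congrArg g hcd
      rw [map_add, map_add, hfg.apply_apply_eq_zero, hfg.apply_apply_eq_zero, zero_add, zero_add,
        hgsg, hgℓ] at hg'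
      have hd0 : d = 0 := by
        have : d ∈ F₂ ⊓ LinearMap.ker r₂ := ⟨hg' ▸ b.2, hd⟩
        rw [hC₂.inf_eq_bot] at this
        exact this
      have hb0 : b = 0 := Subtype.ext (by rw [← hg', hd0]; rfl)
      rw [hd0, hb0, map_zero, map_zero, add_zero, add_zero] at hcd
      have hca : c = a := hf hcd
      have ha0 : a = 0 := by
        have : a ∈ F₁ ⊓ LinearMap.ker r₁ := ⟨ha, hca ▸ hc⟩
        rw [hC₁.inf_eq_bot] at this
        exact this
      rw [ha0, hb0, map_zero, map_zero, add_zero]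
    · rw [codisjoint_iff, eq_top_iff]
      intro h _
      have hgh : g h ∈ F₂ ⊔ LinearMap.ker r₂ := by rw [hC₂.sup_eq_top]; trivial
      obtain ⟨b, hb, d, hd, hbd⟩ := Submodule.mem_sup.mp hgh
      have hker : g (h - ℓ ⟨b, hb⟩ - sg d) = 0 := by
        rw [map_sub, map_sub, hgℓ, hgsg, ← hbd]; simp
      obtain ⟨a, ha⟩ := (hfg _).mp hker
      have hah : a ∈ F₁ ⊔ LinearMap.ker r₁ := by rw [hC₁.sup_eq_top]; trivial
      obtain ⟨a₁, ha₁, c, hc, hac⟩ := Submodule.mem_sup.mp hah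
      have hx : h = (f a₁ + ℓ ⟨b, hb⟩) + (f c + sg d) := by
        have : f a = f a₁ + f c := by rw [← hac, map_add]
        rw [this] at ha
        rw [← sub_eq_zero]
        have e : h - (f a₁ + ℓ ⟨b, hb⟩ + (f c + sg d)) = (h - ℓ ⟨b, hb⟩ - sg d) - (f a₁ + f c) := by
          abel
        rw [e, ← ha, sub_self]
      rw [hx]
      refine Submodule.add_mem _ (Submodule.mem_sup_left ?_) (Submodule.mem_sup_right ?_)
      · exact Submodule.add_mem _ (Submodule.mem_sup_left (Submodule.mem_map_of_mem ha₁))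
          (Submodule.mem_sup_right ⟨_, rfl⟩)
      · exact Submodule.add_mem _ (Submodule.mem_sup_left (Submodule.mem_map_of_mem hc))
          (Submodule.mem_sup_right (Submodule.mem_map_of_mem hd))
  · -- F ⊓ range f = map f F₁
    apply le_antisymm
    · rintro x ⟨hx, ⟨c, rfl⟩⟩
      obtain ⟨_, ⟨a, ha, rfl⟩, _, ⟨b, rfl⟩, hab⟩ := Submodule.mem_sup.mp hx
      have hg' := congrArg g hab
      rw [map_add, hfg.apply_apply_eq_zero, hfg.apply_apply_eq_zero, zero_add, hgℓ] at hg'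
      have hb0 : b = 0 := Subtype.ext hg'
      rw [hb0, map_zero, add_zero] at hab
      rw [← hab]
      exact Submodule.mem_map_of_mem ha
    · exact le_inf le_sup_left LinearMap.map_le_range
  · -- base change
    apply le_antisymm
    · rw [Submodule.baseChange_eq_span, Submodule.span_le]
      rintro _ ⟨x, hx, rfl⟩
      obtain ⟨_, ⟨a, ha, rfl⟩, _, ⟨b, rfl⟩, rfl⟩ := Submodule.mem_sup.mp hx
      show (1 : R ⧸ 𝔫) ⊗ₜ[R] (f a + ℓ b) ∈ Fb
      rw [TensorProduct.tmul_add]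
      exact Fb.add_mem (hfF₁ a ha) (hℓFb b)
    · intro z hz
      obtain ⟨h, rfl⟩ := exists_one_tmul 𝔫 z
      have hgz : (1 : R ⧸ 𝔫) ⊗ₜ[R] (g h) ∈ F₂.baseChange (R ⧸ 𝔫) := by
        rw [← h2, ← LinearMap.baseChange_tmul]
        exact Submodule.mem_map_of_mem hz
      rw [S16420.one_tmul_mem_baseChange_iff, hmap] at hgz
      obtain ⟨b, hb, _, ⟨n, hn', rfl⟩, hbn⟩ := Submodule.mem_sup.mp hgz
      have hn0 : (1 : R ⧸ 𝔫) ⊗ₜ[R] n = 0 := (one_tmul_eq_zero_iff 𝔫 n).mpr hn'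
      have hker : g (h - n - ℓ ⟨b, hb⟩) = 0 := by
        rw [map_sub, map_sub, hgℓ, ← hbn]; simp
      obtain ⟨a, ha⟩ := (hfg _).mp hker
      have h1a : (1 : R ⧸ 𝔫) ⊗ₜ[R] (f a) ∈ Fb := by
        rw [ha, TensorProduct.tmul_sub, TensorProduct.tmul_sub, hn0, sub_zero]
        exact Fb.sub_mem hz (hℓFb _)
      have h1a' : (f.baseChange (R ⧸ 𝔫)) ((1 : R ⧸ 𝔫) ⊗ₜ[R] a) ∈
          Fb ⊓ LinearMap.range (f.baseChange (R ⧸ 𝔫)) := by
        refine ⟨?_, ⟨_, rfl⟩⟩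
        rw [LinearMap.baseChange_tmul]; exact h1a
      rw [h1] at h1a'
      obtain ⟨w, hw, hwa⟩ := h1a'
      have hwa' := hfb hwa
      rw [hwa'] at hw
      have hw2 : (1 : R ⧸ 𝔫) ⊗ₜ[R] a ∈ F₁.baseChange (R ⧸ 𝔫) := hw
      rw [S16420.one_tmul_mem_baseChange_iff] at hw2
      obtain ⟨a₁, ha₁, m, hm, ham⟩ := Submodule.mem_sup.mp hw2
      have hm0 : (1 : R ⧸ 𝔫) ⊗ₜ[R] m = 0 := (one_tmul_eq_zero_iff 𝔫 m).mpr hm
      have hh : h = f a₁ + ℓ ⟨b, hb⟩ + (n + f m) := by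
        have : f a = f a₁ + f m := by rw [← ham, map_add]
        rw [this] at ha
        rw [← sub_eq_zero]
        have e : h - (f a₁ + ℓ ⟨b, hb⟩ + (n + f m)) = (h - n - ℓ ⟨b, hb⟩) - (f a₁ + f m) := by
          abel
        rw [e, ← ha, sub_self]
      have hfm0 : (1 : R ⧸ 𝔫) ⊗ₜ[R] (f m) = 0 := by
        rw [← LinearMap.baseChange_tmul, hm0, map_zero]
      rw [hh, TensorProduct.tmul_add, TensorProduct.tmul_add _ n, hn0, hfm0, add_zero, add_zero]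
      apply Submodule.tmul_mem_baseChange_of_mem
      exact Submodule.add_mem _ (Submodule.mem_sup_left (Submodule.mem_map_of_mem ha₁))
          (Submodule.mem_sup_right ⟨_, rfl⟩)
  · -- map g F = F₂
    rw [Submodule.map_sup]
    have e1 : Submodule.map g (Submodule.map f F₁) = ⊥ := by
      rw [eq_bot_iff]
      rintro _ ⟨_, ⟨a, _, rfl⟩, rfl⟩
      exact hfg.apply_apply_eq_zero a
    have e2 : Submodule.map g (LinearMap.range ℓ) = F₂ := by
      apply le_antisymm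
      · rintro _ ⟨_, ⟨b, rfl⟩, rfl⟩
        rw [hgℓ]; exact b.2
      · intro y hy
        exact ⟨ℓ ⟨y, hy⟩, ⟨_, rfl⟩, hgℓ _⟩
    rw [e1, e2, bot_sup_eq]

end Groth.Agent.S16419
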