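import Groth.Statements.S16421
import Mathlib

set_option autoImplicit false
universe u
open FrobAlg

namespace Groth.Agent.S16421


section
variable (p : ℕ) [Fact p.Prime] (R : Type u) [CommRing R] [CharP R p]

/-- `R` as an algebra over itself through a ring endomorphism -/
def Tw (_ψ : R →+* R) : Type u := R

instance (ψ : R →+* R) : CommRing (Tw R ψ) := inferInstanceAs (CommRing R)
instance (ψ : R →+* R) : Algebra R (Tw R ψ) := ψ.toAlgebra

theorem flat_iff (ψ : R →+* R) : ψ.Flat ↔ Module.Flat R (Tw R ψ) := Iff.rfl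

theorem tw_smul (ψ : R →+* R) (a : R) (y : Tw R ψ) : a • y = (ψ a * (show R from y) : R) := rfl

/-- level `n` embedding `a ↦ a^(1/p^n)` -/
noncomputable def lev (n : ℕ) : R →+* PerfectClosure R p where
  toFun a := PerfectClosure.mk R p (n, a)
  map_one' := by
    rw [PerfectClosure.one_def]
    have := PerfectClosure.R.sound (K := R) (p := p) n 0 (1 : R) 1 (by simp)
    simpa using this.symm
  map_mul' a b := by
    rw [PerfectClosure.mk_mul_mk]
    have := PerfectClosure.R.sound (K := R) (p := p) n n (a * b) _ rfl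
    rw [this]
    simp [iterate_map_mul]
  map_zero' := PerfectClosure.mk_zero_right R p n
  map_add' a b := by
    rw [PerfectClosure.mk_add_mk]
    have := PerfectClosure.R.sound (K := R) (p := p) n n (a + b) _ rfl
    rw [this]
    simp [iterate_map_add]

theorem lev_apply (n : ℕ) (a : R) : lev p R n a = PerfectClosure.mk R p (n, a) := rfl

theorem lev_raise (d n : ℕ) (a : R) : lev p R n a = lev p R (d + n) ((frobenius R p)^[d] a) :=
  PerfectClosure.R.sound (K := R) (p := p) d n a _ rfl

theorem of_eq_lev (n : ℕ) (a : R) :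
    PerfectClosure.of R p a = lev p R n (iterateFrobenius R p n a) := by
  rw [PerfectClosure.of_apply, coe_iterateFrobenius, lev_apply]
  have := PerfectClosure.R.sound (K := R) (p := p) n 0 a _ rfl
  simpa using this

theorem lev_inj (hF : Function.Injective (frobenius R p)) (n : ℕ) :
    Function.Injective (lev p R n) := by
  intro a b h
  rw [lev_apply, lev_apply, PerfectClosure.mk_eq_iff] at h
  obtain ⟨z, hz⟩ := h
  exact hF.iterate _ hz

theorem exists_lev (y : PerfectClosure R p) : ∃ n a, y = lev p R n a := by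
  obtain ⟨⟨n, a⟩, rfl⟩ := PerfectClosure.mk_surjective R p y
  exact ⟨n, a, rfl⟩

end

section TwLemma
variable (R : Type u) [CommRing R]

/-- the identity as a ring isomorphism -/
def twEquiv (ψ : R →+* R) : Tw R ψ ≃+* R := RingEquiv.refl R

theorem twEquiv_smul (ψ : R →+* R) (a : R) (y : Tw R ψ) :
    twEquiv R ψ (a • y) = ψ a * twEquiv R ψ y := rfl

theorem tw_trivial (ψ : R →+* R) (hψ : ψ.Flat) {l : ℕ} (f : Fin l → R) (r : Fin l → R)
    (h : ∑ i, ψ (f i) * r i = 0) :
    ∃ (k : ℕ) (a : Fin l → Fin k → R) (z : Fin k → R),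
      (∀ i, r i = ∑ j, ψ (a i j) * z j) ∧ ∀ j, ∑ i, f i * a i j = 0 := by
  have hflat : Module.Flat R (Tw R ψ) := (flat_iff R ψ).mp hψ
  have h3 : ∑ i, f i • ((twEquiv R ψ).symm (r i)) = 0 := by
    apply (twEquiv R ψ).injective
    rw [map_sum, map_zero]
    simp_rw [twEquiv_smul, RingEquiv.apply_symm_apply]
    exact h
  have h4 : Module.IsTrivialRelation f (fun i => (twEquiv R ψ).symm (r i)) :=
    Module.Flat.isTrivialRelation_of_sum_smul_eq_zero (R := R) (M := Tw R ψ) (ι := Fin l) (f := f)
      (x := fun i => (twEquiv R ψ).symm (r i)) h3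
  obtain ⟨k, a, z, hz1, hz2⟩ := h4
  refine ⟨k, a, fun j => twEquiv R ψ (z j), ?_, hz2⟩
  intro i
  have h5 := congrArg (twEquiv R ψ) (hz1 i)
  rw [RingEquiv.apply_symm_apply] at h5
  rw [h5]
  rw [map_sum (twEquiv R ψ)]
  apply Finset.sum_congr rfl
  intro j _
  exact twEquiv_smul R ψ _ _

end TwLemma

section Main
variable (p : ℕ) [Fact p.Prime] (R : Type u) [CommRing R] [CharP R p]

theorem flat_iter (hF : (frobenius R p).Flat) (n : ℕ) : (iterateFrobenius R p n).Flat := by
  induction n with
  | zero =>
    rw [iterateFrobenius_zero]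
    exact RingHom.Flat.of_bijective Function.bijective_id
  | succ n ih =>
    have : iterateFrobenius R p (n + 1) = (frobenius R p).comp (iterateFrobenius R p n) := by
      ext a
      simp [iterateFrobenius_def, frobenius_def, pow_succ, pow_mul]
    rw [this]
    exact RingHom.Flat.comp ih hF

theorem common_level {l : ℕ} (y : Fin l → PerfectClosure R p) :
    ∃ (n : ℕ) (r : Fin l → R), ∀ i, y i = lev p R n (r i) := by
  choose nn rr h using fun i => exists_lev p R (y i)
  refine ⟨Finset.univ.sup nn, fun i => (frobenius R p)^[Finset.univ.sup nn - nn i] (rr i), ?_⟩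
  intro i
  rw [h i, lev_raise p R (Finset.univ.sup nn - nn i) (nn i) (rr i)]
  congr 2
  exact Nat.sub_add_cancel (Finset.le_sup (f := nn) (Finset.mem_univ i))

theorem flat_perf (hF : (frobenius R p).Flat) (hinj : Function.Injective (frobenius R p)) :
    (PerfectClosure.of R p).Flat := by
  letI : Algebra R (PerfectClosure R p) := (PerfectClosure.of R p).toAlgebra
  show Module.Flat R (PerfectClosure R p)
  apply Module.Flat.of_forall_isTrivialRelation
  intro l f y hsum
  obtain ⟨n, r, hr⟩ := common_level p R y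
  have hsm : ∀ (a : R) (s : PerfectClosure R p), a • s = PerfectClosure.of R p a * s := fun a s => rfl
  have h1 : ∀ i, f i • y i = lev p R n (iterateFrobenius R p n (f i) * r i) := by
    intro i
    rw [hsm, hr i, of_eq_lev p R n, ← map_mul]
  have h2 : ∑ i, (iterateFrobenius R p n (f i) * r i) = 0 := by
    apply lev_inj p R hinj n
    rw [map_sum, map_zero, ← hsum]
    exact Finset.sum_congr rfl fun i _ => (h1 i).symm
  obtain ⟨k, a, z, hz1, hz2⟩ := tw_trivial R (iterateFrobenius R p n) (flat_iter p R hF n) f r h2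
  refine ⟨k, a, fun j => lev p R n (z j), ?_, hz2⟩
  intro i
  rw [hr i, hz1 i, map_sum]
  apply Finset.sum_congr rfl
  intro j _
  rw [map_mul, hsm, of_eq_lev p R n]

theorem ne_top_perf (hinj : Function.Injective (frobenius R p)) (m : Ideal R) (hm : m.IsMaximal) :
    letI : Algebra R (PerfectClosure R p) := (PerfectClosure.of R p).toAlgebra
    m • (⊤ : Submodule R (PerfectClosure R p)) ≠ ⊤ := by
  letI : Algebra R (PerfectClosure R p) := (PerfectClosure.of R p).toAlgebra
  intro htop
  have hsm : ∀ (a : R) (s : PerfectClosure R p), a • s = PerfectClosure.of R p a * s := fun a s => rfl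
  have key : ∀ s ∈ m • (⊤ : Submodule R (PerfectClosure R p)), ∃ n, ∃ t ∈ m, s = lev p R n t := by
    intro s hs
    refine Submodule.smul_induction_on hs ?_ ?_
    · intro a ha s' _
      obtain ⟨n, r, rfl⟩ := exists_lev p R s'
      refine ⟨n, iterateFrobenius R p n a * r, ?_, ?_⟩
      · apply Ideal.mul_mem_right
        rw [iterateFrobenius_def]
        exact Ideal.pow_mem_of_mem _ ha _ (pow_pos (Fact.out : p.Prime).pos n)
      · rw [hsm, of_eq_lev p R n, ← map_mul]
    · intro s₁ s₂ h₁ h₂
      obtain ⟨n₁, t₁, ht₁, rfl⟩ := h₁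
      obtain ⟨n₂, t₂, ht₂, rfl⟩ := h₂
      refine ⟨n₂ + n₁, (frobenius R p)^[n₂] t₁ + (frobenius R p)^[n₁] t₂, ?_, ?_⟩
      · apply Ideal.add_mem
        · rw [← coe_iterateFrobenius, iterateFrobenius_def]
          exact Ideal.pow_mem_of_mem _ ht₁ _ (pow_pos (Fact.out : p.Prime).pos _)
        · rw [← coe_iterateFrobenius, iterateFrobenius_def]
          exact Ideal.pow_mem_of_mem _ ht₂ _ (pow_pos (Fact.out : p.Prime).pos _)
      · rw [map_add, lev_raise p R n₂ n₁ t₁, lev_raise p R n₁ n₂ t₂, add_comm n₁ n₂]
  obtain ⟨n, t, ht, h1⟩ := key 1 (by rw [htop]; trivial)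
  have : t = 1 := by
    apply lev_inj p R hinj n
    rw [← h1, map_one]
  exact hm.ne_top ((Ideal.eq_top_iff_one _).mpr (this ▸ ht))

end Main

section PBasis
variable (p : ℕ) [Fact p.Prime] (R : Type u) [CommRing R] [CharP R p] (ι : Type u) (x : ι → R)

/-- the basis map -/
noncomputable def Psi : ({e : ι →₀ ℕ // ∀ i, e i < p} →₀ R) → R :=
  fun c => c.sum (fun e r => r ^ p * e.1.prod (fun i n => x i ^ n))

theorem Psi_add (c c' : {e : ι →₀ ℕ // ∀ i, e i < p} →₀ R) :
    Psi p R ι x (c + c') = Psi p R ι x c + Psi p R ι x c' := by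
  unfold Psi
  apply Finsupp.sum_add_index'
  · intro e
    rw [zero_pow (Fact.out : p.Prime).ne_zero, zero_mul]
  · intro e r r'
    rw [add_pow_char, add_mul]

theorem Psi_smul (a : R) (c : {e : ι →₀ ℕ // ∀ i, e i < p} →₀ R) :
    Psi p R ι x (a • c) = a ^ p * Psi p R ι x c := by
  unfold Psi
  rw [Finsupp.sum_smul_index' (by intro e; rw [zero_pow (Fact.out : p.Prime).ne_zero, zero_mul]),
    Finsupp.mul_sum]
  apply Finsupp.sum_congr
  intro e _
  rw [smul_eq_mul, mul_pow, mul_assoc]

/-- the basis map as a linear map to the twist -/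
noncomputable def PsiL : ({e : ι →₀ ℕ // ∀ i, e i < p} →₀ R) →ₗ[R] Tw R (frobenius R p) where
  toFun c := (twEquiv R (frobenius R p)).symm (Psi p R ι x c)
  map_add' c c' := by rw [Psi_add, map_add]
  map_smul' a c := by
    apply (twEquiv R (frobenius R p)).injective
    rw [RingHom.id_apply, twEquiv_smul, RingEquiv.apply_symm_apply, RingEquiv.apply_symm_apply,
      Psi_smul, frobenius_def]

theorem frob_flat (hx : Function.Bijective (Psi p R ι x)) : (frobenius R p).Flat := by
  rw [flat_iff]
  have hb : Function.Bijective (PsiL p R ι x) :=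
    (twEquiv R (frobenius R p)).symm.bijective.comp hx
  exact Module.Flat.of_linearEquiv (LinearEquiv.ofBijective (PsiL p R ι x) hb).symm

theorem frob_inj (hx : Function.Bijective (Psi p R ι x)) : Function.Injective (frobenius R p) := by
  intro a b hab
  have e0 : {e : ι →₀ ℕ // ∀ i, e i < p} := ⟨0, fun i => (Fact.out : p.Prime).pos⟩
  have h1 : ∀ c : R, Psi p R ι x (Finsupp.single ⟨0, fun i => (Fact.out : p.Prime).pos⟩ c) = c ^ p := by
    intro c
    unfold Psi
    rw [Finsupp.sum_single_index (by rw [zero_pow (Fact.out : p.Prime).ne_zero, zero_mul])]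
    simp
  have h2 := hx.1 ((h1 a).trans ((frobenius_def (R := R) p a).symm.trans
    (hab.trans (frobenius_def (R := R) p b))) |>.trans (h1 b).symm)
  exact Finsupp.single_injective _ h2

end PBasis

/-- Let p be a prime and R a commutative ring of characteristic p with a p-basis (x_i), meaning that the
monomials ∏ x_i^(e i) with every exponent e i < p form a basis of R as a module over itself through
the Frobenius, i.e. the map sending a finitely supported family of coefficients c to ∑_e (c e)^p · ∏
x_i^(e i) is a bijection onto R. Then the canonical ring map from R to its perfect closure is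
faithfully flat. -/
theorem result (p : ℕ) [Fact p.Prime]
    (R : Type u) [CommRing R] [CharP R p] (ι : Type u) (x : ι → R)
    (hx : Function.Bijective
      (fun c : {e : ι →₀ ℕ // ∀ i, e i < p} →₀ R =>
        c.sum (fun e r => r ^ p * e.1.prod (fun i n => x i ^ n)))) :
    (PerfectClosure.of R p).FaithfullyFlat := by
  have hx' : Function.Bijective (Psi p R ι x) := hx
  have hF := frob_flat p R ι x hx'
  have hinj := frob_inj p R ι x hx'
  have h1 := flat_perf p R hF hinj
  have h2 := ne_top_perf p R hinj
  exact @Module.FaithfullyFlat.mk R (PerfectClosure R p) _ _ (PerfectClosure.of R p).toAlgebra.toModule h1 h2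

end Groth.Agent.S16421
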