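import Groth.Statements.S16422
import Mathlib

set_option autoImplicit false
universe u
open GrMod

namespace Groth.Agent.S16422


open DirectSum

section
variable {S : Type u} [CommRing S] (𝒜 : ℤ → AddSubgroup S) [GradedRing 𝒜]
  {M : Type u} [AddCommGroup M] [Module S M] (ℳ : ℤ → AddSubgroup M)
  [DirectSum.Decomposition ℳ] [SetLike.GradedSMul 𝒜 ℳ]

theorem proj_smul (s : S) (x : M) (d n : ℤ) (hx : x ∈ ℳ d) :
    (decompose ℳ (s • x) n : M) = (decompose 𝒜 s (n - d) : S) • x := by
  induction s using DirectSum.Decomposition.inductionOn 𝒜 with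
  | zero => simp
  | @homogeneous a s =>
    have hmem : (s : S) • x ∈ ℳ (a + d) := SetLike.GradedSMul.smul_mem s.2 hx
    by_cases h : a + d = n
    · have h' : n - d = a := by omega
      rw [h'] 
      subst h
      rw [decompose_of_mem_same ℳ hmem, decompose_of_mem_same 𝒜 s.2]
    · have h' : a ≠ n - d := by omega
      rw [decompose_of_mem_ne ℳ hmem h, decompose_of_mem_ne 𝒜 s.2 h', zero_smul]
  | add s s' hs hs' =>
    rw [add_smul, decompose_add, decompose_add, DirectSum.add_apply, DirectSum.add_apply,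
      AddSubgroup.coe_add, AddSubgroup.coe_add, hs, hs', add_smul]

theorem exists_hom_dual [Module.Finite S M] [Module.Projective S M] :
    ∃ (ι' : Type u) (_ : Fintype ι') (x : ι' → M) (d : ι' → ℤ) (φ : ι' → (M →ₗ[S] S)),
      (∀ i, x i ∈ ℳ (d i)) ∧ ∀ g : M, g = ∑ i, φ i g • x i := by
  classical
  obtain ⟨G, hG⟩ := (Module.Finite.fg_top : (⊤ : Submodule S M).FG)
  let D : Finset ℤ := G.biUnion fun y => (decompose ℳ y).support
  let x : (↥G × ↥D) → M := fun q => (decompose ℳ (q.1 : M) (q.2 : ℤ) : M)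
  have hspan : Submodule.span S (Set.range x) = ⊤ := by
    rw [eq_top_iff, ← hG]
    apply Submodule.span_le.mpr
    intro y hy
    rw [← DirectSum.sum_support_decompose ℳ y]
    apply Submodule.sum_mem
    intro a ha
    apply Submodule.subset_span
    exact ⟨(⟨y, hy⟩, ⟨a, Finset.mem_biUnion.mpr ⟨y, hy, ha⟩⟩), rfl⟩
  let π : ((↥G × ↥D) →₀ S) →ₗ[S] M := Finsupp.linearCombination S x
  have hsurj : Function.Surjective π := by
    rw [← LinearMap.range_eq_top, Finsupp.range_linearCombination, hspan]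
  obtain ⟨σ, hσ⟩ := Module.projective_lifting_property π LinearMap.id hsurj
  refine ⟨↥G × ↥D, inferInstance, x, fun q => (q.2 : ℤ), fun q => (Finsupp.lapply q) ∘ₗ σ,
    fun q => (decompose ℳ (q.1 : M) (q.2 : ℤ)).2, ?_⟩
  intro g
  have h1 : π (σ g) = g := by
    have := congrArg (fun f => f g) hσ
    simpa using this
  conv_lhs => rw [← h1]
  simp only [π, Finsupp.linearCombination_apply]
  rw [Finsupp.sum_fintype _ _ (fun i => zero_smul S (x i))]
  rfl

theorem map_smul_top_le (I : Ideal S) (φ : M →ₗ[S] S) (y : M)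
    (hy : y ∈ I • (⊤ : Submodule S M)) : φ y ∈ I := by
  refine Submodule.smul_induction_on hy ?_ ?_
  · intro r hr n _
    rw [map_smul]
    exact I.mul_mem_right _ hr
  · intro a b ha hb
    rw [map_add]; exact I.add_mem ha hb
end

/-- Let S be a commutative ring graded by ℤ with pieces 𝒜 n, and V a decreasing sequence of homogeneous
ideals for which S is graded-complete, i.e. for each degree n the map from 𝒜 n to the inverse limit
of the quotients 𝒜 n / (𝒜 n ∩ V m) is bijective (stated as: a degree-n element in every V m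
vanishes, and every sequence in 𝒜 n whose consecutive differences lie in the V m has a limit in 𝒜
n). Then every graded S-module M which is finitely generated and projective as an S-module is
graded-complete in the same sense for the submodules V m · M: for each n the map from ℳ n to the
inverse limit of ℳ n / (ℳ n ∩ V m · M) is bijective. -/
theorem result
    (S : Type u) [CommRing S] (𝒜 : ℤ → AddSubgroup S) [GradedRing 𝒜]
    (V : ℕ → HomogeneousIdeal 𝒜) (hV : ∀ m, (V (m + 1)).toIdeal ≤ (V m).toIdeal)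
    (hsep : ∀ (n : ℤ) (s : S), s ∈ 𝒜 n → (∀ m, s ∈ (V m).toIdeal) → s = 0)
    (hcpl : ∀ (n : ℤ) (f : ℕ → S), (∀ m, f m ∈ 𝒜 n) →
      (∀ m, f (m + 1) - f m ∈ (V m).toIdeal) → ∃ s ∈ 𝒜 n, ∀ m, s - f m ∈ (V m).toIdeal)
    (M : Type u) [AddCommGroup M] [Module S M] (ℳ : ℤ → AddSubgroup M)
    [DirectSum.Decomposition ℳ] [SetLike.GradedSMul 𝒜 ℳ]
    [Module.Finite S M] [Module.Projective S M] :
    (∀ (n : ℤ) (x : M), x ∈ ℳ n → (∀ m, x ∈ (V m).toIdeal • (⊤ : Submodule S M)) → x = 0) ∧
    (∀ (n : ℤ) (g : ℕ → M), (∀ m, g m ∈ ℳ n) →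
      (∀ m, g (m + 1) - g m ∈ (V m).toIdeal • (⊤ : Submodule S M)) →
      ∃ x ∈ ℳ n, ∀ m, x - g m ∈ (V m).toIdeal • (⊤ : Submodule S M)) := by
  classical
  obtain ⟨ι', _, x, d, φ, hx, hφ⟩ := exists_hom_dual (S := S) ℳ
  -- the homogeneous coefficient
  let c : ι' → ℤ → M → S := fun i n g => (decompose 𝒜 (φ i g) (n - d i) : S)
  have hc_mem : ∀ i n g, c i n g ∈ 𝒜 (n - d i) := fun i n g => (decompose 𝒜 (φ i g) (n - d i)).2
  have hE1 : ∀ (n : ℤ) (g : M), g ∈ ℳ n → g = ∑ i, c i n g • x i := by
    intro n g hg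
    have h1 : (decompose ℳ g n : M) = g := decompose_of_mem_same ℳ hg
    conv_lhs => rw [← h1, hφ g]
    rw [decompose_sum, DFinsupp.finsetSum_apply, AddSubgroup.val_finsetSum]
    apply Finset.sum_congr rfl
    intro i _
    exact proj_smul 𝒜 ℳ (φ i g) (x i) (d i) n (hx i)
  have hcV : ∀ i n g m, g ∈ (V m).toIdeal • (⊤ : Submodule S M) → c i n g ∈ (V m).toIdeal := by
    intro i n g m hg
    exact (V m).isHomogeneous (n - d i) (map_smul_top_le (V m).toIdeal (φ i) g hg)
  have hc_sub : ∀ i n g g', c i n (g - g') = c i n g - c i n g' := by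
    intro i n g g'
    simp only [c, map_sub, decompose_sub, DirectSum.sub_apply, AddSubgroup.coe_sub]
  constructor
  · intro n y hy hyV
    rw [hE1 n y hy]
    apply Finset.sum_eq_zero
    intro i _
    rw [hsep (n - d i) (c i n y) (hc_mem i n y) (fun m => hcV i n y m (hyV m)), zero_smul]
  · intro n g hg hgV
    have key : ∀ i, ∃ t ∈ 𝒜 (n - d i), ∀ m, t - c i n (g m) ∈ (V m).toIdeal := by
      intro i
      apply hcpl (n - d i) (fun m => c i n (g m)) (fun m => hc_mem i n (g m))
      intro m
      rw [← hc_sub]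
      exact hcV i n _ m (hgV m)
    choose t ht htV using key
    refine ⟨∑ i, t i • x i, ?_, ?_⟩
    · apply AddSubgroup.sum_mem
      intro i _
      have := SetLike.GradedSMul.smul_mem (A := 𝒜) (B := ℳ) (ht i) (hx i)
      rwa [vadd_eq_add, sub_add_cancel] at this
    · intro m
      have e := hE1 n (g m) (hg m)
      have : ∑ i, t i • x i - g m = ∑ i, (t i - c i n (g m)) • x i := by
        conv_lhs => rw [e]
        rw [← Finset.sum_sub_distrib]
        exact Finset.sum_congr rfl fun i _ => (sub_smul _ _ _).symm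
      rw [this]
      apply Submodule.sum_mem
      intro i _
      exact Submodule.smul_mem_smul (htV i m) Submodule.mem_top

end Groth.Agent.S16422
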