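import Groth.Statements.S16427
import Mathlib
import Groth.Agent.Lib.Helper2.BigOpen2
import Groth.Agent.Lib.Helper2.BigOpen3
import Groth.Agent.S16423
-- import your own Groth.Agent.* helpers here

set_option autoImplicit false
universe u
open CategoryTheory CategoryTheory.Limits AlgebraicGeometry TopologicalSpace
open RhoSh

namespace Groth.Agent.S16427

section

open AlgebraicGeometry CategoryTheory Limits
open RingTheory.Sequence IsLocalRing TopologicalSpace Groth.Agent.Helper2.BigOpen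
  Groth.Agent.Helper19.Hartogs

/-- general form: sections of an affine morphism over a big open of a smooth family extend
uniquely. -/
theorem extend_section {P S Y : Scheme.{u}} (f : P ⟶ S) [Smooth f] (U : P.Opens)
    (hU : ∀ x : P, x ∉ U → (2 : WithBot ℕ∞) ≤ ringKrullDim ↑(CInt.fiberStalk f x))
    (p : Y ⟶ P) [IsAffineHom p] (s : (U : Scheme.{u}) ⟶ Y) (hs : s ≫ p = U.ι) :
    ∃! t : P ⟶ Y, t ≫ p = 𝟙 P ∧ U.ι ≫ t = s := by
  have hreg : ∀ x : P, x ∉ U → ∃ a ∈ maximalIdeal (P.presheaf.stalk x),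
      IsSMulRegular (P.presheaf.stalk x) a := by
    intro x hx
    have h1 : ((1 : ℕ) : ℕ∞) ≤
        LocCoh.depth ↑(P.presheaf.stalk x) ↑(P.presheaf.stalk x) := by
      refine le_trans ?_ (Groth.Agent.S16423.le_depth_of_smooth f x 2 (hU x hx))
      exact_mod_cast (by norm_num : (1 : ℕ) ≤ 2)
    obtain ⟨rs, hlen, hwr, hmem⟩ := Groth.Agent.Helper9.Depth.exists_of_le_depth 1 h1
    obtain ⟨h, rfl⟩ := List.length_eq_one_iff.mp hlen
    refine ⟨h, hmem h (List.mem_singleton_self h), ?_⟩
    exact ((isWeaklyRegular_cons_iff _ h []).mp hwr).1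
  have hloc : ∀ x : P, ∃ N : P.Opens, IsAffineOpen N ∧ x ∈ N ∧ ∃ U' : P.Opens, U' ≤ N ∧ U' ≤ U ∧
      IsCompact (U' : Set P) ∧ ∀ z : P, z ∈ N → z ∉ U' → Dep2 (P.presheaf.stalk z) := by
    intro x
    by_cases hx : x ∈ U
    · obtain ⟨_, ⟨N, hN, rfl⟩, hxN, hNU⟩ := P.isBasis_affineOpens.exists_subset_of_mem_open hx U.2
      exact ⟨N, hN, hxN, N, le_rfl, hNU, hN.isCompact, fun z hz hz' => absurd hz hz'⟩
    · obtain ⟨N, hN, hxN, h₁, h₂, hwr, hD1, hD2⟩ := exists_regular_pair f U hU x hx
      refine ⟨N, hN, hxN, P.basicOpen h₁ ⊔ P.basicOpen h₂,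
        sup_le (P.basicOpen_le h₁) (P.basicOpen_le h₂), sup_le hD1 hD2, ?_, ?_⟩
      · rw [Opens.coe_sup]
        exact (hN.basicOpen h₁).isCompact.union (hN.basicOpen h₂).isCompact
      · intro z hzN hz
        letI : Algebra Γ(P, N) (P.presheaf.stalk z) := P.presheaf.algebra_section_stalk ⟨z, hzN⟩
        haveI : IsLocalization.AtPrime (P.presheaf.stalk z) (hN.primeIdealOf ⟨z, hzN⟩).asIdeal :=
          hN.isLocalization_stalk ⟨z, hzN⟩
        have h1 : IsWeaklyRegular (P.presheaf.stalk z)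
            ([h₁, h₂].map (algebraMap Γ(P, N) (P.presheaf.stalk z))) :=
          IsWeaklyRegular.of_isLocalization (P.presheaf.stalk z)
            (hN.primeIdealOf ⟨z, hzN⟩).asIdeal.primeCompl hwr
        have hmem : ∀ h : Γ(P, N), z ∉ P.basicOpen h →
            algebraMap Γ(P, N) (P.presheaf.stalk z) h ∈ maximalIdeal (P.presheaf.stalk z) := by
          intro h hh
          rw [mem_maximalIdeal, mem_nonunits_iff]
          intro hu
          exact hh ((Scheme.mem_basicOpen _ _ z hzN).mpr hu)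
        exact dep2_of_isWeaklyRegular _ _
          (hmem h₁ (fun h => hz (Or.inl h))) (hmem h₂ (fun h => hz (Or.inr h))) h1
  obtain ⟨t, ht1, ht2⟩ := exists_section' P U hreg hloc Y p s hs
  refine ⟨t, ⟨ht1, ht2⟩, ?_⟩
  rintro t' ⟨ht1', ht2'⟩
  refine eq_of_regular p U.ι ?_ t' t (by rw [ht1, ht1']) (by rw [ht2, ht2'])
  intro w hw
  rw [Scheme.Opens.range_ι] at hw
  exact hreg w hw

theorem main
    (k : Type u) [Field k] (X S Y : Scheme.{u})
    (a : X ⟶ Spec (CommRingCat.of k)) (b : S ⟶ Spec (CommRingCat.of k))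
    [Smooth a]
    (U : (pullback a b).Opens)
    (hU : ∀ x : ↥(pullback a b), x ∉ U →
      (2 : WithBot ℕ∞) ≤ ringKrullDim ↑(CInt.fiberStalk (pullback.snd a b) x))
    (p : Y ⟶ pullback a b) [IsAffineHom p]
    (s : (U : Scheme.{u}) ⟶ Y) (hs : s ≫ p = U.ι) :
    ∃! t : pullback a b ⟶ Y, t ≫ p = 𝟙 (pullback a b) ∧ U.ι ≫ t = s := by
  haveI : Smooth (pullback.snd a b) := inferInstance
  exact extend_section (pullback.snd a b) U hU p s hs

end

/-- Let X be a smooth, proper, geometrically irreducible scheme over a field k admitting an ample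
invertible sheaf, S a k-scheme, and U a big open subset of X ×_k S, i.e. at every point outside U
the local ring of the fibre over S has Krull dimension at least 2. Let p : Y ⟶ X ×_k S be affine and
of finite type. Then any section s of p over U is the restriction of exactly one section of p over
the whole of X ×_k S. -/
theorem result
    (k : Type u) [Field k] (X S Y : Scheme.{u})
    (a : X ⟶ Spec (CommRingCat.of k)) (b : S ⟶ Spec (CommRingCat.of k))
    [Smooth a] [IsProper a] [GeometricallyIrreducible a]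
    (hproj : ∃ H : X.Modules, CohB1.IsAmple H)
    (U : (pullback a b).Opens)
    (hU : ∀ x : ↥(pullback a b), x ∉ U →
      (2 : WithBot ℕ∞) ≤ ringKrullDim ↑(CInt.fiberStalk (pullback.snd a b) x))
    (p : Y ⟶ pullback a b) [IsAffineHom p] [LocallyOfFiniteType p]
    (s : (U : Scheme.{u}) ⟶ Y) (hs : s ≫ p = U.ι) :
    ∃! t : pullback a b ⟶ Y, t ≫ p = 𝟙 (pullback a b) ∧ U.ι ≫ t = s := by
  exact Groth.Agent.S16427.main k X S Y a b U hU p s hs

end Groth.Agent.S16427
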