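import Groth.Statements.S16430
import Mathlib

set_option autoImplicit false
universe u
open Hensel

namespace Groth.Agent.S16430

open Polynomial IsLocalRing


lemma etale_adjoinRoot {A : Type u} [CommRing A] (f : A[X]) (hf : f.Monic)
    (h : IsUnit (AdjoinRoot.mk f (derivative f))) :
    Algebra.Etale A (AdjoinRoot f) := by
  obtain ⟨u, hu⟩ := h.exists_right_inv
  obtain ⟨p₁, rfl⟩ := AdjoinRoot.mk_surjective u
  have hdvd : f ∣ derivative f * p₁ - 1 := by
    rw [← AdjoinRoot.mk_eq_zero]; simp [hu]
  obtain ⟨q, hq⟩ := hdvd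
  let P : StandardEtalePair A := ⟨f, hf, 1, p₁, -q, 0, by linear_combination hq⟩
  have h1 : P.HasMap (AdjoinRoot.root f) := ⟨by simp [P], by simp [P]⟩
  have h2 : eval₂ (Algebra.ofId A P.Ring) P.X f = 0 := P.hasMap_X.1
  let e : P.Ring ≃ₐ[A] AdjoinRoot f := AlgEquiv.ofAlgHom (P.lift (AdjoinRoot.root f) h1)
     (AdjoinRoot.liftAlgHom f (Algebra.ofId A P.Ring) P.X h2)
     (by apply AdjoinRoot.algHom_ext
         rw [AlgHom.comp_apply, AdjoinRoot.liftAlgHom_root, P.lift_X]; rfl)
     (by apply P.hom_ext
         rw [AlgHom.comp_apply, P.lift_X, AdjoinRoot.liftAlgHom_root]; rfl)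
  exact Algebra.Etale.of_equiv e

/-- the ideal `m_A E` is maximal in `E = A[X]/(f)` if `f mod m_A` is irreducible. -/
lemma isMaximal_map {A : Type u} [CommRing A] [IsLocalRing A] (f : A[X])
    (hirr : Irreducible (f.map (Ideal.Quotient.mk (maximalIdeal A)))) :
    ((maximalIdeal A).map (AdjoinRoot.of f)).IsMaximal := by
  have e := AdjoinRoot.quotEquivQuotMap f (maximalIdeal A)
  let _ := Ideal.Quotient.field (maximalIdeal A)
  apply Ideal.Quotient.maximal_of_isField
  refine MulEquiv.isField ?_ e.toMulEquiv
  apply (Ideal.Quotient.maximal_ideal_iff_isField_quotient _).mp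
  exact PrincipalIdealRing.isMaximal_of_irreducible hirr

lemma unique_max {A : Type u} [CommRing A] [IsLocalRing A] (f : A[X]) (hf : f.Monic)
    (hirr : Irreducible (f.map (Ideal.Quotient.mk (maximalIdeal A))))
    (M : Ideal (AdjoinRoot f)) (hM : M.IsMaximal) :
    M = (maximalIdeal A).map (AdjoinRoot.of f) := by
  have := hf.finite_adjoinRoot
  have hI := isMaximal_map f hirr
  have h1 : (M.comap (algebraMap A (AdjoinRoot f))).IsMaximal :=
    Ideal.isMaximal_comap_of_isIntegral_of_isMaximal M
  have h2 : M.comap (algebraMap A (AdjoinRoot f)) = maximalIdeal A := IsLocalRing.eq_maximalIdeal h1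
  have h3 : (maximalIdeal A).map (AdjoinRoot.of f) ≤ M := by
    rw [← h2]; exact Ideal.map_comap_le
  exact (hI.eq_of_le hM.ne_top h3).symm

/-- For a Noetherian local ring A with residue field k and a finite separable field extension l of k,
there is a local ring E, finite and etale over A with local structure map, whose residue field is
k-isomorphic to l. -/
theorem result (A : Type u)
    [CommRing A] [IsLocalRing A] [IsNoetherianRing A] (l : Type u) [Field l]
    [Algebra (IsLocalRing.ResidueField A) l] [FiniteDimensional (IsLocalRing.ResidueField A) l]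
    [Algebra.IsSeparable (IsLocalRing.ResidueField A) l] :
    ∃ (E : Type u) (_ : CommRing E) (_ : IsLocalRing E) (_ : Algebra A E)
      (_ : IsLocalHom (algebraMap A E)),
      Module.Finite A E ∧ Algebra.Etale A E ∧
        Nonempty (IsLocalRing.ResidueField E ≃ₐ[IsLocalRing.ResidueField A] l) := by
  obtain ⟨α, hα⟩ := Field.exists_primitive_element (ResidueField A) l
  have hint : IsIntegral (ResidueField A) α := Algebra.IsIntegral.isIntegral α
  obtain ⟨g, hg⟩ : ∃ g, g = minpoly (ResidueField A) α := ⟨_, rfl⟩
  have hgm : g.Monic := hg ▸ minpoly.monic hint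
  have hgi : Irreducible g := hg ▸ minpoly.irreducible hint
  have hgs : g.Separable := hg ▸ Algebra.IsSeparable.isSeparable _ α
  have hgα : aeval α g = 0 := hg ▸ minpoly.aeval _ α
  obtain ⟨f, hfg, -, hfm⟩ := lifts_and_degree_eq_and_monic
    ((mem_lifts _).mpr (map_surjective _ residue_surjective g)) hgm
  have hirr : Irreducible (f.map (Ideal.Quotient.mk (maximalIdeal A))) := by
    have : f.map (Ideal.Quotient.mk (maximalIdeal A)) = g := hfg
    rw [this]; exact hgi
  -- the ring
  have hfin : Module.Finite A (AdjoinRoot f) := hfm.finite_adjoinRoot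
  have hImax := isMaximal_map f hirr
  have hloc : IsLocalRing (AdjoinRoot f) :=
    IsLocalRing.of_unique_max_ideal ⟨_, hImax, fun M hM => unique_max f hfm hirr M hM⟩
  have hmax : maximalIdeal (AdjoinRoot f) = (maximalIdeal A).map (AdjoinRoot.of f) :=
    (IsLocalRing.eq_maximalIdeal hImax).symm
  -- the map to l
  let i : A →+* l := (algebraMap (ResidueField A) l).comp (residue A)
  have hev : ∀ p : A[X], eval₂ i α p = aeval α (p.map (residue A)) := by
    intro p
    rw [aeval_def, eval₂_map]
  have hfα : eval₂ i α f = 0 := by rw [hev, hfg, hgα]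
  let φ : AdjoinRoot f →+* l := AdjoinRoot.lift i α hfα
  have hφsurj : Function.Surjective φ := by
    intro y
    have hy : y ∈ (⊤ : IntermediateField (ResidueField A) l) := trivial
    rw [← hα] at hy
    have hy' : y ∈ (IntermediateField.adjoin (ResidueField A) {α}).toSubalgebra := hy
    rw [IntermediateField.adjoin_simple_toSubalgebra_of_isAlgebraic hint.isAlgebraic,
      Algebra.adjoin_singleton_eq_range_aeval] at hy'
    obtain ⟨p, rfl⟩ := hy'
    obtain ⟨P, rfl⟩ := map_surjective _ residue_surjective p
    refine ⟨AdjoinRoot.mk f P, ?_⟩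
    rw [AdjoinRoot.lift_mk, hev]; rfl
  have hker : RingHom.ker φ = maximalIdeal (AdjoinRoot f) :=
    IsLocalRing.eq_maximalIdeal (RingHom.ker_isMaximal_of_surjective φ hφsurj)
  have hφloc : IsLocalHom φ := by
    constructor
    intro x hx
    by_contra hx'
    have : x ∈ maximalIdeal (AdjoinRoot f) := hx'
    rw [← hker, RingHom.mem_ker] at this
    rw [this] at hx
    exact not_isUnit_zero hx
  have hAloc : IsLocalHom (algebraMap A (AdjoinRoot f)) := by
    constructor
    intro a ha
    by_contra ha'
    have h1 : a ∈ maximalIdeal A := ha'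
    have h2 : algebraMap A (AdjoinRoot f) a ∈ maximalIdeal (AdjoinRoot f) := by
      rw [hmax]; exact Ideal.mem_map_of_mem _ h1
    exact h2 ha
  refine ⟨AdjoinRoot f, inferInstance, hloc, inferInstance, hAloc, hfin, ?_, ?_⟩
  · -- etale
    apply etale_adjoinRoot f hfm
    by_contra hnu
    have h1 : AdjoinRoot.mk f (derivative f) ∈ maximalIdeal (AdjoinRoot f) := hnu
    rw [← hker, RingHom.mem_ker, AdjoinRoot.lift_mk, hev, ← derivative_map, hfg] at h1
    exact hgs.aeval_derivative_ne_zero hgα h1
  · -- residue field
    let ψ : ResidueField (AdjoinRoot f) →+* l := ResidueField.lift φ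
    have hψbij : Function.Bijective ψ := by
      refine ⟨ψ.injective, ?_⟩
      intro y
      obtain ⟨x, rfl⟩ := hφsurj y
      exact ⟨residue _ x, ResidueField.lift_residue_apply _ _⟩
    let ψa : ResidueField (AdjoinRoot f) →ₐ[ResidueField A] l :=
      { ψ with
        commutes' := by
          intro r
          obtain ⟨a, rfl⟩ := residue_surjective r
          change ψ (ResidueField.map (algebraMap A (AdjoinRoot f)) (residue A a)) = _
          rw [ResidueField.map_residue]
          change ψ (residue _ (AdjoinRoot.of f a)) = _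
          rw [ResidueField.lift_residue_apply, AdjoinRoot.lift_of]
          rfl }
    exact ⟨AlgEquiv.ofBijective ψa hψbij⟩

end Groth.Agent.S16430
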