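import Groth.Statements.S16443
import Mathlib
import Groth.Prelude.Def_EssEt
import Groth.Agent.Lib.Helper24.EssEtFrac

set_option autoImplicit false
universe u
open EGA4loc

namespace Groth.Agent.S16443


open Groth.Agent.Helper24.EssEtFrac

/-- An `A`-subalgebra `L` of a finite `K_A`-algebra `E'` (with `K_A` Artinian) that contains
inverses of the non-zero-divisors of `A` is closed under inverses of units. -/
theorem inv_mem_of_isUnit {A : Type u} [CommRing A]
    (KA : Type u) [CommRing KA] [Algebra A KA] [IsFractionRing A KA] [IsArtinianRing KA]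
    (E' : Type u) [CommRing E'] [Algebra A E'] [Algebra KA E'] [IsScalarTower A KA E']
    [Module.Finite KA E'] (L : Subalgebra A E')
    (hL : ∀ s ∈ nonZeroDivisors A, ∃ y ∈ L, algebraMap A E' s * y = 1)
    (l : E') (hl : l ∈ L) (hu : IsUnit l) : ∃ y ∈ L, l * y = 1 := by
  have hK : ∀ c : KA, algebraMap KA E' c ∈ L := by
    intro c
    obtain ⟨⟨a, s⟩, hc⟩ := IsLocalization.surj (nonZeroDivisors A) c
    obtain ⟨y, hy, hsy⟩ := hL s.1 s.2
    have h1 : algebraMap KA E' c * algebraMap A E' s.1 = algebraMap A E' a := by
      rw [IsScalarTower.algebraMap_apply A KA E', IsScalarTower.algebraMap_apply A KA E',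
        ← map_mul]
      exact congrArg _ hc
    have h2 : algebraMap KA E' c = algebraMap A E' a * y := by
      rw [← h1, mul_assoc, hsy, mul_one]
    rw [h2]
    exact L.mul_mem (L.algebraMap_mem a) hy
  let L' : Subalgebra KA E' := { L.toSubsemiring with algebraMap_mem' := hK }
  have hmem : ∀ x : E', x ∈ L' ↔ x ∈ L := fun x => Iff.rfl
  have : IsNoetherian KA E' := isNoetherian_of_isNoetherianRing_of_finite KA E'
  have : Module.Finite KA L' :=
    Module.Finite.of_injective L'.val.toLinearMap Subtype.val_injective
  have : IsArtinianRing L' := IsArtinianRing.of_finite KA L'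
  have hnzd : (⟨l, hl⟩ : L') ∈ nonZeroDivisors L' := by
    rw [mem_nonZeroDivisors_iff_right]
    intro x hx
    have : (x : E') * l = 0 := congrArg Subtype.val hx
    have : (x : E') = 0 := by
      obtain ⟨u, rfl⟩ := hu
      simpa using this
    exact Subtype.ext this
  obtain ⟨⟨u, v, huv, hvu⟩, hu'⟩ := IsArtinianRing.isUnit_of_mem_nonZeroDivisors hnzd
  have hu'' : u = ⟨l, hl⟩ := hu'
  refine ⟨v.1, v.2, ?_⟩
  have := congrArg Subtype.val huv
  rw [hu''] at this
  exact this

/-- Let A be a reduced local ring with finitely many minimal prime ideals, E a local ring which is an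
essentially etale local A-algebra with local structure map, K_E the total ring of fractions of E,
and L an A-subalgebra of K_E containing an inverse of the image of every non-zero-divisor of A (so L
is an intermediate ring between the total rings of fractions of A and of E). Then the preimage D of
L in E is (the underlying set of) an A-subalgebra of E which is a local ring with local inclusion
into E — its maximal ideal lies under that of E — and L is the total ring of fractions of D in the
sense that every element of L is the image of an element of D times the inverse of the image of a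
non-zero-divisor of A. -/
theorem result
    (A E : Type u) [CommRing A] [IsLocalRing A] [IsReduced A] (hmin : (minimalPrimes A).Finite)
    [CommRing E] [IsLocalRing E] [Algebra A E] [IsLocalHom (algebraMap A E)]
    (hE : EGA4loc.IsEssentiallyEtale A E) (L : Subalgebra A (FractionRing E))
    (hL : ∀ s ∈ nonZeroDivisors A, ∃ y ∈ L, algebraMap A (FractionRing E) s * y = 1) :
    ∃ D : Subalgebra A E, (D : Set E) = (algebraMap E (FractionRing E)) ⁻¹' (L : Set (FractionRing E)) ∧
      ∃ _ : IsLocalRing D, IsLocalHom (algebraMap D E) ∧
        ∀ l ∈ L, ∃ d ∈ D, ∃ s ∈ nonZeroDivisors A, ∃ y ∈ L,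
          algebraMap A (FractionRing E) s * y = 1 ∧ l = algebraMap E (FractionRing E) d * y := by
  obtain ⟨h1, h2, h3⟩ := props_of_isEssentiallyEtale A E hE
  have hloc := isLocalization_fractionRing hmin E
  letI : Algebra (FractionRing A) (FractionRing E) := localizationAlgebra (nonZeroDivisors A) E
  have : IsScalarTower A (FractionRing A) (FractionRing E) :=
    isScalarTower_localizationAlgebra (nonZeroDivisors A) E
  have : Module.Finite (FractionRing A) (FractionRing E) := finite_fractionRing hmin E
  have : IsArtinianRing (FractionRing A) := isArtinianRing_of_isFractionRing hmin _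
  have key := inv_mem_of_isUnit (FractionRing A) (FractionRing E) L hL
  let D : Subalgebra A E := L.comap (IsScalarTower.toAlgHom A E (FractionRing E))
  have hD : ∀ x : E, x ∈ D ↔ algebraMap E (FractionRing E) x ∈ L := fun x => Iff.rfl
  -- units of `E` lying in `D` are units of `D`
  have hunit : ∀ d : D, IsUnit (d : E) → IsUnit d := by
    intro d hd
    obtain ⟨⟨d', u, hdu, hud⟩, hd'⟩ := hd
    have hd'' : d' = (d : E) := hd'
    obtain ⟨y, hy, hdy⟩ := key (algebraMap E (FractionRing E) d) ((hD _).mp d.2)
      (hd'' ▸ (IsUnit.map (algebraMap E (FractionRing E)) ⟨⟨d', u, hdu, hud⟩, rfl⟩))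
    have hu1 : algebraMap E (FractionRing E) d * algebraMap E (FractionRing E) u = 1 := by
      rw [← map_mul, ← hd'', hdu, map_one]
    have hyu : y = algebraMap E (FractionRing E) u := by
      calc y = y * (algebraMap E (FractionRing E) d * algebraMap E (FractionRing E) u) := by
            rw [hu1, mul_one]
        _ = (algebraMap E (FractionRing E) d * y) * algebraMap E (FractionRing E) u := by ring
        _ = algebraMap E (FractionRing E) u := by rw [hdy, one_mul]
    have huD : u ∈ D := (hD u).mpr (hyu ▸ hy)
    refine ⟨⟨d, ⟨u, huD⟩, ?_, ?_⟩, rfl⟩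
    · apply Subtype.ext
      show (d : E) * u = 1
      rw [← hd'', hdu]
    · apply Subtype.ext
      show u * (d : E) = 1
      rw [← hd'', hud]
  have hlocal : IsLocalRing D := by
    refine IsLocalRing.of_nonunits_add ?_
    intro a b ha hb hab
    have hab' : IsUnit ((a : E) + (b : E)) := by
      have := hab.map D.val
      simpa using this
    rcases IsLocalRing.isUnit_or_isUnit_of_isUnit_add hab' with h | h
    · exact ha (hunit a h)
    · exact hb (hunit b h)
  refine ⟨D, rfl, hlocal, ⟨fun d hd => hunit d hd⟩, ?_⟩
  intro l hl
  obtain ⟨⟨e, t⟩, het⟩ := IsLocalization.surj (Algebra.algebraMapSubmonoid E (nonZeroDivisors A)) l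
  obtain ⟨s, hs, hst⟩ := t.2
  obtain ⟨y, hy, hsy⟩ := hL s hs
  have het' : l * algebraMap A (FractionRing E) s = algebraMap E (FractionRing E) e := by
    rw [IsScalarTower.algebraMap_apply A E (FractionRing E), hst]
    exact het
  refine ⟨e, ?_, s, hs, y, hy, hsy, ?_⟩
  · rw [hD, ← het']
    exact L.mul_mem hl (L.algebraMap_mem s)
  · rw [← het', mul_assoc, hsy, mul_one]

end Groth.Agent.S16443
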