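import Groth.Statements.S16452
import Groth.Agent.Lib.Helper24.AssocGrLib
import Mathlib.RingTheory.Smooth.Basic
import Mathlib.RingTheory.Unramified.Basic

set_option autoImplicit false
universe u
open CAlg

namespace Groth.Agent.S16452

theorem key (R : Type u) [CommRing R] (S : Type u)
    [CommRing S] [Algebra R S] [Algebra.FormallyEtale R S] (J : Ideal S)
    (hJ : Function.Surjective (algebraMap R (S ⧸ J))) (n : ℕ) (hn : 1 ≤ n) :
    (∀ a : R, algebraMap R S a ∈ J ^ n → a ∈ (J.comap (algebraMap R S)) ^ n) ∧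
      (∀ s : S, ∃ r : R, algebraMap R S r - s ∈ J ^ n) := by
  haveI : Algebra.FormallySmooth R S :=
    (Algebra.FormallyEtale.iff_formallyUnramified_and_formallySmooth.mp inferInstance).2
  haveI : Algebra.FormallyUnramified R S :=
    (Algebra.FormallyEtale.iff_formallyUnramified_and_formallySmooth.mp inferInstance).1
  set I : Ideal R := J.comap (algebraMap R S) with hI
  have hIJ : ∀ k a, a ∈ I ^ k → algebraMap R S a ∈ J ^ k := by
    intro k a ha
    have : algebraMap R S a ∈ (I ^ k).map (algebraMap R S) := Ideal.mem_map_of_mem _ ha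
    rw [Ideal.map_pow] at this
    exact Ideal.pow_right_mono Ideal.map_comap_le k this
  -- g_B : R/I^n → S/J
  let gB : (R ⧸ I ^ n) →ₐ[R] (S ⧸ J) := Ideal.Quotient.liftₐ (I ^ n) (Algebra.ofId R (S ⧸ J)) (by
    intro a ha
    have h1 : algebraMap R S a ∈ J := Ideal.pow_le_self (by omega) (hIJ n a ha)
    change algebraMap R (S ⧸ J) a = 0
    rw [IsScalarTower.algebraMap_apply R S (S ⧸ J), Ideal.Quotient.algebraMap_eq,
      Ideal.Quotient.eq_zero_iff_mem]
    exact h1)
  have hgB_mk : ∀ a : R, gB (Ideal.Quotient.mk (I ^ n) a) = algebraMap R (S ⧸ J) a := fun a => rfl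
  have hgBsurj : Function.Surjective gB := by
    intro c
    obtain ⟨a, rfl⟩ := hJ c
    exact ⟨Ideal.Quotient.mk (I ^ n) a, hgB_mk a⟩
  have hker_le : RingHom.ker (gB : (R ⧸ I ^ n) →+* (S ⧸ J)) ≤ I.map (Ideal.Quotient.mk (I ^ n)) := by
    intro x hx
    obtain ⟨a, rfl⟩ := Ideal.Quotient.mk_surjective x
    rw [RingHom.mem_ker] at hx
    have h1 : algebraMap R (S ⧸ J) a = 0 := hx
    rw [IsScalarTower.algebraMap_apply R S (S ⧸ J), Ideal.Quotient.algebraMap_eq,
      Ideal.Quotient.eq_zero_iff_mem] at h1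
    exact Ideal.mem_map_of_mem _ h1
  have hkerpow : (RingHom.ker (gB : (R ⧸ I ^ n) →+* (S ⧸ J))) ^ n = ⊥ := by
    rw [eq_bot_iff]
    refine (Ideal.pow_right_mono hker_le n).trans ?_
    rw [← Ideal.map_pow, Ideal.map_quotient_self]
  have hnil : IsNilpotent (RingHom.ker (gB : (R ⧸ I ^ n) →+* (S ⧸ J))) := ⟨n, hkerpow⟩
  let f : S →ₐ[R] (S ⧸ J) := Ideal.Quotient.mkₐ R J
  let g : S →ₐ[R] (R ⧸ I ^ n) := Algebra.FormallySmooth.liftOfSurjective f gB hgBsurj hnil
  have hg : ∀ x, gB (g x) = f x := Algebra.FormallySmooth.liftOfSurjective_apply f gB hgBsurj hnil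
  have hgJ : ∀ y ∈ J ^ n, g y = 0 := by
    intro y hy
    have h1 : J.map (g : S →+* (R ⧸ I ^ n)) ≤ RingHom.ker (gB : (R ⧸ I ^ n) →+* (S ⧸ J)) := by
      rw [Ideal.map_le_iff_le_comap]
      intro j hj
      rw [Ideal.mem_comap, RingHom.mem_ker]
      change gB (g j) = 0
      rw [hg]
      exact Ideal.Quotient.eq_zero_iff_mem.mpr hj
    have h2 : (g : S →+* (R ⧸ I ^ n)) y ∈ (J ^ n).map (g : S →+* (R ⧸ I ^ n)) :=
      Ideal.mem_map_of_mem _ hy
    rw [Ideal.map_pow] at h2
    have h3 := Ideal.pow_right_mono h1 n h2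
    rw [hkerpow] at h3
    exact h3
  constructor
  · intro a ha
    have h1 := hgJ _ ha
    rw [g.commutes] at h1
    exact Ideal.Quotient.eq_zero_iff_mem.mp h1
  · -- surjectivity
    let q : S →ₐ[R] (S ⧸ J ^ n) := Ideal.Quotient.mkₐ R (J ^ n)
    let hB : (R ⧸ I ^ n) →ₐ[R] (S ⧸ J ^ n) :=
      Ideal.Quotient.liftₐ (I ^ n) (Algebra.ofId R (S ⧸ J ^ n)) (by
        intro a ha
        change algebraMap R (S ⧸ J ^ n) a = 0
        rw [IsScalarTower.algebraMap_apply R S (S ⧸ J ^ n), Ideal.Quotient.algebraMap_eq,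
          Ideal.Quotient.eq_zero_iff_mem]
        exact hIJ n a ha)
    have hhB_mk : ∀ a : R, hB (Ideal.Quotient.mk (I ^ n) a) = algebraMap R (S ⧸ J ^ n) a :=
      fun a => rfl
    let f' : (S ⧸ J ^ n) →+* (S ⧸ J) := Ideal.Quotient.factor (Ideal.pow_le_self (by omega))
    have hf'nil : IsNilpotent (RingHom.ker f') := by
      refine ⟨n, ?_⟩
      have hle : RingHom.ker f' ≤ J.map (Ideal.Quotient.mk (J ^ n)) := by
        intro x hx
        obtain ⟨s, rfl⟩ := Ideal.Quotient.mk_surjective x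
        rw [RingHom.mem_ker] at hx
        have h1 : Ideal.Quotient.mk J s = 0 := hx
        exact Ideal.mem_map_of_mem _ (Ideal.Quotient.eq_zero_iff_mem.mp h1)
      have := Ideal.pow_right_mono hle n
      rw [← Ideal.map_pow, Ideal.map_quotient_self] at this
      exact eq_bot_iff.mpr this
    have hqq : q = hB.comp g := by
      apply Algebra.FormallyUnramified.ext' f' hf'nil
      intro x
      have h1 : f' (q x) = f x := rfl
      rw [h1, ← hg x]
      change _ = f' (hB (g x))
      generalize g x = y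
      obtain ⟨a, rfl⟩ := Ideal.Quotient.mk_surjective y
      rw [hgB_mk, hhB_mk, IsScalarTower.algebraMap_apply R S (S ⧸ J),
        IsScalarTower.algebraMap_apply R S (S ⧸ J ^ n)]
      rfl
    intro s
    obtain ⟨a, ha⟩ := Ideal.Quotient.mk_surjective (g s)
    refine ⟨a, ?_⟩
    have h1 : q s = hB (g s) := by rw [hqq]; rfl
    rw [← ha, hhB_mk, IsScalarTower.algebraMap_apply R S (S ⧸ J ^ n)] at h1
    have h2 : Ideal.Quotient.mk (J ^ n) (algebraMap R S a) = Ideal.Quotient.mk (J ^ n) s := h1.symm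
    exact Ideal.Quotient.eq.mp h2

/-- Let R → S be formally étale and J an ideal of S such that the composite R → S → S/J is surjective;
let I ⊆ R be its kernel, the preimage of J in R. Then the homomorphism of associated graded rings ⊕ₙ
Iⁿ/Iⁿ⁺¹ → ⊕ₙ Jⁿ/Jⁿ⁺¹ induced by R → S (which carries I into J) is bijective. -/
theorem result (R : Type u) [CommRing R] (S : Type u)
    [CommRing S] [Algebra R S] [Algebra.FormallyEtale R S] (J : Ideal S)
    (hJ : Function.Surjective (algebraMap R (S ⧸ J))) :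
    Function.Bijective (AssocGr.map (AssocGr.IsFiltHom.adic
      (Ideal.map_comap_le : (J.comap (algebraMap R S)).map (algebraMap R S) ≤ J))) := by
  constructor
  · apply Groth.Agent.Helper24.AssocGrLib.map_injective_of
    intro n a _ ha
    exact (key R S J hJ (n + 1) (by omega)).1 a ha
  · apply Groth.Agent.Helper24.AssocGrLib.map_surjective_of
    intro n b hb
    obtain ⟨a, ha⟩ := (key R S J hJ (n + 1) (by omega)).2 b
    refine ⟨a, ?_, ha⟩
    have hφa : algebraMap R S a ∈ J ^ n := by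
      have : algebraMap R S a = (algebraMap R S a - b) + b := by ring
      rw [this]
      exact (J ^ n).add_mem (Ideal.pow_le_pow_right (Nat.le_succ n) ha) hb
    by_cases hn : n = 0
    · subst hn
      change a ∈ (J.comap (algebraMap R S)) ^ 0
      simp
    · exact (key R S J hJ n (by omega)).1 a hφa

end Groth.Agent.S16452
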