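import Groth.Statements.S16455

set_option autoImplicit false
universe u
open EGA4

namespace Groth.Agent.S16455

open AssocGr DirectSum

section General
variable {A : Type u} [CommRing A] {I : Ideal A} {M : Type u} [AddCommGroup M] [Module A M]
  (F : I.Filtration M)

/-- `x ↦ x·Xⁿ` as an `A`-linear map. -/
noncomputable def monomL (n : ℕ) : ↥(F.N n) →ₗ[A] ReesM F where
  toFun x := monomM F n x
  map_add' x y := by
    refine ReesM.ext F fun m => ?_
    rw [ReesM.coeff_add, ReesM.coeff_monomM, ReesM.coeff_monomM, ReesM.coeff_monomM]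
    split_ifs <;> simp
  map_smul' a x := by
    refine ReesM.ext F fun m => ?_
    rw [RingHom.id_apply, ReesM.coeff_smul_base, ReesM.coeff_monomM, ReesM.coeff_monomM]
    split_ifs <;> simp

/-- the coefficient map as an `A`-linear map. -/
noncomputable def coeffL (n : ℕ) : ReesM F →ₗ[A] ↥(F.N n) where
  toFun y := ⟨ReesM.coeff F y n, ReesM.coeff_mem F y n⟩
  map_add' x y := Subtype.ext (ReesM.coeff_add F x y n)
  map_smul' a x := Subtype.ext (ReesM.coeff_smul_base F a x n)

theorem coeffL_monomL (n m : ℕ) (x : F.N n) :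
    ((coeffL F m (monomL F n x) : F.N m) : M) = if n = m then (x : M) else 0 :=
  ReesM.coeff_monomM F n x m

variable (K : ∀ n, Submodule A ↥(F.N n)) (hK : ∀ n (x : F.N n), x ∈ K n ↔ (x : M) ∈ F.N (n + 1))

include hK in
theorem ker_mkGM_monomL (n : ℕ) : LinearMap.ker (mkGM F ∘ₗ monomL F n) = K n := by
  ext x
  rw [LinearMap.mem_ker, LinearMap.comp_apply, hK, ← inDegM_eq_zero_iff,
    ← ZeroMemClass.coe_eq_zero, coe_inDegM]
  rfl

/-- the inclusion of the `n`-th piece. -/
noncomputable def ιL (hK : ∀ n (x : F.N n), x ∈ K n ↔ (x : M) ∈ F.N (n + 1)) (n : ℕ) :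
    (↥(F.N n) ⧸ K n) →ₗ[A] GrMod F :=
  (K n).liftQ (mkGM F ∘ₗ monomL F n) (ker_mkGM_monomL F K hK n).symm.le

theorem ιL_mk (n : ℕ) (x : F.N n) :
    ιL F K hK n ((K n).mkQ x) = mkGM F (monomM F n x) := rfl

/-- the projection to the `m`-th piece. -/
noncomputable def πL (hK : ∀ n (x : F.N n), x ∈ K n ↔ (x : M) ∈ F.N (n + 1)) (m : ℕ) :
    GrMod F →ₗ[A] (↥(F.N m) ⧸ K m) :=
  ((LinearMap.ker (mkGM F)).liftQ ((K m).mkQ ∘ₗ coeffL F m) (by
    intro y hy
    rw [LinearMap.mem_ker, mkGM_eq_zero_iff, mem_succMod_iff] at hy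
    rw [LinearMap.mem_ker, LinearMap.comp_apply, Submodule.mkQ_apply,
      Submodule.Quotient.mk_eq_zero, hK]
    exact hy m)) ∘ₗ
    ((mkGM F).quotKerEquivOfSurjective (mkGM_surjective F)).symm.toLinearMap

theorem πL_mkGM (m : ℕ) (y : ReesM F) :
    πL F K hK m (mkGM F y) = (K m).mkQ (coeffL F m y) := by
  have : ((mkGM F).quotKerEquivOfSurjective (mkGM_surjective F)).symm (mkGM F y) =
      (LinearMap.ker (mkGM F)).mkQ y := by
    rw [LinearEquiv.symm_apply_eq]
    rfl
  rw [πL, LinearMap.comp_apply, LinearEquiv.coe_coe, this]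
  rfl

/-- the comparison map. -/
noncomputable def ΦL (hK : ∀ n (x : F.N n), x ∈ K n ↔ (x : M) ∈ F.N (n + 1)) :
    (⨁ n, (↥(F.N n) ⧸ K n)) →ₗ[A] GrMod F :=
  DirectSum.toModule A ℕ _ (ιL F K hK)

theorem π_comp_Φ (m : ℕ) :
    πL F K hK m ∘ₗ ΦL F K hK = DirectSum.component A ℕ _ m := by
  apply DirectSum.linearMap_ext
  intro n
  apply LinearMap.ext
  intro p
  obtain ⟨x, rfl⟩ := (K n).mkQ_surjective p
  rw [LinearMap.comp_apply, LinearMap.comp_apply, ΦL, DirectSum.toModule_lof, ιL_mk, πL_mkGM,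
    LinearMap.comp_apply, DirectSum.component.of]
  by_cases h : n = m
  · subst h
    rw [dif_pos rfl]
    congr 1
    apply Subtype.ext
    have := coeffL_monomL F n n x
    rw [if_pos rfl] at this
    exact this
  · rw [dif_neg h]
    have h0 : coeffL F m (monomM F n x) = 0 := by
      apply Subtype.ext
      have := coeffL_monomL F n m x
      rw [if_neg h] at this
      exact this
    rw [h0, map_zero]

theorem Φ_bijective : Function.Bijective (ΦL F K hK) := by
  classical
  constructor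
  · rw [injective_iff_map_eq_zero]
    intro z hz
    apply DFinsupp.ext
    intro m
    have := LinearMap.congr_fun (π_comp_Φ F K hK m) z
    rw [LinearMap.comp_apply, hz, map_zero] at this
    exact this.symm
  · intro x
    obtain ⟨y, rfl⟩ := mkGM_surjective F x
    rw [← sum_termM F y, map_sum]
    have : ∀ n, mkGM F (termM F y n) ∈ LinearMap.range (ΦL F K hK) := by
      intro n
      refine ⟨DirectSum.lof A ℕ _ n ((K n).mkQ ⟨ReesM.coeff F y n, ReesM.coeff_mem F y n⟩), ?_⟩
      rw [ΦL, DirectSum.toModule_lof, ιL_mk]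
      rfl
    exact Submodule.sum_mem _ fun n _ => this n

/-- `gr_F(M) ≅ ⊕ₙ Nₙ/Nₙ₊₁`. -/
noncomputable def grEquiv : (⨁ n, (↥(F.N n) ⧸ K n)) ≃ₗ[A] GrMod F :=
  LinearEquiv.ofBijective (ΦL F K hK) (Φ_bijective F K hK)

end General

/-- For a commutative ring A, an ideal I of A and an A-module M, the following are equivalent: every
quotient IⁿM/Iⁿ⁺¹M (n ≥ 0) is a flat A/I-module; the associated graded module gr_I(M) = ⊕ₙ
IⁿM/Iⁿ⁺¹M, as one module over A/I, is flat. Either condition says that M is normally flat along I.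
(The source defines normal flatness for a coherent module on a locally Noetherian scheme through the
second condition and notes it amounts to the first; the equivalence holds for every ring and
module.) -/
theorem result (A : Type u) [CommRing A] (I : Ideal A) (M : Type u)
    [AddCommGroup M] [Module A M] :
    EGA4.IsNormallyFlat I M ↔ Module.Flat (A ⧸ I) (AssocGr.GrMod (Rees.powFilt I M)) := by
  classical
  have hK : ∀ n (x : ↥(I ^ n • (⊤ : Submodule A M))),
      x ∈ (I • ⊤ : Submodule A ↥(I ^ n • (⊤ : Submodule A M))) ↔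
        (x : M) ∈ I ^ (n + 1) • (⊤ : Submodule A M) := by
    intro n x
    rw [Submodule.mem_smul_top_iff, ← mul_smul, ← pow_succ']
  let e : (⨁ n, (↥(I ^ n • (⊤ : Submodule A M)) ⧸
      (I • ⊤ : Submodule A ↥(I ^ n • (⊤ : Submodule A M))))) ≃ₗ[A] GrMod (Rees.powFilt I M) :=
    grEquiv (Rees.powFilt I M)
      (fun n => (I • ⊤ : Submodule A ↥(I ^ n • (⊤ : Submodule A M)))) hK
  let e' : (⨁ n, (↥(I ^ n • (⊤ : Submodule A M)) ⧸
      (I • ⊤ : Submodule A ↥(I ^ n • (⊤ : Submodule A M))))) ≃ₗ[A ⧸ I]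
        GrMod (Rees.powFilt I M) :=
    LinearEquiv.extendScalarsOfSurjective Ideal.Quotient.mk_surjective e
  unfold EGA4.IsNormallyFlat
  rw [← Module.Flat.equiv_iff e', Module.Flat.directSum_iff]

end Groth.Agent.S16455
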