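import Groth.Statements.S16456
import Groth.Agent.Lib.Helper24.AssocGrLib

set_option autoImplicit false
universe u
open AdicGr

namespace Groth.Agent.S16456

theorem smodeq_iff {A : Type u} [CommRing A] (I : Ideal A) (n : ℕ) (x y : A) :
    x ≡ y [SMOD (I ^ n • ⊤ : Submodule A A)] ↔ x - y ∈ I ^ n := by
  rw [SModEq.sub_mem, smul_eq_mul, Ideal.mul_top]

/-- Precompleteness: a sequence with `s (k+1) - s k ∈ I^k` has a limit. -/
theorem exists_limit {A : Type u} [CommRing A] (I : Ideal A) [IsPrecomplete I A]
    (s : ℕ → A) (hs : ∀ k, s (k + 1) - s k ∈ I ^ k) : ∃ L : A, ∀ k, s k - L ∈ I ^ k := by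
  have hC : ∀ {m n}, m ≤ n → s m ≡ s n [SMOD (I ^ m • ⊤ : Submodule A A)] := by
    intro m n hmn
    rw [smodeq_iff]
    induction n, hmn using Nat.le_induction with
    | base => simp
    | succ n hmn ih =>
      have h1 : s m - s (n + 1) = (s m - s n) - (s (n + 1) - s n) := by ring
      rw [h1]
      exact (I ^ m).sub_mem ih (Ideal.pow_le_pow_right hmn (hs n))
  obtain ⟨L, hL⟩ := IsPrecomplete.prec' (I := I) s hC
  exact ⟨L, fun k => (smodeq_iff I k _ _).mp (hL k)⟩

theorem key {A : Type u} [CommRing A] {B : Type u}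
    [CommRing B] (φ : A →+* B) (I : Ideal A) (J : Ideal B) (hIJ : I.map φ ≤ J)
    [IsPrecomplete I A] [IsHausdorff J B]
    (hstep : ∀ n b, b ∈ J ^ n → ∃ a ∈ I ^ n, φ a - b ∈ J ^ (n + 1))
    (n : ℕ) (b : B) (hb : b ∈ J ^ n) : ∃ a ∈ I ^ n, φ a = b := by
  have hφpow : ∀ k a, a ∈ I ^ k → φ a ∈ J ^ k := by
    intro k a ha
    have : φ a ∈ (I ^ k).map φ := Ideal.mem_map_of_mem φ ha
    rw [Ideal.map_pow] at this
    exact Ideal.pow_right_mono hIJ k this
  have step : ∀ k (s : A), b - φ s ∈ J ^ (n + k) →
      ∃ s', s' - s ∈ I ^ (n + k) ∧ b - φ s' ∈ J ^ (n + k + 1) := by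
    intro k s hs
    obtain ⟨a, ha, hab⟩ := hstep (n + k) _ hs
    refine ⟨s + a, by simpa using ha, ?_⟩
    have : b - φ (s + a) = -(φ a - (b - φ s)) := by rw [map_add]; ring
    rw [this]
    exact (J ^ (n + k + 1)).neg_mem hab
  choose! nxt hnxt1 hnxt2 using step
  let s : ℕ → A := fun k => Nat.rec 0 (fun k sk => nxt k sk) k
  have hs0 : s 0 = 0 := rfl
  have hss : ∀ k, s (k + 1) = nxt k (s k) := fun k => rfl
  have hsJ : ∀ k, b - φ (s k) ∈ J ^ (n + k) := by
    intro k
    induction k with
    | zero => simpa [hs0] using hb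
    | succ k ih => rw [hss]; exact hnxt2 k (s k) ih
  have hsI : ∀ k, s (k + 1) - s k ∈ I ^ (n + k) := fun k => by
    rw [hss]; exact hnxt1 k (s k) (hsJ k)
  have hsn : ∀ k, s k ∈ I ^ n := by
    intro k
    induction k with
    | zero => rw [hs0]; exact (I ^ n).zero_mem
    | succ k ih =>
      have : s (k + 1) = (s (k + 1) - s k) + s k := by ring
      rw [this]
      exact (I ^ n).add_mem (Ideal.pow_le_pow_right (Nat.le_add_right n k) (hsI k)) ih
  obtain ⟨L, hL⟩ := exists_limit I s
    (fun k => Ideal.pow_le_pow_right (Nat.le_add_left k n) (hsI k))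
  refine ⟨L, ?_, ?_⟩
  · have : L = s n - (s n - L) := by ring
    rw [this]
    exact (I ^ n).sub_mem (hsn n) (hL n)
  · rw [← sub_eq_zero]
    apply IsHausdorff.haus' (I := J)
    intro k
    rw [smodeq_iff, sub_zero]
    have : φ L - b = -(φ (s k - L)) - (b - φ (s k)) := by rw [map_sub]; ring
    rw [this]
    exact (J ^ k).sub_mem ((J ^ k).neg_mem (hφpow k _ (hL k)))
      (Ideal.pow_le_pow_right (Nat.le_add_left k n) (hsJ k))

/-- Let φ : A → B be a ring homomorphism, I ⊆ A and J ⊆ B ideals with φ(I)B ⊆ J, so that φ is a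
homomorphism of filtered rings for the I-adic and J-adic filtrations. Assume that A is I-adically
complete in the sense that every I-adically Cauchy sequence has a limit, that B is J-adically
separated, and that the induced homomorphism of associated graded rings ⊕ₙ Iⁿ/Iⁿ⁺¹ → ⊕ₙ Jⁿ/Jⁿ⁺¹ is
surjective. Then φ is surjective, φ is strict (Jⁿ = φ(Iⁿ)B for all n, that is J = φ(I)B), and B is
J-adically separated and complete. (The published statement is for a homomorphism of filtered
modules over a filtered ring, with arbitrary compatible filtrations; this row is its case of a ring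
homomorphism with adic filtrations.) -/
theorem result (A : Type u) [CommRing A] (B : Type u)
    [CommRing B] (φ : A →+* B) (I : Ideal A) (J : Ideal B) (hIJ : I.map φ ≤ J)
    [IsPrecomplete I A] [IsHausdorff J B]
    (h : Function.Surjective (AssocGr.map (AssocGr.IsFiltHom.adic hIJ))) :
    Function.Surjective φ ∧ I.map φ = J ∧ IsAdicComplete J B := by
  have hstep : ∀ n b, b ∈ J ^ n → ∃ a ∈ I ^ n, φ a - b ∈ J ^ (n + 1) := fun n b hb =>
    Groth.Agent.Helper24.AssocGrLib.of_map_surjective (AssocGr.IsFiltHom.adic hIJ) h n b hb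
  have hkey := key φ I J hIJ hstep
  have hφpow : ∀ k a, a ∈ I ^ k → φ a ∈ J ^ k := by
    intro k a ha
    have : φ a ∈ (I ^ k).map φ := Ideal.mem_map_of_mem φ ha
    rw [Ideal.map_pow] at this
    exact Ideal.pow_right_mono hIJ k this
  have hsurj : Function.Surjective φ := by
    intro b
    obtain ⟨a, _, ha⟩ := hkey 0 b (by simp)
    exact ⟨a, ha⟩
  refine ⟨hsurj, ?_, ?_⟩
  · apply le_antisymm hIJ
    intro b hb
    obtain ⟨a, ha, hab⟩ := hkey 1 b (by simpa using hb)
    rw [← hab]
    exact Ideal.mem_map_of_mem φ (by simpa using ha)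
  · haveI : IsPrecomplete J B := by
      constructor
      intro f hf
      have hf' : ∀ k, f (k + 1) - f k ∈ J ^ k := by
        intro k
        have := (smodeq_iff J k _ _).mp (hf (Nat.le_succ k))
        have h2 : f (k + 1) - f k = -(f k - f (k + 1)) := by ring
        rw [h2]
        exact (J ^ k).neg_mem this
      choose a ha1 ha2 using fun k => hkey k _ (hf' k)
      obtain ⟨a', ha'⟩ := hsurj (f 0)
      let g : ℕ → A := fun k => a' + ∑ i ∈ Finset.range k, a i
      have hg : ∀ k, φ (g k) = f k := by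
        intro k
        induction k with
        | zero => simp [g, ha']
        | succ k ih =>
          have : g (k + 1) = g k + a k := by
            simp only [g, Finset.sum_range_succ]; ring
          rw [this, map_add, ih, ha2]; ring
      obtain ⟨L, hL⟩ := exists_limit I g (fun k => by
        have : g (k + 1) - g k = a k := by
          simp only [g, Finset.sum_range_succ]; ring
        rw [this]; exact ha1 k)
      refine ⟨φ L, fun k => ?_⟩
      rw [smodeq_iff, ← hg, ← map_sub]
      exact hφpow k _ (hL k)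
    exact { }

end Groth.Agent.S16456
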