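import Groth.Statements.S1646
import Mathlib
import Groth.Agent.Lib.Helper6.GGDescA
import Groth.Agent.Lib.Helper13.PbUnit

set_option autoImplicit false
universe u
open CategoryTheory CategoryTheory.Limits AlgebraicGeometry
open Variety

namespace Groth.Agent.S1646

/-- Let A → A' be a faithfully flat ring map, f : X → Spec A a quasi-compact and quasi-separated
morphism, and F a quasi-coherent O_X-module. F is generated by its global sections exactly when its
pullback to X ×_{Spec A} Spec A' is generated by its global sections. (Quasi-compactness and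
quasi-separatedness of f are assumed here on top of the published hypotheses.) -/
theorem result (A A' : Type u) [CommRing A] [CommRing A'] [Algebra A A']
    [Module.FaithfullyFlat A A'] (X : Scheme.{u}) (f : X ⟶ Spec (CommRingCat.of A)) [QuasiCompact f] [QuasiSeparated f]
    (F : X.Modules) (hF : Coh.IsQCoh F) :
    Curv2.IsGloballyGenerated F ↔ Curv2.IsGloballyGenerated
      ((Scheme.Modules.pullback (pullback.fst f (Spec.map (CommRingCat.ofHom (algebraMap A A'))))).obj F) := by
  haveI : F.IsQuasicoherent := hF
  have hff : (CommRingCat.ofHom (algebraMap A A')).hom.FaithfullyFlat :=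
    (RingHom.faithfullyFlat_algebraMap_iff).2 inferInstance
  obtain ⟨hflat, hsurj⟩ := (flat_and_surjective_SpecMap_iff (CommRingCat.ofHom (algebraMap A A'))).2 hff
  constructor
  · rintro ⟨ι, p, hp⟩
    have h1 := Functor.preservesEpimorphisms_of_adjunction (Scheme.Modules.pullbackPushforwardAdjunction
      (pullback.fst f (Spec.map (CommRingCat.ofHom (algebraMap A A')))))
    have h2 : Epi ((Scheme.Modules.pullback
        (pullback.fst f (Spec.map (CommRingCat.ofHom (algebraMap A A'))))).map p) :=
      @Functor.PreservesEpimorphisms.preserves _ _ _ _ _ h1 _ _ p hp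
    refine ⟨ι, (SheafOfModules.pullbackObjFreeIso _ ι).inv ≫ (Scheme.Modules.pullback
        (pullback.fst f (Spec.map (CommRingCat.ofHom (algebraMap A A'))))).map p, ?_⟩
    exact @epi_comp _ _ _ _ _ _ inferInstance _ h2
  · intro hG
    rw [Groth.Agent.Helper13.GlobGen.isGloballyGenerated_iff] at hG ⊢
    exact Groth.Agent.Helper6.GGDesc.ggAt_of_ggAt_pullback
      (IsPullback.of_hasPullback f (Spec.map (CommRingCat.ofHom (algebraMap A A')))) F hG

end Groth.Agent.S1646
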