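import Groth.Statements.S16460

set_option autoImplicit false
universe u
open AdicGr

namespace Groth.Agent.S16460

theorem exists_level {A : Type u} [CommRing A]
    (𝓕 : FiltBl.IdealFiltration A) (hsep : ⨅ n, 𝓕.F n = ⊥) (a : A) (ha : a ≠ 0) :
    ∃ m, a ∈ 𝓕.F m ∧ a ∉ 𝓕.F (m + 1) := by
  classical
  have hex : ∃ n, a ∉ 𝓕.F n := by
    by_contra hcon
    push_neg at hcon
    apply ha
    have : a ∈ ⨅ n, 𝓕.F n := by
      rw [Ideal.mem_iInf]; exact hcon
    rw [hsep] at this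
    simpa using this
  have hspec := Nat.find_spec hex
  have hpos : Nat.find hex ≠ 0 := by
    intro h0
    rw [h0, 𝓕.zero_eq] at hspec
    exact hspec trivial
  obtain ⟨m, hm⟩ := Nat.exists_eq_succ_of_ne_zero hpos
  refine ⟨m, ?_, ?_⟩
  · have := Nat.find_min hex (m := m) (by omega)
    simpa using this
  · rw [← Nat.succ_eq_add_one, ← hm]; exact hspec

/-- Let A be a commutative ring with a decreasing filtration by ideals A = F₀ ⊇ F₁ ⊇ F₂ ⊇ … satisfying
F_m·F_n ⊆ F_{m+n}, and assume the filtration is separated, ⋂ₙ Fₙ = 0. If the associated graded ring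
⊕ₙ Fₙ/Fₙ₊₁ is an integral domain, then A is an integral domain. -/
theorem result (A : Type u) [CommRing A]
    (𝓕 : FiltBl.IdealFiltration A) (hsep : ⨅ n, 𝓕.F n = ⊥) [IsDomain (AssocGr.GrRing 𝓕)] :
    IsDomain A := by
  have hnt : Nontrivial A := by
    by_contra hcon
    rw [not_nontrivial_iff_subsingleton] at hcon
    have : (1 : AssocGr.GrRing 𝓕) = 0 := by
      have h1 : (1 : A) = 0 := Subsingleton.elim _ _
      have := congrArg (algebraMap A (AssocGr.GrRing 𝓕)) h1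
      simpa using this
    exact one_ne_zero this
  refine @NoZeroDivisors.to_isDomain A _ hnt ⟨?_⟩
  intro a b hab
  by_contra hcon
  push_neg at hcon
  obtain ⟨m, ham, ham'⟩ := exists_level 𝓕 hsep a hcon.1
  obtain ⟨n, hbn, hbn'⟩ := exists_level 𝓕 hsep b hcon.2
  have h1 : (AssocGr.inDeg 𝓕 m ⟨a, ham⟩ : AssocGr.GrRing 𝓕) ≠ 0 := by
    intro h
    apply ham'
    have := (AssocGr.inDeg_eq_zero_iff 𝓕 m ⟨a, ham⟩).mp (Subtype.ext h)
    exact this
  have h2 : (AssocGr.inDeg 𝓕 n ⟨b, hbn⟩ : AssocGr.GrRing 𝓕) ≠ 0 := by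
    intro h
    apply hbn'
    have := (AssocGr.inDeg_eq_zero_iff 𝓕 n ⟨b, hbn⟩).mp (Subtype.ext h)
    exact this
  have h3 := mul_ne_zero h1 h2
  rw [AssocGr.coe_inDeg_mul] at h3
  apply h3
  have : (⟨a * b, 𝓕.mul_le m n (Ideal.mul_mem_mul ham hbn)⟩ : 𝓕.F (m + n)) = 0 := Subtype.ext hab
  simp only [this, map_zero, ZeroMemClass.coe_zero]

end Groth.Agent.S16460
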