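import Groth.Statements.S16478
import Mathlib

set_option autoImplicit false
universe u
open GaDual

namespace Groth.Agent.S16478


open TensorProduct

section
variable (p : ℕ) [hp : Fact p.Prime] (A : Type u) [CommRing A] [CharP A p] (n : ℕ)

/-- comultiplication of a power of a primitive element -/
lemma comul_pow_of_prim {B : Type*} [CommRing B] [Bialgebra A B] (y : B)
    (hy : Coalgebra.comul (R := A) y = y ⊗ₜ[A] 1 + 1 ⊗ₜ[A] y) (i : ℕ) :
    Coalgebra.comul (R := A) (y ^ i) =
      ∑ m ∈ Finset.range (i + 1), (i.choose m : A) • ((y ^ m) ⊗ₜ[A] (y ^ (i - m))) := by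
  have h1 : Coalgebra.comul (R := A) (y ^ i) = (y ⊗ₜ[A] (1 : B) + (1 : B) ⊗ₜ[A] y) ^ i := by
    have := map_pow (Bialgebra.comulAlgHom A B) y i
    simp only [Bialgebra.comulAlgHom_apply] at this
    rw [this, hy]
  rw [h1, add_pow]
  refine Finset.sum_congr rfl (fun m _ => ?_)
  rw [Algebra.TensorProduct.tmul_pow, Algebra.TensorProduct.tmul_pow, one_pow, one_pow,
    Algebra.TensorProduct.tmul_mul_tmul, mul_one, one_mul, mul_comm, Algebra.smul_def,
    map_natCast]

end

/-- Let A be a commutative ring of prime characteristic p and n ≥ 1, and let φ be the comorphism of the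
closed immersion α_{p^n} → G_a over A: the bialgebra map from the Hopf algebra of the additive group
(generator t primitive) to A[x]/(x^(p^n)) (x primitive) sending t to x. Then the restriction map on
characters, from those of the additive group over A to those of α_{p^n} over A, is surjective: every
group-like element of A[x]/(x^(p^n)) is the image under φ of a group-like element of the Hopf
algebra of the additive group. -/
theorem result (p : ℕ) [Fact p.Prime] (A : Type u) [CommRing A] [CharP A p]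
    (n : ℕ) (hn : 1 ≤ n) (φ : SekSuwa.A A 0 →ₐc[A] AlphaPn.A p n A) (hφ : φ SekSuwa.A.t = AlphaPn.x p n A)
    (u : AlphaPn.A p n A) (hu : IsGroupLikeElem A u) :
    ∃ g : SekSuwa.A A 0, IsGroupLikeElem A g ∧ φ g = u := by
  have : Nontrivial A := CharP.nontrivial_of_char_ne_one (R := A) (v := p) (Fact.out : p.Prime).ne_one
  obtain ⟨b, hb⟩ : ∃ b : Module.Basis (Fin (p ^ n)) A (AlphaPn.A p n A),
      ∀ i, b i = AlphaPn.x p n A ^ (i : ℕ) := ⟨AlphaPn.basis p n A, AlphaPn.basis_apply p n A⟩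
  obtain ⟨t, ht0⟩ : ∃ t : SekSuwa.A A 0, t = SekSuwa.A.t := ⟨_, rfl⟩
  obtain ⟨ψ, hψdef⟩ : ∃ ψ : AlphaPn.A p n A →ₗ[A] SekSuwa.A A 0,
      ψ = b.constr A (fun i => t ^ (i : ℕ)) := ⟨_, rfl⟩
  have hψ : ∀ i, i < p ^ n → ψ (AlphaPn.x p n A ^ i) = t ^ i := by
    intro i hi
    have := b.constr_basis A (fun i => t ^ (i : ℕ)) ⟨i, hi⟩
    rw [hb] at this
    rw [hψdef]; exact this
  have ht : Coalgebra.comul (R := A) t = t ⊗ₜ[A] 1 + 1 ⊗ₜ[A] t := by
    rw [ht0, SekSuwa.A.comul_t, zero_smul, add_zero]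
  have hx : Coalgebra.comul (R := A) (AlphaPn.x p n A) =
      AlphaPn.x p n A ⊗ₜ[A] 1 + 1 ⊗ₜ[A] AlphaPn.x p n A := AlphaPn.comul_x p n A
  -- ψ is a coalgebra map
  have hΔ : (TensorProduct.map ψ ψ) ∘ₗ (Coalgebra.comul (R := A) (A := AlphaPn.A p n A)) =
      (Coalgebra.comul (R := A) (A := SekSuwa.A A 0)) ∘ₗ ψ := by
    apply b.ext
    intro i
    rw [LinearMap.comp_apply, LinearMap.comp_apply, hb, hψ _ i.2,
      comul_pow_of_prim A t ht, comul_pow_of_prim A _ hx, map_sum]
    refine Finset.sum_congr rfl (fun m hm => ?_)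
    rw [Finset.mem_range] at hm
    rw [map_smul, TensorProduct.map_tmul, hψ _ (lt_of_lt_of_le hm i.2),
      hψ _ (lt_of_le_of_lt (Nat.sub_le _ _) i.2)]
  have hε : (Coalgebra.counit (R := A) (A := SekSuwa.A A 0)) ∘ₗ ψ =
      (Coalgebra.counit (R := A) (A := AlphaPn.A p n A)) := by
    apply b.ext
    intro i
    rw [LinearMap.comp_apply, hb, hψ _ i.2]
    have e1 : Coalgebra.counit (R := A) (t ^ (i : ℕ)) = (Coalgebra.counit (R := A) t) ^ (i : ℕ) :=
      map_pow (Bialgebra.counitAlgHom A (SekSuwa.A A 0)) t i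
    have e2 : Coalgebra.counit (R := A) (AlphaPn.x p n A ^ (i : ℕ)) =
        (Coalgebra.counit (R := A) (AlphaPn.x p n A)) ^ (i : ℕ) :=
      map_pow (Bialgebra.counitAlgHom A (AlphaPn.A p n A)) (AlphaPn.x p n A) i
    rw [e1, e2, ht0, SekSuwa.A.counit_t, AlphaPn.counit_x]
  have hφψ : (φ : SekSuwa.A A 0 →ₗ[A] AlphaPn.A p n A) ∘ₗ ψ = LinearMap.id := by
    apply b.ext
    intro i
    rw [LinearMap.comp_apply, hb, hψ _ i.2, LinearMap.id_apply]
    show φ (t ^ (i : ℕ)) = _
    rw [map_pow, ht0, hφ]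
  refine ⟨ψ u, ⟨?_, ?_⟩, ?_⟩
  · have := congrArg (fun f => f u) hε
    simp only [LinearMap.comp_apply] at this
    rw [this, hu.counit_eq_one]
  · have := congrArg (fun f => f u) hΔ
    simp only [LinearMap.comp_apply] at this
    rw [← this, hu.comul_eq_tmul_self, TensorProduct.map_tmul]
  · have := congrArg (fun f => f u) hφψ
    simpa using this

end Groth.Agent.S16478
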