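import Groth.Statements.S16482
import Mathlib

set_option autoImplicit false
open CategoryTheory CategoryTheory.Limits AlgebraicGeometry
universe u
open FrobSch

namespace Groth.Agent.S16482



lemma pow_inj_of_reduced (p : ℕ) [Fact p.Prime] (R : Type u) [CommRing R] [_root_.IsReduced R]
    (h : (p : R) = 0) (a b : R) (hab : a ^ p = b ^ p) : a = b := by
  have h1 : powHom p R h (a - b) = 0 := by
    rw [map_sub, powHom_apply, powHom_apply, hab, sub_self]
  rw [powHom_apply] at h1
  exact sub_eq_zero.mp (IsReduced.eq_zero _ ⟨p, h1⟩)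

lemma res_res {Y : Scheme.{u}} (V W : Y.Opens) (e₁ : V = W) (e₂ : W = V) (x : Γ(Y, V)) :
    Y.presheaf.map (eqToHom e₁).op (Y.presheaf.map (eqToHom e₂).op x) = x := by
  subst e₁
  simp

lemma frob_cancel (p : ℕ) [Fact p.Prime] {Y Z : Scheme.{u}} [IsCharP Y p] [IsReduced Y]
    (g₁ g₂ : Y ⟶ Z) (H : frob Y p ≫ g₁ = frob Y p ≫ g₂) : g₁ = g₂ := by
  have hbase : g₁.base = g₂.base := by
    have := congrArg (fun φ : Y ⟶ Z => φ.base) H
    simpa using this
  refine Scheme.Hom.ext hbase (fun U => ?_)
  have h1 := Scheme.Hom.congr_app H U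
  rw [Scheme.Hom.comp_app, Scheme.Hom.comp_app] at h1
  ext s
  have h2 := congrArg (fun φ => φ.hom s) h1
  change (g₁.app U s) ^ p = Y.presheaf.map (eqToHom _).op ((g₂.app U s) ^ p) at h2
  change Y.presheaf.map (eqToHom _).op (g₁.app U s) = g₂.app U s
  apply pow_inj_of_reduced p _ (natCast_eq_zero_app Y p _)
  rw [← map_pow, h2]
  exact res_res _ _ _ _ _

/-- Let p be a prime and S a reduced scheme on which p = 0 whose absolute Frobenius is flat; let Y be a
reduced S-scheme with structure map a, Z an S-scheme with structure map b, and g₁, g₂ : Y ⟶ Z two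
S-morphisms. For i = 1, 2 let h_i : Y ⟶ Z^(p) be the relative Frobenius F_{Y/S} : Y ⟶ Y^(p) followed
by the base change Y^(p) ⟶ Z^(p) of g_i along the absolute Frobenius of S. If h₁ = h₂, then g₁ = g₂.
(The published statement works over the reduced special fibre of a flat formal scheme of finite type
over the Witt vectors of a perfect field; only reducedness of S and flatness of its absolute
Frobenius are kept here.) -/
theorem result (p : ℕ) [Fact p.Prime]
    {Y Z S : Scheme.{u}} [FrobSch.IsCharP S p] [IsReduced S] [Flat (FrobSch.frob S p)]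
    [IsReduced Y] (a : Y ⟶ S) (b : Z ⟶ S) (g₁ g₂ : Y ⟶ Z) (hg₁ : g₁ ≫ b = a) (hg₂ : g₂ ≫ b = a)
    (h : FrobSch.relFrob a p ≫ pullback.map a (FrobSch.frob S p) b (FrobSch.frob S p) g₁ (𝟙 S) (𝟙 S)
        ((Category.comp_id a).trans hg₁.symm) ((Category.comp_id _).trans (Category.id_comp _).symm) =
      FrobSch.relFrob a p ≫ pullback.map a (FrobSch.frob S p) b (FrobSch.frob S p) g₂ (𝟙 S) (𝟙 S)
        ((Category.comp_id a).trans hg₂.symm) ((Category.comp_id _).trans (Category.id_comp _).symm)) :
    g₁ = g₂ := by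
  have : IsCharP Y p := IsCharP.of_hom a p
  apply frob_cancel p
  have h' := congrArg (fun φ => φ ≫ pullback.fst b (frob S p)) h
  simp only [Category.assoc, pullback.lift_fst, pullback.map] at h'
  rw [← Category.assoc, ← Category.assoc, relFrob_fst] at h'
  exact h'

end Groth.Agent.S16482
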