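import Groth.Statements.S1689
import Groth.Agent.Lib.Helper28.ReflDepth
import Groth.Agent.Lib.Helper28.CurveFlat
import Groth.Agent.Lib.Helper13.LocFree2

set_option autoImplicit false
universe u
open CategoryTheory CategoryTheory.Limits AlgebraicGeometry TopologicalSpace
open SDiv


namespace Groth.Agent.S1689

open CategoryTheory Abelian LocCoh IsLocalRing
open Groth.Agent.Lead.Depth Groth.Agent.Lead Groth.Agent.Helper28.ReflDepth

/-- A finite reflexive module over a regular local ring of dimension at most two is free. -/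
theorem free_of_isReflexive (R : Type u) [CommRing R] [IsRegularLocalRing R]
    (hd : ringKrullDim R ≤ 2) (M : Type u) [AddCommGroup M] [Module R M] [Module.Finite R M]
    [Module.IsReflexive R M] : Module.Free R M := by
  rcases subsingleton_or_nontrivial M with hs | hnt
  · exact Module.Free.of_subsingleton R M
  obtain ⟨n, hn, hn2⟩ := RLR.exists_nat_of_le (ringKrullDim_nonneg_of_nontrivial (R := R))
    (by exact_mod_cast hd : ringKrullDim R ≤ ((2 : ℕ) : WithBot ℕ∞))
  have hdepthR : LocCoh.depth R R = n := depth_eq_of_isRegularLocalRing hn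
  have hpd := Hom.hasProjectiveDimensionLT_of_finite hn M
  have hnz : ¬ Limits.IsZero (ModuleCat.of R M) := fun hz =>
    not_subsingleton M (ModuleCat.subsingleton_of_isZero hz)
  obtain ⟨e, he, hen⟩ := exists_nat_projectiveDimension_eq hpd hnz
  have hAB := auslander_buchsbaum M e he
  rw [hdepthR] at hAB
  have hM : LocCoh.depth R M = LocCoh.depth R (Module.Dual R M →ₗ[R] R) :=
    depth_congr (Module.evalEquiv R M)
  have hR' : LocCoh.idealDepth (maximalIdeal R) R = n := hdepthR
  have h1 : 1 ≤ n → (1 : ℕ∞) ≤ LocCoh.depth R (Module.Dual R M →ₗ[R] R) := by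
    intro h
    refine one_le_idealDepth_hom (maximalIdeal R) (Module.Dual R M) ?_
    rw [hR']
    exact_mod_cast h
  have h2 : 2 ≤ n → (2 : ℕ∞) ≤ LocCoh.depth R (Module.Dual R M →ₗ[R] R) := by
    intro h
    refine two_le_idealDepth_hom (maximalIdeal R) (Module.Dual R M) ?_
    rw [hR']
    exact_mod_cast h
  have hge : (n : ℕ∞) ≤ LocCoh.depth R M := by
    rw [hM]
    interval_cases n
    · rw [Nat.cast_zero]; exact bot_le
    · rw [Nat.cast_one]; exact h1 le_rfl
    · rw [Nat.cast_ofNat]; exact h2 le_rfl
  obtain ⟨t, ht⟩ := ENat.ne_top_iff_exists.mp (depth_ne_top (R := R) M)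
  rw [← ht] at hAB hge
  have e1 : n = e + t := by exact_mod_cast hAB
  have e2 : n ≤ t := by exact_mod_cast hge
  have he0 : e = 0 := by omega
  subst he0
  rw [Nat.cast_zero, projectiveDimension_eq_zero_iff] at he
  haveI : Module.Projective R M := (IsProjective.iff_projective _).mpr he.1
  exact Module.free_of_flat_of_isLocalRing

end Groth.Agent.S1689

namespace Groth.Agent.S1689

open Groth.Agent.Helper13.QCoh Groth.Agent.Helper13.FinType Groth.Agent.Helper13.QCohLocal
open Groth.Agent.Helper13.QCohLoc Groth.Agent.Helper13.LocTransfer Groth.Agent.Helper13.LocFree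


/-- Let X be a locally Noetherian scheme of dimension at most 2 all of whose local rings are regular,
and F a coherent module on X. Then F is reflexive (every stalk is a reflexive module over the local
ring) if and only if F is finite locally free. -/
theorem result (X : Scheme.{u}) [IsLocallyNoetherian X]
    (hreg : ∀ x : ↥X, IsRegularLocalRing (X.presheaf.stalk x)) (hdim : topologicalKrullDim ↥X ≤ 2) (F : X.Modules)
    (hF : Coh.IsCoh F) : (∀ x : ↥X, Module.IsReflexive (X.presheaf.stalk x) (F.presheaf.stalk x)) ↔ FlatMod.IsFinLocFree F := by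
  obtain ⟨hqc, hft⟩ := hF
  haveI : F.IsQuasicoherent := hqc
  haveI : SheafOfModules.IsFiniteType (R := X.ringCatSheaf) F := hft
  constructor
  · intro hrefl
    rw [isFinLocFree_iff_of_isQuasicoherent]
    intro x
    obtain ⟨_, ⟨U, hU, rfl⟩, hxU, -⟩ :=
      X.isBasis_affineOpens.exists_subset_of_mem_open (Set.mem_univ x) isOpen_univ
    haveI : IsNoetherianRing Γ(X, U) := IsLocallyNoetherian.component_noetherian ⟨U, hU⟩
    haveI : Module.Finite Γ(X, U) Γ(F, U) := finite_sections_of_isFiniteType F hU
    haveI : Module.FinitePresentation Γ(X, U) Γ(F, U) := Module.finitePresentation_of_finite _ _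
    haveI := hreg x
    haveI := hrefl x
    haveI : Module.Finite (X.presheaf.stalk x) (F.presheaf.stalk x) :=
      finite_stalk_of_isFiniteType F x
    haveI : Module.Free (X.presheaf.stalk x) (F.presheaf.stalk x) :=
      free_of_isReflexive _
        ((Groth.Agent.Helper28.CurveFlat.ringKrullDim_stalk_le X x).trans hdim) _
    obtain ⟨r, hxr, n, hb⟩ := exists_basicOpen_basis F hU ⟨x, hxU⟩
    exact ⟨X.basicOpen r, n, hU.basicOpen r, hxr, hb⟩
  · intro h x
    haveI := free_stalk_of_isFinLocFree F h x
    haveI : Module.Finite (X.presheaf.stalk x) (F.presheaf.stalk x) :=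
      finite_stalk_of_isFiniteType F x
    infer_instance

end Groth.Agent.S1689
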