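import Groth.Statements.S16488
import Groth.Agent.Lib.Lead.HomSh5
import Groth.Agent.S1689
import Groth.Agent.Lib.Helper13.LocFree2

set_option autoImplicit false
universe u
open CategoryTheory CategoryTheory.Limits AlgebraicGeometry TopologicalSpace
open VBPn

namespace Groth.Agent.S16488

/-- Let X be an integral locally Noetherian scheme all of whose local rings are regular, and F a
coherent O_X-module which is reflexive, i.e. the canonical map F → F^** is an isomorphism. Then the
singularity set of F (the set of points at which the stalk of F is not free) has codimension at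
least 3: for every point x such that F_x is not a free O_{X,x}-module, the local ring O_{X,x} has
dimension at least 3. The published statement is for reflexive coherent analytic sheaves on a
complex manifold; this row is its statement for coherent sheaves on a regular integral locally
Noetherian scheme, where the same argument (a reflexive sheaf is locally a second syzygy sheaf)
applies. -/
theorem result (X : Scheme.{u}) [IsIntegral X] [IsLocallyNoetherian X]
    (hreg : ∀ x : X, IsRegularLocalRing (X.presheaf.stalk x)) (F : X.Modules) (hF : Coh.IsCoh F)
    (hrefl : RefHull.IsReflexive F) (x : X) (hx : ¬ Module.Free (X.presheaf.stalk x) (F.presheaf.stalk x)) :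
    (3 : WithBot ℕ∞) ≤ ringKrullDim (X.presheaf.stalk x) := by
  by_contra h3
  have hd : ringKrullDim (X.presheaf.stalk x) ≤ 2 := by
    rw [not_le] at h3
    generalize ringKrullDim (X.presheaf.stalk x) = d at h3
    induction d using WithBot.recBotCoe with
    | bot => exact bot_le
    | coe n =>
      have h3' : ((n : ℕ∞) : WithBot ℕ∞) < ((3 : ℕ∞) : WithBot ℕ∞) := h3
      have h' : n < (3 : ℕ∞) := WithBot.coe_lt_coe.1 h3'
      have h2 : n ≤ (2 : ℕ∞) := by
        have e3 : (3 : ℕ∞) = 2 + 1 := by norm_num
        rw [e3] at h'
        exact Order.le_of_lt_add_one h'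
      exact WithBot.coe_le_coe.2 h2
  haveI : F.IsQuasicoherent := hF.1
  haveI : SheafOfModules.IsFiniteType (R := X.ringCatSheaf) F := hF.2
  haveI := hreg x
  haveI : Module.Finite (X.presheaf.stalk x) (F.presheaf.stalk x) :=
    Groth.Agent.Helper13.LocFree.finite_stalk_of_isFiniteType F x
  haveI : Module.IsReflexive (X.presheaf.stalk x) (F.presheaf.stalk x) :=
    (Groth.Agent.Lead.HomSh.isReflexive_iff_forall_isReflexiveAt F hF).1 hrefl x
  exact hx (Groth.Agent.S1689.free_of_isReflexive (X.presheaf.stalk x) hd (F.presheaf.stalk x))

end Groth.Agent.S16488
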