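import Groth.Statements.S16490
import Groth.Agent.Lib.Lead.HomSh6
import Groth.Agent.S6872

set_option autoImplicit false
universe u
open CategoryTheory CategoryTheory.Limits AlgebraicGeometry TopologicalSpace
open VBPn

namespace Groth.Agent.S16490

/-- Let X be an integral locally Noetherian scheme all of whose local rings are regular, and let 0 → F →
E → Q → 0 be a short exact sequence of coherent O_X-modules in which E is reflexive (the canonical
map E → E^** is an isomorphism) and Q is torsion-free (every stalk Q_x is a torsion-free
O_{X,x}-module). Then F is normal: for all open subsets V ⊆ U of X such that every point of U not in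
V has local ring of dimension at least 2, the restriction map F(U) → F(V) is bijective. The
published statement is for coherent analytic sheaves on a complex manifold, a sheaf being called
normal when for every open U and every analytic subset A ⊆ U of codimension at least 2 the
restriction F(U) → F(U ∖ A) is bijective; this row is its statement for coherent sheaves on a
regular integral locally Noetherian scheme, with normality phrased through open subsets V ⊆ U whose
complement in U consists of points with local ring of dimension at least 2, where the same argument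
applies. -/
theorem result (X : Scheme.{u}) [IsIntegral X] [IsLocallyNoetherian X]
    (hreg : ∀ x : X, IsRegularLocalRing (X.presheaf.stalk x)) (S : ShortComplex X.Modules) (hS : S.ShortExact)
    (hF : Coh.IsCoh S.X₁) (hE : Coh.IsCoh S.X₂) (hQ : Coh.IsCoh S.X₃)
    (hErefl : RefHull.IsReflexive S.X₂) (hQtf : TorSh.IsTorsionFree S.X₃) :
    (∀ (U V : X.Opens) (hVU : V ≤ U), (∀ x : X, x ∈ U → x ∉ V → (2 : WithBot ℕ∞) ≤ ringKrullDim (X.presheaf.stalk x)) →
        Function.Bijective (S.X₁.presheaf.map (homOfLE hVU).op)) := by
  have hn : ∀ x : X, IsIntegrallyClosed (X.presheaf.stalk x) := fun x => by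
    haveI := hreg x
    exact Groth.Agent.Lead.Hom.isIntegrallyClosed_of_isRegularLocalRing _
  have hFrefl : RefHull.IsReflexive S.X₁ := by
    rw [Groth.Agent.Lead.HomSh.isReflexive_iff_forall_isReflexiveAt _ hF]
    intro x
    haveI : S.X₁.IsQuasicoherent := hF.1
    haveI : SheafOfModules.IsFiniteType (R := X.ringCatSheaf) S.X₁ := hF.2
    haveI : S.X₂.IsQuasicoherent := hE.1
    haveI : SheafOfModules.IsFiniteType (R := X.ringCatSheaf) S.X₂ := hE.2
    haveI : S.X₃.IsQuasicoherent := hQ.1
    haveI : SheafOfModules.IsFiniteType (R := X.ringCatSheaf) S.X₃ := hQ.2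
    haveI : Module.Finite (X.presheaf.stalk x) (S.X₁.presheaf.stalk x) :=
      Groth.Agent.Helper13.LocFree.finite_stalk_of_isFiniteType S.X₁ x
    haveI : Module.Finite (X.presheaf.stalk x) (S.X₂.presheaf.stalk x) :=
      Groth.Agent.Helper13.LocFree.finite_stalk_of_isFiniteType S.X₂ x
    haveI : Module.Finite (X.presheaf.stalk x) (S.X₃.presheaf.stalk x) :=
      Groth.Agent.Helper13.LocFree.finite_stalk_of_isFiniteType S.X₃ x
    haveI : Module.IsReflexive (X.presheaf.stalk x) (S.X₂.presheaf.stalk x) :=
      (Groth.Agent.Lead.HomSh.isReflexive_iff_forall_isReflexiveAt _ hE).1 hErefl x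
    haveI : Module.IsTorsionFree (X.presheaf.stalk x) (S.X₃.presheaf.stalk x) := hQtf x
    haveI : Mono S.f := hS.mono_f
    have hinj : Function.Injective (RefHull.stalkMapₗ S.f x) :=
      (Groth.Agent.Helper13.QCoh.mono_iff_stalk_injective S.f).1 inferInstance x
    have hexact : Function.Exact (RefHull.stalkMapₗ S.f x) (RefHull.stalkMapₗ S.g x) := by
      intro m
      constructor
      · intro hm
        obtain ⟨m₁, hm₁⟩ := Groth.Agent.Helper13.QCoh.stalk_exact_of_exact_of_mono S hS.exact x m hm
        exact ⟨m₁, hm₁⟩
      · rintro ⟨m₁, rfl⟩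
        obtain ⟨W, hxW, s, rfl⟩ := TopCat.Presheaf.exists_germ_eq S.X₁.presheaf m₁
        rw [RefHull.stalkMapₗ_germ, RefHull.stalkMapₗ_germ]
        have h0 : S.g.app W (S.f.app W s) = 0 := by
          have h1 : (S.f ≫ S.g).app W s = 0 := by
            rw [S.zero]
            rfl
          exact h1
        rw [h0, map_zero]
    exact Groth.Agent.S6872.result (X.presheaf.stalk x) (RefHull.stalkMapₗ S.f x)
      (RefHull.stalkMapₗ S.g x) hinj hexact
  intro U V hVU h2
  exact Groth.Agent.Lead.HomSh.normal_of_isReflexive hn S.X₁ hF hFrefl U V hVU h2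

end Groth.Agent.S16490
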