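import Groth.Statements.S16496
import Groth.Agent.Lib.Lead.FlatHartogs
import Groth.Agent.Lib.Lead.FreeLoc

set_option autoImplicit false
universe u
open CategoryTheory AlgebraicGeometry
open SGA3

namespace Groth.Agent.S16496

/-- Let S be a Noetherian normal scheme, A a flat quasi-coherent O_S-module (not assumed of finite type)
and j : U → S the inclusion of an open subscheme containing every point of S whose local ring has
dimension at most 1. Then A = j_* j^* A: the unit A → j_*(A|_U) of the adjunction between
restriction to U and direct image along j is an isomorphism. In the source U is the flatness locus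
of a finite type submodule of A, an open which contains all points of codimension at most 1; the
printed argument uses only this property of U. -/
theorem result (S : Scheme.{u}) [IsNoetherian S]
    (hS : Pi1.IsNormalScheme S) (A : S.Modules) (hA : Coh.IsQCoh A) (hAfl : FlatMod.IsFlat A)
    (U : S.Opens) (hU : ∀ s : S, ringKrullDim (S.presheaf.stalk s) ≤ 1 → s ∈ U) :
    IsIso ((Scheme.Modules.restrictAdjunction U.ι).unit.app A) := by
  haveI : A.IsQuasicoherent := hA
  refine Groth.Agent.Helper13.LocFree.isIso_of_app_bijective_of_isBasis _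
    S.isBasis_affineOpens ?_
  intro W hW
  have hW' : IsAffineOpen W := hW
  rw [Scheme.Modules.restrictAdjunction_unit_app_app]
  haveI : IsNoetherianRing Γ(S, W) := IsLocallyNoetherian.component_noetherian ⟨W, hW'⟩
  haveI : Module.Flat Γ(S, W) Γ(A, W) :=
    Groth.Agent.Lead.FlatHartogs.flat_sections A hW' (fun x _ => hAfl x)
  refine Groth.Agent.Lead.FlatHartogs.bijective_res_affine_flat A W hW' _
    (U.ι.image_preimage_le W) ?_
  intro p hp hz
  have hzW : hW'.fromSpec ⟨p, hp⟩ ∈ W := by
    have h0 : hW'.fromSpec (⟨p, hp⟩ : PrimeSpectrum Γ(S, W)) ∈ hW'.fromSpec.opensRange :=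
      ⟨_, rfl⟩
    rwa [hW'.opensRange_fromSpec] at h0
  have hzU : hW'.fromSpec ⟨p, hp⟩ ∉ U := by
    intro h
    apply hz
    rw [Scheme.Hom.image_preimage_eq_opensRange_inf, Scheme.Opens.opensRange_ι]
    exact ⟨h, hzW⟩
  have hdim : (2 : WithBot ℕ∞) ≤ ringKrullDim (S.presheaf.stalk (hW'.fromSpec ⟨p, hp⟩)) :=
    Groth.Agent.Lead.FreeLoc.two_le_of_not_le_one (fun h => hzU (hU _ h))
  obtain ⟨hd, hic⟩ := hS (hW'.fromSpec ⟨p, hp⟩)
  exact Groth.Agent.Lead.FlatHartogs.two_le_depth_localization_of_normal hW' p hzW hd hic hdim

end Groth.Agent.S16496
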