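import Groth.Statements.S16498
import Mathlib.Algebra.Polynomial.Taylor
import Mathlib.Data.Nat.Choose.Lucas
import Mathlib.Algebra.CharP.Basic
import Mathlib.Tactic.Ring
import Mathlib.Tactic.Linarith

set_option autoImplicit false
universe u
open Curves

namespace Groth.Agent.S16498

open Polynomial

theorem coeff_comp_X_add_C {k : Type*} [Field k] (h : Polynomial k) (α : k) (l N : ℕ)
    (hN : h.natDegree < N) :
    (h.comp (X + C α)).coeff l =
      ∑ n ∈ Finset.range N, ((n.choose l : ℕ) : k) * h.coeff n * α ^ (n - l) := by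
  rw [← taylor_apply, taylor_coeff, hasseDeriv_apply, eval_sum,
    sum_over_range' _ (fun n => by simp) N hN]
  refine Finset.sum_congr rfl fun n _ => ?_
  rw [eval_monomial]

theorem lucas_cast {k : Type*} [Field k] (p : ℕ) [Fact p.Prime] [CharP k p] (n l : ℕ) :
    ((n.choose l : ℕ) : k) = ((n % p).choose (l % p) : ℕ) * ((n / p).choose (l / p) : ℕ) := by
  rw [← Nat.cast_mul, CharP.natCast_eq_natCast k p]
  exact Choose.choose_modEq_choose_mod_mul_choose_div_nat

theorem phi_mod_div (p g I J : ℕ) (hp0 : 0 < p) (hg : g ≤ p) (hJ : J < g) :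
    ((I + 1) * p - (J + 1)) % p = p - (J + 1) ∧ ((I + 1) * p - (J + 1)) / p = I := by
  have h1 : (I + 1) * p - (J + 1) = (p - (J + 1)) + p * I := by
    have : J + 1 ≤ p := by omega
    have e : (I + 1) * p = p * I + p := by ring
    rw [e]; omega
  rw [h1, Nat.add_mul_mod_self_left, Nat.add_mul_div_left _ _ hp0]
  have hlt : p - (J + 1) < p := by omega
  rw [Nat.mod_eq_of_lt hlt, Nat.div_eq_of_lt hlt, zero_add]
  exact ⟨rfl, rfl⟩

theorem key (k : Type*) [Field k] (p : ℕ) [Fact p.Prime] [CharP k p] (g : ℕ) (hg : g ≤ p)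
    (c : ℕ → k) (hc : ∀ n, (g + 1) * p - g ≤ n → c n = 0) (α : k) (i j : ℕ) (hi : i < g)
    (hj : j < g) :
    ∑ n ∈ Finset.range ((g + 1) * p),
        ((n.choose ((i + 1) * p - (j + 1)) : ℕ) : k) * c n * α ^ (n - ((i + 1) * p - (j + 1))) =
      ∑ J ∈ Finset.range g, (∑ I ∈ Finset.range g,
          (((I.choose i : ℕ) : k) * α ^ ((I - i) * p)) * c ((I + 1) * p - (J + 1))) *
        ((((p - (J + 1)).choose (p - (j + 1)) : ℕ) : k) * α ^ (j - J)) := by
  classical
  have hp0 : 0 < p := (Fact.out : p.Prime).pos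
  set l := (i + 1) * p - (j + 1) with hl
  obtain ⟨hlmod, hldiv⟩ := phi_mod_div p g i j hp0 hg hj
  rw [← hl] at hlmod hldiv
  set F : ℕ → k := fun n => ((n.choose l : ℕ) : k) * c n * α ^ (n - l) with hF
  let φ : ℕ × ℕ → ℕ := fun x => (x.1 + 1) * p - (x.2 + 1)
  -- RHS as double sum of F ∘ φ
  have hterm : ∀ I J, I < g → J < g →
      (((I.choose i : ℕ) : k) * α ^ ((I - i) * p)) * c ((I + 1) * p - (J + 1)) *
        ((((p - (J + 1)).choose (p - (j + 1)) : ℕ) : k) * α ^ (j - J)) = F (φ (I, J)) := by
    intro I J hI hJ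
    obtain ⟨hm, hd⟩ := phi_mod_div p g I J hp0 hg hJ
    simp only [hF, φ]
    rw [lucas_cast p ((I + 1) * p - (J + 1)) l, hm, hd, hlmod, hldiv]
    by_cases hIi : I < i
    · rw [Nat.choose_eq_zero_of_lt hIi]; simp
    by_cases hJj : j < J
    · rw [Nat.choose_eq_zero_of_lt (show p - (J + 1) < p - (j + 1) by omega)]; simp
    have hexp : (I + 1) * p - (J + 1) - l = (I - i) * p + (j - J) := by
      have e1 : (I + 1) * p - (J + 1) = (p - (J + 1)) + p * I := by
        have e : (I + 1) * p = p * I + p := by ring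
        rw [e]; omega
      have e2 : l = (p - (j + 1)) + p * i := by
        have e : (i + 1) * p = p * i + p := by ring
        rw [hl, e]; omega
      obtain ⟨d, rfl⟩ : ∃ d, I = i + d := ⟨I - i, by omega⟩
      rw [e1, e2]
      have e3 : p * (i + d) = p * i + d * p := by ring
      rw [e3, Nat.add_sub_cancel_left]
      omega
    rw [hexp, pow_add]
    ring
  have hR : ∑ J ∈ Finset.range g, (∑ I ∈ Finset.range g,
          (((I.choose i : ℕ) : k) * α ^ ((I - i) * p)) * c ((I + 1) * p - (J + 1))) *
        ((((p - (J + 1)).choose (p - (j + 1)) : ℕ) : k) * α ^ (j - J)) =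
      ∑ x ∈ Finset.range g ×ˢ Finset.range g, F (φ x) := by
    rw [Finset.sum_product_right]
    refine Finset.sum_congr rfl fun J hJ => ?_
    rw [Finset.sum_mul]
    refine Finset.sum_congr rfl fun I hI => ?_
    exact hterm I J (Finset.mem_range.mp hI) (Finset.mem_range.mp hJ)
  rw [hR]
  have hinj : Set.InjOn φ (↑(Finset.range g ×ˢ Finset.range g) : Set (ℕ × ℕ)) := by
    rintro ⟨I, J⟩ hx ⟨I', J'⟩ hx' hxx
    simp only [Finset.coe_product, Finset.coe_range, Set.mem_prod, Set.mem_Iio] at hx hx'
    obtain ⟨hm, hd⟩ := phi_mod_div p g I J hp0 hg hx.2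
    obtain ⟨hm', hd'⟩ := phi_mod_div p g I' J' hp0 hg hx'.2
    simp only [φ] at hxx
    rw [hxx] at hm hd
    have h1 : I = I' := by omega
    have h2 : J = J' := by omega
    rw [h1, h2]
  rw [← Finset.sum_image hinj]
  symm
  apply Finset.sum_subset
  · intro n hn
    obtain ⟨⟨I, J⟩, hx, rfl⟩ := Finset.mem_image.mp hn
    simp only [Finset.mem_product, Finset.mem_range] at hx
    rw [Finset.mem_range]
    have h1 : (I + 1) * p ≤ g * p := Nat.mul_le_mul_right p hx.1
    have h2 : (g + 1) * p = g * p + p := by ring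
    simp only [φ]
    omega
  · intro n hn hnS
    rw [Finset.mem_range] at hn
    simp only [hF]
    rw [lucas_cast p n l, hlmod, hldiv]
    by_cases hr : n % p < p - (j + 1)
    · rw [Nat.choose_eq_zero_of_lt hr]; simp
    by_cases hI : n / p < g
    · exfalso
      apply hnS
      refine Finset.mem_image.mpr ⟨(n / p, p - 1 - n % p), ?_, ?_⟩
      · simp only [Finset.mem_product, Finset.mem_range]
        exact ⟨hI, by omega⟩
      · simp only [φ]
        have hmod := Nat.mod_lt n hp0
        have hdm := Nat.mod_add_div n p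
        have e : (n / p + 1) * p = p * (n / p) + p := by ring
        rw [e]
        omega
    · have : c n = 0 := by
        apply hc
        have hdm := Nat.mod_add_div n p
        have h1 : g * p ≤ (n / p) * p := Nat.mul_le_mul_right p (by omega)
        have h2 : (g + 1) * p = g * p + p := by ring
        have h3 : p * (n / p) = (n / p) * p := by ring
        omega
      rw [this]; simp

/-- Let k be a field of odd characteristic p, g ≤ p a natural number, f ∈ k[x] of degree at most 2g + 2,
and α ∈ k. Write f^((p-1)/2) = Σ_l c_l x^l and f(x + α)^((p-1)/2) = Σ_l d_l x^l, and form the g × g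
Cartier–Manin matrices (c_{ip-j}) and (d_{ip-j}), indices i, j = 1, …, g (below written with i, j
ranging over Fin g, so that the entry at (i, j) is the coefficient of x^((i+1)p-(j+1))). Then
(d_{ip-j}) = L · (c_{ip-j}) · U with L_{i,I} = binom(I-1, i-1) α^((I-i)p) and U_{J,j} = binom(p-J,
p-j) α^(j-J); both L and U are unitriangular since a binomial coefficient vanishes when its lower
index exceeds its upper index. (The source works over a perfect field, with f separable of degree 2g
+ 2 and α ∈ k^* a root of f, hypotheses this identity does not use.) -/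
theorem result (k : Type u) [Field k] (p : ℕ) [Fact p.Prime] (hp : p ≠ 2) [CharP k p]
    (g : ℕ) (hg : g ≤ p) (f : Polynomial k) (hf : f.natDegree ≤ 2 * g + 2) (α : k) :
    (Matrix.of fun i j : Fin g =>
        ((f.comp (Polynomial.X + Polynomial.C α)) ^ ((p - 1) / 2)).coeff (((i : ℕ) + 1) * p - ((j : ℕ) + 1))) =
      (Matrix.of fun i I : Fin g => (((I : ℕ).choose (i : ℕ) : ℕ) : k) * α ^ (((I : ℕ) - (i : ℕ)) * p)) *
        (Matrix.of fun i j : Fin g => (f ^ ((p - 1) / 2)).coeff (((i : ℕ) + 1) * p - ((j : ℕ) + 1))) *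
        (Matrix.of fun J j : Fin g => (((p - ((J : ℕ) + 1)).choose (p - ((j : ℕ) + 1)) : ℕ) : k) * α ^ ((j : ℕ) - (J : ℕ))) := by
  have hpp : p.Prime := Fact.out
  have hodd : (p - 1) / 2 * 2 = p - 1 := by
    have := hpp.eq_one_or_self_of_dvd 2
    have h2 : ¬ 2 ∣ p := fun h => by
      rcases this h with h | h
      · omega
      · exact hp h.symm
    have := hpp.two_le
    omega
  set m := (p - 1) / 2 with hm
  set h := f ^ m with hh
  have hdeg : h.natDegree ≤ (p - 1) * (g + 1) := by
    calc h.natDegree ≤ m * f.natDegree := natDegree_pow_le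
      _ ≤ m * (2 * g + 2) := Nat.mul_le_mul_left _ hf
      _ = (m * 2) * (g + 1) := by ring
      _ = (p - 1) * (g + 1) := by rw [hodd]
  have hexp : (p - 1) * (g + 1) + (g + 1) = (g + 1) * p := by
    have := hpp.two_le
    obtain ⟨q, rfl⟩ : ∃ q, p = q + 1 := ⟨p - 1, by omega⟩
    simp only [Nat.add_sub_cancel]
    ring
  have hN : h.natDegree < (g + 1) * p := by omega
  have hc : ∀ n, (g + 1) * p - g ≤ n → h.coeff n = 0 := by
    intro n hn
    apply coeff_eq_zero_of_natDegree_lt
    omega
  ext i j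
  rw [Matrix.mul_apply]
  simp only [Matrix.mul_apply, Matrix.of_apply]
  rw [← Polynomial.pow_comp, coeff_comp_X_add_C h α _ _ hN,
    key k p g hg h.coeff hc α i j i.2 j.2, Finset.sum_range]
  refine Finset.sum_congr rfl fun J _ => ?_
  rw [Finset.sum_range]

end Groth.Agent.S16498
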