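import Groth.Statements.S16500
import Mathlib.Algebra.Polynomial.Degree.Lemmas
import Mathlib.Tactic.Ring
import Mathlib.Tactic.Linarith
import Mathlib.Data.Nat.Prime.Basic

set_option autoImplicit false
universe u
open Curves

namespace Groth.Agent.S16500

theorem reflect_pow' {R : Type*} [CommSemiring R] (f : Polynomial R) (N : ℕ) (hf : f.natDegree ≤ N)
    (m : ℕ) : Polynomial.reflect (N * m) (f ^ m) = (Polynomial.reflect N f) ^ m := by
  induction m with
  | zero => simp
  | succ m ih =>
    have h1 : (f ^ m).natDegree ≤ N * m :=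
      (Polynomial.natDegree_pow_le).trans (by rw [mul_comm N m]; exact Nat.mul_le_mul_left m hf)
    rw [pow_succ, pow_succ, Nat.mul_succ, Polynomial.reflect_mul _ _ h1 hf, ih]

/-- Let k be a field of odd characteristic p, g ≤ p a natural number and f ∈ k[x] of degree at most 2g +
2. Let F be f with its coefficients reversed in degrees 0, …, 2g + 2, i.e. F(X) = X^(2g+2) f(1/X)
(Mathlib's reflect (2g+2) f), and write f^((p-1)/2) = Σ_l c_l x^l and F^((p-1)/2) = Σ_l C_l X^l.
Then C_{ip-j} = c_{(g+1-i)p-(g+1-j)} for all i, j = 1, …, g; that is, the g × g Cartier–Manin matrix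
of F is that of f with the order of both rows and columns reversed (below the indices run over Fin
g, the entry at (i, j) being the coefficient of degree (i+1)p-(j+1), and reversal is Fin.rev). In
particular the two matrices have the same determinant. (The source applies this to f with f(0) = 0,
separable of degree 2g + 2 over a perfect field, so that F has odd degree 2g + 1; the identity uses
none of that.) -/
theorem result (k : Type u) [Field k] (p : ℕ) [Fact p.Prime] (hp : p ≠ 2) [CharP k p]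
    (g : ℕ) (hg : g ≤ p) (f : Polynomial k) (hf : f.natDegree ≤ 2 * g + 2) :
    (Matrix.of fun i j : Fin g =>
        ((Polynomial.reflect (2 * g + 2) f) ^ ((p - 1) / 2)).coeff (((i : ℕ) + 1) * p - ((j : ℕ) + 1))) =
      Matrix.of fun i j : Fin g =>
        (f ^ ((p - 1) / 2)).coeff (((Fin.rev i : ℕ) + 1) * p - ((Fin.rev j : ℕ) + 1)) := by
  have hp2 : 2 ≤ p := (Fact.out : p.Prime).two_le
  have hodd : p % 2 = 1 := by
    rcases Nat.Prime.eq_two_or_odd (Fact.out : p.Prime) with h | h
    · exact absurd h hp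
    · exact h
  set m := (p - 1) / 2 with hm
  have hm2 : 2 * m = p - 1 := by omega
  ext i j
  simp only [Matrix.of_apply]
  rw [← reflect_pow' f (2 * g + 2) hf m, Polynomial.coeff_reflect]
  have hi := i.isLt
  have hj := j.isLt
  have hNm : (2 * g + 2) * m = (g + 1) * (p - 1) := by
    rw [← hm2]; ring
  have h1 : ((i : ℕ) + 1) * p - ((j : ℕ) + 1) ≤ (2 * g + 2) * m := by
    rw [hNm]
    have : ((i : ℕ) + 1) * p ≤ g * p := Nat.mul_le_mul_right p (by omega)
    have h2 : (g + 1) * (p - 1) = g * p + p - (g + 1) := by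
      zify [hp2, (by nlinarith : g + 1 ≤ g * p + p), (by omega : 1 ≤ p)]
      ring
    rw [h2]
    omega
  rw [Polynomial.revAt_le h1]
  congr 1
  rw [hNm]
  simp only [Fin.val_rev]
  have h3 : g - ((i : ℕ) + 1) + 1 = g - i := by omega
  have h4 : g - ((j : ℕ) + 1) + 1 = g - j := by omega
  rw [h3, h4]
  obtain ⟨i', hi'⟩ : ∃ i', g = (i : ℕ) + 1 + i' := ⟨g - ((i : ℕ) + 1), by omega⟩
  obtain ⟨j', hj'⟩ : ∃ j', g = (j : ℕ) + 1 + j' := ⟨g - ((j : ℕ) + 1), by omega⟩
  obtain ⟨p', hp'⟩ : ∃ p', p = p' + 1 := ⟨p - 1, by omega⟩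
  have e1 : g - (i : ℕ) = i' + 1 := by omega
  have e2 : g - (j : ℕ) = j' + 1 := by omega
  have e3 : p - 1 = p' := by omega
  rw [e1, e2, e3]
  have h5 : (j : ℕ) + 1 ≤ ((i : ℕ) + 1) * p := by nlinarith
  have h6 : j' + 1 ≤ (i' + 1) * p := by nlinarith
  have h7 : ((i : ℕ) + 1) * p - ((j : ℕ) + 1) ≤ (g + 1) * p' := by rw [← e3, ← hNm]; exact h1
  have key : (g + 1) * p' + ((j : ℕ) + 1) + (j' + 1) = (i' + 1) * p + ((i : ℕ) + 1) * p := by
    rw [hp']
    have : g + 1 = (i : ℕ) + 1 + i' + 1 := by omega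
    rw [this]
    have hg2 : (j : ℕ) + 1 + (j' + 1) = (i : ℕ) + 1 + i' + 1 := by omega
    nlinarith
  omega

end Groth.Agent.S16500
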