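import Groth.Statements.S16515
import Mathlib.LinearAlgebra.FiniteDimensional.Lemmas
import Mathlib.LinearAlgebra.FreeModule.Finite.Matrix
import Mathlib.Data.Finsupp.Weight

set_option autoImplicit false
universe u
open RatCurv

namespace Groth.Agent.S16515

/-- degree `n` exponent vectors in two variables correspond to `Fin (n+1)`. -/
noncomputable def degEquiv (n : ℕ) : {d : Fin 2 →₀ ℕ // d.degree = n} ≃ Fin (n + 1) where
  toFun d := ⟨d.1 0, by
    have h := d.2
    rw [Finsupp.degree_eq_sum, Fin.sum_univ_two] at h
    omega⟩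
  invFun i := ⟨Finsupp.single 0 i.1 + Finsupp.single 1 (n - i.1), by
    rw [Finsupp.degree_eq_sum, Fin.sum_univ_two]
    simp only [Finsupp.add_apply, Finsupp.single_apply]
    have := i.2
    simp
    omega⟩
  left_inv d := by
    have h := d.2
    rw [Finsupp.degree_eq_sum, Fin.sum_univ_two] at h
    apply Subtype.ext
    ext j
    fin_cases j
    · simp
    · simp only [Finsupp.add_apply, Finsupp.single_apply]
      simp
      omega
  right_inv i := by
    apply Fin.ext
    simp

theorem finrank_homog (K : Type u) [Field K] (n : ℕ) :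
    Module.finrank K ↥(MvPolynomial.homogeneousSubmodule (Fin 2) K n) = n + 1 := by
  have h1 : MvPolynomial.homogeneousSubmodule (Fin 2) K n =
      MvPolynomial.restrictSupport K {d : Fin 2 →₀ ℕ | d.degree = n} :=
    MvPolynomial.homogeneousSubmodule_eq_finsupp_supported (Fin 2) K n
  rw [h1]
  have b := MvPolynomial.basisRestrictSupport K {d : Fin 2 →₀ ℕ | d.degree = n}
  rw [Module.finrank_eq_nat_card_basis b]
  exact (Nat.card_congr (degEquiv n)).trans (by simp)

/-- If C ⊂ P^n is a rational normal curve and P ⊂ P^n a linear r-plane with (r + 2) k ≥ (r + 1)(n + 1),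
then P is contained in a k-secant (k − 1)-plane of C, i.e. in the span of some effective divisor of
degree k on C. Stated through the identification of the linear forms on P^n with the binary forms of
degree n on C ≅ P^1: the r-plane P is recorded by the space U of degree-n binary forms vanishing on
it (of codimension r + 1), an effective divisor of degree k on C by a nonzero binary form g of
degree k, and P ⊂ span(div g) says that every degree-n form divisible by g lies in U. Here k ≤ n,
and the ground field is arbitrary (the source works over the complex numbers). -/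
theorem result (K : Type u) [Field K] (n r k : ℕ)
    (hkn : k ≤ n) (hineq : (r + 1) * (n + 1) ≤ (r + 2) * k)
    (U : Submodule K (MvPolynomial (Fin 2) K))
    (hU : U ≤ MvPolynomial.homogeneousSubmodule (Fin 2) K n)
    (hcodim : Module.finrank K ↥U + (r + 1) = n + 1) :
    ∃ g ∈ MvPolynomial.homogeneousSubmodule (Fin 2) K k, g ≠ 0 ∧
      ∀ h ∈ MvPolynomial.homogeneousSubmodule (Fin 2) K (n - k), g * h ∈ U := by
  classical
  set Hk := MvPolynomial.homogeneousSubmodule (Fin 2) K k with hHk
  set Hnk := MvPolynomial.homogeneousSubmodule (Fin 2) K (n - k) with hHnk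
  set Hn := MvPolynomial.homogeneousSubmodule (Fin 2) K n with hHn
  haveI : Module.Finite K ↥Hk := Module.finite_of_finrank_pos (by rw [finrank_homog]; omega)
  haveI : Module.Finite K ↥Hnk := Module.finite_of_finrank_pos (by rw [finrank_homog]; omega)
  haveI : Module.Finite K ↥Hn := Module.finite_of_finrank_pos (by rw [finrank_homog]; omega)
  let U' : Submodule K ↥Hn := U.comap Hn.subtype
  have hU' : Module.finrank K ↥U' = Module.finrank K ↥U :=
    (Submodule.comapSubtypeEquivOfLe hU).finrank_eq
  have hQ : Module.finrank K (↥Hn ⧸ U') = r + 1 := by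
    have h1 := Submodule.finrank_quotient_add_finrank U'
    rw [hU', finrank_homog] at h1
    omega
  have hmul : ∀ (g : ↥Hk) (h : ↥Hnk), g.1 * h.1 ∈ Hn := by
    intro g h
    have := MvPolynomial.IsHomogeneous.mul g.2 h.2
    rwa [Nat.add_sub_cancel' hkn] at this
  let Φ : ↥Hk →ₗ[K] ↥Hnk →ₗ[K] (↥Hn ⧸ U') :=
    LinearMap.mk₂ K (fun g h => U'.mkQ ⟨g.1 * h.1, hmul g h⟩)
      (fun g₁ g₂ h => by
        rw [← map_add]; congr 1; apply Subtype.ext
        show (g₁.1 + g₂.1) * h.1 = g₁.1 * h.1 + g₂.1 * h.1
        rw [add_mul])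
      (fun c g h => by
        rw [← map_smul]; congr 1; apply Subtype.ext
        show (c • g.1) * h.1 = c • (g.1 * h.1)
        rw [smul_mul_assoc])
      (fun g h₁ h₂ => by
        rw [← map_add]; congr 1; apply Subtype.ext
        show g.1 * (h₁.1 + h₂.1) = g.1 * h₁.1 + g.1 * h₂.1
        rw [mul_add])
      (fun c g h => by
        rw [← map_smul]; congr 1; apply Subtype.ext
        show g.1 * (c • h.1) = c • (g.1 * h.1)
        rw [mul_smul_comm])
  have hlt : Module.finrank K (↥Hnk →ₗ[K] (↥Hn ⧸ U')) < Module.finrank K ↥Hk := by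
    rw [Module.finrank_linearMap, hQ, finrank_homog, finrank_homog]
    have h1 : (n - k + 1) * (r + 1) + (r + 1) * k = (r + 1) * (n + 1) := by
      have : n - k + k = n := Nat.sub_add_cancel hkn
      calc (n - k + 1) * (r + 1) + (r + 1) * k = (r + 1) * (n - k + k + 1) := by ring
        _ = (r + 1) * (n + 1) := by rw [this]
    have h2 : (r + 2) * k = (r + 1) * k + k := by ring
    omega
  have hker := LinearMap.ker_ne_bot_of_finrank_lt (f := Φ) hlt
  obtain ⟨g, hg, hg0⟩ := (Submodule.ne_bot_iff _).mp hker
  refine ⟨g.1, g.2, fun h0 => hg0 (Subtype.ext h0), fun h hh => ?_⟩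
  have h3 : Φ g ⟨h, hh⟩ = 0 := by rw [LinearMap.mem_ker.mp hg]; rfl
  have h4 : U'.mkQ ⟨g.1 * h, hmul g ⟨h, hh⟩⟩ = 0 := h3
  rw [Submodule.mkQ_apply, Submodule.Quotient.mk_eq_zero] at h4
  exact h4

end Groth.Agent.S16515
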