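import Groth.Statements.S16518
import Groth.Agent.Lib.Helper12.GorLink4

set_option autoImplicit false
universe u
open CAlg

namespace Groth.Agent.S16518

/-- Let R be a Noetherian local ring, A a Gorenstein local ring which is a flat R-algebra through a
local homomorphism, I ⊂ A an ideal of codimension zero (the Krull dimension of A/I equals that of A)
with A/I Cohen–Macaulay, and J = (0 : I) its annihilator. For every R-regular sequence r_1, …, r_n
generating an ideal 𝔯 of R, the module J/𝔯J is the annihilator of the image of I in A/𝔯A: the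
natural map J/𝔯J → A/𝔯A is injective (J ∩ 𝔯A = 𝔯J) with image the ideal quotient (𝔯A : I) modulo 𝔯A
(J + 𝔯A = (𝔯A : I)). -/
theorem result (R A : Type u)
    [CommRing R] [IsNoetherianRing R] [IsLocalRing R] [CommRing A] [Algebra R A]
    [LocCoh.IsGorensteinLocalRing A] [IsLocalHom (algebraMap R A)] [Module.Flat R A] (I : Ideal A)
    (hI : ringKrullDim (A ⧸ I) = ringKrullDim A) [LocCoh.IsCohenMacaulayLocalRing (A ⧸ I)]
    (rs : List R) (hrs : RingTheory.Sequence.IsRegular R rs) :
    Submodule.annihilator I ⊔ (Ideal.ofList rs).map (algebraMap R A) =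
        Submodule.colon ((Ideal.ofList rs).map (algebraMap R A)) (I : Set A) ∧
      Submodule.annihilator I ⊓ (Ideal.ofList rs).map (algebraMap R A) =
        (Ideal.ofList rs).map (algebraMap R A) * Submodule.annihilator I := by
  classical
  open Groth.Agent.Helper12.GorLink Groth.Agent.Lead.Depth IsLocalRing in
  obtain ⟨d, hd⟩ := exists_nat_ringKrullDim (R := A)
  have hmemR : ∀ r ∈ rs, r ∈ maximalIdeal R := by
    intro r hr
    by_contra hnot
    have hu : IsUnit r := by
      by_contra hnu
      exact hnot ((IsLocalRing.mem_maximalIdeal r).mpr hnu)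
    have h1 : Ideal.ofList rs = ⊤ :=
      Ideal.eq_top_of_isUnit_mem _ (Ideal.subset_span hr) hu
    apply hrs.top_ne_smul
    rw [h1, smul_eq_mul, Ideal.top_mul]
  have hmem : ∀ x ∈ rs.map (algebraMap R A), x ∈ maximalIdeal A := by
    intro x hx
    obtain ⟨r, hr, rfl⟩ := List.mem_map.mp hx
    exact _root_.map_nonunit (algebraMap R A) r (hmemR r hr)
  have hreg : RingTheory.Sequence.IsWeaklyRegular A (rs.map (algebraMap R A)) :=
    hrs.toIsWeaklyRegular.of_flat
  have hdep : (d : ℕ∞) ≤ LocCoh.depth A (A ⧸ I) := by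
    have hCM := LocCoh.IsCohenMacaulayLocalRing.supportDim_eq_depth (R := A ⧸ I)
    rw [Module.supportDim_self_eq_ringKrullDim, hI, hd] at hCM
    have h1 : LocCoh.depth (A ⧸ I) (A ⧸ I) = d := by exact_mod_cast hCM.symm
    have h2 : LocCoh.depth A (A ⧸ I) = LocCoh.depth (A ⧸ I) (A ⧸ I) := by
      rw [depth_def, depth_def,
        Groth.Agent.Helper21.DF.idealDepth_eq_map (B := A ⧸ I) (maximalIdeal A) (A ⧸ I)]
      have h5 : (maximalIdeal A).map (algebraMap A (A ⧸ I)) = maximalIdeal (A ⧸ I) :=
        IsLocalRing.map_maximalIdeal_of_surjective _ (Ideal.Quotient.mk_surjective (I := I))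
      rw [h5]
    rw [h2, h1]
  have key := link_aux rs.length A d hd I hdep (rs.map (algebraMap R A)) (by simp) hreg hmem
  rw [Ideal.map_ofList]
  exact key

end Groth.Agent.S16518
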