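import Groth.Statements.S16519
import Mathlib.Data.Fintype.Pi
import Mathlib.Data.Int.Interval
import Mathlib.Algebra.Order.Ring.Int
import Mathlib.Tactic.Linarith
import Mathlib.Tactic.IntervalCases
import Mathlib.Tactic.Ring
import Mathlib.Tactic.LinearCombination
import Mathlib.Algebra.Order.BigOperators.Group.Finset

set_option autoImplicit false
open CubicSurf

namespace Groth.Agent.S16519

set_option maxRecDepth 1000000 in
theorem card72 : (Finset.filter (fun p : ℤ × (Fin 6 → ℤ) => 3 * p.1 - (Finset.univ.sum fun i => p.2 i) = 3 ∧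
        p.1 ^ 2 - (Finset.univ.sum fun i => p.2 i ^ 2) = 1)
    (Finset.Icc 1 5 ×ˢ Fintype.piFinset (fun _ : Fin 6 => Finset.Icc (0:ℤ) 2))).card = 72 := by
  decide +kernel

theorem key_identity (a : ℤ) (b : Fin 6 → ℤ) (h1 : 3 * a - (Finset.univ.sum fun i => b i) = 3)
    (h2 : a ^ 2 - (Finset.univ.sum fun i => b i ^ 2) = 1) :
    (Finset.univ.sum fun i => (2 * b i - (a - 1)) ^ 2) = 2 * (a - 1) * (5 - a) := by
  have e : (Finset.univ.sum fun i => (2 * b i - (a - 1)) ^ 2) =
      4 * (Finset.univ.sum fun i => b i ^ 2) - 4 * (a - 1) * (Finset.univ.sum fun i => b i)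
        + 6 * (a - 1) ^ 2 := by
    rw [Finset.mul_sum, Finset.mul_sum]
    have : (6 : ℤ) * (a - 1) ^ 2 = Finset.univ.sum fun _ : Fin 6 => (a - 1) ^ 2 := by
      simp
    rw [this, ← Finset.sum_sub_distrib, ← Finset.sum_add_distrib]
    apply Finset.sum_congr rfl
    intro i _
    ring
  rw [e]
  have h1' : (Finset.univ.sum fun i => b i) = 3 * a - 3 := by linarith
  have h2' : (Finset.univ.sum fun i => b i ^ 2) = a ^ 2 - 1 := by linarith
  rw [h1', h2']
  ring

/-- On a smooth cubic surface there are exactly 72 divisor classes L with L² = 1 and L · K = −3. Stated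
in the lattice ℤ^{1,6} with basis l, e_1, …, e_6 (l² = 1, e_i² = −1, K = −3l + Σ e_i): the integer
vectors (a, b) ∈ ℤ × ℤ^6, standing for a·l − Σ b_i e_i, with 3a − Σ b_i = 3 and a² − Σ b_i² = 1 form
a set of exactly 72 elements. -/
theorem result :
    {p : ℤ × (Fin 6 → ℤ) | 3 * p.1 - (Finset.univ.sum fun i => p.2 i) = 3 ∧
        p.1 ^ 2 - (Finset.univ.sum fun i => p.2 i ^ 2) = 1}.ncard = 72 := by
  classical
  have hset : {p : ℤ × (Fin 6 → ℤ) | 3 * p.1 - (Finset.univ.sum fun i => p.2 i) = 3 ∧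
        p.1 ^ 2 - (Finset.univ.sum fun i => p.2 i ^ 2) = 1} =
      ↑(Finset.filter (fun p : ℤ × (Fin 6 → ℤ) => 3 * p.1 - (Finset.univ.sum fun i => p.2 i) = 3 ∧
        p.1 ^ 2 - (Finset.univ.sum fun i => p.2 i ^ 2) = 1)
        (Finset.Icc 1 5 ×ˢ Fintype.piFinset (fun _ : Fin 6 => Finset.Icc (0:ℤ) 2))) := by
    ext ⟨a, b⟩
    simp only [Set.mem_setOf_eq, Finset.coe_filter, Finset.mem_product, Finset.mem_Icc,
      Fintype.mem_piFinset]
    constructor
    · rintro ⟨h1, h2⟩
      refine ⟨?_, h1, h2⟩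
      have key := key_identity a b h1 h2
      have hnn : 0 ≤ (Finset.univ.sum fun i => (2 * b i - (a - 1)) ^ 2) :=
        Finset.sum_nonneg fun i _ => sq_nonneg _
      have hle : ∀ i, (2 * b i - (a - 1)) ^ 2 ≤ 2 * (a - 1) * (5 - a) := by
        intro i
        rw [← key]
        exact Finset.single_le_sum (f := fun i => (2 * b i - (a - 1)) ^ 2)
          (fun j _ => sq_nonneg _) (Finset.mem_univ i)
      rw [key] at hnn
      have ha1 : 1 ≤ a := by nlinarith
      have ha5 : a ≤ 5 := by nlinarith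
      refine ⟨⟨ha1, ha5⟩, ?_⟩
      intro i
      have hi := hle i
      interval_cases a
      · have : (2 * b i) ^ 2 ≤ 0 := by simpa using hi
        have : b i = 0 := by nlinarith
        omega
      · have h3 : -3 < 2 * b i - 1 := by nlinarith
        have h4 : 2 * b i - 1 < 3 := by nlinarith
        omega
      · have h3 : -3 < 2 * b i - 2 := by nlinarith
        have h4 : 2 * b i - 2 < 3 := by nlinarith
        omega
      · have h3 : -3 < 2 * b i - 3 := by nlinarith
        have h4 : 2 * b i - 3 < 3 := by nlinarith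
        omega
      · have : (2 * b i - 4) ^ 2 ≤ 0 := by simpa using hi
        have : 2 * b i - 4 = 0 := by nlinarith
        omega
    · rintro ⟨_, h1, h2⟩
      exact ⟨h1, h2⟩
  rw [hset, Set.ncard_coe_finset]
  exact card72

end Groth.Agent.S16519
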