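import Groth.Statements.S1652
import Groth.Agent.Lib.Helper13.IntInv

set_option autoImplicit false
universe u
open CategoryTheory CategoryTheory.Limits AlgebraicGeometry
open Variety

namespace Groth.Agent.S1652

/-- On a proper curve over a field, if L and M are invertible modules with L ⊗ M ≅ O_X and both L and M
have a nonzero global section, then L is isomorphic to the structure sheaf. -/
theorem result (k : Type u) [Field k] (X : Scheme.{u}) [X.Over (Spec (CommRingCat.of k))]
    [IsIntegral X] [IsProper (X ↘ (Spec (CommRingCat.of k)))] (hdim : topologicalKrullDim X = 1)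
    (L M : X.Modules) (hL : PicF.IsInvertible L) (hM : PicF.IsInvertible M) (hLM : ClSub.IsInverseOf L M)
    (s : Coh.structureModule X ⟶ L) (hs : s ≠ 0) (t : Coh.structureModule X ⟶ M) (ht : t ≠ 0) :
    Nonempty (L ≅ Coh.structureModule X) := by
  obtain ⟨e⟩ := hLM
  have hfield : IsField (Γ(X, ⊤) : Type u) :=
    isField_of_universallyClosed k (X ↘ (Spec (CommRingCat.of k)))
  let σ : Coh.structureModule X ⟶ Coh.structureModule X := SecTwist.tmulHom s t ≫ e.hom
  have hloc : CohB1.genLocus (Coh.structureModule X) σ = CohB1.genLocus L s ⊓ CohB1.genLocus M t := by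
    rw [Groth.Agent.Helper13.GenLoc.genLocus_comp_iso,
      Groth.Agent.Helper13.Ample.genLocus_tmulHom L M hL hM]
  have hσ : σ ≠ 0 := by
    intro h0
    have hη : genericPoint X ∈ CohB1.genLocus L s ⊓ CohB1.genLocus M t :=
      ⟨Groth.Agent.Helper13.IntInv.genericPoint_mem_genLocus L hL s hs,
        Groth.Agent.Helper13.IntInv.genericPoint_mem_genLocus M hM t ht⟩
    rw [← hloc, h0, Groth.Agent.Helper13.Ample.genLocus_structureModule,
      Groth.Agent.Helper13.IntInv.sec_zero] at hη
    have hb : X.basicOpen (Groth.Agent.Helper13.LocFree.ofO ⊤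
        (0 : Γ(Coh.structureModule X, ⊤))) = ⊥ := Scheme.basicOpen_zero X ⊤
    rw [hb] at hη
    exact hη
  have htop := Groth.Agent.Helper13.IntInv.genLocus_structureModule_eq_top hfield σ hσ
  rw [hloc] at htop
  apply Groth.Agent.Helper13.IntInv.nonempty_iso_of_genLocus_eq_top L hL s
  rw [eq_top_iff, ← htop]
  exact inf_le_left

end Groth.Agent.S1652
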