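import Groth.Statements.S1653
import Mathlib
import Groth.Agent.Lib.Helper14.DimClosure
import Groth.Agent.S0402
-- import your own Groth.Agent.* helpers here

set_option autoImplicit false
universe u
open CategoryTheory CategoryTheory.Limits AlgebraicGeometry
open Variety

namespace Groth.Agent.S1653

open AlgebraicGeometry CategoryTheory in
theorem fibreDimAt_generic_le' {X Y : Scheme.{u}} [IrreducibleSpace X] (f : X ⟶ Y)
    (hopen : ∀ n : ℕ, IsOpen {x : X | FlatMor.fibreDimAt f x ≤ n})
    (x : X) : FlatMor.fibreDimAt f (genericPoint X) ≤ FlatMor.fibreDimAt f x := by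
  have h0 := Groth.Agent.Helper14.FibreGeneric.zero_le_localDim (f.asFiber x)
  change 0 ≤ FlatMor.fibreDimAt f x at h0
  generalize hb : FlatMor.fibreDimAt f x = b at h0
  induction b using WithBot.recBotCoe with
  | bot => exact absurd h0 (by simp)
  | coe b =>
    induction b using ENat.recTopCoe with
    | top => exact le_top
    | coe n =>
      have hx : x ∈ {x : X | FlatMor.fibreDimAt f x ≤ n} := by
        show FlatMor.fibreDimAt f x ≤ n
        rw [hb]; rfl
      have hξ : genericPoint X ∈ {x : X | FlatMor.fibreDimAt f x ≤ n} :=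
        ((genericPoint_spec X).mem_open_set_iff (hopen n)).mpr ⟨x, trivial, hx⟩
      exact hξ

/-- Let f : X → Y be a k-morphism of schemes locally of finite type over a field k, with X irreducible
of dimension a, and let the closure of the image of f have dimension b. Then the local fibre
dimension of f at every point of X is at least a - b, and the set of points where it equals a - b is
open and dense. -/
theorem result (k : Type u) [Field k] (X Y : Scheme.{u}) [X.Over (Spec (CommRingCat.of k))] [Y.Over (Spec (CommRingCat.of k))]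
    [LocallyOfFiniteType (X ↘ (Spec (CommRingCat.of k)))] [LocallyOfFiniteType (Y ↘ (Spec (CommRingCat.of k)))] [IrreducibleSpace X]
    (f : X ⟶ Y) (hf : f ≫ (Y ↘ (Spec (CommRingCat.of k))) = X ↘ (Spec (CommRingCat.of k))) (a b : ℕ) (ha : topologicalKrullDim X = a)
    (hb : topologicalKrullDim (closure (Set.range f.base)) = b) :
    (∀ x : X, ((a - b : ℕ) : WithBot ℕ∞) ≤ FlatMor.fibreDimAt f x) ∧
      IsOpen {x : X | FlatMor.fibreDimAt f x = (a - b : ℕ)} ∧ Dense {x : X | FlatMor.fibreDimAt f x = (a - b : ℕ)} := by
  have key : ∀ (sY : Y ⟶ Spec (CommRingCat.of k)) [LocallyOfFiniteType sY]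
      [LocallyOfFiniteType (f ≫ sY)],
      (∀ x : X, ((a - b : ℕ) : WithBot ℕ∞) ≤ FlatMor.fibreDimAt f x) ∧
      IsOpen {x : X | FlatMor.fibreDimAt f x = (a - b : ℕ)} ∧
        Dense {x : X | FlatMor.fibreDimAt f x = (a - b : ℕ)} := by
    intro sY _ _
    haveI : LocallyOfFiniteType f := locallyOfFiniteType_of_comp f sY
    obtain ⟨E, hE⟩ := Groth.Agent.Helper14.ResFieldBridge.exists_nat_trdeg_residueField f
      (genericPoint X)
    obtain ⟨A', hA'⟩ := Groth.Agent.Helper14.ResFieldBridge.exists_nat_trdeg_residueField
      (f ≫ sY) (genericPoint X)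
    obtain ⟨B', hB'⟩ := Groth.Agent.Helper14.ResFieldBridge.exists_nat_trdeg_residueField sY
      (f (genericPoint X))
    have htower := Groth.Agent.Helper14.DimClosure.trdeg_comp f sY (genericPoint X)
    rw [hA', hB', hE] at htower
    have htower' : A' = B' + E := by exact_mod_cast htower
    -- a = A'
    have haA : a = A' := by
      have h1 := Groth.Agent.Helper14.DimClosure.dim_closure_eq k (f ≫ sY) (genericPoint X)
      rw [Groth.Agent.Helper14.DimClosure.trdegFun_eq (f ≫ sY) (genericPoint X) A' hA'] at h1
      have h2 : closure ({genericPoint X} : Set X) = Set.univ := (genericPoint_spec X)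
      rw [h2] at h1
      have h3 : topologicalKrullDim (Set.univ : Set X) = topologicalKrullDim X :=
        IsHomeomorph.topologicalKrullDim_eq _ (Homeomorph.Set.univ X).isHomeomorph
      rw [h3, ha] at h1
      have h4 : ((a : ℕ∞) : WithBot ℕ∞) = (((A' : ℤ).toNat : ℕ∞) : WithBot ℕ∞) := h1
      have h5 := WithBot.coe_injective h4
      have h6 : a = (A' : ℤ).toNat := by exact_mod_cast h5
      simpa using h6
    -- b = B'
    have hbB : b = B' := by
      have h1 := Groth.Agent.Helper14.DimClosure.dim_closure_eq k sY (f (genericPoint X))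
      rw [Groth.Agent.Helper14.DimClosure.trdegFun_eq sY (f (genericPoint X)) B' hB'] at h1
      have h2 : closure (Set.range f.base) = closure ({f (genericPoint X)} : Set Y) := by
        apply subset_antisymm
        · apply closure_minimal _ isClosed_closure
          rintro _ ⟨x, rfl⟩
          rw [← specializes_iff_mem_closure]
          exact (genericPoint_specializes x).map f.continuous
        · exact closure_mono (Set.singleton_subset_iff.mpr ⟨genericPoint X, rfl⟩)
      rw [h2, h1] at hb
      have h4 : ((((B' : ℤ).toNat : ℕ) : ℕ∞) : WithBot ℕ∞) = ((b : ℕ∞) : WithBot ℕ∞) := hb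
      have h5 := WithBot.coe_injective h4
      have h6 : (B' : ℤ).toNat = b := by exact_mod_cast h5
      simpa using h6.symm
    have hab : a - b = E := by omega
    rw [hab]
    have hgen : FlatMor.fibreDimAt f (genericPoint X) = (E : WithBot ℕ∞) := by
      rw [Groth.Agent.Helper14.FibreGeneric.fibreDimAt_eq_stalk_add_trdeg f _ E hE,
        Groth.Agent.Helper14.DimFormulaSch.ringKrullDim_stalk_genericFibre, zero_add]
    have hle : ∀ x : X, (E : WithBot ℕ∞) ≤ FlatMor.fibreDimAt f x := fun x => by
      rw [← hgen]
      exact fibreDimAt_generic_le' f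
        (fun n => Groth.Agent.S0402.result f n) x
    have hset : {x : X | FlatMor.fibreDimAt f x = (E : WithBot ℕ∞)} =
        {x : X | FlatMor.fibreDimAt f x ≤ (E : WithBot ℕ∞)} := by
      ext x
      exact ⟨fun h => le_of_eq h, fun h => le_antisymm h (hle x)⟩
    refine ⟨hle, ?_, ?_⟩
    · rw [hset]
      exact Groth.Agent.S0402.result f E
    · have hmem : genericPoint X ∈ {x : X | FlatMor.fibreDimAt f x = (E : WithBot ℕ∞)} := hgen
      rw [dense_iff_closure_eq, Set.eq_univ_iff_forall]
      intro x
      have h1 : x ∈ closure ({genericPoint X} : Set X) := by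
        rw [(genericPoint_spec X).def]; trivial
      exact closure_mono (Set.singleton_subset_iff.mpr hmem) h1
  haveI : LocallyOfFiniteType (f ≫ (Y ↘ Spec (CommRingCat.of k))) := by
    rw [hf]; infer_instance
  exact key (Y ↘ Spec (CommRingCat.of k))

end Groth.Agent.S1653
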