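import Groth.Statements.S16540
import Mathlib
import Groth.Prelude.Def_Disp2
import Groth.Agent.Lib.Helper24.DispComp
import Groth.Agent.Lib.Helper24.DispBC

set_option autoImplicit false
universe u v
open Disp

namespace Groth.Agent.S16540


open Groth.Agent.Helper24.DispComp Groth.Agent.Helper24.DispBC Dieu TensorProduct

section

variable {p : ℕ} [Fact p.Prime] {S R : Type u} [CommRing S] [CommRing R] (f : S →+* R)
variable {P : Type v} [AddCommGroup P] [Module (WittVector p S) P]

local notation "φ" => (WittVector.map f : WittVector p S →+* WittVector p R)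
local notation "σS" => (WittVector.frobenius : WittVector p S →+* WittVector p S)
local notation "σR" => (WittVector.frobenius : WittVector p R →+* WittVector p R)
local notation "w₀" => (WittVector.constantCoeff : WittVector p R →+* R)

lemma frob_comm : (φ).comp σS = (σR).comp φ := by
  ext x : 1
  exact (WittVector.frobenius_isPoly p).map f x

lemma J_map_le : (J p S).map φ ≤ J p R := by
  rw [J, Ideal.map_sup, J]
  refine sup_le_sup ?_ ?_
  · rw [W4c1extbt610.IV, Ideal.map_span, Ideal.span_le]
    rintro _ ⟨_, ⟨w, rfl⟩, rfl⟩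
    show φ (WittVector.verschiebung w) ∈ _
    rw [WittVector.map_verschiebung]
    exact W4c1extbt610.verschiebung_mem_IV p R _
  · rw [Ideal.map_span, Set.image_singleton, map_natCast]

/-- The `W(S)`-linear map `Res φ → Res (w₀ ∘ φ)` given by `w₀`. -/
noncomputable def g₀ : Res (φ) →ₗ[WittVector p S] Res ((w₀).comp φ) where
  toFun t := Res.mk _ (w₀ t.val)
  map_add' s t := by
    apply Res.ext
    exact map_add w₀ s.val t.val
  map_smul' a t := by
    apply Res.ext
    exact map_mul w₀ (φ a) t.val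

lemma g₀_surjective : Function.Surjective (g₀ (p := p) f) := by
  intro r
  obtain ⟨w, hw⟩ := WittVector.constantCoeff_surjective (p := p) r.val
  exact ⟨Res.mk _ w, Res.ext _ hw⟩

lemma bcQuotMap_eq (Q : Submodule (WittVector p S) P) (z : Res (φ) ⊗[WittVector p S] P) :
    bcQuotMap f Q (z : BC (φ) P) = TensorProduct.map (g₀ f) Q.mkQ z := by
  induction z using TensorProduct.induction_on with
  | zero => exact (map_zero (bcQuotMap f Q)).trans (map_zero (TensorProduct.map (g₀ f) Q.mkQ)).symm
  | tmul t x => exact bcQuotMap_tmul f Q t.val x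
  | add z₁ z₂ h₁ h₂ =>
    have e1 : bcQuotMap f Q ((z₁ + z₂ : Res (φ) ⊗[WittVector p S] P) : BC (φ) P) =
        bcQuotMap f Q (z₁ : BC (φ) P) + bcQuotMap f Q (z₂ : BC (φ) P) :=
      map_add (bcQuotMap f Q) (z₁ : BC (φ) P) (z₂ : BC (φ) P)
    rw [e1, h₁, h₂, map_add]
    rfl

/-- generators of the kernel of `bcQuotMap`. -/
lemma ker_induction (Q : Submodule (WittVector p S) P) (M : BC (φ) P → Prop)
    (h0 : M 0) (hadd : ∀ y y', M y → M y' → M (y + y'))
    (h1 : ∀ (b : WittVector p R) (q : Q), M (BC.tmul (φ) b (q : P)))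
    (h2 : ∀ (w : WittVector p R) (x : P), M (BC.tmul (φ) (WittVector.verschiebung w) x))
    (y : Res (φ) ⊗[WittVector p S] P) (hy' : TensorProduct.map (g₀ f) Q.mkQ y = 0) : M y := by
  have hA : ∀ a : Res (φ) ⊗[WittVector p S] Q,
      M ((LinearMap.lTensor (Res (φ)) Q.subtype a : Res (φ) ⊗[WittVector p S] P) : BC (φ) P) := by
    intro a
    induction a using TensorProduct.induction_on with
    | zero => rw [map_zero]; exact h0
    | tmul t q => exact h1 t.val q
    | add a a' ha ha' => rw [map_add]; exact hadd _ _ ha ha'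
  have hB : ∀ b : (LinearMap.ker (g₀ (p := p) f)) ⊗[WittVector p S] P,
      M ((LinearMap.rTensor P (LinearMap.ker (g₀ (p := p) f)).subtype b :
        Res (φ) ⊗[WittVector p S] P) : BC (φ) P) := by
    intro b
    induction b using TensorProduct.induction_on with
    | zero => rw [map_zero]; exact h0
    | tmul k x =>
      have hk : (k.1.val).coeff 0 = 0 := by
        have := k.2
        rw [LinearMap.mem_ker] at this
        exact congrArg Res.val this
      have hV := WittVector.eq_iterate_verschiebung (x := k.1.val) (n := 1)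
        (by intro i hi; obtain rfl : i = 0 := by omega
            exact hk)
      have := h2 ((k.1.val).shift 1) x
      rw [Function.iterate_one] at hV
      rw [← hV] at this
      exact this
    | add a a' ha ha' => rw [map_add]; exact hadd _ _ ha ha'
  have hker : y ∈ LinearMap.ker (TensorProduct.map (g₀ f) Q.mkQ) := hy'
  rw [TensorProduct.map_ker (LinearMap.exact_subtype_ker_map (g₀ f)) (g₀_surjective f)
    (LinearMap.exact_subtype_mkQ Q) (Submodule.mkQ_surjective Q)] at hker
  obtain ⟨_, ⟨a, rfl⟩, _, ⟨b, rfl⟩, hab⟩ := Submodule.mem_sup.mp hker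
  have := hadd _ _ (hA a) (hB b)
  rw [← hab]
  exact this

lemma isVSharp_bcV (D : W4c1extbt610.Display3n p S P)
    (DR : W4c1extbt610.Display3n p R (BC (φ) P)) (hDR : IsDispBaseChange f D DR)
    (Vs : P →ₗ[WittVector p S] BC σS P) (hVs : IsVSharp D Vs) :
    IsVSharp DR (bcV (φ) σS σR (frob_comm f) Vs) := by
  set VsR := bcV (φ) σS σR (frob_comm f) Vs with hVsR
  have hVF : ∀ x : P, Vs (D.F x) = (p : WittVector p S) • BC.tmul σS 1 x := by
    intro x
    have := hVs.app_smul_F 1 x
    rwa [one_smul] at this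
  have hVV : ∀ y : D.Q, Vs (D.Vinv y) = BC.tmul σS 1 (y : P) := by
    intro y
    have := hVs.app_smul_Vinv 1 y
    rwa [one_smul] at this
  have hThF : ∀ x : P, Th (φ) σS σR (frob_comm f) (Vs (D.F x)) =
      (p : WittVector p R) • BC.tmul σR 1 (BC.tmul (φ) 1 x) := by
    intro x
    rw [hVF, map_smulₛₗ, Th_tmul, map_natCast, map_one]
  have h11 : ∀ (b : WittVector p R) (x : P),
      BC.tmul σR 1 (BC.tmul (φ) b x) = (σR b) • BC.tmul σR 1 (BC.tmul (φ) 1 x) := by
    intro b x
    rw [BC.tmul_eq_smul_tmul_one (φ) b x, ← BC.tmul_apply_eq σR, BC.tmul_eq_smul_tmul_one σR]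
  constructor
  · intro w z
    have key : ∀ z, VsR (DR.F z) = (p : WittVector p R) • BC.tmul σR 1 z := by
      intro z
      induction z using BC.induction_on (φ) with
      | zero => rw [map_zero, map_zero, BC.tmul_zero, smul_zero]
      | tmul b x =>
        rw [hDR.F_tmul, hVsR, bcV_tmul, hThF, h11 b x, smul_comm]
      | add z₁ z₂ h₁ h₂ => rw [map_add, map_add, h₁, h₂, BC.tmul_add, smul_add]
    rw [map_smul, key, BC.tmul_eq_smul_tmul_one σR w z, smul_comm]
  · intro w y
    have key : ∀ (y : BC (φ) P), bcQuotMap f D.Q y = 0 →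
        ∃ h : y ∈ DR.Q, VsR (DR.Vinv ⟨y, h⟩) = BC.tmul σR 1 y := by
      intro y hy
      refine ker_induction f D.Q
        (fun y => ∃ h : y ∈ DR.Q, VsR (DR.Vinv ⟨y, h⟩) = BC.tmul σR 1 y) ?_ ?_ ?_ ?_ y
        ((bcQuotMap_eq f D.Q y).symm.trans hy)
      · refine ⟨DR.Q.zero_mem, ?_⟩
        have : (⟨0, DR.Q.zero_mem⟩ : DR.Q) = 0 := rfl
        rw [this, map_zero, map_zero, BC.tmul_zero]
      · rintro y y' ⟨h, hy⟩ ⟨h', hy'⟩
        refine ⟨DR.Q.add_mem h h', ?_⟩
        have : (⟨y + y', DR.Q.add_mem h h'⟩ : DR.Q) = ⟨y, h⟩ + ⟨y', h'⟩ := rfl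
        rw [this, map_add, map_add, hy, hy', BC.tmul_add]
      · intro b q
        have hmem : BC.tmul (φ) b (q : P) ∈ DR.Q := by
          rw [hDR.Q_eq, LinearMap.mem_ker, bcQuotMap_tmul]
          have : D.Q.mkQ (q : P) = 0 := (Submodule.Quotient.mk_eq_zero _).mpr q.2
          rw [this, BC.tmul_zero]
        refine ⟨hmem, ?_⟩
        rw [hDR.Vinv_tmul b q hmem, hVsR, bcV_tmul, hVV, Th_tmul, map_one, h11 b q]
      · intro w x
        have hmem : BC.tmul (φ) (WittVector.verschiebung w) x ∈ DR.Q := by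
          rw [hDR.Q_eq, LinearMap.mem_ker, bcQuotMap_tmul]
          have : w₀ (WittVector.verschiebung w) = 0 := WittVector.verschiebung_coeff_zero w
          rw [this, BC.zero_tmul]
        refine ⟨hmem, ?_⟩
        rw [hDR.Vinv_verschiebung_tmul w x hmem, hVsR, bcV_tmul, hThF, h11 (WittVector.verschiebung w) x,
          WittVector.frobenius_verschiebung, smul_smul]
    have hyQ : bcQuotMap f D.Q (y : BC (φ) P) = 0 := by
      have h3 : (y : BC (WittVector.map f) P) ∈ LinearMap.ker (bcQuotMap f D.Q) := hDR.Q_eq ▸ y.2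
      exact h3
    obtain ⟨h, hy⟩ := key y.1 hyQ
    rw [map_smul, hy, BC.tmul_eq_smul_tmul_one σR w]

end

/-- Let p be a prime, S a commutative ring in which p is nilpotent, f : S → R a homomorphism of
commutative rings, and (P, Q, F, V⁻¹) a display over S, that is, a 3n-display whose operator V#
satisfies the nilpotence condition. Let (P_R, Q_R, F_R, V_R⁻¹) be a 3n-display structure on P_R =
W(R) ⊗_{W(S)} P which is the base change of (P, Q, F, V⁻¹) along f (Q_R the kernel of P_R → R ⊗_S
(P/Q), F_R(w ⊗ x) = σ(w) ⊗ F x, V_R⁻¹(w ⊗ y) = σ(w) ⊗ V⁻¹ y for y ∈ Q, V_R⁻¹(V(w) ⊗ x) = w ⊗ F x).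
Then (P_R, Q_R, F_R, V_R⁻¹) is a display over R. -/
theorem result (p : ℕ) [Fact p.Prime] (S R : Type u) [CommRing S] [CommRing R]
    (hp : IsNilpotent (p : S)) (f : S →+* R)
    (P : Type v) [AddCommGroup P] [Module (WittVector p S) P] (D : W4c1extbt610.Display3n p S P)
    (hD : Dieu.IsDisplay D)
    (DR : W4c1extbt610.Display3n p R (Dieu.BC (WittVector.map f : WittVector p S →+* WittVector p R) P)) (hDR : Dieu.IsDispBaseChange f D DR) :
    Dieu.IsDisplay DR := by
  obtain ⟨Vs, hVs, n₀, hn₀⟩ := hD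
  refine ⟨bcV (WittVector.map f) WittVector.frobenius WittVector.frobenius (frob_comm f) Vs,
    isVSharp_bcV f D DR hDR Vs hVs, n₀, ?_⟩
  have h0 : InIdeal (J p S) (pw WittVector.frobenius Vs n₀) := by
    rw [pw_eq]
    exact hn₀
  have hc := (bcV_compat (WittVector.map f : WittVector p S →+* WittVector p R)
    WittVector.frobenius WittVector.frobenius (frob_comm f) Vs).pw (WittVector.map f) n₀
  have h1 := (hc.inIdeal (WittVector.map f) h0).mono (J_map_le f)
  rw [pw_eq] at h1
  exact h1

end Groth.Agent.S16540
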