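import Groth.Statements.S16538
import Mathlib
import Groth.Prelude.Def_Disp2
import Groth.Agent.Lib.Helper24.DispSemi
import Groth.Agent.S16540

set_option autoImplicit false
universe u v
open Disp

namespace Groth.Agent.S16538


open Dieu Groth.Agent.Helper24.DispSemi

section

variable {p : ℕ} [Fact p.Prime] {S R : Type u} [CommRing S] [CommRing R] (f : S →+* R)
variable {P : Type v} [AddCommGroup P] [Module (WittVector p S) P]

local notation "φ" => (WittVector.map f : WittVector p S →+* WittVector p R)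
local notation "σS" => (WittVector.frobenius : WittVector p S →+* WittVector p S)
local notation "σR" => (WittVector.frobenius : WittVector p R →+* WittVector p R)
local notation "w₀" => (WittVector.constantCoeff : WittVector p R →+* R)
local notation "WS" => WittVector p S
local notation "WR" => WittVector p R

/-- The choices: a normal decomposition and a finite dual basis. -/
structure Dat (D : W4c1extbt610.Display3n p S P) where
  L : Submodule (WittVector p S) P
  T : Submodule (WittVector p S) P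
  hLT : IsCompl L T
  hQ : D.Q = L ⊔ W4c1extbt610.IV p S • T
  n : ℕ
  fn : (Fin n → WittVector p S) →ₗ[WittVector p S] P
  γ : P →ₗ[WittVector p S] (Fin n → WittVector p S)
  hfg : fn ∘ₗ γ = LinearMap.id

lemma exists_dat (D : W4c1extbt610.Display3n p S P) : Nonempty (Dat D) := by
  obtain ⟨L, T, hLT, hQ⟩ := D.exists_normal
  have := D.finite
  have := D.projective
  obtain ⟨n, fn, γ, -, -, hfg⟩ := Module.Finite.exists_comp_eq_id_of_projective (WittVector p S) P
  exact ⟨⟨L, T, hLT, hQ, n, fn, γ, hfg⟩⟩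

variable {D : W4c1extbt610.Display3n p S P} (d : Dat D)

namespace Dat

/-- projection to `L`. -/
noncomputable def πL : P →ₗ[WittVector p S] P := d.L.projection d.T d.hLT

/-- projection to `T`. -/
noncomputable def πT : P →ₗ[WittVector p S] P := d.T.projection d.L d.hLT.symm

lemma πL_add_πT (x : P) : d.πL x + d.πT x = x :=
  Submodule.projection_add_projection_eq_self d.hLT x

lemma πL_mem (x : P) : d.πL x ∈ d.L := Submodule.projection_apply_mem d.hLT x

lemma πT_mem (x : P) : d.πT x ∈ d.T := Submodule.projection_apply_mem d.hLT.symm x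

lemma πL_of_mem {x : P} (hx : x ∈ d.L) : d.πL x = x :=
  Submodule.projection_apply_of_mem_left d.hLT hx

lemma πT_of_mem {x : P} (hx : x ∈ d.T) : d.πT x = x :=
  Submodule.projection_apply_of_mem_left d.hLT.symm hx

lemma πL_of_mem_T {x : P} (hx : x ∈ d.T) : d.πL x = 0 :=
  Submodule.projection_apply_of_mem_right d.hLT hx

lemma πT_of_mem_L {x : P} (hx : x ∈ d.L) : d.πT x = 0 :=
  Submodule.projection_apply_of_mem_right d.hLT.symm hx

lemma L_le_Q : d.L ≤ D.Q := d.hQ ▸ le_sup_left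

lemma IVT_le_Q : W4c1extbt610.IV p S • d.T ≤ D.Q := d.hQ ▸ le_sup_right

lemma πL_mem_Q (x : P) : d.πL x ∈ D.Q := d.L_le_Q (d.πL_mem x)

lemma πT_mem_IVT {q : P} (hq : q ∈ D.Q) : d.πT q ∈ W4c1extbt610.IV p S • d.T := by
  rw [d.hQ] at hq
  obtain ⟨l, hl, m, hm, rfl⟩ := Submodule.mem_sup.mp hq
  rw [map_add, d.πT_of_mem_L hl, zero_add, d.πT_of_mem (Submodule.smul_le_right hm)]
  exact hm

lemma πT_mem_Q {q : P} (hq : q ∈ D.Q) : d.πT q ∈ D.Q := d.IVT_le_Q (d.πT_mem_IVT hq)

/-- dual basis elements. -/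
noncomputable def e (j : Fin d.n) : P := d.fn (Pi.single j 1)

/-- dual functionals. -/
noncomputable def lam (j : Fin d.n) : P →ₗ[WittVector p S] WittVector p S :=
  (LinearMap.proj j).comp d.γ

lemma expand (x : P) : x = ∑ j : Fin d.n, d.lam j x • d.e j := by
  have h1 : d.fn (d.γ x) = x := LinearMap.congr_fun d.hfg x
  conv_lhs => rw [← h1, ← Finset.univ_sum_single (d.γ x), map_sum]
  refine Finset.sum_congr rfl fun j _ => ?_
  show d.fn (Pi.single j (d.γ x j)) = (d.γ x j) • d.fn (Pi.single j 1)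
  rw [← map_smul]
  congr 1
  ext i
  simp [Pi.single_apply]

/-- `t_j = π_T e_j`. -/
noncomputable def t (j : Fin d.n) : P := d.πT (d.e j)

lemma expandT (x : P) : d.πT x = ∑ j : Fin d.n, d.lam j (d.πT x) • d.t j := by
  have h := d.expand (d.πT x)
  have h2 := congrArg d.πT h
  rw [d.πT_of_mem (d.πT_mem x), map_sum] at h2
  conv_lhs => rw [h2]
  refine Finset.sum_congr rfl fun j _ => ?_
  rw [map_smul]
  rfl

lemma lam_coeff_zero (l : P →ₗ[WittVector p S] WittVector p S) {m : P}
    (hm : m ∈ W4c1extbt610.IV p S • d.T) : (l m).coeff 0 = 0 := by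
  refine Submodule.smul_induction_on hm ?_ ?_
  · intro a ha t _
    rw [map_smul, smul_eq_mul, WittVector.mul_coeff_zero, (mem_IV_iff a).mp ha, zero_mul]
  · intro x y hx hy
    rw [map_add, WittVector.add_coeff_zero, hx, hy, add_zero]

/-- `G₁ = V⁻¹ ∘ π_L`. -/
noncomputable def G₁ : P →ₛₗ[σS] P :=
  D.Vinv.comp (LinearMap.codRestrict D.Q d.πL d.πL_mem_Q)

lemma G₁_apply (x : P) : d.G₁ x = D.Vinv ⟨d.πL x, d.πL_mem_Q x⟩ := rfl

/-- the functional `μ_j = (λ_j ∘ π_T)_R`. -/
noncomputable def mu (j : Fin d.n) : BC (φ) P →ₗ[WittVector p R] WittVector p R :=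
  bcFun (φ) ((d.lam j).comp d.πT)

lemma mu_tmul (j : Fin d.n) (b : WittVector p R) (x : P) :
    d.mu f j (BC.tmul (φ) b x) = b * φ (d.lam j (d.πT x)) := by
  rw [mu, bcFun_tmul]
  rfl

/-- `Q_R`. -/
noncomputable def QR (D : W4c1extbt610.Display3n p S P) : Submodule (WittVector p R) (BC (φ) P) :=
  LinearMap.ker (bcQuotMap f D.Q)

lemma mem_QR (z : BC (φ) P) : z ∈ QR f D ↔ bcQuotMap f D.Q z = 0 := Iff.rfl

lemma tmul_mem_QR (b : WittVector p R) {q : P} (hq : q ∈ D.Q) : BC.tmul (φ) b q ∈ QR f D := by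
  rw [mem_QR, bcQuotMap_tmul]
  have : D.Q.mkQ q = 0 := (Submodule.Quotient.mk_eq_zero _).mpr hq
  rw [this, BC.tmul_zero]

lemma V_tmul_mem_QR (w : WittVector p R) (x : P) :
    BC.tmul (φ) (WittVector.verschiebung w) x ∈ QR f D := by
  rw [mem_QR, bcQuotMap_tmul]
  have : w₀ (WittVector.verschiebung w) = 0 := WittVector.verschiebung_coeff_zero w
  rw [this, BC.zero_tmul]

lemma map_coeff_zero (a : WittVector p S) (ha : a.coeff 0 = 0) : (φ a).coeff 0 = 0 := by
  rw [WittVector.map_coeff, ha, map_zero]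

lemma mu_coeff_zero (j : Fin d.n) {z : BC (φ) P} (hz : z ∈ QR f D) :
    (d.mu f j z).coeff 0 = 0 := by
  refine S16540.ker_induction f D.Q (fun z => (d.mu f j z).coeff 0 = 0) ?_ ?_ ?_ ?_ z
    ((S16540.bcQuotMap_eq f D.Q z).symm.trans hz)
  · rw [map_zero]; exact WittVector.zero_coeff p R 0
  · intro y y' hy hy'
    rw [map_add, WittVector.add_coeff_zero, hy, hy', add_zero]
  · intro b q
    rw [mu_tmul, WittVector.mul_coeff_zero,
      map_coeff_zero f _ (d.lam_coeff_zero (d.lam j) (d.πT_mem_IVT q.2)), mul_zero]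
  · intro w x
    rw [mu_tmul, WittVector.mul_coeff_zero, WittVector.verschiebung_coeff_zero, zero_mul]

/-- the underlying function of `V_R⁻¹`. -/
noncomputable def VinvFun (z : BC (φ) P) : BC (φ) P :=
  bcSemi (φ) σS σR (S16540.frob_comm f) d.G₁ z +
    ∑ j : Fin d.n, ((d.mu f j z).shift 1) • BC.tmul (φ) 1 (D.F (d.t j))

/-- `V_R⁻¹`. -/
noncomputable def VR : QR f D →ₛₗ[σR] BC (φ) P where
  toFun z := d.VinvFun f z.1
  map_add' z z' := by
    show d.VinvFun f (z.1 + z'.1) = d.VinvFun f z.1 + d.VinvFun f z'.1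
    unfold VinvFun
    rw [map_add, add_add_add_comm, ← Finset.sum_add_distrib]
    congr 1
    refine Finset.sum_congr rfl fun j _ => ?_
    rw [map_add, shift_add _ _ (d.mu_coeff_zero f j z.2) (d.mu_coeff_zero f j z'.2), add_smul]
  map_smul' c z := by
    show d.VinvFun f (c • z.1) = σR c • d.VinvFun f z.1
    unfold VinvFun
    rw [map_smulₛₗ, smul_add, Finset.smul_sum]
    congr 1
    refine Finset.sum_congr rfl fun j _ => ?_
    rw [map_smul, smul_eq_mul, shift_mul _ _ (d.mu_coeff_zero f j z.2), mul_smul]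

lemma VR_apply (z : QR f D) : d.VR f z = d.VinvFun f z.1 := rfl

lemma F_eq (D : W4c1extbt610.Display3n p S P) {l : P} (hl : l ∈ D.Q) :
    D.F l = (p : WittVector p S) • D.Vinv ⟨l, hl⟩ := by
  have h1 := D.Vinv_verschiebung_smul 1 l
  rw [one_smul] at h1
  rw [← h1]
  have : (⟨WittVector.verschiebung (1 : WittVector p S) • l,
      D.IV_smul_le (Submodule.smul_mem_smul (W4c1extbt610.verschiebung_mem_IV p S 1)
        Submodule.mem_top)⟩ : D.Q) = WittVector.verschiebung (1 : WittVector p S) • ⟨l, hl⟩ := rfl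
  rw [this, map_smulₛₗ, WittVector.frobenius_verschiebung, one_mul]

lemma Vinv_πT {y : P} (hy : y ∈ D.Q) :
    D.Vinv ⟨d.πT y, d.πT_mem_Q hy⟩ =
      ∑ j : Fin d.n, ((d.lam j (d.πT y)).shift 1) • D.F (d.t j) := by
  have hc : ∀ j, (d.lam j (d.πT y)).coeff 0 = 0 := fun j =>
    d.lam_coeff_zero (d.lam j) (d.πT_mem_IVT hy)
  have hmem : ∀ j, WittVector.verschiebung ((d.lam j (d.πT y)).shift 1) • d.t j ∈ D.Q := fun j =>
    D.IV_smul_le (Submodule.smul_mem_smul (W4c1extbt610.verschiebung_mem_IV p S _)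
      Submodule.mem_top)
  have h1 : (⟨d.πT y, d.πT_mem_Q hy⟩ : D.Q) =
      ∑ j : Fin d.n, ⟨WittVector.verschiebung ((d.lam j (d.πT y)).shift 1) • d.t j, hmem j⟩ := by
    apply Subtype.ext
    rw [Submodule.coe_sum]
    show d.πT y = ∑ j : Fin d.n, WittVector.verschiebung ((d.lam j (d.πT y)).shift 1) • d.t j
    conv_lhs => rw [d.expandT y]
    refine Finset.sum_congr rfl fun j _ => ?_
    rw [V_shift _ (hc j)]
  rw [h1, map_sum]
  refine Finset.sum_congr rfl fun j _ => ?_
  exact D.Vinv_verschiebung_smul _ _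

lemma shift_map (a : WittVector p S) (ha : a.coeff 0 = 0) : (φ a).shift 1 = φ (a.shift 1) := by
  conv_lhs => rw [← V_shift a ha, WittVector.map_verschiebung]
  exact shift_V _

lemma VinvFun_tmul (w : WittVector p R) {y : P} (hy : y ∈ D.Q) :
    d.VinvFun f (BC.tmul (φ) w y) = BC.tmul (φ) (σR w) (D.Vinv ⟨y, hy⟩) := by
  have hc : ∀ j, (d.lam j (d.πT y)).coeff 0 = 0 := fun j =>
    d.lam_coeff_zero (d.lam j) (d.πT_mem_IVT hy)
  have hy' : (⟨y, hy⟩ : D.Q) = ⟨d.πL y, d.πL_mem_Q y⟩ + ⟨d.πT y, d.πT_mem_Q hy⟩ :=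
    Subtype.ext (d.πL_add_πT y).symm
  unfold VinvFun
  rw [bcSemi_tmul, G₁_apply, hy', map_add, BC.tmul_add, d.Vinv_πT hy, tmul_sum]
  congr 1
  refine Finset.sum_congr rfl fun j _ => ?_
  rw [mu_tmul, shift_mul _ _ (map_coeff_zero f _ (hc j)), shift_map f _ (hc j), BC.smul_tmul,
    mul_one, BC.tmul_mul_apply]

lemma VinvFun_V_tmul (w : WittVector p R) (x : P) :
    d.VinvFun f (BC.tmul (φ) (WittVector.verschiebung w) x) = BC.tmul (φ) w (D.F x) := by
  unfold VinvFun
  rw [bcSemi_tmul, G₁_apply]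
  have h1 : BC.tmul (φ) (σR (WittVector.verschiebung w)) (D.Vinv ⟨d.πL x, d.πL_mem_Q x⟩) =
      BC.tmul (φ) w (D.F (d.πL x)) := by
    rw [WittVector.frobenius_verschiebung, F_eq D (d.πL_mem_Q x), ← BC.tmul_mul_apply, map_natCast]
  have h2 : ∑ j : Fin d.n, ((d.mu f j (BC.tmul (φ) (WittVector.verschiebung w) x)).shift 1) •
      BC.tmul (φ) 1 (D.F (d.t j)) = BC.tmul (φ) w (D.F (d.πT x)) := by
    conv_rhs => rw [d.expandT x, map_sum, tmul_sum]
    refine Finset.sum_congr rfl fun j _ => ?_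
    have e1 : d.mu f j (BC.tmul (φ) (WittVector.verschiebung w) x) =
        WittVector.verschiebung (w * σR (φ (d.lam j (d.πT x)))) := by
      rw [mu_tmul, WittVector.verschiebung_mul_frobenius]
    rw [e1, shift_V, map_smulₛₗ, BC.smul_tmul, mul_one, ← BC.tmul_mul_apply]
    have : σR (φ (d.lam j (d.πT x))) = φ (σS (d.lam j (d.πT x))) :=
      (RingHom.congr_fun (S16540.frob_comm f) _).symm
    rw [this]
  rw [h1, h2, ← BC.tmul_add, ← map_add, d.πL_add_πT]

/-- projection of `P_R` to `L_R`. -/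
noncomputable def PL : BC (φ) P →ₗ[WittVector p R] BC (φ) P := BC.map (φ) d.πL

/-- projection of `P_R` to `T_R`. -/
noncomputable def PT : BC (φ) P →ₗ[WittVector p R] BC (φ) P := BC.map (φ) d.πT

lemma PL_tmul (b : WittVector p R) (x : P) : d.PL f (BC.tmul (φ) b x) = BC.tmul (φ) b (d.πL x) :=
  BC.map_tmul _ _ _ _

lemma PT_tmul (b : WittVector p R) (x : P) : d.PT f (BC.tmul (φ) b x) = BC.tmul (φ) b (d.πT x) :=
  BC.map_tmul _ _ _ _

lemma PL_add_PT (z : BC (φ) P) : d.PL f z + d.PT f z = z := by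
  have : d.πL + d.πT = LinearMap.id := LinearMap.ext d.πL_add_πT
  rw [PL, PT, ← LinearMap.add_apply, ← bcMap_add, this, bcMap_id, LinearMap.id_apply]

lemma PL_PT (z : BC (φ) P) : d.PL f (d.PT f z) = 0 := by
  have : d.πL ∘ₗ d.πT = 0 := LinearMap.ext fun x => d.πL_of_mem_T (d.πT_mem x)
  rw [PL, PT, ← LinearMap.comp_apply, ← bcMap_comp, this, bcMap_zero, LinearMap.zero_apply]

lemma PL_PL (z : BC (φ) P) : d.PL f (d.PL f z) = d.PL f z := by
  have : d.πL ∘ₗ d.πL = d.πL := LinearMap.ext fun x => d.πL_of_mem (d.πL_mem x)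
  rw [PL, ← LinearMap.comp_apply, ← bcMap_comp, this]

lemma isCompl_ranges : IsCompl (LinearMap.range (d.PL f)) (LinearMap.range (d.PT f)) := by
  constructor
  · rw [Submodule.disjoint_def]
    rintro z ⟨a, rfl⟩ ⟨b, hb⟩
    have : d.PL f (d.PL f a) = d.PL f (d.PT f b) := by rw [hb]
    rw [PL_PL, PL_PT] at this
    exact this
  · rw [codisjoint_iff, eq_top_iff]
    intro z _
    rw [← d.PL_add_PT f z]
    exact Submodule.add_mem _ (Submodule.mem_sup_left ⟨z, rfl⟩) (Submodule.mem_sup_right ⟨z, rfl⟩)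

lemma IV_smul_le_QR (D : W4c1extbt610.Display3n p S P) :
    W4c1extbt610.IV p R • (⊤ : Submodule (WittVector p R) (BC (φ) P)) ≤ QR f D := by
  rw [Submodule.smul_le]
  intro a ha z _
  rw [mem_QR, map_smulₛₗ]
  have : w₀ a = 0 := (mem_IV_iff a).mp ha
  rw [this, zero_smul]

lemma tmul_mem_IV_TR (b : WittVector p R) {m : P} (hm : m ∈ W4c1extbt610.IV p S • d.T) :
    BC.tmul (φ) b m ∈ W4c1extbt610.IV p R • LinearMap.range (d.PT f) := by
  refine Submodule.smul_induction_on hm ?_ ?_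
  · intro a ha t ht
    have : BC.tmul (φ) b (a • t) = φ a • BC.tmul (φ) b t := by
      rw [← BC.tmul_mul_apply, BC.smul_tmul, mul_comm]
    rw [this]
    refine Submodule.smul_mem_smul
      ((mem_IV_iff _).mpr (map_coeff_zero f a ((mem_IV_iff a).mp ha))) ⟨BC.tmul (φ) b t, ?_⟩
    rw [PT_tmul, d.πT_of_mem ht]
  · intro x y hx hy
    rw [BC.tmul_add]
    exact Submodule.add_mem _ hx hy

lemma QR_eq : QR f D =
    LinearMap.range (d.PL f) ⊔ W4c1extbt610.IV p R • LinearMap.range (d.PT f) := by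
  apply le_antisymm
  · intro z hz
    refine S16540.ker_induction f D.Q
      (fun z => z ∈ LinearMap.range (d.PL f) ⊔ W4c1extbt610.IV p R • LinearMap.range (d.PT f))
      ?_ ?_ ?_ ?_ z ((S16540.bcQuotMap_eq f D.Q z).symm.trans hz)
    · exact Submodule.zero_mem _
    · intro y y' hy hy'
      exact Submodule.add_mem _ hy hy'
    · intro b q
      have h : BC.tmul (φ) b (q : P) = BC.tmul (φ) b (d.πL q) + BC.tmul (φ) b (d.πT q) := by
        rw [← BC.tmul_add, d.πL_add_πT]
      rw [h]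
      exact Submodule.add_mem _ (Submodule.mem_sup_left ⟨BC.tmul (φ) b q, d.PL_tmul f b q⟩)
        (Submodule.mem_sup_right (d.tmul_mem_IV_TR f b (d.πT_mem_IVT q.2)))
    · intro w x
      rw [BC.tmul_eq_smul_tmul_one, ← d.PL_add_PT f (BC.tmul (φ) 1 x), smul_add]
      exact Submodule.add_mem _ (Submodule.mem_sup_left (Submodule.smul_mem _ _ ⟨_, rfl⟩))
        (Submodule.mem_sup_right (Submodule.smul_mem_smul
          (W4c1extbt610.verschiebung_mem_IV p R w) ⟨_, rfl⟩))
  · refine sup_le ?_ ?_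
    · rintro _ ⟨z, rfl⟩
      induction z using BC.induction_on (φ) with
      | zero => rw [map_zero]; exact Submodule.zero_mem _
      | tmul b x => rw [PL_tmul]; exact tmul_mem_QR f b (d.πL_mem_Q x)
      | add z₁ z₂ h₁ h₂ => rw [map_add]; exact Submodule.add_mem _ h₁ h₂
    · exact (Submodule.smul_mono le_rfl le_top).trans (IV_smul_le_QR f D)

lemma span_VR : Submodule.span (WittVector p R) (Set.range (d.VR f)) = ⊤ := by
  rw [eq_top_iff]
  rintro z -
  have h1 : ∀ x : P, BC.tmul (φ) 1 x ∈ Submodule.span (WittVector p R) (Set.range (d.VR f)) := by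
    intro x
    have hx : x ∈ Submodule.span (WittVector p S) (Set.range D.Vinv) := by
      rw [D.span_range_Vinv]; trivial
    refine Submodule.span_induction ?_ ?_ ?_ ?_ hx
    · rintro _ ⟨y, rfl⟩
      refine Submodule.subset_span ⟨⟨BC.tmul (φ) 1 y.1, tmul_mem_QR f 1 y.2⟩, ?_⟩
      rw [VR_apply, d.VinvFun_tmul f 1 y.2, map_one]
    · rw [BC.tmul_zero]; exact Submodule.zero_mem _
    · intro x y _ _ hx hy
      rw [BC.tmul_add]; exact Submodule.add_mem _ hx hy
    · intro a x _ hx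
      rw [← BC.tmul_apply_eq, BC.tmul_eq_smul_tmul_one]
      exact Submodule.smul_mem _ _ hx
  induction z using BC.induction_on (φ) with
  | zero => exact Submodule.zero_mem _
  | tmul b x => rw [BC.tmul_eq_smul_tmul_one]; exact Submodule.smul_mem _ _ (h1 x)
  | add z₁ z₂ h₁ h₂ => exact Submodule.add_mem _ h₁ h₂

lemma VR_V_smul (w : WittVector p R) (z : BC (φ) P)
    (h : WittVector.verschiebung w • z ∈ QR f D) :
    d.VR f ⟨WittVector.verschiebung w • z, h⟩ =
      w • bcSemi (φ) σS σR (S16540.frob_comm f) D.F z := by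
  have hm : ∀ z : BC (φ) P, WittVector.verschiebung w • z ∈ QR f D := fun z =>
    IV_smul_le_QR f D (Submodule.smul_mem_smul (W4c1extbt610.verschiebung_mem_IV p R w)
      Submodule.mem_top)
  have key : ∀ z : BC (φ) P, d.VR f ⟨WittVector.verschiebung w • z, hm z⟩ =
      w • bcSemi (φ) σS σR (S16540.frob_comm f) D.F z := by
    intro z
    induction z using BC.induction_on (φ) with
    | zero =>
      have : (⟨WittVector.verschiebung w • (0 : BC (φ) P), hm 0⟩ : QR f D) = 0 :=
        Subtype.ext (smul_zero _)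
      rw [this, map_zero, map_zero, smul_zero]
    | tmul b x =>
      rw [VR_apply]
      show d.VinvFun f (WittVector.verschiebung w • BC.tmul (φ) b x) = _
      rw [BC.smul_tmul, ← WittVector.verschiebung_mul_frobenius, d.VinvFun_V_tmul, bcSemi_tmul,
        BC.smul_tmul]
    | add z₁ z₂ h₁ h₂ =>
      have : (⟨WittVector.verschiebung w • (z₁ + z₂), hm _⟩ : QR f D) =
          ⟨WittVector.verschiebung w • z₁, hm _⟩ + ⟨WittVector.verschiebung w • z₂, hm _⟩ :=
        Subtype.ext (smul_add _ _ _)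
      rw [this, map_add, h₁, h₂, map_add, smul_add]
  exact key z

/-- the base change display. -/
noncomputable def DR : W4c1extbt610.Display3n p R (BC (φ) P) where
  Q := QR f D
  F := bcSemi (φ) σS σR (S16540.frob_comm f) D.F
  Vinv := d.VR f
  finite := by
    have := D.finite
    have := D.projective
    exact (finite_projective_BC (φ)).1
  projective := by
    have := D.finite
    have := D.projective
    exact (finite_projective_BC (φ)).2
  IV_smul_le := IV_smul_le_QR f D
  exists_normal := ⟨_, _, d.isCompl_ranges f, d.QR_eq f⟩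
  span_range_Vinv := d.span_VR f
  Vinv_verschiebung_smul w z := d.VR_V_smul f w z _

lemma isDispBaseChange : IsDispBaseChange f D (d.DR f) where
  Q_eq := rfl
  F_tmul w x := bcSemi_tmul _ _ _ _ _ _ _
  Vinv_tmul w y _ := d.VinvFun_tmul f w y.2
  Vinv_verschiebung_tmul _ _ _ := d.VinvFun_V_tmul f _ _

end Dat

lemma unique_bc {D : W4c1extbt610.Display3n p S P}
    (DR DR' : W4c1extbt610.Display3n p R (BC (φ) P))
    (h : IsDispBaseChange f D DR) (h' : IsDispBaseChange f D DR') : DR = DR' := by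
  obtain ⟨Q, F, Vinv, h1, h2, h3, h4, h5, h6⟩ := DR
  obtain ⟨Q', F', Vinv', h1', h2', h3', h4', h5', h6'⟩ := DR'
  have hQ : Q = Q' := h.Q_eq.trans h'.Q_eq.symm
  subst hQ
  have hQeq : Q = LinearMap.ker (bcQuotMap f D.Q) := h.Q_eq
  have hF : F = F' := by
    apply LinearMap.ext
    intro z
    induction z using BC.induction_on (φ) with
    | zero => rw [map_zero, map_zero]
    | tmul b x => exact (h.F_tmul b x).trans (h'.F_tmul b x).symm
    | add z₁ z₂ h₁ h₂ => rw [map_add, map_add, h₁, h₂]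
  subst hF
  have hV : Vinv = Vinv' := by
    apply LinearMap.ext
    rintro ⟨z, hz⟩
    have hz0 : bcQuotMap f D.Q z = 0 := by
      have h3 : z ∈ LinearMap.ker (bcQuotMap f D.Q) := hQeq ▸ hz
      exact h3
    have key : ∃ hz : z ∈ Q, Vinv ⟨z, hz⟩ = Vinv' ⟨z, hz⟩ := by
      refine S16540.ker_induction f D.Q (fun z => ∃ hz : z ∈ Q, Vinv ⟨z, hz⟩ = Vinv' ⟨z, hz⟩)
        ?_ ?_ ?_ ?_ z ((S16540.bcQuotMap_eq f D.Q z).symm.trans hz0)
      · refine ⟨Q.zero_mem, ?_⟩
        have : (⟨0, Q.zero_mem⟩ : Q) = 0 := rfl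
        rw [this, map_zero, map_zero]
      · rintro y y' ⟨hy, e⟩ ⟨hy', e'⟩
        refine ⟨Q.add_mem hy hy', ?_⟩
        have : (⟨y + y', Q.add_mem hy hy'⟩ : Q) = ⟨y, hy⟩ + ⟨y', hy'⟩ := rfl
        rw [this, map_add, map_add, e, e']
      · intro b q
        have hmem : BC.tmul (φ) b (q : P) ∈ Q := by
          rw [hQeq]
          exact Dat.tmul_mem_QR f b q.2
        exact ⟨hmem, (h.Vinv_tmul b q hmem).trans (h'.Vinv_tmul b q hmem).symm⟩
      · intro w x
        have hmem : BC.tmul (φ) (WittVector.verschiebung w) x ∈ Q := by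
          rw [hQeq]
          exact Dat.V_tmul_mem_QR f w x
        exact ⟨hmem, (h.Vinv_verschiebung_tmul w x hmem).trans
          (h'.Vinv_verschiebung_tmul w x hmem).symm⟩
    obtain ⟨_, e⟩ := key
    exact e
  subst hV
  rfl

end

/-- Let p be a prime, S a commutative ring in which every prime number other than p is a unit, f : S → R
a homomorphism of commutative rings, and (P, Q, F, V⁻¹) a 3n-display over S; write σ for the
Frobenius and V for the Verschiebung of the Witt rings. On the W(R)-module P_R = W(R) ⊗_{W(S)} P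
there is exactly one 3n-display structure (P_R, Q_R, F_R, V_R⁻¹) over R such that Q_R is the kernel
of P_R → R ⊗_S (P/Q), F_R(w ⊗ x) = σ(w) ⊗ F x, V_R⁻¹(w ⊗ y) = σ(w) ⊗ V⁻¹ y for y ∈ Q and V_R⁻¹(V(w)
⊗ x) = w ⊗ F x for x ∈ P: the base change of the 3n-display along f is well defined. -/
theorem result (p : ℕ) [Fact p.Prime] (S R : Type u) [CommRing S] [CommRing R]
    (hS : ∀ ℓ : ℕ, ℓ.Prime → ℓ ≠ p → IsUnit (ℓ : S)) (f : S →+* R)
    (P : Type v) [AddCommGroup P] [Module (WittVector p S) P] (D : W4c1extbt610.Display3n p S P) :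
    ∃! DR : W4c1extbt610.Display3n p R (Dieu.BC (WittVector.map f : WittVector p S →+* WittVector p R) P),
      Dieu.IsDispBaseChange f D DR := by
  obtain ⟨d⟩ := exists_dat D
  exact ⟨d.DR f, d.isDispBaseChange f, fun DR' h' => unique_bc f DR' (d.DR f) h' (d.isDispBaseChange f)⟩

end Groth.Agent.S16538
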