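import Groth.Statements.S16539
import Mathlib
import Groth.Prelude.Def_Disp2

set_option autoImplicit false
universe u v
open Disp

namespace Groth.Agent.S16539


open Dieu

section Tw

variable {W : Type u} [CommRing W]

/-- `M` with scalars acting through `τ'`. -/
@[nolint unusedArguments]
def Tw (_τ' : W →+* W) (M : Type v) : Type v := M

variable (τ' : W →+* W) (M : Type v) [AddCommGroup M] [Module W M]

instance : AddCommGroup (Tw τ' M) := inferInstanceAs (AddCommGroup M)

instance : Module W (Tw τ' M) := Module.compHom M τ'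

variable {M}

/-- the identity `M → Tw τ' M`, semilinear along a right inverse `τ` of `τ'`. -/
def φ₀ (τ : W →+* W) (h : ∀ a, τ' (τ a) = a) : M →ₛₗ[τ] Tw τ' M where
  toFun m := m
  map_add' _ _ := rfl
  map_smul' a m := by
    show a • m = τ' (τ a) • m
    rw [h]

lemma retract (τ τ' : W →+* W) (h : ∀ a, τ' (τ a) = a) (c : W) (hc : τ' c = c) (x : M)
    (hx : BC.tmul τ 1 x ∈ Ideal.span {c} • (⊤ : Submodule W (BC τ M))) :
    x ∈ Ideal.span {c} • (⊤ : Submodule W M) := by
  let ρ : BC τ M →ₗ[W] Tw τ' M := BC.lift τ (φ₀ τ' τ h)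
  have key : ∀ z ∈ Ideal.span {c} • (⊤ : Submodule W (BC τ M)),
      (show M from ρ z) ∈ Ideal.span {c} • (⊤ : Submodule W M) := by
    intro z hz
    refine Submodule.smul_induction_on hz ?_ ?_
    · intro a ha z _
      rw [map_smul]
      show τ' a • (show M from ρ z) ∈ _
      obtain ⟨d, rfl⟩ := Ideal.mem_span_singleton'.mp ha
      rw [map_mul, hc]
      exact Submodule.smul_mem_smul (Ideal.mem_span_singleton'.mpr ⟨_, rfl⟩) Submodule.mem_top
    · intro z z' hz hz'
      rw [map_add]
      exact Submodule.add_mem _ hz hz'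
  have := key _ hx
  have e : (show M from ρ (BC.tmul τ 1 x)) = x := by
    show (show M from BC.lift τ (φ₀ τ' τ h) (BC.tmul τ 1 x)) = x
    rw [BC.lift_tmul]
    show τ' 1 • x = x
    rw [map_one, one_smul]
  rwa [e] at this

end Tw

section Main

variable {p : ℕ} [Fact p.Prime] {k : Type u} [CommRing k] [CharP k p] [PerfectRing k p]
variable {M : Type v} [AddCommGroup M] [Module (WittVector p k) M]

local notation "σ" => (WittVector.frobenius : WittVector p k →+* WittVector p k)
/-- inverse Frobenius as a ring hom -/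
noncomputable abbrev sinv (p : ℕ) [Fact p.Prime] (k : Type u) [CommRing k] [CharP k p] [PerfectRing k p] :
    WittVector p k →+* WittVector p k := ((WittVector.frobeniusEquiv p k).symm : WittVector p k →+* WittVector p k)

local notation "σi" => sinv p k

lemma σ_σi (a : WittVector p k) : σ (σi a) = a := (WittVector.frobeniusEquiv p k).apply_symm_apply a

lemma σi_σ (a : WittVector p k) : σi (σ a) = a := (WittVector.frobeniusEquiv p k).symm_apply_apply a

lemma σi_p : σi (p : WittVector p k) = p := map_natCast _ p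

lemma IV_le : W4c1extbt610.IV p k ≤ Ideal.span {(p : WittVector p k)} := by
  rw [W4c1extbt610.IV, Ideal.span_le]
  rintro _ ⟨w, rfl⟩
  have : WittVector.verschiebung w = σi w * p := by
    rw [← WittVector.verschiebung_frobenius, σ_σi]
  rw [this]
  exact Ideal.mem_span_singleton'.mpr ⟨_, rfl⟩

/-- the operator `m ↦ 1 ⊗ V m`. -/
noncomputable def Vs₀ (Dm : DieuMod p k M) : M →ₗ[WittVector p k] BC σ M where
  toFun m := BC.tmul σ 1 (Dm.V m)
  map_add' x y := by rw [map_add, BC.tmul_add]
  map_smul' a m := by
    rw [map_smulₛₗ, ← BC.tmul_apply_eq, σ_σi, RingHom.id_apply, BC.tmul_eq_smul_tmul_one]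

lemma Vs₀_apply (Dm : DieuMod p k M) (m : M) : Vs₀ Dm m = BC.tmul σ 1 (Dm.V m) := rfl

lemma vSharpPow_Vs₀ (Dm : DieuMod p k M) (n : ℕ) (m : M) :
    vSharpPow (Vs₀ Dm) n m = BC.tmul (σ ^ (n + 1)) 1 ((⇑Dm.V)^[n + 1] m) := by
  induction n generalizing m with
  | zero =>
    rw [vSharpPow_zero_apply, Vs₀_apply, BC.castHom_tmul, Function.iterate_one]
  | succ n ih =>
    rw [vSharpPow_succ_apply, Vs₀_apply, BC.map_tmul, ih, BC.lift_tmul, BC.push_tmul,
      BC.smul_tmul, BC.castHom_tmul, map_one, one_mul, ← Function.iterate_succ_apply]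

lemma tmul_mem (τ : WittVector p k →+* WittVector p k) (x : M)
    (hx : x ∈ Ideal.span {(p : WittVector p k)} • (⊤ : Submodule (WittVector p k) M)) :
    BC.tmul τ 1 x ∈ Ideal.span {(p : WittVector p k)} •
      (⊤ : Submodule (WittVector p k) (BC τ M)) := by
  refine Submodule.smul_induction_on hx ?_ ?_
  · intro a ha m _
    obtain ⟨d, rfl⟩ := Ideal.mem_span_singleton'.mp ha
    rw [← BC.tmul_apply_eq, map_mul, map_natCast, mul_comm, BC.tmul_eq_smul_tmul_one, mul_smul]
    exact Submodule.smul_mem_smul (Ideal.mem_span_singleton_self _) Submodule.mem_top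
  · intro m m' hm hm'
    rw [BC.tmul_add]
    exact Submodule.add_mem _ hm hm'

lemma iterate_V_smul (Dm : DieuMod p k M) (n : ℕ) (a : WittVector p k) (m : M) :
    (⇑Dm.V)^[n] (a • m) = ((⇑σi)^[n] a) • (⇑Dm.V)^[n] m := by
  induction n generalizing a m with
  | zero => rfl
  | succ n ih =>
    rw [Function.iterate_succ_apply, map_smulₛₗ, ih, Function.iterate_succ_apply,
      Function.iterate_succ_apply]

lemma iterate_V_add (Dm : DieuMod p k M) (n : ℕ) (m m' : M) :
    (⇑Dm.V)^[n] (m + m') = (⇑Dm.V)^[n] m + (⇑Dm.V)^[n] m' := by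
  induction n generalizing m m' with
  | zero => rfl
  | succ n ih =>
    rw [Function.iterate_succ_apply, map_add, ih, Function.iterate_succ_apply,
      Function.iterate_succ_apply]

lemma iterate_σi_p (n : ℕ) : (⇑σi)^[n] (p : WittVector p k) = p :=
  Function.iterate_fixed σi_p n

lemma iterate_V_mem (Dm : DieuMod p k M) (n e : ℕ)
    (h : ∀ m : M, (⇑Dm.V)^[n] m ∈
      (Ideal.span {(p : WittVector p k)} ^ e) • (⊤ : Submodule (WittVector p k) M))
    (x : M) (hx : x ∈ Ideal.span {(p : WittVector p k)} • (⊤ : Submodule (WittVector p k) M)) :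
    (⇑Dm.V)^[n] x ∈
      (Ideal.span {(p : WittVector p k)} ^ (e + 1)) • (⊤ : Submodule (WittVector p k) M) := by
  refine Submodule.smul_induction_on hx ?_ ?_
  · intro a ha m _
    obtain ⟨d, rfl⟩ := Ideal.mem_span_singleton'.mp ha
    rw [iterate_V_smul]
    have : (⇑σi)^[n] (d * (p : WittVector p k)) = (⇑σi)^[n] d * p := by
      have h1 : ∀ (n : ℕ) (d : WittVector p k),
          (⇑σi)^[n] (d * (p : WittVector p k)) = (⇑σi)^[n] d * p := by
        intro n
        induction n with
        | zero => intro d; rfl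
        | succ n ih =>
          intro d
          rw [Function.iterate_succ_apply, map_mul, σi_p, ih, Function.iterate_succ_apply]
      exact h1 n d
    rw [this, mul_comm, mul_smul, pow_succ', Submodule.mul_smul]
    exact Submodule.smul_mem_smul (Ideal.mem_span_singleton_self _)
      (Submodule.smul_mem _ _ (h m))
  · intro m m' hm hm'
    rw [iterate_V_add]
    exact Submodule.add_mem _ hm hm'

end Main

/-- Let p be a prime, k a perfect commutative ring of characteristic p, W = W(k) with Frobenius
automorphism σ, and M a finitely generated projective W-module carrying a Dieudonné module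
structure, a σ-semilinear F and a σ⁻¹-semilinear V with FV = VF = p. Let D be the associated
3n-display (M, VM, F, V⁻¹): the 3n-display structure on M whose submodule is the image of V, whose
Frobenius operator is F and whose inverse operator sends V m to m. Then D is a display, i.e. its
operator V# satisfies the nilpotence condition, if and only if V is topologically nilpotent for the
p-adic topology on M: for every e some power of V maps M into p^e M. -/
theorem result (p : ℕ) [Fact p.Prime] (k : Type u) [CommRing k]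
    [CharP k p] [PerfectRing k p]
    (M : Type v) [AddCommGroup M] [Module (WittVector p k) M] [Module.Finite (WittVector p k) M]
    [Module.Projective (WittVector p k) M] (Dm : Dieu.DieuMod p k M) (D : W4c1extbt610.Display3n p k M)
    (hF : D.F = Dm.F) (hQ : ∀ x : M, x ∈ D.Q ↔ x ∈ Set.range Dm.V)
    (hV : ∀ (m : M) (h : Dm.V m ∈ D.Q), D.Vinv ⟨Dm.V m, h⟩ = m) :
    Dieu.IsDisplay D ↔ Dm.VTopNilp := by
  have hVs₀ : IsVSharp D (Vs₀ Dm) := by
    constructor
    · intro w x
      rw [map_smul, Vs₀_apply, hF, Dm.V_F, ← BC.tmul_apply_eq, map_natCast,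
        BC.tmul_eq_smul_tmul_one _ w x, BC.tmul_eq_smul_tmul_one _ (p : WittVector p k) x, smul_comm]
    · intro w y
      obtain ⟨m, hm⟩ := (hQ y.1).mp y.2
      have hy : y = ⟨Dm.V m, (hQ _).mpr ⟨m, rfl⟩⟩ := Subtype.ext hm.symm
      rw [hy, hV, map_smul, Vs₀_apply, BC.tmul_eq_smul_tmul_one _ w]
  constructor
  · rintro ⟨Vs, hVs, N, hN⟩
    have hVsEq : Vs = Vs₀ Dm := by
      apply LinearMap.ext_on D.span_range_Vinv
      rintro _ ⟨y, rfl⟩
      have h1 := hVs.app_smul_Vinv 1 y
      have h2 := hVs₀.app_smul_Vinv 1 y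
      rw [one_smul] at h1 h2
      rw [h1, h2]
    subst hVsEq
    -- V^(N+1) M ⊆ p M
    have hpM : ∀ m : M, (⇑Dm.V)^[N + 1] m ∈
        Ideal.span {(p : WittVector p k)} • (⊤ : Submodule (WittVector p k) M) := by
      intro m
      have h1 := hN m
      rw [vSharpPow_Vs₀] at h1
      have hle : W4c1extbt610.IV p k ⊔ Ideal.span {(p : WittVector p k)} ≤
          Ideal.span {(p : WittVector p k)} := sup_le IV_le le_rfl
      have h2 := Submodule.smul_mono_left hle h1
      refine retract (WittVector.frobenius ^ (N + 1))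
        (((WittVector.frobeniusEquiv p k).symm : WittVector p k →+* WittVector p k) ^ (N + 1))
        ?_ _ ?_ _ h2
      · intro a
        rw [RingHom.coe_pow, RingHom.coe_pow]
        exact Function.LeftInverse.iterate σi_σ (N + 1) a
      · rw [RingHom.coe_pow]
        exact iterate_σi_p (N + 1)
    intro e
    induction e with
    | zero =>
      refine ⟨0, fun m => ?_⟩
      rw [pow_zero, Ideal.one_eq_top, Submodule.top_smul]
      trivial
    | succ e ih =>
      obtain ⟨n, hn⟩ := ih
      refine ⟨n + (N + 1), fun m => ?_⟩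
      rw [Function.iterate_add_apply]
      exact iterate_V_mem Dm n e hn _ (hpM m)
  · intro h
    obtain ⟨n, hn⟩ := h 1
    refine ⟨Vs₀ Dm, hVs₀, n, fun m => ?_⟩
    rw [vSharpPow_Vs₀, Function.iterate_succ_apply]
    have := hn (Dm.V m)
    rw [pow_one] at this
    exact Submodule.smul_mono_left le_sup_right (tmul_mem _ _ this)

end Groth.Agent.S16539
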