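import Groth.Statements.S1654
import Groth.Agent.Lib.Helper4.FinLevel

set_option autoImplicit false
universe u
open CategoryTheory CategoryTheory.Limits AlgebraicGeometry
open Variety

namespace Groth.Agent.S1654

/-- Let X be a k-scheme locally of finite type, having only finitely many irreducible components. There
is then a finite separable extension k' of k such that every irreducible component of X_{k'}, with
its reduced induced structure, is geometrically irreducible over k'. -/
theorem result (k : Type u) [Field k] (X : Scheme.{u}) [X.Over (Spec (CommRingCat.of k))] [LocallyOfFiniteType (X ↘ (Spec (CommRingCat.of k)))]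
    (hirr : (irreducibleComponents (X : Type u)).Finite) :
    ∃ (k' : Type u) (_ : Field k') (_ : Algebra k k'), FiniteDimensional k k' ∧ Algebra.IsSeparable k k' ∧
      ∀ (T : Set (Curv2.bc k X k')) (hT : T ∈ irreducibleComponents (Curv2.bc k X k' : Type u)),
        GeometricallyIrreducible
          ((Scheme.IdealSheafData.vanishingIdeal ⟨T, isClosed_of_mem_irreducibleComponents T hT⟩).subschemeι ≫
            Curv2.bcSnd k X k') := by
  set f := X ↘ Spec (CommRingCat.of k) with hf
  haveI : Algebra.IsAlgebraic k (SeparableClosure k) :=
    Algebra.IsSeparable.isAlgebraic k (SeparableClosure k)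
  haveI : IsLocallyNoetherian (Spec (CommRingCat.of (SeparableClosure k))) := inferInstance
  haveI : IsLocallyNoetherian (pullback f
      (Groth.Agent.Helper4.BCTower.yK (k := k) (SeparableClosure k))) := inferInstance
  have hfin : (irreducibleComponents ↥(pullback f
      (Groth.Agent.Helper4.GeomConnFin.yK (k := k) (SeparableClosure k)))).Finite := by
    refine (Set.Finite.biUnion hirr (fun T hT =>
      Groth.Agent.Helper4.IrrCompBC.finite_over f (SeparableClosure k) hT)).subset ?_
    intro T' hT'
    exact Set.mem_biUnion
      (Groth.Agent.Helper4.BCTower.image_fst_mem_irreducibleComponents f (SeparableClosure k) hT')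
      ⟨hT', le_rfl⟩
  obtain ⟨E, hE, hirrE⟩ :=
    Groth.Agent.Helper4.FinLevel.exists_finite_level_irreducible (SeparableClosure k) f hfin
  haveI := hE
  haveI : Algebra.IsSeparable k E :=
    Algebra.isSeparable_tower_bot_of_isSeparable k E (SeparableClosure k)
  refine ⟨↥E, inferInstance, inferInstance, hE, inferInstance, fun T hT => ?_⟩
  have hr : Set.range (Scheme.IdealSheafData.vanishingIdeal
      ⟨T, isClosed_of_mem_irreducibleComponents T hT⟩).subschemeι.base = T := by
    rw [Scheme.IdealSheafData.range_subschemeι,
      Scheme.IdealSheafData.coe_support_vanishingIdeal]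
    rfl
  have h1 := hirrE T hT
  rw [← hr] at h1
  exact Groth.Agent.Helper4.FinLevel.geometricallyIrreducible_of_bc (Curv2.bcSnd k X ↥E)
    (SeparableClosure k) _ h1

end Groth.Agent.S1654
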