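import Groth.Statements.S16541
import Mathlib

set_option autoImplicit false
universe u v
open CAlg

namespace Groth.Agent.S16541


open TensorProduct Dieu

section Abstract
variable {A : Type*} {B : Type*} {Cc : Type*} [CommRing A] [CommRing B] [CommRing Cc]
  (g : A →+* B) (h₁ h₂ : B →+* Cc) (e : h₁.comp g = h₂.comp g)
  (M : Type*) [AddCommGroup M] [Module A M]

/-- `g` as an `A`-linear map `A → Res g` -/
def phi : A →ₗ[A] Res g where
  toFun a := Res.mk g (g a)
  map_add' a b := by apply Res.ext; simp
  map_smul' a b := by apply Res.ext; simp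

include e in
theorem e_apply (a : A) : h₁ (g a) = h₂ (g a) := by
  have := congrArg (fun f : A →+* Cc => f a) e
  simpa using this

/-- the difference `h₁ - h₂` as an `A`-linear map -/
def dd : Res g →ₗ[A] Res (h₂.comp g) where
  toFun t := Res.mk (h₂.comp g) (h₁ t.val - h₂ t.val)
  map_add' s t := by apply Res.ext; simp; ring
  map_smul' a t := by
    apply Res.ext
    simp only [Res.val_smul, Res.val_mk, map_mul, RingHom.id_apply, RingHom.comp_apply]
    rw [e_apply g h₁ h₂ e a]
    ring

/-- the identity, as an additive equivalence to the tensor product -/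
def toT : BC g M ≃+ Res g ⊗[A] M where
  toFun z := z
  invFun z := z
  left_inv _ := rfl
  right_inv _ := rfl
  map_add' _ _ := rfl

theorem toT_tmul (b : B) (x : M) : toT g M (BC.tmul g b x) = (Res.mk g b) ⊗ₜ[A] x := rfl

theorem key (z : BC g M) :
    toT (h₂.comp g) M (BC.castHom e (BC.push g h₁ z) - BC.push g h₂ z) =
      (dd g h₁ h₂ e).rTensor M (toT g M z) := by
  induction z using BC.induction_on g with
  | zero => simp
  | tmul b x =>
    rw [BC.push_tmul, BC.push_tmul, BC.castHom_tmul, map_sub, toT_tmul, toT_tmul, toT_tmul,
      LinearMap.rTensor_tmul, ← TensorProduct.sub_tmul]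
    rfl
  | add z₁ z₂ h1 h2 =>
    have e1 : BC.castHom e (BC.push g h₁ (z₁ + z₂)) - BC.push g h₂ (z₁ + z₂) =
        (BC.castHom e (BC.push g h₁ z₁) - BC.push g h₂ z₁) +
          (BC.castHom e (BC.push g h₁ z₂) - BC.push g h₂ z₂) := by
      rw [map_add, map_add, map_add]
      abel
    rw [e1, map_add, map_add (toT g M), map_add, h1, h2]

theorem iota_eq (x : M) :
    toT g M (BC.ι g M x) = (phi g).rTensor M ((TensorProduct.lid A M).symm x) := by
  rw [TensorProduct.lid_symm_apply, LinearMap.rTensor_tmul, BC.ι_apply, toT_tmul]
  change (Res.mk g 1) ⊗ₜ[A] x = (Res.mk g (g 1)) ⊗ₜ[A] x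
  rw [map_one]

theorem abstract [Module.Flat A M] (hinj : Function.Injective g)
    (hex : ∀ y : B, h₁ y = h₂ y → y ∈ Set.range g) :
    Function.Injective (BC.ι g M) ∧
      ∀ z : BC g M, (BC.castHom e (BC.push g h₁ z) = BC.push g h₂ z ↔
        z ∈ Set.range (BC.ι g M)) := by
  have hexact : Function.Exact (phi g) (dd g h₁ h₂ e) := by
    intro t
    constructor
    · intro ht
      have h0 : h₁ t.val - h₂ t.val = 0 := ht
      obtain ⟨a, ha⟩ := hex t.val (sub_eq_zero.mp h0)
      exact ⟨a, ha⟩
    · rintro ⟨a, rfl⟩
      apply Res.ext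
      change h₁ (g a) - h₂ (g a) = 0
      rw [e_apply g h₁ h₂ e a, sub_self]
  have hexact' := Module.Flat.rTensor_exact M hexact
  have hphi : Function.Injective (phi g) := fun a b hab => hinj hab
  constructor
  · intro x y hxy
    have hxy' := congrArg (toT g M) hxy
    rw [iota_eq, iota_eq] at hxy'
    exact (TensorProduct.lid A M).symm.injective
      (Module.Flat.rTensor_preserves_injective_linearMap (M := M) (phi g) hphi hxy')
  · intro z
    constructor
    · intro hz
      have h0 : (dd g h₁ h₂ e).rTensor M (toT g M z) = 0 := by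
        rw [← key, hz, sub_self, map_zero]
      obtain ⟨y, hy⟩ := (hexact' (toT g M z)).1 h0
      refine ⟨TensorProduct.lid A M y, ?_⟩
      apply (toT g M).injective
      rw [iota_eq, LinearEquiv.symm_apply_apply]
      exact hy
    · rintro ⟨x, rfl⟩
      simp

end Abstract

/-- Let p be a prime, S → R a faithfully flat homomorphism of commutative rings and M a flat
W(S)-module; write ι₁, ι₂ : R → R ⊗_S R for the two coprojections, M_R = W(R) ⊗_{W(S)} M and M_{R ⊗
R} = W(R ⊗_S R) ⊗_{W(S)} M for the scalar extensions along W(S) → W(R) and W(S) → W(R ⊗_S R). Then 0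
→ M → M_R ⇉ M_{R ⊗ R} is exact: the map x ↦ 1 ⊗ x from M to M_R is injective, and an element of M_R
has the same image under the two maps w ⊗ x ↦ W(ι₁)(w) ⊗ x and w ⊗ x ↦ W(ι₂)(w) ⊗ x exactly when it
is of the form 1 ⊗ x. The hypothesis e records that the two composite ring maps W(S) → W(R) → W(R
⊗_S R) agree (both coprojections are S-algebra maps); it serves to identify the two targets. -/
theorem result (p : ℕ) [Fact p.Prime]
    (S R : Type u) [CommRing S] [CommRing R] [Algebra S R] [Module.FaithfullyFlat S R]
    (M : Type v) [AddCommGroup M] [Module (WittVector p S) M] [Module.Flat (WittVector p S) M]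
    (e : (WittVector.map (Algebra.TensorProduct.includeLeftRingHom : R →+* TensorProduct S R R) : WittVector p R →+* WittVector p (TensorProduct S R R)).comp (WittVector.map (algebraMap S R) : WittVector p S →+* WittVector p R) = (WittVector.map ((Algebra.TensorProduct.includeRight : R →ₐ[S] TensorProduct S R R) : R →+* TensorProduct S R R) : WittVector p R →+* WittVector p (TensorProduct S R R)).comp (WittVector.map (algebraMap S R) : WittVector p S →+* WittVector p R)) :
    Function.Injective (Dieu.BC.ι (WittVector.map (algebraMap S R) : WittVector p S →+* WittVector p R) M) ∧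
      ∀ z : Dieu.BC (WittVector.map (algebraMap S R) : WittVector p S →+* WittVector p R) M,
        (Dieu.BC.castHom e (Dieu.BC.push (WittVector.map (algebraMap S R) : WittVector p S →+* WittVector p R) (WittVector.map (Algebra.TensorProduct.includeLeftRingHom : R →+* TensorProduct S R R) : WittVector p R →+* WittVector p (TensorProduct S R R)) z) = Dieu.BC.push (WittVector.map (algebraMap S R) : WittVector p S →+* WittVector p R) (WittVector.map ((Algebra.TensorProduct.includeRight : R →ₐ[S] TensorProduct S R R) : R →+* TensorProduct S R R) : WittVector p R →+* WittVector p (TensorProduct S R R)) z ↔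
          z ∈ Set.range (Dieu.BC.ι (WittVector.map (algebraMap S R) : WittVector p S →+* WittVector p R) M)) := by
  apply abstract
  · intro a b hab
    ext n
    have := congrArg (fun z => z.coeff n) hab
    simp only [WittVector.map_coeff] at this
    exact FaithfulSMul.algebraMap_injective S R this
  · intro y hy
    have heff := Algebra.IsEffective.of_faithfullyFlat S R
    have hcoef : ∀ n : ℕ, ∃ r : S, algebraMap S R r = y.coeff n := by
      intro n
      have := congrArg (fun z => z.coeff n) hy
      simp only [WittVector.map_coeff] at this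
      have h3 : Algebra.TensorProduct.includeLeftSubRight S R (y.coeff n) = 0 := by
        rw [Algebra.TensorProduct.includeLeftSubRight_apply, sub_eq_zero]
        exact this
      obtain ⟨r, hr⟩ := (heff (y.coeff n)).1 h3
      exact ⟨r, hr⟩
    choose r hr using hcoef
    refine ⟨WittVector.mk p r, ?_⟩
    ext n
    rw [WittVector.map_coeff, WittVector.coeff_mk, hr]

end Groth.Agent.S16541
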