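import Groth.Statements.S16542
import Mathlib.RingTheory.Flat.FaithfullyFlat.Algebra
import Mathlib.RingTheory.WittVector.Domain
import Mathlib.RingTheory.WittVector.Teichmuller

set_option autoImplicit false
universe u v
open Disp

namespace Groth.Agent.S16542

open TensorProduct

theorem inj_of_ff {A S R : Type*} [CommRing A] [CommRing S] [CommRing R] [Algebra S R]
    [Module.FaithfullyFlat S R] (π : A →+* S) (hπ : Function.Surjective π)
    {M : Type*} [AddCommGroup M] [Module A M] (hker : ∀ a ∈ RingHom.ker π, ∀ m : M, a • m = 0)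
    (g : A →+* R) (hg : g = (algebraMap S R).comp π)
    (m : M) (h : Dieu.BC.tmul g 1 m = 0) : m = 0 := by
  classical
  subst hg
  letI : SMul S M := ⟨fun s m => Function.surjInv hπ s • m⟩
  have hsmul : ∀ (c : A) (x : M), π c • x = c • x := by
    intro c x
    show Function.surjInv hπ (π c) • x = c • x
    have h1 : Function.surjInv hπ (π c) - c ∈ RingHom.ker π := by
      rw [RingHom.mem_ker, map_sub, Function.surjInv_eq hπ, sub_self]
    have h2 := hker _ h1 x
    rwa [sub_smul, sub_eq_zero] at h2
  letI : Module S M := Function.Surjective.moduleLeft π hπ hsmul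
  let φ : M →ₛₗ[(algebraMap S R).comp π] (R ⊗[S] M) :=
    { toFun := fun m => (1 : R) ⊗ₜ[S] m
      map_add' := TensorProduct.tmul_add 1
      map_smul' := fun a m => by
        rw [← hsmul a m, TensorProduct.tmul_smul, RingHom.comp_apply, algebraMap_smul] }
  have h3 := congrArg (Dieu.BC.lift _ φ) h
  rw [Dieu.BC.lift_tmul, one_smul, map_zero] at h3
  exact Module.FaithfullyFlat.tensorProduct_mk_injective (A := S) (B := R) M
    (h3.trans (map_zero _).symm)

/-- Let p be a prime, S → R a faithfully flat homomorphism of commutative rings with p nilpotent in S,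
(P, Q, F, V⁻¹) a display over S, and (P_R, Q_R, F_R, V_R⁻¹) a 3n-display structure on P_R = W(R)
⊗_{W(S)} P which is its base change along S → R (Q_R the kernel of P_R → R ⊗_S (P/Q), F_R(w ⊗ x) =
σ(w) ⊗ F x, V_R⁻¹(w ⊗ y) = σ(w) ⊗ V⁻¹ y for y ∈ Q, V_R⁻¹(V(w) ⊗ x) = w ⊗ F x). Then for x ∈ P one
has x ∈ Q if and only if 1 ⊗ x ∈ Q_R: together with the exactness of 0 → P → P_R ⇉ P_{R ⊗ R} this is
the exactness of 0 → Q → Q_R ⇉ Q_{R ⊗ R} at Q. -/
theorem result (p : ℕ) [Fact p.Prime]
    (S R : Type u) [CommRing S] [CommRing R] [Algebra S R] [Module.FaithfullyFlat S R] (hp : IsNilpotent (p : S))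
    (P : Type v) [AddCommGroup P] [Module (WittVector p S) P] (D : W4c1extbt610.Display3n p S P)
    (hD : Dieu.IsDisplay D)
    (DR : W4c1extbt610.Display3n p R (Dieu.BC (WittVector.map (algebraMap S R) : WittVector p S →+* WittVector p R) P))
    (hDR : Dieu.IsDispBaseChange (algebraMap S R) D DR) (x : P) :
    x ∈ D.Q ↔ Dieu.BC.ι (WittVector.map (algebraMap S R) : WittVector p S →+* WittVector p R) P x ∈ DR.Q := by
  rw [hDR.Q_eq, LinearMap.mem_ker, Dieu.BC.ι_apply, Dieu.bcQuotMap_tmul, map_one]
  constructor
  · intro hx
    have : D.Q.mkQ x = 0 := (Submodule.Quotient.mk_eq_zero D.Q).mpr hx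
    rw [this]
    exact Dieu.BC.tmul_zero _ _
  · intro h
    have hπ : Function.Surjective (WittVector.constantCoeff : WittVector p S →+* S) := by
      intro s
      exact ⟨WittVector.teichmuller p s, by
        show (WittVector.teichmuller p s).coeff 0 = s
        exact WittVector.teichmuller_coeff_zero p s⟩
    have hker : ∀ a ∈ RingHom.ker (WittVector.constantCoeff : WittVector p S →+* S),
        ∀ m : P ⧸ D.Q, a • m = 0 := by
      intro a ha m
      obtain ⟨y, rfl⟩ := D.Q.mkQ_surjective m
      rw [← map_smul, Submodule.mkQ_apply, Submodule.Quotient.mk_eq_zero]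
      apply D.IV_smul_le
      refine Submodule.smul_mem_smul ?_ Submodule.mem_top
      have h0 : a.coeff 0 = 0 := ha
      have : a = WittVector.verschiebung (a.shift 1) := by
        have := WittVector.eq_iterate_verschiebung (x := a) (n := 1) (by
          intro i hi
          interval_cases i
          exact h0)
        simpa using this
      rw [this]
      exact W4c1extbt610.verschiebung_mem_IV p S _
    have hx := inj_of_ff (WittVector.constantCoeff : WittVector p S →+* S) hπ hker
      ((WittVector.constantCoeff : WittVector p R →+* R).comp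
        (WittVector.map (algebraMap S R) : WittVector p S →+* WittVector p R))
      (by
        ext w
        show (WittVector.map (algebraMap S R) w).coeff 0 = algebraMap S R (w.coeff 0)
        rw [WittVector.map_coeff]) (D.Q.mkQ x) h
    exact (Submodule.Quotient.mk_eq_zero D.Q).mp hx

end Groth.Agent.S16542
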