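import Groth.Statements.S16546
import Mathlib
import Groth.Prelude.Def_Disp2
import Groth.Agent.Lib.Helper24.DispMat

set_option autoImplicit false
universe u v w
open Disp

namespace Groth.Agent.S16546


open Dieu Groth.Agent.Helper24.DispComp Groth.Agent.Helper24.DispSemi Groth.Agent.Helper24.DispMat

section Setup

variable {p : ℕ} [Fact p.Prime] {R : Type u} [CommRing R]
variable {P : Type v} [AddCommGroup P] [Module (WittVector p R) P]

local notation "σ" => (WittVector.frobenius : WittVector p R →+* WittVector p R)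

/-- `F = p V⁻¹` on `Q`. -/
lemma F_eq_p_Vinv (D : W4c1extbt610.Display3n p R P) (y : D.Q) :
    D.F (y : P) = (p : WittVector p R) • D.Vinv y := by
  have h := D.Vinv_verschiebung_smul 1 (y : P)
  rw [one_smul] at h
  rw [← h]
  have : (⟨WittVector.verschiebung (1 : WittVector p R) • (y : P),
      D.IV_smul_le (Submodule.smul_mem_smul (W4c1extbt610.verschiebung_mem_IV p R 1)
        Submodule.mem_top)⟩ : D.Q) = WittVector.verschiebung (1 : WittVector p R) • y :=
    Subtype.ext rfl
  rw [this, map_smulₛₗ, WittVector.frobenius_verschiebung, one_mul]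

variable {L T : Submodule (WittVector p R) P} (hLT : IsCompl L T)
variable {ιT ιL : Type w} [Fintype ιT] [Fintype ιL] [DecidableEq ιT] [DecidableEq ιL]
variable (bT : Module.Basis ιT (WittVector p R) T) (bL : Module.Basis ιL (WittVector p R) L)

/-- The basis of `P` formed by the `t_j` followed by the `l_k`. -/
noncomputable def eB : Module.Basis (ιT ⊕ ιL) (WittVector p R) P :=
  (bT.prod bL).map (Submodule.prodEquivOfIsCompl T L hLT.symm)

lemma eB_apply (i : ιT ⊕ ιL) :
    eB hLT bT bL i = Sum.elim (fun a : ιT => (bT a : P)) (fun a : ιL => (bL a : P)) i := by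
  cases i with
  | inl j => simp [eB]
  | inr k => simp [eB]

end Setup

section Main

variable {p : ℕ} [Fact p.Prime] {R : Type u} [CommRing R]
variable {P : Type v} [AddCommGroup P] [Module (WittVector p R) P]
variable {ι : Type w} [Fintype ι] [DecidableEq ι] (e : Module.Basis ι (WittVector p R) P)

local notation "σ" => (WittVector.frobenius : WittVector p R →+* WittVector p R)

/-- The matrix of `V^#`. -/
noncomputable def vMat (eps : ι → WittVector p R) (β : Matrix ι ι (WittVector p R)) : Matrix ι ι (WittVector p R) :=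
  Matrix.of fun c i => eps c * β c i

lemma Vs_col (eps : ι → WittVector p R) (α β : Matrix ι ι (WittVector p R)) (hβα : β * α = 1)
    (c' : ι) :
    ofMat e σ (vMat eps β) (∑ i, α i c' • e i) = BC.tmul σ (eps c') (e c') := by
  rw [map_sum]
  simp only [map_smul, ofMat_basis, Finset.smul_sum, BC.smul_tmul]
  rw [Finset.sum_comm]
  simp only [← sum_tmul]
  rw [Finset.sum_eq_single c']
  · congr 1
    have h1 : ∑ i, α i c' * vMat eps β c' i = eps c' * (β * α) c' c' := by
      rw [Matrix.mul_apply, Finset.mul_sum]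
      refine Finset.sum_congr rfl fun i _ => ?_
      simp only [vMat, Matrix.of_apply]
      ring
    rw [h1, hβα, Matrix.one_apply_eq, mul_one]
  · intro c _ hc
    have h1 : ∑ i, α i c' * vMat eps β c i = eps c * (β * α) c c' := by
      rw [Matrix.mul_apply, Finset.mul_sum]
      refine Finset.sum_congr rfl fun i _ => ?_
      simp only [vMat, Matrix.of_apply]
      ring
    rw [h1, hβα, Matrix.one_apply_ne hc, mul_zero, BC.zero_tmul]
  · intro h
    exact absurd (Finset.mem_univ c') h

end Main

section VSharp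

variable {p : ℕ} [Fact p.Prime] {R : Type u} [CommRing R]
variable {P : Type v} [AddCommGroup P] [Module (WittVector p R) P]
variable {ιT ιL : Type w} [Fintype ιT] [Fintype ιL] [DecidableEq ιT] [DecidableEq ιL]
variable (e : Module.Basis (ιT ⊕ ιL) (WittVector p R) P)

local notation "σ" => (WittVector.frobenius : WittVector p R →+* WittVector p R)

/-- `p` on `T`-indices, `1` on `L`-indices. -/
noncomputable def eps : ιT ⊕ ιL → WittVector p R :=
  Sum.elim (fun _ => (p : WittVector p R)) (fun _ => 1)

variable (D : W4c1extbt610.Display3n p R P) (hL : ∀ k : ιL, e (Sum.inr k) ∈ D.Q)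
  (hQ : D.Q ≤ Submodule.span (WittVector p R)
    (Set.range (fun k : ιL => e (Sum.inr k)) ∪
      Set.range (fun wj : WittVector p R × ιT => WittVector.verschiebung wj.1 • e (Sum.inl wj.2))))
  (α β : Matrix (ιT ⊕ ιL) (ιT ⊕ ιL) (WittVector p R)) (hβα : β * α = 1)
  (hF : ∀ j : ιT, D.F (e (Sum.inl j)) = ∑ i, α i (Sum.inl j) • e i)
  (hV : ∀ k : ιL, D.Vinv ⟨e (Sum.inr k), hL k⟩ = ∑ i, α i (Sum.inr k) • e i)

include hβα hF hV in
lemma Vs_F_basis (i : ιT ⊕ ιL) :
    ofMat e σ (vMat eps β) (D.F (e i)) = (p : WittVector p R) • BC.tmul σ 1 (e i) := by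
  cases i with
  | inl j =>
    rw [hF, Vs_col e eps α β hβα]
    rw [BC.tmul_eq_smul_tmul_one]
    rfl
  | inr k =>
    have h := F_eq_p_Vinv D ⟨e (Sum.inr k), hL k⟩
    rw [hV] at h
    change D.F (e (Sum.inr k)) = _ at h
    rw [h, map_smul, Vs_col e eps α β hβα]
    rfl

include hβα hF hV in
lemma Vs_F (x : P) :
    ofMat e σ (vMat eps β) (D.F x) = (p : WittVector p R) • BC.tmul σ 1 x := by
  have h : (ofMat e σ (vMat eps β)).comp D.F = (p : WittVector p R) • BC.ι σ P := by
    apply e.ext
    intro i
    exact Vs_F_basis e D hL α β hβα hF hV i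
  exact LinearMap.congr_fun h x

include hQ hβα hF hV in
lemma Vs_Vinv (y : P) (hy : y ∈ D.Q) :
    ofMat e σ (vMat eps β) (D.Vinv ⟨y, hy⟩) = BC.tmul σ 1 y := by
  have key : ∀ y ∈ Submodule.span (WittVector p R)
      (Set.range (fun k : ιL => e (Sum.inr k)) ∪
        Set.range (fun wj : WittVector p R × ιT =>
          WittVector.verschiebung wj.1 • e (Sum.inl wj.2))),
      ∃ hy : y ∈ D.Q, ofMat e σ (vMat eps β) (D.Vinv ⟨y, hy⟩) = BC.tmul σ 1 y := by
    intro y hy
    induction hy using Submodule.span_induction with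
    | mem y hy =>
      rcases hy with ⟨k, rfl⟩ | ⟨⟨w, j⟩, rfl⟩
      · refine ⟨hL k, ?_⟩
        rw [hV, Vs_col e eps α β hβα]
        rfl
      · refine ⟨D.IV_smul_le (Submodule.smul_mem_smul (W4c1extbt610.verschiebung_mem_IV p R w)
          Submodule.mem_top), ?_⟩
        rw [D.Vinv_verschiebung_smul, map_smul, Vs_F e D hL α β hβα hF hV,
          ← BC.tmul_mul_apply, WittVector.frobenius_verschiebung, one_mul, smul_comm,
          BC.smul_tmul, mul_one]
        rw [BC.tmul_eq_smul_tmul_one (σ) (w * p), mul_comm, mul_smul]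
        rw [← BC.tmul_eq_smul_tmul_one]
    | zero =>
      refine ⟨D.Q.zero_mem, ?_⟩
      have : (⟨0, D.Q.zero_mem⟩ : D.Q) = 0 := rfl
      rw [this, map_zero, map_zero, BC.tmul_zero]
    | add y₁ y₂ _ _ h₁ h₂ =>
      obtain ⟨hy₁, e₁⟩ := h₁
      obtain ⟨hy₂, e₂⟩ := h₂
      refine ⟨D.Q.add_mem hy₁ hy₂, ?_⟩
      have : (⟨y₁ + y₂, D.Q.add_mem hy₁ hy₂⟩ : D.Q) = ⟨y₁, hy₁⟩ + ⟨y₂, hy₂⟩ := rfl
      rw [this, map_add, map_add, e₁, e₂, BC.tmul_add]
    | smul a y _ h =>
      obtain ⟨hy, e₁⟩ := h
      refine ⟨D.Q.smul_mem a hy, ?_⟩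
      have : (⟨a • y, D.Q.smul_mem a hy⟩ : D.Q) = a • ⟨y, hy⟩ := rfl
      rw [this, map_smulₛₗ, map_smul, e₁, ← BC.tmul_mul_apply, one_mul, BC.smul_tmul, mul_one]
  obtain ⟨_, h⟩ := key y (hQ hy)
  exact h

include hQ hβα hF hV in
theorem isVSharp_ofMat : IsVSharp D (ofMat e σ (vMat eps β)) where
  app_smul_F w x := by
    rw [map_smul, Vs_F e D hL α β hβα hF hV, smul_comm, BC.smul_tmul, mul_one]
  app_smul_Vinv w y := by
    have : y = ⟨(y : P), y.2⟩ := rfl
    rw [map_smul, this, Vs_Vinv e D hL hQ α β hβα hF hV, BC.smul_tmul, mul_one]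

end VSharp

section Unique

variable {p : ℕ} [Fact p.Prime] {R : Type u} [CommRing R]
variable {P : Type v} [AddCommGroup P] [Module (WittVector p R) P]

local notation "σ" => (WittVector.frobenius : WittVector p R →+* WittVector p R)

lemma vSharp_unique (D : W4c1extbt610.Display3n p R P) (Vs Vs' : P →ₗ[WittVector p R] BC σ P)
    (h : IsVSharp D Vs) (h' : IsVSharp D Vs') : Vs = Vs' := by
  apply LinearMap.ext_on D.span_range_Vinv
  rintro _ ⟨y, rfl⟩
  have h1 := h.app_smul_Vinv 1 y
  have h2 := h'.app_smul_Vinv 1 y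
  rw [one_smul] at h1 h2
  rw [h1, h2]

end Unique

section Red

variable {p : ℕ} [Fact p.Prime] {R : Type u} [CommRing R]

local notation "σ" => (WittVector.frobenius : WittVector p R →+* WittVector p R)

/-- Reduction `W(R) → R/pR`. -/
noncomputable def red : WittVector p R →+* R ⧸ Ideal.span {(p : R)} :=
  (Ideal.Quotient.mk _).comp WittVector.constantCoeff

lemma red_apply (a : WittVector p R) :
    red a = Ideal.Quotient.mk (Ideal.span {(p : R)}) (WittVector.constantCoeff a) := rfl

lemma red_p : red (p : WittVector p R) = 0 := by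
  rw [red_apply, map_natCast, Ideal.Quotient.eq_zero_iff_mem]
  exact Ideal.mem_span_singleton_self _

lemma coeff_zero_frobenius (a : WittVector p R) :
    (σ a).coeff 0 = (p : R) * a.coeff 1 + a.coeff 0 ^ p := by
  have h := WittVector.ghostComponent_frobenius (p := p) 0 a
  rw [WittVector.ghostComponent_apply, WittVector.ghostComponent_apply, wittPolynomial_zero,
    zero_add, wittPolynomial_one] at h
  simpa using h

lemma red_frobenius (a : WittVector p R) : red (σ a) = red a ^ p := by
  rw [red_apply, red_apply]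
  change Ideal.Quotient.mk _ ((σ a).coeff 0) = Ideal.Quotient.mk _ (a.coeff 0) ^ p
  rw [coeff_zero_frobenius, map_add, map_mul, map_pow, map_natCast]
  have : ((p : ℕ) : R ⧸ Ideal.span {(p : R)}) = 0 := by
    rw [← map_natCast (Ideal.Quotient.mk (Ideal.span {(p : R)})), Ideal.Quotient.eq_zero_iff_mem]
    exact Ideal.mem_span_singleton_self _
  rw [this, zero_mul, zero_add]

lemma red_frobenius_pow (a : WittVector p R) (m : ℕ) : red ((σ ^ m) a) = red a ^ p ^ m := by
  induction m with
  | zero => simp
  | succ m ih =>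
    rw [pow_succ', RingHom.mul_def, RingHom.comp_apply, red_frobenius, ih, ← pow_mul, pow_succ]

lemma mem_J_iff (a : WittVector p R) : a ∈ J p R ↔ red a = 0 := by
  constructor
  · intro h
    rw [J, Submodule.mem_sup] at h
    obtain ⟨b, hb, c, hc, rfl⟩ := h
    obtain ⟨d, rfl⟩ := Ideal.mem_span_singleton'.mp hc
    rw [map_add, map_mul, red_p, mul_zero, add_zero, red_apply]
    rw [mem_IV_iff] at hb
    change Ideal.Quotient.mk _ (b.coeff 0) = 0
    rw [hb, map_zero]
  · intro h
    rw [red_apply, Ideal.Quotient.eq_zero_iff_mem] at h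
    obtain ⟨r, hr⟩ := Ideal.mem_span_singleton'.mp h
    have h1 : a = (a - (p : WittVector p R) * WittVector.teichmuller p r) +
        WittVector.teichmuller p r * (p : WittVector p R) := by ring
    rw [h1, J]
    refine Submodule.add_mem_sup ?_ (Ideal.mem_span_singleton'.mpr ⟨_, rfl⟩)
    rw [mem_IV_iff]
    have h2 : (a - (p : WittVector p R) * WittVector.teichmuller p r).coeff 0 =
        (WittVector.constantCoeff : WittVector p R →+* R)
          (a - (p : WittVector p R) * WittVector.teichmuller p r) := rfl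
    rw [h2, map_sub, map_mul, map_natCast]
    change a.coeff 0 - (p : R) * (WittVector.teichmuller p r).coeff 0 = 0
    rw [WittVector.teichmuller_coeff_zero]
    have hr' : r * (p : R) = a.coeff 0 := hr
    rw [← hr']
    ring

end Red

section MatPow

variable {A : Type u} [CommRing A] {ι : Type w} [Fintype ι] [DecidableEq ι]

lemma matPow_succ' (τ : A →+* A) (M : Matrix ι ι A) (n : ℕ) :
    matPow τ M (n + 1) = M.map (τ ^ (n + 1)) * matPow τ M n := by
  induction n with
  | zero => simp [matPow]
  | succ n ih =>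
    have h1 : matPow τ M (n + 1 + 1) = (matPow τ M (n + 1)).map τ * M := rfl
    rw [h1, ih, Matrix.map_mul, Matrix.mul_assoc]
    congr 1
    ext i j
    simp only [Matrix.map_apply]
    rw [pow_succ' τ (n + 1)]
    rfl

end MatPow

section Analysis

variable {p : ℕ} [Fact p.Prime] {R : Type u} [CommRing R]
variable {ιT ιL : Type w} [Fintype ιT] [Fintype ιL] [DecidableEq ιT] [DecidableEq ιL]
variable (β : Matrix (ιT ⊕ ιL) (ιT ⊕ ιL) (WittVector p R))

local notation "σ" => (WittVector.frobenius : WittVector p R →+* WittVector p R)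

/-- The `L`-block of `β`. -/
def βLL : Matrix ιL ιL (WittVector p R) := Matrix.of fun k l => β (Sum.inr k) (Sum.inr l)

lemma red_vMat_inl (j : ιT) (i : ιT ⊕ ιL) : red (vMat eps β (Sum.inl j) i) = 0 := by
  simp only [vMat, Matrix.of_apply, eps, Sum.elim_inl, map_mul, red_p, zero_mul]

lemma red_vMat_inr (k : ιL) (i : ιT ⊕ ιL) : red (vMat eps β (Sum.inr k) i) = red (β (Sum.inr k) i) := by
  simp only [vMat, Matrix.of_apply, eps, Sum.elim_inr, one_mul]

lemma red_matPow_succ (n : ℕ) (c i : ιT ⊕ ιL) :
    red (matPow σ (vMat eps β) (n + 1) c i) =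
      ∑ m : ιL, red (matPow σ (vMat eps β) n c (Sum.inr m)) ^ p * red (β (Sum.inr m) i) := by
  have h1 : matPow σ (vMat eps β) (n + 1) = (matPow σ (vMat eps β) n).map σ * vMat eps β := rfl
  rw [h1, Matrix.mul_apply, map_sum, Fintype.sum_sum_type]
  simp only [map_mul, red_vMat_inl, mul_zero, Finset.sum_const_zero, zero_add, red_vMat_inr,
    Matrix.map_apply, red_frobenius]

lemma red_matPow_inl (n : ℕ) (j : ιT) (i : ιT ⊕ ιL) :
    red (matPow σ (vMat eps β) n (Sum.inl j) i) = 0 := by
  induction n generalizing i with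
  | zero => exact red_vMat_inl β j i
  | succ n ih =>
    rw [red_matPow_succ]
    refine Finset.sum_eq_zero fun m _ => ?_
    rw [ih, zero_pow (Fact.out : p.Prime).ne_zero, zero_mul]

lemma red_matPow_inr (n : ℕ) (k l : ιL) :
    red (matPow σ (vMat eps β) n (Sum.inr k) (Sum.inr l)) = red (matPow σ (βLL β) n k l) := by
  induction n generalizing l with
  | zero =>
    show red (vMat eps β (Sum.inr k) (Sum.inr l)) = _
    rw [red_vMat_inr]
    rfl
  | succ n ih =>
    rw [red_matPow_succ]
    have h1 : matPow σ (βLL β) (n + 1) = (matPow σ (βLL β) n).map σ * βLL β := rfl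
    rw [h1, Matrix.mul_apply, map_sum]
    refine Finset.sum_congr rfl fun m _ => ?_
    rw [ih, map_mul, Matrix.map_apply, red_frobenius]
    rfl

/-- The product appearing in the statement. -/
noncomputable def prodB (N : ℕ) : Matrix ιL ιL (R ⧸ Ideal.span {(p : R)}) :=
  ((List.range N).reverse.map fun i : ℕ =>
    (Matrix.of fun k l : ιL =>
        Ideal.Quotient.mk (Ideal.span {(p : R)}) (WittVector.constantCoeff (β (Sum.inr k) (Sum.inr l)))).map
      fun x : R ⧸ Ideal.span {(p : R)} => x ^ p ^ i).prod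

lemma prodB_succ (n : ℕ) :
    prodB β (n + 1) = (matPow σ (βLL β) n).map red := by
  induction n with
  | zero =>
    simp only [prodB, List.range_one, List.reverse_singleton, List.map_cons, List.map_nil,
      List.prod_cons, List.prod_nil, mul_one, pow_zero, pow_one]
    ext k l
    simp [matPow, βLL, red_apply]
  | succ n ih =>
    have h0 : prodB β (n + 1 + 1) =
        ((Matrix.of fun k l : ιL => Ideal.Quotient.mk (Ideal.span {(p : R)})
          (WittVector.constantCoeff (β (Sum.inr k) (Sum.inr l)))).map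
            fun x : R ⧸ Ideal.span {(p : R)} => x ^ p ^ (n + 1)) * prodB β (n + 1) := by
      simp only [prodB]
      rw [List.range_succ, List.reverse_append, List.reverse_singleton, List.singleton_append,
        List.map_cons, List.prod_cons]
    rw [h0, ih, matPow_succ', Matrix.map_mul]
    congr 1
    ext k l
    simp only [Matrix.map_apply, Matrix.of_apply]
    rw [red_frobenius_pow]
    rfl

lemma exists_mem_J_iff :
    (∃ n, ∀ c i, matPow σ (vMat eps β) n c i ∈ J p R) ↔ ∃ N : ℕ, 0 < N ∧ prodB β N = 0 := by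
  constructor
  · rintro ⟨n, hn⟩
    refine ⟨n + 1, Nat.succ_pos n, ?_⟩
    rw [prodB_succ]
    ext k l
    rw [Matrix.map_apply, ← red_matPow_inr, Matrix.zero_apply, ← mem_J_iff]
    exact hn _ _
  · rintro ⟨N, hN, h⟩
    obtain ⟨n, rfl⟩ : ∃ n, N = n + 1 := ⟨N - 1, by omega⟩
    rw [prodB_succ] at h
    refine ⟨n + 1, fun c i => ?_⟩
    rw [mem_J_iff]
    cases c with
    | inl j => exact red_matPow_inl β (n + 1) j i
    | inr k =>
      rw [red_matPow_succ]
      refine Finset.sum_eq_zero fun m _ => ?_
      have h2 : red (matPow σ (βLL β) n k m) = 0 := by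
        have := congrFun (congrFun h k) m
        simpa [Matrix.map_apply] using this
      rw [red_matPow_inr, h2, zero_pow (Fact.out : p.Prime).ne_zero, zero_mul]

end Analysis

section Final

variable {p : ℕ} [Fact p.Prime] {R : Type u} [CommRing R]
variable {P : Type v} [AddCommGroup P] [Module (WittVector p R) P]
variable {L T : Submodule (WittVector p R) P} (hLT : IsCompl L T)
variable {ιT ιL : Type w} [Fintype ιT] [Fintype ιL] [DecidableEq ιT] [DecidableEq ιL]
variable (bT : Module.Basis ιT (WittVector p R) T) (bL : Module.Basis ιL (WittVector p R) L)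

lemma L_le_span :
    (L : Submodule (WittVector p R) P) ≤ Submodule.span (WittVector p R)
    (Set.range (fun k : ιL => eB hLT bT bL (Sum.inr k)) ∪
      Set.range (fun wj : WittVector p R × ιT =>
        WittVector.verschiebung wj.1 • eB hLT bT bL (Sum.inl wj.2))) := by
  intro l hl
  have h1 : l = ∑ k, (bL.repr ⟨l, hl⟩ k) • (bL k : P) := by
    have := congrArg (Subtype.val) (bL.sum_repr ⟨l, hl⟩)
    rw [Submodule.coe_sum] at this
    simp only [Submodule.coe_smul] at this
    exact this.symm
  rw [h1]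
  refine Submodule.sum_mem _ fun k _ => Submodule.smul_mem _ _ (Submodule.subset_span ?_)
  left
  exact ⟨k, by show eB hLT bT bL (Sum.inr k) = (bL k : P); rw [eB_apply]; rfl⟩

lemma IVT_le_span :
    W4c1extbt610.IV p R • (T : Submodule (WittVector p R) P) ≤ Submodule.span (WittVector p R)
    (Set.range (fun k : ιL => eB hLT bT bL (Sum.inr k)) ∪
      Set.range (fun wj : WittVector p R × ιT =>
        WittVector.verschiebung wj.1 • eB hLT bT bL (Sum.inl wj.2))) := by
  rw [Submodule.smul_le]
  intro a ha t ht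
  have h1 : t = ∑ j, (bT.repr ⟨t, ht⟩ j) • (bT j : P) := by
    have := congrArg (Subtype.val) (bT.sum_repr ⟨t, ht⟩)
    rw [Submodule.coe_sum] at this
    simp only [Submodule.coe_smul] at this
    exact this.symm
  rw [mem_IV_iff] at ha
  rw [h1, Finset.smul_sum]
  refine Submodule.sum_mem _ fun j _ => ?_
  rw [smul_comm]
  refine Submodule.smul_mem _ _ (Submodule.subset_span ?_)
  right
  exact ⟨(a.shift 1, j), by
    show WittVector.verschiebung (a.shift 1) • eB hLT bT bL (Sum.inl j) = _
    rw [V_shift a ha, eB_apply]; rfl⟩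

end Final

/-- Let p be a prime and R a commutative ring in which p is nilpotent (in particular every prime number
other than p is a unit in R); write W = W(R) with Frobenius σ, Verschiebung V, I_R = V(W) and w₀ : W
→ R for the zeroth Witt component. Let (P, Q, F, V⁻¹) be a 3n-display over R with a normal
decomposition P = L ⊕ T, Q = L + I_R·T in which T and L are free with finite bases (t_j) and (l_k).
Let α be the square matrix over W, indexed by the disjoint union of the two index sets, such that
F(t_j) = Σ_i α_{i,j} e_i and V⁻¹(l_k) = Σ_i α_{i,k} e_i, where (e_i) is the basis of P formed by the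
t_j followed by the l_k, and let β be a two-sided inverse of α. Let B be the square block of β on
the L-indices, reduced to R/pR through w₀, and write B^{(p^i)} for the matrix whose entries are the
p^i-th powers of those of B. Then (P, Q, F, V⁻¹) is a display, i.e. its operator V# satisfies the
nilpotence condition, if and only if B^{(p^{N-1})} ⋯ B^{(p)} · B = 0 for some N ≥ 1. -/
theorem result (p : ℕ) [Fact p.Prime] (R : Type u) [CommRing R]
    (hR : ∀ ℓ : ℕ, ℓ.Prime → ℓ ≠ p → IsUnit (ℓ : R)) (hp : IsNilpotent (p : R))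
    (P : Type v) [AddCommGroup P] [Module (WittVector p R) P] (D : W4c1extbt610.Display3n p R P)
    (L T : Submodule (WittVector p R) P) (hLT : IsCompl L T)
    (hQ : D.Q = L ⊔ W4c1extbt610.IV p R • T) (hLQ : L ≤ D.Q)
    (ιT ιL : Type w) [Fintype ιT] [Fintype ιL] [DecidableEq ιT] [DecidableEq ιL]
    (bT : Module.Basis ιT (WittVector p R) T) (bL : Module.Basis ιL (WittVector p R) L)
    (α β : Matrix (ιT ⊕ ιL) (ιT ⊕ ιL) (WittVector p R)) (hαβ : α * β = 1) (hβα : β * α = 1)
    (hF : ∀ j : ιT, D.F (bT j : P) =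
      Finset.univ.sum fun i : ιT ⊕ ιL => α i (Sum.inl j) • Sum.elim (fun a : ιT => (bT a : P)) (fun a : ιL => (bL a : P)) i)
    (hV : ∀ k : ιL, D.Vinv ⟨(bL k : P), hLQ (bL k).2⟩ =
      Finset.univ.sum fun i : ιT ⊕ ιL => α i (Sum.inr k) • Sum.elim (fun a : ιT => (bT a : P)) (fun a : ιL => (bL a : P)) i) :
    Dieu.IsDisplay D ↔
      ∃ N : ℕ, 0 < N ∧
        (((List.range N).reverse.map fun i : ℕ =>
            (Matrix.of fun k l : ιL =>
                Ideal.Quotient.mk (Ideal.span {(p : R)}) (WittVector.constantCoeff (β (Sum.inr k) (Sum.inr l)))).map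
              fun x : R ⧸ Ideal.span {(p : R)} => x ^ p ^ i).prod
          = 0) := by
  set e := eB hLT bT bL with he_def
  have he : ∀ i, Sum.elim (fun a : ιT => (bT a : P)) (fun a : ιL => (bL a : P)) i = e i :=
    fun i => (eB_apply hLT bT bL i).symm
  have hL' : ∀ k : ιL, e (Sum.inr k) ∈ D.Q := fun k => by
    rw [← he]; exact hLQ (bL k).2
  have hQ' : D.Q ≤ Submodule.span (WittVector p R)
      (Set.range (fun k : ιL => e (Sum.inr k)) ∪
        Set.range (fun wj : WittVector p R × ιT =>
          WittVector.verschiebung wj.1 • e (Sum.inl wj.2))) := by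
    rw [hQ]
    exact sup_le (L_le_span hLT bT bL) (IVT_le_span hLT bT bL)
  have hF' : ∀ j : ιT, D.F (e (Sum.inl j)) = ∑ i, α i (Sum.inl j) • e i := fun j => by
    rw [← he]
    simp only [Sum.elim_inl]
    rw [hF j]
    exact Finset.sum_congr rfl fun i _ => by rw [he]
  have hV' : ∀ k : ιL, D.Vinv ⟨e (Sum.inr k), hL' k⟩ = ∑ i, α i (Sum.inr k) • e i := fun k => by
    have h1 : (⟨e (Sum.inr k), hL' k⟩ : D.Q) = ⟨(bL k : P), hLQ (bL k).2⟩ := by
      apply Subtype.ext
      show e (Sum.inr k) = (bL k : P)
      rw [← he]; rfl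
    rw [h1, hV k]
    exact Finset.sum_congr rfl fun i _ => by rw [he]
  have hVs := isVSharp_ofMat e D hL' hQ' α β hβα hF' hV'
  have h1 : Dieu.IsDisplay D ↔ Dieu.IsVNilpotent (ofMat e WittVector.frobenius (vMat eps β)) := by
    constructor
    · rintro ⟨Vs', h1, h2⟩
      rw [vSharp_unique D _ _ hVs h1]
      exact h2
    · intro h
      exact ⟨_, hVs, h⟩
  rw [h1, isVNilpotent_ofMat_iff, exists_mem_J_iff]
  rfl

end Groth.Agent.S16546
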