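import Groth.Statements.S16572
import Mathlib

set_option autoImplicit false
universe u
open CAlg

namespace Groth.Agent.S16572


open Polynomial

section General

variable {A T : Type u} [CommRing A] [CommRing T] [Algebra A T]

theorem general [Algebra.IsIntegral A T]
    (hroot : ∀ G : Polynomial A, G.Monic → 0 < G.natDegree → ∃ t : T, Polynomial.aeval t G = 0)
    (Q : Ideal T) [Q.IsPrime] :
    IsAlgClosed Q.ResidueField ∧
      (Ideal.ResidueField.map (Q.comap (algebraMap A T)) Q (algebraMap A T) rfl).IsIntegral := by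
  classical
  set p := Q.comap (algebraMap A T) with hp
  have : Q.LiesOver p := ⟨rfl⟩
  let _ := Localization.AtPrime.algebraOfLiesOver p Q
  have halg : algebraMap p.ResidueField Q.ResidueField =
      Ideal.ResidueField.map p Q (algebraMap A T) rfl := rfl
  have hint : Algebra.IsIntegral p.ResidueField Q.ResidueField := Algebra.IsAlgebraic.isIntegral
  refine ⟨?_, halg ▸ algebraMap_isIntegral_iff.mpr hint⟩
  have hST : IsScalarTower A p.ResidueField Q.ResidueField := by
    refine .of_algebraMap_eq fun x => ?_
    rw [halg, Ideal.ResidueField.map_algebraMap]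
    rw [← IsScalarTower.algebraMap_apply]
  have : IsAlgClosure p.ResidueField Q.ResidueField := by
    refine IsAlgClosure.of_exists_root (fun f hf hirr => ?_)
    have hn : 0 < f.natDegree := hirr.natDegree_pos
    obtain ⟨b, hb⟩ := IsLocalization.exist_integer_multiples_of_finset (nonZeroDivisors (A ⧸ p))
      (Finset.image f.coeff (Finset.range (f.natDegree + 1)))
    set β : p.ResidueField := algebraMap (A ⧸ p) p.ResidueField b with hβ
    have hβ0 : β ≠ 0 := by
      rw [hβ]
      exact (map_ne_zero_iff _ (Ideal.injective_algebraMap_quotient_residueField p)).mpr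
        (nonZeroDivisors.ne_zero b.2)
    have hcoef : ∀ i, i < f.natDegree → ∃ a : A, algebraMap A p.ResidueField a = f.coeff i * β := by
      intro i hi
      obtain ⟨c, hc⟩ := hb (f.coeff i) (Finset.mem_image_of_mem _ (Finset.mem_range.mpr (by omega)))
      obtain ⟨a, rfl⟩ := Ideal.Quotient.mk_surjective c
      refine ⟨a, ?_⟩
      rw [IsScalarTower.algebraMap_apply A (A ⧸ p) p.ResidueField, Ideal.Quotient.algebraMap_eq, hc,
        mul_comm, hβ]
      exact Algebra.smul_def _ _
    obtain ⟨b', hb'⟩ := Ideal.Quotient.mk_surjective (b : A ⧸ p)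
    have hβ' : algebraMap A p.ResidueField b' = β := by
      rw [IsScalarTower.algebraMap_apply A (A ⧸ p) p.ResidueField, Ideal.Quotient.algebraMap_eq, hb']
    have hlift : f.scaleRoots β ∈ Polynomial.lifts (algebraMap A p.ResidueField) := by
      rw [Polynomial.lifts_iff_coeff_lifts]
      intro i
      rw [Polynomial.coeff_scaleRoots]
      rcases lt_trichotomy i f.natDegree with hi | hi | hi
      · obtain ⟨a, ha⟩ := hcoef i hi
        obtain ⟨k, hk⟩ : ∃ k, f.natDegree - i = k + 1 := ⟨f.natDegree - i - 1, by omega⟩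
        refine ⟨a * b' ^ k, ?_⟩
        rw [hk, pow_succ, map_mul, map_pow, ha, hβ']
        ring
      · refine ⟨1, ?_⟩
        rw [hi, Nat.sub_self, pow_zero, mul_one, map_one]
        exact hf.symm
      · refine ⟨0, ?_⟩
        rw [map_zero, Polynomial.coeff_eq_zero_of_natDegree_lt hi, zero_mul]
    have hgm : (f.scaleRoots β).Monic := (Polynomial.monic_scaleRoots_iff β).mpr hf
    obtain ⟨G, hG, hGdeg, hGm⟩ := Polynomial.lifts_and_natDegree_eq_and_monic hlift hgm
    rw [Polynomial.natDegree_scaleRoots] at hGdeg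
    obtain ⟨t, ht⟩ := hroot G hGm (hGdeg ▸ hn)
    set y : Q.ResidueField := algebraMap T Q.ResidueField t with hy
    have hy0 : Polynomial.aeval y G = 0 := by
      rw [hy, Polynomial.aeval_algebraMap_apply, ht, map_zero]
    have hy1 : Polynomial.aeval y (f.scaleRoots β) = 0 := by
      rw [← hG, Polynomial.aeval_map_algebraMap]
      exact hy0
    have hf' : f = (f.scaleRoots β).scaleRoots β⁻¹ := by
      rw [← Polynomial.scaleRoots_mul, mul_inv_cancel₀ hβ0, Polynomial.scaleRoots_one]
    refine ⟨algebraMap p.ResidueField Q.ResidueField β⁻¹ * y, ?_⟩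
    rw [hf']
    exact Polynomial.scaleRoots_aeval_eq_zero hy1
  exact IsAlgClosure.isAlgClosed p.ResidueField

end General

section Specific

variable (A : Type u) [CommRing A]

abbrev Idx := {P : Polynomial A // P.Monic ∧ 0 < P.natDegree}

noncomputable abbrev I : Ideal (MvPolynomial (Idx A) A) :=
  Ideal.span (Set.range fun P : Idx A => Polynomial.aeval (MvPolynomial.X (R := A) P) P.1)

abbrev T := MvPolynomial (Idx A) A ⧸ I A

variable {A}

lemma aeval_x (P : Idx A) :
    Polynomial.aeval (Ideal.Quotient.mk (I A) (MvPolynomial.X P)) P.1 = 0 := by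
  have := Polynomial.aeval_algHom_apply (Ideal.Quotient.mkₐ A (I A)) (MvPolynomial.X P) P.1
  rw [Ideal.Quotient.mkₐ_eq_mk] at this
  rw [this, Ideal.Quotient.eq_zero_iff_mem]
  exact Ideal.subset_span ⟨P, rfl⟩

lemma isIntegral_T (t : T A) : IsIntegral A t := by
  obtain ⟨q, rfl⟩ := Ideal.Quotient.mk_surjective t
  induction q using MvPolynomial.induction_on with
  | C a => exact isIntegral_algebraMap (x := a)
  | add p q hp hq => rw [map_add]; exact hp.add hq
  | mul_X p i hp =>
    rw [map_mul]
    exact hp.mul ⟨i.1, i.2.1, by rw [← Polynomial.aeval_def]; exact aeval_x i⟩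

instance : Algebra.IsIntegral A (T A) := ⟨isIntegral_T⟩

lemma surj : Function.Surjective (PrimeSpectrum.comap (algebraMap A (T A))) := by
  intro p
  let K := p.asIdeal.ResidueField
  let Ω := AlgebraicClosure K
  let φ : A →+* Ω := (algebraMap K Ω).comp (algebraMap A K)
  have hr : ∀ P : Idx A, ∃ x : Ω, (P.1.map φ).IsRoot x := by
    intro P
    apply IsAlgClosed.exists_root
    rw [Polynomial.Monic.degree_map P.2.1 φ]
    exact (Polynomial.natDegree_pos_iff_degree_pos.mp P.2.2).ne'
  choose r hr using hr
  let ψ₀ : MvPolynomial (Idx A) A →+* Ω := MvPolynomial.eval₂Hom φ r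
  have hψ₀ : ∀ x ∈ I A, ψ₀ x = 0 := by
    have : I A ≤ RingHom.ker ψ₀ := by
      rw [Ideal.span_le]
      rintro _ ⟨P, rfl⟩
      show ψ₀ (Polynomial.aeval (MvPolynomial.X P) P.1) = 0
      rw [Polynomial.aeval_def, Polynomial.hom_eval₂]
      have h1 : ψ₀.comp (algebraMap A (MvPolynomial (Idx A) A)) = φ := by
        ext x
        simp [ψ₀, MvPolynomial.algebraMap_eq]
      have h2 : ψ₀ (MvPolynomial.X P) = r P := by simp [ψ₀]
      rw [h1, h2, ← Polynomial.eval_map]
      exact hr P
    exact fun x hx => this hx
  let ψ : T A →+* Ω := Ideal.Quotient.lift (I A) ψ₀ hψ₀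
  refine ⟨⟨RingHom.ker ψ, RingHom.ker_isPrime ψ⟩, PrimeSpectrum.ext ?_⟩
  ext x
  show ψ (algebraMap A (T A) x) = 0 ↔ x ∈ p.asIdeal
  have h1 : ψ (algebraMap A (T A) x) = φ x := by
    show ψ (Ideal.Quotient.mk (I A) (MvPolynomial.C x)) = φ x
    rw [Ideal.Quotient.lift_mk]
    simp [ψ₀]
  rw [h1]
  show (algebraMap K Ω) (algebraMap A K x) = 0 ↔ _
  rw [map_eq_zero_iff _ (algebraMap K Ω).injective, Ideal.algebraMap_residueField_eq_zero]

lemma hroot (G : Polynomial A) (hG : G.Monic) (hd : 0 < G.natDegree) :
    ∃ t : T A, Polynomial.aeval t G = 0 :=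
  ⟨Ideal.Quotient.mk (I A) (MvPolynomial.X ⟨G, hG, hd⟩), aeval_x ⟨G, hG, hd⟩⟩

end Specific

/-- Let A be a commutative ring and T the quotient of the polynomial ring over A in indeterminates X_P,
one for each monic polynomial P over A of positive degree, by the ideal generated by the elements
P(X_P). Then the map on prime spectra Spec T → Spec A is surjective, and for every prime ideal Q of
T, with p its contraction to A, the residue field of Q is algebraically closed and integral over the
residue field of p under the induced map of residue fields (so it is an algebraic closure of it). -/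
theorem result (A : Type u) [CommRing A] :
    Function.Surjective (PrimeSpectrum.comap (algebraMap A (MvPolynomial {P : Polynomial A // P.Monic ∧ 0 < P.natDegree} A ⧸
      Ideal.span (Set.range fun P : {P : Polynomial A // P.Monic ∧ 0 < P.natDegree} =>
        Polynomial.aeval (MvPolynomial.X (R := A) P) P.1)))) ∧
    ∀ (Q : Ideal (MvPolynomial {P : Polynomial A // P.Monic ∧ 0 < P.natDegree} A ⧸
      Ideal.span (Set.range fun P : {P : Polynomial A // P.Monic ∧ 0 < P.natDegree} =>
        Polynomial.aeval (MvPolynomial.X (R := A) P) P.1))) [Q.IsPrime],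
      IsAlgClosed Q.ResidueField ∧
      (Ideal.ResidueField.map (Q.comap (algebraMap A (MvPolynomial {P : Polynomial A // P.Monic ∧ 0 < P.natDegree} A ⧸
      Ideal.span (Set.range fun P : {P : Polynomial A // P.Monic ∧ 0 < P.natDegree} =>
        Polynomial.aeval (MvPolynomial.X (R := A) P) P.1)))) Q (algebraMap A (MvPolynomial {P : Polynomial A // P.Monic ∧ 0 < P.natDegree} A ⧸
      Ideal.span (Set.range fun P : {P : Polynomial A // P.Monic ∧ 0 < P.natDegree} =>
        Polynomial.aeval (MvPolynomial.X (R := A) P) P.1))) rfl).IsIntegral := by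
  exact ⟨surj, fun Q _ => general hroot Q⟩

end Groth.Agent.S16572
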