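import Groth.Statements.S16577
import Groth.Agent.Lib.Helper1.SH7

set_option autoImplicit false
universe u
open Hensel

namespace Groth.Agent.S16577

/-- Let A be a Noetherian local ring with a strict henselization S', and p a prime ideal of A. Call p an
immediate étale generization of the closed point when the strict henselization S'/pS' of A/p has an
irreducible component of dimension 1, that is, some minimal prime P over pS' has dim S'/P = 1. Then
p is an immediate étale generization of the closed point if and only if p is the contraction of some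
prime ideal P of S' with dim S'/P = 1. -/
theorem result
    (A : Type u) [CommRing A] [IsNoetherianRing A] [IsLocalRing A]
    (S' : Type u) [CommRing S'] [IsLocalRing S'] [Algebra A S'] [IsLocalHom (algebraMap A S')]
    [Hensel.IsStrictHenselization A S']
    (p : Ideal A) [p.IsPrime] :
    (∃ P ∈ (p.map (algebraMap A S')).minimalPrimes, ringKrullDim (S' ⧸ P) = 1) ↔
    (∃ P : Ideal S', P.IsPrime ∧ P.comap (algebraMap A S') = p ∧ ringKrullDim (S' ⧸ P) = 1) := by
  haveI : Module.FaithfullyFlat A S' :=
    Groth.Agent.Helper1.HFlat.faithfullyFlat_of_isStrictHenselization A S'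
  have hinc := Groth.Agent.Helper1.HFlat.inc_of_isStrictHenselization A S'
  constructor
  · rintro ⟨P, hP, hdim⟩
    haveI : P.IsPrime := hP.1.1
    refine ⟨P, hP.1.1, ?_, hdim⟩
    have hle : p ≤ P.comap (algebraMap A S') := by
      rw [← Ideal.map_le_iff_le_comap]; exact hP.1.2
    haveI : Algebra.HasGoingDown A S' := Algebra.HasGoingDown.of_flat
    haveI : (P.comap (algebraMap A S')).IsPrime := Ideal.comap_isPrime _ _
    haveI : P.LiesOver (P.comap (algebraMap A S')) := ⟨rfl⟩
    obtain ⟨Q, hQP, hQprime, hQlies⟩ :=
      Ideal.exists_ideal_le_liesOver_of_le (p := p) (q := P.comap (algebraMap A S')) P hle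
    have hQ : Q.comap (algebraMap A S') = p := hQlies.over.symm
    have hPQ : P ≤ Q := hP.2 ⟨hQprime, by rw [Ideal.map_le_iff_le_comap, hQ]⟩ hQP
    have : Q = P := le_antisymm hQP hPQ
    rw [← this, hQ]
  · rintro ⟨P, hPprime, hcomap, hdim⟩
    haveI := hPprime
    obtain ⟨P', hP', hle⟩ := Ideal.exists_minimalPrimes_le (I := p.map (algebraMap A S')) (J := P)
      (by rw [Ideal.map_le_iff_le_comap, hcomap])
    haveI : P'.IsPrime := hP'.1.1
    have h1 : p ≤ P'.comap (algebraMap A S') := by
      rw [← Ideal.map_le_iff_le_comap]; exact hP'.1.2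
    have h2 : P'.comap (algebraMap A S') ≤ p := by
      rw [← hcomap]; exact Ideal.comap_mono hle
    have h3 : P'.comap (algebraMap A S') = P.comap (algebraMap A S') := by
      rw [hcomap]; exact le_antisymm h2 h1
    have h4 : P' = P := hinc P P' hle h3
    exact ⟨P', hP', by rw [h4]; exact hdim⟩

end Groth.Agent.S16577
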