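import Groth.Statements.S16597
import Groth.Agent.Lib.Helper24.LGRingLib
import Mathlib.RingTheory.Flat.Basic
import Mathlib.LinearAlgebra.FreeModule.Basic

set_option autoImplicit false
universe u v
open LGRing

namespace Groth.Agent.S16597

theorem free_of_rank {R : Type u} [CommRing R] (hR : LGRing.IsLGRing R) :
    ∀ (d : ℕ) (M : Type v) [AddCommGroup M] [Module R M] [Module.Finite R M] [Module.Projective R M],
      (∀ p : PrimeSpectrum R, Module.rankAtStalk M p = d) → Module.Free R M := by
  intro d
  induction d with
  | zero =>
    intro M _ _ _ _ hd
    have h0 : Module.rankAtStalk (R := R) M = 0 := by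
      ext p
      simpa using hd p
    haveI : Subsingleton M := Module.rankAtStalk_eq_zero_iff_subsingleton.mp h0
    exact Module.Free.of_subsingleton R M
  | succ d ih =>
    intro M _ _ _ _ hd
    by_cases hsub : Subsingleton R
    · haveI := hsub
      haveI : Subsingleton M := Module.subsingleton R M
      exact Module.Free.of_subsingleton R M
    · haveI : Nontrivial R := not_subsingleton_iff_nontrivial.mp hsub
      have hM : ∀ (m : Ideal R) [m.IsMaximal],
          ¬ ((⊤ : Submodule R M) ≤ m • (⊤ : Submodule R M)) := by
        intro m hm hle
        obtain ⟨r, hr1, hr0⟩ := Submodule.exists_sub_one_mem_and_smul_eq_zero_of_fg_of_le_smul m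
          (⊤ : Submodule R M) Module.Finite.fg_top hle
        have hrm : r ∉ m := by
          intro hrm
          have : (1 : R) ∈ m := by
            have := m.sub_mem hrm hr1
            simpa using this
          exact hm.ne_top ((Ideal.eq_top_iff_one m).mpr this)
        have hp : (⟨m, hm.isPrime⟩ : PrimeSpectrum R) ∉ Module.support R M := by
          rw [Module.notMem_support_iff']
          intro x
          exact ⟨r, hrm, hr0 x Submodule.mem_top⟩
        have := (Module.rankAtStalk_eq_zero_iff_notMem_support (M := M) _).mpr hp
        rw [hd] at this
        exact Nat.succ_ne_zero d this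
      obtain ⟨x, f, hfx⟩ := Groth.Agent.Helper24.LGRingLib.exists_unimodular hR M hM
      set K : Submodule R M := LinearMap.ker f with hK
      let s : M →ₗ[R] K := LinearMap.codRestrict K
        (LinearMap.id - (LinearMap.toSpanSingleton R M x) ∘ₗ f) (by
          intro m
          simp [hK, hfx])
      have hs : ∀ m : M, ((s m : K) : M) = m - f m • x := fun m => rfl
      have hsi : s ∘ₗ K.subtype = LinearMap.id := by
        apply LinearMap.ext
        intro k
        apply Subtype.ext
        rw [LinearMap.comp_apply, hs]
        have : f (k : M) = 0 := k.2
        simp [this]
      haveI : Module.Projective R K := Module.Projective.of_split K.subtype s hsi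
      haveI : Module.Finite R K := Module.Finite.of_surjective s (fun k => ⟨k, by
        have := LinearMap.congr_fun hsi k
        simpa using this⟩)
      let e : M ≃ₗ[R] K × R := LinearEquiv.ofLinear
        (LinearMap.prod s f)
        (LinearMap.coprod K.subtype (LinearMap.toSpanSingleton R M x))
        (by
          apply LinearMap.ext
          rintro ⟨k, r⟩
          have hk : f (k : M) = 0 := k.2
          apply Prod.ext
          · apply Subtype.ext
            simp [hs, hk, hfx]
          · simp [hk, hfx])
        (by
          apply LinearMap.ext
          intro m
          simp [hs])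
      have hrank : Module.rankAtStalk (R := R) M = Module.rankAtStalk K + Module.rankAtStalk R := by
        rw [Module.rankAtStalk_eq_of_equiv e, Module.rankAtStalk_prod]
      have hdK : ∀ p : PrimeSpectrum R, Module.rankAtStalk (↥K) p = d := by
        intro p
        have h1 := congrFun hrank p
        rw [hd p, Pi.add_apply, Module.rankAtStalk_self] at h1
        simpa using h1.symm
      haveI : Module.Free R K := ih K hdK
      exact Module.Free.of_equiv e.symm

/-- Let R be an LG-ring and M a finite locally free (finitely generated projective) R-module of constant
rank. Then M is free. In particular invertible R-modules are trivial: Pic(R) = 0. -/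
theorem result {R : Type u} [CommRing R] (hR : LGRing.IsLGRing R)
    (M : Type v) [AddCommGroup M] [Module R M] [Module.Finite R M] [Module.Projective R M] (d : ℕ)
    (hd : ∀ p : PrimeSpectrum R, Module.rankAtStalk M p = d) : Module.Free R M := by
  exact free_of_rank hR d M hd

end Groth.Agent.S16597
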