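import Groth.Statements.S16599
import Mathlib.RingTheory.Spectrum.Prime.Topology
import Mathlib.Algebra.MvPolynomial.Rename
import Mathlib.Algebra.BigOperators.Fin

set_option autoImplicit false
open AlgebraicGeometry
universe u
open LGRing

namespace Groth.Agent.S16599

/-- Let R be an LG-ring, n ≥ 0, and U an open quasi-compact subscheme of affine n-space Spec R[X₁, …,
Xₙ]. If U has an (R ⧸ m)-valued point over R for every maximal ideal m of R, then U has an R-valued
point: some n-tuple x over R defines a section Spec R ⟶ Spec R[X₁, …, Xₙ] with image inside U. -/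
theorem result {R : Type u} [CommRing R] (hR : LGRing.IsLGRing R)
    (n : ℕ) (U : (Spec (CommRingCat.of (MvPolynomial (Fin n) R))).Opens)
    (hU : IsCompact (U : Set ↥(Spec (CommRingCat.of (MvPolynomial (Fin n) R)))))
    (h : ∀ (m : Ideal R) [m.IsMaximal], ∃ x : Fin n → R ⧸ m,
      Set.range (Spec.map (CommRingCat.ofHom (MvPolynomial.eval₂Hom (Ideal.Quotient.mk m) x))).base ⊆
        (U : Set ↥(Spec (CommRingCat.of (MvPolynomial (Fin n) R))))) :
    ∃ x : Fin n → R, Set.range (Spec.map (CommRingCat.ofHom (MvPolynomial.eval x))).base ⊆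
      (U : Set ↥(Spec (CommRingCat.of (MvPolynomial (Fin n) R)))) := by
  classical
  set P := MvPolynomial (Fin n) R with hP
  set Us : Set (PrimeSpectrum P) := (U : Set ↥(Spec (CommRingCat.of (MvPolynomial (Fin n) R)))) with hUs
  have hopen : IsOpen Us := U.2
  have hcomp : IsCompact Us := hU
  obtain ⟨t, ht⟩ := PrimeSpectrum.isCompact_isOpen_iff.mp ⟨hcomp, hopen⟩
  -- membership criterion
  have hcrit : ∀ (S : Type u) [CommRing S] (ψ : P →+* S),
      Set.range (Spec.map (CommRingCat.ofHom ψ)).base ⊆ Us ↔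
        ∀ q : PrimeSpectrum S, ∃ f ∈ t, ψ f ∉ q.asIdeal := by
    intro S _ ψ
    constructor
    · intro hsub q
      have h1 : (Spec.map (CommRingCat.ofHom ψ)).base q ∈ Us :=
        hsub ⟨q, rfl⟩
      have h2 : PrimeSpectrum.comap ψ q ∈ (PrimeSpectrum.zeroLocus (t : Set P))ᶜ := by
        rw [ht]; exact h1
      rw [Set.mem_compl_iff, PrimeSpectrum.mem_zeroLocus, Set.not_subset] at h2
      obtain ⟨f, hft, hfq⟩ := h2
      exact ⟨f, hft, hfq⟩
    · rintro h _ ⟨q, rfl⟩
      obtain ⟨f, hft, hfq⟩ := h q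
      have h2 : PrimeSpectrum.comap ψ q ∈ (PrimeSpectrum.zeroLocus (t : Set P))ᶜ := by
        rw [Set.mem_compl_iff, PrimeSpectrum.mem_zeroLocus, Set.not_subset]
        exact ⟨f, hft, hfq⟩
      rw [ht] at h2
      exact h2
  set r := t.card with hr
  set F : Fin r → P := fun i => ((t.equivFin.symm i : t) : P) with hF
  have hFmem : ∀ i, F i ∈ t := fun i => (t.equivFin.symm i).2
  have hFsurj : ∀ f ∈ t, ∃ i, F i = f := by
    intro f hf
    refine ⟨t.equivFin ⟨f, hf⟩, ?_⟩
    simp [hF]
  set g : MvPolynomial (Fin (n + r)) R :=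
    ∑ i : Fin r, MvPolynomial.X (Fin.natAdd n i) * MvPolynomial.rename (Fin.castAdd r) (F i) with hg
  have heval : ∀ (S : Type u) [CommRing S] [Algebra R S] (s : Fin (n + r) → S),
      MvPolynomial.aeval s g = ∑ i : Fin r, s (Fin.natAdd n i) *
        MvPolynomial.aeval (fun j => s (Fin.castAdd r j)) (F i) := by
    intro S _ _ s
    simp only [hg, map_sum, map_mul, MvPolynomial.aeval_X, MvPolynomial.aeval_rename]
    rfl
  have hres : ∀ (m : Ideal R) [m.IsMaximal], LGRing.RepresentsUnit g (R ⧸ m) := by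
    intro m hm
    obtain ⟨x, hx⟩ := h m
    rw [hcrit] at hx
    haveI : IsDomain (R ⧸ m) := (Ideal.Quotient.isDomain_iff_prime m).mpr hm.isPrime
    obtain ⟨f, hft, hfq⟩ := hx ⟨⊥, Ideal.isPrime_bot⟩
    obtain ⟨i₀, rfl⟩ := hFsurj f hft
    have ha0 : MvPolynomial.eval₂Hom (Ideal.Quotient.mk m) x (F i₀) ≠ 0 := by
      intro h0
      apply hfq
      change _ ∈ (⊥ : Ideal (R ⧸ m))
      rw [Ideal.mem_bot]
      exact h0
    obtain ⟨b, hb⟩ := Ideal.Quotient.exists_inv ha0
    refine ⟨Fin.append x (Pi.single i₀ b), ?_⟩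
    rw [heval]
    simp only [Fin.append_left, Fin.append_right]
    rw [Finset.sum_eq_single i₀]
    · rw [Pi.single_eq_same]
      have : MvPolynomial.aeval (fun j => x j) (F i₀) =
          MvPolynomial.eval₂Hom (Ideal.Quotient.mk m) x (F i₀) := rfl
      rw [this, mul_comm, hb]
      exact isUnit_one
    · intro i _ hi
      rw [Pi.single_eq_of_ne hi, zero_mul]
    · intro h; exact absurd (Finset.mem_univ _) h
  obtain ⟨s, hs⟩ := hR (n + r) g hres
  rw [heval] at hs
  refine ⟨fun j => s (Fin.castAdd r j), ?_⟩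
  rw [hcrit]
  intro q
  by_contra hcon
  push Not at hcon
  have : (∑ i : Fin r, s (Fin.natAdd n i) *
        MvPolynomial.aeval (fun j => s (Fin.castAdd r j)) (F i)) ∈ q.asIdeal := by
    apply Submodule.sum_mem
    intro i _
    apply Ideal.mul_mem_left
    have := hcon (F i) (hFmem i)
    rw [MvPolynomial.aeval_eq_eval]
    exact this
  exact q.isPrime.ne_top (Ideal.eq_top_of_isUnit_mem _ this hs)

end Groth.Agent.S16599
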