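import Groth.Statements.S16600
import Mathlib.RingTheory.Spectrum.Prime.Topology
import Mathlib.Algebra.MvPolynomial.Rename
import Mathlib.Algebra.BigOperators.Fin
import Mathlib.LinearAlgebra.Dual.Lemmas
import Mathlib.RingTheory.Finiteness.Projective

set_option autoImplicit false
open AlgebraicGeometry
universe u
open LGRing

namespace Groth.Agent.S16600

open AlgebraicGeometry in
theorem spec_crit {A : Type u} [CommRing A] (U : (Spec (CommRingCat.of A)).Opens)
    (hU : IsCompact (U : Set ↥(Spec (CommRingCat.of A)))) :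
    ∃ t : Finset A, ∀ (S : Type u) [CommRing S] (ψ : A →+* S),
      Set.range (Spec.map (CommRingCat.ofHom ψ)).base ⊆ (U : Set ↥(Spec (CommRingCat.of A))) ↔
        ∀ q : PrimeSpectrum S, ∃ f ∈ t, ψ f ∉ q.asIdeal := by
  classical
  set Us : Set (PrimeSpectrum A) := (U : Set ↥(Spec (CommRingCat.of A))) with hUs
  have hopen : IsOpen Us := U.2
  have hcomp : IsCompact Us := hU
  obtain ⟨t, ht⟩ := PrimeSpectrum.isCompact_isOpen_iff.mp ⟨hcomp, hopen⟩
  refine ⟨t, ?_⟩
  intro S _ ψ
  constructor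
  · intro hsub q
    have h1 : (Spec.map (CommRingCat.ofHom ψ)).base q ∈ Us := hsub ⟨q, rfl⟩
    have h2 : PrimeSpectrum.comap ψ q ∈ (PrimeSpectrum.zeroLocus (t : Set A))ᶜ := by
      rw [ht]; exact h1
    rw [Set.mem_compl_iff, PrimeSpectrum.mem_zeroLocus, Set.not_subset] at h2
    obtain ⟨f, hft, hfq⟩ := h2
    exact ⟨f, hft, hfq⟩
  · rintro h _ ⟨q, rfl⟩
    obtain ⟨f, hft, hfq⟩ := h q
    have h2 : PrimeSpectrum.comap ψ q ∈ (PrimeSpectrum.zeroLocus (t : Set A))ᶜ := by
      rw [Set.mem_compl_iff, PrimeSpectrum.mem_zeroLocus, Set.not_subset]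
      exact ⟨f, hft, hfq⟩
    rw [ht] at h2
    exact h2

/-- Let R be an LG-ring, M a finite locally free R-module, W(M) = Spec Sym(M^∨) the vector bundle of M
(its points with values in an R-algebra R' are the R-algebra maps Sym(M^∨) → R', i.e. the R-linear
maps M^∨ → R'), and U ⊆ W(M) an open quasi-compact subscheme. Then U(R) is non-empty if and only if
U(R ⧸ m) is non-empty for every maximal ideal m of R. -/
theorem result {R : Type u} [CommRing R]
    (hR : LGRing.IsLGRing R) (M : Type u) [AddCommGroup M] [Module R M] [Module.Finite R M] [Module.Projective R M]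
    (U : (Spec (CommRingCat.of (SymmetricAlgebra R (Module.Dual R M)))).Opens)
    (hU : IsCompact (U : Set ↥(Spec (CommRingCat.of (SymmetricAlgebra R (Module.Dual R M)))))) :
    (∃ φ : Module.Dual R M →ₗ[R] R,
      Set.range (Spec.map (CommRingCat.ofHom (SymmetricAlgebra.lift φ).toRingHom)).base ⊆
        (U : Set ↥(Spec (CommRingCat.of (SymmetricAlgebra R (Module.Dual R M)))))) ↔
    ∀ (m : Ideal R) [m.IsMaximal], ∃ φ : Module.Dual R M →ₗ[R] (R ⧸ m),
      Set.range (Spec.map (CommRingCat.ofHom (SymmetricAlgebra.lift φ).toRingHom)).base ⊆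
        (U : Set ↥(Spec (CommRingCat.of (SymmetricAlgebra R (Module.Dual R M))))) := by
  classical
  set D := Module.Dual R M with hD
  set A := SymmetricAlgebra R D with hA
  obtain ⟨t, hcrit⟩ := spec_crit U hU
  obtain ⟨n, π, ι, -, -, hπι⟩ := Module.Finite.exists_comp_eq_id_of_projective R D
  set P := MvPolynomial (Fin n) R with hP
  -- linear map D → P
  let θ : D →ₗ[R] P := ∑ j : Fin n, (LinearMap.toSpanSingleton R P (MvPolynomial.X j)) ∘ₗ
    ((LinearMap.proj j) ∘ₗ ι)
  have hθ : ∀ δ : D, θ δ = ∑ j : Fin n, (ι δ j) • (MvPolynomial.X j : P) := by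
    intro δ
    simp [θ, LinearMap.sum_apply]
  let Θ : A →ₐ[R] P := SymmetricAlgebra.lift θ
  -- key factorization
  have hΘι : ∀ δ : D, Θ (SymmetricAlgebra.ι R D δ) = ∑ j : Fin n, (ι δ j) • (MvPolynomial.X j : P) := by
    intro δ
    change SymmetricAlgebra.lift θ (SymmetricAlgebra.ι R D δ) = _
    rw [SymmetricAlgebra.lift_ι_apply, hθ]
  have hfacgen : ∀ (S : Type u) [CommRing S] [Algebra R S] (φ : D →ₗ[R] S) (y : Fin n → S),
      (∀ δ : D, φ δ = ∑ j : Fin n, (ι δ j) • y j) →
      SymmetricAlgebra.lift φ = (MvPolynomial.aeval y).comp Θ := by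
    intro S _ _ φ y hφy
    apply SymmetricAlgebra.algHom_ext
    apply LinearMap.ext
    intro δ
    change SymmetricAlgebra.lift φ (SymmetricAlgebra.ι R D δ) =
      MvPolynomial.aeval y (Θ (SymmetricAlgebra.ι R D δ))
    rw [SymmetricAlgebra.lift_ι_apply, hΘι, map_sum, hφy]
    apply Finset.sum_congr rfl
    intro j _
    rw [map_smul, MvPolynomial.aeval_X]
  have hfac : ∀ (S : Type u) [CommRing S] [Algebra R S] (φ : D →ₗ[R] S),
      SymmetricAlgebra.lift φ =
        (MvPolynomial.aeval (fun j => φ (π (Pi.single j 1)))).comp Θ := by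
    intro S _ _ φ
    apply hfacgen
    intro δ
    have h1 : δ = π (ι δ) := by
      have := LinearMap.congr_fun hπι δ
      simpa using this.symm
    conv_lhs => rw [h1, LinearMap.pi_apply_eq_sum_univ π (ι δ), map_sum]
    apply Finset.sum_congr rfl
    intro j _
    rw [map_smul]
    congr 3
    ext i
    simp [Pi.single_apply, eq_comm]
  have hfac' : ∀ (y : Fin n → R), ∃ φ : D →ₗ[R] R,
      SymmetricAlgebra.lift φ = (MvPolynomial.aeval y).comp Θ := by
    intro y
    refine ⟨∑ j : Fin n, (LinearMap.toSpanSingleton R R (y j)) ∘ₗ ((LinearMap.proj j) ∘ₗ ι), ?_⟩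
    apply hfacgen
    intro δ
    simp [LinearMap.sum_apply]
  set r := t.card with hr
  set F : Fin r → A := fun i => ((t.equivFin.symm i : t) : A) with hF
  have hFmem : ∀ i, F i ∈ t := fun i => (t.equivFin.symm i).2
  have hFsurj : ∀ f ∈ t, ∃ i, F i = f := by
    intro f hf
    refine ⟨t.equivFin ⟨f, hf⟩, ?_⟩
    simp [hF]
  constructor
  · rintro ⟨φ, hφ⟩ m hm
    have hφ' := (hcrit R (SymmetricAlgebra.lift φ).toRingHom).mp hφ
    refine ⟨(Ideal.Quotient.mkₐ R m).toLinearMap ∘ₗ φ, ?_⟩
    have hcomp : SymmetricAlgebra.lift ((Ideal.Quotient.mkₐ R m).toLinearMap ∘ₗ φ) =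
        (Ideal.Quotient.mkₐ R m).comp (SymmetricAlgebra.lift φ) := by
      apply SymmetricAlgebra.algHom_ext
      apply LinearMap.ext
      intro δ
      simp
    rw [hcrit]
    intro q
    obtain ⟨f, hft, hfq⟩ := hφ' (PrimeSpectrum.comap (Ideal.Quotient.mk m) q)
    refine ⟨f, hft, ?_⟩
    rw [hcomp]
    exact hfq
  · intro h
    set g : MvPolynomial (Fin (n + r)) R :=
      ∑ i : Fin r, MvPolynomial.X (Fin.natAdd n i) * MvPolynomial.rename (Fin.castAdd r) (Θ (F i)) with hg
    have heval : ∀ (S : Type u) [CommRing S] [Algebra R S] (s : Fin (n + r) → S),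
        MvPolynomial.aeval s g = ∑ i : Fin r, s (Fin.natAdd n i) *
          MvPolynomial.aeval (fun j => s (Fin.castAdd r j)) (Θ (F i)) := by
      intro S _ _ s
      simp only [hg, map_sum, map_mul, MvPolynomial.aeval_X, MvPolynomial.aeval_rename]
      rfl
    have hres : ∀ (m : Ideal R) [m.IsMaximal], LGRing.RepresentsUnit g (R ⧸ m) := by
      intro m hm
      obtain ⟨φ, hφ⟩ := h m
      rw [hcrit] at hφ
      haveI : IsDomain (R ⧸ m) := (Ideal.Quotient.isDomain_iff_prime m).mpr hm.isPrime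
      obtain ⟨f, hft, hfq⟩ := hφ ⟨⊥, Ideal.isPrime_bot⟩
      obtain ⟨i₀, rfl⟩ := hFsurj f hft
      have ha0 : MvPolynomial.aeval (fun j => φ (π (Pi.single j 1))) (Θ (F i₀)) ≠ 0 := by
        intro h0
        apply hfq
        change _ ∈ (⊥ : Ideal (R ⧸ m))
        rw [Ideal.mem_bot]
        have := AlgHom.congr_fun (hfac (R ⧸ m) φ) (F i₀)
        rw [AlgHom.comp_apply] at this
        rw [← h0, ← this]
        rfl
      obtain ⟨b, hb⟩ := Ideal.Quotient.exists_inv ha0
      refine ⟨Fin.append (fun j => φ (π (Pi.single j 1))) (Pi.single i₀ b), ?_⟩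
      rw [heval]
      simp only [Fin.append_left, Fin.append_right]
      rw [Finset.sum_eq_single i₀]
      · rw [Pi.single_eq_same, mul_comm, hb]
        exact isUnit_one
      · intro i _ hi
        rw [Pi.single_eq_of_ne hi, zero_mul]
      · intro h; exact absurd (Finset.mem_univ _) h
    obtain ⟨s, hs⟩ := hR (n + r) g hres
    rw [heval] at hs
    obtain ⟨φ, hφ⟩ := hfac' (fun j => s (Fin.castAdd r j))
    refine ⟨φ, ?_⟩
    rw [hcrit]
    intro q
    by_contra hcon
    push Not at hcon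
    have : (∑ i : Fin r, s (Fin.natAdd n i) *
          MvPolynomial.aeval (fun j => s (Fin.castAdd r j)) (Θ (F i))) ∈ q.asIdeal := by
      apply Submodule.sum_mem
      intro i _
      apply Ideal.mul_mem_left
      have := hcon (F i) (hFmem i)
      have h2 := AlgHom.congr_fun hφ (F i)
      rw [AlgHom.comp_apply] at h2
      rw [← h2]
      exact this
    exact q.isPrime.ne_top (Ideal.eq_top_of_isUnit_mem _ this hs)

end Groth.Agent.S16600
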