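import Mathlib
import Groth.Statements.S16601
import Groth.Agent.S16600
import Groth.Agent.Lib.Helper19.LG.SpecCrit

set_option autoImplicit false
open AlgebraicGeometry
universe u
open LGRing

namespace Groth.Agent.S16601

/-- Let R be an LG-ring whose residue fields at maximal ideals are all infinite (R satisfies the
primitive criterion), M a finite locally free R-module with vector bundle W(M) = Spec Sym(M^∨), and
U ⊆ W(M) an open quasi-compact subscheme which is fibrewise dense over the closed points of Spec R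
(for every maximal ideal m, the trace of U on the closed fibre Spec (Sym(M^∨) ⧸ m Sym(M^∨)) is
dense). Then U has an R-valued point. (The source asks U to be R-dense in W(M); only density of the
closed fibres is used, which is what is assumed here.) -/
theorem result {R : Type u} [CommRing R]
    (hR : LGRing.IsLGRing R) (hinf : ∀ (m : Ideal R) [m.IsMaximal], Infinite (R ⧸ m))
    (M : Type u) [AddCommGroup M] [Module R M] [Module.Finite R M] [Module.Projective R M]
    (U : (Spec (CommRingCat.of (SymmetricAlgebra R (Module.Dual R M)))).Opens)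
    (hU : IsCompact (U : Set ↥(Spec (CommRingCat.of (SymmetricAlgebra R (Module.Dual R M))))))
    (hdense : ∀ (m : Ideal R) [m.IsMaximal],
      Dense ((Spec.map (CommRingCat.ofHom (Ideal.Quotient.mk
        (Ideal.map (algebraMap R (SymmetricAlgebra R (Module.Dual R M))) m)))).base ⁻¹'
          (U : Set ↥(Spec (CommRingCat.of (SymmetricAlgebra R (Module.Dual R M))))))) :
    ∃ φ : Module.Dual R M →ₗ[R] R,
      Set.range (Spec.map (CommRingCat.ofHom (SymmetricAlgebra.lift φ).toRingHom)).base ⊆
        (U : Set ↥(Spec (CommRingCat.of (SymmetricAlgebra R (Module.Dual R M))))) := by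
  classical
  rw [Groth.Agent.S16600.result hR M U hU]
  intro m hm
  set D := Module.Dual R M with hD
  set A := SymmetricAlgebra R D with hA
  obtain ⟨t, hcrit⟩ := Groth.Agent.Helper19.LG.spec_crit' U hU
  obtain ⟨n, π, ι, -, -, hπι⟩ := Module.Finite.exists_comp_eq_id_of_projective R D
  set P := MvPolynomial (Fin n) R with hP
  let θ : D →ₗ[R] P := ∑ j : Fin n, (LinearMap.toSpanSingleton R P (MvPolynomial.X j)) ∘ₗ
    ((LinearMap.proj j) ∘ₗ ι)
  have hθ : ∀ δ : D, θ δ = ∑ j : Fin n, (ι δ j) • (MvPolynomial.X j : P) := by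
    intro δ
    simp [θ, LinearMap.sum_apply]
  let Θ : A →ₐ[R] P := SymmetricAlgebra.lift θ
  have hΘι : ∀ δ : D, Θ (SymmetricAlgebra.ι R D δ) = ∑ j : Fin n, (ι δ j) • (MvPolynomial.X j : P) := by
    intro δ
    change SymmetricAlgebra.lift θ (SymmetricAlgebra.ι R D δ) = _
    rw [SymmetricAlgebra.lift_ι_apply, hθ]
  have hfacgen : ∀ (S : Type u) [CommRing S] [Algebra R S] (φ : D →ₗ[R] S) (y : Fin n → S),
      (∀ δ : D, φ δ = ∑ j : Fin n, (ι δ j) • y j) →
      SymmetricAlgebra.lift φ = (MvPolynomial.aeval y).comp Θ := by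
    intro S _ _ φ y hφy
    apply SymmetricAlgebra.algHom_ext
    apply LinearMap.ext
    intro δ
    change SymmetricAlgebra.lift φ (SymmetricAlgebra.ι R D δ) =
      MvPolynomial.aeval y (Θ (SymmetricAlgebra.ι R D δ))
    rw [SymmetricAlgebra.lift_ι_apply, hΘι, map_sum, hφy]
    apply Finset.sum_congr rfl
    intro j _
    rw [map_smul, MvPolynomial.aeval_X]
  have hfac : ∀ (S : Type u) [CommRing S] [Algebra R S] (φ : D →ₗ[R] S),
      SymmetricAlgebra.lift φ =
        (MvPolynomial.aeval (fun j => φ (π (Pi.single j 1)))).comp Θ := by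
    intro S _ _ φ
    apply hfacgen
    intro δ
    have h1 : δ = π (ι δ) := by
      have := LinearMap.congr_fun hπι δ
      simpa using this.symm
    conv_lhs => rw [h1, LinearMap.pi_apply_eq_sum_univ π (ι δ), map_sum]
    apply Finset.sum_congr rfl
    intro j _
    rw [map_smul]
    congr 3
    ext i
    simp [Pi.single_apply, eq_comm]
  let Pret : P →ₐ[R] A := MvPolynomial.aeval (fun j => SymmetricAlgebra.ι R D (π (Pi.single j 1)))
  have hPT : ∀ a : A, Pret (Θ a) = a := by
    intro a
    have h1 := AlgHom.congr_fun (hfac A (SymmetricAlgebra.ι R D)) a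
    rw [AlgHom.comp_apply] at h1
    have h2 : SymmetricAlgebra.lift (SymmetricAlgebra.ι R D) = AlgHom.id R A := by
      apply SymmetricAlgebra.algHom_ext
      apply LinearMap.ext
      intro δ
      change SymmetricAlgebra.lift (SymmetricAlgebra.ι R D) (SymmetricAlgebra.ι R D δ) =
        SymmetricAlgebra.ι R D δ
      rw [SymmetricAlgebra.lift_ι_apply]
    rw [h2] at h1
    exact h1.symm
  set I : Ideal A := Ideal.map (algebraMap R A) m with hI
  let ε : A →ₐ[R] R := SymmetricAlgebra.lift 0
  have hIne : I ≠ ⊤ := by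
    intro hItop
    have hle : I ≤ Ideal.comap (ε : A →+* R) m := by
      rw [hI, Ideal.map_le_iff_le_comap]
      intro x hx
      rw [Ideal.mem_comap, Ideal.mem_comap]
      have hx' : (ε : A →+* R) (algebraMap R A x) = x := by
        change ε (algebraMap R A x) = x
        rw [AlgHom.commutes]; rfl
      rw [hx']; exact hx
    have h1 : (1 : A) ∈ I := by rw [hItop]; trivial
    have h2 := hle h1
    rw [Ideal.mem_comap, map_one] at h2
    exact hm.ne_top ((Ideal.eq_top_iff_one m).mpr h2)
  haveI : Nontrivial (A ⧸ I) := Ideal.Quotient.nontrivial_iff.mpr hIne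
  haveI hne : Nonempty ↥(Spec (CommRingCat.of (A ⧸ I))) :=
    (inferInstance : Nonempty (PrimeSpectrum (A ⧸ I)))
  obtain ⟨qb, hqb⟩ := (hdense m).nonempty
  have hqb' : (Spec.map (CommRingCat.ofHom (Ideal.Quotient.mk I))).base qb ∈
      (U : Set ↥(Spec (CommRingCat.of A))) := hqb
  obtain ⟨f, hft, hfq⟩ := (hcrit (A ⧸ I) (Ideal.Quotient.mk I) qb).mp hqb'
  have hfI : f ∉ I := by
    intro hf
    apply hfq
    have h0 : (Ideal.Quotient.mk I) f = 0 := Ideal.Quotient.eq_zero_iff_mem.mpr hf
    rw [h0]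
    exact Ideal.zero_mem _
  set p : MvPolynomial (Fin n) (R ⧸ m) := MvPolynomial.map (Ideal.Quotient.mk m) (Θ f) with hp
  have hp0 : p ≠ 0 := by
    intro h0
    apply hfI
    have hmem : Θ f ∈ Ideal.map (MvPolynomial.C : R →+* P) m := by
      rw [MvPolynomial.mem_map_C_iff]
      intro mon
      have h5 := congrArg (MvPolynomial.coeff mon) h0
      rw [hp, MvPolynomial.coeff_map, MvPolynomial.coeff_zero] at h5
      exact Ideal.Quotient.eq_zero_iff_mem.mp h5
    have h3 : (Pret : P →+* A) (Θ f) ∈ Ideal.map (Pret : P →+* A) (Ideal.map (MvPolynomial.C : R →+* P) m) :=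
      Ideal.mem_map_of_mem _ hmem
    rw [Ideal.map_map] at h3
    have h4 : ((Pret : P →+* A).comp (MvPolynomial.C : R →+* P)) = algebraMap R A := by
      ext x
      exact MvPolynomial.aeval_C _ x
    rw [h4] at h3
    have h6 : (Pret : P →+* A) (Θ f) = f := hPT f
    rw [h6] at h3
    exact h3
  haveI : Infinite (R ⧸ m) := hinf m
  haveI : IsDomain (R ⧸ m) := (Ideal.Quotient.isDomain_iff_prime m).mpr hm.isPrime
  have hex : ∃ y : Fin n → R ⧸ m, MvPolynomial.eval y p ≠ 0 := by
    by_contra hcon
    push Not at hcon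
    apply hp0
    apply MvPolynomial.funext
    intro y
    rw [hcon y, map_zero]
  obtain ⟨y, hy⟩ := hex
  refine ⟨∑ j : Fin n, (LinearMap.toSpanSingleton R (R ⧸ m) (y j)) ∘ₗ ((LinearMap.proj j) ∘ₗ ι), ?_⟩
  have hφ : SymmetricAlgebra.lift (∑ j : Fin n, (LinearMap.toSpanSingleton R (R ⧸ m) (y j)) ∘ₗ
      ((LinearMap.proj j) ∘ₗ ι)) = (MvPolynomial.aeval y).comp Θ := by
    apply hfacgen
    intro δ
    simp [LinearMap.sum_apply]
  rintro _ ⟨q, rfl⟩
  refine (hcrit (R ⧸ m) _ q).mpr ⟨f, hft, ?_⟩
  rw [hφ]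
  have hval : ((MvPolynomial.aeval y).comp Θ).toRingHom f = MvPolynomial.eval y p := by
    change MvPolynomial.aeval y (Θ f) = MvPolynomial.eval y p
    rw [hp, MvPolynomial.aeval_def, MvPolynomial.eval_map]
    rfl
  rw [hval]
  intro hmem
  obtain ⟨b, hb⟩ := Ideal.Quotient.exists_inv hy
  have h1 : (1 : R ⧸ m) ∈ q.asIdeal := by
    rw [← hb]
    exact Ideal.mul_mem_right _ _ hmem
  exact q.isPrime.ne_top ((Ideal.eq_top_iff_one _).mpr h1)

end Groth.Agent.S16601
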