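import Groth.Statements.S16661
-- import your own Groth.Agent.* helpers here

set_option autoImplicit false
universe v u
open TensorProduct
open Conn

namespace Groth.Agent.S16661

/-- Let B be an A-algebra with a receptacle of differentials (Ω, δ), Ω a finite free B-module (the
affine-local form of differentials locally free of finite type), let M be a finite free B-module
(the local form of a vector bundle) with a connection ∇ : M → M ⊗ Ω, and let ∇_E be the induced
connection on the B-linear endomorphisms of M, the one with (ev_m ⊗ 1)(∇_E φ) = ∇(φ m) − (φ ⊗ 1)(∇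
m). Give B the connection b ↦ 1 ⊗ δ b. Then the trace map End_B(M) → B is horizontal: 1 ⊗ δ(tr φ) =
(tr ⊗ 1)(∇_E φ) for every endomorphism φ. -/
theorem result {A : Type v} {B Ω M : Type u}
    [CommRing A] [CommRing B] [Algebra A B]
    [AddCommGroup Ω] [Module B Ω] [Module A Ω] [IsScalarTower A B Ω] [Module.Finite B Ω] [Module.Free B Ω]
    [AddCommGroup M] [Module B M] [Module A M] [IsScalarTower A B M] [Module.Finite B M] [Module.Free B M]
    (δ : Derivation A B Ω) (nabla : M →ₗ[A] M ⊗[B] Ω) (hc : Conn.IsConn δ nabla)
    (nablaE : (M →ₗ[B] M) →ₗ[A] (M →ₗ[B] M) ⊗[B] Ω) (hE : Conn.IsHomConn nabla nabla nablaE) :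
    Conn.IsHorizontal nablaE (Conn.triv δ) (LinearMap.trace B M) := by
  classical
  intro φ
  let b := Module.Free.chooseBasis B M
  have htr : ∀ t : (M →ₗ[B] M) ⊗[B] Ω, TensorProduct.map (LinearMap.trace B M) LinearMap.id t =
      ∑ i, TensorProduct.map (b.coord i) LinearMap.id
        (TensorProduct.map (LinearMap.applyₗ (b i)) LinearMap.id t) := by
    intro t
    induction t using TensorProduct.induction_on with
    | zero => simp
    | add x y hx hy => simp only [map_add, hx, hy, Finset.sum_add_distrib]
    | tmul ψ ω =>
      simp only [TensorProduct.map_tmul, LinearMap.id_apply, LinearMap.applyₗ_apply_apply]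
      rw [LinearMap.trace_eq_matrix_trace B b, Matrix.trace, TensorProduct.sum_tmul]
      simp [LinearMap.toMatrix_apply]
  have hnab : ∀ m : M, nabla m = ∑ j, (b.repr m j • nabla (b j) + b j ⊗ₜ[B] δ (b.repr m j)) := by
    intro m
    conv_lhs => rw [← b.sum_repr m]
    rw [map_sum]
    exact Finset.sum_congr rfl (fun j _ => hc _ _)
  have hfun : ∀ (l : M →ₗ[B] B) (t : M ⊗[B] Ω), TensorProduct.map l LinearMap.id t =
      ∑ j, l (b j) • TensorProduct.map (b.coord j) LinearMap.id t := by
    intro l t
    induction t using TensorProduct.induction_on with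
    | zero => simp
    | add x y hx hy => simp only [map_add, hx, hy, smul_add, Finset.sum_add_distrib]
    | tmul m ω =>
      simp only [TensorProduct.map_tmul, LinearMap.id_apply, TensorProduct.smul_tmul', ← TensorProduct.sum_tmul]
      congr 1
      conv_lhs => rw [← b.sum_repr m, map_sum]
      refine Finset.sum_congr rfl (fun j _ => ?_)
      rw [map_smul, smul_eq_mul, smul_eq_mul, mul_comm]
      rfl
  have hcomp : ∀ (i : _) (t : M ⊗[B] Ω), TensorProduct.map (b.coord i) LinearMap.id
      (TensorProduct.map φ LinearMap.id t) = TensorProduct.map ((b.coord i) ∘ₗ φ) LinearMap.id t := by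
    intro i t
    induction t using TensorProduct.induction_on with
    | zero => simp
    | add x y hx hy => simp only [map_add, hx, hy]
    | tmul m ω => simp
  rw [htr]
  have hE' : ∀ (ψ : M →ₗ[B] M) (m : M), TensorProduct.map (LinearMap.applyₗ m) LinearMap.id (nablaE ψ) =
      nabla (ψ m) - TensorProduct.map ψ LinearMap.id (nabla m) := hE
  simp only [hE', map_sub, hcomp]
  have h1 : ∀ i, TensorProduct.map (b.coord i) LinearMap.id (nabla (φ (b i))) =
      ∑ j, b.repr (φ (b i)) j • TensorProduct.map (b.coord i) LinearMap.id (nabla (b j)) +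
        (1 : B) ⊗ₜ[B] δ (b.repr (φ (b i)) i) := by
    intro i
    rw [hnab (φ (b i)), map_sum]
    simp only [map_add, map_smul, TensorProduct.map_tmul, LinearMap.id_apply, Finset.sum_add_distrib]
    congr 1
    rw [Finset.sum_eq_single i]
    · simp
    · intro j _ hji
      have : b.coord i (b j) = 0 := by simp [Module.Basis.coord_apply, Finsupp.single_apply, hji]
      rw [this, TensorProduct.zero_tmul]
    · intro h; exact absurd (Finset.mem_univ i) h
  have h2 : ∀ i, TensorProduct.map ((b.coord i) ∘ₗ φ) LinearMap.id (nabla (b i)) =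
      ∑ j, b.repr (φ (b j)) i • TensorProduct.map (b.coord j) LinearMap.id (nabla (b i)) := by
    intro i
    rw [hfun]
    rfl
  simp only [h1, h2, Finset.sum_sub_distrib, Finset.sum_add_distrib]
  rw [Finset.sum_comm, add_sub_cancel_left, triv_apply, LinearMap.trace_eq_matrix_trace B b, Matrix.trace,
    map_sum, TensorProduct.tmul_sum]
  refine Finset.sum_congr rfl (fun i _ => ?_)
  rw [Matrix.diag_apply, LinearMap.toMatrix_apply]

end Groth.Agent.S16661
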