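import Groth.Statements.S16663
-- import your own Groth.Agent.* helpers here
import Groth.Agent.Lib.Helper25.TensorHom
import Groth.Agent.S16661

set_option autoImplicit false
universe v u
open TensorProduct
open Conn

namespace Groth.Agent.S16663

/-- Let B be an A-algebra with a receptacle of differentials (Ω, δ), Ω a finite free B-module (the local
form of a weakly smooth scheme), and let M be a finitely ℤ-graded B-module presented as a finite
family of finite free B-modules M_i with integer degrees deg i (the local form of a graded vector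
bundle), with total module Π_i M_i. Let ∇ be a connection on Π_i M_i preserving the grading, in the
sense that (pr_j ⊗ 1)(∇(ι_i m)) = 0 for m ∈ M_i whenever deg i ≠ deg j, and let ∇_E be the induced
connection on the B-linear endomorphisms, the one with (ev_m ⊗ 1)(∇_E φ) = ∇(φ m) − (φ ⊗ 1)(∇ m).
Give B the connection b ↦ 1 ⊗ δ b. Then the supertrace, φ ↦ tr(ε ∘ φ) with ε = Σ_i (−1)^{deg i} ι_i
∘ pr_i the grading involution, is a horizontal map End_B(Π_i M_i) → B. -/
theorem result {A : Type v} {B Ω ι : Type u}
    [CommRing A] [CommRing B] [Algebra A B]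
    [AddCommGroup Ω] [Module B Ω] [Module A Ω] [IsScalarTower A B Ω] [Module.Finite B Ω] [Module.Free B Ω]
    [Fintype ι] [DecidableEq ι] (deg : ι → ℤ) (M : ι → Type u)
    [∀ i, AddCommGroup (M i)] [∀ i, Module B (M i)] [∀ i, Module A (M i)] [∀ i, IsScalarTower A B (M i)]
    [∀ i, Module.Free B (M i)] [∀ i, Module.Finite B (M i)]
    (δ : Derivation A B Ω) (nabla : (Π k, M k) →ₗ[A] (Π k, M k) ⊗[B] Ω) (hc : Conn.IsConn δ nabla)
    (hgr : ∀ i j : ι, deg i ≠ deg j → ∀ m : M i,
      TensorProduct.map (LinearMap.proj j : (Π k, M k) →ₗ[B] M j) LinearMap.id (nabla (LinearMap.single B M i m)) = 0)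
    (nablaE : ((Π k, M k) →ₗ[B] (Π k, M k)) →ₗ[A] ((Π k, M k) →ₗ[B] (Π k, M k)) ⊗[B] Ω)
    (hE : Conn.IsHomConn nabla nabla nablaE) :
    Conn.IsHorizontal nablaE (Conn.triv δ)
      (LinearMap.trace B (Π k, M k) ∘ₗ LinearMap.llcomp B (Π k, M k) (Π k, M k) (Π k, M k)
        (∑ i : ι, (LinearMap.single B M i) ∘ₗ (((-1 : B) ^ (deg i).natAbs) • (LinearMap.proj i : (Π k, M k) →ₗ[B] M i)))) := by
  classical
  intro φ
  set ε : (Π k, M k) →ₗ[B] (Π k, M k) :=
    ∑ i : ι, (LinearMap.single B M i) ∘ₗ (((-1 : B) ^ (deg i).natAbs) • (LinearMap.proj i : (Π k, M k) →ₗ[B] M i)) with hεdef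
  have hεt : ∀ t : (Π k, M k) ⊗[B] Ω, TensorProduct.map ε LinearMap.id t =
      ∑ j : ι, ((-1 : B) ^ (deg j).natAbs) • TensorProduct.map (LinearMap.single B M j) LinearMap.id
        (TensorProduct.map (LinearMap.proj j : (Π k, M k) →ₗ[B] M j) LinearMap.id t) := by
    intro t
    induction t using TensorProduct.induction_on with
    | zero => simp
    | add x y hx hy => simp only [map_add, hx, hy, smul_add, Finset.sum_add_distrib]
    | tmul x ω =>
      simp only [TensorProduct.map_tmul, LinearMap.id_apply, hεdef, LinearMap.sum_apply, LinearMap.comp_apply,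
        LinearMap.smul_apply, TensorProduct.sum_tmul, map_smul, TensorProduct.smul_tmul']
  have hid : ∀ t : (Π k, M k) ⊗[B] Ω, ∑ j : ι, TensorProduct.map (LinearMap.single B M j) LinearMap.id
        (TensorProduct.map (LinearMap.proj j : (Π k, M k) →ₗ[B] M j) LinearMap.id t) = t := by
    intro t
    induction t using TensorProduct.induction_on with
    | zero => simp
    | add x y hx hy => simp only [map_add, Finset.sum_add_distrib, hx, hy]
    | tmul x ω =>
      simp only [TensorProduct.map_tmul, LinearMap.id_apply, ← TensorProduct.sum_tmul]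
      congr 1
      simp only [LinearMap.proj_apply, LinearMap.coe_single]
      exact Finset.univ_sum_single x
  have hδ : ∀ n : ℕ, δ ((-1 : B) ^ n) = 0 := by
    intro n
    have : ((-1 : B) ^ n) = algebraMap A B ((-1 : A) ^ n) := by simp
    rw [this, Derivation.map_algebraMap]
  have hεs : ∀ (i : ι) (y : M i), ε (LinearMap.single B M i y) = ((-1 : B) ^ (deg i).natAbs) • LinearMap.single B M i y := by
    intro i y
    simp only [hεdef, LinearMap.sum_apply, LinearMap.comp_apply, LinearMap.smul_apply, LinearMap.proj_apply,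
      LinearMap.coe_single]
    rw [Finset.sum_eq_single i]
    · rw [Pi.single_eq_same, Pi.single_smul]
    · intro j _ hji
      rw [Pi.single_eq_of_ne hji, smul_zero, Pi.single_zero]
    · intro h; exact absurd (Finset.mem_univ i) h
  have hε : ∀ x : (Π k, M k), nabla (ε x) = TensorProduct.map ε LinearMap.id (nabla x) := by
    intro x
    have hx : x = ∑ i : ι, LinearMap.single B M i (x i) := by
      simp only [LinearMap.coe_single]
      exact (Finset.univ_sum_single x).symm
    rw [hx]
    simp only [map_sum]
    refine Finset.sum_congr rfl (fun i _ => ?_)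
    rw [hεs, hc, hδ, TensorProduct.tmul_zero, add_zero, hεt]
    conv_lhs => rw [← hid (nabla (LinearMap.single B M i (x i))), Finset.smul_sum]
    refine Finset.sum_congr rfl (fun j _ => ?_)
    by_cases hij : deg i = deg j
    · rw [hij]
    · rw [hgr i j hij, map_zero, smul_zero, smul_zero]
  have hL : nablaE (ε ∘ₗ φ) = TensorProduct.map (LinearMap.llcomp B (Π k, M k) (Π k, M k) (Π k, M k) ε)
      LinearMap.id (nablaE φ) := by
    apply Groth.Agent.Helper25.hom_tensor_ext
    intro m
    have n1 : ∀ t : ((Π k, M k) →ₗ[B] (Π k, M k)) ⊗[B] Ω,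
        TensorProduct.map (LinearMap.applyₗ m) LinearMap.id
          (TensorProduct.map (LinearMap.llcomp B (Π k, M k) (Π k, M k) (Π k, M k) ε) LinearMap.id t) =
        TensorProduct.map ε LinearMap.id (TensorProduct.map (LinearMap.applyₗ m) LinearMap.id t) := by
      intro t
      induction t using TensorProduct.induction_on with
      | zero => simp
      | add x y hx hy => simp only [map_add, hx, hy]
      | tmul ψ ω => simp
    have n2 : ∀ t : (Π k, M k) ⊗[B] Ω, TensorProduct.map (ε ∘ₗ φ) LinearMap.id t =
        TensorProduct.map ε LinearMap.id (TensorProduct.map φ LinearMap.id t) := by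
      intro t
      induction t using TensorProduct.induction_on with
      | zero => simp
      | add x y hx hy => simp only [map_add, hx, hy]
      | tmul x ω => simp
    rw [hE, n1, hE, map_sub, n2, LinearMap.comp_apply, hε]
  have n3 : ∀ t : ((Π k, M k) →ₗ[B] (Π k, M k)) ⊗[B] Ω,
      TensorProduct.map (LinearMap.trace B (Π k, M k) ∘ₗ LinearMap.llcomp B (Π k, M k) (Π k, M k) (Π k, M k) ε)
        LinearMap.id t =
      TensorProduct.map (LinearMap.trace B (Π k, M k)) LinearMap.id
        (TensorProduct.map (LinearMap.llcomp B (Π k, M k) (Π k, M k) (Π k, M k) ε) LinearMap.id t) := by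
    intro t
    induction t using TensorProduct.induction_on with
    | zero => simp
    | add x y hx hy => simp only [map_add, hx, hy]
    | tmul ψ ω => simp
  rw [n3, ← hL]
  exact Groth.Agent.S16661.result δ nabla hc nablaE hE (ε ∘ₗ φ)

end Groth.Agent.S16663
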