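import Groth.Statements.S16673
import Groth.Agent.Lib.Helper18.PRankGrp
import Groth.Agent.Lib.Helper18.KPts
import Groth.Agent.Lib.Helper15.Wt2

set_option autoImplicit false
universe u
open CategoryTheory CategoryTheory.Limits MonoidalCategory CartesianMonoidalCategory MonObj GrpObj AlgebraicGeometry
open AbVar

namespace Groth.Agent.S16673

/-- Let k be a field of characteristic p > 0 with an algebraic closure k̄, let X and Y be abelian
varieties over k (proper, geometrically integral, commutative k-group schemes) and let h : X → Y be
a homomorphism which is finite and surjective (an isogeny). If i and j are natural numbers such that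
for every m ≥ 0 the group X[p^m](k̄) of k̄-valued points of X killed by p^m (k̄-valued points being
the k-morphisms Spec k̄ → X, a group under the group law of X) is isomorphic to (ℤ/p^m)^i and the
group Y[p^m](k̄) is isomorphic to (ℤ/p^m)^j (groups of points written multiplicatively), then i = j:
the p-rank is an isogeny invariant. -/
theorem result (k : Type u) [Field k] (p : ℕ) [Fact p.Prime] [CharP k p]
    (X Y : Over (Spec (CommRingCat.of k)))
    [GrpObj X] [IsCommMonObj X] [IsProper X.hom] [GeometricallyIntegral X.hom]
    [GrpObj Y] [IsCommMonObj Y] [IsProper Y.hom] [GeometricallyIntegral Y.hom]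
    (h : X ⟶ Y) [IsMonHom h] [IsFinite h.left] [Surjective h.left]
    (i j : ℕ)
    (hi : ∀ m : ℕ, Nonempty (AbDual.torsPts X (p ^ m)
      (Over.mk (Spec.map (CommRingCat.ofHom (algebraMap k (AlgebraicClosure k))))) ≃*
      Multiplicative (Fin i → ZMod (p ^ m))))
    (hj : ∀ m : ℕ, Nonempty (AbDual.torsPts Y (p ^ m)
      (Over.mk (Spec.map (CommRingCat.ofHom (algebraMap k (AlgebraicClosure k))))) ≃*
      Multiplicative (Fin j → ZMod (p ^ m)))) :
    i = j := by
  let T : Over (Spec (CommRingCat.of k)) :=
    Groth.Agent.Helper18.KPts.objK k (AlgebraicClosure k)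
  let φ : (T ⟶ X) →* (T ⟶ Y) :=
    { toFun := fun x => x ≫ h
      map_one' := MonObj.one_comp h
      map_mul' := fun a b => MonObj.mul_comp a b h }
  haveI : LocallyOfFiniteType X.hom := inferInstance
  have hs : Function.Surjective φ := fun y =>
    Groth.Agent.Helper18.KPts.exists_kpt_lift (K := AlgebraicClosure k) h y
  have hk : Finite φ.ker := by
    haveI : LocallyQuasiFinite h.left := inferInstance
    haveI : QuasiCompact h.left := inferInstance
    have hfin : (h.left ⁻¹' {(1 : T ⟶ Y).left (Groth.Agent.Helper15.Wt.pt (AlgebraicClosure k))}).Finite :=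
      Scheme.Hom.finite_preimage_singleton h.left _
    have hL : Finite (Groth.Agent.Helper15.Wt.Lifts h.left (1 : T ⟶ Y).left) :=
      Groth.Agent.Helper15.Wt.finite_lifts h.left (1 : T ⟶ Y).left hfin
    have hmem : ∀ x : φ.ker, x.1.left ≫ h.left = (1 : T ⟶ Y).left := by
      intro x
      have := x.2
      rw [MonoidHom.mem_ker] at this
      exact congrArg (fun z : T ⟶ Y => z.left) this
    let f : φ.ker → Groth.Agent.Helper15.Wt.Lifts h.left (1 : T ⟶ Y).left :=
      fun x => ⟨x.1.left, hmem x⟩
    have hf : Function.Injective f := by
      intro x y hxy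
      apply Subtype.ext
      apply Over.OverMorphism.ext
      exact congrArg Subtype.val hxy
    exact @Finite.of_injective _ _ hL f hf
  exact Groth.Agent.Helper18.PRankGrp.main φ hs hk p i j hi hj

end Groth.Agent.S16673
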