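import Groth.Statements.S16675
import Groth.Agent.Lib.Helper18.GrpGenFlat

set_option autoImplicit false
universe u
open CategoryTheory CategoryTheory.Limits MonoidalCategory CartesianMonoidalCategory MonObj GrpObj AlgebraicGeometry
open AbVar

namespace Groth.Agent.S16675

/-- The equivalence of its second and third conditions. Let X and Y be abelian varieties over a field k
(proper, geometrically integral k-group schemes), f : X → Y a homomorphism which is finite, flat and
surjective (an isogeny), and i : N → X the kernel of f (the square formed by i, f, the unit section
of Y and the structure map of N is cartesian). Then f is étale if and only if the structure morphism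
N → Spec k is étale. (The published item also includes the equivalent condition that the function
field of X is separable over that of Y; that clause is not part of this statement.) -/
theorem result (k : Type u) [Field k]
    (X Y : Over (Spec (CommRingCat.of k)))
    [GrpObj X] [IsProper X.hom] [GeometricallyIntegral X.hom]
    [GrpObj Y] [IsProper Y.hom] [GeometricallyIntegral Y.hom]
    (f : X ⟶ Y) [IsMonHom f] [IsFinite f.left] [Flat f.left] [Surjective f.left]
    (N : Over (Spec (CommRingCat.of k))) (i : N ⟶ X) (hN : AlgGrp.IsKernel i f) :
    Etale f.left ↔ Etale N.hom := by
  constructor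
  · intro hs
    have h := Groth.Agent.Helper18.GrpFppf.isPullback_left hN
    have h2 : Etale (toUnit N).left := MorphismProperty.of_isPullback (P := @Etale) h hs
    have e : (toUnit N).left = N.hom := by
      have := Over.w (toUnit N)
      rw [← this]
      exact (Category.comp_id _).symm
    rw [← e]; exact h2
  · intro hs
    haveI := hs
    have hpb := Groth.Agent.Helper18.GrpFppf.isPullback_mul_of_isKernel f i hN (𝟙 X)
    have hm : lift (fst X N ≫ 𝟙 X) (snd X N ≫ i) ≫ μ[X]
        = (Groth.Agent.Helper18.GrpFppf.rshear i).hom ≫ fst X N := by
      rw [Groth.Agent.Helper18.GrpFppf.rshear_hom_fst, Category.comp_id]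
      have : (X ◁ i) = lift (fst X N) (snd X N ≫ i) := by
        apply CartesianMonoidalCategory.hom_ext <;> simp
      rw [this]
    haveI : IsIso (Groth.Agent.Helper18.GrpFppf.rshear i).hom.left :=
      inferInstanceAs (IsIso ((Over.forget (Spec (CommRingCat.of k))).map
        (Groth.Agent.Helper18.GrpFppf.rshear i).hom))
    haveI : Etale (fst X N).left := by
      show Etale (Limits.pullback.fst X.hom N.hom); infer_instance
    have hsm : Etale (lift (fst X N ≫ 𝟙 X) (snd X N ≫ i) ≫ μ[X]).left := by
      rw [hm, Over.comp_left]; infer_instance
    have := Groth.Agent.Helper18.GrpFppf.descend @Etale hpb hsm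
    rwa [Category.id_comp] at this

end Groth.Agent.S16675
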