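import Groth.Statements.S16676
import Groth.Agent.Lib.Helper18.GrpGenFlat
import Groth.Agent.Lib.Helper18.UnivInjSection

set_option autoImplicit false
universe u
open CategoryTheory CategoryTheory.Limits MonoidalCategory CartesianMonoidalCategory MonObj GrpObj AlgebraicGeometry
open AbVar

namespace Groth.Agent.S16676

/-- The equivalence of its second and third conditions. Let X and Y be abelian varieties over a field k
(proper, geometrically integral k-group schemes), f : X → Y a homomorphism which is finite, flat and
surjective (an isogeny), and i : N → X the kernel of f (the square formed by i, f, the unit section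
of Y and the structure map of N is cartesian). Then f is universally injective (a purely inseparable
morphism) if and only if the scheme N is connected. (The published item also includes the equivalent
condition that the function field of X is purely inseparable over that of Y; that clause is not part
of this statement.) -/
theorem result (k : Type u) [Field k]
    (X Y : Over (Spec (CommRingCat.of k)))
    [GrpObj X] [IsProper X.hom] [GeometricallyIntegral X.hom]
    [GrpObj Y] [IsProper Y.hom] [GeometricallyIntegral Y.hom]
    (f : X ⟶ Y) [IsMonHom f] [IsFinite f.left] [Flat f.left] [Surjective f.left]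
    (N : Over (Spec (CommRingCat.of k))) (i : N ⟶ X) (hN : AlgGrp.IsKernel i f) :
    UniversallyInjective f.left ↔ ConnectedSpace ↥N.left := by
  -- the unit point of the kernel
  have hη : η[X] ≫ f = 1 := by
    rw [IsMonHom.one_hom, Hom.one_def, toUnit_unique (toUnit _) (𝟙 _), Category.id_comp]
  obtain ⟨e, he⟩ := Groth.Agent.Helper18.GrpFppf.IsKernel.exists_lift hN η[X] hη
  have hN' : (toUnit N).left = N.hom := by
    have := Over.w (toUnit N)
    rw [← this]
    exact (Category.comp_id _).symm
  have heN : e.left ≫ N.hom = 𝟙 _ := Over.w e
  let pt : ↥(𝟙_ (Over (Spec (CommRingCat.of k)))).left :=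
    (IsLocalRing.closedPoint k : PrimeSpectrum k)
  haveI : Nonempty N.left := ⟨e.left pt⟩
  constructor
  · intro hs
    have h := Groth.Agent.Helper18.GrpFppf.isPullback_left hN
    have h2 : UniversallyInjective (toUnit N).left :=
      MorphismProperty.of_isPullback (P := @UniversallyInjective) h hs
    rw [hN'] at h2
    haveI : Subsingleton N.left := by
      refine ⟨fun a b => N.hom.injective ?_⟩
      exact Subsingleton.elim (α := PrimeSpectrum k) _ _
    exact ConnectedSpace.mk inferInstance
  · intro hc
    haveI : IsFinite (toUnit N).left :=
      MorphismProperty.of_isPullback (P := @IsFinite)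
        (Groth.Agent.Helper18.GrpFppf.isPullback_left hN) inferInstance
    haveI : IsFinite N.hom := by rw [← hN']; infer_instance
    haveI : IsLocallyArtinian (Spec (CommRingCat.of k)) := by
      rw [Scheme.isLocallyArtinianScheme_Spec]; infer_instance
    haveI : IsLocallyArtinian N.left := IsLocallyArtinian.of_locallyQuasiFinite N.hom
    haveI : DiscreteTopology N.left := inferInstance
    haveI : Subsingleton N.left := subsingleton_of_preconnected_totallyDisconnected
    haveI : Surjective e.left := ⟨fun y => ⟨pt, Subsingleton.elim _ _⟩⟩
    haveI : UniversallyInjective N.hom :=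
      Groth.Agent.Helper18.UnivInjSection.universallyInjective_of_surjective_section N.hom e.left heN
    have hpb := Groth.Agent.Helper18.GrpFppf.isPullback_mul_of_isKernel f i hN (𝟙 X)
    have hm : lift (fst X N ≫ 𝟙 X) (snd X N ≫ i) ≫ μ[X]
        = (Groth.Agent.Helper18.GrpFppf.rshear i).hom ≫ fst X N := by
      rw [Groth.Agent.Helper18.GrpFppf.rshear_hom_fst, Category.comp_id]
      have : (X ◁ i) = lift (fst X N) (snd X N ≫ i) := by
        apply CartesianMonoidalCategory.hom_ext <;> simp
      rw [this]
    haveI : IsIso (Groth.Agent.Helper18.GrpFppf.rshear i).hom.left :=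
      inferInstanceAs (IsIso ((Over.forget (Spec (CommRingCat.of k))).map
        (Groth.Agent.Helper18.GrpFppf.rshear i).hom))
    haveI : UniversallyInjective (fst X N).left := by
      show UniversallyInjective (Limits.pullback.fst X.hom N.hom)
      exact MorphismProperty.of_isPullback (P := @UniversallyInjective)
        (IsPullback.of_hasPullback X.hom N.hom).flip ‹UniversallyInjective N.hom›
    have hsm : UniversallyInjective (lift (fst X N ≫ 𝟙 X) (snd X N ≫ i) ≫ μ[X]).left := by
      rw [hm, Over.comp_left]
      exact MorphismProperty.comp_mem _ _ _ (inferInstance : UniversallyInjective _) ‹_›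
    have := Groth.Agent.Helper18.GrpFppf.descend @UniversallyInjective hpb hsm
    rwa [Category.id_comp] at this

end Groth.Agent.S16676
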