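import Mathlib
import Groth.Statements.S16699
import Groth.Agent.Lib.Helper19.ImmLib

set_option autoImplicit false
universe u
open AlgSt AlgSt.IsWellNighAffine

namespace Groth.Agent.S16699

open CategoryTheory AlgebraicGeometry in
/-- An algebraic stack affine over a well-nigh affine algebraic stack is well-nigh affine. -/
theorem result (S : Scheme.{u}) (𝒳 𝒳' : AlgSt.Cat S)
    (h𝒳 : AlgSt.IsAlgStack Scheme.fppfPrecoverage 𝒳) (h𝒳' : AlgSt.IsAlgStack Scheme.fppfPrecoverage 𝒳')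
    (hw : AlgSt.IsWellNighAffine 𝒳) (f : 𝒳' ⥤ᵇ 𝒳) (hf : AlgSt.RepByAlgSpWith AlgSp.IsAffineMor f) :
    AlgSt.IsWellNighAffine 𝒳' := by
  obtain ⟨U, x, hU, hx⟩ := hw
  obtain ⟨A, e, he, ha⟩ := hf U x
  obtain ⟨W, i, fst, sq, hW⟩ := ha hU (𝟙 _)
  have hiso : IsIso fst := IsPullback.isIso_fst_of_isIso sq
  have hei : FibCat.IsEquivOver (AlgSt.ofSpMap fst) :=
    Groth.Agent.Helper19.PshLib.isEquivOver_ofPshMap_iso
      ((sheafToPresheaf (AlgSp.J S) (Type (u + 1))).mapIso (asIso fst))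
  have hE : FibCat.IsEquivOver (BasedFunctor.comp (AlgSt.ofOverCat W)
      (BasedFunctor.comp (AlgSt.ofSpMap fst) e)) :=
    Groth.Agent.Helper19.FibLib.IsEquivOver.comp (Groth.Agent.Helper19.PshSt.isEquivOver_ofOverCat W)
      (Groth.Agent.Helper19.FibLib.IsEquivOver.comp hei he)
  refine ⟨W, BasedFunctor.comp (BasedFunctor.comp (AlgSt.ofOverCat W)
      (BasedFunctor.comp (AlgSt.ofSpMap fst) e)) (FibCat.fpSnd x f), hW, ?_⟩
  exact (Groth.Agent.Helper19.StLib.repByAlgSpWith_equiv_comp _ hE (FibCat.fpSnd x f)).2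
    (Groth.Agent.Helper19.StLib.repByAlgSpWith_fpSnd x f hx)

end Groth.Agent.S16699
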