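import Groth.Statements.S16707
-- import your own Groth.Agent.* helpers here
import Mathlib.RingTheory.Flat.Equalizer
import Mathlib.LinearAlgebra.TensorProduct.Quotient

set_option autoImplicit false
universe u v
open CAlg

namespace Groth.Agent.S16707

open TensorProduct in
/-- Let A be a commutative ring, I a nilpotent ideal of A and f : M → N a homomorphism of A-modules with
N flat over A (no finiteness assumption on M or N). If the base change of f to A/I, that is M/IM →
N/IN, is bijective, then f is bijective. -/
theorem result (A : Type u) [CommRing A] (I : Ideal A)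
    (hI : IsNilpotent I) (M N : Type v) [AddCommGroup M] [Module A M] [AddCommGroup N] [Module A N]
    [Module.Flat A N] (f : M →ₗ[A] N)
    (hf : Function.Bijective (f.baseChange (A ⧸ I))) :
    Function.Bijective f := by
  classical
  obtain ⟨n, hn⟩ := hI
  have nak : ∀ (X : Type v) [AddCommGroup X] [Module A X] (P : Submodule A X),
      P ⊔ I • (⊤ : Submodule A X) = ⊤ → P = ⊤ := by
    intro X _ _ P h
    have key : ∀ k : ℕ, P ⊔ (I ^ k) • (⊤ : Submodule A X) = ⊤ := by
      intro k
      induction k with
      | zero => simp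
      | succ k ih =>
        rw [eq_top_iff]
        calc (⊤ : Submodule A X) = P ⊔ I • (⊤ : Submodule A X) := h.symm
          _ = P ⊔ I • (P ⊔ (I ^ k) • (⊤ : Submodule A X)) := by rw [ih]
          _ = P ⊔ (I • P ⊔ I • ((I ^ k) • (⊤ : Submodule A X))) := by rw [Submodule.smul_sup]
          _ ≤ P ⊔ (I ^ (k + 1)) • (⊤ : Submodule A X) := by
            refine sup_le le_sup_left (sup_le (le_sup_of_le_left Submodule.smul_le_right) ?_)
            rw [← Submodule.mul_smul, ← pow_succ']
            exact le_sup_right
    have := key n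
    rw [hn] at this
    simpa using this
  have one_tmul_eq_zero : ∀ (X : Type v) [AddCommGroup X] [Module A X] (x : X),
      ((1 : A ⧸ I) ⊗ₜ[A] x = 0) → x ∈ I • (⊤ : Submodule A X) := by
    intro X _ _ x hx
    have h2 := congrArg (TensorProduct.quotTensorEquivQuotSMul X I) hx
    rw [← map_one (Ideal.Quotient.mk I), TensorProduct.quotTensorEquivQuotSMul_mk_tmul, map_zero, one_smul,
      Submodule.Quotient.mk_eq_zero] at h2
    exact h2
  have all_one_tmul : ∀ (X : Type v) [AddCommGroup X] [Module A X] (z : (A ⧸ I) ⊗[A] X),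
      ∃ x : X, z = (1 : A ⧸ I) ⊗ₜ[A] x := by
    intro X _ _ z
    obtain ⟨x, hx⟩ := Submodule.Quotient.mk_surjective _ (TensorProduct.quotTensorEquivQuotSMul X I z)
    refine ⟨x, ?_⟩
    apply (TensorProduct.quotTensorEquivQuotSMul X I).injective
    rw [← hx, ← map_one (Ideal.Quotient.mk I), TensorProduct.quotTensorEquivQuotSMul_mk_tmul, one_smul]
  have hsurj : Function.Surjective f := by
    rw [← LinearMap.range_eq_top]
    apply nak
    rw [eq_top_iff]
    intro y _
    obtain ⟨z, hz⟩ := hf.2 ((1 : A ⧸ I) ⊗ₜ[A] y)
    obtain ⟨m, rfl⟩ := all_one_tmul M z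
    rw [LinearMap.baseChange_tmul] at hz
    have h0 : (1 : A ⧸ I) ⊗ₜ[A] (y - f m) = 0 := by
      rw [TensorProduct.tmul_sub, hz, sub_self]
    have h1 := one_tmul_eq_zero N _ h0
    have : y = f m + (y - f m) := by abel
    rw [this]
    exact Submodule.add_mem_sup (LinearMap.mem_range_self f m) h1
  refine ⟨?_, hsurj⟩
  rw [← LinearMap.ker_eq_bot]
  have hinj := LinearMap.lTensor_injective_of_exact_of_flat f hsurj (LinearMap.ker f).subtype
    (LinearMap.ker f).subtype_injective (LinearMap.exact_subtype_ker_map f) (A ⧸ I)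
  have htop : (⊥ : Submodule A (LinearMap.ker f)) = ⊤ := by
    apply nak
    rw [eq_top_iff, bot_sup_eq]
    intro x _
    apply one_tmul_eq_zero
    apply hinj
    rw [map_zero, LinearMap.lTensor_tmul]
    apply hf.1
    rw [map_zero, LinearMap.baseChange_tmul, Submodule.subtype_apply]
    have : f (x : M) = 0 := x.2
    rw [this, TensorProduct.tmul_zero]
  rw [eq_bot_iff]
  intro x hx
  have : (⟨x, hx⟩ : LinearMap.ker f) ∈ (⊥ : Submodule A (LinearMap.ker f)) := by rw [htop]; trivial
  rw [Submodule.mem_bot] at this
  simpa using congrArg Subtype.val this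

end Groth.Agent.S16707
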