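import Groth.Statements.S16708
-- import your own Groth.Agent.* helpers here
import Groth.Agent.Lib.Helper22.HopfCosep

set_option autoImplicit false
universe u
open HopfRep

namespace Groth.Agent.S16708

/-- Let G be a finite group and k a field in which the order of G is a nonzero element. Then the
constant group scheme of G over k is linearly reductive: every finite-dimensional comodule over its
coordinate Hopf algebra (the algebra of functions G → k with the Hopf structure of the constant
group) is semisimple, i.e. every subcomodule admits a complementary subcomodule. -/
theorem result (k : Type u) [Field k] (G : Type u) [Group G]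
    [Fintype G] [DecidableEq G] (hG : ((Fintype.card G : ℕ) : k) ≠ 0) :
    HopfRep.IsLinearlyReductive k (ConstGrp.F k G) := by
  intro V _ _ _ _
  have hn : (Module.finrank k (ConstGrp.F k G) : k) ≠ 0 := by
    rw [Module.finrank_eq_card_basis (ConstGrp.basis k G)]
    exact hG
  refine Groth.Agent.Helper22.Cosep.isSemisimpleComod (V := V)
    (Groth.Agent.Helper22.HopfInt.τ k (ConstGrp.F k G))
    Groth.Agent.Helper22.HopfCosep.Lmap_eq_Rmap ?_
  intro a
  simp only [Groth.Agent.Helper22.HopfInt.τ, LinearMap.smul_apply, LinearMap.comp_apply]
  rw [HopfAlgebra.mul_antipode_lTensor_comul_apply, Algebra.trace_algebraMap, smul_eq_mul,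
    nsmul_eq_mul, ← mul_assoc, inv_mul_cancel₀ hn, one_mul]

end Groth.Agent.S16708
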