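import Groth.Statements.S16718
import Mathlib
import Groth.Agent.Lib.Helper12.ComodLattice

set_option autoImplicit false
universe u v w
open TensorProduct
open GLin

namespace Groth.Agent.S16718

/-- Let k be a field, A a finitely generated commutative Hopf algebra over k (an affine algebraic group
G), R a finitely generated commutative k-algebra carrying an A-comodule structure whose coaction is
an algebra homomorphism (an action of G on X = Spec R), and I an ideal of R which is a subcomodule
(a G-invariant closed subscheme Z of X). Then there is a finite-dimensional subcomodule W of R with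
W ⊆ I generating I as an ideal; equivalently there is a G-equivariant morphism f from X to the
affine space of a finite-dimensional G-representation with f⁻¹(0) = Z as closed subschemes. -/
theorem result (k : Type u) [Field k]
    (A : Type v) [CommRing A] [HopfAlgebra k A] (hA : Algebra.FiniteType k A)
    (R : Type w) [CommRing R] [Algebra k R] [HopfRep.Comod k A R] [GLin.IsCoactAlg k A R]
    (hR : Algebra.FiniteType k R) (I : Ideal R)
    (hI : HopfRep.IsSubcomod (k := k) (A := A) (I.restrictScalars k)) :
    ∃ W : Submodule k R, Module.Finite k W ∧ HopfRep.IsSubcomod (k := k) (A := A) W ∧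
      W ≤ I.restrictScalars k ∧ Ideal.span (W : Set R) = I := by
  classical
  haveI : IsNoetherianRing R := Algebra.FiniteType.isNoetherianRing k R
  obtain ⟨s, hs⟩ := (IsNoetherian.noetherian I : I.FG)
  haveI : ∀ r : R, Module.Finite k (Groth.Agent.Helper12.gen (k := k) (C := A) r) :=
    fun r => Groth.Agent.Helper12.gen_finite r
  have hsI : ∀ r ∈ s, r ∈ I := fun r hr => by
    rw [← hs]; exact Submodule.subset_span hr
  have hgen_le : ∀ r ∈ s,
      Groth.Agent.Helper12.gen (k := k) (C := A) r ≤ I.restrictScalars k := by
    intro r hr
    refine Submodule.span_le.2 ?_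
    rintro _ ⟨l, rfl⟩
    exact Groth.Agent.Helper12.slice_mem_of_mem_range _ l _ (hI r (hsI r hr))
  have hsW : ∀ r ∈ s, r ∈ s.sup (fun r => Groth.Agent.Helper12.gen (k := k) (C := A) r) :=
    fun r hr =>
      (Finset.le_sup (f := fun r => Groth.Agent.Helper12.gen (k := k) (C := A) r) hr)
        (Groth.Agent.Helper12.mem_gen r)
  have hWI : s.sup (fun r => Groth.Agent.Helper12.gen (k := k) (C := A) r) ≤
      I.restrictScalars k := Finset.sup_le hgen_le
  refine ⟨s.sup (fun r => Groth.Agent.Helper12.gen (k := k) (C := A) r),
    Submodule.finite_finset_sup s _, ?_, hWI, ?_⟩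
  · rw [Finset.sup_eq_sSup_image]
    apply Groth.Agent.Helper12.isSubcomod_sSup
    rintro _ ⟨r, _, rfl⟩
    exact Groth.Agent.Helper12.gen_isSubcomod r
  · apply le_antisymm
    · exact Ideal.span_le.2 (fun x hx => hWI hx)
    · have h1 : Ideal.span (s : Set R) ≤ Ideal.span
          ((s.sup (fun r => Groth.Agent.Helper12.gen (k := k) (C := A) r) : Submodule k R) : Set R) :=
        Ideal.span_mono (fun r hr => hsW r hr)
      exact hs ▸ h1

end Groth.Agent.S16718
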