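import Groth.Statements.S16737
-- import your own Groth.Agent.* helpers here
import Mathlib.Algebra.MvPolynomial.PDeriv
import Mathlib.Algebra.CharP.Invertible

set_option autoImplicit false
universe u v
open DeRham

namespace Groth.Agent.S16737

open MvPolynomial

/-- The case of affine space over an affine base of characteristic p, in degree zero. Let p be a prime
and R a commutative ring with p = 0 in R. For a polynomial f over R in any set of variables t_i, the
Kähler differential df in Ω_{R[t]/R} vanishes if and only if f is a polynomial in the p-th powers of
the variables, f = g(t_i^p). Equivalently, the functions on affine space over R killed by the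
differential of the de Rham complex are exactly the functions on its Frobenius twist. (The published
computation is for finitely many variables over a noetherian base of characteristic p; the statement
here allows any commutative ring with p = 0 and any set of variables.) -/
theorem result (p : ℕ) [Fact p.Prime]
    (R : Type u) [CommRing R] [CharP R p] (σ : Type v) (f : MvPolynomial σ R) :
    KaehlerDifferential.D R (MvPolynomial σ R) f = 0 ↔
      ∃ g : MvPolynomial σ R, f = MvPolynomial.expand p g := by
  classical
  have hp : p.Prime := Fact.out
  have hD : KaehlerDifferential.D R (MvPolynomial σ R) f = 0 ↔ ∀ i, pderiv i f = 0 := by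
    constructor
    · intro h i
      rw [← KaehlerDifferential.mvPolynomialBasis_repr_apply, h, map_zero, Finsupp.zero_apply]
    · intro h
      apply (KaehlerDifferential.mvPolynomialBasis R σ).repr.injective
      ext i
      rw [KaehlerDifferential.mvPolynomialBasis_repr_apply, h i, map_zero, Finsupp.zero_apply]
  rw [hD]
  constructor
  · intro h
    have hsupp : ∀ s ∈ f.support, ∀ i, p ∣ s i := by
      intro s hs i
      by_contra hnd
      have hsi : s i ≠ 0 := fun h0 => hnd (h0 ▸ dvd_zero p)
      have h1 := coeff_pderiv (i := i) f (s - Finsupp.single i 1)
      rw [h i, coeff_zero] at h1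
      have hs' : s - Finsupp.single i 1 + Finsupp.single i 1 = s := by
        ext j
        by_cases hj : j = i
        · subst hj; simp; omega
        · simp [Ne.symm hj]
      rw [hs'] at h1
      have hcast : ((((s - Finsupp.single i 1 : σ →₀ ℕ) i : ℕ) : R)) + 1 = ((s i : ℕ) : R) := by
        have : (s - Finsupp.single i 1 : σ →₀ ℕ) i + 1 = s i := by simp; omega
        rw [← this]; push_cast; rfl
      rw [hcast] at h1
      have hu : IsUnit ((s i : ℕ) : R) := (CharP.isUnit_natCast_iff hp).mpr hnd
      have : coeff s f = 0 := hu.mul_left_eq_zero.mp h1.symm
      exact (mem_support_iff.mp hs) this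
    have hmem : f ∈ (MvPolynomial.expand p : MvPolynomial σ R →ₐ[R] MvPolynomial σ R).range := by
      rw [← support_sum_monomial_coeff f]
      apply Subalgebra.sum_mem
      intro s hs
      refine ⟨monomial (s.mapRange (· / p) (by simp)) (coeff s f), ?_⟩
      change expand p _ = _
      rw [expand_monomial]
      have hps : p • (s.mapRange (· / p) (by simp)) = s := by
        ext i
        rw [Finsupp.smul_apply, Finsupp.mapRange_apply, smul_eq_mul]
        exact Nat.mul_div_cancel' (hsupp s hs i)
      rw [hps]
    obtain ⟨g, hg⟩ := hmem
    exact ⟨g, hg.symm⟩
  · rintro ⟨g, rfl⟩ i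
    ext m
    rw [coeff_pderiv, coeff_zero]
    by_cases hd : p ∣ (m + Finsupp.single i 1 : σ →₀ ℕ) i
    · have : ((m i : ℕ) : R) + 1 = 0 := by
        have h2 : ((((m + Finsupp.single i 1 : σ →₀ ℕ) i : ℕ)) : R) = 0 := (CharP.cast_eq_zero_iff R p _).mpr hd
        simpa using h2
      rw [this, mul_zero]
    · rw [coeff_expand_of_not_dvd _ hd, zero_mul]

end Groth.Agent.S16737
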