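import Groth.Statements.S1677
import Mathlib
import Groth.Agent.Lib.Helper2.RegNbhd2
import Groth.Agent.Lib.Helper12.SmoothNhd
-- import your own Groth.Agent.* helpers here

set_option autoImplicit false
universe u
open CategoryTheory CategoryTheory.Limits AlgebraicGeometry TopologicalSpace
open SDiv

namespace Groth.Agent.S1677

section

open Groth.Agent.Helper16.FibStalk Groth.Agent.Helper2.RegNbhd

theorem main {X Y S : Scheme.{u}} (p : X ⟶ S) [Smooth p] (i : Y ⟶ X)
    [IsClosedImmersion i] (hY : CInt.IsCIMorphism (i ≫ p)) : Mor2.IsRegularClosedImmersion i := by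
  obtain ⟨hflat, hlfp, hfib⟩ := hY
  haveI := hflat
  haveI := hlfp
  refine ⟨inferInstance, fun z => ?_⟩
  haveI : IsRegularLocalRing (X.presheaf.stalk (i z) ⧸ fibIdeal p (i z)) :=
    Groth.Agent.Helper12.SmoothNhd.isRegularLocalRing_fibre_of_smooth p (i z)
  obtain ⟨V, hzV, hreg⟩ := exists_restrict_regular p i z (hfib z)
  obtain ⟨W, hzW, rs, hrs, hker⟩ := Groth.Agent.Helper3.RegImm2.exists_of_restrict i V hreg z hzV
  exact ⟨W.1, W.2, hzW, rs, hrs, hker⟩

end

/-- Let X ⟶ S be smooth, Y ⟶ S flat, locally of finite presentation with complete-intersection fibre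
local rings (syntomic), and i : Y ⟶ X a closed immersion over S. Then i is a regular closed
immersion. -/
theorem result {X Y S : Scheme.{u}} (p : X ⟶ S) [Smooth p] (i : Y ⟶ X)
    [IsClosedImmersion i] (hY : CInt.IsCIMorphism (i ≫ p)) : Mor2.IsRegularClosedImmersion i := by
  exact Groth.Agent.S1677.main p i hY

end Groth.Agent.S1677
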