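import Groth.Statements.S16770
import Groth.Agent.Lib.Helper14.MorGlue9
import Groth.Agent.Lib.Helper1.MorSheafW
import Groth.Agent.Lib.Helper19.MorSRestrict
import Groth.Agent.Lib.Helper9.FreeNbhd
import Groth.Agent.Lib.Helper13.WeilFP
import Groth.Agent.Lib.Helper1.MorMon
-- import your own Groth.Agent.* helpers here

set_option autoImplicit false
open CategoryTheory MonoidalCategory CartesianMonoidalCategory MonObj GrpObj AlgebraicGeometry
universe u
open SGA3x

namespace Groth.Agent.S16770

/-- For X finite, flat and of finite presentation over a scheme S and Y affine of finite presentation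
over S, the functor T ↦ Hom_S(X ×_S T, Y) on S-schemes is representable by an S-scheme which is
affine and of finite presentation over S (products are fibre products over S, written with the
cartesian monoidal structure of S-schemes). -/
theorem result {S : Scheme.{u}} (X Y : Over S)
    (hXf : IsFinite X.hom) (hXfl : Flat X.hom) (hXfp : LocallyOfFinitePresentation X.hom)
    (hYa : IsAffineHom Y.hom) (hYfp : LocallyOfFinitePresentation Y.hom) :
    ∃ (M : Over S) (ev : X ⊗ M ⟶ Y), IsAffineHom M.hom ∧ LocallyOfFinitePresentation M.hom ∧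
      ∀ (T : Over S) (φ : X ⊗ T ⟶ Y), ∃! v : T ⟶ M, (X ◁ v) ≫ ev = φ := by
  apply Groth.Agent.Helper1.MorMon.monoidal_of_morS X Y
  exact Groth.Agent.Helper14.MorGlue.main7194fp X.hom Y.hom ⟨hXf, hXfl, hXfp⟩
    (Groth.Agent.Helper1.MorSheafW.isZarSheafW_morS X.hom Y.hom)
    (fun U W' h => Groth.Agent.Helper19.MorSRestrict.morS_restrict_representableBy X.hom Y.hom U W' h)
    (fun s => Groth.Agent.Helper9.FreeNbhd.exists_free_nbhd X.hom ⟨hXf, hXfl, hXfp⟩ s)
    (fun e => Groth.Agent.Helper13.WeilFP.finitePresentation_WR e)

end Groth.Agent.S16770
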