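import Groth.Statements.S16801
import Mathlib
import Groth.Agent.Lib.Helper18.Hilbert14
import Groth.Agent.Lib.Helper22.FiltRetract
import Groth.Agent.Lib.Helper22.PolyFilt

set_option autoImplicit false
universe u
open LunaSt

namespace Groth.Agent.S16801

/-- Let `k` be a field and `H` a commutative Hopf algebra of finite type over `k` all of whose
finite-dimensional comodules are semisimple (a linearly reductive affine group `G = Spec H` of
finite type). Let `A` be a Noetherian commutative `k`-algebra with a coaction of `H` that is an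
algebra map (an action of `G` on `Spec A`), and `C` a commutative `A`-algebra of finite type with a
coaction of `H` that is an algebra map, such that the structure map `A → C` is a comodule map (a
finitely generated `G`-equivariant quasi-coherent algebra on `Spec A`). Then the invariants `C^G`
form a finitely generated algebra over `A^G`: there is a finite subset `s` of `C` such that `C^G` is
the `k`-subalgebra generated by the image of `A^G` and `s`. (The published statement is that for a
Noetherian algebraic stack with a good moduli space `π`, pushforward along `π` preserves finitely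
generated algebras; this row is its case `[Spec A/G] → Spec A^G`, for which the pushforward of the
algebra given by `C` has global sections `C^G`. All of `k`, `H`, `A`, `C` are taken in one
universe.) -/
theorem result
    (k : Type u) [Field k] (H : Type u) [CommRing H] [HopfAlgebra k H] [Algebra.FiniteType k H]
    (hG : HopfRep.IsLinearlyReductive k H)
    (A : Type u) [CommRing A] [Algebra k A] [IsNoetherianRing A]
    [HopfRep.Comod k H A] [GLin.IsCoactAlg k H A]
    (C : Type u) [CommRing C] [Algebra k C] [HopfRep.Comod k H C] [GLin.IsCoactAlg k H C]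
    [Algebra A C] [IsScalarTower k A C] [Algebra.FiniteType A C]
    (hAC : Hoch.IsComodHom H (IsScalarTower.toAlgHom k A C).toLinearMap) :
    ∃ s : Finset C, GLin.invariants k H C =
      Algebra.adjoin k (⇑(algebraMap A C) '' ↑(GLin.invariants k H A) ∪ ↑s) := by
  classical
  obtain ⟨EA, hEA⟩ := Groth.Agent.Helper29.Reynolds.exists_reynolds (A := H) A hG
  obtain ⟨EC, hEC⟩ := Groth.Agent.Helper29.Reynolds.exists_reynolds (A := H) C hG
  obtain ⟨s₀, hs₀⟩ := (Algebra.FiniteType.out : (⊤ : Subalgebra A C).FG)
  let V : Submodule k C := s₀.sup (fun r => Groth.Agent.Helper29.H12Copy.gen (k := k) (C := H) r)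
  have hV : HopfRep.IsSubcomod (k := k) (A := H) V :=
    Groth.Agent.Helper18.Hilbert14.isSubcomod_finset_sup s₀ _
      (fun r _ => Groth.Agent.Helper29.H12Copy.gen_isSubcomod r)
  haveI : ∀ r : C, Module.Finite k (Groth.Agent.Helper29.H12Copy.gen (k := k) (C := H) r) :=
    fun r => Groth.Agent.Helper29.H12Copy.gen_finite r
  haveI hVfin : Module.Finite k V := Submodule.finite_finset_sup s₀ _
  have hs₀V : ∀ r ∈ s₀, r ∈ V := fun r hr =>
    (Finset.le_sup (f := fun r => Groth.Agent.Helper29.H12Copy.gen (k := k) (C := H) r) hr)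
      (Groth.Agent.Helper29.H12Copy.mem_gen r)
  obtain ⟨s₁, hs₁⟩ : V.FG := Module.Finite.iff_fg.mp hVfin
  have hrange : Set.range (Subtype.val : {x // x ∈ s₁} → C) = (↑s₁ : Set C) := by
    ext x; simp
  have hspan : Submodule.span k (Set.range (Subtype.val : {x // x ∈ s₁} → C)) = V := by
    rw [hrange, hs₁]
  have hπ : Function.Surjective
      (MvPolynomial.aeval (R := A) (Subtype.val : {x // x ∈ s₁} → C)) := by
    rw [← AlgHom.range_eq_top, ← Algebra.adjoin_range_eq_range_aeval, eq_top_iff, ← hs₀]
    apply Algebra.adjoin_le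
    intro r hr
    have h1 : r ∈ Submodule.span k (Set.range (Subtype.val : {x // x ∈ s₁} → C)) := by
      rw [hspan]; exact hs₀V r (Finset.mem_coe.1 hr)
    clear hr
    induction h1 using Submodule.span_induction with
    | mem x hx => exact Algebra.subset_adjoin hx
    | zero => exact Subalgebra.zero_mem _
    | add x y _ _ hx hy => exact Subalgebra.add_mem _ hx hy
    | smul c x _ hx =>
      rw [← IsScalarTower.algebraMap_smul A c x]
      exact Subalgebra.smul_mem _ hx _
  have hAbar : HopfRep.IsSubcomod (k := k) (A := H)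
      (Groth.Agent.Helper22.PolyFilt.abar k A C) := by
    have h1 := Groth.Agent.Helper29.H12Copy.map_isSubcomod hAC ⊤
      Groth.Agent.Helper29.H12Copy.isSubcomod_top
    rw [Submodule.map_top] at h1
    exact h1
  have hF : ∀ d, HopfRep.IsSubcomod (k := k) (A := H)
      (Groth.Agent.Helper22.PolyFilt.abar k A C * V ^ d) :=
    fun d => Groth.Agent.Helper29.GLinHomog.isSubcomod_mul hAbar
      (Groth.Agent.Helper29.GLinHomog.isSubcomod_pow hV d)
  have hE1 : ∀ x, EC.toAddMonoidHom x ∈ GLin.invariants k H C := fun x => hEC.apply_mem x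
  have hE2 : ∀ x ∈ GLin.invariants k H C, EC.toAddMonoidHom x = x :=
    fun x hx => (hEC.2.2 x).2 hx
  have hE3 : ∀ x, ∀ y ∈ GLin.invariants k H C,
      EC.toAddMonoidHom (x * y) = EC.toAddMonoidHom x * y :=
    fun x y hy => Groth.Agent.Helper29.Reynolds.reynolds_mul hG hEC x y hy
  have hE4 : ∀ d, ∀ x ∈ MvPolynomial.homogeneousSubmodule {x // x ∈ s₁} A d,
      ∃ x' ∈ MvPolynomial.homogeneousSubmodule {x // x ∈ s₁} A d,
        MvPolynomial.aeval (R := A) (Subtype.val : {x // x ∈ s₁} → C) x' =
          EC.toAddMonoidHom (MvPolynomial.aeval (R := A) (Subtype.val : {x // x ∈ s₁} → C) x) := by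
    intro d x hx
    have h1 := Groth.Agent.Helper22.PolyFilt.aeval_mem (k := k)
      (Subtype.val : {x // x ∈ s₁} → C) d x hx
    rw [hspan] at h1
    have h2 := Groth.Agent.Helper29.Reynolds.reynolds_mem hG hEC _ (hF d) _ h1
    rw [← hspan] at h2
    exact Groth.Agent.Helper22.PolyFilt.exists_aeval_eq _ d _ h2
  have h0 : ∀ x ∈ MvPolynomial.homogeneousSubmodule {x // x ∈ s₁} A 0,
      EC.toAddMonoidHom (MvPolynomial.aeval (R := A) (Subtype.val : {x // x ∈ s₁} → C) x) ∈
        (⇑(algebraMap A C) '' ↑(GLin.invariants k H A)) := by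
    intro x hx
    rw [MvPolynomial.homogeneousSubmodule_zero, Submodule.mem_one] at hx
    obtain ⟨a, rfl⟩ := hx
    rw [MvPolynomial.algebraMap_eq, MvPolynomial.aeval_C]
    have h1 := LinearMap.congr_fun
      (Groth.Agent.Helper29.Reynolds.reynolds_comm hG hEA hEC _ hAC) a
    simp only [LinearMap.comp_apply] at h1
    exact ⟨EA a, hEA.apply_mem a, h1.symm⟩
  letI : GradedAlgebra (MvPolynomial.homogeneousSubmodule {x // x ∈ s₁} A) :=
    MvPolynomial.gradedAlgebra
  obtain ⟨s, hsB, hs⟩ := Groth.Agent.Helper22.FiltRetract.exists_finset_adjoin (k := k)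
    (MvPolynomial.homogeneousSubmodule {x // x ∈ s₁} A)
    (MvPolynomial.aeval (R := A) (Subtype.val : {x // x ∈ s₁} → C)) hπ
    (GLin.invariants k H C) (⇑(algebraMap A C) '' ↑(GLin.invariants k H A))
    EC.toAddMonoidHom hE1 hE2 hE3 hE4 h0
  refine ⟨s, le_antisymm (fun f hf => hs f hf) (Algebra.adjoin_le ?_)⟩
  rintro x (⟨a, ha, rfl⟩ | hx)
  · exact Groth.Agent.Helper29.Reynolds.map_mem_fixedPts hAC ha
  · exact hsB x hx

end Groth.Agent.S16801
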