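import Groth.Statements.S1681
import Mathlib
import Groth.Agent.Lib.Helper28.EffCartierOld

set_option autoImplicit false
universe u
open CategoryTheory CategoryTheory.Limits AlgebraicGeometry TopologicalSpace
open SDiv

namespace Groth.Agent.S1681

/-- Let b : X' ⟶ X be a blowing-up of X along the quasi-coherent ideal sheaf 𝓘. Then b restricts to a
bijection from the maximal points of X' (points with no proper generization) onto the maximal points
of X not lying in the support of 𝓘. -/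
theorem result {X X' : Scheme.{u}} (𝓘 : X.IdealSheafData) (b : X' ⟶ X) (hb : BlowUp.IsBlowUp b 𝓘) :
    Set.BijOn (fun x' => b x') {x' : ↥X' | ∀ y : ↥X', y ⤳ x' → y = x'}
      {x : ↥X | (∀ y : ↥X, y ⤳ x → y = x) ∧ x ∉ 𝓘.support} := by
  classical
  have hE : BlowUp.IsEffCartierIdeal (𝓘.comap b) := hb.1
  set W : X.Opens := 𝓘.support.compl with hW
  have hiso : IsIso (b ∣_ W) := Groth.Agent.Helper28.EffCartierOld.isIso_morphismRestrict_compl 𝓘 b hb
  have hcoe : ∀ z : ↥(b ⁻¹ᵁ W), ((b ∣_ W) z).1 = b z.1 := fun z => morphismRestrict_base_coe b W z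
  have hinj : Function.Injective (b ∣_ W) := by
    intro z₁ z₂ h
    have := congrArg (inv (b ∣_ W)) h
    simpa [← Scheme.Hom.comp_apply] using this
  have hsurj : ∀ w : ↥W, (b ∣_ W) ((inv (b ∣_ W)) w) = w := by
    intro w
    rw [← Scheme.Hom.comp_apply, IsIso.inv_hom_id]
    rfl
  have hleft : ∀ z : ↥(b ⁻¹ᵁ W), (inv (b ∣_ W)) ((b ∣_ W) z) = z := by
    intro z
    rw [← Scheme.Hom.comp_apply, IsIso.hom_inv_id]
    rfl
  -- maximal points avoid the exceptional divisor
  have key1 : ∀ x' : X', (∀ y : X', y ⤳ x' → y = x') → b x' ∈ W := by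
    intro x' hx'
    obtain ⟨V, hxV, t, ht, hIt⟩ := hE x'
    set p := V.2.primeIdealOf ⟨x', hxV⟩ with hp
    have hpx : V.2.fromSpec p = x' := V.2.fromSpec_primeIdealOf ⟨x', hxV⟩
    have hmin : p.asIdeal ∈ minimalPrimes Γ(X', V.1) := by
      refine ⟨⟨p.2, bot_le⟩, ?_⟩
      rintro q ⟨hq, -⟩ hqp
      let q' : PrimeSpectrum Γ(X', V.1) := ⟨q, hq⟩
      have h1 : q' ⤳ p := (PrimeSpectrum.le_iff_specializes q' p).1 hqp
      have h2 : V.2.fromSpec q' ⤳ V.2.fromSpec p := h1.map V.2.fromSpec.continuous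
      rw [hpx] at h2
      have h3 : V.2.fromSpec q' = V.2.fromSpec p := by rw [hpx]; exact hx' _ h2
      have h4 : q' = p := V.2.fromSpec.isOpenEmbedding.injective h3
      rw [← h4]
    have htp : t ∉ p.asIdeal := fun h =>
      Set.disjoint_left.1 (Ideal.disjoint_nonZeroDivisors_of_mem_minimalPrimes hmin) h ht
    have hxt : x' ∈ X'.basicOpen t :=
      (Groth.Agent.Helper28.EffCartierOld.mem_basicOpen_iff_notMem_primeIdealOf V.2 x' hxV t).2 htp
    have hns : x' ∉ (𝓘.comap b).support :=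
      Groth.Agent.Helper28.EffCartierOld.notMem_support_of_mem_basicOpen _ V t hIt x' hxt
    intro hbx
    apply hns
    rw [Scheme.IdealSheafData.support_comap]
    exact hbx
  refine ⟨?_, ?_, ?_⟩
  · intro x' hx'
    have hx : b x' ∈ W := key1 x' hx'
    refine ⟨?_, hx⟩
    intro y hy
    have hyW : y ∈ W := hy.mem_open W.2 hx
    have hs : (⟨y, hyW⟩ : ↥W) ⤳ ⟨b x', hx⟩ := (subtype_specializes_iff _ _).2 hy
    have hs2 := hs.map (inv (b ∣_ W)).continuous
    have e1 : (⟨b x', hx⟩ : ↥W) = (b ∣_ W) ⟨x', hx⟩ := Subtype.ext (hcoe ⟨x', hx⟩).symm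
    rw [e1, hleft] at hs2
    have hs3 : ((inv (b ∣_ W)) ⟨y, hyW⟩).1 ⤳ x' := (subtype_specializes_iff _ _).1 hs2
    have e2 := hx' _ hs3
    have e3 : b ((inv (b ∣_ W)) ⟨y, hyW⟩).1 = y := by
      rw [← hcoe, hsurj]
    rw [← e3, e2]
  · intro x' hx' y' hy' hxy
    have hx : b x' ∈ W := key1 x' hx'
    have hy : b y' ∈ W := key1 y' hy'
    have e : (b ∣_ W) ⟨x', hx⟩ = (b ∣_ W) ⟨y', hy⟩ := by
      apply Subtype.ext
      rw [hcoe, hcoe]
      exact hxy
    exact congrArg Subtype.val (hinj e)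
  · rintro x ⟨hxmax, hxs⟩
    have hxW : x ∈ W := hxs
    refine ⟨((inv (b ∣_ W)) ⟨x, hxW⟩).1, ?_, ?_⟩
    · intro y hy
      have e0 : b ((inv (b ∣_ W)) ⟨x, hxW⟩).1 = x := by rw [← hcoe, hsurj]
      have h1 : b y ⤳ x := by
        have := hy.map b.continuous
        rwa [e0] at this
      have h2 : b y = x := hxmax _ h1
      have hyW : b y ∈ W := by rw [h2]; exact hxW
      have e : (b ∣_ W) ⟨y, hyW⟩ = (b ∣_ W) ((inv (b ∣_ W)) ⟨x, hxW⟩) := by
        rw [hsurj]
        apply Subtype.ext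
        rw [hcoe]
        exact h2
      exact congrArg Subtype.val (hinj e)
    · show b ((inv (b ∣_ W)) ⟨x, hxW⟩).1 = x
      rw [← hcoe, hsurj]

end Groth.Agent.S1681
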