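import Mathlib
import Groth.Statements.S16812
import Groth.Agent.Lib.Helper19.EssImg
import Groth.Agent.Lib.Helper19.StPtsTop
import Groth.Agent.S12774
import Groth.Agent.S12770

set_option autoImplicit false
universe u
open CategoryTheory AlgebraicGeometry
open Gerb

namespace Groth.Agent.S16812

/-- Let 𝒵 be a reduced, locally Noetherian algebraic stack with exactly one point and f : 𝒵 → 𝒳 a
monomorphism to an algebraic stack sending that point to x. Then the residual gerbe 𝒵_x ⊂ 𝒳 at x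
exists (a strictly full subcategory which is a reduced, locally Noetherian algebraic stack with one
point over x) and f factors through it by an equivalence 𝒵 → 𝒵_x. -/
theorem result
    (S : Scheme.{u}) (𝒳 : AlgSt.Cat S) (h𝒳 : AlgSt.IsAlgStack Scheme.fppfPrecoverage 𝒳) (x : AlgSt.Points 𝒳)
    (𝒵 : AlgSt.Cat S) (h𝒵 : AlgSt.IsAlgStack Scheme.fppfPrecoverage 𝒵)
    (hred : AlgSt.SmoothLocally (fun T => IsReduced T) 𝒵)
    (hnoeth : AlgSt.SmoothLocally (fun T => IsLocallyNoetherian T) 𝒵)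
    (hne : Nonempty (AlgSt.Points 𝒵)) (hsub : Subsingleton (AlgSt.Points 𝒵))
    (f : 𝒵 ⥤ᵇ 𝒳) (hf : AlgSt.IsMono f) (hfx : ∀ p : AlgSt.Points 𝒵, AlgSt.Points.map f p = x) :
    ∃ Q : 𝒳.obj → Prop, Gerb.IsResGerbe Scheme.fppfPrecoverage 𝒳 x Q ∧
      ∃ e : 𝒵 ⥤ᵇ AlgSt.fullSub 𝒳 Q, FibCat.IsEquivOver e ∧
        Nonempty (BasedFunctor.comp e (AlgSt.subIncl 𝒳 Q) ≅ f) := by
  obtain ⟨hfull, hfaith⟩ := Groth.Agent.S12774.result h𝒵.isStack.1 h𝒳.isStack.1 f hf
  haveI := hfull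
  haveI := hfaith
  have he : FibCat.IsEquivOver (Groth.Agent.Helper19.EssImg.toEssImg f) :=
    Groth.Agent.Helper19.EssImg.isEquivOver_toEssImg f
  have hcl := Groth.Agent.Helper19.EssImg.isClosedUnderIsomorphisms_essImg f h𝒵.isStack.1 h𝒳.isStack.1
  have halg : AlgSt.IsAlgStack Scheme.fppfPrecoverage
      (AlgSt.fullSub 𝒳 (Groth.Agent.Helper19.EssImg.essImg f)) :=
    (Groth.Agent.S12770.result (Groth.Agent.Helper19.EssImg.toEssImg f) he).1 h𝒵
  obtain ⟨e', he', -, -⟩ := Groth.Agent.Helper19.FibLib.IsEquivOver.exists_inv he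
  have htr : ∀ P : Scheme.{u} → Prop, AlgSt.SmoothLocally P 𝒵 →
      AlgSt.SmoothLocally P (AlgSt.fullSub 𝒳 (Groth.Agent.Helper19.EssImg.essImg f)) := by
    intro P hP U x hx
    exact hP U (BasedFunctor.comp x e')
      ((Groth.Agent.Helper19.StLib.repByAlgSpWith_comp_equiv x e' he').2 hx)
  let hom := Groth.Agent.Helper19.StPts.mapHomeo (Groth.Agent.Helper19.EssImg.toEssImg f) he
  refine ⟨Groth.Agent.Helper19.EssImg.essImg f, ⟨hcl, halg, htr _ hred, htr _ hnoeth,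
    ⟨hom hne.some⟩, hom.symm.injective.subsingleton, ?_⟩,
    Groth.Agent.Helper19.EssImg.toEssImg f, he, ⟨Iso.refl _⟩⟩
  intro z
  obtain ⟨w, rfl⟩ := hom.surjective z
  rw [Groth.Agent.Helper19.StPts.mapHomeo_apply, ← Groth.Agent.Helper19.StPts.map_comp]
  exact hfx w

end Groth.Agent.S16812
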