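import Groth.Statements.S1682
import Mathlib

set_option autoImplicit false
universe u
open CategoryTheory CategoryTheory.Limits AlgebraicGeometry TopologicalSpace
open SDiv

namespace Groth.Agent.S1682

open AlgebraicGeometry CategoryTheory in
lemma isEffCartierIdeal_top (Y : Scheme.{u}) : BlowUp.IsEffCartierIdeal (⊤ : Y.IdealSheafData) := by
  intro x
  obtain ⟨_, ⟨U, hU, rfl⟩, hxU, -⟩ := Y.isBasis_affineOpens.exists_subset_of_mem_open
    (Set.mem_univ x) isOpen_univ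
  refine ⟨⟨U, hU⟩, hxU, 1, one_mem _, ?_⟩
  rw [Scheme.IdealSheafData.ideal_top, Pi.top_apply, Ideal.span_singleton_one]

/-- Let b : X' ⟶ X be a blowing-up of X along the quasi-coherent ideal sheaf 𝓘, with centre Z = support
of 𝓘. Then b restricted over the open complement of Z is an isomorphism. -/
theorem result {X X' : Scheme.{u}} (𝓘 : X.IdealSheafData) (b : X' ⟶ X) (hb : BlowUp.IsBlowUp b 𝓘) :
    IsIso (b ∣_ 𝓘.support.compl) := by
  obtain ⟨-, huniv⟩ := hb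
  set U : X.Opens := 𝓘.support.compl with hU
  have htop : 𝓘.comap U.ι = ⊤ := by
    rw [← Scheme.IdealSheafData.support_eq_bot_iff, Scheme.IdealSheafData.support_comap]
    ext x
    simp only [TopologicalSpace.Closeds.coe_preimage, Set.mem_preimage, SetLike.mem_coe,
      TopologicalSpace.Closeds.coe_bot, Set.mem_empty_iff_false, iff_false]
    exact x.2
  obtain ⟨h, hh, -⟩ := huniv U U.ι (htop ▸ isEffCartierIdeal_top _)
  have hrange : Set.range h ⊆ Set.range (b ⁻¹ᵁ U).ι := by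
    rintro _ ⟨u, rfl⟩
    rw [Scheme.Opens.range_ι]
    show b (h u) ∈ U
    rw [← Scheme.Hom.comp_apply, hh]
    exact u.2
  let h' : (U : Scheme.{u}) ⟶ (b ⁻¹ᵁ U : Scheme.{u}) := IsOpenImmersion.lift (b ⁻¹ᵁ U).ι h hrange
  have hh' : h' ≫ (b ⁻¹ᵁ U).ι = h := IsOpenImmersion.lift_fac _ _ _
  have e1 : h' ≫ (b ∣_ U) = 𝟙 _ := by
    rw [← cancel_mono U.ι, Category.assoc, morphismRestrict_ι, ← Category.assoc, hh', hh,
      Category.id_comp]
  have e2 : (b ∣_ U) ≫ h' = 𝟙 _ := by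
    rw [← cancel_mono (b ⁻¹ᵁ U).ι, Category.assoc, hh', Category.id_comp]
    have htop2 : 𝓘.comap ((b ⁻¹ᵁ U).ι ≫ b) = ⊤ := by
      rw [← morphismRestrict_ι, Scheme.IdealSheafData.comap_comp, htop,
        Scheme.IdealSheafData.comap_top]
    obtain ⟨k, -, hk⟩ := huniv _ ((b ⁻¹ᵁ U).ι ≫ b) (htop2 ▸ isEffCartierIdeal_top _)
    have k1 : ((b ∣_ U) ≫ h) ≫ b = (b ⁻¹ᵁ U).ι ≫ b := by
      rw [Category.assoc, hh, morphismRestrict_ι]
    rw [hk ((b ∣_ U) ≫ h) k1, hk (b ⁻¹ᵁ U).ι rfl]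
  exact ⟨h', e2, e1⟩

end Groth.Agent.S1682
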