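import Groth.Statements.S1683
import Mathlib
import Groth.Agent.Lib.Helper28.EffCartierOld
open Groth.Agent.Helper28.EffCartierOld

set_option autoImplicit false
universe u
open CategoryTheory CategoryTheory.Limits AlgebraicGeometry TopologicalSpace
open SDiv

namespace Groth.Agent.S1683

/-- Let 𝓘, 𝓙 be quasi-coherent ideal sheaves on X, b : X' ⟶ X a blowing-up along 𝓘 and b' : X'' ⟶ X' a
blowing-up along the inverse image ideal of 𝓙. Then b' ≫ b : X'' ⟶ X is a blowing-up of X along the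
product ideal 𝓘𝓙. -/
theorem result {X X' X'' : Scheme.{u}} (𝓘 𝓙 : X.IdealSheafData) (b : X' ⟶ X) (hb : BlowUp.IsBlowUp b 𝓘)
    (b' : X'' ⟶ X') (hb' : BlowUp.IsBlowUp b' (𝓙.comap b)) : BlowUp.IsBlowUp (b' ≫ b) (𝓘 * 𝓙) := by
  have hI' : BlowUp.IsEffCartierIdeal ((𝓘.comap b).comap b') :=
    isEffCartierIdeal_comap_of_isBlowUp (𝓙.comap b) b' hb' (𝓘.comap b) hb.1
  constructor
  · rw [comap_mul, Scheme.IdealSheafData.comap_comp, Scheme.IdealSheafData.comap_comp]
    exact isEffCartierIdeal_mul _ _ hI' hb'.1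
  · intro Y g hg
    rw [comap_mul] at hg
    have hgI : BlowUp.IsEffCartierIdeal (𝓘.comap g) := isEffCartierIdeal_left_of_mul _ _ hg
    have hgJ : BlowUp.IsEffCartierIdeal (𝓙.comap g) := isEffCartierIdeal_right_of_mul _ _ hg
    obtain ⟨h₁, hh₁, hu₁⟩ := hb.2 Y g hgI
    have hJ₁ : BlowUp.IsEffCartierIdeal ((𝓙.comap b).comap h₁) := by
      rw [← Scheme.IdealSheafData.comap_comp, hh₁]
      exact hgJ
    obtain ⟨h₂, hh₂, hu₂⟩ := hb'.2 Y h₁ hJ₁
    refine ⟨h₂, ?_, ?_⟩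
    · show h₂ ≫ b' ≫ b = g
      rw [← Category.assoc, hh₂, hh₁]
    · intro h hh
      apply hu₂
      apply hu₁
      show (h ≫ b') ≫ b = g
      rw [Category.assoc]
      exact hh


end Groth.Agent.S1683
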