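import Mathlib
import Groth.Statements.S16871
import Groth.Agent.Lib.Helper19.GerbD.Homeo
import Groth.Agent.Lib.Helper19.GerbD.BaseChange
import Groth.Agent.Lib.Helper15.ResidualSp2
import Groth.Agent.Lib.Helper19.StPtsSp
import Groth.Agent.Lib.Helper19.PshSt2
import Groth.Agent.Lib.Helper19.ProdAlg

set_option autoImplicit false
universe u
open CategoryTheory AlgebraicGeometry
open Gerb

namespace Groth.Agent.S16871

/-- If an algebraic stack is a gerbe (over some algebraic space), then the residual gerbe exists at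
every one of its points. (Non-triviality of the conclusion rests on the monomorphism condition.) -/
theorem result
    (S : Scheme.{u}) (𝒳 : AlgSt.Cat S) (h𝒳 : AlgSt.IsAlgStack Scheme.fppfPrecoverage 𝒳)
    (X : AlgSp.Space S) (π : 𝒳 ⥤ᵇ AlgSt.ofSp X.obj)
    (hπ : Gerb.IsGerbeOver (QuotSh.J Scheme.fppfPrecoverage S) π) (x : AlgSt.Points 𝒳) :
    Gerb.ResGerbeExists Scheme.fppfPrecoverage 𝒳 x := by
  have hXst : AlgSt.IsAlgStack Scheme.fppfPrecoverage (AlgSt.ofSp X.obj) :=
    Groth.Agent.Helper19.StPts.isAlgStack_ofSp X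
  let x₀ : AlgSp.Points X.obj := (Groth.Agent.Helper19.StPts.ptsEquiv X.obj).symm (AlgSt.Points.map π x)
  have hx₀ : Groth.Agent.Helper19.StPts.ptsMap X.obj x₀ = AlgSt.Points.map π x :=
    (Groth.Agent.Helper19.StPts.ptsEquiv X.obj).apply_symm_apply _
  obtain ⟨Z, hZ, i, hi, hrange, k, _, str, p, hp1, hp2⟩ :=
    Groth.Agent.Helper15.ResidualSp2.exists_residual_space X.property x₀
  let ZZ : AlgSp.Space S := ⟨Z, hZ⟩
  have hZst : AlgSt.IsAlgStack Scheme.fppfPrecoverage (AlgSt.ofSp Z) :=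
    Groth.Agent.Helper19.StPts.isAlgStack_ofSp ZZ
  have h𝒵 : AlgSt.IsAlgStack Scheme.fppfPrecoverage (FibCat.fp (AlgSt.ofSpMap i) π) :=
    Groth.Agent.Helper19.ProdAlg.isAlgStack_fp hXst.isStack hXst.diag hZst h𝒳 (AlgSt.ofSpMap i) π
  -- the inclusion of the residual space is a monomorphism
  have hmono : AlgSt.IsMono (AlgSt.ofSpMap i) := by
    change AlgSt.RepByAlgSpWith (MorphismProperty.monomorphisms (AlgSp.Sp S)) (Stk.ofPshMap i.hom)
    rw [← Groth.Agent.Helper19.PshSt.repBySpWith_iff, AlgSp.repBySpWith_hom_iff]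
    intro U ξ F' fst snd sq
    refine ⟨Groth.Agent.Helper15.isAlgSpace_of_isPullback X.property.diag hZ
      (AlgSp.IsAlgSpace.yon_obj U) sq, ?_⟩
    exact (MorphismProperty.monomorphisms (AlgSp.Sp S)).of_isPullback sq
      (MorphismProperty.monomorphisms.infer_property i)
  have hmono' : AlgSt.IsMono (FibCat.fpSnd (AlgSt.ofSpMap i) π) :=
    Groth.Agent.Helper19.StLib.repByAlgSpWith_fpSnd (AlgSt.ofSpMap i) π hmono
  -- the base change is a gerbe over the residual space, hence a homeomorphism on points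
  have hG : Gerb.IsGerbeOver (QuotSh.J Scheme.fppfPrecoverage S) (FibCat.fpFst (AlgSt.ofSpMap i) π) :=
    Groth.Agent.Helper19.GerbD.isGerbeOver_fpFst _ h𝒳.isStack.1 hXst.isStack.1 hZst.isStack.1 π
      (AlgSt.ofSpMap i) hπ
  have hH := Groth.Agent.Helper19.GerbD.isHomeomorph_map_of_isGerbeOver h𝒵 hZst _ hG
  have hπH := Groth.Agent.Helper19.GerbD.isHomeomorph_map_of_isGerbeOver h𝒳 hXst π hπ
  -- the residual space has exactly one point
  have hsurj : Function.Surjective (AlgSp.Points.ofPt p) := Groth.Agent.Helper15.surjective_ofPt _ hp2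
  have hne : Nonempty (AlgSp.Points Z) :=
    ⟨AlgSp.Points.ofPt p (IsLocalRing.closedPoint k : PrimeSpectrum k)⟩
  have hss : Subsingleton (AlgSp.Points Z) := by
    refine ⟨fun a b => ?_⟩
    obtain ⟨a', rfl⟩ := hsurj a
    obtain ⟨b', rfl⟩ := hsurj b
    rw [Subsingleton.elim (α := PrimeSpectrum k) a' b']
  let e := (Groth.Agent.Helper19.StPts.ptsEquiv Z).trans
    (Equiv.ofBijective _ ⟨hH.injective, hH.surjective⟩).symm
  refine ⟨FibCat.fp (AlgSt.ofSpMap i) π, FibCat.fpSnd (AlgSt.ofSpMap i) π, h𝒵, hmono',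
    ⟨e hne.some⟩, e.symm.injective.subsingleton, ?_⟩
  intro z
  apply hπH.injective
  rw [← Groth.Agent.Helper19.StPts.map_comp,
    ← Groth.Agent.Helper19.StPts.map_congr (FibCat.fpIso (AlgSt.ofSpMap i) π),
    Groth.Agent.Helper19.StPts.map_comp, ← hx₀]
  obtain ⟨y, hy⟩ := (Groth.Agent.Helper19.StPts.ptsMap_bijective Z).2
    (AlgSt.Points.map (FibCat.fpFst (AlgSt.ofSpMap i) π) z)
  rw [← hy, ← Groth.Agent.Helper19.StPts.ptsMap_map]
  have hy' : AlgSp.Points.map i y ∈ Set.range (AlgSp.Points.map i) := ⟨y, rfl⟩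
  rw [hrange] at hy'
  rw [Set.mem_singleton_iff.1 hy']

end Groth.Agent.S16871
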