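import Groth.Statements.S1690
import Groth.Agent.Lib.Lead.FreeLoc
import Groth.Agent.Lib.Lead.FLFUnit
import Groth.Agent.Lib.Lead.Fib2
import Groth.Agent.S6879

set_option autoImplicit false
universe u
open CategoryTheory CategoryTheory.Limits AlgebraicGeometry TopologicalSpace
open SDiv

namespace Groth.Agent.S1690

/-- (1) if and only if (3): let X be an integral locally Noetherian normal scheme and F a coherent
module. Then F is reflexive (stalkwise) if and only if there is an open subscheme j : U ⟶ X such
that every point outside U has local ring of dimension at least 2, the restriction of F to U is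
finite locally free, and the canonical map F ⟶ j_* j^* F is an isomorphism. -/
theorem result (X : Scheme.{u}) [IsIntegral X] [IsLocallyNoetherian X] (hX : Pi1.IsNormalScheme X)
    (F : X.Modules) (hF : Coh.IsCoh F) :
    (∀ x : ↥X, Module.IsReflexive (X.presheaf.stalk x) (F.presheaf.stalk x)) ↔
      ∃ U : X.Opens, (∀ x : ↥X, x ∉ U → (2 : WithBot ℕ∞) ≤ ringKrullDim (X.presheaf.stalk x)) ∧
        FlatMod.IsFinLocFree (F.restrict U.ι) ∧ IsIso ((Scheme.Modules.restrictAdjunction U.ι).unit.app F) := by
  obtain ⟨hqc, hft⟩ := hF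
  haveI : F.IsQuasicoherent := hqc
  haveI : SheafOfModules.IsFiniteType (R := X.ringCatSheaf) F := hft
  have hfin : ∀ x : X, Module.Finite (X.presheaf.stalk x) (F.presheaf.stalk x) := fun x =>
    Groth.Agent.Helper13.LocFree.finite_stalk_of_isFiniteType F x
  constructor
  · intro hrefl
    have hcodim : ∀ x : X, x ∉ Groth.Agent.Lead.FreeLoc.freeLocus F →
        (2 : WithBot ℕ∞) ≤ ringKrullDim (X.presheaf.stalk x) := by
      intro x hx
      by_contra hcon
      have h1 : ringKrullDim (X.presheaf.stalk x) ≤ 1 := by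
        by_contra h1
        exact hcon (Groth.Agent.Lead.FreeLoc.two_le_of_not_le_one h1)
      obtain ⟨hd, hic⟩ := hX x
      haveI := hd
      haveI := hic
      haveI : IsPrincipalIdealRing (X.presheaf.stalk x) :=
        Groth.Agent.Lead.FreeLoc.isPrincipalIdealRing_of_dim_le_one _ h1
      haveI := hrefl x
      haveI := hfin x
      haveI : Module.IsTorsionFree (X.presheaf.stalk x) (F.presheaf.stalk x) :=
        Module.IsReflexive.to_isTorsionFree _ _
      exact hx ((Groth.Agent.Lead.FreeLoc.mem_freeLocus_iff F x).2 inferInstance)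
    refine ⟨Groth.Agent.Lead.FreeLoc.freeLocus F, hcodim,
      Groth.Agent.Lead.FreeLoc.isFinLocFree_restrict_freeLocus F, ?_⟩
    have hdepth : ∀ x : X, x ∉ Groth.Agent.Lead.FreeLoc.freeLocus F →
        2 ≤ LocCoh.depth (X.presheaf.stalk x) (F.presheaf.stalk x) := by
      intro x hx
      obtain ⟨hd, hic⟩ := hX x
      haveI := hd
      haveI := hic
      haveI := hrefl x
      haveI := hfin x
      have hS := (Groth.Agent.Lead.Fib.normal_RS (X.presheaf.stalk x)).2
      have hmin := Groth.Agent.Lead.Fib.hasSk_self_local 2 hS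
      have hht : (2 : ℕ∞) ≤ (IsLocalRing.maximalIdeal (X.presheaf.stalk x)).height := by
        have h2 := hcodim x hx
        rw [← IsLocalRing.maximalIdeal_height_eq_ringKrullDim] at h2
        exact WithBot.coe_le_coe.1 h2
      have hdR : (2 : ℕ∞) ≤ LocCoh.idealDepth (IsLocalRing.maximalIdeal (X.presheaf.stalk x))
          (X.presheaf.stalk x) := by
        have h3 : min ((2 : ℕ) : ℕ∞) (IsLocalRing.maximalIdeal (X.presheaf.stalk x)).height = 2 :=
          min_eq_left (by exact_mod_cast hht)
        rw [h3] at hmin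
        exact hmin
      have hM : LocCoh.depth (X.presheaf.stalk x) (F.presheaf.stalk x) =
          LocCoh.depth (X.presheaf.stalk x)
            (Module.Dual (X.presheaf.stalk x) (F.presheaf.stalk x) →ₗ[X.presheaf.stalk x]
              X.presheaf.stalk x) :=
        Groth.Agent.Lead.Depth.depth_congr (Module.evalEquiv _ _)
      rw [hM]
      exact Groth.Agent.Helper28.ReflDepth.two_le_idealDepth_hom
        (IsLocalRing.maximalIdeal (X.presheaf.stalk x))
        (Module.Dual (X.presheaf.stalk x) (F.presheaf.stalk x)) hdR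
    refine Groth.Agent.Helper13.LocFree.isIso_of_app_bijective_of_isBasis _
      X.isBasis_affineOpens ?_
    intro W hW
    rw [Scheme.Modules.restrictAdjunction_unit_app_app]
    have hW' : (Groth.Agent.Lead.FreeLoc.freeLocus F).ι ''ᵁ
        (Groth.Agent.Lead.FreeLoc.freeLocus F).ι ⁻¹ᵁ W =
        W ⊓ Groth.Agent.Lead.FreeLoc.freeLocus F := by
      rw [Scheme.Hom.image_preimage_eq_opensRange_inf, Scheme.Opens.opensRange_ι, inf_comm]
    exact Groth.Agent.Lead.Hartogs.bijective_res' F (Groth.Agent.Lead.FreeLoc.freeLocus F)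
      hdepth W _ ((Groth.Agent.Lead.FreeLoc.freeLocus F).ι.image_preimage_le W) hW'
  · rintro ⟨U, hcodim, hlf, hiso⟩ x
    obtain ⟨_, ⟨V, hV, rfl⟩, hxV, -⟩ :=
      X.isBasis_affineOpens.exists_subset_of_mem_open (Set.mem_univ x) isOpen_univ
    have hV' : IsAffineOpen V := hV
    haveI : IsNoetherianRing Γ(X, V) := IsLocallyNoetherian.component_noetherian ⟨V, hV'⟩
    haveI : Module.Finite Γ(X, V) Γ(F, V) :=
      Groth.Agent.Helper13.FinType.finite_sections_of_isFiniteType F hV'
    haveI : Nonempty V := ⟨⟨x, hxV⟩⟩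
    haveI : IsDomain Γ(X, V) := inferInstance
    have hbij : Function.Bijective (F.presheaf.map (homOfLE (inf_le_left : V ⊓ U ≤ V)).op) := by
      have h1 : Function.Bijective (((Scheme.Modules.restrictAdjunction U.ι).unit.app F).app V) :=
        (Groth.Agent.Helper13.LocFree.appLinearEquiv
          (asIso ((Scheme.Modules.restrictAdjunction U.ι).unit.app F)) V).bijective
      rw [Scheme.Modules.restrictAdjunction_unit_app_app] at h1
      have hW' : U.ι ''ᵁ U.ι ⁻¹ᵁ V = V ⊓ U := by
        rw [Scheme.Hom.image_preimage_eq_opensRange_inf, Scheme.Opens.opensRange_ι, inf_comm]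
      exact Groth.Agent.Lead.FLFUnit.bijective_modmap_of_eq F rfl hW'.symm
        (U.ι.image_preimage_le V) inf_le_left h1
    have hN : Module.IsReflexive Γ(X, V) Γ(F, V) := by
      rw [Groth.Agent.S6879.result]
      intro p hp
      obtain ⟨z, hz⟩ : ∃ z : X, z = hV'.fromSpec (⟨p, hp⟩ : PrimeSpectrum Γ(X, V)) := ⟨_, rfl⟩
      have hzV : z ∈ V := by
        have h0 : hV'.fromSpec (⟨p, hp⟩ : PrimeSpectrum Γ(X, V)) ∈ hV'.fromSpec.opensRange :=
          ⟨_, rfl⟩
        rw [hV'.opensRange_fromSpec] at h0
        exact hz ▸ h0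
      have hprime : hV'.primeIdealOf ⟨z, hzV⟩ = ⟨p, hp⟩ := by
        subst hz
        exact Groth.Agent.Helper13.FlatOver.primeIdealOf_fromSpec' hV' _ _
      by_cases hzU : z ∈ U
      · left
        haveI := Groth.Agent.Helper13.LocFree.free_stalk_of_isFinLocFree_restrict F U hlf z hzU
        haveI := hfin z
        have hr : Module.IsReflexive (X.presheaf.stalk z) (F.presheaf.stalk z) := inferInstance
        exact (Groth.Agent.Lead.FreeLoc.isReflexive_stalk_iff' F hV' ⟨z, hzV⟩ ⟨p, hp⟩ hprime).1 hr
      · right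
        have hd := Groth.Agent.Lead.Hartogs.two_le_depth_of_bijective F U V hV' hbij z hzV hzU
        rw [Groth.Agent.Lead.Hartogs.depth_stalk_eq F hV' ⟨z, hzV⟩ ⟨p, hp⟩ hprime] at hd
        exact hd
    haveI := hN
    haveI : Module.IsReflexive (Localization.AtPrime (hV'.primeIdealOf ⟨x, hxV⟩).asIdeal)
        (LocalizedModule (hV'.primeIdealOf ⟨x, hxV⟩).asIdeal.primeCompl Γ(F, V)) :=
      Groth.Agent.Helper28.ReflDepth.isReflexive_localizedModule _ _
    exact (Groth.Agent.Lead.FreeLoc.isReflexive_stalk_iff F hV' ⟨x, hxV⟩).2 inferInstance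

end Groth.Agent.S1690
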