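import Groth.Statements.S16909
import Mathlib
import Groth.Prelude.Def_Coh
import Groth.Prelude.Def_Curv2
import Groth.Agent.Lib.Helper13.VanishIdeal
import Groth.Agent.Lib.Helper13.GlobGen3

set_option autoImplicit false
universe u
open CategoryTheory CategoryTheory.Limits AlgebraicGeometry
open ResProp

namespace Groth.Agent.S16909

open CategoryTheory CategoryTheory.Limits AlgebraicGeometry Opposite TopologicalSpace
open Groth.Agent.Helper13.CounitGen Groth.Agent.Helper13.VanishIdeal Groth.Agent.Helper13.GlobGen

/-- Let `X` be a quasi-compact and quasi-separated scheme on which every quasi-coherent module is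
globally generated (a quotient of a free module on some index type, i.e. the structure sheaf is a
generating family). Then `X` is quasi-affine. No separatedness hypothesis is made; it follows. (The
published statement is for an algebraic stack over an algebraic space with affine stabilizer groups
at closed points and concludes that it is representable by a quasi-affine morphism; that general
case rests on results outside this text, and this row is the final step of its proof, the case of a
scheme.) -/
theorem result (X : Scheme.{u}) [CompactSpace X]
    [QuasiSeparatedSpace X] (h : ∀ M : X.Modules, Coh.IsQCoh M → Curv2.IsGloballyGenerated M) :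
    X.IsQuasiAffine := by
  apply Scheme.IsQuasiAffine.of_forall_exists_mem_basicOpen
  intro y
  obtain ⟨W, hW, hyW, -⟩ := exists_isAffineOpen_mem_and_subset (x := y) (U := ⊤) trivial
  let Zc : Closeds X := ⟨(W : Set X)ᶜ, W.2.isClosed_compl⟩
  let i := (Scheme.IdealSheafData.vanishingIdeal Zc).subschemeι
  have hrange : Set.range i = (W : Set X)ᶜ := by
    rw [Scheme.IdealSheafData.range_subschemeι, Scheme.IdealSheafData.coe_support_vanishingIdeal]
    rfl
  have hcl : IsClosed (Set.range i) := by rw [hrange]; exact W.2.isClosed_compl
  haveI := isQuasicoherent_idealMod i
  have hgg := (isGloballyGenerated_iff _).1 (h (idealMod i) inferInstance) y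
  have hspan : secSpan (idealMod i) ⊤ y trivial = ⊤ := hgg
  obtain ⟨s, hys, hsZ⟩ := exists_basicOpen_of_secSpan i hcl ⊤ y trivial
    (by rw [hrange]; exact fun h => h hyW) hspan
  have hsW : X.basicOpen s ≤ W := fun z hz => by
    have := hsZ z hz
    rw [hrange] at this
    exact not_not.1 this
  have haff : IsAffineOpen (X.basicOpen s) := by
    have := hW.basicOpen (X.presheaf.map (homOfLE (le_top : W ≤ ⊤)).op s)
    rwa [Scheme.basicOpen_res, inf_eq_right.2 hsW] at this
  exact ⟨s, haff, hys⟩

end Groth.Agent.S16909
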