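import Groth.Statements.S16920
import Mathlib
import Groth.Agent.S15237
-- import your own Groth.Agent.* helpers here

set_option autoImplicit false
open CategoryTheory AlgebraicGeometry
universe u
open Variety

namespace Groth.Agent.S16920

section
open CategoryTheory AlgebraicGeometry

theorem main (k : Type u) [Field k] [IsAlgClosed k]
    [Uncountable k] (V : Scheme.{u}) (sV : V ⟶ Spec (CommRingCat.of k)) [IrreducibleSpace V]
    [LocallyOfFiniteType sV] [QuasiCompact sV] (Z : ℕ → TopologicalSpace.Closeds V)
    (hZ : ∀ n, (Z n : Set V) ≠ Set.univ) :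
    Dense {x : V | IsClosed ({x} : Set V) ∧ ∀ n, x ∉ Z n} := by
  rw [dense_iff_inter_open]
  intro U hU hne
  obtain ⟨Z', hZ0, hZs⟩ : ∃ Z' : ℕ → TopologicalSpace.Closeds V,
      Z' 0 = ⟨Uᶜ, hU.isClosed_compl⟩ ∧ ∀ m, Z' (m + 1) = Z m :=
    ⟨fun n => Nat.casesOn n ⟨Uᶜ, hU.isClosed_compl⟩ (fun m => Z m), rfl, fun _ => rfl⟩
  have hZ' : ∀ n, (Z' n : Set V) ≠ Set.univ := by
    intro n
    cases n with
    | zero =>
      rw [hZ0]
      show Uᶜ ≠ Set.univ
      intro h
      rw [Set.compl_univ_iff] at h
      exact hne.ne_empty h
    | succ m => rw [hZs]; exact hZ m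
  obtain ⟨x, hx, hxZ⟩ := Groth.Agent.S15237.result k V sV Z' hZ'
  refine ⟨x, ?_, hx, fun n => ?_⟩
  · have := hxZ 0
    rw [hZ0] at this
    by_contra hcon
    exact this hcon
  · have := hxZ (n + 1)
    rwa [hZs] at this
end

/-- Let k be an uncountable algebraically closed field, V an irreducible k-scheme of finite type and Z₀,
Z₁, … closed subsets of V, each different from V. Then the set of closed points of V lying in no Zₙ
is dense in V. (The published statement: a nonempty c-open subset of an irreducible quasi-projective
variety is Zariski dense, a variety being read through its closed points; nonemptiness of the c-open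
subset amounts to every Zₙ being a proper subset, while quasi-projectivity and the standing
characteristic-zero assumption play no role and are dropped.) -/
theorem result (k : Type u) [Field k] [IsAlgClosed k]
    [Uncountable k] (V : Scheme.{u}) (sV : V ⟶ Spec (CommRingCat.of k)) [IrreducibleSpace V]
    [LocallyOfFiniteType sV] [QuasiCompact sV] (Z : ℕ → TopologicalSpace.Closeds V)
    (hZ : ∀ n, (Z n : Set V) ≠ Set.univ) :
    Dense {x : V | IsClosed ({x} : Set V) ∧ ∀ n, x ∉ Z n} := by
  exact Groth.Agent.S16920.main k V sV Z hZ

end Groth.Agent.S16920
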