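import Groth.Statements.S1695
import Mathlib
import Groth.Agent.Lib.Helper28.BlowUpExist
import Groth.Agent.Lib.Helper28.ReesChart2
open AlgebraicGeometry CategoryTheory Groth.Agent.Helper28.ReesChart Groth.Agent.Helper28.BlowUpProj

set_option autoImplicit false
universe u
open CategoryTheory CategoryTheory.Limits AlgebraicGeometry TopologicalSpace
open SDiv

namespace Groth.Agent.S1695

/-- Let A be a ring, I an ideal, and b : X' ⟶ Spec A a blowing-up of Spec A along the ideal sheaf of I.
Then every point of X' has an open neighbourhood which is isomorphic, over Spec A, to the spectrum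
of an affine blow-up algebra A[I/a] for some a ∈ I. -/
theorem result (A : Type u) [CommRing A] (I : Ideal A) {X' : Scheme.{u}}
    (b : X' ⟶ Spec (CommRingCat.of A)) (hb : BlowUp.IsBlowUp b (Scheme.IdealSheafData.ofIdealTop (I.map (Scheme.ΓSpecIso (CommRingCat.of A)).inv.hom))) (x' : ↥X') :
    ∃ (a : A) (_ : a ∈ I) (V : X'.Opens) (e : (V : Scheme.{u}) ≅ Spec (CommRingCat.of ↥(BlowUp.affineAlgebra A I a))),
      x' ∈ V ∧ e.hom ≫ Spec.map (CommRingCat.ofHom (algebraMap A ↥(BlowUp.affineAlgebra A I a))) = V.ι ≫ b := by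
  obtain ⟨φ, hφ⟩ := Groth.Agent.Helper28.StrictTr.exists_iso_of_isBlowUp _ b
    (Groth.Agent.Helper28.BlowUpProj.b I) hb (isBlowUp_b I)
  obtain ⟨a, ha, hp⟩ := exists_chart I (φ.hom x')
  set R := (chart I a ha).opensRange with hR
  let θ := awayEquiv I a ha
  have hθ : CommRingCat.ofHom (algebraMap A ↥(BlowUp.affineAlgebra A I a)) ≫
      CommRingCat.ofHom θ.symm.toRingHom = CommRingCat.ofHom (ψ I a ha) := by
    apply CommRingCat.hom_ext
    apply RingHom.ext
    intro r
    simp only [CommRingCat.hom_comp, CommRingCat.hom_ofHom, RingHom.coe_comp, Function.comp_apply]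
    rw [← awayEquiv_ψ I a ha r]
    exact θ.symm_apply_apply _
  let e3 : Spec (CommRingCat.of (HomogeneousLocalization.Away (gr I) (tm I a ha))) ≅
      Spec (CommRingCat.of ↥(BlowUp.affineAlgebra A I a)) :=
    Scheme.Spec.mapIso (θ.symm.toCommRingCatIso).op
  have he3 : e3.hom = Spec.map (CommRingCat.ofHom θ.symm.toRingHom) := rfl
  refine ⟨a, ha, φ.hom ⁻¹ᵁ R, asIso (φ.hom ∣_ R) ≪≫ (chart I a ha).isoOpensRange.symm ≪≫ e3, hp, ?_⟩
  simp only [Iso.trans_hom, asIso_hom, Iso.symm_hom, Category.assoc]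
  rw [he3, ← Spec.map_comp, hθ, ← chart_b, Scheme.Hom.isoOpensRange_inv_comp_assoc,
    morphismRestrict_ι_assoc, hφ]

end Groth.Agent.S1695
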