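import Groth.Statements.S16979
-- import your own Groth.Agent.* helpers here
import Mathlib.LinearAlgebra.Matrix.Charpoly.Eigs
import Mathlib.LinearAlgebra.Matrix.Charpoly.Coeff
import Mathlib.FieldTheory.IsAlgClosed.Spectrum
import Mathlib.FieldTheory.IsAlgClosed.AlgebraicClosure
import Mathlib.Algebra.Polynomial.Splits
import Mathlib.FieldTheory.Separable

set_option autoImplicit false
universe u v
open CAlg

namespace Groth.Agent.S16979

open Polynomial

/-- Let R be an integral domain with fraction field K and φ a square matrix over R whose characteristic
polynomial becomes separable in K[T] (equivalently, K[T] modulo the characteristic polynomial is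
geometrically reduced over K). Then a polynomial f over R satisfies f(φ) = 0 exactly when the
characteristic polynomial of φ divides f in R[T]: the kernel of evaluation at φ (the minimal ideal
of φ) is the principal ideal generated by the characteristic polynomial. -/
theorem result
    {R : Type u} [CommRing R] [IsDomain R] {n : Type v} [Fintype n] [DecidableEq n]
    (φ : Matrix n n R)
    (hsep : (φ.charpoly.map (algebraMap R (FractionRing R))).Separable) :
    RingHom.ker (Polynomial.aeval (R := R) φ) = Ideal.span {φ.charpoly} := by
  classical
  apply le_antisymm
  · intro f hf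
    rw [RingHom.mem_ker] at hf
    rw [Ideal.mem_span_singleton]
    set K := FractionRing R
    set L := AlgebraicClosure K
    let ι : R →+* L := algebraMap R L
    have hι : Function.Injective ι := by
      have : (ι : R → L) = (algebraMap K L) ∘ (algebraMap R K) := by
        ext x; exact IsScalarTower.algebraMap_apply R K L x
      rw [this]
      exact (algebraMap K L).injective.comp (IsFractionRing.injective R K)
    rw [← Polynomial.map_dvd_map ι hι (Matrix.charpoly_monic φ)]
    have hcp : (φ.map ι).charpoly = φ.charpoly.map ι := Matrix.charpoly_map φ ι
    have hsepL : (φ.charpoly.map ι).Separable := by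
      have : φ.charpoly.map ι = (φ.charpoly.map (algebraMap R K)).map (algebraMap K L) := by
        rw [Polynomial.map_map]; rfl
      rw [this]
      exact hsep.map
    have h0 : aeval (φ.map ι) (f.map ι) = 0 := by
      have h1 := congrArg (ι.mapMatrix) hf
      rw [map_zero] at h1
      rw [← h1]
      simp only [aeval_def, eval₂_map]
      rw [Polynomial.hom_eval₂]
      congr 1
      ext x i j
      simp [Matrix.algebraMap_matrix_apply, ι]
      split_ifs <;> simp
    by_cases hf0 : f.map ι = 0
    · rw [hf0]; exact dvd_zero _
    apply Polynomial.Splits.dvd_of_roots_le_roots (IsAlgClosed.splits _) (hsepL.ne_zero)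
    rw [Multiset.le_iff_subset (Polynomial.nodup_roots hsepL)]
    intro μ hμ
    rw [← hcp, Polynomial.mem_roots (by rw [hcp]; exact hsepL.ne_zero), ← Matrix.mem_spectrum_iff_isRoot_charpoly] at hμ
    have h2 := spectrum.subset_polynomial_aeval (φ.map ι) (f.map ι) ⟨μ, hμ, rfl⟩
    rw [h0] at h2
    have hnt : Nontrivial (Matrix n n L) := by
      by_contra hnt
      rw [not_nontrivial_iff_subsingleton] at hnt
      rw [spectrum.mem_iff] at hμ
      exact hμ (isUnit_of_subsingleton _)
    rw [spectrum.zero_eq, Set.mem_singleton_iff] at h2
    rw [Polynomial.mem_roots hf0]
    exact h2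
  · rw [Ideal.span_le, Set.singleton_subset_iff]
    exact Matrix.aeval_self_charpoly φ

end Groth.Agent.S16979
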