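import Groth.Statements.S16982
import Mathlib
import Groth.Agent.Lib.Helper14.PowerSeriesComplete
import Groth.Agent.Lib.Helper14.CohenLift
import Groth.Agent.Lib.Helper1.AdicExt
-- import your own Groth.Agent.* helpers here

set_option autoImplicit false
universe u v w w'
open CAlg

namespace Groth.Agent.S16982

open MvPowerSeries in
/-- Two algebra maps out of a power series ring into an adically separated ring agree if they
agree on the variables (which are sent into the ideal). -/
theorem algHom_ext_hausdorff {σ : Type*} [Finite σ] {Λ : Type*} {R : Type*} [CommRing Λ]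
    [CommRing R] [Algebra Λ R] (𝔪 : Ideal R) [IsHausdorff 𝔪 R]
    (g g' : MvPowerSeries σ Λ →ₐ[Λ] R) (hg : ∀ i, g (X i) ∈ 𝔪)
    (h : ∀ i, g (X i) = g' (X i)) : g = g' := by
  have key : ∀ (φ : MvPowerSeries σ Λ →ₐ[Λ] R), (∀ i, φ (X i) ∈ 𝔪) → ∀ n,
      ∀ x ∈ (Ideal.span (Set.range (X : σ → MvPowerSeries σ Λ))) ^ n,
        ((Ideal.Quotient.mkₐ Λ (𝔪 ^ n)).comp φ) x = 0 := by
    intro φ hφ n x hx
    rw [AlgHom.comp_apply, Ideal.Quotient.mkₐ_eq_mk, Ideal.Quotient.eq_zero_iff_mem]
    have h1 : (Ideal.span (Set.range (X : σ → MvPowerSeries σ Λ))).map (φ : _ →+* R) ≤ 𝔪 := by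
      rw [Ideal.map_span, Ideal.span_le]
      rintro _ ⟨_, ⟨i, rfl⟩, rfl⟩
      exact hφ i
    have h2 : ((Ideal.span (Set.range (X : σ → MvPowerSeries σ Λ))) ^ n).map (φ : _ →+* R) ≤ 𝔪 ^ n := by
      rw [Ideal.map_pow]
      exact Ideal.pow_right_mono h1 n
    exact h2 (Ideal.mem_map_of_mem _ hx)
  have hg' : ∀ i, g' (X i) ∈ 𝔪 := fun i => h i ▸ hg i
  ext1 x
  rw [← sub_eq_zero]
  refine IsHausdorff.haus' (I := 𝔪) _ fun n => ?_
  rw [SModEq.zero, smul_eq_mul, Ideal.mul_top, ← Ideal.Quotient.eq_zero_iff_mem, map_sub, sub_eq_zero]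
  have := Groth.Agent.Helper14.PowerSeriesAdic.algHom_ext_of_adic (R ⧸ 𝔪 ^ n)
    ((Ideal.Quotient.mkₐ Λ (𝔪 ^ n)).comp g) ((Ideal.Quotient.mkₐ Λ (𝔪 ^ n)).comp g') n
    (key g hg n) (key g' hg' n) (fun i => by
      rw [AlgHom.comp_apply, AlgHom.comp_apply, h i])
  exact DFunLike.congr_fun this x

/-- An ideal containing the finitely generated kernel of a surjection is finitely generated as
soon as its image is. -/
theorem fg_of_map_fg {E A : Type*} [CommRing E] [CommRing A] (f : E →+* A)
    (hf : Function.Surjective f) (hK : (RingHom.ker f).FG) (I : Ideal E)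
    (hKI : RingHom.ker f ≤ I) (hI : (I.map f).FG) : I.FG := by
  classical
  obtain ⟨s, hs⟩ := hI
  have hex : ∀ a ∈ s, ∃ x ∈ I, f x = a := fun a ha =>
    (Ideal.mem_map_iff_of_surjective f hf).mp (hs ▸ Ideal.subset_span ha)
  choose! g hgI hg using hex
  have hI' : I = Ideal.span (g '' (s : Set A)) ⊔ RingHom.ker f := by
    apply le_antisymm
    · intro p hp
      have h1 : f p ∈ (Ideal.span (g '' (s : Set A))).map f := by
        rw [Ideal.map_span, ← Set.image_comp]
        have : (f ∘ g) '' (s : Set A) = (s : Set A) := by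
          ext a
          constructor
          · rintro ⟨b, hb, rfl⟩
            rw [Function.comp_apply, hg b hb]; exact hb
          · intro ha
            exact ⟨a, ha, hg a ha⟩
        rw [this, hs]
        exact Ideal.mem_map_of_mem _ hp
      obtain ⟨y, hy, hyp⟩ := (Ideal.mem_map_iff_of_surjective f hf).mp h1
      have : p = y + (p - y) := by ring
      rw [this]
      exact Ideal.add_mem _ (Ideal.mem_sup_left hy)
        (Ideal.mem_sup_right (by rw [RingHom.mem_ker, map_sub, hyp, sub_self]))
    · refine sup_le (Ideal.span_le.mpr ?_) hKI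
      rintro _ ⟨a, ha, rfl⟩
      exact hgI a ha
  rw [hI']
  refine Submodule.FG.sup ⟨s.image g, ?_⟩ hK
  simp

/-- Let R be a commutative ring, A a complete Noetherian local R-algebra written as a quotient of a
power series ring over R in finitely many variables by a surjective R-algebra map π, and f : E → A a
surjective R-algebra map whose kernel has square zero and is finitely generated. Then π lifts along
f to an R-algebra map λ from the power series ring to E with f ∘ λ = π. (The published statement
takes R Artinian local and asks for a lift that is continuous for the adic topologies; this row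
allows any commutative R and asks for any lift.) -/
theorem result
    {R : Type u} [CommRing R] {σ : Type v} [Finite σ]
    {A : Type w} {E : Type w'} [CommRing A] [CommRing E] [Algebra R A] [Algebra R E]
    [IsNoetherianRing A] [IsLocalRing A] [IsAdicComplete (IsLocalRing.maximalIdeal A) A]
    (π : MvPowerSeries σ R →ₐ[R] A) (hπ : Function.Surjective π)
    (f : E →ₐ[R] A) (hf : Function.Surjective f)
    (hsq : RingHom.ker f.toRingHom ^ 2 = ⊥) (hfg : (RingHom.ker f.toRingHom).FG) :
    ∃ l : MvPowerSeries σ R →ₐ[R] E, f.comp l = π := by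
  classical
  set K : Ideal E := RingHom.ker f.toRingHom with hK
  have hfs : Function.Surjective f.toRingHom := hf
  haveI : IsNoetherianRing E := by
    apply IsNoetherianRing.of_prime
    intro P hP
    have hKP : K ≤ P := by
      intro k hk
      apply hP.mem_of_pow_mem 2
      have : k ^ 2 ∈ K ^ 2 := Ideal.pow_mem_pow hk 2
      rw [hsq] at this
      rw [(Ideal.mem_bot).mp this]
      exact P.zero_mem
    exact fg_of_map_fg f.toRingHom hfs hfg P hKP (IsNoetherian.noetherian _)
  let 𝔪 := IsLocalRing.maximalIdeal A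
  let J : Ideal E := 𝔪.comap f.toRingHom
  haveI hKc : IsAdicComplete K E :=
    Groth.Agent.Helper14.CohenLift.isAdicComplete_of_pow_eq_bot K E 2 hsq
  let e : (E ⧸ K) ≃+* A := RingHom.quotientKerEquivOfSurjective hfs
  have he : ∀ x : E, e (Ideal.Quotient.mk K x) = f x := fun x => rfl
  have hmap : (J.map (Ideal.Quotient.mk K)).map (e : (E ⧸ K) →+* A) = 𝔪 := by
    rw [Ideal.map_map]
    have : ((e : (E ⧸ K) →+* A).comp (Ideal.Quotient.mk K)) = f.toRingHom := by
      ext x; exact he x
    rw [this]
    exact Ideal.map_comap_of_surjective _ hfs _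
  haveI hq : IsAdicComplete (J.map (Ideal.Quotient.mk K)) (E ⧸ K) := by
    have h1 : IsAdicComplete ((J.map (Ideal.Quotient.mk K)).map e) A := by
      have : (J.map (Ideal.Quotient.mk K)).map e = 𝔪 := hmap
      rw [this]; infer_instance
    exact (IsAdicComplete.congr_ringEquiv _ e).mp h1
  haveI hJc : IsAdicComplete J E :=
    Groth.Agent.Helper1.isAdicComplete_of_isAdicComplete_quotient K J
  -- π X_i lies in the maximal ideal
  have hπX : ∀ i, π (MvPowerSeries.X i) ∈ 𝔪 := by
    intro i
    change π (MvPowerSeries.X i) ∈ IsLocalRing.maximalIdeal A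
    rw [← IsLocalRing.jacobson_eq_maximalIdeal (⊥ : Ideal A) bot_ne_top, Ideal.mem_jacobson_bot]
    intro a
    obtain ⟨u, rfl⟩ := hπ a
    have h1 : IsUnit (MvPowerSeries.X i * u + 1 : MvPowerSeries σ R) := by
      rw [MvPowerSeries.isUnit_iff_constantCoeff]
      simp
    have := h1.map π
    simpa using this
  choose g hg using fun i => hf (π (MvPowerSeries.X i))
  have hgJ : ∀ i, g i ∈ J := fun i => by
    change f (g i) ∈ 𝔪
    rw [hg i]; exact hπX i
  obtain ⟨l, hl⟩ := Groth.Agent.Helper14.PowerSeriesComplete.exists_algHom_complete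
    (Λ := R) (σ := σ) J g hgJ
  refine ⟨l, ?_⟩
  haveI : IsHausdorff 𝔪 A := inferInstance
  apply algHom_ext_hausdorff 𝔪
  · intro i
    rw [AlgHom.comp_apply, hl i, hg i]; exact hπX i
  · intro i
    rw [AlgHom.comp_apply, hl i, hg i]

end Groth.Agent.S16982
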