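import Groth.Statements.S16983
-- import your own Groth.Agent.* helpers here
import Mathlib.Tactic
import Mathlib.RingTheory.Coprime.Lemmas
import Mathlib.Algebra.Order.Floor.Ring

set_option autoImplicit false
universe u
open DeformData

namespace Groth.Agent.S16983

/-- Let p be a prime, s ≥ 1, B a finite index set with a subset B₀ of exactly three elements, m_j ≥ 1
integers coprime to p, and σ_{i,j} (i < s, j ∈ B) rational numbers with m_j σ_{i,j} an integer, such
that Σ_j (σ_{i,j} − 1) = −2 for every i, the fractional part of σ_{i,j} equals that of p^i σ_{0,j},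
no σ_{i,j} equals 1, and the minimum over i of ⌊σ_{i,j}⌋ is 0 for j ∈ B₀ and 1 for j ∉ B₀. Then for
every i the fractional parts ⟨σ_{i,j}⟩ sum over j to 1 (purity), and ⌊σ_{i,j}⌋ is 0 on B₀ and 1 off
B₀ for every i. (The hypotheses are exactly the properties of the signature of a special deformation
datum on the projective line: each entry is an integer divided by a stabilizer order m_j in a group
of order prime to p, the degree identity coming from Riemann–Hurwitz, the Frobenius-twist relation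
between fractional parts, and the speciality conditions; the statement is given here for any such
tuple.) -/
theorem result
    {B : Type u} [Fintype B] [DecidableEq B] (B₀ : Finset B) (hB₀ : B₀.card = 3)
    (p : ℕ) (hp : p.Prime) (s : ℕ) (hs : 0 < s)
    (m : B → ℕ) (hm : ∀ j, 0 < m j) (hmp : ∀ j, Nat.Coprime (m j) p)
    (σ : Fin s → B → ℚ) (hint : ∀ i j, ∃ h : ℤ, σ i j = (h : ℚ) / (m j : ℚ))
    (hsum : ∀ i, ∑ j, (σ i j - 1) = -2)
    (hfract : ∀ i j, Int.fract (σ i j) = Int.fract ((p : ℚ) ^ (i : ℕ) * σ ⟨0, hs⟩ j))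
    (hne : ∀ i j, σ i j ≠ 1)
    (hB₀min : ∀ j ∈ B₀, (∃ i, ⌊σ i j⌋ = 0) ∧ ∀ i, 0 ≤ ⌊σ i j⌋)
    (hBmin : ∀ j ∉ B₀, (∃ i, ⌊σ i j⌋ = 1) ∧ ∀ i, 1 ≤ ⌊σ i j⌋) :
    (∀ i, ∑ j, Int.fract (σ i j) = 1) ∧ (∀ i j, ⌊σ i j⌋ = if j ∈ B₀ then 0 else 1) := by
  classical
  set c : B → ℤ := fun j => if j ∈ B₀ then 0 else 1 with hc
  have hc_le : ∀ i j, c j ≤ ⌊σ i j⌋ := by
    intro i j
    by_cases hj : j ∈ B₀
    · simp only [hc, hj, if_true]; exact (hB₀min j hj).2 i
    · simp only [hc, hj, if_false]; exact (hBmin j hj).2 i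
  have hsumc : ∑ j, (1 - c j) = 3 := by
    have : ∀ j, 1 - c j = if j ∈ B₀ then 1 else 0 := by
      intro j; by_cases hj : j ∈ B₀ <;> simp [hc, hj]
    simp only [this]
    rw [Finset.sum_boole, Finset.filter_mem_eq_inter, Finset.univ_inter, hB₀]
    rfl
  set N : Fin s → ℤ := fun i => ∑ j, (⌊σ i j⌋ - c j) with hN
  set F : Fin s → ℚ := fun i => ∑ j, Int.fract (σ i j) with hF
  have hNF : ∀ i, (N i : ℚ) + F i = 1 := by
    intro i
    have h1 : (N i : ℚ) + F i = ∑ j, (σ i j - 1) + ((∑ j, (1 - c j) : ℤ) : ℚ) := by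
      simp only [hN, hF]
      push_cast
      rw [← Finset.sum_add_distrib, ← Finset.sum_add_distrib]
      refine Finset.sum_congr rfl (fun j _ => ?_)
      have := Int.floor_add_fract (σ i j)
      linarith
    rw [h1, hsum, hsumc]; norm_num
  have hN0 : ∀ i, 0 ≤ N i := fun i => Finset.sum_nonneg (fun j _ => sub_nonneg.mpr (hc_le i j))
  have hF0 : ∀ i, 0 ≤ F i := fun i => Finset.sum_nonneg (fun j _ => Int.fract_nonneg _)
  have hN1 : ∀ i, N i = 0 := by
    intro i₀
    by_contra hne0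
    have hN1' : N i₀ = 1 := by
      have h1 : (N i₀ : ℚ) ≤ 1 := by linarith [hNF i₀, hF0 i₀]
      have h2 : N i₀ ≤ 1 := by exact_mod_cast h1
      have := hN0 i₀
      omega
    have hF1 : F i₀ = 0 := by
      have := hNF i₀; rw [hN1'] at this; push_cast at this; linarith
    have hfr0 : ∀ j, Int.fract (σ i₀ j) = 0 := by
      intro j
      exact (Finset.sum_eq_zero_iff_of_nonneg (fun j _ => Int.fract_nonneg _)).mp hF1 j (Finset.mem_univ j)
    -- σ 0 j integral
    have hint0 : ∀ j, ∃ q : ℤ, σ ⟨0, hs⟩ j = q := by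
      intro j
      obtain ⟨h, hh⟩ := hint ⟨0, hs⟩ j
      have h1 := hfr0 j
      rw [hfract, hh] at h1
      have h2 : (p : ℚ) ^ (i₀ : ℕ) * ((h : ℚ) / (m j : ℚ)) = ⌊(p : ℚ) ^ (i₀ : ℕ) * ((h : ℚ) / (m j : ℚ))⌋ := by
        have := Int.self_sub_floor ((p : ℚ) ^ (i₀ : ℕ) * ((h : ℚ) / (m j : ℚ)))
        rw [h1] at this
        linarith
      set n := ⌊(p : ℚ) ^ (i₀ : ℕ) * ((h : ℚ) / (m j : ℚ))⌋
      have hmj : (m j : ℚ) ≠ 0 := by exact_mod_cast (hm j).ne'
      have h3 : ((p : ℤ) ^ (i₀ : ℕ) * h : ℤ) = n * (m j : ℤ) := by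
        have : (p : ℚ) ^ (i₀ : ℕ) * (h : ℚ) = (n : ℚ) * (m j : ℚ) := by
          field_simp at h2
          linarith
        exact_mod_cast this
      have hdvd : ((m j : ℕ) : ℤ) ∣ (p : ℤ) ^ (i₀ : ℕ) * h := ⟨n, by rw [h3]; ring⟩
      have hcop : IsCoprime ((m j : ℕ) : ℤ) ((p : ℤ) ^ (i₀ : ℕ)) := by
        apply IsCoprime.pow_right
        exact Nat.isCoprime_iff_coprime.mpr (hmp j)
      obtain ⟨q, hq⟩ := hcop.dvd_of_dvd_mul_left hdvd
      refine ⟨q, ?_⟩
      rw [hh, hq]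
      push_cast
      field_simp
    have hall : ∀ i j, σ i j = ⌊σ i j⌋ := by
      intro i j
      obtain ⟨q, hq⟩ := hint0 j
      have h1 : Int.fract (σ i j) = 0 := by
        rw [hfract, hq]
        have : (p : ℚ) ^ (i : ℕ) * (q : ℚ) = (((p : ℤ) ^ (i : ℕ) * q : ℤ) : ℚ) := by push_cast; ring
        rw [this, Int.fract_intCast]
      have := Int.self_sub_floor (σ i j)
      rw [h1] at this
      linarith
    have hallB₀ : ∀ j, j ∈ B₀ := by
      intro j
      by_contra hj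
      obtain ⟨i₁, hi₁⟩ := (hBmin j hj).1
      apply hne i₁ j
      rw [hall i₁ j, hi₁]; norm_num
    have hc0 : ∀ j, c j = 0 := fun j => by simp [hc, hallB₀ j]
    have hNsum : ∑ j, ⌊σ i₀ j⌋ = 1 := by
      have := hN1'
      simp only [hN, hc0, sub_zero] at this
      exact this
    have hfl0 : ∀ j, 0 ≤ ⌊σ i₀ j⌋ := fun j => (hB₀min j (hallB₀ j)).2 i₀
    have hfl1 : ∀ j, ⌊σ i₀ j⌋ ≠ 1 := by
      intro j h1
      apply hne i₀ j
      rw [hall i₀ j, h1]; norm_num
    by_cases hex : ∃ j, 0 < ⌊σ i₀ j⌋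
    · obtain ⟨j, hj⟩ := hex
      have h2 : 2 ≤ ⌊σ i₀ j⌋ := by
        have := hfl1 j
        omega
      have h3 : ⌊σ i₀ j⌋ ≤ ∑ j, ⌊σ i₀ j⌋ :=
        Finset.single_le_sum (fun j _ => hfl0 j) (Finset.mem_univ j)
      omega
    · simp only [not_exists, not_lt] at hex
      have : ∑ j, ⌊σ i₀ j⌋ = 0 := Finset.sum_eq_zero (fun j _ => le_antisymm (hex j) (hfl0 j))
      omega
  constructor
  · intro i
    have := hNF i
    rw [hN1 i] at this
    simpa using this
  · intro i j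
    have h0 := (Finset.sum_eq_zero_iff_of_nonneg (fun j _ => sub_nonneg.mpr (hc_le i j))).mp (hN1 i) j
      (Finset.mem_univ j)
    have : ⌊σ i j⌋ = c j := by linarith
    rw [this]

end Groth.Agent.S16983
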