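import Groth.Statements.S1699
import Groth.Agent.Lib.Helper13.QCohAss
import Groth.Agent.S2506

set_option autoImplicit false
universe u
open CategoryTheory CategoryTheory.Limits AlgebraicGeometry TopologicalSpace
open SDiv

namespace Groth.Agent.S1699

open Groth.Agent.Helper13.QCoh Groth.Agent.Helper13.WeakAss Opposite

lemma ass_unit_iff (X : Scheme.{u}) (x : X) :
    IsAssociatedPrime (IsLocalRing.maximalIdeal ↑(X.presheaf.stalk x)) ↑(X.presheaf.stalk x) ↔
      x ∈ AssSch.Ass (Coh.structureModule X) := by
  change _ ↔ Curv2.IsAssPoint (Coh.structureModule X) x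
  rw [isAssPoint_iff_isWeakAssPoint, isWeakAssPoint_unit_iff]
  constructor
  · rintro ⟨-, m, hm⟩
    refine ⟨m, ?_⟩
    rw [← colon_bot_singleton_eq_ker]
    exact hm.symm
  · rintro ⟨m, hm⟩
    refine ⟨(IsLocalRing.maximalIdeal.isMaximal _).isPrime, m, ?_⟩
    rw [colon_bot_singleton_eq_ker]
    exact hm.symm

/-- (1) if and only if (3): let X be a locally Noetherian scheme and U an open subscheme. Then U is
scheme-theoretically dense in X if and only if U contains every associated point of X (every point
whose local ring has its maximal ideal as an associated prime). -/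
theorem result (X : Scheme.{u}) [IsLocallyNoetherian X] (U : X.Opens) :
    CInt.IsSchematicallyDense U ↔ ∀ x : ↥X, IsAssociatedPrime (IsLocalRing.maximalIdeal ↑(X.presheaf.stalk x)) ↑(X.presheaf.stalk x) → x ∈ U := by
  have hq : Coh.IsQCoh (Coh.structureModule X) := isQuasicoherent_unit X
  have key := Groth.Agent.S2506.result (Coh.structureModule X) hq U
  have h1 : (∀ x : ↥X, IsAssociatedPrime (IsLocalRing.maximalIdeal ↑(X.presheaf.stalk x)) ↑(X.presheaf.stalk x) → x ∈ U) ↔
      AssSch.Ass (Coh.structureModule X) ⊆ (U : Set X) := by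
    constructor
    · intro h x hx
      exact h x ((ass_unit_iff X x).2 hx)
    · intro h x hx
      exact h ((ass_unit_iff X x).1 hx)
  rw [h1, key]
  constructor
  · intro hd V hV s hs
    exact hd V (hs.trans (map_zero (X.presheaf.map (homOfLE (inf_le_left : V ⊓ U ≤ V)).op).hom).symm)
  · intro h V
    rw [injective_iff_map_eq_zero]
    intro s hs
    refine TopCat.Presheaf.section_ext X.sheaf V s 0 ?_
    intro x hx
    change X.presheaf.germ V x hx s = X.presheaf.germ V x hx 0
    obtain ⟨_, ⟨W, hW, rfl⟩, hxW, hWV⟩ :=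
      X.isBasis_affineOpens.exists_subset_of_mem_open hx V.2
    have hW' : IsAffineOpen W := hW
    have hWV' : W ≤ V := hWV
    have h2 : X.presheaf.map (homOfLE hWV').op s = 0 := by
      apply h W hW' (X.presheaf.map (homOfLE hWV').op s)
      change X.presheaf.map (homOfLE (inf_le_left : W ⊓ U ≤ W)).op (X.presheaf.map (homOfLE hWV').op s) = 0
      have h3 : X.presheaf.map (homOfLE (inf_le_left : W ⊓ U ≤ W)).op (X.presheaf.map (homOfLE hWV').op s) =
          X.presheaf.map (homOfLE (inf_le_inf_right U hWV') : W ⊓ U ⟶ V ⊓ U).op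
            (X.presheaf.map (homOfLE (inf_le_left : V ⊓ U ≤ V)).op s) := by
        rw [res_map_map_eq _ _ (homOfLE (inf_le_left.trans hWV' : W ⊓ U ≤ V)).op,
          res_map_map_eq _ _ (homOfLE (inf_le_left.trans hWV' : W ⊓ U ≤ V)).op]
      rw [h3, hs, map_zero]
    rw [map_zero]
    have := TopCat.Presheaf.germ_res_apply X.presheaf (homOfLE hWV') x hxW s
    rw [← this, h2, map_zero]

end Groth.Agent.S1699
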