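import Groth.Statements.S8868
import Groth.Agent.Lib.Helper13.QCohWeakAss

set_option autoImplicit false
universe u
open CategoryTheory CategoryTheory.Limits AlgebraicGeometry TopologicalSpace
open SDiv

namespace Groth.Agent.S8868

open Groth.Agent.Helper13.QCoh

/-- Let X be a scheme and F a quasi-coherent O_X-module. Then F is zero if and only if F has no weakly
associated point. -/
theorem result (X : Scheme.{u}) (F : X.Modules) (hF : Coh.IsQCoh F) :
    IsZero F ↔ ∀ x : ↥X, ¬ Curv2.IsWeakAssPoint F x := by
  haveI : F.IsQuasicoherent := hF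
  constructor
  · intro hz x ⟨m, hm⟩
    have hs := (isZero_iff_stalk F).1 hz x
    have hm0 : m = 0 := hs.elim _ _
    have htop : LinearMap.ker (LinearMap.toSpanSingleton (X.presheaf.stalk x) (F.presheaf.stalk x) m) = ⊤ := by
      rw [eq_top_iff]
      intro r _
      rw [LinearMap.mem_ker, LinearMap.toSpanSingleton_apply, hm0, smul_zero]
    rw [htop, Ideal.radical_top] at hm
    exact (IsLocalRing.maximalIdeal.isMaximal (X.presheaf.stalk x)).ne_top hm.symm
  · intro h
    rw [isZero_iff_stalk]
    intro x
    refine ⟨fun a b => ?_⟩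
    by_contra hab
    have hm : a - b ≠ 0 := sub_ne_zero.2 hab
    obtain ⟨_, ⟨U, hU, rfl⟩, hxU, -⟩ :=
      X.isBasis_affineOpens.exists_subset_of_mem_open (Set.mem_univ x) isOpen_univ
    have hU' : IsAffineOpen U := hU
    obtain ⟨g, hxg, t, hgt⟩ := exists_germ_smul_eq F hU' x hxU (a - b)
    have ht : t ≠ 0 := by
      intro h0
      rw [h0, map_zero] at hgt
      have hu : IsUnit (X.presheaf.germ U x hxU g) := (X.mem_basicOpen g x hxU).1 hxg
      obtain ⟨u, hu⟩ := hu
      have : (u⁻¹ : (X.presheaf.stalk x)ˣ) • (X.presheaf.germ U x hxU g • (a - b)) = 0 := by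
        rw [hgt, smul_zero]
      rw [← hu, Units.smul_def, smul_smul, Units.inv_mul, one_smul] at this
      exact hm this
    obtain ⟨y, hy, -, hrad⟩ := exists_weakAss_of_section_ne_zero F hU' t ht
    exact h y ⟨_, hrad⟩

end Groth.Agent.S8868
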