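import Groth.Statements.S1707
import Groth.Agent.Lib.Helper13.QCohWeakAss

set_option autoImplicit false
universe u
open CategoryTheory CategoryTheory.Limits AlgebraicGeometry TopologicalSpace
open SDiv

namespace Groth.Agent.S1707

open Groth.Agent.Helper13.QCoh

/-- Let X be a scheme, F a quasi-coherent module and x a point of the support of F such that no other
point of the support specializes to x. Then x is weakly associated to F. -/
theorem result (X : Scheme.{u}) (F : X.Modules) (hF : Coh.IsQCoh F) (x : ↥X)
    (hx : x ∈ CohB1.support F) (hmax : ∀ y : ↥X, y ∈ CohB1.support F → y ⤳ x → y = x) : Curv2.IsWeakAssPoint F x := by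
  have : F.IsQuasicoherent := hF
  have hx' : ¬ Subsingleton (F.presheaf.stalk x) := hx
  have hm : ∃ m : F.presheaf.stalk x, m ≠ 0 := by
    by_contra hall
    push Not at hall
    exact hx' ⟨fun a b => by rw [hall a, hall b]⟩
  obtain ⟨m, hm⟩ := hm
  obtain ⟨_, ⟨V, hV, rfl⟩, hxV, -⟩ :=
    X.isBasis_affineOpens.exists_subset_of_mem_open (Set.mem_univ x) isOpen_univ
  have hV' : IsAffineOpen V := hV
  obtain ⟨t, ht⟩ := exists_section_germ_ne_zero F hV' x hxV m hm
  obtain ⟨y, hyV, hyx, hyne, hrad⟩ := exists_weakAss_specializes_of_germ_ne_zero F hV' t x hxV ht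
  have hys : y ∈ CohB1.support F := by
    intro hsub
    exact hyne (hsub.elim _ _)
  have hyx' : y = x := hmax y hys hyx
  subst hyx'
  exact ⟨_, hrad⟩

end Groth.Agent.S1707
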