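import Groth.Statements.S1708
import Groth.Agent.Lib.Helper13.QCohWeakAss2
import Groth.Agent.Lib.Helper13.QCohPush

set_option autoImplicit false
universe u
open CategoryTheory CategoryTheory.Limits AlgebraicGeometry TopologicalSpace
open SDiv

namespace Groth.Agent.S1708

open Groth.Agent.Helper13.QCoh Groth.Agent.Helper13.WeakAss in

/-- Let f : X ⟶ S be an affine morphism and F a quasi-coherent module on X. Then every weakly associated
point of f_* F is the image of a weakly associated point of F. -/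
theorem result {X S : Scheme.{u}} (f : X ⟶ S) [IsAffineHom f] (F : X.Modules) (hF : Coh.IsQCoh F)
    (s : ↥S) (hs : Curv2.IsWeakAssPoint ((Scheme.Modules.pushforward f).obj F) s) :
    ∃ x : ↥X, f x = s ∧ Curv2.IsWeakAssPoint F x := by
  have hFq : F.IsQuasicoherent := hF
  have hNq : ((Scheme.Modules.pushforward f).obj F).IsQuasicoherent :=
    Groth.Agent.Helper13.QCohPush.isQuasicoherent_pushforward f F
  obtain ⟨_, ⟨V, hV, rfl⟩, hsV, -⟩ := S.isBasis_affineOpens.exists_subset_of_mem_open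
    (Set.mem_univ s) isOpen_univ
  have hV' : IsAffineOpen V := hV
  have hU : IsAffineOpen (f ⁻¹ᵁ V) := hV'.preimage f
  obtain ⟨t, ht⟩ := exists_mem_minimalPrimes_of_isWeakAssPoint
    ((Scheme.Modules.pushforward f).obj F) hV' s hsV hs
  -- the annihilator over `Γ(S, V)` is the preimage of the annihilator over `Γ(X, f⁻¹V)`
  have hcomap : annSec ((Scheme.Modules.pushforward f).obj F) t =
      (annSec F (id t : Γ(F, f ⁻¹ᵁ V))).comap (f.app V).hom := by
    ext a
    rw [Ideal.mem_comap, mem_annSec, mem_annSec]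
    rfl
  rw [hcomap] at ht
  obtain ⟨q, hq, hqs⟩ := Ideal.exists_minimalPrimes_comap_eq (f.app V).hom _ ht
  have hqp : q.IsPrime := hq.1.1
  set x := hU.fromSpec ⟨q, hqp⟩ with hx
  have hxU : x ∈ f ⁻¹ᵁ V := fromSpec_mem hU _
  have hprime : hU.primeIdealOf ⟨x, hxU⟩ = ⟨q, hqp⟩ := by
    apply hU.fromSpec.isOpenEmbedding.injective
    rw [hU.fromSpec_primeIdealOf ⟨_, hxU⟩]
  refine ⟨x, ?_, ?_⟩
  · have h1 := IsAffineOpen.comap_primeIdealOf_appLE (f := f) V hV' (f ⁻¹ᵁ V) hU le_rfl hxU
    rw [hprime, Scheme.Hom.appLE_eq_app] at h1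
    have h2 : hV'.primeIdealOf ⟨f x, hxU⟩ = hV'.primeIdealOf ⟨s, hsV⟩ := by
      rw [← h1]
      apply PrimeSpectrum.ext
      exact hqs
    have h3 := congrArg hV'.fromSpec h2
    rw [hV'.fromSpec_primeIdealOf, hV'.fromSpec_primeIdealOf] at h3
    exact h3
  · apply isWeakAssPoint_of_mem_minimalPrimes F hU x hxU (id t : Γ(F, f ⁻¹ᵁ V))
    rw [hprime]
    exact hq

end Groth.Agent.S1708
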