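import Groth.Statements.S17081
import Groth.Agent.Lib.Helper4.HilbBC

set_option autoImplicit false
universe u
open CategoryTheory CategoryTheory.Limits AlgebraicGeometry
open MorSch

namespace Groth.Agent.S17081

/-- Let S and S' be Noetherian schemes, h : S' → S and f : X → S morphisms, and (H, Z) a pair
representing the Hilbert functor of X over S on locally Noetherian S-schemes (H locally Noetherian
over S; Z ⊆ X ×_S H closed, proper and flat over H; every closed subscheme of X ×_S T proper and
flat over a locally Noetherian S-scheme T is the pullback of Z along a unique S-morphism T → H),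
with H locally of finite type over S. Write X' = X ×_S S' → S' and H' = H ×_S S' → S', and let Z' ⊆
X' ×_{S'} H' be the closed subscheme pulled back from Z along the morphism X' ×_{S'} H' → X ×_S H
induced by the projections X' → X and H' → H. Then (H', Z') represents the Hilbert functor of X'
over S'. (Published for X flat and projective over S, which is how (H, Z) is known to exist there;
representability is taken as a hypothesis here; the hypothesis that H is locally of finite type over
S is added here (it holds for the Hilbert scheme of a flat projective scheme) so that H ×_S S' is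
locally Noetherian.) -/
theorem result
    {X S S' : Scheme.{u}} [IsNoetherian S] [IsNoetherian S'] (f : X ⟶ S) (h : S' ⟶ S)
    (H : Over S) (Z : FGA.HilbSet f H) (hH : FGA.HilbRepresentedBy f H Z)
    [LocallyOfFiniteType H.hom]
    (Z' : FGA.HilbSet (pullback.snd f h) (Over.mk (pullback.snd H.hom h)))
    (hZ' : Z'.1 = Z.1.comap (pullback.map (pullback.snd f h) (pullback.snd H.hom h) f H.hom
      (pullback.fst f h) (pullback.fst H.hom h) h pullback.condition.symm pullback.condition.symm)) :
    FGA.HilbRepresentedBy (pullback.snd f h) (Over.mk (pullback.snd H.hom h)) Z' := by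
  classical
  refine ⟨?_, ?_⟩
  · show IsLocallyNoetherian (pullback H.hom h)
    exact LocallyOfFiniteType.isLocallyNoetherian (pullback.snd H.hom h)
  · intro T' hT' Y'
    let T : Over S := Groth.Agent.Helper4.HilbBC.overS h T'
    have hT : IsLocallyNoetherian T.left := hT'
    let e : PicF.XT (pullback.snd f h) T' ≅ PicF.XT f T := Groth.Agent.Helper4.HilbBC.eT f h T'
    obtain ⟨φ, hφ, hφι⟩ := Groth.Agent.Helper4.HilbBC.exists_iso_subscheme_comap_inv e Y'.1
    have hproj : e.hom ≫ PicF.XTproj f T = PicF.XTproj (pullback.snd f h) T' :=
      pullbackLeftPullbackSndIso_hom_snd f h T'.hom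
    have hY1 : IsProper ((Y'.1.comap e.inv).subschemeι ≫ PicF.XTproj f T) := by
      rw [hφι]; simp only [Category.assoc, hproj]
      have := Y'.2.1
      infer_instance
    have hY2 : Flat ((Y'.1.comap e.inv).subschemeι ≫ PicF.XTproj f T) := by
      rw [hφι]; simp only [Category.assoc, hproj]
      have := Y'.2.2
      infer_instance
    let Y : FGA.HilbSet f T := ⟨Y'.1.comap e.inv, hY1, hY2⟩
    obtain ⟨g, hg, hguniq⟩ := hH.2 T Y
    -- key computation
    have key : ∀ g'' : T' ⟶ Over.mk (pullback.snd H.hom h),
        FGA.hilbPull (pullback.snd f h) g'' Z'.1 =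
          (FGA.hilbPull f (Groth.Agent.Helper4.HilbBC.toH h H g'') Z.1).comap e.hom := by
      intro g''
      rw [Groth.Agent.Helper4.HilbBC.hilbPull_eq_comap, Groth.Agent.Helper4.HilbBC.hilbPull_eq_comap,
        hZ', ← Scheme.IdealSheafData.comap_comp, ← Scheme.IdealSheafData.comap_comp]
      congr 1
      exact Groth.Agent.Helper4.HilbBC.XTmap_bcMap f h H g''
    -- the candidate
    have hw : g.left ≫ H.hom = T'.hom ≫ h := Over.w g
    let g' : T' ⟶ Over.mk (pullback.snd H.hom h) :=
      Over.homMk (pullback.lift g.left T'.hom hw) (pullback.lift_snd _ _ _)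
    have hg'toH : Groth.Agent.Helper4.HilbBC.toH h H g' = g := by
      apply Over.OverMorphism.ext
      simp only [g', Groth.Agent.Helper4.HilbBC.toH, Over.homMk_left]
      exact pullback.lift_fst _ _ _
    refine ⟨g', ?_, ?_⟩
    · show FGA.hilbPull (pullback.snd f h) g' Z'.1 = Y'.1
      rw [key g', hg'toH, hg]
      exact Groth.Agent.Helper4.HilbBC.comap_inv_comap_hom e Y'.1
    · intro g'' hg''
      have h1 : FGA.hilbPull f (Groth.Agent.Helper4.HilbBC.toH h H g'') Z.1 = Y.1 := by
        have := congrArg (fun I => Scheme.IdealSheafData.comap I e.inv) ((key g'').symm.trans hg'')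
        simp only [Groth.Agent.Helper4.HilbBC.comap_hom_comap_inv] at this
        exact this
      have h2 : Groth.Agent.Helper4.HilbBC.toH h H g'' = g := hguniq _ h1
      apply Over.OverMorphism.ext
      apply pullback.hom_ext
      · have := congrArg (fun a => a.left) h2
        simp only [g', Groth.Agent.Helper4.HilbBC.toH, Over.homMk_left] at this ⊢
        rw [this]
        exact (pullback.lift_fst _ _ _).symm
      · have := Over.w g''
        simp only [g', Over.homMk_left, Over.mk_hom] at this ⊢
        rw [this]
        exact (pullback.lift_snd _ _ _).symm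

end Groth.Agent.S17081
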