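import Groth.Statements.S17175
-- import your own Groth.Agent.* helpers here
import Mathlib.RingTheory.PowerSeries.NoZeroDivisors

set_option autoImplicit false
universe u
open CAlg

namespace Groth.Agent.S17175

open PowerSeries in
/-- Let k be a field, O₀ = k[[x, y]]/(xy) the complete local ring of a node and Õ₀ = k[[x]] × k[[y]] its
normalization, O₀ being embedded in Õ₀ by h ↦ (h(x, 0), h(0, y)) as the subring of pairs with equal
constant coefficients. Regard Õ₀ as an O₀-module: it is the rank-one torsion-free O₀-module that is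
not free. Then every O₀-linear endomorphism of this module is Õ₀-linear, i.e. it is multiplication
by a unique element of Õ₀; consequently its O₀-endomorphism ring is Õ₀ and its O₀-automorphism group
is the unit group of Õ₀. Here an O₀-linear endomorphism is an additive map of k[[X]] × k[[X]]
commuting with multiplication by every pair whose two constant coefficients agree. (The source works
over an algebraically closed field; only the field structure is used.) -/
theorem result (k : Type u) [Field k]
    (φ : (k⟦X⟧ × k⟦X⟧) →+ (k⟦X⟧ × k⟦X⟧))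
    (hφ : ∀ a s : k⟦X⟧ × k⟦X⟧, constantCoeff a.1 = constantCoeff a.2 → φ (a * s) = a * φ s) :
    ∃! b : k⟦X⟧ × k⟦X⟧, ∀ s : k⟦X⟧ × k⟦X⟧, φ s = b * s := by
  have hX : (PowerSeries.X : k⟦X⟧) ≠ 0 := PowerSeries.X_ne_zero
  have h1 : (φ (1, 0)).2 = 0 := by
    have h := hφ (0, PowerSeries.X) (1, 0) (by simp)
    simp only [Prod.mk_mul_mk, zero_mul, mul_zero] at h
    have h' : φ (0, 0) = 0 := map_zero φ
    rw [h'] at h
    have h2 := congrArg Prod.snd h
    simp only [Prod.snd_zero, Prod.snd_mul] at h2
    exact (mul_eq_zero.mp h2.symm).resolve_left hX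
  have h2 : (φ (0, 1)).1 = 0 := by
    have h := hφ (PowerSeries.X, 0) (0, 1) (by simp)
    simp only [Prod.mk_mul_mk, zero_mul, mul_zero] at h
    have h' : φ (0, 0) = 0 := map_zero φ
    rw [h'] at h
    have h2 := congrArg Prod.fst h
    simp only [Prod.fst_zero, Prod.fst_mul] at h2
    exact (mul_eq_zero.mp h2.symm).resolve_left hX
  have key : ∀ s : k⟦X⟧ × k⟦X⟧, φ s = φ 1 * s := by
    rintro ⟨s1, s2⟩
    have hs : ((s1, s2) : k⟦X⟧ × k⟦X⟧) =
        (s1, PowerSeries.C (constantCoeff s1)) * (1, 0) +
          (PowerSeries.C (constantCoeff s2), s2) * (0, 1) := by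
      simp
    have hone : (1 : k⟦X⟧ × k⟦X⟧) = (1, 0) + (0, 1) := by simp [Prod.ext_iff]
    rw [hone, map_add]
    conv_lhs => rw [hs]
    rw [map_add, hφ _ _ (by simp), hφ _ _ (by simp)]
    ext <;> simp [h1, h2, mul_comm]
  refine ⟨φ 1, key, ?_⟩
  intro b hb
  have := hb 1
  rw [mul_one] at this
  exact this.symm

end Groth.Agent.S17175
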