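import Groth.Statements.S1718
import Groth.Agent.Lib.Helper8.HDI2

set_option autoImplicit false
universe u
open CategoryTheory
attribute [local instance] HasDerivedCategory.standard
open Dual

namespace Groth.Agent.S1718

/-- Let A be a Noetherian local ring with maximal ideal m, residue field κ and a normalized dualizing
complex ω, and let κ → E be an injective hull. Then the degree-0 local cohomology of ω with support
in m (the direct limit of Hom(A/m^n, ω)) is isomorphic to E, and the local cohomology of ω in every
other degree is zero. -/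
theorem result (A : Type u) [CommRing A] [IsLocalRing A] [IsNoetherianRing A] (ω : Dual.D A) (hω : Dual.IsDualizing A ω) (hn : Dual.IsNormalized A ω) (E : Type u) [AddCommGroup E] [Module A E] (f : IsLocalRing.ResidueField A →ₗ[A] E) (hf : InjHull.IsInjectiveHull f) : Nonempty (Dual2.HDI A (IsLocalRing.maximalIdeal A) ω 0 ≃ₗ[A] E) ∧ ∀ i : ℤ, i ≠ 0 → Subsingleton (Dual2.HDI A (IsLocalRing.maximalIdeal A) ω i) := by
  refine ⟨?_, fun i hi => Groth.Agent.Helper8.HDI.subsingleton_HDI ω hn i hi⟩
  have e0 : ω ≅ (CategoryTheory.shiftFunctor (Dual.D A) (0 : ℤ)).obj ω :=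
    ((CategoryTheory.shiftFunctorZero (Dual.D A) ℤ).app ω).symm
  exact Groth.Agent.Helper8.HDI.nonempty_HDI_zero_equiv ω _
    (Groth.Agent.Helper8.FLD.isDualizing_of_iso e0 hω)
    (Groth.Agent.Helper8.FLD.isNormalized_of_iso e0 hn) rfl hf

end Groth.Agent.S1718
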