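import Groth.Statements.S1723
import Groth.Agent.S0543
import Groth.Agent.Lib.Helper8.CoR7
import Groth.Agent.Lib.Helper8.FBC7
import Groth.Agent.Lib.Helper12.GorFib

set_option autoImplicit false
universe u
open CategoryTheory
attribute [local instance] HasDerivedCategory.standard
open Dual

namespace Groth.Agent.S1723

/-- If a Noetherian local ring A has a dualizing complex, then each of its formal fibres is a Gorenstein
ring: for every prime p the ring A^ ⊗_A κ(p) (completion at the maximal ideal, tensored with the
residue field of p) is a Gorenstein ring. -/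
theorem result (A : Type u) [CommRing A] [IsLocalRing A] [IsNoetherianRing A] (ω : Dual.D A) (hω : Dual.IsDualizing A ω) (p : PrimeSpectrum A) : LocCoh.IsGorensteinRing (EGA4.formalFibre A p.asIdeal) := by
  haveI hN : IsNoetherianRing (AdicCompletion (IsLocalRing.maximalIdeal A) A) :=
    Groth.Agent.S0543.result A (IsLocalRing.maximalIdeal A)
  haveI : Module.Flat A (AdicCompletion (IsLocalRing.maximalIdeal A) A) :=
    AdicCompletion.flat_of_isNoetherian (IsLocalRing.maximalIdeal A)
  haveI := Groth.Agent.Helper8.FBC.preservesFiniteLimits_Efun_of_flat (A := A)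
    (AdicCompletion (IsLocalRing.maximalIdeal A) A)
  have hB : Dual.IsDualizing (AdicCompletion (IsLocalRing.maximalIdeal A) A)
      ((Groth.Agent.Helper8.LOC.Ld (algebraMap A (AdicCompletion (IsLocalRing.maximalIdeal A) A))).obj
        ω) := by
    refine Groth.Agent.Helper8.FBC.isDualizing_Ld_of_maximal
      (AdicCompletion (IsLocalRing.maximalIdeal A) A) ω hω (fun n hn => ?_)
    refine ⟨A ⧸ IsLocalRing.maximalIdeal A, inferInstance, inferInstance, inferInstance,
      ⟨Groth.Agent.Helper8.FBC.tensorQuotEquiv (AdicCompletion (IsLocalRing.maximalIdeal A) A)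
        (IsLocalRing.maximalIdeal A) n ?_⟩⟩
    rw [IsLocalRing.eq_maximalIdeal hn]
    exact AdicCompletion.maximalIdeal_eq_map.symm
  haveI : p.asIdeal.IsPrime := p.isPrime
  exact (Groth.Agent.Helper12.GorFib.isGorensteinRing_fiber_iff p.asIdeal).mpr
    (fun r _ _ => Groth.Agent.Helper8.CoR.isGorensteinLocalRing_FL_of_isDualizing ω hω hB
      p.asIdeal r)

end Groth.Agent.S1723
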