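import Groth.Statements.S17252
import Groth.Agent.Lib.Helper12.TanG

set_option autoImplicit false
universe u
open CategoryTheory CategoryTheory.Limits MonoidalCategory CartesianMonoidalCategory MonObj GrpObj AlgebraicGeometry
open AbSch

namespace Groth.Agent.S17252

/-- Let S be a scheme, A an abelian scheme over S (an S-group scheme whose structure morphism is smooth
and proper with geometrically connected fibres) and m an integer whose image in Γ(S, O_S) is a unit.
Then multiplication by m, the m-th power [m] of the identity in the group of S-endomorphisms of A,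
is surjective locally for the étale topology: for every S-scheme T and every α ∈ A(T) there are an
étale surjective S-morphism φ : T′ → T and β ∈ A(T′) with [m] ∘ β = α ∘ φ. With A[m] the kernel of
[m], this is the exactness on the right of the Kummer sequence 0 → A[m] → A → A → 0 of étale
sheaves; in particular it holds for every étale S-scheme T, the case expressing exactness on the
small étale site of S, and it is stated here for all S-schemes T. -/
theorem result {S : Scheme.{u}} (A : Over S) [GrpObj A]
    [Smooth A.hom] [IsProper A.hom] [GeometricallyConnected A.hom]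
    (m : ℤ) (hm : IsUnit (m : Γ(S, ⊤))) (T : Over S) (α : T ⟶ A) :
    ∃ (T' : Over S) (φ : T' ⟶ T) (β : T' ⟶ A),
      Etale φ.left ∧ Surjective φ.left ∧ β ≫ (𝟙 A ^ m) = φ ≫ α := by
  obtain ⟨hfin, het, hsurj⟩ := Groth.Agent.Helper12.Tan.main_zpow_aux A
    (fun s => Groth.Agent.Helper12.Tan.isIntegral_fibre_of_smooth A s) m hm
  let T' : Over S := Over.mk (pullback.fst α.left (𝟙 A ^ m).left ≫ T.hom)
  let φ : T' ⟶ T := Over.homMk (pullback.fst α.left (𝟙 A ^ m).left) rfl
  have hβ : pullback.snd α.left (𝟙 A ^ m).left ≫ A.hom = T'.hom := by
    show _ = pullback.fst α.left (𝟙 A ^ m).left ≫ T.hom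
    rw [← Over.w (𝟙 A ^ m), ← Category.assoc, ← pullback.condition, Category.assoc, Over.w α]
  let β : T' ⟶ A := Over.homMk (pullback.snd α.left (𝟙 A ^ m).left) hβ
  refine ⟨T', φ, β, ?_, ?_, ?_⟩
  · show Etale (pullback.fst α.left (𝟙 A ^ m).left)
    infer_instance
  · show Surjective (pullback.fst α.left (𝟙 A ^ m).left)
    infer_instance
  · ext1
    exact pullback.condition.symm

end Groth.Agent.S17252
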