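import Groth.Statements.S17255
import Groth.Agent.Lib.Helper12.IsogDim
import Groth.Agent.Lib.Helper16.Sch.HomFibD
import Groth.Agent.Lib.Helper4.GrpConn

set_option autoImplicit false
universe u
open CategoryTheory CategoryTheory.Limits MonoidalCategory CartesianMonoidalCategory MonObj GrpObj AlgebraicGeometry
open AbVar

namespace Groth.Agent.S17255

/-- Let k be a field, A and B abelian varieties over k (smooth proper k-group schemes with geometrically
connected fibres) with dim A = dim B (Krull dimensions of the underlying spaces), and f : A → B a
homomorphism. Then flatness of f is equivalent to finiteness of f. -/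
theorem result (k : Type u) [Field k]
    (A B : Over (Spec (CommRingCat.of k)))
    [GrpObj A] [Smooth A.hom] [IsProper A.hom] [GeometricallyConnected A.hom]
    [GrpObj B] [Smooth B.hom] [IsProper B.hom] [GeometricallyConnected B.hom]
    (f : A ⟶ B) [IsMonHom f] (hdim : topologicalKrullDim A.left = topologicalKrullDim B.left) :
    Flat f.left ↔ IsFinite f.left := by
  have : ConnectedSpace B.left := GeometricallyConnected.connectedSpace_of_subsingleton B.hom
  have : IrreducibleSpace B.left :=
    Groth.Agent.Helper4.GrpConn.irreducibleSpace_of_connectedSpace B
  have : CompactSpace B.left := QuasiCompact.compactSpace_of_compactSpace B.hom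
  obtain ⟨n, hn⟩ := Groth.Agent.Helper12.IsogDim.exists_nat_dim B.hom
  have : QuasiCompact (f.left ≫ B.hom) := by rw [Over.w]; infer_instance
  have : QuasiCompact f.left := QuasiCompact.of_comp f.left B.hom
  have : LocallyOfFinitePresentation A.hom := inferInstance
  have := Groth.Agent.Helper16.HomFibCrit.lfp_left f
  have key := Groth.Agent.Helper12.IsogDim.lqf_iff_surjective f n (hdim.trans hn) hn
  have : IsReduced B.left := Groth.Agent.Helper16.GenGS.isReduced_of_smooth B.hom
  constructor
  · intro hflat
    have hs : Surjective f.left := by
      have h1 : IsOpen (Set.range f.left.base) := f.left.isOpenMap.isOpen_range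
      have h2 : IsClosed (Set.range f.left.base) :=
        Groth.Agent.Helper16.HomDim.isClosed_range_field k A B f
      have h3 : (Set.range f.left.base).Nonempty :=
        ⟨_, ⟨η[A].left (show PrimeSpectrum k from ⊥), rfl⟩⟩
      have h4 : Set.range f.left.base = Set.univ := IsClopen.eq_univ ⟨h2, h1⟩ h3
      exact ⟨Set.range_eq_univ.mp h4⟩
    have := key.mpr hs
    exact (Groth.Agent.Helper16.Isog.finite_surjective_field f).1
  · intro hfin
    have : LocallyQuasiFinite f.left := inferInstance
    have : Surjective f.left := key.mp inferInstance
    exact Groth.Agent.Helper16.Isog.flat_field f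

end Groth.Agent.S17255
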