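import Groth.Statements.S1726
import Groth.Agent.Lib.Helper20.CutoffFinB

set_option autoImplicit false
universe u
open LocCoh

namespace Groth.Agent.S1726


theorem result (A B : Type u) [CommRing A] [CommRing B] [Algebra A B] [IsNoetherianRing A] [IsNoetherianRing B] [Module.Finite A B] (hA : CAlg.IsUniversallyCatenary A) (I : Ideal A) (M : Type u) [AddCommGroup M] [Module B M] [Module A M] [IsScalarTower A B M] [Module.Finite B M] : Dual2.cutoff B (I.map (algebraMap A B)) M = Dual2.cutoff A I M := by
  exact Groth.Agent.Lib.Helper20.CutoffFinB.main A B hA I M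

end Groth.Agent.S1726
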