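import Mathlib
import Groth.Statements.S17265
import Groth.Agent.Lib.Helper19.EtDiag

set_option autoImplicit false
open CategoryTheory AlgebraicGeometry
universe u
open AlgSt

namespace Groth.Agent.S17265

/-- Let S be a scheme and let f : 𝒳 → 𝒴 and g : 𝒴 → 𝒵 be functors over (Sch/S) between categories fibred
in groupoids over (Sch/S). If the composite g ∘ f is representable by algebraic spaces and the
diagonal 𝒴 → 𝒴 ×_𝒵 𝒴 of g is representable by algebraic spaces, then f is representable by algebraic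
spaces. This is the case of the source's lemma in which the class of test objects is the class of
algebraic spaces over S (fppf sheaves on (Sch/S) with representable diagonal and an etale surjective
map from a scheme). -/
theorem result {S : Scheme.{u}} {𝒳 𝒴 𝒵 : AlgSt.Cat S}
    (h𝒳 : FibCat.IsFibGrpd 𝒳.p) (h𝒴 : FibCat.IsFibGrpd 𝒴.p) (h𝒵 : FibCat.IsFibGrpd 𝒵.p)
    (f : 𝒳 ⥤ᵇ 𝒴) (g : 𝒴 ⥤ᵇ 𝒵)
    (hgf : AlgSt.RepByAlgSp1 (BasedFunctor.comp f g))
    (hΔ : AlgSt.RepByAlgSp1 (FibCat.diag g)) :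
    AlgSt.RepByAlgSp1 f := by
  rw [Groth.Agent.Helper19.PshSt.repByAlgSp1_iff_top] at hgf hΔ ⊢
  exact Groth.Agent.Helper19.CancelLib.repByAlgSpWith_of_comp Groth.Agent.Helper19.CancelLib.stableAlg_top
    Groth.Agent.Helper19.CancelLib.compAlg_top Groth.Agent.Helper19.CancelLib.descAtlas_top h𝒳 h𝒴 h𝒵 f g hgf hΔ

end Groth.Agent.S17265
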