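import Groth.Statements.S1728
import Groth.Agent.Lib.Helper1.InjHullLib

set_option autoImplicit false
universe u
open InjHull

namespace Groth.Agent.S1728


/-- Let I be an injective R-module and E a submodule of I. Then E is an injective module if and only if
every submodule E' of I containing E, such that every nonzero submodule of E' meets E nontrivially,
is equal to E. -/
theorem result (R : Type u) [CommRing R] (I : Type u) [AddCommGroup I] [Module R I] [Module.Injective R I] (E : Submodule R I) : Module.Injective R E ↔ ∀ E' : Submodule R I, E ≤ E' → (∀ N : Submodule R I, N ≤ E' → N ≠ ⊥ → N ⊓ E ≠ ⊥) → E' = E := by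
  have hI : Module.Injective R I := inferInstance
  constructor
  · intro hE E' hle hess
    obtain ⟨β, hβ, hc⟩ := Groth.Agent.Helper1.exists_isCompl_range_of_injective hE E.subtype
      E.injective_subtype
    rw [Submodule.range_subtype] at hc
    apply le_antisymm _ hle
    intro x hx
    by_contra hxE
    have hβ' : ∀ e : E, β (e : I) = e := fun e => LinearMap.congr_fun hβ e
    let c : I := x - (β x : I)
    have hcE' : c ∈ E' := E'.sub_mem hx (hle (β x).2)
    have hcker : c ∈ LinearMap.ker β := by
      rw [LinearMap.mem_ker, map_sub, hβ', sub_self]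
    have hc0 : c ≠ 0 := by
      intro h0
      apply hxE
      have : x = (β x : I) := sub_eq_zero.1 h0
      rw [this]
      exact (β x).2
    have hN : Submodule.span R {c} ≠ ⊥ := by
      rw [Ne, Submodule.span_singleton_eq_bot]
      exact hc0
    have hNle : Submodule.span R {c} ≤ E' := by
      rw [Submodule.span_singleton_le_iff_mem]
      exact hcE'
    apply hess _ hNle hN
    rw [eq_bot_iff]
    rintro y ⟨hy1, hy2⟩
    have hyker : y ∈ LinearMap.ker β := by
      have : Submodule.span R {c} ≤ LinearMap.ker β := by
        rw [Submodule.span_singleton_le_iff_mem]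
        exact hcker
      exact this hy1
    exact (Submodule.disjoint_def.1 hc.disjoint) y hy2 hyker
  · intro h
    obtain ⟨E₁, E₂, hle, hess, hc⟩ := Groth.Agent.Helper1.exists_hull_in hI E
    have h1 : E₁ = E := by
      apply h E₁ hle
      intro N hN hN0
      obtain ⟨x, hx, hx0⟩ := (Submodule.ne_bot_iff _).1 hN0
      obtain ⟨r, hr, hr0⟩ := hess x (hN hx) hx0
      rw [Submodule.ne_bot_iff]
      exact ⟨r • x, ⟨N.smul_mem r hx, hr⟩, hr0⟩
    rw [← h1]
    exact Groth.Agent.Helper1.injective_of_isCompl hI hc

end Groth.Agent.S1728
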