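import Groth.Statements.S1729
import Mathlib.RingTheory.LocalRing.Module

set_option autoImplicit false
universe u
open Dual2

namespace Groth.Agent.S1729

open TensorProduct IsLocalRing Module in
/-- Over a local ring, every finite module M admits a projective cover: a surjection from a projective
module P onto M such that no proper submodule of P maps onto M. -/
theorem result (R : Type u) [CommRing R] [IsLocalRing R] (M : Type u) [AddCommGroup M] [Module R M] [Module.Finite R M] : ∃ (P : Type u) (_ : AddCommGroup P) (_ : Module R P) (f : P →ₗ[R] M), Dual2.IsProjectiveCover f := by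
  let k := ResidueField R
  let n := Module.finrank k (k ⊗[R] M)
  let b : Basis (Fin n) k (k ⊗[R] M) := Module.finBasis k (k ⊗[R] M)
  have hsurj : Function.Surjective (TensorProduct.mk R k M 1) :=
    TensorProduct.mk_surjective R M k Ideal.Quotient.mk_surjective
  choose m hm using fun i => hsurj (b i)
  have hspan : Submodule.span R (Set.range m) = ⊤ :=
    span_eq_top_of_tmul_eq_basis m b hm
  let e := Pi.basisFun R (Fin n)
  let f : (Fin n → R) →ₗ[R] M := e.constr R m
  have hf : ∀ i, f (e i) = m i := fun i => e.constr_basis R m i
  have hfs : Function.Surjective f := by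
    rw [← LinearMap.range_eq_top, Basis.constr_range, hspan]
  refine ⟨Fin n → R, inferInstance, inferInstance, f, ⟨inferInstance, hfs, ?_⟩⟩
  intro N hN
  rw [← map_tensorProduct_mk_eq_top]
  -- the base change of f is an isomorphism
  let E : k ⊗[R] (Fin n → R) ≃ₗ[k] k ⊗[R] M := (e.baseChange k).equiv b (Equiv.refl _)
  have hE : f.baseChange k = E.toLinearMap := by
    apply (e.baseChange k).ext
    intro i
    have h1 : (e.baseChange k) i = 1 ⊗ₜ e i := Basis.baseChange_apply k e i
    have h2 : E ((e.baseChange k) i) = b i := by
      simp only [E, Basis.equiv_apply, Equiv.refl_apply]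
    rw [LinearEquiv.coe_coe, h2, h1, LinearMap.baseChange_tmul, hf, ← hm i]
    rfl
  have hinj : Function.Injective (f.lTensor k) := by
    have : (f.lTensor k : k ⊗[R] (Fin n → R) → k ⊗[R] M) = E := by
      ext x
      have := LinearMap.congr_fun hE x
      rw [LinearEquiv.coe_coe] at this
      rw [← this]; rfl
    rw [this]; exact E.injective
  apply Submodule.map_injective_of_injective hinj
  rw [← Submodule.map_comp, Submodule.map_top, LinearMap.range_eq_top.mpr
    (LinearMap.lTensor_surjective k hfs)]
  have : (f.lTensor k) ∘ₗ (TensorProduct.mk R k (Fin n → R) 1) =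
      (TensorProduct.mk R k M 1) ∘ₗ f := by
    ext x; simp
  rw [this, Submodule.map_comp, hN, Submodule.map_top, LinearMap.range_eq_top.mpr hsurj]

end Groth.Agent.S1729
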