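import Groth.Statements.S17308
import Mathlib
import Groth.Agent.Lib.Helper2.KosBridge5
import Groth.Agent.S9729
import Groth.Agent.S8661
-- import your own Groth.Agent.* helpers here

set_option autoImplicit false
universe u
open CurvSt

namespace Groth.Agent.S17308

section

open CategoryTheory CategoryTheory.Limits AlgebraicGeometry
open AlgSp Groth.Agent.Helper2.KosBridge

/-- for a morphism of schemes over `S`, `h_g` is an lci morphism of sheaves iff `g` is lci -/
theorem isLCIMor_yon_map_iff {S : Scheme.{u}} {A B : Over S} (g : A ⟶ B) :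
    AlgSp.IsLCIMor ((AlgSp.yon S).map g) ↔ ∀ x : A.left, Synt.IsKoszulAt g.left x := by
  constructor
  · intro h
    exact AlgSp.locP_yon_map (P := AlgSp.lci) h
  · intro hg U V a b h ha hb comm
    obtain ⟨a₀, rfl⟩ := (yon S).map_surjective a
    obtain ⟨b₀, rfl⟩ := (yon S).map_surjective b
    haveI hae : Etale a₀.left := (repWith_yon_map_iff _ _).1 ha
    haveI hbe : Etale b₀.left := (repWith_yon_map_iff _ _).1 hb
    have hcomm : a₀ ≫ g = h ≫ b₀ := by
      apply (yon S).map_injective
      rw [Functor.map_comp, Functor.map_comp]
      exact comm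
    have hcomm' : a₀.left ≫ g.left = h.left ≫ b₀.left := by
      rw [← Over.comp_left, ← Over.comp_left, hcomm]
    have h1 : ∀ x, Synt.IsKoszulAt (a₀.left ≫ g.left) x :=
      Groth.Agent.S8661.main a₀.left g.left (fun x => isKoszulAt_of_smooth a₀.left x) hg
    rw [hcomm'] at h1
    show ∀ x, Synt.IsKoszulAt h.left x
    exact fun x => Groth.Agent.S9729.main h.left b₀.left h1 x

theorem main (S : Scheme.{u}) (k : Type u) [Field k] (t : Spec (CommRingCat.of k) ⟶ S)
    (X : Scheme.{u}) (p : X ⟶ Spec (CommRingCat.of k)) [IsProper p]
    (hdim : topologicalKrullDim ↥X ≤ 1) :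
    AlgSp.IsLCIMor ((AlgSp.yon S).map (Over.homMk p rfl : Over.mk (p ≫ t) ⟶ Over.mk t)) ↔
      ∀ x : ↥X, Synt.IsKoszulAt p x :=
  isLCIMor_yon_map_iff (Over.homMk p rfl : Over.mk (p ≫ t) ⟶ Over.mk t)

end

open CategoryTheory AlgebraicGeometry in
/-- Let X be a proper scheme of dimension at most 1 over a field k with structure morphism p, and Spec k
→ S a point of the base. The classifying object of X in the stack of curves over S lies in the local
complete intersection open substack — by definition: the morphism of sheaves h_X → h_{Spec k}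
induced by p is a Koszul morphism etale locally on every chart diagram — if and only if X is a local
complete intersection over k, i.e. p is Koszul at every point of X (near each point, locally of
finite type and a Koszul-regular immersion into a scheme smooth over k). -/
theorem result (S : Scheme.{u}) (k : Type u) [Field k] (t : Spec (CommRingCat.of k) ⟶ S)
    (X : Scheme.{u}) (p : X ⟶ Spec (CommRingCat.of k)) [IsProper p] (hdim : topologicalKrullDim ↥X ≤ 1) :
    AlgSp.IsLCIMor ((AlgSp.yon S).map (Over.homMk p rfl : Over.mk (p ≫ t) ⟶ Over.mk t)) ↔ ∀ x : ↥X, Synt.IsKoszulAt p x := by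
  exact Groth.Agent.S17308.main S k t X p hdim

end Groth.Agent.S17308
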