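import Groth.Statements.S17309
import Mathlib
import Groth.Agent.Lib.Helper4.CurvGF
-- import your own Groth.Agent.* helpers here

set_option autoImplicit false
universe u
open CurvSt

namespace Groth.Agent.S17309

section

open CategoryTheory CategoryTheory.Limits AlgebraicGeometry

/-- a scheme over a field `K` is reduced as soon as its base change to an algebraic closure is -/
theorem isReduced_of_algClosure {K : Type u} [Field K] {Z : Scheme.{u}}
    (snd : Z ⟶ Spec (CommRingCat.of K))
    (h : IsReduced (pullback snd
      (Spec.map (CommRingCat.ofHom (algebraMap K (AlgebraicClosure K)))))) : IsReduced Z := by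
  let j : Spec (CommRingCat.of (AlgebraicClosure K)) ⟶ Spec (CommRingCat.of K) :=
    Spec.map (CommRingCat.ofHom (algebraMap K (AlgebraicClosure K)))
  haveI : Surjective j := by
    refine ⟨fun x => ⟨IsLocalRing.closedPoint _, Subsingleton.elim _ _⟩⟩
  haveI : IsDominant j := inferInstance
  haveI : IsSchemeTheoreticallyDominant j := IsSchemeTheoreticallyDominant.of_isDominant j
  haveI : IsSchemeTheoreticallyDominant (pullback.fst snd j) := inferInstance
  haveI : IsReduced (pullback snd j) := h
  exact IsSchemeTheoreticallyDominant.isReduced (pullback.fst snd j)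

theorem main (S : Scheme.{u}) (k : Type u) [Field k] (t : Spec (CommRingCat.of k) ⟶ S)
    (X : Scheme.{u}) (p : X ⟶ Spec (CommRingCat.of k)) :
    CurvSt.GeomFib (fun _ _ _ X' _ _ => IsReduced X')
      ((CurvSt.toSpFam S 0).obj ⟨Over.mk t, X, p, Fin.elim0, fun i => i.elim0⟩) ↔
      GeometricallyReduced p := by
  refine (Groth.Agent.Helper4.CurvGF.geomFib_iff S k t X p (fun _ _ _ X' _ => IsReduced X')).trans ?_
  constructor
  · intro h
    refine ⟨fun K _ y Z fst snd hpb => ?_⟩
    apply isReduced_of_algClosure snd
    exact h (AlgebraicClosure K) (Spec.map (CommRingCat.ofHom (algebraMap K (AlgebraicClosure K))) ≫ y)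
      _ (pullback.snd _ _) (pullback.fst _ _ ≫ fst)
      ((IsPullback.of_hasPullback snd _).paste_horiz hpb)
  · intro h Ω _ _ t' X' q i hpb
    exact h.geometrically_isReduced t' i q hpb

end

open CategoryTheory AlgebraicGeometry in
/-- Let X be a proper scheme of dimension at most 1 over a field k with structure morphism p, and Spec k
→ S a point of the base. The classifying object of X in the stack of curves over S lies in the open
substack of curves with geometrically reduced fibres — by definition: every geometric fibre of the
family h_X → h_{Spec k}, realised as a scheme over an algebraically closed field through a cartesian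
square of sheaves, is reduced — if and only if X is geometrically reduced over k. -/
theorem result (S : Scheme.{u}) (k : Type u) [Field k] (t : Spec (CommRingCat.of k) ⟶ S)
    (X : Scheme.{u}) (p : X ⟶ Spec (CommRingCat.of k)) [IsProper p] (hdim : topologicalKrullDim ↥X ≤ 1) :
    CurvSt.GeomFib (fun _ _ _ X' _ _ => IsReduced X') ((CurvSt.toSpFam S 0).obj ⟨Over.mk t, X, p, Fin.elim0, fun i => i.elim0⟩) ↔ GeometricallyReduced p := by
  exact main S k t X p

end Groth.Agent.S17309
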