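import Groth.Statements.S9777
import Mathlib
import Groth.Agent.Lib.Helper14.UOpenFam
-- import your own Groth.Agent.* helpers here

set_option autoImplicit false
universe u
open FlatMor

namespace Groth.Agent.S9777

open AlgebraicGeometry CategoryTheory Limits in
/-- For a finite-type morphism f : X ⟶ Y and its pullback f' : X' ⟶ Y' along any g : Y' ⟶ Y, the Krull
dimension of the fibre of f' over a point y' equals that of the fibre of f over g y'; fibre
dimension commutes with base change. -/
theorem result {X Y X' Y' : Scheme.{u}} (f : X ⟶ Y) [QuasiCompact f] [LocallyOfFiniteType f]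
    (g : Y' ⟶ Y) (f' : X' ⟶ Y') (g' : X' ⟶ X) (hc : IsPullback g' f' f g) (y' : Y') :
    topologicalKrullDim ↑(f'.fiber y') = topologicalKrullDim ↑(f.fiber (g y')) := by
  have h := Groth.Agent.Helper14.UOpenFam.dim_bc hc (Set.univ : Set X) y'
  have e1 : (f' ⁻¹' {y'} ∩ closure (g' ⁻¹' (Set.univ : Set X) ∩ f' ⁻¹' {y'}) : Set X') =
      f' ⁻¹' {y'} := by
    rw [Set.preimage_univ, Set.univ_inter]
    exact Set.inter_eq_left.mpr subset_closure
  have e2 : (f ⁻¹' {g y'} ∩ closure ((Set.univ : Set X) ∩ f ⁻¹' {g y'}) : Set X) =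
      f ⁻¹' {g y'} := by
    rw [Set.univ_inter]
    exact Set.inter_eq_left.mpr subset_closure
  rw [e1, e2] at h
  rw [IsHomeomorph.topologicalKrullDim_eq _ (f'.fiberHomeo y').isHomeomorph,
    IsHomeomorph.topologicalKrullDim_eq _ (f.fiberHomeo (g y')).isHomeomorph]
  exact h

end Groth.Agent.S9777
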