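import Groth.Statements.S17310
import Mathlib
import Groth.Agent.Lib.Helper4.CurvGF
import Groth.Agent.S17309
import Groth.Agent.S9777
-- import your own Groth.Agent.* helpers here

set_option autoImplicit false
universe u
open CurvSt

namespace Groth.Agent.S17310

section

open CategoryTheory CategoryTheory.Limits AlgebraicGeometry

theorem dim_fiber_of_subsingleton {X Y : Scheme.{u}} (f : X ⟶ Y) [Subsingleton Y] (y : Y) :
    topologicalKrullDim (f.fiber y) = topologicalKrullDim X := by
  have h2 : f ⁻¹' {y} = Set.univ := by
    ext x
    simp [Subsingleton.elim (f x) y]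
  rw [IsHomeomorph.topologicalKrullDim_eq _ (f.fiberHomeo y).isHomeomorph,
    IsHomeomorph.topologicalKrullDim_eq _ (Homeomorph.setCongr h2).isHomeomorph,
    IsHomeomorph.topologicalKrullDim_eq _ (Homeomorph.Set.univ X).isHomeomorph]

/-- dimension is invariant under base field extension -/
theorem dim_eq_of_isPullback {k Ω : Type u} [Field k] [Field Ω] {X X' : Scheme.{u}}
    (p : X ⟶ Spec (CommRingCat.of k)) [QuasiCompact p] [LocallyOfFiniteType p]
    (t' : Spec (CommRingCat.of Ω) ⟶ Spec (CommRingCat.of k))
    (q : X' ⟶ Spec (CommRingCat.of Ω)) (i : X' ⟶ X) (hpb : IsPullback i q p t') :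
    topologicalKrullDim X' = topologicalKrullDim X := by
  have h := Groth.Agent.S9777.result p t' q i hpb (IsLocalRing.closedPoint Ω)
  rw [dim_fiber_of_subsingleton, dim_fiber_of_subsingleton] at h
  exact h

/-- a scheme over a field `K` is connected as soon as its base change to an algebraic closure is -/
theorem connectedSpace_of_algClosure {K : Type u} [Field K] {Z : Scheme.{u}}
    (snd : Z ⟶ Spec (CommRingCat.of K))
    (h : ConnectedSpace (pullback snd
      (Spec.map (CommRingCat.ofHom (algebraMap K (AlgebraicClosure K))))).carrier) :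
    ConnectedSpace Z := by
  let j : Spec (CommRingCat.of (AlgebraicClosure K)) ⟶ Spec (CommRingCat.of K) :=
    Spec.map (CommRingCat.ofHom (algebraMap K (AlgebraicClosure K)))
  haveI : Surjective j := by
    refine ⟨fun x => ⟨IsLocalRing.closedPoint _, Subsingleton.elim _ _⟩⟩
  haveI : Surjective (pullback.fst snd j) := inferInstance
  exact (pullback.fst snd j).surjective.connectedSpace (pullback.fst snd j).continuous

theorem main (S : Scheme.{u}) (k : Type u) [Field k] (t : Spec (CommRingCat.of k) ⟶ S)
    (X : Scheme.{u}) (p : X ⟶ Spec (CommRingCat.of k)) [IsProper p] :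
    CurvSt.GeomFib (fun _ _ _ X' _ _ => IsReduced X' ∧ ConnectedSpace ↥X' ∧
        topologicalKrullDim ↥X' = 1)
      ((CurvSt.toSpFam S 0).obj ⟨Over.mk t, X, p, Fin.elim0, fun i => i.elim0⟩) ↔
      GeometricallyReduced p ∧ GeometricallyConnected p ∧ topologicalKrullDim ↥X = 1 := by
  refine (Groth.Agent.Helper4.CurvGF.geomFib_iff S k t X p
    (fun _ _ _ X' _ => IsReduced X' ∧ ConnectedSpace ↥X' ∧ topologicalKrullDim ↥X' = 1)).trans ?_
  constructor
  · intro h
    refine ⟨⟨fun K _ y Z fst snd hpb => ?_⟩, ⟨fun K _ y Z fst snd hpb => ?_⟩, ?_⟩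
    · apply Groth.Agent.S17309.isReduced_of_algClosure snd
      exact (h (AlgebraicClosure K)
        (Spec.map (CommRingCat.ofHom (algebraMap K (AlgebraicClosure K))) ≫ y)
        _ (pullback.snd _ _) (pullback.fst _ _ ≫ fst)
        ((IsPullback.of_hasPullback snd _).paste_horiz hpb)).1
    · apply connectedSpace_of_algClosure snd
      exact (h (AlgebraicClosure K)
        (Spec.map (CommRingCat.ofHom (algebraMap K (AlgebraicClosure K))) ≫ y)
        _ (pullback.snd _ _) (pullback.fst _ _ ≫ fst)
        ((IsPullback.of_hasPullback snd _).paste_horiz hpb)).2.1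
    · let t' : Spec (CommRingCat.of (AlgebraicClosure k)) ⟶ Spec (CommRingCat.of k) :=
        Spec.map (CommRingCat.ofHom (algebraMap k (AlgebraicClosure k)))
      have h1 := (h (AlgebraicClosure k) t' _ (pullback.snd p t') (pullback.fst p t')
        (IsPullback.of_hasPullback p t')).2.2
      rw [← dim_eq_of_isPullback p t' (pullback.snd p t') (pullback.fst p t')
        (IsPullback.of_hasPullback p t')]
      exact h1
  · rintro ⟨h1, h2, h3⟩ Ω _ _ t' X' q i hpb
    refine ⟨h1.geometrically_isReduced t' i q hpb, h2.geometrically_connectedSpace t' i q hpb, ?_⟩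
    rw [dim_eq_of_isPullback p t' q i hpb]
    exact h3

end

open CategoryTheory AlgebraicGeometry in
/-- Let X be a proper scheme of dimension at most 1 over a field k with structure morphism p, and Spec k
→ S a point of the base. The classifying object of X in the stack of curves over S lies in the open
substack of curves with geometrically reduced, connected fibres of dimension 1 — by definition:
every geometric fibre of h_X → h_{Spec k}, realised as a scheme over an algebraically closed field
through a cartesian square of sheaves, is reduced, connected and of Krull dimension 1 — if and only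
if X is geometrically reduced and geometrically connected over k and has Krull dimension 1. -/
theorem result (S : Scheme.{u}) (k : Type u) [Field k] (t : Spec (CommRingCat.of k) ⟶ S)
    (X : Scheme.{u}) (p : X ⟶ Spec (CommRingCat.of k)) [IsProper p] (hdim : topologicalKrullDim ↥X ≤ 1) :
    CurvSt.GeomFib (fun _ _ _ X' _ _ => IsReduced X' ∧ ConnectedSpace ↥X' ∧ topologicalKrullDim ↥X' = 1) ((CurvSt.toSpFam S 0).obj ⟨Over.mk t, X, p, Fin.elim0, fun i => i.elim0⟩) ↔
      GeometricallyReduced p ∧ GeometricallyConnected p ∧ topologicalKrullDim ↥X = 1 := by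
  exact main S k t X p

end Groth.Agent.S17310
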