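import Groth.Statements.S17311
import Mathlib
import Groth.Agent.Lib.Helper4.CurvGF
import Groth.Agent.Lib.Helper16.Sch.SmoothLocusBC3
-- import your own Groth.Agent.* helpers here

set_option autoImplicit false
universe u
open CurvSt

namespace Groth.Agent.S17311

section

open CategoryTheory CategoryTheory.Limits AlgebraicGeometry
open Groth.Agent.Helper16.SmoothLocusBC

/-- the set of points near which `p` is not smooth -/
abbrev NS {X T : Scheme.{u}} (p : X ⟶ T) : Set X :=
  {x | ¬ ∃ U : X.Opens, x ∈ U ∧ Smooth (U.ι ≫ p)}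

theorem not_mem_NS_of_isPullback {X T X' T' : Scheme.{u}} {p : X ⟶ T} {t' : T' ⟶ T}
    {q : X' ⟶ T'} {i : X' ⟶ X} (hpb : IsPullback i q p t') (x' : X') (h : i x' ∉ NS p) :
    x' ∉ NS q := by
  simp only [NS, Set.mem_setOf_eq, not_not] at h ⊢
  obtain ⟨U, hxU, hU⟩ := h
  refine ⟨i ⁻¹ᵁ U, hxU, ?_⟩
  have sq := ((isPullback_morphismRestrict i U).flip.paste_horiz hpb.flip).flip
  exact MorphismProperty.of_isPullback (P := @Smooth) sq hU

theorem mem_NS_iff_of_isPullback {k Ω : Type u} [Field k] [Field Ω] {X X' : Scheme.{u}}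
    (p : X ⟶ Spec (CommRingCat.of k)) [LocallyOfFiniteType p]
    (t' : Spec (CommRingCat.of Ω) ⟶ Spec (CommRingCat.of k))
    (q : X' ⟶ Spec (CommRingCat.of Ω)) (i : X' ⟶ X) (hpb : IsPullback i q p t') (x' : X') :
    x' ∈ NS q ↔ i x' ∈ NS p := by
  constructor
  · intro h1
    by_contra h2
    exact not_mem_NS_of_isPullback hpb x' h2 h1
  · intro h1
    by_contra h2
    apply h1
    simp only [NS, Set.mem_setOf_eq, not_not] at h2 ⊢
    haveI : LocallyOfFinitePresentation p := inferInstance
    haveI : LocallyOfFinitePresentation q := MorphismProperty.of_isPullback hpb ‹_›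
    rw [exists_smooth_nhd_iff] at h2 ⊢
    exact mem_smoothLocus_of_isPullback_of_flat_stalk hpb x' h2 (Flat.stalkMap t' _)

theorem isClosed_NS {X T : Scheme.{u}} (p : X ⟶ T) [LocallyOfFinitePresentation p] :
    IsClosed (NS p) := by
  have : NS p = (p.smoothLocus : Set X)ᶜ := by
    ext x
    simp only [NS, Set.mem_setOf_eq, Set.mem_compl_iff, SetLike.mem_coe]
    rw [exists_smooth_nhd_iff]
  rw [this]
  exact p.smoothLocus.isOpen.isClosed_compl

theorem finite_NS_of_isPullback {k Ω : Type u} [Field k] [Field Ω] {X X' : Scheme.{u}}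
    (p : X ⟶ Spec (CommRingCat.of k)) [LocallyOfFiniteType p] [QuasiCompact p]
    (t' : Spec (CommRingCat.of Ω) ⟶ Spec (CommRingCat.of k))
    (q : X' ⟶ Spec (CommRingCat.of Ω)) (i : X' ⟶ X) (hpb : IsPullback i q p t')
    (hfin : (NS p).Finite) : (NS q).Finite := by
  haveI : LocallyOfFinitePresentation p := inferInstance
  let I := Scheme.IdealSheafData.vanishingIdeal ⟨NS p, isClosed_NS p⟩
  let ι : I.subscheme ⟶ X := I.subschemeι
  have hr : Set.range ι = NS p := by
    rw [Scheme.IdealSheafData.range_subschemeι, Scheme.IdealSheafData.coe_support_vanishingIdeal]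
    rfl
  haveI : Finite (Set.range ι) := by rw [hr]; exact hfin
  haveI : Finite I.subscheme := Finite.of_injective_finite_range ι.isEmbedding.injective
  haveI : LocallyQuasiFinite (ι ≫ p) :=
    LocallyQuasiFinite.of_finite_preimage_singleton (ι ≫ p) (fun x => Set.toFinite _)
  let g : pullback ι i ⟶ Spec (CommRingCat.of Ω) := pullback.snd ι i ≫ q
  have sq : IsPullback (pullback.fst ι i) g (ι ≫ p) t' :=
    ((IsPullback.of_hasPullback ι i).flip.paste_horiz hpb.flip).flip
  haveI : LocallyQuasiFinite g := MorphismProperty.of_isPullback sq ‹_›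
  haveI : QuasiCompact g := MorphismProperty.of_isPullback sq (inferInstance : QuasiCompact (ι ≫ p))
  have hf := g.finite_preimage_singleton (IsLocalRing.closedPoint Ω)
  refine (hf.image (pullback.snd ι i)).subset ?_
  intro x' hx'
  have h1 : i x' ∈ Set.range ι := by
    rw [hr]
    exact (mem_NS_iff_of_isPullback p t' q i hpb x').1 hx'
  obtain ⟨z, hz⟩ := h1
  obtain ⟨z', -, hz'⟩ := Scheme.Pullback.exists_preimage_pullback (f := ι) (g := i) z x' hz
  exact ⟨z', Subsingleton.elim _ _, hz'⟩

theorem main (S : Scheme.{u}) (k : Type u) [Field k] (t : Spec (CommRingCat.of k) ⟶ S)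
    (X : Scheme.{u}) (p : X ⟶ Spec (CommRingCat.of k)) [IsProper p] :
    CurvSt.GeomFib (fun _ _ _ X' q _ =>
        Set.Finite {x : ↥X' | ¬ ∃ U : X'.Opens, x ∈ U ∧ Smooth (U.ι ≫ q)})
      ((CurvSt.toSpFam S 0).obj ⟨Over.mk t, X, p, Fin.elim0, fun i => i.elim0⟩) ↔
      Set.Finite {x : ↥X | ¬ ∃ U : X.Opens, x ∈ U ∧ Smooth (U.ι ≫ p)} := by
  refine (Groth.Agent.Helper4.CurvGF.geomFib_iff S k t X p
    (fun _ _ _ X' q => Set.Finite {x : ↥X' | ¬ ∃ U : X'.Opens, x ∈ U ∧ Smooth (U.ι ≫ q)})).trans ?_
  constructor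
  · intro h
    let t' : Spec (CommRingCat.of (AlgebraicClosure k)) ⟶ Spec (CommRingCat.of k) :=
      Spec.map (CommRingCat.ofHom (algebraMap k (AlgebraicClosure k)))
    haveI : Surjective t' := by
      refine ⟨fun x => ⟨IsLocalRing.closedPoint _, Subsingleton.elim _ _⟩⟩
    haveI : Surjective (pullback.fst p t') := inferInstance
    have h1 : (NS (pullback.snd p t')).Finite :=
      h (AlgebraicClosure k) t' _ (pullback.snd p t') (pullback.fst p t')
        (IsPullback.of_hasPullback p t')
    refine (h1.image (pullback.fst p t')).subset ?_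
    intro x hx
    obtain ⟨x', rfl⟩ := (pullback.fst p t').surjective x
    exact ⟨x', (mem_NS_iff_of_isPullback p t' _ _ (IsPullback.of_hasPullback p t') x').2 hx, rfl⟩
  · intro h Ω _ _ t' X' q i hpb
    exact finite_NS_of_isPullback p t' q i hpb h

end

open CategoryTheory AlgebraicGeometry in
/-- Let X be a proper scheme of dimension at most 1 over a field k with structure morphism p, and Spec k
→ S a point of the base. The classifying object of X in the stack of curves over S lies in the open
substack of curves with isolated singularities — by definition: every geometric fibre of h_X →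
h_{Spec k}, realised as a scheme over an algebraically closed field Ω through a cartesian square of
sheaves, is smooth over Ω outside a finite set of points — if and only if p : X → Spec k is smooth
outside a finite set of points of X. -/
theorem result (S : Scheme.{u}) (k : Type u) [Field k] (t : Spec (CommRingCat.of k) ⟶ S)
    (X : Scheme.{u}) (p : X ⟶ Spec (CommRingCat.of k)) [IsProper p] (hdim : topologicalKrullDim ↥X ≤ 1) :
    CurvSt.GeomFib (fun _ _ _ X' q _ => Set.Finite {x : ↥X' | ¬ ∃ U : X'.Opens, x ∈ U ∧ Smooth (U.ι ≫ q)}) ((CurvSt.toSpFam S 0).obj ⟨Over.mk t, X, p, Fin.elim0, fun i => i.elim0⟩) ↔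
      Set.Finite {x : ↥X | ¬ ∃ U : X.Opens, x ∈ U ∧ Smooth (U.ι ≫ p)} := by
  exact main S k t X p

end Groth.Agent.S17311
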