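import Groth.Statements.S1732
import Groth.Agent.Lib.Helper20.FsA
import Groth.Agent.Lib.Helper20.FsB

set_option autoImplicit false
universe u
open LocCoh

namespace Groth.Agent.S1732


theorem result (k : Type u) [Field k] [CharZero k] (d : ℕ) (hd : 1 ≤ d) (E : Type u) [AddCommGroup E] [Module (MvPowerSeries (Fin d) k) E] (e : IsLocalRing.ResidueField (MvPowerSeries (Fin d) k) →ₗ[MvPowerSeries (Fin d) k] E) (he : InjHull.IsInjectiveHull e) (θ : Fin d → Derivation k (MvPowerSeries (Fin d) k) (MvPowerSeries (Fin d) k)) (hθ : ∀ i j : Fin d, θ i (MvPowerSeries.X j) = if i = j then 1 else 0) (M : Type u) [AddCommGroup M] [Module (MvPowerSeries (Fin d) k) M] (hM : LocCoh.IsPowerTorsion (IsLocalRing.maximalIdeal (MvPowerSeries (Fin d) k)) M) (D : Fin d → M →+ M) (hD : ∀ (i : Fin d) (f : MvPowerSeries (Fin d) k) (z : M), D i (f • z) = θ i f • z + f • D i z) : ∃ J : Type u, Nonempty (M ≃ₗ[MvPowerSeries (Fin d) k] (J →₀ E)) := by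
  obtain ⟨ι, j, hj, hsoc⟩ := Groth.Agent.Helper20.Fs.exists_embedding_finsupp e he M hM
  have htors : LocCoh.IsPowerTorsion (IsLocalRing.maximalIdeal (MvPowerSeries (Fin d) k))
      (ι →₀ E) :=
    Groth.Agent.Helper20.Fs.isPowerTorsion_finsupp _
      (Groth.Agent.Helper8.Matlis.isPowerTorsion he.toIsEssentialInj) ι
  have hsurj := Groth.Agent.Helper20.Fs.surjective_of_derivations htors θ hθ D hD j hj hsoc
  exact ⟨ι, ⟨LinearEquiv.ofBijective j ⟨hj, hsurj⟩⟩⟩

end Groth.Agent.S1732
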