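import Groth.Statements.S1733
-- import your own Groth.Agent.* helpers here

set_option autoImplicit false
universe u
open LocCoh

namespace Groth.Agent.S1733

/-- Let f_1, …, f_r and g be elements of a ring (r ≥ 1). If the family f_1, …, f_{r-1}, f_r g is
independent (every linear relation has coefficients in the ideal the family generates), then f_1, …,
f_r is independent. -/
theorem result (A : Type u) [CommRing A] (r : ℕ) (f : Fin (r + 1) → A) (g : A) (h : Dual2.Independent (Function.update f (Fin.last r) (f (Fin.last r) * g))) : Dual2.Independent f := by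
  set l := Fin.last r with hl
  set f' := Function.update f l (f l * g) with hf'
  have hf'l : f' l = f l * g := by simp [hf']
  have hf'c : ∀ i : Fin r, f' i.castSucc = f i.castSucc := by
    intro i
    rw [hf', Function.update_of_ne (Fin.castSucc_lt_last i).ne]
  have hne : ∀ i : Fin r, i.castSucc ≠ l := fun i => (Fin.castSucc_lt_last i).ne
  -- J' ≤ J
  have hJ : Ideal.span (Set.range f') ≤ Ideal.span (Set.range f) := by
    rw [Ideal.span_le]
    rintro _ ⟨i, rfl⟩
    by_cases hi : i = l
    · subst hi
      rw [hf'l]
      exact Ideal.mul_mem_right _ _ (Ideal.subset_span ⟨_, rfl⟩)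
    · rw [hf', Function.update_of_ne hi]
      exact Ideal.subset_span ⟨_, rfl⟩
  intro a ha
  rw [Fin.sum_univ_castSucc] at ha
  -- Step 1: a l ∈ J'
  have h1 : a l ∈ Ideal.span (Set.range f') := by
    have := h (fun i => if i = l then a l else a i * g) ?_ l
    · simpa using this
    · rw [Fin.sum_univ_castSucc]
      simp only [hf'c, ← hl, hf'l, hne, ↓reduceIte]
      have : ∑ i : Fin r, a i.castSucc * g * f i.castSucc + a l * (f l * g) =
          g * (∑ i : Fin r, a i.castSucc * f i.castSucc + a l * f l) := by
        rw [mul_add, Finset.mul_sum]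
        congr 1
        · apply Finset.sum_congr rfl; intros; ring
        · ring
      rw [this, ha, mul_zero]
  obtain ⟨b, hb⟩ := Ideal.mem_span_range_iff_exists_fun.mp h1
  rw [Fin.sum_univ_castSucc] at hb
  simp only [hf'c, ← hl, hf'l] at hb
  -- Step 2
  have h2 := h (fun i => if i = l then b l * f l else a i + b i * f l) ?_
  · intro i
    by_cases hi : i = l
    · rw [hi]; exact hJ h1
    · have h3 := hJ (h2 i)
      simp only [hi, if_false] at h3
      have : a i = (a i + b i * f l) - b i * f l := by ring
      rw [this]
      exact Ideal.sub_mem _ h3 (Ideal.mul_mem_left _ _ (Ideal.subset_span ⟨_, rfl⟩))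
  · rw [Fin.sum_univ_castSucc]
    simp only [hf'c, ← hl, hf'l, hne, ↓reduceIte]
    have : ∑ i : Fin r, (a i.castSucc + b i.castSucc * f l) * f i.castSucc + b l * f l * (f l * g) =
        (∑ i : Fin r, a i.castSucc * f i.castSucc) +
          (∑ i : Fin r, b i.castSucc * f i.castSucc + b l * (f l * g)) * f l := by
      rw [add_mul, Finset.sum_mul, ← add_assoc, ← Finset.sum_add_distrib]
      congr 1
      · apply Finset.sum_congr rfl; intros; ring
      · ring
    rw [this, hb]
    exact ha

end Groth.Agent.S1733
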