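import Groth.Statements.S17330
import Groth.Agent.Lib.Helper6.MuAlpha3
import Groth.Agent.Lib.Helper26.HopfRed
import Groth.Agent.Lib.Helper26.HtOne4
import Groth.Agent.Lib.Helper26.PLie2

set_option autoImplicit false
universe u v
open Hopf

namespace Groth.Agent.S17330

/-- Let k be an algebraically closed field of characteristic p > 0 and A a commutative Hopf algebra over
k, finite-dimensional as a k-vector space and not reduced (a non-reduced finite group scheme G =
Spec A). Then G contains a subgroup scheme isomorphic to μ_p or to α_p: there is a surjective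
bialgebra homomorphism from A onto the group algebra of the cyclic group of order p (the Hopf
algebra of μ_p, group elements group-like) or onto k[X]/(X^p) with X primitive (the Hopf algebra of
α_p). -/
theorem result (k : Type u) [Field k] [IsAlgClosed k]
    (p : ℕ) [Fact p.Prime] [CharP k p] (A : Type v) [CommRing A] [HopfAlgebra k A] [Module.Finite k A]
    (hA : ¬ IsReduced A) :
    (∃ f : A →ₐc[k] MonoidAlgebra k (Multiplicative (ZMod p)), Function.Surjective f) ∨
      (∃ f : A →ₐc[k] AlphaP.A p k, Function.Surjective f) := by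
  classical
  have hNoeth : IsNoetherianRing A := IsNoetherianRing.of_finite k A
  set ε := Bialgebra.counitAlgHom k A with hε
  have hI : ¬ IsIdempotentElem (RingHom.ker ε) := fun hI =>
    hA (Groth.Agent.Helper26.HopfRed.isReduced_of_maximal_idem
      (Groth.Agent.Helper26.HopfRed.maximal_idem k A hI))
  have hy : ∃ y : RingHom.ker ε, (RingHom.ker ε).toCotangent y ≠ 0 := by
    by_contra hcon
    push Not at hcon
    apply hI
    unfold IsIdempotentElem
    refine le_antisymm Ideal.mul_le_right ?_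
    intro y hy
    have h1 := hcon ⟨y, hy⟩
    rw [Ideal.toCotangent_eq_zero, pow_two] at h1
    exact h1
  obtain ⟨y, hy⟩ := hy
  obtain ⟨l, hl⟩ : ∃ l : (RingHom.ker ε).Cotangent →ₗ[k] k,
      l ((RingHom.ker ε).toCotangent y) ≠ 0 := by
    by_contra hcon
    push Not at hcon
    exact hy ((Module.forall_dual_apply_eq_zero_iff k _).mp hcon)
  set δ₀ : WithConv (A →ₗ[k] k) :=
    WithConv.toConv (Groth.Agent.Helper26.HtOne4.pointDer ε l) with hδ₀
  have hδ₀prim : Groth.Agent.Helper6.MuAlpha.IsPrim δ₀ := by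
    intro a b
    show Groth.Agent.Helper26.HtOne4.pointDer ε l (a * b) =
      Groth.Agent.Helper26.HtOne4.pointDer ε l a * ε b +
        ε a * Groth.Agent.Helper26.HtOne4.pointDer ε l b
    rw [Groth.Agent.Helper26.HtOne4.pointDer_mul, add_comm]
  have hδ₀ne : δ₀ ≠ 0 := by
    intro h0
    apply hl
    rw [← Groth.Agent.Helper26.HtOne4.pointDer_of_mem ε l y]
    exact congrArg (fun f : WithConv (A →ₗ[k] k) => f.ofConv (y : A)) h0
  have hinj : Function.Injective (Algebra.lmul k (WithConv (A →ₗ[k] k))) :=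
    Algebra.lmul_injective
  let g : Submodule k (Module.End k (WithConv (A →ₗ[k] k))) :=
    (Groth.Agent.Helper6.MuAlpha.primSub (k := k) (A := A)).map
      (Algebra.lmul k (WithConv (A →ₗ[k] k))).toLinearMap
  have hg : ∀ u ∈ g, u ^ p ∈ g := by
    rintro _ ⟨δ, hδ, rfl⟩
    refine ⟨δ ^ p, Groth.Agent.Helper6.MuAlpha.IsPrim.pow_char hδ p, ?_⟩
    simp only [AlgHom.toLinearMap_apply, map_pow]
  have hgne : g ≠ ⊥ := by
    intro hbot
    have hmem : (Algebra.lmul k (WithConv (A →ₗ[k] k))) δ₀ ∈ g := ⟨δ₀, hδ₀prim, rfl⟩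
    rw [hbot, Submodule.mem_bot] at hmem
    exact hδ₀ne (hinj (hmem.trans (map_zero _).symm))
  obtain ⟨u, hu, hune, c, huc⟩ := Groth.Agent.Helper26.PLie.main k p _ g hg hgne
  obtain ⟨δ, hδ, rfl⟩ := hu
  have hδprim : Groth.Agent.Helper6.MuAlpha.IsPrim δ := hδ
  have hδne : δ ≠ 0 := by
    rintro rfl
    exact hune (map_zero _)
  have hδc : δ ^ p = c • δ := by
    apply hinj
    rw [map_pow, map_smul]
    exact huc
  by_cases hc : c = 0
  · right
    have hδp : δ ^ p = 0 := by rw [hδc, hc, zero_smul]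
    exact ⟨Groth.Agent.Helper6.MuAlpha.toAlpha p δ hδprim hδp,
      Groth.Agent.Helper6.MuAlpha.toAlpha_surjective p δ hδprim hδp hδne⟩
  · left
    have hp1 : 0 < p - 1 := by
      have := (Fact.out : p.Prime).two_le
      omega
    obtain ⟨t, ht⟩ := IsAlgClosed.exists_pow_nat_eq c⁻¹ hp1
    have ht0 : t ≠ 0 := by
      rintro rfl
      rw [zero_pow hp1.ne'] at ht
      exact inv_ne_zero hc ht.symm
    have hδ' : Groth.Agent.Helper6.MuAlpha.IsPrim (t • δ) :=
      (Groth.Agent.Helper6.MuAlpha.primSub (k := k) (A := A)).smul_mem t hδ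
    have hδ'p : (t • δ) ^ p = t • δ := by
      rw [smul_pow, hδc, smul_smul]
      congr 1
      have h2 : t ^ p = t ^ (p - 1) * t := by
        rw [← pow_succ, Nat.sub_add_cancel (Fact.out : p.Prime).pos]
      rw [h2, ht]
      field_simp
    have hδ'ne : t • δ ≠ 0 := smul_ne_zero ht0 hδne
    exact ⟨Groth.Agent.Helper6.MuAlpha.toMu p (t • δ) hδ' hδ'p,
      Groth.Agent.Helper6.MuAlpha.toMu_surjective p (t • δ) hδ' hδ'p hδ'ne⟩

end Groth.Agent.S17330
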