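import Groth.Statements.S17331
import Groth.Agent.S17330
import Groth.Agent.Lib.Helper6.MuAlpha4

set_option autoImplicit false
universe u v
open Hopf

namespace Groth.Agent.S17331

/-- Let k be an algebraically closed field of characteristic p > 0, ℓ a prime, and A a commutative Hopf
algebra over k of dimension ℓ as a k-vector space (a finite group scheme G of prime order ℓ). If ℓ ≠
p then G ≅ ℤ/ℓ: A is isomorphic as a bialgebra to the algebra of k-valued functions on the cyclic
group of order ℓ. If ℓ = p then G is isomorphic to ℤ/p, μ_p or α_p: A is isomorphic as a bialgebra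
to the algebra of functions on the cyclic group of order p, to its group algebra (group elements
group-like), or to k[X]/(X^p) with X primitive. -/
theorem result (k : Type u) [Field k] [IsAlgClosed k]
    (p : ℕ) [Fact p.Prime] [CharP k p] (A : Type v) [CommRing A] [HopfAlgebra k A]
    (ℓ : ℕ) [Fact ℓ.Prime] (hA : Module.finrank k A = ℓ) :
    (ℓ ≠ p → Nonempty (A ≃ₐc[k] ConstGrp.F k (Multiplicative (ZMod ℓ)))) ∧
      (ℓ = p → Nonempty (A ≃ₐc[k] ConstGrp.F k (Multiplicative (ZMod p))) ∨
        Nonempty (A ≃ₐc[k] MonoidAlgebra k (Multiplicative (ZMod p))) ∨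
        Nonempty (A ≃ₐc[k] AlphaP.A p k)) := by
  classical
  have hℓ : ℓ.Prime := Fact.out
  have hp : p.Prime := Fact.out
  have hfin : Module.Finite k A := Module.finite_of_finrank_pos (by rw [hA]; exact hℓ.pos)
  have hrankMu : Module.finrank k (MonoidAlgebra k (Multiplicative (ZMod p))) = p := by
    rw [Module.finrank_eq_card_basis (MonoidAlgebra.basis (Multiplicative (ZMod p)) k),
      Fintype.card_multiplicative, ZMod.card]
  have hrankAl : Module.finrank k (AlphaP.A p k) = p := AlphaP.finrank_eq p k
  have key : ¬ IsReduced A → ℓ = p ∧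
      (Nonempty (A ≃ₐc[k] MonoidAlgebra k (Multiplicative (ZMod p))) ∨
        Nonempty (A ≃ₐc[k] AlphaP.A p k)) := by
    intro hnr
    rcases Groth.Agent.S17330.result k p A hnr with ⟨f, hf⟩ | ⟨f, hf⟩
    · have hd := Groth.Agent.Helper6.MuAlpha.finrank_dvd_of_surjective f hf
      rw [hA, hrankMu] at hd
      have hpl : p = ℓ := (Nat.prime_dvd_prime_iff_eq hp hℓ).mp hd
      have hinj : Function.Injective f :=
        (LinearMap.injective_iff_surjective_of_finrank_eq_finrank
          (f := (f : A →ₗ[k] MonoidAlgebra k (Multiplicative (ZMod p))))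
          (by rw [hA, hrankMu, hpl])).mpr hf
      exact ⟨hpl.symm, Or.inl ⟨BialgEquiv.ofBijective f ⟨hinj, hf⟩⟩⟩
    · have hd := Groth.Agent.Helper6.MuAlpha.finrank_dvd_of_surjective f hf
      rw [hA, hrankAl] at hd
      have hpl : p = ℓ := (Nat.prime_dvd_prime_iff_eq hp hℓ).mp hd
      have hinj : Function.Injective f :=
        (LinearMap.injective_iff_surjective_of_finrank_eq_finrank
          (f := (f : A →ₗ[k] AlphaP.A p k))
          (by rw [hA, hrankAl, hpl])).mpr hf
      exact ⟨hpl.symm, Or.inr ⟨BialgEquiv.ofBijective f ⟨hinj, hf⟩⟩⟩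
  have red : IsReduced A → Nonempty (A ≃ₐc[k] ConstGrp.F k (Multiplicative (ZMod ℓ))) := by
    intro hred
    have hcard : Nat.card (WithConv (A →ₐ[k] k)) = ℓ := by
      rw [Groth.Agent.Helper6.MuAlpha.card_points', hA]
    have hcardG : Nat.card (Multiplicative (ZMod ℓ)) = ℓ := by
      rw [Nat.card_eq_fintype_card, Fintype.card_multiplicative, ZMod.card]
    exact ⟨Groth.Agent.Helper6.MuAlpha.constEquiv (mulEquivOfPrimeCardEq hcardG hcard)⟩
  constructor
  · intro hne
    by_cases hred : IsReduced A
    · exact red hred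
    · exact absurd (key hred).1 hne
  · intro heq
    subst heq
    by_cases hred : IsReduced A
    · exact Or.inl (red hred)
    · exact Or.inr (key hred).2

end Groth.Agent.S17331
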