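import Groth.Statements.S17332
import Mathlib

set_option autoImplicit false
universe u v w
open CAlg

namespace Groth.Agent.S17332

/-- Let k be a field, E and F finite sets, and O(E), O(F) the k-algebras of k-valued functions with
pointwise operations. Then every k-algebra homomorphism u : O(F) → O(E) is pull-back along a unique
map φ : E → F, i.e. u(g) = g ∘ φ for all g. (In the source k is algebraically closed; the printed
argument only uses that k is a field.) -/
theorem result (k : Type u) [Field k] (E : Type v) [Finite E]
    (F : Type w) [Finite F] (u : (F → k) →ₐ[k] (E → k)) :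
    ∃! φ : E → F, ∀ g : F → k, u g = g ∘ φ := by
  classical
  cases nonempty_fintype F
  have key : ∀ χ : (F → k) →ₐ[k] k, ∃ f : F, ∀ g : F → k, χ g = g f := by
    intro χ
    have hsum : ∑ f : F, χ (Pi.single f 1) = 1 := by
      rw [← map_sum, Finset.univ_sum_single]
      exact map_one χ
    obtain ⟨f, -, hf⟩ : ∃ f ∈ (Finset.univ : Finset F), χ (Pi.single f 1) ≠ 0 := by
      by_contra h
      push Not at h
      rw [Finset.sum_eq_zero h] at hsum
      exact zero_ne_one hsum
    refine ⟨f, fun g => ?_⟩
    have h1 : g * Pi.single f 1 = g f • Pi.single f 1 := by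
      ext x
      by_cases hx : x = f
      · subst hx; simp
      · simp [Pi.single_apply, hx]
    have h2 := congrArg χ h1
    rw [map_mul, map_smul, smul_eq_mul] at h2
    exact mul_right_cancel₀ hf h2
  choose φ hφ using fun e : E => key ((Pi.evalAlgHom k (fun _ : E => k) e).comp u)
  refine ⟨φ, ?_, ?_⟩
  · intro g
    ext e
    exact hφ e g
  · intro ψ hψ
    ext e
    have h1 := congrFun (hψ (Pi.single (φ e) 1)) e
    have h2 := hφ e (Pi.single (φ e) 1)
    simp only [AlgHom.comp_apply, Pi.evalAlgHom_apply] at h2
    rw [h2] at h1
    simp only [Function.comp_apply, Pi.single_eq_same] at h1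
    by_contra hne
    rw [Pi.single_eq_of_ne hne] at h1
    exact one_ne_zero h1

end Groth.Agent.S17332
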