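import Groth.Statements.S17333
import Mathlib

set_option autoImplicit false
universe u v w
open CAlg

namespace Groth.Agent.S17333

/-- Let k be a field and A = B × C a decomposable commutative k-algebra. Then the natural map Der(B) ×
Der(C) → Der(A) is bijective: every k-derivation D : A → A is (b, c) ↦ (D₁ b, D₂ c) for a unique
pair of k-derivations D₁ : B → B, D₂ : C → C. Compatibility with brackets is not stated. (The
published statement takes k algebraically closed; this row takes any field.) -/
theorem result (k : Type u) [Field k] (B : Type v) [CommRing B] [Algebra k B]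
    (C : Type w) [CommRing C] [Algebra k C] (D : Derivation k (B × C) (B × C)) :
    ∃! P : Derivation k B B × Derivation k C C, ∀ (b : B) (c : C), D (b, c) = (P.1 b, P.2 c) := by
  have hee : ((1:B),(0:C)) * ((1:B),(0:C)) = ((1:B),(0:C)) := by ext <;> simp
  have he : D ((1:B), (0:C)) = 0 := by
    have h := D.leibniz ((1:B),(0:C)) ((1:B),(0:C))
    rw [hee] at h
    have h2 := congrArg (fun x => ((1:B),(0:C)) • x) h
    simp only [smul_add, smul_smul, hee] at h2
    have h3 : ((1:B),(0:C)) • D ((1:B),(0:C)) = 0 := by simpa using h2
    rw [h3] at h; simpa using h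
  have he' : D ((0:B), (1:C)) = 0 := by
    have : ((0:B), (1:C)) = 1 - ((1:B),(0:C)) := by ext <;> simp
    rw [this, map_sub, he]; simp
  have hb : ∀ b : B, (D (b, 0)).2 = 0 := by
    intro b
    have h := D.leibniz (b, (0:C)) ((1:B),(0:C))
    have : (b, (0:C)) * ((1:B),(0:C)) = (b, 0) := by ext <;> simp
    rw [this, he] at h
    have := congrArg Prod.snd h
    simpa using this
  have hc : ∀ c : C, (D (0, c)).1 = 0 := by
    intro c
    have h := D.leibniz ((0:B), c) ((0:B),(1:C))
    have : ((0:B), c) * ((0:B),(1:C)) = (0, c) := by ext <;> simp
    rw [this, he'] at h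
    have := congrArg Prod.fst h
    simpa using this
  let P1 : Derivation k B B := Derivation.mk'
    { toFun := fun b => (D (b, 0)).1
      map_add' := by
        intro x y
        have : ((x + y, (0:C)) : B × C) = (x, 0) + (y, 0) := by ext <;> simp
        rw [this, map_add]; rfl
      map_smul' := by
        intro r x
        have : ((r • x, (0:C)) : B × C) = r • (x, 0) := by ext <;> simp
        rw [this, Derivation.map_smul]; rfl }
    (by
      intro a b
      have h := D.leibniz (a, (0:C)) (b, (0:C))
      have : (a, (0:C)) * (b, (0:C)) = (a * b, 0) := by ext <;> simp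
      rw [this] at h
      have := congrArg Prod.fst h
      simpa using this)
  let P2 : Derivation k C C := Derivation.mk'
    { toFun := fun c => (D (0, c)).2
      map_add' := by
        intro x y
        have : (((0:B), x + y) : B × C) = (0, x) + (0, y) := by ext <;> simp
        rw [this, map_add]; rfl
      map_smul' := by
        intro r x
        have : (((0:B), r • x) : B × C) = r • (0, x) := by ext <;> simp
        rw [this, Derivation.map_smul]; rfl }
    (by
      intro a b
      have h := D.leibniz ((0:B), a) ((0:B), b)
      have : ((0:B), a) * ((0:B), b) = (0, a * b) := by ext <;> simp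
      rw [this] at h
      have := congrArg Prod.snd h
      simpa using this)
  refine ⟨(P1, P2), ?_, ?_⟩
  · intro b c
    have : ((b, c) : B × C) = (b, 0) + (0, c) := by ext <;> simp
    rw [this, map_add]
    ext
    · simp [P1, hc]
    · simp [P2, hb]
  · rintro ⟨Q1, Q2⟩ hQ
    ext x
    · have := congrArg Prod.fst (hQ x 0)
      simpa [P1] using this.symm
    · have := congrArg Prod.snd (hQ 0 x)
      simpa [P2] using this.symm

end Groth.Agent.S17333
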