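import Groth.Statements.S17334
import Mathlib

set_option autoImplicit false
universe u v
open CAlg

namespace Groth.Agent.S17334

/-- Let k be a field and A a nonzero commutative k-algebra which is finite-dimensional as a k-vector
space. Then A is indecomposable (no decomposition as a product of two nonzero rings, i.e. no
idempotent other than 0 and 1) if and only if A is a local ring. (In the source k is algebraically
closed and the lemma adds that the maximal ideal is then the nilradical, is nilpotent, and has
residue field k; the equivalence itself uses only that k is a field, and the zero algebra is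
excluded here explicitly.) -/
theorem result (k : Type u) [Field k]
    (A : Type v) [CommRing A] [Algebra k A] [Module.Finite k A] [Nontrivial A] :
    (∀ e : A, IsIdempotentElem e → e = 0 ∨ e = 1) ↔ IsLocalRing A := by
  constructor
  · intro h
    have : IsArtinianRing A := IsArtinianRing.of_finite k A
    apply IsLocalRing.of_isUnit_or_isUnit_one_sub_self
    intro a
    obtain ⟨n, y, hy⟩ := IsArtinian.exists_pow_succ_smul_dvd a (1 : A)
    simp only [smul_eq_mul, mul_one, Nat.succ_eq_add_one] at hy
    have key : ∀ j : ℕ, a ^ n = a ^ (n + j) * y ^ j := by
      intro j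
      induction j with
      | zero => simp
      | succ j ih =>
        calc a ^ n = a ^ (n + j) * y ^ j := ih
          _ = a ^ j * a ^ n * y ^ j := by ring
          _ = a ^ j * (a ^ (n+1) * y) * y ^ j := by rw [hy]
          _ = a ^ (n + (j+1)) * y ^ (j+1) := by ring
    have hk := key n
    have hidem : IsIdempotentElem (a ^ n * y ^ n) := by
      show (a ^ n * y ^ n) * (a ^ n * y ^ n) = a ^ n * y ^ n
      calc (a ^ n * y ^ n) * (a ^ n * y ^ n) = (a ^ (n + n) * y ^ n) * y ^ n := by ring
        _ = a ^ n * y ^ n := by rw [← hk]
    rcases h _ hidem with h0 | h1
    · right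
      have : a ^ n = 0 := by
        calc a ^ n = a ^ (n+n) * y ^ n := hk
          _ = a ^ n * (a ^ n * y ^ n) := by ring
          _ = 0 := by rw [h0, mul_zero]
      have hnil : IsNilpotent a := ⟨n, this⟩
      exact hnil.isUnit_one_sub
    · left
      have : a * y = 1 := by
        calc a * y = a * y * (a ^ n * y ^ n) := by rw [h1, mul_one]
          _ = (a ^ (n + 1) * y) * y ^ n := by ring
          _ = a ^ n * y ^ n := by rw [hy]
          _ = 1 := h1
      exact IsUnit.of_mul_eq_one y this
  · intro hloc e he
    have h0 : e * (1 - e) = 0 := by
      rw [mul_sub, mul_one, he.eq, sub_self]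
    rcases IsLocalRing.isUnit_or_isUnit_one_sub_self e with hu | hu
    · right
      have := hu.mul_right_eq_zero.mp h0
      exact (sub_eq_zero.mp this).symm
    · left
      exact hu.mul_left_eq_zero.mp h0

end Groth.Agent.S17334
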