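import Groth.Statements.S17365
import Groth.Agent.Lib.Lead.FLFUnit
import Groth.Agent.Lib.Lead.Hartogs3
import Groth.Agent.Lib.Helper12.FibDepth
import Groth.Agent.Lib.Helper4.SmoothRegSch
import Groth.Agent.Lib.Lead.Depth12

set_option autoImplicit false
universe u
open CategoryTheory CategoryTheory.Limits AlgebraicGeometry TopologicalSpace
open CInt

namespace Groth.Agent.S17365

/-- Let k be an algebraically closed field, X a smooth proper k-scheme admitting an ample invertible
sheaf, and S a locally Noetherian k-scheme. Let E be a finite locally free module on S ×_k X and Z a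
closed subset of S ×_k X whose intersection with every fibre {s} × X has codimension at least 2
there, i.e. at every point of Z the local ring of the fibre of the projection S ×_k X ⟶ S has Krull
dimension at least 2. Then, with j the inclusion of the complement of Z, the natural map E ⟶ j_*
(E|_{S × X ∖ Z}) is an isomorphism. -/
theorem result
    (k : Type u) [Field k] [IsAlgClosed k] (S X : Scheme.{u})
    (b : S ⟶ Spec (CommRingCat.of k)) (a : X ⟶ Spec (CommRingCat.of k))
    [IsLocallyNoetherian S] [Smooth a] [IsProper a]
    (hproj : ∃ H : X.Modules, CohB1.IsAmple H)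
    (E : (pullback b a).Modules) (hE : FlatMod.IsFinLocFree E)
    (Z : Closeds ↥(pullback b a))
    (hZ : ∀ x : ↥(pullback b a), x ∈ Z →
      (2 : WithBot ℕ∞) ≤ ringKrullDim ↑(CInt.fiberStalk (pullback.fst b a) x)) :
    IsIso ((Scheme.Modules.restrictAdjunction (Scheme.Opens.ι (Z.compl : (pullback b a).Opens))).unit.app E) := by
  haveI : Smooth (pullback.fst b a) := inferInstance
  haveI : IsLocallyNoetherian (pullback b a) :=
    LocallyOfFiniteType.isLocallyNoetherian (pullback.fst b a)
  have hCM : ∀ x : ↥(pullback b a),
      LocCoh.IsCohenMacaulayLocalRing ↑(CInt.fiberStalk (pullback.fst b a) x) := by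
    intro x
    have hsm : Smooth ((pullback.fst b a).fiberToSpecResidueField ((pullback.fst b a) x)) :=
      MorphismProperty.pullback_snd (P := @Smooth) _ _ inferInstance
    have hreg : @IsRegularRing ↑(S.residueField ((pullback.fst b a) x))
        (S.residueField ((pullback.fst b a) x)).commRing :=
      inferInstanceAs (IsRegularRing (IsLocalRing.ResidueField
        (S.presheaf.stalk ((pullback.fst b a) x))))
    haveI : IsRegularLocalRing ↑(CInt.fiberStalk (pullback.fst b a) x) :=
      @Groth.Agent.Helper4.SmoothRegSch.isRegularLocalRing_stalk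
        ↑(S.residueField ((pullback.fst b a) x))
        (S.residueField ((pullback.fst b a) x)).commRing hreg _
        ((pullback.fst b a).fiberToSpecResidueField ((pullback.fst b a) x)) hsm
        ((pullback.fst b a).asFiber x)
    exact Groth.Agent.Lead.Depth.isCohenMacaulayLocalRing_of_isRegularLocalRing
  have hdepth := Groth.Agent.Helper12.FibDepth.result14107 (pullback.fst b a) hCM
    (Z : Set ↥(pullback b a)) 2 (fun y hy => by exact_mod_cast hZ y hy)
  have h : ∀ V : (pullback b a).Opens, Function.Bijective ((pullback b a).presheaf.map
      (homOfLE (inf_le_left : V ⊓ (Z.compl : (pullback b a).Opens) ≤ V)).op) := by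
    intro V
    refine Groth.Agent.Lead.Hartogs.bijective_res_ring V (V ⊓ Z.compl) inf_le_left ?_
    intro x hxV hxW
    have hxZ : x ∈ Z := by
      by_contra hc
      exact hxW ⟨hxV, hc⟩
    exact_mod_cast hdepth x hxZ
  exact Groth.Agent.Lead.FLFUnit.isIso_unit_of_isFinLocFree _ _ h E hE

end Groth.Agent.S17365
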