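import Groth.Statements.S1737
import Groth.Agent.Lib.Helper28.ReflDepth

set_option autoImplicit false
universe u
open LocCoh


namespace Groth.Agent.S1737

section Aux

variable {A : Type u} [CommRing A] (T : Set (PrimeSpectrum A)) (M : Type u) [AddCommGroup M]
  [Module A M]

/-- The submodule of elements supported in `T`. -/
def Gam : Submodule A M where
  carrier := {x | ∀ q : PrimeSpectrum A, q ∉ T → ∃ s : A, s ∉ q.asIdeal ∧ s • x = 0}
  zero_mem' := fun q _ =>
    ⟨1, fun h => q.isPrime.ne_top ((Ideal.eq_top_iff_one _).mpr h), smul_zero _⟩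
  add_mem' := by
    intro x y hx hy q hq
    obtain ⟨s, hs, hsx⟩ := hx q hq
    obtain ⟨s', hs', hsy⟩ := hy q hq
    have h1 : (s * s') • x = 0 := by rw [mul_comm, mul_smul, hsx, smul_zero]
    have h2 : (s * s') • y = 0 := by rw [mul_smul, hsy, smul_zero]
    exact ⟨s * s', q.isPrime.mul_notMem hs hs', by rw [smul_add, h1, h2, add_zero]⟩
  smul_mem' := by
    intro a x hx q hq
    obtain ⟨s, hs, hsx⟩ := hx q hq
    exact ⟨s, hs, by rw [smul_comm, hsx, smul_zero]⟩

variable {T M}

theorem mem_Gam {x : M} :
    x ∈ Gam T M ↔ ∀ q : PrimeSpectrum A, q ∉ T → ∃ s : A, s ∉ q.asIdeal ∧ s • x = 0 := Iff.rfl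

theorem mk_eq_zero_iff {N : Type u} [AddCommGroup N] [Module A N] (p : Ideal A) [p.IsPrime]
    (m : N) (s : p.primeCompl) :
    (LocalizedModule.mk m s : LocalizedModule p.primeCompl N) = 0 ↔
      ∃ t : A, t ∉ p ∧ t • m = 0 := by
  rw [← LocalizedModule.zero_mk s, LocalizedModule.mk_eq]
  constructor
  · rintro ⟨u, hu⟩
    simp only [Submonoid.smul_def, smul_zero] at hu
    refine ⟨(u : A) * (s : A), (u * s).2, ?_⟩
    rw [mul_smul]
    exact hu
  · rintro ⟨t, ht, htm⟩
    refine ⟨⟨t, ht⟩, ?_⟩
    simp only [Submonoid.smul_def, smul_zero]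
    rw [smul_comm, htm, smul_zero]

end Aux

end Groth.Agent.S1737

namespace Groth.Agent.S1737

/-- Let A be a Noetherian ring, T ⊆ Spec A stable under specialization and M a finite A-module. There
are a finite A-module M' and a surjection M → M' which is bijective after localizing at every prime
outside T and such that M'_p has depth ≥ 1 over A_p for every p in T. (The source states this for
coherent modules on a Noetherian scheme, with uniqueness.) -/
theorem result (A : Type u) [CommRing A] [IsNoetherianRing A] (T : Set (PrimeSpectrum A)) (hT : StableUnderSpecialization T) (M : Type u) [AddCommGroup M] [Module A M] [Module.Finite A M] : ∃ (M' : Type u) (_ : AddCommGroup M') (_ : Module A M') (_ : Module.Finite A M') (f : M →ₗ[A] M'), Function.Surjective f ∧ (∀ p : PrimeSpectrum A, p ∉ T → Function.Bijective (LocalizedModule.map p.asIdeal.primeCompl f)) ∧ ∀ p : PrimeSpectrum A, p ∈ T → 1 ≤ LocCoh.depth (Localization.AtPrime p.asIdeal) (LocalizedModule p.asIdeal.primeCompl M') := by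
  classical
  refine ⟨M ⧸ Gam T M, inferInstance, inferInstance, inferInstance, (Gam T M).mkQ,
    Submodule.mkQ_surjective _, ?_, ?_⟩
  · intro p hp
    refine ⟨?_, LocalizedModule.map_surjective p.asIdeal.primeCompl _
      (Submodule.mkQ_surjective _)⟩
    rw [injective_iff_map_eq_zero]
    intro y hy
    induction y using LocalizedModule.induction_on with
    | h x s =>
      rw [LocalizedModule.map_mk, mk_eq_zero_iff] at hy
      obtain ⟨t, ht, htx⟩ := hy
      have hmem : t • x ∈ Gam T M := by
        rw [← Submodule.Quotient.mk_eq_zero, Submodule.Quotient.mk_smul]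
        exact htx
      obtain ⟨s', hs', hs'x⟩ := (mem_Gam.mp hmem) p hp
      rw [mk_eq_zero_iff]
      exact ⟨s' * t, p.isPrime.mul_notMem hs' ht, by rw [mul_smul, hs'x]⟩
  · intro p hp
    show 1 ≤ LocCoh.idealDepth (IsLocalRing.maximalIdeal (Localization.AtPrime p.asIdeal))
      (LocalizedModule p.asIdeal.primeCompl (M ⧸ Gam T M))
    rw [Groth.Agent.Helper28.ReflDepth.one_le_idealDepth_iff]
    intro y hy
    induction y using LocalizedModule.induction_on with
    | h xb s =>
      obtain ⟨x, rfl⟩ := Submodule.mkQ_surjective (Gam T M) xb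
      -- for each `a ∈ p`, some `t ∉ p` kills `a • x̄`
      have h1 : ∀ a ∈ p.asIdeal, ∃ t : A, t ∉ p.asIdeal ∧ (t * a) • x ∈ Gam T M := by
        intro a ha
        have hmem : algebraMap A (Localization.AtPrime p.asIdeal) a ∈
            IsLocalRing.maximalIdeal (Localization.AtPrime p.asIdeal) :=
          (IsLocalization.AtPrime.to_map_mem_maximal_iff _ p.asIdeal a).mpr ha
        have h2 := hy _ hmem
        rw [algebraMap_smul, LocalizedModule.smul'_mk, mk_eq_zero_iff] at h2
        obtain ⟨t, ht, htx⟩ := h2
        refine ⟨t, ht, ?_⟩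
        rw [← Submodule.Quotient.mk_eq_zero, mul_smul, Submodule.Quotient.mk_smul,
          Submodule.Quotient.mk_smul]
        exact htx
      choose! τ hτ using h1
      obtain ⟨gens, hgens⟩ := (isNoetherianRing_iff_ideal_fg A).mp inferInstance p.asIdeal
      obtain ⟨t0, ht0⟩ : ∃ t0 : A, t0 = ∏ a ∈ gens, τ a := ⟨_, rfl⟩
      have ht0p : t0 ∉ p.asIdeal := by
        rw [ht0]
        intro hmem
        obtain ⟨a, ha, hτa⟩ := (p.isPrime.prod_mem_iff).mp hmem
        have hap : a ∈ p.asIdeal := by
          rw [← hgens]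
          exact Ideal.subset_span ha
        exact (hτ a hap).1 hτa
      -- the ideal of `a` with `(t0 * a) • x ∈ Γ`
      have h3 : ∀ a ∈ p.asIdeal, (t0 * a) • x ∈ Gam T M := by
        intro a ha
        have hle : p.asIdeal ≤ Submodule.comap (LinearMap.toSpanSingleton A M (t0 • x))
            (Gam T M) := by
          rw [← hgens, Ideal.span_le]
          intro b hb
          have hbp : b ∈ p.asIdeal := by
            rw [← hgens]
            exact Ideal.subset_span hb
          obtain ⟨c, hc⟩ := Finset.dvd_prod_of_mem τ hb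
          show (LinearMap.toSpanSingleton A M (t0 • x)) b ∈ Gam T M
          have e : b * (τ b * c) = c * (τ b * b) := by ring
          rw [LinearMap.toSpanSingleton_apply, ← mul_smul, ht0, hc, e, mul_smul]
          exact (Gam T M).smul_mem c (hτ b hbp).2
        have := hle ha
        rw [Submodule.mem_comap, LinearMap.toSpanSingleton_apply, ← mul_smul, mul_comm] at this
        exact this
      have h4 : t0 • x ∈ Gam T M := by
        rw [mem_Gam]
        intro q hq
        have hnle : ¬ p.asIdeal ≤ q.asIdeal := by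
          intro hle
          exact hq (hT ((PrimeSpectrum.le_iff_specializes p q).mp hle) hp)
        obtain ⟨a, hap, haq⟩ := Set.not_subset.mp hnle
        obtain ⟨s', hs', hs'x⟩ := (mem_Gam.mp (h3 a hap)) q hq
        refine ⟨s' * a, q.isPrime.mul_notMem hs' haq, ?_⟩
        rw [mul_smul, ← mul_smul a, mul_comm a]
        exact hs'x
      rw [mk_eq_zero_iff]
      refine ⟨t0, ht0p, ?_⟩
      show t0 • (Gam T M).mkQ x = 0
      rw [← map_smul, Submodule.mkQ_apply, Submodule.Quotient.mk_eq_zero]
      exact h4

end Groth.Agent.S1737
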