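import Groth.Statements.S17386
import Mathlib
import Groth.Agent.Lib.Helper28.EffCartierOld
import Groth.Agent.Lib.Helper28.IdealComapOld
import Groth.Agent.Lib.Helper28.EqLocus
open Groth.Agent.Helper28.EffCartierOld Groth.Agent.Helper28.IdealComapOld

set_option autoImplicit false
universe u
open BlowUp

namespace Groth.Agent.S17386

open AlgebraicGeometry CategoryTheory Limits in
/-- Let X be any scheme, J_1, …, J_n quasi-coherent ideals on X with closed subschemes Y_i, and b : X' →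
X a blowing up of X in the ideal J_1 + ⋯ + J_n of the intersection of the Y_i. For each i let b_i' :
Y_i' → Y_i be a blowing up of Y_i in the inverse image of J_1 + ⋯ + J_n and k_i : Y_i' → X' the
morphism with k_i ≫ b = b_i' ≫ (Y_i → X), so that the image of k_i is the strict transform of Y_i.
Then the strict transforms have empty common intersection: no point of X' lies in the image of every
k_i. -/
theorem result
    {X X' : Scheme.{u}} {n : ℕ} (𝓙 : Fin n → X.IdealSheafData) (b : X' ⟶ X)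
    (hb : BlowUp.IsBlowUp b (⨆ i, 𝓙 i))
    (Y' : Fin n → Scheme.{u}) (b' : ∀ i, Y' i ⟶ (𝓙 i).subscheme)
    (hb' : ∀ i, BlowUp.IsBlowUp (b' i) ((⨆ j, 𝓙 j).comap (𝓙 i).subschemeι))
    (k : ∀ i, Y' i ⟶ X') (hk : ∀ i, k i ≫ b = b' i ≫ (𝓙 i).subschemeι) :
    (⋂ i, Set.range (fun y => k i y)) = (∅ : Set X') := by
  classical
  rw [Set.eq_empty_iff_forall_notMem]
  intro x' hx'
  rw [Set.mem_iInter] at hx'
  set 𝓢 : X.IdealSheafData := ⨆ i, 𝓙 i with h𝓢
  have hE : BlowUp.IsEffCartierIdeal (𝓢.comap b) := hb.1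
  obtain ⟨_, ⟨U, hU, rfl⟩, hxU, -⟩ :=
    X.isBasis_affineOpens.exists_subset_of_mem_open (Set.mem_univ (b x')) isOpen_univ
  obtain ⟨V, hxV, hVU, t, ht, hIt⟩ := exists_chart_le hE x' (b ⁻¹ᵁ U) hxU
  set φ := (b.appLE U V.1 hVU).hom with hφ
  have h1 : (𝓢.comap b).ideal V = Ideal.map φ (𝓢.ideal ⟨U, hU⟩) :=
    ideal_comap b 𝓢 ⟨U, hU⟩ V hVU
  have h2 : 𝓢.ideal ⟨U, hU⟩ = ⨆ j, (𝓙 j).ideal ⟨U, hU⟩ := by
    rw [h𝓢, Scheme.IdealSheafData.ideal_iSup, iSup_apply]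
  have h3 : t ∈ ⨆ j, Ideal.map φ ((𝓙 j).ideal ⟨U, hU⟩) := by
    rw [← Ideal.map_iSup, ← h2, ← h1, hIt]
    exact Ideal.mem_span_singleton_self t
  obtain ⟨a, ha, hsum⟩ : ∃ a : Fin n → Γ(X', V.1),
      (∀ j, a j ∈ Ideal.map φ ((𝓙 j).ideal ⟨U, hU⟩)) ∧ ∑ j, a j = t := by
    have h3' : t ∈ ⨆ j ∈ (Finset.univ : Finset (Fin n)), Ideal.map φ ((𝓙 j).ideal ⟨U, hU⟩) := by
      simpa using h3
    obtain ⟨μ, hμ⟩ := (Submodule.mem_iSup_finset_iff_exists_sum _ t).1 h3'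
    exact ⟨fun j => (μ j : Γ(X', V.1)), fun j => (μ j).2, hμ⟩
  have hc : ∀ j, ∃ c, a j = c * t := by
    intro j
    have : a j ∈ Ideal.span {t} := by
      rw [← hIt, h1, h2, Ideal.map_iSup]
      exact (le_iSup (fun j => Ideal.map φ ((𝓙 j).ideal ⟨U, hU⟩)) j) (ha j)
    obtain ⟨c, hc⟩ := Ideal.mem_span_singleton'.1 this
    exact ⟨c, hc.symm⟩
  choose c hc using hc
  have hsum1 : ∑ j, c j = 1 := by
    have h : (∑ j, c j - 1) * t = 0 := by
      have h' : (∑ j, c j) * t = t := by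
        rw [Finset.sum_mul]
        exact (Finset.sum_congr rfl (fun j _ => (hc j).symm)).trans hsum
      rw [sub_mul, one_mul, h', sub_self]
    exact sub_eq_zero.1 ((mem_nonZeroDivisors_iff_right.1 ht) _ h)
  set p := V.2.primeIdealOf ⟨x', hxV⟩ with hp
  obtain ⟨j, hj⟩ : ∃ j, c j ∉ p.asIdeal := by
    by_contra hall
    push Not at hall
    have : (1 : Γ(X', V.1)) ∈ p.asIdeal := by
      rw [← hsum1]
      exact Ideal.sum_mem _ (fun j _ => hall j)
    exact p.2.ne_top ((Ideal.eq_top_iff_one _).2 this)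
  have hxc : x' ∈ X'.basicOpen (c j) :=
    (mem_basicOpen_iff_notMem_primeIdealOf V.2 x' hxV (c j)).2 hj
  obtain ⟨y, hy⟩ := hx' j
  have hy' : k j y = x' := hy
  have hG : BlowUp.IsEffCartierIdeal (𝓢.comap (k j ≫ b)) := by
    rw [hk j, Scheme.IdealSheafData.comap_comp]
    exact (hb' j).1
  have hJ0 : (𝓙 j).comap (k j ≫ b) = ⊥ := by
    rw [hk j, Scheme.IdealSheafData.comap_comp]
    have : (𝓙 j).comap (𝓙 j).subschemeι = ⊥ := by
      rw [eq_bot_iff, ← Scheme.IdealSheafData.le_map_iff_comap_le, Scheme.IdealSheafData.map_bot,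
        Scheme.IdealSheafData.ker_subschemeι]
    rw [this, Scheme.IdealSheafData.comap_bot]
  have hyV : y ∈ (k j) ⁻¹ᵁ V.1 := by
    change k j y ∈ V.1
    rw [hy']; exact hxV
  obtain ⟨W, hyW, e1, s, hs, hGs⟩ := exists_chart_le hG y _ hyV
  have e2 : W.1 ≤ (k j ≫ b) ⁻¹ᵁ U := by
    intro z hz
    have : k j z ∈ V.1 := e1 hz
    have h := hVU this
    change (k j ≫ b) z ∈ U
    rw [Scheme.Hom.comp_apply]
    exact h
  set ψ := ((k j).appLE V.1 W.1 e1).hom with hψ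
  have hcomp : ((k j ≫ b).appLE U W.1 e2).hom = ψ.comp φ := by
    have := Scheme.Hom.appLE_comp_appLE (k j) b U V.1 W.1 hVU e1
    rw [hψ, hφ, ← CommRingCat.hom_comp, this]
  have h4 : Ideal.span {ψ t} = Ideal.span {s} := by
    rw [← hGs, ideal_comap (k j ≫ b) 𝓢 ⟨U, hU⟩ W e2, hcomp, ← Ideal.map_map, ← h1, hIt,
      Ideal.map_span, Set.image_singleton]
  have h5 : ψ t ∈ nonZeroDivisors Γ(Y' j, W.1) :=
    Groth.Agent.Helper28.EqLocus.mem_nonZeroDivisors_of_span_eq hs h4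
  have h6 : ψ (a j) = 0 := by
    have h : ψ (a j) ∈ Ideal.map ψ (Ideal.map φ ((𝓙 j).ideal ⟨U, hU⟩)) :=
      Ideal.mem_map_of_mem _ (ha j)
    rw [Ideal.map_map, ← hcomp, ← ideal_comap (k j ≫ b) (𝓙 j) ⟨U, hU⟩ W e2, hJ0] at h
    simpa using h
  have h7 : ψ (c j) = 0 := by
    have h : ψ (c j) * ψ t = 0 := by rw [← map_mul, ← hc, h6]
    exact (mem_nonZeroDivisors_iff_right.1 h5) _ h
  have h8 : y ∈ (Y' j).basicOpen (ψ (c j)) := by
    rw [hψ]
    erw [Scheme.basicOpen_appLE]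
    refine ⟨hyW, ?_⟩
    change k j y ∈ X'.basicOpen (c j)
    rw [hy']; exact hxc
  rw [h7, Scheme.basicOpen_zero] at h8
  exact h8

end Groth.Agent.S17386
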