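import Groth.Statements.S17391
import Mathlib
import Groth.Agent.Lib.Helper28.EffCartierOld
import Groth.Agent.Lib.Helper28.IdealComapOld
open Groth.Agent.Helper28.EffCartierOld Groth.Agent.Helper28.IdealComapOld

set_option autoImplicit false
universe u
open BlowUp

namespace Groth.Agent.S17391

open AlgebraicGeometry CategoryTheory Limits in
/-- Let X and Z be schemes, p : Z → X a morphism, U ⊆ V ⊆ X open subschemes, and f : Y → Z a
quasi-compact immersion whose composite with p lands in U. Let I₁ be a quasi-coherent ideal on X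
whose support contains V ∖ U and is disjoint from U, and I₂ a quasi-coherent ideal whose support
lies in supp(I₁) ∖ V. Assume that the closed subscheme p⁻¹(V(I₁²)) ∩ Ȳ of Z, where Ȳ is the
scheme-theoretic image of f, is contained in p⁻¹(V(I₂)) as a closed subscheme: the inverse image
ideal of I₂ on Z lies in the sum of the inverse image ideal of I₁² and the kernel ideal of f. Then
for every blowing up q : X' → X of X in I₁ + I₂, writing Z' = Z ×_X X' → X' and Y' = Y ×_Z Z' → Z'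
for the base changes, the closure in Z' of the image of Y' is disjoint from the preimage in Z' of
the closure in X' of q⁻¹(V ∖ U). (The blowing up is an isomorphism over V, since the support of I₁ +
I₂ is that of I₂ and lies in X ∖ V; the point is that the closure of q⁻¹(V ∖ U) in X', which may
reach over X ∖ V, still misses the closure of Y'.) -/
theorem result
    {X Y Z X' : Scheme.{u}} (p : Z ⟶ X) (U V : X.Opens) (hUV : U ≤ V)
    (f : Y ⟶ Z) [IsImmersion f] [QuasiCompact f] (hY : Set.range (fun y => p (f y)) ⊆ (U : Set X))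
    (𝓘₁ 𝓘₂ : X.IdealSheafData)
    (h₁ : (V : Set X) \ (U : Set X) ⊆ (𝓘₁.support : Set X)) (h₁' : Disjoint (𝓘₁.support : Set X) (U : Set X))
    (h₂ : (𝓘₂.support : Set X) ⊆ (𝓘₁.support : Set X) \ (V : Set X))
    (hincl : 𝓘₂.comap p ≤ (𝓘₁ * 𝓘₁).comap p ⊔ f.ker)
    (q : X' ⟶ X) (hq : BlowUp.IsBlowUp q (𝓘₁ ⊔ 𝓘₂)) :
    Disjoint (closure (Set.range (fun y => (pullback.snd f (pullback.fst p q)) y)))
      ((fun z => (pullback.snd p q) z) ⁻¹'
        closure ((fun x' => q x') ⁻¹' ((V : Set X) \ (U : Set X)))) := by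
  classical
  rw [Set.disjoint_left]
  intro z' hz2 hz1
  obtain ⟨p', hp'⟩ : ∃ p' : pullback p q ⟶ X', p' = pullback.snd p q := ⟨_, rfl⟩
  obtain ⟨π', hπ'⟩ : ∃ π' : pullback p q ⟶ Z, π' = pullback.fst p q := ⟨_, rfl⟩
  rw [← hp'] at hz1
  rw [← hπ'] at hz2
  have hcond : π' ≫ p = p' ≫ q := by rw [hp', hπ']; exact pullback.condition
  set E := (𝓘₁ ⊔ 𝓘₂).comap q with hE
  have hEff : BlowUp.IsEffCartierIdeal E := hq.1
  have hEsup : E = 𝓘₁.comap q ⊔ 𝓘₂.comap q := Scheme.IdealSheafData.comap_sup _ _ _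
  set K := f.ker.comap π' with hK
  have hincl' : (𝓘₂.comap q).comap p' ≤ (𝓘₁.comap q).comap p' ⊔ K := by
    have h5 := Scheme.IdealSheafData.comap_mono π' hincl
    simp only at h5
    rw [Scheme.IdealSheafData.comap_sup, ← Scheme.IdealSheafData.comap_comp,
      ← Scheme.IdealSheafData.comap_comp, hcond, Scheme.IdealSheafData.comap_comp,
      Scheme.IdealSheafData.comap_comp] at h5
    refine h5.trans (sup_le_sup_right ?_ _)
    apply Scheme.IdealSheafData.comap_mono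
    apply Scheme.IdealSheafData.comap_mono
    intro A
    rw [Scheme.IdealSheafData.ideal_mul, Pi.mul_apply]
    exact Ideal.mul_le_right
  have h1E : 𝓘₁.comap q ≤ E := Scheme.IdealSheafData.comap_mono q le_sup_left
  have h2E : 𝓘₂.comap q ≤ E := Scheme.IdealSheafData.comap_mono q le_sup_right
  have hsuppt : ∀ {T : Scheme.{u}} (K : T.IdealSheafData) (V : T.affineOpens) (t : Γ(T, V.1))
      (_ : K.ideal V = Ideal.span {t}) (y : T) (_ : y ∈ V.1) (_ : y ∉ K.support),
      y ∈ T.basicOpen t := by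
    intro T K V t hK y hyV hy
    by_contra hyt
    apply hy
    rw [Scheme.IdealSheafData.mem_support_iff_of_mem (U := V) hyV, hK, Scheme.zeroLocus_span,
      Scheme.zeroLocus_singleton]
    exact hyt
  have hsuppa : ∀ {T : Scheme.{u}} (K : T.IdealSheafData) (V : T.affineOpens) (a : Γ(T, V.1))
      (_ : a ∈ K.ideal V) (y : T) (_ : y ∈ V.1) (_ : y ∈ K.support), y ∉ T.basicOpen a := by
    intro T K V a ha y hyV hy
    rw [Scheme.IdealSheafData.mem_support_iff_of_mem (U := V) hyV] at hy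
    exact (Scheme.mem_zeroLocus_iff _ _ _).1 hy a ha
  have hEsupp : ∀ y : X', y ∈ E.support → q y ∈ 𝓘₁.support ∧ q y ∈ 𝓘₂.support := by
    intro y hy
    rw [hE, Scheme.IdealSheafData.support_comap, Scheme.IdealSheafData.support_sup] at hy
    exact hy
  -- chart on X'
  obtain ⟨A, hxA, t, ht, hEt⟩ := hEff (p' z')
  obtain ⟨_, ⟨B, hB, rfl⟩, hzB, hBA⟩ :=
    (pullback p q).isBasis_affineOpens.exists_subset_of_mem_open
      (show z' ∈ ((p' ⁻¹ᵁ A.1 : (pullback p q).Opens) : Set _) from hxA) (p' ⁻¹ᵁ A.1).2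
  set ψ := (p'.appLE A.1 B hBA).hom with hψ
  set J₁ := (𝓘₁.comap q).ideal A with hJ₁
  set J₂ := (𝓘₂.comap q).ideal A with hJ₂
  have hJ₁t : J₁ ≤ Ideal.span {t} := by rw [← hEt]; exact h1E A
  have hJ₂t : J₂ ≤ Ideal.span {t} := by rw [← hEt]; exact h2E A
  set C₁ : Ideal Γ(X', A.1) := J₁.colon (Ideal.span {t}) with hC₁
  -- decomposition of the generator
  have htJ : t ∈ J₁ ⊔ J₂ := by
    have : E.ideal A = J₁ ⊔ J₂ := by
      rw [hEsup, Scheme.IdealSheafData.ideal_sup, Pi.sup_apply]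
    rw [← this, hEt]
    exact Ideal.mem_span_singleton_self t
  obtain ⟨a₁, ha₁, a₂, ha₂, ha⟩ := Submodule.mem_sup.1 htJ
  obtain ⟨c₁, hc₁⟩ := Ideal.mem_span_singleton'.1 (hJ₁t ha₁)
  obtain ⟨c₂, hc₂⟩ := Ideal.mem_span_singleton'.1 (hJ₂t ha₂)
  have hc12 : c₁ + c₂ = 1 := by
    have h : (c₁ + c₂ - 1) * t = 0 := by
      rw [sub_mul, add_mul, hc₁, hc₂, ha, one_mul, sub_self]
    exact sub_eq_zero.1 ((mem_nonZeroDivisors_iff_right.1 ht) _ h)
  have hc₁C : c₁ ∈ C₁ := by
    rw [hC₁, Ideal.mem_colon_span_singleton, hc₁]; exact ha₁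
  have hJC : J₁ ≤ Ideal.span {t} * C₁ := by
    intro a ha
    obtain ⟨c, hc⟩ := Ideal.mem_span_singleton'.1 (hJ₁t ha)
    rw [Ideal.mem_span_singleton_mul]
    refine ⟨c, ?_, by rw [mul_comm]; exact hc⟩
    rw [hC₁, Ideal.mem_colon_span_singleton, hc]
    exact ha
  -- elements of C₁ vanish at p' z'
  have hCvan : ∀ c ∈ C₁, p' z' ∉ X'.basicOpen c := by
    intro c hc hxc
    have hopen : IsOpen ((X'.basicOpen c : X'.Opens) : Set X') := (X'.basicOpen c).2
    obtain ⟨y, hyc, hyF⟩ := mem_closure_iff.1 hz1 _ hopen hxc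
    have hyA : y ∈ A.1 := X'.basicOpen_le c hyc
    have htc : t * c ∈ J₁ := by
      have := (Ideal.mem_colon_span_singleton).1 hc
      rw [mul_comm] at this
      exact this
    have hysupp : y ∈ (𝓘₁.comap q).support := by
      rw [Scheme.IdealSheafData.support_comap]
      exact h₁ hyF
    have h1 := hsuppa (𝓘₁.comap q) A (t * c) htc y hyA hysupp
    rw [Scheme.basicOpen_mul] at h1
    have hyE : y ∈ E.support := by
      by_contra hyE
      exact h1 ⟨hsuppt E A t hEt y hyA hyE, hyc⟩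
    have h2' := (h₂ (hEsupp y hyE).2).2
    exact h2' hyF.1
  set P := hB.primeIdealOf ⟨z', hzB⟩ with hP
  have hCP : Ideal.map ψ C₁ ≤ P.asIdeal := by
    rw [Ideal.map_le_iff_le_comap]
    intro c hc
    show ψ c ∈ P.asIdeal
    by_contra hcon
    have h1 : z' ∈ (pullback p q).basicOpen (ψ c) :=
      (mem_basicOpen_iff_notMem_primeIdealOf hB z' hzB (ψ c)).2 hcon
    rw [hψ] at h1
    erw [Scheme.basicOpen_appLE] at h1
    exact hCvan c hc h1.2
  have hc₂P : ψ c₂ ∉ P.asIdeal := by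
    intro h
    have h1 : ψ c₁ ∈ P.asIdeal := hCP (Ideal.mem_map_of_mem _ hc₁C)
    have : (1 : Γ(pullback p q, B)) ∈ P.asIdeal := by
      have h2 := P.asIdeal.add_mem h1 h
      rwa [← map_add, hc12, map_one] at h2
    exact P.2.ne_top ((Ideal.eq_top_iff_one _).2 this)
  -- the inclusion on the chart B
  have h7 : ((𝓘₁.comap q).comap p').ideal ⟨B, hB⟩ = Ideal.map ψ J₁ :=
    ideal_comap p' (𝓘₁.comap q) A ⟨B, hB⟩ hBA
  have h7' : ((𝓘₂.comap q).comap p').ideal ⟨B, hB⟩ = Ideal.map ψ J₂ :=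
    ideal_comap p' (𝓘₂.comap q) A ⟨B, hB⟩ hBA
  have h8 : ψ a₂ ∈ Ideal.map ψ J₁ ⊔ K.ideal ⟨B, hB⟩ := by
    have := hincl' ⟨B, hB⟩
    rw [h7', Scheme.IdealSheafData.ideal_sup, Pi.sup_apply, h7] at this
    exact this (Ideal.mem_map_of_mem _ ha₂)
  obtain ⟨m, hm, k, hk, hmk⟩ := Submodule.mem_sup.1 h8
  have hm' : m ∈ Ideal.span {ψ t} * Ideal.map ψ C₁ := by
    have h := Ideal.map_mono (f := ψ) hJC hm
    rwa [Ideal.map_mul, Ideal.map_span, Set.image_singleton] at h
  obtain ⟨n, hn, hnm⟩ := Ideal.mem_span_singleton_mul.1 hm'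
  have hnP : n ∈ P.asIdeal := hCP hn
  have huP : (ψ c₂ - n) ∉ P.asIdeal := by
    intro h
    apply hc₂P
    have := P.asIdeal.add_mem h hnP
    rwa [sub_add_cancel] at this
  have hzu : z' ∈ (pullback p q).basicOpen (ψ c₂ - n) :=
    (mem_basicOpen_iff_notMem_primeIdealOf hB z' hzB _).2 huP
  obtain ⟨w, hwu, hwY⟩ := mem_closure_iff.1 hz2 _ ((pullback p q).basicOpen (ψ c₂ - n)).2 hzu
  have hwB : w ∈ B := (pullback p q).basicOpen_le _ hwu
  obtain ⟨y'', hy''⟩ := hwY
  have hπw : π' w ∈ Set.range f := by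
    refine ⟨pullback.fst f π' y'', ?_⟩
    rw [← hy'']
    show (pullback.fst f π' ≫ f) y'' = (pullback.snd f π' ≫ π') y''
    rw [pullback.condition]
  have hwsupp : w ∈ K.support := by
    rw [hK, Scheme.IdealSheafData.support_comap]
    exact f.range_subset_ker_support hπw
  have h1 := hsuppa K ⟨B, hB⟩ k hk w hwB hwsupp
  have hk' : k = ψ t * (ψ c₂ - n) := by
    rw [mul_sub, hnm, ← map_mul, mul_comm t c₂, hc₂, ← hmk]; ring
  rw [hk', Scheme.basicOpen_mul] at h1
  apply h1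
  refine ⟨?_, hwu⟩
  rw [hψ]
  erw [Scheme.basicOpen_appLE]
  refine ⟨hwB, ?_⟩
  show p' w ∈ X'.basicOpen t
  have hpwA : p' w ∈ A.1 := hBA hwB
  apply hsuppt E A t hEt (p' w) hpwA
  intro hy
  have h2 : q (p' w) ∈ (U : Set X) := by
    rw [← Scheme.Hom.comp_apply, ← hcond, Scheme.Hom.comp_apply]
    obtain ⟨y0, hy0⟩ := hπw
    rw [← hy0]
    exact hY ⟨y0, rfl⟩
  exact Set.disjoint_left.1 h₁' (hEsupp _ hy).1 h2

end Groth.Agent.S17391
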