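import Groth.Statements.S17392
import Mathlib
import Groth.Agent.Lib.Helper28.IdealExt3
import Groth.Agent.Lib.Helper28.AmbProd
open Groth.Agent.Helper28.IdealExt Groth.Agent.Helper28.FiniteTypeIdeal Groth.Agent.Helper28.AmbProd AlgebraicGeometry CategoryTheory CategoryTheory.Limits

set_option autoImplicit false
universe u
open BlowUp

namespace Groth.Agent.S17392

open AlgebraicGeometry CategoryTheory Limits in
/-- Let X₁ and X₂ be quasi-compact quasi-separated schemes, q : X₂ → X₁ a quasi-compact separated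
morphism, V₁ ⊆ X₁ a quasi-compact open subscheme and U ⊆ q⁻¹(V₁) an open subscheme of X₂ on which q
restricts to an open immersion (so U is identified with an open of V₁). Let Z₁ ⊆ X₁ be a closed
subset whose open complement is quasi-compact, put Y₁ = Z₁ ∩ V₁, and let Z₂ ⊆ X₂ be a closed subset
whose open complement is also quasi-compact, with q⁻¹(Y₁) ⊆ Z₂. Then there is a quasi-coherent ideal
E of finite type on X₁ with support contained in Z₁ ∖ V₁ (so that blowing up E is V₁-admissible)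
such that, for every blowing up c : X₁' → X₁ of X₁ in E with base change q' : X₂' = X₂ ×_{X₁} X₁' →
X₁' and c₂ : X₂' → X₂, one has q'⁻¹(closure of c⁻¹(Y₁)) ∩ closure(c₂⁻¹(U)) ⊆ c₂⁻¹(Z₂) as subsets of
X₂'. -/
theorem result
    {X₁ X₂ : Scheme.{u}} [CompactSpace X₁] [QuasiSeparatedSpace X₁] [CompactSpace X₂] [QuasiSeparatedSpace X₂]
    (q : X₂ ⟶ X₁) [QuasiCompact q] [IsSeparated q]
    (V₁ : X₁.Opens) (hV₁ : IsCompact (V₁ : Set X₁))
    (U : X₂.Opens) (hU : U ≤ q ⁻¹ᵁ V₁) [IsOpenImmersion (U.ι ≫ q)]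
    (Z₁ : Set X₁) (hZ₁ : IsClosed Z₁) (hZ₁c : IsCompact Z₁ᶜ)
    (Z₂ : Set X₂) (hZ₂ : IsClosed Z₂) (hZ₂c : IsCompact Z₂ᶜ)
    (hYZ : (fun x => q x) ⁻¹' (Z₁ ∩ (V₁ : Set X₁)) ⊆ Z₂) :
    ∃ 𝓔 : X₁.IdealSheafData, BlowUp.IsFiniteTypeIdeal 𝓔 ∧ (𝓔.support : Set X₁) ⊆ Z₁ \ (V₁ : Set X₁) ∧
      ∀ (X₁' : Scheme.{u}) (c : X₁' ⟶ X₁), BlowUp.IsBlowUp c 𝓔 →
        (fun z => (pullback.snd q c) z) ⁻¹' closure ((fun x => c x) ⁻¹' (Z₁ ∩ (V₁ : Set X₁))) ∩
            closure ((fun z => (pullback.fst q c) z) ⁻¹' (U : Set X₂)) ⊆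
          (fun z => (pullback.fst q c) z) ⁻¹' Z₂ := by
  classical
  obtain ⟨IZ, hIZft, hIZs⟩ := exists_ft_support_eq (X := X₁) ⟨Z₁, hZ₁⟩ hZ₁c
  obtain ⟨Iinf, hIinfft, hIinfs⟩ := exists_ft_support_eq (X := X₁)
    ⟨(V₁ : Set X₁)ᶜ, V₁.2.isClosed_compl⟩ (by simpa using hV₁)
  have hIZs' : ∀ x : X₁, x ∈ IZ.support ↔ x ∈ Z₁ := fun x => by
    rw [← SetLike.mem_coe, hIZs]; rfl
  have hIinfs' : ∀ x : X₁, x ∈ Iinf.support ↔ x ∉ V₁ := fun x => by
    rw [← SetLike.mem_coe, hIinfs]; rfl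
  let W₂ : X₂.Opens := ⟨Z₂ᶜ, hZ₂.isOpen_compl⟩
  have hsq : ∀ {B Y : Scheme.{u}} (I : B.IdealSheafData) (f : Y ⟶ B) (y : Y),
      y ∈ (I.comap f).support ↔ f y ∈ I.support := by
    intro B Y I f y
    rw [← SetLike.mem_coe, Scheme.IdealSheafData.support_comap]
    rfl
  obtain ⟨N, hN⟩ := exists_pow_stalk_le (Iinf.comap q) (IZ.comap q)
    (isFiniteTypeIdeal_comap q Iinf hIinfft) W₂ hZ₂c (by
      rintro x ⟨hx1, hx2⟩
      rw [SetLike.mem_coe, hsq, hIZs'] at hx1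
      rw [SetLike.mem_coe, hsq, hIinfs']
      intro hqV
      exact hx2 (hYZ ⟨hx1, hqV⟩))
  refine ⟨IZ ⊔ Iinf ^ (N + 1), isFiniteTypeIdeal_sup _ _ hIZft (isFiniteTypeIdeal_pow _ hIinfft _),
    ?_, ?_⟩
  · intro x hx
    rw [Scheme.IdealSheafData.support_sup, Scheme.IdealSheafData.support_pow _ _ (Nat.succ_ne_zero N)] at hx
    exact ⟨(hIZs' x).mp hx.1, (hIinfs' x).mp hx.2⟩
  intro X₁' c hc z hz
  obtain ⟨hz1, hz2⟩ := hz
  by_contra hzZ₂
  have hcomm : pullback.fst q c ≫ q = pullback.snd q c ≫ c := pullback.condition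
  -- the image point in X₁ lies in Z₁ and not in V₁
  have hx₁ : (pullback.snd q c ≫ c) z ∈ Z₁ := by
    have h1 : (pullback.snd q c) z ∈ c.base ⁻¹' closure (Z₁ ∩ (V₁ : Set X₁)) :=
      (c.continuous.closure_preimage_subset _) hz1
    have h2 : closure (Z₁ ∩ (V₁ : Set X₁)) ⊆ Z₁ :=
      closure_minimal Set.inter_subset_left hZ₁
    exact h2 h1
  have hx₁' : (pullback.fst q c ≫ q) z ∈ Z₁ := hcomm ▸ hx₁
  have hb : (pullback.fst q c ≫ q) z ∉ V₁ := fun hV => hzZ₂ (hYZ ⟨hx₁', hV⟩)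
  -- stalk inequality on X₁'
  have hL6 := stalk_comap_le_of_mem_closure IZ (Iinf ^ (N + 1)) c hc.1 (Z₁ ∩ (V₁ : Set X₁))
    (fun x hx => (hIZs' x).mpr hx.1) (by
      rw [Set.disjoint_left]
      intro x hx hx2
      rw [SetLike.mem_coe, Scheme.IdealSheafData.support_sup,
        Scheme.IdealSheafData.support_pow _ _ (Nat.succ_ne_zero N)] at hx
      exact (hIinfs' x).mp hx.2 hx2.2) ((pullback.snd q c) z) hz1
  have hd : stalkIdeal (IZ.comap (pullback.fst q c ≫ q)) z ≤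
      stalkIdeal ((Iinf ^ (N + 1)).comap (pullback.fst q c ≫ q)) z := by
    rw [hcomm, Scheme.IdealSheafData.comap_comp, Scheme.IdealSheafData.comap_comp,
      stalkIdeal_comap (pullback.snd q c), stalkIdeal_comap (pullback.snd q c)]
    exact Ideal.map_mono hL6
  have he : stalkIdeal ((Iinf.comap q).comap (pullback.fst q c)) z ^ N ≤
      stalkIdeal ((IZ.comap q).comap (pullback.fst q c)) z := by
    rw [stalkIdeal_comap (pullback.fst q c), stalkIdeal_comap (pullback.fst q c), ← Ideal.map_pow]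
    exact Ideal.map_mono (hN _ hzZ₂)
  obtain ⟨𝔟, h𝔟⟩ : ∃ 𝔟, 𝔟 = stalkIdeal ((Iinf.comap q).comap (pullback.fst q c)) z := ⟨_, rfl⟩
  have hpow : stalkIdeal ((Iinf ^ (N + 1)).comap (pullback.fst q c ≫ q)) z = 𝔟 ^ (N + 1) := by
    rw [h𝔟, Scheme.IdealSheafData.comap_comp, stalkIdeal_comap (pullback.fst q c),
      stalkIdeal_comap q, stalkIdeal_pow, Ideal.map_pow, Ideal.map_pow, ← stalkIdeal_comap q,
      ← stalkIdeal_comap (pullback.fst q c)]
  have hf : 𝔟 ^ N ≤ 𝔟 ^ (N + 1) := by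
    rw [← h𝔟] at he
    refine he.trans ?_
    rw [← Scheme.IdealSheafData.comap_comp]
    refine hd.trans ?_
    rw [hpow]
  have hft𝔅 : BlowUp.IsFiniteTypeIdeal ((Iinf.comap q).comap (pullback.fst q c)) :=
    isFiniteTypeIdeal_comap _ _ (isFiniteTypeIdeal_comap _ _ hIinfft)
  have h𝔟fg : 𝔟.FG := by rw [h𝔟]; exact stalkIdeal_fg _ hft𝔅 z
  have h𝔟le : 𝔟 ≤ IsLocalRing.maximalIdeal ((pullback q c).presheaf.stalk z) := by
    rw [h𝔟]
    apply (mem_support_iff_stalkIdeal_le ((Iinf.comap q).comap (pullback.fst q c)) z).mp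
    rw [hsq (Iinf.comap q) (pullback.fst q c) z, hsq Iinf q, hIinfs']
    exact hb
  have h0 : 𝔟 ^ N = ⊥ := by
    apply Submodule.eq_bot_of_le_smul_of_le_jacobson_bot 𝔟 (𝔟 ^ N) (h𝔟fg.pow)
    · rw [smul_eq_mul, ← pow_succ']
      exact hf
    · rw [IsLocalRing.jacobson_eq_maximalIdeal ⊥ bot_ne_top]
      exact h𝔟le
  have h𝔅 : stalkIdeal (((Iinf.comap q).comap (pullback.fst q c)) ^ N) z = ⊥ := by
    rw [stalkIdeal_pow, ← h𝔟]; exact h0
  obtain ⟨O, hzO, hO⟩ := exists_nhds_stalkIdeal_eq_bot _ (isFiniteTypeIdeal_pow _ hft𝔅 N) z h𝔅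
  obtain ⟨u, huO, huU⟩ := mem_closure_iff.mp hz2 O O.2 hzO
  have hu1 : stalkIdeal ((Iinf.comap q).comap (pullback.fst q c)) u = ⊤ := by
    rw [stalkIdeal_eq_top_iff, hsq (Iinf.comap q) (pullback.fst q c) u, hsq Iinf q, hIinfs', not_not]
    exact hU huU
  have h3 := hO u huO
  rw [stalkIdeal_pow, hu1, Ideal.top_pow] at h3
  exact top_ne_bot h3


end Groth.Agent.S17392
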