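import Groth.Statements.S17393
import Mathlib
import Groth.Agent.Lib.Helper28.EffCartierOld
import Groth.Agent.Lib.Helper28.IdealComapOld
open Groth.Agent.Helper28.EffCartierOld Groth.Agent.Helper28.IdealComapOld

set_option autoImplicit false
universe u
open BlowUp

namespace Groth.Agent.S17393

open AlgebraicGeometry CategoryTheory Limits in
/-- Let X be any scheme, I and I' quasi-coherent ideals on X (of closed subschemes Y and Y'), b : X' → X
a blowing up of X in I + I' (the ideal of Y ∩ Y'), b' : Ỹ → Y a blowing up of Y = V(I) in the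
inverse image of I + I' and k : Ỹ → X' the morphism with k ≫ b = b' ≫ (Y → X), whose image is the
strict transform of Y. For an affine open V of X, a section s of I over V, and an affine open V' ⊆
b⁻¹(V) of X' which meets the image of k, the ideal of the inverse image ideal sheaf (I + I')·O_X' on
V' is not the principal ideal generated by the pullback of s. Equivalently the strict transform of Y
does not meet the open locus U(s) where s generates the (invertible) inverse image ideal; since the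
U(s) for s ranging over local sections of I and of I' cover X', the strict transform of Y lies in
the union of the U(s) with s a local section of I'. -/
theorem result
    {X X' Yt : Scheme.{u}} (𝓘 𝓘' : X.IdealSheafData) (b : X' ⟶ X) (hb : BlowUp.IsBlowUp b (𝓘 ⊔ 𝓘'))
    (b' : Yt ⟶ 𝓘.subscheme) (hb' : BlowUp.IsBlowUp b' ((𝓘 ⊔ 𝓘').comap 𝓘.subschemeι))
    (k : Yt ⟶ X') (hk : k ≫ b = b' ≫ 𝓘.subschemeι)
    (V : X.affineOpens) (s : Γ(X, V.1)) (hs : s ∈ 𝓘.ideal V)
    (V' : X'.affineOpens) (hV' : V'.1 ≤ b ⁻¹ᵁ V.1)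
    (hmeet : (Set.range (fun y => k y) ∩ (V'.1 : Set X')).Nonempty) :
    ((𝓘 ⊔ 𝓘').comap b).ideal V' ≠ Ideal.span {(b.appLE V.1 V'.1 hV').hom s} := by
  classical
  intro hprinc
  obtain ⟨x', ⟨y, hy⟩, hxV'⟩ := hmeet
  have hy' : k y = x' := hy
  set 𝓢 : X.IdealSheafData := 𝓘 ⊔ 𝓘' with h𝓢
  set φ := (b.appLE V.1 V'.1 hV').hom with hφ
  have h1 : (𝓢.comap b).ideal V' = Ideal.map φ (𝓢.ideal V) := ideal_comap b 𝓢 V V' hV'
  have hG : BlowUp.IsEffCartierIdeal (𝓢.comap (k ≫ b)) := by
    rw [hk, Scheme.IdealSheafData.comap_comp]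
    exact hb'.1
  have hJ0 : 𝓘.comap (k ≫ b) = ⊥ := by
    rw [hk, Scheme.IdealSheafData.comap_comp]
    have : 𝓘.comap 𝓘.subschemeι = ⊥ := by
      rw [eq_bot_iff, ← Scheme.IdealSheafData.le_map_iff_comap_le, Scheme.IdealSheafData.map_bot,
        Scheme.IdealSheafData.ker_subschemeι]
    rw [this, Scheme.IdealSheafData.comap_bot]
  have hyV : y ∈ k ⁻¹ᵁ V'.1 := by
    change k y ∈ V'.1
    rw [hy']; exact hxV'
  obtain ⟨W, hyW, e1, s', hs', hGs⟩ := exists_chart_le hG y _ hyV
  have e2 : W.1 ≤ (k ≫ b) ⁻¹ᵁ V.1 := by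
    intro z hz
    have : k z ∈ V'.1 := e1 hz
    have h := hV' this
    change (k ≫ b) z ∈ V.1
    rw [Scheme.Hom.comp_apply]
    exact h
  set ψ := (k.appLE V'.1 W.1 e1).hom with hψ
  have hcomp : ((k ≫ b).appLE V.1 W.1 e2).hom = ψ.comp φ := by
    have := Scheme.Hom.appLE_comp_appLE k b V.1 V'.1 W.1 hV' e1
    rw [hψ, hφ, ← CommRingCat.hom_comp, this]
  have h4 : Ideal.span {ψ (φ s)} = Ideal.span {s'} := by
    rw [← hGs, ideal_comap (k ≫ b) 𝓢 V W e2, hcomp, ← Ideal.map_map, ← h1, hprinc,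
      Ideal.map_span, Set.image_singleton]
  have h6 : ψ (φ s) = 0 := by
    have h : ψ (φ s) ∈ Ideal.map ψ (Ideal.map φ (𝓘.ideal V)) :=
      Ideal.mem_map_of_mem _ (Ideal.mem_map_of_mem _ hs)
    rw [Ideal.map_map, ← hcomp, ← ideal_comap (k ≫ b) 𝓘 V W e2, hJ0] at h
    simpa using h
  have h7 : s' = 0 := by
    have : s' ∈ Ideal.span {ψ (φ s)} := by rw [h4]; exact Ideal.mem_span_singleton_self s'
    rw [h6] at this
    simpa using this
  have h8 : (1 : Γ(Yt, W.1)) = 0 := by
    rw [h7] at hs'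
    exact (mem_nonZeroDivisors_iff_right.1 hs') 1 (mul_zero 1)
  have h9 : y ∈ Yt.basicOpen (1 : Γ(Yt, W.1)) := by
    rw [Scheme.basicOpen_of_isUnit _ isUnit_one]
    exact hyW
  rw [h8, Scheme.basicOpen_zero] at h9
  exact h9

end Groth.Agent.S17393
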