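import Groth.Statements.S1741
import Groth.Agent.Lib.Helper20.TorExtD

set_option autoImplicit false
universe u
open CategoryTheory
attribute [local instance] HasDerivedCategory.standard
open LocCoh

namespace Groth.Agent.S1741

open Groth.Agent.Lib.Helper20 in
theorem aux_iff (R : Type u) [CommRing R] (M M' : Type u) [AddCommGroup M] [Module R M]
    [AddCommGroup M'] [Module R M'] (α : M →ₗ[R] M') (e : ℕ) :
    (∀ (N : Type u) [AddCommGroup N] [Module R N]
      (φ : Dual.inD R M' ⟶ (Dual.inD R N)⟦((e : ℤ) + 1)⟧),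
      (DerivedCategory.singleFunctor (ModuleCat.{u} R) 0).map (ModuleCat.ofHom α) ≫ φ = 0) ↔
    TorExtA.PA (e + 1) (ModuleCat.ofHom α) := by
  constructor
  · intro h N x
    apply Abelian.Ext.ext
    rw [Abelian.Ext.comp_hom, Abelian.Ext.mk₀_hom, ShiftedHom.mk₀_comp]
    have h1 := h N x.hom
    rw [h1]
    simp
  · intro h N _ _ φ
    let φ' : ShiftedHom ((DerivedCategory.singleFunctor (ModuleCat.{u} R) 0).obj (ModuleCat.of R M'))
      ((DerivedCategory.singleFunctor (ModuleCat.{u} R) 0).obj (ModuleCat.of R N))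
      (((e + 1 : ℕ)) : ℤ) := φ
    let x : Abelian.Ext (ModuleCat.of R M') (ModuleCat.of R N) (e + 1) :=
      Abelian.Ext.homEquiv.symm φ'
    have hx : x.hom = φ' := Abelian.Ext.homEquiv.apply_symm_apply φ'
    have h1 := congrArg Abelian.Ext.hom (h (ModuleCat.of R N) x)
    rw [Abelian.Ext.comp_hom, Abelian.Ext.mk₀_hom, ShiftedHom.mk₀_comp, hx] at h1
    rw [show ((DerivedCategory.singleFunctor (ModuleCat.{u} R) 0).map (ModuleCat.ofHom α) ≫ φ) =
      ((DerivedCategory.singleFunctor (ModuleCat.{u} R) 0).map (ModuleCat.ofHom α) ≫ φ') from rfl, h1]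
    simp

theorem result (R : Type u) [CommRing R] [IsNoetherianRing R] (M M' : Type u) [AddCommGroup M] [Module R M] [Module.Finite R M] [AddCommGroup M'] [Module R M'] (α : M →ₗ[R] M') (e : ℕ) : (∀ (N : Type u) [AddCommGroup N] [Module R N] (φ : Dual.inD R M' ⟶ (Dual.inD R N)⟦((e : ℤ) + 1)⟧), (DerivedCategory.singleFunctor (ModuleCat.{u} R) 0).map (ModuleCat.ofHom α) ≫ φ = 0) ↔ (∀ (N : Type u) [AddCommGroup N] [Module R N], ((CategoryTheory.Tor (ModuleCat.{u} R) (e + 1)).map (ModuleCat.ofHom α)).app (ModuleCat.of R N) = 0) := by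
  rw [aux_iff R M M' α e, Groth.Agent.Lib.Helper20.TorExtD.main e M M' α]
  constructor
  · intro h N _ _
    exact h (ModuleCat.of R N)
  · intro h N
    exact h N

end Groth.Agent.S1741
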