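import Groth.Statements.S17441
import Groth.Agent.Lib.Helper13.LocFree
import Groth.Agent.Lib.Helper22.ArtFlat

set_option autoImplicit false
universe u
open CategoryTheory AlgebraicGeometry
open DefoSh

namespace Groth.Agent.S17441

/-- Let k be a field, X a scheme over k, E an O_X-module and A a local Artinian k-algebra with residue
field k. If D and D′ are deformations of E over A (O_X-modules with an action of A, flat over A
stalkwise, with reductions π, π′ to E whose stalkwise kernels are m_A times the stalk), then every
O_X-linear map φ : D.sheaf → D′.sheaf that commutes with the actions of A and satisfies φ ≫ π′ = π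
is an isomorphism. The printed remark is the first-order case A = k[ε]; this row states it for every
local Artinian k-algebra A with residue field k. -/
theorem result (k : Type u) [Field k] (X : Scheme.{u})
    [X.Over (Spec (CommRingCat.of k))] (E : X.Modules) (A : ArtFun.Art k k)
    (D D' : DefoSh.Defo E A) (φ : D.sheaf ⟶ D'.sheaf)
    (hact : ∀ a : A, D.act a ≫ φ = φ ≫ D'.act a) (hπ : φ ≫ D'.π = D.π) :
    IsIso φ := by
  apply Groth.Agent.Helper13.LocFree.isIso_of_stalk_bijective
  intro p
  letI iM := D.stalkMod p
  letI iM' := D'.stalkMod p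
  have hm := Groth.Agent.Helper22.ArtFlat.isNilpotent_maximalIdeal A
  let uu : ↑(D.sheaf.presheaf.stalk p) →ₗ[A] ↑(D'.sheaf.presheaf.stalk p) :=
    { toFun := RefHull.stalkMapₗ φ p
      map_add' := map_add _
      map_smul' := fun a v => by
        show RefHull.stalkMapₗ φ p (RefHull.stalkMapₗ (D.act a) p v) =
          RefHull.stalkMapₗ (D'.act a) p (RefHull.stalkMapₗ φ p v)
        rw [← stalkMapₗ_comp_apply, ← stalkMapₗ_comp_apply, hact a] }
  have hπ' : ∀ v, RefHull.stalkMapₗ D'.π p (uu v) = RefHull.stalkMapₗ D.π p v := by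
    intro v
    show RefHull.stalkMapₗ D'.π p (RefHull.stalkMapₗ φ p v) = _
    rw [← stalkMapₗ_comp_apply, hπ]
  have hkill : ∀ v ∈ IsLocalRing.maximalIdeal A • (⊤ : Submodule A ↑(D'.sheaf.presheaf.stalk p)),
      RefHull.stalkMapₗ D'.π p v = 0 := by
    intro v hv
    refine Submodule.smul_induction_on (p := fun v => RefHull.stalkMapₗ D'.π p v = 0) hv ?_ ?_
    · intro a ha w _
      show RefHull.stalkMapₗ D'.π p (RefHull.stalkMapₗ (D'.act a) p w) = 0
      rw [← stalkMapₗ_comp_apply, D'.act_π a ((ArtFun.Art.mem_maximalIdeal_iff A a).mp ha),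
        stalkMapₗ_zero_apply]
    · intro x y hx hy
      rw [map_add, hx, hy, add_zero]
  have hinj : Function.Injective uu := by
    haveI : Module.Flat A ↑(D'.sheaf.presheaf.stalk p) := D'.flat p
    apply Groth.Agent.Helper22.ArtFlat.injective_of_residue hm uu
    refine (Groth.Agent.Helper1.lTensor_quotient_injective_iff uu (IsLocalRing.maximalIdeal A)).mpr ?_
    intro v hv
    apply D.ker_le p v
    rw [← hπ']
    exact hkill _ hv
  have hsurj : Function.Surjective uu := by
    rw [← LinearMap.range_eq_top]
    apply Groth.Agent.Helper1.eq_top_of_sup_smul_eq_top_of_isNilpotent (IsLocalRing.maximalIdeal A) hm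
    rw [eq_top_iff]
    intro v' _
    obtain ⟨v, hv⟩ := D.surj p (RefHull.stalkMapₗ D'.π p v')
    have h0 : RefHull.stalkMapₗ D'.π p (v' - uu v) = 0 := by
      rw [map_sub, hπ', hv, sub_self]
    have : v' = uu v + (v' - uu v) := by abel
    rw [this]
    exact Submodule.add_mem_sup (LinearMap.mem_range_self uu v) (D'.ker_le p _ h0)
  exact ⟨hinj, hsurj⟩

end Groth.Agent.S17441
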