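import Groth.Statements.S17444
import Mathlib

set_option autoImplicit false
universe u v
open SSRed

namespace Groth.Agent.S17444

/-- Let K be a field of characteristic zero, V a K-vector space and g a K-linear endomorphism of V such
that g - 1 is nilpotent (a unipotent automorphism). Then for every integer n > 0 the endomorphisms
gⁿ - 1 and g - 1 have the same kernel: a vector fixed by gⁿ is fixed by g. (The published statement
assumes V finite-dimensional; this row allows any V.) -/
theorem result (K : Type u) (V : Type v) [Field K] [CharZero K]
    [AddCommGroup V] [Module K V] (g : Module.End K V) (hg : IsNilpotent (g - 1)) (n : ℕ) (hn : 0 < n) :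
    LinearMap.ker (g ^ n - 1) = LinearMap.ker (g - 1) := by
  classical
  set S : Module.End K V := ∑ i ∈ Finset.range n, g ^ i with hS
  have h1 : g ^ n - 1 = S * (g - 1) := (geom_sum_mul g n).symm
  have hnil : IsNilpotent (S - (n : Module.End K V)) := by
    let p : Polynomial K := ∑ i ∈ Finset.range n, Polynomial.X ^ i
    have hroot : (p - Polynomial.C (n : K)).IsRoot 1 := by
      simp [p, Polynomial.eval_finsetSum]
    obtain ⟨q, hq⟩ := Polynomial.dvd_iff_isRoot.mpr hroot
    have h2 : S - (n : Module.End K V) = (g - 1) * Polynomial.aeval g q := by
      have := congrArg (Polynomial.aeval g) hq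
      simpa [p, map_sum] using this
    rw [h2]
    refine Commute.isNilpotent_mul_right ?_ hg
    have : g - 1 = Polynomial.aeval g (Polynomial.X - Polynomial.C (1 : K)) := by simp
    rw [this]
    exact (Commute.all _ _).map (Polynomial.aeval g)
  have hunit : IsUnit S := by
    have hn0 : IsUnit ((n : Module.End K V)) := by
      have : ((n : K)) ≠ 0 := by exact_mod_cast hn.ne'
      have h3 : (n : Module.End K V) = algebraMap K (Module.End K V) (n : K) := by simp
      rw [h3]
      exact (IsUnit.mk0 _ this).map (algebraMap K (Module.End K V))
    have := hnil.isUnit_add_left_of_commute hn0 (by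
      have : Commute (S - (n : Module.End K V)) (n : Module.End K V) := (Nat.cast_commute n _).symm
      exact this)
    simpa using this
  rw [h1]
  ext v
  simp only [LinearMap.mem_ker, Module.End.mul_apply]
  constructor
  · intro h
    obtain ⟨u, hu⟩ := hunit
    have := congrArg (fun w => (↑u⁻¹ : Module.End K V) w) h
    simp only [map_zero] at this
    rw [← hu, ← Module.End.mul_apply, Units.inv_mul] at this
    simpa using this
  · intro h
    rw [h]; simp

end Groth.Agent.S17444
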