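import Groth.Statements.S17471
import Mathlib

set_option autoImplicit false
universe u v w x
open RootCh

namespace Groth.Agent.S17471

/-- Let Φ be a finite, reduced, crystallographic, irreducible root system with a base, and θ a positive
root such that θ + β is a root for no positive root β (so θ is the highest root). Then Σ_{β>0} ⟨β,
θ^∨⟩² = 2 + Σ_{β>0} ⟨β, θ^∨⟩ = 2(1 + ⟨ρ, θ^∨⟩), ρ being half the sum of the positive roots; in the
source the left side is the index of the adjoint representation obtained from its formal character,
and 1 + ⟨ρ, θ^∨⟩ is the dual Coxeter number. -/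
theorem result
    {ι : Type u} {R : Type v} {M : Type w} {N : Type x}
    [Field R] [LinearOrder R] [IsStrictOrderedRing R]
    [AddCommGroup M] [Module R M] [AddCommGroup N] [Module R N] [Fintype ι]
    (P : RootPairing ι R M N) [P.IsRootSystem] [P.IsCrystallographic] [P.IsReduced]
    [P.IsIrreducible] (b : P.Base) (θ : ι) (hθ : b.IsPos θ)
    (hmax : ∀ i : ι, b.IsPos i → P.root θ + P.root i ∉ Set.range P.root) :
    ∑ i ∈ Finset.univ.filter (fun i => 0 < b.height i), P.pairing i θ ^ 2 =
      2 + ∑ i ∈ Finset.univ.filter (fun i => 0 < b.height i), P.pairing i θ := by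
  classical
  have hp : ∀ i j, ((P.pairingIn ℤ i j : ℤ) : R) = P.pairing i j := by
    intro i j
    rw [← P.algebraMap_pairingIn ℤ, eq_intCast]
  have hnegpos : ∀ j : ι, b.IsPos j → ¬ b.IsPos (P.reflectionPerm j j) := by
    intro j hj hj'
    have h1 : b.height (P.reflectionPerm j j) = - b.height j := b.height_reflectionPerm_self j
    rw [RootPairing.Base.isPos_iff] at hj hj'
    omega
  have hrootneg : ∀ j : ι, P.root (P.reflectionPerm j j) = - P.root j := by
    intro j
    rw [P.root_reflectionPerm, P.reflection_apply_self]
  have key : ∀ i : ι, b.IsPos i → i ≠ θ → P.pairingIn ℤ i θ = 0 ∨ P.pairingIn ℤ i θ = 1 := by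
    intro i hi hne
    have hroot_ne : P.root i ≠ P.root θ := fun h => hne (P.root.injective h)
    have hroot_ne' : P.root i ≠ -P.root θ := by
      intro h
      have : i = P.reflectionPerm θ θ := P.root.injective (by rw [h, hrootneg])
      rw [this] at hi
      exact hnegpos θ hθ hi
    have hmem := P.pairingIn_pairingIn_mem_set_of_isCrystal_of_isRed' i θ hroot_ne hroot_ne'
    have hnn : 0 ≤ P.pairingIn ℤ i θ := by
      by_contra hneg
      push Not at hneg
      have := P.root_add_root_mem_of_pairingIn_neg hneg hroot_ne'
      rw [add_comm] at this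
      exact hmax i hi this
    by_contra hcon
    push Not at hcon
    have h2 : 2 ≤ P.pairingIn ℤ i θ := by omega
    simp only [Set.mem_insert_iff, Set.mem_singleton_iff, Prod.mk.injEq] at hmem
    have h1 : P.pairingIn ℤ θ i = 1 := by omega
    have hδroot : P.root (P.reflectionPerm i θ) = P.root θ - P.root i := by
      rw [P.root_reflectionPerm, P.reflection_apply_root, ← hp, h1]; simp
    rcases RootPairing.Base.IsPos.or_neg b (P.reflectionPerm i θ) with hδ | hδ
    · -- δ positive
      have hm : P.pairingIn ℤ i θ = 2 ∨ P.pairingIn ℤ i θ = 3 := by omega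
      rcases hm with hm | hm
      · apply hmax _ hδ
        rw [hδroot]
        have : P.root θ + (P.root θ - P.root i) = - P.root (P.reflectionPerm θ i) := by
          rw [P.root_reflectionPerm, P.reflection_apply_root, ← hp, hm]
          push_cast
          module
        rw [this, ← hrootneg]
        exact Set.mem_range_self _
      · have hpδ : P.pairingIn ℤ (P.reflectionPerm i θ) θ = -1 := by
          apply Int.cast_injective (α := R)
          rw [hp, ← P.root_coroot_eq_pairing, hδroot, map_sub, LinearMap.sub_apply,
            P.root_coroot_eq_pairing, P.root_coroot_eq_pairing, P.pairing_same, ← hp i θ, hm]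
          push_cast
          ring
        have hne' : P.root (P.reflectionPerm i θ) ≠ -P.root θ := by
          intro h
          have : P.reflectionPerm i θ = P.reflectionPerm θ θ :=
            P.root.injective (by rw [h, hrootneg])
          rw [this] at hδ
          exact hnegpos θ hθ hδ
        have := P.root_add_root_mem_of_pairingIn_neg (by rw [hpδ]; norm_num) hne'
        rw [add_comm] at this
        exact hmax _ hδ this
    · -- -δ positive
      have hδ' : b.IsPos (P.reflectionPerm (P.reflectionPerm i θ) (P.reflectionPerm i θ)) := hδ
      apply hmax _ hδ'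
      have : P.root θ + P.root (P.reflectionPerm (P.reflectionPerm i θ) (P.reflectionPerm i θ))
          = P.root i := by
        rw [hrootneg, hδroot]; abel
      rw [this]
      exact Set.mem_range_self _
  set F := Finset.univ.filter (fun i => 0 < b.height i) with hF
  have hθF : θ ∈ F := by
    rw [hF, Finset.mem_filter]
    exact ⟨Finset.mem_univ _, hθ⟩
  rw [← Finset.add_sum_erase F _ hθF, ← Finset.add_sum_erase F _ hθF]
  have hsum : ∑ i ∈ F.erase θ, P.pairing i θ ^ 2 = ∑ i ∈ F.erase θ, P.pairing i θ := by
    apply Finset.sum_congr rfl
    intro i hi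
    rw [Finset.mem_erase, hF, Finset.mem_filter] at hi
    have hpos : b.IsPos i := hi.2.2
    rcases key i hpos hi.1 with h | h
    · rw [← hp, h]; simp
    · rw [← hp, h]; simp
  rw [hsum, P.pairing_same]; ring

end Groth.Agent.S17471
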