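import Groth.Statements.S17473
import Groth.Agent.Lib.Helper7.FacB

set_option autoImplicit false
universe u
open CategoryTheory MonoidalCategory CartesianMonoidalCategory MonObj GrpObj AlgebraicGeometry CategoryTheory.Limits
open AlgGrp

namespace Groth.Agent.S17473

/-- Let k be a field, G a k-group scheme locally of finite type, X and Y separated k-schemes, f : X → Y
a proper k-morphism such that O_Y → f_*O_X is an isomorphism (on sections over every open subset of
Y), and a an action of G on X. The following are equivalent: (i) some action of G on Y makes f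
equivariant; (ii) X ×_Y X is stable under G acting diagonally on X × X, i.e. for every k-scheme T,
every T-point g of G and all T-points x₁, x₂ of X with f x₁ = f x₂ one has f (g · x₁) = f (g · x₂);
(iii) the underlying map of the composite G × X → X → Y is constant on the topological fibres of G ×
X → G × Y. (The published text works over an algebraically closed field; any field is allowed here.) -/
theorem result (k : Type u) [Field k]
    (G X Y : Over (Spec (CommRingCat.of k))) [GrpObj G] [LocallyOfFiniteType G.hom]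
    [IsSeparated X.hom] [IsSeparated Y.hom]
    (f : X ⟶ Y) [IsProper f.left] (hf : ∀ U : Y.left.Opens, IsIso (f.left.app U))
    (a : AlgGrp.Action G X) :
    [∃ b : AlgGrp.Action G Y, (G ◁ f) ≫ b.act = a.act ≫ f,
      ∀ (T : Over (Spec (CommRingCat.of k))) (g : T ⟶ G) (x₁ x₂ : T ⟶ X),
        x₁ ≫ f = x₂ ≫ f → lift g x₁ ≫ a.act ≫ f = lift g x₂ ≫ a.act ≫ f,
      ∀ p q : ↥(G ⊗ X).left, (G ◁ f).left.base p = (G ◁ f).left.base q →
        (a.act ≫ f).left.base p = (a.act ≫ f).left.base q].TFAE := by
  tfae_have 1 → 2 := by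
    rintro ⟨b, hb⟩ T g x₁ x₂ h
    have e1 : ∀ x : T ⟶ X, lift g x ≫ a.act ≫ f = lift g (x ≫ f) ≫ b.act := by
      intro x
      rw [← hb, ← Category.assoc]
      congr 1
      apply CartesianMonoidalCategory.hom_ext <;> simp
    rw [e1, e1, h]
  tfae_have 2 → 3 := by
    intro h p q hpq
    obtain ⟨w, hw1, hw2⟩ := Scheme.Pullback.exists_preimage_pullback p q hpq
    have hwX : (G ⊗ X).hom = (G ◁ f).left ≫ (G ⊗ Y).hom := (Over.w (G ◁ f)).symm
    let T : Over (Spec (CommRingCat.of k)) :=
      Over.mk (pullback.fst (G ◁ f).left (G ◁ f).left ≫ (G ⊗ X).hom)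
    let u₁ : T ⟶ G ⊗ X := Over.homMk (pullback.fst (G ◁ f).left (G ◁ f).left) rfl
    let u₂ : T ⟶ G ⊗ X := Over.homMk (pullback.snd (G ◁ f).left (G ◁ f).left) (by
      show pullback.snd (G ◁ f).left (G ◁ f).left ≫ (G ⊗ X).hom =
        pullback.fst (G ◁ f).left (G ◁ f).left ≫ (G ⊗ X).hom
      rw [hwX, ← Category.assoc, ← Category.assoc, pullback.condition])
    have hu : u₁ ≫ (G ◁ f) = u₂ ≫ (G ◁ f) := by
      apply Over.OverMorphism.ext
      show pullback.fst (G ◁ f).left (G ◁ f).left ≫ (G ◁ f).left =
        pullback.snd (G ◁ f).left (G ◁ f).left ≫ (G ◁ f).left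
      exact pullback.condition
    have hfst : u₂ ≫ fst G X = u₁ ≫ fst G X := by
      have := congrArg (· ≫ fst G Y) hu
      simpa using this.symm
    have hsnd : (u₁ ≫ snd G X) ≫ f = (u₂ ≫ snd G X) ≫ f := by
      have := congrArg (· ≫ snd G Y) hu
      simpa using this
    have e1 : lift (u₁ ≫ fst G X) (u₁ ≫ snd G X) = u₁ := by
      apply CartesianMonoidalCategory.hom_ext <;> simp
    have e2 : lift (u₁ ≫ fst G X) (u₂ ≫ snd G X) = u₂ := by
      apply CartesianMonoidalCategory.hom_ext
      · simp [hfst]
      · simp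
    have key := h T (u₁ ≫ fst G X) (u₁ ≫ snd G X) (u₂ ≫ snd G X) hsnd
    rw [e1, e2] at key
    have key2 := congrArg (fun m => m.left.base w) key
    simp only [Over.comp_left, Scheme.Hom.comp_base, TopCat.comp_app] at key2
    have h1 : u₁.left.base w = p := hw1
    have h2 : u₂.left.base w = q := hw2
    rw [h1, h2] at key2
    simpa using key2
  tfae_have 3 → 1 := by
    intro h
    obtain ⟨ψ, hψ⟩ := Groth.Agent.Helper7.FacA.exists_factor_whiskerLeft G f hf (a.act ≫ f) h
    have := Groth.Agent.Helper7.FacA.epi_whiskerLeft (𝟙_ (Over (Spec (CommRingCat.of k)))) f hf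
    have := Groth.Agent.Helper7.FacA.epi_whiskerLeft (G ⊗ G) f hf
    refine ⟨⟨ψ, ?_, ?_⟩, hψ⟩
    · rw [← cancel_epi (𝟙_ (Over (Spec (CommRingCat.of k))) ◁ f), ← Category.assoc,
        MonoidalCategory.whisker_exchange, Category.assoc, hψ, ← Category.assoc, a.one_act,
        MonoidalCategory.leftUnitor_naturality]
    · rw [← cancel_epi ((G ⊗ G) ◁ f), ← Category.assoc,
        MonoidalCategory.whisker_exchange, Category.assoc, hψ, ← Category.assoc, a.mul_act,
        ← Category.assoc ((G ⊗ G) ◁ f), MonoidalCategory.associator_naturality_right,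
        Category.assoc, Category.assoc, Category.assoc,
        ← Category.assoc (G ◁ G ◁ f), ← MonoidalCategory.whiskerLeft_comp, hψ,
        MonoidalCategory.whiskerLeft_comp, Category.assoc, hψ]
  tfae_finish

end Groth.Agent.S17473
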