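import Groth.Statements.S1750
import Groth.Agent.Lib.Helper8.Matlis5a
import Groth.Agent.S8925

set_option autoImplicit false
universe u
open InjHull

namespace Groth.Agent.S1750

open IsLocalRing Groth.Agent.Helper8.Matlis


/-- Let R → S be a flat local homomorphism of Noetherian local rings with m_R S = m_S inducing a
bijection on residue fields. If κ_S → E is an injective hull of the residue field of S over S, then
E regarded as an R-module is an injective hull of the residue field of R (for a suitable R-linear
map κ_R → E). -/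
theorem result (R S : Type u) [CommRing R] [CommRing S] [IsLocalRing R] [IsLocalRing S] [IsNoetherianRing R] [IsNoetherianRing S] [Algebra R S] [IsLocalHom (algebraMap R S)] [Module.Flat R S] (hm : (IsLocalRing.maximalIdeal R).map (algebraMap R S) = IsLocalRing.maximalIdeal S) (hk : Function.Bijective (IsLocalRing.ResidueField.map (algebraMap R S))) (E : Type u) [AddCommGroup E] [Module S E] [Module R E] [IsScalarTower R S E] (f : IsLocalRing.ResidueField S →ₗ[S] E) (hf : InjHull.IsInjectiveHull f) : ∃ g : IsLocalRing.ResidueField R →ₗ[R] E, InjHull.IsInjectiveHull g := by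
  have hinjS : Module.Injective S E := hf.isInjective
  have hinjR : Module.Injective R E := Groth.Agent.S8925.result R S E
  have htorsS := isPowerTorsion hf.toIsEssentialInj
  have hsmul : ∀ (a : R) (e : E), a • e = algebraMap R S a • e := fun a e => by
    rw [algebraMap_smul]
  have htorsR : LocCoh.IsPowerTorsion (maximalIdeal R) E := by
    intro e
    obtain ⟨n, hn⟩ := htorsS e
    refine ⟨n, fun a ha => ?_⟩
    rw [hsmul]
    apply hn
    rw [← hm, ← Ideal.map_pow]
    exact Ideal.mem_map_of_mem _ ha
  -- socle over `R` is socle over `S`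
  have hsoc : ∀ e : E, (∀ b ∈ maximalIdeal R, b • e = 0) → ∀ s ∈ maximalIdeal S, s • e = 0 := by
    intro e he s hs
    have hle : Ideal.map (algebraMap R S) (maximalIdeal R) ≤ Ideal.torsionOf S E e := by
      rw [Ideal.map_le_iff_le_comap]
      intro a ha
      rw [Ideal.mem_comap, Ideal.mem_torsionOf_iff, ← hsmul]
      exact he a ha
    rw [hm] at hle
    exact (Ideal.mem_torsionOf_iff _ _).1 (hle hs)
  have he₀ : ∀ b ∈ maximalIdeal R, b • f 1 = 0 := by
    intro b hb
    rw [hsmul, ← map_smul]
    have : algebraMap R S b • (1 : ResidueField S) = 0 := by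
      apply residue_smul_eq_zero
      rw [← hm]
      exact Ideal.mem_map_of_mem _ hb
    rw [this, map_zero]
  have hne : f 1 ≠ 0 := by
    intro h0
    have := hf.injective (h0.trans (map_zero f).symm)
    exact one_ne_zero this
  refine ⟨ofSocle (f 1) he₀, isInjectiveHull_of_socle_cyclic hinjR htorsR (f 1) he₀ hne ?_⟩
  intro e' he' hne'
  obtain ⟨c', rfl⟩ := mem_range_of_maximalIdeal_smul_eq_zero hf.toIsEssentialInj e' (hsoc e' he')
  have hc' : c' ≠ 0 := by
    intro h0
    apply hne'
    rw [h0, map_zero]
  obtain ⟨d, hd⟩ := hk.2 c'⁻¹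
  obtain ⟨b, rfl⟩ := IsLocalRing.residue_surjective d
  refine ⟨b, ?_⟩
  rw [hsmul, ← map_smul]
  congr 1
  rw [Algebra.smul_def, ResidueField.algebraMap_eq]
  have : residue S (algebraMap R S b) = c'⁻¹ := by
    rw [← hd]
    rfl
  rw [this, inv_mul_cancel₀ hc']

end Groth.Agent.S1750
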