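import Groth.Statements.S17530
import Mathlib
import Groth.Agent.Lib.Helper29.Reynolds

set_option autoImplicit false
universe u
open GLin

namespace Groth.Agent.S17530

/-- Let `k` be a field, `H` a commutative Hopf algebra of finite type over `k` which is linearly
reductive (every finite-dimensional comodule semisimple; `G = Spec H`), `A` a commutative
`k`-algebra of finite type with a coaction of `H` that is an algebra map (an action of `G` on `Spec
A`), and `M` a finitely generated `A`-module with an `H`-coaction compatible with the module
structure and with the coaction on `A` (a `G`-equivariant coherent module on `Spec A`). Then the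
invariants `M^G` form a finitely generated module over the ring of invariants `A^G`. (The published
corollary is stated over an algebraically closed field; it is the affine case of a statement about
good moduli spaces valid over any Noetherian base, and is stated here over any field.) -/
theorem result
    (k : Type u) [Field k] (H : Type u) [CommRing H] [HopfAlgebra k H] [Algebra.FiniteType k H]
    (hG : HopfRep.IsLinearlyReductive k H)
    (A : Type u) [CommRing A] [Algebra k A] [Algebra.FiniteType k A]
    [HopfRep.Comod k H A] [GLin.IsCoactAlg k H A]
    (M : Type u) [AddCommGroup M] [Module k M] [Module A M] [IsScalarTower k A M] [Module.Finite A M]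
    [HopfRep.Comod k H M] [TameAct.IsHopfMod k H A M] :
    ∃ s : Finset M, (↑s : Set M) ⊆ ↑(HopfRep.fixedPts k H M) ∧
      (↑(HopfRep.fixedPts k H M) : Set M) ⊆
        ↑(Submodule.span ↥(GLin.invariants k H A) (↑s : Set M)) := by
  classical
  obtain ⟨E, hE⟩ := Groth.Agent.Helper29.Reynolds.exists_reynolds (A := H) A hG
  obtain ⟨EM, hEM⟩ := Groth.Agent.Helper29.Reynolds.exists_reynolds (A := H) M hG
  haveI : IsNoetherianRing A := Algebra.FiniteType.isNoetherianRing k A
  haveI : IsNoetherian A M := isNoetherian_of_isNoetherianRing_of_finite A M
  have hfg : (Submodule.span A ((HopfRep.fixedPts k H M : Submodule k M) : Set M)).FG :=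
    IsNoetherian.noetherian _
  obtain ⟨s, hs1, hs2⟩ := (Submodule.fg_span_iff_fg_span_finset_subset _).1 hfg
  refine ⟨s, hs1, ?_⟩
  intro m hm
  -- Reynolds identity
  have hR : ∀ (x : M), x ∈ HopfRep.fixedPts k H M → ∀ a : A, EM (a • x) = E a • x := by
    intro x hx a
    have hu : Hoch.IsComodHom H ((LinearMap.toSpanSingleton A M x).restrictScalars k) := by
      apply Groth.Agent.Helper29.H12Copy.isComodHom_of_apply
      intro a
      have hx' : HopfRep.Comod.coact (k := k) (A := H) x = x ⊗ₜ[k] (1 : H) := hx
      change HopfRep.Comod.coact (k := k) (A := H) (a • x) = _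
      rw [TameAct.IsHopfMod.coact_smul (k := k) (A := H) (B := A), hx']
      generalize HopfRep.Comod.coact (k := k) (A := H) a = t
      induction t using TensorProduct.induction_on with
      | zero => simp
      | tmul b h => rw [TameAct.hmSMul_tmul, mul_one, LinearMap.rTensor_tmul]; rfl
      | add t₁ t₂ h₁ h₂ => rw [map_add, LinearMap.add_apply, h₁, h₂, map_add]
    exact LinearMap.congr_fun
      (Groth.Agent.Helper29.Reynolds.reynolds_comm hG hE hEM _ hu) a
  have hmN : m ∈ Submodule.span A (s : Set M) := by
    rw [← hs2]; exact Submodule.subset_span hm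
  obtain ⟨c, -, hc⟩ := Submodule.mem_span_finset.1 hmN
  have hEm : EM m = m := (hEM.2.2 m).2 hm
  rw [SetLike.mem_coe, ← hEm, ← hc, map_sum]
  refine Submodule.sum_mem _ fun x hx => ?_
  rw [hR x (hs1 hx) (c x)]
  have h2 : E (c x) • x =
      (⟨E (c x), hE.apply_mem (c x)⟩ : ↥(GLin.invariants k H A)) • x := rfl
  rw [h2]
  exact Submodule.smul_mem _ _ (Submodule.subset_span hx)

end Groth.Agent.S17530
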