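import Groth.Statements.S17536
import Mathlib

set_option autoImplicit false
universe u v w
open W4c5adicflatcompl
open CAlg

namespace Groth.Agent.S17536

/-- If the A-module M is I-adically separated then so is the module of I-adically decaying functions
from a set Z to M. -/
theorem result {A : Type u} [CommRing A] (I : Ideal A) (Z : Type v)
    (M : Type w) [AddCommGroup M] [Module A M] [IsHausdorff I M] :
    IsHausdorff I (decaying I Z M) := by
  refine ⟨fun f hf => ?_⟩
  apply Subtype.ext
  funext z
  let ev : decaying I Z M →ₗ[A] M := (LinearMap.proj z).comp (decaying I Z M).subtype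
  have hev : ∀ n : ℕ, (I ^ n • ⊤ : Submodule A (decaying I Z M)) ≤
      Submodule.comap ev (I ^ n • ⊤ : Submodule A M) := by
    intro n
    rw [← Submodule.map_le_iff_le_comap, Submodule.map_smul'']
    exact Submodule.smul_mono le_rfl le_top
  apply IsHausdorff.haus (inferInstance : IsHausdorff I M) (ev f)
  intro n
  rw [SModEq.zero]
  exact hev n (SModEq.zero.mp (hf n))

end Groth.Agent.S17536
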