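import Groth.Statements.S17538
import Mathlib

set_option autoImplicit false
universe u v
open CAlg

namespace Groth.Agent.S17538

/-- For a commutative ring A, an ideal I and an A-module M, the canonical map from the I-adic completion
M^ to the I-adic completion of M^ admits an A-linear retraction (it is a split injection). (That M^
is I-adically separated is standard.) -/
theorem result {A : Type u} [CommRing A] (I : Ideal A)
    (M : Type v) [AddCommGroup M] [Module A M] :
    ∃ ψ : AdicCompletion I (AdicCompletion I M) →ₗ[A] AdicCompletion I M,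
      ψ ∘ₗ AdicCompletion.of I (AdicCompletion I M) = LinearMap.id := by
  let ebar : ∀ n : ℕ, (AdicCompletion I M ⧸ (I ^ n • ⊤ : Submodule A (AdicCompletion I M))) →ₗ[A]
      M ⧸ (I ^ n • ⊤ : Submodule A M) := fun n =>
    Submodule.liftQ _ (AdicCompletion.eval I M n) (AdicCompletion.pow_smul_top_le_ker_eval I n)
  have hebar : ∀ (n : ℕ) (x : AdicCompletion I M),
      ebar n (Submodule.Quotient.mk x) = x.val n := fun n x => rfl
  let f : ∀ n : ℕ, AdicCompletion I (AdicCompletion I M) →ₗ[A] M ⧸ (I ^ n • ⊤ : Submodule A M) :=
    fun n => (ebar n) ∘ₗ AdicCompletion.eval I (AdicCompletion I M) n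
  have hcompat : ∀ {m n : ℕ} (hle : m ≤ n), AdicCompletion.transitionMap I M hle ∘ₗ f n = f m := by
    intro m n hle
    refine LinearMap.ext fun y => ?_
    simp only [f, LinearMap.comp_apply, AdicCompletion.eval_apply]
    obtain ⟨x, hx⟩ := Submodule.Quotient.mk_surjective _ (y.val n)
    have hm : y.val m = Submodule.Quotient.mk x := by
      rw [← AdicCompletion.transitionMap_comp_eval_apply I _ hle y, ← hx]
      rfl
    rw [← hx, hm, hebar, hebar]
    exact AdicCompletion.transitionMap_comp_eval_apply I M hle x
  refine ⟨AdicCompletion.lift I f hcompat, ?_⟩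
  refine LinearMap.ext fun x => ?_
  apply AdicCompletion.ext
  intro n
  simp only [LinearMap.comp_apply, AdicCompletion.eval_lift_apply, LinearMap.id_apply, f,
    AdicCompletion.eval_apply]
  rw [AdicCompletion.of_apply]
  exact hebar n x

end Groth.Agent.S17538
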