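import Groth.Statements.S17541
import Mathlib

set_option autoImplicit false
universe u v w
open W4c5adicflatcompl
open CAlg

namespace Groth.Agent.S17541

/-- Over a Noetherian ring A which is I-adically complete, for a finitely generated A-module M, a
submodule N and a set Z, a function Z → N decays I-adically in N exactly when it decays I-adically
in M (decaying functions into N are the decaying functions into M with values in N). -/
theorem result {A : Type u} [CommRing A] [IsNoetherianRing A] (I : Ideal A)
    [IsAdicComplete I A] (Z : Type v) (M : Type w) [AddCommGroup M] [Module A M]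
    [Module.Finite A M] (N : Submodule A M) (f : Z → N) :
    f ∈ decaying I Z N ↔ (fun z => (f z : M)) ∈ decaying I Z M := by
  have hmap : ∀ n : ℕ, Submodule.map N.subtype (I ^ n • (⊤ : Submodule A N)) = I ^ n • N := by
    intro n
    rw [Submodule.map_smul'', Submodule.map_subtype_top]
  have hiff : ∀ (n : ℕ) (x : N), x ∈ (I ^ n • ⊤ : Submodule A N) ↔ (x : M) ∈ I ^ n • N := by
    intro n x
    rw [← hmap n]
    constructor
    · intro hx
      exact Submodule.mem_map_of_mem hx
    · rintro ⟨y, hy, hyx⟩
      have : y = x := Subtype.val_injective hyx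
      rwa [← this]
  rw [mem_decaying_iff, mem_decaying_iff]
  constructor
  · intro h n
    refine (h n).subset ?_
    intro z hz hz'
    apply hz
    have h1 : (f z : M) ∈ I ^ n • N := (hiff n (f z)).1 hz'
    exact Submodule.smul_mono le_rfl le_top h1
  · intro h n
    obtain ⟨k, hk⟩ := Ideal.exists_pow_inf_eq_pow_smul I N
    refine (h (n + k)).subset ?_
    intro z hz hz'
    apply hz
    rw [hiff n]
    have h1 : (f z : M) ∈ I ^ (n + k) • ⊤ ⊓ N := ⟨hz', (f z).2⟩
    rw [hk (n + k) (Nat.le_add_left _ _), Nat.add_sub_cancel] at h1
    exact Submodule.smul_mono le_rfl inf_le_right h1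

end Groth.Agent.S17541
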