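import Groth.Statements.S17542
import Mathlib

set_option autoImplicit false
universe u v w
open W4c5adicflatcompl
open CAlg

namespace Groth.Agent.S17542

/-- Over a Noetherian ring A which is I-adically complete, for a surjection φ : M → M'' of A-modules
with M finitely generated and a set Z, every I-adically decaying function Z → M'' is the composite
of φ with an I-adically decaying function Z → M. (This is the right exactness of the
decaying-functions functor on finitely generated modules; left exactness is the statement about
submodules.) -/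
theorem result {A : Type u} [CommRing A] [IsNoetherianRing A] (I : Ideal A)
    [IsAdicComplete I A] (Z : Type v) {M : Type w} {M'' : Type w} [AddCommGroup M] [Module A M]
    [Module.Finite A M] [AddCommGroup M''] [Module A M''] (φ : M →ₗ[A] M'')
    (hφ : Function.Surjective φ) (g : Z → M'') (hg : g ∈ decaying I Z M'') :
    ∃ f : Z → M, f ∈ decaying I Z M ∧ ∀ z, φ (f z) = g z := by
  have hfin : Module.Finite A M'' := Module.Finite.of_surjective φ hφ
  have hjac : I ≤ (⊥ : Ideal A).jacobson := IsAdicComplete.le_jacobson_bot I
  have hkrull : (⨅ i : ℕ, I ^ i • ⊤ : Submodule A M'') = ⊥ :=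
    Ideal.iInf_pow_smul_eq_bot_of_le_jacobson I hjac
  have hmap : ∀ n : ℕ, Submodule.map φ (I ^ n • (⊤ : Submodule A M)) = I ^ n • ⊤ := by
    intro n
    rw [Submodule.map_smul'', Submodule.map_top, LinearMap.range_eq_top.2 hφ]
  have hanti : ∀ {m n : ℕ}, m ≤ n → ∀ (P : Type w) [AddCommGroup P] [Module A P],
      (I ^ n • ⊤ : Submodule A P) ≤ I ^ m • ⊤ := by
    intro m n hmn P _ _
    exact Submodule.smul_mono (Ideal.pow_le_pow_right hmn) le_rfl
  have key : ∀ z : Z, ∃ m : M, φ m = g z ∧
      ∀ n : ℕ, g z ∈ (I ^ (n + 1) • ⊤ : Submodule A M'') → m ∈ (I ^ n • ⊤ : Submodule A M) := by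
    intro z
    by_cases hall : ∀ n : ℕ, g z ∈ (I ^ n • ⊤ : Submodule A M'')
    · have h0 : g z ∈ (⨅ i : ℕ, I ^ i • ⊤ : Submodule A M'') := by
        rw [Submodule.mem_iInf]
        exact hall
      rw [hkrull, Submodule.mem_bot] at h0
      exact ⟨0, by rw [map_zero, h0], fun n _ => Submodule.zero_mem _⟩
    · push Not at hall
      classical
      have hn0spec := Nat.find_spec hall
      have hn0min := fun {k : ℕ} (hk : k < Nat.find hall) => Nat.find_min hall hk
      set n0 := Nat.find hall with hn0
      have hn0pos : n0 ≠ 0 := by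
        intro h
        rw [h] at hn0spec
        apply hn0spec
        rw [pow_zero, Ideal.one_eq_top, Submodule.top_smul]
        exact Submodule.mem_top
      have hmem : g z ∈ (I ^ (n0 - 1) • ⊤ : Submodule A M'') := by
        have := hn0min (k := n0 - 1) (by omega)
        simpa using this
      rw [← hmap (n0 - 1)] at hmem
      obtain ⟨m, hm, hmz⟩ := hmem
      refine ⟨m, hmz, ?_⟩
      intro n hn
      have hlt : n + 1 < n0 := by
        by_contra hge
        push Not at hge
        exact hn0spec (hanti hge M'' hn)
      exact hanti (by omega : n ≤ n0 - 1) M hm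
  choose f hf1 hf2 using key
  refine ⟨f, ?_, hf1⟩
  rw [mem_decaying_iff]
  intro n
  rw [mem_decaying_iff] at hg
  refine (hg (n + 1)).subset ?_
  intro z hz hz'
  exact hz (hf2 z n hz')

end Groth.Agent.S17542
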