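import Groth.Statements.S17552
import Mathlib
import Groth.Agent.Lib.Helper26.AdicFree
import Groth.Agent.Lib.Helper26.AdicProj
import Groth.Agent.Lib.Helper26.DecFlat

set_option autoImplicit false
universe u
open W4c5adicflatcompl
open CAlg

namespace Groth.Agent.S17552

/-- For a complete Noetherian local ring A (maximal ideal m, m-adic completion Â), an A-module M is
isomorphic to the module of m-adically decaying functions Z → Â for some set Z (m-adically free)
exactly when M is flat and m-adically complete. M and Z live in the universe of A. -/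
theorem result {A : Type u} [CommRing A] [IsNoetherianRing A] [IsLocalRing A]
    [IsAdicComplete (IsLocalRing.maximalIdeal A) A]
    (M : Type u) [AddCommGroup M] [Module A M] :
    IsAdicFree (IsLocalRing.maximalIdeal A) M ↔
      Module.Flat A M ∧ IsAdicComplete (IsLocalRing.maximalIdeal A) M := by
  have eA : A ≃ₗ[A] AdicCompletion (IsLocalRing.maximalIdeal A) A :=
    AdicCompletion.ofLinearEquiv (IsLocalRing.maximalIdeal A) A
  constructor
  · rintro ⟨Z, ⟨e⟩⟩
    let e' : M ≃ₗ[A] decaying (IsLocalRing.maximalIdeal A) Z A :=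
      e.trans (Groth.Agent.Helper26.AdicFree.decCongr (IsLocalRing.maximalIdeal A) Z eA).symm
    have hflat : Module.Flat A (decaying (IsLocalRing.maximalIdeal A) Z A) :=
      Groth.Agent.Helper26.DecTensor.flat_dec (IsLocalRing.maximalIdeal A) Z
    have hcomp : IsAdicComplete (IsLocalRing.maximalIdeal A)
        (decaying (IsLocalRing.maximalIdeal A) Z A) :=
      Groth.Agent.Helper26.DecRedM.isAdicComplete_dec (IsLocalRing.maximalIdeal A) Z A
    refine ⟨Module.Flat.of_linearEquiv e', ?_⟩
    exact Groth.Agent.Helper26.AdicProj.complete_of_retract (IsLocalRing.maximalIdeal A)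
      e'.toLinearMap e'.symm.toLinearMap (by ext x; simp)
  · rintro ⟨hflat, hcomp⟩
    obtain ⟨Z, ⟨e⟩⟩ := Groth.Agent.Helper26.AdicFree.free_of_flat_complete
      (IsLocalRing.maximalIdeal A) M
    exact ⟨Z, ⟨e.symm.trans
      (Groth.Agent.Helper26.AdicFree.decCongr (IsLocalRing.maximalIdeal A) Z eA)⟩⟩

end Groth.Agent.S17552
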