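import Groth.Statements.S17581
import Groth.Agent.Lib.Helper23.BaseLoc1

set_option autoImplicit false
open CategoryTheory CategoryTheory.Limits AlgebraicGeometry
open PosLin

namespace Groth.Agent.S17581

/-- Let X be a projective variety over the complex numbers (an integral scheme, proper over ℂ, with an
ample invertible module) and L an invertible O_X-module; for m ≥ 1 let Bs(L^⊗m) be the base locus of
L^⊗m (the points lying in no open X_s over which a global section s : O_X → L^⊗m is an isomorphism)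
and B(L) = ⋂_{m ≥ 1} Bs(L^⊗m) the stable base locus. Then, among the closed sets Bs(L^⊗m) with m ≥
1, B(L) occurs and is the only minimal one: B(L) = Bs(L^⊗m) for some m ≥ 1, and for each m ≥ 1,
Bs(L^⊗m) is minimal in this family if and only if it coincides with B(L). -/
theorem result (X : Scheme.{0}) [X.Over (Spec (CommRingCat.of ℂ))] [IsIntegral X]
    [IsProper (X ↘ Spec (CommRingCat.of ℂ))] (H : X.Modules) (hH : CohB1.IsAmple H)
    (L : X.Modules) (hL : PicF.IsInvertible L) :
    (∃ m : ℕ, 0 < m ∧ {x : X | ∀ s : Coh.structureModule X ⟶ CohB1.tensorPow L m, x ∉ CohB1.genLocus (CohB1.tensorPow L m) s} = {x : X | ∀ m : ℕ, 0 < m → ∀ s : Coh.structureModule X ⟶ CohB1.tensorPow L m, x ∉ CohB1.genLocus (CohB1.tensorPow L m) s}) ∧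
    ∀ m : ℕ, 0 < m →
      ((∀ m' : ℕ, 0 < m' →
          {x : X | ∀ s : Coh.structureModule X ⟶ CohB1.tensorPow L m', x ∉ CohB1.genLocus (CohB1.tensorPow L m') s} ⊆ {x : X | ∀ s : Coh.structureModule X ⟶ CohB1.tensorPow L m, x ∉ CohB1.genLocus (CohB1.tensorPow L m) s} →
          {x : X | ∀ s : Coh.structureModule X ⟶ CohB1.tensorPow L m', x ∉ CohB1.genLocus (CohB1.tensorPow L m') s} = {x : X | ∀ s : Coh.structureModule X ⟶ CohB1.tensorPow L m, x ∉ CohB1.genLocus (CohB1.tensorPow L m) s}) ↔
        {x : X | ∀ s : Coh.structureModule X ⟶ CohB1.tensorPow L m, x ∉ CohB1.genLocus (CohB1.tensorPow L m) s} = {x : X | ∀ m : ℕ, 0 < m → ∀ s : Coh.structureModule X ⟶ CohB1.tensorPow L m, x ∉ CohB1.genLocus (CohB1.tensorPow L m) s}) := by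
  haveI := Groth.Agent.Helper23.BaseLoc.noetherianSpace_of_proper ℂ X (X ↘ Spec (CommRingCat.of ℂ))
  refine ⟨?_, ?_⟩
  · obtain ⟨n₀, hn₀, h⟩ := Groth.Agent.Helper23.BaseLoc.exists_Bs_eq_B hL
    refine ⟨1 * n₀, Nat.mul_pos Nat.one_pos hn₀, ?_⟩
    exact (h 1 Nat.one_pos).symm
  · intro m hm
    constructor
    · intro hmin
      exact Groth.Agent.Helper23.BaseLoc.Bs_eq_B_of_minimal hL m hm hmin
    · intro hB m' hm' hsub
      apply Set.Subset.antisymm hsub
      intro x hx
      have hx' : x ∈ Groth.Agent.Helper23.BaseLoc.B L := by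
        have : x ∈ Groth.Agent.Helper23.BaseLoc.Bs L m := hx
        rw [show Groth.Agent.Helper23.BaseLoc.Bs L m = Groth.Agent.Helper23.BaseLoc.B L from hB] at this
        exact this
      exact Groth.Agent.Helper23.BaseLoc.B_subset_Bs L m' hm' hx'

end Groth.Agent.S17581
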