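import Groth.Statements.S17604
import Mathlib
import Groth.Agent.Lib.Helper26.PHLift
import Groth.Agent.Lib.Helper26.PHTransfer

set_option autoImplicit false
universe u
open Hensel

namespace Groth.Agent.S17604

/-- Let (A, I) be a Henselian pair, R and R' étale A-algebras, and B, B' Henselizations of the pairs (R,
IR), (R', IR') with their induced A-algebra structures (so B and B' are h-étale over A). Then
reduction modulo I is a bijection from A-algebra maps B → B' to A-algebra maps B/IB → B'/IB': two
A-algebra maps B → B' that agree modulo IB' are equal, and every A-algebra map B/IB → B'/IB' is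
induced by an A-algebra map B → B'. -/
theorem result (A : Type u) [CommRing A]
    (I : Ideal A) [HenselianRing A I]
    (R : Type u) [CommRing R] [Algebra A R] [Algebra.Etale A R]
    (B : Type u) [CommRing B] [Algebra R B] [Algebra A B] [IsScalarTower A R B]
    (hB : Hens2.IsPairHenselization R (I.map (algebraMap A R)) B)
    (R' : Type u) [CommRing R'] [Algebra A R'] [Algebra.Etale A R']
    (B' : Type u) [CommRing B'] [Algebra R' B'] [Algebra A B'] [IsScalarTower A R' B']
    (hB' : Hens2.IsPairHenselization R' (I.map (algebraMap A R')) B') :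
    (∀ φ ψ : B →ₐ[A] B', (∀ b : B, φ b - ψ b ∈ I.map (algebraMap A B')) → φ = ψ) ∧
    ∀ χ : (B ⧸ I.map (algebraMap A B)) →ₐ[A] (B' ⧸ I.map (algebraMap A B')),
      ∃ φ : B →ₐ[A] B', ∀ b : B,
        Ideal.Quotient.mk (I.map (algebraMap A B')) (φ b) = χ (Ideal.Quotient.mk (I.map (algebraMap A B)) b) := by
  have hK' : (I.map (algebraMap A R')).map (algebraMap R' B') = I.map (algebraMap A B') := by
    rw [Ideal.map_map, ← IsScalarTower.algebraMap_eq]
  have hHens : HenselianRing B' (I.map (algebraMap A B')) := hK' ▸ hB'.1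
  have hcond : ∀ ρ : R →ₐ[A] B', (I.map (algebraMap A R)).map (ρ : R →+* B') ≤
      I.map (algebraMap A B') := fun ρ =>
    le_of_eq (Groth.Agent.Helper26.PH.map_map_algHom I ρ)
  refine ⟨?_, ?_⟩
  · intro φ ψ h
    let ρ₁ : R →ₐ[A] B' := φ.comp (IsScalarTower.toAlgHom A R B)
    let ρ₂ : R →ₐ[A] B' := ψ.comp (IsScalarTower.toAlgHom A R B)
    have hρ : ρ₁ = ρ₂ :=
      Groth.Agent.Helper26.PH.algHom_ext_mod R B' (I.map (algebraMap A B')) ρ₁ ρ₂
        (fun x => h _)
    obtain ⟨g, -, hg⟩ := hB.2 B' (I.map (algebraMap A B')) (ρ₁ : R →+* B') hHens (hcond ρ₁)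
    have h1 : (φ : B →+* B') = g := hg _ (RingHom.ext fun x => rfl)
    have h2 : (ψ : B →+* B') = g := hg _ (RingHom.ext fun x => by
      change ψ (algebraMap R B x) = ρ₁ x
      rw [hρ]; rfl)
    exact AlgHom.ext fun b => (RingHom.congr_fun h1 b).trans (RingHom.congr_fun h2 b).symm
  · intro χ
    let χR : R →ₐ[A] B' ⧸ I.map (algebraMap A B') :=
      (χ.comp (Ideal.Quotient.mkₐ A (I.map (algebraMap A B)))).comp
        (IsScalarTower.toAlgHom A R B)
    obtain ⟨ρ, hρ⟩ := Groth.Agent.Helper26.PH.exists_algHom_lift R B'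
      (I.map (algebraMap A B')) χR
    obtain ⟨g, hg, -⟩ := hB.2 B' (I.map (algebraMap A B')) (ρ : R →+* B') hHens (hcond ρ)
    let φ : B →ₐ[A] B' :=
      { g with
        commutes' := by
          intro a
          change g (algebraMap A B a) = _
          rw [IsScalarTower.algebraMap_apply A R B]
          have := RingHom.congr_fun hg (algebraMap A R a)
          change g (algebraMap R B (algebraMap A R a)) = ρ (algebraMap A R a) at this
          rw [this, AlgHom.commutes] }
    refine ⟨φ, ?_⟩
    -- uniqueness into the trivial henselian pair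
    let m : B' →+* B' ⧸ I.map (algebraMap A B') := Ideal.Quotient.mk _
    have hbot : (I.map (algebraMap A R)).map (m.comp (ρ : R →+* B')) ≤ ⊥ := by
      rw [← Ideal.map_map]
      refine le_trans (Ideal.map_mono (hcond ρ)) ?_
      rw [Ideal.map_quotient_self]
    obtain ⟨k, -, hk⟩ := hB.2 (B' ⧸ I.map (algebraMap A B')) ⊥ (m.comp (ρ : R →+* B'))
      (Groth.Agent.Helper26.PH.henselianRing_bot _) hbot
    have h1 : m.comp g = k := hk _ (by
      change (m.comp g).comp (algebraMap R B) = m.comp (ρ : R →+* B')
      rw [RingHom.comp_assoc, hg])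
    have h2 : (χ : (B ⧸ I.map (algebraMap A B)) →+* _).comp
        (Ideal.Quotient.mk (I.map (algebraMap A B))) = k := hk _ (by
      apply RingHom.ext
      intro x
      change χ (Ideal.Quotient.mk _ (algebraMap R B x)) = m (ρ x)
      exact (hρ x).symm)
    intro b
    exact (RingHom.congr_fun h1 b).trans (RingHom.congr_fun h2 b).symm

end Groth.Agent.S17604
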