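import Groth.Statements.S17635
import Mathlib

set_option autoImplicit false
open Finset
open Variety

namespace Groth.Agent.S17635

/-- Let r and n be natural numbers and f : ℚ^r → ℝ a nonnegative function which is homogeneous of degree
n for positive rational scalars, f(q · v) = q^n · f(v) for q > 0; give ℚ^r the maximum norm ‖v‖ =
max_j |v_j| of its standard basis. Suppose that for every standard basis vector e_i there is a
constant C_i with |f(v − b · e_i) − f(v)| ≤ C_i · Σ_{q=1}^{n} ‖v‖^{n−q} · b^q for all v ∈ ℚ^r and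
all integers b ≥ 1. Then there is a constant C > 0 such that |f(v) − f(w)| ≤ C · Σ_{q=1}^{n}
max(‖v‖, ‖w‖)^{n−q} · ‖v − w‖^q for all v, w ∈ ℚ^r. (The source allows any norm on an r-dimensional
rational vector space with a chosen basis and argues with the maximum norm of that basis, which is
the case stated here.) -/
theorem result (r n : ℕ) (f : (Fin r → ℚ) → ℝ)
    (hf0 : ∀ v, 0 ≤ f v)
    (hhom : ∀ (q : ℚ) (v : Fin r → ℚ), 0 < q → f (q • v) = (q : ℝ) ^ n * f v)
    (hdir : ∀ i : Fin r, ∃ Ci : ℝ, ∀ (v : Fin r → ℚ) (b : ℕ), 1 ≤ b →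
      |f (v - (b : ℚ) • Pi.single i 1) - f v| ≤
        Ci * (Finset.Icc 1 n).sum (fun q => ‖(fun j => ((v j : ℚ) : ℝ))‖ ^ (n - q) * (b : ℝ) ^ q)) :
    ∃ C : ℝ, 0 < C ∧ ∀ v w : Fin r → ℚ,
      |f v - f w| ≤ C * (Finset.Icc 1 n).sum (fun q =>
        (max ‖(fun j => ((v j : ℚ) : ℝ))‖ ‖(fun j => ((w j : ℚ) : ℝ))‖) ^ (n - q) *
          ‖(fun j => ((v j - w j : ℚ) : ℝ))‖ ^ q) := by
  classical
  choose C hC using hdir
  set N : (Fin r → ℚ) → ℝ := fun v => ‖(fun j => ((v j : ℚ) : ℝ))‖ with hN
  set S : ℝ → ℝ → ℝ := fun a b => (Finset.Icc 1 n).sum (fun q => a ^ (n - q) * b ^ q) with hS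
  have hN0 : ∀ v, 0 ≤ N v := fun v => norm_nonneg _
  have hSmono : ∀ a a' b b' : ℝ, 0 ≤ a → a ≤ a' → 0 ≤ b → b ≤ b' → S a b ≤ S a' b' := by
    intro a a' b b' ha haa hb hbb
    apply Finset.sum_le_sum
    intro q _
    exact mul_le_mul (pow_le_pow_left₀ ha haa _) (pow_le_pow_left₀ hb hbb _) (pow_nonneg hb _)
      (pow_nonneg (ha.trans haa) _)
  have hS0 : ∀ a b : ℝ, 0 ≤ a → 0 ≤ b → 0 ≤ S a b := by
    intro a b ha hb
    apply Finset.sum_nonneg
    intro q _
    exact mul_nonneg (pow_nonneg ha _) (pow_nonneg hb _)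
  have hcoord : ∀ (v : Fin r → ℚ) (j : Fin r), |((v j : ℚ) : ℝ)| ≤ N v := by
    intro v j
    have := norm_le_pi_norm (fun j => ((v j : ℚ) : ℝ)) j
    rwa [Real.norm_eq_abs] at this
  have hNle : ∀ (v : Fin r → ℚ) (c : ℝ), 0 ≤ c → (∀ j, |((v j : ℚ) : ℝ)| ≤ c) → N v ≤ c := by
    intro v c hc h
    rw [hN]
    refine (pi_norm_le_iff_of_nonneg hc).2 ?_
    intro j
    rw [Real.norm_eq_abs]
    exact h j
  -- single step
  have hstep : ∀ (w : Fin r → ℚ) (i : Fin r) (k : ℤ),
      |f (Function.update w i (w i + k)) - f w| ≤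
        |C i| * S (max (N (Function.update w i (w i + k))) (N w)) |(k : ℝ)| := by
    intro w i k
    set u := Function.update w i (w i + k) with hu
    have hmax0 : 0 ≤ max (N u) (N w) := le_max_of_le_left (hN0 u)
    rcases lt_trichotomy k 0 with hk | hk | hk
    · obtain ⟨b, hb⟩ : ∃ b : ℕ, (b : ℤ) = -k := ⟨(-k).toNat, Int.toNat_of_nonneg (by omega)⟩
      have hb1 : 1 ≤ b := by omega
      have hkq : (k : ℚ) = -(b : ℚ) := by
        have : k = -(b : ℤ) := by omega
        rw [this]; push_cast; ring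
      have hkr : |(k : ℝ)| = (b : ℝ) := by
        have : k = -(b : ℤ) := by omega
        rw [this]; push_cast; rw [abs_neg, abs_of_nonneg (Nat.cast_nonneg b)]
      have hu' : u = w - (b : ℚ) • Pi.single i 1 := by
        funext j
        by_cases hj : j = i
        · subst hj
          simp [hu, hkq]
          ring
        · simp [hu, hj, Function.update_of_ne hj]
      rw [hu', hkr]
      refine (hC i w b hb1).trans ?_
      have h1 : C i * S (N w) b ≤ |C i| * S (N w) b :=
        mul_le_mul_of_nonneg_right (le_abs_self _) (hS0 _ _ (hN0 w) (Nat.cast_nonneg b))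
      refine h1.trans ?_
      apply mul_le_mul_of_nonneg_left _ (abs_nonneg _)
      rw [← hu']
      exact hSmono _ _ _ _ (hN0 w) (le_max_right _ _) (Nat.cast_nonneg b) le_rfl
    · have huw : u = w := by
        rw [hu, hk]
        simp
      have h0 : f u - f w = 0 := by rw [huw, sub_self]
      rw [h0, abs_zero]
      exact mul_nonneg (abs_nonneg _) (hS0 _ _ hmax0 (abs_nonneg _))
    · obtain ⟨b, hb⟩ : ∃ b : ℕ, (b : ℤ) = k := ⟨k.toNat, Int.toNat_of_nonneg (by omega)⟩
      have hb1 : 1 ≤ b := by omega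
      have hkq : (k : ℚ) = (b : ℚ) := by
        rw [← hb]; push_cast; ring
      have hkr : |(k : ℝ)| = (b : ℝ) := by
        rw [← hb]; push_cast; rw [abs_of_nonneg (Nat.cast_nonneg b)]
      have hw' : w = u - (b : ℚ) • Pi.single i 1 := by
        funext j
        by_cases hj : j = i
        · subst hj
          simp [hu, hkq]
        · simp [hu, hj, Function.update_of_ne hj]
      rw [abs_sub_comm, hkr]
      have h0 := hC i u b hb1
      rw [← hw'] at h0
      refine h0.trans ?_
      have h1 : C i * S (N u) b ≤ |C i| * S (N u) b :=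
        mul_le_mul_of_nonneg_right (le_abs_self _) (hS0 _ _ (hN0 u) (Nat.cast_nonneg b))
      refine h1.trans ?_
      apply mul_le_mul_of_nonneg_left _ (abs_nonneg _)
      exact hSmono _ _ _ _ (hN0 u) (le_max_left _ _) (Nat.cast_nonneg b) le_rfl
  have hA : ∀ (T : Finset (Fin r)) (w : Fin r → ℚ) (m : Fin r → ℤ), (∀ j, j ∉ T → m j = 0) →
      |f (fun j => w j + m j) - f w| ≤
        (∑ i ∈ T, |C i|) * S (max (N (fun j => w j + m j)) (N w)) (N (fun j => (m j : ℚ))) := by
    intro T
    induction T using Finset.induction_on with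
    | empty =>
      intro w m hm
      have : (fun j => w j + (m j : ℚ)) = w := by
        funext j
        rw [hm j (Finset.notMem_empty j)]
        simp
      rw [this, sub_self, abs_zero, Finset.sum_empty, zero_mul]
    | insert i T' hi IH =>
      intro w m hm
      set V : Fin r → ℚ := fun j => w j + m j with hV
      set w' : Fin r → ℚ := Function.update w i (w i + m i) with hw'
      set m' : Fin r → ℤ := Function.update m i 0 with hm'
      have hm'0 : ∀ j, j ∉ T' → m' j = 0 := by
        intro j hj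
        by_cases hji : j = i
        · subst hji; simp [hm']
        · rw [hm', Function.update_of_ne hji]
          apply hm
          simp [hji, hj]
      have heq : (fun j => w' j + (m' j : ℚ)) = V := by
        funext j
        by_cases hji : j = i
        · subst hji; simp [hw', hm', hV]
        · simp [hw', hm', hV, Function.update_of_ne hji]
      have h1 := IH w' m' hm'0
      rw [heq] at h1
      have h2 := hstep w i (m i)
      rw [← hw'] at h2
      set Mx := max (N V) (N w) with hMx
      set Nm := N (fun j => (m j : ℚ)) with hNm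
      have hMx0 : 0 ≤ Mx := le_max_of_le_left (hN0 V)
      have hNw' : N w' ≤ Mx := by
        apply hNle _ _ hMx0
        intro j
        by_cases hji : j = i
        · subst hji
          have : w' j = V j := by simp [hw', hV]
          rw [this]
          exact (hcoord V j).trans (le_max_left _ _)
        · have : w' j = w j := by simp [hw', Function.update_of_ne hji]
          rw [this]
          exact (hcoord w j).trans (le_max_right _ _)
      have hNm' : N (fun j => (m' j : ℚ)) ≤ Nm := by
        apply hNle _ _ (hN0 _)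
        intro j
        by_cases hji : j = i
        · subst hji
          simp only [hm', Function.update_self, Int.cast_zero, Rat.cast_zero, abs_zero]
          exact hN0 _
        · simp only [hm', Function.update_of_ne hji]
          exact hcoord (fun j => (m j : ℚ)) j
      have hmi : |((m i : ℤ) : ℝ)| ≤ Nm := by
        have := hcoord (fun j => (m j : ℚ)) i
        simpa using this
      have hS1 : S (max (N V) (N w')) (N (fun j => (m' j : ℚ))) ≤ S Mx Nm :=
        hSmono _ _ _ _ (le_max_of_le_left (hN0 V)) (max_le (le_max_left _ _) hNw') (hN0 _) hNm'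
      have hS2 : S (max (N w') (N w)) |((m i : ℤ) : ℝ)| ≤ S Mx Nm :=
        hSmono _ _ _ _ (le_max_of_le_left (hN0 w')) (max_le hNw' (le_max_right _ _)) (abs_nonneg _) hmi
      have hsum0 : 0 ≤ ∑ i ∈ T', |C i| := Finset.sum_nonneg fun _ _ => abs_nonneg _
      calc |f V - f w| = |(f V - f w') + (f w' - f w)| := by ring_nf
        _ ≤ |f V - f w'| + |f w' - f w| := abs_add_le _ _
        _ ≤ (∑ i ∈ T', |C i|) * S Mx Nm + |C i| * S Mx Nm :=
            add_le_add (h1.trans (mul_le_mul_of_nonneg_left hS1 hsum0))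
              (h2.trans (mul_le_mul_of_nonneg_left hS2 (abs_nonneg _)))
        _ = (∑ i ∈ insert i T', |C i|) * S Mx Nm := by
            rw [Finset.sum_insert hi]; ring
  set C₀ := ∑ i, |C i| with hC₀
  have hC₀0 : 0 ≤ C₀ := Finset.sum_nonneg fun _ _ => abs_nonneg _
  refine ⟨C₀ + 1, by linarith, ?_⟩
  intro v w
  -- common denominator of the difference
  set D : ℕ := ∏ j, (v j - w j).den with hD
  have hDpos : 0 < D := Finset.prod_pos fun j _ => Rat.den_pos _
  have hDq : (0 : ℚ) < (D : ℚ) := by exact_mod_cast hDpos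
  have hDr : (0 : ℝ) < (D : ℝ) := by exact_mod_cast hDpos
  have hint : ∀ j, ∃ k : ℤ, (D : ℚ) * (v j - w j) = k := by
    intro j
    obtain ⟨c, hc⟩ : (v j - w j).den ∣ D := Finset.dvd_prod_of_mem _ (Finset.mem_univ j)
    refine ⟨(c : ℤ) * (v j - w j).num, ?_⟩
    rw [hc]
    push_cast
    have := Rat.mul_den_eq_num (v j - w j)
    rw [← this]
    ring
  choose m hm using hint
  have h := hA Finset.univ ((D : ℚ) • w) m (fun j hj => absurd (Finset.mem_univ j) hj)
  have hV : (fun j => ((D : ℚ) • w) j + (m j : ℚ)) = (D : ℚ) • v := by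
    funext j
    rw [← hm j]
    simp only [Pi.smul_apply, smul_eq_mul]
    ring
  rw [hV, hhom _ v hDq, hhom _ w hDq] at h
  have hNsmul : ∀ x : Fin r → ℚ, N ((D : ℚ) • x) = (D : ℝ) * N x := by
    intro x
    have : (fun j => ((((D : ℚ) • x) j : ℚ) : ℝ)) = (D : ℝ) • (fun j => ((x j : ℚ) : ℝ)) := by
      funext j
      simp
    rw [hN]
    simp only
    rw [this, norm_smul, Real.norm_eq_abs, abs_of_pos hDr]
  have hNm : N (fun j => (m j : ℚ)) = (D : ℝ) * ‖(fun j => ((v j - w j : ℚ) : ℝ))‖ := by
    have : (fun j => (m j : ℚ)) = (D : ℚ) • (fun j => v j - w j) := by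
      funext j
      rw [← hm j]
      simp
    rw [this, hNsmul]
  have hSscale : ∀ a b : ℝ, S ((D : ℝ) * a) ((D : ℝ) * b) = (D : ℝ) ^ n * S a b := by
    intro a b
    rw [hS]
    simp only
    rw [Finset.mul_sum]
    apply Finset.sum_congr rfl
    intro q hq
    have hqn : q ≤ n := (Finset.mem_Icc.1 hq).2
    have : (D : ℝ) ^ n = (D : ℝ) ^ (n - q) * (D : ℝ) ^ q := by
      rw [← pow_add, Nat.sub_add_cancel hqn]
    rw [mul_pow, mul_pow, this]
    ring
  rw [hNsmul, hNsmul, hNm, ← mul_max_of_nonneg _ _ hDr.le, hSscale] at h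
  have hlhs : |(D : ℝ) ^ n * f v - (D : ℝ) ^ n * f w| = (D : ℝ) ^ n * |f v - f w| := by
    rw [← mul_sub, abs_mul, abs_of_pos (pow_pos hDr n)]
  have hcast : ((D : ℚ) : ℝ) = (D : ℝ) := by push_cast; rfl
  rw [hcast, hlhs] at h
  have hpos : (0 : ℝ) < (D : ℝ) ^ n := pow_pos hDr n
  have h' : |f v - f w| ≤ C₀ * S (max (N v) (N w)) ‖(fun j => ((v j - w j : ℚ) : ℝ))‖ := by
    have : (D : ℝ) ^ n * |f v - f w| ≤ (D : ℝ) ^ n * (C₀ * S (max (N v) (N w)) ‖(fun j => ((v j - w j : ℚ) : ℝ))‖) := by
      calc _ ≤ _ := h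
        _ = _ := by ring
    exact le_of_mul_le_mul_left this hpos
  refine h'.trans ?_
  apply mul_le_mul_of_nonneg_right (by linarith)
  exact hS0 _ _ (le_max_of_le_left (hN0 v)) (norm_nonneg _)

end Groth.Agent.S17635
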