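import Groth.Statements.S17649
import Mathlib
import Groth.Agent.Lib.Helper13.Qcqs
import Groth.Agent.Lib.Helper13.QCohKer
import Groth.Agent.Lib.Helper13.RestrictLim
import Groth.Agent.Lib.Helper13.QCohStalk
import Groth.Agent.Lib.Helper13.SerreCrit4

set_option autoImplicit false
universe u
open CategoryTheory CategoryTheory.Limits AlgebraicGeometry
open QCohCat

namespace Groth.Agent.S17649

open CategoryTheory CategoryTheory.Limits AlgebraicGeometry
open QCohCat

/-- Suppose the scheme X is quasi-compact and quasi-separated, and take two quasi-compact opens U, V ⊆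
X. Given a quasi-compact open W, denote by S_W the class of quasi-coherent O_X-modules that restrict
to zero on W. Then S_{U ∩ V} is the smallest localizing subcategory of Qcoh(X) that contains both
S_U and S_V; concretely (this is the inclusion that is not formal): any quasi-coherent O_X-module F
satisfying F|_{U ∩ V} = 0 arises as an extension of a quasi-coherent module that is zero on V by a
quasi-coherent submodule that is zero on U — one can find a monomorphism A ⟶ F where A is
quasi-coherent, A|_U = 0 and (F/A)|_V = 0. -/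
theorem result {X : Scheme.{u}}
    [CompactSpace X] [QuasiSeparatedSpace X] (U V : X.Opens) [QuasiCompact U.ι] [QuasiCompact V.ι]
    (F : X.Modules) (hF : Coh.IsQCoh F) (h : IsZero ((Scheme.Modules.restrictFunctor (U ⊓ V).ι).obj F)) :
    ∃ (A : X.Modules) (i : A ⟶ F), Mono i ∧ Coh.IsQCoh A ∧
      IsZero ((Scheme.Modules.restrictFunctor U.ι).obj A) ∧
      IsZero ((Scheme.Modules.restrictFunctor V.ι).obj (cokernel i)) := by
  haveI : F.IsQuasicoherent := hF
  let R := Scheme.Modules.restrictFunctor U.ι
  let P := Scheme.Modules.pushforward U.ι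
  let adj := Scheme.Modules.restrictAdjunction U.ι
  let η : F ⟶ P.obj (R.obj F) := adj.unit.app F
  haveI : (R.obj F).IsQuasicoherent := inferInstance
  haveI : (P.obj (R.obj F)).IsQuasicoherent :=
    Groth.Agent.Helper13.Qcqs.isQuasicoherent_pushforward_of_qcqs U.ι (R.obj F)
  refine ⟨kernel η, kernel.ι η, inferInstance,
    Groth.Agent.Helper13.QCohLocal.isQuasicoherent_kernel η, ?_, ?_⟩
  · -- restriction of η to U is an iso
    have htri : R.map η ≫ adj.counit.app (R.obj F) = 𝟙 _ := adj.left_triangle_components F
    haveI : IsIso (adj.counit.app (R.obj F)) := inferInstance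
    haveI : IsIso (R.map η) := by
      have : R.map η = inv (adj.counit.app (R.obj F)) := by
        rw [← cancel_mono (adj.counit.app (R.obj F)), htri, IsIso.inv_hom_id]
      rw [this]; infer_instance
    have h0 : R.map (kernel.ι η) = 0 := by
      rw [← cancel_mono (R.map η), ← R.map_comp, kernel.condition, R.map_zero, zero_comp]
    haveI : Mono (R.map (kernel.ι η)) := inferInstance
    exact IsZero.of_mono_eq_zero _ h0
  · let RV := Scheme.Modules.restrictFunctor V.ι
    let m : cokernel (kernel.ι η) ⟶ P.obj (R.obj F) := Abelian.factorThruCoimage η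
    haveI : Mono m := inferInstanceAs (Mono (Abelian.factorThruCoimage η))
    haveI : Mono (RV.map m) := inferInstance
    refine Groth.Agent.Helper13.SerreCrit.isZero_of_mono (RV.map m) ?_
    rw [Groth.Agent.Helper13.QCoh.isZero_iff_sections]
    intro W
    have hsub : ∀ T : X.Opens, T ≤ U ⊓ V → Subsingleton Γ(F, T) := by
      intro T hT
      have h1 := (Groth.Agent.Helper13.QCoh.isZero_iff_sections _).1 h ((U ⊓ V).ι ⁻¹ᵁ T)
      have h2 : (U ⊓ V).ι ''ᵁ ((U ⊓ V).ι ⁻¹ᵁ T) = T := by
        rw [Scheme.Hom.image_preimage_eq_opensRange_inf, Scheme.Opens.opensRange_ι]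
        exact inf_eq_right.2 hT
      have h3 : Subsingleton Γ(F, (U ⊓ V).ι ''ᵁ ((U ⊓ V).ι ⁻¹ᵁ T)) := h1
      rwa [h2] at h3
    have hT : U.ι ''ᵁ (U.ι ⁻¹ᵁ (V.ι ''ᵁ W)) ≤ U ⊓ V := by
      rw [Scheme.Hom.image_preimage_eq_opensRange_inf, Scheme.Opens.opensRange_ι]
      refine inf_le_inf le_rfl ?_
      exact V.ι.image_le_opensRange W |>.trans (by rw [Scheme.Opens.opensRange_ι])
    exact hsub _ hT

end Groth.Agent.S17649
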