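import Groth.Statements.S1767
import Groth.Agent.Lib.Helper24.RFQc4

set_option autoImplicit false
universe u
open CategoryTheory CategoryTheory.Limits AlgebraicGeometry
attribute [local instance] HasDerivedCategory.standard
open Dual

namespace Groth.Agent.S1767

/-- Let f : X → Y be a morphism between quasi-compact quasi-separated schemes. Assume the derived direct
image Rf_* exists and preserves quasi-coherence of cohomology sheaves (both known results), so that
it restricts to a functor D_QCoh(O_X) → D_QCoh(O_Y), and let a : D_QCoh(O_Y) → D_QCoh(O_X) be a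
right adjoint of this restricted functor. Then there is an integer N ≥ 0 such that for every K in
D_QCoh(O_Y) and every integer c, if H^i(K) = 0 for all i ≤ c then H^i(a(K)) = 0 for all i ≤ c − N;
in particular a sends bounded-below objects to bounded-below objects. -/
theorem result (X Y : Scheme.{u}) [CompactSpace X] [QuasiSeparatedSpace X] [CompactSpace Y] [QuasiSeparatedSpace Y] (f : X ⟶ Y) [DCoh.HasRpush f] (h : ∀ K : DCoh.D X, DCoh.IsQCohD K → DCoh.IsQCohD ((DCoh.Rpush f).obj K)) (a : DCoh.DQCoh Y ⥤ DCoh.DQCoh X) (adj : (ObjectProperty.lift DCoh.IsQCohD (ObjectProperty.ι DCoh.IsQCohD ⋙ DCoh.Rpush f) (fun K => h K.obj K.property)) ⊣ a) : ∃ N : ℕ, ∀ (K : DCoh.DQCoh Y) (c : ℤ), (∀ i : ℤ, i ≤ c → IsZero (DCoh.HD K.obj i)) → ∀ i : ℤ, i ≤ c - N → IsZero (DCoh.HD (a.obj K).obj i) := by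
  open DerivedCategory DerivedCategory.TStructure Groth.Agent.Helper24.RFQc
    Groth.Agent.Helper24.WayOut in
  obtain ⟨N, hN⟩ := exists_bound f
  refine ⟨N, fun K c hK i hi => ?_⟩
  have hA : DCoh.IsQCohD (a.obj K).obj := (a.obj K).property
  have hA' : DCoh.IsQCohD ((t.truncLT (c - N + 1)).obj (a.obj K).obj) :=
    fun q => qc_homology_truncLT (a.obj K).obj hA (c - N + 1) q
  let A'' : DCoh.DQCoh X := ⟨(t.truncLT (c - N + 1)).obj (a.obj K).obj, hA'⟩
  let ι'' : A'' ⟶ a.obj K := ObjectProperty.homMk ((t.truncLTι (c - N + 1)).app (a.obj K).obj)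
  haveI : ((t.truncLT (c - N + 1)).obj (a.obj K).obj).IsLE (c - N) :=
    t.isLE_truncLT_obj _ (c - N + 1) (c - N) (by omega)
  haveI hle : ((DCoh.Rpush f).obj ((t.truncLT (c - N + 1)).obj (a.obj K).obj)).IsLE c := by
    rw [DerivedCategory.isLE_iff]
    intro m hm
    exact isZero_homology_Rpush_of_isLE f N hN _ hA' (c - N) m (by omega)
  haveI hge : K.obj.IsGE (c + 1) := by
    rw [DerivedCategory.isGE_iff]
    intro m hm
    exact hK m (by omega)
  have hsub : Subsingleton ((ObjectProperty.lift DCoh.IsQCohD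
      (ObjectProperty.ι DCoh.IsQCohD ⋙ DCoh.Rpush f) (fun K => h K.obj K.property)).obj A'' ⟶ K) := by
    refine ⟨fun g₁ g₂ => ?_⟩
    apply ObjectProperty.hom_ext
    have z : ∀ g : (DCoh.Rpush f).obj ((t.truncLT (c - N + 1)).obj (a.obj K).obj) ⟶ K.obj, g = 0 :=
      fun g => t.zero g c (c + 1) (by omega)
    exact (z g₁.hom).trans (z g₂.hom).symm
  have hsub' : Subsingleton (A'' ⟶ a.obj K) := (adj.homEquiv A'' K).symm.subsingleton
  have h0 : ι'' = ObjectProperty.homMk 0 := Subsingleton.elim _ _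
  have h1 : (t.truncLTι (c - N + 1)).app (a.obj K).obj = 0 := congrArg (fun g => g.hom) h0
  have hiso := isIso_homologyMap_truncLTι (a.obj K).obj (c - N + 1) i (by omega)
  have h2 : (homologyFunctor X.Modules i).map ((t.truncLTι (c - N + 1)).app (a.obj K).obj) = 0 := by
    rw [h1, Functor.map_zero]
  exact IsZero.of_epi_eq_zero _ h2

end Groth.Agent.S1767
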