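import Groth.Statements.S17683
import Mathlib

set_option autoImplicit false
universe u
open DiagMon

namespace Groth.Agent.S17683

theorem comapDomain_single_not_mem {R M N : Type*} [Semiring R] (f : M → N) {r : R} {n : N}
    (hn : n ∉ Set.range f) (hf : Function.Injective f) :
    AddMonoidAlgebra.comapDomain f hf (AddMonoidAlgebra.single n r) = 0 := by
  ext; simp [*]

/-- Let N be a commutative monoid and F a submonoid of N. The additive projection ℤ[N] → ℤ[F] of monoid
algebras keeping the monomials with exponent in F and killing the others is multiplicative, i.e. F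
is a face of N, if and only if for all x, y in N the sum x + y lies in F exactly when both x and y
do. -/
theorem result {N : Type u} [AddCommMonoid N] (F : AddSubmonoid N) :
    (∀ a b : AddMonoidAlgebra ℤ N,
        AddMonoidAlgebra.comapDomain ((↑) : F → N) Subtype.val_injective (a * b) =
          AddMonoidAlgebra.comapDomain ((↑) : F → N) Subtype.val_injective a *
            AddMonoidAlgebra.comapDomain ((↑) : F → N) Subtype.val_injective b) ↔
      ∀ x y : N, x + y ∈ F ↔ (x ∈ F ∧ y ∈ F) := by
  classical
  have hinj : Function.Injective ((↑) : F → N) := Subtype.val_injective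
  have hrange : ∀ x : N, x ∈ Set.range ((↑) : F → N) ↔ x ∈ F := by
    intro x; simp
  constructor
  · intro h x y
    constructor
    · intro hxy
      have h1 := h (AddMonoidAlgebra.single x 1) (AddMonoidAlgebra.single y 1)
      rw [AddMonoidAlgebra.single_mul_single, mul_one] at h1
      have h2 : AddMonoidAlgebra.comapDomain ((↑) : F → N) Subtype.val_injective
          (AddMonoidAlgebra.single (x + y) (1 : ℤ)) = AddMonoidAlgebra.single ⟨x + y, hxy⟩ 1 :=
        AddMonoidAlgebra.comapDomain_single_map ((↑) : F → N) Subtype.val_injective ⟨x + y, hxy⟩ 1
      rw [h2] at h1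
      have hne : (AddMonoidAlgebra.single (⟨x + y, hxy⟩ : F) (1 : ℤ)) ≠ 0 := by
        intro h0
        have := congrArg (fun z => z.coeff ⟨x + y, hxy⟩) h0
        simp at this
      constructor
      · by_contra hx
        rw [comapDomain_single_not_mem _
          (by rw [hrange]; exact hx), zero_mul] at h1
        exact hne h1
      · by_contra hy
        rw [comapDomain_single_not_mem _ (n := y)
          (by rw [hrange]; exact hy), mul_zero] at h1
        exact hne h1
    · rintro ⟨hx, hy⟩
      exact F.add_mem hx hy
  · intro h a b
    induction a using AddMonoidAlgebra.induction_linear with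
    | zero => simp [AddMonoidAlgebra.comapDomain_zero]
    | add a₁ a₂ h₁ h₂ => rw [add_mul, AddMonoidAlgebra.comapDomain_add, AddMonoidAlgebra.comapDomain_add, add_mul, h₁, h₂]
    | single x r =>
      induction b using AddMonoidAlgebra.induction_linear with
      | zero => simp [AddMonoidAlgebra.comapDomain_zero]
      | add b₁ b₂ h₁ h₂ => rw [mul_add, AddMonoidAlgebra.comapDomain_add, AddMonoidAlgebra.comapDomain_add, mul_add, h₁, h₂]
      | single y s =>
        rw [AddMonoidAlgebra.single_mul_single]
        by_cases hxy : x + y ∈ F
        · obtain ⟨hx, hy⟩ := (h x y).mp hxy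
          have e1 := AddMonoidAlgebra.comapDomain_single_map ((↑) : F → N) Subtype.val_injective ⟨x + y, hxy⟩ (r * s)
          have e2 := AddMonoidAlgebra.comapDomain_single_map ((↑) : F → N) Subtype.val_injective ⟨x, hx⟩ r
          have e3 := AddMonoidAlgebra.comapDomain_single_map ((↑) : F → N) Subtype.val_injective ⟨y, hy⟩ s
          simp only at e1 e2 e3
          rw [e1, e2, e3, AddMonoidAlgebra.single_mul_single]
          rfl
        · rw [comapDomain_single_not_mem _ (n := x + y)
            (by rw [hrange]; exact hxy)]
          by_cases hx : x ∈ F
          · have hy : y ∉ F := fun hy => hxy ((h x y).mpr ⟨hx, hy⟩)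
            rw [comapDomain_single_not_mem _ (n := y)
              (by rw [hrange]; exact hy), mul_zero]
          · rw [comapDomain_single_not_mem _ (n := x)
              (by rw [hrange]; exact hx), zero_mul]

end Groth.Agent.S17683
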