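import Groth.Statements.S17685
import Groth.Agent.Lib.Helper18.RelBase6

set_option autoImplicit false
universe u
open CategoryTheory MonoidalCategory CartesianMonoidalCategory MonObj GrpObj AlgebraicGeometry
open AlgGrp

namespace Groth.Agent.S17685

/-- Let S be a scheme, F an S-scheme that is finite locally free over S (finite, flat and locally of
finite presentation) with a section e of F over S which is a surjective closed immersion (an
infinitesimal pointed S-scheme), and X an S-scheme with an action of the pointed scheme F, i.e. an
S-morphism F ×_S X → X through which e acts as the identity. Then the subfunctor of F-fixed points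
of X, whose T-points are the T-points x of X with g · x_{T'} = x_{T'} for every S-scheme T' over T
and every T'-point g of F, is represented by a closed subscheme of X. (The source allows F and X to
be algebraic spaces over S; this row is the case of schemes.) -/
theorem result (S : Scheme.{u})
    (F X : Over S) (e : 𝟙_ (Over S) ⟶ F) (act : F ⊗ X ⟶ X) (he : (e ▷ X) ≫ act = (λ_ X).hom)
    [IsFinite F.hom] [Flat F.hom] [LocallyOfFinitePresentation F.hom]
    [IsClosedImmersion e.left] [Surjective e.left] :
    ∃ (Z : Scheme.{u}) (i : Z ⟶ X.left), IsClosedImmersion i ∧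
      ∀ (T : Over S) (x : T ⟶ X), (∃ y : T.left ⟶ Z, y ≫ i = x.left) ↔
        ∀ (T' : Over S) (t : T' ⟶ T) (g : T' ⟶ F), lift g (t ≫ x) ≫ act = t ≫ x := by
  have hpt : ∀ p : (F ⊗ X).left, act.left.base p = (snd F X).left.base p := by
    intro p
    have hsurj : p ∈ Set.range (e ▷ X).left.base := by
      rw [Groth.Agent.Helper18.RelBase.range_whiskerRight]
      have : Set.range e.left.base = Set.univ := Set.range_eq_univ.mpr e.left.surjective
      rw [this]
      trivial
    obtain ⟨p', rfl⟩ := hsurj
    have h1 := congrArg (fun f => f.left.base p') he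
    have h2 : (e ▷ X) ≫ snd F X = snd (𝟙_ (Over S)) X := whiskerRight_snd _ _
    have h3 := congrArg (fun f => f.left.base p') h2
    rw [leftUnitor_hom] at h1
    exact h1.trans h3.symm
  obtain ⟨Z, j, hj, h⟩ := Groth.Agent.Helper18.RelBase.fixed_closed_of_pointwise
    (Groth.Agent.Helper18.RelBase.locFree_of_finite_flat_fp F) act hpt
  refine ⟨Z.left, j.left, hj, ?_⟩
  intro T x
  rw [← h]
  constructor
  · rintro ⟨y, hy⟩
    refine ⟨Over.homMk y ?_, ?_⟩
    · rw [← Over.w j, ← Category.assoc, hy, Over.w]
    · ext1
      exact hy
  · rintro ⟨z, rfl⟩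
    exact ⟨z.left, rfl⟩

end Groth.Agent.S17685
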