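import Groth.Statements.S17688
import Groth.Agent.Lib.Helper4.FlatClosure
import Groth.Prelude.Def_ActBC

set_option autoImplicit false
universe u
open CategoryTheory CategoryTheory.Limits AlgebraicGeometry MonObj
open Neron

namespace Groth.Agent.S17688

section

open Groth.Agent.Helper4.FlatClosure

set_option linter.style.haveILetI false

/-- two morphisms from a flat `S`-scheme to a separated `S`-scheme which agree on the generic
fibre are equal -/
theorem ext_of_generic {S S' : Scheme.{u}} (gK : S' ⟶ S) [QuasiCompact gK]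
    [IsSchemeTheoreticallyDominant gK]
    {T G : Over S} (hT : Flat T.hom) [IsSeparated G.hom] (a₁ a₂ : T ⟶ G)
    (h : (Over.pullback gK).map a₁ = (Over.pullback gK).map a₂) : a₁ = a₂ := by
  haveI := hT
  let τ : (Red.bc gK T).left ⟶ T.left := pullback.fst T.hom gK
  haveI : IsSchemeTheoreticallyDominant τ := IsSchemeTheoreticallyDominant.pullbackFst T.hom gK
  have key : τ ≫ a₁.left = τ ≫ a₂.left := by
    rw [← ActBC.pullback_map_left_fst gK a₁, ← ActBC.pullback_map_left_fst gK a₂, h]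
  let W' : Over S := Over.mk (τ ≫ T.hom)
  let ι' : W' ⟶ T := Over.homMk τ
  have hι : ι' ≫ a₁ = ι' ≫ a₂ := by ext1; exact key
  let e := equalizer.ι a₁ a₂
  let l := equalizer.lift ι' hι
  have hl : l.left ≫ e.left = τ := by rw [← Over.comp_left, equalizer.lift_ι]; rfl
  haveI : IsSchemeTheoreticallyDominant e.left := by
    rw [isSchemeTheoreticallyDominant_iff, eq_bot_iff]
    have h1 : (l.left ≫ e.left).ker = ⊥ := by rw [hl]; exact τ.ker_eq_bot
    rw [← h1]
    exact Scheme.Hom.le_ker_comp _ _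
  haveI : IsIso e.left := isIso_of_isClosedImmersion_of_isSchemeTheoreticallyDominant e.left
  ext1
  rw [← cancel_epi e.left]
  exact congr($(equalizer.condition a₁ a₂).left)

theorem main
    (R : Type u) [CommRing R] [IsDomain R] [IsDiscreteValuationRing R]
    (p : ℕ) (hp : p.Prime) [CharP (FractionRing R) p]
    (U : Over (Spec (CommRingCat.of R))) [GrpObj U] [IsCommMonObj U] [Flat U.hom] [IsSeparated U.hom]
    (N : ℕ) (hN : (𝟙 (Red.bc (Neron.genPt R) U) : Red.bc (Neron.genPt R) U ⟶ Red.bc (Neron.genPt R) U) ^ (p ^ N) = 1)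
    (ℓ : ℕ) (hℓ : ℓ.Prime) (hℓu : IsUnit (ℓ : R)) :
    IsIso ((𝟙 U : U ⟶ U) ^ ℓ) := by
  let gK := Neron.genPt R
  let F := Over.pullback gK
  haveI : QuasiCompact gK := inferInstance
  haveI : IsDominant gK := by
    rw [isDominant_iff]
    have h1 : RingHom.ker (algebraMap R (FractionRing R)) ≤ nilradical R := by
      rw [(RingHom.injective_iff_ker_eq_bot _).1 (IsFractionRing.injective R (FractionRing R))]
      exact bot_le
    exact (PrimeSpectrum.denseRange_comap_iff_ker_le_nilRadical _).2 h1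
  haveI : IsSchemeTheoreticallyDominant gK := .of_isDominant gK
  -- `p ^ N` kills `U`
  have hkill : (𝟙 U : U ⟶ U) ^ (p ^ N) = 1 := by
    apply ext_of_generic gK (inferInstance : Flat U.hom)
    have h1 : F.map ((𝟙 U : U ⟶ U) ^ (p ^ N)) = (F.map (𝟙 U)) ^ (p ^ N) :=
      map_pow (F.homMonoidHom (X := U) (M := U)) (𝟙 U) (p ^ N)
    have h2 : F.map (1 : U ⟶ U) = 1 := Functor.map_one F
    change F.map _ = F.map _
    rw [h1, h2, F.map_id]
    exact hN
  -- `ℓ ≠ p`
  have hne : ℓ ≠ p := by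
    rintro rfl
    have h0 : ((ℓ : ℕ) : FractionRing R) = 0 := CharP.cast_eq_zero _ _
    have h1 : (ℓ : R) = 0 := by
      apply IsFractionRing.injective R (FractionRing R)
      rw [map_natCast, map_zero, h0]
    rw [h1] at hℓu
    exact not_isUnit_zero hℓu
  have hcop : Nat.Coprime ℓ (p ^ N) :=
    Nat.Coprime.pow_right N ((Nat.coprime_primes hℓ hp).2 hne)
  -- Bezout
  have hb : (ℓ : ℤ) * Nat.gcdA ℓ (p ^ N) + ((p ^ N : ℕ) : ℤ) * Nat.gcdB ℓ (p ^ N) = 1 := by
    have := Nat.gcd_eq_gcd_ab ℓ (p ^ N)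
    rw [hcop] at this
    rw [← this]; simp
  set a : ℤ := Nat.gcdA ℓ (p ^ N) with ha
  set b : ℤ := Nat.gcdB ℓ (p ^ N) with hb'
  set x : U ⟶ U := 𝟙 U with hx
  have h2 : x ^ (((p ^ N : ℕ) : ℤ) * b) = 1 := by rw [zpow_mul, zpow_natCast, hkill, one_zpow]
  have h1 : x ^ ((ℓ : ℤ) * a) = x := by
    calc x ^ ((ℓ : ℤ) * a) = x ^ ((ℓ : ℤ) * a) * x ^ (((p ^ N : ℕ) : ℤ) * b) := by
          rw [h2, _root_.mul_one]
      _ = x ^ ((ℓ : ℤ) * a + ((p ^ N : ℕ) : ℤ) * b) := (zpow_add x _ _).symm
      _ = x := by rw [hb, zpow_one]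
  refine ⟨⟨x ^ a, ?_, ?_⟩⟩
  · rw [GrpObj.comp_zpow, hx, Category.comp_id, ← hx, ← zpow_natCast, ← zpow_mul, h1]
  · rw [MonObj.comp_pow, hx, Category.comp_id, ← hx, ← zpow_natCast, ← zpow_mul, _root_.mul_comm, h1]

end

/-- Let R be a discrete valuation ring whose fraction field K has characteristic p > 0, and let U be a
flat, separated, commutative group scheme over Spec R whose generic fibre U_K is annihilated by a
power p^N of p (in the group of endomorphisms of U_K as a K-scheme, the p^N-th power of the identity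
is the unit). Then for every prime ℓ invertible in R the ℓ-th power map of U (the ℓ-th power of the
identity in the group of R-morphisms U → U) is an isomorphism. -/
theorem result
    (R : Type u) [CommRing R] [IsDomain R] [IsDiscreteValuationRing R]
    (p : ℕ) (hp : p.Prime) [CharP (FractionRing R) p]
    (U : Over (Spec (CommRingCat.of R))) [GrpObj U] [IsCommMonObj U] [Flat U.hom] [IsSeparated U.hom]
    (N : ℕ) (hN : (𝟙 (Red.bc (Neron.genPt R) U) : Red.bc (Neron.genPt R) U ⟶ Red.bc (Neron.genPt R) U) ^ (p ^ N) = 1)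
    (ℓ : ℕ) (hℓ : ℓ.Prime) (hℓu : IsUnit (ℓ : R)) :
    IsIso ((𝟙 U : U ⟶ U) ^ ℓ) := by
  exact main R p hp U N hN ℓ hℓ hℓu

end Groth.Agent.S17688
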