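import Groth.Statements.S17690
import Groth.Agent.Lib.Helper7.QENag
import Groth.Agent.Lib.Helper7.Mono
import Mathlib

set_option autoImplicit false
universe u
open Neron

set_option linter.style.haveILetI false
namespace Groth.Agent.S17690

/-- Let R be an excellent discrete valuation ring (Noetherian, universally catenary, G-ring, J-2) with
fraction field K, and let L be a finite purely inseparable field extension of K. Then the integral
closure S of R in L is a discrete valuation ring, and S is a finite R-module. -/
theorem result
    (R K L : Type u) [CommRing R] [IsDomain R] [IsDiscreteValuationRing R] (hR : EGA4.IsExcellent R)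
    [Field K] [Algebra R K] [IsFractionRing R K] [Field L] [Algebra K L] [FiniteDimensional K L]
    [IsPurelyInseparable K L] [Algebra R L] [IsScalarTower R K L] :
    IsDiscreteValuationRing ↥(integralClosure R L) ∧ Module.Finite R ↥(integralClosure R L) := by
  classical
  have hQE : EGA4.IsQuasiExcellent R := ⟨hR.1, hR.2.2.1, hR.2.2.2⟩
  have hNag := Groth.Agent.Helper7.QENag.s2654 R hQE
  have hN2 := Groth.Agent.Helper7.Mono.isN2_of_isNagata hNag
  have hfin : Module.Finite R (integralClosure R L) :=
    Groth.Agent.Helper7.Mono.finite_integralClosure_of_isN2 hN2 K L
  refine ⟨?_, hfin⟩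
  haveI := hfin
  haveI : IsNoetherianRing R := hR.1
  haveI : IsFractionRing (integralClosure R L) L :=
    integralClosure.isFractionRing_of_finite_extension K L
  haveI : IsNoetherianRing (integralClosure R L) :=
    Algebra.FiniteType.isNoetherianRing R _
  have hRL : Function.Injective (algebraMap R L) := by
    rw [IsScalarTower.algebraMap_eq R K L]
    exact (algebraMap K L).injective.comp (IsFractionRing.injective R K)
  have hnf : ¬ IsField (integralClosure R L) := by
    intro hf
    have hinj : Function.Injective (algebraMap R (integralClosure R L)) := by
      intro a b hab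
      apply hRL
      have := congrArg (algebraMap (integralClosure R L) L) hab
      rwa [← IsScalarTower.algebraMap_apply, ← IsScalarTower.algebraMap_apply] at this
    exact IsDiscreteValuationRing.not_isField R (isField_of_isIntegral_of_isField hinj hf)
  have hval : ValuationRing (integralClosure R L) := by
    rw [ValuationRing.iff_isInteger_or_isInteger (integralClosure R L) L]
    intro x
    obtain ⟨n, y, hy⟩ := IsPurelyInseparable.pow_mem K (ringExpChar K) x
    have hpos : 0 < ringExpChar K ^ n := pow_pos (expChar_pos K (ringExpChar K)) n
    rcases ValuationRing.isInteger_or_isInteger R y with ⟨r, hr⟩ | ⟨r, hr⟩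
    · left
      have hx : IsIntegral R x := by
        apply IsIntegral.of_pow hpos
        rw [← hy, ← hr, ← IsScalarTower.algebraMap_apply]
        exact isIntegral_algebraMap
      exact ⟨⟨x, hx⟩, rfl⟩
    · right
      have hx : IsIntegral R x⁻¹ := by
        apply IsIntegral.of_pow hpos
        rw [inv_pow, ← hy, ← map_inv₀, ← hr, ← IsScalarTower.algebraMap_apply]
        exact isIntegral_algebraMap
      exact ⟨⟨x⁻¹, hx⟩, rfl⟩
  haveI : IsLocalRing (integralClosure R L) := inferInstance
  exact ((IsDiscreteValuationRing.TFAE (integralClosure R L) hnf).out 0 1).mpr hval

end Groth.Agent.S17690
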