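import Groth.Statements.S17724
import Mathlib
import Groth.Agent.Lib.Helper26.LabCirc3

set_option autoImplicit false
universe u v
open LabGraph

namespace Groth.Agent.S17724

/-- Let G be a finite connected multigraph with endpoint map ends, whose edges carry labels lab in a set
L and positive integer labels n, and suppose the L-labels are constant along every circuit. Say g :
V → ℤ is pre-achievable when for some finite set B of edges all carrying the same L-label, g takes
equal values at the two endpoints of every edge outside B (so g is constant on the connected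
components of the graph with B deleted); say g is Cartier when for every edge e the integer n(e)
divides the difference of the values of g at its endpoints. Then every Cartier function f is a
finite sum of functions each of which is Cartier and pre-achievable, and when f vanishes at a vertex
v₀ the summands can all be taken to vanish at v₀. -/
theorem result
    {V E : Type u} [Fintype V] [Fintype E] [DecidableEq V] [DecidableEq E] {L : Type v}
    (ends : E → V × V) (lab : E → L) (n : E → ℕ) (hn : ∀ e, 0 < n e)
    (hconn : LabGraph.Connected ends)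
    (hcirc : ∀ C : Finset E, LabGraph.IsCircuit ends C → ∀ e ∈ C, ∀ e' ∈ C, lab e = lab e')
    (f : V → ℤ) (hf : LabGraph.IsCartier ends n f) :
    f ∈ AddSubmonoid.closure {g : V → ℤ | LabGraph.IsCartier ends n g ∧ (∃ B : Finset E, (∀ e ∈ B, ∀ e' ∈ B, lab e = lab e') ∧ ∀ e, e ∉ B → g (ends e).1 = g (ends e).2)} ∧
    ∀ v₀ : V, f v₀ = 0 →
      f ∈ AddSubmonoid.closure {g : V → ℤ | LabGraph.IsCartier ends n g ∧ (∃ B : Finset E, (∀ e ∈ B, ∀ e' ∈ B, lab e = lab e') ∧ ∀ e, e ∉ B → g (ends e).1 = g (ends e).2) ∧ g v₀ = 0} := by
  classical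
  have hconst : ∀ c : ℤ, LabGraph.IsCartier ends n (fun _ : V => c) ∧
      (∃ B : Finset E, (∀ e ∈ B, ∀ e' ∈ B, lab e = lab e') ∧
        ∀ e, e ∉ B → (fun _ : V => c) (ends e).1 = (fun _ : V => c) (ends e).2) := by
    intro c
    refine ⟨fun e => ?_, ∅, by simp, fun e _ => rfl⟩
    simp
  have hpre : ∀ (lam : L) (g : V → ℤ), (∀ e, lab e ≠ lam → g (ends e).1 = g (ends e).2) →
      ∃ B : Finset E, (∀ e ∈ B, ∀ e' ∈ B, lab e = lab e') ∧
        ∀ e, e ∉ B → g (ends e).1 = g (ends e).2 := by
    intro lam g hg
    refine ⟨Finset.univ.filter (fun e => lab e = lam), ?_, ?_⟩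
    · intro e he e' he'
      rw [(Finset.mem_filter.1 he).2, (Finset.mem_filter.1 he').2]
    · intro e he
      apply hg
      intro h
      exact he (Finset.mem_filter.2 ⟨Finset.mem_univ e, h⟩)
  constructor
  · obtain ⟨v₀⟩ := hconn.1
    obtain ⟨T, g, hg, hsum⟩ := Groth.Agent.Helper26.LabCirc.main ends lab n hconn hcirc f hf v₀
    have hfeq : f = (fun _ : V => f v₀) + ∑ lam ∈ T, g lam := by
      funext x
      rw [Pi.add_apply, Finset.sum_apply]
      exact hsum x
    rw [hfeq]
    apply add_mem
    · exact AddSubmonoid.subset_closure (hconst (f v₀))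
    · apply sum_mem
      intro lam hlam
      obtain ⟨h1, h2, _⟩ := hg lam hlam
      exact AddSubmonoid.subset_closure ⟨h1, hpre lam (g lam) h2⟩
  · intro v₀ hv₀
    obtain ⟨T, g, hg, hsum⟩ := Groth.Agent.Helper26.LabCirc.main ends lab n hconn hcirc f hf v₀
    have hfeq : f = ∑ lam ∈ T, g lam := by
      funext x
      rw [Finset.sum_apply, hsum x, hv₀, zero_add]
    rw [hfeq]
    apply sum_mem
    intro lam hlam
    obtain ⟨h1, h2, h3⟩ := hg lam hlam
    exact AddSubmonoid.subset_closure ⟨h1, hpre lam (g lam) h2, h3⟩

end Groth.Agent.S17724
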