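import Groth.Statements.S17726
import Mathlib

set_option autoImplicit false
universe u
open CAlg

namespace Groth.Agent.S17726

theorem key {A : Type u} [CommRing A] (x : A) (hx : x ∈ nonZeroDivisors A) (hu : ¬ IsUnit x) (a b : ℕ)
    (h : Ideal.span {x ^ a} = Ideal.span {x ^ b}) : a = b := by
  by_contra hne
  wlog hab : a < b generalizing a b
  · exact this b a h.symm (Ne.symm hne) (by omega)
  have h1 : x ^ a ∈ Ideal.span {x ^ b} := h ▸ Ideal.mem_span_singleton_self _
  obtain ⟨c, hc⟩ := Ideal.mem_span_singleton'.mp h1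
  have h2 : (c * x ^ (b - a) - 1) * x ^ a = 0 := by
    rw [sub_mul, mul_assoc, ← pow_add, Nat.sub_add_cancel hab.le, hc, one_mul, sub_self]
  have h3 : c * x ^ (b - a) - 1 = 0 :=
    (mul_right_mem_nonZeroDivisors_eq_zero_iff (pow_mem hx a)).mp h2
  have h4 : IsUnit (x ^ (b - a)) :=
    IsUnit.of_mul_eq_one c (by rw [mul_comm]; exact sub_eq_zero.mp h3)
  exact hu ((isUnit_pow_iff (by omega)).mp h4)

/-- Let f and g be non-zero-divisors of a commutative ring A, not both units; think of them as local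
equations, at a point of the union of the supports, of two effective Cartier divisors E and D. If
the ideals generated by g^{m₁} and f^{n₁} coincide, and likewise for g^{m₂} and f^{n₂}, then m₁ n₂ =
m₂ n₁. So all pairs (m, n) with m D = n E locally at the point are proportional, and the saturation
of the monoid they form is generated by a single element. -/
theorem result
    (A : Type u) [CommRing A] (f g : A)
    (hf : f ∈ nonZeroDivisors A) (hg : g ∈ nonZeroDivisors A) (hfg : ¬ (IsUnit f ∧ IsUnit g))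
    (m₁ n₁ m₂ n₂ : ℕ)
    (h₁ : Ideal.span {g ^ m₁} = Ideal.span {f ^ n₁})
    (h₂ : Ideal.span {g ^ m₂} = Ideal.span {f ^ n₂}) :
    m₁ * n₂ = m₂ * n₁ := by
  have e1 : ∀ j : ℕ, Ideal.span {g ^ (m₁ * j)} = Ideal.span {f ^ (n₁ * j)} := by
    intro j
    rw [pow_mul, pow_mul, ← Ideal.span_singleton_pow (g ^ m₁), ← Ideal.span_singleton_pow (f ^ n₁), h₁]
  have e2 : ∀ j : ℕ, Ideal.span {g ^ (m₂ * j)} = Ideal.span {f ^ (n₂ * j)} := by
    intro j
    rw [pow_mul, pow_mul, ← Ideal.span_singleton_pow (g ^ m₂), ← Ideal.span_singleton_pow (f ^ n₂), h₂]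
  by_cases huf : IsUnit f
  · have hug : ¬ IsUnit g := fun h => hfg ⟨huf, h⟩
    have h3 : Ideal.span {g ^ (m₁ * n₂)} = Ideal.span {g ^ (m₂ * n₁)} := by
      rw [e1 n₂, e2 n₁, mul_comm n₁ n₂]
    exact key g hg hug _ _ h3
  · have h3 : Ideal.span {f ^ (n₁ * m₂)} = Ideal.span {f ^ (n₂ * m₁)} := by
      rw [← e1 m₂, ← e2 m₁, mul_comm m₁ m₂]
    have := key f hf huf _ _ h3
    nlinarith [this]

end Groth.Agent.S17726
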