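import Groth.Statements.S17737
import Groth.Agent.S17720
import Groth.Agent.Lib.Helper1.AdicNoeth

set_option autoImplicit false
universe u
open DualGr

namespace Groth.Agent.S17737

open IsLocalRing in
/-- Let R be a Noetherian local ring, A a local ring with a ring map φ : R → A, and a, b two elements of
the maximal ideal of R such that A is formally a node over R both of thickness (a) and of thickness
(b): the completion of A is isomorphic, compatibly with R, to R̂[[x,y]]/(xy − a) and also to
R̂[[x,y]]/(xy − b). Then aR = bR. (This is the uniqueness assertion: the element in a node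
presentation is not unique but the principal ideal it generates is; it is stated for presentations
with the element taken in R, whose ideal in R is then determined.) -/
theorem result
    (R A : Type u) [CommRing R] [IsLocalRing R] [IsNoetherianRing R] [CommRing A] [IsLocalRing A]
    (φ : R →+* A) (a b : R) (ha : a ∈ maximalIdeal R) (hb : b ∈ maximalIdeal R)
    (h₁ : DualGr.IsThickNode φ a) (h₂ : DualGr.IsThickNode φ b) :
    Ideal.span {a} = Ideal.span {b} := by
  classical
  obtain ⟨e₁, he₁⟩ := h₁
  obtain ⟨e₂, he₂⟩ := h₂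
  haveI hRhN : IsNoetherianRing (AdicCompletion (IsLocalRing.maximalIdeal R) R) :=
    Groth.Agent.Helper1.isNoetherianRing_adicCompletion_of_fg R (IsLocalRing.maximalIdeal R)
      (IsNoetherian.noetherian _)
  let ι : R →+* Curv2.cpl R := algebraMap R (Curv2.cpl R)
  have hιa : ι a ∈ IsLocalRing.maximalIdeal (Curv2.cpl R) := map_nonunit ι a ha
  have hιb : ι b ∈ IsLocalRing.maximalIdeal (Curv2.cpl R) := map_nonunit ι b hb
  let ε : DualGr.nodeRing R a ≃+* DualGr.nodeRing R b := e₁.symm.trans e₂
  have hε : ∀ r : R, ε (Ideal.Quotient.mk _ (MvPowerSeries.C (ι r))) =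
      Ideal.Quotient.mk _ (MvPowerSeries.C (ι r)) := by
    intro r
    show e₂ (e₁.symm _) = _
    rw [← he₁ r, e₁.symm_apply_apply, he₂ r]
  -- the node ring is a Noetherian local ring
  have hnontriv : ∀ c : Curv2.cpl R, c ∈ IsLocalRing.maximalIdeal (Curv2.cpl R) →
      Nontrivial (MvPowerSeries (Fin 2) (Curv2.cpl R) ⧸
        Ideal.span {(MvPowerSeries.X 0 * MvPowerSeries.X 1 - MvPowerSeries.C c :
          MvPowerSeries (Fin 2) (Curv2.cpl R))}) := by
    intro c hc
    rw [Ideal.Quotient.nontrivial_iff, Ne, Ideal.span_singleton_eq_top,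
      MvPowerSeries.isUnit_iff_constantCoeff]
    simp only [map_sub, map_mul, MvPowerSeries.constantCoeff_X, mul_zero,
      MvPowerSeries.constantCoeff_C, zero_sub, IsUnit.neg_iff]
    exact (IsLocalRing.mem_maximalIdeal _).mp hc
  haveI hNbnt : Nontrivial (DualGr.nodeRing R b) := hnontriv _ hιb
  haveI hNbloc : IsLocalRing (DualGr.nodeRing R b) :=
    IsLocalRing.of_surjective' (Ideal.Quotient.mk _) Ideal.Quotient.mk_surjective
  haveI hNbN : IsNoetherianRing (DualGr.nodeRing R b) := inferInstance
  let mkb := Ideal.Quotient.mk (Ideal.span {(MvPowerSeries.X 0 * MvPowerSeries.X 1 -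
    MvPowerSeries.C (ι b) : MvPowerSeries (Fin 2) (Curv2.cpl R))})
  let mka := Ideal.Quotient.mk (Ideal.span {(MvPowerSeries.X 0 * MvPowerSeries.X 1 -
    MvPowerSeries.C (ι a) : MvPowerSeries (Fin 2) (Curv2.cpl R))})
  let u : Curv2.cpl R →+* DualGr.nodeRing R b :=
    (ε : DualGr.nodeRing R a →+* DualGr.nodeRing R b).comp (mka.comp MvPowerSeries.C)
  let v : Curv2.cpl R →+* DualGr.nodeRing R b := mkb.comp MvPowerSeries.C
  have huv : ∀ r : R, u (ι r) = v (ι r) := hε
  have hv_mem : ∀ r ∈ IsLocalRing.maximalIdeal R,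
      v (ι r) ∈ IsLocalRing.maximalIdeal (DualGr.nodeRing R b) := by
    intro r hr
    rw [IsLocalRing.mem_maximalIdeal, mem_nonunits_iff]
    intro hunit
    have h1 : IsUnit (MvPowerSeries.C (ι r) : MvPowerSeries (Fin 2) (Curv2.cpl R)) := by
      have : IsLocalHom mkb := IsLocalHom.of_surjective mkb Ideal.Quotient.mk_surjective
      exact isUnit_of_map_unit mkb _ hunit
    rw [MvPowerSeries.isUnit_iff_constantCoeff, MvPowerSeries.constantCoeff_C] at h1
    exact (IsLocalRing.mem_maximalIdeal _).mp (map_nonunit ι r hr) h1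
  have hu_le : (IsLocalRing.maximalIdeal (Curv2.cpl R)).map u ≤
      IsLocalRing.maximalIdeal (DualGr.nodeRing R b) := by
    rw [AdicCompletion.maximalIdeal_eq_map, Ideal.map_map, Ideal.map_le_iff_le_comap]
    intro r hr
    have h3 := hv_mem r hr
    rw [← huv] at h3
    exact h3
  have hv_le : (IsLocalRing.maximalIdeal (Curv2.cpl R)).map v ≤
      IsLocalRing.maximalIdeal (DualGr.nodeRing R b) := by
    rw [AdicCompletion.maximalIdeal_eq_map, Ideal.map_map, Ideal.map_le_iff_le_comap]
    intro r hr
    exact hv_mem r hr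
  have hdense : ∀ (s : Curv2.cpl R) (n : ℕ),
      ∃ r : R, s - ι r ∈ IsLocalRing.maximalIdeal (Curv2.cpl R) ^ n := by
    intro s n
    obtain ⟨r, hr⟩ := Submodule.mkQ_surjective _
      (AdicCompletion.eval (IsLocalRing.maximalIdeal R) R n s)
    refine ⟨r, ?_⟩
    have h1 : s - ι r ∈ LinearMap.ker (AdicCompletion.eval (IsLocalRing.maximalIdeal R) R n) := by
      rw [LinearMap.mem_ker, map_sub, sub_eq_zero]
      show _ = AdicCompletion.eval _ _ n (AdicCompletion.of _ _ r)
      rw [AdicCompletion.eval_of, hr]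
    rw [← AdicCompletion.pow_smul_top_eq_ker_eval (IsNoetherian.noetherian _)] at h1
    refine Submodule.smul_induction_on h1 (fun i hi x _ => ?_)
      (fun x y hx hy => Ideal.add_mem _ hx hy)
    rw [Algebra.smul_def, AdicCompletion.maximalIdeal_eq_map, ← Ideal.map_pow]
    exact Ideal.mul_mem_right _ _ (Ideal.mem_map_of_mem _ hi)
  have key : ∀ s : Curv2.cpl R, u s = v s := by
    intro s
    have hmem : ∀ n : ℕ, u s - v s ∈ IsLocalRing.maximalIdeal (DualGr.nodeRing R b) ^ n := by
      intro n
      obtain ⟨r, hr⟩ := hdense s n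
      have e : u s - v s = u (s - ι r) - v (s - ι r) := by
        rw [map_sub, map_sub, huv]
        ring
      rw [e]
      refine Ideal.sub_mem _ ?_ ?_
      · refine Ideal.pow_right_mono hu_le n ?_
        rw [← Ideal.map_pow]
        exact Ideal.mem_map_of_mem u hr
      · refine Ideal.pow_right_mono hv_le n ?_
        rw [← Ideal.map_pow]
        exact Ideal.mem_map_of_mem v hr
    have h0 : u s - v s ∈ (⨅ n, IsLocalRing.maximalIdeal (DualGr.nodeRing R b) ^ n) := by
      rw [Ideal.mem_iInf]
      exact hmem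
    rw [Ideal.iInf_pow_eq_bot_of_isLocalRing _ (IsLocalRing.maximalIdeal.isMaximal _).ne_top]
      at h0
    exact sub_eq_zero.mp h0
  let φ' : (MvPowerSeries (Fin 2) (Curv2.cpl R) ⧸ Ideal.span {(MvPowerSeries.X 0 *
      MvPowerSeries.X 1 - MvPowerSeries.C (ι a) : MvPowerSeries (Fin 2) (Curv2.cpl R))}) ≃ₐ[Curv2.cpl R]
      (MvPowerSeries (Fin 2) (Curv2.cpl R) ⧸ Ideal.span {(MvPowerSeries.X 0 *
      MvPowerSeries.X 1 - MvPowerSeries.C (ι b) : MvPowerSeries (Fin 2) (Curv2.cpl R))}) :=
    AlgEquiv.ofRingEquiv (f := ε) (fun s => key s)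
  have hspan := Groth.Agent.S17720.result (Curv2.cpl R) (ι a) (ι b) hιa hιb φ'
  have : Module.FaithfullyFlat R (AdicCompletion (IsLocalRing.maximalIdeal R) R) :=
    Module.FaithfullyFlat.of_flat_of_isLocalHom
  have h1 : Ideal.map ι (Ideal.span {a}) = Ideal.map ι (Ideal.span {b}) := by
    rw [Ideal.map_span, Ideal.map_span, Set.image_singleton, Set.image_singleton]
    exact hspan
  have h2 := congrArg (Ideal.comap ι) h1
  rwa [Ideal.comap_map_eq_self_of_faithfullyFlat, Ideal.comap_map_eq_self_of_faithfullyFlat] at h2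

end Groth.Agent.S17737
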