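import Groth.Statements.S17756
import Groth.Agent.Lib.Helper8.Matlis2
import Mathlib.Algebra.Module.SpanRankOperations

set_option autoImplicit false
universe u
open Matlis

namespace Groth.Agent.S17756

open IsLocalRing Groth.Agent.Helper8.Matlis

section
variable {R : Type u} [CommRing R] (I : Ideal R) {M P E : Type u} [AddCommGroup M] [Module R M]
  [AddCommGroup P] [Module R P] [AddCommGroup E] [Module R E]

/-- `Hom(M/IM, E) ≃ Hom(M, E)[I]`. -/
noncomputable def homEquiv (π : M →ₗ[R] P) (hπ : Function.Surjective π)
    (hker : LinearMap.ker π = I • (⊤ : Submodule R M)) :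
    (P →ₗ[R] E) ≃ₗ[R] ↥(Submodule.torsionBySet R (M →ₗ[R] E) (I : Set R)) := by
  refine LinearEquiv.ofBijective
    ((LinearMap.lcomp R E π).codRestrict _ (fun ψ => ?_)) ⟨?_, ?_⟩
  · rw [Submodule.mem_torsionBySet_iff]
    rintro ⟨a, ha⟩
    ext x
    change a • ψ (π x) = 0
    rw [← map_smul, ← map_smul]
    have : a • x ∈ LinearMap.ker π := by
      rw [hker]; exact Submodule.smul_mem_smul ha Submodule.mem_top
    rw [LinearMap.mem_ker.1 this, map_zero]
  · intro ψ ψ' h
    have h' : ψ ∘ₗ π = ψ' ∘ₗ π := congrArg Subtype.val h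
    ext p
    obtain ⟨x, rfl⟩ := hπ p
    exact LinearMap.congr_fun h' x
  · rintro ⟨φ, hφ⟩
    rw [Submodule.mem_torsionBySet_iff] at hφ
    have hle : LinearMap.ker π ≤ LinearMap.ker φ := by
      rw [hker]
      refine Submodule.smul_le.2 fun a ha x _ => ?_
      rw [LinearMap.mem_ker, map_smul]
      exact LinearMap.congr_fun (hφ ⟨a, ha⟩) x
    refine ⟨(LinearMap.ker π).liftQ φ hle ∘ₗ
      ((π.quotKerEquivOfSurjective hπ).symm : P →ₗ[R] _), ?_⟩
    apply Subtype.ext
    ext x
    change (LinearMap.ker π).liftQ φ hle ((π.quotKerEquivOfSurjective hπ).symm (π x)) = φ x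
    rw [LinearMap.quotKerEquivOfSurjective_symm_apply]
    rfl

end


/-- Let R be a Noetherian local ring with maximal ideal m and residue field k, E an injective hull of k,
and M a finitely generated R-module with Matlis dual M^v = Hom_R(M, E). Then the minimal number of
generators of M equals the k-dimension of the socle of M^v, the submodule of elements of M^v killed
by m (stated as its length as an R-module). -/
theorem result (R : Type u) [CommRing R] [IsNoetherianRing R] [IsLocalRing R] (E : Type u) [AddCommGroup E] [Module R E] (f : IsLocalRing.ResidueField R →ₗ[R] E) (hf : InjHull.IsInjectiveHull f) (M : Type u) [AddCommGroup M] [Module R M] [Module.Finite R M] : ((⊤ : Submodule R M).spanFinrank : ℕ∞) = Module.length R (LocCoh.torsionBy (IsLocalRing.maximalIdeal R) (M →ₗ[R] E)) := by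
  let _ : Field (R ⧸ maximalIdeal R) := Ideal.Quotient.field _
  let N : Submodule R M := ⊤
  let Q := N ⧸ (maximalIdeal R) • (⊤ : Submodule R N)
  have hfg : N.FG := Module.Finite.fg_top
  have h1 : N.spanFinrank = Module.finrank (R ⧸ maximalIdeal R) Q :=
    IsLocalRing.spanFinrank_eq_finrank_quotient N hfg
  have hfinQ : Module.Finite R Q := inferInstance
  have hfinQ' : Module.Finite (R ⧸ maximalIdeal R) Q :=
    Module.Finite.of_restrictScalars_finite R _ _
  have h2 : Module.length (R ⧸ maximalIdeal R) Q = Module.finrank (R ⧸ maximalIdeal R) Q :=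
    Module.length_eq_finrank _ _
  have h3 : Module.length R Q = Module.length (R ⧸ maximalIdeal R) Q :=
    Module.length_eq_of_surjective Ideal.Quotient.mk_surjective
  have hlenQ : Module.length R Q = N.spanFinrank := by rw [h3, h2, h1]
  have hQfl : IsFiniteLength R Q := by
    rw [← Module.length_ne_top_iff, hlenQ]
    exact ENat.natCast_ne_top _
  have h4 : Module.length R (Q →ₗ[R] E) = Module.length R Q := length_hom hf Q hQfl
  let π : M →ₗ[R] Q := Submodule.mkQ _ ∘ₗ (Submodule.topEquiv (R := R) (M := M)).symm.toLinearMap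
  have hπ : Function.Surjective π :=
    (Submodule.mkQ_surjective _).comp (Submodule.topEquiv (R := R) (M := M)).symm.surjective
  have hker : LinearMap.ker π = (maximalIdeal R) • (⊤ : Submodule R M) := by
    rw [LinearMap.ker_comp, Submodule.ker_mkQ]
    have : (maximalIdeal R • (⊤ : Submodule R N)) =
        Submodule.map (Submodule.topEquiv (R := R) (M := M)).symm.toLinearMap
          ((maximalIdeal R) • (⊤ : Submodule R M)) := by
      rw [Submodule.map_smul'', Submodule.map_top, LinearMap.range_eq_top.2
        (Submodule.topEquiv (R := R) (M := M)).symm.surjective]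
    rw [this, Submodule.comap_map_eq_of_injective
      (Submodule.topEquiv (R := R) (M := M)).symm.injective]
  rw [← (homEquiv (E := E) (maximalIdeal R) π hπ hker).length_eq, h4, hlenQ]

end Groth.Agent.S17756
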