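import Groth.Statements.S17761
import Groth.Agent.Lib.Helper8.LCGNV

set_option autoImplicit false
universe u
open LocCoh

namespace Groth.Agent.S17761


theorem result (R : Type u) [CommRing R] [IsNoetherianRing R] [IsLocalRing R] (M : Type u) [AddCommGroup M] [Module R M] [Module.Finite R M] (n : ℕ) (hn0 : 0 < n) (hn : Module.supportDim R M = n) : ¬ Module.Finite R (LocCoh.H (IsLocalRing.maximalIdeal R) n M) := by
  intro hfin
  obtain ⟨y, hym, hy⟩ := Groth.Agent.Helper8.LC.exists_smul_surjective_H_top (R := R) M n hn0 (le_of_eq hn)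
  haveI := Groth.Agent.Helper8.LC.nontrivial_H_of_supportDim_eq (R := R) n M hn
  -- Nakayama
  have htop : (⊤ : Submodule R (LocCoh.H (IsLocalRing.maximalIdeal R) n M)) ≤
      (IsLocalRing.maximalIdeal R) • (⊤ : Submodule R (LocCoh.H (IsLocalRing.maximalIdeal R) n M)) := by
    intro h _
    obtain ⟨h', rfl⟩ := hy h
    exact Submodule.smul_mem_smul hym Submodule.mem_top
  have hbot : (⊤ : Submodule R (LocCoh.H (IsLocalRing.maximalIdeal R) n M)) = ⊥ :=
    Submodule.eq_bot_of_le_smul_of_le_jacobson_bot (IsLocalRing.maximalIdeal R) _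
      Module.Finite.fg_top htop (IsLocalRing.maximalIdeal_le_jacobson _)
  obtain ⟨a, b, hab⟩ := exists_pair_ne (LocCoh.H (IsLocalRing.maximalIdeal R) n M)
  apply hab
  have ha : a ∈ (⊤ : Submodule R (LocCoh.H (IsLocalRing.maximalIdeal R) n M)) := Submodule.mem_top
  have hb : b ∈ (⊤ : Submodule R (LocCoh.H (IsLocalRing.maximalIdeal R) n M)) := Submodule.mem_top
  rw [hbot, Submodule.mem_bot] at ha hb
  rw [ha, hb]

end Groth.Agent.S17761
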