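import Groth.Statements.S17763
import Groth.Agent.Lib.Helper8.LCJac
import Groth.Agent.Lib.Helper8.LCTop
import Groth.Agent.Lib.Helper8.LCCd

set_option autoImplicit false
universe u
open LocCoh

namespace Groth.Agent.S17763

open Groth.Agent.Helper8 in
theorem aux_dim_one {R : Type u} [CommRing R] [IsNoetherianRing R] [IsLocalRing R]
    (I : Ideal R) (hI : 0 < ringKrullDim (R ⧸ I)) :
    ∃ p : Ideal R, p.IsPrime ∧ I ≤ p ∧ ringKrullDim (R ⧸ p) = 1 := by
  -- a non-maximal prime containing `I`
  have h0 : ∃ P₀ : Ideal R, P₀.IsPrime ∧ I ≤ P₀ ∧ P₀ ≠ IsLocalRing.maximalIdeal R := by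
    by_contra hcon
    push Not at hcon
    have : Ring.KrullDimLE 0 (R ⧸ I) := by
      rw [Ring.krullDimLE_zero_iff]
      intro Q hQ
      have hq : (Q.comap (Ideal.Quotient.mk I)).IsPrime := Ideal.comap_isPrime _ _
      have hIq : I ≤ Q.comap (Ideal.Quotient.mk I) := by
        intro x hx
        rw [Ideal.mem_comap, Ideal.Quotient.eq_zero_iff_mem.2 hx]
        exact Q.zero_mem
      have := hcon _ hq hIq
      have hmax : (Q.comap (Ideal.Quotient.mk I)).IsMaximal := by
        rw [this]; exact IsLocalRing.maximalIdeal.isMaximal R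
      have := Ideal.map_eq_top_or_isMaximal_of_surjective (Ideal.Quotient.mk I)
        Ideal.Quotient.mk_surjective hmax
      rw [Ideal.map_comap_of_surjective _ Ideal.Quotient.mk_surjective] at this
      rcases this with h | h
      · exact absurd h hQ.ne_top
      · exact h
    have h1 := Ring.krullDimLE_iff.1 this
    exact absurd hI (not_lt.2 (by exact_mod_cast h1))
  obtain ⟨P₀, hP₀, hIP₀, hP₀m⟩ := h0
  let S : Set (Ideal R) := {q | q.IsPrime ∧ P₀ ≤ q ∧ q ≠ IsLocalRing.maximalIdeal R}
  have hne : S.Nonempty := ⟨P₀, hP₀, le_rfl, hP₀m⟩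
  obtain ⟨p, ⟨hp, hP₀p, hpm⟩, hmaxp⟩ :=
    WellFounded.has_min (wellFounded_gt (α := Ideal R)) S hne
  refine ⟨p, hp, hIP₀.trans hP₀p, ?_⟩
  haveI := hp
  apply le_antisymm
  · have : Ring.KrullDimLE 1 (R ⧸ p) := by
      apply Ring.KrullDimLE.mk₁'
      intro Q hQ0 hQ
      have hq : (Q.comap (Ideal.Quotient.mk p)).IsPrime := Ideal.comap_isPrime _ _
      have hpq : p < Q.comap (Ideal.Quotient.mk p) := by
        refine lt_of_le_of_ne ?_ ?_
        · intro x hx
          rw [Ideal.mem_comap, Ideal.Quotient.eq_zero_iff_mem.2 hx]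
          exact Q.zero_mem
        · intro heq
          apply hQ0
          rw [eq_bot_iff]
          intro y hy
          obtain ⟨x, rfl⟩ := Ideal.Quotient.mk_surjective y
          have : x ∈ Q.comap (Ideal.Quotient.mk p) := hy
          rw [← heq] at this
          rw [Ideal.mem_bot, Ideal.Quotient.eq_zero_iff_mem]
          exact this
      have hqm : Q.comap (Ideal.Quotient.mk p) = IsLocalRing.maximalIdeal R := by
        by_contra hne'
        exact hmaxp _ ⟨hq, hP₀p.trans hpq.le, hne'⟩ hpq
      have hmax : (Q.comap (Ideal.Quotient.mk p)).IsMaximal := by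
        rw [hqm]; exact IsLocalRing.maximalIdeal.isMaximal R
      have := Ideal.map_eq_top_or_isMaximal_of_surjective (Ideal.Quotient.mk p)
        Ideal.Quotient.mk_surjective hmax
      rw [Ideal.map_comap_of_surjective _ Ideal.Quotient.mk_surjective] at this
      rcases this with h | h
      · exact absurd h hQ.ne_top
      · exact h
    exact_mod_cast Ring.krullDimLE_iff.1 this
  · have hnot : ¬ Ring.KrullDimLE 0 (R ⧸ p) := by
      intro h0
      rw [Ring.krullDimLE_zero_iff] at h0
      have hbot : (⊥ : Ideal (R ⧸ p)).IsMaximal := h0 ⊥ Ideal.isPrime_bot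
      have hpmax : p.IsMaximal := (Ideal.bot_quotient_isMaximal_iff p).1 hbot
      exact hpm (IsLocalRing.eq_maximalIdeal hpmax)
    rw [Ring.krullDimLE_iff] at hnot
    have hpos : (0 : WithBot ℕ∞) < ringKrullDim (R ⧸ p) := by
      have := not_le.1 hnot
      exact_mod_cast this
    induction hx : ringKrullDim (R ⧸ p) with
    | bot =>
      rw [hx] at hpos
      exact absurd hpos not_lt_bot
    | coe a =>
      rw [hx] at hpos
      have h1 : (0 : ℕ∞) < a := by exact_mod_cast hpos
      have h2 : (1 : ℕ∞) ≤ a := Order.one_le_iff_pos.2 h1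
      exact_mod_cast h2

theorem result (R : Type u) [CommRing R] [IsNoetherianRing R] [IsLocalRing R] (d : ℕ) (hd : ringKrullDim R = d) : (∀ I : Ideal R, 0 < ringKrullDim (R ⧸ I) → Subsingleton (LocCoh.H I d R)) ↔ (∀ (p : Ideal R) [p.IsPrime], ringKrullDim (R ⧸ p) = 1 → Subsingleton (LocCoh.H p d R)) := by
  constructor
  · intro h p hp hdim
    apply h p
    rw [hdim]
    exact zero_lt_one
  · intro h I hI
    obtain ⟨p, hp, hIp, hdim⟩ := aux_dim_one I hI
    haveI := hp
    have hpd := h p hdim
    have hvan : ∀ (N : Type u) [AddCommGroup N] [Module R N],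
        Subsingleton (Groth.Agent.Helper8.LC.H p (d + 1) N) :=
      fun N _ _ => Groth.Agent.Helper8.LC.H_subsingleton_of_ringKrullDim_lt p d hd N (d + 1) (by omega)
    have hall : ∀ (M : Type u) [AddCommGroup M] [Module R M] (i : ℕ), d ≤ i →
        Subsingleton (Groth.Agent.Helper8.LC.H p i M) := by
      intro M _ _ i hi
      rcases Nat.eq_or_lt_of_le hi with rfl | hlt
      · exact Groth.Agent.Helper8.LC.H_subsingleton_of_ring p d hvan hpd M
      · exact Groth.Agent.Helper8.LC.H_subsingleton_of_ringKrullDim_lt p d hd M i hlt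
    have hJ : p ≤ (⊥ : Ideal R).jacobson := by
      rw [IsLocalRing.jacobson_eq_maximalIdeal ⊥ bot_ne_top]
      exact IsLocalRing.le_maximalIdeal hp.ne_top
    exact Groth.Agent.Helper8.LC.H_subsingleton_of_le_of_le_jacobson d hd I p hIp hJ hall R d le_rfl

end Groth.Agent.S17763
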