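import Groth.Statements.S17764
import Mathlib

set_option autoImplicit false
universe u
open InjHull

namespace Groth.Agent.S17764

/-- Let R be a commutative ring and M an R-module which is torsion-free (no nonzero element of R kills a
nonzero element of M) and divisible (multiplication by every nonzero element of R is surjective on
M). Then M is an injective R-module. (Over a ring with zero divisors the two hypotheses force M =
0.) -/
theorem result (R : Type u) [CommRing R] (M : Type u) [AddCommGroup M] [Module R M] [NoZeroSMulDivisors R M] (hdiv : ∀ r : R, r ≠ 0 → Function.Surjective (fun m : M => r • m)) : Module.Injective R M := by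
  apply Module.Baer.injective
  intro I g
  by_cases h : ∃ a ∈ I, a ≠ 0
  · obtain ⟨a, ha, ha0⟩ := h
    obtain ⟨m, hm⟩ := hdiv a ha0 (g ⟨a, ha⟩)
    refine ⟨LinearMap.toSpanSingleton R M m, fun x hx => ?_⟩
    simp only [LinearMap.toSpanSingleton_apply]
    have h1 : a • (x • m - g ⟨x, hx⟩) = 0 := by
      rw [smul_sub, smul_comm a x m]
      simp only at hm
      rw [hm, ← map_smul, ← map_smul, sub_eq_zero]
      congr 1
      ext
      simp [mul_comm]
    rcases eq_zero_or_eq_zero_of_smul_eq_zero h1 with h2 | h2
    · exact absurd h2 ha0
    · exact sub_eq_zero.mp h2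
  · push Not at h
    refine ⟨0, fun x hx => ?_⟩
    have hx0 : x = 0 := h x hx
    subst hx0
    have : (⟨0, hx⟩ : I) = 0 := rfl
    rw [this, map_zero]
    simp

end Groth.Agent.S17764
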