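import Groth.Statements.S17766
import Groth.Agent.Lib.Helper8.CanonId2
import Groth.Agent.Lib.Helper8.LCBridge
import Groth.Agent.Lib.Lead.Depth2

set_option autoImplicit false
universe u
open CategoryTheory Opposite
open LocCoh

namespace Groth.Agent.S17766


/-- Let B be a regular local ring, p a prime ideal of B of height r, and suppose that A = B ⧸ p is
Cohen–Macaulay. Then the B-module Ext^r_B(A, B) is isomorphic either to A itself or to a proper
ideal I of A which is unmixed of height one, i.e. every associated prime of A ⧸ I has height one in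
A (existence of a B-linear isomorphism in each case). -/
theorem result (B : Type u) [CommRing B] [IsRegularLocalRing B] (p : Ideal B) [p.IsPrime] [LocCoh.IsCohenMacaulayLocalRing (B ⧸ p)] (r : ℕ) (hr : p.height = r) : Nonempty (((Ext B (ModuleCat.{u} B) r).obj (op (ModuleCat.of B (B ⧸ p)))).obj (ModuleCat.of B B) ≃ₗ[B] (B ⧸ p)) ∨ ∃ I : Ideal (B ⧸ p), I ≠ ⊤ ∧ (∀ q ∈ associatedPrimes (B ⧸ p) ((B ⧸ p) ⧸ I), q.height = 1) ∧ Nonempty (((Ext B (ModuleCat.{u} B) r).obj (op (ModuleCat.of B (B ⧸ p)))).obj (ModuleCat.of B B) ≃ₗ[B] I) := by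
  haveI := Groth.Agent.Lead.Depth.isGorensteinLocalRing_of_isRegularLocalRing B
  obtain ⟨I, hI0, ⟨e⟩, hun⟩ := Groth.Agent.Helper8.CanonId.exists_ideal_equiv_ext p r hr
  have e0 := Groth.Agent.Helper8.LC.extEquiv (ModuleCat.of B (B ⧸ p)) (ModuleCat.of B B) r
  by_cases hI : I = ⊤
  · left
    let φ : I →ₗ[B] (B ⧸ p) := I.subtype.restrictScalars B
    have hφ : Function.Bijective φ := by
      constructor
      · intro x y hxy
        exact Subtype.ext hxy
      · intro y
        exact ⟨⟨y, hI ▸ Submodule.mem_top⟩, rfl⟩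
    exact ⟨e0 ≪≫ₗ e ≪≫ₗ LinearEquiv.ofBijective φ hφ⟩
  · right
    exact ⟨I, hI, hun, ⟨e0 ≪≫ₗ e⟩⟩

end Groth.Agent.S17766
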