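import Groth.Statements.S17768
import Groth.Agent.Lib.Helper20.GrArt3

set_option autoImplicit false
universe u
open GrLC

namespace Groth.Agent.S17768


theorem result (R : Type u) [CommRing R] [IsNoetherianRing R] (𝒜 : ℤ → AddSubgroup R) [GradedRing 𝒜] (hpos : ∀ n : ℤ, n < 0 → 𝒜 n = ⊥) (m : HomogeneousIdeal 𝒜) (hm : GrLC.IsStarLocal 𝒜 m) (M : Type u) [AddCommGroup M] [Module R M] [Module.Finite R M] (ℳ : ℤ → AddSubgroup M) [DirectSum.Decomposition ℳ] [SetLike.GradedSMul 𝒜 ℳ] (E : GrLC.StarInjRes 𝒜 ℳ) (i : ℕ) (n : ℤ) : IsArtinian (GrLC.deg0 𝒜) (E.Hcomp m i n) := by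
  haveI := Groth.Agent.Helper20.GrInj.isMaximal_of_isStarLocal hpos m hm
  haveI := Groth.Agent.Helper20.GrInj.H_isArtinian_of_isMaximal E m i
  exact Groth.Agent.Helper20.GrInj.Hcomp_isArtinian E m i n

end Groth.Agent.S17768
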