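import Groth.Statements.S17779
import Mathlib

set_option autoImplicit false
open DRR

namespace Groth.Agent.S17779

open Finset Nat in
theorem aux (n : ℕ) : (fwdDiff (1 : ℤ))^[n] (fun r : ℤ => r ^ (n + 1)) =
    fun y => ((n + 1)! : ℤ) * y + (((n + 1).choose 2 * n ! : ℕ) : ℤ) := by
  induction n with
  | zero => funext y; simp
  | succ n ih =>
    have h1 : (fwdDiff (1 : ℤ) fun (r : ℤ) ↦ r ^ (n + 1 + 1)) =
        ∑ i ∈ range (n + 1 + 1), (n + 1 + 1).choose i • fun r ↦ r ^ i := by
      ext x
      simp [nsmul_eq_mul, fwdDiff, add_pow, sum_range_succ, mul_comm]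
    rw [Function.iterate_succ_apply, h1, fwdDiff_iter_finsetSum]
    simp_rw [fwdDiff_iter_const_smul]
    rw [sum_range_succ, sum_range_succ, sum_eq_zero (fun i hi => by
      rw [fwdDiff_iter_pow_eq_zero_of_lt (mem_range.mp hi), smul_zero])]
    rw [ih, fwdDiff_iter_eq_factorial]
    funext y
    have hc1 : (n + 1 + 1).choose (n + 1) = n + 2 := Nat.choose_succ_self_right (n + 1)
    have hc2 : (n + 1 + 1).choose n = (n + 1 + 1).choose 2 :=
      Nat.choose_symm_of_eq_add (by ring)
    have hc3 : (n + 1 + 1).choose 2 = (n + 1) + (n + 1).choose 2 := by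
      rw [Nat.choose_succ_succ' (n + 1) 1]; simp
    have hc4 : (n + 1).choose 2 * 2 = (n + 1) * n := by
      have := Nat.add_one_mul_choose_eq n 1
      simp at this
      omega
    simp only [Pi.add_apply, Pi.mul_apply, zero_add, nsmul_eq_mul, Pi.natCast_def]
    rw [hc1, hc2, hc3]
    have hf1 : ((n + 1 + 1)! : ℤ) = (n + 2) * ((n + 1) * (n ! : ℤ)) := by
      push_cast [Nat.factorial_succ]; ring
    have hf2 : ((n + 1)! : ℤ) = (n + 1) * (n ! : ℤ) := by
      push_cast [Nat.factorial_succ]; ring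
    push_cast
    rw [hf1, hf2]
    have hc4' : (((n + 1).choose 2 : ℕ) : ℤ) * 2 = (n + 1) * n := by exact_mod_cast hc4
    linear_combination (n ! : ℤ) * hc4'

/-- For natural numbers n and k with k ≤ n + 1, the alternating sum over j = 0, …, n of (−1)^(n−j) C(n,
j) j^k (with the convention 0^0 = 1) equals n! · n(n+1)/2 when k = n + 1, equals n! when k = n, and
vanishes when k < n. (The published statement takes n ≥ 1 and divides through by n!; the case n = 0
holds as well and is included.) -/
theorem result (n k : ℕ) (hk : k ≤ n + 1) :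
    (∑ j ∈ Finset.range (n + 1), (-1 : ℤ) ^ (n - j) * (n.choose j : ℤ) * (j : ℤ) ^ k) =
      (if k = n + 1 then (((n + 1).choose 2 * n.factorial : ℕ) : ℤ)
        else if k = n then (n.factorial : ℤ) else 0) := by
  have h := fwdDiff_iter_eq_sum_shift (1 : ℤ) (fun r : ℤ => r ^ k) n 0
  have h2 : (∑ j ∈ Finset.range (n + 1), (-1 : ℤ) ^ (n - j) * (n.choose j : ℤ) * (j : ℤ) ^ k) =
      (fwdDiff (1 : ℤ))^[n] (fun r : ℤ => r ^ k) 0 := by
    rw [h]
    refine Finset.sum_congr rfl (fun j _ => ?_)
    simp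
  rw [h2]
  rcases Nat.lt_or_ge k n with hlt | hge
  · rw [fwdDiff_iter_pow_eq_zero_of_lt hlt]
    have h1 : k ≠ n + 1 := by omega
    have h3 : k ≠ n := by omega
    simp [h1, h3]
  · rcases Nat.eq_or_lt_of_le hge with heq | hlt
    · subst heq
      rw [fwdDiff_iter_eq_factorial]
      simp
    · have hk' : k = n + 1 := by omega
      subst hk'
      rw [aux]
      simp

end Groth.Agent.S17779
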