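import Groth.Statements.S17790
import Groth.Agent.Lib.Helper23.PureConn
import Groth.Agent.Lib.Helper23.LefConn3

set_option autoImplicit false
universe u
open CategoryTheory CategoryTheory.Limits AlgebraicGeometry
open Pi1

namespace Groth.Agent.S17790

/-- Let A be a Noetherian local ring and I an ideal for which A is I-adically complete and A/I is local;
write X = Spec A, Y = V(I) and U for the punctured spectrum. Suppose that A is pure (the pair formed
by X and its closed point is pure) and that the effective Lefschetz condition Leff(U, U ∩ Y) holds.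
Then Y minus the closed point, i.e. U ∩ Y, is a connected (nonempty) subset of X. -/
theorem result (A : Type u) [CommRing A] [IsLocalRing A] [IsNoetherianRing A] (I : Ideal A) [IsAdicComplete I A] [IsLocalRing (A ⧸ I)] (hpure : SGA2.IsPurePair (Spec (CommRingCat.of A)) (FEt.puncturedSpec A)) (hleff : LefX.LeffCond (↑(FEt.puncturedSpec A) : Scheme.{u}) ((Spec.map (CommRingCat.ofHom (Ideal.Quotient.mk I))).ker.comap (FEt.puncturedSpec A).ι)) : IsConnected (((Spec.map (CommRingCat.ofHom (Ideal.Quotient.mk I))).ker.support : Set ↥(Spec (CommRingCat.of A))) ∩ (FEt.puncturedSpec A : Set ↥(Spec (CommRingCat.of A)))) := by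
  classical
  let X : Scheme.{u} := Spec (CommRingCat.of A)
  let U : X.Opens := FEt.puncturedSpec A
  let K : X.IdealSheafData := (Spec.map (CommRingCat.ofHom (Ideal.Quotient.mk I))).ker
  -- Step 1: `U` is connected, by purity
  haveI hX : ConnectedSpace ↥X := Groth.Agent.Helper23.PureConn.connectedSpace_spec_local A
  haveI hT : ConnectedSpace ↥((⊤ : X.Opens) : Scheme.{u}) :=
    Groth.Agent.Helper23.PureConn.connectedSpace_opens_top X
  have hp := hpure ⊤
  haveI h1 : ConnectedSpace ↥((⊤ ⊓ U : X.Opens) : Scheme.{u}) :=
    Groth.Agent.Helper23.PureConn.connectedSpace_of_restrict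
      (X.homOfLE (inf_le_left : (⊤ : X.Opens) ⊓ U ≤ ⊤)) inferInstance inferInstance
  haveI h2 : ConnectedSpace ↥(U : Scheme.{u}) :=
    Groth.Agent.Helper23.PureConn.connectedSpace_of_opens_eq (top_inf_eq U)
  haveI h3 : ConnectedSpace ↥((⊤ : (U : Scheme.{u}).Opens) : Scheme.{u}) :=
    Groth.Agent.Helper23.PureConn.connectedSpace_opens_top (U : Scheme.{u})
  -- Step 2: the Lefschetz condition on the whole of `U`
  have hLef := hleff.1 ⊤ (fun _ _ => trivial)
    (Coh.structureModule ((⊤ : (U : Scheme.{u}).Opens) : Scheme.{u}))
    (Groth.Agent.Helper23.LefConn.isFinLocFree_structureModule _)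
  have hconn := Groth.Agent.Helper23.LefConn.isConnected_support_of_connectedSpace hLef
  -- Step 3: push forward to `X`
  have himg1 := hconn.image (⊤ : (U : Scheme.{u}).Opens).ι.base
    (⊤ : (U : Scheme.{u}).Opens).ι.continuous.continuousOn
  rw [Groth.Agent.Helper23.PureConn.image_support_comap] at himg1
  have htop : (((⊤ : (U : Scheme.{u}).Opens) : Set ↥(U : Scheme.{u}))) = Set.univ := rfl
  rw [htop, Set.inter_univ] at himg1
  have himg2 := himg1.image U.ι.base U.ι.continuous.continuousOn
  rw [Groth.Agent.Helper23.PureConn.image_support_comap] at himg2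
  exact himg2

end Groth.Agent.S17790
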