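import Groth.Statements.S17794
import Groth.Agent.Lib.Helper18.RepEpi
import Groth.Agent.Lib.Helper18.GrpDesc
import Groth.Agent.Lib.Helper7.FinPres
import Groth.Agent.Lib.Helper12.GorBC2

set_option autoImplicit false
universe u
open CategoryTheory CategoryTheory.Limits MonoidalCategory CartesianMonoidalCategory MonObj GrpObj AlgebraicGeometry
open GrpSch

namespace Groth.Agent.S17794

/-- Let S be a scheme and f : G → H a homomorphism of S-group schemes, both of finite presentation over
S (locally of finite presentation, quasi-compact and quasi-separated), and let i : N → G be the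
kernel of f (the square formed by i, f, the unit section of H and N → S is cartesian). Then f is
faithfully flat (flat and surjective) if and only if the map of representable sheaves h_G → h_H
induced by f on the big fppf site of S is an epimorphism of sheaves of sets and N is flat over S. -/
theorem result {S : Scheme.{u}} {G H N : Over S} [GrpObj G] [GrpObj H] (f : G ⟶ H) [IsMonHom f] [LocallyOfFinitePresentation G.hom] [QuasiCompact G.hom] [QuasiSeparated G.hom] [LocallyOfFinitePresentation H.hom] [QuasiCompact H.hom] [QuasiSeparated H.hom] (i : N ⟶ G) (hi : AlgGrp.IsKernel i f) : (Flat f.left ∧ Surjective f.left) ↔ (Epi (QuotSh.repMap Scheme.fppfPrecoverage f) ∧ Flat N.hom) := by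
  have hNpb : IsPullback i.left N.hom f.left η[H].left := by
    have h0 := Groth.Agent.Helper18.GrpFppf.isPullback_left hi
    have e : (toUnit N).left = N.hom := by
      have := Over.w (toUnit N)
      rw [← this]; exact (Category.comp_id _).symm
    rwa [e] at h0
  haveI : LocallyOfFiniteType H.hom := inferInstance
  have hlfp : LocallyOfFinitePresentation f.left :=
    Groth.Agent.Helper7.locallyOfFinitePresentation_of_comp f.left H.hom
      (by rw [Over.w]; infer_instance) inferInstance
  constructor
  · rintro ⟨hfl, hsurj⟩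
    refine ⟨?_, MorphismProperty.of_isPullback (P := @Flat) hNpb hfl⟩
    rw [Groth.Agent.Helper18.RepEpi.epi_repMap_iff]
    intro T x
    let c₀ := Limits.pullback.fst x.left f.left
    refine ⟨Sieve.generate (Presieve.singleton c₀),
      Precoverage.generate_mem_toGrothendieck (Scheme.Hom.singleton_mem_fppfPrecoverage c₀), ?_⟩
    intro Z c hc
    obtain ⟨Y, d, e, ⟨⟩, hde⟩ := hc
    have hw : (d ≫ Limits.pullback.snd x.left f.left) ≫ G.hom = (Over.mk (c ≫ T.hom)).hom := by
      show (d ≫ Limits.pullback.snd x.left f.left) ≫ G.hom = c ≫ T.hom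
      rw [← hde, ← Over.w f, Category.assoc, Category.assoc, ← Category.assoc _ f.left,
        ← Limits.pullback.condition, Category.assoc, Over.w x]
    refine ⟨Over.homMk (d ≫ Limits.pullback.snd x.left f.left) hw, ?_⟩
    ext
    simp only [Over.comp_left, Over.homMk_left]
    rw [← hde, Category.assoc, Category.assoc]
    show d ≫ Limits.pullback.snd x.left f.left ≫ f.left = d ≫ Limits.pullback.fst x.left f.left ≫ x.left
    rw [Limits.pullback.condition]
  · rintro ⟨hepi, hN⟩
    rw [Groth.Agent.Helper18.RepEpi.epi_repMap_iff] at hepi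
    obtain ⟨R, hR, hl⟩ := hepi H (𝟙 H)
    have hR' : R ∈ Scheme.grothendieckTopology (@Flat ⊓ @LocallyOfFinitePresentation) H.left := hR
    haveI : (@Flat ⊓ @LocallyOfFinitePresentation :
        MorphismProperty Scheme.{u}).IsStableUnderBaseChange :=
      MorphismProperty.IsStableUnderBaseChange.inf
    haveI : (@Flat ⊓ @LocallyOfFinitePresentation :
        MorphismProperty Scheme.{u}).IsMultiplicative :=
      { id_mem := fun X => ⟨(inferInstance : Flat (𝟙 X)),
          (inferInstance : LocallyOfFinitePresentation (𝟙 X))⟩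
        comp_mem := fun a b ha hb =>
          ⟨MorphismProperty.comp_mem _ a b ha.1 hb.1, MorphismProperty.comp_mem _ a b ha.2 hb.2⟩ }
    obtain ⟨𝒰, h𝒰⟩ := Scheme.exists_cover_of_mem_grothendieckTopology hR'
    have hlift : ∀ j, ∃ y : Over.mk (𝒰.f j ≫ H.hom) ⟶ G,
        y ≫ f = (Over.homMk (𝒰.f j) rfl : Over.mk (𝒰.f j ≫ H.hom) ⟶ H) := by
      intro j
      obtain ⟨y, hy⟩ := hl (𝒰.f j) (h𝒰 _ _ ⟨j⟩)
      exact ⟨y, by rw [hy, Category.comp_id]⟩
    have hyl : ∀ j (y : Over.mk (𝒰.f j ≫ H.hom) ⟶ G),
        y ≫ f = (Over.homMk (𝒰.f j) rfl : Over.mk (𝒰.f j ≫ H.hom) ⟶ H) →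
        (y ≫ f).left = 𝒰.f j := by
      intro j y hy
      rw [hy]; rfl
    refine ⟨?_, ?_⟩
    · rw [Flat.iff_flat_stalkMap]
      intro g
      obtain ⟨j, t, ht⟩ := 𝒰.exists_eq (f.left g)
      obtain ⟨y, hy⟩ := hlift j
      have hpb := Groth.Agent.Helper18.GrpFppf.isPullback_left
        (Groth.Agent.Helper18.GrpFppf.isPullback_mul_of_isKernel f i hi y)
      let t' : ↥(Over.mk (𝒰.f j ≫ H.hom)).left := t
      obtain ⟨p, hp1, hp2⟩ := Scheme.exists_preimage_of_isPullback hpb g t' (by
        rw [hyl j y hy]; exact ht.symm)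
      have hflc : Flat (y ≫ f).left := by
        rw [hyl j y hy]; exact (𝒰.map_prop j).1
      have hflfst : Flat (fst (Over.mk (𝒰.f j ≫ H.hom)) N).left := by
        have hfstpb : IsPullback (fst (Over.mk (𝒰.f j ≫ H.hom)) N).left
            (snd (Over.mk (𝒰.f j ≫ H.hom)) N).left (Over.mk (𝒰.f j ≫ H.hom)).hom N.hom :=
          IsPullback.of_hasPullback _ _
        exact MorphismProperty.of_isPullback (P := @Flat) hfstpb.flip hN
      have := Groth.Agent.Helper12.FlatPt.flat_stalkMap_of_baseChange hpb p
        (Flat.stalkMap _ _) (Flat.stalkMap _ _)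
      rwa [hp1] at this
    · constructor
      intro h
      obtain ⟨j, t, ht⟩ := 𝒰.exists_eq h
      obtain ⟨y, hy⟩ := hlift j
      let t' : ↥(Over.mk (𝒰.f j ≫ H.hom)).left := t
      refine ⟨y.left t', ?_⟩
      show (y ≫ f).left t' = h
      rw [hyl j y hy]
      exact ht

end Groth.Agent.S17794
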