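import Groth.Statements.S17825
import Mathlib

set_option autoImplicit false
universe u
open CategoryTheory CategoryTheory.Limits AlgebraicGeometry
open JacVar

namespace Groth.Agent.S17825

/-- Let S be a scheme, Y an S-scheme separated over S, F a presheaf of sets on the category of
S-schemes, f : h_Y ⟶ F a morphism from the functor of points of Y, and s : F ⟶ h_Y a section of f (s
followed by f is the identity). Then F is represented by a closed subscheme of Y: there are an
S-scheme Z, a morphism i : Z ⟶ Y over S which is a closed immersion, and an isomorphism F ≅ h_Z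
whose composite with h_i : h_Z ⟶ h_Y is s. (The published lemma treats the case where Y is the r-th
symmetric power of a curve, F the functor of degree-r invertible families modulo twisting and f the
divisor-class map.) -/
theorem result {S : Scheme.{u}} (Y : Over S) [IsSeparated Y.hom]
    (F : (Over S)ᵒᵖ ⥤ Type u) (f : yoneda.obj Y ⟶ F) (s : F ⟶ yoneda.obj Y) (hsf : s ≫ f = 𝟙 F) :
    ∃ (Z : Over S) (i : Z ⟶ Y), IsClosedImmersion i.left ∧
      ∃ e : F ≅ yoneda.obj Z, e.hom ≫ yoneda.map i = s := by
  -- the idempotent endomorphism `g` of `Y` corresponding to `f ≫ s`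
  obtain ⟨g, hg⟩ : ∃ g : Y ⟶ Y, yoneda.map g = f ≫ s :=
    ⟨(yoneda.preimage (f ≫ s)), yoneda.map_preimage _⟩
  have hgapp : ∀ (T : (Over S)ᵒᵖ) (t : T.unop ⟶ Y), t ≫ g = s.app T (f.app T t) := by
    intro T t
    have := congrArg (fun (φ : yoneda.obj Y ⟶ yoneda.obj Y) => φ.app T t) hg
    simpa using this
  have hsfapp : ∀ (T : (Over S)ᵒᵖ) (x : F.obj T), f.app T (s.app T x) = x := by
    intro T x
    have := congrArg (fun (φ : F ⟶ F) => φ.app T x) hsf
    simpa using this
  let i : equalizer g (𝟙 Y) ⟶ Y := equalizer.ι g (𝟙 Y)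
  have hi : i ≫ g = i := by
    have := equalizer.condition g (𝟙 Y)
    simpa using this
  have himono : Mono i := inferInstance
  refine ⟨equalizer g (𝟙 Y), i, inferInstance, ?_⟩
  let inv : yoneda.obj (equalizer g (𝟙 Y)) ⟶ F := yoneda.map i ≫ f
  have hbij : ∀ T : (Over S)ᵒᵖ, Function.Bijective (inv.app T) := by
    intro T
    constructor
    · intro z z' h
      have h1 : f.app T (z ≫ i) = f.app T (z' ≫ i) := by simpa [inv] using h
      have h2 : (z ≫ i) ≫ g = (z' ≫ i) ≫ g := by
        rw [hgapp T (z ≫ i), hgapp T (z' ≫ i), h1]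
      rw [Category.assoc, Category.assoc, hi] at h2
      exact (cancel_mono i).mp h2
    · intro x
      have hx : s.app T x ≫ g = s.app T x ≫ 𝟙 Y := by
        rw [hgapp T (s.app T x), hsfapp, Category.comp_id]
      refine ⟨equalizer.lift (s.app T x) hx, ?_⟩
      change f.app T (equalizer.lift (s.app T x) hx ≫ i) = x
      rw [equalizer.lift_ι, hsfapp]
  have hiso : IsIso inv := by
    have : ∀ T, IsIso (inv.app T) := fun T => (isIso_iff_bijective _).mpr (hbij T)
    exact NatIso.isIso_of_isIso_app inv
  refine ⟨(asIso inv).symm, ?_⟩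
  change CategoryTheory.inv inv ≫ yoneda.map i = s
  rw [IsIso.inv_comp_eq]
  change yoneda.map i = (yoneda.map i ≫ f) ≫ s
  rw [Category.assoc, ← hg, ← Functor.map_comp, hi]

end Groth.Agent.S17825
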