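import Groth.Statements.S17839
import Mathlib
import Groth.Agent.Lib.Helper14.DimFun
import Groth.Agent.Lib.Helper14.CMCatenary
import Groth.Agent.Lib.Helper14.ResFieldBridge
import Groth.Agent.Lib.Lead.Depth12
-- import your own Groth.Agent.* helpers here

set_option autoImplicit false
universe u
open CategoryTheory AlgebraicGeometry
open Cyc

namespace Groth.Agent.S17839

open Groth.Agent.Helper14 in
/-- `−dim O_{S,s}` is a dimension function on a locally Noetherian scheme with regular stalks. -/
theorem isDimFun_neg_dim {S : Scheme.{u}} [IsLocallyNoetherian S]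
    (hreg : ∀ s : S, IsRegularLocalRing (S.presheaf.stalk s))
    (δS : S → ℤ)
    (hδS : ∀ s : S, ringKrullDim (S.presheaf.stalk s) = ((-δS s).toNat : WithBot ℕ∞) ∧ δS s ≤ 0) :
    Cyc.IsDimFun S δS := by
  intro s s' hsp hne
  obtain ⟨V, hV, hs'V⟩ : ∃ V : S.Opens, IsAffineOpen V ∧ s' ∈ V := by
    obtain ⟨_, ⟨V, hV : IsAffineOpen V, rfl⟩, hxV, -⟩ :=
      (S.isBasis_affineOpens).exists_subset_of_mem_open (Set.mem_univ s') isOpen_univ
    exact ⟨V, hV, hxV⟩
  have hsV : s ∈ V := hsp.mem_open V.isOpen hs'V
  haveI hNoeth : IsNoetherianRing Γ(S, V) := IsLocallyNoetherian.component_noetherian ⟨V, hV⟩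
  set p := hV.primeIdealOf ⟨s, hsV⟩ with hp
  set p' := hV.primeIdealOf ⟨s', hs'V⟩ with hp'
  haveI : p.asIdeal.IsPrime := p.isPrime
  haveI : p'.asIdeal.IsPrime := p'.isPrime
  have e1 : hV.fromSpec p = s := hV.fromSpec_primeIdealOf ⟨s, hsV⟩
  have e2 : hV.fromSpec p' = s' := hV.fromSpec_primeIdealOf ⟨s', hs'V⟩
  have hle : p ≤ p' := by
    rw [← ResFieldBridge.specializes_fromSpec_iff hV, e1, e2]
    exact hsp
  have hlt : p < p' := lt_of_le_of_ne hle (fun e => hne (by rw [← e1, ← e2, e]))
  -- dimension of the stalks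
  have hdim : ∀ (t : S) (ht : t ∈ V), ringKrullDim (S.presheaf.stalk t) =
      ((hV.primeIdealOf ⟨t, ht⟩).asIdeal.height : WithBot ℕ∞) := by
    intro t ht
    letI := S.presheaf.algebra_section_stalk ⟨t, ht⟩
    haveI := hV.isLocalization_stalk ⟨t, ht⟩
    haveI := (hV.primeIdealOf ⟨t, ht⟩).isPrime
    exact IsLocalization.AtPrime.ringKrullDim_eq_height (hV.primeIdealOf ⟨t, ht⟩).asIdeal _
  have h1 := hdim s hsV
  have h2 := hdim s' hs'V
  rw [(hδS s).1] at h1
  rw [(hδS s').1] at h2
  have h1' : (((-δS s).toNat : ℕ) : ℕ∞) = p.asIdeal.height := by exact_mod_cast h1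
  have h2' : (((-δS s').toNat : ℕ) : ℕ∞) = p'.asIdeal.height := by exact_mod_cast h2
  have hs0 := (hδS s).2
  have hs'0 := (hδS s').2
  constructor
  · have hlt' : p.asIdeal.height < p'.asIdeal.height :=
      Ideal.height_strict_mono_of_isPrime hlt
    rw [← h1', ← h2'] at hlt'
    have : (-δS s).toNat < (-δS s').toNat := by exact_mod_cast hlt'
    omega
  · intro himm
    have hcov : p ⋖ p' := DimFun.primeIdealOf_covBy hV s s' hsV hs'V hsp hne himm
    have hCM : ∀ (q : Ideal Γ(S, V)) [q.IsPrime],
        LocCoh.IsCohenMacaulayLocalRing (Localization.AtPrime q) := by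
      intro q hq
      set t := hV.fromSpec ⟨q, hq⟩ with ht
      have htV : t ∈ V := ResFieldBridge.fromSpec_mem hV _
      have hqt : hV.primeIdealOf ⟨t, htV⟩ = ⟨q, hq⟩ := ResFieldBridge.primeIdealOf_fromSpec hV _
      letI := S.presheaf.algebra_section_stalk ⟨t, htV⟩
      haveI hloc := hV.isLocalization_stalk ⟨t, htV⟩
      rw [hqt] at hloc
      haveI : IsLocalization.AtPrime (S.presheaf.stalk t) q := hloc
      haveI := hreg t
      haveI : IsRegularLocalRing (Localization.AtPrime q) :=
        IsRegularLocalRing.of_ringEquiv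
          (IsLocalization.algEquiv q.primeCompl (S.presheaf.stalk t)
            (Localization.AtPrime q)).toRingEquiv
      exact Groth.Agent.Lead.Depth.isCohenMacaulayLocalRing_of_isRegularLocalRing
    have hh := CMCatenary.height_eq_of_covBy Γ(S, V) hCM p p' hcov
    rw [← h1', ← h2'] at hh
    have : (-δS s').toNat = (-δS s).toNat + 1 := by exact_mod_cast hh
    omega

/-- Let S be a locally Noetherian scheme all of whose local rings are regular and universally catenary,
and δS : S → ℤ the function with δS(s) = −dim O_{S,s}. Let f : X ⟶ S be locally of finite type and δ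
: X → ℤ the induced function, δ(x) = δS(f x) + trdeg_{κ(f x)} κ(x) — the S-dimension: for X
irreducible with generic point ξ, δ(ξ) is the transcendence degree of the function field of X over
κ(f ξ) minus dim O_{S, f ξ}. Then δ is a dimension function on X: it drops strictly along every
nontrivial specialization and by exactly one along immediate ones; equivalently, for irreducible
closed subsets V ⊆ W of X with generic points v and w, codim(V, W) = δ(w) − δ(v). (The published
statement fixes S Noetherian, excellent, regular and separated and X separated of finite type over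
S; its proof uses only the hypotheses listed.) -/
theorem result {X S : Scheme.{u}} (f : X ⟶ S)
    [LocallyOfFiniteType f] [IsLocallyNoetherian S]
    (hreg : ∀ s : S, IsRegularLocalRing (S.presheaf.stalk s))
    (huc : ∀ s : S, CAlg.IsUniversallyCatenary (S.presheaf.stalk s))
    (δS : S → ℤ) (hδS : ∀ s : S, ringKrullDim (S.presheaf.stalk s) = ((-δS s).toNat : WithBot ℕ∞) ∧ δS s ≤ 0)
    (δ : X → ℤ) (hδ : Cyc.DeltaCompat f δ δS) :
    Cyc.IsDimFun X δ := by
  exact Groth.Agent.Helper14.DimFun.isDimFun_of_deltaCompat f δS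
    ⟨inferInstance, huc, isDimFun_neg_dim hreg δS hδS⟩ δ hδ

end Groth.Agent.S17839
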