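import Groth.Statements.S17840
import Mathlib
import Groth.Agent.Lib.Helper14.FibreComp
import Groth.Agent.Lib.Helper14.FlatRelDim
import Groth.Agent.Lib.Helper14.DimFun
import Groth.Agent.Lib.Helper14.LocalDimSch
-- import your own Groth.Agent.* helpers here

set_option autoImplicit false
universe u
open CategoryTheory AlgebraicGeometry
open Cyc

namespace Groth.Agent.S17840

/-- Let (Y, δY) be a locally Noetherian scheme with universally catenary local rings and a dimension
function, f : X ⟶ Y a flat morphism locally of finite type between irreducible schemes with generic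
points ξ and η, and δX the induced function on X, δX(x) = δY(f x) + trdeg_{κ(f x)} κ(x). Put d =
δX(ξ) − δY(η). Then d ≥ 0, every irreducible component of every fibre of f has dimension d, and for
every point x of X the fibre of f over f(x) has dimension d. (The published statement is for schemes
separated of finite type over a Noetherian excellent regular separated base S with δ the S-dimension
— transcendence degree of the residue field minus the dimension of the local ring of S at the image
point — and for the fibre over every point of Y; the fibre over a point outside f(X) is empty, so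
the dimension statement is made here at points of the image; this row allows any dimension function
δY on a locally Noetherian Y with universally catenary local rings, with δX induced from it.) -/
theorem result {X Y : Scheme.{u}} (f : X ⟶ Y) [Flat f] [LocallyOfFiniteType f]
    [IrreducibleSpace X] [IrreducibleSpace Y] (δX : X → ℤ) (δY : Y → ℤ) (hY : Cyc.IsSetup Y δY)
    (hδ : Cyc.DeltaCompat f δX δY) :
    0 ≤ δX (genericPoint X) - δY (genericPoint Y) ∧
      Cyc.HasRelDim f (δX (genericPoint X) - δY (genericPoint Y)).toNat ∧
      ∀ x : X, topologicalKrullDim ↥(f.fiber (f x)) =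
        ((δX (genericPoint X) - δY (genericPoint Y)).toNat : WithBot ℕ∞) := by
  open Groth.Agent.Helper14 in
  obtain ⟨hNY, hcatY, hdimY⟩ := hY
  haveI := hNY
  haveI : IsLocallyNoetherian X := LocallyOfFiniteType.isLocallyNoetherian f
  have hδX : Cyc.IsDimFun X δX :=
    DimFun.isDimFun_of_deltaCompat f δY ⟨hNY, hcatY, hdimY⟩ δX hδ
  -- the generic point maps to the generic point
  have hgen : f (genericPoint X) = genericPoint Y := by
    have h1 : genericPoint Y ⤳ f (genericPoint X) := genericPoint_specializes _
    obtain ⟨ξ', hξ', hfξ'⟩ := Flat.generalizingMap f h1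
    have h2 : genericPoint X ⤳ ξ' := genericPoint_specializes _
    have : ξ' = genericPoint X := (hξ'.antisymm h2).eq
    rw [← hfξ', this]
  obtain ⟨n₀, hn₀, hδξ⟩ := hδ (genericPoint X)
  rw [hgen] at hδξ
  have hd : δX (genericPoint X) - δY (genericPoint Y) = n₀ := by omega
  rw [hd]
  -- key: maximal points of fibres have residue transcendence degree `n₀`
  have key : ∀ (y : Y) (z : f.fiber y), (∀ z' : f.fiber y, z' ⤳ z → z' = z) →
      DimClosure.trdegFun (f.fiberToSpecResidueField y) z = n₀ := by
    intro y z hz
    obtain ⟨m, hm, hδx⟩ := hδ (f.fiberι y z)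
    obtain ⟨a, ha, hξx⟩ := DimFun.delta_generic δX hδX (f.fiberι y z)
    obtain ⟨b, hb, hηy⟩ := DimFun.delta_generic δY hdimY (f (f.fiberι y z))
    have hflat := FlatRelDim.stalk_dim_flat f y z
    rw [FibreComp.ringKrullDim_stalk_of_maximal z hz, add_zero, ha, hb] at hflat
    have hab : a = b := by exact_mod_cast hflat
    have hmn : m = n₀ := by omega
    rw [FibreComp.trdeg_fibre f y z] at hm
    rw [DimClosure.trdegFun_eq _ z m hm, hmn]
  have hrel : Cyc.HasRelDim f n₀ := by
    intro y T hT
    obtain ⟨z, hzT, hzmax⟩ := FibreComp.exists_maximal_of_mem_irreducibleComponents T hT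
    haveI : LocallyOfFiniteType (f.fiberToSpecResidueField y) :=
      MorphismProperty.pullback_snd _ _ inferInstance
    have h := DimClosure.dim_closure_eq (Y.residueField y) (f.fiberToSpecResidueField y) z
    rw [hzT, key y z hzmax] at h
    rw [h]
    simp
  refine ⟨by omega, by simpa using hrel, ?_⟩
  intro x
  simp only [Int.toNat_natCast]
  rw [LocalDimSch.dim_eq_iSup_stalk]
  apply le_antisymm
  · refine iSup_le fun z => ?_
    obtain ⟨n, m, hn, -, hnm⟩ := FlatRelDim.stalk_fibre_add_trdeg f n₀ hrel (f x) z
    rw [hn]
    exact_mod_cast (by omega : n ≤ n₀)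
  · haveI : LocallyOfFiniteType (f.fiberToSpecResidueField (f x)) :=
      MorphismProperty.pullback_snd _ _ inferInstance
    obtain ⟨z, -, -, hz0⟩ := DimClosure.exists_specializes_trdeg_eq_zero
      (f.fiberToSpecResidueField (f x)) (f.asFiber x)
    have htr : DimClosure.trdegFun (f.fiberToSpecResidueField (f x)) z = 0 := by
      have := DimClosure.trdegFun_eq (f.fiberToSpecResidueField (f x)) z 0 (by rw [hz0]; rfl)
      exact_mod_cast this
    obtain ⟨n, m, hn, hm, hnm⟩ := FlatRelDim.stalk_fibre_add_trdeg f n₀ hrel (f x) z
    have hm0 : m = 0 := by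
      have : (m : ℤ) = 0 := by rw [← hm]; exact htr
      exact_mod_cast this
    have hnd : n = n₀ := by omega
    refine le_trans ?_ (le_iSup (fun z => ringKrullDim ((f.fiber (f x)).presheaf.stalk z)) z)
    rw [hn, hnd]

end Groth.Agent.S17840
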