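import Groth.Statements.S1785
import Groth.Agent.Lib.Helper8.ShD5
import Groth.Agent.Lib.Helper8.ShD6
import Groth.Agent.Lib.Helper8.LOC6
import Groth.Agent.Lib.Helper11.LDer5

set_option autoImplicit false
universe u
open CategoryTheory
attribute [local instance] HasDerivedCategory.standard
open Dual2

namespace Groth.Agent.S1785

/-- Let R → A be a ring map of finite type between Noetherian rings, where φ^!(K) is formed from a
presentation ψ : R[x_1, …, x_n] → A as RHom_P(A, K ⊗^L_R P)[n], assuming the derived base change to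
P exists and taking for RHom_P(A, −) a right adjoint of restriction of scalars along ψ, and let
ω_{A/R} = φ^!(R). Let q be a prime of A and d the local dimension at q of the fibre of Spec A → Spec
R through q. If H^i(ω_{A/R}) localized at q is nonzero then −d ≤ i. -/
theorem result (R A : Type u) [CommRing R] [CommRing A] [IsNoetherianRing R] [IsNoetherianRing A] [Algebra R A] (n : ℕ) (ψ : MvPolynomial (Fin n) R →ₐ[R] A) (hψ : Function.Surjective ψ) [DRing.HasLBaseChange (algebraMap R (MvPolynomial (Fin n) R))] (Rψ : Dual.D (MvPolynomial (Fin n) R) ⥤ Dual.D A) (adj : DRing.restrictD ψ.toRingHom ⊣ Rψ) (q : PrimeSpectrum A) (d : ℕ) (hd : FlatMor.fibreDimAt (AlgebraicGeometry.Spec.map (CommRingCat.ofHom (algebraMap R A))) q = d) (i : ℤ) (h : Nontrivial (LocalizedModule q.asIdeal.primeCompl (Dual.HD A (Dual2.shriekVia n Rψ (Dual.inD R R)) i))) : -(d : ℤ) ≤ i := by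
  classical
  by_contra hlt
  push Not at hlt
  letI : Algebra (MvPolynomial (Fin n) R) A := ψ.toRingHom.toAlgebra
  haveI : IsScalarTower R (MvPolynomial (Fin n) R) A :=
    IsScalarTower.of_algebraMap_eq (fun r => (ψ.commutes r).symm)
  have hψ' : Function.Surjective (algebraMap (MvPolynomial (Fin n) R) A) := hψ
  haveI := Groth.Agent.Helper8.FBC.preservesFiniteLimits_Efun_of_flat (A := R)
    (MvPolynomial (Fin n) R)
  obtain ⟨e⟩ := Groth.Agent.Helper11.LDer.nonempty_totalLeftDerived_iso_of_exact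
    (Groth.Agent.Helper8.LOC.Efun (algebraMap R (MvPolynomial (Fin n) R)))
  let ι0 : (Groth.Agent.Helper8.LOC.Ld (algebraMap R (MvPolynomial (Fin n) R))).obj (Dual.inD R R) ≅
      Dual.inD (MvPolynomial (Fin n) R) (MvPolynomial (Fin n) R) :=
    ((Groth.Agent.Helper8.LOC.Efun (algebraMap R (MvPolynomial (Fin n) R))).mapDerivedCategorySingleFunctor 0).app
        (ModuleCat.of R R) ≪≫
      (DerivedCategory.singleFunctor (ModuleCat.{u} (MvPolynomial (Fin n) R)) 0).mapIso
        ((Groth.Agent.Helper8.LOC.EfunEquiv (MvPolynomial (Fin n) R) (ModuleCat.of R R)).trans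
          (TensorProduct.AlgebraTensorModule.rid R (MvPolynomial (Fin n) R)
            (MvPolynomial (Fin n) R))).toModuleIso
  let ι : (DRing.LBaseChange (algebraMap R (MvPolynomial (Fin n) R))).obj (Dual.inD R R) ≅
      Dual.inD (MvPolynomial (Fin n) R) (MvPolynomial (Fin n) R) := e.app _ ≪≫ ι0
  have hExt := fun k (hk : k < n - d) =>
    Groth.Agent.Helper8.ShD.subsingleton_ext_of_fibreDim R n A hψ' q d hd k hk
  have hj : (n : ℤ) + i < ((n - d : ℕ) : ℤ) := by omega
  have hsub := Groth.Agent.Helper8.ShD.subsingleton_localizedModule_HD hψ' Rψ adj _ ι q.asIdeal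
    (n - d) hExt ((n : ℤ) + i) hj
  apply (not_subsingleton_iff_nontrivial.mpr h)
  rw [LocalizedModule.subsingleton_iff] at hsub ⊢
  intro y
  let σ := Groth.Agent.Helper8.RFin.sigma'
    (Rψ.obj ((DRing.LBaseChange (algebraMap R (MvPolynomial (Fin n) R))).obj (Dual.inD R R)))
    (n : ℤ) i ((n : ℤ) + i) rfl
  obtain ⟨r, hr, hry⟩ := hsub (σ.hom.hom y)
  refine ⟨r, hr, ?_⟩
  have h1 : σ.hom.hom (r • y) = 0 := by rw [map_smul]; exact hry
  have h2 : σ.inv.hom (σ.hom.hom (r • y)) = r • y := by
    rw [← LinearMap.comp_apply, ← ModuleCat.hom_comp, CategoryTheory.Iso.hom_inv_id]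
    rfl
  rw [← h2, h1, map_zero]

end Groth.Agent.S1785
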