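import Groth.Statements.S17855
import Groth.Agent.Lib.Helper12.QuillenF

set_option autoImplicit false
set_option linter.style.haveILetI false
open CategoryTheory CategoryTheory.Limits MonoidalCategory CartesianMonoidalCategory MonObj GrpObj AlgebraicGeometry
universe u
open NonAbH1

namespace Groth.Agent.S17855

open Groth.Agent.Helper12.Quillen in
theorem aux
    (R : Type u) [CommRing R]
    (G : Over (Spec (CommRingCat.of R))) [GrpObj G] [LocallyOfFinitePresentation G.hom]
    (r r' : R) (hrr : Ideal.span ({r, r'} : Set R) = ⊤)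
    (A A' B : Type u) [CommRing A] [CommRing A'] [CommRing B] [Algebra R A] [Algebra R A'] [Algebra R B]
    [IsLocalization.Away r A] [IsLocalization.Away r' A'] [IsLocalization.Away (r * r') B]
    [Algebra A B] [Algebra A' B] [IsScalarTower R A B] [IsScalarTower R A' B]
    (g : OO R (Polynomial B) ⟶ G) (hg : pull G (Polynomial.evalRingHom (0 : B)) g = 1) :
    ∃ (g₁ : OO R (Polynomial A) ⟶ G) (g₂ : OO R (Polynomial A') ⟶ G),
      pull G (Polynomial.evalRingHom (0 : A)) g₁ = 1 ∧
      pull G (Polynomial.evalRingHom (0 : A')) g₂ = 1 ∧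
      g = pull G (Polynomial.mapRingHom (algebraMap A B)) g₁ *
        pull G (Polynomial.mapRingHom (algebraMap A' B)) g₂ := by
  haveI : IsLocalization.Away (algebraMap R A r') B := away_of_mul R A B r r'
  haveI : IsLocalization.Away (r' * r) B := by rw [mul_comm]; infer_instance
  haveI : IsLocalization.Away (algebraMap R A' r) B := away_of_mul R A' B r' r
  obtain ⟨ψ, hψ⟩ : ∃ ψ : Polynomial B →+* Polynomial (Polynomial B),
      ψ = Polynomial.eval₂RingHom (Polynomial.C.comp Polynomial.C)
        ((1 - Polynomial.X) * Polynomial.C Polynomial.X) := ⟨_, rfl⟩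
  obtain ⟨ψ', hψ'⟩ : ∃ ψ' : Polynomial B →+* Polynomial (Polynomial B),
      ψ' = Polynomial.eval₂RingHom (Polynomial.C.comp Polynomial.C)
        (Polynomial.X * Polynomial.C Polynomial.X) := ⟨_, rfl⟩
  haveI : IsRHom R ψ := by rw [hψ]; infer_instance
  haveI : IsRHom R ψ' := by rw [hψ']; infer_instance
  have I1 : ∀ a : B, (Polynomial.evalRingHom (Polynomial.C a)).comp ψ = scale (1 - a) := by
    intro a
    rw [hψ]
    ext <;> simp [scale]
  have I2 : ∀ a : B, (Polynomial.evalRingHom (Polynomial.C a)).comp ψ' = scale a := by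
    intro a
    rw [hψ']
    ext <;> simp [scale]
  have I3 : ∀ a : Polynomial B, (Polynomial.evalRingHom a).comp
      (Polynomial.C : Polynomial B →+* Polynomial (Polynomial B)) = RingHom.id _ := by
    intro a
    ext <;> simp
  have I4 : ∀ t : B, (Polynomial.C.comp (Polynomial.evalRingHom (0 : B))).comp (scale t) =
      Polynomial.C.comp (Polynomial.evalRingHom 0) := by
    intro t
    ext <;> simp [scale]
  have I5 : scale (0 : B) = Polynomial.C.comp (Polynomial.evalRingHom 0) := by
    ext <;> simp [scale]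
  have hC0 : pull G (Polynomial.C.comp (Polynomial.evalRingHom (0 : B))) g = 1 := by
    rw [← pull_pull, hg, pull_one]
  have hsc : ∀ t : B, pull G (Polynomial.C.comp (Polynomial.evalRingHom (0 : B)))
      (pull G (scale t) g) = 1 := by
    intro t
    rw [pull_pull, pull_congr (I4 t), hC0]
  obtain ⟨N, HA⟩ := half (algebraMap R A r') G (pull G Polynomial.C g * (pull G ψ g)⁻¹) (by
    have h1 : (Polynomial.evalRingHom (0 : Polynomial B)).comp ψ = RingHom.id _ := by
      rw [← Polynomial.C_0, I1 0, sub_zero, scale_one]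
    rw [pull_mul, pull_inv, pull_pull, pull_pull, pull_congr (I3 0), pull_id,
      pull_congr h1, pull_id, mul_inv_cancel])
  obtain ⟨N', HA'⟩ := half (algebraMap R A' r) G (pull G ψ' g) (by
    have h1 : (Polynomial.evalRingHom (0 : Polynomial B)).comp ψ' =
        Polynomial.C.comp (Polynomial.evalRingHom 0) := by
      rw [← Polynomial.C_0, I2 0, I5]
    rw [pull_pull, pull_congr h1, hC0])
  obtain ⟨c, c', hcc⟩ : ∃ c c' : R, c * r ^ N' + c' * r' ^ N = 1 := by
    have h1 : (1 : R) ∈ Ideal.span ({r, r'} : Set R) := by rw [hrr]; exact Submodule.mem_top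
    have h2 : IsCoprime r r' := Ideal.mem_span_pair.mp h1
    exact h2.pow
  obtain ⟨g₁, h1, h2⟩ := HA c'
  obtain ⟨g₂, h1', h2'⟩ := HA' c
  refine ⟨g₁, g₂, h1, h1', ?_⟩
  rw [h2, h2']
  obtain ⟨bb, hbb⟩ : ∃ bb : B, bb = algebraMap A B (algebraMap R A r') ^ N * algebraMap R B c' :=
    ⟨_, rfl⟩
  obtain ⟨bb', hbb'⟩ : ∃ bb' : B, bb' = algebraMap A' B (algebraMap R A' r) ^ N' * algebraMap R B c :=
    ⟨_, rfl⟩
  rw [← hbb, ← hbb']
  have hb : 1 - bb = bb' := by
    rw [hbb, hbb', ← IsScalarTower.algebraMap_apply, ← IsScalarTower.algebraMap_apply,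
      ← map_pow, ← map_pow, ← map_mul, ← map_mul, ← map_one (algebraMap R B), ← map_sub, ← hcc]
    congr 1
    ring
  have y1 : pull G (Polynomial.evalRingHom (Polynomial.C bb))
      (pull G Polynomial.C g * (pull G ψ g)⁻¹) = g * (pull G (scale bb') g)⁻¹ := by
    rw [pull_mul, pull_inv, pull_pull, pull_pull, pull_congr (I3 _), pull_id,
      pull_congr (I1 bb)]
    subst hb
    rfl
  have y2 : pull G (Polynomial.evalRingHom (Polynomial.C bb')) (pull G ψ' g) =
      pull G (scale bb') g := by
    rw [pull_pull, pull_congr (I2 bb')]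
  rw [y1, y2, pull_mul, pull_inv, hsc, hC0]
  simp


/-- For a group scheme locally of finite presentation, let R be a ring, G an R-group scheme locally of
finite presentation over S = Spec R, and r, r' ∈ R generating the unit ideal; let A = R[1/r], A' =
R[1/r'], B = R[1/rr']. For an R-algebra C write G₀(C) for the set of S-morphisms Spec C[T] → G whose
restriction along T ↦ 0 (the S-morphism Spec C → Spec C[T]) is the unit. Then G₀(B) = G₀(A)·G₀(A'):
every g ∈ G₀(B) is the product, in the group of Spec B[T]-points of G, of the pullback of some g₁ ∈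
G₀(A) and the pullback of some g₂ ∈ G₀(A') along Spec B[T] → Spec A[T], Spec A'[T]. The S-morphisms
induced by T ↦ 0 and by the localisation maps are taken as data determined by their underlying
scheme maps. The published statement also allows more general group functors and graded algebras. -/
theorem result
    (R : Type u) [CommRing R]
    (G : Over (Spec (CommRingCat.of R))) [GrpObj G] [LocallyOfFinitePresentation G.hom]
    (r r' : R) (hrr : Ideal.span ({r, r'} : Set R) = ⊤)
    (A A' B : Type u) [CommRing A] [CommRing A'] [CommRing B] [Algebra R A] [Algebra R A'] [Algebra R B]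
    [IsLocalization.Away r A] [IsLocalization.Away r' A'] [IsLocalization.Away (r * r') B]
    [Algebra A B] [Algebra A' B] [IsScalarTower R A B] [IsScalarTower R A' B]
    (eA : Over.mk (Spec.map (CommRingCat.ofHom (algebraMap R (A)))) ⟶ Over.mk (Spec.map (CommRingCat.ofHom (algebraMap R (Polynomial A)))))
    (heA : eA.left = Spec.map (CommRingCat.ofHom (Polynomial.evalRingHom (0 : A))))
    (eA' : Over.mk (Spec.map (CommRingCat.ofHom (algebraMap R (A')))) ⟶ Over.mk (Spec.map (CommRingCat.ofHom (algebraMap R (Polynomial A')))))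
    (heA' : eA'.left = Spec.map (CommRingCat.ofHom (Polynomial.evalRingHom (0 : A'))))
    (eB : Over.mk (Spec.map (CommRingCat.ofHom (algebraMap R (B)))) ⟶ Over.mk (Spec.map (CommRingCat.ofHom (algebraMap R (Polynomial B)))))
    (heB : eB.left = Spec.map (CommRingCat.ofHom (Polynomial.evalRingHom (0 : B))))
    (tA : Over.mk (Spec.map (CommRingCat.ofHom (algebraMap R (Polynomial B)))) ⟶ Over.mk (Spec.map (CommRingCat.ofHom (algebraMap R (Polynomial A)))))
    (htA : tA.left = Spec.map (CommRingCat.ofHom (Polynomial.mapRingHom (algebraMap A B))))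
    (tA' : Over.mk (Spec.map (CommRingCat.ofHom (algebraMap R (Polynomial B)))) ⟶ Over.mk (Spec.map (CommRingCat.ofHom (algebraMap R (Polynomial A')))))
    (htA' : tA'.left = Spec.map (CommRingCat.ofHom (Polynomial.mapRingHom (algebraMap A' B))))
    (g : Over.mk (Spec.map (CommRingCat.ofHom (algebraMap R (Polynomial B)))) ⟶ G) (hg : eB ≫ g = 1) :
    ∃ (g₁ : Over.mk (Spec.map (CommRingCat.ofHom (algebraMap R (Polynomial A)))) ⟶ G) (g₂ : Over.mk (Spec.map (CommRingCat.ofHom (algebraMap R (Polynomial A')))) ⟶ G),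
      eA ≫ g₁ = 1 ∧ eA' ≫ g₂ = 1 ∧ g = (tA ≫ g₁) * (tA' ≫ g₂) := by
  have EA := Groth.Agent.Helper12.Quillen.eq_ovR _ _ heA
  have EA' := Groth.Agent.Helper12.Quillen.eq_ovR _ _ heA'
  have EB := Groth.Agent.Helper12.Quillen.eq_ovR _ _ heB
  have TA := Groth.Agent.Helper12.Quillen.eq_ovR _ _ htA
  have TA' := Groth.Agent.Helper12.Quillen.eq_ovR _ _ htA'
  subst EA EA' EB TA TA'
  exact aux R G r r' hrr A A' B g hg

end Groth.Agent.S17855
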