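import Groth.Statements.S17865
import Mathlib

set_option autoImplicit false
open CategoryTheory AlgebraicGeometry
universe u
open Algz

namespace Groth.Agent.S17865

/-- In the case of schemes. Let `f : U ⟶ Y` be a Nisnevich cover of length at most `m` of quasi-compact
quasi-separated schemes (an etale morphism together with a chain of `m` closed constructible subsets
`∅ = Z_0 ⊆ ⋯ ⊆ Z_m = Y` such that `f` has a section over each `Z_(k+1) ∖ Z_k`), and `g : Y' ⟶ Y` a
morphism from a quasi-compact quasi-separated scheme. Then the base change `U ×_Y Y' ⟶ Y'` is a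
Nisnevich cover of length at most `m`. (The original form is for quasi-compact quasi-separated
algebraic spaces; stated here for schemes.) -/
theorem result {U Y Y' : Scheme.{u}} (f : U ⟶ Y) (g : Y' ⟶ Y)
    [CompactSpace U] [QuasiSeparatedSpace U] [CompactSpace Y] [QuasiSeparatedSpace Y]
    [CompactSpace Y'] [QuasiSeparatedSpace Y'] (m : ℕ)
    (hf : W4c5algebraiztannaka.IsNisCoverLen f m) :
    W4c5algebraiztannaka.IsNisCoverLen (Limits.pullback.snd f g) m := by
  obtain ⟨het, Z, hZ0, hZm, hmono, hcl, hsec⟩ := hf
  refine ⟨inferInstance, fun k => g.base ⁻¹' Z k, by simp [hZ0], by simp [hZm],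
    fun a b hab => Set.preimage_mono (hmono hab),
    fun k => ⟨(hcl k).1.preimage g.continuous, g.isConstructible_preimage (hcl k).2⟩, fun k => ?_⟩
  obtain ⟨T, gT, s, himm, hrange, hs⟩ := hsec k
  refine ⟨Limits.pullback gT g, Limits.pullback.snd gT g,
    Limits.pullback.lift (Limits.pullback.fst gT g ≫ s) (Limits.pullback.snd gT g)
      (by rw [Category.assoc, hs, Limits.pullback.condition]),
    inferInstance, ?_, Limits.pullback.lift_snd _ _ _⟩
  change Set.range (Limits.pullback.snd gT g).base = g.base ⁻¹' Z k.succ \ g.base ⁻¹' Z k.castSucc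
  rw [← Set.preimage_sdiff, ← hrange]
  exact Scheme.Pullback.range_snd gT g

end Groth.Agent.S17865
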