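import Groth.Statements.S17873
import Groth.Agent.Lib.Lead.Kap1
import Groth.Agent.Lib.Lead.Depth16

set_option autoImplicit false
universe u
open GRRSing

namespace Groth.Agent.S17873

open RingTheory.Sequence LocCoh Pointwise IsLocalRing Groth.Agent.Lead.Depth Groth.Agent.Lead.Kap

variable {T : Type u} [CommRing T] [IsNoetherianRing T]

theorem ideal_smul_top (I : Ideal T) : I • (⊤ : Submodule T T) = I := by
  rw [smul_eq_mul, Ideal.mul_top]

/-- no associated prime of `M'` contains `I` when `1 ≤ depth_I M'`. -/
theorem not_le_ass (I : Ideal T) (M' : Type u) [AddCommGroup M'] [Module T M'] [Module.Finite T M']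
    (h1 : 1 ≤ idealDepth I M') (P : Ideal T) (hP : P ∈ associatedPrimes T M') : ¬ I ≤ P := by
  intro hIP
  obtain ⟨hPp, m, hm⟩ := (isAssociatedPrime_iff.1 hP)
  have hm0 : m = 0 := by
    refine (Groth.Agent.Helper28.ReflDepth.one_le_idealDepth_iff I M').1 h1 m ?_
    intro a ha
    have : a ∈ P := hIP ha
    rw [hm, Submodule.mem_colon_singleton] at this
    simpa using this
  apply hPp.ne_top
  rw [hm, hm0, eq_top_iff]
  intro a _
  rw [Submodule.mem_colon_singleton]
  simp

theorem aux (I : Ideal T) (hI : I ≠ ⊤) (j c : ℕ) (hdepth : (j : ℕ∞) ≤ idealDepth I T) :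
    ∀ (n : ℕ) (ts gs : List T), ts.length + n = j → ts.length + gs.length = c → j ≤ c →
      Ideal.ofList (ts ++ gs) = I → IsWeaklyRegular T ts →
      ∃ ts' : List T, ts'.length = c ∧ Ideal.ofList ts' = I ∧ IsWeaklyRegular T (ts'.take j) := by
  intro n
  induction n with
  | zero =>
    intro ts gs h1 h2 _ h3 h4
    refine ⟨ts ++ gs, by rw [List.length_append]; exact h2, h3, ?_⟩
    have hlen : ts.length = j := by omega
    have : (ts ++ gs).take j = ts := by
      rw [← hlen]
      exact List.take_left
    rw [this]
    exact h4
  | succ n ih =>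
    intro ts gs h1 h2 hjc h3 h4
    cases gs with
    | nil =>
      exfalso
      simp only [List.length_nil] at h2
      omega
    | cons g gs' =>
      rw [Ideal.ofList_append, Ideal.ofList_cons] at h3
      have hts : Ideal.ofList ts ≤ I := by rw [← h3]; exact le_sup_left
      have hgI : g ∈ I := by
        rw [← h3]
        exact Ideal.mem_sup_right (Ideal.mem_sup_left (Ideal.mem_span_singleton_self g))
      have hgs : Ideal.ofList gs' ≤ I := by
        rw [← h3]
        exact le_trans le_sup_right le_sup_right
      have hmem : ∀ x ∈ ts, x ∈ I := fun x hx => hts (Ideal.subset_span hx)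
      have haM : I • (⊤ : Submodule T T) ≠ ⊤ := by rw [ideal_smul_top]; exact hI
      have heq := idealDepth_eq_add_length I ts T haM hmem h4
      obtain ⟨d, hd⟩ : ∃ d, d = idealDepth I (T ⧸ (Ideal.ofList ts • ⊤ : Submodule T T)) :=
        ⟨_, rfl⟩
      rw [← hd] at heq
      have hd1 : 1 ≤ d := by
        rw [Order.one_le_iff_ne_zero]
        intro h0
        rw [heq, h0, zero_add, Nat.cast_le] at hdepth
        omega
      rw [hd] at hd1
      have hnot := not_le_ass I (T ⧸ (Ideal.ofList ts • ⊤ : Submodule T T)) hd1
      have hfin := associatedPrimes.finite T (T ⧸ (Ideal.ofList ts • ⊤ : Submodule T T))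
      obtain ⟨k, hkK, hk⟩ := exists_add_notMem hfin.toFinset
        (fun P hP => (isAssociatedPrime_iff.1 (hfin.mem_toFinset.1 hP)).1) g
        (Ideal.ofList ts ⊔ Ideal.ofList gs') (by
          intro P hP hgP hKP
          refine hnot P (hfin.mem_toFinset.1 hP) ?_
          rw [← h3]
          refine sup_le (le_trans le_sup_left hKP) (sup_le ?_ (le_trans le_sup_right hKP))
          rw [Ideal.span_le]
          intro x hx
          rw [Set.mem_singleton_iff] at hx
          rw [hx]
          exact hgP)
      have hreg : IsSMulRegular (T ⧸ (Ideal.ofList ts • ⊤ : Submodule T T)) (g + k) :=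
        isSMulRegular_of_notMem_ass (g + k) (fun P hP => hk P (hfin.mem_toFinset.2 hP))
      have hkI : k ∈ I := (sup_le hts hgs) hkK
      have hwr : IsWeaklyRegular T (ts ++ [g + k]) := by
        rw [isWeaklyRegular_append_iff]
        refine ⟨h4, ?_⟩
        rw [isWeaklyRegular_cons_iff]
        exact ⟨hreg, IsWeaklyRegular.nil T _⟩
      refine ih (ts ++ [g + k]) gs' ?_ ?_ hjc ?_ hwr
      · rw [List.length_append, List.length_singleton]; omega
      · rw [List.length_append, List.length_singleton]
        rw [List.length_cons] at h2
        omega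
      · rw [Ideal.ofList_append, Ideal.ofList_append, Ideal.ofList_singleton]
        apply le_antisymm
        · refine sup_le (sup_le hts ?_) hgs
          rw [Ideal.span_le]
          intro x hx
          rw [Set.mem_singleton_iff] at hx
          rw [hx]
          exact I.add_mem hgI hkI
        · rw [← h3]
          have hK : Ideal.ofList ts ⊔ Ideal.ofList gs' ≤
              Ideal.ofList ts ⊔ Ideal.span {g + k} ⊔ Ideal.ofList gs' :=
            sup_le (le_trans le_sup_left le_sup_left) le_sup_right
          refine sup_le (le_trans le_sup_left le_sup_left) (sup_le ?_ le_sup_right)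
          rw [Ideal.span_le]
          intro x hx
          rw [Set.mem_singleton_iff] at hx
          rw [hx]
          have h5 : g + k ∈ Ideal.ofList ts ⊔ Ideal.span {g + k} ⊔ Ideal.ofList gs' :=
            Ideal.mem_sup_left (Ideal.mem_sup_right (Ideal.mem_span_singleton_self _))
          have h7 := Ideal.sub_mem _ h5 (hK hkK)
          have h8 : g + k - k = g := by ring
          rwa [h8] at h7

end Groth.Agent.S17873


namespace Groth.Agent.S17873

/-- Let T be a Cohen–Macaulay Noetherian local ring, J a proper ideal of T, j the grade of J (the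
J-depth of T, i.e. the supremum of the lengths of T-regular sequences inside J; a natural number
here) and c the minimal number of generators of J (equal to the dimension of J/𝔪J over the residue
field). Then j ≤ c and there is a generating sequence t_1, …, t_c of J such that t_1, …, t_j is a
T-regular sequence. (The published statement does not exclude J = T; there c = 1 while the grade,
read as the depth of T, can exceed 1, so this row assumes J proper.) -/
theorem result {T : Type u} [CommRing T] [LocCoh.IsCohenMacaulayLocalRing T]
    (J : Ideal T) (hJ : J ≠ ⊤) (j : ℕ) (hj : LocCoh.idealDepth J T = j) :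
    j ≤ Submodule.spanFinrank J ∧
      ∃ ts : List T, ts.length = Submodule.spanFinrank J ∧ Ideal.ofList ts = J ∧
        RingTheory.Sequence.IsRegular T (ts.take j) := by
  haveI : IsNoetherianRing T := inferInstance
  haveI : IsLocalRing T := inferInstance
  have hjc : j ≤ Submodule.spanFinrank J := by
    have h1 := Groth.Agent.Lead.Depth.idealDepth_self_le_height J
    have h2 := Ideal.height_le_spanFinrank J hJ
    rw [hj] at h1
    exact_mod_cast h1.trans h2
  refine ⟨hjc, ?_⟩
  obtain ⟨s, hs1, hs2⟩ :=
    Submodule.FG.exists_span_finset_card_eq_spanFinrank (IsNoetherian.noetherian J)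
  have hof : Ideal.ofList s.toList = J := by
    rw [← hs2]
    show Ideal.span _ = Ideal.span _
    congr 1
    ext x
    simp
  obtain ⟨ts, h1, h2, h3⟩ := aux J hJ j (Submodule.spanFinrank J) (by rw [hj]) j [] s.toList
    (by simp) (by simp [hs1]) hjc (by simpa using hof) (RingTheory.Sequence.IsWeaklyRegular.nil T T)
  refine ⟨ts, h1, h2, ⟨h3, ?_⟩⟩
  intro htop
  apply hJ
  rw [eq_top_iff]
  have h4 : Ideal.ofList (ts.take j) ≤ J := by
    rw [← h2]
    exact Ideal.span_mono (fun x hx => List.mem_of_mem_take hx)
  have h5 : (⊤ : Submodule T T) ≤ J • (⊤ : Submodule T T) :=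
    le_trans (le_of_eq htop) (Submodule.smul_mono_left h4)
  rw [ideal_smul_top] at h5
  exact h5

end Groth.Agent.S17873
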