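import Groth.Statements.S1788
import Groth.Agent.Lib.Helper8.CoR3
import Groth.Agent.Lib.Helper8.RMod9
import Groth.Agent.Lib.Helper8.FBC6
import Groth.Agent.Lib.Helper12.GorField
import Groth.Agent.Lib.Helper11.LDer5

set_option autoImplicit false
universe u
open CategoryTheory
attribute [local instance] HasDerivedCategory.standard
open scoped TensorProduct
open Dual

namespace Groth.Agent.S1788

/-- Let A → B be a faithfully flat finite type homomorphism of Noetherian rings all of whose fibre rings
B ⊗_A κ(p) are Gorenstein, and K an object of D(A). Assuming the derived base change functor D(A) →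
D(B) exists, K is a dualizing complex for A if and only if its base change is a dualizing complex
for B. -/
theorem result (A B : Type u) [CommRing A] [CommRing B] [Algebra A B] [IsNoetherianRing A] [IsNoetherianRing B] [Module.FaithfullyFlat A B] [Algebra.FiniteType A B] (hG : ∀ p : PrimeSpectrum A, LocCoh.IsGorensteinRing (B ⊗[A] p.asIdeal.ResidueField)) [DRing.HasLBaseChange (algebraMap A B)] (K : Dual.D A) : Dual.IsDualizing A K ↔ Dual.IsDualizing B ((DRing.LBaseChange (algebraMap A B)).obj K) := by
  haveI := Groth.Agent.Helper8.FBC.preservesFiniteLimits_Efun_of_flat (A := A) B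
  obtain ⟨e⟩ := Groth.Agent.Helper11.LDer.nonempty_totalLeftDerived_iso_of_exact
    (Groth.Agent.Helper8.LOC.Efun (algebraMap A B))
  constructor
  · intro hK
    obtain ⟨ωB, hωB⟩ := Groth.Agent.Helper8.RMod.exists_isDualizing_of_finiteType K hK B
    have hdim := Groth.Agent.Helper8.LOC.ringKrullDim_lt_top_of_isDualizing ωB hωB
    have hfib : ∀ (r : Ideal B) [r.IsPrime],
        LocCoh.IsGorensteinLocalRing (Groth.Agent.Lead.Fib.FL (r.under A) r) := by
      intro r _
      haveI : r.LiesOver (r.under A) := ⟨rfl⟩
      have h1 := hG ⟨r.under A, inferInstance⟩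
      have h2 : LocCoh.IsGorensteinRing ((r.under A).Fiber B) :=
        Groth.Agent.Helper12.GorField.isGorensteinRing_of_ringEquiv
          (Algebra.TensorProduct.comm A B (r.under A).ResidueField).toRingEquiv h1
      exact (Groth.Agent.Helper12.GorFib.isGorensteinRing_fiber_iff (r.under A)).mp h2 r
    exact Groth.Agent.Helper8.FLD.isDualizing_of_iso (e.app K).symm
      (Groth.Agent.Helper8.CoR.isDualizing_Ld_of_gorenstein_fibres hdim hfib K hK)
  · intro hK
    exact Groth.Agent.Helper8.FBC.isDualizing_of_Ld B K
      (Groth.Agent.Helper8.FLD.isDualizing_of_iso (e.app K) hK)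

end Groth.Agent.S1788
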