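import Groth.Statements.S17882
import Mathlib

set_option autoImplicit false
universe u
open CAlg

namespace Groth.Agent.S17882

/-- Let B be a commutative ring, r ≥ 1, N a finitely generated submodule of B^r, and n_1, …, n_r ∈ N.
Suppose the determinant of the matrix with rows n_1, …, n_r is a nonzerodivisor of B and that the
determinant of every matrix whose rows lie in N is a multiple of it (the image of the top exterior
power of N in that of B^r ≅ B is the principal ideal generated by n_1 ∧ ⋯ ∧ n_r, a nonzerodivisor).
Then n_1, …, n_r are linearly independent over B and span N: N is free of rank r with this basis. -/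
theorem result (B : Type u) [CommRing B] (r : ℕ) (hr : 0 < r)
    (N : Submodule B (Fin r → B)) (hN : N.FG) (n : Fin r → (Fin r → B)) (hn : ∀ i, n i ∈ N)
    (hgen : ∀ m : Fin r → (Fin r → B), (∀ i, m i ∈ N) →
      Matrix.det (Matrix.of m) ∈ Ideal.span {Matrix.det (Matrix.of n)})
    (hnzd : Matrix.det (Matrix.of n) ∈ nonZeroDivisors B) :
    LinearIndependent B n ∧ Submodule.span B (Set.range n) = N := by
  set M : Matrix (Fin r) (Fin r) B := Matrix.of n with hM
  set δ := M.det with hδ
  have hcancel : ∀ b : B, δ * b = 0 → b = 0 := fun b hb =>
    (mul_left_mem_nonZeroDivisors_eq_zero_iff hnzd).1 hb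
  constructor
  · rw [Fintype.linearIndependent_iff]
    intro c hc i
    have h1 : Matrix.vecMul c M = 0 := by
      funext j
      have := congrFun hc j
      simpa [Matrix.vecMul, dotProduct, hM, Finset.sum_apply] using this
    have h2 : Matrix.vecMul c (M * M.adjugate) = 0 := by
      rw [← Matrix.vecMul_vecMul, h1, Matrix.zero_vecMul]
    rw [Matrix.mul_adjugate, Matrix.vecMul_smul, Matrix.vecMul_one] at h2
    have := congrFun h2 i
    exact hcancel _ (by simpa using this)
  · apply le_antisymm
    · rw [Submodule.span_le]
      rintro _ ⟨i, rfl⟩
      exact hn i
    · intro x hx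
      have hb : ∀ i, ∃ b : B, b * δ = (Matrix.of (Function.update n i x)).det := by
        intro i
        have := hgen (Function.update n i x) (by
          intro j
          by_cases hji : j = i
          · subst hji; simpa using hx
          · rw [Function.update_of_ne hji]; exact hn j)
        rw [Ideal.mem_span_singleton'] at this
        exact this
      choose b hb using hb
      have hcr : ∀ i, Matrix.cramer M.transpose x i = b i * δ := by
        intro i
        rw [Matrix.cramer_apply, hb i, ← Matrix.det_transpose, Matrix.updateCol_transpose,
          Matrix.transpose_transpose]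
        rfl
      have hmv := Matrix.mulVec_cramer M.transpose x
      rw [Matrix.det_transpose] at hmv
      have hx' : x = ∑ i, b i • n i := by
        funext j
        rw [← sub_eq_zero]
        apply hcancel
        have := congrFun hmv j
        simp only [Matrix.mulVec, dotProduct, Matrix.transpose_apply, hcr, Pi.smul_apply,
          smul_eq_mul] at this
        rw [Finset.sum_apply, mul_sub, ← hδ] at *
        rw [← this, Finset.mul_sum, ← Finset.sum_sub_distrib]
        apply Finset.sum_eq_zero
        intro i _
        simp only [hM, Matrix.of_apply, Pi.smul_apply, smul_eq_mul]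
        ring
      rw [hx']
      exact Submodule.sum_mem _ fun i _ => Submodule.smul_mem _ _ (Submodule.subset_span ⟨i, rfl⟩)

end Groth.Agent.S17882
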