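import Groth.Statements.S17889
import Mathlib
import Groth.Agent.Lib.Helper28.EffCartierOld
import Groth.Agent.Lib.Helper28.IdealComapOld
open Groth.Agent.Helper28.EffCartierOld Groth.Agent.Helper28.IdealComapOld

set_option autoImplicit false
universe u
open CategoryTheory AlgebraicGeometry TopologicalSpace
open BlowUp

namespace Groth.Agent.S17889

/-- Let X be a Noetherian scheme, X₀ ⊆ X an open subscheme, p : Z → X a morphism of finite type with Z
Noetherian, and F ⊆ X, G ⊆ Z closed subsets with p⁻¹(F ∩ X₀) ∩ G = ∅. Let a be a quasi-coherent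
ideal sheaf on X whose support does not meet X₀, which contains the vanishing ideal I_F of F, and
which is contained in the kernel ideal of V(I_F·O_Z + I_G) → Z → X (the ideal of the
scheme-theoretic image under p of p⁻¹(F) ∩ G). Let π : X' → X be a blowing-up along a, Z' = Z ×_X X'
with projections π' : Z' → Z and p' : Z' → X'. Then p'⁻¹ of the closure in X' of π⁻¹(F ∩ X₀) is
disjoint from the closure in Z' of π'⁻¹(G ∩ p⁻¹(X₀)). Taking a to be that kernel ideal shows such an
a exists. -/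
theorem result
    {X Z : Scheme.{u}} [IsNoetherian X] [IsNoetherian Z] (p : Z ⟶ X) [LocallyOfFiniteType p]
    (X₀ : X.Opens) (F : Closeds X) (G : Closeds Z)
    (hFG : p.base ⁻¹' ((F : Set X) ∩ (X₀ : Set X)) ∩ (G : Set Z) = ∅)
    (𝔞 : X.IdealSheafData) (h₁ : Disjoint (𝔞.support : Set X) (X₀ : Set X))
    (h₂ : Scheme.IdealSheafData.vanishingIdeal F ≤ 𝔞)
    (h₃ : 𝔞 ≤ (((Scheme.IdealSheafData.vanishingIdeal F).comap p ⊔
      Scheme.IdealSheafData.vanishingIdeal G).subschemeι ≫ p).ker)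
    {X' : Scheme.{u}} (π : X' ⟶ X) (hπ : BlowUp.IsBlowUp π 𝔞) :
    (Limits.pullback.snd p π).base ⁻¹' closure (π.base ⁻¹' ((F : Set X) ∩ (X₀ : Set X))) ∩
      closure ((Limits.pullback.fst p π).base ⁻¹' ((G : Set Z) ∩ (p ⁻¹ᵁ X₀ : Set Z))) = ∅ := by
  classical
  rw [Set.eq_empty_iff_forall_notMem]
  rintro z' ⟨hz1, hz2⟩
  obtain ⟨p', hp'⟩ : ∃ p' : Limits.pullback p π ⟶ X', p' = Limits.pullback.snd p π := ⟨_, rfl⟩
  obtain ⟨π', hπ'⟩ : ∃ π' : Limits.pullback p π ⟶ Z, π' = Limits.pullback.fst p π := ⟨_, rfl⟩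
  rw [← hp'] at hz1
  rw [← hπ'] at hz2
  have hcond : π' ≫ p = p' ≫ π := by rw [hp', hπ']; exact Limits.pullback.condition
  set E := 𝔞.comap π with hE
  have hEff : BlowUp.IsEffCartierIdeal E := hπ.1
  set IF := Scheme.IdealSheafData.vanishingIdeal F with hIF
  set IG := Scheme.IdealSheafData.vanishingIdeal G with hIG
  have hincl : E.comap p' ≤ (IF.comap π).comap p' ⊔ IG.comap π' := by
    have h4 : 𝔞.comap p ≤ IF.comap p ⊔ IG := by
      rw [← Scheme.IdealSheafData.le_map_iff_comap_le]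
      exact h₃
    have h5 := Scheme.IdealSheafData.comap_mono π' h4
    simp only at h5
    rw [Scheme.IdealSheafData.comap_sup, ← Scheme.IdealSheafData.comap_comp,
      ← Scheme.IdealSheafData.comap_comp, hcond, Scheme.IdealSheafData.comap_comp,
      Scheme.IdealSheafData.comap_comp] at h5
    exact h5
  have hFE : IF.comap π ≤ E := Scheme.IdealSheafData.comap_mono π h₂
  -- two support facts
  have hsuppt : ∀ {T : Scheme.{u}} (K : T.IdealSheafData) (V : T.affineOpens) (t : Γ(T, V.1))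
      (_ : K.ideal V = Ideal.span {t}) (y : T) (_ : y ∈ V.1) (_ : y ∉ K.support),
      y ∈ T.basicOpen t := by
    intro T K V t hK y hyV hy
    by_contra hyt
    apply hy
    rw [Scheme.IdealSheafData.mem_support_iff_of_mem (U := V) hyV, hK, Scheme.zeroLocus_span,
      Scheme.zeroLocus_singleton]
    exact hyt
  have hsuppa : ∀ {T : Scheme.{u}} (K : T.IdealSheafData) (V : T.affineOpens) (a : Γ(T, V.1))
      (_ : a ∈ K.ideal V) (y : T) (_ : y ∈ V.1) (_ : y ∈ K.support), y ∉ T.basicOpen a := by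
    intro T K V a ha y hyV hy
    rw [Scheme.IdealSheafData.mem_support_iff_of_mem (U := V) hyV] at hy
    exact (Scheme.mem_zeroLocus_iff _ _ _).1 hy a ha
  -- chart on X'
  obtain ⟨V, hxV, t, ht, hEt⟩ := hEff (p' z')
  obtain ⟨_, ⟨W, hW, rfl⟩, hzW, hWV⟩ :=
    (Limits.pullback p π).isBasis_affineOpens.exists_subset_of_mem_open
      (show z' ∈ ((p' ⁻¹ᵁ V.1 : (Limits.pullback p π).Opens) : Set _) from hxV) (p' ⁻¹ᵁ V.1).2
  set ψ := (p'.appLE V.1 W hWV).hom with hψ
  set JF := (IF.comap π).ideal V with hJF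
  have h6 : (E.comap p').ideal ⟨W, hW⟩ = Ideal.span {ψ t} := by
    rw [ideal_comap p' E V ⟨W, hW⟩ hWV, hEt, Ideal.map_span, Set.image_singleton]
  have h7 : ((IF.comap π).comap p').ideal ⟨W, hW⟩ = Ideal.map ψ JF :=
    ideal_comap p' (IF.comap π) V ⟨W, hW⟩ hWV
  have h8 : ψ t ∈ Ideal.map ψ JF ⊔ (IG.comap π').ideal ⟨W, hW⟩ := by
    have := hincl ⟨W, hW⟩
    rw [h6, Scheme.IdealSheafData.ideal_sup, Pi.sup_apply, h7] at this
    exact this (Ideal.mem_span_singleton_self _)
  obtain ⟨m, hm, g, hg, hmg⟩ := Submodule.mem_sup.1 h8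
  set C : Ideal Γ(X', V.1) := JF.colon (Ideal.span {t}) with hC
  have hJFt : JF ≤ Ideal.span {t} := by rw [← hEt]; exact hFE V
  have hJC : JF ≤ Ideal.span {t} * C := by
    intro a ha
    obtain ⟨c, hc⟩ := Ideal.mem_span_singleton'.1 (hJFt ha)
    rw [Ideal.mem_span_singleton_mul]
    refine ⟨c, ?_, by rw [mul_comm]; exact hc⟩
    rw [hC, Ideal.mem_colon_span_singleton, hc]
    exact ha
  have hm' : m ∈ Ideal.span {ψ t} * Ideal.map ψ C := by
    have h := Ideal.map_mono (f := ψ) hJC hm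
    rwa [Ideal.map_mul, Ideal.map_span, Set.image_singleton] at h
  obtain ⟨n, hn, hnm⟩ := Ideal.mem_span_singleton_mul.1 hm'
  -- elements of C vanish at p' z'
  have hCvan : ∀ c ∈ C, p' z' ∉ X'.basicOpen c := by
    intro c hc hxc
    have hopen : IsOpen ((X'.basicOpen c : X'.Opens) : Set X') := (X'.basicOpen c).2
    obtain ⟨y, hyc, hyF⟩ := mem_closure_iff.1 hz1 _ hopen hxc
    have hyV : y ∈ V.1 := X'.basicOpen_le c hyc
    have htc : t * c ∈ JF := by
      have := (Ideal.mem_colon_span_singleton).1 hc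
      rw [mul_comm] at this
      exact this
    have hysupp : y ∈ (IF.comap π).support := by
      rw [Scheme.IdealSheafData.support_comap]
      show π y ∈ (IF.support : Set X)
      rw [hIF, Scheme.IdealSheafData.coe_support_vanishingIdeal]
      exact hyF.1
    have h1 := hsuppa (IF.comap π) V (t * c) htc y hyV hysupp
    rw [Scheme.basicOpen_mul] at h1
    have hyE : y ∉ E.support := by
      rw [hE, Scheme.IdealSheafData.support_comap]
      intro hy
      exact Set.disjoint_left.1 h₁ hy hyF.2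
    exact h1 ⟨hsuppt E V t hEt y hyV hyE, hyc⟩
  set P := hW.primeIdealOf ⟨z', hzW⟩ with hP
  have hnP : n ∈ P.asIdeal := by
    have hle : Ideal.map ψ C ≤ P.asIdeal := by
      rw [Ideal.map_le_iff_le_comap]
      intro c hc
      show ψ c ∈ P.asIdeal
      by_contra hcon
      have h1 : z' ∈ (Limits.pullback p π).basicOpen (ψ c) :=
        (mem_basicOpen_iff_notMem_primeIdealOf hW z' hzW (ψ c)).2 hcon
      rw [hψ] at h1
      erw [Scheme.basicOpen_appLE] at h1
      exact hCvan c hc h1.2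
    exact hle hn
  have huP : (1 - n) ∉ P.asIdeal := by
    intro h
    have : (1 : Γ(Limits.pullback p π, W)) ∈ P.asIdeal := by
      have := P.asIdeal.add_mem h hnP
      rwa [sub_add_cancel] at this
    exact P.2.ne_top ((Ideal.eq_top_iff_one _).2 this)
  have hzu : z' ∈ (Limits.pullback p π).basicOpen (1 - n) :=
    (mem_basicOpen_iff_notMem_primeIdealOf hW z' hzW (1 - n)).2 huP
  obtain ⟨w, hwu, hwG⟩ := mem_closure_iff.1 hz2 _ ((Limits.pullback p π).basicOpen (1 - n)).2 hzu
  have hwW : w ∈ W := (Limits.pullback p π).basicOpen_le _ hwu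
  have hwsupp : w ∈ (IG.comap π').support := by
    rw [Scheme.IdealSheafData.support_comap]
    show π' w ∈ (IG.support : Set Z)
    rw [hIG, Scheme.IdealSheafData.coe_support_vanishingIdeal]
    exact hwG.1
  have h1 := hsuppa (IG.comap π') ⟨W, hW⟩ g hg w hwW hwsupp
  have hg' : g = ψ t * (1 - n) := by
    rw [mul_sub, mul_one, hnm, ← hmg]; ring
  rw [hg', Scheme.basicOpen_mul] at h1
  apply h1
  refine ⟨?_, hwu⟩
  rw [hψ]
  erw [Scheme.basicOpen_appLE]
  refine ⟨hwW, ?_⟩
  show p' w ∈ X'.basicOpen t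
  have hpwV : p' w ∈ V.1 := hWV hwW
  apply hsuppt E V t hEt (p' w) hpwV
  rw [hE, Scheme.IdealSheafData.support_comap]
  intro hy
  have h2 : π (p' w) ∈ (X₀ : Set X) := by
    rw [← Scheme.Hom.comp_apply, ← hcond, Scheme.Hom.comp_apply]
    exact hwG.2
  exact Set.disjoint_left.1 h₁ hy h2

end Groth.Agent.S17889
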