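import Groth.Statements.S1789
import Groth.Agent.S1782
import Groth.Agent.Lib.Helper8.CoR5
import Groth.Agent.Lib.Helper8.RMod5
import Groth.Agent.Lib.Helper11.LDer5

set_option autoImplicit false
universe u
open CategoryTheory
attribute [local instance] HasDerivedCategory.standard
open Dual2

namespace Groth.Agent.S1789

/-- Let R → A be a ring map of finite type between Noetherian rings with R local, where φ^!(K) is formed
from a presentation ψ : R[x_1, …, x_n] → A as RHom_P(A, K ⊗^L_R P)[n], assuming the derived base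
change to P exists and taking for RHom_P(A, −) a right adjoint of restriction of scalars along ψ.
Let m be a maximal ideal of A lying over the maximal ideal of R and ω a normalized dualizing complex
for R. Assuming the derived base change D(A) → D(A_m) exists, the base change of φ^!(ω) to A_m is a
normalized dualizing complex for A_m. -/
theorem result (R A : Type u) [CommRing R] [CommRing A] [IsNoetherianRing R] [IsNoetherianRing A] [Algebra R A] (n : ℕ) (ψ : MvPolynomial (Fin n) R →ₐ[R] A) (hψ : Function.Surjective ψ) [DRing.HasLBaseChange (algebraMap R (MvPolynomial (Fin n) R))] (Rψ : Dual.D (MvPolynomial (Fin n) R) ⥤ Dual.D A) (adj : DRing.restrictD ψ.toRingHom ⊣ Rψ) [IsLocalRing R] (m : Ideal A) [m.IsMaximal] (hm : m.comap (algebraMap R A) = IsLocalRing.maximalIdeal R) (ω : Dual.D R) (hω : Dual.IsDualizing R ω) (hn : Dual.IsNormalized R ω) [DRing.HasLBaseChange (algebraMap A (Localization.AtPrime m))] : Dual.IsDualizing (Localization.AtPrime m) ((DRing.LBaseChange (algebraMap A (Localization.AtPrime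 m))).obj (Dual2.shriekVia n Rψ ω)) ∧ Dual.IsNormalized (Localization.AtPrime m) ((DRing.LBaseChange (algebraMap A (Localization.AtPrime m))).obj (Dual2.shriekVia n Rψ ω)) := by
  haveI := Groth.Agent.Helper8.FBC.preservesFiniteLimits_Efun_of_flat (A := R)
    (MvPolynomial (Fin n) R)
  obtain ⟨e1⟩ := Groth.Agent.Helper11.LDer.nonempty_totalLeftDerived_iso_of_exact
    (Groth.Agent.Helper8.LOC.Efun (algebraMap R (MvPolynomial (Fin n) R)))
  obtain ⟨e2⟩ := Groth.Agent.Helper11.LDer.nonempty_totalLeftDerived_iso_of_exact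
    (Groth.Agent.Helper8.LOC.Efun (algebraMap A (Localization.AtPrime m)))
  have hSh : Dual.IsDualizing A (Dual2.shriekVia n Rψ ω) :=
    Groth.Agent.S1782.result R A n ψ hψ Rψ adj ω hω
  have hd : Dual.IsDualizing (Localization.AtPrime m)
      ((Groth.Agent.Helper8.LOC.Ld (algebraMap A (Localization.AtPrime m))).obj
        (Dual2.shriekVia n Rψ ω)) :=
    Groth.Agent.Helper8.LOC.isDualizing_Ld m.primeCompl (Localization.AtPrime m) _ hSh
  refine ⟨Groth.Agent.Helper8.FLD.isDualizing_of_iso (e2.app _).symm hd, ?_⟩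
  intro i hi
  -- the maximal ideal of the polynomial ring
  haveI hm' : (m.comap ψ.toRingHom).IsMaximal := Ideal.comap_isMaximal_of_surjective _ hψ
  haveI hlo : (m.comap ψ.toRingHom).LiesOver (IsLocalRing.maximalIdeal R) := by
    refine ⟨?_⟩
    rw [← hm, Ideal.under_def, Ideal.comap_comap]
    congr 1
    ext r
    exact (ψ.commutes r).symm
  -- vanishing over `A`
  have key : Subsingleton (Dual.inD A (A ⧸ m) ⟶ (Dual2.shriekVia n Rψ ω)⟦i⟧) := by
    refine ⟨fun x y => ?_⟩
    have hz : ∀ t : Dual.inD A (A ⧸ m) ⟶ (Dual2.shriekVia n Rψ ω)⟦i⟧, t = 0 := by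
      intro t
      let W := Rψ.obj ((DRing.LBaseChange (algebraMap R (MvPolynomial (Fin n) R))).obj ω)
      let c : W⟦(n : ℤ) + i⟧ ≅ (W⟦(n : ℤ)⟧)⟦i⟧ :=
        (CategoryTheory.shiftFunctorAdd' (Dual.D A) (n : ℤ) i ((n : ℤ) + i) rfl).app W
      have h1 : t ≫ c.inv = 0 := by
        apply Groth.Agent.Helper8.RMod.hom_shift_R_eq_zero ψ.toRingHom Rψ adj
        intro s
        have h2 := Groth.Agent.Helper8.CoR.subsingleton_hom_mvPolynomial_maximal
          (m.comap ψ.toRingHom) ω hω hn ((n : ℤ) + i) (by omega)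
        let σ := Groth.Agent.Helper8.CoR.restrictQuotIso ψ.toRingHom hψ m
        have h3 : σ.inv ≫ s ≫ ((CategoryTheory.shiftFunctor _ ((n : ℤ) + i)).mapIso
            (e1.app ω)).hom = 0 := Subsingleton.elim _ _
        have h4 : s = σ.hom ≫ (σ.inv ≫ s ≫ ((CategoryTheory.shiftFunctor _ ((n : ℤ) + i)).mapIso
            (e1.app ω)).hom) ≫ ((CategoryTheory.shiftFunctor _ ((n : ℤ) + i)).mapIso
            (e1.app ω)).inv := by
          simp
        rw [h4, h3, CategoryTheory.Limits.zero_comp, CategoryTheory.Limits.comp_zero]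
      calc t = (t ≫ c.inv) ≫ c.hom := by simp
        _ = 0 := by rw [h1, CategoryTheory.Limits.zero_comp]
    rw [hz x, hz y]
  obtain ⟨a₁, b₁, hab₁⟩ := Groth.Agent.Helper8.LOC.exists_isZero_homology _ hSh
  have key2 := (Groth.Agent.Helper8.CoR.subsingleton_hom_maximal_iff m (Dual2.shriekVia n Rψ ω) a₁
    (fun j hj => hab₁ j (Or.inl hj)) i).mp key
  exact (CategoryTheory.Iso.homCongr (CategoryTheory.Iso.refl _)
    ((CategoryTheory.shiftFunctor _ i).mapIso (e2.app _))).subsingleton_congr.mpr key2

end Groth.Agent.S1789
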