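import Groth.Statements.S17900
import Mathlib
import Groth.Agent.Lib.Helper26.FlatAux

set_option autoImplicit false
universe u
open TensorProduct
open Pinch

namespace Groth.Agent.S17900

/-- Let R be a commutative ring and let B' → B → A, B' → A' → A be a commutative square of R-algebras
which is a fibre square (B' = B ×_A A') with A' → A surjective. If B, A' and A are flat over R then
B' is flat over R. -/
theorem result (R B' B A' A : Type u) [CommRing R] [CommRing B'] [CommRing B] [CommRing A'] [CommRing A]
    [Algebra B' B] [Algebra B' A'] [Algebra B A] [Algebra A' A] [Algebra B' A]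
    [IsScalarTower B' B A] [IsScalarTower B' A' A]
    [Algebra R B'] [Algebra R B] [Algebra R A'] [Algebra R A]
    [IsScalarTower R B' B] [IsScalarTower R B' A'] [IsScalarTower R B' A] [IsScalarTower R B A] [IsScalarTower R A' A]
    (hsq : EtMil.IsFibreSquare B' B A' A)
    [Module.Flat R B] [Module.Flat R A'] [Module.Flat R A] :
    Module.Flat R B' := by
  obtain ⟨hsurj, hfib⟩ := hsq
  let g : B' →ₗ[R] B × A' :=
    (IsScalarTower.toAlgHom R B' B).toLinearMap.prod (IsScalarTower.toAlgHom R B' A').toLinearMap
  let f : B × A' →ₗ[R] A :=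
    (IsScalarTower.toAlgHom R B A).toLinearMap.coprod (-(IsScalarTower.toAlgHom R A' A).toLinearMap)
  have hg_apply : ∀ b', g b' = (algebraMap B' B b', algebraMap B' A' b') := fun _ => rfl
  have hf_apply : ∀ x : B × A', f x = algebraMap B A x.1 - algebraMap A' A x.2 := by
    intro x
    simp [f, sub_eq_add_neg]
  have hfsurj : Function.Surjective f := by
    intro a
    obtain ⟨a', ha'⟩ := hsurj (-a)
    refine ⟨(0, a'), ?_⟩
    rw [hf_apply]
    simp [ha']
  have hginj : Function.Injective g := by
    intro x y hxy
    rw [hg_apply, hg_apply, Prod.mk.injEq] at hxy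
    have hcomp : algebraMap B A (algebraMap B' B y) = algebraMap A' A (algebraMap B' A' y) := by
      rw [← IsScalarTower.algebraMap_apply, ← IsScalarTower.algebraMap_apply]
    obtain ⟨z, _, hz⟩ := hfib _ _ hcomp
    rw [hz x ⟨hxy.1, hxy.2⟩, hz y ⟨rfl, rfl⟩]
  have hexact : Function.Exact g f := by
    intro x
    constructor
    · intro hx
      rw [hf_apply, sub_eq_zero] at hx
      obtain ⟨z, ⟨hz1, hz2⟩, _⟩ := hfib _ _ hx
      exact ⟨z, by rw [hg_apply, hz1, hz2]⟩
    · rintro ⟨z, rfl⟩
      rw [hg_apply, hf_apply, sub_eq_zero, ← IsScalarTower.algebraMap_apply,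
        ← IsScalarTower.algebraMap_apply]
  have : Module.Flat R (B × A') := Groth.Agent.Helper26.FlatAux.flat_prod B A'
  exact Groth.Agent.Helper26.FlatAux.flat_of_exact f hfsurj g hginj hexact

end Groth.Agent.S17900
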