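import Groth.Statements.S17901
import Mathlib

set_option autoImplicit false
universe u
open TensorProduct
open Pinch

namespace Groth.Agent.S17901

/-- Let R be a commutative ring and let B' → B → A, B' → A' → A be a fibre square of R-algebras (B' = B
×_A A') with A' → A surjective, where B, A' and A are flat over R. Then for every commutative
R-algebra R' the square obtained by applying R' ⊗_R − is again a fibre square: R' ⊗_R A' → R' ⊗_R A
is surjective and every pair of elements of R' ⊗_R B and R' ⊗_R A' with the same image in R' ⊗_R A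
is the image of a unique element of R' ⊗_R B'. (The published lemma concludes that the base-changed
square of spectra is co-cartesian in ringed spaces; this row states the ring form, surjective edge
and fibre product, which its proof establishes before translating it to ringed spaces.) -/
theorem result (R B' B A' A : Type u) [CommRing R] [CommRing B'] [CommRing B] [CommRing A'] [CommRing A]
    [Algebra B' B] [Algebra B' A'] [Algebra B A] [Algebra A' A] [Algebra B' A]
    [IsScalarTower B' B A] [IsScalarTower B' A' A]
    [Algebra R B'] [Algebra R B] [Algebra R A'] [Algebra R A]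
    [IsScalarTower R B' B] [IsScalarTower R B' A'] [IsScalarTower R B' A] [IsScalarTower R B A] [IsScalarTower R A' A]
    (hsq : EtMil.IsFibreSquare B' B A' A)
    [Module.Flat R B] [Module.Flat R A'] [Module.Flat R A]
    (R' : Type u) [CommRing R'] [Algebra R R'] :
    Function.Surjective (Algebra.TensorProduct.map (AlgHom.id R R') (IsScalarTower.toAlgHom R A' A)) ∧
    ∀ (x : R' ⊗[R] B) (y : R' ⊗[R] A'),
      Algebra.TensorProduct.map (AlgHom.id R R') (IsScalarTower.toAlgHom R B A) x =
        Algebra.TensorProduct.map (AlgHom.id R R') (IsScalarTower.toAlgHom R A' A) y →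
      ∃! z : R' ⊗[R] B',
        Algebra.TensorProduct.map (AlgHom.id R R') (IsScalarTower.toAlgHom R B' B) z = x ∧
        Algebra.TensorProduct.map (AlgHom.id R R') (IsScalarTower.toAlgHom R B' A') z = y := by
  obtain ⟨hsurj, hfib⟩ := hsq
  let g : B' →ₗ[R] B × A' :=
    (IsScalarTower.toAlgHom R B' B).toLinearMap.prod (IsScalarTower.toAlgHom R B' A').toLinearMap
  let f : B × A' →ₗ[R] A :=
    (IsScalarTower.toAlgHom R B A).toLinearMap.coprod (-(IsScalarTower.toAlgHom R A' A).toLinearMap)
  have hg_apply : ∀ b', g b' = (algebraMap B' B b', algebraMap B' A' b') := fun _ => rfl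
  have hf_apply : ∀ x : B × A', f x = algebraMap B A x.1 - algebraMap A' A x.2 := by
    intro x
    simp [f, sub_eq_add_neg]
  have hfsurj : Function.Surjective f := by
    intro a
    obtain ⟨a', ha'⟩ := hsurj (-a)
    refine ⟨(0, a'), ?_⟩
    rw [hf_apply]
    simp [ha']
  have hginj : Function.Injective g := by
    intro x y hxy
    rw [hg_apply, hg_apply, Prod.mk.injEq] at hxy
    have hcomp : algebraMap B A (algebraMap B' B y) = algebraMap A' A (algebraMap B' A' y) := by
      rw [← IsScalarTower.algebraMap_apply, ← IsScalarTower.algebraMap_apply]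
    obtain ⟨z, _, hz⟩ := hfib _ _ hcomp
    rw [hz x ⟨hxy.1, hxy.2⟩, hz y ⟨rfl, rfl⟩]
  have hexact : Function.Exact g f := by
    intro x
    constructor
    · intro hx
      rw [hf_apply, sub_eq_zero] at hx
      obtain ⟨z, ⟨hz1, hz2⟩, _⟩ := hfib _ _ hx
      exact ⟨z, by rw [hg_apply, hz1, hz2]⟩
    · rintro ⟨z, rfl⟩
      rw [hg_apply, hf_apply, sub_eq_zero, ← IsScalarTower.algebraMap_apply,
        ← IsScalarTower.algebraMap_apply]
  have hexact' : Function.Exact (g.lTensor R') (f.lTensor R') := lTensor_exact R' hexact hfsurj
  have hinj' : Function.Injective (g.lTensor R') :=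
    LinearMap.lTensor_injective_of_exact_of_flat f hfsurj g hginj hexact R'
  have ha : ∀ z : R' ⊗[R] B', TensorProduct.prodRight R R R' B A' (g.lTensor R' z) =
      (Algebra.TensorProduct.map (AlgHom.id R R') (IsScalarTower.toAlgHom R B' B) z,
        Algebra.TensorProduct.map (AlgHom.id R R') (IsScalarTower.toAlgHom R B' A') z) := by
    intro z
    induction z using TensorProduct.induction_on with
    | zero => simp only [map_zero]; rfl
    | tmul r b => simp [g]
    | add a b ha hb => simp only [map_add, ha, hb, Prod.mk_add_mk]
  have hb : ∀ t : R' ⊗[R] (B × A'), f.lTensor R' t =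
      Algebra.TensorProduct.map (AlgHom.id R R') (IsScalarTower.toAlgHom R B A) (TensorProduct.prodRight R R R' B A' t).1 -
      Algebra.TensorProduct.map (AlgHom.id R R') (IsScalarTower.toAlgHom R A' A) (TensorProduct.prodRight R R R' B A' t).2 := by
    intro t
    induction t using TensorProduct.induction_on with
    | zero => simp only [map_zero]; simp
    | tmul r b => simp [f, TensorProduct.tmul_add, TensorProduct.tmul_neg, sub_eq_add_neg]
    | add a b ha hb =>
      simp only [map_add, ha, hb, Prod.fst_add, Prod.snd_add]
      abel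
  constructor
  · intro t
    induction t using TensorProduct.induction_on with
    | zero => exact ⟨0, map_zero _⟩
    | tmul r a =>
      obtain ⟨a', rfl⟩ := hsurj a
      exact ⟨r ⊗ₜ a', by simp⟩
    | add a b ha hb =>
      obtain ⟨a1, rfl⟩ := ha
      obtain ⟨b1, rfl⟩ := hb
      exact ⟨a1 + b1, map_add _ _ _⟩
  · intro x y hxy
    set t := (TensorProduct.prodRight R R R' B A').symm (x, y) with ht
    have ht0 : f.lTensor R' t = 0 := by
      rw [hb, ht, LinearEquiv.apply_symm_apply, hxy, sub_self]
    obtain ⟨z, hz⟩ := (hexact' t).1 ht0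
    have hz' := ha z
    rw [hz, ht, LinearEquiv.apply_symm_apply, Prod.mk.injEq] at hz'
    refine ⟨z, ⟨hz'.1.symm, hz'.2.symm⟩, ?_⟩
    rintro z' ⟨h1, h2⟩
    apply hinj'
    apply (TensorProduct.prodRight R R R' B A').injective
    rw [ha, ha, h1, h2, ← hz'.1, ← hz'.2]

end Groth.Agent.S17901
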