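import Groth.Statements.S17906
import Groth.Agent.Lib.Helper4.PicRelBC

set_option autoImplicit false
universe u
open CategoryTheory CategoryTheory.Limits AlgebraicGeometry
open PicRel

namespace Groth.Agent.S17906

/-- Let f : X → S be a morphism of schemes, g : S' → S a morphism and X' = X ×_S S'. If the relative
Picard functor of X over S, sheafified and described through a representing S-scheme P with maps φ_T
from classes of modules on X ×_S T to S-morphisms T → P, is represented by P, then the relative
Picard functor of X' over S' is represented by P ×_S S': a class c on (X ×_S S') ×_{S'} T is sent,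
after transport along the canonical isomorphism of this scheme with X ×_S T, to the S'-morphism T →
P ×_S S' whose components are φ(c) and the structure morphism of T. (The published statement is for
the fppf sheafification, asserts the isomorphism of functors Pic_{X/S} ×_S S' ≅ Pic_{X'/S'} in
general, and adds the compatibility of universal bundles and rigidifications; stated here is the
representability consequence for the étale sheafification, to which the same argument applies.) -/
theorem result {X S S' : Scheme.{u}} (f : X ⟶ S) (g : S' ⟶ S)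
    (P : Over S) (φ : ∀ T : Over S, PicF.Cl (PicF.XT f T) → (T ⟶ P)) (hP : PicRel.IsRelPic f P φ) :
    PicRel.IsRelPic (pullback.snd f g) (Over.mk (pullback.snd P.hom g))
      (fun T c => Over.homMk
        (pullback.lift (φ (Over.mk (T.hom ≫ g)) (PicF.pullCl (pullbackLeftPullbackSndIso f g T.hom).inv c)).left T.hom
          (Over.w (φ (Over.mk (T.hom ≫ g)) (PicF.pullCl (pullbackLeftPullbackSndIso f g T.hom).inv c))))
        (pullback.lift_snd _ _ _)) := by
  classical
  refine ⟨?_, ?_, ?_⟩
  · -- naturality
    intro T T' a c hc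
    let â : Groth.Agent.Helper4.HilbBC.overS g T' ⟶ Groth.Agent.Helper4.HilbBC.overS g T :=
      Over.homMk a.left (by
        have := Over.w a
        dsimp at this ⊢
        rw [← Category.assoc, this])
    have hnat := hP.natural (Groth.Agent.Helper4.HilbBC.overS g T) (Groth.Agent.Helper4.HilbBC.overS g T') â
      (PicF.pullCl (Groth.Agent.Helper4.HilbBC.eT f g T).inv c)
      (Groth.Agent.Helper4.PicRelBC.isInvertibleCl_pullCl _ hc)
    have hcl : PicF.pullCl (PicF.XTmap f â) (PicF.pullCl (Groth.Agent.Helper4.HilbBC.eT f g T).inv c) =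
        PicF.pullCl (Groth.Agent.Helper4.HilbBC.eT f g T').inv
          (PicF.pullCl (PicF.XTmap (pullback.snd f g) a) c) := by
      rw [Groth.Agent.Helper4.PicRelBC.pullCl_comp, Groth.Agent.Helper4.PicRelBC.pullCl_comp]
      congr 1
      rw [Iso.comp_inv_eq, Category.assoc, Iso.eq_inv_comp]
      exact (Groth.Agent.Helper4.PicRelBC.XTmap_eT f g a â rfl).symm
    apply Over.OverMorphism.ext
    apply pullback.hom_ext
    · simp only [Over.homMk_left, Over.comp_left, Category.assoc]
      erw [pullback.lift_fst, pullback.lift_fst]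
      have := congrArg (fun m => m.left) (hcl ▸ hnat)
      simpa [â] using this
    · simp only [Over.homMk_left, Over.comp_left, Category.assoc]
      erw [pullback.lift_snd, pullback.lift_snd]
      exact (Over.w a).symm
  · -- local surjectivity
    intro T q
    obtain ⟨ι, U, hU, hc⟩ := hP.locallySurjective (Groth.Agent.Helper4.HilbBC.overS g T)
      (Groth.Agent.Helper4.HilbBC.toH g P q)
    refine ⟨ι, U, hU, fun i => ?_⟩
    obtain ⟨c₀, hc₀, hφ⟩ := hc i
    let θ : Groth.Agent.Helper4.HilbBC.overS g (PicRel.ovr T (U i)) ⟶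
        PicRel.ovr (Groth.Agent.Helper4.HilbBC.overS g T) (U i) :=
      Over.homMk (𝟙 _) (by simp)
    have h2 := hP.natural _ _ θ c₀ hc₀
    refine ⟨PicF.pullCl (Groth.Agent.Helper4.HilbBC.eT f g (PicRel.ovr T (U i))).hom
      (PicF.pullCl (PicF.XTmap f θ) c₀),
      Groth.Agent.Helper4.PicRelBC.isInvertibleCl_pullCl _
        (Groth.Agent.Helper4.PicRelBC.isInvertibleCl_pullCl _ hc₀), ?_⟩
    have h1 : PicF.pullCl (Groth.Agent.Helper4.HilbBC.eT f g (PicRel.ovr T (U i))).inv
        (PicF.pullCl (Groth.Agent.Helper4.HilbBC.eT f g (PicRel.ovr T (U i))).hom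
          (PicF.pullCl (PicF.XTmap f θ) c₀)) = PicF.pullCl (PicF.XTmap f θ) c₀ := by
      rw [Groth.Agent.Helper4.PicRelBC.pullCl_comp, Iso.inv_hom_id,
        Groth.Agent.Helper4.PicRelBC.pullCl_id]
    apply Over.OverMorphism.ext
    apply pullback.hom_ext
    · simp only [Over.homMk_left, Over.comp_left, Category.assoc]
      erw [pullback.lift_fst]
      have := congrArg (fun m => m.left) ((congrArg (φ _) h1).trans (h2.trans (congrArg (θ ≫ ·) hφ)))
      simp [θ, Groth.Agent.Helper4.HilbBC.toH] at this
      exact this
    · simp only [Over.homMk_left, Over.comp_left, Category.assoc]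
      erw [pullback.lift_snd]
      have := Over.w q
      dsimp at this ⊢
      rw [this]
  · -- local injectivity
    intro T c c' hc hc' heq
    have h0 : φ (Groth.Agent.Helper4.HilbBC.overS g T)
          (PicF.pullCl (Groth.Agent.Helper4.HilbBC.eT f g T).inv c) =
        φ (Groth.Agent.Helper4.HilbBC.overS g T)
          (PicF.pullCl (Groth.Agent.Helper4.HilbBC.eT f g T).inv c') := by
      apply Over.OverMorphism.ext
      have := congrArg (fun m => m.left ≫ pullback.fst P.hom g) heq
      simp only [Over.homMk_left] at this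
      erw [pullback.lift_fst, pullback.lift_fst] at this
      exact this
    obtain ⟨ι, U, hU, hinj⟩ := hP.locallyInjective (Groth.Agent.Helper4.HilbBC.overS g T) _ _
      (Groth.Agent.Helper4.PicRelBC.isInvertibleCl_pullCl _ hc)
      (Groth.Agent.Helper4.PicRelBC.isInvertibleCl_pullCl _ hc') h0
    refine ⟨ι, U, hU, fun i => ?_⟩
    have hi := hinj i
    let θ : Groth.Agent.Helper4.HilbBC.overS g (PicRel.ovr T (U i)) ⟶
        PicRel.ovr (Groth.Agent.Helper4.HilbBC.overS g T) (U i) :=
      Over.homMk (𝟙 _) (by simp)
    have key : ∀ c : PicF.Cl (PicF.XT (pullback.snd f g) T),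
        PicF.pullCl (PicF.XTmap (pullback.snd f g) (PicRel.ovrHom T (U i))) c =
          PicF.pullCl ((Groth.Agent.Helper4.HilbBC.eT f g (PicRel.ovr T (U i))).hom ≫ PicF.XTmap f θ)
            (PicF.pullCl (PicF.XTmap f (PicRel.ovrHom (Groth.Agent.Helper4.HilbBC.overS g T) (U i)))
              (PicF.pullCl (Groth.Agent.Helper4.HilbBC.eT f g T).inv c)) := by
      intro c
      rw [Groth.Agent.Helper4.PicRelBC.pullCl_comp, Groth.Agent.Helper4.PicRelBC.pullCl_comp]
      congr 1
      rw [Iso.eq_comp_inv, Category.assoc, ← Groth.Agent.Helper4.PicRelBC.XTmap_comp]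
      exact Groth.Agent.Helper4.PicRelBC.XTmap_eT f g (PicRel.ovrHom T (U i))
        (θ ≫ PicRel.ovrHom (Groth.Agent.Helper4.HilbBC.overS g T) (U i)) (by simp [θ])
    rw [key c, key c', hi]

end Groth.Agent.S17906
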