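import Groth.Statements.S17933
import Mathlib

set_option autoImplicit false
universe u
open MultCrv

namespace Groth.Agent.S17933

/-- Let R be a discrete valuation ring, n ≥ 1, A = R[X]/(X^n) with z the class of X, and M a finitely
generated A-module. Then M is torsion-free as an R-module if and only if the submodule M^(1) of
elements killed by z is a free R-module. (This is the statement at a closed point of the sheaf
statement: for a primitive multiple curve of multiplicity n the local ring at a closed point is of
the form R[X]/(X^n) with R the local ring of the reduced smooth curve, torsion-freeness is the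
absence of sections with finite support, and local freeness on the reduced curve is freeness of the
stalk; the row is stated for every discrete valuation ring R.) -/
theorem result (R : Type u) [CommRing R] [IsDomain R] [IsDiscreteValuationRing R] (n : ℕ) (hn : 1 ≤ n) (M : Type u) [AddCommGroup M] [Module (MultCrv.Rn R n) M] [Module R M] [IsScalarTower R (MultCrv.Rn R n) M] [Module.Finite (MultCrv.Rn R n) M] : Module.IsTorsionFree R M ↔ Module.Free R ↥(MultCrv.filt2 R n M 1) := by
  have hfinR : Module.Finite R (MultCrv.Rn R n) :=
    (Polynomial.monic_X_pow n).finite_adjoinRoot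
  have hfinM : Module.Finite R M := Module.Finite.trans (MultCrv.Rn R n) M
  have hz : MultCrv.z R n ^ n = 0 := by
    show Ideal.Quotient.mk _ Polynomial.X ^ n = 0
    rw [← map_pow, Ideal.Quotient.eq_zero_iff_mem]
    exact Ideal.mem_span_singleton_self _
  constructor
  · intro htf
    have hinj : Function.Injective
        ((MultCrv.filt2 R n M 1).subtype.restrictScalars R) := Subtype.val_injective
    have hfinK : Module.Finite R ↥(MultCrv.filt2 R n M 1) :=
      Module.Finite.of_injective _ hinj
    have htfK : Module.IsTorsionFree R ↥(MultCrv.filt2 R n M 1) :=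
      Function.Injective.moduleIsTorsionFree _ hinj (fun r m => rfl)
    exact Module.free_of_finite_type_torsion_free'
  · intro hfree
    refine ⟨fun r hr m₁ m₂ h => ?_⟩
    have hr0 : r ≠ 0 := hr.ne_zero
    simp only at h
    rw [← sub_eq_zero] at h ⊢
    rw [← smul_sub] at h
    set m := m₁ - m₂ with hm
    by_contra hne
    have hex : ∃ j : ℕ, MultCrv.z R n ^ j • m = 0 :=
      ⟨n, by rw [hz]; exact zero_smul (MultCrv.Rn R n) m⟩
    classical
    have hfind := Nat.find_spec hex
    have hpos : 0 < Nat.find hex := by
      rw [Nat.pos_iff_ne_zero]
      intro h0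
      rw [h0, pow_zero, one_smul] at hfind
      exact hne hfind
    have hmin : ¬ MultCrv.z R n ^ (Nat.find hex - 1) • m = 0 :=
      Nat.find_min hex (by omega)
    have hmem : MultCrv.z R n ^ (Nat.find hex - 1) • m ∈ MultCrv.filt2 R n M 1 := by
      show MultCrv.z R n ^ 1 • (MultCrv.z R n ^ (Nat.find hex - 1) • m) = 0
      rw [smul_smul, ← pow_add]
      have : 1 + (Nat.find hex - 1) = Nat.find hex := by omega
      rw [this]
      exact hfind
    have hk : r • (⟨_, hmem⟩ : ↥(MultCrv.filt2 R n M 1)) = 0 := by
      apply Subtype.ext
      show r • (MultCrv.z R n ^ (Nat.find hex - 1) • m) = 0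
      rw [smul_comm, h, smul_zero]
    have hk0 : (⟨_, hmem⟩ : ↥(MultCrv.filt2 R n M 1)) = 0 :=
      (smul_eq_zero_iff_right hr0).mp hk
    exact hmin (congrArg Subtype.val hk0)

end Groth.Agent.S17933
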