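import Groth.Statements.S17934
import Mathlib

set_option autoImplicit false
universe u
open MultCrv

namespace Groth.Agent.S17934

/-- Let R be a discrete valuation ring, n ≥ 1, A = R[X]/(X^n) with z the class of X, and M a finitely
generated A-module that is torsion-free as an R-module. Then for 1 ≤ i ≤ n the graded piece
M^(i)/M^(i-1) of the second canonical filtration (M^(i) the elements killed by z^i) is a free
R-module. (Statement at a closed point of the sheaf statement on a primitive multiple curve of
multiplicity n, whose local rings are of the form R[X]/(X^n) with R the local ring of the reduced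
smooth curve; stated for every discrete valuation ring R.) -/
theorem result (R : Type u) [CommRing R] [IsDomain R] [IsDiscreteValuationRing R] (n : ℕ) (hn : 1 ≤ n) (M : Type u) [AddCommGroup M] [Module (MultCrv.Rn R n) M] [Module R M] [IsScalarTower R (MultCrv.Rn R n) M] [Module.Finite (MultCrv.Rn R n) M] [Module.IsTorsionFree R M] (i : ℕ) (hi : 1 ≤ i) (hin : i ≤ n) : Module.Free R (MultCrv.G2 R n M i) := by
  have hfinR : Module.Finite R (MultCrv.Rn R n) :=
    (Polynomial.monic_X_pow n).finite_adjoinRoot
  have hfinM : Module.Finite R M := Module.Finite.trans (MultCrv.Rn R n) M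
  have hinj : Function.Injective
      ((MultCrv.filt2 R n M i).subtype.restrictScalars R) := Subtype.val_injective
  have hfinK : Module.Finite R ↥(MultCrv.filt2 R n M i) :=
    Module.Finite.of_injective _ hinj
  have hfinG : Module.Finite R (MultCrv.G2 R n M i) :=
    Module.Finite.of_surjective
      ((Submodule.comap (MultCrv.filt2 R n M i).subtype (MultCrv.filt2 R n M (i - 1))).mkQ.restrictScalars R)
      (Submodule.mkQ_surjective _)
  let ψ : ↥(MultCrv.filt2 R n M i) →ₗ[MultCrv.Rn R n] M :=
    ((MultCrv.z R n ^ (i - 1)) • (LinearMap.id : M →ₗ[MultCrv.Rn R n] M)) ∘ₗ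
      (MultCrv.filt2 R n M i).subtype
  have hψ : ∀ u : ↥(MultCrv.filt2 R n M i), ψ u = MultCrv.z R n ^ (i - 1) • (u : M) := fun u => rfl
  have hker : LinearMap.ker ψ =
      Submodule.comap (MultCrv.filt2 R n M i).subtype (MultCrv.filt2 R n M (i - 1)) := by
    ext u
    rw [LinearMap.mem_ker, hψ, Submodule.mem_comap]
    rfl
  let f : MultCrv.G2 R n M i →ₗ[MultCrv.Rn R n] M :=
    Submodule.liftQ _ ψ hker.ge
  have hfinj : Function.Injective f := by
    rw [← LinearMap.ker_eq_bot]
    exact Submodule.ker_liftQ_eq_bot _ _ _ hker.le
  have htf : Module.IsTorsionFree R (MultCrv.G2 R n M i) :=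
    Function.Injective.moduleIsTorsionFree f hfinj (fun r m => (f.restrictScalars R).map_smul r m)
  exact Module.free_of_finite_type_torsion_free'

end Groth.Agent.S17934
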