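import Groth.Statements.S17935
import Mathlib
import Groth.Agent.Lib.Helper26.MCDual

set_option autoImplicit false
universe u
open MultCrv

namespace Groth.Agent.S17935

/-- Let R be a discrete valuation ring, n ≥ 1, A = R[X]/(X^n), and M a finitely generated A-module. Then
M is reflexive over A (the evaluation map into the double A-dual is bijective) if and only if M is
torsion-free as an R-module. (Statement at a closed point of the sheaf statement on a primitive
multiple curve of multiplicity n, whose local rings are of the form R[X]/(X^n) with R the local ring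
of the reduced smooth curve, torsion-freeness of a coherent sheaf there meaning no nonzero subsheaf
with finite support; stated for every discrete valuation ring R.) -/
theorem result (R : Type u) [CommRing R] [IsDomain R] [IsDiscreteValuationRing R] (n : ℕ) (hn : 1 ≤ n) (M : Type u) [AddCommGroup M] [Module (MultCrv.Rn R n) M] [Module R M] [IsScalarTower R (MultCrv.Rn R n) M] [Module.Finite (MultCrv.Rn R n) M] : Module.IsReflexive (MultCrv.Rn R n) M ↔ Module.IsTorsionFree R M := by
  have hfinR : Module.Finite R (MultCrv.Rn R n) := (Polynomial.monic_X_pow n).finite_adjoinRoot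
  have hfreeA : Module.Free R (MultCrv.Rn R n) := (Polynomial.monic_X_pow n).free_adjoinRoot
  have hfinM : Module.Finite R M := Module.Finite.trans (MultCrv.Rn R n) M
  constructor
  · intro hrefl
    have hinj : Function.Injective (Module.Dual.eval (MultCrv.Rn R n) M) :=
      (Module.IsReflexive.bijective_dual_eval' (R := MultCrv.Rn R n) (M := M)).1
    let F : M → (Module.Dual (MultCrv.Rn R n) M → MultCrv.Rn R n) := fun m φ => φ m
    have hF : Function.Injective F := by
      intro m m' h
      apply hinj
      apply LinearMap.ext
      intro φ
      exact congrFun h φ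
    refine Function.Injective.moduleIsTorsionFree F hF ?_
    intro r m
    funext φ
    change φ (r • m) = r • φ m
    exact LinearMap.map_smul_of_tower φ r m
  · intro htf
    have hfree : Module.Free R M := Module.free_of_finite_type_torsion_free'
    have hreflR : Module.IsReflexive R M := inferInstance
    -- properties of phi
    have hphi_eq : ∀ (φ : Module.Dual (MultCrv.Rn R n) M),
        Groth.Agent.Helper26.MCDual.phi ((Groth.Agent.Helper26.MCDual.tau R n hn) ∘ₗ (φ.restrictScalars R)) = φ := by
      intro φ
      apply Groth.Agent.Helper26.MCDual.theta_inj hn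
      intro m
      rw [Groth.Agent.Helper26.MCDual.tau_phi]
      rfl
    have hphi_add : ∀ ψ ψ' : M →ₗ[R] R, Groth.Agent.Helper26.MCDual.phi (n := n) (ψ + ψ') = Groth.Agent.Helper26.MCDual.phi ψ + Groth.Agent.Helper26.MCDual.phi ψ' := by
      intro ψ ψ'
      apply Groth.Agent.Helper26.MCDual.theta_inj hn
      intro m
      rw [Groth.Agent.Helper26.MCDual.tau_phi, LinearMap.add_apply, LinearMap.add_apply, map_add, Groth.Agent.Helper26.MCDual.tau_phi,
        Groth.Agent.Helper26.MCDual.tau_phi]
    have hphi_smul : ∀ (r : R) (ψ : M →ₗ[R] R),
        Groth.Agent.Helper26.MCDual.phi (n := n) (r • ψ) = (algebraMap R (MultCrv.Rn R n) r) • Groth.Agent.Helper26.MCDual.phi ψ := by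
      intro r ψ
      apply Groth.Agent.Helper26.MCDual.theta_inj hn
      intro m
      rw [Groth.Agent.Helper26.MCDual.tau_phi, LinearMap.smul_apply, LinearMap.smul_apply, smul_eq_mul (a := algebraMap R (MultCrv.Rn R n) r),
        ← Algebra.smul_def, map_smul, Groth.Agent.Helper26.MCDual.tau_phi]
    have htau_alg : ∀ (r : R) (a : MultCrv.Rn R n),
        Groth.Agent.Helper26.MCDual.tau R n hn (algebraMap R (MultCrv.Rn R n) r * a) = r * Groth.Agent.Helper26.MCDual.tau R n hn a := by
      intro r a
      rw [← Algebra.smul_def, map_smul, smul_eq_mul]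
    constructor
    constructor
    · rw [injective_iff_map_eq_zero]
      intro m hm
      have h0 : ∀ φ : Module.Dual (MultCrv.Rn R n) M, φ m = 0 := by
        intro φ
        have := LinearMap.congr_fun hm φ
        simpa using this
      rw [← Module.forall_dual_apply_eq_zero_iff R m]
      intro ψ
      rw [← Groth.Agent.Helper26.MCDual.tau_phi hn ψ m, h0, map_zero]
    · intro Φ
      let Ψ : Module.Dual R (Module.Dual R M) :=
        { toFun := fun ψ => Groth.Agent.Helper26.MCDual.tau R n hn (Φ (Groth.Agent.Helper26.MCDual.phi ψ))
          map_add' := by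
            intro ψ ψ'
            rw [hphi_add, map_add, map_add]
          map_smul' := by
            intro r ψ
            rw [hphi_smul, map_smul, smul_eq_mul, htau_alg, RingHom.id_apply, smul_eq_mul] }
      obtain ⟨m, hm⟩ := (Module.IsReflexive.bijective_dual_eval' (R := R) (M := M)).2 Ψ
      have hm' : ∀ ψ : Module.Dual R M, ψ m = Groth.Agent.Helper26.MCDual.tau R n hn (Φ (Groth.Agent.Helper26.MCDual.phi ψ)) := by
        intro ψ
        have := LinearMap.congr_fun hm ψ
        rw [Module.Dual.eval_apply] at this
        exact this
      refine ⟨m, ?_⟩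
      apply LinearMap.ext
      intro φ
      rw [Module.Dual.eval_apply, ← sub_eq_zero]
      apply Groth.Agent.Helper26.MCDual.eq_zero_of_tau R n hn
      intro j
      set φj : Module.Dual (MultCrv.Rn R n) M := (MultCrv.z R n ^ j) • φ with hφj
      have e1 : MultCrv.z R n ^ j * φ m = φj m := by
        rw [hφj, LinearMap.smul_apply, smul_eq_mul]
      have e2 : MultCrv.z R n ^ j * Φ φ = Φ φj := by
        rw [hφj, map_smul, smul_eq_mul]
      rw [mul_sub, e1, e2, map_sub, sub_eq_zero]
      have := hm' ((Groth.Agent.Helper26.MCDual.tau R n hn) ∘ₗ (φj.restrictScalars R))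
      rw [hphi_eq] at this
      rw [← this]
      rfl

end Groth.Agent.S17935
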