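import Groth.Statements.S17937
import Mathlib
import Groth.Agent.Lib.Helper26.MCExt3

set_option autoImplicit false
universe u
open MultCrv

namespace Groth.Agent.S17937

open CategoryTheory in
/-- Let R be a discrete valuation ring, n ≥ 1, A = R[X]/(X^n), and M a finitely generated A-module with
Ext^1_A(M, A) = 0. Then M is torsion-free as an R-module. (Statement at a closed point of the sheaf
statement on a primitive multiple curve of multiplicity n, whose local rings are of the form
R[X]/(X^n) with R the local ring of the reduced smooth curve; stated for every discrete valuation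
ring R.) -/
theorem result (R : Type u) [CommRing R] [IsDomain R] [IsDiscreteValuationRing R] (n : ℕ) (hn : 1 ≤ n) (M : Type u) [AddCommGroup M] [Module (MultCrv.Rn R n) M] [Module R M] [IsScalarTower R (MultCrv.Rn R n) M] [Module.Finite (MultCrv.Rn R n) M] (h : Subsingleton (Abelian.Ext (ModuleCat.of (MultCrv.Rn R n) M) (ModuleCat.of (MultCrv.Rn R n) (MultCrv.Rn R n)) 1)) : Module.IsTorsionFree R M := by
  rw [Module.isTorsionFree_iff_smul_eq_zero]
  let T : Submodule (MultCrv.Rn R n) M :=
    { carrier := {m | ∃ r : R, r ≠ 0 ∧ r • m = 0}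
      add_mem' := by
        rintro a b ⟨r, hr, hra⟩ ⟨s, hs, hsb⟩
        refine ⟨r * s, mul_ne_zero hr hs, ?_⟩
        rw [smul_add, mul_smul r s b, hsb, smul_zero, mul_comm, mul_smul s r a, hra, smul_zero, add_zero]
      zero_mem' := ⟨1, one_ne_zero, smul_zero _⟩
      smul_mem' := by
        rintro a m ⟨r, hr, hrm⟩
        exact ⟨r, hr, by rw [smul_comm, hrm, smul_zero]⟩ }
  have hTmem : ∀ m, m ∈ T ↔ ∃ r : R, r ≠ 0 ∧ r • m = 0 := fun m => Iff.rfl
  have hQtf : Module.IsTorsionFree R (M ⧸ T) := by
    rw [Module.isTorsionFree_iff_smul_eq_zero]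
    intro r q hrq
    obtain ⟨m, rfl⟩ := Submodule.Quotient.mk_surjective T q
    by_cases hr : r = 0
    · exact Or.inl hr
    right
    rw [← Submodule.Quotient.mk_smul, Submodule.Quotient.mk_eq_zero, hTmem] at hrq
    obtain ⟨s, hs, hsm⟩ := hrq
    rw [Submodule.Quotient.mk_eq_zero, hTmem]
    exact ⟨s * r, mul_ne_zero hs hr, by rw [mul_smul, hsm]⟩
  let S : CategoryTheory.ShortComplex (ModuleCat.{u} (MultCrv.Rn R n)) :=
    CategoryTheory.ShortComplex.mk (ModuleCat.ofHom T.subtype) (ModuleCat.ofHom T.mkQ) (by ext x; simp)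
  have hS : S.ShortExact := by
    apply ModuleCat.shortComplex_shortExact S
    · intro x
      constructor
      · intro hx
        have : x ∈ T := (Submodule.Quotient.mk_eq_zero T).1 hx
        exact ⟨⟨x, this⟩, rfl⟩
      · rintro ⟨y, rfl⟩
        exact (Submodule.Quotient.mk_eq_zero T).2 y.2
    · exact Subtype.val_injective
    · exact Submodule.Quotient.mk_surjective T
  have hExtT : Subsingleton (CategoryTheory.Abelian.Ext (ModuleCat.of (MultCrv.Rn R n) ↥T)
      (ModuleCat.of (MultCrv.Rn R n) (MultCrv.Rn R n)) 1) := by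
    apply subsingleton_of_forall_eq 0
    intro x₁
    have hsub2 := Groth.Agent.Helper26.MCExt.ext_subsingleton R n hn 2 (by norm_num) (M ⧸ T)
    have hzero : hS.extClass.comp x₁ (by norm_num : 1 + 1 = 2) = 0 := Subsingleton.elim _ _
    obtain ⟨x₂, hx₂⟩ := CategoryTheory.Abelian.Ext.contravariant_sequence_exact₁ hS _ x₁ (n₀ := 1) (by norm_num) hzero
    have hx₂0 : x₂ = 0 := Subsingleton.elim _ _
    rw [← hx₂, hx₂0, CategoryTheory.Abelian.Ext.comp_zero]
  have hTsub : Subsingleton ↥T := by
    apply Groth.Agent.Helper26.MCExt3.eq_bot_of_torsion_of_ext_one R n hn ↥T _ hExtT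
    intro t
    obtain ⟨r, hr, hrt⟩ := t.2
    exact ⟨r, hr, Subtype.ext hrt⟩
  intro r m hrm
  by_contra hcon
  push Not at hcon
  have hmT : m ∈ T := ⟨r, hcon.1, hrm⟩
  have : (⟨m, hmT⟩ : ↥T) = 0 := Subsingleton.elim _ _
  exact hcon.2 (congrArg Subtype.val this)

end Groth.Agent.S17937
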