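import Groth.Statements.S17939
import Mathlib
import Groth.Agent.Lib.Helper26.MCExt2

set_option autoImplicit false
universe u
open MultCrv

namespace Groth.Agent.S17939

open CategoryTheory in
/-- Let R be a discrete valuation ring, n ≥ 1, A = R[X]/(X^n) with z the class of X, and M, N finitely
generated A-modules. Then for every i ≥ 2, z^(n-1) kills Ext^i_A(M, N). (Statement at a closed point
of the sheaf statement on a primitive multiple curve of multiplicity n, whose local rings are of the
form R[X]/(X^n): the higher local Ext sheaves of coherent sheaves are killed by the (n-1)-st power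
of the ideal of the reduced curve; stated for every discrete valuation ring R.) -/
theorem result (R : Type u) [CommRing R] [IsDomain R] [IsDiscreteValuationRing R] (n : ℕ) (hn : 1 ≤ n) (M N : Type u) [AddCommGroup M] [Module (MultCrv.Rn R n) M] [Module.Finite (MultCrv.Rn R n) M] [AddCommGroup N] [Module (MultCrv.Rn R n) N] [Module.Finite (MultCrv.Rn R n) N] (i : ℕ) (hi : 2 ≤ i) (x : Abelian.Ext (ModuleCat.of (MultCrv.Rn R n) M) (ModuleCat.of (MultCrv.Rn R n) N) i) : (MultCrv.z R n ^ (n - 1)) • x = 0 := by
  obtain ⟨j, rfl⟩ : ∃ j, i = j + 1 + 1 := ⟨i - 2, by omega⟩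
  obtain ⟨k, π, hπ⟩ := Module.Finite.exists_fin' (MultCrv.Rn R n) M
  have hS := LinearMap.shortExact_shortComplexKer hπ
  have hfreeA : Module.Free R (MultCrv.Rn R n) := (Polynomial.monic_X_pow n).free_adjoinRoot
  have htfK : Module.IsTorsionFree R ↥(LinearMap.ker π) :=
    Function.Injective.moduleIsTorsionFree (LinearMap.ker π).subtype Subtype.val_injective
      (fun r m => rfl)
  have h0 : (CategoryTheory.Abelian.Ext.mk₀ π.shortComplexKer.g).comp x (zero_add (j + 1 + 1)) = 0 :=
    CategoryTheory.Abelian.Ext.eq_zero_of_projective _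
  obtain ⟨x₁, hx₁⟩ := CategoryTheory.Abelian.Ext.contravariant_sequence_exact₃ hS _ x h0 (n₀ := j + 1) (by omega)
  have hx₁0 := Groth.Agent.Helper26.MCExt2.zpow_smul_ext_eq_zero R n hn ↥(LinearMap.ker π)
    (ModuleCat.of (MultCrv.Rn R n) N) j x₁
  rw [← hx₁, ← CategoryTheory.Abelian.Ext.comp_smul, hx₁0, CategoryTheory.Abelian.Ext.comp_zero]

end Groth.Agent.S17939
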