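import Groth.Statements.S17942
import Mathlib
import Groth.Agent.Lib.Helper26.MCExt

set_option autoImplicit false
universe u
open MultCrv

namespace Groth.Agent.S17942

open CategoryTheory in
/-- Let R be a discrete valuation ring, n ≥ 1, A = R[X]/(X^n), and M a finitely generated A-module. Then
Ext^i_A(M, A) = 0 for every i ≥ 2. (Statement at a closed point of the sheaf statement on a
primitive multiple curve of multiplicity n, whose local rings are of the form R[X]/(X^n) with R the
local ring of the reduced smooth curve; stated for every discrete valuation ring R.) -/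
theorem result (R : Type u) [CommRing R] [IsDomain R] [IsDiscreteValuationRing R] (n : ℕ) (hn : 1 ≤ n) (M : Type u) [AddCommGroup M] [Module (MultCrv.Rn R n) M] [Module.Finite (MultCrv.Rn R n) M] (i : ℕ) (hi : 2 ≤ i) : Subsingleton (Abelian.Ext (ModuleCat.of (MultCrv.Rn R n) M) (ModuleCat.of (MultCrv.Rn R n) (MultCrv.Rn R n)) i) := by
  obtain ⟨j, rfl⟩ : ∃ j, i = j + 1 := ⟨i - 1, by omega⟩
  have hj : 1 ≤ j := by omega
  obtain ⟨k, π, hπ⟩ := Module.Finite.exists_fin' (MultCrv.Rn R n) M
  have hS := LinearMap.shortExact_shortComplexKer hπ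
  have hfreeA : Module.Free R (MultCrv.Rn R n) := (Polynomial.monic_X_pow n).free_adjoinRoot
  have htfK : Module.IsTorsionFree R ↥(LinearMap.ker π) :=
    Function.Injective.moduleIsTorsionFree (LinearMap.ker π).subtype Subtype.val_injective
      (fun r m => rfl)
  apply subsingleton_of_forall_eq 0
  intro x₃
  have h0 : (CategoryTheory.Abelian.Ext.mk₀ π.shortComplexKer.g).comp x₃ (zero_add (j + 1)) = 0 :=
    CategoryTheory.Abelian.Ext.eq_zero_of_projective _
  obtain ⟨x₁, hx₁⟩ := CategoryTheory.Abelian.Ext.contravariant_sequence_exact₃ hS _ x₃ h0 (n₀ := j) (by omega)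
  have hsub := Groth.Agent.Helper26.MCExt.ext_subsingleton R n hn j hj ↥(LinearMap.ker π)
  have hx₁0 : x₁ = 0 := Subsingleton.elim _ _
  rw [← hx₁, hx₁0, CategoryTheory.Abelian.Ext.comp_zero]

end Groth.Agent.S17942
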