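import Groth.Statements.S17943
import Mathlib
import Groth.Agent.Lib.Helper26.RankAux

set_option autoImplicit false
universe u
open MultCrv

namespace Groth.Agent.S17943

/-- Let R be a discrete valuation ring, n ≥ 1, A = R[X]/(X^n) with z the class of X, and M a finitely
generated A-module. For 0 ≤ i < n the R-modules G^(i+1)(M) = M^(i+1)/M^(i) (M^(j) the elements
killed by z^j) and G_i(M) = z^i M/z^(i+1) M have the same rank over R. (Statement at a closed point
of the sheaf statement on a primitive multiple curve of multiplicity n with local rings R[X]/(X^n),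
where the rank of a coherent sheaf on the reduced smooth curve is its generic rank, here the rank
over R of the stalk; the equality of degrees that the published statement gives together with this
rank equality is a statement on the global curve and is not part of this row; stated for every
discrete valuation ring R.) -/
theorem result (R : Type u) [CommRing R] [IsDomain R] [IsDiscreteValuationRing R] (n : ℕ) (hn : 1 ≤ n) (M : Type u) [AddCommGroup M] [Module (MultCrv.Rn R n) M] [Module R M] [IsScalarTower R (MultCrv.Rn R n) M] [Module.Finite (MultCrv.Rn R n) M] (i : ℕ) (hi : i < n) : Module.finrank R (MultCrv.G2 R n M (i + 1)) = Module.finrank R (MultCrv.G1 R n M i) := by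
  have hfinR : Module.Finite R (MultCrv.Rn R n) :=
    (Polynomial.monic_X_pow n).finite_adjoinRoot
  have hfinM : Module.Finite R M := Module.Finite.trans (MultCrv.Rn R n) M
  have hker : ∀ j, MultCrv.filt2 R n M j =
      LinearMap.ker ((MultCrv.z R n ^ j) • (LinearMap.id : M →ₗ[MultCrv.Rn R n] M)) := by
    intro j
    ext u
    rw [LinearMap.mem_ker]
    rfl
  have hc : ∀ j, Module.finrank R ↥(MultCrv.filt2 R n M j) + Module.finrank R ↥(MultCrv.filt R n M j)
      = Module.finrank R M := by
    intro j
    rw [hker j]
    exact Groth.Agent.Helper26.RankAux.ker_add_range _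
  have h2le : MultCrv.filt2 R n M (i + 1 - 1) ≤ MultCrv.filt2 R n M (i + 1) := by
    intro u hu
    have e : i + 1 - 1 = i := by omega
    rw [e] at hu
    change MultCrv.z R n ^ i • u = 0 at hu
    change MultCrv.z R n ^ (i + 1) • u = 0
    rw [pow_succ', mul_smul, hu, smul_zero]
  have h1le : MultCrv.filt R n M (i + 1) ≤ MultCrv.filt R n M i := by
    rintro u ⟨v, rfl⟩
    refine ⟨MultCrv.z R n • v, ?_⟩
    change MultCrv.z R n ^ i • (MultCrv.z R n • v) = MultCrv.z R n ^ (i + 1) • v
    rw [smul_smul, ← pow_succ]
  have ha := Groth.Agent.Helper26.RankAux.quot_add (R := R) _ _ h2le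
  have hb := Groth.Agent.Helper26.RankAux.quot_add (R := R) _ _ h1le
  have e : i + 1 - 1 = i := by omega
  rw [e] at ha
  have hci := hc i
  have hci1 := hc (i + 1)
  change Module.finrank R (MultCrv.G2 R n M (i + 1)) + _ = _ at ha
  change Module.finrank R (MultCrv.G1 R n M i) + _ = _ at hb
  omega

end Groth.Agent.S17943
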