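import Groth.Statements.S17944
import Mathlib
import Groth.Agent.Lib.Helper26.MCGam

set_option autoImplicit false
universe u
open MultCrv

namespace Groth.Agent.S17944

/-- Let R be a discrete valuation ring, n ≥ 1, A = R[X]/(X^n) with z the class of X, and M a finitely
generated A-module. Then the graded pieces G_i(M) = z^i M/z^(i+1) M are free R-modules for all 0 ≤ i
< n if and only if the modules Γ^(i)(M) are free R-modules for all 0 ≤ i < n, where Γ^(i)(M) is the
cokernel of the map M^(i+2)/M^(i+1) → M^(i+1)/M^(i) induced by multiplication by z (M^(j) the
elements killed by z^j). (Statement at a closed point P of the sheaf statement on a primitive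
multiple curve of multiplicity n, whose local rings are R[X]/(X^n) with R the local ring of the
reduced smooth curve: the published conditions are local freeness on the reduced curve of the
corresponding sheaves, read here at P; the published statement also asserts that these conditions
are equivalent to the stalk being quasi-free, i.e. isomorphic to a direct sum of modules A/(z^j),
which is not part of this row; stated for every discrete valuation ring R.) -/
theorem result (R : Type u) [CommRing R] [IsDomain R] [IsDiscreteValuationRing R] (n : ℕ) (hn : 1 ≤ n) (M : Type u) [AddCommGroup M] [Module (MultCrv.Rn R n) M] [Module R M] [IsScalarTower R (MultCrv.Rn R n) M] [Module.Finite (MultCrv.Rn R n) M] : (∀ i : ℕ, i < n → Module.Free R (MultCrv.G1 R n M i)) ↔ (∀ i : ℕ, i < n → Module.Free R (MultCrv.Gam2 R n M i)) := by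
  open Groth.Agent.Helper26.MCGam in
  constructor
  · intro h i hi
    have hfin : Module.Finite R (MultCrv.Gam2 R n M i) := finite_Gam2 R n M i
    have htf : Module.IsTorsionFree R (MultCrv.Gam2 R n M i) := by
      rw [gam2_tf_iff]
      apply gam2_of_g1
      rw [← g1_tf_iff]
      have := h i hi
      infer_instance
    exact Module.free_of_finite_type_torsion_free'
  · intro h i hi
    have hfin : Module.Finite R (MultCrv.G1 R n M i) := finite_G1 R n M i
    have H2 : ∀ i : ℕ, i < n → ∀ (r : R) (u w : M), r ≠ 0 → MultCrv.z R n ^ (i + 1) • u = 0 →
        MultCrv.z R n ^ (i + 2) • w = 0 → MultCrv.z R n ^ i • (r • u - MultCrv.z R n • w) = 0 →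
        ∃ w' : M, MultCrv.z R n ^ (i + 2) • w' = 0 ∧
          MultCrv.z R n ^ i • (u - MultCrv.z R n • w') = 0 := by
      intro j hj
      rw [← gam2_tf_iff]
      have := h j hj
      infer_instance
    have QA := stepA R n M H2
    have TF := stepB R n M (QA n le_rfl)
    have PC := stepC R n M QA TF
    have htf : Module.IsTorsionFree R (MultCrv.G1 R n M i) := by
      rw [g1_tf_iff]
      intro r y m hr hy
      exact PC (n - (i + 1)) (i + 1) (by omega) r _ y hr hy
    exact Module.free_of_finite_type_torsion_free'

end Groth.Agent.S17944
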