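import Groth.Statements.S2066
import Groth.Agent.Lib.Helper11.MPC6
open CategoryTheory Groth.Agent.Helper11.MPC Groth.Agent.Helper11.DC Groth.Agent.Helper11.GenRes

set_option autoImplicit false
universe u
open CategoryTheory
attribute [local instance] HasDerivedCategory.standard
open CAlg

namespace Groth.Agent.S2066

/-- An object `K` of `D(A)` is `m`-pseudo-coherent for every integer `m` if and only if some bounded
above complex of finite free modules represents it in `D(A)` ((1) iff (2)), and also if and only if
some bounded above complex of finite projective modules represents it ((2) iff (3)). -/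
theorem result {A : Type u} [CommRing A] (K : Dual.D A) :
    ((∀ m : ℤ, DRing.IsPseudoCoherent A m K) ↔ DRing.IsPseudoCoherent' A K) ∧
      ((∀ m : ℤ, DRing.IsPseudoCoherent A m K) ↔ ∃ (E : DRing.Cx A) (b : ℤ), DRing.VanishesAbove E b ∧
        DRing.TermwiseFiniteProjective E ∧ Nonempty (DRing.toD E ≅ K)) := by
  have key : (∀ m : ℤ, DRing.IsPseudoCoherent A m K) ↔ DRing.IsPseudoCoherent' A K :=
    pc'_iff_forall_mpc.symm
  refine ⟨key, ⟨fun h => ?_, fun h => ?_⟩⟩
  · obtain ⟨E, b, hb, hff, e⟩ := key.mp h
    refine ⟨E, b, hb, fun i => ⟨(hff i).1, ?_⟩, e⟩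
    haveI := (hff i).2
    infer_instance
  · obtain ⟨E, b, hb, hfp, ⟨e⟩⟩ := h
    intro m
    refine mpc_of_iso e (mpc_of_terms E b hb (fun i => ?_))
    haveI := (hfp i).1
    haveI := (hfp i).2
    have h0 : DRing.IsPseudoCoherent' A
        ((DerivedCategory.singleFunctor (ModuleCat.{u} A) 0).obj (E.X i)) :=
      pc_of_finite_projective (E.X i)
    have h1 := mpc_of_pc' h0 (m - i)
    exact mpc_single_of_module (E.X i) h1

end Groth.Agent.S2066
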