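import Groth.Statements.S1795
import Groth.Agent.Lib.Helper8.ShI1
import Groth.Agent.Lib.Helper8.ShG4
import Groth.Agent.Lib.Helper11.Shr16
import Groth.Agent.Lib.Helper3.KP2
import Groth.Agent.S1801
import Groth.Agent.S1807
import Groth.Agent.S1784
import Groth.Agent.S1799
import Groth.Agent.S2066
import Groth.Agent.S6942

set_option autoImplicit false
universe u
open CategoryTheory
open scoped TensorProduct
attribute [local instance] HasDerivedCategory.standard
open Dual2

namespace Groth.Agent.S1795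

/-- Let R → A be a ring map between Noetherian rings which is flat and of finite type, with φ^! formed
from a presentation ψ : R[x_1, …, x_n] → A as RHom_P(A, (−) ⊗^L_R P)[n] (derived base change under
its existence hypothesis, RHom_P(A, −) a right adjoint of restriction). Then ω_{A/R} = φ^!(R) is a
relative dualizing complex: it is R-perfect and RHom_{A ⊗_R A}(A, ω_{A/R} ⊗^L_A (A ⊗_R A)) ≅ A (with
the same conventions for these functors). -/
theorem result (R A : Type u) [CommRing R] [CommRing A] [IsNoetherianRing R] [IsNoetherianRing A] [Algebra R A] [Module.Flat R A] [Algebra.FinitePresentation R A] (n : ℕ) (ψ : MvPolynomial (Fin n) R →ₐ[R] A) (hψ : Function.Surjective ψ) [DRing.HasLBaseChange (algebraMap R (MvPolynomial (Fin n) R))] (Rψ : Dual.D (MvPolynomial (Fin n) R) ⥤ Dual.D A) (adj : DRing.restrictD ψ.toRingHom ⊣ Rψ) [DRing.HasLBaseChange (Algebra.TensorProduct.includeLeftRingHom : A →+* TensorProduct R A A)] (Rμ : Dual.D (TensorProduct R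 A A) ⥤ Dual.D A) (adjμ : DRing.restrictD (Algebra.TensorProduct.lmul' R (S := A)).toRingHom ⊣ Rμ) : Dual2.IsRelDualizing R A Rμ (Dual2.shriekVia n Rψ (Dual.inD R R)) := by
  classical
  obtain ⟨hbdd, hfin, htor, -, -⟩ := Groth.Agent.S1801.result R A n ψ hψ Rψ adj
  refine ⟨⟨?_, htor⟩, ?_⟩
  · obtain ⟨a, b, hab⟩ := hbdd
    exact (Groth.Agent.S2066.result _).1.mp (fun m =>
      (Groth.Agent.S6942.result A m _ A).1.mpr
        ⟨⟨b, fun i hi => hab i (Or.inr hi)⟩, fun i _ => hfin i⟩)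
  · -- notation
    haveI hLR : DRing.HasLBaseChange
        (Algebra.TensorProduct.includeRight : A →ₐ[R] A ⊗[R] A).toRingHom :=
      Groth.Agent.Helper3.KP.hasLeftDerivedFunctor _
    haveI : DRing.HasLBaseChange (algebraMap A (MvPolynomial (Fin n) A)) :=
      Groth.Agent.Helper3.KP.hasLeftDerivedFunctor _
    haveI : DRing.HasLBaseChange (algebraMap R A) :=
      Groth.Agent.Helper3.KP.hasLeftDerivedFunctor _
    have hψ' : Function.Surjective (Groth.Agent.Helper11.Shr.psiBC (R' := A) ψ) :=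
      Groth.Agent.Helper11.Shr.psiBC_surjective ψ hψ
    haveI : IsNoetherianRing (A ⊗[R] A) :=
      isNoetherianRing_of_surjective _ _ (Groth.Agent.Helper11.Shr.psiBC (R' := A) ψ).toRingHom hψ'
    obtain ⟨Rψ', ⟨adj'⟩⟩ := Groth.Agent.Helper11.Shr.exists_rightAdj
      (Groth.Agent.Helper11.Shr.psiBC (R' := A) ψ).toRingHom
    -- step 1: swap
    obtain ⟨s1⟩ := Groth.Agent.Helper8.ShI.nonempty_Rmu_incL_iso_incR R A Rμ adjμ
      (Dual2.shriekVia n Rψ (Dual.inD R R))
    -- step 2: base change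
    obtain ⟨s2⟩ := Groth.Agent.S1807.result R A A n ψ hψ Rψ adj n
      (Groth.Agent.Helper11.Shr.psiBC (R' := A) ψ) hψ' Rψ' adj' (Dual.inD R R)
    obtain ⟨s3⟩ := Groth.Agent.Helper8.ShG.nonempty_LBaseChange_unit_iso R A
    let Y : Dual.D (A ⊗[R] A) := Dual2.shriekVia n Rψ' (Dual.inD A A)
    let s23 : (DRing.LBaseChange
        (Algebra.TensorProduct.includeRight : A →ₐ[R] A ⊗[R] A).toRingHom).obj
          (Dual2.shriekVia n Rψ (Dual.inD R R)) ≅ Y :=
      s2 ≪≫ (CategoryTheory.shiftFunctor _ (n : ℤ)).mapIso (Rψ'.mapIso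
        ((DRing.LBaseChange (algebraMap A (MvPolynomial (Fin n) A))).mapIso s3))
    -- step 3: the finite map `μ`
    letI algBA : Algebra (A ⊗[R] A) A := (Algebra.TensorProduct.lmul' R (S := A)).toRingHom.toAlgebra
    have hμsurj : Function.Surjective (algebraMap (A ⊗[R] A) A) := fun a =>
      ⟨a ⊗ₜ[R] (1 : A), by
        show Algebra.TensorProduct.lmul' R (a ⊗ₜ[R] (1 : A)) = a
        rw [Algebra.TensorProduct.lmul'_apply_tmul, mul_one]⟩
    haveI : Module.Finite (A ⊗[R] A) A :=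
      Module.Finite.of_surjective (Algebra.linearMap (A ⊗[R] A) A) hμsurj
    haveI tw : IsScalarTower A (A ⊗[R] A) A :=
      IsScalarTower.of_algebraMap_eq (fun a => by
        show a = Algebra.TensorProduct.lmul' R (algebraMap A (A ⊗[R] A) a)
        rw [Algebra.TensorProduct.algebraMap_apply, Algebra.algebraMap_self_apply,
          Algebra.TensorProduct.lmul'_apply_tmul, mul_one])
    haveI : DRing.HasLBaseChange (algebraMap (A ⊗[R] A) (MvPolynomial (Fin 0) (A ⊗[R] A))) :=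
      Groth.Agent.Helper3.KP.hasLeftDerivedFunctor _
    haveI : DRing.HasLBaseChange (algebraMap A (MvPolynomial (Fin 0) A)) :=
      Groth.Agent.Helper3.KP.hasLeftDerivedFunctor _
    let χ : MvPolynomial (Fin 0) (A ⊗[R] A) →ₐ[A ⊗[R] A] A :=
      (Algebra.ofId (A ⊗[R] A) A).comp (Groth.Agent.Helper11.Shr.rho0 (A ⊗[R] A))
    have hχ : Function.Surjective χ := fun a => by
      obtain ⟨b, hb⟩ := hμsurj a
      obtain ⟨p, hp⟩ := Groth.Agent.Helper11.Shr.rho0_surjective (A ⊗[R] A) b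
      exact ⟨p, by
        show Algebra.ofId (A ⊗[R] A) A (Groth.Agent.Helper11.Shr.rho0 (A ⊗[R] A) p) = a
        rw [hp]
        exact hb⟩
    obtain ⟨Rχ, ⟨adjχ⟩⟩ := Groth.Agent.Helper11.Shr.exists_rightAdj χ.toRingHom
    obtain ⟨s4⟩ := Groth.Agent.S1784.result (A ⊗[R] A) A 0 χ hχ Rχ adjχ Rμ adjμ Y
    -- step 4: composition
    obtain ⟨Rθ, ⟨adjθ⟩⟩ := Groth.Agent.Helper11.Shr.exists_rightAdj
      (Groth.Agent.Helper11.Shr.rho0 A).toRingHom
    obtain ⟨s5⟩ := Groth.Agent.S1799.result A (A ⊗[R] A) A n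
      (Groth.Agent.Helper11.Shr.psiBC (R' := A) ψ) hψ' Rψ' adj' 0 χ hχ Rχ adjχ 0
      (Groth.Agent.Helper11.Shr.rho0 A) (Groth.Agent.Helper11.Shr.rho0_surjective A) Rθ adjθ
      (Dual.inD A A) 0 (fun i hi => ModuleCat.subsingleton_of_isZero
        (DerivedCategory.isZero_of_isGE (Dual.inD A A) 0 i hi))
    -- step 5: the identity
    obtain ⟨s6⟩ := Groth.Agent.Helper11.Shr.nonempty_shriekVia_iso 0 Rθ (Dual.inD A A)
    obtain ⟨s7⟩ := Groth.Agent.Helper11.Shr.nonempty_sh_zero A Rθ adjθ (Dual.inD A A)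
    exact ⟨s1 ≪≫ Rμ.mapIso s23 ≪≫ s4.symm ≪≫ s5.symm ≪≫ s6 ≪≫ s7⟩

end Groth.Agent.S1795
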