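import Groth.Statements.S17969
import Mathlib

set_option autoImplicit false
universe u
open scoped TensorProduct
open CAlg

namespace Groth.Agent.S17969

/-- Let A be an integrally closed domain with fraction field K and B a commutative A-algebra which is
finite and torsion-free as an A-module and generated as an A-algebra by a single element x. Let P be
the characteristic polynomial of multiplication by 1 ⊗ x on the finite free K-module K ⊗_A B. Then P
has coefficients in A, namely P is the image of a monic polynomial over A, and the kernel of the
A-algebra map A[T] → B sending T to x is generated by that polynomial, so that B is A[T]/(P). -/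
theorem result
    (A : Type u) [CommRing A] [IsDomain A] [IsIntegrallyClosed A]
    (B : Type u) [CommRing B] [Algebra A B] [Module.Finite A B] [NoZeroSMulDivisors A B]
    (x : B) (hx : Algebra.adjoin A {x} = ⊤) :
    ∃ P : Polynomial A, P.Monic ∧
      Polynomial.map (algebraMap A (FractionRing A)) P =
        (LinearMap.mulLeft (FractionRing A) ((1 : FractionRing A) ⊗ₜ[A] x)).charpoly ∧
      RingHom.ker (Polynomial.aeval x).toRingHom = Ideal.span {P} := by
  set K := FractionRing A with hK
  set L := K ⊗[A] B with hL
  set y : L := (1 : K) ⊗ₜ[A] x with hy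
  let ι : B →ₐ[A] L := Algebra.TensorProduct.includeRight
  have hιx : ι x = y := rfl
  -- injectivity of ι
  have hιinj : Function.Injective ι := by
    rw [injective_iff_map_eq_zero]
    intro b hb
    have hloc : IsLocalizedModule (nonZeroDivisors A) (TensorProduct.mk A K B 1) :=
      (isLocalizedModule_iff_isBaseChange (nonZeroDivisors A) K _).2 (TensorProduct.isBaseChange A B K)
    have : (TensorProduct.mk A K B 1) b = 0 := hb
    rw [IsLocalizedModule.eq_zero_iff (nonZeroDivisors A)] at this
    obtain ⟨c, hc⟩ := this
    have hc0 : (c : A) ≠ 0 := nonZeroDivisors.coe_ne_zero c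
    exact (smul_eq_zero.1 hc).resolve_left hc0
  -- y integral over K and generates
  have hyint : IsIntegral K y := Algebra.IsIntegral.isIntegral y
  have hxint : IsIntegral A x := Algebra.IsIntegral.isIntegral x
  have hgen : Algebra.adjoin K {y} = ⊤ := by
    rw [eq_top_iff]
    intro z hz
    clear hz
    induction z using TensorProduct.induction_on with
    | zero => exact Subalgebra.zero_mem _
    | add a b ha hb => exact Subalgebra.add_mem _ ha hb
    | tmul k b =>
      have hb : b ∈ Algebra.adjoin A {x} := by rw [hx]; exact Algebra.mem_top
      have h1 : (1 : K) ⊗ₜ[A] b ∈ Algebra.adjoin K {y} := by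
        induction hb using Algebra.adjoin_induction with
        | mem u hu =>
          rw [Set.mem_singleton_iff] at hu
          rw [hu]
          exact Algebra.subset_adjoin (Set.mem_singleton _)
        | algebraMap r =>
          have : (1 : K) ⊗ₜ[A] (algebraMap A B r) = algebraMap K L (algebraMap A K r) := by
            rw [← IsScalarTower.algebraMap_apply A K L r]
            exact ι.commutes r
          rw [this]
          exact Subalgebra.algebraMap_mem _ _
        | add u v _ _ hu hv =>
          rw [TensorProduct.tmul_add]
          exact Subalgebra.add_mem _ hu hv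
        | mul u v _ _ hu hv =>
          have : (1 : K) ⊗ₜ[A] (u * v) = ((1 : K) ⊗ₜ[A] u) * ((1 : K) ⊗ₜ[A] v) := by
            rw [Algebra.TensorProduct.tmul_mul_tmul, one_mul]
          rw [this]
          exact Subalgebra.mul_mem _ hu hv
      have : k ⊗ₜ[A] b = k • ((1 : K) ⊗ₜ[A] b) := by
        rw [TensorProduct.smul_tmul', smul_eq_mul, mul_one]
      rw [this]
      exact Subalgebra.smul_mem _ h1 k
  let pb : PowerBasis K L := PowerBasis.ofAdjoinEqTop hyint hgen
  have hpbgen : pb.gen = y := PowerBasis.ofAdjoinEqTop_gen hyint hgen
  have hchar : (LinearMap.mulLeft K y).charpoly = minpoly K y := by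
    have h1 := charpoly_leftMulMatrix pb
    rw [hpbgen] at h1
    rw [← h1, Algebra.leftMulMatrix_apply, LinearMap.charpoly_toMatrix]
    rfl
  -- a monic Q over A killing x
  set Q := minpoly A x with hQ
  have hQmonic : Q.Monic := minpoly.monic hxint
  have hQy : Polynomial.aeval y (Q.map (algebraMap A K)) = 0 := by
    rw [Polynomial.aeval_map_algebraMap, ← hιx, Polynomial.aeval_algHom_apply, minpoly.aeval, map_zero]
  have hdvd : minpoly K y ∣ Q.map (algebraMap A K) := minpoly.dvd K y hQy
  obtain ⟨P, hP⟩ := IsIntegrallyClosed.eq_map_mul_C_of_dvd K hQmonic hdvd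
  have hmon : (minpoly K y).Monic := minpoly.monic hyint
  rw [hmon.leadingCoeff, map_one, mul_one] at hP
  have hinjAK : Function.Injective (algebraMap A K) := IsFractionRing.injective A K
  have hPmonic : P.Monic := by
    have := hmon
    rw [← hP] at this
    exact Polynomial.monic_of_injective hinjAK this
  refine ⟨P, hPmonic, ?_, ?_⟩
  · rw [hP, hchar]
  · ext p
    rw [RingHom.mem_ker, Ideal.mem_span_singleton]
    change Polynomial.aeval x p = 0 ↔ P ∣ p
    rw [← Polynomial.map_dvd_map (algebraMap A K) hinjAK hPmonic, hP, minpoly.dvd_iff,
      Polynomial.aeval_map_algebraMap, ← hιx, Polynomial.aeval_algHom_apply]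
    rw [map_eq_zero_iff ι hιinj]

end Groth.Agent.S17969
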