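import Groth.Statements.S17974
import Mathlib
import Groth.Agent.Lib.Helper26.Unram

set_option autoImplicit false
universe u
open Unram

namespace Groth.Agent.S17974

/-- Let A be a commutative ring, B an unramified A-algebra (formally unramified and of finite type), C
an A-algebra, p a prime ideal of C, and u, v : B → C two A-algebra homomorphisms which agree after
composition with C → C/p. Then there is an element f of C not in p such that u and v agree after
composition with the localization map C → C[1/f]. -/
theorem result
    (A : Type u) [CommRing A] (B : Type u) [CommRing B] [Algebra A B]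
    [Algebra.FormallyUnramified A B] [Algebra.FiniteType A B]
    (C : Type u) [CommRing C] [Algebra A C] (p : Ideal C) [p.IsPrime]
    (u v : B →ₐ[A] C)
    (huv : (Ideal.Quotient.mk p).comp u.toRingHom = (Ideal.Quotient.mk p).comp v.toRingHom) :
    ∃ f : C, f ∉ p ∧
      (algebraMap C (Localization.Away f)).comp u.toRingHom =
        (algebraMap C (Localization.Away f)).comp v.toRingHom := by
  obtain ⟨ε, hε, hdiff, hmem⟩ := Groth.Agent.Helper26.exists_idempotent_of_unramified u v
  have hεp : ε ∈ p := by
    apply hmem
    intro b
    have := congrArg (fun φ : B →+* C ⧸ p => φ b) huv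
    simp only [RingHom.comp_apply] at this
    rw [← Ideal.Quotient.eq_zero_iff_mem, map_sub, sub_eq_zero]
    exact this
  refine ⟨1 - ε, ?_, ?_⟩
  · intro h
    have : (1 : C) ∈ p := by
      have := p.add_mem hεp h
      simpa using this
    exact (Ideal.ne_top_iff_one p).mp (Ideal.IsPrime.ne_top inferInstance) this
  · have hunit : IsUnit (algebraMap C (Localization.Away (1 - ε)) (1 - ε)) :=
      IsLocalization.Away.algebraMap_isUnit (1 - ε)
    have hzero : algebraMap C (Localization.Away (1 - ε)) ε = 0 := by
      have h0 : ε * (1 - ε) = 0 := by
        rw [mul_sub, mul_one, hε.eq, sub_self]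
      have := congrArg (algebraMap C (Localization.Away (1 - ε))) h0
      rw [map_mul, map_zero] at this
      exact (hunit.mul_left_eq_zero).mp this
    ext b
    simp only [RingHom.comp_apply]
    obtain ⟨t, ht⟩ := hdiff b
    rw [← sub_eq_zero, ← map_sub]
    show algebraMap C (Localization.Away (1 - ε)) (u b - v b) = 0
    rw [ht, map_mul, hzero, zero_mul]

end Groth.Agent.S17974
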