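import Groth.Statements.S17977
import Mathlib

set_option autoImplicit false
universe u
open EGA4loc

namespace Groth.Agent.S17977

/-- Let A be a local ring, B a local ring which is a local-etale A-algebra, and C a local ring with a
local structure map A → C. Then every A-algebra homomorphism B → C is local. (The source states this
for local ind-etale B, i.e. filtered colimits of local-etale algebras along local maps, and reduces
at once to the local-etale case stated here.) -/
theorem result (A : Type u) [CommRing A] [IsLocalRing A]
    (B : Type u) [CommRing B] [IsLocalRing B] [Algebra A B] (hB : EGA4loc.IsEssentiallyEtale A B)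
    (C : Type u) [CommRing C] [IsLocalRing C] [Algebra A C] [IsLocalHom (algebraMap A C)]
    (φ : B →ₐ[A] C) : IsLocalHom φ.toRingHom := by
  obtain ⟨C', _, _, q, _, hEt, hq, ⟨e⟩⟩ := hB
  have : Algebra.FormallyUnramified A C' := inferInstance
  have : Algebra.FormallyUnramified C' (Localization.AtPrime q) :=
    Algebra.FormallyUnramified.of_isLocalization q.primeCompl
  have : Algebra.FormallyUnramified A (Localization.AtPrime q) :=
    Algebra.FormallyUnramified.comp A C' (Localization.AtPrime q)
  have : Algebra.EssFiniteType A (Localization.AtPrime q) := inferInstance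
  have : Algebra.QuasiFinite A (Localization.AtPrime q) := inferInstance
  let φ' : Localization.AtPrime q →ₐ[A] C := φ.comp e.symm.toAlgHom
  let P : Ideal (Localization.AtPrime q) := (IsLocalRing.maximalIdeal C).comap φ'.toRingHom
  have hPprime : P.IsPrime := Ideal.comap_isPrime _ _
  have hPle : P ≤ IsLocalRing.maximalIdeal (Localization.AtPrime q) :=
    IsLocalRing.le_maximalIdeal hPprime.ne_top
  have hPunder : P.under A = IsLocalRing.maximalIdeal A := by
    rw [Ideal.under_def, Ideal.comap_comap]
    have : φ'.toRingHom.comp (algebraMap A (Localization.AtPrime q)) = algebraMap A C := by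
      ext a
      simp
    rw [this]
    exact IsLocalRing.maximalIdeal_comap (algebraMap A C)
  have hQunder : (IsLocalRing.maximalIdeal (Localization.AtPrime q)).under A =
      IsLocalRing.maximalIdeal A := by
    rw [Ideal.under_def, IsScalarTower.algebraMap_eq A C' (Localization.AtPrime q),
      ← Ideal.comap_comap]
    have := Localization.AtPrime.under_maximalIdeal (I := q)
    rw [Ideal.under_def] at this
    rw [this, hq]
  have hPQ : P = IsLocalRing.maximalIdeal (Localization.AtPrime q) :=
    Algebra.QuasiFinite.eq_of_le_of_under_eq (R := A) P _ hPle (hPunder.trans hQunder.symm)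
  constructor
  intro b hb
  have hb' : e b ∉ P := by
    intro hmem
    have h1 : φ' (e b) ∈ IsLocalRing.maximalIdeal C := hmem
    have h2 : φ' (e b) = φ b := by simp [φ']
    rw [h2] at h1
    exact (IsLocalRing.mem_maximalIdeal _).mp h1 hb
  rw [hPQ] at hb'
  have hu : IsUnit (e b) := by
    by_contra hnu
    exact hb' ((IsLocalRing.mem_maximalIdeal _).mpr hnu)
  have := hu.map e.symm
  simpa using this

end Groth.Agent.S17977
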