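import Groth.Statements.S17978
import Mathlib
import Groth.Agent.Lib.Helper26.Unram

set_option autoImplicit false
universe u
open EGA4loc

namespace Groth.Agent.S17978

/-- Let A be a local ring, B a local ring which is a local-etale A-algebra, and C a local ring with a
local structure map A → C. Then two A-algebra homomorphisms B → C which agree after composition with
the residue map of C are equal; in other words an A-algebra map B → C is determined by the map it
induces on residue fields. (The source states this for local ind-etale B and reduces to the
local-etale case stated here; C is an arbitrary local A-algebra with local structure map.) -/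
theorem result (A : Type u) [CommRing A] [IsLocalRing A]
    (B : Type u) [CommRing B] [IsLocalRing B] [Algebra A B] (hB : EGA4loc.IsEssentiallyEtale A B)
    (C : Type u) [CommRing C] [IsLocalRing C] [Algebra A C] [IsLocalHom (algebraMap A C)]
    (u v : B →ₐ[A] C)
    (h : (IsLocalRing.residue C).comp u.toRingHom = (IsLocalRing.residue C).comp v.toRingHom) :
    u = v := by
  obtain ⟨C', _, _, q, _, hEt, hq, ⟨e⟩⟩ := hB
  have : Algebra.FormallyUnramified A C' := inferInstance
  have : Algebra.FormallyUnramified C' (Localization.AtPrime q) :=
    Algebra.FormallyUnramified.of_isLocalization q.primeCompl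
  have : Algebra.FormallyUnramified A (Localization.AtPrime q) :=
    Algebra.FormallyUnramified.comp A C' (Localization.AtPrime q)
  have : Algebra.EssFiniteType A (Localization.AtPrime q) := inferInstance
  let u' : Localization.AtPrime q →ₐ[A] C := u.comp e.symm.toAlgHom
  let v' : Localization.AtPrime q →ₐ[A] C := v.comp e.symm.toAlgHom
  obtain ⟨ε, hε, hdiff, hmem⟩ := Groth.Agent.Helper26.exists_idempotent_of_unramified u' v'
  have hεm : ε ∈ IsLocalRing.maximalIdeal C := by
    apply hmem
    intro b
    have := congrArg (fun φ : B →+* IsLocalRing.ResidueField C => φ (e.symm b)) h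
    simp only [RingHom.comp_apply] at this
    rw [← IsLocalRing.residue_eq_zero_iff, map_sub, sub_eq_zero]
    exact this
  have hε0 : ε = 0 := by
    have h0 : ε * (1 - ε) = 0 := by
      rw [mul_sub, mul_one, hε.eq, sub_self]
    have hu : IsUnit (1 - ε) := by
      rcases IsLocalRing.isUnit_or_isUnit_one_sub_self ε with hu | hu
      · exact absurd hu ((IsLocalRing.mem_maximalIdeal ε).mp hεm)
      · exact hu
    exact hu.mul_left_eq_zero.mp h0
  ext b
  obtain ⟨t, ht⟩ := hdiff (e b)
  rw [hε0, zero_mul] at ht
  have := sub_eq_zero.mp ht
  simpa [u', v'] using this

end Groth.Agent.S17978
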