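import Groth.Statements.S17979
import Mathlib

set_option autoImplicit false
universe u
open Hensel

namespace Groth.Agent.S17979

/-- Let A be a local ring with residue field k and Q, R polynomials over A with Q monic. If the images
of Q and R in k[T] generate the unit ideal, then Q and R already generate the unit ideal of A[T]. -/
theorem result (A : Type u) [CommRing A] [IsLocalRing A]
    (Q R : Polynomial A) (hQ : Q.Monic)
    (h : IsCoprime (Polynomial.map (IsLocalRing.residue A) Q) (Polynomial.map (IsLocalRing.residue A) R)) :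
    IsCoprime Q R := by
  obtain ⟨a, b, hab⟩ := h
  have hsurj : Function.Surjective (Polynomial.map (IsLocalRing.residue A)) :=
    Polynomial.map_surjective _ IsLocalRing.residue_surjective
  obtain ⟨a0, rfl⟩ := hsurj a
  obtain ⟨b0, rfl⟩ := hsurj b
  have hfin : Module.Finite A (AdjoinRoot Q) := hQ.finite_adjoinRoot
  -- polynomials vanishing mod m map into m • ⊤
  have hclaim : ∀ f : Polynomial A, Polynomial.map (IsLocalRing.residue A) f = 0 →
      AdjoinRoot.mk Q f ∈ (IsLocalRing.maximalIdeal A • ⊤ : Submodule A (AdjoinRoot Q)) := by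
    intro f hf
    have hcoef : ∀ i, f.coeff i ∈ IsLocalRing.maximalIdeal A := by
      intro i
      have := congrArg (fun g => Polynomial.coeff g i) hf
      simpa [Polynomial.coeff_map, IsLocalRing.residue_eq_zero_iff] using this
    rw [← Polynomial.sum_monomial_eq f, Polynomial.sum, map_sum]
    refine Submodule.sum_mem _ fun i _ => ?_
    have : AdjoinRoot.mk Q (Polynomial.monomial i (f.coeff i)) =
        f.coeff i • AdjoinRoot.mk Q (Polynomial.X ^ i) := by
      rw [← Polynomial.smul_X_eq_monomial]
      exact map_smul (AdjoinRoot.mkₐ Q) _ _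
    rw [this]
    exact Submodule.smul_mem_smul (hcoef i) Submodule.mem_top
  set e : Polynomial A := 1 - a0 * Q - b0 * R with he
  have hemap : ∀ g : Polynomial A, Polynomial.map (IsLocalRing.residue A) (e * g) = 0 := by
    intro g
    rw [Polynomial.map_mul, he, Polynomial.map_sub, Polynomial.map_sub, Polynomial.map_one,
      Polynomial.map_mul, Polynomial.map_mul]
    rw [← hab]; ring
  let N : Submodule A (AdjoinRoot Q) := (Ideal.span {AdjoinRoot.mk Q R}).restrictScalars A
  have hle : (⊤ : Submodule A (AdjoinRoot Q)) ≤ N ⊔ IsLocalRing.maximalIdeal A • ⊤ := by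
    intro β _
    obtain ⟨β0, rfl⟩ := AdjoinRoot.mk_surjective (g := Q) β
    have hsplit : AdjoinRoot.mk Q β0 = AdjoinRoot.mk Q R * AdjoinRoot.mk Q (b0 * β0) +
        AdjoinRoot.mk Q (e * β0) := by
      rw [← map_mul, ← map_add]
      rw [← sub_eq_zero, ← map_sub, AdjoinRoot.mk_eq_zero]
      refine ⟨a0 * β0, ?_⟩
      rw [he]; ring
    rw [hsplit]
    refine Submodule.add_mem_sup ?_ (hclaim _ (hemap β0))
    change _ ∈ Ideal.span {AdjoinRoot.mk Q R}
    exact Ideal.mul_mem_right _ _ (Ideal.subset_span (Set.mem_singleton _))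
  have hN : (⊤ : Submodule A (AdjoinRoot Q)) ≤ N :=
    Submodule.le_of_le_smul_of_le_jacobson_bot (Module.finite_def.1 hfin)
      (IsLocalRing.maximalIdeal_le_jacobson ⊥) hle
  have h1 : (1 : AdjoinRoot Q) ∈ Ideal.span {AdjoinRoot.mk Q R} := hN Submodule.mem_top
  rw [Ideal.mem_span_singleton'] at h1
  obtain ⟨c, hc⟩ := h1
  obtain ⟨c0, rfl⟩ := AdjoinRoot.mk_surjective (g := Q) c
  rw [← map_mul, ← sub_eq_zero, ← map_one (AdjoinRoot.mk Q), ← map_sub, AdjoinRoot.mk_eq_zero] at hc
  obtain ⟨w, hw⟩ := hc
  refine ⟨-w, c0, ?_⟩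
  linear_combination hw

end Groth.Agent.S17979
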