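import Groth.Statements.S17981
-- import your own Groth.Agent.* helpers here
import Mathlib

set_option autoImplicit false
universe u
open Hensel

namespace Groth.Agent.S17981

/-- Let A be a commutative ring, I an ideal contained in the Jacobson radical of A, and B a commutative
A-algebra which is finitely generated as an A-module. Then two idempotents of B with the same image
in B/IB are equal. -/
theorem result (A : Type u) [CommRing A] (I : Ideal A)
    (hI : I ≤ Ideal.jacobson ⊥) (B : Type u) [CommRing B] [Algebra A B] [Module.Finite A B] :
    Set.InjOn (Ideal.Quotient.mk (Ideal.map (algebraMap A B) I)) {e : B | IsIdempotentElem e} := by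
  haveI : Algebra.IsIntegral A B := Algebra.IsIntegral.of_finite A B
  have hIB : Ideal.map (algebraMap A B) I ≤ Ideal.jacobson ⊥ := by
    rw [Ideal.jacobson, le_sInf_iff]
    rintro m ⟨-, hm⟩
    rw [Ideal.map_le_iff_le_comap]
    haveI := hm
    have hmax : (m.comap (algebraMap A B)).IsMaximal := 
      Ideal.isMaximal_comap_of_isIntegral_of_isMaximal m
    refine le_trans hI ?_
    rw [Ideal.jacobson]
    exact sInf_le ⟨bot_le, hmax⟩
  intro e he f hf hef
  simp only [Set.mem_setOf_eq] at he hf
  have hmem : e - f ∈ Ideal.map (algebraMap A B) I := by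
    rw [← Ideal.Quotient.eq]; exact hef
  have hj : e - f ∈ Ideal.jacobson (⊥ : Ideal B) := hIB hmem
  have hcube : (e - f) * (1 - (e - f) ^ 2) = 0 := by
    have he' : e * e = e := he
    have hf' : f * f = f := hf
    have : (e - f) * (1 - (e - f) ^ 2) = (e - f) - (e * e * e - 3 * (e * e) * f + 3 * e * (f * f) - f * f * f) := by ring
    rw [this, he', hf', he', hf']; ring
  have hunit : IsUnit (1 - (e - f) ^ 2) := by
    have := Ideal.mem_jacobson_bot.mp hj (-(e - f))
    convert this using 1; ring
  have := hunit.mul_left_eq_zero.mp hcube
  exact sub_eq_zero.mp this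

end Groth.Agent.S17981
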