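import Groth.Statements.S1800
import Groth.Agent.Lib.Helper11.Shr11

set_option autoImplicit false
universe u
open CategoryTheory
open scoped TensorProduct
attribute [local instance] HasDerivedCategory.standard
open Dual2

namespace Groth.Agent.S1800

/-- Let R → R' be a flat homomorphism of Noetherian rings, R → A a ring map of finite type with A
Noetherian, and A' = R' ⊗_R A with the induced map R' → A'; each upper shriek φ^!(K) is formed from
a presentation ψ : P = (base)[x_1, …, x_n] → (target) as RHom_P(target, K ⊗^L P)[n], the derived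
base change functors being assumed to exist and RHom_P(target, −) being given as a right adjoint of
restriction of scalars. Assuming also the derived base change functors D(A) → D(A') and D(R) → D(R')
exist, for every K in D(R) which is bounded below the base change to A' of the upper shriek of K
along R → A is isomorphic to the upper shriek along R' → A' of the base change of K to R'. -/
theorem result (R R' A : Type u) [CommRing R] [CommRing R'] [CommRing A] [IsNoetherianRing R] [IsNoetherianRing R'] [IsNoetherianRing A] [Algebra R R'] [Module.Flat R R'] [Algebra R A] [IsNoetherianRing (R' ⊗[R] A)] (n : ℕ) (ψ : MvPolynomial (Fin n) R →ₐ[R] A) (hψ : Function.Surjective ψ) [DRing.HasLBaseChange (algebraMap R (MvPolynomial (Fin n) R))] (Rψ : Dual.D (MvPolynomial (Fin n) R) ⥤ Dual.D A) (adj : DRing.restrictD ψ.toRingHom ⊣ Rψ) (m : ℕ) (ψ' : MvPolynomial (Fin m) R' →ₐ[R'] (R' ⊗[R] A)) (hψ' : Function.Surjective ψ') [DRing.HasLBaseChange (algebraMap R' (MvPolynomial (Fin m) R'))] (Rψ' : Dual.D (MvPolynomial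 (Fin m) R') ⥤ Dual.D (R' ⊗[R] A)) (adj' : DRing.restrictD ψ'.toRingHom ⊣ Rψ') [DRing.HasLBaseChange (Algebra.TensorProduct.includeRight : A →ₐ[R] R' ⊗[R] A).toRingHom] [DRing.HasLBaseChange (algebraMap R R')] (K : Dual.D R) (c : ℤ) (hK : ∀ i : ℤ, i < c → Subsingleton (Dual.HD R K i)) : Nonempty ((DRing.LBaseChange (Algebra.TensorProduct.includeRight : A →ₐ[R] R' ⊗[R] A).toRingHom).obj (Dual2.shriekVia n Rψ K) ≅ Dual2.shriekVia m Rψ' ((DRing.LBaseChange (algebraMap R R')).obj K)) := by
  haveI i1 : CategoryTheory.Limits.PreservesFiniteLimits (Groth.Agent.Helper11.TorsBC.Es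
      (Algebra.TensorProduct.includeRight : A →ₐ[R] R' ⊗[R] A).toRingHom) :=
    ModuleCat.preservesFiniteLimits_extendScalars_of_flat
      (Groth.Agent.Helper11.Shr.flat_includeRight R R' A)
  haveI i2 : CategoryTheory.Limits.PreservesFiniteLimits (Groth.Agent.Helper11.TorsBC.Es (algebraMap R R')) :=
    ModuleCat.preservesFiniteLimits_extendScalars_of_flat
      (RingHom.flat_algebraMap_iff.mpr inferInstance)
  obtain ⟨eα⟩ := Groth.Agent.Helper11.Shr.nonempty_LBaseChange_iso
    (Algebra.TensorProduct.includeRight : A →ₐ[R] R' ⊗[R] A).toRingHom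
  obtain ⟨eρ⟩ := Groth.Agent.Helper11.Shr.nonempty_LBaseChange_iso (algebraMap R R')
  obtain ⟨b1⟩ := Groth.Agent.Helper11.Shr.nonempty_shriekVia_iso n Rψ K
  obtain ⟨b2⟩ := Groth.Agent.Helper11.Shr.nonempty_shriekVia_iso m Rψ'
    ((DRing.LBaseChange (algebraMap R R')).obj K)
  obtain ⟨s⟩ := Groth.Agent.Helper11.Shr.sh_flat_baseChange R R' A n ψ hψ Rψ adj m ψ' hψ' Rψ' adj'
    K c (fun i hi => by
      haveI := hK i hi
      exact ModuleCat.isZero_of_subsingleton _)
  let b3 : Groth.Agent.Helper11.Shr.sh m Rψ' ((DRing.LBaseChange (algebraMap R R')).obj K) ≅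
      Groth.Agent.Helper11.Shr.sh m Rψ'
        ((Groth.Agent.Helper11.TorsBC.Gd (algebraMap R R')).obj K) :=
    (shiftFunctor (Dual.D (R' ⊗[R] A)) (m : ℤ)).mapIso (Rψ'.mapIso
      ((Groth.Agent.Helper11.TorsBC.Gd (algebraMap R' (MvPolynomial (Fin m) R'))).mapIso
        (eρ.app K)))
  exact ⟨eα.app _ ≪≫
    (Groth.Agent.Helper11.TorsBC.Gd
      (Algebra.TensorProduct.includeRight : A →ₐ[R] R' ⊗[R] A).toRingHom).mapIso b1 ≪≫
    s ≪≫ b3.symm ≪≫ b2.symm⟩

end Groth.Agent.S1800
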