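import Groth.Statements.S18003
-- import your own Groth.Agent.* helpers here
import Groth.Agent.Lib.Helper25.WeilMod

set_option autoImplicit false
universe u
open MvPolynomial
open WeilNum

namespace Groth.Agent.S18003

/-- Let p be a prime, e ≥ 1 and q = p^e; let (π_i) be a finite family of pairwise nonconjugate Weil
q-numbers (π_i in a field K_i of characteristic zero, integral over ℤ with minimal polynomial P_i,
all complex roots of P_i of absolute value √q, P_i ≠ P_j for i ≠ j) of even total degree Σ_i deg
P_i, P_w = ∏_i P_i, and R_w ⊆ ∏_i K_i the minimal central order, the image of ℤ[F, V] → ∏_i K_i, F ↦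
(π_i), V ↦ (q/π_i). Let T be a finitely generated free ℤ-module and F_T an endomorphism of T. Then
there exists an R_w-module structure on the additive group T in which the class of F acts as F_T if
and only if P_w(F_T) = 0 (equivalently: F_T is semisimple after tensoring with ℚ, with eigenvalues
among the conjugates of the π_i) and there is an endomorphism V_T of T with F_T ∘ V_T = q. When it
exists the structure is determined by F_T (the class of V acts as V_T = q·F_T⁻¹), and reflexive
R_w-modules are exactly the ℤ-free finitely generated ones, so this identifies the objects of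
Refl(R_w) with such pairs (T, F_T); the uniqueness remark is not part of the formal statement. -/
theorem result (p e : ℕ) [Fact p.Prime] (he : 0 < e)
    (ι : Type) [Fintype ι] (K : ι → Type u) [∀ i, Field (K i)] [∀ i, CharZero (K i)] (π : ∀ i, K i)
    (hint : ∀ i, IsIntegral ℤ (π i))
    (hweil : ∀ i, ∀ z ∈ (minpoly ℤ (π i)).aroots ℂ, ‖z‖ = Real.sqrt ((p : ℝ) ^ e))
    (hinj : ∀ i j, minpoly ℤ (π i) = minpoly ℤ (π j) → i = j)
    (D : ℕ) (hD : ∑ i, (minpoly ℤ (π i)).natDegree = 2 * D)
    (T : Type) [AddCommGroup T] [Module.Finite ℤ T] [Module.Free ℤ T] (FT : T →ₗ[ℤ] T) :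
    (∃ _ : Module (MvPolynomial.aeval ![fun i => π i, fun i => ((p : K i) ^ e) / π i] :
        MvPolynomial (Fin 2) ℤ →ₐ[ℤ] ((i : ι) → K i)).range T,
        ∀ t : T, (⟨(MvPolynomial.aeval ![fun i => π i, fun i => ((p : K i) ^ e) / π i] :
        MvPolynomial (Fin 2) ℤ →ₐ[ℤ] ((i : ι) → K i)) (X 0), AlgHom.mem_range_self _ _⟩ : (MvPolynomial.aeval ![fun i => π i, fun i => ((p : K i) ^ e) / π i] :
        MvPolynomial (Fin 2) ℤ →ₐ[ℤ] ((i : ι) → K i)).range) • t = FT t) ↔
      (Polynomial.aeval FT (∏ i, minpoly ℤ (π i)) = 0 ∧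
        ∃ VT : T →ₗ[ℤ] T, FT ∘ₗ VT = ((p : ℤ) ^ e) • LinearMap.id) := by
  classical
  have hπ0 : ∀ i, π i ≠ 0 := by
    intro i h0
    have h1 : minpoly ℤ (π i) = Polynomial.X := by
      rw [h0]
      have := minpoly.eq_X_sub_C_of_algebraMap_inj (A := ℤ) (B := K i) 0
        (algebraMap ℤ (K i)).injective_int
      simpa using this
    have h2 : (0:ℂ) ∈ (minpoly ℤ (π i)).aroots ℂ := by
      rw [h1]; simp
    have h3 := hweil i 0 h2
    rw [norm_zero] at h3
    have h4 : 0 < Real.sqrt ((p:ℝ)^e) :=
      Real.sqrt_pos.mpr (pow_pos (Nat.cast_pos.mpr (Fact.out : p.Prime).pos) e)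
    linarith
  refine Groth.Agent.Helper25.WeilMod.main (fun i => π i) (fun i => ((p : K i) ^ e) / π i)
    ((p:ℤ)^e) ?_ ?_ (∏ i, minpoly ℤ (π i)) ?_ ?_ T FT
  · funext i
    have h1 : π i * ((p : K i)^e / π i) = (p : K i)^e := by
      field_simp [hπ0 i]
    show π i * ((p : K i)^e / π i) = _
    rw [h1]
    simp
  · exact pow_ne_zero _ (by exact_mod_cast (Fact.out : p.Prime).ne_zero)
  · funext i
    rw [Groth.Agent.Helper25.WeilMod.aeval_pi_apply, Pi.zero_apply, map_prod]
    exact Finset.prod_eq_zero (Finset.mem_univ i) (minpoly.aeval ℤ (π i))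
  · intro G hG
    apply Finset.prod_dvd_of_isRelPrime
    · intro i _ j _ hij
      show IsRelPrime (minpoly ℤ (π i)) (minpoly ℤ (π j))
      rw [(minpoly.irreducible (hint i)).isRelPrime_iff_not_dvd]
      intro hd
      have hassoc := (minpoly.irreducible (hint i)).associated_of_dvd
        (minpoly.irreducible (hint j)) hd
      exact hij (hinj i j (Polynomial.eq_of_monic_of_associated (minpoly.monic (hint i))
        (minpoly.monic (hint j)) hassoc))
    · intro i _
      apply minpoly.isIntegrallyClosed_dvd (hint i)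
      have := congrFun hG i
      rwa [Groth.Agent.Helper25.WeilMod.aeval_pi_apply] at this

end Groth.Agent.S18003
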