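import Groth.Statements.S18015
-- import your own Groth.Agent.* helpers here
import Mathlib

set_option autoImplicit false
universe u
open CategoryTheory
open Coh

namespace Groth.Agent.S18015

/-- Let A be a Noetherian commutative ring and F an additive functor from A-modules to A-modules which
is half-exact, i.e. for every short exact sequence 0 → M' → M → M'' → 0 the sequence F(M') → F(M) →
F(M'') is exact at F(M). Then F(M) is a finitely generated A-module for every finitely generated
A-module M if and only if F(A/p) is a finitely generated A-module for every prime ideal p of A. (The
published statement takes F from quasi-coherent sheaves on Spec A to abelian groups, with A acting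
on each F(M) through F; this row allows any additive functor between A-module categories, A-linear
or not, and the same argument applies, since it uses only that each map F(f) is A-linear.) -/
theorem result {A : Type u} [CommRing A] [IsNoetherianRing A]
    (F : ModuleCat.{u} A ⥤ ModuleCat.{u} A) [F.Additive]
    (hF : ∀ S : ShortComplex (ModuleCat.{u} A), S.ShortExact → (S.map F).Exact) :
    (∀ M : ModuleCat.{u} A, Module.Finite A M → Module.Finite A (F.obj M)) ↔
      ∀ p : PrimeSpectrum A, Module.Finite A (F.obj (ModuleCat.of A (A ⧸ p.asIdeal))) := by
  constructor
  · intro h p
    exact h _ (inferInstanceAs (Module.Finite A (A ⧸ p.asIdeal)))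
  · intro h M hM
    have key : ∀ (N : Type u) [AddCommGroup N] [Module A N] [Module.Finite A N],
        Module.Finite A (F.obj (ModuleCat.of A N)) := by
      intro N _ _ hN
      induction hN using IsNoetherianRing.induction_on_isQuotientEquivQuotientPrime A with
      | subsingleton N =>
        have hz : Limits.IsZero (ModuleCat.of A N) := ModuleCat.isZero_of_subsingleton _
        have hz' : Limits.IsZero (F.obj (ModuleCat.of A N)) := F.map_isZero hz
        have : Subsingleton (F.obj (ModuleCat.of A N)) := ModuleCat.subsingleton_of_isZero hz'
        infer_instance
      | quotient N p e =>
        have i : ModuleCat.of A N ≅ ModuleCat.of A (A ⧸ p.asIdeal) := e.toModuleIso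
        have e' := (F.mapIso i).toLinearEquiv
        have := h p
        exact Module.Finite.equiv e'.symm
      | exact N₁ N₂ N₃ f g hf hg hfg h1 h3 =>
        let S : ShortComplex (ModuleCat.{u} A) :=
          ShortComplex.mk (ModuleCat.ofHom f) (ModuleCat.ofHom g) (by
            ext x; exact hfg.apply_apply_eq_zero x)
        have hS : S.ShortExact := by
          refine ShortComplex.ShortExact.mk' ?_ ?_ ?_
          · rw [ShortComplex.ShortExact.moduleCat_exact_iff_function_exact]
            exact hfg
          · rw [ModuleCat.mono_iff_injective]; exact hf
          · rw [ModuleCat.epi_iff_surjective]; exact hg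
        have hE := hF S hS
        rw [ShortComplex.ShortExact.moduleCat_exact_iff_function_exact] at hE
        have hE' : Function.Exact (F.map (ModuleCat.ofHom f)).hom (F.map (ModuleCat.ofHom g)).hom := hE
        haveI : IsNoetherian A (F.obj (ModuleCat.of A N₃)) := isNoetherian_of_isNoetherianRing_of_finite A _
        refine ⟨(⊤ : Submodule A _).fg_of_fg_map_of_fg_inf_ker (F.map (ModuleCat.ofHom g)).hom ?_ ?_⟩
        · exact IsNoetherian.noetherian _
        · rw [top_inf_eq, LinearMap.exact_iff.1 hE']
          rw [LinearMap.range_eq_map]
          exact (Module.Finite.fg_top).map _
    have := key M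
    exact this

end Groth.Agent.S18015
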