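import Groth.Statements.S18019
-- import your own Groth.Agent.* helpers here
import Mathlib

set_option autoImplicit false
universe u
open ClassStk

namespace Groth.Agent.S18019

open Polynomial in
/-- Let R be an integral domain of characteristic 2 and let a be a nonzero element of R, so that x ↦ x +
a defines an R-algebra involution of the polynomial ring R[x] (an action of the group of order two).
A polynomial f is invariant, f(x + a) = f(x), if and only if f belongs to the R-subalgebra generated
by u = x (x + a); in other words the ring of invariants is the polynomial ring R[u]. -/
theorem result (R : Type u) [CommRing R] [IsDomain R]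
    [CharP R 2] (a : R) (ha : a ≠ 0) (f : Polynomial R) :
    f.comp (X + C a) = f ↔ f ∈ Algebra.adjoin R ({X * (X + C a)} : Set (Polynomial R)) := by
  have h2 : (2 : R) = 0 := by
    have := CharP.cast_eq_zero R 2
    exact_mod_cast this
  have hu_inv : (X * (X + C a)).comp (X + C a) = X * (X + C a : R[X]) := by
    simp only [mul_comp, X_comp, add_comp, C_comp]
    have : (C a + C a : R[X]) = 0 := by rw [← C_add, ← two_mul, h2, zero_mul, C_0]
    calc (X + C a) * (X + C a + C a) = (X + C a) * (X + (C a + C a)) := by ring
      _ = X * (X + C a) := by rw [this]; ring
  have hu_monic : (X * (X + C a) : R[X]).Monic := (monic_X).mul (monic_X_add_C a)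
  have hu_deg : (X * (X + C a) : R[X]).natDegree = 2 := by
    rw [natDegree_mul X_ne_zero (monic_X_add_C a).ne_zero, natDegree_X, natDegree_X_add_C]
  constructor
  · -- invariants are generated by u
    intro hf
    induction hn : f.natDegree using Nat.strong_induction_on generalizing f with
    | _ n ih =>
      set u : R[X] := X * (X + C a) with hu
      set q := f /ₘ u with hq
      set r := f %ₘ u with hr
      have hfqr : r + u * q = f := modByMonic_add_div f u
      have hrdeg : r.degree < u.degree := degree_modByMonic_lt f hu_monic
      -- apply σ
      have hσ : r.comp (X + C a) + u * q.comp (X + C a) = f := by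
        have := congrArg (fun p => p.comp (X + C a)) hfqr
        simp only [add_comp, mul_comp, hu_inv, hf] at this
        exact this
      have hσr_deg : (r.comp (X + C a)).degree < u.degree := by
        have h1 : (r.comp (X + C a)).natDegree = r.natDegree := by
          rw [natDegree_comp, natDegree_X_add_C, mul_one]
        by_cases hr0 : r = 0
        · rw [hr0, zero_comp]; rw [hr0] at hrdeg; exact hrdeg
        · have hrc0 : r.comp (X + C a) ≠ 0 := by
            intro h0
            have := congrArg natDegree h0
            rw [h1] at this
            -- r is constant and r.comp = r
            have hrC : r = C (r.coeff 0) := eq_C_of_natDegree_eq_zero (by simpa using this)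
            rw [hrC, C_comp] at h0
            exact hr0 (hrC.trans h0)
          rw [degree_eq_natDegree hrc0, h1, ← degree_eq_natDegree hr0]
          exact hrdeg
      obtain ⟨hq', hr'⟩ := div_modByMonic_unique (q.comp (X + C a)) (r.comp (X + C a)) hu_monic ⟨hσ, hσr_deg⟩
      -- so q and r are invariant
      have hq_inv : q.comp (X + C a) = q := hq'.symm
      have hr_inv : r.comp (X + C a) = r := hr'.symm
      -- r is constant
      have hr_const : r = C (r.coeff 0) := by
        have hrnat : r.natDegree < 2 := by
          by_cases hr0 : r = 0
          · rw [hr0]; simp
          · have := (natDegree_lt_natDegree_iff hr0).mpr hrdeg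
            rwa [hu_deg] at this
        have h1 : r = C (r.coeff 1) * X + C (r.coeff 0) := by
          ext i
          simp only [coeff_add, coeff_C_mul, coeff_X, coeff_C]
          rcases i with _ | _ | i
          · simp
          · simp
          · have : r.coeff (i + 2) = 0 := coeff_eq_zero_of_natDegree_lt (by omega)
            simp [this]
        have h2' := hr_inv
        rw [h1] at h2'
        simp only [add_comp, mul_comp, C_comp, X_comp] at h2'
        have h3 : C (r.coeff 1) * C a = (0 : R[X]) := by
          have : C (r.coeff 1) * (X + C a) + C (r.coeff 0) - (C (r.coeff 1) * X + C (r.coeff 0)) = 0 := by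
            rw [h2']; ring
          rw [← this]; ring
        rw [← C_mul, C_eq_zero] at h3
        have h4 : r.coeff 1 = 0 := by
          rcases mul_eq_zero.mp h3 with h | h
          · exact h
          · exact absurd h ha
        rw [h4, C_0, zero_mul, zero_add] at h1
        exact h1
      have hq_mem : q ∈ Algebra.adjoin R ({u} : Set R[X]) := by
        by_cases hq0 : q = 0
        · rw [hq0]; exact Subalgebra.zero_mem _
        · apply ih q.natDegree _ q hq_inv rfl
          rw [← hn, hq, natDegree_divByMonic f hu_monic, hu_deg]
          have : 2 ≤ f.natDegree := by
            by_contra hlt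
            apply hq0
            rw [hq]
            apply (divByMonic_eq_zero_iff hu_monic).mpr
            have : f.natDegree < u.natDegree := by rw [hu_deg]; omega
            exact degree_lt_degree this
          omega
      rw [← hfqr, hr_const]
      apply Subalgebra.add_mem
      · exact Subalgebra.algebraMap_mem _ _
      · exact Subalgebra.mul_mem _ (Algebra.subset_adjoin (Set.mem_singleton _)) hq_mem
  · intro hf
    let σ : R[X] →ₐ[R] R[X] := aeval (X + C a)
    have hσ : ∀ p : R[X], σ p = p.comp (X + C a) := fun p => by
      simp only [σ]; rw [comp, aeval_def]; rfl
    have hle : Algebra.adjoin R ({X * (X + C a)} : Set R[X]) ≤ AlgHom.equalizer σ (AlgHom.id R R[X]) := by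
      apply Algebra.adjoin_le
      intro p hp
      rw [Set.mem_singleton_iff] at hp
      subst hp
      show σ _ = _
      rw [hσ, hu_inv]; rfl
    have := hle hf
    have h' : σ f = f := this
    rw [← hσ]; exact h'

end Groth.Agent.S18019
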