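import Groth.Statements.S18024
-- import your own Groth.Agent.* helpers here
import Groth.Agent.Lib.Helper27.InertiaMain

set_option autoImplicit false
open W4c5stacksedinertia

namespace Groth.Agent.S18024

open W4c5stacksedinertia in
/-- In the rational vector space K with basis the isomorphism classes of finite groups (the class of a
group standing for its classifying groupoid), for every `r` the kernel of `inertiaR r` is the span
of the eigenspaces of the inertia operator with eigenvalue a natural number `k < r`. -/
theorem result (r : ℕ) :
    LinearMap.ker (inertiaR r) = ⨆ k ∈ Finset.range r, Module.End.eigenspace inertia (k : ℚ) := by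
  rw [Groth.Agent.Helper27.Inertia.inertiaR_eq_aeval]
  unfold Groth.Agent.Helper27.Inertia.Q
  exact Groth.Agent.Helper27.Inertia.ker_aeval_prod_X_sub_C (inertia : Module.End ℚ K)
    (Finset.range r) (fun k => (k : ℚ)) (Nat.cast_injective.injOn)

end Groth.Agent.S18024
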