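import Groth.Statements.S18025
-- import your own Groth.Agent.* helpers here
import Groth.Agent.Lib.Helper27.InertiaMain

set_option autoImplicit false
open W4c5stacksedinertia

namespace Groth.Agent.S18025

open W4c5stacksedinertia in
/-- In the rational vector space K with basis the isomorphism classes of finite groups (the class of a
group standing for its classifying groupoid), the operators `P k := ∑ r, ((-1)^(r+k) / r!) *
Nat.choose r k • inertiaR r` (a finite sum on each vector) are the eigenprojections of the inertia
operator: `P k v` lies in the `k`-eigenspace of the inertia operator for every `v` and `k`, and `∑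
k, P k v = v`. -/
theorem result (v : K) :
    (∀ k : ℕ, (∑ᶠ r : ℕ, (((-1 : ℚ) ^ (r + k)) / (Nat.factorial r : ℚ) * (Nat.choose r k : ℚ)) •
        inertiaR r v) ∈ Module.End.eigenspace inertia (k : ℚ)) ∧
    (∑ᶠ k : ℕ, ∑ᶠ r : ℕ, (((-1 : ℚ) ^ (r + k)) / (Nat.factorial r : ℚ) * (Nat.choose r k : ℚ)) •
        inertiaR r v) = v := by
  obtain ⟨N, u, hu, hsum⟩ := Groth.Agent.Helper27.Inertia.exists_eigen_decomp v
  have key := Groth.Agent.Helper27.Inertia.proj_formula v N u hu hsum
  constructor
  · intro k
    rw [key k]
    split_ifs
    · exact hu k
    · exact Submodule.zero_mem _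
  · simp only [key]
    rw [finsum_eq_sum_of_support_subset (s := Finset.range N)]
    · rw [← hsum]
      apply Finset.sum_congr rfl
      intro k hk
      rw [if_pos (Finset.mem_range.mp hk)]
    · intro k hk
      rw [Function.mem_support] at hk
      rw [Finset.coe_range, Set.mem_Iio]
      by_contra hlt
      exact hk (if_neg hlt)

end Groth.Agent.S18025
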