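import Groth.Statements.S18026
import Groth.Agent.Lib.Helper1.HS2

set_option autoImplicit false
universe u
open Hensel

namespace Groth.Agent.S18026

open AlgebraicGeometry CategoryTheory in
/-- Let `A` be a henselian discrete valuation ring and `f : T ⟶ Spec A` an étale surjective morphism of
schemes. Then some open subscheme `U` of `T` is finite over `Spec A` and still maps onto it; in
particular `U → Spec A` is a finite étale cover sitting inside `T` as an open subscheme (étaleness
of the restriction is automatic, and surjectivity records that `U` meets the closed fibre). (The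
published statement asks for an open component of `T` finite étale over `Spec A`; when `T` is not
separated — two copies of `Spec A` glued along the generic point — no open and closed subset of `T`
is finite over `Spec A`, while the published proof constructs an open subscheme, the spectrum of the
local ring of `T` at a point of the closed fibre; so this row asks only for an open subscheme.) -/
theorem result
    (A : Type u) [CommRing A] [IsDomain A] [IsDiscreteValuationRing A] [HenselianLocalRing A]
    (T : Scheme.{u}) (f : T ⟶ Spec (CommRingCat.of A)) [Etale f] [Surjective f] :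
    ∃ U : T.Opens, IsFinite (U.ι ≫ f) ∧ Surjective (U.ι ≫ f) := by
  classical
  obtain ⟨t, ht⟩ := f.surjective (IsLocalRing.closedPoint A)
  obtain ⟨V, hV, htV⟩ : ∃ V : T.Opens, IsAffineOpen V ∧ t ∈ V := by
    obtain ⟨V, hV, htV, -⟩ := TopologicalSpace.Opens.isBasis_iff_nbhd.mp
      (Scheme.isBasis_affineOpens T) (show t ∈ (⊤ : T.Opens) from trivial)
    exact ⟨V, hV, htV⟩
  haveI : IsAffine (V : Scheme.{u}) := hV
  haveI hE : Etale (V.ι ≫ f) := inferInstance
  haveI hQ : QuasiCompact (V.ι ≫ f) := inferInstance
  haveI hS : IsSeparated (V.ι ≫ f) := inferInstance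
  haveI : HenselianRing A (IsLocalRing.maximalIdeal A) := inferInstance
  have hfin : IsFinite (Limits.pullback.snd (V.ι ≫ f)
      (Spec.map (CommRingCat.ofHom (Ideal.Quotient.mk (IsLocalRing.maximalIdeal A))))) := by
    haveI : LocallyQuasiFinite (Limits.pullback.snd (V.ι ≫ f)
        (Spec.map (CommRingCat.ofHom (Ideal.Quotient.mk (IsLocalRing.maximalIdeal A))))) :=
      Groth.Agent.Helper1.HS.lqf_of_etale' _
    haveI : IsLocallyArtinian (Spec (CommRingCat.of (A ⧸ IsLocalRing.maximalIdeal A))) := by
      rw [Scheme.isLocallyArtinianScheme_Spec]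
      change IsArtinianRing (IsLocalRing.ResidueField A)
      infer_instance
    exact IsFinite.of_locallyQuasiFinite _
  obtain ⟨W, hWcl, hWfin, hW⟩ :=
    Groth.Agent.Helper1.HS.main0784 A (IsLocalRing.maximalIdeal A) (V.ι ≫ f) hfin
  have hgt : (V.ι ≫ f).base ⟨t, htV⟩ = IsLocalRing.closedPoint A := by
    rw [Scheme.Hom.comp_base, TopCat.comp_app]
    exact ht
  have htW : (⟨t, htV⟩ : V) ∈ W := by
    by_contra h
    apply hW ⟨t, htV⟩ h
    rw [hgt]
    exact le_rfl
  have hfac : (V.ι ''ᵁ W).ι ≫ f = (V.ι.isoImage W).inv ≫ (W.ι ≫ (V.ι ≫ f)) := by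
    rw [← Scheme.Hom.isoImage_inv_ι_assoc]
  refine ⟨V.ι ''ᵁ W, ?_, ?_⟩
  · rw [hfac]
    exact (MorphismProperty.cancel_left_of_respectsIso @IsFinite _ _).mpr hWfin
  · haveI : Etale ((V.ι ''ᵁ W).ι ≫ f) := inferInstance
    have hopen : IsOpen (Set.range ((V.ι ''ᵁ W).ι ≫ f).base) :=
      ((V.ι ''ᵁ W).ι ≫ f).isOpenMap.isOpen_range
    have hmem : IsLocalRing.closedPoint A ∈ Set.range ((V.ι ''ᵁ W).ι ≫ f).base := by
      have ht' : t ∈ V.ι ''ᵁ W := by
        show t ∈ (V.ι ''ᵁ W : Set T)
        rw [Scheme.Hom.coe_image]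
        exact ⟨⟨t, htV⟩, htW, rfl⟩
      refine ⟨⟨t, ht'⟩, ?_⟩
      rw [Scheme.Hom.comp_base, TopCat.comp_app]
      exact ht
    have htop := (IsLocalRing.closedPoint_mem_iff (R := A) ⟨_, hopen⟩).mp hmem
    constructor
    intro x
    have hx : x ∈ (⟨_, hopen⟩ : TopologicalSpace.Opens (PrimeSpectrum A)) := by
      rw [htop]; trivial
    exact hx

end Groth.Agent.S18026
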