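import Groth.Statements.S18040
-- import your own Groth.Agent.* helpers here
import Mathlib

set_option autoImplicit false
universe u
open AdjLin

namespace Groth.Agent.S18040

/-- abstract form: `E = ι → k`, subspaces `V W U` with `V * W ⊆ U`, and no `e_z ∈ U`. -/
theorem abstract_CB {k : Type u} [Field k] [Infinite k] {ι : Type*} [Fintype ι] [DecidableEq ι]
    (V W U : Submodule k (ι → k))
    (hU : ∀ z : ι, (Pi.single z (1 : k) : ι → k) ∉ U)
    (hVW : ∀ f ∈ V, ∀ g ∈ W, f * g ∈ U) :
    Module.finrank k V + Module.finrank k W ≤ Fintype.card ι := by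
  -- find a functional vanishing on U, nonzero on all e_z
  have h1 : ∀ z : ι, ∃ l ∈ U.dualAnnihilator,
      (Module.Dual.eval k (ι → k) (Pi.single z (1 : k))) l ≠ 0 := by
    intro z
    obtain ⟨l, hl1, hl2⟩ := Submodule.exists_dual_map_eq_bot_of_notMem (hU z) inferInstance
    refine ⟨l, ?_, hl1⟩
    rw [Submodule.mem_dualAnnihilator]
    intro w hw
    have : l w ∈ U.map l := Submodule.mem_map_of_mem hw
    rw [hl2] at this
    exact this
  obtain ⟨l, hlU, hl⟩ := Module.Dual.exists_forall_mem_ne_zero_of_forall_exists
    U.dualAnnihilator (fun z => Module.Dual.eval k (ι → k) (Pi.single z (1 : k))) h1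
  rw [Submodule.mem_dualAnnihilator] at hlU
  -- the map Φ
  let Φ : (ι → k) →ₗ[k] Module.Dual k (ι → k) := (LinearMap.mul k (ι → k)).compr₂ l
  have hΦ : ∀ f g, Φ f g = l (f * g) := fun f g => rfl
  have hinj : Function.Injective Φ := by
    rw [← LinearMap.ker_eq_bot, LinearMap.ker_eq_bot']
    intro f hf
    funext z
    have h2 := LinearMap.congr_fun hf (Pi.single z (1 : k))
    rw [hΦ] at h2
    have h3 : f * (Pi.single z (1 : k) : ι → k) = f z • (Pi.single z (1 : k) : ι → k) := by
      funext y
      by_cases hy : y = z
      · subst hy; simp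
      · simp [Pi.single_apply, hy]
    rw [h3, map_smul, LinearMap.zero_apply, smul_eq_mul] at h2
    have := hl z
    rw [Module.Dual.eval_apply] at this
    rcases mul_eq_zero.mp h2 with h | h
    · exact h
    · exact absurd h this
  -- Φ maps V into the annihilator of W
  have hmap : V.map Φ ≤ W.dualAnnihilator := by
    rintro _ ⟨f, hf, rfl⟩
    rw [Submodule.mem_dualAnnihilator]
    intro g hg
    rw [hΦ]
    exact hlU _ (hVW f hf g hg)
  have h4 : Module.finrank k V ≤ Module.finrank k W.dualAnnihilator := by
    calc Module.finrank k V = Module.finrank k (V.map Φ) :=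
          (LinearEquiv.finrank_eq (Submodule.equivMapOfInjective Φ hinj V))
      _ ≤ Module.finrank k W.dualAnnihilator := Submodule.finrank_mono hmap
  have h5 := Subspace.finrank_add_finrank_dualAnnihilator_eq W
  rw [Module.finrank_pi] at h5
  omega


/-- Let k be an algebraically closed field of characteristic zero and Z a finite set of points of
projective 3-space over k, realised as points of the projectivization of k⁴, a homogeneous form in
four variables being evaluated at the chosen representative of a point (its vanishing does not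
depend on the choice). Suppose Z has the Cayley–Bacharach property in degree n: every form of degree
n vanishing at all points of Z but one vanishes at that point as well. Then for every m ≤ n, either
there is a nonzero form of degree n − m vanishing at every point of Z, or the rank of the evaluation
map from forms of degree m to functions on Z is at most the number of points of Z minus the
dimension of the space of forms of degree n − m. -/
theorem result (k : Type u) [Field k] [IsAlgClosed k] [CharZero k]
    (Z : Finset (Projectivization k (Fin 4 → k))) (n : ℕ)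
    (hCB : (∀ z ∈ Z, ∀ p : MvPolynomial (Fin 4) k, p.IsHomogeneous n →
      (∀ z' ∈ Z, z' ≠ z → MvPolynomial.eval z'.rep p = 0) → MvPolynomial.eval z.rep p = 0))
    (m : ℕ) (hm : m ≤ n) :
    (∃ s : MvPolynomial (Fin 4) k, s.IsHomogeneous (n - m) ∧ s ≠ 0 ∧ ∀ z ∈ Z, MvPolynomial.eval z.rep s = 0) ∨
      Module.finrank k (LinearMap.range
          ((LinearMap.pi fun z : ↥Z => (MvPolynomial.aeval (R := k) z.1.rep).toLinearMap) ∘ₗ
            (MvPolynomial.homogeneousSubmodule (Fin 4) k m).subtype)) +
        Module.finrank k ↥(MvPolynomial.homogeneousSubmodule (Fin 4) k (n - m)) ≤ Z.card := by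
  classical
  by_cases hex : ∃ s : MvPolynomial (Fin 4) k, s.IsHomogeneous (n - m) ∧ s ≠ 0 ∧
      ∀ z ∈ Z, MvPolynomial.eval z.rep s = 0
  · exact Or.inl hex
  right
  obtain ⟨ev, hev⟩ : ∃ ev : ∀ d : ℕ, ↥(MvPolynomial.homogeneousSubmodule (Fin 4) k d) →ₗ[k] (↥Z → k),
      ev = fun d => (LinearMap.pi fun z : ↥Z => (MvPolynomial.aeval (R := k) z.1.rep).toLinearMap) ∘ₗ
            (MvPolynomial.homogeneousSubmodule (Fin 4) k d).subtype := ⟨_, rfl⟩
  have hev_apply : ∀ d (p : ↥(MvPolynomial.homogeneousSubmodule (Fin 4) k d)) (z : ↥Z),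
      ev d p z = MvPolynomial.eval z.1.rep p.1 := by
    intro d p z
    rw [hev]
    simp [MvPolynomial.aeval_eq_eval]
  have hinj : Function.Injective (ev (n - m)) := by
    rw [← LinearMap.ker_eq_bot, LinearMap.ker_eq_bot']
    intro s hs
    by_contra hne
    apply hex
    refine ⟨s.1, (MvPolynomial.mem_homogeneousSubmodule _ _).mp s.2, fun h => hne (Subtype.ext h), ?_⟩
    intro z hz
    have := congrFun hs ⟨z, hz⟩
    rw [hev_apply] at this
    exact this
  have key := abstract_CB (LinearMap.range (ev m)) (LinearMap.range (ev (n - m)))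
    (LinearMap.range (ev n)) ?_ ?_
  · rw [LinearMap.finrank_range_of_inj hinj, Fintype.card_coe] at key
    rw [hev] at key
    exact key
  · rintro z ⟨p, hp⟩
    have h1 : MvPolynomial.eval z.1.rep p.1 = 0 := by
      apply hCB z.1 z.2 p.1 ((MvPolynomial.mem_homogeneousSubmodule _ _).mp p.2)
      intro z' hz' hne
      have := congrFun hp ⟨z', hz'⟩
      rw [hev_apply, Pi.single_apply, if_neg] at this
      · exact this
      · intro h; apply hne; exact congrArg Subtype.val h
    have h2 := congrFun hp z
    rw [hev_apply, Pi.single_apply, if_pos rfl, h1] at h2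
    exact zero_ne_one h2
  · rintro _ ⟨p, rfl⟩ _ ⟨q, rfl⟩
    have hpq : p.1 * q.1 ∈ MvPolynomial.homogeneousSubmodule (Fin 4) k n := by
      rw [MvPolynomial.mem_homogeneousSubmodule]
      have := ((MvPolynomial.mem_homogeneousSubmodule _ _).mp p.2).mul
        ((MvPolynomial.mem_homogeneousSubmodule _ _).mp q.2)
      rwa [Nat.add_sub_cancel' hm] at this
    refine ⟨⟨_, hpq⟩, ?_⟩
    funext z
    rw [Pi.mul_apply, hev_apply, hev_apply, hev_apply, map_mul]

end Groth.Agent.S18040
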