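import Groth.Statements.S18049
-- import your own Groth.Agent.* helpers here
import Mathlib

set_option autoImplicit false
open STCI

namespace Groth.Agent.S18049

/-- For natural numbers 0 < k < N such that k does not divide N, ⌊N/k⌋ ≤ (N - k)/gcd(k, N); stated here
in the equivalent cleared form ⌊N/k⌋ · gcd(k, N) ≤ N - k. -/
theorem result (k N : ℕ) (hk : 0 < k) (hkN : k < N) (hndvd : ¬ k ∣ N) :
    N / k * Nat.gcd k N ≤ N - k := by
  set g := Nat.gcd k N with hg
  have hgpos : 0 < g := Nat.gcd_pos_of_pos_left N hk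
  obtain ⟨k', hk'⟩ : g ∣ k := Nat.gcd_dvd_left k N
  obtain ⟨n', hn'⟩ : g ∣ N := Nat.gcd_dvd_right k N
  have hk'pos : 0 < k' := by
    rcases Nat.eq_zero_or_pos k' with h | h
    · subst h; simp at hk'; omega
    · exact h
  have hk'2 : 2 ≤ k' := by
    by_contra hlt
    have : k' = 1 := by omega
    subst this
    apply hndvd
    rw [hk', mul_one]
    exact Nat.gcd_dvd_right k N
  have hdiv : N / k = n' / k' := by
    rw [hn', hk', Nat.mul_div_mul_left _ _ hgpos]
  have hlt : k' < n' := by
    rw [hk', hn'] at hkN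
    exact lt_of_mul_lt_mul_left hkN (Nat.zero_le g)
  have hnd : ¬ k' ∣ n' := by
    intro h
    apply hndvd
    rw [hk', hn']
    exact Nat.mul_dvd_mul_left g h
  rw [hdiv]
  have key : n' / k' ≤ n' - k' := by
    have h1 := Nat.div_add_mod n' k'
    have h2 : 0 < n' % k' := by
      rcases Nat.eq_zero_or_pos (n' % k') with h | h
      · exact absurd (Nat.dvd_of_mod_eq_zero h) hnd
      · exact h
    have hq : 1 ≤ n' / k' := Nat.div_pos hlt.le hk'pos
    generalize n' / k' = q at *
    generalize n' % k' = r at *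
    obtain ⟨q', rfl⟩ : ∃ q', q = q' + 1 := ⟨q - 1, by omega⟩
    have : k' * q' ≥ 2 * q' := Nat.mul_le_mul_right q' hk'2
    have : k' * (q' + 1) = k' * q' + k' := by ring
    omega
  calc n' / k' * g ≤ (n' - k') * g := Nat.mul_le_mul_right g key
    _ = N - k := by rw [hn', hk', Nat.sub_mul]; ring_nf

end Groth.Agent.S18049
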