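import Groth.Statements.S18053
-- import your own Groth.Agent.* helpers here
import Mathlib

set_option autoImplicit false
open STCI

namespace Groth.Agent.S18053

theorem arith053 (n a b c R : ℕ) (h1 : 5 * a + 2 * n ≤ 45) (hb : b ≤ a) (hc : c ≤ b)
    (hs : R + c + b + a + n ≤ 19) (hR : R ≤ 16 * c)
    (hi : 360 ≤ 15 * n + 30 * a + 10 * b + 5 * c + 3 * R) :
    n = 0 ∧ R = 0 ∧ a = 9 ∧ ((b = 8 ∧ c = 2) ∨ (b = 9 ∧ c = 0) ∨ (b = 9 ∧ c = 1)) := by
  have hn : n ≤ 19 := by omega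
  have ha : a ≤ 9 := by omega
  interval_cases n <;> interval_cases a <;> omega



/-- Let (p_k)_{k ≥ 1} be a sequence of nonnegative integers and n a nonnegative integer such that (i)
p_1 ≤ 9 - (2/5)n, (ii) p_1 ≥ p_2 ≥ p_3 ≥ ⋯, (iii) Σ_k p_k ≤ 19 - n, and (iv) n/4 + Σ_{k ≥ 1}
p_k/(k(k+1)) ≥ 6. Then n = 0 and (p_k) is one of (9, 8, 2), (9, 9), (9, 9, 1) (followed by zeros).
Here the sequence is indexed from 0 (so p 0 is p_1 and the weight of p k is 1/((k+1)(k+2))), (iii)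
is stated for every partial sum, and the series in (iv) is the real sum Σ' over all k. -/
theorem result (p : ℕ → ℕ) (n : ℕ)
    (h1 : (p 0 : ℝ) ≤ 9 - (2 / 5 : ℝ) * n) (h2 : Antitone p)
    (h3 : ∀ m : ℕ, ((∑ k ∈ Finset.range m, p k : ℕ) : ℝ) ≤ 19 - (n : ℝ))
    (h4 : (6 : ℝ) ≤ (n : ℝ) / 4 + ∑' k : ℕ, (p k : ℝ) / (((k : ℝ) + 1) * ((k : ℝ) + 2))) :
    n = 0 ∧ (p = (fun k => if k = 0 then 9 else if k = 1 then 8 else if k = 2 then 2 else 0)
      ∨ p = (fun k => if k = 0 then 9 else if k = 1 then 9 else 0)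
      ∨ p = (fun k => if k = 0 then 9 else if k = 1 then 9 else if k = 2 then 1 else 0)) := by
  have hsum : ∀ m : ℕ, ∑ k ∈ Finset.range m, p k + n ≤ 19 := by
    intro m
    have := h3 m
    have h' : ((∑ k ∈ Finset.range m, p k + n : ℕ) : ℝ) ≤ 19 := by push_cast at this ⊢; linarith
    exact_mod_cast h'
  have hzero : ∀ k, 19 ≤ k → p k = 0 := by
    intro k hk
    by_contra hne
    have hpos : 1 ≤ p k := Nat.one_le_iff_ne_zero.mpr hne
    have hall : ∀ j ∈ Finset.range 20, 1 ≤ p j := by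
      intro j hj
      rw [Finset.mem_range] at hj
      exact hpos.trans (h2 (by omega : j ≤ k))
    have := Finset.card_nsmul_le_sum (Finset.range 20) (fun k => p k) 1 hall
    simp at this
    have := hsum 20
    omega
  have htsum : ∑' k : ℕ, (p k : ℝ) / (((k : ℝ) + 1) * ((k : ℝ) + 2))
      = ∑ k ∈ Finset.range 19, (p k : ℝ) / (((k : ℝ) + 1) * ((k : ℝ) + 2)) := by
    apply tsum_eq_sum
    intro k hk
    rw [Finset.mem_range, not_lt] at hk
    rw [hzero k hk]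
    simp
  rw [htsum] at h4
  obtain ⟨R, hR⟩ : ∃ R : ℕ, R = ∑ k ∈ Finset.range 16, p (k + 3) := ⟨_, rfl⟩
  have hRc : R ≤ 16 * p 2 := by
    have : ∀ k ∈ Finset.range 16, p (k + 3) ≤ p 2 := fun k _ => h2 (by omega)
    have := Finset.sum_le_card_nsmul (Finset.range 16) (fun k => p (k + 3)) (p 2) this
    rw [hR]
    simpa using this
  have htail : ∑ k ∈ Finset.range 16, (p (k + 3) : ℝ) / ((((k + 3 : ℕ) : ℝ) + 1) * (((k + 3 : ℕ) : ℝ) + 2))
      ≤ (R : ℝ) / 20 := by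
    rw [hR, Nat.cast_sum, Finset.sum_div]
    apply Finset.sum_le_sum
    intro k _
    have hk : (0 : ℝ) ≤ (k : ℝ) := Nat.cast_nonneg k
    have hp : (0 : ℝ) ≤ (p (k + 3) : ℝ) := Nat.cast_nonneg _
    apply div_le_div_of_nonneg_left hp (by norm_num)
    have e : (((k + 3 : ℕ) : ℝ) + 1) * (((k + 3 : ℕ) : ℝ) + 2) = ((k : ℝ) + 4) * ((k : ℝ) + 5) := by
      push_cast; ring
    rw [e]
    nlinarith
  have hgen : ∀ {α : Type} [AddCommMonoid α] (f : ℕ → α),
      ∑ k ∈ Finset.range 19, f k = ∑ k ∈ Finset.range 16, f (k + 3) + f 2 + f 1 + f 0 := by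
    intro α _ f
    rw [Finset.sum_range_succ', Finset.sum_range_succ', Finset.sum_range_succ']
  have hsplit : ∑ k ∈ Finset.range 19, (p k : ℝ) / (((k : ℝ) + 1) * ((k : ℝ) + 2))
      = ∑ k ∈ Finset.range 16, (p (k + 3) : ℝ) / ((((k + 3 : ℕ) : ℝ) + 1) * (((k + 3 : ℕ) : ℝ) + 2))
        + (p 2 : ℝ) / 12 + (p 1 : ℝ) / 6 + (p 0 : ℝ) / 2 := by
    rw [hgen (fun k => (p k : ℝ) / (((k : ℝ) + 1) * ((k : ℝ) + 2)))]
    norm_num
  have hsum19 := hsum 19
  have hsplitN : ∑ k ∈ Finset.range 19, p k = R + p 2 + p 1 + p 0 := by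
    rw [hgen p, hR]
  rw [hsplitN] at hsum19
  have hb : p 1 ≤ p 0 := h2 (by omega)
  have hc : p 2 ≤ p 1 := h2 (by omega)
  have hineq : (360 : ℝ) ≤ 15 * n + 30 * p 0 + 10 * p 1 + 5 * p 2 + 3 * R := by
    rw [hsplit] at h4
    linarith
  have hineqN : 360 ≤ 15 * n + 30 * p 0 + 10 * p 1 + 5 * p 2 + 3 * R := by exact_mod_cast hineq
  have ha : 5 * p 0 + 2 * n ≤ 45 := by
    have : (5 * p 0 + 2 * n : ℝ) ≤ 45 := by linarith
    exact_mod_cast this
  have hmain : n = 0 ∧ R = 0 ∧ p 0 = 9 ∧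
      ((p 1 = 8 ∧ p 2 = 2) ∨ (p 1 = 9 ∧ p 2 = 0) ∨ (p 1 = 9 ∧ p 2 = 1)) :=
    arith053 n (p 0) (p 1) (p 2) R ha hb hc hsum19 hRc hineqN
  obtain ⟨hn, hR0, hp0, hcases⟩ := hmain
  have hR' : ∀ k, 3 ≤ k → p k = 0 := by
    intro k hk
    by_cases hk19 : 19 ≤ k
    · exact hzero k hk19
    · have hz : ∑ k ∈ Finset.range 16, p (k + 3) = 0 := by rw [← hR, hR0]
      have := (Finset.sum_eq_zero_iff.mp hz) (k - 3) (Finset.mem_range.mpr (by omega))
      rwa [show k - 3 + 3 = k by omega] at this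
  refine ⟨hn, ?_⟩
  rcases hcases with ⟨h1', h2'⟩ | ⟨h1', h2'⟩ | ⟨h1', h2'⟩
  · left
    funext k
    rcases k with _ | _ | _ | k
    · simpa using hp0
    · simpa using h1'
    · simpa using h2'
    · simpa using hR' (k + 3) (by omega)
  · right; left
    funext k
    rcases k with _ | _ | _ | k
    · simpa using hp0
    · simpa using h1'
    · simpa using h2'
    · simpa using hR' (k + 3) (by omega)
  · right; right
    funext k
    rcases k with _ | _ | _ | k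
    · simpa using hp0
    · simpa using h1'
    · simpa using h2'
    · simpa using hR' (k + 3) (by omega)

end Groth.Agent.S18053
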