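import Groth.Statements.S18054
-- import your own Groth.Agent.* helpers here
import Mathlib

set_option autoImplicit false
open STCI

namespace Groth.Agent.S18054

/-- Let s, t, d, g be integers with t ≥ s ≥ 4, d ≥ 1, g ≥ 0 and d dividing st; put n = st/d and assume n
≥ 2; put r = d[n(s - 4) + t] + (2 - 2g)n and assume r ≤ (s/3)(2s² - 6s + 7) - 1. Then d ≤ g + 3.
(The bound is written cleared of the denominator 3; s(2s² - 6s + 7) is always divisible by 3, so
this is the same condition.) -/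
theorem result (s t d g n : ℤ) (hs : 4 ≤ s) (hst : s ≤ t) (hd : 1 ≤ d) (hg : 0 ≤ g)
    (hn : s * t = d * n) (hn2 : 2 ≤ n)
    (hr : 3 * (d * (n * (s - 4) + t) + (2 - 2 * g) * n) ≤ s * (2 * s ^ 2 - 6 * s + 7) - 3) :
    d ≤ g + 3 := by
  by_contra hcon
  have hcon : g + 4 ≤ d := by omega
  have h1 : (10 - 2 * d) * n ≤ (2 - 2 * g) * n := by nlinarith
  have h2 : 3 * (d * (n * (s - 4) + t) + (10 - 2 * d) * n) ≤ s * (2 * s ^ 2 - 6 * s + 7) - 3 := by
    linarith
  have h3 : d * (3 * (d * (n * (s - 4) + t) + (10 - 2 * d) * n)) ≤ d * (s * (2 * s ^ 2 - 6 * s + 7) - 3) :=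
    mul_le_mul_of_nonneg_left h2 (by linarith)
  have h4 : d * (3 * (d * (n * (s - 4) + t) + (10 - 2 * d) * n)) = 
      t * (3 * d ^ 2 + 3 * s * (s - 6) * d + 30 * s) := by
    have : d * (3 * (d * (n * (s - 4) + t) + (10 - 2 * d) * n)) = 
      3 * ((d * n) * (s - 4) * d + d ^ 2 * t + (10 - 2 * d) * (d * n)) := by ring
    rw [this, ← hn]; ring
  rw [h4] at h3
  have hQ : 0 < 3 * d ^ 2 + 3 * s * (s - 6) * d + 30 * s := by
    nlinarith [sq_nonneg (d - 4), sq_nonneg (2 * d - 5), mul_nonneg (show (0:ℤ) ≤ s - 4 by linarith) (show (0:ℤ) ≤ d by linarith), mul_nonneg (mul_nonneg (show (0:ℤ) ≤ s - 4 by linarith) (show (0:ℤ) ≤ d by linarith)) (show (0:ℤ) ≤ s - 4 by linarith)]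
  have h5 : s * (3 * d ^ 2 + 3 * s * (s - 6) * d + 30 * s) ≤ d * (s * (2 * s ^ 2 - 6 * s + 7) - 3) :=
    le_trans (mul_le_mul_of_nonneg_right hst hQ.le) h3
  have hd4 : 4 ≤ d := by linarith
  rcases le_or_gt 13 s with h13 | h13
  · nlinarith [mul_nonneg (show (0:ℤ) ≤ s - 13 by linarith) (show (0:ℤ) ≤ d by linarith), 
      mul_nonneg (mul_nonneg (show (0:ℤ) ≤ s - 13 by linarith) (show (0:ℤ) ≤ d by linarith)) (show (0:ℤ) ≤ s by linarith),
      mul_nonneg (mul_nonneg (mul_nonneg (show (0:ℤ) ≤ s - 13 by linarith) (show (0:ℤ) ≤ d by linarith)) (show (0:ℤ) ≤ s by linarith)) (show (0:ℤ) ≤ s by linarith)]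
  · interval_cases s
    · -- s = 4
      have hd67 : d = 6 ∨ d = 7 := by
        have h6 : 6 ≤ d := by nlinarith
        have h7 : d ≤ 7 := by nlinarith
        omega
      rcases hd67 with rfl | rfl
      · have : t ≤ 4 := by nlinarith
        have : t = 4 := by omega
        subst this
        omega
      · have : t ≤ 4 := by nlinarith
        have : t = 4 := by omega
        subst this
        omega
    all_goals nlinarith [sq_nonneg (d - 5), sq_nonneg (d - 6), sq_nonneg (d - 7), sq_nonneg (d - 8)]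

end Groth.Agent.S18054
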