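import Groth.Statements.S18055
-- import your own Groth.Agent.* helpers here
import Mathlib

set_option autoImplicit false
open STCI

namespace Groth.Agent.S18055

theorem aux2 (d s t k : ℤ) (hd : 1 ≤ d) (hs : 1 ≤ s) (hst : s ≤ t)
    (hC' : d ^ 2 * t + d ≤ s * t * k)
    (hD' : (s * t - d) * k ≤ d ^ 2 * (s - 4) + d ^ 2 * t + 2 * d)
    (goal1 : s < 2 * d ^ 2) : t < 2 * d ^ 4 := by
  have ht : 1 ≤ t := le_trans hs hst
  have hu : 1 ≤ s * k - d ^ 2 := by
    by_contra h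
    have h' : s * k - d ^ 2 ≤ 0 := by omega
    have : t * (s * k - d ^ 2) ≤ 0 := mul_nonpos_of_nonneg_of_nonpos (by linarith) h'
    nlinarith
  set u := s * k - d ^ 2 with hu_def
  have hsk : s * k = u + d ^ 2 := by rw [hu_def]; ring
  have h1 : t * u ≤ d ^ 2 * s - 4 * d ^ 2 + 2 * d + d * k := by
    rw [hu_def]; nlinarith
  by_contra hcon
  have hcon : 2 * d ^ 4 ≤ t := by omega
  have h2 : 2 * d ^ 4 * u ≤ t * u := mul_le_mul_of_nonneg_right hcon (by linarith)
  have h3 : 2 * d ^ 4 * u ≤ d ^ 2 * s - 4 * d ^ 2 + 2 * d + d * k := le_trans h2 h1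
  have h4 : s * (2 * d ^ 4 * u) ≤ s * (d ^ 2 * s - 4 * d ^ 2 + 2 * d + d * k) := 
    mul_le_mul_of_nonneg_left h3 (by linarith)
  have h5 : u * (2 * d ^ 4 * s - d) ≤ d ^ 2 * s ^ 2 - 4 * d ^ 2 * s + 2 * d * s + d ^ 3 := by
    have : s * (d ^ 2 * s - 4 * d ^ 2 + 2 * d + d * k) = d ^ 2 * s ^ 2 - 4 * d ^ 2 * s + 2 * d * s + d * (s * k) := by ring
    rw [this, hsk] at h4
    nlinarith
  have hd4 : 1 ≤ d ^ 4 := by nlinarith [sq_nonneg d, sq_nonneg (d^2)]
  have h6 : 0 < 2 * d ^ 4 * s - d := by nlinarith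
  have h7 : 2 * d ^ 4 * s - d ≤ u * (2 * d ^ 4 * s - d) := by nlinarith
  have h8 : s ^ 2 ≤ 2 * d ^ 2 * s - 2 * d ^ 2 + 1 := by nlinarith
  have h9 : d ^ 2 * s ^ 2 ≤ d ^ 2 * (2 * d ^ 2 * s - 2 * d ^ 2 + 1) := 
    mul_le_mul_of_nonneg_left h8 (by positivity)
  have h10 : 0 ≤ s * (2 * d - 4 * d ^ 2) + (-2 * d ^ 4 + d ^ 3 + d ^ 2 + d) := by nlinarith
  have h11 : s * (2 * d - 4 * d ^ 2) ≤ 1 * (2 * d - 4 * d ^ 2) := by
    apply mul_le_mul_of_nonpos_right hs
    nlinarith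
  nlinarith [sq_nonneg d, sq_nonneg (d^2), mul_nonneg (show (0:ℤ) ≤ d - 1 by linarith) (show (0:ℤ) ≤ d by linarith), mul_nonneg (mul_nonneg (show (0:ℤ) ≤ d - 1 by linarith) (show (0:ℤ) ≤ d by linarith)) (show (0:ℤ) ≤ d by linarith)]

theorem aux1 (d s t k : ℤ) (hd : 1 ≤ d) (hs : 1 ≤ s) (hst : s ≤ t) (hk1 : 1 ≤ k)
    (hD' : (s * t - d) * k ≤ d ^ 2 * (s - 4) + d ^ 2 * t + 2 * d) : s < 2 * d ^ 2 := by
  have hd2 : 1 ≤ d ^ 2 := by nlinarith
  by_contra hcon
  have hcon : 2 * d ^ 2 ≤ s := by omega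
  have ht2 : 2 * d ^ 2 ≤ t := le_trans hcon hst
  have h0 : 0 ≤ (s - d ^ 2) * (t - d ^ 2) - d ^ 4 := by 
    have : d ^ 2 * d ^ 2 ≤ (s - d ^ 2) * (t - d ^ 2) := 
      mul_le_mul (by linarith) (by linarith) (by positivity) (by linarith)
    nlinarith
  have h1 : d ^ 2 * (s + t) * k ≤ s * t * k := by
    have : d ^ 2 * (s + t) ≤ s * t := by nlinarith
    exact mul_le_mul_of_nonneg_right this (by linarith)
  have h2 : d ^ 2 * (s + t) * (k - 1) ≤ - 4 * d ^ 2 + 2 * d + d * k := by nlinarith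
  have h3 : 4 * d ≤ d ^ 2 * (s + t) := by nlinarith
  have h4 : 4 * d * (k - 1) ≤ d ^ 2 * (s + t) * (k - 1) := 
    mul_le_mul_of_nonneg_right h3 (by linarith)
  nlinarith


/-- Let d ≥ 1, g ≥ 0 and 1 ≤ s ≤ t be integers with d dividing st, put n = st/d and r = d[n(s - 4) + t]
+ (2 - 2g)n, and assume n ≥ 2, r > 0 and (n - 1) divides r. Then s < 2d² and t < 2d⁴. This is the
statement about the degree data (d, g the degree and genus of the curve, s ≤ t the degrees of the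
two surfaces) to which the published proof reduces the degree bound: there the divisibility and
positivity express that r/(n - 1), the common value of the type numbers of the pair, is a positive
integer; the geometric hypotheses themselves are not part of this row. -/
theorem result (d g s t n : ℤ) (hd : 1 ≤ d) (hg : 0 ≤ g) (hs : 1 ≤ s) (hst : s ≤ t)
    (hn : s * t = d * n) (hn2 : 2 ≤ n)
    (hpos : 0 < d * (n * (s - 4) + t) + (2 - 2 * g) * n)
    (hdvd : (n - 1) ∣ d * (n * (s - 4) + t) + (2 - 2 * g) * n) :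
    s < 2 * d ^ 2 ∧ t < 2 * d ^ 4 := by
  obtain ⟨q, hq⟩ := hdvd
  have hN : 0 < n - 1 := by linarith
  have hq1 : 1 ≤ q := by
    by_contra h
    have : q ≤ 0 := by omega
    have : (n - 1) * q ≤ 0 := mul_nonpos_of_nonneg_of_nonpos hN.le this
    linarith
  set k := q - d * (s - 4) - 2 + 2 * g with hk
  have hB : d * (s - 4) + d * t + 2 - 2 * g = (n - 1) * k := by
    rw [hk]; linear_combination hq
  have hA : 2 * g ≤ k + d * (s - 4) + 1 := by rw [hk]; linarith
  have hC : d * t + 1 ≤ n * k := by nlinarith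
  have hk1 : 1 ≤ k := by
    by_contra h
    have : k ≤ 0 := by omega
    have : n * k ≤ 0 := mul_nonpos_of_nonneg_of_nonpos (by linarith) this
    nlinarith
  have hD : (n - 1) * k ≤ d * (s - 4) + d * t + 2 := by linarith
  have hC' : d ^ 2 * t + d ≤ s * t * k := by
    have : d * (d * t + 1) ≤ d * (n * k) := mul_le_mul_of_nonneg_left hC (by linarith)
    calc d ^ 2 * t + d = d * (d * t + 1) := by ring
      _ ≤ d * (n * k) := this
      _ = (d * n) * k := by ring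
      _ = s * t * k := by rw [← hn]
  have hD' : (s * t - d) * k ≤ d ^ 2 * (s - 4) + d ^ 2 * t + 2 * d := by
    have : d * ((n - 1) * k) ≤ d * (d * (s - 4) + d * t + 2) := mul_le_mul_of_nonneg_left hD (by linarith)
    calc (s * t - d) * k = d * ((n - 1) * k) := by rw [hn]; ring
      _ ≤ d * (d * (s - 4) + d * t + 2) := this
      _ = _ := by ring
  have goal1 : s < 2 * d ^ 2 := aux1 d s t k hd hs hst hk1 hD'
  exact ⟨goal1, aux2 d s t k hd hs hst hC' hD' goal1⟩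

end Groth.Agent.S18055
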