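import Groth.Statements.S18061
import Groth.Agent.Lib.Helper6.CoConnBC

set_option autoImplicit false
universe u
open scoped TensorProduct
open HopfRep

namespace Groth.Agent.S18061

/-- A is a discrete valuation ring, K denotes its field of fractions and k its residue field; G = Spec H
is a flat affine A-group scheme of finite presentation, H being a flat, finitely presented
commutative Hopf algebra over A. If the generic fibre G_K is unipotent (every nonzero
finite-dimensional representation has a nonzero fixed vector), then so is the special fibre G_k. -/
theorem result (A : Type u) [CommRing A] [IsDomain A] [IsDiscreteValuationRing A]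
    (K : Type u) [Field K] [Algebra A K] [IsFractionRing A K]
    (H : Type u) [CommRing H] [HopfAlgebra A H] [Module.Flat A H] [Algebra.FinitePresentation A H]
    (hK : HopfRep.IsUnipotent K (K ⊗[A] H)) :
    HopfRep.IsUnipotent (IsLocalRing.ResidueField A) (IsLocalRing.ResidueField A ⊗[A] H) := by
  haveI : FaithfulSMul A K :=
    (faithfulSMul_iff_algebraMap_injective A K).2 (IsFractionRing.injective A K)
  exact Groth.Agent.Helper6.CoConn.isUnipotent_of_isCoconn (IsLocalRing.ResidueField A)
    (IsLocalRing.ResidueField A ⊗[A] H)
    (Groth.Agent.Helper6.CoConn.isCoconn_baseChange A (IsLocalRing.ResidueField A) H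
      (Groth.Agent.Helper6.CoConn.isCoconn_of_baseChange A K H
        (Groth.Agent.Helper6.CoConn.isCoconn_of_isUnipotent K (K ⊗[A] H) hK)))

end Groth.Agent.S18061
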