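import Groth.Statements.S18122
-- import your own Groth.Agent.* helpers here
import Mathlib

set_option autoImplicit false
universe u
open Pinch

namespace Groth.Agent.S18122

/-- Let K be a field in which 2 ≠ 0, S = K[x, y], and R ⊆ S the K-subalgebra generated by x^2, x y and
y; R is the coordinate ring of the pinch point u^2 = v^2 w (u = x y, v = y, w = x^2) and S is its
normalization. Then restriction along R ⊆ S is a bijection from the K-derivations S → S onto the
K-derivations R → S: every K-derivation R → S extends uniquely to S. In sheaf terms, the natural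
injective map from the tangent sheaf of the normalization to the dual of the pulled-back sheaf of
differentials of the pinch point is an isomorphism. (The text works over an algebraically closed
field of characteristic different from 2 and for every semi-smooth variety; only this model case is
stated, and the computation uses only 2 ≠ 0.) -/
theorem result
    (K : Type u) [Field K] [NeZero (2 : K)] :
    letI R : Subalgebra K (MvPolynomial (Fin 2) K) :=
      Algebra.adjoin K {MvPolynomial.X 0 ^ 2, MvPolynomial.X 0 * MvPolynomial.X 1, MvPolynomial.X 1}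
    ∀ δ : Derivation K R (MvPolynomial (Fin 2) K),
      ∃! D : Derivation K (MvPolynomial (Fin 2) K) (MvPolynomial (Fin 2) K),
        ∀ r : R, D (r : MvPolynomial (Fin 2) K) = δ r := by
  open MvPolynomial in
  set x : MvPolynomial (Fin 2) K := X 0 with hx_def
  set y : MvPolynomial (Fin 2) K := X 1 with hy_def
  set R : Subalgebra K (MvPolynomial (Fin 2) K) := Algebra.adjoin K {x ^ 2, x * y, y} with hR
  intro δ
  have h2 : (2 : K) ≠ 0 := NeZero.ne 2
  have hC2 : (C (2⁻¹ : K) : MvPolynomial (Fin 2) K) * 2 = 1 := by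
    have : (2 : MvPolynomial (Fin 2) K) = C (2 : K) := (map_ofNat C 2).symm
    rw [this, ← C_mul, inv_mul_cancel₀ h2, C_1]
  have h2S : (2 : MvPolynomial (Fin 2) K) ≠ 0 := by
    intro h; rw [h, mul_zero] at hC2; exact zero_ne_one hC2
  have hx0 : x ≠ 0 := X_ne_zero 0
  have hy0 : y ≠ 0 := X_ne_zero 1
  have hX2 : x ^ 2 ∈ R := Algebra.subset_adjoin (by simp)
  have hXY : x * y ∈ R := Algebra.subset_adjoin (by simp)
  have hY : y ∈ R := Algebra.subset_adjoin (by simp)
  -- relation
  have hrel : (⟨x * y, hXY⟩ : R) * ⟨x * y, hXY⟩ = ⟨x ^ 2, hX2⟩ * (⟨y, hY⟩ * ⟨y, hY⟩) := by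
    apply Subtype.ext
    simp only [MulMemClass.mk_mul_mk]
    ring
  have h1 := congrArg δ hrel
  rw [Derivation.leibniz, Derivation.leibniz, Derivation.leibniz] at h1
  set a := δ ⟨x ^ 2, hX2⟩ with ha
  set b := δ ⟨x * y, hXY⟩ with hb
  set c := δ ⟨y, hY⟩ with hc
  have hsm : ∀ (r : R) (m : MvPolynomial (Fin 2) K), r • m = (r : MvPolynomial (Fin 2) K) * m :=
    fun r m => rfl
  simp only [hsm, MulMemClass.mk_mul_mk] at h1
  have h3 : y * (2 * x * b) = y * (2 * x ^ 2 * c + y * a) := by
    linear_combination h1
  have h4 : 2 * x * b = 2 * x ^ 2 * c + y * a := mul_left_cancel₀ hy0 h3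
  have hdvd : x ∣ y * a := by
    refine ⟨2 * b - 2 * x * c, ?_⟩
    linear_combination (-1 : MvPolynomial (Fin 2) K) * h4
  rw [hx_def, X_dvd_mul_iff] at hdvd
  have hxa : x ∣ a := by
    rcases hdvd with h | h
    · rw [hy_def, X_dvd_X] at h
      exact absurd h (by decide)
    · exact h
  obtain ⟨q, hq⟩ := hxa
  have h5 : x * (2 * b) = x * (2 * x * c + y * q) := by
    rw [hq] at h4
    linear_combination h4
  have h6 : 2 * b = 2 * x * c + y * q := mul_left_cancel₀ hx0 h5
  have h7 : b = x * c + y * (C (2⁻¹ : K) * q) := by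
    have := congrArg (fun t => C (2⁻¹ : K) * t) h6
    beta_reduce at this
    rw [← mul_assoc, hC2, one_mul] at this
    rw [this]
    linear_combination (x * c) * hC2
  obtain ⟨D, hD⟩ : ∃ D : Derivation K (MvPolynomial (Fin 2) K) (MvPolynomial (Fin 2) K),
      D = mkDerivation K ![C (2⁻¹ : K) * q, c] := ⟨_, rfl⟩
  have hDx : D x = C (2⁻¹ : K) * q := by rw [hD, hx_def, mkDerivation_X]; rfl
  have hDy : D y = c := by rw [hD, hy_def, mkDerivation_X]; rfl
  have hDxx : D (x ^ 2) = a := by
    rw [pow_two, Derivation.leibniz, hDx, hq, smul_eq_mul]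
    linear_combination (x * q) * hC2
  have hDxy : D (x * y) = b := by
    rw [Derivation.leibniz, hDx, hDy, h7, smul_eq_mul, smul_eq_mul]
  have hmain : ∀ r : R, D (r : MvPolynomial (Fin 2) K) = δ r := by
    have heq : D.compAlgebraMap R = δ := by
      apply Derivation.ext_of_adjoin_eq_top _ (Algebra.adjoin_adjoin_coe_preimage (R := K)
        (s := {x ^ 2, x * y, y}))
      intro r hr
      simp only [Set.mem_preimage, Set.mem_insert_iff, Set.mem_singleton_iff] at hr
      rw [Derivation.compAlgebraMap_apply]
      rcases hr with h | h | h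
      · have : r = ⟨x ^ 2, hX2⟩ := Subtype.ext h
        rw [this]; exact hDxx
      · have : r = ⟨x * y, hXY⟩ := Subtype.ext h
        rw [this]; exact hDxy
      · have : r = ⟨y, hY⟩ := Subtype.ext h
        rw [this]; exact hDy
    intro r
    rw [← heq]
    rfl
  refine ⟨D, hmain, ?_⟩
  intro D' hD'
  apply derivation_ext
  intro i
  fin_cases i
  · change D' x = D x
    have e1 : D' (x ^ 2) = a := hD' ⟨x ^ 2, hX2⟩
    rw [pow_two, Derivation.leibniz, smul_eq_mul, hq] at e1
    have e2 : x * (2 * D' x) = x * q := by linear_combination e1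
    have e3 := mul_left_cancel₀ hx0 e2
    rw [hDx, ← e3, ← mul_assoc, hC2, one_mul]
  · change D' y = D y
    rw [hDy]
    exact hD' ⟨y, hY⟩

end Groth.Agent.S18122
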