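import Groth.Statements.S18125
-- import your own Groth.Agent.* helpers here
import Mathlib

set_option autoImplicit false
universe u
open Pinch

namespace Groth.Agent.S18125

/-- Let K be a field in which 2 ≠ 0, n ≥ 0, S = K[u, v, w, t_1, …, t_n] (u, v, w the first three
variables), h = u^2 - v^2 w the equation of the pinch-point model, and Jac the ideal generated by h
and its three partial derivatives 2u, -2vw, -v^2, which cuts out the scheme-theoretic singular locus
of {h = 0}. Then the ideal (u, v) of the double locus is Jac + (v), and the colon ideal of Jac by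
(v) is (u, v, w). Consequently (u, v)/Jac, the ideal of the double locus restricted to the singular
locus, is an invertible sheaf on the pinch locus u = v = w = 0: it is free of rank one over K[t_1,
…, t_n] on the class of v. (The text states this for every semi-smooth variety and reduces to this
model; K algebraically closed is not needed for the model computation.) -/
theorem result
    (K : Type u) [Field K] [NeZero (2 : K)] (n : ℕ) :
    letI u : MvPolynomial (Fin (n + 3)) K := MvPolynomial.X 0
    letI v : MvPolynomial (Fin (n + 3)) K := MvPolynomial.X 1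
    letI w : MvPolynomial (Fin (n + 3)) K := MvPolynomial.X 2
    letI Jac : Ideal (MvPolynomial (Fin (n + 3)) K) :=
      Ideal.span {u ^ 2 - v ^ 2 * w, 2 * u, -(2 * v * w), -(v ^ 2)}
    Ideal.span {u, v} = Jac ⊔ Ideal.span {v} ∧ Jac.colon (Ideal.span {v}) = Ideal.span {u, v, w} := by
  open MvPolynomial in
  set u : MvPolynomial (Fin (n + 3)) K := MvPolynomial.X 0 with hu_def
  set v : MvPolynomial (Fin (n + 3)) K := MvPolynomial.X 1 with hv_def
  set w : MvPolynomial (Fin (n + 3)) K := MvPolynomial.X 2 with hw_def
  set Jac : Ideal (MvPolynomial (Fin (n + 3)) K) :=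
      Ideal.span {u ^ 2 - v ^ 2 * w, 2 * u, -(2 * v * w), -(v ^ 2)} with hJac
  have h2 : (2 : K) ≠ 0 := NeZero.ne 2
  have hC2 : (C (2⁻¹ : K) : MvPolynomial (Fin (n + 3)) K) * 2 = 1 := by
    have : (2 : MvPolynomial (Fin (n + 3)) K) = C (2 : K) := (map_ofNat C 2).symm
    rw [this, ← C_mul, inv_mul_cancel₀ h2, C_1]
  have hu : u ∈ Jac := by
    have h : 2 * u ∈ Jac := Ideal.subset_span (by simp)
    have := Jac.mul_mem_left (C (2⁻¹ : K)) h
    rwa [← mul_assoc, hC2, one_mul] at this
  have hvw : v * w ∈ Jac := by
    have h : -(2 * v * w) ∈ Jac := Ideal.subset_span (by simp)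
    have := Jac.mul_mem_left (-C (2⁻¹ : K)) h
    have e : -C (2⁻¹ : K) * -(2 * v * w) = (C (2⁻¹ : K) * 2) * (v * w) := by ring
    rwa [e, hC2, one_mul] at this
  have hvv : v * v ∈ Jac := by
    have h : -(v ^ 2) ∈ Jac := Ideal.subset_span (by simp)
    have := Jac.neg_mem h
    rwa [neg_neg, pow_two] at this
  have hJle : Jac ≤ Ideal.span {u, v} := by
    apply Ideal.span_le.mpr
    intro g hg
    simp only [Set.mem_insert_iff, Set.mem_singleton_iff] at hg
    have hu' : u ∈ Ideal.span {u, v} := Ideal.subset_span (by simp)
    have hv' : v ∈ Ideal.span {u, v} := Ideal.subset_span (by simp)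
    rcases hg with rfl | rfl | rfl | rfl
    · have e : u ^ 2 - v ^ 2 * w = u * u - (v * w) * v := by ring
      rw [e]
      exact Ideal.sub_mem _ (Ideal.mul_mem_left _ _ hu') (Ideal.mul_mem_left _ _ hv')
    · exact Ideal.mul_mem_left _ _ hu'
    · have e : -(2 * v * w) = (-(2 * w)) * v := by ring
      rw [e]; exact Ideal.mul_mem_left _ _ hv'
    · have e : -(v ^ 2) = (-v) * v := by ring
      rw [e]; exact Ideal.mul_mem_left _ _ hv'
  constructor
  · apply le_antisymm
    · apply Ideal.span_le.mpr
      intro g hg
      simp only [Set.mem_insert_iff, Set.mem_singleton_iff] at hg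
      rcases hg with rfl | rfl
      · exact Ideal.mem_sup_left hu
      · exact Ideal.mem_sup_right (Ideal.subset_span rfl)
    · apply sup_le hJle
      apply Ideal.span_le.mpr
      intro g hg
      rw [Set.mem_singleton_iff] at hg
      subst hg
      exact Ideal.subset_span (by simp)
  · have hv0 : v ≠ 0 := X_ne_zero 1
    apply le_antisymm
    · intro f hf
      rw [Submodule.mem_colon] at hf
      have hfv : f * v ∈ Jac := by
        have := hf v (Ideal.subset_span rfl)
        rwa [smul_eq_mul] at this
      rw [hJac, Ideal.mem_span_insert] at hfv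
      obtain ⟨c1, z1, hz1, e1⟩ := hfv
      rw [Ideal.mem_span_insert] at hz1
      obtain ⟨c2, z2, hz2, e2⟩ := hz1
      rw [Ideal.mem_span_insert] at hz2
      obtain ⟨c3, z3, hz3, e3⟩ := hz2
      rw [Ideal.mem_span_singleton'] at hz3
      obtain ⟨c4, e4⟩ := hz3
      -- the substitution u ↦ 0
      let φ : MvPolynomial (Fin (n + 3)) K →ₐ[K] MvPolynomial (Fin (n + 3)) K :=
        aeval (fun i : Fin (n + 3) => if i = 0 then 0 else X i)
      have φu : φ u = 0 := by simp [φ, hu_def]
      have φv : φ v = v := by
        simp only [φ, hv_def, aeval_X]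
        rw [if_neg (by simp)]
      have φw : φ w = w := by
        simp only [φ, hw_def, aeval_X]
        rw [if_neg]
        intro h
        have := congrArg Fin.val h
        rw [Fin.val_two, Fin.val_zero] at this
        omega
      have hsub : ∀ g, g - φ g ∈ Ideal.span {u} := by
        intro g
        have hq : (Ideal.Quotient.mkₐ K (Ideal.span {u})).comp φ =
            Ideal.Quotient.mkₐ K (Ideal.span {u}) := by
          apply MvPolynomial.algHom_ext
          intro i
          simp only [AlgHom.comp_apply, φ, aeval_X]
          split_ifs with hi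
          · subst hi
            rw [map_zero]
            symm
            rw [Ideal.Quotient.mkₐ_eq_mk, Ideal.Quotient.eq_zero_iff_mem]
            exact Ideal.subset_span rfl
          · rfl
        have := DFunLike.congr_fun hq g
        simp only [AlgHom.comp_apply, Ideal.Quotient.mkₐ_eq_mk] at this
        exact Ideal.Quotient.eq.mp this.symm
      have h3 : φ f * v = v * (-(φ c1 * v * w) - 2 * φ c3 * w - φ c4 * v) := by
        have := congrArg φ e1
        rw [e2, e3, ← e4] at this
        simp only [map_mul, map_add, map_sub, map_neg, map_pow, φu, φv, φw, map_ofNat] at this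
        rw [this]; ring
      have h4 : φ f = -(φ c1 * v * w) - 2 * φ c3 * w - φ c4 * v := by
        rw [mul_comm] at h3
        exact mul_left_cancel₀ hv0 h3
      have hu' : u ∈ Ideal.span {u, v, w} := Ideal.subset_span (by simp)
      have hv' : v ∈ Ideal.span {u, v, w} := Ideal.subset_span (by simp)
      have hw' : w ∈ Ideal.span {u, v, w} := Ideal.subset_span (by simp)
      have h5 : φ f ∈ Ideal.span {u, v, w} := by
        rw [h4]
        refine Ideal.sub_mem _ (Ideal.sub_mem _ (Ideal.neg_mem_iff _ |>.mpr ?_) ?_) ?_
        · exact Ideal.mul_mem_left _ _ hw'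
        · exact Ideal.mul_mem_left _ _ hw'
        · exact Ideal.mul_mem_left _ _ hv'
      have h6 : f - φ f ∈ Ideal.span {u, v, w} :=
        (Ideal.span_mono (by simp)) (hsub f)
      have := Ideal.add_mem _ h6 h5
      rwa [sub_add_cancel] at this
    · apply Ideal.span_le.mpr
      intro g hg
      simp only [Set.mem_insert_iff, Set.mem_singleton_iff] at hg
      have hgv : g * v ∈ Jac := by
        rcases hg with rfl | rfl | rfl
        · exact Jac.mul_mem_right _ hu
        · exact hvv
        · rw [mul_comm]; exact hvw
      rw [SetLike.mem_coe, Submodule.mem_colon]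
      intro p hp
      rw [SetLike.mem_coe, Ideal.mem_span_singleton'] at hp
      obtain ⟨c, rfl⟩ := hp
      rw [smul_eq_mul]
      have e : g * (c * v) = c * (g * v) := by ring
      rw [e]
      exact Jac.mul_mem_left _ hgv

end Groth.Agent.S18125
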