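import Groth.Statements.S18127
-- import your own Groth.Agent.* helpers here
import Mathlib

set_option autoImplicit false
universe u
open LocAlg

namespace Groth.Agent.S18127

namespace T127
open Matrix

variable {R : Type u} [CommRing R] {k : Type*} [Field k] {n : ℕ}

/-- lifting a list of transvections along a surjective ring hom -/
theorem exists_lift_transvec (π : R →+* k) (hπ : Function.Surjective π)
    (L : List (TransvectionStruct (Fin n) k)) :
    ∃ P : Matrix (Fin n) (Fin n) R, P.det = 1 ∧ P.map π = (L.map TransvectionStruct.toMatrix).prod := by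
  induction L with
  | nil => exact ⟨1, det_one, by simp⟩
  | cons t L ih =>
    obtain ⟨P, hP1, hP2⟩ := ih
    obtain ⟨c, hc⟩ := hπ t.c
    refine ⟨transvection t.i t.j c * P, ?_, ?_⟩
    · rw [det_mul, det_transvection_of_ne _ _ t.hij, hP1, one_mul]
    · rw [Matrix.map_mul, hP2, List.map_cons, List.prod_cons]
      congr 1
      simp only [transvection, TransvectionStruct.toMatrix]
      rw [Matrix.map_add _ (map_add π), Matrix.map_single, hc, Matrix.map_one _ (map_zero π) (map_one π)]

theorem det_mem_pow_of_cols (I : Ideal R) (N : Matrix (Fin n) (Fin n) R) (Z : Finset (Fin n))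
    (hZ : ∀ j ∈ Z, ∀ i, N i j ∈ I) : N.det ∈ I ^ Z.card := by
  rw [det_apply]
  apply Ideal.sum_mem
  intro σ _
  apply Submodule.smul_of_tower_mem
  rw [← Finset.prod_mul_prod_compl Z]
  apply Ideal.mul_mem_right
  have : (∏ i ∈ Z, N (σ i) i) ∈ ∏ _i ∈ Z, I := Ideal.prod_mem_prod (fun i hi => hZ i hi (σ i))
  rwa [Finset.prod_const] at this

end T127



/-- Let R be a local ring with maximal ideal m and algebraically closed residue field, and M an n × n
matrix over R whose reduction modulo m has rank at most r. Then the determinant of M lies in m^(n −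
r). (The published setting is the local ring of germs of holomorphic functions at a point of a
complex manifold, where this says that the determinant vanishes to order at least n − r at a point
where the matrix has rank at most r.) -/
theorem result
    {R : Type u} [CommRing R] [IsLocalRing R] [IsAlgClosed (IsLocalRing.ResidueField R)]
    {n : ℕ} (M : Matrix (Fin n) (Fin n) R) (r : ℕ)
    (hr : (M.map (IsLocalRing.residue R)).rank ≤ r) :
    M.det ∈ IsLocalRing.maximalIdeal R ^ (n - r) := by
  open Matrix in
  classical
  set π := IsLocalRing.residue R with hπdef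
  have hπ : Function.Surjective π := IsLocalRing.residue_surjective
  obtain ⟨L, L', D, hD⟩ := Matrix.Pivot.exists_list_transvec_mul_mul_list_transvec_eq_diagonal (M.map π)
  obtain ⟨P, hP1, hP2⟩ := T127.exists_lift_transvec π hπ L
  obtain ⟨Q, hQ1, hQ2⟩ := T127.exists_lift_transvec π hπ L'
  have hN : (P * M * Q).map π = diagonal D := by
    rw [Matrix.map_mul, Matrix.map_mul, hP2, hQ2, hD]
  have hrank : (diagonal D).rank ≤ r := by
    rw [← hD, rank_mul_eq_left_of_isUnit_det _ _ (by rw [TransvectionStruct.det_toMatrix_prod]; exact isUnit_one),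
      rank_mul_eq_right_of_isUnit_det _ _ (by rw [TransvectionStruct.det_toMatrix_prod]; exact isUnit_one)]
    exact hr
  rw [rank_diagonal] at hrank
  set Z : Finset (Fin n) := Finset.univ.filter (fun i => D i = 0) with hZdef
  have hZcard : n - r ≤ Z.card := by
    have h1 : Fintype.card {i // D i ≠ 0} = (Finset.univ.filter (fun i => ¬ D i = 0)).card :=
      Fintype.card_subtype _
    have h2 : Z.card + (Finset.univ.filter (fun i => ¬ D i = 0)).card = n := by
      rw [hZdef, Finset.card_filter_add_card_filter_not]; simp
    rw [h1] at hrank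
    omega
  have hcols : ∀ j ∈ Z, ∀ i, (P * M * Q) i j ∈ IsLocalRing.maximalIdeal R := by
    intro j hj i
    rw [hZdef, Finset.mem_filter] at hj
    rw [← IsLocalRing.residue_eq_zero_iff]
    have := congrFun (congrFun hN i) j
    rw [Matrix.map_apply] at this
    rw [this, diagonal_apply]
    split_ifs with h
    · rw [h]; exact hj.2
    · rfl
  have hdet : (P * M * Q).det = M.det := by
    rw [det_mul, det_mul, hP1, hQ1, one_mul, mul_one]
  rw [← hdet]
  exact Ideal.pow_le_pow_right hZcard (T127.det_mem_pow_of_cols _ _ Z hcols)

end Groth.Agent.S18127
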