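import Groth.Statements.S18128
import Groth.Agent.Lib.Helper28.ReflDepth
import Groth.Agent.Lib.Lead.NFReg

set_option autoImplicit false
universe u
open CAlg

namespace Groth.Agent.S18128

open LocCoh IsLocalRing Groth.Agent.Lead.Depth

theorem le_sub_one {b k : ℕ∞} (h : k + 1 ≤ b) : k ≤ b - 1 := by
  have h1 : (1 : ℕ∞) ≤ b := le_trans le_add_self h
  have h2 : k + 1 ≤ (b - 1) + 1 := by
    rw [tsub_add_cancel_of_le h1]
    exact h
  exact (ENat.add_le_add_iff_right ENat.one_ne_top).mp h2

variable {R : Type u} [CommRing R] [IsLocalRing R] [IsNoetherianRing R]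

/-- If `F/N` has positive depth and `z` lies in `N` locally at every non-maximal prime, then
`z ∈ N`. -/
theorem mem_of_depth {F : Type u} [AddCommGroup F] [Module R F] [Module.Finite R F]
    (N : Submodule R F) (hdepth : 1 ≤ idealDepth (maximalIdeal R) (F ⧸ N)) (z : F)
    (hloc : ∀ (p : Ideal R) [p.IsPrime], p ≠ maximalIdeal R → ∃ s : R, s ∉ p ∧ s • z ∈ N) :
    z ∈ N := by
  classical
  by_contra hzN
  obtain ⟨x, hx⟩ : ∃ x : F ⧸ N, x = Submodule.Quotient.mk z := ⟨_, rfl⟩
  have hx0 : x ≠ 0 := by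
    rw [hx]
    intro h0
    exact hzN ((Submodule.Quotient.mk_eq_zero N).1 h0)
  obtain ⟨I, hI⟩ : ∃ I : Ideal R, I = Ideal.torsionOf R (F ⧸ N) x := ⟨_, rfl⟩
  have hmemI : ∀ r : R, r ∈ I ↔ r • x = 0 := by
    intro r
    rw [hI, Ideal.mem_torsionOf_iff]
  have hIne : I ≠ ⊤ := by
    intro h
    have h1 : (1 : R) ∈ I := by rw [h]; trivial
    rw [hmemI, one_smul] at h1
    exact hx0 h1
  have hprime : ∀ p : Ideal R, p.IsPrime → I ≤ p → p = maximalIdeal R := by
    intro p hp hIp
    by_contra hne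
    haveI := hp
    obtain ⟨s, hsp, hsz⟩ := hloc p hne
    apply hsp
    apply hIp
    rw [hmemI, hx, ← Submodule.Quotient.mk_smul, Submodule.Quotient.mk_eq_zero]
    exact hsz
  have hrad : maximalIdeal R ≤ I.radical := by
    rw [Ideal.radical_eq_sInf]
    apply le_sInf
    rintro J ⟨hIJ, hJ⟩
    rw [hprime J hJ hIJ]
  obtain ⟨k, hk⟩ := Ideal.exists_radical_pow_le_of_fg I (IsNoetherian.noetherian _)
  have hex : ∃ k, maximalIdeal R ^ k ≤ I := ⟨k, le_trans (Ideal.pow_right_mono hrad k) hk⟩
  obtain ⟨k0, hk0, hmin⟩ : ∃ k0, maximalIdeal R ^ k0 ≤ I ∧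
      ∀ k' < k0, ¬ maximalIdeal R ^ k' ≤ I :=
    ⟨Nat.find hex, Nat.find_spec hex, fun k' hk' => Nat.find_min hex hk'⟩
  cases k0 with
  | zero =>
    apply hIne
    rw [pow_zero, Ideal.one_eq_top, top_le_iff] at hk0
    exact hk0
  | succ j =>
    have hnot := hmin j (Nat.lt_succ_self j)
    obtain ⟨a, haj, haI⟩ := SetLike.not_le_iff_exists.1 hnot
    have hy : a • x ≠ 0 := fun h => haI ((hmemI a).2 h)
    apply hy
    refine (Groth.Agent.Helper28.ReflDepth.one_le_idealDepth_iff (maximalIdeal R) (F ⧸ N)).1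
      hdepth (a • x) ?_
    intro b hb
    rw [smul_smul]
    apply (hmemI (b * a)).1
    apply hk0
    rw [pow_succ']
    exact Ideal.mul_mem_mul hb haj

theorem exists_smul_eq_zero (p : Ideal R) [hp : p.IsPrime] {k : ℕ} (g : Fin k → R)
    (hg : ∀ i, algebraMap R (Localization.AtPrime p) (g i) = 0) :
    ∃ t : R, t ∉ p ∧ ∀ i, t * g i = 0 := by
  classical
  have h1 : ∀ i, ∃ m : p.primeCompl, (m : R) * g i = 0 := fun i =>
    (IsLocalization.map_eq_zero_iff p.primeCompl (Localization.AtPrime p) (g i)).1 (hg i)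
  choose t ht using h1
  refine ⟨∏ i, (t i : R), ?_, ?_⟩
  · have h2 : (∏ i, (t i : R)) ∈ p.primeCompl :=
      Submonoid.prod_mem _ (fun i _ => (t i).2)
    exact Ideal.mem_primeCompl_iff.1 h2
  · intro i
    obtain ⟨c, hc⟩ := Finset.dvd_prod_of_mem (fun i => (t i : R)) (Finset.mem_univ i)
    have h3 : (∏ j, (t j : R)) * g i = c * ((t i : R) * g i) := by
      rw [hc]
      ring
    rw [h3, ht i, mul_zero]

theorem exists_smul_mem_bot (p : Ideal R) [hp : p.IsPrime] {a b : ℕ}
    (A : Matrix (Fin a) (Fin b) R)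
    (h : LinearMap.ker (A.map (algebraMap R (Localization.AtPrime p))).mulVecLin = ⊥)
    (z : Fin b → R) (hz : A.mulVec z = 0) :
    ∃ s : R, s ∉ p ∧ s • z ∈ (⊥ : Submodule R (Fin b → R)) := by
  have hzker : (algebraMap R (Localization.AtPrime p) ∘ z) ∈
      LinearMap.ker (A.map (algebraMap R (Localization.AtPrime p))).mulVecLin := by
    rw [LinearMap.mem_ker, Matrix.mulVecLin_apply]
    funext i
    rw [← RingHom.map_mulVec, hz]
    simp
  rw [h, Submodule.mem_bot] at hzker
  have hg : ∀ i, algebraMap R (Localization.AtPrime p) (z i) = 0 := fun i => congrFun hzker i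
  obtain ⟨t, htp, ht⟩ := exists_smul_eq_zero p z hg
  refine ⟨t, htp, ?_⟩
  rw [Submodule.mem_bot]
  funext i
  rw [Pi.smul_apply, smul_eq_mul, ht i, Pi.zero_apply]

theorem exists_smul_mem_range (p : Ideal R) [hp : p.IsPrime] {a b c : ℕ}
    (A : Matrix (Fin a) (Fin b) R) (C : Matrix (Fin b) (Fin c) R)
    (h : LinearMap.ker (A.map (algebraMap R (Localization.AtPrime p))).mulVecLin =
      LinearMap.range (C.map (algebraMap R (Localization.AtPrime p))).mulVecLin)
    (z : Fin b → R) (hz : A.mulVec z = 0) :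
    ∃ s : R, s ∉ p ∧ s • z ∈ LinearMap.range C.mulVecLin := by
  classical
  have hzker : (algebraMap R (Localization.AtPrime p) ∘ z) ∈
      LinearMap.ker (A.map (algebraMap R (Localization.AtPrime p))).mulVecLin := by
    rw [LinearMap.mem_ker, Matrix.mulVecLin_apply]
    funext i
    rw [← RingHom.map_mulVec, hz]
    simp
  rw [h] at hzker
  obtain ⟨w, hw⟩ := hzker
  rw [Matrix.mulVecLin_apply] at hw
  obtain ⟨s, hs⟩ := IsLocalization.exist_integer_multiples_of_finite p.primeCompl w
  have hs' : ∀ i, ∃ r : R, algebraMap R (Localization.AtPrime p) r = (s : R) • w i :=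
    fun i => RingHom.mem_rangeS.1 (hs i)
  choose w' hw' using hs'
  have h1 : (algebraMap R (Localization.AtPrime p) ∘ w') =
      algebraMap R (Localization.AtPrime p) (s : R) • w := by
    funext k
    show algebraMap R (Localization.AtPrime p) (w' k) =
      algebraMap R (Localization.AtPrime p) (s : R) * w k
    rw [hw' k, Algebra.smul_def]
  have hCw : (C.map (algebraMap R (Localization.AtPrime p))).mulVec
      (algebraMap R (Localization.AtPrime p) ∘ w') =
      algebraMap R (Localization.AtPrime p) (s : R) •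
        (algebraMap R (Localization.AtPrime p) ∘ z) := by
    rw [h1, Matrix.mulVec_smul, hw]
  have hg : ∀ i, algebraMap R (Localization.AtPrime p) ((C.mulVec w' - (s : R) • z) i) = 0 := by
    intro i
    have h2 : algebraMap R (Localization.AtPrime p) (C.mulVec w' i) =
        (C.map (algebraMap R (Localization.AtPrime p))).mulVec
          (algebraMap R (Localization.AtPrime p) ∘ w') i :=
      RingHom.map_mulVec (algebraMap R (Localization.AtPrime p)) C w' i
    rw [Pi.sub_apply, map_sub, h2, hCw, Pi.smul_apply, Pi.smul_apply, Function.comp_apply,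
      smul_eq_mul, smul_eq_mul, map_mul, sub_self]
  obtain ⟨t, htp, ht⟩ := exists_smul_eq_zero p (C.mulVec w' - (s : R) • z) hg
  refine ⟨t * (s : R), ?_, ?_⟩
  · intro h'
    exact (hp.mem_or_mem h').elim htp (Ideal.mem_primeCompl_iff.1 s.2)
  · refine ⟨t • w', ?_⟩
    rw [Matrix.mulVecLin_apply, Matrix.mulVec_smul]
    funext i
    have h3 := ht i
    simp only [Pi.smul_apply, Pi.sub_apply, smul_eq_mul] at h3 ⊢
    linear_combination h3

end Groth.Agent.S18128

namespace Groth.Agent.S18128

/-- Local step of Buchsbaum–Eisenbud: let R be a Noetherian local ring with maximal ideal m, and 0 →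
R^(n_e) → ⋯ → R^(n_1) → R^(n_0) a complex of finite free modules, the map R^(n_(i+1)) → R^(n_i)
being given by the matrix A i, with 1 ≤ e and e at most the depth of R (there is an R-regular
sequence of length e inside m). If for every prime ideal p ≠ m the complex of matrices over R_p
obtained by localization is exact at R_p^(n_e), …, R_p^(n_1), then the complex is exact at R^(n_e),
…, R^(n_1). -/
theorem result
    {R : Type u} [CommRing R] [IsLocalRing R] [IsNoetherianRing R]
    (e : ℕ) (he : 1 ≤ e) (n : ℕ → ℕ) (A : (i : ℕ) → Matrix (Fin (n i)) (Fin (n (i + 1))) R)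
    (hA : ∀ i, i + 2 ≤ e → A i * A (i + 1) = 0)
    (rs : List R) (hlen : rs.length = e) (hmem : ∀ x ∈ rs, x ∈ IsLocalRing.maximalIdeal R)
    (hreg : RingTheory.Sequence.IsRegular R rs)
    (hloc : ∀ (p : Ideal R) [p.IsPrime], p ≠ IsLocalRing.maximalIdeal R →
      LinearMap.ker ((A (e - 1)).map (algebraMap R (Localization.AtPrime p))).mulVecLin = ⊥ ∧
        ∀ i, i + 2 ≤ e →
          LinearMap.ker ((A i).map (algebraMap R (Localization.AtPrime p))).mulVecLin =
            LinearMap.range ((A (i + 1)).map (algebraMap R (Localization.AtPrime p))).mulVecLin) :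
    LinearMap.ker (A (e - 1)).mulVecLin = ⊥ ∧
      ∀ i, i + 2 ≤ e → LinearMap.ker (A i).mulVecLin = LinearMap.range (A (i + 1)).mulVecLin := by
  classical
  have hfree : ∀ k : ℕ, (e : ℕ∞) ≤ LocCoh.idealDepth (IsLocalRing.maximalIdeal R) (Fin k → R) := by
    intro k
    rw [← hlen]
    exact Groth.Agent.Lead.Depth.le_idealDepth_of_isWeaklyRegular _ _ rs
      (Groth.Agent.Lead.NFReg.isWeaklyRegular_of_flat rs hreg.toIsWeaklyRegular) hmem
  obtain ⟨B, hB⟩ : ∃ B : (i : ℕ) → Submodule R (Fin (n i) → R),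
      ∀ i, B i = if i < e then LinearMap.range (A i).mulVecLin else ⊥ := ⟨_, fun _ => rfl⟩
  have hBlt : ∀ i, i < e → B i = LinearMap.range (A i).mulVecLin := fun i hi => by
    rw [hB, if_pos hi]
  have hle : ∀ j, j + 1 ≤ e → B (j + 1) ≤ LinearMap.ker (A j).mulVecLin := by
    intro j hj
    by_cases hj2 : j + 1 < e
    · rw [hBlt _ hj2]
      rintro _ ⟨w, rfl⟩
      rw [LinearMap.mem_ker, Matrix.mulVecLin_apply, Matrix.mulVecLin_apply, Matrix.mulVec_mulVec,
        hA j (by omega), Matrix.zero_mulVec]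
    · rw [hB, if_neg hj2]
      exact bot_le
  have hcd : ∀ j, j + 1 ≤ e → ∀ (p : Ideal R) [p.IsPrime], p ≠ IsLocalRing.maximalIdeal R →
      ∀ z ∈ LinearMap.ker (A j).mulVecLin, ∃ s : R, s ∉ p ∧ s • z ∈ B (j + 1) := by
    intro j hj p _ hp z hz
    rw [LinearMap.mem_ker, Matrix.mulVecLin_apply] at hz
    by_cases hj2 : j + 1 < e
    · rw [hBlt _ hj2]
      exact Groth.Agent.S18128.exists_smul_mem_range p (A j) (A (j + 1))
        ((hloc p hp).2 j (by omega)) z hz
    · have hje : j = e - 1 := by omega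
      subst hje
      rw [hB, if_neg hj2]
      exact Groth.Agent.S18128.exists_smul_mem_bot p (A (e - 1)) (hloc p hp).1 z hz
  have key : ∀ d j : ℕ, j + 1 + d = e →
      ((j + 1 : ℕ) : ℕ∞) ≤ LocCoh.idealDepth (IsLocalRing.maximalIdeal R)
        ((Fin (n (j + 1)) → R) ⧸ B (j + 1)) := by
    intro d
    induction d with
    | zero =>
      intro j hj
      have hbot : B (j + 1) = ⊥ := by rw [hB, if_neg (by omega)]
      rw [Groth.Agent.Lead.Depth.idealDepth_congr (IsLocalRing.maximalIdeal R)
        (Submodule.quotEquivOfEqBot (B (j + 1)) hbot)]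
      have h1 : ((j + 1 : ℕ) : ℕ∞) = (e : ℕ∞) := by rw [show j + 1 = e by omega]
      rw [h1]
      exact hfree _
    | succ d ih =>
      intro j hj
      have ih1 := ih (j + 1) (by omega)
      have hex : LinearMap.ker (A (j + 1)).mulVecLin = B (j + 1 + 1) := by
        refine le_antisymm ?_ (hle (j + 1) (by omega))
        intro z hz
        refine Groth.Agent.S18128.mem_of_depth (B (j + 1 + 1)) ?_ z
          (fun p _ hp => hcd (j + 1) (by omega) p hp z hz)
        refine le_trans ?_ ih1
        exact_mod_cast (by omega : 1 ≤ j + 1 + 1)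
      have hBj : B (j + 1) = LinearMap.range (A (j + 1)).mulVecLin := hBlt _ (by omega)
      have hdB : ((j + 1 + 1 : ℕ) : ℕ∞) ≤
          LocCoh.idealDepth (IsLocalRing.maximalIdeal R) ↥(B (j + 1)) := by
        have e1 : ((Fin (n (j + 1 + 1)) → R) ⧸ B (j + 1 + 1)) ≃ₗ[R] ↥(B (j + 1)) :=
          (Submodule.quotEquivOfEq _ _ hex.symm).trans
            ((A (j + 1)).mulVecLin.quotKerEquivRange.trans (LinearEquiv.ofEq _ _ hBj.symm))
        rw [← Groth.Agent.Lead.Depth.idealDepth_congr (IsLocalRing.maximalIdeal R) e1]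
        exact ih1
      have hses := (Groth.Agent.Lead.Depth.idealDepth_shortExact (IsLocalRing.maximalIdeal R)
        ↥(B (j + 1)) (Fin (n (j + 1)) → R) ((Fin (n (j + 1)) → R) ⧸ B (j + 1))
        (B (j + 1)).subtype (B (j + 1)).mkQ (Submodule.injective_subtype _)
        (Submodule.mkQ_surjective _) (LinearMap.exact_subtype_mkQ _)).2.1
      refine le_trans (le_min ?_ ?_) hses
      · refine le_trans ?_ (hfree _)
        exact_mod_cast (by omega : j + 1 ≤ e)
      · apply Groth.Agent.S18128.le_sub_one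
        have h2 : ((j + 1 : ℕ) : ℕ∞) + 1 = ((j + 1 + 1 : ℕ) : ℕ∞) := by
          push_cast
          rfl
        rw [h2]
        exact hdB
  have hexact : ∀ j, j + 1 ≤ e → LinearMap.ker (A j).mulVecLin = B (j + 1) := by
    intro j hj
    refine le_antisymm ?_ (hle j hj)
    intro z hz
    refine Groth.Agent.S18128.mem_of_depth (B (j + 1)) ?_ z
      (fun p _ hp => hcd j hj p hp z hz)
    refine le_trans ?_ (key (e - (j + 1)) j (by omega))
    exact_mod_cast (by omega : 1 ≤ j + 1)
  refine ⟨?_, ?_⟩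
  · have h1 := hexact (e - 1) (by omega)
    rw [h1, hB, if_neg (by omega)]
  · intro i hi
    rw [hexact i (by omega), hBlt _ (by omega)]

end Groth.Agent.S18128
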