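import Groth.Statements.S18190
-- import your own Groth.Agent.* helpers here
import Groth.Agent.Lib.Helper27.RootSum

set_option autoImplicit false
open OrbRR

namespace Groth.Agent.S18190

/-- Let N ≥ 1 and let f : ℤ/Nℤ → ℚ be f(x) = x(x − N)/2 + (N² − 1)/12, where x is read as its
representative with 0 ≤ x < N. The real N × N matrix indexed by ℤ/Nℤ whose (i, j) entry is f(j −
i)/N, a symmetric circulant matrix, is positive semidefinite. -/
theorem result (N : ℕ) [NeZero N] :
    (Matrix.of fun i j : ZMod N =>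
        ((((j - i).val : ℝ) * (((j - i).val : ℝ) - (N : ℝ))) / 2 + ((N : ℝ) ^ 2 - 1) / 12) / (N : ℝ)).PosSemidef := by
  open Finset Groth.Agent.Helper27 in
  have hN : 0 < N := Nat.pos_of_ne_zero (NeZero.ne N)
  have hNR : (N : ℝ) ≠ 0 := by exact_mod_cast hN.ne'
  set ζ : ℂ := Complex.exp (2 * Real.pi * Complex.I / N) with hζdef
  have hζ : IsPrimitiveRoot ζ N := Complex.isPrimitiveRoot_exp N hN.ne'
  have hnorm : ∀ t : ℕ, ‖ζ ^ t‖ = 1 := fun t => by
    rw [norm_pow, hζ.norm'_eq_one hN.ne', one_pow]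
  choose r hr0 hr using fun k => inv_D_eq_ofReal hζ hN k
  apply Matrix.PosSemidef.of_dotProduct_mulVec_nonneg
  · -- Hermitian
    ext a b
    simp only [Matrix.conjTranspose_apply, Matrix.of_apply, star_trivial]
    by_cases hab : a = b
    · subst hab; rfl
    · have hne : b - a ≠ 0 := sub_ne_zero.mpr (Ne.symm hab)
      have hv : ((a - b).val : ℝ) = (N : ℝ) - ((b - a).val : ℝ) := by
        have h1 : a - b = -(b - a) := by ring
        rw [h1, ZMod.neg_val, if_neg hne, Nat.cast_sub (ZMod.val_lt _).le]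
      rw [hv]
      ring
  · intro x
    have key : ((star x ⬝ᵥ ((Matrix.of fun i j : ZMod N =>
        ((((j - i).val : ℝ) * (((j - i).val : ℝ) - (N : ℝ))) / 2 + ((N : ℝ) ^ 2 - 1) / 12) / (N : ℝ)).mulVec x) : ℝ) : ℂ)
        = ((∑ k ∈ Ioo 0 N, r k / N * Complex.normSq (∑ a : ZMod N, (x a : ℂ) * ζ ^ (k * a.val)) : ℝ) : ℂ) := by
      have h6 : (6 : ℂ) ≠ 0 := by norm_num
      simp only [dotProduct, Matrix.mulVec, Matrix.of_apply, star_trivial, Pi.star_apply]
      push_cast
      have hF : ∀ a b : ZMod N, (((b - a).val : ℂ) * (((b - a).val : ℂ) - (N : ℂ)) / 2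
          + ((N : ℂ) ^ 2 - 1) / 12) = ∑ k ∈ Ioo 0 N, ζ ^ (k * b.val) * (ζ ^ (k * a.val))⁻¹ * (r k : ℂ) := by
        intro a b
        rw [← key188 ℂ h6 N hN ζ hζ (b - a).val (ZMod.val_lt _).le]
        apply Finset.sum_congr rfl
        intro k _
        rw [zmod_pow_sub hζ, ← hr k, div_eq_mul_inv]
      simp only [hF]
      have hconj : ∀ k : ℕ, (Complex.normSq (∑ a : ZMod N, (x a : ℂ) * ζ ^ (k * a.val)) : ℂ)
          = (∑ b : ZMod N, (x b : ℂ) * ζ ^ (k * b.val)) * (∑ a : ZMod N, (x a : ℂ) * (ζ ^ (k * a.val))⁻¹) := by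
        intro k
        rw [← Complex.mul_conj, map_sum]
        congr 1
        apply Finset.sum_congr rfl
        intro a _
        rw [map_mul, Complex.conj_ofReal, Complex.inv_eq_conj (hnorm _)]
      simp only [hconj, Finset.mul_sum, Finset.sum_mul, Finset.sum_div]
      conv_rhs => rw [Finset.sum_comm]
      apply Finset.sum_congr rfl
      intro a _
      conv_rhs => rw [Finset.sum_comm]
      apply Finset.sum_congr rfl
      intro b _
      apply Finset.sum_congr rfl
      intro k _
      ring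
    have key' := Complex.ofReal_injective key
    rw [key']
    apply Finset.sum_nonneg
    intro k _
    exact mul_nonneg (div_nonneg (hr0 k) (Nat.cast_nonneg N)) (Complex.normSq_nonneg _)

end Groth.Agent.S18190
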