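import Groth.Statements.S1828
import Groth.Agent.Lib.Helper8.ShE8
import Groth.Agent.Lib.Helper8.ShE9
import Groth.Agent.Lib.Helper11.Shr5
import Groth.Agent.Lib.Helper3.KP1
import Groth.Agent.Lib.Helper11.LDer5

set_option autoImplicit false
universe u
open CategoryTheory
attribute [local instance] HasDerivedCategory.standard
open Dual2

namespace Groth.Agent.S1828


/-- Let R and A be Noetherian rings and R → A a homomorphism that is a local complete intersection,
presented by a surjection ψ : P = R[x_1, …, x_n] → A. For K in D(R) set φ^!(K) = RHom_P(A, K ⊗^L_R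
P)[n], where the derived base change D(R) → D(P) is assumed to exist and RHom_P(A, −) : D(P) → D(A)
means a right adjoint of restriction of scalars along ψ, and set ω_{A/R} = φ^!(R); also assume that
the derived base change functors D(A) → D(A_f) exist for every f ∈ A. Then ω_{A/R} is invertible:
for each prime q of A there exist f ∈ A not in q and an integer m with ω_{A/R} ⊗^L_A A_f ≅ A_f[m] in
D(A_f). (The published statement makes one more assertion, which is not included here.) -/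
theorem result (R A : Type u) [CommRing R] [CommRing A] [IsNoetherianRing R] [IsNoetherianRing A] [Algebra R A] (hl : LCI.IsLCI R A) (n : ℕ) (ψ : MvPolynomial (Fin n) R →ₐ[R] A) (hψ : Function.Surjective ψ) [DRing.HasLBaseChange (algebraMap R (MvPolynomial (Fin n) R))] (Rψ : Dual.D (MvPolynomial (Fin n) R) ⥤ Dual.D A) (adj : DRing.restrictD ψ.toRingHom ⊣ Rψ) [hL : ∀ f : A, DRing.HasLBaseChange (algebraMap A (Localization.Away f))] (q : PrimeSpectrum A) : ∃ (f : A) (_ : f ∉ q.asIdeal) (m : ℤ), Nonempty ((DRing.LBaseChange (algebraMap A (Localization.Away f))).obj (Dual2.shriekVia n Rψ (Dual.inD R R)) ≅ (Dual.inD (Localization.Away f) (Localization.Away f))⟦m⟧) := by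
  classical
  obtain ⟨-, n₀, ψ₀, hψ₀, hKR⟩ := hl
  haveI : DRing.HasLBaseChange (algebraMap R (MvPolynomial (Fin n₀) R)) :=
    Groth.Agent.Helper3.KP.hasLeftDerivedFunctor _
  obtain ⟨Rψ₀, ⟨adj₀⟩⟩ := Groth.Agent.Helper11.Shr.exists_rightAdj ψ₀.toRingHom
  obtain ⟨i0⟩ := Groth.Agent.Helper11.Shr.shriekVia_indep n ψ hψ Rψ adj n₀ ψ₀ hψ₀ Rψ₀ adj₀
    (Dual.inD R R)
  letI : Algebra (MvPolynomial (Fin n₀) R) A := ψ₀.toRingHom.toAlgebra
  have hψ' : Function.Surjective (algebraMap (MvPolynomial (Fin n₀) R) A) := hψ₀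
  have hK' : LCI.IsKoszulRegularIdeal (RingHom.ker (algebraMap (MvPolynomial (Fin n₀) R) A)) := hKR
  haveI := Groth.Agent.Helper8.FBC.preservesFiniteLimits_Efun_of_flat (A := R)
    (MvPolynomial (Fin n₀) R)
  obtain ⟨e⟩ := Groth.Agent.Helper11.LDer.nonempty_totalLeftDerived_iso_of_exact
    (Groth.Agent.Helper8.LOC.Efun (algebraMap R (MvPolynomial (Fin n₀) R)))
  let ι0 : (Groth.Agent.Helper8.LOC.Ld (algebraMap R (MvPolynomial (Fin n₀) R))).obj (Dual.inD R R) ≅
      Dual.inD (MvPolynomial (Fin n₀) R) (MvPolynomial (Fin n₀) R) :=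
    ((Groth.Agent.Helper8.LOC.Efun (algebraMap R (MvPolynomial (Fin n₀) R))).mapDerivedCategorySingleFunctor 0).app
        (ModuleCat.of R R) ≪≫
      (DerivedCategory.singleFunctor (ModuleCat.{u} (MvPolynomial (Fin n₀) R)) 0).mapIso
        ((Groth.Agent.Helper8.LOC.EfunEquiv (MvPolynomial (Fin n₀) R) (ModuleCat.of R R)).trans
          (TensorProduct.AlgebraTensorModule.rid R (MvPolynomial (Fin n₀) R)
            (MvPolynomial (Fin n₀) R))).toModuleIso
  let ι : (DRing.LBaseChange (algebraMap R (MvPolynomial (Fin n₀) R))).obj (Dual.inD R R) ≅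
      Dual.inD (MvPolynomial (Fin n₀) R) (MvPolynomial (Fin n₀) R) := e.app _ ≪≫ ι0
  obtain ⟨f, hf, r, hvan, ⟨e1⟩⟩ := Groth.Agent.Helper8.ShE.exists_away_structure hψ' hK' Rψ₀ adj₀
    _ ι q.asIdeal
  refine ⟨f, hf, (n₀ : ℤ) - r, ?_⟩
  haveI := Groth.Agent.Helper8.LOC.preservesFiniteLimits_Efun (Submonoid.powers f)
    (Localization.Away f)
  obtain ⟨ef⟩ := Groth.Agent.Helper11.LDer.nonempty_totalLeftDerived_iso_of_exact
    (Groth.Agent.Helper8.LOC.Efun (algebraMap A (Localization.Away f)))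
  obtain ⟨i1⟩ := Groth.Agent.Helper8.ShE.nonempty_Ld_iso_shift f
    (Rψ₀.obj ((DRing.LBaseChange (algebraMap R (MvPolynomial (Fin n₀) R))).obj (Dual.inD R R)))
    (r : ℤ) hvan e1
  exact ⟨ef.app _ ≪≫
    (Groth.Agent.Helper8.LOC.Ld (algebraMap A (Localization.Away f))).mapIso i0 ≪≫
    ((Groth.Agent.Helper8.LOC.Ld (algebraMap A (Localization.Away f))).commShiftIso (n₀ : ℤ)).app _ ≪≫
    (shiftFunctor _ (n₀ : ℤ)).mapIso i1 ≪≫
    ((shiftFunctorAdd' (Dual.D (Localization.Away f)) (-(r : ℤ)) (n₀ : ℤ) ((n₀ : ℤ) - r)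
      (by omega)).app _).symm⟩

end Groth.Agent.S1828
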