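import Groth.Statements.S1869
import Mathlib
-- import your own Groth.Agent.* helpers here

set_option autoImplicit false
universe u v
open CycAlg

namespace Groth.Agent.S1869

section
open CycAlg

variable {R : Type u} [CommRing R]

section single
variable {M N : Type v} [AddCommGroup M] [Module R M] [AddCommGroup N] [Module R N]
  (φ : M →ₗ[R] N) (ψ : N →ₗ[R] M)

/-- coker ψ -/
abbrev X : Type v := M ⧸ LinearMap.range ψ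
/-- ker ψ -/
abbrev Y : Type v := ↥(LinearMap.ker ψ)

variable {φ ψ}

/-- the map coker ψ → ker ψ induced by φ -/
def Phi (h : IsPeriodic φ ψ) : X ψ →ₗ[R] Y ψ :=
  Submodule.liftQ _ (φ.codRestrict (LinearMap.ker ψ) (fun m => by
    rw [LinearMap.mem_ker, ← LinearMap.comp_apply, h.2, LinearMap.zero_apply]))
    (by
      rintro _ ⟨n, rfl⟩
      rw [LinearMap.mem_ker]
      apply Subtype.ext
      change φ (ψ n) = 0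
      rw [← LinearMap.comp_apply, h.1, LinearMap.zero_apply])

theorem Phi_mk (h : IsPeriodic φ ψ) (m : M) :
    ((Phi h (Submodule.Quotient.mk m) : Y ψ) : N) = φ m := rfl

/-- H⁰ → coker ψ -/
def iota (φ : M →ₗ[R] N) (ψ : N →ₗ[R] M) : perH φ ψ →ₗ[R] X ψ :=
  Submodule.mapQ _ _ (LinearMap.ker φ).subtype (fun x hx => hx)

theorem iota_mk (x : LinearMap.ker φ) :
    iota φ ψ (Submodule.Quotient.mk x) = Submodule.Quotient.mk (x : M) := rfl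

theorem iota_injective : Function.Injective (iota φ ψ) := by
  rw [← LinearMap.ker_eq_bot, iota, Submodule.ker_mapQ]
  exact Submodule.mkQ_map_self _

/-- ker ψ → H¹ -/
def pi' (φ : M →ₗ[R] N) (ψ : N →ₗ[R] M) : Y ψ →ₗ[R] perH ψ φ :=
  Submodule.mkQ _

theorem pi'_surjective : Function.Surjective (pi' φ ψ) := Submodule.mkQ_surjective _

theorem exact_iota_Phi (h : IsPeriodic φ ψ) : Function.Exact (iota φ ψ) (Phi h) := by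
  intro x
  constructor
  · intro hx
    obtain ⟨m, rfl⟩ := Submodule.Quotient.mk_surjective _ x
    have hm : φ m = 0 := by
      have := congrArg Subtype.val hx
      exact this
    exact ⟨Submodule.Quotient.mk ⟨m, hm⟩, rfl⟩
  · rintro ⟨z, rfl⟩
    obtain ⟨⟨m, hm⟩, rfl⟩ := Submodule.Quotient.mk_surjective _ z
    apply Subtype.ext
    exact hm

theorem exact_Phi_pi' (h : IsPeriodic φ ψ) : Function.Exact (Phi h) (pi' φ ψ) := by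
  intro y
  constructor
  · intro hy
    rw [pi', Submodule.mkQ_apply, Submodule.Quotient.mk_eq_zero] at hy
    obtain ⟨m, hm⟩ := hy
    exact ⟨Submodule.Quotient.mk m, Subtype.ext hm⟩
  · rintro ⟨x, rfl⟩
    obtain ⟨m, rfl⟩ := Submodule.Quotient.mk_surjective _ x
    rw [pi', Submodule.mkQ_apply, Submodule.Quotient.mk_eq_zero]
    exact ⟨m, rfl⟩

end single

section morphism
variable {M N M' N' : Type v} [AddCommGroup M] [Module R M] [AddCommGroup N] [Module R N]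
  [AddCommGroup M'] [Module R M'] [AddCommGroup N'] [Module R N']
  {φ : M →ₗ[R] N} {ψ : N →ₗ[R] M} {φ' : M' →ₗ[R] N'} {ψ' : N' →ₗ[R] M'}
  (f : M →ₗ[R] M') (g : N →ₗ[R] N')

/-- induced map on coker ψ -/
def Xmap (cψ : ψ' ∘ₗ g = f ∘ₗ ψ) : X ψ →ₗ[R] X ψ' :=
  Submodule.mapQ _ _ f (by
    rintro _ ⟨n, rfl⟩
    exact ⟨g n, by rw [← LinearMap.comp_apply, cψ]; rfl⟩)

theorem Xmap_mk (cψ : ψ' ∘ₗ g = f ∘ₗ ψ) (m : M) :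
    Xmap f g cψ (Submodule.Quotient.mk m) = Submodule.Quotient.mk (f m) := rfl

/-- induced map on ker ψ -/
def Ymap (cψ : ψ' ∘ₗ g = f ∘ₗ ψ) : Y ψ →ₗ[R] Y ψ' :=
  (g.comp (LinearMap.ker ψ).subtype).codRestrict (LinearMap.ker ψ') (fun y => by
    rw [LinearMap.mem_ker, LinearMap.comp_apply, ← LinearMap.comp_apply ψ', cψ,
      LinearMap.comp_apply]
    have : ψ (y : N) = 0 := y.2
    rw [Submodule.subtype_apply, this, map_zero])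

theorem Ymap_coe (cψ : ψ' ∘ₗ g = f ∘ₗ ψ) (y : Y ψ) : ((Ymap f g cψ y : Y ψ') : N') = g y := rfl

/-- induced map on H⁰ -/
def Hmap (cφ : φ' ∘ₗ f = g ∘ₗ φ) (cψ : ψ' ∘ₗ g = f ∘ₗ ψ) : perH φ ψ →ₗ[R] perH φ' ψ' :=
  Submodule.mapQ _ _ ((f.comp (LinearMap.ker φ).subtype).codRestrict (LinearMap.ker φ') (fun x => by
    rw [LinearMap.mem_ker, LinearMap.comp_apply, ← LinearMap.comp_apply φ', cφ,
      LinearMap.comp_apply]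
    have : φ (x : M) = 0 := x.2
    rw [Submodule.subtype_apply, this, map_zero])) (by
    rintro x ⟨n, hn⟩
    refine ⟨g n, ?_⟩
    change ψ' (g n) = f (x : M)
    rw [← LinearMap.comp_apply, cψ, LinearMap.comp_apply, hn]
    rfl)

theorem Hmap_mk (cφ : φ' ∘ₗ f = g ∘ₗ φ) (cψ : ψ' ∘ₗ g = f ∘ₗ ψ) (x : LinearMap.ker φ)
    (hx : f x ∈ LinearMap.ker φ') :
    Hmap f g cφ cψ (Submodule.Quotient.mk x) = Submodule.Quotient.mk ⟨f x, hx⟩ := rfl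

theorem Phi_Xmap (h : IsPeriodic φ ψ) (h' : IsPeriodic φ' ψ') (cφ : φ' ∘ₗ f = g ∘ₗ φ)
    (cψ : ψ' ∘ₗ g = f ∘ₗ ψ) :
    (Ymap f g cψ).comp (Phi h) = (Phi h').comp (Xmap f g cψ) := by
  apply LinearMap.ext
  intro x
  obtain ⟨m, rfl⟩ := Submodule.Quotient.mk_surjective _ x
  apply Subtype.ext
  change g (φ m) = φ' (f m)
  rw [← LinearMap.comp_apply, ← cφ]
  rfl

theorem Xmap_iota (cφ : φ' ∘ₗ f = g ∘ₗ φ) (cψ : ψ' ∘ₗ g = f ∘ₗ ψ) :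
    (Xmap f g cψ).comp (iota φ ψ) = (iota φ' ψ').comp (Hmap f g cφ cψ) := by
  apply LinearMap.ext
  intro x
  obtain ⟨m, rfl⟩ := Submodule.Quotient.mk_surjective _ x
  rfl

theorem pi'_Ymap (cφ : φ' ∘ₗ f = g ∘ₗ φ) (cψ : ψ' ∘ₗ g = f ∘ₗ ψ) :
    (Hmap g f cψ cφ).comp (pi' φ ψ) = (pi' φ' ψ').comp (Ymap f g cψ) := by
  apply LinearMap.ext
  intro y
  rfl

end morphism

section ses
variable {M₁ N₁ M₂ N₂ M₃ N₃ : Type v} [AddCommGroup M₁] [Module R M₁] [AddCommGroup N₁]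
  [Module R N₁] [AddCommGroup M₂] [Module R M₂] [AddCommGroup N₂] [Module R N₂] [AddCommGroup M₃]
  [Module R M₃] [AddCommGroup N₃] [Module R N₃]
  {φ₁ : M₁ →ₗ[R] N₁} {ψ₁ : N₁ →ₗ[R] M₁} {φ₂ : M₂ →ₗ[R] N₂} {ψ₂ : N₂ →ₗ[R] M₂}
  {φ₃ : M₃ →ₗ[R] N₃} {ψ₃ : N₃ →ₗ[R] M₃}
  (h₁ : IsPeriodic φ₁ ψ₁) (h₂ : IsPeriodic φ₂ ψ₂) (h₃ : IsPeriodic φ₃ ψ₃)
  (f₁ : M₁ →ₗ[R] M₂) (g₁ : N₁ →ₗ[R] N₂) (f₂ : M₂ →ₗ[R] M₃) (g₂ : N₂ →ₗ[R] N₃)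
  (cφ₁ : φ₂ ∘ₗ f₁ = g₁ ∘ₗ φ₁) (cψ₁ : ψ₂ ∘ₗ g₁ = f₁ ∘ₗ ψ₁) (cφ₂ : φ₃ ∘ₗ f₂ = g₂ ∘ₗ φ₂)
  (cψ₂ : ψ₃ ∘ₗ g₂ = f₂ ∘ₗ ψ₂)

include h₂ in
theorem exact_Hmap (hg₁ : Function.Injective g₁) (hg₂ : Function.Surjective g₂)
    (hM : LinearMap.range f₁ = LinearMap.ker f₂) :
    Function.Exact (Hmap f₁ g₁ cφ₁ cψ₁) (Hmap f₂ g₂ cφ₂ cψ₂) := by
  intro z
  constructor
  · intro hz
    obtain ⟨⟨x, hx⟩, rfl⟩ := Submodule.Quotient.mk_surjective _ z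
    have hx' : φ₂ x = 0 := hx
    change Submodule.Quotient.mk _ = 0 at hz
    rw [Submodule.Quotient.mk_eq_zero] at hz
    obtain ⟨n₃, hn₃⟩ := hz
    have hn₃' : ψ₃ n₃ = f₂ x := hn₃
    obtain ⟨n₂, rfl⟩ := hg₂ n₃
    have h1 : f₂ (x - ψ₂ n₂) = 0 := by
      rw [map_sub, ← hn₃', ← LinearMap.comp_apply, cψ₂, LinearMap.comp_apply, sub_self]
    have h2 : x - ψ₂ n₂ ∈ LinearMap.range f₁ := by rw [hM]; exact h1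
    obtain ⟨m₁, hm₁⟩ := h2
    have h3 : φ₁ m₁ = 0 := by
      apply hg₁
      rw [map_zero, ← LinearMap.comp_apply, ← cφ₁, LinearMap.comp_apply, hm₁, map_sub, hx',
        ← LinearMap.comp_apply, h₂.1, LinearMap.zero_apply, sub_zero]
    refine ⟨Submodule.Quotient.mk ⟨m₁, h3⟩, ?_⟩
    change Submodule.Quotient.mk _ = Submodule.Quotient.mk _
    rw [Submodule.Quotient.eq]
    refine ⟨-n₂, ?_⟩
    change ψ₂ (-n₂) = f₁ m₁ - x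
    rw [hm₁, map_neg]; abel
  · rintro ⟨w, rfl⟩
    obtain ⟨⟨m, hm⟩, rfl⟩ := Submodule.Quotient.mk_surjective _ w
    change Submodule.Quotient.mk _ = 0
    rw [Submodule.Quotient.mk_eq_zero]
    refine ⟨0, ?_⟩
    change ψ₃ 0 = f₂ (f₁ m)
    have : f₁ m ∈ LinearMap.ker f₂ := hM ▸ ⟨m, rfl⟩
    rw [map_zero, this]

theorem exact_Xmap (hg₂ : Function.Surjective g₂)
    (hM : LinearMap.range f₁ = LinearMap.ker f₂) :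
    Function.Exact (Xmap f₁ g₁ cψ₁) (Xmap f₂ g₂ cψ₂) := by
  intro z
  constructor
  · intro hz
    obtain ⟨x, rfl⟩ := Submodule.Quotient.mk_surjective _ z
    change Submodule.Quotient.mk _ = 0 at hz
    rw [Submodule.Quotient.mk_eq_zero] at hz
    obtain ⟨n₃, hn₃⟩ := hz
    obtain ⟨n₂, rfl⟩ := hg₂ n₃
    have h1 : f₂ (x - ψ₂ n₂) = 0 := by
      rw [map_sub, ← hn₃, ← LinearMap.comp_apply, cψ₂, LinearMap.comp_apply, sub_self]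
    have h2 : x - ψ₂ n₂ ∈ LinearMap.range f₁ := by rw [hM]; exact h1
    obtain ⟨m₁, hm₁⟩ := h2
    refine ⟨Submodule.Quotient.mk m₁, ?_⟩
    change Submodule.Quotient.mk _ = Submodule.Quotient.mk _
    rw [Submodule.Quotient.eq]
    refine ⟨-n₂, ?_⟩
    rw [hm₁, map_neg]; abel
  · rintro ⟨w, rfl⟩
    obtain ⟨m, rfl⟩ := Submodule.Quotient.mk_surjective _ w
    change Submodule.Quotient.mk _ = 0
    rw [Submodule.Quotient.mk_eq_zero]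
    refine ⟨0, ?_⟩
    have : f₁ m ∈ LinearMap.ker f₂ := hM ▸ ⟨m, rfl⟩
    rw [map_zero, this]

theorem Xmap_surjective (hf₂ : Function.Surjective f₂) :
    Function.Surjective (Xmap f₂ g₂ cψ₂) := by
  intro z
  obtain ⟨x, rfl⟩ := Submodule.Quotient.mk_surjective _ z
  obtain ⟨m, rfl⟩ := hf₂ x
  exact ⟨Submodule.Quotient.mk m, rfl⟩

theorem exact_Ymap (hf₁ : Function.Injective f₁)
    (hN : LinearMap.range g₁ = LinearMap.ker g₂) :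
    Function.Exact (Ymap f₁ g₁ cψ₁) (Ymap f₂ g₂ cψ₂) := by
  intro y
  constructor
  · intro hy
    have hy' : g₂ (y : N₂) = 0 := congrArg Subtype.val hy
    have h1 : (y : N₂) ∈ LinearMap.range g₁ := by rw [hN]; exact hy'
    obtain ⟨n₁, hn₁⟩ := h1
    have h2 : ψ₁ n₁ = 0 := by
      apply hf₁
      rw [map_zero, ← LinearMap.comp_apply, ← cψ₁, LinearMap.comp_apply, hn₁]
      exact y.2
    exact ⟨⟨n₁, h2⟩, Subtype.ext hn₁⟩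
  · rintro ⟨w, rfl⟩
    apply Subtype.ext
    change g₂ (g₁ w) = 0
    have : g₁ w ∈ LinearMap.ker g₂ := hN ▸ ⟨(w : N₁), rfl⟩
    exact this

theorem Ymap_injective (hg₁ : Function.Injective g₁) :
    Function.Injective (Ymap f₁ g₁ cψ₁) := by
  intro a b hab
  apply Subtype.ext
  apply hg₁
  exact congrArg Subtype.val hab

theorem IsPeriodic.swap {M N : Type v} [AddCommGroup M] [Module R M] [AddCommGroup N] [Module R N]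
    {φ : M →ₗ[R] N} {ψ : N →ₗ[R] M} (h : IsPeriodic φ ψ) : IsPeriodic ψ φ := ⟨h.2, h.1⟩

include h₁ h₂ h₃ in
theorem six_term (hf₁ : Function.Injective f₁) (hg₁ : Function.Injective g₁)
    (hf₂ : Function.Surjective f₂) (hg₂ : Function.Surjective g₂)
    (hM : LinearMap.range f₁ = LinearMap.ker f₂) (hN : LinearMap.range g₁ = LinearMap.ker g₂) :
    ∃ δ : perH φ₃ ψ₃ →ₗ[R] perH ψ₁ φ₁,
      Function.Exact (Hmap f₁ g₁ cφ₁ cψ₁) (Hmap f₂ g₂ cφ₂ cψ₂) ∧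
      Function.Exact (Hmap f₂ g₂ cφ₂ cψ₂) δ ∧
      Function.Exact δ (Hmap g₁ f₁ cψ₁ cφ₁) ∧
      Function.Exact (Hmap g₁ f₁ cψ₁ cφ₁) (Hmap g₂ f₂ cψ₂ cφ₂) := by
  have eX := exact_Xmap f₁ g₁ f₂ g₂ cψ₁ cψ₂ hg₂ hM
  have eY := exact_Ymap f₁ g₁ f₂ g₂ cψ₁ cψ₂ hf₁ hN
  have sq1 := Phi_Xmap f₁ g₁ h₁ h₂ cφ₁ cψ₁
  have sq2 := Phi_Xmap f₂ g₂ h₂ h₃ cφ₂ cψ₂
  have sX := Xmap_surjective f₂ g₂ cψ₂ hf₂
  have iY := Ymap_injective f₁ g₁ cψ₁ hg₁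
  refine ⟨SnakeLemma.δ' (Phi h₁) (Phi h₂) (Phi h₃) (Xmap f₁ g₁ cψ₁) (Xmap f₂ g₂ cψ₂) eX
    (Ymap f₁ g₁ cψ₁) (Ymap f₂ g₂ cψ₂) eY sq1 sq2 (iota φ₃ ψ₃) (exact_iota_Phi h₃)
    (pi' φ₁ ψ₁) (exact_Phi_pi' h₁) sX iY, ?_, ?_, ?_, ?_⟩
  · exact exact_Hmap h₂ f₁ g₁ f₂ g₂ cφ₁ cψ₁ cφ₂ cψ₂ hg₁ hg₂ hM
  · exact SnakeLemma.exact_δ'_right (Phi h₁) (Phi h₂) (Phi h₃) (Xmap f₁ g₁ cψ₁) (Xmap f₂ g₂ cψ₂) eX
      (Ymap f₁ g₁ cψ₁) (Ymap f₂ g₂ cψ₂) eY sq1 sq2 (iota φ₂ ψ₂) (exact_iota_Phi h₂)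
      (iota φ₃ ψ₃) (exact_iota_Phi h₃)
      (pi' φ₁ ψ₁) (exact_Phi_pi' h₁) sX iY (Hmap f₂ g₂ cφ₂ cψ₂) (Xmap_iota f₂ g₂ cφ₂ cψ₂)
      iota_injective
  · exact SnakeLemma.exact_δ'_left (Phi h₁) (Phi h₂) (Phi h₃) (Xmap f₁ g₁ cψ₁) (Xmap f₂ g₂ cψ₂) eX
      (Ymap f₁ g₁ cψ₁) (Ymap f₂ g₂ cψ₂) eY sq1 sq2 (iota φ₃ ψ₃) (exact_iota_Phi h₃)
      (pi' φ₁ ψ₁) (exact_Phi_pi' h₁) (pi' φ₂ ψ₂) (exact_Phi_pi' h₂) sX iY (Hmap g₁ f₁ cψ₁ cφ₁)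
      (pi'_Ymap f₁ g₁ cφ₁ cψ₁) pi'_surjective
  · exact exact_Hmap (IsPeriodic.swap h₂) g₁ f₁ g₂ f₂ cψ₁ cφ₁ cψ₂ cφ₂ hf₁ hf₂ hN

end ses

section hexagon

theorem len_split {P Q S : Type v} [AddCommGroup P] [Module R P] [AddCommGroup Q] [Module R Q]
    [AddCommGroup S] [Module R S] (u : P →ₗ[R] Q) (w : Q →ₗ[R] S) (e : Function.Exact u w) :
    Module.length R Q = Module.length R (LinearMap.range u) + Module.length R (LinearMap.range w) := by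
  have h1 := Module.length_eq_add_of_exact (LinearMap.ker w).subtype w.rangeRestrict
    (Submodule.subtype_injective _) w.surjective_rangeRestrict (by
      intro q
      constructor
      · intro hq
        have : w q = 0 := congrArg Subtype.val hq
        exact ⟨⟨q, this⟩, rfl⟩
      · rintro ⟨⟨q', hq'⟩, rfl⟩
        exact Subtype.ext hq')
  rw [h1, (LinearEquiv.ofEq _ _ (LinearMap.exact_iff.mp e)).length_eq]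

theorem finlen_mid {P Q S : Type v} [AddCommGroup P] [Module R P] [AddCommGroup Q] [Module R Q]
    [AddCommGroup S] [Module R S] (u : P →ₗ[R] Q) (w : Q →ₗ[R] S) (e : Function.Exact u w)
    (hP : Module.length R P < ⊤) (hS : Module.length R S < ⊤) : Module.length R Q < ⊤ := by
  rw [len_split u w e]
  have h1 : Module.length R (LinearMap.range u) ≤ Module.length R P :=
    Module.length_le_of_surjective u.rangeRestrict u.surjective_rangeRestrict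
  have h2 : Module.length R (LinearMap.range w) ≤ Module.length R S :=
    Module.length_le_of_injective (LinearMap.range w).subtype (Submodule.subtype_injective _)
  exact lt_of_le_of_lt (add_le_add h1 h2) (ENat.add_lt_top.mpr ⟨hP, hS⟩)

theorem hexagon {A₁ A₂ A₃ A₄ A₅ A₆ : Type v} [AddCommGroup A₁] [Module R A₁] [AddCommGroup A₂]
    [Module R A₂] [AddCommGroup A₃] [Module R A₃] [AddCommGroup A₄] [Module R A₄]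
    [AddCommGroup A₅] [Module R A₅] [AddCommGroup A₆] [Module R A₆]
    (a₁ : A₁ →ₗ[R] A₂) (a₂ : A₂ →ₗ[R] A₃) (a₃ : A₃ →ₗ[R] A₄) (a₄ : A₄ →ₗ[R] A₅)
    (a₅ : A₅ →ₗ[R] A₆) (a₆ : A₆ →ₗ[R] A₁)
    (e₁ : Function.Exact a₆ a₁) (e₂ : Function.Exact a₁ a₂) (e₃ : Function.Exact a₂ a₃)
    (e₄ : Function.Exact a₃ a₄) (e₅ : Function.Exact a₄ a₅) (e₆ : Function.Exact a₅ a₆) :
    Module.length R A₁ + Module.length R A₃ + Module.length R A₅ =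
      Module.length R A₂ + Module.length R A₄ + Module.length R A₆ := by
  rw [len_split a₆ a₁ e₁, len_split a₁ a₂ e₂, len_split a₂ a₃ e₃, len_split a₃ a₄ e₄,
    len_split a₄ a₅ e₅, len_split a₅ a₆ e₆]
  ring

end hexagon

theorem main {R : Type u} [CommRing R] {M₁ N₁ M₂ N₂ M₃ N₃ : Type v} [AddCommGroup M₁] [Module R M₁] [AddCommGroup N₁] [Module R N₁] [AddCommGroup M₂] [Module R M₂] [AddCommGroup N₂] [Module R N₂] [AddCommGroup M₃] [Module R M₃] [AddCommGroup N₃] [Module R N₃] (φ₁ : M₁ →ₗ[R] N₁) (ψ₁ : N₁ →ₗ[R] M₁) (φ₂ : M₂ →ₗ[R] N₂) (ψ₂ : N₂ →ₗ[R] M₂) (φ₃ : M₃ →ₗ[R] N₃) (ψ₃ : N₃ →ₗ[R] M₃) (h₁ : CycAlg.IsPeriodic φ₁ ψ₁) (h₂ : CycAlg.IsPeriodic φ₂ ψ₂) (h₃ : CycAlg.IsPeriodic φ₃ ψ₃) (f₁ : M₁ →ₗ[R] M₂) (g₁ : N₁ →ₗ[R] N₂) (f₂ : M₂ →ₗ[R] M₃) (g₂ : N₂ →ₗ[R] N₃) (cφ₁ : φ₂ ∘ₗ f₁ = g₁ ∘ₗ φ₁) (cψ₁ : ψ₂ ∘ₗ g₁ = f₁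 ∘ₗ ψ₁) (cφ₂ : φ₃ ∘ₗ f₂ = g₂ ∘ₗ φ₂) (cψ₂ : ψ₃ ∘ₗ g₂ = f₂ ∘ₗ ψ₂) (hf₁ : Function.Injective f₁) (hg₁ : Function.Injective g₁) (hf₂ : Function.Surjective f₂) (hg₂ : Function.Surjective g₂) (hM : LinearMap.range f₁ = LinearMap.ker f₂) (hN : LinearMap.range g₁ = LinearMap.ker g₂) (htwo : (CycAlg.FinCoh R φ₁ ψ₁ ∧ CycAlg.FinCoh R φ₂ ψ₂) ∨ (CycAlg.FinCoh R φ₁ ψ₁ ∧ CycAlg.FinCoh R φ₃ ψ₃) ∨ (CycAlg.FinCoh R φ₂ ψ₂ ∧ CycAlg.FinCoh R φ₃ ψ₃)) : CycAlg.FinCoh R φ₁ ψ₁ ∧ CycAlg.FinCoh R φ₂ ψ₂ ∧ CycAlg.FinCoh R φ₃ ψ₃ ∧ CycAlg.herbrand R φ₂ ψ₂ = CycAlg.herbrand R φ₁ ψ₁ + CycAlg.herbrand R φ₃ ψ₃ := by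
  obtain ⟨δ, e1, e2, e3, e4⟩ := six_term h₁ h₂ h₃ f₁ g₁ f₂ g₂ cφ₁ cψ₁ cφ₂ cψ₂ hf₁ hg₁ hf₂ hg₂ hM hN
  obtain ⟨δ', -, e2', e3', -⟩ := six_term (IsPeriodic.swap h₁) (IsPeriodic.swap h₂)
    (IsPeriodic.swap h₃) g₁ f₁ g₂ f₂ cψ₁ cφ₁ cψ₂ cφ₂ hg₁ hf₁ hg₂ hf₂ hN hM
  have hall : CycAlg.FinCoh R φ₁ ψ₁ ∧ CycAlg.FinCoh R φ₂ ψ₂ ∧ CycAlg.FinCoh R φ₃ ψ₃ := by
    rcases htwo with ⟨a, b⟩ | ⟨a, c⟩ | ⟨b, c⟩
    · exact ⟨a, b, finlen_mid _ _ e2 b.1 a.2, finlen_mid _ _ e2' b.2 a.1⟩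
    · exact ⟨a, ⟨finlen_mid _ _ e1 a.1 c.1, finlen_mid _ _ e4 a.2 c.2⟩, c⟩
    · exact ⟨⟨finlen_mid _ _ e3' c.2 b.1, finlen_mid _ _ e3 c.1 b.2⟩, b, c⟩
  refine ⟨hall.1, hall.2.1, hall.2.2, ?_⟩
  have hhex := hexagon (Hmap f₁ g₁ cφ₁ cψ₁) (Hmap f₂ g₂ cφ₂ cψ₂) δ (Hmap g₁ f₁ cψ₁ cφ₁)
    (Hmap g₂ f₂ cψ₂ cφ₂) δ' e3' e1 e2 e3 e4 e2'
  obtain ⟨⟨a0, a1⟩, ⟨b0, b1⟩, ⟨c0, c1⟩⟩ := hall
  unfold CycAlg.herbrand
  lift Module.length R (perH φ₁ ψ₁) to ℕ using a0.ne with x0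
  lift Module.length R (perH ψ₁ φ₁) to ℕ using a1.ne with x1
  lift Module.length R (perH φ₂ ψ₂) to ℕ using b0.ne with y0
  lift Module.length R (perH ψ₂ φ₂) to ℕ using b1.ne with y1
  lift Module.length R (perH φ₃ ψ₃) to ℕ using c0.ne with z0
  lift Module.length R (perH ψ₃ φ₃) to ℕ using c1.ne with z1
  have : x0 + z0 + y1 = y0 + x1 + z1 := by exact_mod_cast hhex
  simp only [ENat.toNat_natCast]
  omega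

end

/-- Let 0 → (M₁, N₁, φ₁, ψ₁) → (M₂, N₂, φ₂, ψ₂) → (M₃, N₃, φ₃, ψ₃) → 0 be a short exact sequence of
2-periodic complexes over a ring R (so the maps f_i : M₁ → M₂ → M₃ and g_i : N₁ → N₂ → N₃ commute
with the φ's and ψ's and both rows are short exact). If two of the three complexes have cohomology
modules of finite length then so does the third, and e_R of the middle one is the sum of e_R of the
outer ones. -/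
theorem result {R : Type u} [CommRing R] {M₁ N₁ M₂ N₂ M₃ N₃ : Type v} [AddCommGroup M₁] [Module R M₁] [AddCommGroup N₁] [Module R N₁] [AddCommGroup M₂] [Module R M₂] [AddCommGroup N₂] [Module R N₂] [AddCommGroup M₃] [Module R M₃] [AddCommGroup N₃] [Module R N₃] (φ₁ : M₁ →ₗ[R] N₁) (ψ₁ : N₁ →ₗ[R] M₁) (φ₂ : M₂ →ₗ[R] N₂) (ψ₂ : N₂ →ₗ[R] M₂) (φ₃ : M₃ →ₗ[R] N₃) (ψ₃ : N₃ →ₗ[R] M₃) (h₁ : CycAlg.IsPeriodic φ₁ ψ₁) (h₂ : CycAlg.IsPeriodic φ₂ ψ₂) (h₃ : CycAlg.IsPeriodic φ₃ ψ₃) (f₁ : M₁ →ₗ[R] M₂) (g₁ : N₁ →ₗ[R] N₂) (f₂ : M₂ →ₗ[R] M₃) (g₂ : N₂ →ₗ[R] N₃) (cφ₁ : φ₂ ∘ₗ f₁ = g₁ ∘ₗ φ₁) (cψ₁ : ψ₂ ∘ₗ g₁ = f₁ ∘ₗ ψ₁) (cφ₂ : φ₃ ∘ₗ f₂ = g₂ ∘ₗ φ₂) (cψ₂ : ψ₃ ∘ₗ g₂ = f₂ ∘ₗ ψ₂) (hf₁ : Function.Injective f₁) (hg₁ : Function.Injective g₁) (hf₂ : Function.Surjective f₂) (hg₂ : Function.Surjective g₂) (hM : LinearMap.range f₁ = LinearMap.ker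 f₂) (hN : LinearMap.range g₁ = LinearMap.ker g₂) (htwo : (CycAlg.FinCoh R φ₁ ψ₁ ∧ CycAlg.FinCoh R φ₂ ψ₂) ∨ (CycAlg.FinCoh R φ₁ ψ₁ ∧ CycAlg.FinCoh R φ₃ ψ₃) ∨ (CycAlg.FinCoh R φ₂ ψ₂ ∧ CycAlg.FinCoh R φ₃ ψ₃)) : CycAlg.FinCoh R φ₁ ψ₁ ∧ CycAlg.FinCoh R φ₂ ψ₂ ∧ CycAlg.FinCoh R φ₃ ψ₃ ∧ CycAlg.herbrand R φ₂ ψ₂ = CycAlg.herbrand R φ₁ ψ₁ + CycAlg.herbrand R φ₃ ψ₃ := by
  exact Groth.Agent.S1869.main φ₁ ψ₁ φ₂ ψ₂ φ₃ ψ₃ h₁ h₂ h₃ f₁ g₁ f₂ g₂ cφ₁ cψ₁ cφ₂ cψ₂ hf₁ hg₁ hf₂ hg₂ hM hN htwo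

end Groth.Agent.S1869
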