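import Groth.Statements.S1831
import Mathlib
import Groth.Agent.S1869
-- import your own Groth.Agent.* helpers here

set_option autoImplicit false
universe u v
open CycAlg

namespace Groth.Agent.S1831

section
open CycAlg

variable {R : Type u} [CommRing R] {M : Type v} [AddCommGroup M] [Module R M]

theorem pow_pow_apply (φ : M →ₗ[R] M) (a b : ℕ) (x : M) :
    (φ ^ a) ((φ ^ b) x) = (φ ^ (a + b)) x := by
  rw [pow_add, Module.End.mul_apply]

theorem pow_self_apply (φ : M →ₗ[R] M) (a : ℕ) (x : M) :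
    (φ ^ a) (φ x) = (φ ^ (a + 1)) x := by
  rw [pow_succ, Module.End.mul_apply]

theorem self_pow_apply (φ : M →ₗ[R] M) (a : ℕ) (x : M) :
    φ ((φ ^ a) x) = (φ ^ (a + 1)) x := by
  rw [pow_succ', Module.End.mul_apply]

/-- differential of the middle complex -/
def Phi (φ : M →ₗ[R] M) (i : ℕ) : M × M →ₗ[R] M × M :=
  LinearMap.prod ((φ ^ i) ∘ₗ LinearMap.fst R M M - LinearMap.snd R M M)
    (φ ∘ₗ LinearMap.snd R M M)

/-- differential of the middle complex -/
def Psi (φ : M →ₗ[R] M) (n i : ℕ) : M × M →ₗ[R] M × M :=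
  LinearMap.prod ((φ ^ (n - i)) ∘ₗ LinearMap.fst R M M + (φ ^ (n - (i + 1))) ∘ₗ LinearMap.snd R M M)
    ((φ ^ (n - 1)) ∘ₗ LinearMap.snd R M M)

theorem Phi_apply (φ : M →ₗ[R] M) (i : ℕ) (a b : M) :
    Phi φ i (a, b) = ((φ ^ i) a - b, φ b) := rfl

theorem Psi_apply (φ : M →ₗ[R] M) (n i : ℕ) (c d : M) :
    Psi φ n i (c, d) = ((φ ^ (n - i)) c + (φ ^ (n - (i + 1))) d, (φ ^ (n - 1)) d) := rfl

variable (φ : M →ₗ[R] M) (n : ℕ) (hφ : φ ^ n = 0)

include hφ

theorem pow_eq_zero_apply (m : ℕ) (hm : n ≤ m) (x : M) : (φ ^ m) x = 0 := by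
  obtain ⟨k, rfl⟩ := Nat.exists_eq_add_of_le hm
  rw [add_comm, pow_add, Module.End.mul_apply, hφ, LinearMap.zero_apply, map_zero]

theorem periodic_pow (i : ℕ) (hi : i ≤ n) : IsPeriodic (φ ^ i) (φ ^ (n - i)) := by
  constructor
  · ext x
    rw [LinearMap.comp_apply, pow_pow_apply, LinearMap.zero_apply]
    exact pow_eq_zero_apply φ n hφ _ (by omega) x
  · ext x
    rw [LinearMap.comp_apply, pow_pow_apply, LinearMap.zero_apply]
    exact pow_eq_zero_apply φ n hφ _ (by omega) x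

theorem periodic_one (hn : 0 < n) : IsPeriodic φ (φ ^ (n - 1)) := by
  constructor
  · ext x
    rw [LinearMap.comp_apply, self_pow_apply, LinearMap.zero_apply]
    exact pow_eq_zero_apply φ n hφ _ (by omega) x
  · ext x
    rw [LinearMap.comp_apply, pow_self_apply, LinearMap.zero_apply]
    exact pow_eq_zero_apply φ n hφ _ (by omega) x

theorem periodic_mid (i : ℕ) (hi : i + 1 ≤ n) : IsPeriodic (Phi φ i) (Psi φ n i) := by
  constructor
  · apply LinearMap.ext
    rintro ⟨c, d⟩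
    rw [LinearMap.comp_apply, Psi_apply, Phi_apply, LinearMap.zero_apply]
    apply Prod.ext
    · change (φ ^ i) ((φ ^ (n - i)) c + (φ ^ (n - (i + 1))) d) - (φ ^ (n - 1)) d = 0
      rw [map_add, pow_pow_apply, pow_pow_apply, pow_eq_zero_apply φ n hφ _ (by omega) c, zero_add,
        show i + (n - (i + 1)) = n - 1 by omega, sub_self]
    · change φ ((φ ^ (n - 1)) d) = 0
      rw [self_pow_apply]
      exact pow_eq_zero_apply φ n hφ _ (by omega) d
  · apply LinearMap.ext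
    rintro ⟨a, b⟩
    rw [LinearMap.comp_apply, Phi_apply, Psi_apply, LinearMap.zero_apply]
    apply Prod.ext
    · change (φ ^ (n - i)) ((φ ^ i) a - b) + (φ ^ (n - (i + 1))) (φ b) = 0
      rw [map_sub, pow_pow_apply, pow_self_apply, pow_eq_zero_apply φ n hφ _ (by omega) a, zero_sub,
        show n - (i + 1) + 1 = n - i by omega, neg_add_cancel]
    · change (φ ^ (n - 1)) (φ b) = 0
      rw [pow_self_apply]
      exact pow_eq_zero_apply φ n hφ _ (by omega) b

omit hφ in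
theorem periodic_Z : IsPeriodic (LinearMap.id : M →ₗ[R] M) (0 : M →ₗ[R] M) :=
  ⟨LinearMap.comp_zero _, LinearMap.zero_comp _⟩

omit hφ in
theorem length_H0_Z : Module.length R (perH (LinearMap.id : M →ₗ[R] M) (0 : M →ₗ[R] M)) = 0 := by
  rw [Module.length_eq_zero_iff]
  constructor
  intro x y
  obtain ⟨⟨x, hx⟩, rfl⟩ := Submodule.Quotient.mk_surjective _ x
  obtain ⟨⟨y, hy⟩, rfl⟩ := Submodule.Quotient.mk_surjective _ y
  have hx' : x = 0 := hx
  have hy' : y = 0 := hy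
  subst hx' hy'
  rfl

omit hφ in
theorem length_H1_Z : Module.length R (perH (0 : M →ₗ[R] M) (LinearMap.id : M →ₗ[R] M)) = 0 := by
  rw [Module.length_eq_zero_iff]
  constructor
  intro x y
  obtain ⟨⟨x, hx⟩, rfl⟩ := Submodule.Quotient.mk_surjective _ x
  obtain ⟨⟨y, hy⟩, rfl⟩ := Submodule.Quotient.mk_surjective _ y
  rw [Submodule.Quotient.eq]
  exact ⟨x - y, rfl⟩

omit hφ in
theorem finCoh_Z : FinCoh R (LinearMap.id : M →ₗ[R] M) (0 : M →ₗ[R] M) := by
  constructor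
  · rw [length_H0_Z]; exact ENat.top_pos
  · rw [length_H1_Z]; exact ENat.top_pos

omit hφ in
theorem herbrand_Z : herbrand R (LinearMap.id : M →ₗ[R] M) (0 : M →ₗ[R] M) = 0 := by
  unfold herbrand
  rw [length_H0_Z, length_H1_Z]
  simp

/-- the chain map `C_{i+1} → T_i` in degree 0 -/
def u0 (φ : M →ₗ[R] M) (i : ℕ) : M →ₗ[R] M × M := LinearMap.prod LinearMap.id (φ ^ i)

/-- the chain map `T_i → Z` in degree 0 -/
def v0 (φ : M →ₗ[R] M) (i : ℕ) : M × M →ₗ[R] M :=
  (φ ^ i) ∘ₗ LinearMap.fst R M M - LinearMap.snd R M M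

omit hφ in
theorem u0_injective (i : ℕ) : Function.Injective (u0 φ i) := by
  intro a b hab
  exact congrArg Prod.fst hab

omit hφ in
theorem v0_surjective (i : ℕ) : Function.Surjective (v0 φ i) := by
  intro b
  refine ⟨(0, -b), ?_⟩
  change (φ ^ i) 0 - (-b) = b
  rw [map_zero, zero_sub, neg_neg]

omit hφ in
theorem range_u0 (i : ℕ) : LinearMap.range (u0 φ i) = LinearMap.ker (v0 φ i) := by
  ext ⟨a, b⟩
  constructor
  · rintro ⟨x, hx⟩
    have h1 : x = a := congrArg Prod.fst hx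
    have h2 : (φ ^ i) x = b := congrArg Prod.snd hx
    rw [LinearMap.mem_ker]
    change (φ ^ i) a - b = 0
    rw [← h1, h2, sub_self]
  · intro h
    rw [LinearMap.mem_ker] at h
    have h' : (φ ^ i) a - b = 0 := h
    refine ⟨a, ?_⟩
    change (a, (φ ^ i) a) = (a, b)
    rw [sub_eq_zero.mp h']

/-- the first short exact sequence: `0 → C_i → T_i → C_1 → 0` -/
theorem ses1 (i : ℕ) (hi : i + 1 ≤ n) (hn : 0 < n) :
    (FinCoh R (φ ^ i) (φ ^ (n - i)) ∧ FinCoh R φ (φ ^ (n - 1)) →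
      FinCoh R (Phi φ i) (Psi φ n i) ∧
      herbrand R (Phi φ i) (Psi φ n i) =
        herbrand R (φ ^ i) (φ ^ (n - i)) + herbrand R φ (φ ^ (n - 1))) ∧
    (Module.length R (perH (φ ^ i) (φ ^ (n - i))) < ⊤ →
      Module.length R (perH φ (φ ^ (n - 1))) < ⊤ →
      Module.length R (perH (Phi φ i) (Psi φ n i)) < ⊤) := by
  have cφ₁ : Phi φ i ∘ₗ LinearMap.inl R M M = LinearMap.inl R M M ∘ₗ (φ ^ i) := by
    ext x
    · change (φ ^ i) x - 0 = (φ ^ i) x
      rw [sub_zero]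
    · change φ 0 = 0
      rw [map_zero]
  have cψ₁ : Psi φ n i ∘ₗ LinearMap.inl R M M = LinearMap.inl R M M ∘ₗ (φ ^ (n - i)) := by
    ext x
    · change (φ ^ (n - i)) x + (φ ^ (n - (i + 1))) 0 = (φ ^ (n - i)) x
      rw [map_zero, add_zero]
    · change (φ ^ (n - 1)) 0 = 0
      rw [map_zero]
  have cφ₂ : φ ∘ₗ LinearMap.snd R M M = LinearMap.snd R M M ∘ₗ Phi φ i := by
    apply LinearMap.ext
    rintro ⟨a, b⟩
    rfl
  have cψ₂ : (φ ^ (n - 1)) ∘ₗ LinearMap.snd R M M = LinearMap.snd R M M ∘ₗ Psi φ n i := by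
    apply LinearMap.ext
    rintro ⟨a, b⟩
    rfl
  have h1 := periodic_pow φ n hφ i (by omega)
  have h2 := periodic_mid φ n hφ i hi
  have h3 := periodic_one φ n hφ hn
  constructor
  · rintro ⟨fa, fb⟩
    have key := Groth.Agent.S1869.main (φ ^ i) (φ ^ (n - i)) (Phi φ i) (Psi φ n i) φ (φ ^ (n - 1))
      h1 h2 h3 (LinearMap.inl R M M) (LinearMap.inl R M M) (LinearMap.snd R M M)
      (LinearMap.snd R M M) cφ₁ cψ₁ cφ₂ cψ₂ LinearMap.inl_injective LinearMap.inl_injective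
      LinearMap.snd_surjective LinearMap.snd_surjective (LinearMap.range_inl R M M) (LinearMap.range_inl R M M)
      (Or.inr (Or.inl ⟨fa, fb⟩))
    exact ⟨key.2.1, key.2.2.2⟩
  · intro fa fb
    have e := Groth.Agent.S1869.exact_Hmap h2 (LinearMap.inl R M M) (LinearMap.inl R M M)
      (LinearMap.snd R M M) (LinearMap.snd R M M) cφ₁ cψ₁ cφ₂ cψ₂ LinearMap.inl_injective
      LinearMap.snd_surjective (LinearMap.range_inl R M M)
    exact Groth.Agent.S1869.finlen_mid _ _ e fa fb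

/-- the second short exact sequence: `0 → C_{i+1} → T_i → Z → 0` -/
theorem ses2 (i : ℕ) (hi : i + 1 ≤ n) :
    (FinCoh R (Phi φ i) (Psi φ n i) →
      FinCoh R (φ ^ (i + 1)) (φ ^ (n - (i + 1))) ∧
      herbrand R (Phi φ i) (Psi φ n i) = herbrand R (φ ^ (i + 1)) (φ ^ (n - (i + 1)))) ∧
    (Module.length R (perH (Phi φ i) (Psi φ n i)) < ⊤ →
      Module.length R (perH (φ ^ (i + 1)) (φ ^ (n - (i + 1)))) < ⊤) := by
  have cφ₁ : Phi φ i ∘ₗ u0 φ i = LinearMap.inr R M M ∘ₗ (φ ^ (i + 1)) := by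
    ext x
    · change (φ ^ i) x - (φ ^ i) x = 0
      rw [sub_self]
    · change φ ((φ ^ i) x) = (φ ^ (i + 1)) x
      rw [self_pow_apply]
  have cψ₁ : Psi φ n i ∘ₗ LinearMap.inr R M M = u0 φ i ∘ₗ (φ ^ (n - (i + 1))) := by
    ext x
    · change (φ ^ (n - i)) 0 + (φ ^ (n - (i + 1))) x = (φ ^ (n - (i + 1))) x
      rw [map_zero, zero_add]
    · change (φ ^ (n - 1)) x = (φ ^ i) ((φ ^ (n - (i + 1))) x)
      rw [pow_pow_apply, show i + (n - (i + 1)) = n - 1 by omega]
  have cφ₂ : (LinearMap.id : M →ₗ[R] M) ∘ₗ v0 φ i = LinearMap.fst R M M ∘ₗ Phi φ i := by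
    apply LinearMap.ext
    rintro ⟨a, b⟩
    rfl
  have cψ₂ : (0 : M →ₗ[R] M) ∘ₗ LinearMap.fst R M M = v0 φ i ∘ₗ Psi φ n i := by
    apply LinearMap.ext
    rintro ⟨c, d⟩
    change (0 : M) = (φ ^ i) ((φ ^ (n - i)) c + (φ ^ (n - (i + 1))) d) - (φ ^ (n - 1)) d
    rw [map_add, pow_pow_apply, pow_pow_apply, pow_eq_zero_apply φ n hφ _ (by omega) c, zero_add,
      show i + (n - (i + 1)) = n - 1 by omega, sub_self]
  have h1 := periodic_pow φ n hφ (i + 1) hi
  have h2 := periodic_mid φ n hφ i hi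
  have h3 : IsPeriodic (LinearMap.id : M →ₗ[R] M) (0 : M →ₗ[R] M) := periodic_Z
  constructor
  · intro fT
    have key := Groth.Agent.S1869.main (φ ^ (i + 1)) (φ ^ (n - (i + 1))) (Phi φ i) (Psi φ n i)
      LinearMap.id 0 h1 h2 h3 (u0 φ i) (LinearMap.inr R M M) (v0 φ i) (LinearMap.fst R M M)
      cφ₁ cψ₁ cφ₂ cψ₂ (u0_injective φ i) LinearMap.inr_injective (v0_surjective φ i)
      LinearMap.fst_surjective (range_u0 φ i) (LinearMap.range_inr R M M)
      (Or.inr (Or.inr ⟨fT, finCoh_Z⟩))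
    refine ⟨key.1, ?_⟩
    rw [key.2.2.2, herbrand_Z, add_zero]
  · intro fT
    obtain ⟨δ, -, -, e3, -⟩ := Groth.Agent.S1869.six_term
      (Groth.Agent.S1869.IsPeriodic.swap h1) (Groth.Agent.S1869.IsPeriodic.swap h2)
      (Groth.Agent.S1869.IsPeriodic.swap h3) (LinearMap.inr R M M) (u0 φ i)
      (LinearMap.fst R M M) (v0 φ i) cψ₁ cφ₁ cψ₂ cφ₂ LinearMap.inr_injective (u0_injective φ i)
      LinearMap.fst_surjective (v0_surjective φ i) (LinearMap.range_inr R M M) (range_u0 φ i)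
    refine Groth.Agent.S1869.finlen_mid _ _ e3 ?_ fT
    rw [length_H1_Z]; exact ENat.top_pos

theorem finlen_all (hn : 0 < n) (hfin : Module.length R (perH φ (φ ^ (n - 1))) < ⊤) :
    ∀ i, i ≤ n → Module.length R (perH (φ ^ i) (φ ^ (n - i))) < ⊤ := by
  intro i
  induction i with
  | zero =>
    intro _
    have : Module.length R (perH (φ ^ 0) (φ ^ (n - 0))) = 0 := by
      rw [Module.length_eq_zero_iff]
      constructor
      intro x y
      obtain ⟨⟨x, hx⟩, rfl⟩ := Submodule.Quotient.mk_surjective _ x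
      obtain ⟨⟨y, hy⟩, rfl⟩ := Submodule.Quotient.mk_surjective _ y
      have hx' : x = 0 := by simpa using hx
      have hy' : y = 0 := by simpa using hy
      subst hx' hy'
      rfl
    rw [this]; exact ENat.top_pos
  | succ i ih =>
    intro hi
    have hT := (ses1 φ n hφ i hi hn).2 (ih (by omega)) hfin
    exact (ses2 φ n hφ i hi).2 hT

theorem finCoh_all (hn : 0 < n) (hfin : Module.length R (perH φ (φ ^ (n - 1))) < ⊤)
    (i : ℕ) (hi : i ≤ n) : FinCoh R (φ ^ i) (φ ^ (n - i)) := by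
  refine ⟨finlen_all φ n hφ hn hfin i hi, ?_⟩
  have := finlen_all φ n hφ hn hfin (n - i) (Nat.sub_le n i)
  rwa [Nat.sub_sub_self hi] at this

theorem finCoh_one (hn : 0 < n) (hfin : Module.length R (perH φ (φ ^ (n - 1))) < ⊤) :
    FinCoh R φ (φ ^ (n - 1)) := by
  have := finCoh_all φ n hφ hn hfin 1 hn
  rwa [pow_one] at this

theorem herbrand_rec (hn : 0 < n) (hfin : Module.length R (perH φ (φ ^ (n - 1))) < ⊤) :
    ∀ i, i ≤ n → herbrand R (φ ^ i) (φ ^ (n - i)) = i * herbrand R φ (φ ^ (n - 1)) := by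
  intro i
  induction i with
  | zero =>
    intro _
    have h0 : Module.length R (perH (φ ^ 0) (φ ^ (n - 0))) = 0 := by
      rw [Module.length_eq_zero_iff]
      constructor
      intro x y
      obtain ⟨⟨x, hx⟩, rfl⟩ := Submodule.Quotient.mk_surjective _ x
      obtain ⟨⟨y, hy⟩, rfl⟩ := Submodule.Quotient.mk_surjective _ y
      have hx' : x = 0 := by simpa using hx
      have hy' : y = 0 := by simpa using hy
      subst hx' hy'
      rfl
    have h1 : Module.length R (perH (φ ^ (n - 0)) (φ ^ 0)) = 0 := by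
      rw [Module.length_eq_zero_iff]
      constructor
      intro x y
      obtain ⟨⟨x, hx⟩, rfl⟩ := Submodule.Quotient.mk_surjective _ x
      obtain ⟨⟨y, hy⟩, rfl⟩ := Submodule.Quotient.mk_surjective _ y
      rw [Submodule.Quotient.eq]
      exact ⟨x - y, by simp⟩
    unfold herbrand
    rw [h0, h1]
    simp
  | succ i ih =>
    intro hi
    have f1 := finCoh_all φ n hφ hn hfin i (by omega)
    have f2 := finCoh_one φ n hφ hn hfin
    obtain ⟨fT, eT⟩ := (ses1 φ n hφ i hi hn).1 ⟨f1, f2⟩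
    obtain ⟨-, eT'⟩ := (ses2 φ n hφ i hi).1 fT
    rw [← eT', eT, ih (by omega)]
    push_cast
    ring

omit hφ in
theorem main {R : Type u} [CommRing R] {M : Type v} [AddCommGroup M] [Module R M] (φ : M →ₗ[R] M) (n : ℕ) (hn : 0 < n) (hφ : φ ^ n = 0) (hfin : Module.length R (CycAlg.perH φ (φ ^ (n - 1))) < ⊤) (i : ℕ) (hi : i ≤ n) : CycAlg.FinCoh R (φ ^ i) (φ ^ (n - i)) ∧ CycAlg.herbrand R (φ ^ i) (φ ^ (n - i)) = 0 := by
  refine ⟨finCoh_all φ n hφ hn hfin i hi, ?_⟩
  -- e(C_n) = 0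
  have hn0 : herbrand R (φ ^ n) (φ ^ (n - n)) = 0 := by
    have h0 : Module.length R (perH (φ ^ n) (φ ^ (n - n))) = 0 := by
      rw [Module.length_eq_zero_iff]
      constructor
      intro x y
      obtain ⟨⟨x, hx⟩, rfl⟩ := Submodule.Quotient.mk_surjective _ x
      obtain ⟨⟨y, hy⟩, rfl⟩ := Submodule.Quotient.mk_surjective _ y
      rw [Submodule.Quotient.eq]
      exact ⟨x - y, by simp⟩
    have h1 : Module.length R (perH (φ ^ (n - n)) (φ ^ n)) = 0 := by
      rw [Module.length_eq_zero_iff]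
      constructor
      intro x y
      obtain ⟨⟨x, hx⟩, rfl⟩ := Submodule.Quotient.mk_surjective _ x
      obtain ⟨⟨y, hy⟩, rfl⟩ := Submodule.Quotient.mk_surjective _ y
      have hx' : x = 0 := by simpa using hx
      have hy' : y = 0 := by simpa using hy
      subst hx' hy'
      rfl
    unfold herbrand
    rw [h0, h1]
    simp
  have hrec := herbrand_rec φ n hφ hn hfin
  have h1 : (n : ℤ) * herbrand R φ (φ ^ (n - 1)) = 0 := by
    rw [← hrec n le_rfl, hn0]
  have h2 : herbrand R φ (φ ^ (n - 1)) = 0 := by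
    rcases mul_eq_zero.mp h1 with h | h
    · exfalso; have : n = 0 := by exact_mod_cast h
      omega
    · exact h
  rw [hrec i hi, h2, mul_zero]

end

/-- If φ is an endomorphism of M with φ^n = 0 (n > 0) and ker φ / im φ^(n-1) has finite length, then for
each 0 ≤ i ≤ n the (2,1)-periodic complex (M, φ^i, φ^(n-i)) has finite-length cohomology modules and
its Herbrand quotient vanishes. -/
theorem result {R : Type u} [CommRing R] {M : Type v} [AddCommGroup M] [Module R M] (φ : M →ₗ[R] M) (n : ℕ) (hn : 0 < n) (hφ : φ ^ n = 0) (hfin : Module.length R (CycAlg.perH φ (φ ^ (n - 1))) < ⊤) (i : ℕ) (hi : i ≤ n) : CycAlg.FinCoh R (φ ^ i) (φ ^ (n - i)) ∧ CycAlg.herbrand R (φ ^ i) (φ ^ (n - i)) = 0 := by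
  exact Groth.Agent.S1831.main φ n hn hφ hfin i hi

end Groth.Agent.S1831
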