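import Groth.Statements.S9134
import Mathlib
-- import your own Groth.Agent.* helpers here

set_option autoImplicit false
universe u
open CAlg

namespace Groth.Agent.S9134

section
open Pointwise

/-- `A/B` for submodules of an ambient module -/
abbrev Q {R : Type*} [CommRing R] {V : Type*} [AddCommGroup V] [Module R V]
    (A B : Submodule R V) : Type _ := ↥A ⧸ B.comap A.subtype

section general
variable {R : Type*} [CommRing R] {V : Type*} [AddCommGroup V] [Module R V]

/-- chain additivity of length -/
theorem length_chain (N₁ N₂ P : Submodule R V) (h₁ : N₁ ≤ N₂) (h₂ : N₂ ≤ P) :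
    Module.length R (Q P N₁) = Module.length R (Q N₂ N₁) + Module.length R (Q P N₂) := by
  let f : Q N₂ N₁ →ₗ[R] Q P N₁ :=
    Submodule.mapQ _ _ (Submodule.inclusion h₂) (fun p hp => by
      rw [Submodule.mem_comap] at hp ⊢
      exact hp)
  have hle : N₁.comap P.subtype ≤ N₂.comap P.subtype := Submodule.comap_mono h₁
  refine Module.length_eq_add_of_exact f (Submodule.factor hle) ?_
    (Submodule.factor_surjective hle) ?_
  · rw [← LinearMap.ker_eq_bot, Submodule.ker_mapQ]
    have : Submodule.comap (Submodule.inclusion h₂) (N₁.comap P.subtype) = N₁.comap N₂.subtype := by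
      ext p; rfl
    rw [this]
    exact Submodule.mkQ_map_self _
  · intro y
    constructor
    · intro hy
      obtain ⟨⟨p, hpP⟩, rfl⟩ := Submodule.Quotient.mk_surjective _ y
      rw [← Submodule.mkQ_apply, Submodule.factor_mk, Submodule.mkQ_apply,
        Submodule.Quotient.mk_eq_zero] at hy
      have hp2 : p ∈ N₂ := hy
      exact ⟨Submodule.Quotient.mk ⟨p, hp2⟩, rfl⟩
    · rintro ⟨z, rfl⟩
      obtain ⟨⟨p, hp⟩, rfl⟩ := Submodule.Quotient.mk_surjective _ z
      change Submodule.factor hle ((N₁.comap P.subtype).mkQ ⟨p, h₂ hp⟩) = 0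
      rw [Submodule.factor_mk, Submodule.mkQ_apply, Submodule.Quotient.mk_eq_zero]
      exact hp

theorem smul_le_smul (x : R) {N P : Submodule R V} (h : N ≤ P) : x • N ≤ x • P := fun p hp => by
  obtain ⟨n, hn, rfl⟩ := hp
  exact Submodule.smul_mem_pointwise_smul n x P (h hn)

theorem smul_le_self (x : R) (N : Submodule R V) : x • N ≤ N := fun p hp => by
  obtain ⟨n, hn, rfl⟩ := hp
  exact N.smul_mem x hn

/-- (G) -/
theorem length_smul_eq (x : R) (hx : ∀ p : V, x • p = 0 → p = 0) (N P : Submodule R V)
    (hNP : N ≤ P) (hfin : Module.length R (Q P N) ≠ ⊤) :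
    Module.length R (Q P (x • P)) = Module.length R (Q N (x • N)) := by
  have h1 := length_chain (x • N) (x • P) P (smul_le_smul x hNP) (smul_le_self x P)
  have h2 := length_chain (x • N) N P (smul_le_self x N) hNP
  have hiso : Module.length R (Q (x • P) (x • N)) = Module.length R (Q P N) := by
    let φ : ↥P →ₗ[R] ↥(x • P) :=
      ((DistribSMul.toLinearMap R V x).comp P.subtype).codRestrict _
        (fun p => Submodule.smul_mem_pointwise_smul p.1 x P p.2)
    let ψ : ↥P →ₗ[R] Q (x • P) (x • N) := (Submodule.mkQ _).comp φ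
    have hψsurj : Function.Surjective ψ := by
      intro y
      obtain ⟨⟨_, p, hp, rfl⟩, rfl⟩ := Submodule.Quotient.mk_surjective _ y
      exact ⟨⟨p, hp⟩, rfl⟩
    have hψker : LinearMap.ker ψ = N.comap P.subtype := by
      ext p
      rw [LinearMap.mem_ker]
      change Submodule.Quotient.mk (φ p) = 0 ↔ _
      rw [Submodule.Quotient.mk_eq_zero, Submodule.mem_comap, Submodule.mem_comap]
      change x • (p : V) ∈ x • N ↔ _
      constructor
      · rintro ⟨n, hn, hnp⟩
        have : n - (p : V) = 0 := hx _ (by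
          have : x • n = x • (p : V) := hnp
          rw [smul_sub, this, sub_self])
        rw [sub_eq_zero] at this
        rw [Submodule.subtype_apply, ← this]; exact hn
      · intro hp
        exact Submodule.smul_mem_pointwise_smul _ x N hp
    have e := (LinearMap.quotKerEquivOfSurjective ψ hψsurj)
    rw [← e.length_eq]
    exact (Submodule.quotEquivOfEq _ _ hψker).length_eq
  rw [hiso] at h1
  rw [h1] at h2
  rw [add_comm] at h2
  exact (ENat.add_left_injective_of_ne_top hfin h2)

/-- monotonicity for saturated submodules -/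
theorem length_smul_le (x : R) (N P : Submodule R V) (hNP : N ≤ P)
    (hsat : ∀ p ∈ P, x • p ∈ N → p ∈ N) :
    Module.length R (Q N (x • N)) ≤ Module.length R (Q P (x • P)) := by
  let f : Q N (x • N) →ₗ[R] Q P (x • P) :=
    Submodule.mapQ _ _ (Submodule.inclusion hNP) (fun p hp => by
      rw [Submodule.mem_comap] at hp ⊢
      exact smul_le_smul x hNP hp)
  refine Module.length_le_of_injective f ?_
  rw [← LinearMap.ker_eq_bot, Submodule.ker_mapQ]
  have : Submodule.comap (Submodule.inclusion hNP) ((x • P).comap P.subtype) =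
      (x • N).comap N.subtype := by
    ext ⟨n, hn⟩
    simp only [Submodule.mem_comap, Submodule.subtype_apply, Submodule.coe_inclusion]
    constructor
    · rintro ⟨p, hp, hpn⟩
      have hpn' : x • p = n := hpn
      exact ⟨p, hsat p hp (hpn' ▸ hn), hpn⟩
    · intro h
      exact smul_le_smul x hNP h
  rw [this]
  exact Submodule.mkQ_map_self _

/-- colimit argument -/
theorem length_le_of_fg (M : Submodule R V) (x : R) (B : ℕ)
    (h : ∀ M₀ : Submodule R V, M₀ ≤ M → M₀.FG → Module.length R (Q M₀ (x • M₀)) ≤ B) :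
    Module.length R (Q M (x • M)) ≤ B := by
  classical
  by_contra hcon
  rw [not_le] at hcon
  have h1 : ((B + 1 : ℕ) : WithBot ℕ∞) ≤ Order.krullDim (Submodule R (Q M (x • M))) := by
    rw [← Module.coe_length]
    have : ((B + 1 : ℕ) : ℕ∞) ≤ Module.length R (Q M (x • M)) := by
      rw [Nat.cast_add, Nat.cast_one]
      exact Order.add_one_le_of_lt hcon
    exact_mod_cast this
  obtain ⟨l, hl⟩ := Order.le_krullDim_iff.mp h1
  have hstep : ∀ i : Fin l.length, ∃ q, q ∈ l i.succ ∧ q ∉ l i.castSucc := fun i =>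
    SetLike.exists_of_lt (l.step i)
  choose q hq1 hq2 using hstep
  have hlift : ∀ i, ∃ m : ↥M, Submodule.Quotient.mk m = q i := fun i =>
    Submodule.Quotient.mk_surjective _ (q i)
  choose m hm using hlift
  let M₀ : Submodule R V := Submodule.span R (Set.range fun i => (m i : V))
  have hM₀fg : M₀.FG := Submodule.fg_span (Set.finite_range _)
  have hM₀le : M₀ ≤ M := Submodule.span_le.mpr (by rintro _ ⟨i, rfl⟩; exact (m i).2)
  let πb : Q M₀ (x • M₀) →ₗ[R] Q M (x • M) :=
    Submodule.mapQ _ _ (Submodule.inclusion hM₀le) (fun p hp => by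
      rw [Submodule.mem_comap] at hp ⊢
      exact smul_le_smul x hM₀le hp)
  have hπb : ∀ i, πb (Submodule.Quotient.mk ⟨m i, Submodule.subset_span ⟨i, rfl⟩⟩) = q i := by
    intro i
    rw [← hm i]
    rfl
  let l' : LTSeries (Submodule R (Q M₀ (x • M₀))) :=
    { length := l.length
      toFun := fun j => (l j).comap πb
      step := by
        intro i
        refine lt_of_le_of_ne (Submodule.comap_mono (l.step i).le) ?_
        intro heq
        have : Submodule.Quotient.mk ⟨m i, Submodule.subset_span ⟨i, rfl⟩⟩ ∈ (l i.succ).comap πb := by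
          rw [Submodule.mem_comap, hπb]; exact hq1 i
        rw [← heq, Submodule.mem_comap, hπb] at this
        exact hq2 i this }
  have h2 := Order.LTSeries.length_le_krullDim l'
  rw [← Module.coe_length] at h2
  have h3 : (l'.length : ℕ∞) ≤ Module.length R (Q M₀ (x • M₀)) := by
    exact_mod_cast h2
  have h4 := h3.trans (h M₀ hM₀le hM₀fg)
  have h5 : l'.length = B + 1 := hl
  rw [h5] at h4
  have : (B + 1 : ℕ) ≤ B := by exact_mod_cast h4
  omega

end general

section domain
variable {R : Type u} [CommRing R] [IsDomain R] [IsNoetherianRing R]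

/-- quotient of a 1-dimensional Noetherian domain by a nonzero element is Artinian -/
theorem artinian_quot (hdim : ringKrullDim R = 1) (r : R) (hr : r ≠ 0) :
    IsArtinianRing (R ⧸ Ideal.span {r}) := by
  haveI : Ring.KrullDimLE 1 R := by
    rw [Ring.krullDimLE_iff, hdim]; rfl
  rw [isArtinianRing_iff_krullDimLE_zero, Ring.krullDimLE_zero_iff]
  intro P hP
  have hsurj : Function.Surjective (Ideal.Quotient.mk (Ideal.span {r})) := Ideal.Quotient.mk_surjective
  have hcm : (P.comap (Ideal.Quotient.mk (Ideal.span {r}))).IsMaximal := by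
    haveI : (P.comap (Ideal.Quotient.mk (Ideal.span {r}))).IsPrime := Ideal.comap_isPrime _ _
    refine Ideal.IsPrime.isMaximal_of_ne_bot ‹_› ?_
    intro hbot
    have : r ∈ P.comap (Ideal.Quotient.mk (Ideal.span {r})) := by
      rw [Ideal.mem_comap]
      have : Ideal.Quotient.mk (Ideal.span {r}) r = 0 :=
        Ideal.Quotient.eq_zero_iff_mem.mpr (Ideal.mem_span_singleton_self r)
      rw [this]; exact P.zero_mem
    rw [hbot] at this
    exact hr this
  have h1 := Ideal.map_eq_top_or_isMaximal_of_surjective _ hsurj hcm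
  rw [Ideal.map_comap_of_surjective _ hsurj] at h1
  exact h1.resolve_left hP.ne_top

/-- f.g. torsion modules have finite length -/
theorem finlen_of_fg_torsion (hdim : ringKrullDim R = 1) (N : Type*) [AddCommGroup N] [Module R N]
    [Module.Finite R N] (htors : ∀ x : N, ∃ r : R, r ≠ 0 ∧ r • x = 0) :
    IsFiniteLength R N := by
  classical
  obtain ⟨s, hs⟩ := (inferInstance : Module.Finite R N).fg_top
  choose c hc0 hc using htors
  set r : R := ∏ x ∈ s, c x with hr
  have hr0 : r ≠ 0 := Finset.prod_ne_zero_iff.mpr fun x _ => hc0 x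
  have hkill : ∀ y : N, r • y = 0 := by
    intro y
    have hy : y ∈ Submodule.span R (s : Set N) := hs ▸ Submodule.mem_top
    refine Submodule.span_induction (p := fun y _ => r • y = 0) ?_ ?_ ?_ ?_ hy
    · intro x hx
      obtain ⟨d, hd⟩ := Finset.dvd_prod_of_mem c hx
      rw [hr, hd, mul_comm, mul_smul, hc, smul_zero]
    · simp
    · intro a b _ _ ha hb; rw [smul_add, ha, hb, add_zero]
    · intro a x _ hx; rw [smul_comm, hx, smul_zero]
  have hT : Module.IsTorsionBy R N r := fun x => hkill x
  letI : Module (R ⧸ Ideal.span {r}) N := hT.module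
  haveI : IsScalarTower R (R ⧸ Ideal.span {r}) N := inferInstance
  haveI := artinian_quot hdim r hr0
  haveI : Module.Finite (R ⧸ Ideal.span {r}) N := Module.Finite.of_restrictScalars_finite R _ _
  haveI : IsArtinian (R ⧸ Ideal.span {r}) N := inferInstance
  haveI : IsArtinian R N :=
    isArtinian_of_surjective_algebraMap (R := R ⧸ Ideal.span {r}) (S := R) (M := N)
      Ideal.Quotient.mk_surjective
  rw [isFiniteLength_iff_isNoetherian_isArtinian]
  exact ⟨inferInstance, inferInstance⟩

variable {K : Type*} [Field K] [Algebra R K] [IsFractionRing R K] {V : Type*} [AddCommGroup V]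
  [Module K V] [Module R V] [IsScalarTower R K V]

omit [IsNoetherianRing R] in
theorem exists_smul_mem_of_mem_span (M : Submodule R V) (v : V)
    (hv : v ∈ Submodule.span K (M : Set V)) :
    ∃ r : R, r ≠ 0 ∧ r • v ∈ M := by
  refine Submodule.span_induction (p := fun v _ => ∃ r : R, r ≠ 0 ∧ r • v ∈ M) ?_ ?_ ?_ ?_ hv
  · intro x hx; exact ⟨1, one_ne_zero, by simpa using hx⟩
  · exact ⟨1, one_ne_zero, by simp⟩
  · rintro a b _ _ ⟨r, hr, hra⟩ ⟨t, ht, htb⟩
    refine ⟨r * t, mul_ne_zero hr ht, ?_⟩
    rw [smul_add]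
    refine M.add_mem ?_ ?_
    · rw [mul_comm, mul_smul]; exact M.smul_mem _ hra
    · rw [mul_smul]; exact M.smul_mem _ htb
  · rintro k x _ ⟨r, hr, hrx⟩
    obtain ⟨a, b, hb, rfl⟩ := IsFractionRing.div_surjective (A := R) k
    have hb0 : b ≠ 0 := nonZeroDivisors.ne_zero hb
    have hbK : algebraMap R K b ≠ 0 :=
      (map_ne_zero_iff _ (IsFractionRing.injective R K)).mpr hb0
    refine ⟨b * r, mul_ne_zero hb0 hr, ?_⟩
    have : (b * r) • ((algebraMap R K a / algebraMap R K b) • x) = a • (r • x) := by
      rw [← algebraMap_smul K (b * r), ← algebraMap_smul K a, ← algebraMap_smul K r, smul_smul,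
        smul_smul, map_mul]
      congr 1
      field_simp
    rw [this]; exact M.smul_mem _ hrx

omit [IsNoetherianRing R] in
include K in
theorem smul_inj (x : R) (hx : x ≠ 0) (p : V) (h : x • p = 0) : p = 0 := by
  rw [← algebraMap_smul K x, smul_eq_zero] at h
  rcases h with h | h
  · exact absurd h ((map_ne_zero_iff _ (IsFractionRing.injective R K)).mpr hx)
  · exact h

theorem finlen_Q (hdim : ringKrullDim R = 1) (N P : Submodule R V) (hP : P.FG)
    (htors : ∀ p ∈ P, ∃ r : R, r ≠ 0 ∧ r • p ∈ N) : Module.length R (Q P N) ≠ ⊤ := by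
  haveI : Module.Finite R ↥P := Module.Finite.iff_fg.mpr hP
  rw [Module.length_ne_top_iff]
  refine finlen_of_fg_torsion hdim _ ?_
  intro y
  obtain ⟨⟨v, hv⟩, rfl⟩ := Submodule.Quotient.mk_surjective _ y
  obtain ⟨r, hr, hrv⟩ := htors v hv
  refine ⟨r, hr, ?_⟩
  rw [← Submodule.Quotient.mk_smul, Submodule.Quotient.mk_eq_zero]
  exact hrv

theorem main_V (hdim : ringKrullDim R = 1) [FiniteDimensional K V] (M : Submodule R V) (x : R)
    (hx : x ≠ 0) : Module.length R (Q M (x • M)) ≠ ⊤ := by
  have hxinj : ∀ p : V, x • p = 0 → p = 0 := smul_inj (K := K) x hx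
  let b := Module.finBasis K V
  let F₀ : Submodule R V := Submodule.span R (Set.range b)
  have hF₀fg : F₀.FG := Submodule.fg_span (Set.finite_range _)
  have hF₀span : Submodule.span K (F₀ : Set V) = ⊤ := by
    rw [eq_top_iff, ← b.span_eq]
    exact Submodule.span_mono Submodule.subset_span
  have hB : Module.length R (Q F₀ (x • F₀)) ≠ ⊤ :=
    finlen_Q hdim (x • F₀) F₀ hF₀fg
      (fun p hp => ⟨x, hx, Submodule.smul_mem_pointwise_smul p x F₀ hp⟩)
  obtain ⟨B, hB⟩ := ENat.ne_top_iff_exists.mp hB
  have hmain := length_le_of_fg M x B (fun M₀ _ hfg => ?_)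
  · exact ne_top_of_le_ne_top (ENat.natCast_ne_top B) hmain
  let P : Submodule R V := M₀ ⊔ F₀
  let N : Submodule R V := P ⊓ (Submodule.span K (M₀ : Set V)).restrictScalars R
  have hM₀N : M₀ ≤ N := le_inf le_sup_left (fun v hv => Submodule.subset_span hv)
  have hNP : N ≤ P := inf_le_left
  have hPfg : P.FG := hfg.sup hF₀fg
  have hNfg : N.FG := by
    haveI : IsNoetherian R ↥P := isNoetherian_of_fg_of_noetherian P hPfg
    haveI : IsNoetherian R ↥N := isNoetherian_of_le hNP
    exact Module.Finite.iff_fg.mp inferInstance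
  -- step A
  have hA : Module.length R (Q N (x • N)) = Module.length R (Q M₀ (x • M₀)) :=
    length_smul_eq x hxinj M₀ N hM₀N
      (finlen_Q hdim M₀ N hNfg (fun p hp => exists_smul_mem_of_mem_span (K := K) M₀ p hp.2))
  -- step B
  have hBle : Module.length R (Q N (x • N)) ≤ Module.length R (Q P (x • P)) := by
    refine length_smul_le x N P hNP (fun p hp hxp => ⟨hp, ?_⟩)
    have h1 : x • p ∈ Submodule.span K (M₀ : Set V) := hxp.2
    have hxK : algebraMap R K x ≠ 0 := (map_ne_zero_iff _ (IsFractionRing.injective R K)).mpr hx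
    have h2 : p = (algebraMap R K x)⁻¹ • (x • p) := by
      rw [← algebraMap_smul K x, smul_smul, inv_mul_cancel₀ hxK, one_smul]
    change p ∈ Submodule.span K (M₀ : Set V)
    rw [h2]
    exact Submodule.smul_mem _ _ h1
  -- step C
  have hC : Module.length R (Q P (x • P)) = Module.length R (Q F₀ (x • F₀)) :=
    length_smul_eq x hxinj F₀ P le_sup_right
      (finlen_Q hdim F₀ P hPfg (fun p _ =>
        exists_smul_mem_of_mem_span (K := K) F₀ p (hF₀span ▸ Submodule.mem_top)))
  rw [← hA, hB, ← hC]
  exact hBle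

end domain

theorem comap_eq {R : Type*} [CommRing R] {V : Type*} [AddCommGroup V] [Module R V]
    (M : Submodule R V) (x : R) :
    (x • M).comap M.subtype = Ideal.span ({x} : Set R) • (⊤ : Submodule R ↥M) := by
  rw [Submodule.ideal_span_singleton_smul]
  ext ⟨m, hm⟩
  rw [Submodule.mem_comap]
  constructor
  · rintro ⟨n, hn, hnm⟩
    exact ⟨⟨n, hn⟩, Submodule.mem_top, Subtype.ext hnm⟩
  · rintro ⟨⟨n, hn⟩, -, hnm⟩
    exact ⟨n, hn, congrArg Subtype.val hnm⟩

theorem main (R : Type u) [CommRing R] [IsDomain R]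
    [IsNoetherianRing R] (hdim : ringKrullDim R = 1) (K : Type u) [Field K] [Algebra R K]
    [IsFractionRing R K] (r : ℕ) (M : Submodule R (Fin r → K)) (x : R) (hx : x ≠ 0) :
    Module.length R (M ⧸ (Ideal.span ({x} : Set R) • (⊤ : Submodule R M))) ≠ ⊤ := by
  have h := main_V (K := K) hdim M x hx
  rw [← (Submodule.quotEquivOfEq _ _ (comap_eq M x)).length_eq]
  exact h

end

/-- Let R be a Noetherian domain of dimension one with fraction field K, M an R-submodule of K^r, and x
a nonzero element of R. Then M/xM has finite length over R. -/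
theorem result (R : Type u) [CommRing R] [IsDomain R]
    [IsNoetherianRing R] (hdim : ringKrullDim R = 1) (K : Type u) [Field K] [Algebra R K]
    [IsFractionRing R K] (r : ℕ) (M : Submodule R (Fin r → K)) (x : R) (hx : x ≠ 0) :
    Module.length R (M ⧸ (Ideal.span ({x} : Set R) • (⊤ : Submodule R M))) ≠ ⊤ := by
  exact Groth.Agent.S9134.main R hdim K r M x hx

end Groth.Agent.S9134
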