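import Groth.Statements.S1832
import Mathlib
import Groth.Agent.S9134
import Groth.Agent.S2880
-- import your own Groth.Agent.* helpers here

set_option autoImplicit false
universe u v
open Pointwise
open CycAlg

namespace Groth.Agent.S1832

section
open CycAlg Pointwise

variable {R : Type u} [CommRing R]

/-- finite modules with zero-dimensional support over a Noetherian ring have finite length -/
theorem finlen_of_supportDim_le_zero [IsNoetherianRing R] (P : Type*) [AddCommGroup P] [Module R P]
    [Module.Finite R P] (h : Module.supportDim R P ≤ 0) : IsFiniteLength R P := by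
  rw [Module.supportDim_eq_ringKrullDim_quotient_annihilator] at h
  set I := Module.annihilator R P with hI
  haveI : Ring.KrullDimLE 0 (R ⧸ I) := by
    rw [Ring.krullDimLE_iff]; exact h
  haveI : IsArtinianRing (R ⧸ I) := isArtinianRing_iff_krullDimLE_zero.mpr inferInstance
  have hT : Module.IsTorsionBySet R P (I : Set R) := by
    intro y a
    exact Module.mem_annihilator.mp a.2 y
  letI : Module (R ⧸ I) P := hT.module
  haveI : IsScalarTower R (R ⧸ I) P := hT.isScalarTower
  haveI : Module.Finite (R ⧸ I) P := Module.Finite.of_restrictScalars_finite R _ _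
  haveI : IsArtinian (R ⧸ I) P := inferInstance
  haveI : IsArtinian R P :=
    isArtinian_of_surjective_algebraMap (R := R ⧸ I) (S := R) (M := P)
      Ideal.Quotient.mk_surjective
  rw [isFiniteLength_iff_isNoetherian_isArtinian]
  exact ⟨inferInstance, inferInstance⟩

/-- a finite module killed by `x` whose support lies in the support of `M` has finite length
  when `M/xM` has zero-dimensional support -/
theorem finlen_of_killed [IsNoetherianRing R] {M : Type v} [AddCommGroup M] [Module R M]
    [Module.Finite R M] (x : R)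
    (hx : Module.supportDim R (M ⧸ x • (⊤ : Submodule R M)) ≤ 0)
    (P : Type*) [AddCommGroup P] [Module R P] [Module.Finite R P] (hkill : ∀ p : P, x • p = 0)
    (hsupp : Module.support R P ⊆ Module.support R M) : Module.length R P < ⊤ := by
  rw [lt_top_iff_ne_top, Module.length_ne_top_iff]
  apply finlen_of_supportDim_le_zero
  refine le_trans ?_ hx
  have hsub : Module.support R P ⊆ Module.support R (QuotSMulTop x M) := by
    rw [Module.support_quotSMulTop]
    intro p hp
    refine ⟨hsupp hp, ?_⟩
    rw [PrimeSpectrum.mem_zeroLocus, Set.singleton_subset_iff]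
    apply Module.annihilator_le_of_mem_support hp
    rw [Module.mem_annihilator]
    exact hkill
  exact Order.krullDim_le_of_strictMono (fun a => ⟨a.1, hsub a.2⟩) (fun {_ _} lt => lt)

variable {M : Type v} [AddCommGroup M] [Module R M]

theorem herbrand_swap (φ ψ : M →ₗ[R] M) : herbrand R φ ψ = - herbrand R ψ φ := by
  unfold herbrand; ring

theorem finCoh_swap {φ ψ : M →ₗ[R] M} (h : FinCoh R φ ψ) : FinCoh R ψ φ := ⟨h.2, h.1⟩

/-- `ker(xφ)/ker φ ≅ (im φ)[x]` -/
theorem length_ker_quot (φ : M →ₗ[R] M) (x : R) :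
    Module.length R (Groth.Agent.S9134.Q (LinearMap.ker (x • φ)) (LinearMap.ker φ)) =
      Module.length R (LinearMap.ker (x • (LinearMap.id :
        ↥(LinearMap.range φ) →ₗ[R] ↥(LinearMap.range φ)))) := by
  let g : LinearMap.ker (x • φ) →ₗ[R] LinearMap.ker (x • (LinearMap.id :
        ↥(LinearMap.range φ) →ₗ[R] ↥(LinearMap.range φ))) :=
    { toFun := fun m => ⟨⟨φ m.1, ⟨m.1, rfl⟩⟩, by
        rw [LinearMap.mem_ker, LinearMap.smul_apply, LinearMap.id_apply]
        apply Subtype.ext
        have := m.2
        rw [LinearMap.mem_ker, LinearMap.smul_apply] at this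
        exact this⟩
      map_add' := fun a b => by
        apply Subtype.ext; apply Subtype.ext
        exact map_add φ a.1 b.1
      map_smul' := fun c a => by
        apply Subtype.ext; apply Subtype.ext
        exact map_smul φ c a.1 }
  have hg : Function.Surjective g := by
    rintro ⟨⟨n, ⟨m, rfl⟩⟩, hn⟩
    rw [LinearMap.mem_ker, LinearMap.smul_apply, LinearMap.id_apply] at hn
    have hn' : x • φ m = 0 := congrArg Subtype.val hn
    exact ⟨⟨m, by rw [LinearMap.mem_ker, LinearMap.smul_apply]; exact hn'⟩, rfl⟩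
  have hk : LinearMap.ker g = (LinearMap.ker φ).comap (LinearMap.ker (x • φ)).subtype := by
    ext m
    rw [LinearMap.mem_ker, Submodule.mem_comap, LinearMap.mem_ker]
    constructor
    · intro h
      exact congrArg (fun z => z.1.1) h
    · intro h
      apply Subtype.ext; apply Subtype.ext
      exact h
  exact ((Submodule.quotEquivOfEq _ _ hk.symm).trans
    (LinearMap.quotKerEquivOfSurjective g hg)).length_eq

/-- `im φ / im(xφ) ≅ (im φ)/x(im φ)` -/
theorem length_range_quot (φ : M →ₗ[R] M) (x : R) :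
    Module.length R (Groth.Agent.S9134.Q (LinearMap.range φ) (LinearMap.range (x • φ))) =
      Module.length R (QuotSMulTop x ↥(LinearMap.range φ)) := by
  have : (LinearMap.range (x • φ)).comap (LinearMap.range φ).subtype =
      x • (⊤ : Submodule R ↥(LinearMap.range φ)) := by
    ext n
    rw [Submodule.mem_comap]
    constructor
    · rintro ⟨m, hm⟩
      rw [Submodule.mem_smul_pointwise_iff_exists]
      refine ⟨⟨φ m, ⟨m, rfl⟩⟩, Submodule.mem_top, ?_⟩
      apply Subtype.ext
      exact hm
    · intro h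
      rw [Submodule.mem_smul_pointwise_iff_exists] at h
      obtain ⟨⟨n', ⟨m, rfl⟩⟩, -, rfl⟩ := h
      exact ⟨m, rfl⟩
  exact (Submodule.quotEquivOfEq _ _ this).length_eq

variable [IsNoetherianRing R] [Module.Finite R M]

theorem half (φ ψ : M →ₗ[R] M) (hper : IsPeriodic φ ψ) (hfin : FinCoh R φ ψ) (x : R)
    (hx : Module.supportDim R (M ⧸ x • (⊤ : Submodule R M)) ≤ 0) :
    FinCoh R (x • φ) ψ ∧ herbrand R (x • φ) ψ = herbrand R φ ψ -
      herbrand R (0 : ↥(LinearMap.range φ) →ₗ[R] ↥(LinearMap.range φ)) (x • LinearMap.id) := by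
  -- chains of submodules
  have c1 : LinearMap.range ψ ≤ LinearMap.ker φ := by
    rintro _ ⟨m, rfl⟩
    rw [LinearMap.mem_ker, ← LinearMap.comp_apply, hper.1, LinearMap.zero_apply]
  have c2 : LinearMap.ker φ ≤ LinearMap.ker (x • φ) := by
    intro m hm
    rw [LinearMap.mem_ker] at hm
    rw [LinearMap.mem_ker, LinearMap.smul_apply, hm, smul_zero]
  have c3 : LinearMap.range (x • φ) ≤ LinearMap.range φ := by
    rintro _ ⟨m, rfl⟩
    exact ⟨x • m, by rw [map_smul, LinearMap.smul_apply]⟩
  have c4 : LinearMap.range φ ≤ LinearMap.ker ψ := by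
    rintro _ ⟨m, rfl⟩
    rw [LinearMap.mem_ker, ← LinearMap.comp_apply, hper.2, LinearMap.zero_apply]
  have l0 : Module.length R (perH (x • φ) ψ) = Module.length R (perH φ ψ) +
      Module.length R (LinearMap.ker (x • (LinearMap.id :
        ↥(LinearMap.range φ) →ₗ[R] ↥(LinearMap.range φ)))) := by
    rw [← length_ker_quot]
    exact Groth.Agent.S9134.length_chain _ _ _ c1 c2
  have l1 : Module.length R (perH ψ (x • φ)) = Module.length R (QuotSMulTop x ↥(LinearMap.range φ)) +
      Module.length R (perH ψ φ) := by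
    rw [← length_range_quot]
    exact Groth.Agent.S9134.length_chain _ _ _ c3 c4
  -- finiteness
  have hsuppN : Module.support R ↥(LinearMap.range φ) ⊆ Module.support R M :=
    Module.support_subset_of_injective (LinearMap.range φ).subtype (Submodule.subtype_injective _)
  have fk : Module.length R (LinearMap.ker (x • (LinearMap.id :
        ↥(LinearMap.range φ) →ₗ[R] ↥(LinearMap.range φ)))) < ⊤ := by
    refine finlen_of_killed x hx _ ?_ ?_
    · rintro ⟨y, hy⟩
      apply Subtype.ext
      simpa using hy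
    · exact (Module.support_subset_of_injective (Submodule.subtype _)
        (Submodule.subtype_injective _)).trans hsuppN
  have fc : Module.length R (QuotSMulTop x ↥(LinearMap.range φ)) < ⊤ := by
    refine finlen_of_killed x hx _ ?_ ?_
    · intro y
      obtain ⟨y, rfl⟩ := Submodule.mkQ_surjective _ y
      rw [← map_smul, Submodule.mkQ_apply, Submodule.Quotient.mk_eq_zero]
      exact Submodule.smul_mem_pointwise_smul y x ⊤ Submodule.mem_top
    · exact (Module.support_subset_of_surjective (Submodule.mkQ _)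
        (Submodule.mkQ_surjective _)).trans hsuppN
  obtain ⟨f0, f1⟩ := hfin
  have g0 : Module.length R (perH (x • φ) ψ) < ⊤ := by
    rw [l0]; exact ENat.add_lt_top.mpr ⟨f0, fk⟩
  have g1 : Module.length R (perH ψ (x • φ)) < ⊤ := by
    rw [l1]; exact ENat.add_lt_top.mpr ⟨fc, f1⟩
  refine ⟨⟨g0, g1⟩, ?_⟩
  have hN : herbrand R (0 : ↥(LinearMap.range φ) →ₗ[R] ↥(LinearMap.range φ)) (x • LinearMap.id) =
      ((Module.length R (QuotSMulTop x ↥(LinearMap.range φ))).toNat : ℤ) -
        (Module.length R (LinearMap.ker (x • (LinearMap.id :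
        ↥(LinearMap.range φ) →ₗ[R] ↥(LinearMap.range φ))))).toNat := by
    rw [herbrand_swap, Groth.Agent.S2880.herbrand_smul]
    ring
  rw [hN]
  unfold herbrand
  rw [l0, l1]
  lift Module.length R (perH φ ψ) to ℕ using f0.ne with a
  lift Module.length R (perH ψ φ) to ℕ using f1.ne with b
  lift Module.length R (LinearMap.ker (x • (LinearMap.id :
        ↥(LinearMap.range φ) →ₗ[R] ↥(LinearMap.range φ)))) to ℕ using fk.ne with c
  lift Module.length R (QuotSMulTop x ↥(LinearMap.range φ)) to ℕ using fc.ne with d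
  have e1 : ((a : ℕ∞) + (c : ℕ∞)).toNat = a + c := by
    rw [← Nat.cast_add, ENat.toNat_natCast]
  have e2 : ((d : ℕ∞) + (b : ℕ∞)).toNat = d + b := by
    rw [← Nat.cast_add, ENat.toNat_natCast]
  rw [e1, e2]
  simp only [ENat.toNat_natCast]
  push_cast
  ring

theorem main {R : Type u} [CommRing R] [IsNoetherianRing R] [IsLocalRing R] {M : Type v} [AddCommGroup M] [Module R M] [Module.Finite R M] (φ ψ : M →ₗ[R] M) (hper : CycAlg.IsPeriodic φ ψ) (hfin : CycAlg.FinCoh R φ ψ) (x : R) (hx : Module.supportDim R (M ⧸ x • (⊤ : Submodule R M)) ≤ 0) : (CycAlg.FinCoh R (x • φ) ψ ∧ CycAlg.herbrand R (x • φ) ψ = CycAlg.herbrand R φ ψ - CycAlg.herbrand R (0 : ↥(LinearMap.range φ) →ₗ[R] ↥(LinearMap.range φ)) (x • LinearMap.id)) ∧ (CycAlg.FinCoh R φ (x • ψ) ∧ CycAlg.herbrand R φ (x • ψ) = CycAlg.herbrand R φ ψ + CycAlg.herbrand R (0 : ↥(LinearMap.range ψ) →ₗ[R] ↥(LinearMap.range ψ)) (x • LinearMap.id)) := by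
  refine ⟨half φ ψ hper hfin x hx, ?_⟩
  obtain ⟨h1, h2⟩ := half ψ φ ⟨hper.2, hper.1⟩ (finCoh_swap hfin) x hx
  refine ⟨finCoh_swap h1, ?_⟩
  rw [herbrand_swap, h2, herbrand_swap ψ φ]
  ring

end

/-- Over a Noetherian local ring, let (M, φ, ψ) be a (2,1)-periodic complex with M finite and cohomology
of finite length, and let x be a ring element with M/xM supported in dimension ≤ 0. Then (M, xφ, ψ)
and (M, φ, xψ) again have finite-length cohomology, and their Herbrand quotients differ from that of
(M, φ, ψ) by the Herbrand quotient of (im φ, 0, x), respectively (im ψ, 0, x). -/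
theorem result {R : Type u} [CommRing R] [IsNoetherianRing R] [IsLocalRing R] {M : Type v} [AddCommGroup M] [Module R M] [Module.Finite R M] (φ ψ : M →ₗ[R] M) (hper : CycAlg.IsPeriodic φ ψ) (hfin : CycAlg.FinCoh R φ ψ) (x : R) (hx : Module.supportDim R (M ⧸ x • (⊤ : Submodule R M)) ≤ 0) : (CycAlg.FinCoh R (x • φ) ψ ∧ CycAlg.herbrand R (x • φ) ψ = CycAlg.herbrand R φ ψ - CycAlg.herbrand R (0 : ↥(LinearMap.range φ) →ₗ[R] ↥(LinearMap.range φ)) (x • LinearMap.id)) ∧ (CycAlg.FinCoh R φ (x • ψ) ∧ CycAlg.herbrand R φ (x • ψ) = CycAlg.herbrand R φ ψ + CycAlg.herbrand R (0 : ↥(LinearMap.range ψ) →ₗ[R] ↥(LinearMap.range ψ)) (x • LinearMap.id)) := by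
  exact Groth.Agent.S1832.main φ ψ hper hfin x hx

end Groth.Agent.S1832
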