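import Groth.Statements.S18329
import Groth.Agent.Lib.Helper6.PiZero

set_option autoImplicit false
universe u
open TensorProduct
open SGA3

namespace Groth.Agent.S18329

/-- Let k be an algebraically closed field of prime characteristic p and A a commutative Hopf algebra
over k, the coordinate ring of an affine k-group G, quotient groups of G being read as
sub-Hopf-algebras of A (subalgebras stable under comultiplication and antipode). Let B₀ be the
subalgebra of elements of A that are separable over k (its spectrum is the group of connected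
components π₀(G)) and let C be the largest cocommutative sub-Hopf-algebra of A (its spectrum is the
largest commutative quotient group G_ab). Then B₀ ⊓ C, whose spectrum is π₀(G_ab), is the largest
cocommutative sub-Hopf-algebra of A contained in B₀, whose spectrum is the largest commutative
quotient of π₀(G): the canonical homomorphism from π₀(G_ab) to (π₀(G))_ab is an isomorphism. (The
abelianization is rendered through its universal property among affine quotient groups, as the
largest cocommutative sub-Hopf-algebra, rather than as the quotient by the derived subgroup.) -/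
theorem result (k A : Type u) [Field k] [IsAlgClosed k]
    (p : ℕ) [Fact p.Prime] [CharP k p] [CommRing A] [HopfAlgebra k A]
    (B₀ : Subalgebra k A) (hB₀ : ∀ a : A, a ∈ B₀ ↔ IsSeparable k a)
    (C : Subalgebra k A) (hC : SGA3.IsHopfSubalgebra k A C)
    (hCc : ∀ c ∈ C, TensorProduct.comm k A A (Coalgebra.comul c) = Coalgebra.comul c)
    (hCmax : ∀ D : Subalgebra k A, SGA3.IsHopfSubalgebra k A D →
      (∀ d ∈ D, TensorProduct.comm k A A (Coalgebra.comul d) = Coalgebra.comul d) → D ≤ C) :
    IsGreatest {D : Subalgebra k A | SGA3.IsHopfSubalgebra k A D ∧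
      (∀ d ∈ D, TensorProduct.comm k A A (Coalgebra.comul d) = Coalgebra.comul d) ∧ D ≤ B₀}
      (B₀ ⊓ C) := by
  have hD : ∀ a : A, a ∈ B₀ ⊓ C ↔ (a ∈ C ∧ IsSeparable k a) := by
    intro a
    rw [Algebra.mem_inf, hB₀]
    exact and_comm
  have hcomul := Groth.Agent.Helper6.PiZero.comul_mem_range_of_isSeparable
    (Bialgebra.comulAlgHom k A) C (fun c hc => hC.1 c hc) (B₀ ⊓ C) hD
  refine ⟨⟨⟨fun b hb => hcomul b hb, fun b hb => ?_⟩, fun d hd => hCc d (Algebra.mem_inf.1 hd).2,
    inf_le_left⟩, fun D hDm => le_inf hDm.2.2 (hCmax D hDm.1 hDm.2.1)⟩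
  obtain ⟨hb1, hb2⟩ := Algebra.mem_inf.1 hb
  refine Algebra.mem_inf.2 ⟨(hB₀ _).2 ?_, hC.2 b hb2⟩
  exact Groth.Agent.Helper6.PiZero.isSeparable_map (HopfAlgebra.antipodeAlgHom k A) ((hB₀ b).1 hb1)

end Groth.Agent.S18329
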