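import Groth.Statements.S18343
import Groth.Agent.Lib.Helper23.RibCI

set_option autoImplicit false
universe u
open CategoryTheory CategoryTheory.Limits AlgebraicGeometry
open MultCurve

namespace Groth.Agent.S18343

/-- Suppose C is a ribbon on the reduced scheme D via the closed immersion i : D ⟶ C (meaning the ideal
of D squares to zero and is locally generated by a single section z whose annihilator lies in (z)),
and consider an arbitrary morphism of schemes f : C ⟶ X. The morphism f is a closed immersion
exactly when two things hold: the composite i ≫ f, i.e. f restricted to D, is a closed immersion,
and pulling back along f the ideal of the scheme-theoretic image of D in X yields the entire ideal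
of D in C. This second requirement amounts to surjectivity of the map α_f that sends the pullback of
the conormal sheaf of the image of D in X onto the conormal bundle of D in C. (The statement is
given for arbitrary schemes and any morphism f; the published version assumes all schemes are of
finite type over a field and D is connected, but the proof relies on neither assumption.) -/
theorem result (D C X : Scheme.{u}) (i : D ⟶ C)
    (hR : MultCurve.IsRibbon i) (f : C ⟶ X) :
    IsClosedImmersion f ↔ (IsClosedImmersion (i ≫ f) ∧ (i ≫ f).ker.comap f = i.ker) := by
  haveI : IsClosedImmersion i := hR.1.1
  have hsq : i.ker ^ 2 = ⊥ := hR.1.2.1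
  constructor
  · intro hf
    haveI := hf
    exact ⟨inferInstance, Groth.Agent.Helper23.RibCI.comap_ker_of_isClosedImmersion i f⟩
  · rintro ⟨h1, h2⟩
    haveI := h1
    exact Groth.Agent.Helper23.RibCI.isClosedImmersion_of_sq_zero i hsq f h2

end Groth.Agent.S18343
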