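import Groth.Statements.S18351
import Groth.Agent.Lib.Helper18.RibExt

set_option autoImplicit false
universe w u
open CategoryTheory CategoryTheory.Limits AlgebraicGeometry
open MultCurve

namespace Groth.Agent.S18351

/-- Let k be a field and D a reduced connected scheme locally of finite type over k with a universal
k-derivation d₂ : O_D → Ω₂. Let C and C′ be ribbons on D over k (k-schemes locally of finite type
with closed immersions i, i′ of D over k making them ribbons), each with its restricted cotangent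
sequence presented by a universal k-derivation (d₁, resp. d₁′), the map from the conormal bundle (𝓛,
resp. 𝓛′) induced by it and the map to Ω₂ compatible with d₂, assumed short exact, with classes e_C
∈ Ext¹(Ω₂, 𝓛) and e_{C′} ∈ Ext¹(Ω₂, 𝓛′). Let g : C ⟶ C′ be a morphism over D and over k, and let α :
𝓛′ → 𝓛 be the map of conormal bundles induced by g (pulled back along the identity of D). Then
e_{C′} composed with α equals e_C: together with the restriction to D of the differential of g, α is
a morphism from the restricted cotangent sequence of C′ to that of C. (This is the form in which the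
blow-up morphism X ⟶ C of a ribbon C along an effective Cartier divisor of D relates the two
classes; that such a blow-up X is again a ribbon on D, with conormal bundle 𝓛(δ), is a separate
statement, and the identification of α with multiplication by the section of δ is not asserted here.
Valid for every morphism of ribbons over D.) -/
theorem result (k : Type u) [Field k] (D : Scheme.{u})
    (pD : D ⟶ Spec (CommRingCat.of k)) [LocallyOfFiniteType pD] [ConnectedSpace D]
    (Ω₂ : D.Modules) (d₂ : OmegaSh.Der pD Ω₂) (hd₂ : OmegaSh.IsUniversal d₂) [HasExt.{w} D.Modules]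
    (C : Scheme.{u}) (i : D ⟶ C) (pC : C ⟶ Spec (CommRingCat.of k)) [LocallyOfFiniteType pC]
    (hp : i ≫ pC = pD) (hR : MultCurve.IsRibbon i)
    (Ω₁ : C.Modules) (d₁ : OmegaSh.Der pC Ω₁) (hd₁ : OmegaSh.IsUniversal d₁)
    (φ : Omega.conormal i ⟶ (Scheme.Modules.pullback i).obj Ω₁) (hφ : OmegaSh.IsConormalDiff i d₁ φ)
    (c : (Scheme.Modules.pullback i).obj Ω₁ ⟶ Ω₂) (hc : OmegaSh.IsDiffCompat i d₁ d₂ c)
    (hw : φ ≫ c = 0) (hS : (ShortComplex.mk φ c hw).ShortExact)
    (C' : Scheme.{u}) (i' : D ⟶ C') (pC' : C' ⟶ Spec (CommRingCat.of k)) [LocallyOfFiniteType pC']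
    (hp' : i' ≫ pC' = pD) (hR' : MultCurve.IsRibbon i')
    (Ω₁' : C'.Modules) (d₁' : OmegaSh.Der pC' Ω₁') (hd₁' : OmegaSh.IsUniversal d₁')
    (φ' : Omega.conormal i' ⟶ (Scheme.Modules.pullback i').obj Ω₁') (hφ' : OmegaSh.IsConormalDiff i' d₁' φ')
    (c' : (Scheme.Modules.pullback i').obj Ω₁' ⟶ Ω₂) (hc' : OmegaSh.IsDiffCompat i' d₁' d₂ c')
    (hw' : φ' ≫ c' = 0) (hS' : (ShortComplex.mk φ' c' hw').ShortExact)
    (g : C ⟶ C') (hgi : i ≫ g = i') (hgk : g ≫ pC' = pC)
    (α : (Scheme.Modules.pullback (𝟙 D)).obj (Omega.conormal i') ⟶ Omega.conormal i)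
    (hα : OmegaSh.IsConormalMap i i' g (𝟙 D) α) :
    hS'.extClass.comp (Abelian.Ext.mk₀ ((Scheme.Modules.pullbackId D).inv.app (Omega.conormal i') ≫ α)) (add_zero 1) =
      hS.extClass := by
  subst hgi
  haveI : IsClosedImmersion i := hR.1.1
  haveI : IsClosedImmersion (i ≫ g) := hR'.1.1
  obtain ⟨cg, hcg, -⟩ := Groth.Agent.Helper18.DerLib.existsUnique_isDiffCompat g
    (𝟙 (Spec (CommRingCat.of k))) (show pC ≫ 𝟙 _ = g ≫ pC' by rw [Category.comp_id, hgk]) d₁ d₁' hd₁'
  have hc'eq : Groth.Agent.Helper18.RibExt.beta i g cg ≫ c = c' := by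
    obtain ⟨c0, -, huniq⟩ := Groth.Agent.Helper18.DerLib.existsUnique_isDiffCompat (i ≫ g)
      (𝟙 (Spec (CommRingCat.of k))) (show pD ≫ 𝟙 _ = (i ≫ g) ≫ pC' by rw [Category.comp_id, hp'])
      d₂ d₁' hd₁'
    rw [huniq _ (Groth.Agent.Helper18.RibExt.isDiffCompat_beta_comp i g d₁ d₁' d₂ cg hcg c hc),
      huniq _ hc']
  let f : ShortComplex.mk φ' c' hw' ⟶ ShortComplex.mk φ c hw :=
    { τ₁ := (Scheme.Modules.pullbackId D).inv.app (Omega.conormal (i ≫ g)) ≫ α
      τ₂ := Groth.Agent.Helper18.RibExt.beta i g cg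
      τ₃ := 𝟙 Ω₂
      comm₁₂ := (Groth.Agent.Helper18.RibExt.sq1 i g d₁ d₁' cg hcg φ hφ φ' hφ' α hα).symm
      comm₂₃ := by
        change Groth.Agent.Helper18.RibExt.beta i g cg ≫ c = c' ≫ 𝟙 Ω₂
        rw [hc'eq, Category.comp_id] }
  have h := ShortComplex.ShortExact.extClass_naturality hS' hS f
  change hS'.extClass.comp (Abelian.Ext.mk₀
    ((Scheme.Modules.pullbackId D).inv.app (Omega.conormal (i ≫ g)) ≫ α)) (add_zero 1) =
      (Abelian.Ext.mk₀ (𝟙 Ω₂)).comp hS.extClass (zero_add 1) at h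
  rw [h, Abelian.Ext.mk₀_id_comp]

end Groth.Agent.S18351
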