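import Groth.Statements.S18368
import Groth.Agent.Lib.Helper18.Rigid25
import Groth.Agent.Lib.Helper18.Rigid16
import Groth.Agent.Lib.Helper18.NilThick

set_option autoImplicit false
universe u
open CategoryTheory CategoryTheory.Limits MonoidalCategory CartesianMonoidalCategory AlgebraicGeometry
open AbVar

namespace Groth.Agent.S18368

/-- Let k be a field, X and Y geometrically integral k-schemes of finite type with X proper, Z a
separated k-scheme and f : X ×_k Y → Z a k-morphism (products in the cartesian monoidal category of
k-schemes). If for some algebraically closed field K over k there are points y₀ : Spec K → Y and z₀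
: Spec K → Z over k such that f restricted to X ×_k Spec K along y₀ is the constant map z₀, then f
factors uniquely through the second projection: there is exactly one g : Y → Z over k with f = pr₂ ≫
g. (The target Z is not assumed to be of finite type over k.) -/
theorem result (k : Type u) [Field k]
    (X Y Z : Over (Spec (CommRingCat.of k)))
    [IsProper X.hom] [GeometricallyIntegral X.hom]
    [LocallyOfFiniteType Y.hom] [QuasiCompact Y.hom] [GeometricallyIntegral Y.hom]
    [IsSeparated Z.hom] (f : X ⊗ Y ⟶ Z)
    (K : Type u) [Field K] [Algebra k K] [IsAlgClosed K]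
    (y₀ : (Over.mk (Spec.map (CommRingCat.ofHom (algebraMap k K))) : Over (Spec (CommRingCat.of k))) ⟶ Y)
    (z₀ : (Over.mk (Spec.map (CommRingCat.ofHom (algebraMap k K))) : Over (Spec (CommRingCat.of k))) ⟶ Z)
    (h : (X ◁ y₀) ≫ f = snd X _ ≫ z₀) :
    ∃! g : Y ⟶ Z, f = snd X Y ≫ g := by
  haveI : IsLocallyNoetherian Y.left := LocallyOfFiniteType.isLocallyNoetherian Y.hom
  haveI : IsIntegral Y.left := GeometricallyIntegral.isIntegral_of_subsingleton Y.hom
  haveI : IsProper (snd X Y).left := by rw [Over.snd_left]; infer_instance
  haveI : Flat (snd X Y).left := by rw [Over.snd_left]; infer_instance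
  have h0X : ∀ s : ↥(Spec (CommRingCat.of k)), Function.Bijective
      (Limits.pullback.snd X.hom ((Spec (CommRingCat.of k)).fromSpecResidueField s)).appTop.hom :=
    fun s => Groth.Agent.Helper18.Rigid.h0_of_geometricallyIntegral X.hom s
  have h0' : ∀ y : Y.left, Function.Bijective
      (Limits.pullback.snd (snd X Y).left (Y.left.fromSpecResidueField y)).appTop.hom := by
    intro y
    exact Groth.Agent.Helper18.Rigid.h0_baseChange X.hom Y.hom h0X y
  have hpb : IsPullback (X ◁ y₀).left (snd X _).left (snd X Y).left y₀.left :=
    (Groth.Agent.Helper18.NilThick.isPullback_whiskerLeft_snd X y₀).map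
      (Over.forget (Spec (CommRingCat.of k)))
  obtain ⟨pt⟩ : Nonempty ↥(Spec (CommRingCat.of K)) := inferInstance
  have hcoll : ∀ w w' : (X ⊗ Y).left, (snd X Y).left.base w = y₀.left.base pt →
      (snd X Y).left.base w' = y₀.left.base pt → f.left.base w = f.left.base w' := by
    have key : ∀ w : (X ⊗ Y).left, (snd X Y).left.base w = y₀.left.base pt →
        f.left.base w = z₀.left.base pt := by
      intro w hw
      obtain ⟨w₁, hw₁, -⟩ := Groth.Agent.Helper18.Rigid.exists_preimage_of_isPullback hpb w
        pt hw
      have h1 := congrArg (fun φ => φ.left.base w₁) h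
      simp only [Over.comp_left, Scheme.Hom.comp_base, TopCat.comp_app] at h1
      rw [← hw₁, h1]
      congr 1
      exact Subsingleton.elim (α := ↥(Spec (CommRingCat.of K))) _ _
    intro w w' hw hw'
    rw [key w hw, key w' hw']
  obtain ⟨t, ht⟩ := Groth.Agent.Helper18.Rigid.rigidity_proper (snd X Y).left Z.hom Y.hom f.left
    (by rw [Over.w f, Over.w (snd X Y)]) h0' (y₀.left.base pt) hcoll
  haveI : Surjective (snd X Y).left :=
    ⟨Groth.Agent.Helper18.Rigid.surjective_of_h0 (snd X Y).left (fun s => (h0' s).injective)⟩
  haveI : Epi (snd X Y).left := Flat.epi_of_flat_of_surjective _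
  have ht' : t ≫ Z.hom = Y.hom := by
    rw [← cancel_epi (snd X Y).left, ← Category.assoc, ← ht, Over.w f, Over.w (snd X Y)]
  refine ⟨Over.homMk t ht', ?_, ?_⟩
  · ext
    simp only [Over.comp_left, Over.homMk_left]
    exact ht
  · intro g hg
    ext
    simp only [Over.homMk_left]
    have h1 := congrArg (fun φ => φ.left) hg
    simp only [Over.comp_left] at h1
    rw [ht] at h1
    exact ((cancel_epi (snd X Y).left).mp h1).symm

end Groth.Agent.S18368
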