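import Groth.Statements.S1837
import Mathlib
import Groth.Agent.Lib.Helper29.GlA
import Groth.Agent.Lib.Helper29.GlB
import Groth.Agent.Lib.Helper29.GlC
import Groth.Agent.Lib.Helper29.GlD
import Groth.Agent.Lib.Helper29.GlE

set_option autoImplicit false
universe u
open TensorProduct
open CycAlg

namespace Groth.Agent.S1837

/-- Let A be Noetherian with pairwise distinct maximal ideals 𝔪₁, …, 𝔪_r, and for each i a ring map φ_i
from A_{𝔪_i} to B_i whose kernel and cokernel are killed by a power of 𝔪_i. Then there is an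
A-algebra B whose base change to each A_{𝔪_i} is isomorphic to B_i and whose structure map has
kernel and cokernel killed by a power of 𝔪₁ ∩ … ∩ 𝔪_r; if every φ_i is finite (resp. injective,
resp. surjective) B can be taken with the same property. -/
theorem result (A : Type u) [CommRing A] [IsNoetherianRing A] (r : ℕ) (m : Fin r → Ideal A) (hm : ∀ i, (m i).IsMaximal) (hinj : Function.Injective m) (B : Fin r → Type u) [∀ i, CommRing (B i)] [∀ i, Algebra (Localization.AtPrime (m i)) (B i)] (hker : ∀ i, ∃ n : ℕ, ∀ x ∈ RingHom.ker (algebraMap (Localization.AtPrime (m i)) (B i)), ∀ y ∈ Ideal.map (algebraMap A (Localization.AtPrime (m i))) (m i) ^ n, y * x = 0) (hcoker : ∀ i, ∃ n : ℕ, ∀ y ∈ Ideal.map (algebraMap A (Localization.AtPrime (m i))) (m i) ^ n, ∀ b : B i, y • b ∈ (algebraMap (Localization.AtPrime (m i)) (B i)).range) : ∃ (C : Type u) (_ : CommRing C) (_ : Algebra A C), (∀ i, Nonempty ((Localization.AtPrime (m i)) ⊗[A] C ≃ₐ[Localization.AtPrime (m i)] B i)) ∧ (∃ n : ℕ, (∀ x ∈ RingHom.ker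 (algebraMap A C), ∀ y ∈ (⨅ i, m i) ^ n, y * x = 0) ∧ (∀ y ∈ (⨅ i, m i) ^ n, ∀ c : C, y • c ∈ (algebraMap A C).range)) ∧ ((∀ i, (algebraMap (Localization.AtPrime (m i)) (B i)).Finite) → (algebraMap A C).Finite) ∧ ((∀ i, Function.Injective (algebraMap (Localization.AtPrime (m i)) (B i))) → Function.Injective (algebraMap A C)) ∧ ((∀ i, Function.Surjective (algebraMap (Localization.AtPrime (m i)) (B i))) → Function.Surjective (algebraMap A C)) := by
  classical
  letI algB : ∀ i, Algebra A (B i) := fun i =>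
    ((algebraMap (Localization.AtPrime (m i)) (B i)).comp
      (algebraMap A (Localization.AtPrime (m i)))).toAlgebra
  haveI tow : ∀ i, IsScalarTower A (Localization.AtPrime (m i)) (B i) := fun i =>
    IsScalarTower.of_algebraMap_eq (fun _ => rfl)
  choose nk hnk using hker
  choose nc hnc using hcoker
  let n : ℕ := (Finset.univ.sup nk) ⊔ (Finset.univ.sup nc)
  have hnk_le : ∀ i, nk i ≤ n := fun i => le_sup_of_le_left (Finset.le_sup (Finset.mem_univ i))
  have hnc_le : ∀ i, nc i ≤ n := fun i => le_sup_of_le_right (Finset.le_sup (Finset.mem_univ i))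
  have hmap : ∀ i (k : ℕ), ∀ z ∈ (m i) ^ k, algebraMap A (Localization.AtPrime (m i)) z ∈
      Ideal.map (algebraMap A (Localization.AtPrime (m i))) (m i) ^ k := by
    intro i k z hz
    rw [← Ideal.map_pow]
    exact Ideal.mem_map_of_mem _ hz
  have hker' : ∀ i, ∀ x : A, algebraMap A (B i) x = 0 → ∀ z ∈ (m i) ^ n,
      algebraMap A (Localization.AtPrime (m i)) (z * x) = 0 := by
    intro i x hx z hz
    rw [map_mul]
    refine hnk i _ ?_ _ (hmap i (nk i) z (Ideal.pow_le_pow_right (hnk_le i) hz))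
    rw [RingHom.mem_ker]
    exact hx
  have hcoker' : ∀ i, ∀ z ∈ (m i) ^ n, ∀ b : B i, ∃ α : Localization.AtPrime (m i),
      algebraMap _ (B i) α = z • b := by
    intro i z hz b
    obtain ⟨α, hα⟩ := hnc i _ (hmap i (nc i) z (Ideal.pow_le_pow_right (hnc_le i) hz)) b
    exact ⟨α, by rw [hα, algebraMap_smul]⟩
  refine ⟨Groth.Agent.Helper29.GlB.C A m B, inferInstance, inferInstance, ?_, ?_, ?_, ?_, ?_⟩
  · intro i
    exact Groth.Agent.Helper29.GlD.nonempty_algEquiv A m B hinj i n (hker' i) (hcoker' i)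
  · refine ⟨n, ?_, ?_⟩
    · intro x hx y hy
      apply Groth.Agent.Helper29.GlD.mul_eq_zero_of_ker A m B y x
      · exact congrArg Subtype.val (RingHom.mem_ker.mp hx)
      · intro j x' hx'
        exact hker' j x' hx' y (Ideal.pow_right_mono (iInf_le m j) n hy)
    · intro y hy c
      have h1 := Groth.Agent.Helper29.GlD.smul_mem_bot A m B hinj n hker' y
        (fun j b => hcoker' j y (Ideal.pow_right_mono (iInf_le m j) n hy) b) c.1 c.2
      rw [Algebra.mem_bot] at h1
      obtain ⟨a, ha⟩ := h1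
      exact ⟨a, Subtype.ext ha⟩
  · intro hfin
    rw [RingHom.finite_algebraMap]
    apply Groth.Agent.Helper29.GlE.finite_C A m B hinj n hker' hcoker'
    intro i
    exact RingHom.finite_algebraMap.mp (hfin i)
  · intro hinjφ
    rw [injective_iff_map_eq_zero]
    intro x hx
    have h0 : algebraMap A (Groth.Agent.Helper29.GlB.P A m B) x = 0 := congrArg Subtype.val hx
    have h1 := Groth.Agent.Helper29.GlD.mul_eq_zero_of_ker A m B 1 x h0 (fun j x' hx' => by
      rw [one_mul]
      exact hinjφ j (by rw [map_zero]; exact hx'))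
    rwa [one_mul] at h1
  · intro hsurj c
    have h1 := Groth.Agent.Helper29.GlD.smul_mem_bot A m B hinj n hker' 1 (fun j b => by
      obtain ⟨α, hα⟩ := hsurj j b
      exact ⟨α, by rw [hα, one_smul]⟩) c.1 c.2
    rw [one_smul, Algebra.mem_bot] at h1
    obtain ⟨a, ha⟩ := h1
    exact ⟨a, Subtype.ext ha⟩


end Groth.Agent.S1837
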